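import Groth.Statements.S14625
import Groth.Agent.Lib.Helper43.MuSheaf

set_option autoImplicit false
open CategoryTheory AlgebraicGeometry
universe u
open EtBase

namespace Groth.Agent.S14625

open Polynomial Groth.Agent.Lib.Helper43.MuConst

/-- a strictly henselian local ring in which `n ≥ 1` is invertible contains a root of the `n`-th
cyclotomic polynomial. -/
theorem exists_isCycRoot (A : Type u) [CommRing A]
    (hA : EtCoh.IsStrictlyHenselianLocalRing A) (n : ℕ) (hn : 1 ≤ n) (hu : IsUnit (n : A)) :
    ∃ ζ : A, IsCycRoot n ζ := by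
  obtain ⟨hH, hsep⟩ := hA
  let k := IsLocalRing.ResidueField A
  have hnk : NeZero (n : k) := by
    constructor
    have := hu.map (IsLocalRing.residue A)
    rw [map_natCast] at this
    exact this.ne_zero
  have hsepc : (cyclotomic n k).Separable := separable_cyclotomic n k
  have hdeg : (cyclotomic n k).degree ≠ 0 := by
    rw [degree_cyclotomic]
    have : 0 < Nat.totient n := Nat.totient_pos.mpr hn
    exact_mod_cast this.ne'
  obtain ⟨x, hx⟩ := IsSepClosed.exists_root (cyclotomic n k) hdeg hsepc
  obtain ⟨a₀, rfl⟩ := IsLocalRing.residue_surjective x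
  have hmap : (cyclotomic n A).map (IsLocalRing.residue A) = cyclotomic n k := map_cyclotomic n _
  have h1 : (cyclotomic n A).eval a₀ ∈ IsLocalRing.maximalIdeal A := by
    rw [← IsLocalRing.residue_eq_zero_iff, ← eval₂_hom, eval₂_eq_eval_map, hmap]
    exact hx
  have h2 : IsUnit ((cyclotomic n A).derivative.eval a₀) := by
    by_contra hnu
    have hmem : (cyclotomic n A).derivative.eval a₀ ∈ IsLocalRing.maximalIdeal A := hnu
    rw [← IsLocalRing.residue_eq_zero_iff, ← eval₂_hom, eval₂_eq_eval_map, ← derivative_map, hmap] at hmem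
    have h3 := hsepc.eval₂_derivative_ne_zero (RingHom.id k) (x := IsLocalRing.residue A a₀)
      (by rw [eval₂_id]; exact hx)
    rw [eval₂_id] at h3
    exact h3 hmem
  obtain ⟨a, ha, -⟩ := hH.is_henselian (cyclotomic n A) (cyclotomic.monic n A) a₀ h1 h2
  refine ⟨a, hn, hu, ?_⟩
  rw [aeval_def, eval₂_eq_eval_map, map_cyclotomic]
  exact ha


/-- Let A be a strictly henselian local ring, n ≥ 1 an integer invertible in A, and X a scheme over Spec
A. Then the étale sheaf μ_n of n-th roots of unity on X is isomorphic to the constant sheaf with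
value ℤ/n. Only the existence of an isomorphism is asserted; it depends on the choice of a primitive
n-th root of unity in A. -/
theorem result (A : Type u) [CommRing A]
    (hA : EtCoh.IsStrictlyHenselianLocalRing A) (n : ℕ) (hn : 1 ≤ n) (hu : IsUnit (n : A))
    (X : Scheme.{u}) (f : X ⟶ Spec (CommRingCat.of A)) :
    Nonempty (EtCoh.mu X n ≅ EtCoh.const X (ZMod n)) := by
  obtain ⟨ζ, hζ⟩ := exists_isCycRoot A hA n hn hu
  let ρ : A →+* Γ(X, ⊤) := (f.appTop).hom.comp (Scheme.ΓSpecIso (CommRingCat.of A)).inv.hom
  exact nonempty_mu_iso_const (S := X) (n := n) (ζ := ρ ζ) (hζ.map ρ)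

end Groth.Agent.S14625
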