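import Groth.Statements.S14627
import Mathlib.AlgebraicGeometry.Morphisms.UniversallyOpen
import Mathlib.AlgebraicGeometry.Morphisms.Etale

set_option autoImplicit false
open CategoryTheory AlgebraicGeometry
universe u
open EtBase

namespace Groth.Agent.S14627

/-- Let S be a quasi-compact scheme and U an étale S-scheme quasi-compact over S. Then every jointly
surjective family of étale U-schemes has a finite subfamily which is still jointly surjective (the
étale site on finitely presented objects over a quasi-compact scheme is Noetherian). -/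
theorem result (S : Scheme.{u}) [CompactSpace ↥S] (U : S.Etale)
    [QuasiCompact U.hom] (ι : Type (u + 1)) (Uf : ι → Over U)
    (hU : ∀ x : ↥(U.left), ∃ (i : ι) (y : ↥((Uf i).left.left)), (Uf i).hom.left.base y = x) :
    ∃ t : Finset ι, ∀ x : ↥(U.left), ∃ i ∈ t, ∃ y : ↥((Uf i).left.left), (Uf i).hom.left.base y = x := by
  have hS : CompactSpace ↥((Functor.fromPUnit S).obj U.right) := ‹CompactSpace ↥S›
  have : CompactSpace ↥(U.left) := QuasiCompact.compactSpace_of_compactSpace U.hom
  have hopen : ∀ i, IsOpen (Set.range ((Uf i).hom.left.base)) := by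
    intro i
    have : Etale (Uf i).hom.left := inferInstance
    exact ((Uf i).hom.left.isOpenMap).isOpen_range
  have hcover : (Set.univ : Set ↥(U.left)) ⊆ ⋃ i, Set.range ((Uf i).hom.left.base) := by
    intro x _
    obtain ⟨i, y, hy⟩ := hU x
    exact Set.mem_iUnion.2 ⟨i, y, hy⟩
  obtain ⟨t, ht⟩ := isCompact_univ.elim_finite_subcover _ hopen hcover
  refine ⟨t, fun x => ?_⟩
  have := ht (Set.mem_univ x)
  simp only [Set.mem_iUnion, Set.mem_range, exists_prop] at this
  obtain ⟨i, hi, y, hy⟩ := this
  exact ⟨i, hi, y, hy⟩

end Groth.Agent.S14627
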