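import Groth.Statements.S14633
import Groth.Agent.Lib.Helper41.OrbitSubscheme
import Groth.Agent.Lib.Helper41.GeomConnGroup

set_option autoImplicit false
universe u
open CategoryTheory MonoidalCategory CartesianMonoidalCategory MonObj GrpObj AlgebraicGeometry CategoryTheory.Limits
open AlgGrp

namespace Groth.Agent.S14633

/-- Over a field k, let G be a smooth connected k-group scheme of finite type and let Z be a reduced
k-scheme of finite type of dimension at most 0 (for Z empty the conclusion is immediate). Then every
action of G on Z is trivial: the action morphism G × Z → Z is the second projection. -/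
theorem result (k : Type u) [Field k]
    (G Z : Over (Spec (CommRingCat.of k))) [GrpObj G] [Smooth G.hom] [QuasiCompact G.hom] [ConnectedSpace ↥G.left]
    [LocallyOfFiniteType Z.hom] [QuasiCompact Z.hom] [IsReduced Z.left] (hdim : topologicalKrullDim ↥Z.left ≤ 0)
    (a : AlgGrp.Action G Z) : a.act = CartesianMonoidalCategory.snd G Z := by
  have hsub : Subsingleton (Spec (CommRingCat.of k)) :=
    inferInstanceAs (Subsingleton (PrimeSpectrum k))
  have hln : IsLocallyNoetherian Z.left := LocallyOfFiniteType.isLocallyNoetherian Z.hom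
  have hart : IsLocallyArtinian Z.left := IsLocallyArtinian.of_topologicalKrullDim_le_zero hdim
  have hdisc : DiscreteTopology Z.left := inferInstance
  have hqf : LocallyQuasiFinite Z.hom := by
    rw [locallyQuasiFinite_iff_isDiscrete_preimage_singleton]
    intro x
    exact ⟨inferInstance⟩
  have hqf2 : LocallyQuasiFinite (Z ⊗ Z).hom := by
    rw [Over.tensorObj_hom]
    infer_instance
  have hartk : IsLocallyArtinian (Spec (CommRingCat.of k)) := by
    rw [Scheme.isLocallyArtinianScheme_Spec]
    infer_instance
  have hart2 : IsLocallyArtinian (Z ⊗ Z).left := IsLocallyArtinian.of_locallyQuasiFinite (Z ⊗ Z).hom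
  have hdisc2 : DiscreteTopology (Z ⊗ Z).left := inferInstance
  -- `G ⊗ Z` is reduced
  have hsm : Smooth (snd G Z).left := by
    rw [Over.snd_left]
    infer_instance
  have hGZred : IsReduced (G ⊗ Z).left :=
    Groth.Agent.Lib.Helper54.isReduced_of_smooth_scheme (snd G Z).left
  -- `G` is geometrically connected
  have hGgc : GeometricallyConnected G.hom :=
    Groth.Agent.Lib.Helper41.GeomConnGroup.geometricallyConnected_hom
  have hsgc : GeometricallyConnected (snd G Z).left := by
    rw [Over.snd_left]
    infer_instance
  let F : G ⊗ Z ⟶ Z ⊗ Z := lift a.act (snd G Z)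
  let Δ : Z ⟶ Z ⊗ Z := lift (𝟙 Z) (𝟙 Z)
  have hΔ : IsImmersion Δ.left := by
    have h : Δ.left = pullback.diagonal Z.hom := by
      apply pullback.hom_ext
      · change (Δ ≫ fst Z Z).left = _
        rw [lift_fst]
        simp
      · change (Δ ≫ snd Z Z).left = _
        rw [lift_snd]
        simp
    rw [h]
    infer_instance
  let s : Z ⟶ G ⊗ Z := lift (1 : Z ⟶ G) (𝟙 Z)
  have hsF : s ≫ F = Δ := by
    apply CartesianMonoidalCategory.hom_ext
    · rw [Category.assoc, lift_fst, lift_fst]
      exact Groth.Agent.Lib.Helper93.ActionOpen.act_one a (𝟙 Z)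
    · rw [Category.assoc, lift_snd, lift_snd, lift_snd]
  have hs2 : s ≫ snd G Z = 𝟙 Z := lift_snd _ _
  have hrange : Set.range F.left ⊆ Set.range Δ.left := by
    rintro _ ⟨w, rfl⟩
    let z := (snd G Z).left.base w
    have hT : _root_.IsConnected ((snd G Z).left ⁻¹' {z}) :=
      (snd G Z).left.isConnected_preimage_singleton z
    have hFT : (F.left.base '' ((snd G Z).left ⁻¹' {z})).Subsingleton :=
      (hT.isPreconnected.image _ F.left.continuous.continuousOn).subsingleton
    have hw : w ∈ (snd G Z).left ⁻¹' {z} := rfl
    have hw0 : s.left.base z ∈ (snd G Z).left ⁻¹' {z} := by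
      change (snd G Z).left.base (s.left.base z) = z
      have : (snd G Z).left.base (s.left.base z) = (s ≫ snd G Z).left.base z := rfl
      rw [this, hs2]
      rfl
    have heq := hFT ⟨w, hw, rfl⟩ ⟨_, hw0, rfl⟩
    refine ⟨z, ?_⟩
    change Δ.left.base z = F.left.base w
    rw [heq, ← hsF]
    rfl
  obtain ⟨g, hg⟩ :=
    Groth.Agent.Lib.Helper41.OrbitSubscheme.exists_lift_of_isReduced_of_range_subset
      F.left Δ.left hrange
  have h1 : a.act.left = g := by
    have : a.act.left = F.left ≫ (fst Z Z).left := by
      rw [← Over.comp_left, lift_fst]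
    rw [this, ← hg, Category.assoc, ← Over.comp_left, lift_fst]
    simp
  have h2 : (snd G Z).left = g := by
    have : (snd G Z).left = F.left ≫ (snd Z Z).left := by
      rw [← Over.comp_left, lift_snd]
    rw [this, ← hg, Category.assoc, ← Over.comp_left, lift_snd]
    simp
  ext1
  rw [h1, h2]

end Groth.Agent.S14633
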