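import Groth.Statements.S14638
import Groth.Agent.Lib.Helper41.OpenOrbit3

set_option autoImplicit false
universe u
open CategoryTheory MonoidalCategory CartesianMonoidalCategory MonObj GrpObj AlgebraicGeometry CategoryTheory.Limits
open AlgGrp

namespace Groth.Agent.S14638

/-- Over a field k, let G be a smooth k-group scheme of finite type acting on a variety X (a separated,
geometrically integral k-scheme of finite type). Then X is almost homogeneous, i.e. the graph
morphism G × X → X × X, (g, x) ↦ (x, g·x), is dominant, if and only if there is a nonempty open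
subscheme U of X which is G-stable (the action restricts to an action on U) and homogeneous (the
graph morphism G × U → U × U is surjective). Moreover there is at most one such open subscheme U
(the open orbit). -/
theorem result (k : Type u) [Field k]
    (G X : Over (Spec (CommRingCat.of k))) [GrpObj G] [Smooth G.hom] [QuasiCompact G.hom]
    [IsSeparated X.hom] [LocallyOfFiniteType X.hom] [QuasiCompact X.hom] [GeometricallyIntegral X.hom]
    (a : AlgGrp.Action G X) :
    (IsDominant (CartesianMonoidalCategory.lift (CartesianMonoidalCategory.snd G X) a.act).left ↔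
      ∃ U : X.left.Opens, (U : Set ↥X.left).Nonempty ∧
        ∃ b : AlgGrp.Action G (Over.mk (U.ι ≫ X.hom)),
          (G ◁ (Over.homMk U.ι rfl : Over.mk (U.ι ≫ X.hom) ⟶ X)) ≫ a.act = b.act ≫ Over.homMk U.ι rfl ∧
          Surjective (CartesianMonoidalCategory.lift (CartesianMonoidalCategory.snd G (Over.mk (U.ι ≫ X.hom))) b.act).left) ∧
    ∀ U U' : X.left.Opens,
      ((U : Set ↥X.left).Nonempty ∧ ∃ b : AlgGrp.Action G (Over.mk (U.ι ≫ X.hom)),
          (G ◁ (Over.homMk U.ι rfl : Over.mk (U.ι ≫ X.hom) ⟶ X)) ≫ a.act = b.act ≫ Over.homMk U.ι rfl ∧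
          Surjective (CartesianMonoidalCategory.lift (CartesianMonoidalCategory.snd G (Over.mk (U.ι ≫ X.hom))) b.act).left) →
      ((U' : Set ↥X.left).Nonempty ∧ ∃ b' : AlgGrp.Action G (Over.mk (U'.ι ≫ X.hom)),
          (G ◁ (Over.homMk U'.ι rfl : Over.mk (U'.ι ≫ X.hom) ⟶ X)) ≫ a.act = b'.act ≫ Over.homMk U'.ι rfl ∧
          Surjective (CartesianMonoidalCategory.lift (CartesianMonoidalCategory.snd G (Over.mk (U'.ι ≫ X.hom))) b'.act).left) →
      U = U' := by
  classical
  open Groth.Agent.Lib.Helper41.OpenOrbit in
  refine ⟨⟨fun hdom => exists_homogeneous_open k a hdom, ?_⟩, ?_⟩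
  · rintro ⟨U, hne, b, hb, hsurj⟩
    exact Groth.Agent.Lib.Helper41.OpenOrbit.isDominant_graph_of_open a U hne b hb hsurj
  · rintro U U' ⟨hne, b, hb, hsurj⟩ ⟨hne', b', hb', hsurj'⟩
    have hsub : Subsingleton (Spec (CommRingCat.of k)) :=
      inferInstanceAs (Subsingleton (PrimeSpectrum k))
    have hXi : IsIntegral X.left := GeometricallyIntegral.isIntegral_of_subsingleton X.hom
    have hst := Groth.Agent.Lib.Helper41.OpenOrbit.stable_of_action a U b hb
    have hst' := Groth.Agent.Lib.Helper41.OpenOrbit.stable_of_action a U' b' hb'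
    have hmeet : ((U : Set X.left) ∩ U').Nonempty :=
      nonempty_preirreducible_inter U.2 U'.2 hne hne'
    have hmeet' : ((U' : Set X.left) ∩ U).Nonempty := by
      rw [Set.inter_comm]
      exact hmeet
    exact le_antisymm
      (Groth.Agent.Lib.Helper41.OpenOrbit.le_of_homogeneous_of_stable a U U' b hb hsurj hst' hmeet)
      (Groth.Agent.Lib.Helper41.OpenOrbit.le_of_homogeneous_of_stable a U' U b' hb' hsurj' hst hmeet')

end Groth.Agent.S14638
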