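import Groth.Statements.S1464
import Groth.Agent.Lib.Helper13.FibreDimDescent
import Groth.Agent.Lib.Helper13.GenFibreDim

set_option autoImplicit false
universe u
open FlatMor

namespace Groth.Agent.S1464

open AlgebraicGeometry CategoryTheory Limits TensorProduct in
/-- the ring of sections computation: all fibre rings of an affine morphism with fibres of dimension
`d` have Krull dimension `d`. -/
theorem ringKrullDim_fiber_eq_of_affine {X S : Scheme.{u}} (f : X ⟶ S) [IsAffine X] [IsAffine S]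
    (d : WithBot ℕ∞) (hd : ∀ s : S, topologicalKrullDim ↑(f.fiber s) = d)
    (p : PrimeSpectrum Γ(S, ⊤)) :
    letI : Algebra Γ(S, ⊤) Γ(X, ⊤) := (f.appLE ⊤ ⊤ le_top).hom.toAlgebra
    ringKrullDim (p.asIdeal.ResidueField ⊗[Γ(S, ⊤)] Γ(X, ⊤)) = d := by
  letI : Algebra Γ(S, ⊤) Γ(X, ⊤) := (f.appLE ⊤ ⊤ le_top).hom.toAlgebra
  have hW := isAffineOpen_top S
  have hU := isAffineOpen_top X
  have h1 := Groth.Agent.Lib.Helper13.GenFibreDim.topologicalKrullDim_fiber_eq_iSup f hW p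
    (fun _ : Unit => (⊤ : X.Opens)) (fun _ => hU) (fun _ => le_top)
    (fun x _ => Set.mem_iUnion.mpr ⟨(), trivial⟩)
  rw [iSup_const, hd] at h1
  rw [h1]
  exact (Groth.Agent.Lib.Helper13.GenFibreDim.topologicalKrullDim_chart_eq f (U := ⊤) le_top p).symm

open AlgebraicGeometry CategoryTheory Limits TensorProduct in
/-- Let f : X → S be a morphism of finite presentation between affine schemes all of whose fibres have
dimension d. Then f is the base change of a morphism of finite type f₀ : X₀ → S₀ between affine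
schemes with S₀ of finite type over ℤ, where f₀ can be chosen with the same property. -/
theorem result {X S : Scheme.{u}} (f : X ⟶ S) [IsAffine X] [IsAffine S] [LocallyOfFinitePresentation f] (d : ℕ) (hd : ∀ s : S, topologicalKrullDim ↑(f.fiber s) = d) :
    ∃ (X₀ S₀ : Scheme.{u}) (f₀ : X₀ ⟶ S₀) (g : S ⟶ S₀) (g' : X ⟶ X₀), IsAffine X₀ ∧ IsAffine S₀ ∧ IsPullback g' f f₀ g ∧
      Algebra.FiniteType ℤ Γ(S₀, ⊤) ∧ LocallyOfFiniteType f₀ ∧ ∀ s₀ : S₀, topologicalKrullDim ↑(f₀.fiber s₀) = d := by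
  classical
  letI : Algebra Γ(S, ⊤) Γ(X, ⊤) := (f.appLE ⊤ ⊤ le_top).hom.toAlgebra
  haveI : Algebra.FinitePresentation Γ(S, ⊤) Γ(X, ⊤) :=
    f.finitePresentation_appLE (isAffineOpen_top S) (isAffineOpen_top X) le_top
  obtain ⟨A₁, _, _, B₁, _, _, hft, hfp, ⟨ε⟩, hδ⟩ :=
    Groth.Agent.Lib.Helper13.FibreDimDescent.exists_model_forall_ringKrullDim_eq
      (A := Γ(S, ⊤)) (B := Γ(X, ⊤)) (d : WithBot ℕ∞)
      (ringKrullDim_fiber_eq_of_affine f d hd)
  let β : B₁ →+* Γ(X, ⊤) :=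
    (ε.toAlgHom.toRingHom).comp (Algebra.TensorProduct.includeRight :
      B₁ →ₐ[A₁] Γ(S, ⊤) ⊗[A₁] B₁).toRingHom
  refine ⟨Spec (.of B₁), Spec (.of A₁), Spec.map (CommRingCat.ofHom (algebraMap A₁ B₁)),
    S.isoSpec.hom ≫ Spec.map (CommRingCat.ofHom (algebraMap A₁ Γ(S, ⊤))),
    X.isoSpec.hom ≫ Spec.map (CommRingCat.ofHom β), inferInstance, inferInstance, ?_, ?_, ?_, ?_⟩
  · -- the pullback square
    have hpush : IsPushout (CommRingCat.ofHom (algebraMap A₁ Γ(S, ⊤)))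
        (CommRingCat.ofHom (algebraMap A₁ B₁))
        (CommRingCat.ofHom (algebraMap Γ(S, ⊤) Γ(X, ⊤))) (CommRingCat.ofHom β) := by
      refine (CommRingCat.isPushout_tensorProduct A₁ Γ(S, ⊤) B₁).of_iso (Iso.refl _) (Iso.refl _)
        (Iso.refl _) ε.toRingEquiv.toCommRingCatIso (by simp) (by simp) ?_ ?_
      · ext x
        show ε (x ⊗ₜ[A₁] (1 : B₁)) = algebraMap Γ(S, ⊤) Γ(X, ⊤) x
        have hx1 : (x ⊗ₜ[A₁] (1 : B₁) : Γ(S, ⊤) ⊗[A₁] B₁) = x • (1 : Γ(S, ⊤) ⊗[A₁] B₁) := by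
          rw [Algebra.TensorProduct.one_def, TensorProduct.smul_tmul', smul_eq_mul, mul_one]
        rw [hx1, map_smul, map_one, Algebra.smul_def, mul_one]
      · ext x
        rfl
    have hpb := (isPullback_SpecMap_of_isPushout _ _ _ _ hpush).flip
    have hφ : (CommRingCat.ofHom (algebraMap Γ(S, ⊤) Γ(X, ⊤))) = f.appTop := by
      ext x
      show (f.appLE ⊤ ⊤ le_top).hom x = f.appTop.hom x
      simp [Scheme.Hom.appLE, Scheme.Hom.appTop]
    refine IsPullback.of_iso hpb X.isoSpec.symm (Iso.refl _) S.isoSpec.symm (Iso.refl _)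
      ?_ ?_ ?_ ?_
    · simp
    · rw [hφ, Iso.symm_hom, Iso.symm_hom, Iso.comp_inv_eq, Category.assoc,
        ← Scheme.isoSpec_hom_naturality, Iso.inv_hom_id_assoc]
    · simp
    · simp
  · exact hft.equiv (Scheme.ΓSpecIso (.of A₁)).symm.commRingCatIsoToRingEquiv.toIntAlgEquiv
  · rw [HasRingHomProperty.Spec_iff (P := @LocallyOfFiniteType)]
    exact RingHom.finiteType_algebraMap.mpr (Algebra.FiniteType.of_finitePresentation)
  · intro s₀
    rw [← hδ s₀, ← PrimeSpectrum.topologicalKrullDim_eq_ringKrullDim]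
    exact IsHomeomorph.topologicalKrullDim_eq _
      (Scheme.homeoOfIso (Groth.Agent.Lib.Helper13.GenFibre.specFiberIso A₁ B₁ s₀)).isHomeomorph

end Groth.Agent.S1464
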