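import Groth.Statements.S14641
import Groth.Agent.Lib.Helper26.KerAction
import Mathlib.CategoryTheory.Limits.Constructions.Over.Connected

set_option autoImplicit false
universe u
open CategoryTheory MonoidalCategory CartesianMonoidalCategory MonObj GrpObj AlgebraicGeometry CategoryTheory.Limits
open AlgGrp

namespace Groth.Agent.S14641

/-- Over a field k, let G be a k-group scheme of finite type, i : H → G a closed subgroup scheme, and
(Q, o) the quotient G/H: a k-scheme with a G-action and a rational point o exhibiting it as the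
quotient (orbit map flat and surjective, G × H ≅ G ×_Q G). Let n : N → G be a closed subgroup scheme
which is the kernel of the action of G on Q, i.e. for every k-scheme T, a T-point g of G factors
through N exactly when g acts as the identity on Q_T (on all points of Q over T-schemes). Then N is
normal in G and contained in H, and N is the largest such subgroup: every closed subgroup scheme N'
of G which is normal in G and factors through H factors through N. -/
theorem result (k : Type u) [Field k]
    (G H Q N : Over (Spec (CommRingCat.of k))) [GrpObj G] [LocallyOfFiniteType G.hom] [QuasiCompact G.hom]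
    [GrpObj H] (i : H ⟶ G) [IsMonHom i] [IsClosedImmersion i.left]
    (a : AlgGrp.Action G Q) (o : 𝟙_ (Over (Spec (CommRingCat.of k))) ⟶ Q) (hQ : AGF.IsQuotient i Q a o)
    [GrpObj N] (n : N ⟶ G) [IsMonHom n] [IsClosedImmersion n.left]
    (hN : ∀ (T : Over (Spec (CommRingCat.of k))) (g : T ⟶ G),
      (∃ m : T ⟶ N, m ≫ n = g) ↔
        ∀ (T' : Over (Spec (CommRingCat.of k))) (s : T' ⟶ T) (x : T' ⟶ Q),
          CartesianMonoidalCategory.lift (s ≫ g) x ≫ a.act = x) :
    AlgGrp.IsNormalHom n ∧ (∃ f : N ⟶ H, f ≫ i = n) ∧
      ∀ (N' : Over (Spec (CommRingCat.of k))) [GrpObj N'] (n' : N' ⟶ G) [IsMonHom n'] [IsClosedImmersion n'.left],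
        AlgGrp.IsNormalHom n' → (∃ f : N' ⟶ H, f ≫ i = n') → ∃ f' : N' ⟶ N, f' ≫ n = n' := by
  obtain ⟨_, hfl, hsurj, hPB⟩ := hQ
  have hcov : ∀ (T' : Over (Spec (CommRingCat.of k))) (x : T' ⟶ Q),
      ∃ (T'' : Over (Spec (CommRingCat.of k))) (p : T'' ⟶ T') (y : T'' ⟶ G),
        Epi p ∧ y ≫ Groth.Agent.Lib.Helper26.KerAction.orb a.act o = p ≫ x := by
    intro T' x
    refine ⟨pullback x (a.orbitMap o), pullback.fst _ _, pullback.snd _ _, ?_,
      pullback.condition.symm⟩
    have sq := (IsPullback.of_hasPullback x (a.orbitMap o)).map (Over.forget _)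
    have h1 : Flat (pullback.fst x (a.orbitMap o)).left :=
      MorphismProperty.of_isPullback (P := @Flat) sq.flip hfl
    have h2 : Surjective (pullback.fst x (a.orbitMap o)).left :=
      MorphismProperty.of_isPullback (P := @Surjective) sq.flip hsurj
    have : Epi (pullback.fst x (a.orbitMap o)).left := Flat.epi_of_flat_of_surjective _
    exact Over.epi_of_epi_left _
  refine ⟨?_, ?_, ?_⟩
  · intro T g m
    exact Groth.Agent.Lib.Helper26.KerAction.normal n a.act a.mul_act a.one_act hN T g m
  · exact Groth.Agent.Lib.Helper26.KerAction.le_stab i n a.act a.one_act o hN hPB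
  · intro N' _ n' _ _ hn' ⟨f, hf⟩
    exact Groth.Agent.Lib.Helper26.KerAction.largest i n a.act a.mul_act a.one_act o hN hPB n'
      hn' hcov f hf

end Groth.Agent.S14641
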