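import Groth.Statements.S14645
import Groth.Agent.Lib.Helper41.HomFlat
import Groth.Agent.Lib.Helper41.ConstrDense

set_option autoImplicit false
universe u
open CategoryTheory MonoidalCategory CartesianMonoidalCategory MonObj GrpObj AlgebraicGeometry CategoryTheory.Limits
open AlgGrp

namespace Groth.Agent.S14645

/-- Over a field k with algebraic closure K, let G be a smooth k-group scheme of finite type acting on a
variety X (a separated, geometrically integral k-scheme of finite type). Then X is homogeneous under
G, i.e. the graph morphism G × X → X × X, (g, x) ↦ (x, g·x), is surjective, if and only if the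
abstract group G(K) of K-points over k acts transitively on the set X(K): for all K-points x, y of X
there is a K-point g of G with g · x = y. -/
theorem result (k : Type u) [Field k]
    (G X : Over (Spec (CommRingCat.of k))) [GrpObj G] [Smooth G.hom] [QuasiCompact G.hom]
    [IsSeparated X.hom] [LocallyOfFiniteType X.hom] [QuasiCompact X.hom] [GeometricallyIntegral X.hom] (a : AlgGrp.Action G X)
    (K : Type u) [Field K] [Algebra k K] [IsAlgClosure k K] :
    Surjective (CartesianMonoidalCategory.lift (CartesianMonoidalCategory.snd G X) a.act).left ↔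
      ∀ x y : Over.mk (Spec.map (CommRingCat.ofHom (algebraMap k K))) ⟶ X, ∃ g : Over.mk (Spec.map (CommRingCat.ofHom (algebraMap k K))) ⟶ G, CartesianMonoidalCategory.lift g x ≫ a.act = y := by
  classical
  have hKac : IsAlgClosed K := IsAlgClosure.isAlgClosed k
  have hsub : Subsingleton (Spec (CommRingCat.of k)) :=
    inferInstanceAs (Subsingleton (PrimeSpectrum k))
  have hGlft : LocallyOfFiniteType G.hom := inferInstance
  set Γ : G ⊗ X ⟶ X ⊗ X := lift (snd G X) a.act with hΓ
  -- finiteness bookkeeping
  have hPlft : LocallyOfFiniteType (G ⊗ X).hom := by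
    rw [Over.tensorObj_hom]
    infer_instance
  have hPqc : QuasiCompact (G ⊗ X).hom := by
    rw [Over.tensorObj_hom]
    infer_instance
  have hQlft : LocallyOfFiniteType (X ⊗ X).hom := by
    rw [Over.tensorObj_hom]
    infer_instance
  have hQqc : QuasiCompact (X ⊗ X).hom := by
    rw [Over.tensorObj_hom]
    infer_instance
  have hΓlft : LocallyOfFiniteType Γ.left := by
    have : LocallyOfFiniteType (Γ.left ≫ (X ⊗ X).hom) := by
      rw [Over.w Γ]
      infer_instance
    exact locallyOfFiniteType_of_comp Γ.left (X ⊗ X).hom
  constructor
  · intro hsurj x y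
    obtain ⟨p, hp⟩ := Groth.Agent.Lib.Helper41.HomFlat.exists_kpoint_lift_of_surjective k K Γ
      (lift x y)
    refine ⟨p ≫ fst G X, ?_⟩
    have h1 : p ≫ snd G X = x := by
      have := congrArg (fun t => t ≫ fst X X) hp
      simpa [hΓ] using this
    have h2 : p ≫ a.act = y := by
      have := congrArg (fun t => t ≫ snd X X) hp
      simpa [hΓ] using this
    rw [← h1, ← h2, ← comp_lift, lift_fst_snd, Category.comp_id]
  · intro htr
    have hQnoeth : IsLocallyNoetherian (X ⊗ X).left :=
      LocallyOfFiniteType.isLocallyNoetherian (X ⊗ X).hom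
    have hQc : CompactSpace (X ⊗ X).left := QuasiCompact.compactSpace_of_compactSpace (X ⊗ X).hom
    have hQn : IsNoetherian (X ⊗ X).left := {}
    have hNS : TopologicalSpace.NoetherianSpace (X ⊗ X).left := inferInstance
    have hPc : CompactSpace (G ⊗ X).left := QuasiCompact.compactSpace_of_compactSpace (G ⊗ X).hom
    have hΓlfp : LocallyOfFinitePresentation Γ.left := inferInstance
    have hΓqc : QuasiCompact Γ.left := inferInstance
    have hcons : Topology.IsConstructible (Set.range Γ.left.base) := by
      rw [← Set.image_univ]
      exact Γ.left.isConstructible_image Topology.IsConstructible.univ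
    constructor
    by_contra hns
    have hne : ((Set.range Γ.left.base)ᶜ).Nonempty := by
      rw [Set.nonempty_compl]
      intro h
      apply hns
      intro q
      have : q ∈ Set.range Γ.left.base := by
        rw [h]
        trivial
      exact this
    obtain ⟨W, hW, hWne, hWsub⟩ :=
      Groth.Agent.Lib.Helper41.ConstrDense.exists_open_inter_closure_subset hcons.compl hne
    obtain ⟨t, ht⟩ := Groth.Agent.Lib.Helper41.TransitiveFlat.exists_kpoint_mem (k := k) (K := K)
      (X ⊗ X) _ hWne (hW.isLocallyClosed.inter isClosed_closure.isLocallyClosed)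
    obtain ⟨g, hg⟩ := htr (t ≫ fst X X) (t ≫ snd X X)
    have hpt : lift g (t ≫ fst X X) ≫ Γ = t := by
      apply CartesianMonoidalCategory.hom_ext
      · rw [Category.assoc, hΓ, lift_fst, lift_snd]
      · rw [Category.assoc, hΓ, lift_snd, hg]
    have hmem := hWsub (ht (IsLocalRing.closedPoint K))
    apply hmem
    refine ⟨(lift g (t ≫ fst X X)).left.base (IsLocalRing.closedPoint K), ?_⟩
    have h3 : t.left.base (IsLocalRing.closedPoint K) =
        (lift g (t ≫ fst X X) ≫ Γ).left.base (IsLocalRing.closedPoint K) := by
      rw [hpt]
    rw [h3]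
    rfl

end Groth.Agent.S14645
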