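import Groth.Statements.S1465
import Groth.Agent.Lib.Helper58.PinchQF
import Groth.Agent.Lib.Helper58.PinchSepQF

set_option autoImplicit false
universe u
open FlatMor

namespace Groth.Agent.S1465

open AlgebraicGeometry CategoryTheory Limits in
/-- Let i : Z → X be a closed immersion and j : Z → Y an integral morphism such that each fibre of j
lies in the preimage of an affine open of X. Let i' : Z' → X', j' : Z' → Y' and f : X' → X, g : Y' →
Y, h : Z' → Z form cartesian squares over i and j, with f, g, h separated and locally quasi-finite.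
Then the pushouts W of (i, j) and W' of (i', j') exist in the category of schemes, the induced W' →
W is separated and locally quasi-finite, and the squares comparing Y' → W', X' → W' with Y → W, X →
W are cartesian. -/
theorem result {X Y Z X' Y' Z' : Scheme.{u}}
    (i : Z ⟶ X) [IsClosedImmersion i] (j : Z ⟶ Y) [IsIntegralHom j]
    (h3 : ∀ y : Y, ∃ U : X.Opens, IsAffineOpen U ∧ j ⁻¹' {y} ⊆ (i ⁻¹ᵁ U : Set ↑Z))
    (i' : Z' ⟶ X') (j' : Z' ⟶ Y') (f : X' ⟶ X) (g : Y' ⟶ Y) (h : Z' ⟶ Z)
    (hX : IsPullback h i' i f) (hY : IsPullback h j' j g)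
    [IsSeparated f] [LocallyQuasiFinite f] [LocallyOfFiniteType f] [IsSeparated g] [LocallyQuasiFinite g] [LocallyOfFiniteType g]
    [IsSeparated h] [LocallyQuasiFinite h] [LocallyOfFiniteType h] :
    ∃ (W W' : Scheme.{u}) (a : Y ⟶ W) (b : X ⟶ W) (a' : Y' ⟶ W') (b' : X' ⟶ W') (k : W' ⟶ W),
      IsPushout j i a b ∧ IsPushout j' i' a' b' ∧ a' ≫ k = g ≫ a ∧ b' ≫ k = f ≫ b ∧
      IsSeparated k ∧ LocallyQuasiFinite k ∧ LocallyOfFiniteType k ∧ IsPullback g a' a k ∧ IsPullback f b' b k := by
  open Groth.Agent.Lib.Helper58.Pinch in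
  haveI : Enough j i := enough_of_integral j i (fun y => by
    obtain ⟨U, hU, hsub⟩ := h3 y
    exact ⟨U, hU, hsub⟩)
  haveI : IsIntegralHom j' := MorphismProperty.of_isPullback hY inferInstance
  haveI : IsClosedImmersion i' := MorphismProperty.of_isPullback hX inferInstance
  haveI : Enough j' i' := enough_of_integral j' i'
    (exists_affine_of_lqf j i j' i' g f h hY.w.symm hX.w.symm)
  have w : j' ≫ g ≫ a j i = i' ≫ f ≫ b j i := by
    rw [← Category.assoc, ← hY.w, ← Category.assoc i' f, ← hX.w, Category.assoc, Category.assoc,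
      comm]
  let k : P j' i' ⟶ P j i := (isPushout j' i').desc (g ≫ a j i) (f ≫ b j i) w
  have ha : a j' i' ≫ k = g ≫ a j i := (isPushout j' i').inl_desc _ _ _
  have hb : b j' i' ≫ k = f ≫ b j i := (isPushout j' i').inr_desc _ _ _
  haveI : LocallyOfFiniteType k :=
    (props_iff j i j' i' g f h hY.flip hX.flip k ha hb).1.2 ⟨inferInstance, inferInstance⟩
  exact ⟨P j i, P j' i', a j i, b j i, a j' i', b j' i', k, isPushout j i, isPushout j' i', ha, hb,
    isSeparated_of_isSeparated j i j' i' g f h hY.flip hX.flip k ha hb,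
    locallyQuasiFinite_of_locallyQuasiFinite j i j' i' g f h hY.flip hX.flip k ha hb,
    inferInstance,
    (isPullback_a' j i j' i' g f h hY.flip hX.flip k ha hb).flip,
    (isPullback_b' j i j' i' g f h hY.flip hX.flip k ha hb).flip⟩

end Groth.Agent.S1465
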