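import Groth.Statements.S14654
-- import your own Groth.Agent.* helpers here

set_option autoImplicit false
universe u
open FiltBl

namespace Groth.Agent.S14654

open AlgebraicGeometry HomogeneousLocalization

section alg

variable {A : Type u} [CommRing A] (𝒜 : ℕ → AddSubgroup A) [GradedRing 𝒜]

/-- Key lemma: an element `β` of `A_p` (a domain) with `β * c = b` for degree-zero fractions
`b, c ≠ 0` is itself a degree-zero fraction. -/
lemma exists_val_eq (p : Ideal A) [p.IsPrime] [IsDomain (Localization.AtPrime p)]
    (b c : HomogeneousLocalization.AtPrime 𝒜 p) (hc : c ≠ 0) (β : Localization.AtPrime p)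
    (h : β * c.val = b.val) : ∃ β₀ : HomogeneousLocalization.AtPrime 𝒜 p, β₀.val = β := by
  classical
  obtain ⟨a, s, rfl⟩ := IsLocalization.exists_mk'_eq p.primeCompl β
  have hcv : c.val ≠ 0 := by
    intro h0
    apply hc
    apply HomogeneousLocalization.val_injective
    rw [h0, HomogeneousLocalization.val_zero]
  have h0 := h
  rw [c.eq_num_div_den, b.eq_num_div_den, Localization.mk_eq_mk',
    ← IsLocalization.mk'_mul, IsLocalization.eq] at h
  obtain ⟨t, ht⟩ := h
  set u : A := t * a with hu
  set w : A := t * s with hw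
  have hwp : w ∉ p := by
    intro hmem
    rcases Ideal.IsPrime.mem_or_mem inferInstance hmem with h1 | h1
    · exact t.2 h1
    · exact s.2 h1
  set d : ℕ := c.deg + b.deg with hd
  have hm : c.num * b.den ∈ 𝒜 d := SetLike.mul_mem_graded c.num_mem_deg b.den_mem_deg
  have hm' : b.num * c.den ∈ 𝒜 d := by
    rw [hd, add_comm]
    exact SetLike.mul_mem_graded b.num_mem_deg c.den_mem_deg
  have heq : u * (c.num * b.den) = w * (b.num * c.den) := by
    simp only [Submonoid.coe_mul] at ht
    rw [hu, hw]
    linear_combination ht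
  have hcomp : ∀ i : ℕ, (DirectSum.decompose 𝒜 u i : A) * (c.num * b.den) =
      (DirectSum.decompose 𝒜 w i : A) * (b.num * c.den) := by
    intro i
    rw [← DirectSum.coe_decompose_mul_add_of_right_mem 𝒜 hm,
      ← DirectSum.coe_decompose_mul_add_of_right_mem 𝒜 hm', heq]
  obtain ⟨i, hi⟩ : ∃ i : ℕ, (DirectSum.decompose 𝒜 w i : A) ∉ p := by
    by_contra hall
    push Not at hall
    apply hwp
    rw [← DirectSum.sum_support_decompose 𝒜 w]
    exact Ideal.sum_mem _ (fun i _ => hall i)
  refine ⟨HomogeneousLocalization.mk ⟨i, DirectSum.decompose 𝒜 u i, DirectSum.decompose 𝒜 w i, hi⟩, ?_⟩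
  rw [HomogeneousLocalization.val_mk]
  apply mul_right_cancel₀ hcv
  rw [h0, c.eq_num_div_den, b.eq_num_div_den, Localization.mk_mul, Localization.mk_eq_mk_iff,
    Localization.r_iff_exists]
  refine ⟨1, ?_⟩
  have := hcomp i
  simp only [Submonoid.coe_mul, OneMemClass.coe_one, one_mul]
  linear_combination this

/-- The degree-zero homogeneous localization at a prime is a domain if `A_p` is. -/
lemma isDomain_atPrime (p : Ideal A) [p.IsPrime] [IsDomain (Localization.AtPrime p)] :
    IsDomain (HomogeneousLocalization.AtPrime 𝒜 p) :=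
  Function.Injective.isDomain (algebraMap (HomogeneousLocalization.AtPrime 𝒜 p)
    (Localization.AtPrime p)) (HomogeneousLocalization.val_injective _)

/-- The degree-zero homogeneous localization at a prime is integrally closed if `A_p` is an
integrally closed domain. -/
lemma isIntegrallyClosed_atPrime (p : Ideal A) [p.IsPrime] [IsDomain (Localization.AtPrime p)]
    [IsIntegrallyClosed (Localization.AtPrime p)] :
    IsIntegrallyClosed (HomogeneousLocalization.AtPrime 𝒜 p) := by
  have := isDomain_atPrime 𝒜 p
  set B₀ := HomogeneousLocalization.AtPrime 𝒜 p with hB₀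
  set B := Localization.AtPrime p with hB
  set K := FractionRing B₀ with hK
  set L := FractionRing B with hL
  have hinj : Function.Injective ((algebraMap B L).comp (algebraMap B₀ B)) :=
    (IsFractionRing.injective B L).comp (HomogeneousLocalization.val_injective _)
  let φ : K →+* L := IsFractionRing.lift (A := B₀) (K := K) (g := (algebraMap B L).comp (algebraMap B₀ B)) hinj
  have hφ : ∀ y : B₀, φ (algebraMap B₀ K y) = algebraMap B L (algebraMap B₀ B y) := fun y =>
    IsFractionRing.lift_algebraMap hinj y
  rw [isIntegrallyClosed_iff K]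
  intro x hx
  have hx' : IsIntegral B (φ x) := by
    refine IsIntegral.map_of_comp_eq (algebraMap B₀ B) φ ?_ hx
    ext y
    exact (hφ y).symm
  obtain ⟨β, hβ⟩ := (isIntegrallyClosed_iff L).mp inferInstance hx'
  obtain ⟨b, c, hc, rfl⟩ := IsFractionRing.div_surjective (A := B₀) x
  have hc0 : c ≠ 0 := nonZeroDivisors.ne_zero hc
  have hcK : algebraMap B₀ K c ≠ 0 := by
    rwa [Ne, IsFractionRing.to_map_eq_zero_iff]
  have hcL : algebraMap B L (algebraMap B₀ B c) ≠ 0 := by
    rw [← hφ]
    rwa [Ne, map_eq_zero]
  have hmul : β * (algebraMap B₀ B c) = algebraMap B₀ B b := by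
    apply IsFractionRing.injective B L
    rw [map_mul, hβ, map_div₀, hφ, hφ, div_mul_cancel₀ _ hcL]
  obtain ⟨β₀, hβ₀⟩ := exists_val_eq 𝒜 p b c hc0 β hmul
  refine ⟨β₀, ?_⟩
  have h1 : β₀ * c = b := by
    apply HomogeneousLocalization.val_injective
    rw [HomogeneousLocalization.val_mul, hβ₀]
    exact hmul
  rw [eq_div_iff hcK, ← map_mul, h1]

end alg

open AlgebraicGeometry in
/-- Let A be a Noetherian ℕ-graded commutative ring which is normal, i.e. every localization of A at a
prime ideal is an integrally closed domain. Then the scheme Proj A is normal: every local ring of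
Proj A is an integrally closed domain. -/
theorem result (A : Type u) [CommRing A] [IsNoetherianRing A]
    (𝒜 : ℕ → AddSubgroup A) [GradedRing 𝒜]
    (hA : ∀ (p : Ideal A) [p.IsPrime], IsDomain (Localization.AtPrime p) ∧
      IsIntegrallyClosed (Localization.AtPrime p))
    (x : Proj 𝒜) :
    IsDomain ((Proj 𝒜).presheaf.stalk x) ∧ IsIntegrallyClosed ((Proj 𝒜).presheaf.stalk x) := by
  let p : Ideal A := (x : ProjectiveSpectrum 𝒜).asHomogeneousIdeal.toIdeal
  have : p.IsPrime := (x : ProjectiveSpectrum 𝒜).isPrime
  have : IsDomain (Localization.AtPrime p) := (hA p).1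
  have : IsIntegrallyClosed (Localization.AtPrime p) := (hA p).2
  have h1 := isDomain_atPrime 𝒜 p
  have h2 := isIntegrallyClosed_atPrime 𝒜 p
  let e : (Proj 𝒜).presheaf.stalk x ≃+* HomogeneousLocalization.AtPrime 𝒜 p := Proj.stalkIso' 𝒜 x
  have : IsDomain ((Proj 𝒜).presheaf.stalk x) := e.toMulEquiv.isDomain _
  exact ⟨inferInstance, IsIntegrallyClosed.of_equiv e.symm⟩


end Groth.Agent.S14654
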