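import Groth.Statements.S14666
import Groth.Agent.Lib.Helper75.Collapse
-- import your own Groth.Agent.* helpers here

set_option autoImplicit false
universe u
open CategoryTheory CategoryTheory.Limits AlgebraicGeometry
open AbSch

namespace Groth.Agent.S14666

open Groth.Agent.Lib.Helper75.Collapse Limits

/-- Let S be a locally Noetherian scheme, ξ : X ⟶ S a proper morphism all of whose geometric fibres are
integral and for which O_S ⟶ ξ_*O_X is an isomorphism (the map Γ(U, O_S) → Γ(ξ⁻¹U, O_X) is bijective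
for every open U of S), v : Y ⟶ S an arbitrary S-scheme and f : X ⟶ Y a morphism over S. Let U be
the set of points s of S such that f sends every point of the fibre ξ⁻¹(s) to one and the same point
of Y. Then U is open in S, and for every morphism τ : T ⟶ S the base change of f to T factors
through the projection X ×_S T ⟶ T — that is, there is r : T ⟶ Y with r ≫ v = τ and fst ≫ f = snd ≫
r on X ×_S T — if and only if τ maps every point of T into U. -/
theorem result {X Y S : Scheme.{u}} [IsLocallyNoetherian S]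
    (ξ : X ⟶ S) [IsProper ξ] [GeometricallyIntegral ξ]
    (h0 : ∀ U : S.Opens, Function.Bijective (ξ.app U).hom)
    (v : Y ⟶ S) (f : X ⟶ Y) (hf : f ≫ v = ξ) :
    IsOpen {s : ↥S | ∃ y : ↥Y, ∀ x : ↥X, ξ.base x = s → f.base x = y} ∧
    ∀ (T : Scheme.{u}) (τ : T ⟶ S),
      ((∃ r : T ⟶ Y, r ≫ v = τ ∧ pullback.fst ξ τ ≫ f = pullback.snd ξ τ ≫ r) ↔
        ∀ t : ↥T, τ.base t ∈ {s : ↥S | ∃ y : ↥Y, ∀ x : ↥X, ξ.base x = s → f.base x = y}) := by
  have h0i : ∀ U : S.Opens, Function.Injective (ξ.app U).hom := fun U => (h0 U).1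
  have hsurj : Surjective ξ := inferInstance
  refine ⟨?_, ?_⟩
  · rw [isOpen_iff_forall_mem_open]
    rintro s ⟨y, hy⟩
    obtain ⟨S', hsS', r, hr⟩ := exists_fact ξ f h0 s y hy
    refine ⟨S', ?_, S'.isOpen, hsS'⟩
    intro s' hs'
    exact fact_subset ξ f S' r hr s' hs'
  · intro T τ
    constructor
    · rintro ⟨r, -, hr⟩ t
      refine ⟨r t, fun x hx => ?_⟩
      obtain ⟨p, hp1, hp2⟩ := Scheme.Pullback.exists_preimage_pullback x t hx
      have := congr($hr p)
      rw [Scheme.Hom.comp_apply, Scheme.Hom.comp_apply, hp1, hp2] at this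
      exact this
    · intro hτ
      choose S' hS' r hr using fun t : T => exists_fact ξ f h0 (τ t) (hτ t).choose (hτ t).choose_spec
      let W : T → T.Opens := fun t => τ ⁻¹ᵁ S' t
      have hW : TopologicalSpace.IsOpenCover W := by
        rw [TopologicalSpace.IsOpenCover, eq_top_iff]
        intro t _
        rw [TopologicalSpace.Opens.mem_iSup]
        exact ⟨t, hS' t⟩
      let g : ∀ t, (W t : Scheme) ⟶ Y := fun t => τ.resLE (S' t) (W t) le_rfl ≫ r t
      have hg : ∀ i j, T.homOfLE (inf_le_left : W i ⊓ W j ≤ W i) ≫ g i =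
          T.homOfLE (inf_le_right : W i ⊓ W j ≤ W j) ≫ g j := by
        intro i j
        have hle : W i ⊓ W j ≤ τ ⁻¹ᵁ (S' i ⊓ S' j) := fun x hx => hx
        have e1 : T.homOfLE (inf_le_left : W i ⊓ W j ≤ W i) ≫ τ.resLE (S' i) (W i) le_rfl =
            τ.resLE (S' i ⊓ S' j) (W i ⊓ W j) hle ≫ S.homOfLE inf_le_left := by
          rw [Scheme.Hom.map_resLE, Scheme.Hom.resLE_map]
        have e2 : T.homOfLE (inf_le_right : W i ⊓ W j ≤ W j) ≫ τ.resLE (S' j) (W j) le_rfl =
            τ.resLE (S' i ⊓ S' j) (W i ⊓ W j) hle ≫ S.homOfLE inf_le_right := by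
          rw [Scheme.Hom.map_resLE, Scheme.Hom.resLE_map]
        show T.homOfLE _ ≫ τ.resLE (S' i) (W i) le_rfl ≫ r i =
          T.homOfLE _ ≫ τ.resLE (S' j) (W j) le_rfl ≫ r j
        rw [reassoc_of% e1, reassoc_of% e2]
        congr 1
        exact fact_unique ξ f h0i _ _ _ (fact_restrict ξ f _ _ inf_le_left _ (hr i))
          (fact_restrict ξ f _ _ inf_le_right _ (hr j))
      obtain ⟨rT, hrT⟩ := exists_glue W hW g hg
      refine ⟨rT, ?_, ?_⟩
      · apply (T.openCoverOfIsOpenCover W hW).hom_ext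
        intro t
        show (W t).ι ≫ rT ≫ v = (W t).ι ≫ τ
        rw [reassoc_of% (hrT t)]
        show (τ.resLE (S' t) (W t) le_rfl ≫ r t) ≫ v = _
        rw [Category.assoc, fact_comp ξ f h0i v hf _ _ (hr t), Scheme.Hom.resLE_comp_ι]
      · let P := fun t : T => (pullback.snd ξ τ) ⁻¹ᵁ (W t)
        have hP : TopologicalSpace.IsOpenCover P := by
          rw [TopologicalSpace.IsOpenCover, eq_top_iff]
          intro p _
          rw [TopologicalSpace.Opens.mem_iSup]
          exact ⟨(pullback.snd ξ τ) p, hS' _⟩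
        apply ((pullback ξ τ).openCoverOfIsOpenCover P hP).hom_ext
        intro t
        show (P t).ι ≫ pullback.fst ξ τ ≫ f = (P t).ι ≫ pullback.snd ξ τ ≫ rT
        have hrange : Set.range ((P t).ι ≫ pullback.fst ξ τ) ⊆ Set.range (ξ ⁻¹ᵁ S' t).ι := by
          rintro _ ⟨p, rfl⟩
          rw [Scheme.Opens.range_ι]
          show ξ (((P t).ι ≫ pullback.fst ξ τ) p) ∈ S' t
          rw [← Scheme.Hom.comp_apply, Category.assoc, pullback.condition, ← Category.assoc,
            Scheme.Hom.comp_apply]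
          exact p.2
        let φ : (P t : Scheme) ⟶ (ξ ⁻¹ᵁ S' t : Scheme) :=
          IsOpenImmersion.lift (ξ ⁻¹ᵁ S' t).ι ((P t).ι ≫ pullback.fst ξ τ) hrange
        have hφ : φ ≫ (ξ ⁻¹ᵁ S' t).ι = (P t).ι ≫ pullback.fst ξ τ := IsOpenImmersion.lift_fac _ _ _
        have e3 : φ ≫ (ξ ∣_ S' t) =
            ((pullback.snd ξ τ) ∣_ W t) ≫ τ.resLE (S' t) (W t) le_rfl := by
          rw [← cancel_mono (S' t).ι, Category.assoc, Category.assoc, morphismRestrict_ι,
            Scheme.Hom.resLE_comp_ι, reassoc_of% hφ, morphismRestrict_ι_assoc, pullback.condition]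
        rw [← Category.assoc, ← hφ, Category.assoc, hr t, reassoc_of% e3,
          ← morphismRestrict_ι_assoc, hrT t]

end Groth.Agent.S14666
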