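import Groth.Statements.S14668
import Groth.Agent.Lib.Helper75.PnConst
-- import your own Groth.Agent.* helpers here

set_option autoImplicit false
universe u
open CategoryTheory CategoryTheory.Limits MonoidalCategory CartesianMonoidalCategory MonObj GrpObj AlgebraicGeometry
open AbSch

namespace Groth.Agent.S14668

/-- Let S be a locally Noetherian scheme, A an abelian scheme over S (an S-group scheme whose structure
morphism is proper and flat with geometrically integral fibres), and P an S-scheme whose structure
morphism is proper and flat and whose geometric fibres are projective spaces: for every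
algebraically closed field K and every K-point of S, the fibre P ×_S Spec K is isomorphic over Spec
K to projective n-space over K for some n. Then every S-morphism P ⟶ A factors through the structure
morphism of P: it is the composite of P ⟶ S with a section S ⟶ A. -/
theorem result {S : Scheme.{u}} [IsLocallyNoetherian S]
    (A : Over S) [GrpObj A] [IsProper A.hom] [Flat A.hom] [GeometricallyIntegral A.hom]
    (P : Over S) [IsProper P.hom] [Flat P.hom]
    (hP : ∀ (K : Type u) [Field K] [IsAlgClosed K] (s : Spec (CommRingCat.of K) ⟶ S),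
      ∃ (n : ℕ) (e : pullback P.hom s ≅ CohB1.ProjSpace n K), e.hom ≫ CohB1.ProjSpace.toSpec n K = pullback.snd P.hom s)
    (φ : P ⟶ A) :
    ∃ a : 𝟙_ (Over S) ⟶ A, φ = toUnit P ≫ a := by
  classical
  -- finite presentation over the locally Noetherian base
  haveI hlfp : LocallyOfFinitePresentation P.hom := by
    rw [HasRingHomProperty.iff_appLE (P := @LocallyOfFinitePresentation)]
    intro U V e
    have : IsNoetherianRing Γ(S, U.1) := IsLocallyNoetherian.component_noetherian U
    exact RingHom.FinitePresentation.of_finiteType.1
      (HasRingHomProperty.appLE (P := @LocallyOfFiniteType) P.hom inferInstance U V e)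
  -- fibrewise `H⁰ = κ`
  have h0 : ∀ t, Groth.Agent.Lib.Helper75.RigMain.FibH0 P.hom t := by
    apply Groth.Agent.Lib.Helper75.RigGeom.fibH0_of_forall_algClosed P.hom
    intro K _ _ g
    obtain ⟨n, e, he⟩ := hP K g
    haveI := Groth.Agent.Lib.Helper75.PnConst.isReduced_projSpace K n
    haveI := Groth.Agent.Lib.Helper75.PnTrans.irreducibleSpace_projSpace K n
    refine ⟨isReduced_of_isOpenImmersion e.hom, ?_⟩
    have hh : ↥(pullback P.hom g) ≃ₜ ↥(CohB1.ProjSpace n K) := e.hom.homeomorph
    haveI : ConnectedSpace ↥(CohB1.ProjSpace n K) := inferInstance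
    exact hh.symm.surjective.connectedSpace hh.symm.continuous
  -- every fibre is collapsed
  have huniv : Groth.Agent.Lib.Helper75.RigMain.collapsed P.hom φ.left = Set.univ := by
    rw [Set.eq_univ_iff_forall]
    intro s
    let K := AlgebraicClosure (S.residueField s)
    let sb : Spec (CommRingCat.of K) ⟶ S :=
      Spec.map (CommRingCat.ofHom (algebraMap (S.residueField s) K)) ≫ S.fromSpecResidueField s
    obtain ⟨n, e, he⟩ := hP K sb
    let As : Over (Spec (CommRingCat.of K)) := (Over.pullback sb).obj A
    haveI : GrpObj As := Functor.grpObjObj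
    haveI : IsSeparated As.hom := by
      show IsSeparated (pullback.snd A.hom sb)
      infer_instance
    let φs : (Over.pullback sb).obj P ⟶ As := (Over.pullback sb).map φ
    have hφs1 : φs.left ≫ pullback.fst A.hom sb = pullback.fst P.hom sb ≫ φ.left := by
      simp [φs, As]
      exact pullback.lift_fst _ _ _
    have hφs2 : φs.left ≫ pullback.snd A.hom sb = pullback.snd P.hom sb := Over.w φs
    have hψ : (e.inv ≫ φs.left) ≫ As.hom = CohB1.ProjSpace.toSpec n K := by
      rw [Category.assoc]
      show e.inv ≫ φs.left ≫ pullback.snd A.hom sb = _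
      rw [hφs2, ← he, Iso.inv_hom_id_assoc]
    obtain ⟨g, -, hg⟩ := Groth.Agent.Lib.Helper75.PnConst.exists_const K As n (e.inv ≫ φs.left) hψ
    have hφs3 : φs.left = pullback.snd P.hom sb ≫ g := by
      rw [← he, Category.assoc, ← hg, Iso.hom_inv_id_assoc]
    obtain ⟨pt⟩ : Nonempty ↥(Spec (CommRingCat.of K)) := inferInstance
    have hpt : sb.base pt = s := by
      show (Spec.map (CommRingCat.ofHom (algebraMap (S.residueField s) K)) ≫
        S.fromSpecResidueField s).base pt = s
      rw [Scheme.Hom.comp_apply, Scheme.fromSpecResidueField_apply]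
    refine ⟨(pullback.fst A.hom sb).base (g.base pt), fun x hx => ?_⟩
    obtain ⟨z, hz1, hz2⟩ := Scheme.Pullback.exists_preimage_pullback x pt (hx.trans hpt.symm)
    have h1 : φ.left.base x = (pullback.fst P.hom sb ≫ φ.left).base z := by
      rw [Scheme.Hom.comp_apply, hz1]
    rw [h1, ← hφs1, hφs3, Scheme.Hom.comp_apply, Scheme.Hom.comp_apply, hz2]
  obtain ⟨k, hk⟩ := Groth.Agent.Lib.Helper75.RigGenMain.exists_factor_of_univ P.hom φ.left h0 huniv
  have hEE : EffectiveEpi P.hom :=
    Groth.Agent.Lib.Helper75.RigGenMain.effectiveEpi_of_forall_fibH0 P.hom h0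
  have hk1 : k ≫ A.hom = 𝟙 S := by
    rw [← cancel_epi P.hom, ← Category.assoc, ← hk, Over.w φ, Category.comp_id]
  refine ⟨Over.homMk k hk1, ?_⟩
  apply Over.OverMorphism.ext
  rw [Over.comp_left, hk]
  rfl

end Groth.Agent.S14668
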