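import Groth.Statements.S1467
import Groth.Agent.Lib.Helper36.StrictHensWE
import Groth.Agent.Lib.Helper36.WeaklyEtaleStalk

set_option autoImplicit false
universe u
open FlatMor

namespace Groth.Agent.S1467

open AlgebraicGeometry CategoryTheory Limits in
/-- A morphism f : X → Y is weakly étale if and only if, for every point x of X, strict henselizations
of the local rings at f x and at x coincide under the stalk map: every strict henselization of O_{X,
x} is, through the composite map O_{Y, f x} → O_{X, x} → (strict henselization), a strict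
henselization of O_{Y, f x}. -/
theorem result {X Y : Scheme.{u}} (f : X ⟶ Y) :
    WeaklyEtale f ↔ ∀ (x : X) (R : Type u) [CommRing R] [IsLocalRing R] [Algebra ↑(X.presheaf.stalk x) R]
      [IsLocalHom (algebraMap ↑(X.presheaf.stalk x) R)] [Hensel.IsStrictHenselization ↑(X.presheaf.stalk x) R],
      letI : Algebra ↑(Y.presheaf.stalk (f x)) R := ((algebraMap ↑(X.presheaf.stalk x) R).comp (f.stalkMap x).hom).toAlgebra
      ∃ _ : IsLocalHom (algebraMap ↑(Y.presheaf.stalk (f x)) R), Hensel.IsStrictHenselization ↑(Y.presheaf.stalk (f x)) R := by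
  constructor
  · intro hf x R _ _ _ _ _
    letI iAR : Algebra ↑(Y.presheaf.stalk (f x)) R :=
      ((algebraMap ↑(X.presheaf.stalk x) R).comp (f.stalkMap x).hom).toAlgebra
    letI iAB : Algebra ↑(Y.presheaf.stalk (f x)) ↑(X.presheaf.stalk x) :=
      (f.stalkMap x).hom.toAlgebra
    haveI : IsScalarTower ↑(Y.presheaf.stalk (f x)) ↑(X.presheaf.stalk x) R :=
      IsScalarTower.of_algebraMap_eq (fun _ => rfl)
    haveI hAB : IsLocalHom (algebraMap ↑(Y.presheaf.stalk (f x)) ↑(X.presheaf.stalk x)) :=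
      inferInstanceAs (IsLocalHom (f.stalkMap x).hom)
    haveI hAR : IsLocalHom (algebraMap ↑(Y.presheaf.stalk (f x)) R) :=
      inferInstanceAs (IsLocalHom ((algebraMap ↑(X.presheaf.stalk x) R).comp (f.stalkMap x).hom))
    haveI : Algebra.WeaklyEtale ↑(Y.presheaf.stalk (f x)) ↑(X.presheaf.stalk x) :=
      Groth.Agent.Lib.Helper36.WE.weaklyEtale_stalkMap f x
    exact ⟨hAR, Groth.Agent.Lib.Helper36.StrictHensWE.isStrictHenselization_of_weaklyEtale
      ↑(Y.presheaf.stalk (f x)) ↑(X.presheaf.stalk x) R⟩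
  · intro h
    apply Groth.Agent.Lib.Helper36.WE.weaklyEtale_of_stalkMap f
    intro x
    let C := Groth.Agent.Lib.Helper9.HensK.StrictHenselization ↑(X.presheaf.stalk x)
    obtain ⟨hloc, hsh⟩ := h x C
    letI iAR : Algebra ↑(Y.presheaf.stalk (f x)) C :=
      ((algebraMap ↑(X.presheaf.stalk x) C).comp (f.stalkMap x).hom).toAlgebra
    letI iAB : Algebra ↑(Y.presheaf.stalk (f x)) ↑(X.presheaf.stalk x) :=
      (f.stalkMap x).hom.toAlgebra
    haveI : IsScalarTower ↑(Y.presheaf.stalk (f x)) ↑(X.presheaf.stalk x) C :=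
      IsScalarTower.of_algebraMap_eq (fun _ => rfl)
    haveI : Module.FaithfullyFlat ↑(X.presheaf.stalk x) C :=
      Groth.Agent.Lib.Helper9.HensK.faithfullyFlat_of_isStrictHenselization _ _
    haveI : Algebra.WeaklyEtale ↑(Y.presheaf.stalk (f x)) C :=
      Groth.Agent.Lib.Helper36.StrictHensWE.weaklyEtale_of_isStrictHenselization _ _
    have hwe : Algebra.WeaklyEtale ↑(Y.presheaf.stalk (f x)) ↑(X.presheaf.stalk x) :=
      Groth.Agent.Lib.Helper36.StrictHensWE.weaklyEtale_of_faithfullyFlat_of_comp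
        ↑(Y.presheaf.stalk (f x)) ↑(X.presheaf.stalk x) C
    exact ⟨RingHom.flat_algebraMap_iff.mpr hwe.flat, Algebra.WeaklyEtale.flat_lmul' _ _⟩

end Groth.Agent.S1467
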