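import Groth.Statements.S14670
import Groth.Agent.Lib.Helper73.MCM
import Groth.Agent.Lib.Helper73.RegularNormal
import Groth.Agent.Lib.Helper29.DepthFiniteAlg
import Groth.Agent.Lib.Helper55.KrullDimIntegral

set_option maxSynthPendingDepth 3

set_option autoImplicit false
universe u
open CAlg

namespace Groth.Agent.S14670

/-- Let R be a regular local ring and S an integral domain containing R as a subring over which it is a
finitely generated module, such that the localization of S at each of its maximal ideals is a
Cohen–Macaulay local ring. Then S is a flat R-module. (The published statement does not require S to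
be a domain; in that generality it fails — for a discrete valuation ring R with residue field κ the
ring R × κ contains R diagonally, is finite over R with Cohen–Macaulay localizations, and is not
flat — and the printed argument needs every maximal ideal of S to have height dim R, which holds
when S is a domain by going down.) -/
theorem result (R S : Type u) [CommRing R] [CommRing S]
    [IsRegularLocalRing R] [IsDomain S] [Algebra R S] [Module.Finite R S]
    (hinj : Function.Injective (algebraMap R S))
    (hCM : ∀ (q : Ideal S) [q.IsMaximal], LocCoh.IsCohenMacaulayLocalRing (Localization.AtPrime q)) :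
    Module.Flat R S := by
  classical
  obtain ⟨hdomR, hicR⟩ :=
    Groth.Agent.Lib.Helper73.RegularNormal.isIntegrallyClosed_of_isRegularLocalRing R
  haveI : FaithfulSMul R S := (faithfulSMul_iff_algebraMap_injective R S).mpr hinj
  haveI : Algebra.IsIntegral R S := Algebra.IsIntegral.of_finite R S
  haveI : IsNoetherianRing S := IsNoetherianRing.of_finite R S
  have hGD : Algebra.HasGoingDown R S := inferInstance
  have hdimR : ringKrullDim R = ((IsLocalRing.maximalIdeal R).spanFinrank : ℕ) :=
    (IsRegularLocalRing.spanFinrank_maximalIdeal (R := R)).symm
  have hhtm : (IsLocalRing.maximalIdeal R).height = ((IsLocalRing.maximalIdeal R).spanFinrank : ℕ) := by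
    have h1 := IsLocalRing.maximalIdeal_height_eq_ringKrullDim (R := R)
    rw [hdimR] at h1
    exact_mod_cast h1
  have hdepth : ((IsLocalRing.maximalIdeal R).spanFinrank : ℕ∞) ≤ LocCoh.depth R S := by
    unfold LocCoh.depth
    rw [Groth.Agent.Lib.Helper29.idealDepth_map_eq (A := R) (B := S) (IsLocalRing.maximalIdeal R) S]
    apply Groth.Agent.Lib.Helper29.le_idealDepth_of_forall_le_depth_localization S _ S _
    intro q hq hle
    have hover : q.LiesOver (IsLocalRing.maximalIdeal R) := by
      refine ⟨?_⟩
      have h1 : IsLocalRing.maximalIdeal R ≤ q.under R := by
        rw [Ideal.under_def, ← Ideal.map_le_iff_le_comap]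
        exact hle
      have h2 : (q.under R).IsPrime := Ideal.IsPrime.under R q
      exact ((IsLocalRing.maximalIdeal.isMaximal R).eq_of_le h2.ne_top h1)
    haveI hqmax : q.IsMaximal := by
      apply Ideal.isMaximal_of_isIntegral_of_isMaximal_comap (R := R) q
      rw [← Ideal.under_def, ← hover.over]
      infer_instance
    haveI := hCM q
    rw [Groth.Agent.Lib.Helper29.depth_localizedModule_self S q]
    have h1 : ((LocCoh.depth (Localization.AtPrime q) (Localization.AtPrime q) : ℕ∞) : WithBot ℕ∞) =
        ((q.height : ℕ∞) : WithBot ℕ∞) := by
      rw [← (hCM q).supportDim_eq_depth, Module.supportDim_self_eq_ringKrullDim,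
        IsLocalization.AtPrime.ringKrullDim_eq_height q (Localization.AtPrime q)]
    have h1' : LocCoh.depth (Localization.AtPrime q) (Localization.AtPrime q) = q.height :=
      WithBot.coe_injective h1
    rw [h1']
    have h2 := Ideal.height_eq_height_add_of_liesOver_of_hasGoingDown (IsLocalRing.maximalIdeal R) q
    rw [h2, hhtm]
    exact le_self_add
  haveI := Groth.Agent.Lib.Helper73.MCM.free_of_le_depth R S hdepth
  infer_instance

end Groth.Agent.S14670
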