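import Groth.Statements.S14677
import Mathlib.RingTheory.AdicCompletion.Exactness
import Mathlib.RingTheory.AdicCompletion.AsTensorProduct

set_option autoImplicit false
universe u
open CAlg

namespace Groth.Agent.S14677

section aux
open TensorProduct

variable {A : Type u} [CommRing A] (I : Ideal A) {M : Type u} [AddCommGroup M] [Module A M]

/-- The completion of multiplication by `a` is multiplication by `a`. -/
theorem map_lsmul (a : A) (x : AdicCompletion I M) :
    AdicCompletion.map I (LinearMap.lsmul A M a) x = a • x := by
  ext n
  rw [AdicCompletion.map_val_apply, AdicCompletion.val_smul_apply]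
  obtain ⟨m, hm⟩ := Submodule.Quotient.mk_surjective _ (x.val n)
  rw [← hm]
  rfl

end aux

/-- Let A be a Noetherian commutative ring, I and J ideals of A and M a finitely generated A-module.
Then the map of I-adic completions induced by the inclusion of the submodule JM into M is injective
with image exactly J·M̂, where M̂ is the I-adic completion of M; that is, the completion of JM is J
times the completion of M. (The published statement does not say that A is Noetherian; its proof
uses exactness of completion on finitely generated modules, which needs it, so this row assumes A
Noetherian.) -/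
theorem result (A : Type u) [CommRing A] [IsNoetherianRing A] (I J : Ideal A)
    (M : Type u) [AddCommGroup M] [Module A M] [Module.Finite A M] :
    Function.Injective (AdicCompletion.map I (J • (⊤ : Submodule A M)).subtype) ∧
      LinearMap.range (AdicCompletion.map I (J • (⊤ : Submodule A M)).subtype) =
        (J.map (algebraMap A (AdicCompletion I A))) • (⊤ : Submodule (AdicCompletion I A) (AdicCompletion I M)) := by
  set N : Submodule A M := J • (⊤ : Submodule A M) with hN
  refine ⟨AdicCompletion.map_injective I N.injective_subtype, ?_⟩
  apply le_antisymm
  · -- range ⊆ J Â • M̂
    have hof : ∀ m ∈ N, AdicCompletion.of I M m ∈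
        (J.map (algebraMap A (AdicCompletion I A))) •
          (⊤ : Submodule (AdicCompletion I A) (AdicCompletion I M)) := by
      intro m hm
      refine Submodule.smul_induction_on hm ?_ ?_
      · intro a ha m' _
        rw [map_smul, ← algebraMap_smul (AdicCompletion I A) a (AdicCompletion.of I M m')]
        exact Submodule.smul_mem_smul (Ideal.mem_map_of_mem _ ha) trivial
      · intro x y hx hy
        rw [map_add]
        exact Submodule.add_mem _ hx hy
    have htens : ∀ t : TensorProduct A (AdicCompletion I A) N,
        AdicCompletion.ofTensorProduct I M
          (TensorProduct.AlgebraTensorModule.map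
            (LinearMap.id : AdicCompletion I A →ₗ[AdicCompletion I A] AdicCompletion I A)
            N.subtype t) ∈
        (J.map (algebraMap A (AdicCompletion I A))) •
          (⊤ : Submodule (AdicCompletion I A) (AdicCompletion I M)) := by
      intro t
      induction t using TensorProduct.induction_on with
      | zero => simp
      | tmul r n =>
        rw [TensorProduct.AlgebraTensorModule.map_tmul, AdicCompletion.ofTensorProduct_tmul]
        exact Submodule.smul_mem _ _ (hof _ n.2)
      | add t₁ t₂ h₁ h₂ =>
        rw [map_add, map_add]
        exact Submodule.add_mem _ h₁ h₂
    rintro _ ⟨x, rfl⟩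
    obtain ⟨t, rfl⟩ := AdicCompletion.ofTensorProduct_surjective_of_finite I N x
    have hnat := LinearMap.congr_fun (AdicCompletion.ofTensorProduct_naturality I N.subtype) t
    simp only [LinearMap.comp_apply] at hnat
    rw [hnat]
    exact htens t
  · -- J Â • M̂ ⊆ range
    have key : ∀ a ∈ J, ∀ x : AdicCompletion I M, (algebraMap A (AdicCompletion I A) a) • x ∈
        LinearMap.range (AdicCompletion.map I N.subtype) := by
      intro a ha x
      let μ : M →ₗ[A] N := (LinearMap.lsmul A M a).codRestrict N
        (fun m => Submodule.smul_mem_smul ha trivial)
      have hμ : N.subtype ∘ₗ μ = LinearMap.lsmul A M a := LinearMap.subtype_comp_codRestrict _ _ _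
      refine ⟨AdicCompletion.map I μ x, ?_⟩
      rw [AdicCompletion.map_comp_apply, hμ, map_lsmul, algebraMap_smul]
    have key2 : ∀ r ∈ Submodule.span (AdicCompletion I A)
        ((algebraMap A (AdicCompletion I A)) '' (J : Set A)),
        ∀ x : AdicCompletion I M, r • x ∈ LinearMap.range (AdicCompletion.map I N.subtype) := by
      intro r hr
      induction hr using Submodule.span_induction with
      | mem r hr =>
        obtain ⟨a, ha, rfl⟩ := hr
        exact key a ha
      | zero =>
        intro x
        rw [zero_smul]
        exact Submodule.zero_mem _
      | add r s _ _ hr hs =>
        intro x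
        rw [add_smul]
        exact Submodule.add_mem _ (hr x) (hs x)
      | smul c r _ hr =>
        intro x
        rw [smul_eq_mul, mul_smul]
        exact Submodule.smul_mem _ c (hr x)
    rw [Submodule.smul_le]
    intro r hr x _
    exact key2 r hr x

end Groth.Agent.S14677
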