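import Groth.Statements.S14678
-- import your own Groth.Agent.* helpers here

set_option autoImplicit false
universe u
open CategoryTheory CategoryTheory.Limits AlgebraicGeometry
open EtBase

namespace Groth.Agent.S14678

/-- Let S be a scheme, s a point of S and ℓ a finite field extension of the residue field κ(s). Then,
fppf-locally around s, ℓ occurs as a residue field: there are an affine scheme U', a flat morphism b
: U' ⟶ S locally of finite presentation (so with open image containing s) and a morphism t : Spec ℓ
⟶ U' over the canonical morphism Spec ℓ ⟶ Spec κ(s) ⟶ S which is a preimmersion, i.e. the inclusion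
of a point s' of U' above s together with an identification of κ(s') with ℓ over κ(s); such a point
is closed in its fibre over s. (The published statement gives an affine open neighbourhood U of s
and an fppf morphism U' ⟶ U; this row asks only for a flat, locally finitely presented U' ⟶ S, whose
open image then contains s.) -/
theorem result (S : Scheme.{u}) (s : ↥S)
    (ℓ : Type u) [Field ℓ] [Algebra (S.residueField s) ℓ] [Module.Finite (S.residueField s) ℓ] :
    ∃ (U' : Scheme.{u}) (b : U' ⟶ S) (t : Spec (CommRingCat.of ℓ) ⟶ U'),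
      IsAffine U' ∧ Flat b ∧ LocallyOfFinitePresentation b ∧ IsPreimmersion t ∧
        t ≫ b = Spec.map (CommRingCat.ofHom (algebraMap (S.residueField s) ℓ)) ≫ S.fromSpecResidueField s := by
  classical
  -- an affine open neighbourhood of `s`
  obtain ⟨_, ⟨U, hU : IsAffineOpen U, rfl⟩, hs : s ∈ U, -⟩ :=
    S.isBasis_affineOpens.exists_subset_of_mem_open (Set.mem_univ s) isOpen_univ
  -- a finite spanning family of `ℓ` over `κ(s)`
  obtain ⟨n, bb, hbb⟩ := Module.Finite.exists_fin (R := S.residueField s) (M := ℓ)
  let R : CommRingCat.{u} := Γ(S, U)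
  let ev : R →+* S.residueField s := (S.evaluation U s hs).hom
  let φ : R →+* ℓ := (algebraMap (S.residueField s) ℓ).comp ev
  let ψ : MvPolynomial (Fin n) R →+* ℓ := MvPolynomial.eval₂Hom φ bb
  let cR : R →+* MvPolynomial (Fin n) R := MvPolynomial.C
  have hψC : ψ.comp cR = φ := by
    ext r
    simp [ψ, cR]
  refine ⟨Spec (CommRingCat.of (MvPolynomial (Fin n) R)),
    Spec.map (CommRingCat.ofHom cR) ≫ hU.fromSpec, Spec.map (CommRingCat.ofHom ψ),
    inferInstance, ?_, ?_, ?_, ?_⟩
  · -- flat
    have : Flat (Spec.map (CommRingCat.ofHom cR)) := by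
      rw [Flat.SpecMap_iff]
      change (algebraMap R (MvPolynomial (Fin n) R)).Flat
      rw [RingHom.flat_algebraMap_iff]
      infer_instance
    infer_instance
  · -- lfp
    have : LocallyOfFinitePresentation (Spec.map (CommRingCat.ofHom cR)) := by
      rw [LocallyOfFinitePresentation.SpecMap_iff]
      change (algebraMap R (MvPolynomial (Fin n) R)).FinitePresentation
      rw [RingHom.finitePresentation_algebraMap]
      infer_instance
    infer_instance
  · -- preimmersion
    apply IsPreimmersion.mk_SpecMap
    · exact Topology.IsEmbedding.of_subsingleton _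
    · apply RingHom.surjectiveOnStalks_of_exists_div
      change ∀ x : ℓ, ∃ r s : MvPolynomial (Fin n) R, IsUnit (ψ s) ∧ ψ s * x = ψ r
      -- the set of fractions
      have hfrac_alg : ∀ c : S.residueField s,
          ∃ r s' : MvPolynomial (Fin n) R, IsUnit (ψ s') ∧ ψ s' * algebraMap _ ℓ c = ψ r := by
        intro c
        obtain ⟨y, rfl⟩ := S.residue_surjective s c
        let : Algebra R (S.presheaf.stalk s) := (S.presheaf.germ U s hs).hom.toAlgebra
        have := hU.isLocalization_stalk ⟨s, hs⟩
        obtain ⟨⟨a, g⟩, hag⟩ := IsLocalization.surj (hU.primeIdealOf ⟨s, hs⟩).asIdeal.primeCompl y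
        have hgu : IsUnit (algebraMap R (S.presheaf.stalk s) g) :=
          IsLocalization.map_units (S.presheaf.stalk s) g
        have hφ : ∀ r : R, ψ (cR r) = algebraMap (S.residueField s) ℓ
            (S.residue s (algebraMap R (S.presheaf.stalk s) r)) := by
          intro r
          have := congrArg (fun f => f r) hψC
          exact this
        refine ⟨cR a, cR (g : R), ?_, ?_⟩
        · rw [hφ]
          exact (hgu.map (S.residue s).hom).map (algebraMap (S.residueField s) ℓ)
        · rw [hφ, hφ, ← map_mul, ← map_mul]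
          congr 2
          rw [mul_comm]
          exact hag
      -- closure under multiplication and addition
      have hmul : ∀ x y : ℓ,
          (∃ r s' : MvPolynomial (Fin n) R, IsUnit (ψ s') ∧ ψ s' * x = ψ r) →
          (∃ r s' : MvPolynomial (Fin n) R, IsUnit (ψ s') ∧ ψ s' * y = ψ r) →
          (∃ r s' : MvPolynomial (Fin n) R, IsUnit (ψ s') ∧ ψ s' * (x * y) = ψ r) := by
        rintro x y ⟨r₁, s₁, hu₁, h₁⟩ ⟨r₂, s₂, hu₂, h₂⟩
        refine ⟨r₁ * r₂, s₁ * s₂, ?_, ?_⟩
        · rw [map_mul]; exact hu₁.mul hu₂
        · rw [map_mul, map_mul, ← h₁, ← h₂]; ring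
      have hadd : ∀ x y : ℓ,
          (∃ r s' : MvPolynomial (Fin n) R, IsUnit (ψ s') ∧ ψ s' * x = ψ r) →
          (∃ r s' : MvPolynomial (Fin n) R, IsUnit (ψ s') ∧ ψ s' * y = ψ r) →
          (∃ r s' : MvPolynomial (Fin n) R, IsUnit (ψ s') ∧ ψ s' * (x + y) = ψ r) := by
        rintro x y ⟨r₁, s₁, hu₁, h₁⟩ ⟨r₂, s₂, hu₂, h₂⟩
        refine ⟨r₁ * s₂ + r₂ * s₁, s₁ * s₂, ?_, ?_⟩
        · rw [map_mul]; exact hu₁.mul hu₂
        · rw [map_add, map_mul, map_mul, map_mul, ← h₁, ← h₂]; ring
      intro x
      have hx : x ∈ Submodule.span (S.residueField s) (Set.range bb) := by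
        rw [hbb]; trivial
      induction hx using Submodule.span_induction with
      | mem x hx =>
        obtain ⟨i, rfl⟩ := hx
        refine ⟨MvPolynomial.X i, 1, by simp, ?_⟩
        simp [ψ]
      | zero => exact ⟨0, 1, by simp, by simp⟩
      | add x y _ _ hx hy => exact hadd x y hx hy
      | smul c x _ hx =>
        rw [Algebra.smul_def]
        exact hmul _ _ (hfrac_alg c) hx
  · -- commutation
    have e1 : CommRingCat.ofHom cR ≫ CommRingCat.ofHom ψ =
        S.presheaf.germ U s hs ≫ S.residue s ≫
          CommRingCat.ofHom (algebraMap (S.residueField s) ℓ) := by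
      ext r
      exact congrArg (fun f => f r) hψC
    rw [← Category.assoc, ← Spec.map_comp, e1, Scheme.fromSpecResidueField,
      ← hU.fromSpecStalk_eq_fromSpecStalk hs, IsAffineOpen.fromSpecStalk]
    simp only [Spec.map_comp, Category.assoc]
    rfl

end Groth.Agent.S14678
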