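import Groth.Statements.S14679
import Mathlib.AlgebraicGeometry.PullbackCarrier

set_option autoImplicit false
universe u
open CategoryTheory CategoryTheory.Limits AlgebraicGeometry
open EtBase

namespace Groth.Agent.S14679

section aux
open CategoryTheory CategoryTheory.Limits AlgebraicGeometry AlgebraicGeometry.Scheme.Pullback

variable {X Y S : Scheme.{u}} {f : X ⟶ S} {g : Y ⟶ S}

/-- If the residue field map at `T.x` is bijective then `Spec (κ(x) ⊗ κ(y))` has at most one
point. -/
theorem subsingleton_spec_tensor (T : Triplet f g)
    (h : Function.Bijective (f.residueFieldMap T.x).hom) :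
    Subsingleton ↥(Spec T.tensor) := by
  have h1 : IsIso (f.residueFieldMap T.x) := by
    rw [ConcreteCategory.isIso_iff_bijective]
    exact h
  have h2 : IsIso ((S.residueFieldCongr T.hx).inv ≫ f.residueFieldMap T.x) := inferInstance
  have h3 : IsIso T.tensorInr := by
    unfold Triplet.tensorInr
    exact pushout_inr_iso_of_left_iso _ _
  have e : T.tensor ≅ Y.residueField T.y := (asIso T.tensorInr).symm
  have hfield : IsField T.tensor :=
    (MulEquiv.isField (Field.toIsField (Y.residueField T.y)) e.commRingCatIsoToRingEquiv.toMulEquiv)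
  let _ := hfield.toField
  exact (inferInstance : Subsingleton (PrimeSpectrum T.tensor))

end aux

/-- Given a morphism of schemes f : X ⟶ Y and a point x ∈ X with image y = f(x), such that the residue
field map κ(y) → κ(x) is bijective; let ℓ be an algebraic extension field of κ(y) and form the base
change X ×_Y Spec ℓ along Spec ℓ ⟶ Spec κ(y) ⟶ Y. Then there is exactly one point of X ×_Y Spec ℓ
mapping to x under the first projection. (The published statement takes ℓ to be an algebraic closure
of κ(y), noting that any algebraic extension works, and also identifies the local ring at the point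
with O_{X,x} ⊗_{O_{Y,y}} ℓ; this row allows any algebraic extension ℓ and states only the first
assertion.) -/
theorem result {X Y : Scheme.{u}} (f : X ⟶ Y) (x : ↥X)
    (hx : Function.Bijective (f.residueFieldMap x).hom)
    (ℓ : Type u) [Field ℓ] [Algebra (Y.residueField (f.base x)) ℓ] [Algebra.IsAlgebraic (Y.residueField (f.base x)) ℓ] :
    ∃! z : ↥(pullback f (Spec.map (CommRingCat.ofHom (algebraMap (Y.residueField (f.base x)) ℓ)) ≫ Y.fromSpecResidueField (f.base x))),
      (pullback.fst f (Spec.map (CommRingCat.ofHom (algebraMap (Y.residueField (f.base x)) ℓ)) ≫ Y.fromSpecResidueField (f.base x))).base z = x := by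
  set g := Spec.map (CommRingCat.ofHom (algebraMap (Y.residueField (f.base x)) ℓ)) ≫
    Y.fromSpecResidueField (f.base x) with hg
  have hsub : Subsingleton ↥(Spec (CommRingCat.of ℓ)) :=
    (inferInstance : Subsingleton (PrimeSpectrum ℓ))
  let s₀ : ↥(Spec (CommRingCat.of ℓ)) := (⊥ : PrimeSpectrum ℓ)
  have hgs : ∀ s : ↥(Spec (CommRingCat.of ℓ)), g.base s = f.base x := by
    intro s
    rw [hg]
    erw [Scheme.Hom.comp_apply]
    exact Scheme.fromSpecResidueField_apply _ _
  obtain ⟨z, hz, -⟩ := Scheme.Pullback.exists_preimage_pullback (f := f) (g := g) x s₀ (hgs s₀).symm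
  refine ⟨z, hz, ?_⟩
  intro z' hz'
  obtain ⟨⟨T, p⟩, rfl⟩ := (Scheme.Pullback.carrierEquiv (f := f) (g := g)).symm.surjective z
  obtain ⟨⟨T', p'⟩, rfl⟩ := (Scheme.Pullback.carrierEquiv (f := f) (g := g)).symm.surjective z'
  have hTx : T.x = x := by
    rw [← Scheme.Pullback.carrierEquiv_symm_fst T p]; exact hz
  have hT'x : T'.x = x := by
    rw [← Scheme.Pullback.carrierEquiv_symm_fst T' p']; exact hz'
  have hTT' : T' = T := by
    apply Scheme.Pullback.Triplet.ext
    · rw [hTx, hT'x]
    · exact Subsingleton.elim _ _
  subst hTT'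
  have := subsingleton_spec_tensor T' (by rw [hT'x]; exact hx)
  rw [Subsingleton.elim p' p]

end Groth.Agent.S14679
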