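import Groth.Statements.S14680
import Groth.Agent.Lib.Helper74.AdicDetect

set_option autoImplicit false
universe u
open CAlg

namespace Groth.Agent.S14680

/-- Let A be a Noetherian commutative ring and f : M' → M, g : M → M'' linear maps between finitely
generated A-modules. Then the sequence 0 → M' → M → M'' → 0 is exact — f injective, the image of f
equal to the kernel of g, g surjective — if and only if for every maximal ideal m of A the sequence
of m-adic completions 0 → M'^ → M^ → M''^ → 0 (maps induced by f and g) is exact in the same sense. -/
theorem result (A : Type u) [CommRing A] [IsNoetherianRing A]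
    (M' M M'' : Type u) [AddCommGroup M'] [Module A M'] [AddCommGroup M] [Module A M] [AddCommGroup M''] [Module A M'']
    [Module.Finite A M'] [Module.Finite A M] [Module.Finite A M''] (f : M' →ₗ[A] M) (g : M →ₗ[A] M'') :
    (Function.Injective f ∧ Function.Exact f g ∧ Function.Surjective g) ↔
      ∀ (m : Ideal A) [m.IsMaximal],
        Function.Injective (AdicCompletion.map m f) ∧ Function.Exact (AdicCompletion.map m f) (AdicCompletion.map m g) ∧
          Function.Surjective (AdicCompletion.map m g) := by
  constructor
  · rintro ⟨hf, hfg, hg⟩ m _
    exact ⟨AdicCompletion.map_injective m hf, AdicCompletion.map_exact hf hfg hg,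
      AdicCompletion.map_surjective m hg⟩
  · intro h
    -- (i) `g` is surjective
    have hg : Function.Surjective g := by
      have hC : Subsingleton (M'' ⧸ LinearMap.range g) := by
        apply Groth.Agent.Lib.Helper74.subsingleton_of_forall_adicCompletion A
        intro m _
        obtain ⟨-, -, hgs⟩ := h m
        have hq := AdicCompletion.map_surjective m (LinearMap.range g).mkQ_surjective
        refine ⟨fun x y => ?_⟩
        obtain ⟨x', rfl⟩ := hq x
        obtain ⟨y', rfl⟩ := hq y
        obtain ⟨x'', rfl⟩ := hgs x'
        obtain ⟨y'', rfl⟩ := hgs y'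
        rw [AdicCompletion.map_comp_apply, AdicCompletion.map_comp_apply,
          LinearMap.range_mkQ_comp, AdicCompletion.map_zero]
        rfl
      rw [Submodule.Quotient.subsingleton_iff, LinearMap.range_eq_top] at hC
      exact hC
    -- (ii) `f` is injective
    have hf : Function.Injective f := by
      have hK : Subsingleton (LinearMap.ker f) := by
        apply Groth.Agent.Lib.Helper74.subsingleton_of_forall_adicCompletion A
        intro m _
        obtain ⟨hfi, -, -⟩ := h m
        have hι := AdicCompletion.map_injective m (LinearMap.ker f).injective_subtype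
        refine ⟨fun x y => ?_⟩
        apply hι
        apply hfi
        rw [AdicCompletion.map_comp_apply, AdicCompletion.map_comp_apply,
          LinearMap.comp_ker_subtype, AdicCompletion.map_zero]
        rfl
      rw [← LinearMap.ker_eq_bot]
      exact Submodule.eq_bot_of_subsingleton
    -- (iii) `g ∘ f = 0`
    have hgf : g ∘ₗ f = 0 := by
      have hI : Subsingleton (LinearMap.range (g ∘ₗ f)) := by
        apply Groth.Agent.Lib.Helper74.subsingleton_of_forall_adicCompletion A
        intro m _
        obtain ⟨-, hex, -⟩ := h m
        have hι := AdicCompletion.map_injective m (LinearMap.range (g ∘ₗ f)).injective_subtype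
        have hs := AdicCompletion.map_surjective m (LinearMap.surjective_rangeRestrict (g ∘ₗ f))
        have hzero : ∀ x, AdicCompletion.map m (g ∘ₗ f) x = 0 := by
          intro x
          rw [← AdicCompletion.map_comp_apply]
          exact hex.apply_apply_eq_zero x
        refine ⟨fun x y => ?_⟩
        obtain ⟨x', rfl⟩ := hs x
        obtain ⟨y', rfl⟩ := hs y
        apply hι
        have hcomp : (LinearMap.range (g ∘ₗ f)).subtype ∘ₗ (g ∘ₗ f).rangeRestrict = g ∘ₗ f :=
          LinearMap.subtype_comp_codRestrict _ _ _
        rw [AdicCompletion.map_comp_apply, AdicCompletion.map_comp_apply, hcomp, hzero, hzero]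
      ext x
      have : (⟨(g ∘ₗ f) x, LinearMap.mem_range_self _ x⟩ : LinearMap.range (g ∘ₗ f)) = 0 :=
        Subsingleton.elim _ _
      simpa using congrArg Subtype.val this
    -- (iv) `ker g ≤ range f`
    have hrange : LinearMap.range f ≤ LinearMap.ker g := by
      rintro _ ⟨x, rfl⟩
      exact LinearMap.congr_fun hgf x
    let f' : M' →ₗ[A] LinearMap.ker g := f.codRestrict (LinearMap.ker g)
      (fun x => hrange (LinearMap.mem_range_self f x))
    have hf' : (LinearMap.ker g).subtype ∘ₗ f' = f := LinearMap.subtype_comp_codRestrict _ _ _
    have hQ : Subsingleton (LinearMap.ker g ⧸ LinearMap.range f') := by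
      apply Groth.Agent.Lib.Helper74.subsingleton_of_forall_adicCompletion A
      intro m _
      obtain ⟨-, hex, -⟩ := h m
      have hι := AdicCompletion.map_injective m (LinearMap.ker g).injective_subtype
      have hq := AdicCompletion.map_surjective m (LinearMap.range f').mkQ_surjective
      have hzero : ∀ z, AdicCompletion.map m (LinearMap.range f').mkQ z = 0 := by
        intro z
        have h1 : AdicCompletion.map m g (AdicCompletion.map m (LinearMap.ker g).subtype z) = 0 := by
          rw [AdicCompletion.map_comp_apply, LinearMap.comp_ker_subtype, AdicCompletion.map_zero]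
          rfl
        obtain ⟨x', hx'⟩ := (hex _).1 h1
        have h2 : z = AdicCompletion.map m f' x' := by
          apply hι
          rw [AdicCompletion.map_comp_apply, hf', hx']
        rw [h2, AdicCompletion.map_comp_apply, LinearMap.range_mkQ_comp, AdicCompletion.map_zero]
        rfl
      refine ⟨fun x y => ?_⟩
      obtain ⟨x', rfl⟩ := hq x
      obtain ⟨y', rfl⟩ := hq y
      rw [hzero, hzero]
    rw [Submodule.Quotient.subsingleton_iff, LinearMap.range_eq_top] at hQ
    refine ⟨hf, ?_, hg⟩
    intro y
    constructor
    · intro hy
      obtain ⟨x, hx⟩ := hQ ⟨y, hy⟩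
      exact ⟨x, by simpa [f'] using congrArg Subtype.val hx⟩
    · rintro ⟨x, rfl⟩
      exact LinearMap.congr_fun hgf x

end Groth.Agent.S14680
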