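import Groth.Statements.S14694
import Mathlib

set_option autoImplicit false
universe u
open CategoryTheory AlgebraicGeometry
open SekSuwa

namespace Groth.Agent.S14694
open Polynomial CategoryTheory AlgebraicGeometry


section Poly
variable {R : Type u} [CommRing R] {lam : R} {N : ℕ}

lemma coeff_rhs (k : ℕ) :
    ((1 + C lam * X : R[X]) ^ N - 1).coeff k = (if k = 0 then 0 else (N.choose k : R) * lam ^ k) := by
  have e : (1 + C lam * X : R[X]) = ((X + C (1 : R) : R[X])).comp (C lam * X) := by simp [add_comm]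
  rw [e, ← Polynomial.pow_comp, coeff_sub, comp_C_mul_X_coeff, coeff_X_add_C_pow, one_pow, one_mul,
    coeff_one]
  split_ifs with hk
  · subst hk; simp
  · rw [sub_zero]

lemma psiPoly_coeff (h : SekSuwa.DivCond lam N) (k : ℕ) :
    lam ^ N * (SekSuwa.psiPoly lam N h).coeff k =
      (if k = 0 then 0 else (N.choose k : R) * lam ^ k) := by
  rw [← coeff_C_mul, SekSuwa.psiPoly_spec h, coeff_rhs]

lemma psiPoly_monic (hN : 0 < N) (h : SekSuwa.DivCond lam N) : (SekSuwa.psiPoly lam N h).Monic := by
  have hnz := h.pow_nzd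
  apply Polynomial.monic_of_natDegree_le_of_coeff_eq_one N
  · rw [natDegree_le_iff_coeff_eq_zero]
    intro k hk
    have := psiPoly_coeff h k
    rw [if_neg (by omega), Nat.choose_eq_zero_of_lt hk, Nat.cast_zero, zero_mul] at this
    exact (mul_cancel_left_mem_nonZeroDivisors hnz).mp (this.trans (mul_zero _).symm)
  · have := psiPoly_coeff h N
    rw [if_neg (by omega), Nat.choose_self, Nat.cast_one, one_mul] at this
    exact (mul_cancel_left_mem_nonZeroDivisors hnz).mp (this.trans (mul_one _).symm)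

lemma psiPoly_natDegree [Nontrivial R] (hN : 0 < N) (h : SekSuwa.DivCond lam N) :
    (SekSuwa.psiPoly lam N h).natDegree = N := by
  have hnz := h.pow_nzd
  apply le_antisymm
  · rw [natDegree_le_iff_coeff_eq_zero]
    intro k hk
    have := psiPoly_coeff h k
    rw [if_neg (by omega), Nat.choose_eq_zero_of_lt hk, Nat.cast_zero, zero_mul] at this
    exact (mul_cancel_left_mem_nonZeroDivisors hnz).mp (this.trans (mul_zero _).symm)
  · apply le_natDegree_of_ne_zero
    have := psiPoly_coeff h N
    rw [if_neg (by omega), Nat.choose_self, Nat.cast_one, one_mul] at this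
    rw [(mul_cancel_left_mem_nonZeroDivisors hnz).mp (this.trans (mul_one _).symm)]
    exact one_ne_zero

end Poly



section Iso
variable {R : Type u} [CommRing R] {lam : R} {N : ℕ}

lemma root_unit (hN : 0 < N) (h : SekSuwa.DivCond lam N) :
    (1 + lam • (AdjoinRoot.root (SekSuwa.psiPoly lam N h))) *
      (1 + lam • (AdjoinRoot.root (SekSuwa.psiPoly lam N h))) ^ (N - 1) = 1 := by
  rw [← pow_succ', Nat.sub_add_cancel hN]
  have := SekSuwa.aeval_psiPoly h (AdjoinRoot.root (SekSuwa.psiPoly lam N h))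
  rw [AdjoinRoot.aeval_eq, AdjoinRoot.mk_self, mul_zero] at this
  rw [Algebra.smul_def]
  exact (sub_eq_zero.mp this.symm)

/-- forward map -/
noncomputable def fwd (hN : 0 < N) (h : SekSuwa.DivCond lam N) :
    SekSuwa.AK R lam N h →ₐ[R] AdjoinRoot (SekSuwa.psiPoly lam N h) :=
  Ideal.Quotient.liftₐ (SekSuwa.kerIdeal lam N h)
    (SekSuwa.A.lift R lam (AdjoinRoot.root (SekSuwa.psiPoly lam N h)) _ (root_unit hN h)) (by
      intro a ha
      obtain ⟨d, rfl⟩ := Ideal.mem_span_singleton'.mp ha
      rw [map_mul, SekSuwa.kerGen, ← Polynomial.aeval_algHom_apply, SekSuwa.A.lift_t,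
        AdjoinRoot.aeval_eq, AdjoinRoot.mk_self, mul_zero])

lemma fwd_t (hN : 0 < N) (h : SekSuwa.DivCond lam N) :
    fwd hN h (SekSuwa.AK.t) = AdjoinRoot.root (SekSuwa.psiPoly lam N h) := by
  exact SekSuwa.A.lift_t _ _ (root_unit hN h)

lemma fwd_inv (hN : 0 < N) (h : SekSuwa.DivCond lam N) :
    fwd hN h (SekSuwa.AK.inv) = (1 + lam • (AdjoinRoot.root (SekSuwa.psiPoly lam N h))) ^ (N - 1) := by
  exact SekSuwa.A.lift_inv _ _ (root_unit hN h)

/-- backward map -/
noncomputable def bwd (h : SekSuwa.DivCond lam N) :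
    AdjoinRoot (SekSuwa.psiPoly lam N h) →ₐ[R] SekSuwa.AK R lam N h :=
  AdjoinRoot.liftAlgHom (SekSuwa.psiPoly lam N h) (Algebra.ofId R _) SekSuwa.AK.t (by
    have := SekSuwa.AK.aeval_t (R := R) (lam := lam) (N := N) (h := h)
    rw [Polynomial.aeval_def] at this
    exact this)

lemma bwd_root (h : SekSuwa.DivCond lam N) :
    bwd h (AdjoinRoot.root (SekSuwa.psiPoly lam N h)) = SekSuwa.AK.t := by
  exact AdjoinRoot.liftAlgHom_root _ _ _ _

lemma AK_inv_eq (hN : 0 < N) (h : SekSuwa.DivCond lam N) :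
    (SekSuwa.AK.inv : SekSuwa.AK R lam N h) = (1 + lam • SekSuwa.AK.t) ^ (N - 1) := by
  have h1 : (1 + lam • (SekSuwa.AK.t : SekSuwa.AK R lam N h)) * SekSuwa.AK.inv = 1 := by
    have := congrArg (SekSuwa.AK.mkHom R lam N h) (SekSuwa.A.u_mul_inv (R := R) (lam := lam))
    rw [map_mul, map_one, SekSuwa.A.u, map_add, map_one, map_smul] at this
    exact this
  have h2 := SekSuwa.AK.u_pow (R := R) (lam := lam) (N := N) (h := h)
  calc (SekSuwa.AK.inv : SekSuwa.AK R lam N h)
      = (1 + lam • SekSuwa.AK.t) ^ N * SekSuwa.AK.inv := by rw [h2, one_mul]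
    _ = (1 + lam • SekSuwa.AK.t) ^ (N - 1) * ((1 + lam • SekSuwa.AK.t) * SekSuwa.AK.inv) := by
        rw [← mul_assoc, ← pow_succ, Nat.sub_add_cancel hN]
    _ = _ := by rw [h1, mul_one]

/-- the coordinate ring of `G_{λ,N}` is `R[X]/(P)`. -/
noncomputable def equiv (hN : 0 < N) (h : SekSuwa.DivCond lam N) :
    SekSuwa.AK R lam N h ≃ₐ[R] AdjoinRoot (SekSuwa.psiPoly lam N h) :=
  AlgEquiv.ofAlgHom (fwd hN h) (bwd h)
    (by
      apply AdjoinRoot.algHom_ext
      rw [AlgHom.comp_apply, bwd_root, fwd_t]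
      rfl)
    (by
      apply SekSuwa.AK.algHom_ext
      · rw [AlgHom.comp_apply, fwd_t, bwd_root]; rfl
      · rw [AlgHom.comp_apply, fwd_inv, map_pow, map_add, map_one, map_smul, bwd_root,
          ← AK_inv_eq hN h]; rfl)

end Iso




/-- For any commutative ring R, λ ∈ R and N ≥ 1 such that λ is a non-zero-divisor and λ^N divides (1 +
λX)^N − 1 in R[X] with quotient P_{λ,N}, the R-group scheme G_{λ,N}, defined as the closed subscheme
of the affine R-group G^(λ) = Spec R[T, 1/(1+λT)] cut out by P_{λ,N}(T), is finite locally free of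
degree N over Spec R (its coordinate ring is R[T]/(P_{λ,N}(T)) with P_{λ,N} monic of degree N). (The
published text states this over a discrete valuation ring with N = p^n: G_{λ,n} is a commutative
finite flat group scheme of rank p^n.) -/
theorem result (R : Type u) [CommRing R] (lam : R) (N : ℕ) (hN : 0 < N) (h : SekSuwa.DivCond lam N) :
    Mor2.IsFinLocFreeOfDeg N (SekSuwa.GK R lam N h).hom := by
  show Mor2.IsFinLocFreeOfDeg N
    (Spec.map (CommRingCat.ofHom (algebraMap R (SekSuwa.AK R lam N h))))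
  have hmonic := psiPoly_monic hN h
  let e := equiv hN h
  let pb := AdjoinRoot.powerBasis' hmonic
  have hfree' : Module.Free R (AdjoinRoot (SekSuwa.psiPoly lam N h)) :=
    Module.Free.of_basis pb.basis
  have hfin' : Module.Finite R (AdjoinRoot (SekSuwa.psiPoly lam N h)) :=
    Module.Finite.of_basis pb.basis
  have hfree : Module.Free R (SekSuwa.AK R lam N h) :=
    Module.Free.of_equiv e.symm.toLinearEquiv
  have hfin : Module.Finite R (SekSuwa.AK R lam N h) :=
    Module.Finite.equiv e.symm.toLinearEquiv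
  have hflat : Module.Flat R (SekSuwa.AK R lam N h) := inferInstance
  have hfp' : Algebra.FinitePresentation R (AdjoinRoot (SekSuwa.psiPoly lam N h)) := by
    unfold AdjoinRoot
    exact Algebra.FinitePresentation.quotient (Submodule.fg_span_singleton _)
  have hfp : Algebra.FinitePresentation R (SekSuwa.AK R lam N h) :=
    Algebra.FinitePresentation.equiv e.symm
  refine ⟨⟨?_, ?_, ?_⟩, ?_⟩
  · rw [IsFinite.SpecMap_iff]
    exact RingHom.finite_algebraMap.mpr hfin
  · rw [Flat.SpecMap_iff]
    exact RingHom.flat_algebraMap_iff.mpr hflat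
  · rw [LocallyOfFinitePresentation.SpecMap_iff]
    exact RingHom.finitePresentation_algebraMap.mpr hfp
  · intro y
    have hnt : Nontrivial R := (y : PrimeSpectrum R).nontrivial
    rw [Scheme.Hom.finrank_SpecMap_algebraMap R (SekSuwa.AK R lam N h) y,
      Module.rankAtStalk_eq_finrank_of_free, Pi.natCast_def]
    show Module.finrank R (SekSuwa.AK R lam N h) = N
    rw [LinearEquiv.finrank_eq e.toLinearEquiv, pb.finrank, AdjoinRoot.powerBasis'_dim,
      psiPoly_natDegree hN h]


end Groth.Agent.S14694
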