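import Groth.Statements.S14683
import Mathlib
import Groth.Agent.S14694

set_option autoImplicit false
universe u
open CategoryTheory AlgebraicGeometry MonoidalCategory CartesianMonoidalCategory MonObj GrpObj
open SekSuwa

namespace Groth.Agent.S14683

open scoped TensorProduct
universe v


section Cat
variable {C : Type u} [Category.{v} C] [CartesianMonoidalCategory C] {G X : C} [GrpObj G] [GrpObj X]
  (act : G ⊗ X ⟶ X)

lemma act_one (one_act : (η[G] ▷ X) ≫ act = (λ_ X).hom) {T : C} (x : T ⟶ X) :
    lift (1 : T ⟶ G) x ≫ act = x := by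
  have h1 : lift (1 : T ⟶ G) x = lift (toUnit T) x ≫ (η[G] ▷ X) := by
    rw [lift_whiskerRight, Hom.one_def]
  rw [h1, Category.assoc, one_act, lift_leftUnitor_hom]

lemma act_mul (mul_act : (μ[G] ▷ X) ≫ act = (α_ G G X).hom ≫ (G ◁ act) ≫ act) {T : C}
    (g h : T ⟶ G) (x : T ⟶ X) :
    lift (g * h) x ≫ act = lift g (lift h x ≫ act) ≫ act := by
  have h1 : lift (g * h) x = lift (lift g h) x ≫ (μ[G] ▷ X) := by
    rw [lift_whiskerRight, Hom.mul_def]
  rw [h1, Category.assoc, mul_act, lift_lift_associator_hom_assoc, lift_whiskerLeft_assoc]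

/-- the automorphism of the group of `T`-points of `X` given by a `T`-point of `G` -/
noncomputable def autOf (one_act : (η[G] ▷ X) ≫ act = (λ_ X).hom)
    (mul_act : (μ[G] ▷ X) ≫ act = (α_ G G X).hom ≫ (G ◁ act) ≫ act) {T : C}
    (hmul : ∀ (g : T ⟶ G) (x y : T ⟶ X),
      lift g (x * y) ≫ act = (lift g x ≫ act) * (lift g y ≫ act)) (g : T ⟶ G) :
    MulAut (T ⟶ X) where
  toFun x := lift g x ≫ act
  invFun x := lift g⁻¹ x ≫ act
  left_inv x := by
    change lift g⁻¹ (lift g x ≫ act) ≫ act = x
    rw [← act_mul act mul_act, inv_mul_cancel, act_one act one_act]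
  right_inv x := by
    change lift g (lift g⁻¹ x ≫ act) ≫ act = x
    rw [← act_mul act mul_act, mul_inv_cancel, act_one act one_act]
  map_mul' x y := hmul g x y

lemma autOf_mul (one_act : (η[G] ▷ X) ≫ act = (λ_ X).hom)
    (mul_act : (μ[G] ▷ X) ≫ act = (α_ G G X).hom ≫ (G ◁ act) ≫ act) {T : C}
    (hmul : ∀ (g : T ⟶ G) (x y : T ⟶ X),
      lift g (x * y) ≫ act = (lift g x ≫ act) * (lift g y ≫ act)) (g h : T ⟶ G) :
    autOf act one_act mul_act hmul (g * h) =
      autOf act one_act mul_act hmul g * autOf act one_act mul_act hmul h := by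
  ext x
  exact act_mul act mul_act g h x

lemma autOf_one (one_act : (η[G] ▷ X) ≫ act = (λ_ X).hom)
    (mul_act : (μ[G] ▷ X) ≫ act = (α_ G G X).hom ≫ (G ◁ act) ≫ act) {T : C}
    (hmul : ∀ (g : T ⟶ G) (x y : T ⟶ X),
      lift g (x * y) ≫ act = (lift g x ≫ act) * (lift g y ≫ act)) :
    autOf act one_act mul_act hmul (1 : T ⟶ G) = 1 := by
  ext x
  exact act_one act one_act x

/-- group theory: an action by automorphisms of a group of order `p` on a group of order `p` is
trivial -/
lemma act_trivial_of_card (p : ℕ) [Fact p.Prime]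
    (one_act : (η[G] ▷ X) ≫ act = (λ_ X).hom)
    (mul_act : (μ[G] ▷ X) ≫ act = (α_ G G X).hom ≫ (G ◁ act) ≫ act) {T : C}
    (hmul : ∀ (g : T ⟶ G) (x y : T ⟶ X),
      lift g (x * y) ≫ act = (lift g x ≫ act) * (lift g y ≫ act))
    (hG : Nat.card (T ⟶ G) = p) (hX : Nat.card (T ⟶ X) = p) (g : T ⟶ G) (x : T ⟶ X) :
    lift g x ≫ act = x := by
  have hp := (Fact.out : p.Prime)
  haveI : Finite (T ⟶ G) := Nat.finite_of_card_ne_zero (by rw [hG]; exact hp.ne_zero)
  haveI : Finite (T ⟶ X) := Nat.finite_of_card_ne_zero (by rw [hX]; exact hp.ne_zero)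
  let φ : (T ⟶ G) →* MulAut (T ⟶ X) :=
    { toFun := autOf act one_act mul_act hmul
      map_one' := autOf_one act one_act mul_act hmul
      map_mul' := autOf_mul act one_act mul_act hmul }
  haveI : IsCyclic (T ⟶ X) := isCyclic_of_prime_card hX
  have hcard : Nat.card (MulAut (T ⟶ X)) = p - 1 := by
    rw [IsCyclic.card_mulAut, hX, Nat.totient_prime hp]
  have h1 : φ g ^ p = 1 := by
    rw [← map_pow, ← hG, pow_card_eq_one', map_one]
  have h2 : φ g ^ (p - 1) = 1 := by
    rw [← hcard]; exact pow_card_eq_one'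
  have h3 : φ g = 1 := by
    have hcop : Nat.Coprime p (p - 1) := by
      have := hp.two_le
      exact (Nat.coprime_self_sub_right (by omega)).mpr (Nat.coprime_one_right p)
    have := orderOf_dvd_of_pow_eq_one h1
    have h4 := orderOf_dvd_of_pow_eq_one h2
    have h5 : orderOf (φ g) = 1 := Nat.eq_one_of_dvd_coprimes hcop this h4
    exact orderOf_eq_one_iff.mp h5
  have := congrArg (fun ψ : MulAut (T ⟶ X) => ψ x) h3
  exact this

end Cat


section Roots
variable {R : Type u} [CommRing R] (nu : R) (p : ℕ) [Fact p.Prime] (h : SekSuwa.DivCond nu p)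
  (L : Type u) [Field L] [Algebra R L] [IsAlgClosed L] [CharZero L]

/-- number of `p`-th roots of unity -/
lemma card_roots_of_unity : Nat.card {z : L // z ^ p = 1} = p := by
  have hp := (Fact.out : p.Prime)
  haveI : NeZero (p : L) := ⟨by exact_mod_cast hp.ne_zero⟩
  obtain ⟨ζ, hζ⟩ := HasEnoughRootsOfUnity.exists_primitiveRoot L p
  rw [Nat.card_congr (Equiv.subtypeEquivRight
    (fun x => (Polynomial.mem_nthRootsFinset (R := L) hp.pos (1 : L)).symm)),
    Nat.card_eq_fintype_card, Fintype.card_coe, hζ.card_nthRootsFinset]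

include h in
lemma algebraMap_nu_ne_zero (hinj : Function.Injective (algebraMap R L)) :
    algebraMap R L nu ≠ 0 := by
  intro h0
  have h1 : nu = 0 := hinj (by rw [h0, map_zero])
  have h2 := h.nzd
  rw [h1] at h2
  have h3 : (1 : R) = 0 := (mem_nonZeroDivisors_iff_right.mp h2) 1 (by simp)
  have h4 : (1 : L) = 0 := by rw [← map_one (algebraMap R L), h3, map_zero]
  exact one_ne_zero h4

/-- roots of `psiPoly` correspond to `p`-th roots of unity -/
noncomputable def rootsEquiv (hinj : Function.Injective (algebraMap R L)) :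
    {b : L // Polynomial.aeval b (SekSuwa.psiPoly nu p h) = 0} ≃ {z : L // z ^ p = 1} where
  toFun b := ⟨1 + algebraMap R L nu * b.1, by
    have := SekSuwa.aeval_psiPoly h b.1
    rw [b.2, mul_zero] at this
    exact (sub_eq_zero.mp this.symm)⟩
  invFun z := ⟨(z.1 - 1) / algebraMap R L nu, by
    have hnu := algebraMap_nu_ne_zero nu p h L hinj
    have := SekSuwa.aeval_psiPoly h ((z.1 - 1) / algebraMap R L nu)
    rw [mul_div_cancel₀ _ hnu, add_sub_cancel, z.2, sub_self] at this
    have hne : algebraMap R L (nu ^ p) ≠ 0 := by rw [map_pow]; exact pow_ne_zero _ hnu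
    exact (mul_eq_zero.mp this).resolve_left hne⟩
  left_inv b := by
    have hnu := algebraMap_nu_ne_zero nu p h L hinj
    apply Subtype.ext
    simp only
    rw [add_sub_cancel_left, mul_div_cancel_left₀ _ hnu]
  right_inv z := by
    have hnu := algebraMap_nu_ne_zero nu p h L hinj
    apply Subtype.ext
    simp only
    rw [mul_div_cancel₀ _ hnu, add_sub_cancel]

/-- algebra maps out of `AdjoinRoot f` -/
noncomputable def adjoinRootHomEquiv (f : Polynomial R) :
    (AdjoinRoot f →ₐ[R] L) ≃ {b : L // Polynomial.aeval b f = 0} where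
  toFun φ := ⟨φ (AdjoinRoot.root f), by
    rw [Polynomial.aeval_algHom_apply, AdjoinRoot.aeval_eq, AdjoinRoot.mk_self, map_zero]⟩
  invFun b := AdjoinRoot.liftAlgHom f (Algebra.ofId R L) b.1 (by
    have := b.2
    rw [Polynomial.aeval_def] at this
    exact this)
  left_inv φ := by
    apply AdjoinRoot.algHom_ext
    exact AdjoinRoot.liftAlgHom_root _ _ _ _
  right_inv b := by
    apply Subtype.ext
    exact AdjoinRoot.liftAlgHom_root _ _ _ _

lemma card_algHom (hinj : Function.Injective (algebraMap R L)) :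
    Nat.card (SekSuwa.AK R nu p h →ₐ[R] L) = p := by
  have hp := (Fact.out : p.Prime)
  have e1 : (SekSuwa.AK R nu p h →ₐ[R] L) ≃ (AdjoinRoot (SekSuwa.psiPoly nu p h) →ₐ[R] L) :=
    (Groth.Agent.S14694.equiv hp.pos h).arrowCongr AlgEquiv.refl
  rw [Nat.card_congr (e1.trans ((adjoinRootHomEquiv L _).trans (rootsEquiv nu p h L hinj))),
    card_roots_of_unity]

end Roots


section Points
variable (R A L : Type u) [CommRing R] [CommRing A] [CommRing L] [Algebra R A] [Algebra R L]

/-- the `Over (Spec R)`-morphism attached to an algebra map -/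
noncomputable def ofAlgHom (φ : A →ₐ[R] L) :
    (Spec (.of L)).asOver (Spec (.of R)) ⟶ (Spec (.of A)).asOver (Spec (.of R)) :=
  Over.homMk (Spec.map (CommRingCat.ofHom (φ : A →+* L))) (by
    change Spec.map _ ≫ Spec.map (CommRingCat.ofHom (algebraMap R A)) =
      Spec.map (CommRingCat.ofHom (algebraMap R L))
    rw [← Spec.map_comp, ← CommRingCat.ofHom_comp]
    congr 2
    ext r
    exact φ.commutes r)

lemma ofAlgHom_left (φ : A →ₐ[R] L) :
    (ofAlgHom R A L φ).left = Spec.map (CommRingCat.ofHom (φ : A →+* L)) := rfl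

/-- the algebra map attached to a morphism of spectra over `Spec R` -/
noncomputable def toAlgHom' (fl : Spec (CommRingCat.of L) ⟶ Spec (CommRingCat.of A))
    (hw : fl ≫ Spec.map (CommRingCat.ofHom (algebraMap R A)) =
      Spec.map (CommRingCat.ofHom (algebraMap R L))) : A →ₐ[R] L :=
  { (Spec.preimage fl).hom with
    commutes' := by
      intro r
      have h1 : Spec.map (Spec.preimage fl) = fl := Spec.map_preimage _
      rw [← h1, ← Spec.map_comp] at hw
      have h2 := Spec.map_injective hw
      exact congrArg (fun ψ => ψ.hom r) h2 }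

lemma toAlgHom'_spec (fl : Spec (CommRingCat.of L) ⟶ Spec (CommRingCat.of A))
    (hw : fl ≫ Spec.map (CommRingCat.ofHom (algebraMap R A)) =
      Spec.map (CommRingCat.ofHom (algebraMap R L))) :
    Spec.map (CommRingCat.ofHom ((toAlgHom' R A L fl hw : A →ₐ[R] L) : A →+* L)) = fl :=
  Spec.map_preimage fl

/-- the algebra map attached to an `Over (Spec R)`-morphism -/
noncomputable def toAlgHom
    (f : (Spec (.of L)).asOver (Spec (.of R)) ⟶ (Spec (.of A)).asOver (Spec (.of R))) :
    A →ₐ[R] L :=
  toAlgHom' R A L f.left (Over.w f)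

lemma toAlgHom_spec
    (f : (Spec (.of L)).asOver (Spec (.of R)) ⟶ (Spec (.of A)).asOver (Spec (.of R))) :
    Spec.map (CommRingCat.ofHom ((toAlgHom R A L f : A →ₐ[R] L) : A →+* L)) = f.left :=
  toAlgHom'_spec R A L f.left (Over.w f)

noncomputable def pointsEquiv :
    ((Spec (.of L)).asOver (Spec (.of R)) ⟶ (Spec (.of A)).asOver (Spec (.of R))) ≃ (A →ₐ[R] L) where
  toFun := toAlgHom R A L
  invFun := ofAlgHom R A L
  left_inv f := by
    apply Over.OverMorphism.ext
    rw [ofAlgHom_left]
    exact toAlgHom_spec R A L f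
  right_inv φ := by
    have h := toAlgHom_spec R A L (ofAlgHom R A L φ)
    rw [ofAlgHom_left] at h
    have h2 := Spec.map_injective h
    ext a
    exact congrArg (fun ψ => ψ.hom a) h2

end Points


section JI
variable {R : Type u} [CommRing R] (L : Type u) [Field L] [Algebra R L]

/-- joint injectivity of `L`-points on `R[X]/(f) ⊗ R[X]/(g)` when `f`, `g` have as many roots in
`L` as their degrees -/
lemma joint_injective (hinj : Function.Injective (algebraMap R L)) (f g : Polynomial R)
    (hf : f.Monic) (hg : g.Monic)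
    (sf sg : Finset L) (hsf : sf.card = f.natDegree) (hsg : sg.card = g.natDegree)
    (hrf : ∀ b ∈ sf, Polynomial.aeval b f = 0) (hrg : ∀ b ∈ sg, Polynomial.aeval b g = 0)
    (c : AdjoinRoot f ⊗[R] AdjoinRoot g)
    (hc : ∀ ρ : AdjoinRoot f ⊗[R] AdjoinRoot g →ₐ[R] L, ρ c = 0) : c = 0 := by
  classical
  set bf := (AdjoinRoot.powerBasis' hf).basis with hbf
  set bg := (AdjoinRoot.powerBasis' hg).basis with hbg
  set B := bf.tensorProduct bg with hB
  have hbfi : ∀ i, bf i = AdjoinRoot.root f ^ (i : ℕ) := by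
    intro i
    rw [hbf, PowerBasis.basis_eq_pow, AdjoinRoot.powerBasis'_gen]
  have hbgi : ∀ i, bg i = AdjoinRoot.root g ^ (i : ℕ) := by
    intro i
    rw [hbg, PowerBasis.basis_eq_pow, AdjoinRoot.powerBasis'_gen]
  have hdf : (AdjoinRoot.powerBasis' hf).dim = f.natDegree := AdjoinRoot.powerBasis'_dim hf
  have hdg : (AdjoinRoot.powerBasis' hg).dim = g.natDegree := AdjoinRoot.powerBasis'_dim hg
  -- coefficients
  set co := fun i j => algebraMap R L (B.repr c (i, j)) with hco
  -- evaluation at a pair of roots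
  have hev : ∀ β ∈ sf, ∀ gm ∈ sg, ∑ i, ∑ j, co i j * β ^ (i : ℕ) * gm ^ (j : ℕ) = 0 := by
    intro β hβ gm hgm
    have h1 : Polynomial.eval₂ (Algebra.ofId R L : R →+* L) β f = 0 := by
      have := hrf β hβ
      rw [Polynomial.aeval_def] at this
      exact this
    have h2 : Polynomial.eval₂ (Algebra.ofId R L : R →+* L) gm g = 0 := by
      have := hrg gm hgm
      rw [Polynomial.aeval_def] at this
      exact this
    let e1 : AdjoinRoot f →ₐ[R] L := AdjoinRoot.liftAlgHom f (Algebra.ofId R L) β h1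
    let e2 : AdjoinRoot g →ₐ[R] L := AdjoinRoot.liftAlgHom g (Algebra.ofId R L) gm h2
    have he1 : e1 (AdjoinRoot.root f) = β := AdjoinRoot.liftAlgHom_root _ _ _ _
    have he2 : e2 (AdjoinRoot.root g) = gm := AdjoinRoot.liftAlgHom_root _ _ _ _
    let ρ : AdjoinRoot f ⊗[R] AdjoinRoot g →ₐ[R] L :=
      Algebra.TensorProduct.lift e1 e2 (fun _ _ => mul_comm _ _)
    have hρ : ∀ a b, ρ (a ⊗ₜ[R] b) = e1 a * e2 b := fun a b =>
      Algebra.TensorProduct.lift_tmul _ _ _ _ _
    have := hc ρ
    rw [← B.sum_repr c, map_sum, Fintype.sum_prod_type] at this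
    rw [← this]
    refine Finset.sum_congr rfl fun i _ => Finset.sum_congr rfl fun j _ => ?_
    rw [map_smul, hB, Module.Basis.tensorProduct_apply, hρ, hbfi, hbgi,
      map_pow, map_pow, he1, he2, Algebra.smul_def, _root_.mul_assoc]
  -- step 1: for each β and j, ∑ i co i j β^i = 0
  have hstep1 : ∀ β ∈ sf, ∀ j, ∑ i, co i j * β ^ (i : ℕ) = 0 := by
    intro β hβ
    set v : Polynomial L := ∑ j, Polynomial.C (∑ i, co i j * β ^ (i : ℕ)) * Polynomial.X ^ (j : ℕ)
      with hv
    have hvdeg : v.natDegree < sg.card ∨ v = 0 := by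
      by_cases hd0 : g.natDegree = 0
      · right
        rw [hv]
        haveI : IsEmpty (Fin (AdjoinRoot.powerBasis' hg).dim) := by
          rw [hdg, hd0]; exact Fin.isEmpty'
        exact Finset.sum_of_isEmpty _
      · left
        rw [hsg]
        have : v.degree < (g.natDegree : WithBot ℕ) := by
          rw [hv]
          refine lt_of_le_of_lt (Polynomial.degree_sum_le _ _) ?_
          rw [Finset.sup_lt_iff (by exact_mod_cast WithBot.bot_lt_coe _)]
          intro j _
          refine lt_of_le_of_lt (Polynomial.degree_C_mul_X_pow_le _ _) ?_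
          have : (j : ℕ) < g.natDegree := lt_of_lt_of_eq j.2 hdg
          exact_mod_cast this
        by_cases hv0 : v = 0
        · rw [hv0, Polynomial.natDegree_zero]; omega
        · exact (Polynomial.natDegree_lt_iff_degree_lt hv0).mpr this
    have hv0 : v = 0 := by
      rcases hvdeg with hlt | h0
      · apply Polynomial.eq_zero_of_natDegree_lt_card_of_eval_eq_zero' v sg _ hlt
        intro gm hgm
        rw [hv, Polynomial.eval_finset_sum]
        have := hev β hβ gm hgm
        rw [Finset.sum_comm] at this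
        rw [← this]
        refine Finset.sum_congr rfl fun j _ => ?_
        rw [Polynomial.eval_mul, Polynomial.eval_C, Polynomial.eval_pow, Polynomial.eval_X,
          Finset.sum_mul]
      · exact h0
    intro j
    have := congrArg (fun q : Polynomial L => q.coeff (j : ℕ)) hv0
    simp only [hv, Polynomial.finset_sum_coeff, Polynomial.coeff_C_mul, Polynomial.coeff_X_pow,
      Polynomial.coeff_zero] at this
    rw [Finset.sum_eq_single j] at this
    · simpa using this
    · intro j' _ hj'
      rw [if_neg (fun h => hj' (Fin.ext h.symm)), mul_zero]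
    · intro h; exact absurd (Finset.mem_univ j) h
  -- step 2: each co i j = 0
  have hstep2 : ∀ i j, co i j = 0 := by
    intro i j
    set w : Polynomial L := ∑ i, Polynomial.C (co i j) * Polynomial.X ^ (i : ℕ) with hw
    have hwdeg : w.natDegree < sf.card ∨ w = 0 := by
      by_cases hd0 : f.natDegree = 0
      · right
        rw [hw]
        haveI : IsEmpty (Fin (AdjoinRoot.powerBasis' hf).dim) := by
          rw [hdf, hd0]; exact Fin.isEmpty'
        exact Finset.sum_of_isEmpty _
      · left
        rw [hsf]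
        have : w.degree < (f.natDegree : WithBot ℕ) := by
          rw [hw]
          refine lt_of_le_of_lt (Polynomial.degree_sum_le _ _) ?_
          rw [Finset.sup_lt_iff (by exact_mod_cast WithBot.bot_lt_coe _)]
          intro i' _
          refine lt_of_le_of_lt (Polynomial.degree_C_mul_X_pow_le _ _) ?_
          have : (i' : ℕ) < f.natDegree := lt_of_lt_of_eq i'.2 hdf
          exact_mod_cast this
        by_cases hw0 : w = 0
        · rw [hw0, Polynomial.natDegree_zero]; omega
        · exact (Polynomial.natDegree_lt_iff_degree_lt hw0).mpr this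
    have hw0 : w = 0 := by
      rcases hwdeg with hlt | h0
      · apply Polynomial.eq_zero_of_natDegree_lt_card_of_eval_eq_zero' w sf _ hlt
        intro β hβ
        rw [hw, Polynomial.eval_finset_sum]
        rw [← hstep1 β hβ j]
        refine Finset.sum_congr rfl fun i' _ => ?_
        rw [Polynomial.eval_mul, Polynomial.eval_C, Polynomial.eval_pow, Polynomial.eval_X]
      · exact h0
    have := congrArg (fun q : Polynomial L => q.coeff (i : ℕ)) hw0
    simp only [hw, Polynomial.finset_sum_coeff, Polynomial.coeff_C_mul, Polynomial.coeff_X_pow,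
      Polynomial.coeff_zero] at this
    rw [Finset.sum_eq_single i] at this
    · simpa using this
    · intro i' _ hi'
      rw [if_neg (fun h => hi' (Fin.ext h.symm)), mul_zero]
    · intro h; exact absurd (Finset.mem_univ i) h
  -- conclude
  apply B.repr.injective
  rw [map_zero]
  ext ⟨i, j⟩
  have := hstep2 i j
  rw [hco] at this
  simp only at this
  rw [Finsupp.zero_apply]
  exact hinj (by rw [this, map_zero])

end JI


section Glue
variable (R : Type u) [CommRing R]

lemma ofAlgHom_comp (A B L : Type u) [CommRing A] [CommRing B] [CommRing L] [Algebra R A]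
    [Algebra R B] [Algebra R L] (φ : A →ₐ[R] B) (ψ : B →ₐ[R] L) :
    ofAlgHom R A L (ψ.comp φ) = ofAlgHom R B L ψ ≫ ofAlgHom R A B φ := by
  apply Over.OverMorphism.ext
  change Spec.map (CommRingCat.ofHom ((ψ : B →+* L).comp (φ : A →+* B))) =
    Spec.map (CommRingCat.ofHom (ψ : B →+* L)) ≫ Spec.map (CommRingCat.ofHom (φ : A →+* B))
  rw [CommRingCat.ofHom_comp, Spec.map_comp]

lemma ofAlgHom_toAlgHom (A L : Type u) [CommRing A] [CommRing L] [Algebra R A] [Algebra R L]
    (f : (Spec (.of L)).asOver (Spec (.of R)) ⟶ (Spec (.of A)).asOver (Spec (.of R))) :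
    ofAlgHom R A L (toAlgHom R A L f) = f := (pointsEquiv R A L).left_inv f

lemma ofAlgHom_injective (A L : Type u) [CommRing A] [CommRing L] [Algebra R A] [Algebra R L] :
    Function.Injective (ofAlgHom R A L) := (pointsEquiv R A L).symm.injective

end Glue


section Main
variable (R : Type u) [CommRing R] [IsDomain R] [CharZero R]
  (p : ℕ) [Fact p.Prime] (lam mu : R) (h₁ : SekSuwa.DivCond lam p) (h₂ : SekSuwa.DivCond mu p)

/-- the algebraically closed field of points -/
abbrev LL : Type u := AlgebraicClosure (FractionRing R)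

lemma LL_inj : Function.Injective (algebraMap R (LL R)) := by
  rw [IsScalarTower.algebraMap_eq R (FractionRing R) (LL R)]
  exact (algebraMap (FractionRing R) (LL R)).injective.comp (IsFractionRing.injective R _)

instance : CharZero (LL R) := charZero_of_injective_algebraMap (LL_inj R)

lemma card_points (nu : R) (h : SekSuwa.DivCond nu p) :
    Nat.card ((Spec (.of (LL R))).asOver (Spec (.of R)) ⟶ SekSuwa.GK R nu p h) = p := by
  rw [Nat.card_congr (pointsEquiv R (SekSuwa.AK R nu p h) (LL R))]
  exact card_algHom nu p h (LL R) (LL_inj R)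

/-- root finset of `psiPoly` in `LL` -/
lemma exists_root_finset (nu : R) (h : SekSuwa.DivCond nu p) :
    ∃ s : Finset (LL R), s.card = (SekSuwa.psiPoly nu p h).natDegree ∧
      ∀ b ∈ s, Polynomial.aeval b (SekSuwa.psiPoly nu p h) = 0 := by
  have hp := (Fact.out : p.Prime)
  have hc : Nat.card {b : LL R // Polynomial.aeval b (SekSuwa.psiPoly nu p h) = 0} = p := by
    rw [Nat.card_congr (rootsEquiv nu p h (LL R) (LL_inj R)), card_roots_of_unity]
  haveI : Finite {b : LL R // Polynomial.aeval b (SekSuwa.psiPoly nu p h) = 0} :=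
    Nat.finite_of_card_ne_zero (by rw [hc]; exact hp.ne_zero)
  haveI : Fintype {b : LL R // Polynomial.aeval b (SekSuwa.psiPoly nu p h) = 0} := Fintype.ofFinite _
  refine ⟨(Finset.univ : Finset {b : LL R // Polynomial.aeval b (SekSuwa.psiPoly nu p h) = 0}).map
    (Function.Embedding.subtype _), ?_, ?_⟩
  · rw [Finset.card_map, Finset.card_univ, ← Nat.card_eq_fintype_card, hc,
      Groth.Agent.S14694.psiPoly_natDegree hp.pos h]
  · intro b hb
    obtain ⟨⟨b', hb'⟩, -, rfl⟩ := Finset.mem_map.mp hb
    exact hb'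

/-- joint injectivity of `LL`-points on the coordinate ring of the product -/
lemma joint_injective_AK (c : SekSuwa.AK R mu p h₂ ⊗[R] SekSuwa.AK R lam p h₁)
    (hc : ∀ ρ : SekSuwa.AK R mu p h₂ ⊗[R] SekSuwa.AK R lam p h₁ →ₐ[R] LL R, ρ c = 0) : c = 0 := by
  have hp := (Fact.out : p.Prime)
  obtain ⟨s₁, hs₁, hr₁⟩ := exists_root_finset R p lam h₁
  obtain ⟨s₂, hs₂, hr₂⟩ := exists_root_finset R p mu h₂
  let E := Algebra.TensorProduct.congr (Groth.Agent.S14694.equiv hp.pos h₂)
    (Groth.Agent.S14694.equiv hp.pos h₁)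
  have := joint_injective (LL R) (LL_inj R) _ _ (Groth.Agent.S14694.psiPoly_monic hp.pos h₂)
    (Groth.Agent.S14694.psiPoly_monic hp.pos h₁) s₂ s₁ hs₂ hs₁ hr₂ hr₁ (E c) (by
      intro ρ
      have := hc (ρ.comp E.toAlgHom)
      exact this)
  exact E.injective (by rw [this, map_zero])

end Main


section Main
variable (R : Type u) [CommRing R] [IsDomain R] [CharZero R]
  (p : ℕ) [Fact p.Prime] (lam mu : R) (h₁ : SekSuwa.DivCond lam p) (h₂ : SekSuwa.DivCond mu p)
  (a : AlgGrp.Action (SekSuwa.GK R mu p h₂) (SekSuwa.GK R lam p h₁))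
  (hmul : ∀ (T : Over (Spec (CommRingCat.of R))) (g : T ⟶ SekSuwa.GK R mu p h₂)
      (x y : T ⟶ SekSuwa.GK R lam p h₁), lift g (x * y) ≫ a.act = (lift g x ≫ a.act) * (lift g y ≫ a.act))

include hmul in
/-- the action is trivial on `LL`-points -/
lemma trivial_on_LL (g : (Spec (.of (LL R))).asOver (Spec (.of R)) ⟶ SekSuwa.GK R mu p h₂)
    (x : (Spec (.of (LL R))).asOver (Spec (.of R)) ⟶ SekSuwa.GK R lam p h₁) :
    lift g x ≫ a.act = x :=
  act_trivial_of_card a.act p a.one_act a.mul_act (hmul _) (card_points R p mu h₂)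
    (card_points R p lam h₁) g x

/-- the universal point -/
noncomputable abbrev T0 : Over (Spec (CommRingCat.of R)) :=
  (Spec (.of (SekSuwa.AK R mu p h₂ ⊗[R] SekSuwa.AK R lam p h₁))).asOver (Spec (.of R))

noncomputable abbrev g0 : T0 R p lam mu h₁ h₂ ⟶ SekSuwa.GK R mu p h₂ :=
  ofAlgHom R _ _ (Algebra.TensorProduct.includeLeft : SekSuwa.AK R mu p h₂ →ₐ[R]
    SekSuwa.AK R mu p h₂ ⊗[R] SekSuwa.AK R lam p h₁)

noncomputable abbrev x0 : T0 R p lam mu h₁ h₂ ⟶ SekSuwa.GK R lam p h₁ :=
  ofAlgHom R _ _ (Algebra.TensorProduct.includeRight : SekSuwa.AK R lam p h₁ →ₐ[R]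
    SekSuwa.AK R mu p h₂ ⊗[R] SekSuwa.AK R lam p h₁)

include hmul in
lemma universal : lift (g0 R p lam mu h₁ h₂) (x0 R p lam mu h₁ h₂) ≫ a.act = x0 R p lam mu h₁ h₂ := by
  set f₁ := lift (g0 R p lam mu h₁ h₂) (x0 R p lam mu h₁ h₂) ≫ a.act with hf₁
  set f₂ := x0 R p lam mu h₁ h₂ with hf₂
  have key : ∀ ρ : SekSuwa.AK R mu p h₂ ⊗[R] SekSuwa.AK R lam p h₁ →ₐ[R] LL R,
      ofAlgHom R _ _ ρ ≫ f₁ = ofAlgHom R _ _ ρ ≫ f₂ := by
    intro ρ
    rw [hf₁, ← Category.assoc, comp_lift]
    exact trivial_on_LL R p lam mu h₁ h₂ a hmul _ _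
  rw [← ofAlgHom_toAlgHom R _ _ f₁, ← ofAlgHom_toAlgHom R _ _ f₂]
  congr 1
  ext z
  rw [← sub_eq_zero]
  apply joint_injective_AK R p lam mu h₁ h₂
  intro ρ
  rw [map_sub, sub_eq_zero]
  have h := key ρ
  rw [← ofAlgHom_toAlgHom R _ _ f₁, ← ofAlgHom_toAlgHom R _ _ f₂, ← ofAlgHom_comp,
    ← ofAlgHom_comp] at h
  have h' := ofAlgHom_injective R _ _ h
  exact congrArg (fun ψ : SekSuwa.AK R lam p h₁ →ₐ[R] LL R => ψ z) h'

include hmul in
/-- the affine case -/
lemma affine_case (B : Type u) [CommRing B] [Algebra R B]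
    (g : (Spec (.of B)).asOver (Spec (.of R)) ⟶ SekSuwa.GK R mu p h₂)
    (x : (Spec (.of B)).asOver (Spec (.of R)) ⟶ SekSuwa.GK R lam p h₁) :
    lift g x ≫ a.act = x := by
  let gam := toAlgHom R _ _ g
  let xi := toAlgHom R _ _ x
  let hh : (Spec (.of B)).asOver (Spec (.of R)) ⟶ T0 R p lam mu h₁ h₂ :=
    ofAlgHom R _ _ (Algebra.TensorProduct.lift gam xi (fun _ _ => Commute.all _ _))
  have hg : hh ≫ g0 R p lam mu h₁ h₂ = g := by
    rw [← ofAlgHom_comp]
    have e1 : (Algebra.TensorProduct.lift gam xi (fun _ _ => Commute.all _ _)).comp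
        Algebra.TensorProduct.includeLeft = gam := Algebra.TensorProduct.lift_comp_includeLeft _ _ _
    rw [e1]
    exact ofAlgHom_toAlgHom R _ _ g
  have hx : hh ≫ x0 R p lam mu h₁ h₂ = x := by
    rw [← ofAlgHom_comp]
    have e2 : (Algebra.TensorProduct.lift gam xi (fun _ _ => Commute.all _ _)).comp
        Algebra.TensorProduct.includeRight = xi := by
      ext z
      simp
    rw [e2]
    exact ofAlgHom_toAlgHom R _ _ x
  have hu := universal R p lam mu h₁ h₂ a hmul
  calc lift g x ≫ a.act = lift (hh ≫ g0 R p lam mu h₁ h₂) (hh ≫ x0 R p lam mu h₁ h₂) ≫ a.act := by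
        rw [hg, hx]
    _ = hh ≫ (lift (g0 R p lam mu h₁ h₂) (x0 R p lam mu h₁ h₂) ≫ a.act) := by
        rw [← Category.assoc, comp_lift]
    _ = x := by rw [hu, hx]

end Main

/-- Let R be a discrete valuation ring of characteristic zero and residue characteristic p, and let λ, μ
∈ R satisfy the divisibility condition under which the finite R-group schemes G_{λ,1} and G_{μ,1}
(the kernels of the isogenies ψ of the one-parameter groups with law s + t + λst, resp. μ) are
defined. Then every action of G_{μ,1} on G_{λ,1} by group automorphisms is trivial: for every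
R-scheme T and all T-valued points g of G_{μ,1} and x of G_{λ,1}, g · x = x. An action by group
automorphisms is an action of the group scheme G_{μ,1} on the scheme G_{λ,1} whose action map is
multiplicative in the second variable on points. (The published statement is made under standing
assumptions that R contains a primitive p²-th root of unity and that λ, μ have positive valuation;
this row drops both, which the argument does not use.) -/
theorem result (R : Type u) [CommRing R] [IsDomain R] [IsDiscreteValuationRing R] [CharZero R]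
    (p : ℕ) [Fact p.Prime] [CharP (IsLocalRing.ResidueField R) p]
    (lam mu : R) (h₁ : SekSuwa.DivCond lam p) (h₂ : SekSuwa.DivCond mu p)
    (a : AlgGrp.Action (SekSuwa.GK R mu p h₂) (SekSuwa.GK R lam p h₁))
    (hmul : ∀ (T : Over (Spec (CommRingCat.of R))) (g : T ⟶ SekSuwa.GK R mu p h₂)
      (x y : T ⟶ SekSuwa.GK R lam p h₁), lift g (x * y) ≫ a.act = (lift g x ≫ a.act) * (lift g y ≫ a.act))
    (T : Over (Spec (CommRingCat.of R))) (g : T ⟶ SekSuwa.GK R mu p h₂) (x : T ⟶ SekSuwa.GK R lam p h₁) :
    lift g x ≫ a.act = x := by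
  apply Over.OverMorphism.ext
  apply Scheme.Cover.hom_ext T.left.affineOpenCover.openCover
  intro i
  let B : CommRingCat := T.left.affineOpenCover.X i
  let j : Spec B ⟶ T.left := T.left.affineOpenCover.f i
  let ψ : CommRingCat.of R ⟶ B := Spec.preimage (j ≫ T.hom)
  have hψ : Spec.map ψ = j ≫ T.hom := Spec.map_preimage _
  letI : Algebra R B := ψ.hom.toAlgebra
  let J : (Spec (.of B)).asOver (Spec (.of R)) ⟶ T := Over.homMk j hψ.symm
  have key := affine_case R p lam mu h₁ h₂ a hmul B (J ≫ g) (J ≫ x)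
  have e : J ≫ (lift g x ≫ a.act) = J ≫ x := by
    rw [← Category.assoc, comp_lift]; exact key
  exact congrArg (fun φ => φ.left) e

end Groth.Agent.S14683
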