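import Groth.Statements.S1469
import Mathlib
import Groth.Agent.Lib.Helper24.SmoothNormal

set_option autoImplicit false
universe u
open FlatMor

namespace Groth.Agent.S1469

open scoped TensorProduct in
/-- A smooth algebra is a normal homomorphism. -/
theorem isNormalHom_of_smooth (A B : Type u) [CommRing A] [CommRing B] [Algebra A B]
    [Algebra.Smooth A B] : EGA4.IsNormalHom A B := by
  refine ⟨Algebra.Smooth.flat A B, fun p _ k' _ _ _ => ?_⟩
  exact Groth.Agent.Lib.Helper24.isNormalRing_of_smooth_of_isIntegrallyClosed k'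
    (k' ⊗[p.ResidueField] (p.Fiber B))

open AlgebraicGeometry CategoryTheory Limits in
/-- A smooth morphism is normal; concretely, for affine opens U ⊆ f⁻¹(V) the ring map O_Y(V) → O_X(U) is
flat with geometrically normal fibre rings. -/
theorem result {X Y : Scheme.{u}} (f : X ⟶ Y) [Smooth f] (U : X.Opens) (V : Y.Opens) (hU : IsAffineOpen U) (hV : IsAffineOpen V) (hUV : U ≤ f ⁻¹ᵁ V) :
    letI := (f.appLE V U hUV).hom.toAlgebra
    EGA4.IsNormalHom Γ(Y, V) Γ(X, U) := by
  have h := f.smooth_appLE hV hU hUV
  algebraize [(f.appLE V U hUV).hom]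
  exact isNormalHom_of_smooth Γ(Y, V) Γ(X, U)

end Groth.Agent.S1469
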