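import Groth.Statements.S14692
import Mathlib

set_option autoImplicit false
universe u
open CAlg

namespace Groth.Agent.S14692

open Polynomial

/-- geometric-sum bound -/
lemma pow_le_add_pow (p a n : ℕ) (hp : 1 ≤ p) (h : a ≤ n) :
    p ^ n ≤ (n - a) * ((p - 1) * p ^ (n - 1)) + p ^ a := by
  induction n, h using Nat.le_induction with
  | base => simp
  | succ m hm ih =>
    obtain ⟨q, rfl⟩ : ∃ q, p = q + 1 := ⟨p - 1, by omega⟩
    have e1 : m + 1 - a = (m - a) + 1 := by omega
    have e2 : m + 1 - 1 = m := by omega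
    have e3 : q + 1 - 1 = q := by omega
    rw [e1, e2, e3]
    rw [e3] at ih
    have hmono : (q + 1) ^ (m - 1) ≤ (q + 1) ^ m := Nat.pow_le_pow_right (by omega) (by omega)
    have h1 : (m - a) * (q * (q + 1) ^ (m - 1)) ≤ (m - a) * (q * (q + 1) ^ m) :=
      Nat.mul_le_mul_left _ (Nat.mul_le_mul_left _ hmono)
    calc (q + 1) ^ (m + 1) = (q + 1) ^ m + q * (q + 1) ^ m := by ring
      _ ≤ ((m - a) * (q * (q + 1) ^ (m - 1)) + (q + 1) ^ a) + q * (q + 1) ^ m := by omega
      _ ≤ ((m - a) * (q * (q + 1) ^ m) + (q + 1) ^ a) + q * (q + 1) ^ m := by omega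
      _ = (m - a + 1) * (q * (q + 1) ^ m) + (q + 1) ^ a := by ring

/-- divisibility of binomial coefficients by powers of a uniformizer -/
lemma pow_dvd_choose {R : Type*} [CommRing R] (p : ℕ) (hp : p.Prime) (n : ℕ) (ϖ : R) (J : ℕ)
    (hJ : ϖ ^ (p ^ (n - 1) * (p - 1) * J) ∣ (p : R)) (i : ℕ) (hi0 : i ≠ 0) (hi : i < p ^ n) :
    ϖ ^ (J * (p ^ n - i)) ∣ ((Nat.choose (p ^ n) i : ℕ) : R) := by
  set a := multiplicity p i with ha
  have hfin : FiniteMultiplicity p i := Nat.finiteMultiplicity_iff.2 ⟨hp.ne_one, Nat.pos_of_ne_zero hi0⟩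
  have hpa : p ^ a ∣ i := pow_multiplicity_dvd p i
  have hpai : p ^ a ≤ i := Nat.le_of_dvd (Nat.pos_of_ne_zero hi0) hpa
  have han : a ≤ n := by
    by_contra hcon
    push Not at hcon
    have : p ^ n ≤ p ^ a := Nat.pow_le_pow_right hp.pos hcon.le
    omega
  have hmul := hp.emultiplicity_choose_prime_pow hi.le hi0
  have hdvd : p ^ (n - a) ∣ Nat.choose (p ^ n) i := by
    apply pow_dvd_of_le_emultiplicity
    rw [hmul]
  have hdvdR : ((p : R)) ^ (n - a) ∣ ((Nat.choose (p ^ n) i : ℕ) : R) := by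
    have := Nat.cast_dvd_cast (α := R) hdvd
    rwa [Nat.cast_pow] at this
  have h2 : (ϖ ^ (p ^ (n - 1) * (p - 1) * J)) ^ (n - a) ∣ ((p : R)) ^ (n - a) := pow_dvd_pow_of_dvd hJ _
  have h3 : J * (p ^ n - i) ≤ (p ^ (n - 1) * (p - 1) * J) * (n - a) := by
    have h4 := pow_le_add_pow p a n hp.pos han
    have h5 : p ^ n - i ≤ (n - a) * ((p - 1) * p ^ (n - 1)) := by omega
    calc J * (p ^ n - i) ≤ J * ((n - a) * ((p - 1) * p ^ (n - 1))) := Nat.mul_le_mul_left _ h5
      _ = (p ^ (n - 1) * (p - 1) * J) * (n - a) := by ring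
  rw [← pow_mul] at h2
  exact ((pow_dvd_pow ϖ h3).trans h2).trans hdvdR

lemma one_add_mul_pow {S : Type*} [CommRing S] (t x : S) (M : ℕ) (d : ℕ → S)
    (hd : ∀ i < M, ((Nat.choose (M + 1) (i + 1) : ℕ) : S) = d (i + 1) * t ^ (M - i)) :
    (1 + t * x) ^ (M + 1) =
      1 + t ^ (M + 1) * (x ^ (M + 1) + ∑ i ∈ Finset.range M, d (i + 1) * x ^ (i + 1)) := by
  rw [add_comm 1 (t * x), add_pow, Finset.sum_range_succ, Finset.sum_range_succ']
  simp only [one_pow, mul_one, pow_zero, Nat.choose_zero_right, Nat.cast_one, Nat.choose_self,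
    Nat.sub_self]
  have hmid : ∑ i ∈ Finset.range M, (t * x) ^ (i + 1) * ((Nat.choose (M + 1) (i + 1) : ℕ) : S) =
      t ^ (M + 1) * ∑ i ∈ Finset.range M, d (i + 1) * x ^ (i + 1) := by
    rw [Finset.mul_sum]
    refine Finset.sum_congr rfl fun i hi => ?_
    have hiM : i < M := Finset.mem_range.1 hi
    rw [hd i hiM, mul_pow]
    have : t ^ (M + 1) = t ^ (i + 1) * t ^ (M - i) := by
      rw [← pow_add]; congr 1; omega
    rw [this]; ring
  rw [hmid, mul_pow]
  ring

/-- an element satisfying a monic relation with coefficients from `A` is integral -/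
lemma isIntegral_of_pow_eq {A L : Type*} [CommRing A] [CommRing L] [Algebra A L] (w : L) (M : ℕ)
    (e : ℕ → A) (h : w ^ (M + 1) + ∑ k ∈ Finset.range (M + 1), algebraMap A L (e k) * w ^ k = 0) :
    IsIntegral A w := by
  refine ⟨X ^ (M + 1) + ∑ k : Fin (M + 1), C (e k) * X ^ (k : ℕ), ?_, ?_⟩
  · apply Polynomial.monic_X_pow_add
    exact Polynomial.degree_sum_fin_lt _
  · rw [eval₂_add, eval₂_pow, eval₂_X, eval₂_finsetSum]
    rw [Fin.sum_univ_eq_sum_range (fun k => eval₂ (algebraMap A L) w (C (e k) * X ^ k)) (M + 1)]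
    simp only [eval₂_mul, eval₂_C, eval₂_pow, eval₂_X]
    exact h

/-- Step A: the element `w = (z - 1)/π^j` and its monic relation. -/
lemma stepA {A L : Type*} [CommRing A] [CommRing L] [Algebra A L]
    (π : A) (πinv : L) (hπinv : algebraMap A L π * πinv = 1)
    (M : ℕ) (z : L) (j : ℕ) (f₀ : A)
    (hz : z ^ (M + 1) = 1 + algebraMap A L π ^ (j * (M + 1)) * algebraMap A L f₀)
    (c : ℕ → A)
    (hc : ∀ i < M, ((Nat.choose (M + 1) (i + 1) : ℕ) : A) = c (i + 1) * π ^ ((j + 1) * (M - i))) :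
    ∃ w : L, z = 1 + algebraMap A L π ^ j * w ∧
      w ^ (M + 1) + ∑ i ∈ Finset.range M,
        algebraMap A L (c (i + 1) * π ^ (M - i)) * w ^ (i + 1) = algebraMap A L f₀ := by
  set ι := algebraMap A L with hι
  have hinvj : ι π ^ j * πinv ^ j = 1 := by rw [← mul_pow, hπinv, one_pow]
  refine ⟨(z - 1) * πinv ^ j, ?_, ?_⟩
  · have : ι π ^ j * ((z - 1) * πinv ^ j) = (z - 1) * (ι π ^ j * πinv ^ j) := by ring
    rw [this, hinvj]; ring
  · set w := (z - 1) * πinv ^ j with hw
    have hzw : z = 1 + ι π ^ j * w := by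
      have : ι π ^ j * ((z - 1) * πinv ^ j) = (z - 1) * (ι π ^ j * πinv ^ j) := by ring
      rw [hw, this, hinvj]; ring
    have hexp := one_add_mul_pow (ι π ^ j) w M (fun i => ι (c i * π ^ (M + 1 - i))) (by
      intro i hi
      have h1 := congrArg ι (hc i hi)
      rw [map_natCast] at h1
      rw [h1]
      simp only [map_mul, map_pow]
      have e1 : M + 1 - (i + 1) = M - i := by omega
      rw [e1, ← pow_mul, mul_assoc (ι (c (i + 1))), ← pow_add]
      congr 2
      ring)
    rw [← hzw, hz] at hexp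
    have hunit : IsUnit ((ι π ^ j) ^ (M + 1)) := by
      apply IsUnit.pow
      exact IsUnit.of_mul_eq_one _ hinvj
    have e2 : ι π ^ (j * (M + 1)) = (ι π ^ j) ^ (M + 1) := by rw [pow_mul]
    rw [e2] at hexp
    have h3 := hunit.mul_left_cancel (add_left_cancel hexp)
    rw [h3]
    congr 1
    refine Finset.sum_congr rfl fun i _ => ?_
    have e1 : M + 1 - (i + 1) = M - i := by omega
    simp only [e1]

lemma sub_pow_mem_of_prime_mem {B : Type*} [CommRing B] (I : Ideal B) (p n : ℕ) (hp : p.Prime)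
    (hpI : (p : B) ∈ I) (x y : B) (h : x ^ (p ^ n) - y ^ (p ^ n) ∈ I) : (x - y) ^ (p ^ n) ∈ I := by
  by_cases hI : I = ⊤
  · rw [hI]; trivial
  · have : Nontrivial (B ⧸ I) := Ideal.Quotient.nontrivial_iff.2 hI
    have : Fact p.Prime := ⟨hp⟩
    have hchar : CharP (B ⧸ I) p := by
      rw [CharP.charP_iff_prime_eq_zero hp]
      have := Ideal.Quotient.eq_zero_iff_mem.2 hpI
      rwa [map_natCast] at this
    rw [← Ideal.Quotient.eq_zero_iff_mem, map_pow, map_sub, sub_pow_char_pow, ← map_pow, ← map_pow,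
      ← map_sub, Ideal.Quotient.eq_zero_iff_mem]
    exact h

lemma stepB {A B : Type*} [CommRing A] [CommRing B] [Algebra A B] (π : A)
    (hred : (Ideal.span {algebraMap A B π}).IsRadical) (p n : ℕ) (hp : p.Prime) (M : ℕ)
    (hN : p ^ n = M + 1) (hpπ : π ∣ (p : A)) (w : B) (c : ℕ → A) (f₀ g₀ a₀ : A)
    (hrel : w ^ (M + 1) + ∑ i ∈ Finset.range M,
        algebraMap A B (c (i + 1) * π ^ (M - i)) * w ^ (i + 1) = algebraMap A B f₀)
    (ha₀ : f₀ - g₀ ^ (M + 1) = π * a₀) :
    ∃ w' : B, w = algebraMap A B g₀ + algebraMap A B π * w' := by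
  set ι := algebraMap A B with hι
  set I := Ideal.span {ι π} with hI
  have hπI : ι π ∈ I := Ideal.subset_span rfl
  have h1 : w ^ (M + 1) - (ι g₀) ^ (M + 1) ∈ I := by
    have e : w ^ (M + 1) - (ι g₀) ^ (M + 1) = ι (π * a₀) -
        ∑ i ∈ Finset.range M, ι (c (i + 1) * π ^ (M - i)) * w ^ (i + 1) := by
      rw [← ha₀, map_sub, map_pow, ← hrel]; ring
    rw [e]
    apply I.sub_mem
    · rw [map_mul]; exact I.mul_mem_right _ hπI
    · apply I.sum_mem
      intro i hi
      have hiM : i < M := Finset.mem_range.1 hi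
      obtain ⟨k, hk⟩ : ∃ k, M - i = k + 1 := ⟨M - i - 1, by omega⟩
      rw [hk, pow_succ, ← mul_assoc, map_mul, mul_comm _ (ι π), mul_assoc]
      exact I.mul_mem_right _ hπI
  have hpI : (p : B) ∈ I := by
    obtain ⟨t, ht⟩ := hpπ
    have := congrArg ι ht
    rw [map_natCast, map_mul] at this
    rw [this]
    exact I.mul_mem_right _ hπI
  have h2 : (w - ι g₀) ^ (p ^ n) ∈ I := by
    apply sub_pow_mem_of_prime_mem I p n hp hpI
    rw [hN]; exact h1
  have h3 : w - ι g₀ ∈ I := hred ⟨_, h2⟩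
  obtain ⟨w', hw'⟩ := Ideal.mem_span_singleton.1 h3
  exact ⟨w', by rw [← hw']; ring⟩

lemma stepC {A B : Type*} [CommRing A] [CommRing B] [Algebra A B] [Algebra.IsIntegral A B]
    (hinj : Function.Injective (algebraMap A B)) (π u₀ : A) (zB x : B) (hz : IsUnit zB)
    (hk : zB = algebraMap A B u₀ + algebraMap A B π * x) :
    IsUnit (Ideal.Quotient.mk (Ideal.span {π}) u₀) := by
  by_contra h
  obtain ⟨m', hm', hu⟩ := exists_max_ideal_of_mem_nonunits (mem_nonunits_iff.2 h)
  set m := m'.comap (Ideal.Quotient.mk (Ideal.span {π})) with hm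
  have hmprime : m.IsPrime := Ideal.comap_isPrime _ m'
  have hπm : π ∈ m := by
    rw [hm, Ideal.mem_comap]
    have : Ideal.Quotient.mk (Ideal.span {π}) π = 0 :=
      Ideal.Quotient.eq_zero_iff_mem.2 (Ideal.subset_span rfl)
    rw [this]; exact m'.zero_mem
  have hum : u₀ ∈ m := by rw [hm, Ideal.mem_comap]; exact hu
  obtain ⟨Q, -, hQprime, hQ⟩ := Ideal.exists_ideal_over_prime_of_isIntegral m (⊥ : Ideal B) (by
    rw [← RingHom.ker_eq_comap_bot, (RingHom.injective_iff_ker_eq_bot _).1 hinj]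
    exact bot_le)
  have h1 : algebraMap A B u₀ ∈ Q := by
    rw [← Ideal.mem_comap, hQ]; exact hum
  have h2 : algebraMap A B π ∈ Q := by
    rw [← Ideal.mem_comap, hQ]; exact hπm
  have h3 : zB ∈ Q := by
    rw [hk]; exact Q.add_mem h1 (Q.mul_mem_right _ h2)
  exact hQprime.ne_top (Ideal.eq_top_of_isUnit_mem _ h3 hz)

theorem core {A : Type u} [CommRing A]
    (π : A) (L : Type u) [CommRing L] [Algebra A L]
    (hinj : Function.Injective (algebraMap A L)) (hπL : IsUnit (algebraMap A L π))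
    (hclosed : ∀ x : L, IsIntegral A x → ∀ (k : ℕ) (a : A),
      algebraMap A L π ^ k * x = algebraMap A L a → ∃ c : A, algebraMap A L c = x)
    (hred : (Ideal.span {algebraMap A (integralClosure A L) π}).IsRadical)
    (hlift : ∀ a : A, IsUnit (Ideal.Quotient.mk (Ideal.span {π}) a) → IsUnit a)
    (p n : ℕ) (hp : p.Prime) (M : ℕ) (hN : p ^ n = M + 1) (hpπ : π ∣ (p : A))
    (Z : L) (f g : Aˣ) (hZ : Z ^ (M + 1) = algebraMap A L f)
    (j : ℕ) (f₀ : A) (hfg : (f : A) * (g : A) ^ (M + 1) = 1 + π ^ (j * (M + 1)) * f₀)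
    (hmax : ∀ (g' : Aˣ) (c : A), (f : A) * (g' : A) ^ (M + 1) ≠ 1 + π ^ ((j + 1) * (M + 1)) * c)
    (c : ℕ → A)
    (hc : ∀ i < M, ((Nat.choose (M + 1) (i + 1) : ℕ) : A) = c (i + 1) * π ^ ((j + 1) * (M - i)))
    (g₀ : A) : f₀ - g₀ ^ (M + 1) ∉ Ideal.span {π} := by
  intro hmem
  obtain ⟨a₀, ha₀⟩ := Ideal.mem_span_singleton.1 hmem
  set ι := algebraMap A L with hι
  obtain ⟨πinv, hπinv⟩ := hπL.exists_right_inv
  set z : L := Z * ι g with hzdef
  have hz : z ^ (M + 1) = 1 + ι π ^ (j * (M + 1)) * ι f₀ := by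
    rw [hzdef, mul_pow, hZ, ← map_pow, ← map_mul, hfg, map_add, map_one, map_mul, map_pow]
  obtain ⟨w, hzw, hrel⟩ := stepA π πinv hπinv M z j f₀ hz c hc
  -- `w` is integral
  have hwint : IsIntegral A w := by
    apply isIntegral_of_pow_eq w M (fun k => if k = 0 then -f₀ else c k * π ^ (M + 1 - k))
    rw [Finset.sum_range_succ']
    simp only [Nat.succ_ne_zero, if_false, if_true, pow_zero, mul_one, Nat.add_sub_add_right,
      map_neg]
    rw [← add_assoc, hrel, add_neg_cancel]
  set B := integralClosure A L with hB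
  set wB : B := ⟨w, hwint⟩ with hwB
  have hrelB : wB ^ (M + 1) + ∑ i ∈ Finset.range M,
      algebraMap A B (c (i + 1) * π ^ (M - i)) * wB ^ (i + 1) = algebraMap A B f₀ := by
    apply Subtype.ext
    simp only [Subalgebra.coe_add, Subalgebra.coe_pow, AddSubmonoidClass.coe_finsetSum,
      Subalgebra.coe_mul, Subalgebra.coe_algebraMap]
    exact hrel
  obtain ⟨w'B, hw'B⟩ := stepB π hred p n hp M hN hpπ wB c f₀ g₀ a₀ hrelB ha₀
  have hw' : w = ι g₀ + ι π * (w'B : L) := by
    have := congrArg Subtype.val hw'B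
    simpa using this
  -- the unit `u₀ = 1 + π^j g₀`
  set u₀ : A := 1 + π ^ j * g₀ with hu₀def
  have hzu : z = ι u₀ + ι π * (ι π ^ j * (w'B : L)) := by
    rw [hzw, hw', hu₀def, map_add, map_one, map_mul, map_pow]; ring
  have hzint : IsIntegral A z := by
    rw [hzw]
    exact isIntegral_one.add ((isIntegral_algebraMap.pow j).mul hwint)
  set zB : B := ⟨z, hzint⟩ with hzB
  have hzBunit : IsUnit zB := by
    have hpow : IsUnit (zB ^ (M + 1)) := by
      have e : zB ^ (M + 1) = algebraMap A B ((f * g ^ (M + 1) : Aˣ) : A) := by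
        apply Subtype.ext
        simp only [Subalgebra.coe_pow, Subalgebra.coe_algebraMap, Units.val_mul, Units.val_pow_eq_pow_val]
        show z ^ (M + 1) = ι ((f : A) * (g : A) ^ (M + 1))
        rw [hzdef, mul_pow, hZ, ← map_pow, ← map_mul]
      rw [e]
      exact (Units.isUnit _).map _
    exact (isUnit_pow_iff (Nat.succ_ne_zero M)).1 hpow
  have hinjB : Function.Injective (algebraMap A B) := by
    intro x y h
    apply hinj
    have := congrArg Subtype.val h
    simpa using this
  have hu₀ : IsUnit (Ideal.Quotient.mk (Ideal.span {π}) u₀) := by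
    apply stepC hinjB π u₀ zB (algebraMap A B π ^ j * w'B) hzBunit
    apply Subtype.ext
    simp only [Subalgebra.coe_add, Subalgebra.coe_mul, Subalgebra.coe_pow, Subalgebra.coe_algebraMap]
    exact hzu
  obtain ⟨u, hu⟩ := hlift u₀ hu₀
  -- the new `g'`
  set g' : Aˣ := g * u⁻¹ with hg'
  set w'' : L := (w'B : L) * ι ((u⁻¹ : Aˣ) : A) with hw''
  have huinv : ι u₀ * ι ((u⁻¹ : Aˣ) : A) = 1 := by
    rw [← hu, ← map_mul, Units.mul_inv, map_one]
  have hzu' : z * ι ((u⁻¹ : Aˣ) : A) = 1 + ι π ^ (j + 1) * w'' := by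
    rw [hzu, add_mul, huinv, hw'', pow_succ]; ring
  have hexp2 := one_add_mul_pow (ι π ^ (j + 1)) w'' M (fun i => ι (c i)) (by
    intro i hi
    have h1 := congrArg ι (hc i hi)
    rw [map_natCast] at h1
    rw [h1, map_mul, map_pow, pow_mul])
  rw [← hzu'] at hexp2
  have hlhs : (z * ι ((u⁻¹ : Aˣ) : A)) ^ (M + 1) = ι ((f : A) * (g' : A) ^ (M + 1)) := by
    rw [hzdef, hg', mul_pow, mul_pow, hZ, Units.val_mul, mul_pow, map_mul, map_mul, map_pow, map_pow,
      mul_assoc]
  set x : L := w'' ^ (M + 1) + ∑ i ∈ Finset.range M, ι (c (i + 1)) * w'' ^ (i + 1) with hx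
  have hw''int : IsIntegral A w'' := w'B.2.mul isIntegral_algebraMap
  have hxint : IsIntegral A x := by
    apply IsIntegral.add (hw''int.pow _)
    apply IsIntegral.sum
    intro i _
    exact isIntegral_algebraMap.mul (hw''int.pow _)
  have hxeq : ι π ^ ((j + 1) * (M + 1)) * x = ι ((f : A) * (g' : A) ^ (M + 1) - 1) := by
    rw [map_sub, map_one, ← hlhs, hexp2, pow_mul]; ring
  obtain ⟨c₀, hc₀⟩ := hclosed x hxint _ _ hxeq
  apply hmax g' c₀
  apply hinj
  rw [← hlhs, hexp2, ← hc₀, map_add, map_one, map_mul, map_pow, pow_mul]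

/-- property (P) for `AdjoinRoot` over a localization of an integrally closed domain -/
lemma closedProp {A : Type u} [CommRing A] [IsDomain A] [IsIntegrallyClosed A] (π : A) (hπ0 : π ≠ 0)
    (q : (Localization.Away π)[X]) (hq : q.degree ≠ 0)
    (x : AdjoinRoot q) (hx : IsIntegral A x) (k : ℕ) (a : A)
    (hxa : algebraMap A (AdjoinRoot q) π ^ k * x = algebraMap A (AdjoinRoot q) a) :
    ∃ c : A, algebraMap A (AdjoinRoot q) c = x := by
  have hdom : IsDomain (Localization.Away π) :=
    IsLocalization.isDomain_localization (M := Submonoid.powers π)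
      (powers_le_nonZeroDivisors_of_noZeroDivisors hπ0)
  have hofinj : Function.Injective (algebraMap (Localization.Away π) (AdjoinRoot q)) :=
    AdjoinRoot.of.injective_of_degree_ne_zero hq
  set K := FractionRing A
  -- the element `a / π^k` of the localization
  set y₀ : Localization.Away π :=
    IsLocalization.mk' (Localization.Away π) a (⟨π ^ k, k, rfl⟩ : Submonoid.powers π) with hy₀
  have hy₀spec : algebraMap A (Localization.Away π) (π ^ k) * y₀ = algebraMap A (Localization.Away π) a := by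
    rw [hy₀, mul_comm]
    exact IsLocalization.mk'_spec _ _ _
  have hπunit : IsUnit (algebraMap A (AdjoinRoot q) π) := by
    rw [IsScalarTower.algebraMap_apply A (Localization.Away π) (AdjoinRoot q)]
    exact (IsLocalization.Away.algebraMap_isUnit π).map _
  have hofy : algebraMap (Localization.Away π) (AdjoinRoot q) y₀ = x := by
    apply (hπunit.pow k).mul_left_cancel
    rw [hxa, IsScalarTower.algebraMap_apply A (Localization.Away π) (AdjoinRoot q) a, ← hy₀spec,
      map_mul, map_pow, map_pow, ← IsScalarTower.algebraMap_apply]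
  have hy₀int : IsIntegral A y₀ := by
    rw [← isIntegral_algHom_iff (IsScalarTower.toAlgHom A (Localization.Away π) (AdjoinRoot q)) hofinj]
    have e : (IsScalarTower.toAlgHom A (Localization.Away π) (AdjoinRoot q)) y₀ = x := hofy
    rw [e]; exact hx
  -- map to the fraction field
  have hunitK : ∀ y : Submonoid.powers π, IsUnit ((Algebra.ofId A K) y) := by
    rintro ⟨_, m, rfl⟩
    apply IsUnit.mk0
    simp only [Algebra.ofId_apply, map_pow]
    exact pow_ne_zero _ ((map_ne_zero_iff _ (IsFractionRing.injective A K)).2 hπ0)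
  set φ : Localization.Away π →ₐ[A] K := IsLocalization.liftAlgHom (M := Submonoid.powers π) hunitK
  have hφint : IsIntegral A (φ y₀) := hy₀int.map φ
  obtain ⟨c, hc⟩ := IsIntegrallyClosed.isIntegral_iff.1 hφint
  refine ⟨c, ?_⟩
  have h1 : algebraMap A K (π ^ k * c) = algebraMap A K a := by
    have := congrArg φ hy₀spec
    rw [map_mul, AlgHom.commutes, AlgHom.commutes, ← hc] at this
    rw [map_mul]; exact this
  have h2 : π ^ k * c = a := IsFractionRing.injective A K h1
  apply (hπunit.pow k).mul_left_cancel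
  rw [hxa, ← h2, map_mul, map_pow]

/-- Let R be a discrete valuation ring of characteristic zero and residue characteristic p, with
uniformizer π and a primitive p^n-th root of unity ζ (n ≥ 1), and A a Noetherian integrally closed
domain which is a faithfully flat R-algebra, in which πA is a prime ideal and every element that is
a unit modulo π is a unit (as when A is π-adically complete, or local). Let f, g be units of A, j a
natural number with π^{p^{n−1}(p−1)(j+1)} dividing p (that is, j is less than the valuation of ζ −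
1, so that the polynomials ((1 + π^{j}T)^{p^n} − 1)/π^{jp^n} and ((1 + π^{j+1}T)^{p^n} −
1)/π^{(j+1)p^n} have coefficients in R), and f₀ ∈ A with f·g^{p^n} = 1 + π^{j p^n}·f₀; suppose j is
maximal with this property: there is no unit g' of A with f·g'^{p^n} ≡ 1 modulo π^{(j+1)p^n}.
Suppose moreover that the algebra L = A[1/π][Z]/(Z^{p^n} − f) is an integral domain (the
μ_{p^n}-torsor Z^{p^n} = f is connected on the generic fibre) and that, B denoting the integral
closure of A in L (the normalization of Spec A in that cover), the ideal πB is radical (the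
normalization has reduced special fibre). Then f₀ is not congruent modulo πA to a p^n-th power. (The
published statement phrases the hypothesis on j as: the class of the torsor Z^{p^n} = f lies in
H¹(Spec A, G_{π^j,n}) and not in H¹(Spec A, G_{π^{j+1},n}); the conditions on g and g' are its
ring-theoretic form, which is the first assertion of the same lemma; A is there factorial and
π-adically complete, or normal local, which this row keeps only through the consequences used:
integrally closed, and units lift modulo π.) -/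
theorem result
    (R : Type u) [CommRing R] [IsDomain R] [IsDiscreteValuationRing R] [CharZero R]
    (p : ℕ) [Fact p.Prime] [CharP (IsLocalRing.ResidueField R) p] (ϖ : R) (hϖ : Irreducible ϖ)
    (n : ℕ) (hn : 0 < n) (ζ : R) (hζ : IsPrimitiveRoot ζ (p ^ n))
    (A : Type u) [CommRing A] [IsDomain A] [IsNoetherianRing A] [IsIntegrallyClosed A] [Algebra R A]
    [Module.FaithfullyFlat R A]
    (hprime : (Ideal.span {algebraMap R A ϖ}).IsPrime)
    (hlift : ∀ a : A, IsUnit (Ideal.Quotient.mk (Ideal.span {algebraMap R A ϖ}) a) → IsUnit a)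
    (f g : Aˣ) (j : ℕ) (hj : ϖ ^ (p ^ (n - 1) * (p - 1) * (j + 1)) ∣ (p : R)) (f₀ : A)
    (hfg : (f : A) * (g : A) ^ (p ^ n) = 1 + (algebraMap R A ϖ) ^ (j * p ^ n) * f₀)
    (hmax : ∀ (g' : Aˣ) (c : A), (f : A) * (g' : A) ^ (p ^ n) ≠ 1 + (algebraMap R A ϖ) ^ ((j + 1) * p ^ n) * c)
    [IsDomain (AdjoinRoot (Polynomial.X ^ (p ^ n) - Polynomial.C (algebraMap A (Localization.Away (algebraMap R A ϖ)) (f : A))))]
    (hred : (Ideal.span {algebraMap A (integralClosure A (AdjoinRoot (Polynomial.X ^ (p ^ n) - Polynomial.C (algebraMap A (Localization.Away (algebraMap R A ϖ)) (f : A))))) (algebraMap R A ϖ)}).IsRadical)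
    (g₀ : A) : f₀ - g₀ ^ (p ^ n) ∉ Ideal.span {(algebraMap R A ϖ)} := by
  have hp : p.Prime := Fact.out
  have hπ0 : algebraMap R A ϖ ≠ 0 :=
    (map_ne_zero_iff _ (FaithfulSMul.algebraMap_injective R A)).2 hϖ.ne_zero
  obtain ⟨M, hM⟩ : ∃ M, p ^ n = M + 1 := ⟨p ^ n - 1, by have := Nat.pow_pos (n := n) hp.pos; omega⟩
  have hdom : IsDomain (Localization.Away (algebraMap R A ϖ)) :=
    IsLocalization.isDomain_localization (M := Submonoid.powers (algebraMap R A ϖ))
      (powers_le_nonZeroDivisors_of_noZeroDivisors hπ0)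
  have hdeg : (Polynomial.X ^ (p ^ n) - Polynomial.C (algebraMap A (Localization.Away (algebraMap R A ϖ)) (f : A))).degree ≠ 0 := by
    rw [Polynomial.degree_X_pow_sub_C (Nat.pow_pos (n := n) hp.pos)]
    rw [hM]; exact_mod_cast Nat.succ_ne_zero M
  -- the coefficients
  have hex : ∀ i : ℕ, ∃ c : R, i < M → ((Nat.choose (M + 1) (i + 1) : ℕ) : R) = c * ϖ ^ ((j + 1) * (M - i)) := by
    intro i
    by_cases hi : i < M
    · have h1 := pow_dvd_choose p hp n ϖ (j + 1) hj (i + 1) (Nat.succ_ne_zero i) (by omega)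
      obtain ⟨c, hc⟩ := h1
      refine ⟨c, fun _ => ?_⟩
      have e : p ^ n - (i + 1) = M - i := by omega
      rw [← hM, hc, mul_comm, e]
    · exact ⟨0, fun h => absurd h hi⟩
  choose cR hcR using hex
  have hpπ : algebraMap R A ϖ ∣ (p : A) := by
    have h1 : ϖ ∣ (p : R) := by
      refine dvd_trans (dvd_pow_self ϖ ?_) hj
      have h2 : 0 < p ^ (n - 1) := Nat.pow_pos hp.pos
      have h3 : 0 < p - 1 := by have := hp.two_le; omega
      positivity
    have := map_dvd (algebraMap R A) h1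
    rwa [map_natCast] at this
  rw [hM]
  refine core (algebraMap R A ϖ) _ ?_ ?_ ?_ hred hlift p n hp M hM hpπ (AdjoinRoot.root _) f g ?_ j f₀
    (by rw [← hM]; exact hfg) (by intro g' c; rw [← hM]; exact hmax g' c)
    (fun i => algebraMap R A (cR (i - 1))) ?_ g₀
  · -- injectivity of `A → L`
    rw [IsScalarTower.algebraMap_eq A (Localization.Away (algebraMap R A ϖ))]
    exact (AdjoinRoot.of.injective_of_degree_ne_zero hdeg).comp
      (IsLocalization.injective _ (powers_le_nonZeroDivisors_of_noZeroDivisors hπ0))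
  · rw [IsScalarTower.algebraMap_apply A (Localization.Away (algebraMap R A ϖ))]
    exact (IsLocalization.Away.algebraMap_isUnit (S := Localization.Away (algebraMap R A ϖ))
      (algebraMap R A ϖ)).map (algebraMap (Localization.Away (algebraMap R A ϖ)) (AdjoinRoot _))
  · intro x hx k a hxa
    exact closedProp (algebraMap R A ϖ) hπ0 _ hdeg x hx k a hxa
  · -- Z^N = f
    rw [← hM]
    have := AdjoinRoot.eval₂_root (Polynomial.X ^ (p ^ n) - Polynomial.C (algebraMap A (Localization.Away (algebraMap R A ϖ)) (f : A)))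
    rw [Polynomial.eval₂_sub, Polynomial.eval₂_pow, Polynomial.eval₂_X, Polynomial.eval₂_C, sub_eq_zero] at this
    rw [this, IsScalarTower.algebraMap_apply A (Localization.Away (algebraMap R A ϖ))]
    rfl
  · intro i hi
    have := congrArg (algebraMap R A) (hcR i hi)
    rw [map_natCast, map_mul, map_pow] at this
    rw [this]
    simp

end Groth.Agent.S14692
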