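import Groth.Statements.S14693
import Mathlib

set_option autoImplicit false
universe u
open CategoryTheory AlgebraicGeometry
open SekSuwa

namespace Groth.Agent.S14693
open CategoryTheory CategoryTheory.Limits AlgebraicGeometry MonObj CartesianMonoidalCategory


section Ring
variable (R : Type u) [CommRing R] (lam : R) (N : ℕ) (h : SekSuwa.DivCond lam N)

/-- maps out of `A` killing `kerGen` factor through `AK`. -/
noncomputable def descHom {T : Type u} [CommRing T] (a : SekSuwa.A R lam →+* T)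
    (ha : a (SekSuwa.kerGen lam N h) = 0) : SekSuwa.AK R lam N h →+* T :=
  Ideal.Quotient.lift (SekSuwa.kerIdeal lam N h) a (by
    intro x hx
    obtain ⟨d, rfl⟩ := Ideal.mem_span_singleton'.mp hx
    rw [map_mul, ha, mul_zero])

lemma descHom_mk {T : Type u} [CommRing T] (a : SekSuwa.A R lam →+* T)
    (ha : a (SekSuwa.kerGen lam N h) = 0) (x : SekSuwa.A R lam) :
    descHom R lam N h a ha (Ideal.Quotient.mk (SekSuwa.kerIdeal lam N h) x) = a x :=
  Ideal.Quotient.lift_mk _ _ _

lemma isPushout_ring :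
    IsPushout
      (CommRingCat.ofHom ((SekSuwa.psiHom R lam N h : SekSuwa.A R (lam ^ N) →ₐ[R] SekSuwa.A R lam) :
        SekSuwa.A R (lam ^ N) →+* SekSuwa.A R lam))
      (CommRingCat.ofHom ((Bialgebra.counitAlgHom R (SekSuwa.A R (lam ^ N)) :
        SekSuwa.A R (lam ^ N) →ₐ[R] R) : SekSuwa.A R (lam ^ N) →+* R))
      (CommRingCat.ofHom ((SekSuwa.AK.mkHom R lam N h : SekSuwa.A R lam →ₐ[R] SekSuwa.AK R lam N h) :
        SekSuwa.A R lam →+* SekSuwa.AK R lam N h))
      (CommRingCat.ofHom (algebraMap R (SekSuwa.AK R lam N h))) := by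
  have hw : (CommRingCat.ofHom ((SekSuwa.psiHom R lam N h : SekSuwa.A R (lam ^ N) →ₐ[R] SekSuwa.A R lam) :
        SekSuwa.A R (lam ^ N) →+* SekSuwa.A R lam)) ≫
      (CommRingCat.ofHom ((SekSuwa.AK.mkHom R lam N h : SekSuwa.A R lam →ₐ[R] SekSuwa.AK R lam N h) :
        SekSuwa.A R lam →+* SekSuwa.AK R lam N h)) =
      (CommRingCat.ofHom ((Bialgebra.counitAlgHom R (SekSuwa.A R (lam ^ N)) :
        SekSuwa.A R (lam ^ N) →ₐ[R] R) : SekSuwa.A R (lam ^ N) →+* R)) ≫
      (CommRingCat.ofHom (algebraMap R (SekSuwa.AK R lam N h))) := by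
    ext x
    have := congrArg (fun f : SekSuwa.A R (lam ^ N) →ₐc[R] SekSuwa.AK R lam N h => f x)
      (SekSuwa.mkHom_comp_psiHom R lam N h)
    exact this
  have hkill : ∀ s : PushoutCocone
      (CommRingCat.ofHom ((SekSuwa.psiHom R lam N h : SekSuwa.A R (lam ^ N) →ₐ[R] SekSuwa.A R lam) :
        SekSuwa.A R (lam ^ N) →+* SekSuwa.A R lam))
      (CommRingCat.ofHom ((Bialgebra.counitAlgHom R (SekSuwa.A R (lam ^ N)) :
        SekSuwa.A R (lam ^ N) →ₐ[R] R) : SekSuwa.A R (lam ^ N) →+* R)),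
      s.inl.hom (SekSuwa.kerGen lam N h) = 0 := by
    intro s
    have hc := congrArg (fun f => f.hom (SekSuwa.A.t : SekSuwa.A R (lam ^ N))) s.condition
    simp only [CommRingCat.hom_comp, RingHom.comp_apply, CommRingCat.hom_ofHom] at hc
    have h1 : ((SekSuwa.psiHom R lam N h : SekSuwa.A R (lam ^ N) →ₐ[R] SekSuwa.A R lam) :
        SekSuwa.A R (lam ^ N) →+* SekSuwa.A R lam) SekSuwa.A.t = SekSuwa.kerGen lam N h :=
      SekSuwa.psiHom_t R lam N h
    have h2 : ((Bialgebra.counitAlgHom R (SekSuwa.A R (lam ^ N)) :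
        SekSuwa.A R (lam ^ N) →ₐ[R] R) : SekSuwa.A R (lam ^ N) →+* R) SekSuwa.A.t = 0 :=
      SekSuwa.A.counit_t
    rw [h1, h2, map_zero] at hc
    exact hc
  refine ⟨⟨hw⟩, ⟨PushoutCocone.IsColimit.mk _
    (fun s => CommRingCat.ofHom (descHom R lam N h s.inl.hom (hkill s)))
    (fun s => ?_) (fun s => ?_) (fun s m h1 h2 => ?_)⟩⟩
  · -- fac_left
    ext x
    exact descHom_mk R lam N h _ (hkill s) x
  · -- fac_right
    ext r
    refine (descHom_mk R lam N h _ (hkill s) (algebraMap R (SekSuwa.A R lam) r)).trans ?_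
    have hc := congrArg (fun f => f.hom (algebraMap R (SekSuwa.A R (lam ^ N)) r)) s.condition
    simp only [CommRingCat.hom_comp, RingHom.comp_apply, CommRingCat.hom_ofHom] at hc
    have h1 : ((SekSuwa.psiHom R lam N h : SekSuwa.A R (lam ^ N) →ₐ[R] SekSuwa.A R lam) :
        SekSuwa.A R (lam ^ N) →+* SekSuwa.A R lam) (algebraMap R _ r) = algebraMap R _ r :=
      (SekSuwa.psiHom R lam N h : SekSuwa.A R (lam ^ N) →ₐ[R] SekSuwa.A R lam).commutes r
    have h2 : ((Bialgebra.counitAlgHom R (SekSuwa.A R (lam ^ N)) :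
        SekSuwa.A R (lam ^ N) →ₐ[R] R) : SekSuwa.A R (lam ^ N) →+* R) (algebraMap R _ r) = r :=
      (Bialgebra.counitAlgHom R (SekSuwa.A R (lam ^ N))).commutes r
    rw [h1, h2] at hc
    exact hc
  · -- uniq
    ext x
    obtain ⟨a, rfl⟩ := Ideal.Quotient.mk_surjective x
    have := congrArg (fun f => f.hom a) h1
    exact this.trans (descHom_mk R lam N h _ (hkill s) a).symm

end Ring




/-- For any commutative ring R, λ ∈ R and N such that λ is a non-zero-divisor and λ^N divides (1 + λX)^N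
− 1 in R[X] with quotient P_{λ,N}, the closed subgroup scheme G_{λ,N} = Spec R[T]/(P_{λ,N}(T)) of
the affine R-group G^(λ) = Spec R[T, 1/(1+λT)] (group law s + t + λst) is the kernel of the
homomorphism ψ_{λ,N} : G^(λ) → G^(λ^N), T ↦ P_{λ,N}(T): the square with sides the inclusion G_{λ,N}
→ G^(λ), ψ_{λ,N}, the unit section of G^(λ^N) and G_{λ,N} → Spec R is cartesian. (The published
text, over a discrete valuation ring and with N = p^n, introduces G_{λ,n} as the kernel of the
isogeny ψ_{λ,n}; this row is that assertion for every N, including the degenerate N = 0 where ψ is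
trivial and G_{λ,0} = G^(λ).) -/
theorem result (R : Type u) [CommRing R] (lam : R) (N : ℕ) (h : SekSuwa.DivCond lam N) :
    AlgGrp.IsKernel (SekSuwa.incl R lam N h) (SekSuwa.psi R lam N h) := by
  unfold AlgGrp.IsKernel
  have hpb := isPullback_SpecMap_of_isPushout _ _ _ _ (isPushout_ring R lam N h)
  have hcomm : SekSuwa.incl R lam N h ≫ SekSuwa.psi R lam N h =
      toUnit (SekSuwa.GK R lam N h) ≫ η[SekSuwa.G R (lam ^ N)] := by
    rw [SekSuwa.incl_psi]
    rfl
  apply IsPullback.of_map (Over.forget (Spec (CommRingCat.of R))) hcomm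
  exact hpb


end Groth.Agent.S14693
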