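import Groth.Statements.S14726
import Mathlib
import Groth.Agent.Lib.Helper98.SmoothValuation
open Groth.Agent.Lib.Helper98

set_option autoImplicit false
universe u
open ValPrufer

namespace Groth.Agent.S14726

/-- Let V be a valuation ring with maximal ideal m, A an integral domain that is a smooth V-algebra, and
p a prime ideal of A minimal among the primes containing mA (a generic point of the special fibre of
Spec A over V). Then A_p is a valuation ring, V → A_p is an injective local homomorphism, and every
nonzero element of A_p is a unit of A_p times the image of an element of V, so that V → A_p induces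
a bijection on value groups. (The published statement takes A faithfully flat and a semilocalisation
of a smooth V-algebra at finitely many primes; the local ring A_p is then a local ring of the smooth
algebra itself at such a prime, and faithful flatness follows from the existence of p, so this row
states the smooth case, which carries the whole content.) -/
theorem result
    (V : Type u) [CommRing V] [IsDomain V] [ValuationRing V]
    (A : Type u) [CommRing A] [IsDomain A] [Algebra V A] [Algebra.Smooth V A]
    (p : Ideal A) [p.IsPrime]
    (hp : p ∈ ((IsLocalRing.maximalIdeal V).map (algebraMap V A)).minimalPrimes) :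
    ValuationRing (Localization.AtPrime p) ∧
      Function.Injective (algebraMap V (Localization.AtPrime p)) ∧
      IsLocalHom (algebraMap V (Localization.AtPrime p)) ∧
      ∀ x : Localization.AtPrime p, x ≠ 0 →
        ∃ (v : V) (w : (Localization.AtPrime p)ˣ), x = algebraMap V (Localization.AtPrime p) v * w := by
  classical
  obtain ⟨f, hfp, n, instAlg, htower, hEt⟩ := SmoothValuation.step1 V A p
  let P := MvPolynomial (Fin n) V
  let B := Localization.Away f
  let m := IsLocalRing.maximalIdeal V
  let mP : Ideal P := m.map (MvPolynomial.C : V →+* MvPolynomial (Fin n) V)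
  have hprime : mP.IsPrime := GaussValuation.isPrime_map_C m (Fin n)
  have hmp : m.map (algebraMap V A) ≤ p := hp.1.2
  have hdisj : Disjoint (Submonoid.powers f : Set A) (p : Set A) :=
    (Ideal.disjoint_powers_iff_notMem_of_isPrime _).mpr hfp
  let Q : Ideal B := p.map (algebraMap A B)
  have hQprime : Q.IsPrime :=
    IsLocalization.isPrime_of_isPrime_disjoint (.powers f) B p inferInstance hdisj
  have hQcomap : Q.comap (algebraMap A B) = p :=
    IsLocalization.under_map_of_isPrime_disjoint (.powers f) B inferInstance hdisj
  have hVB : ∀ v : V, algebraMap P B (MvPolynomial.C v) = algebraMap A B (algebraMap V A v) := by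
    intro v
    rw [← MvPolynomial.algebraMap_eq, ← IsScalarTower.algebraMap_apply V P B,
      ← IsScalarTower.algebraMap_apply V A B]
  -- primes of `B` over `m P` contract to primes of `A` containing `m A`
  have hcontain : ∀ Q'' : Ideal B, mP ≤ Q''.comap (algebraMap P B) →
      m.map (algebraMap V A) ≤ Q''.comap (algebraMap A B) := by
    intro Q'' h
    rw [Ideal.map_le_iff_le_comap]
    intro v hv
    have h1 : (MvPolynomial.C v : P) ∈ mP := Ideal.mem_map_of_mem _ hv
    have h2 := h h1
    rw [Ideal.mem_comap, hVB] at h2
    exact h2
  have hle : mP ≤ Q.comap (algebraMap P B) := by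
    rw [Ideal.map_le_iff_le_comap]
    intro v hv
    rw [Ideal.mem_comap, Ideal.mem_comap, hVB]
    exact Ideal.mem_map_of_mem _ (hmp (Ideal.mem_map_of_mem _ hv))
  have hQP : Q.comap (algebraMap P B) = mP := by
    haveI : Module.Flat P B := inferInstance
    haveI : Q.LiesOver (Q.comap (algebraMap P B)) := ⟨rfl⟩
    obtain ⟨Q'', hQ''le, hQ''prime, hQ''over⟩ :=
      Ideal.exists_ideal_le_liesOver_of_le (p := mP) (q := Q.comap (algebraMap P B)) Q hle
    have hp₀ : p ≤ Q''.comap (algebraMap A B) := by
      apply hp.2 ⟨Ideal.comap_isPrime _ _, hcontain Q'' hQ''over.over.le⟩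
      rw [← hQcomap]
      exact Ideal.comap_mono hQ''le
    have hQQ : Q ≤ Q'' := by
      rw [← IsLocalization.map_under (.powers f) B Q'']
      exact Ideal.map_mono hp₀
    have : Q'' = Q := le_antisymm hQ''le hQQ
    rw [← this]
    exact hQ''over.over.symm
  obtain ⟨L', _, _, _, hloc, hval, hunr⟩ := SmoothValuation.core V n B Q hQP
  letI : Algebra A L' := ((algebraMap B L').comp (algebraMap A B)).toAlgebra
  haveI : IsScalarTower A B L' := IsScalarTower.of_algebraMap_eq' rfl
  have hlocA : IsLocalization.AtPrime L' p := by
    have h : IsLocalization.AtPrime L' (Q.comap (algebraMap A B)) :=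
      IsLocalization.isLocalization_isLocalization_atPrime_isLocalization (.powers f) L' Q
    have heq : (Q.comap (algebraMap A B)).primeCompl = p.primeCompl := by
      ext x
      simp only [Ideal.mem_primeCompl_iff, hQcomap]
    unfold IsLocalization.AtPrime at h ⊢
    rw [heq] at h
    exact h
  let e : Localization.AtPrime p ≃ₐ[A] L' := IsLocalization.algEquiv p.primeCompl _ _
  have hpV : p.comap (algebraMap V A) = m := by
    have h1 : m ≤ p.comap (algebraMap V A) := Ideal.map_le_iff_le_comap.mp hmp
    exact ((IsLocalRing.maximalIdeal.isMaximal V).eq_of_le (Ideal.comap_ne_top _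
      (Ideal.IsPrime.ne_top inferInstance)) h1).symm
  have hflat : Module.Flat V (Localization.AtPrime p) :=
    Module.Flat.trans V A (Localization.AtPrime p)
  refine ⟨?_, Groth.Agent.Lib.Helper36.Olivier.algebraMap_injective_of_flat V _,
    EtaleValuation.isLocalHom_of_comap_eq V A p hpV, ?_⟩
  · rw [ValuationRing.iff_dvd_total]
    refine ⟨fun a b => ?_⟩
    rcases ValuationRing.dvd_total (e a) (e b) with h | h
    · left
      have := map_dvd e.symm h
      simpa using this
    · right
      have := map_dvd e.symm h
      simpa using this
  · intro x hx
    have hex : e x ≠ 0 := by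
      intro h0
      exact hx (e.injective (by rw [h0, map_zero]))
    obtain ⟨v, u, hu⟩ := hunr (e x) hex
    refine ⟨v, Units.map (e.symm : L' →* Localization.AtPrime p) u, ?_⟩
    have h1 : algebraMap B L' (algebraMap V B v) = e (algebraMap V (Localization.AtPrime p) v) := by
      rw [IsScalarTower.algebraMap_apply V A (Localization.AtPrime p), e.commutes,
        IsScalarTower.algebraMap_apply V A B, ← IsScalarTower.algebraMap_apply A B L']
    rw [h1] at hu
    have h2 := congrArg e.symm hu
    rw [AlgEquiv.symm_apply_apply, map_mul, AlgEquiv.symm_apply_apply] at h2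
    rw [h2, Units.coe_map]
    rfl

end Groth.Agent.S14726
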