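import Groth.Statements.S14727
import Mathlib.RingTheory.Localization.Ideal
import Mathlib.RingTheory.Ideal.Quotient.Operations
import Mathlib.RingTheory.Ideal.Colon
import Mathlib.RingTheory.Nilpotent.Lemmas
import Mathlib.Tactic.LinearCombination
import Mathlib.Tactic.Ring

set_option autoImplicit false
universe u
open ValPrufer

namespace Groth.Agent.S14727

variable {R : Type u} [CommRing R]

/-- The contraction of `J R_m` to `R`. -/
noncomputable def comp (J : Ideal R) (m : Ideal R) [m.IsPrime] : Ideal R :=
  (J.map (algebraMap R (Localization.AtPrime m))).comap (algebraMap R (Localization.AtPrime m))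

theorem le_comp (J : Ideal R) (m : Ideal R) [m.IsPrime] : J ≤ comp J m :=
  Ideal.le_comap_map

theorem mem_comp_of_mul_mem {J m : Ideal R} [m.IsPrime] {s x : R} (hs : s ∉ m)
    (h : s * x ∈ J) : x ∈ comp J m := by
  change algebraMap R (Localization.AtPrime m) x ∈ J.map (algebraMap R (Localization.AtPrime m))
  have hu : IsUnit (algebraMap R (Localization.AtPrime m) s) :=
    IsLocalization.map_units (M := m.primeCompl) _ ⟨s, hs⟩
  have := Ideal.mem_map_of_mem (algebraMap R (Localization.AtPrime m)) h
  rw [map_mul] at this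
  exact (Ideal.unit_mul_mem_iff_mem _ hu).mp this

theorem exists_mul_mem_of_mem_comp {J m : Ideal R} [m.IsPrime] {x : R} (hx : x ∈ comp J m) :
    ∃ s, s ∉ m ∧ s * x ∈ J := by
  have hx' : algebraMap R (Localization.AtPrime m) x ∈
      J.map (algebraMap R (Localization.AtPrime m)) := hx
  rw [IsLocalization.mem_map_algebraMap_iff m.primeCompl] at hx'
  obtain ⟨⟨⟨a, ha⟩, ⟨s, hs⟩⟩, h⟩ := hx'
  simp only at h
  rw [← map_mul, IsLocalization.eq_iff_exists m.primeCompl] at h
  obtain ⟨⟨c, hc⟩, hc'⟩ := h
  simp only at hc'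
  refine ⟨c * s, ?_, ?_⟩
  · exact fun hmem => (Ideal.IsPrime.mem_or_mem inferInstance hmem).elim hc hs
  · have : c * s * x = c * a := by rw [← hc']; ring
    rw [this]
    exact J.mul_mem_left c ha

/-- Key fact: the only prime containing the `m`-primary component of `I ^ (n + 1)` is `m`. -/
theorem eq_of_comp_le (hR : Finite (MaximalSpectrum R)) (I : Ideal R)
    (hI : ∀ (p : Ideal R), p.IsPrime → I ≤ p → p.IsMaximal) (n : ℕ)
    (m : Ideal R) [hm : m.IsMaximal] (p : Ideal R) [hp : p.IsPrime]
    (hle : comp (I ^ (n + 1)) m ≤ p) : p = m := by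
  classical
  have _ : Fintype (MaximalSpectrum R) := Fintype.ofFinite _
  have hJp : I ^ (n + 1) ≤ p := (le_comp _ m).trans hle
  have hIp : I ≤ p := Ideal.IsPrime.le_of_pow_le hJp
  have hpmax : p.IsMaximal := hI p hp hIp
  by_contra hne
  -- an element of m outside p
  have hmp : ¬ m ≤ p := fun h => hne (hm.eq_of_le hpmax.ne_top h).symm
  obtain ⟨x, hxm, hxp⟩ := Set.not_subset.mp hmp
  -- for every other maximal ideal an element outside m
  have hothers : ∀ q : MaximalSpectrum R, q.asIdeal ≠ m → ∃ s, s ∈ q.asIdeal ∧ s ∉ m := by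
    intro q hq
    have : ¬ q.asIdeal ≤ m := fun h => hq (q.isMaximal.eq_of_le hm.ne_top h)
    exact Set.not_subset.mp this
  let σ : MaximalSpectrum R → R := fun q =>
    if h : q.asIdeal ≠ m then Classical.choose (hothers q h) else 1
  have hσ1 : ∀ q : MaximalSpectrum R, q.asIdeal ≠ m → σ q ∈ q.asIdeal := by
    intro q h
    simp only [σ, dif_pos h]
    exact (Classical.choose_spec (hothers q h)).1
  have hσ2 : ∀ q : MaximalSpectrum R, σ q ∉ m := by
    intro q
    by_cases h : q.asIdeal ≠ m
    · simp only [σ, dif_pos h]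
      exact (Classical.choose_spec (hothers q h)).2
    · simp only [σ, dif_neg h]
      exact fun h1 => hm.ne_top ((Ideal.eq_top_iff_one m).mpr h1)
  let s : R := ∏ q : MaximalSpectrum R, σ q
  have hsm : s ∉ m := by
    intro h
    obtain ⟨q, -, hq⟩ := (Ideal.IsPrime.prod_mem_iff (hp := hm.isPrime)).mp h
    exact hσ2 q hq
  have hrad : s * x ∈ (I ^ (n + 1)).radical := by
    rw [Ideal.radical_eq_sInf, Ideal.mem_sInf]
    rintro q ⟨hJq, hq⟩
    have hIq : I ≤ q := Ideal.IsPrime.le_of_pow_le hJq
    have hqmax : q.IsMaximal := hI q hq hIq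
    by_cases hqm : q = m
    · rw [hqm]
      exact m.mul_mem_left s hxm
    · apply q.mul_mem_right x
      have hdvd : σ ⟨q, hqmax⟩ ∣ s := Finset.dvd_prod_of_mem σ (Finset.mem_univ _)
      exact Ideal.mem_of_dvd q hdvd (hσ1 ⟨q, hqmax⟩ hqm)
  obtain ⟨N, hN⟩ := hrad
  rw [mul_pow] at hN
  have hsN : s ^ N ∉ m := fun h => hsm (hm.isPrime.mem_of_pow_mem N h)
  have hxN : x ^ N ∈ p := hle (mem_comp_of_mul_mem hsN hN)
  exact hxp (hp.mem_of_pow_mem N hxN)

theorem isCoprime_comp (hR : Finite (MaximalSpectrum R)) (I : Ideal R)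
    (hI : ∀ (p : Ideal R), p.IsPrime → I ≤ p → p.IsMaximal) (n : ℕ)
    (m m' : Ideal R) [hm : m.IsMaximal] [hm' : m'.IsMaximal] (hne : m ≠ m') :
    IsCoprime (comp (I ^ (n + 1)) m) (comp (I ^ (n + 1)) m') := by
  rw [Ideal.isCoprime_iff_sup_eq]
  by_contra h
  obtain ⟨M, hM, hle⟩ := Ideal.exists_le_maximal _ h
  have h1 : M = m := eq_of_comp_le hR I hI n m M (le_sup_left.trans hle)
  have h2 : M = m' := eq_of_comp_le hR I hI n m' M (le_sup_right.trans hle)
  exact hne (h1.symm.trans h2)

theorem exists_mul_sub_one_mem_comp (hR : Finite (MaximalSpectrum R)) (I : Ideal R)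
    (hI : ∀ (p : Ideal R), p.IsPrime → I ≤ p → p.IsMaximal) (n : ℕ)
    (m : Ideal R) [hm : m.IsMaximal] {s : R} (hs : s ∉ m) :
    ∃ t : R, s * t - 1 ∈ comp (I ^ (n + 1)) m := by
  have htop : Ideal.span {s} ⊔ comp (I ^ (n + 1)) m = ⊤ := by
    by_contra h
    obtain ⟨M, hM, hle⟩ := Ideal.exists_le_maximal _ h
    have h1 : M = m := eq_of_comp_le hR I hI n m M (le_sup_right.trans hle)
    apply hs
    rw [← h1]
    exact hle (Ideal.mem_sup_left (Ideal.mem_span_singleton_self s))
  have h1 : (1 : R) ∈ Ideal.span {s} ⊔ comp (I ^ (n + 1)) m := by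
    rw [htop]
    exact Submodule.mem_top
  obtain ⟨a, ha, b, hb, hab⟩ := Submodule.mem_sup.mp h1
  obtain ⟨t, rfl⟩ := Ideal.mem_span_singleton'.mp ha
  refine ⟨t, ?_⟩
  have : s * t - 1 = -b := by rw [← hab]; ring
  rw [this]
  exact (comp (I ^ (n + 1)) m).neg_mem hb

/-- Level-wise injectivity. -/
theorem level_inj (hR : Finite (MaximalSpectrum R)) (I : Ideal R)
    (hI : ∀ (p : Ideal R), p.IsPrime → I ≤ p → p.IsMaximal) (n : ℕ) (r : R)
    (h : ∀ m : {m : MaximalSpectrum R // I ≤ m.asIdeal},
      algebraMap R (Localization.AtPrime m.1.asIdeal) r ∈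
        (I ^ n).map (algebraMap R (Localization.AtPrime m.1.asIdeal))) : r ∈ I ^ n := by
  cases n with
  | zero => simp
  | succ n =>
    by_contra hr
    let 𝔞 : Ideal R := Submodule.comap (LinearMap.mulRight R r) (I ^ (n + 1))
    have hmem : ∀ t : R, t ∈ 𝔞 ↔ t * r ∈ I ^ (n + 1) := fun t => Iff.rfl
    have hne : 𝔞 ≠ ⊤ := by
      intro htop
      apply hr
      have : (1 : R) ∈ 𝔞 := by rw [htop]; exact Submodule.mem_top
      rw [hmem, one_mul] at this
      exact this
    obtain ⟨M, hM, hle⟩ := Ideal.exists_le_maximal _ hne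
    have hJ𝔞 : I ^ (n + 1) ≤ 𝔞 := fun j hj => (hmem j).mpr ((I ^ (n + 1)).mul_mem_right r hj)
    have hIM : I ≤ M := Ideal.IsPrime.le_of_pow_le (hJ𝔞.trans hle)
    have h0 := h ⟨⟨M, hM⟩, hIM⟩
    obtain ⟨s, hsM, hs⟩ := exists_mul_mem_of_mem_comp (J := I ^ (n + 1)) (m := M) h0
    exact hsM (hle ((hmem s).mpr hs))

/-- Level-wise surjectivity. -/
theorem level_surj (hR : Finite (MaximalSpectrum R)) (I : Ideal R)
    (hI : ∀ (p : Ideal R), p.IsPrime → I ≤ p → p.IsMaximal) (n : ℕ)
    (y : ∀ m : {m : MaximalSpectrum R // I ≤ m.asIdeal}, Localization.AtPrime m.1.asIdeal) :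
    ∃ r : R, ∀ m : {m : MaximalSpectrum R // I ≤ m.asIdeal},
      algebraMap R (Localization.AtPrime m.1.asIdeal) r - y m ∈
        (I ^ n).map (algebraMap R (Localization.AtPrime m.1.asIdeal)) := by
  cases n with
  | zero =>
    refine ⟨0, fun m => ?_⟩
    rw [pow_zero, Ideal.one_eq_top, Ideal.map_top]
    exact Submodule.mem_top
  | succ n =>
    have hfin : Finite {m : MaximalSpectrum R // I ≤ m.asIdeal} := Subtype.finite
    -- numerators and denominators
    have hy : ∀ m : {m : MaximalSpectrum R // I ≤ m.asIdeal},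
        ∃ (a : R) (s : m.1.asIdeal.primeCompl),
          IsLocalization.mk' (Localization.AtPrime m.1.asIdeal) a s = y m := fun m =>
      IsLocalization.exists_mk'_eq m.1.asIdeal.primeCompl (y m)
    choose a s hy using hy
    have ht : ∀ m : {m : MaximalSpectrum R // I ≤ m.asIdeal},
        ∃ t : R, (s m : R) * t - 1 ∈ comp (I ^ (n + 1)) m.1.asIdeal := fun m =>
      exists_mul_sub_one_mem_comp hR I hI n m.1.asIdeal (s m).2
    choose t ht using ht
    have hcop : Pairwise (Function.onFun IsCoprime
        fun m : {m : MaximalSpectrum R // I ≤ m.asIdeal} => comp (I ^ (n + 1)) m.1.asIdeal) := by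
      intro m m' hmm'
      apply isCoprime_comp hR I hI n
      intro h
      apply hmm'
      exact Subtype.ext (MaximalSpectrum.ext h)
    obtain ⟨r, hr⟩ := Ideal.exists_forall_sub_mem_ideal hcop (fun m => a m * t m)
    refine ⟨r, fun m => ?_⟩
    have h1 : algebraMap R (Localization.AtPrime m.1.asIdeal) (r - a m * t m) ∈
        (I ^ (n + 1)).map (algebraMap R (Localization.AtPrime m.1.asIdeal)) := hr m
    have h2 : algebraMap R (Localization.AtPrime m.1.asIdeal) ((s m : R) * t m - 1) ∈
        (I ^ (n + 1)).map (algebraMap R (Localization.AtPrime m.1.asIdeal)) := ht m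
    have h3 : algebraMap R (Localization.AtPrime m.1.asIdeal) r - y m =
        algebraMap R (Localization.AtPrime m.1.asIdeal) (r - a m * t m) +
          algebraMap R (Localization.AtPrime m.1.asIdeal) ((s m : R) * t m - 1) *
            IsLocalization.mk' (Localization.AtPrime m.1.asIdeal) (a m) (s m) := by
      have hsp : IsLocalization.mk' (Localization.AtPrime m.1.asIdeal) (a m) (s m) *
          algebraMap R (Localization.AtPrime m.1.asIdeal) (s m : R) =
          algebraMap R (Localization.AtPrime m.1.asIdeal) (a m) := IsLocalization.mk'_spec _ _ _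
      rw [← hy m]
      simp only [map_sub, map_mul, map_one]
      linear_combination (-(algebraMap R (Localization.AtPrime m.1.asIdeal) (t m))) * hsp
    rw [h3]
    exact Ideal.add_mem _ h1 (Ideal.mul_mem_right _ _ h2)

end Groth.Agent.S14727

namespace Groth.Agent.S14727

/-- Let R be a semilocal ring (finitely many maximal ideals) and I an ideal of R of co-height zero, i.e.
every prime ideal containing I is maximal. Then the canonical map from the I-adic completion of R to
the product, over the maximal ideals m ⊇ I, of the I-adic completions of the local rings R_m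
(equivalently their IR_m-adic completions) is bijective; it is the continuous ring isomorphism of
the source, stated here as bijectivity of the canonical map of completed modules. -/
theorem result
    (R : Type u) [CommRing R] (hR : Finite (MaximalSpectrum R)) (I : Ideal R)
    (hI : ∀ (p : Ideal R), p.IsPrime → I ≤ p → p.IsMaximal) :
    Function.Bijective (LinearMap.pi (fun m : {m : MaximalSpectrum R // I ≤ m.asIdeal} =>
      AdicCompletion.map I (Algebra.linearMap R (Localization.AtPrime m.1.asIdeal)))) := by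
  classical
  -- translation of membership
  have hmemS : ∀ (m : {m : MaximalSpectrum R // I ≤ m.asIdeal}) (n : ℕ)
      (z : Localization.AtPrime m.1.asIdeal),
      z ∈ (I ^ n • ⊤ : Submodule R (Localization.AtPrime m.1.asIdeal)) ↔
        z ∈ (I ^ n).map (algebraMap R (Localization.AtPrime m.1.asIdeal)) := by
    intro m n z
    rw [Ideal.smul_top_eq_map]
    exact Iff.rfl
  have hmemR : ∀ (n : ℕ) (r : R), r ∈ (I ^ n • ⊤ : Submodule R R) ↔ r ∈ I ^ n := by
    intro n r
    rw [smul_eq_mul, Ideal.mul_top]
  constructor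
  · -- injectivity
    rw [injective_iff_map_eq_zero]
    intro x hx
    apply AdicCompletion.ext
    intro n
    obtain ⟨r, hr⟩ := Submodule.Quotient.mk_surjective _ (x.val n)
    rw [← hr]
    change Submodule.Quotient.mk r = 0
    rw [Submodule.Quotient.mk_eq_zero, hmemR]
    apply level_inj hR I hI n r
    intro m
    have h1 : AdicCompletion.map I (Algebra.linearMap R (Localization.AtPrime m.1.asIdeal)) x =
        0 := congrFun hx m
    have h2 := congrArg (fun z => z.val n) h1
    simp only [AdicCompletion.map_val_apply] at h2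
    rw [← hr, LinearMap.reduceModIdeal_apply] at h2
    have h3 : Submodule.Quotient.mk
        (Algebra.linearMap R (Localization.AtPrime m.1.asIdeal) r) =
        (0 : Localization.AtPrime m.1.asIdeal ⧸
          (I ^ n • ⊤ : Submodule R (Localization.AtPrime m.1.asIdeal))) := h2
    rw [Submodule.Quotient.mk_eq_zero, hmemS] at h3
    exact h3
  · -- surjectivity
    intro y
    have hrep : ∀ (m : {m : MaximalSpectrum R // I ≤ m.asIdeal}) (n : ℕ),
        ∃ z : Localization.AtPrime m.1.asIdeal, Submodule.Quotient.mk z = (y m).val n :=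
      fun m n => Submodule.Quotient.mk_surjective _ _
    choose z hz using hrep
    have hr : ∀ n : ℕ, ∃ r : R, ∀ m : {m : MaximalSpectrum R // I ≤ m.asIdeal},
        algebraMap R (Localization.AtPrime m.1.asIdeal) r - z m n ∈
          (I ^ n).map (algebraMap R (Localization.AtPrime m.1.asIdeal)) :=
      fun n => level_surj hR I hI n (fun m => z m n)
    choose r hr using hr
    -- compatibility of the representatives
    have hzz : ∀ (m : {m : MaximalSpectrum R // I ≤ m.asIdeal}) {k n : ℕ} (hkn : k ≤ n),
        z m n - z m k ∈ (I ^ k).map (algebraMap R (Localization.AtPrime m.1.asIdeal)) := by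
      intro m k n hkn
      have h1 := (y m).2 hkn
      rw [← hz m n, ← hz m k] at h1
      have h2 : (Submodule.Quotient.mk (z m n) : Localization.AtPrime m.1.asIdeal ⧸
          (I ^ k • ⊤ : Submodule R (Localization.AtPrime m.1.asIdeal))) =
          Submodule.Quotient.mk (z m k) := h1
      rw [Submodule.Quotient.eq, hmemS] at h2
      exact h2
    have hcompat : ∀ {k n : ℕ} (hkn : k ≤ n), r n - r k ∈ I ^ k := by
      intro k n hkn
      apply level_inj hR I hI k
      intro m
      have e1 : (I ^ n).map (algebraMap R (Localization.AtPrime m.1.asIdeal)) ≤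
          (I ^ k).map (algebraMap R (Localization.AtPrime m.1.asIdeal)) :=
        Ideal.map_mono (Ideal.pow_le_pow_right hkn)
      have e2 := e1 (hr n m)
      have e3 := hr k m
      have e4 := hzz m hkn
      have : algebraMap R (Localization.AtPrime m.1.asIdeal) (r n - r k) =
          (algebraMap R (Localization.AtPrime m.1.asIdeal) (r n) - z m n) -
            (algebraMap R (Localization.AtPrime m.1.asIdeal) (r k) - z m k) +
              (z m n - z m k) := by
        rw [map_sub]
        ring
      rw [this]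
      exact Ideal.add_mem _ (Ideal.sub_mem _ e2 e3) e4
    let x : AdicCompletion I R := ⟨fun n => Submodule.Quotient.mk (r n), by
      intro k n hkn
      change (Submodule.Quotient.mk (r n) : R ⧸ (I ^ k • ⊤ : Submodule R R)) =
        Submodule.Quotient.mk (r k)
      rw [Submodule.Quotient.eq, hmemR]
      exact hcompat hkn⟩
    refine ⟨x, ?_⟩
    funext m
    apply AdicCompletion.ext
    intro n
    change (AdicCompletion.map I (Algebra.linearMap R (Localization.AtPrime m.1.asIdeal)) x).val n
      = (y m).val n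
    rw [AdicCompletion.map_val_apply, ← hz m n]
    change (Submodule.Quotient.mk
      (Algebra.linearMap R (Localization.AtPrime m.1.asIdeal) (r n)) :
        Localization.AtPrime m.1.asIdeal ⧸
          (I ^ n • ⊤ : Submodule R (Localization.AtPrime m.1.asIdeal))) =
      Submodule.Quotient.mk (z m n)
    rw [Submodule.Quotient.eq, hmemS]
    exact hr n m

end Groth.Agent.S14727
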