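import Groth.Statements.S14728
import Mathlib.RingTheory.Localization.AtPrime.Basic
import Mathlib.RingTheory.Valuation.ValuationRing

set_option autoImplicit false
universe u
open ValPrufer

namespace Groth.Agent.S14728

/-- transfer of the valuation ring property along a ring map whose image generates the target
up to units -/
theorem valuationRing_of_unit_mul_image {A B : Type*} [CommRing A] [CommRing B] [IsDomain B]
    (f : A →+* B) (hA : ∀ a a' : A, a ∣ a' ∨ a' ∣ a)
    (hf : ∀ b : B, ∃ (a : A) (u : B), IsUnit u ∧ b = f a * u) : ValuationRing B := by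
  rw [ValuationRing.iff_dvd_total]
  refine ⟨fun b b' => ?_⟩
  obtain ⟨a, u, hu, rfl⟩ := hf b
  obtain ⟨a', u', hu', rfl⟩ := hf b'
  rcases hA a a' with h | h
  · left
    rw [hu.mul_right_dvd, hu'.dvd_mul_right]
    exact map_dvd f h
  · right
    rw [hu'.mul_right_dvd, hu.dvd_mul_right]
    exact map_dvd f h

/-- auxiliary: from `b * w = c` with `w` a unit get `b = c * u` with `u` a unit -/
theorem exists_unit_of_mul_eq {B : Type*} [CommRing B] {b w c : B} (hw : IsUnit w)
    (h : b * w = c) : ∃ u : B, IsUnit u ∧ b = c * u := by
  obtain ⟨w', hw'⟩ := hw.exists_right_inv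
  refine ⟨w', IsUnit.of_mul_eq_one w (by rw [mul_comm]; exact hw'), ?_⟩
  rw [← h, mul_assoc, hw', mul_one]


/-- Let R be a Prüfer domain, i.e. a domain all of whose local rings at primes are valuation rings. (a)
For a multiplicative subset S, any localisation B = S⁻¹R that is a domain (S not containing 0) is a
Prüfer domain. (b) For a prime ideal I, the quotient R/I is a Prüfer domain. -/
theorem result
    (R : Type u) [CommRing R] [IsDomain R]
    (hR : ∀ (p : Ideal R) [p.IsPrime], ValuationRing (Localization.AtPrime p))
    (S : Submonoid R) (B : Type u) [CommRing B] [IsDomain B] [Algebra R B] [IsLocalization S B]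
    (I : Ideal R) [I.IsPrime] :
    (∀ (q : Ideal B) [q.IsPrime], ValuationRing (Localization.AtPrime q)) ∧
      (∀ (q : Ideal (R ⧸ I)) [q.IsPrime], ValuationRing (Localization.AtPrime q)) := by
  constructor
  · intro q _
    have hVR := hR (q.comap (algebraMap R B))
    refine valuationRing_of_unit_mul_image
      (Localization.localRingHom (q.comap (algebraMap R B)) q (algebraMap R B) rfl)
      (fun a a' => ValuationRing.dvd_total a a') ?_
    intro b
    obtain ⟨x, s, rfl⟩ := IsLocalization.exists_mk'_eq q.primeCompl b
    obtain ⟨r, m, rfl⟩ := IsLocalization.exists_mk'_eq S x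
    have hs : IsUnit (algebraMap B (Localization.AtPrime q) (s : B)) :=
      IsLocalization.map_units _ s
    have hm : IsUnit (algebraMap B (Localization.AtPrime q) (algebraMap R B (m : R))) :=
      (IsLocalization.map_units B m).map _
    obtain ⟨u, hu, hbu⟩ := exists_unit_of_mul_eq (hs.mul hm)
      (b := IsLocalization.mk' (Localization.AtPrime q) (IsLocalization.mk' B r m) s)
      (c := algebraMap B (Localization.AtPrime q) (algebraMap R B r)) (by
        rw [← mul_assoc, IsLocalization.mk'_spec, ← map_mul, IsLocalization.mk'_spec])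
    refine ⟨algebraMap R _ r, u, hu, ?_⟩
    rw [Localization.localRingHom_to_map]
    exact hbu
  · intro q _
    have hVR := hR (q.comap (Ideal.Quotient.mk I))
    refine valuationRing_of_unit_mul_image
      (Localization.localRingHom (q.comap (Ideal.Quotient.mk I)) q (Ideal.Quotient.mk I) rfl)
      (fun a a' => ValuationRing.dvd_total a a') ?_
    intro b
    obtain ⟨x, s, rfl⟩ := IsLocalization.exists_mk'_eq q.primeCompl b
    obtain ⟨r, rfl⟩ := Ideal.Quotient.mk_surjective x
    have hs : IsUnit (algebraMap (R ⧸ I) (Localization.AtPrime q) (s : R ⧸ I)) :=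
      IsLocalization.map_units _ s
    obtain ⟨u, hu, hbu⟩ := exists_unit_of_mul_eq hs
      (b := IsLocalization.mk' (Localization.AtPrime q) (Ideal.Quotient.mk I r) s)
      (c := algebraMap (R ⧸ I) (Localization.AtPrime q) (Ideal.Quotient.mk I r)) (by
        rw [IsLocalization.mk'_spec])
    refine ⟨algebraMap R _ r, u, hu, ?_⟩
    rw [Localization.localRingHom_to_map]
    exact hbu

end Groth.Agent.S14728
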