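import Groth.Statements.S14730
import Groth.Agent.Lib.Helper9.DimTrdeg
import Groth.Agent.Lib.Helper9.Prufer

set_option autoImplicit false
universe u
open ValPrufer

namespace Groth.Agent.S14730

/-- The Prüfer property transfers along ring isomorphisms. -/
theorem prufer_of_ringEquiv {A B : Type*} [CommRing A] [IsDomain A] [CommRing B] [IsDomain B]
    (e : A ≃+* B)
    (hA : ∀ (p : Ideal A) [p.IsPrime], ValuationRing (Localization.AtPrime p)) :
    ∀ (q : Ideal B) [q.IsPrime], ValuationRing (Localization.AtPrime q) := by
  intro q hq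
  have hp : (q.comap (e : A →+* B)).IsPrime := Ideal.comap_isPrime _ q
  have H : (q.comap (e : A →+* B)).primeCompl.map (e : A ≃+* B).toMonoidHom = q.primeCompl := by
    ext b
    constructor
    · rintro ⟨a, ha, rfl⟩
      exact ha
    · intro hb
      refine ⟨e.symm b, ?_, e.apply_symm_apply b⟩
      show e.symm b ∉ q.comap (e : A →+* B)
      rw [Ideal.mem_comap]
      simpa using hb
  have hV := hA (q.comap (e : A →+* B))
  exact Function.Surjective.valuationRing
    (IsLocalization.ringEquivOfRingEquiv (Localization.AtPrime (q.comap (e : A →+* B)))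
      (Localization.AtPrime q) e H).toRingHom
    (IsLocalization.ringEquivOfRingEquiv (Localization.AtPrime (q.comap (e : A →+* B)))
      (Localization.AtPrime q) e H).surjective

/-- Finiteness of the maximal spectrum transfers along ring isomorphisms. -/
theorem finite_maximalSpectrum_of_ringEquiv {A B : Type*} [CommRing A] [CommRing B]
    (e : A ≃+* B) (hB : Finite (MaximalSpectrum B)) : Finite (MaximalSpectrum A) := by
  have hsurj : Function.Surjective (e.symm : B →+* A) := e.symm.surjective
  refine Finite.of_injective
    (fun M : MaximalSpectrum A =>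
      (⟨M.asIdeal.comap (e.symm : B →+* A),
        Ideal.comap_isMaximal_of_surjective _ hsurj (H := M.2)⟩ : MaximalSpectrum B)) ?_
  intro M N hMN
  have h1 : M.asIdeal.comap (e.symm : B →+* A) = N.asIdeal.comap (e.symm : B →+* A) :=
    congrArg MaximalSpectrum.asIdeal hMN
  exact MaximalSpectrum.ext (Ideal.comap_injective_of_surjective _ hsurj h1)

/-- Let R be a semilocal Prüfer domain (an integral domain with finitely many maximal ideals whose
localisations at primes are valuation rings). Then R is the increasing union of subrings that are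
semilocal Prüfer domains of finite Krull dimension; equivalently, every finite subset of R is
contained in such a subring. -/
theorem result
    (R : Type u) [CommRing R] [IsDomain R]
    (hR : ∀ (p : Ideal R) [p.IsPrime], ValuationRing (Localization.AtPrime p))
    (hfin : Finite (MaximalSpectrum R)) (s : Finset R) :
    ∃ R' : Subring R, (↑s : Set R) ⊆ R' ∧
      (∀ (p : Ideal R') [p.IsPrime], ValuationRing (Localization.AtPrime p)) ∧
      Finite (MaximalSpectrum R') ∧ ringKrullDim R' < ⊤ := by
  classical
  have hinjL : Function.Injective (algebraMap R (FractionRing R)) :=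
    IsFractionRing.injective R (FractionRing R)
  obtain ⟨K₀, hK₀⟩ : ∃ K₀ : Subfield (FractionRing R),
      K₀ = Subfield.closure (algebraMap R (FractionRing R) '' (s : Set R)) := ⟨_, rfl⟩
  obtain ⟨hT1, hT2, -⟩ := Groth.Agent.Lib.Helper9.Prufer.semilocal_prufer_inter_subfield
    R (FractionRing R) hR hfin K₀
  obtain ⟨R', hR'⟩ : ∃ R' : Subring R,
      R' = K₀.toSubring.comap (algebraMap R (FractionRing R)) := ⟨_, rfl⟩
  have hmem : ∀ a : R, a ∈ R' ↔ algebraMap R (FractionRing R) a ∈ K₀ := by
    intro a
    rw [hR']
    rfl
  -- the isomorphism `R' ≃ T`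
  have hcod : ∀ a : R', ((algebraMap R (FractionRing R)).comp R'.subtype) a ∈
      (algebraMap R (FractionRing R)).range ⊓ K₀.toSubring :=
    fun a => ⟨⟨a.1, rfl⟩, (hmem a.1).mp a.2⟩
  have hbij : Function.Bijective (((algebraMap R (FractionRing R)).comp R'.subtype).codRestrict
      ((algebraMap R (FractionRing R)).range ⊓ K₀.toSubring) hcod) := by
    constructor
    · intro a b hab
      apply Subtype.ext
      apply hinjL
      exact congrArg Subtype.val hab
    · rintro ⟨t, ⟨a, rfl⟩, ht⟩
      exact ⟨⟨a, (hmem a).mpr ht⟩, rfl⟩
  let e : R' ≃+* ↥((algebraMap R (FractionRing R)).range ⊓ K₀.toSubring) :=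
    RingEquiv.ofBijective _ hbij
  refine ⟨R', ?_, ?_, ?_, ?_⟩
  · intro a ha
    show a ∈ R'
    rw [hmem, hK₀]
    exact Subfield.subset_closure ⟨a, ha, rfl⟩
  · exact prufer_of_ringEquiv e.symm hT1
  · exact finite_maximalSpectrum_of_ringEquiv e hT2
  · have hinj : Function.Injective ((algebraMap R (FractionRing R)).comp R'.subtype) :=
      hinjL.comp Subtype.val_injective
    obtain ⟨d, hd⟩ := Groth.Agent.Lib.Helper9.DimTrdeg.exists_ringKrullDim_le_of_closure
      ((algebraMap R (FractionRing R)).comp R'.subtype) hinj
      (algebraMap R (FractionRing R) '' (s : Set R)) (s.finite_toSet.image _)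
      (fun a => by
        have h1 := (hmem a.1).mp a.2
        rw [hK₀] at h1
        exact h1)
    refine lt_of_le_of_lt hd ?_
    exact WithBot.coe_lt_coe.mpr (ENat.natCast_lt_top d)

end Groth.Agent.S14730
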