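import Groth.Statements.S14731
import Mathlib.Algebra.Algebra.Rat
import Mathlib.Algebra.GroupWithZero.Submonoid.CancelMulZero
import Mathlib.RingTheory.Henselian
import Mathlib.RingTheory.PicardGroup
import Mathlib.RingTheory.RegularLocalRing.Defs
import Mathlib.RingTheory.SimpleRing.Principal
import Mathlib.RingTheory.Smooth.Field
import Mathlib.RingTheory.Smooth.Locus
import Mathlib.Tactic

set_option autoImplicit false
universe u
open ValPrufer

namespace Groth.Agent.S14731

/-- In characteristic zero every field extension is formally smooth over `ℚ`. -/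
theorem formallySmooth_rat (K : Type u) [Field K] [CharZero K] :
    Algebra.FormallySmooth ℚ K := by
  obtain ⟨s, hs⟩ := exists_isTranscendenceBasis ℚ K
  have : Algebra.IsAlgebraic (IntermediateField.adjoin ℚ (Set.range ((↑) : s → K))) K :=
    hs.isAlgebraic_field
  have : Algebra.IsSeparable (IntermediateField.adjoin ℚ (Set.range ((↑) : s → K))) K :=
    Algebra.IsAlgebraic.isSeparable_of_perfectField
  exact Algebra.FormallySmooth.of_algebraicIndependent_of_isSeparable hs.1

theorem formallySmooth_int (K : Type u) [Field K] [CharZero K] :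
    Algebra.FormallySmooth ℤ K := by
  have := formallySmooth_rat K
  have : Algebra.FormallyEtale ℤ ℚ := Algebra.FormallyEtale.of_isLocalization (nonZeroDivisors ℤ)
  exact Algebra.FormallySmooth.comp ℤ ℚ K

/-- In characteristic zero, every field K generated as a field by a finite set is the fraction field of
a subring A of K of finite type and smooth over the integers. -/
theorem result
    (K : Type u) [Field K] [CharZero K] (s : Finset K)
    (hs : Subfield.closure (↑s : Set K) = ⊤) :
    ∃ A : Subring K, Algebra.FiniteType ℤ A ∧ Algebra.Smooth ℤ A ∧ IsFractionRing A K := by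
  classical
  let B₀ : Subalgebra ℤ K := Algebra.adjoin ℤ (s : Set K)
  have hB₀ : ∀ x : K, ∃ a b : B₀, x = (a : K) / (b : K) := by
    intro x
    have hx : x ∈ Subfield.closure (↑s : Set K) := by rw [hs]; trivial
    obtain ⟨y, hy, z, hz, rfl⟩ := Subfield.mem_closure_iff.mp hx
    have hsub : ∀ w ∈ Subring.closure (↑s : Set K), w ∈ B₀ := by
      intro w hw
      have : Subring.closure (↑s : Set K) ≤ B₀.toSubring :=
        Subring.closure_le.mpr (fun a ha => Algebra.subset_adjoin ha)
      exact this hw
    exact ⟨⟨y, hsub y hy⟩, ⟨z, hsub z hz⟩, rfl⟩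
  have : Algebra.FormallySmooth ℤ K := formallySmooth_int K
  have : Algebra.FiniteType ℤ B₀ :=
    (Subalgebra.fg_iff_finiteType _).mp (Subalgebra.fg_adjoin_finset s)
  have : Algebra.FinitePresentation ℤ B₀ := Algebra.FinitePresentation.of_finiteType.mp inferInstance
  have hfrac : IsFractionRing B₀ K := IsFractionRing.of_field B₀ K hB₀
  have hloc : IsLocalization (⊥ : Ideal B₀).primeCompl K := by
    rw [Ideal.primeCompl_bot]
    exact hfrac
  let e : K ≃ₐ[ℤ] Localization.AtPrime (⊥ : Ideal B₀) :=
    (IsLocalization.algEquiv (⊥ : Ideal B₀).primeCompl K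
      (Localization.AtPrime (⊥ : Ideal B₀))).restrictScalars ℤ
  have hsmAt : Algebra.IsSmoothAt ℤ (⊥ : Ideal B₀) := Algebra.FormallySmooth.of_equiv e
  obtain ⟨f, hf, hsm⟩ := Algebra.IsSmoothAt.exists_notMem_smooth ℤ (⊥ : Ideal B₀)
  have hf0 : f ≠ 0 := fun h => hf (by rw [h]; exact Ideal.zero_mem _)
  have hunit : ∀ y : Submonoid.powers f, IsUnit (B₀.val (y : B₀)) := by
    rintro ⟨_, n, rfl⟩
    rw [map_pow]
    refine IsUnit.pow n (IsUnit.mk0 _ ?_)
    intro h0
    exact hf0 (Subtype.ext h0)
  let φ : Localization.Away f →ₐ[ℤ] K := IsLocalization.liftAlgHom (M := Submonoid.powers f) hunit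
  have hφ : ∀ b : B₀, φ (algebraMap B₀ (Localization.Away f) b) = (b : K) := by
    intro b
    exact IsLocalization.lift_eq hunit b
  have hinj : Function.Injective φ := by
    change Function.Injective (IsLocalization.lift hunit)
    rw [IsLocalization.lift_injective_iff]
    intro x y
    have h1 : Function.Injective (algebraMap B₀ (Localization.Away f)) :=
      IsLocalization.injective _ (powers_le_nonZeroDivisors_of_noZeroDivisors hf0)
    constructor
    · intro h
      rw [h1 h]
    · intro h
      have : x = y := Subtype.ext h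
      rw [this]
  let A : Subalgebra ℤ K := φ.range
  let eA : Localization.Away f ≃ₐ[ℤ] A := AlgEquiv.ofInjective φ hinj
  have hft : Algebra.FiniteType ℤ (Localization.Away f) :=
    Algebra.FiniteType.trans (inferInstance : Algebra.FiniteType ℤ B₀)
      (IsLocalization.finiteType_of_monoid_fg (Submonoid.powers f) (Localization.Away f))
  refine ⟨A.toSubring, ?_, ?_, ?_⟩
  · exact Algebra.FiniteType.equiv hft eA
  · exact Algebra.Smooth.of_equiv eA
  · refine IsFractionRing.of_field A.toSubring K ?_
    intro x
    obtain ⟨a, b, rfl⟩ := hB₀ x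
    refine ⟨⟨(a : K), algebraMap B₀ (Localization.Away f) a, hφ a⟩,
      ⟨(b : K), algebraMap B₀ (Localization.Away f) b, hφ b⟩, rfl⟩

end Groth.Agent.S14731
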