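import Groth.Statements.S14732
import Mathlib

set_option autoImplicit false
universe u
open ValPrufer

namespace Groth.Agent.S14732

theorem exists_smooth_subalgebra (F K : Type u) [Field F] [PerfectField F] [Field K] [Algebra F K]
    (s : Finset K)
    (hs : ∀ x : K, ∃ y ∈ Algebra.adjoin F (s : Set K), ∃ z ∈ Algebra.adjoin F (s : Set K),
      x = y / z) :
    ∃ A : Subalgebra F K, Algebra.FiniteType F A ∧ Algebra.Smooth F A ∧ IsFractionRing A K := by
  let A₀ : Subalgebra F K := Algebra.adjoin F (s : Set K)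
  have hft : Algebra.FiniteType F A₀ :=
    (Subalgebra.fg_iff_finiteType _).mp (Subalgebra.fg_adjoin_finset s)
  have hfp : Algebra.FinitePresentation F A₀ := Algebra.FinitePresentation.of_finiteType.mp hft
  have hfrac : IsFractionRing A₀ K := IsFractionRing.of_field A₀ K (fun z => by
    obtain ⟨y, hy, w, hw, rfl⟩ := hs z
    exact ⟨⟨y, hy⟩, ⟨w, hw⟩, rfl⟩)
  have hbot : (⊥ : Ideal A₀).IsPrime := Ideal.isPrime_bot
  have hcompl : (⊥ : Ideal A₀).primeCompl = nonZeroDivisors A₀ := by
    ext x
    simp [Ideal.primeCompl, mem_nonZeroDivisors_iff_ne_zero]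
  have hloc : IsLocalization (⊥ : Ideal A₀).primeCompl K := by
    rw [hcompl]; exact hfrac
  have hess : Algebra.EssFiniteType F K :=
    have : Algebra.EssFiniteType A₀ K := Algebra.EssFiniteType.of_isLocalization K (nonZeroDivisors A₀)
    Algebra.EssFiniteType.comp F A₀ K
  have hKsm : Algebra.FormallySmooth F K := inferInstance
  have hsmAt : Algebra.IsSmoothAt F (⊥ : Ideal A₀) :=
    Algebra.FormallySmooth.of_equiv
      ((IsLocalization.algEquiv (⊥ : Ideal A₀).primeCompl K
        (Localization.AtPrime (⊥ : Ideal A₀))).restrictScalars F)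
  obtain ⟨f, hf, hsm⟩ := Algebra.IsSmoothAt.exists_notMem_smooth F (⊥ : Ideal A₀)
  have hf0 : f ≠ 0 := fun h => hf (by simp [h])
  have hfK : algebraMap A₀ K f ≠ 0 := by
    rw [Ne, map_eq_zero_iff _ (IsFractionRing.injective A₀ K)]; exact hf0
  let φ₀ : Localization.Away f →ₐ[A₀] K :=
    IsLocalization.liftAlgHom (M := Submonoid.powers f) (f := Algebra.ofId A₀ K) (by
      rintro ⟨_, n, rfl⟩
      simp only [Algebra.ofId_apply, map_pow]
      exact (IsUnit.mk0 _ hfK).pow n)
  let φ : Localization.Away f →ₐ[F] K := φ₀.restrictScalars F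
  have hφalg : ∀ a : A₀, φ (algebraMap A₀ (Localization.Away f) a) = (a : K) := by
    intro a
    show φ₀ (algebraMap A₀ (Localization.Away f) a) = _
    rw [φ₀.commutes]; rfl
  have hinj : Function.Injective φ := by
    rw [injective_iff_map_eq_zero]
    intro a ha
    obtain ⟨x, ⟨_, n, rfl⟩, rfl⟩ := IsLocalization.exists_mk'_eq (Submonoid.powers f) a
    have h1 : φ (IsLocalization.mk' (Localization.Away f) x (⟨f ^ n, n, rfl⟩ : Submonoid.powers f)) *
        φ (algebraMap A₀ (Localization.Away f) (f ^ n)) =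
        φ (algebraMap A₀ (Localization.Away f) x) := by
      rw [← map_mul]
      congr 1
      exact IsLocalization.mk'_spec (Localization.Away f) x (⟨f ^ n, n, rfl⟩ : Submonoid.powers f)
    rw [ha, zero_mul, hφalg] at h1
    have hx : x = 0 := by
      ext; exact h1.symm
    rw [hx, IsLocalization.mk'_zero]
  let A : Subalgebra F K := φ.range
  let e : Localization.Away f ≃ₐ[F] A := AlgEquiv.ofInjective φ hinj
  have hA₀A : ∀ a : A₀, (a : K) ∈ A := fun a => ⟨_, hφalg a⟩
  refine ⟨A, ?_, ?_, ?_⟩
  · have : Algebra.FiniteType F (Localization.Away f) :=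
      Algebra.FiniteType.trans hft inferInstance
    exact Algebra.FiniteType.equiv this e
  · exact Algebra.Smooth.of_equiv e
  · refine IsFractionRing.of_field A K (fun z => ?_)
    obtain ⟨y, hy, w, hw, rfl⟩ := hs z
    exact ⟨⟨y, hA₀A ⟨y, hy⟩⟩, ⟨w, hA₀A ⟨w, hw⟩⟩, rfl⟩

/-- In characteristic p > 0, a field K that is finitely generated over its prime subfield F (a field
with p elements) is the fraction field of an integral scheme smooth over F; concretely, there is an
F-subalgebra A of K, of finite type and smooth over F, whose fraction field is K. -/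
theorem result
    (K : Type u) [Field K] (p : ℕ) [Fact p.Prime] [CharP K p] (s : Finset K)
    (hs : Subfield.closure (↑s : Set K) = ⊤) :
    ∃ A : Subalgebra (⊥ : Subfield K) K, Algebra.FiniteType (⊥ : Subfield K) A ∧
      Algebra.Smooth (⊥ : Subfield K) A ∧ IsFractionRing A K := by
  have hfin : Finite (⊥ : Subfield K) := (Subfield.fintypeBot K p).finite
  have hperf : PerfectField (⊥ : Subfield K) := inferInstance
  refine exists_smooth_subalgebra (⊥ : Subfield K) K s (fun x => ?_)
  have hx : x ∈ Subfield.closure (↑s : Set K) := by rw [hs]; trivial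
  obtain ⟨y, hy, z, hz, rfl⟩ := Subfield.mem_closure_iff.mp hx
  have hle : Subring.closure (↑s : Set K) ≤
      (Algebra.adjoin (⊥ : Subfield K) (↑s : Set K)).toSubring :=
    Subring.closure_le.mpr Algebra.subset_adjoin
  exact ⟨y, hle hy, z, hle hz, rfl⟩

end Groth.Agent.S14732
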