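import Groth.Statements.S14738
import Mathlib

set_option autoImplicit false
universe u
open ValPrufer

namespace Groth.Agent.S14738

/-- Let R be a semilocal Prüfer domain (an integral domain with finitely many maximal ideals whose
localisations at primes are valuation rings) of finite Krull dimension, and m a maximal ideal of R.
Then there is a ∈ R with V(a) = {m}, i.e. m is the only prime ideal containing a, and there is b ∉ m
such that R[1/b] is the localisation R_m (every element outside m becomes invertible after inverting
b); consequently the spectra of the local rings R_m form a Zariski open covering of Spec R. (The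
published remark assumes positive Krull dimension to construct a; for R a field the assertions hold
with a = 0 and b = 1. It also takes b to be the product of the elements a_n chosen in the same way
for the other maximal ideals n; that choice fails as soon as a non-maximal prime lies in another
maximal ideal but not in m, e.g. for the intersection of two independent rank-two valuation rings of
a field, so this row asserts only that some such b exists.) -/
theorem result
    (R : Type u) [CommRing R] [IsDomain R]
    (hR : ∀ (p : Ideal R) [p.IsPrime], ValuationRing (Localization.AtPrime p))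
    (hfin : Finite (MaximalSpectrum R)) (hdim : ringKrullDim R < ⊤)
    (m : Ideal R) [m.IsMaximal] :
    (∃ a : R, ∀ (p : Ideal R), p.IsPrime → (a ∈ p ↔ p = m)) ∧
      ∃ b : R, b ∉ m ∧ IsLocalization.AtPrime (Localization.Away b) m := by
  classical
  -- Step 1: primes below a maximal ideal are totally ordered
  have htot : ∀ (M : Ideal R) [M.IsMaximal] (p q : Ideal R), p.IsPrime → q.IsPrime → p ≤ M → q ≤ M →
      p ≤ q ∨ q ≤ p := by
    intro M hM p q hp hq hpM hqM
    have hv := hR M
    have ht := (ValuationRing.iff_ideal_total.mp hv).total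
      (p.map (algebraMap R (Localization.AtPrime M))) (q.map (algebraMap R (Localization.AtPrime M)))
    have hpd : Disjoint (M.primeCompl : Set R) (p : Set R) := by
      rw [Set.disjoint_left]
      intro y hy hyp
      exact hy (hpM hyp)
    have hqd : Disjoint (M.primeCompl : Set R) (q : Set R) := by
      rw [Set.disjoint_left]
      intro y hy hyq
      exact hy (hqM hyq)
    have hcp := IsLocalization.comap_map_of_isPrime_disjoint M.primeCompl
      (Localization.AtPrime M) hp hpd
    have hcq := IsLocalization.comap_map_of_isPrime_disjoint M.primeCompl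
      (Localization.AtPrime M) hq hqd
    rw [Ideal.under_def] at hcp hcq
    rcases ht with h | h
    · left
      have := Ideal.comap_mono (f := algebraMap R (Localization.AtPrime M)) h
      rwa [hcp, hcq] at this
    · right
      have := Ideal.comap_mono (f := algebraMap R (Localization.AtPrime M)) h
      rwa [hcp, hcq] at this
  -- Step 2: heights are bounded
  obtain ⟨d, hd⟩ : ∃ d : ℕ, ringKrullDim R ≤ d := by
    have h0 : (0 : WithBot ℕ∞) ≤ ringKrullDim R := ringKrullDim_nonneg_of_nontrivial
    generalize ringKrullDim R = a at hdim h0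
    induction a with
    | bot => simp at h0
    | coe a =>
      induction a with
      | top => exact absurd hdim (lt_irrefl _)
      | coe a => exact ⟨a, le_rfl⟩
  have hht : ∀ (p : Ideal R), p.IsPrime → p.height ≤ d := by
    intro p hp
    have := (Ideal.height_le_ringKrullDim_of_ne_top hp.ne_top).trans hd
    exact_mod_cast this
  have hinj : ∀ (M : Ideal R) [M.IsMaximal] (p q : Ideal R), p.IsPrime → q.IsPrime → p ≤ M → q ≤ M →
      p.height.toNat = q.height.toNat → p = q := by
    intro M hM p q hp hq hpM hqM hpq
    have hpf : p.height ≠ ⊤ := ne_top_of_le_ne_top (ENat.coe_ne_top d) (hht p hp)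
    have hqf : q.height ≠ ⊤ := ne_top_of_le_ne_top (ENat.coe_ne_top d) (hht q hq)
    have heq : p.height = q.height := by
      rw [← ENat.coe_toNat hpf, ← ENat.coe_toNat hqf, hpq]
    haveI := hp
    haveI := hq
    haveI : p.FiniteHeight := ⟨Or.inr hpf⟩
    haveI : q.FiniteHeight := ⟨Or.inr hqf⟩
    rcases htot M p q hp hq hpM hqM with h | h
    · by_contra hne
      have hlt : p < q := lt_of_le_of_ne h hne
      have := Ideal.height_strict_mono_of_isPrime hlt
      rw [heq] at this
      exact lt_irrefl _ this
    · by_contra hne
      have hlt : q < p := lt_of_le_of_ne h (Ne.symm hne)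
      have := Ideal.height_strict_mono_of_isPrime hlt
      rw [heq] at this
      exact lt_irrefl _ this
  have hfinM : ∀ (M : Ideal R) [M.IsMaximal], {p : Ideal R | p.IsPrime ∧ p ≤ M}.Finite := by
    intro M hM
    refine Set.Finite.of_injOn (f := fun p : Ideal R => p.height.toNat)
      (t := ((Finset.range (d + 1) : Finset ℕ) : Set ℕ)) ?_ ?_ (Finset.finite_toSet _)
    · rintro p ⟨hp, -⟩
      simp only [Finset.coe_range, Set.mem_Iio]
      have := hht p hp
      have h2 : p.height.toNat ≤ d := by
        have hpf : p.height ≠ ⊤ := ne_top_of_le_ne_top (ENat.coe_ne_top d) this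
        rw [← ENat.coe_toNat hpf] at this
        exact_mod_cast this
      omega
    · rintro p ⟨hp, hpM⟩ q ⟨hq, hqM⟩ hpq
      exact hinj M p q hp hq hpM hqM hpq
  have hspec : {p : Ideal R | p.IsPrime}.Finite := by
    have hsub : {p : Ideal R | p.IsPrime} ⊆
        ⋃ M : MaximalSpectrum R, {p : Ideal R | p.IsPrime ∧ p ≤ M.asIdeal} := by
      intro p hp
      obtain ⟨M, hM, hpM⟩ := Ideal.exists_le_maximal p (Ideal.IsPrime.ne_top hp)
      exact Set.mem_iUnion.mpr ⟨⟨M, hM⟩, hp, hpM⟩
    haveI := hfin
    refine (Set.finite_iUnion (fun M : MaximalSpectrum R => ?_)).subset hsub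
    haveI := M.isMaximal
    exact hfinM M.asIdeal
  constructor
  · -- prime avoidance
    set s : Finset (Ideal R) := hspec.toFinset.erase m with hs
    have hmem : ∀ p, p ∈ s ↔ p.IsPrime ∧ p ≠ m := by
      intro p
      simp only [hs, Finset.mem_erase, Set.Finite.mem_toFinset, Set.mem_setOf_eq]
      tauto
    by_contra hcon
    push_neg at hcon
    have hcover : (m : Set R) ⊆ ⋃ i ∈ (s : Set (Ideal R)), (i : Set R) := by
      intro a ha
      by_contra hna
      simp only [Set.mem_iUnion, Finset.mem_coe, SetLike.mem_coe, not_exists] at hna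
      obtain ⟨p, hp, hiff⟩ := hcon a
      rcases hiff with ⟨hap, hpm⟩ | ⟨hap, hpm⟩
      · exact hna p ((hmem p).mpr ⟨hp, hpm⟩) hap
      · subst hpm
        exact hap ha
    obtain ⟨p, hps, hmp⟩ := (Ideal.subset_union_prime (f := fun i : Ideal R => i) m m
      (fun i hi _ _ => ((hmem i).mp hi).1)).mp hcover
    obtain ⟨hp, hpm⟩ := (hmem p).mp hps
    exact hpm ((Ideal.IsMaximal.eq_of_le inferInstance hp.ne_top hmp).symm)
  · set s : Finset (Ideal R) := hspec.toFinset.filter (fun p => ¬ p ≤ m) with hs
    have hmem : ∀ p, p ∈ s ↔ p.IsPrime ∧ ¬ p ≤ m := by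
      intro p
      simp only [hs, Finset.mem_filter, Set.Finite.mem_toFinset, Set.mem_setOf_eq]
    have hnle : ¬ s.inf (fun i : Ideal R => i) ≤ m := by
      intro hle
      obtain ⟨p, hps, hpm⟩ := (Ideal.IsPrime.inf_le' (inferInstance : m.IsPrime)).mp hle
      exact ((hmem p).mp hps).2 hpm
    obtain ⟨b, hbI, hbm⟩ := Set.not_subset.mp hnle
    have hbI' : ∀ p : Ideal R, p.IsPrime → ¬ p ≤ m → b ∈ p := by
      intro p hp hpm
      have : s.inf (fun i : Ideal R => i) ≤ p := Finset.inf_le ((hmem p).mpr ⟨hp, hpm⟩)
      exact this hbI
    refine ⟨b, hbm, ?_⟩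
    refine IsLocalization.of_le (M := Submonoid.powers b) (S := Localization.Away b) m.primeCompl
      (Submonoid.powers_le.mpr hbm) ?_
    intro r hr
    by_contra hnu
    obtain ⟨Q, hQ, hrQ⟩ := exists_max_ideal_of_mem_nonunits hnu
    set q : Ideal R := Q.comap (algebraMap R (Localization.Away b)) with hq
    have hqp : q.IsPrime := Ideal.comap_isPrime _ _
    have hbq : b ∉ q := by
      intro hb
      have h1 : algebraMap R (Localization.Away b) b ∈ Q := hb
      exact hQ.ne_top (Ideal.eq_top_of_isUnit_mem _ h1 (IsLocalization.Away.algebraMap_isUnit b))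
    have hqm : q ≤ m := by
      by_contra hqm
      exact hbq (hbI' q hqp hqm)
    exact hr (hqm hrQ)

end Groth.Agent.S14738
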