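import Groth.Statements.S14741
import Groth.Agent.S0010
import Groth.Agent.Lib.Helper93.PnCover

set_option autoImplicit false
universe u
open CategoryTheory AlgebraicGeometry
open ValPrufer

namespace Groth.Agent.S14741

/-- Let R be a semilocal Prüfer domain (an integral domain with finitely many maximal ideals whose
localisations at primes are valuation rings) of finite Krull dimension, m ≥ 1, X a closed subscheme
of projective (m-1)-space over R which is flat over R, and F a finitely presented (equivalently,
coherent) O_X-module. Then H^q(X, F) = 0 for all q > m. -/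
theorem result
    (R : Type u) [CommRing R] [IsDomain R]
    (hR : ∀ (p : Ideal R) [p.IsPrime], ValuationRing (Localization.AtPrime p))
    (hfin : Finite (MaximalSpectrum R)) (hdim : ringKrullDim R < ⊤)
    (m : ℕ) (hm : 1 ≤ m) (X : Scheme.{u}) (ι : X ⟶ CohB1.ProjSpace (m - 1) R) [IsClosedImmersion ι]
    [Flat (ι ≫ CohB1.ProjSpace.toSpec (m - 1) R)]
    (F : X.Modules) (hF : CohB1.IsFP F) (q : ℕ) (hq : m < q) :
    Subsingleton (Coh.HH X F q) := by
  obtain ⟨n, rfl⟩ : ∃ n, m = n + 1 := ⟨m - 1, by omega⟩
  have hι : IsClosedImmersion (show X ⟶ CohB1.ProjSpace n R from ι) := by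
    simpa using (inferInstance : IsClosedImmersion ι)
  obtain ⟨U, hU, hcov⟩ :=
    Groth.Agent.Lib.Helper93.PnCover.exists_affine_cover_of_isClosedImmersion
      (show X ⟶ CohB1.ProjSpace n R from ι)
  have hqc : Coh.IsQCoh F := by
    have h := hF
    unfold CohB1.IsFP at h
    unfold Coh.IsQCoh
    infer_instance
  exact Groth.Agent.S0010.result X (n + 1) U hU hcov
    (Groth.Agent.Lib.Helper93.PnCover.isAffineOpen_inf_of_isClosedImmersion
      (show X ⟶ CohB1.ProjSpace n R from ι)) F q hq.le

end Groth.Agent.S14741
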