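import Groth.Statements.S14743
-- import your own Groth.Agent.* helpers here

set_option autoImplicit false
universe u
open CategoryTheory MonoidalCategory CartesianMonoidalCategory MonObj GrpObj AlgebraicGeometry
open AlgGrp

namespace Groth.Agent.S14743

/-- Over an algebraically closed field k let L, G, B be commutative k-group schemes, i : L → G and π : G
→ B homomorphisms with i the kernel of π, and suppose that every k-morphism B × B → L is constant
(factors through a k-point of L). If π admits a section which is a morphism of k-schemes, then it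
admits a section which is a homomorphism, so the extension splits. (The published statement is for
algebraic groups, that is, of finite type over k; finiteness plays no role and is not assumed here.) -/
theorem result (k : Type u) [Field k] [IsAlgClosed k]
    (L G B : Over (Spec (CommRingCat.of k))) [GrpObj L] [GrpObj G] [GrpObj B]
    [IsCommMonObj L] [IsCommMonObj G] [IsCommMonObj B]
    (i : L ⟶ G) [IsMonHom i] (π : G ⟶ B) [IsMonHom π] (hker : AlgGrp.IsKernel i π)
    (hconst : ∀ f : B ⊗ B ⟶ L, ∃ l : 𝟙_ (Over (Spec (CommRingCat.of k))) ⟶ L, f = toUnit (B ⊗ B) ≫ l)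
    (s : B ⟶ G) (hs : s ≫ π = 𝟙 B) :
    ∃ s' : B ⟶ G, IsMonHom s' ∧ s' ≫ π = 𝟙 B := by
  -- normalise the section so that it preserves the unit
  let c : B ⟶ G := toUnit B ≫ η[B] ≫ s
  let s₁ : B ⟶ G := s * c⁻¹
  have hcπ : c ≫ π = 1 := by
    change (toUnit B ≫ η[B] ≫ s) ≫ π = 1
    rw [Category.assoc, Category.assoc, hs, Category.comp_id]
    rfl
  have hs₁π : s₁ ≫ π = 𝟙 B := by
    change (s * c⁻¹) ≫ π = 𝟙 B
    rw [MonObj.mul_comp, GrpObj.inv_comp, hcπ, hs, inv_one, _root_.mul_one]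
  have hηs₁ : η[B] ≫ s₁ = 1 := by
    change η[B] ≫ (s * c⁻¹) = 1
    rw [MonObj.comp_mul, GrpObj.comp_inv]
    have : η[B] ≫ c = η[B] ≫ s := by
      change η[B] ≫ toUnit B ≫ η[B] ≫ s = _
      rw [← Category.assoc, Subsingleton.elim (η[B] ≫ toUnit B) (𝟙 _), Category.id_comp]
    rw [this, mul_inv_cancel]
  -- the defect of additivity
  let f : B ⊗ B ⟶ G := (μ[B] ≫ s₁) * (snd B B ≫ s₁)⁻¹ * (fst B B ≫ s₁)⁻¹
  have hfπ : f ≫ π = toUnit (B ⊗ B) ≫ η[B] := by
    change ((μ[B] ≫ s₁) * (snd B B ≫ s₁)⁻¹ * (fst B B ≫ s₁)⁻¹) ≫ π = _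
    rw [MonObj.mul_comp, MonObj.mul_comp, GrpObj.inv_comp, GrpObj.inv_comp, Category.assoc,
      Category.assoc, Category.assoc, hs₁π, Category.comp_id, Category.comp_id, Category.comp_id,
      MonObj.mul_eq_mul, mul_inv_cancel_right, mul_inv_cancel]
    rfl
  -- it factors through the kernel
  obtain ⟨f', hf'i, -⟩ : ∃ f' : B ⊗ B ⟶ L, f' ≫ i = f ∧ f' ≫ toUnit L = toUnit (B ⊗ B) :=
    ⟨hker.lift f (toUnit (B ⊗ B)) hfπ, hker.lift_fst _ _ _, hker.lift_snd _ _ _⟩
  obtain ⟨l, hl⟩ := hconst f'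
  -- evaluate at the unit
  have hev : lift η[B] η[B] ≫ f = 1 := by
    change lift η[B] η[B] ≫ ((μ[B] ≫ s₁) * (snd B B ≫ s₁)⁻¹ * (fst B B ≫ s₁)⁻¹) = 1
    rw [MonObj.comp_mul, MonObj.comp_mul, GrpObj.comp_inv, GrpObj.comp_inv, lift_fst_assoc,
      lift_snd_assoc, hηs₁, ← Category.assoc]
    have : lift η[B] η[B] ≫ μ[B] = η[B] := by
      rw [← Hom.mul_def, MonObj.one_eq_one, _root_.one_mul]
    rw [this, hηs₁]
    simp
  have hli : l ≫ i = 1 := by
    have h1 : lift η[B] η[B] ≫ f = l ≫ i := by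
      rw [← hf'i, hl, Category.assoc, ← Category.assoc,
        Subsingleton.elim (lift η[B] η[B] ≫ toUnit (B ⊗ B)) (𝟙 _), Category.id_comp]
    rw [← h1, hev]
  have hf1 : f = 1 := by
    rw [← hf'i, hl, Category.assoc, hli, MonObj.comp_one]
  have hmul : μ[B] ≫ s₁ = (fst B B ≫ s₁) * (snd B B ≫ s₁) := by
    have : (μ[B] ≫ s₁) * (snd B B ≫ s₁)⁻¹ * (fst B B ≫ s₁)⁻¹ = 1 := hf1
    rw [mul_inv_eq_one, mul_inv_eq_iff_eq_mul] at this
    exact this
  refine ⟨s₁, ⟨?_, ?_⟩, hs₁π⟩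
  · rw [hηs₁, MonObj.one_eq_one]
  · rw [hmul, Hom.mul_def]
    rfl

end Groth.Agent.S14743
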