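import Groth.Statements.S14745
import Mathlib.Algebra.Algebra.Basic
import Mathlib.Algebra.BigOperators.Group.Finset.Basic
import Mathlib.Data.Fintype.BigOperators
import Mathlib.RingTheory.Ideal.Operations
import Mathlib.RingTheory.Ideal.BigOperators

set_option autoImplicit false
universe u v w
open CAlg

namespace Groth.Agent.S14745

/-- Let k be a field of characteristic zero, A a commutative k-algebra on which a finite group Γ acts by
k-algebra automorphisms, and I the ideal of A generated by a set of Γ-invariant elements. Then the
Γ-invariants of A map onto the Γ-invariants of A/I: every element of A whose class modulo I is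
Γ-invariant is congruent modulo I to a Γ-invariant element. (The published statement takes A
finitely generated and finitely many invariant generators; neither finiteness is used.) -/
theorem result (k : Type u) [Field k] [CharZero k]
    (A : Type v) [CommRing A] [Algebra k A] (Γ : Type w) [Group Γ] [Finite Γ]
    [MulSemiringAction Γ A] [SMulCommClass Γ k A]
    (S : Set A) (hS : ∀ f ∈ S, ∀ γ : Γ, γ • f = f) (a : A) (ha : ∀ γ : Γ, γ • a - a ∈ Ideal.span S) :
    ∃ b : A, (∀ γ : Γ, γ • b = b) ∧ a - b ∈ Ideal.span S := by
  classical
  cases nonempty_fintype Γ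
  set N : k := (Fintype.card Γ : k) with hN
  have hN0 : N ≠ 0 := by
    simp [hN, Fintype.card_ne_zero]
  refine ⟨N⁻¹ • ∑ γ : Γ, γ • a, ?_, ?_⟩
  · intro γ'
    rw [smul_comm, Finset.smul_sum]
    congr 1
    exact Fintype.sum_equiv (Equiv.mulLeft γ') _ _ (fun γ => by simp [mul_smul])
  · have h1 : a - N⁻¹ • ∑ γ : Γ, γ • a = N⁻¹ • ∑ γ : Γ, (a - γ • a) := by
      rw [Finset.sum_sub_distrib, smul_sub, Finset.sum_const, Finset.card_univ,
        ← Nat.cast_smul_eq_nsmul k, smul_smul, inv_mul_cancel₀ hN0, one_smul]
    rw [h1, Algebra.smul_def]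
    apply Ideal.mul_mem_left
    apply Ideal.sum_mem
    intro γ _
    have := ha γ
    rw [← neg_sub]
    exact (Ideal.neg_mem_iff _).2 this

end Groth.Agent.S14745
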