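import Groth.Statements.S14751
import Groth.Agent.Lib.Helper75.AbVarOfSmooth
import Groth.Agent.Lib.Helper75.RigidityProd
-- import your own Groth.Agent.* helpers here

set_option autoImplicit false
universe u
open CategoryTheory CategoryTheory.Limits MonoidalCategory CartesianMonoidalCategory MonObj GrpObj AlgebraicGeometry
open AlgGrp

namespace Groth.Agent.S14751

/-- A fibre product of a proper closed subscheme and an affine closed subscheme is finite. -/
theorem finite_of_isPullback (k : Type u) [Field k]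
    (A N G K : Over (Spec (CommRingCat.of k))) [IsProper A.hom] [IsAffine N.left]
    (j : A ⟶ G) (i : N ⟶ G) [IsClosedImmersion j.left] [IsClosedImmersion i.left]
    (a : K ⟶ A) (n : K ⟶ N) (h : IsPullback a n j i) : IsFinite K.hom := by
  have h' : IsPullback a.left n.left j.left i.left := h.map (Over.forget _)
  have ha : IsClosedImmersion a.left :=
    MorphismProperty.of_isPullback (P := @IsClosedImmersion) h'.flip inferInstance
  have hn : IsClosedImmersion n.left :=
    MorphismProperty.of_isPullback (P := @IsClosedImmersion) h' inferInstance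
  have hKaff : IsAffine K.left := isAffine_of_isAffineHom n.left
  rw [IsFinite.iff_isProper_and_isAffineHom]
  refine ⟨?_, inferInstance⟩
  rw [← Over.w a]
  infer_instance

/-- The kernel of the multiplication `A × N → G` is the fibre product `A ×_G N`
(via `(a, n) ↦ (a, n⁻¹)`). -/
theorem isPullback_of_isKernel_mul {C : Type*} [Category C] [CartesianMonoidalCategory C]
    (G N A K : C) [GrpObj G] [GrpObj N] [GrpObj A]
    (i : N ⟶ G) [IsMonHom i] [Mono i] (j : A ⟶ G) [IsMonHom j]
    (κ : K ⟶ A ⊗ N) (hκ : IsPullback κ (toUnit K) ((fst A N ≫ j) * (snd A N ≫ i)) η[G]) :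
    IsPullback (κ ≫ fst A N) ((κ ≫ snd A N)⁻¹) j i := by
  have hw : (κ ≫ fst A N ≫ j) * (κ ≫ snd A N ≫ i) = 1 := by
    have := hκ.w
    rw [comp_mul] at this
    rw [this, Hom.one_def]
  have hw' : (κ ≫ fst A N) ≫ j = (κ ≫ snd A N)⁻¹ ≫ i := by
    rw [GrpObj.inv_comp, Category.assoc, Category.assoc]
    exact eq_inv_of_mul_eq_one_left hw
  refine ⟨⟨hw'⟩, ⟨PullbackCone.IsLimit.mk _ ?_ ?_ ?_ ?_⟩⟩
  · intro s
    refine hκ.lift (lift s.fst (s.snd)⁻¹) (toUnit _) ?_
    rw [comp_mul, lift_fst_assoc, lift_snd_assoc, s.condition, GrpObj.inv_comp, mul_inv_cancel,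
      Hom.one_def]
  · intro s
    rw [← Category.assoc, hκ.lift_fst, lift_fst]
  · intro s
    rw [GrpObj.comp_inv, ← Category.assoc, hκ.lift_fst, lift_snd, _root_.inv_inv]
  · intro s m h1 h2
    apply hκ.hom_ext
    · rw [hκ.lift_fst]
      apply CartesianMonoidalCategory.hom_ext
      · rw [lift_fst, Category.assoc, h1]
      · rw [lift_snd, ← h2, GrpObj.comp_inv, _root_.inv_inv, Category.assoc]
    · exact toUnit_unique _ _

theorem result (k : Type u) [Field k] [IsAlgClosed k]
    (G N A Q : Over (Spec (CommRingCat.of k))) [GrpObj G] [GrpObj N] [GrpObj A] [GrpObj Q]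
    [Smooth G.hom] [QuasiCompact G.hom] [ConnectedSpace ↥G.left]
    (i : N ⟶ G) [IsMonHom i] [IsClosedImmersion i.left] [IsAffine N.left]
    (π : G ⟶ Q) [IsMonHom π] [Flat π.left] [Surjective π.left] (hker : AlgGrp.IsKernel i π)
    (j : A ⟶ G) [IsMonHom j] [IsClosedImmersion j.left] [Smooth A.hom] [ConnectedSpace ↥A.left] [IsProper A.hom]
    (hsurj : Surjective ((j ⊗ₘ i) ≫ μ[G]).left) :
    IsMonHom ((j ⊗ₘ i) ≫ μ[G]) ∧ SGA7.IsIsogenyOver ((j ⊗ₘ i) ≫ μ[G]) ∧ SGA7.IsIsogenyOver (j ≫ π) := by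
  have hAint : GeometricallyIntegral A.hom :=
    Groth.Agent.Lib.Helper75.AbVarOfSmooth.geometricallyIntegral_of_smooth A
  have hGint : GeometricallyIntegral G.hom :=
    Groth.Agent.Lib.Helper75.AbVarOfSmooth.geometricallyIntegral_of_smooth G
  have hGsep : IsSeparated G.hom := Groth.Agent.Lib.Helper41.SepPoints3.isSeparated_of_field G
  have himono : Mono i := by
    have : Mono i.left := inferInstance
    exact (Over.forget _).mono_of_mono_map this
  have hc0 := Groth.Agent.Lib.Helper75.Rigidity.commute_fst_snd k A G G j (𝟙 G)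
    (IsMonHom.one_hom j) (Category.comp_id _)
  have hc : (fst A N ≫ j) * (snd A N ≫ i) = (snd A N ≫ i) * (fst A N ≫ j) := by
    have := congrArg (fun t => (A ◁ i) ≫ t) hc0
    simp only [comp_mul, whiskerLeft_fst_assoc, whiskerLeft_snd, Category.comp_id] at this
    exact this
  have hm : (j ⊗ₘ i) ≫ μ[G] = (fst A N ≫ j) * (snd A N ≫ i) := by
    rw [Hom.mul_def, ← lift_map, lift_fst_snd, Category.id_comp]
  refine ⟨?_, ⟨hsurj, ?_⟩, ⟨?_, ?_⟩⟩
  · rw [hm]
    exact Groth.Agent.Lib.Helper75.Rigidity.isMonHom_mul_of_commute A N G j i hc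
  · intro K κ hK
    unfold AlgGrp.IsKernel at hK
    rw [hm] at hK
    exact finite_of_isPullback k A N G K j i _ _ (isPullback_of_isKernel_mul G N A K i j κ hK)
  · have h1 : ((j ⊗ₘ i) ≫ μ[G]) ≫ π = fst A N ≫ j ≫ π := by
      rw [hm, mul_comp, Category.assoc, Category.assoc, hker.w, ← Category.assoc (snd A N),
        toUnit_unique (snd A N ≫ toUnit N) (toUnit _), ← Hom.one_def, _root_.mul_one]
    have h2 : Surjective (((j ⊗ₘ i) ≫ μ[G]) ≫ π).left := by
      rw [Over.comp_left]
      infer_instance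
    rw [h1, Over.comp_left] at h2
    exact Surjective.of_comp (fst A N).left (j ≫ π).left
  · intro K κ hK
    unfold AlgGrp.IsKernel at hK
    have hw : (κ ≫ j) ≫ π = toUnit K ≫ η[Q] := by
      rw [Category.assoc]
      exact hK.w
    obtain ⟨n, hn⟩ : ∃ n : K ⟶ N, n ≫ i = κ ≫ j := ⟨hker.lift (κ ≫ j) (toUnit K) hw,
      hker.lift_fst _ _ _⟩
    have hK' : IsPullback κ (n ≫ toUnit N) (j ≫ π) η[Q] := by
      rw [toUnit_unique (n ≫ toUnit N) (toUnit K)]
      exact hK
    exact finite_of_isPullback k A N G K j i κ n (IsPullback.of_bot hK' hn.symm hker)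

end Groth.Agent.S14751
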