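import Groth.Statements.S14754
import Groth.Agent.Lib.Helper62.DSCartier

set_option autoImplicit false
set_option linter.style.haveILetI false
universe u
open CategoryTheory CategoryTheory.Limits MonoidalCategory CartesianMonoidalCategory MonObj GrpObj AlgebraicGeometry
open AlgGrp

namespace Groth.Agent.S14754

open Groth.Agent.Lib.Helper43 Groth.Agent.Lib.Helper62.DSCartier

/-- the data of a splitting of a split torus -/
lemma split_data {S : Scheme.{u}} {M : Type} [AddCommGroup M] {T : Over S} [GrpObj T]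
    (h : Red.IsSplitTorusWith M T) :
    ∃ (a : T ⟶ Red.DS S M) (b : Red.DS S M ⟶ T), IsMonHom a ∧ IsMonHom b ∧ a ≫ b = 𝟙 _ ∧ b ≫ a = 𝟙 _ := by
  obtain ⟨e⟩ := h
  exact ⟨e.hom.hom.hom, e.inv.hom.hom, e.hom.hom.isMonHom_hom, e.inv.hom.isMonHom_hom,
    congrArg (fun k => k.hom.hom) e.hom_inv_id, congrArg (fun k => k.hom.hom) e.inv_hom_id⟩

/-- Over an algebraically closed field k, every exact sequence of split tori splits: if K, G, Q are
split tori over k, i : K → G a closed subgroup scheme which is the kernel of a flat surjective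
homomorphism π : G → Q, then π has a section which is a homomorphism. -/
theorem result (k : Type u) [Field k] [IsAlgClosed k]
    (K G Q : Over (Spec (CommRingCat.of k))) [GrpObj K] [GrpObj G] [GrpObj Q] (nK nG nQ : ℕ)
    (hK : Red.IsSplitTorusWith (Fin nK → ℤ) K) (hG : Red.IsSplitTorusWith (Fin nG → ℤ) G)
    (hQ : Red.IsSplitTorusWith (Fin nQ → ℤ) Q)
    (i : K ⟶ G) [IsMonHom i] [IsClosedImmersion i.left]
    (π : G ⟶ Q) [IsMonHom π] [Flat π.left] [Surjective π.left] (hker : AlgGrp.IsKernel i π) :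
    ∃ s : Q ⟶ G, IsMonHom s ∧ s ≫ π = 𝟙 Q := by
  obtain ⟨aK, bK, haK, hbK, habK, hbaK⟩ := split_data hK
  obtain ⟨aG, bG, haG, hbG, habG, hbaG⟩ := split_data hG
  obtain ⟨aQ, bQ, haQ, hbQ, habQ, hbaQ⟩ := split_data hQ
  -- transported maps
  let π' : Red.DS (Sk k) (Fin nG → ℤ) ⟶ Red.DS (Sk k) (Fin nQ → ℤ) := bG ≫ π ≫ aQ
  let i' : Red.DS (Sk k) (Fin nK → ℤ) ⟶ Red.DS (Sk k) (Fin nG → ℤ) := bK ≫ i ≫ aG
  have hπ' : IsMonHom π' := inferInstance
  have hi' : IsMonHom i' := inferInstance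
  obtain ⟨φ, hφ⟩ := exists_DSmap_eq π'
  obtain ⟨α, hα⟩ := exists_DSmap_eq i'
  -- π is an epimorphism
  have hepi : Epi π := by
    have : Epi π.left := Flat.epi_of_flat_of_surjective π.left
    exact (Over.forget _).epi_of_epi_map this
  have hepi' : Epi π' := by
    have : IsIso bG := ⟨aG, hbaG, habG⟩
    have : IsIso aQ := ⟨bQ, habQ, hbaQ⟩
    infer_instance
  -- i' ≫ π' is trivial
  have hiπ : i ≫ π = 1 := by
    rw [hker.w, Hom.one_def]
  have hiπ' : i' ≫ π' = 1 := by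
    change (bK ≫ i ≫ aG) ≫ (bG ≫ π ≫ aQ) = 1
    have h1 : (bK ≫ i ≫ aG) ≫ (bG ≫ π ≫ aQ) = bK ≫ (i ≫ π) ≫ aQ := by
      simp only [Category.assoc]
      rw [reassoc_of% habG]
    have h2 : (1 : K ⟶ Q) ≫ aQ = 1 := MonObj.one_comp aQ
    rw [h1, hiπ, h2, MonObj.comp_one]
  have hαφ : α.comp φ = 0 := by
    apply DSmap_injective (k := k)
    rw [← DSmap_comp, ← hφ, ← hα, hiπ', DSmap_zero]
  -- φ is injective
  have hφinj : Function.Injective φ := by
    rw [injective_iff_map_eq_zero]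
    intro c hc
    have h1 : π' ≫ Red.DSmap (Sk k) (zmultiplesHom _ c) = π' ≫ Red.DSmap (Sk k) (zmultiplesHom _ 0) := by
      rw [hφ, DSmap_comp, DSmap_comp]
      congr 1
      ext
      simp [hc]
    have h2 := (cancel_epi π').mp h1
    have h3 := DSmap_injective (k := k) h2
    have := congr($h3 1)
    simpa using this
  -- the cokernel of φ is torsion free
  have htf : ∀ (n : ℕ) (b : Fin nG → ℤ), 0 < n → n • b ∈ φ.range → b ∈ φ.range := by
    intro n b hn hb
    obtain ⟨c, hc⟩ := hb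
    have hαb : α b = 0 := by
      have h1 : n • α b = 0 := by
        rw [← map_nsmul, ← hc]
        exact congr($hαφ c)
      rcases smul_eq_zero.mp h1 with h | h
      · omega
      · exact h
    -- the quotient
    let q : (Fin nG → ℤ) →+ (Fin nG → ℤ) ⧸ φ.range := QuotientAddGroup.mk' φ.range
    have hqφ : q.comp φ = 0 := by
      ext c
      simp [q]
    have h1 : Red.DSmap (Sk k) q ≫ π' = 1 := by
      rw [hφ, DSmap_comp, hqφ, DSmap_zero]
    -- lift through the kernel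
    have h2 : (Red.DSmap (Sk k) q ≫ bG) ≫ π = toUnit _ ≫ η[Q] := by
      have h3 : (Red.DSmap (Sk k) q ≫ π') ≫ bQ = (Red.DSmap (Sk k) q ≫ bG) ≫ π := by
        change (Red.DSmap (Sk k) q ≫ (bG ≫ π ≫ aQ)) ≫ bQ = _
        simp only [Category.assoc]
        rw [habQ, Category.comp_id]
      have h4 : (1 : Red.DS (Sk k) ((Fin nG → ℤ) ⧸ φ.range) ⟶ Red.DS (Sk k) (Fin nQ → ℤ)) ≫ bQ = 1 :=
        MonObj.one_comp bQ
      rw [← h3, h1, h4, Hom.one_def]
    let l0 := hker.lift (Red.DSmap (Sk k) q ≫ bG) (toUnit _) h2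
    have hl0 : l0 ≫ i = Red.DSmap (Sk k) q ≫ bG := hker.lift_fst _ _ _
    let l := l0 ≫ aK
    have hl : l ≫ i' = Red.DSmap (Sk k) q := by
      change (l0 ≫ aK) ≫ (bK ≫ i ≫ aG) = _
      simp only [Category.assoc]
      rw [reassoc_of% habK, reassoc_of% hl0, hbaG, Category.comp_id]
    -- evaluate at the universal point
    have h5 : chr (uPt k _ ≫ Red.DSmap (Sk k) q) (Multiplicative.ofAdd b) =
        chr (uPt k _ ≫ l ≫ i') (Multiplicative.ofAdd b) := by rw [hl]
    rw [chr_DSmap, chr_uPt, hα, ← Category.assoc, chr_DSmap] at h5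
    have h6 : (AddMonoidHom.toMultiplicative α) (Multiplicative.ofAdd b) = 1 := by
      simp [hαb]
    rw [h6, chr_one_arg] at h5
    have h7 : gInv k _ (MonoidAlgebra.single ((AddMonoidHom.toMultiplicative q) (Multiplicative.ofAdd b)) 1) =
        gInv k _ 1 := by rw [h5, map_one]
    have h8 := gInv_injective k _ h7
    rw [MonoidAlgebra.one_def, MonoidAlgebra.single_left_inj one_ne_zero] at h8
    have h9 : q b = 0 := by
      have := congrArg Multiplicative.toAdd h8
      simpa using this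
    exact (QuotientAddGroup.eq_zero_iff b).mp h9
  obtain ⟨ρ, hρ⟩ := Groth.Agent.Lib.Helper62.DSCartierAlg.exists_retraction φ hφinj htf
  refine ⟨aQ ≫ Red.DSmap (Sk k) ρ ≫ bG, inferInstance, ?_⟩
  have h1 : Red.DSmap (Sk k) ρ ≫ π' = 𝟙 _ := by
    rw [hφ, DSmap_comp, hρ, DSmap_id]
  have h2 : (aQ ≫ Red.DSmap (Sk k) ρ ≫ bG) ≫ π = aQ ≫ (Red.DSmap (Sk k) ρ ≫ π') ≫ bQ := by
    change _ = aQ ≫ (Red.DSmap (Sk k) ρ ≫ (bG ≫ π ≫ aQ)) ≫ bQ
    simp only [Category.assoc]
    rw [habQ, Category.comp_id]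
  rw [h2, h1, Category.id_comp, habQ]

end Groth.Agent.S14754
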