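import Groth.Statements.S14765
-- import your own Groth.Agent.* helpers here
import Groth.Agent.S14788
import Groth.Agent.Lib.Helper75.ValSpec2
import Groth.Agent.Lib.Helper55.ValuationSpecialize

set_option autoImplicit false
universe u
open CategoryTheory CategoryTheory.Limits AlgebraicGeometry
open Subtr

namespace Groth.Agent.S14765

open Groth.Agent.Lib.Helper75 in
/-- A flat surjective morphism has the lifting property for ordered pairs of points. -/
theorem isSSubtrusive_of_flat_of_surjective {X Y : Scheme.{u}} (f : X ⟶ Y) [Flat f]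
    [Surjective f] : Subtr.IsSSubtrusive f := by
  intro y y' hy
  obtain ⟨x, rfl⟩ := f.surjective y
  obtain ⟨x', hx', rfl⟩ := (Flat.generalizingMap f) hy
  exact ⟨x, x', hx', rfl, rfl⟩

/-- A flat surjective morphism universally has the lifting property for ordered pairs. -/
theorem univSSubtrusive_of_flat_of_surjective {X Y : Scheme.{u}} (f : X ⟶ Y) [Flat f]
    [Surjective f] : Subtr.UnivSSubtrusive f := by
  intro X' Y' i₁ i₂ f' hpb
  have h1 : Flat f' := MorphismProperty.of_isPullback hpb.flip (inferInstance : Flat f)
  have h2 : Surjective f' := MorphismProperty.of_isPullback hpb.flip (inferInstance : Surjective f)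
  exact isSSubtrusive_of_flat_of_surjective f'

/-- If a composite `i ≫ f` universally has the lifting property for ordered pairs, so does `f`. -/
theorem univSSubtrusive_of_comp {Z X Y : Scheme.{u}} (i : Z ⟶ X) (f : X ⟶ Y)
    (h : Subtr.UnivSSubtrusive (i ≫ f)) : Subtr.UnivSSubtrusive f := by
  intro X' Y' i₁ i₂ f' hpb
  have hpb2 : IsPullback (pullback.fst i₁ i) (pullback.snd i₁ i) i₁ i :=
    IsPullback.of_hasPullback _ _
  have hpaste := (hpb2.flip.paste_vert hpb.flip).flip
  have hS : Subtr.IsSSubtrusive (pullback.fst i₁ i ≫ f') := h _ _ _ hpaste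
  intro y y' hy
  obtain ⟨z, z', hzz', hz, hz'⟩ := hS hy
  exact ⟨pullback.fst i₁ i z, pullback.fst i₁ i z', hzz'.map (pullback.fst i₁ i).continuous,
    hz, hz'⟩

end Groth.Agent.S14765

namespace Groth.Agent.S14765

/-- Let V be a valuation ring and f : X ⟶ Spec V any morphism of schemes. The following are equivalent:
(a) after every base change, every ordered pair of points of the target (a point and a
specialization of it) lifts to an ordered pair of points of the source; (b) every ordered pair of
points of Spec V lifts to an ordered pair of points of X; (c) every point of Spec V is the image of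
a point of X lying in the closure of the generic fibre; (d) the pair formed by the closed point and
the generic point of Spec V lifts to points x, x' of X with x a specialization of x'; (e) there are
a valuation ring W and a morphism Spec W ⟶ X whose composite with f is surjective; (f) there is a
closed subscheme Z of X such that Z ⟶ Spec V is flat and surjective. (The published list also
contains subtrusiveness and universal subtrusiveness, which add submersiveness for the constructible
topology, and the lifting of arbitrary chains of points; this row omits those items and keeps the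
lifting property alone in (a).) -/
theorem result (V : Type u) [CommRing V] [IsDomain V] [ValuationRing V]
    {X : Scheme.{u}} (f : X ⟶ Spec (CommRingCat.of V)) :
    List.TFAE [
      Subtr.UnivSSubtrusive f,
      Subtr.IsSSubtrusive f,
      ∀ y : Spec (CommRingCat.of V), ∃ x : X,
        x ∈ closure (f ⁻¹' {(⟨⊥, Ideal.isPrime_bot⟩ : PrimeSpectrum V)}) ∧ f x = y,
      ∃ x x' : X, x' ⤳ x ∧ f x = IsLocalRing.closedPoint V ∧
        f x' = (⟨⊥, Ideal.isPrime_bot⟩ : PrimeSpectrum V),
      ∃ (W : Type u) (_ : CommRing W) (_ : IsDomain W) (_ : ValuationRing W)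
        (g : Spec (CommRingCat.of W) ⟶ X), Surjective (g ≫ f),
      ∃ (Z : Scheme.{u}) (i : Z ⟶ X), IsClosedImmersion i ∧ Flat (i ≫ f) ∧ Surjective (i ≫ f)] := by
  tfae_have 1 → 2 := fun h => h (𝟙 _) (𝟙 _) f (IsPullback.id_vert f)
  tfae_have 2 → 4 := by
    intro h
    obtain ⟨x, x', hxx', hx, hx'⟩ := h (Groth.Agent.Lib.Helper75.botPoint_specializes_clPoint V)
    exact ⟨x, x', hxx', hx, hx'⟩
  tfae_have 4 → 5 := by
    rintro ⟨x, x', hxx', hx, hx'⟩
    obtain ⟨W, _, _, _, g, hgs, hgη⟩ :=
      Groth.Agent.Lib.Helper75.exists_valuationRing_of_specializes' hxx'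
    refine ⟨W, inferInstance, inferInstance, inferInstance, g, ⟨?_⟩⟩
    refine Groth.Agent.Lib.Helper75.surjective_of_clPoint_of_botPoint (g ≫ f) ?_ ?_
    · rw [Scheme.Hom.comp_apply, hgs, hx]; rfl
    · rw [Scheme.Hom.comp_apply, hgη, hx']; rfl
  tfae_have 5 → 6 := by
    rintro ⟨W, _, _, _, g, hsurj⟩
    set ξ : X := g (Groth.Agent.Lib.Helper75.botPoint W) with hξ
    obtain ⟨hirr, hrange, -⟩ := Groth.Agent.Lib.Helper55.closure_subscheme_setup ξ
    have hred := Groth.Agent.Lib.Helper55.isReduced_subscheme_vanishingIdeal'
      (⟨closure {ξ}, isClosed_closure⟩ : TopologicalSpace.Closeds X)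
    generalize hI : Scheme.IdealSheafData.vanishingIdeal
      (⟨closure {ξ}, isClosed_closure⟩ : TopologicalSpace.Closeds X) = I at *
    have hint : IsIntegral I.subscheme := isIntegral_of_irreducibleSpace_of_isReduced _
    have hs : Surjective (I.subschemeι ≫ f) := by
      refine ⟨fun y => ?_⟩
      obtain ⟨w, hw⟩ := (g ≫ f).surjective y
      have hgw : g w ∈ Set.range I.subschemeι := by
        rw [hrange]
        exact ((Groth.Agent.Lib.Helper75.botPoint_specializes W w).map g.continuous).mem_closure
      obtain ⟨z, hz⟩ := hgw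
      refine ⟨z, ?_⟩
      rw [Scheme.Hom.comp_apply, hz, ← Scheme.Hom.comp_apply]
      exact hw
    have hflat : Flat (I.subschemeι ≫ f) :=
      Groth.Agent.Lib.Helper55.flat_of_isIntegral_of_isDominant _
    exact ⟨I.subscheme, I.subschemeι, inferInstance, hflat, hs⟩
  tfae_have 6 → 1 := by
    rintro ⟨Z, i, -, hflat, hsurj⟩
    exact univSSubtrusive_of_comp i f (univSSubtrusive_of_flat_of_surjective (i ≫ f))
  tfae_have 6 → 3 := by
    rintro ⟨Z, i, -, hflat, hsurj⟩
    intro y
    obtain ⟨z, hz⟩ := (i ≫ f).surjective y
    have hy : Groth.Agent.Lib.Helper75.botPoint V ⤳ (i ≫ f) z := by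
      rw [hz]
      exact Groth.Agent.Lib.Helper75.botPoint_specializes V y
    obtain ⟨z', hz'z, hz'⟩ := (Flat.generalizingMap (i ≫ f)) hy
    refine ⟨i z, ?_, hz⟩
    have hmem : i z' ∈ f ⁻¹' {(⟨⊥, Ideal.isPrime_bot⟩ : PrimeSpectrum V)} := hz'
    exact (hz'z.map i.continuous).mem_closed isClosed_closure (subset_closure hmem)
  tfae_have 3 → 4 := by
    intro h
    obtain ⟨x, hx, hfx⟩ := h (Groth.Agent.Lib.Helper75.clPoint V)
    have hZ := Groth.Agent.S14788.isProConstructible_singleton
      (Groth.Agent.Lib.Helper75.botPoint V)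
    have hpre := Groth.Agent.Lib.Helper16.isProConstructible_preimage f hZ
    obtain ⟨x', hx', hx'x⟩ := Groth.Agent.S14788.exists_specializes_of_mem_closure hpre hx
    exact ⟨x, x', hx'x, hfx, hx'⟩
  tfae_finish

end Groth.Agent.S14765
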