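import Groth.Statements.S1478
import Groth.Agent.Lib.Helper13.OmegaZero

set_option autoImplicit false
universe u
open FlatMor

namespace Groth.Agent.S1478

open AlgebraicGeometry CategoryTheory Limits in
open Groth.Agent.Lib.Helper13.OmegaChart Groth.Agent.Lib.Helper13.OmegaZero in
/-- For separated morphisms (where the sheaf of differentials is literally the conormal sheaf of the
closed diagonal): a separated morphism f : X → S is formally unramified if and only if Ω_{X/S}, the
conormal sheaf of the diagonal, is the zero O_X-module. -/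
theorem result {X S : Scheme.{u}} (f : X ⟶ S) [IsSeparated f] :
    FormallyUnramified f ↔ IsZero (Omega.sheaf f) := by
  constructor
  · intro hf
    apply isZero_of_forall_exists_isZero_pullback
    intro x
    obtain ⟨_, ⟨V, hV, rfl⟩, hxV, -⟩ := S.isBasis_affineOpens.exists_subset_of_mem_open
      (Set.mem_univ (f x)) isOpen_univ
    obtain ⟨_, ⟨U, hU, rfl⟩, hxU, hUV⟩ := X.isBasis_affineOpens.exists_subset_of_mem_open
      (show x ∈ (f ⁻¹ᵁ V : Set X) from hxV) (f ⁻¹ᵁ V).2
    refine ⟨_, hU.fromSpec, inferInstance, ?_, ?_⟩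
    · rw [hU.opensRange_fromSpec]; exact hxU
    · letI := (f.appLE V U hUV).hom.toAlgebra
      obtain ⟨e⟩ := nonempty_omega_chart_iso f hU hV hUV
      refine IsZero.of_iso ?_ e
      rw [isZero_tilde_iff]
      have h1 : Algebra.FormallyUnramified Γ(S, V) Γ(X, U) :=
        hf.formallyUnramified_appLE hV hU hUV
      exact h1.subsingleton_kaehlerDifferential
  · intro hz
    refine ⟨fun {V} hV {U} hU hUV => ?_⟩
    letI := (f.appLE V U hUV).hom.toAlgebra
    obtain ⟨e⟩ := nonempty_omega_chart_iso f hU hV hUV
    have h1 : IsZero ((Scheme.Modules.pullback hU.fromSpec).obj (Omega.sheaf f)) :=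
      (Scheme.Modules.pullback hU.fromSpec).map_isZero hz
    have h2 := (isZero_tilde_iff _).mp (h1.of_iso e.symm)
    exact ⟨h2⟩

end Groth.Agent.S1478
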