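import Groth.Statements.S14783
-- import your own Groth.Agent.* helpers here
import Groth.Agent.S14788
import Groth.Agent.Lib.Helper55.SubtrChain
import Groth.Agent.Lib.Helper55.ProConsRetro
import Groth.Agent.Lib.Helper23.ProConsClosure

set_option autoImplicit false
universe u
open CategoryTheory CategoryTheory.Limits AlgebraicGeometry
open Subtr

namespace Groth.Agent.S14783

/-- Let f : S' ⟶ S be a quasi-compact morphism of schemes every base change of which has the lifting
property for ordered pairs of points, and E ⊆ S any subset. For E to be both locally closed and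
retrocompact it is necessary and sufficient that f⁻¹(E) be both. -/
theorem result {S' S : Scheme.{u}} (f : S' ⟶ S)
    [QuasiCompact f] (hf : Subtr.UnivSSubtrusive f) (E : Set S) :
    (IsLocallyClosed E ∧ IsRetrocompact E) ↔
      (IsLocallyClosed (f ⁻¹' E) ∧ IsRetrocompact (f ⁻¹' E)) := by
  have hS : Subtr.IsSSubtrusive f := hf (𝟙 _) (𝟙 _) f (IsPullback.id_vert f)
  have hsurj : Function.Surjective f := fun y => by
    obtain ⟨x, _, _, hx, _⟩ := hS (specializes_rfl (x := y))
    exact ⟨x, hx⟩
  constructor
  · rintro ⟨h1, h2⟩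
    have hp := Groth.Agent.Lib.Helper55.isProConstructible_of_isLocallyClosed_of_isRetrocompact h1 h2
    exact ⟨h1.preimage f.continuous, Groth.Agent.Lib.Helper55.isRetrocompact_of_isProConstructible
      (Groth.Agent.Lib.Helper16.isProConstructible_preimage f hp)⟩
  · rintro ⟨h1, h2⟩
    have hp' : ProCons.IsProConstructible (f.base ⁻¹' E) :=
      Groth.Agent.Lib.Helper55.isProConstructible_of_isLocallyClosed_of_isRetrocompact h1 h2
    have hp : ProCons.IsProConstructible E := by
      have := Groth.Agent.Lib.Helper16.isProConstructible_image f _ hp'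
      rwa [Set.image_preimage_eq E hsurj] at this
    refine ⟨?_, Groth.Agent.Lib.Helper55.isRetrocompact_of_isProConstructible hp⟩
    have hD : IsClosed (closure (f ⁻¹' E) \ (f ⁻¹' E)) := by
      have := h1.isOpen_coborder
      rw [coborder] at this
      exact isOpen_compl_iff.mp this
    have himg : f '' closure (f ⁻¹' E) = closure E := (Groth.Agent.S14788.result f).mp hS E hp
    have hbd : closure E \ E = f '' (closure (f ⁻¹' E) \ (f ⁻¹' E)) := by
      apply subset_antisymm
      · rintro y ⟨hy1, hy2⟩
        rw [← himg] at hy1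
        obtain ⟨x, hx, rfl⟩ := hy1
        exact ⟨x, ⟨hx, hy2⟩, rfl⟩
      · rintro _ ⟨x, ⟨hx1, hx2⟩, rfl⟩
        refine ⟨?_, hx2⟩
        rw [← himg]
        exact ⟨x, hx1, rfl⟩
    have hbp : ProCons.IsProConstructible (closure E \ E) := by
      rw [hbd]
      exact Groth.Agent.Lib.Helper16.isProConstructible_image f _
        (Groth.Agent.Lib.Helper55.isProConstructible_of_isClosed hD)
    have hbc : IsClosed (closure E \ E) := by
      rw [← closure_subset_iff_isClosed]
      intro y hy
      obtain ⟨y₁, hy₁, hy₁y⟩ :=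
        Groth.Agent.Lib.Helper23.exists_specializes_of_mem_closure_of_isProConstructible hbp hy
      refine ⟨hy₁y.mem_closed isClosed_closure hy₁.1, fun hyE => ?_⟩
      obtain ⟨y₂, hy₂, hy₂y₁⟩ :=
        Groth.Agent.Lib.Helper23.exists_specializes_of_mem_closure_of_isProConstructible hp hy₁.1
      obtain ⟨x₂, x₁, x, hx₂₁, hx₁, hfx₂, hfx₁, hfx⟩ :=
        Groth.Agent.Lib.Helper55.exists_chain_lift_of_univSSubtrusive f hf hy₂y₁ hy₁y
      have hx₂E : x₂ ∈ f ⁻¹' E := by
        change f x₂ ∈ E
        rw [hfx₂]
        exact hy₂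
      have hxE : x ∈ f ⁻¹' E := by
        change f x ∈ E
        rw [hfx]
        exact hyE
      have hx₁E : x₁ ∉ f ⁻¹' E := by
        intro h
        apply hy₁.2
        rw [← hfx₁]
        exact h
      have hx₁cl : x₁ ∈ closure (f ⁻¹' E) :=
        hx₂₁.mem_closed isClosed_closure (subset_closure hx₂E)
      have hx₁co : x₁ ∈ coborder (f ⁻¹' E) :=
        hx₁.mem_open h1.isOpen_coborder (subset_coborder hxE)
      have hmem : x₁ ∈ coborder (f ⁻¹' E) ∩ closure (f ⁻¹' E) := ⟨hx₁co, hx₁cl⟩
      rw [coborder_inter_closure] at hmem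
      exact hx₁E hmem
    rw [isLocallyClosed_iff_isOpen_coborder, coborder]
    exact hbc.isOpen_compl

end Groth.Agent.S14783
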