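import Groth.Statements.S14784
-- import your own Groth.Agent.* helpers here
import Groth.Agent.Lib.Helper55.SubtrChain
import Groth.Agent.Lib.Helper55.ProConsRetro
import Groth.Agent.Lib.Helper23.ProConsClosure
import Groth.Agent.Lib.Helper16.ProConsScheme

set_option autoImplicit false
universe u
open CategoryTheory CategoryTheory.Limits AlgebraicGeometry
open Subtr

namespace Groth.Agent.S14784

/-- Let f : S' ⟶ S be a morphism of schemes of finite presentation every base change of which has the
lifting property for ordered pairs of points, and E ⊆ S a subset. Then E is locally closed if and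
only if f⁻¹(E) is locally closed. (The published statement is for algebraic spaces; this row is the
case of schemes.) -/
theorem result {S' S : Scheme.{u}} (f : S' ⟶ S)
    [LocallyOfFinitePresentation f] [QuasiCompact f] [QuasiSeparated f]
    (hf : Subtr.UnivSSubtrusive f) (E : Set S) :
    IsLocallyClosed E ↔ IsLocallyClosed (f ⁻¹' E) := by
  constructor
  · exact fun h => h.preimage f.continuous
  · intro hF
    obtain ⟨U', Z', hU', hZ', hFeq⟩ := hF
    have hS : Subtr.IsSSubtrusive f := hf (𝟙 _) (𝟙 _) f (IsPullback.id_vert f)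
    -- `f⁻¹ E` is the trace of `U'` on its closure
    have hFbar : f ⁻¹' E = closure (f ⁻¹' E) ∩ U' := by
      apply subset_antisymm
      · intro x hx
        refine ⟨subset_closure hx, ?_⟩
        rw [hFeq] at hx
        exact hx.1
      · rintro x ⟨hx1, hx2⟩
        rw [hFeq]
        refine ⟨hx2, ?_⟩
        have : closure (f ⁻¹' E) ⊆ Z' := by
          rw [hFeq]
          exact closure_minimal Set.inter_subset_right hZ'
        exact this hx1
    -- a pro-constructible set containing `E` whose preimage lies in the closure of `f⁻¹ E`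
    have hCind : ProCons.IsIndConstructible (closure (f ⁻¹' E))ᶜ :=
      Groth.Agent.Lib.Helper16.isIndConstructible_compl
        (Groth.Agent.Lib.Helper55.isProConstructible_of_isClosed isClosed_closure)
    have hK : ProCons.IsProConstructible (f.base '' (closure (f ⁻¹' E))ᶜ)ᶜ :=
      Groth.Agent.Lib.Helper16.isProConstructible_compl
        (Groth.Agent.Lib.Helper16.isIndConstructible_image f _ hCind)
    have hEK : E ⊆ (f.base '' (closure (f ⁻¹' E))ᶜ)ᶜ := by
      rintro y hy ⟨x, hx, rfl⟩
      exact hx (subset_closure hy)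
    have hKF : ∀ x : S', f x ∈ (f.base '' (closure (f ⁻¹' E))ᶜ)ᶜ → x ∈ closure (f ⁻¹' E) := by
      intro x hx
      by_contra hx'
      exact hx ⟨x, hx', rfl⟩
    have hgen : ∀ d ∈ closure E, ∃ k ∈ (f.base '' (closure (f ⁻¹' E))ᶜ)ᶜ, k ⤳ d := fun d hd =>
      Groth.Agent.Lib.Helper23.exists_specializes_of_mem_closure_of_isProConstructible hK
        (closure_mono hEK hd)
    -- the boundary is the image of a closed set
    have hD₁ : ProCons.IsProConstructible (f.base '' (f ⁻¹' closure E \ U')) :=
      Groth.Agent.Lib.Helper16.isProConstructible_image f _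
        (Groth.Agent.Lib.Helper55.isProConstructible_of_isClosed
          ((isClosed_closure.preimage f.continuous).sdiff hU'))
    have hDeq : closure E \ E = f.base '' (f ⁻¹' closure E \ U') := by
      apply subset_antisymm
      · rintro d ⟨hd1, hd2⟩
        obtain ⟨k, hk, hkd⟩ := hgen d hd1
        obtain ⟨x, x', hxx', hx, hx'⟩ := hS hkd
        have hx'F : x' ∈ closure (f ⁻¹' E) := hKF x' (by rw [hx']; exact hk)
        have hxF : x ∈ closure (f ⁻¹' E) := hxx'.mem_closed isClosed_closure hx'F
        refine ⟨x, ⟨?_, ?_⟩, hx⟩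
        · change f x ∈ closure E
          rw [hx]
          exact hd1
        · intro hxU
          have : x ∈ f ⁻¹' E := by
            rw [hFbar]
            exact ⟨hxF, hxU⟩
          apply hd2
          rw [← hx]
          exact this
      · rintro _ ⟨x, ⟨hx1, hx2⟩, rfl⟩
        refine ⟨hx1, fun hxE => hx2 ?_⟩
        have : x ∈ f ⁻¹' E := hxE
        rw [hFbar] at this
        exact this.2
    have hDcl : IsClosed (closure E \ E) := by
      rw [← closure_subset_iff_isClosed]
      intro y hy
      have hDpro : ProCons.IsProConstructible (closure E \ E) := by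
        rw [hDeq]
        exact hD₁
      obtain ⟨d, hd, hdy⟩ :=
        Groth.Agent.Lib.Helper23.exists_specializes_of_mem_closure_of_isProConstructible hDpro hy
      refine ⟨hdy.mem_closed isClosed_closure hd.1, fun hyE => ?_⟩
      obtain ⟨k, hk, hkd⟩ := hgen d hd.1
      obtain ⟨x₂, x₁, x, hx₂₁, hx₁, hfx₂, hfx₁, hfx⟩ :=
        Groth.Agent.Lib.Helper55.exists_chain_lift_of_univSSubtrusive f hf hkd hdy
      have hx₂F : x₂ ∈ closure (f ⁻¹' E) := hKF x₂ (by rw [hfx₂]; exact hk)
      have hx₁F : x₁ ∈ closure (f ⁻¹' E) := hx₂₁.mem_closed isClosed_closure hx₂F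
      have hxE : x ∈ f ⁻¹' E := by
        change f x ∈ E
        rw [hfx]
        exact hyE
      have hxU : x ∈ U' := by
        rw [hFbar] at hxE
        exact hxE.2
      have hx₁U : x₁ ∈ U' := hx₁.mem_open hU' hxU
      have hx₁E : x₁ ∈ f ⁻¹' E := by
        rw [hFbar]
        exact ⟨hx₁F, hx₁U⟩
      apply hd.2
      rw [← hfx₁]
      exact hx₁E
    rw [isLocallyClosed_iff_isOpen_coborder]
    exact hDcl.isOpen_compl

end Groth.Agent.S14784
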