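import Groth.Statements.S14789
import Mathlib.Topology.Sober
import Mathlib.AlgebraicGeometry.Properties

set_option autoImplicit false
universe u
open CategoryTheory CategoryTheory.Limits AlgebraicGeometry
open Subtr

namespace Groth.Agent.S14789

/-- In a quasi-sober T0 space every point has a maximal generization. -/
theorem exists_maximal_generization {α : Type*} [TopologicalSpace α] [QuasiSober α] [T0Space α]
    (y : α) : ∃ η : α, η ⤳ y ∧ ∀ y' : α, y' ⤳ η → y' = η := by
  obtain ⟨η, hη⟩ := QuasiSober.sober (isIrreducible_irreducibleComponent (x := y))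
    isClosed_irreducibleComponent
  refine ⟨η, ?_, ?_⟩
  · rw [specializes_iff_mem_closure, hη.def]
    exact mem_irreducibleComponent
  · intro y' hy'
    have h1 : closure ({η} : Set α) ⊆ closure {y'} := by
      rw [← specializes_iff_closure_subset]; exact hy'
    have h2 : IsPreirreducible (closure ({y'} : Set α)) :=
      isPreirreducible_iff_closure.2 isPreirreducible_singleton
    have h3 : closure ({y'} : Set α) = irreducibleComponent y :=
      eq_irreducibleComponent h2 (hη.def ▸ h1)
    have h4 : closure ({y'} : Set α) = closure {η} := by rw [h3, hη.def]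
    exact ((inseparable_iff_closure_eq.2 h4).eq)


/-- Let f : X ⟶ Y be a morphism of schemes with the lifting property for ordered pairs of points, and U
⊆ Y a subset containing every maximal point of Y (every point all of whose generizations are equal
to it). Then the closure of f⁻¹(U) maps onto Y. -/
theorem result {X Y : Scheme.{u}} (f : X ⟶ Y)
    (hf : Subtr.IsSSubtrusive f) (U : Set Y) (hU : ∀ y : Y, (∀ y' : Y, y' ⤳ y → y' = y) → y ∈ U) :
    f '' closure (f ⁻¹' U) = Set.univ := by
  rw [Set.eq_univ_iff_forall]
  intro y
  obtain ⟨η, hηy, hηmax⟩ := exists_maximal_generization y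
  obtain ⟨x, x', hxx', hfx, hfx'⟩ := hf hηy
  refine ⟨x, ?_, hfx⟩
  have hx'U : x' ∈ f ⁻¹' U := by
    change f x' ∈ U
    rw [hfx']
    exact hU η hηmax
  exact hxx'.mem_closed isClosed_closure (subset_closure hx'U)

end Groth.Agent.S14789
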