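import Groth.Statements.S1479
import Groth.Agent.Lib.Helper7.SmoothPair
import Groth.Agent.Lib.Helper7.AffineChart

set_option autoImplicit false
universe u
open FlatMor

namespace Groth.Agent.S1479

open AlgebraicGeometry CategoryTheory Limits in
/-- Let X and Y be smooth over S and i : Y → X a closed immersion over S. For every point y of Y there
are an open U of X containing i y, natural numbers m, n, and an étale S-morphism π from U to affine
(m+n)-space over S such that the closed subscheme Y ∩ U of U is the pullback along π of the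
coordinate subspace given by the vanishing of the last n coordinates. -/
theorem result {S X Y : Scheme.{u}} (pX : X ⟶ S) (pY : Y ⟶ S) [Smooth pX] [Smooth pY]
    (i : Y ⟶ X) [IsClosedImmersion i] (w : i ≫ pX = pY) (y : Y) :
    ∃ (U : X.Opens) (m n : ℕ) (π : (U : Scheme.{u}) ⟶ 𝔸(ULift.{u} (Fin m ⊕ Fin n); S)) (ρ : (↑(i ⁻¹ᵁ U) : Scheme.{u}) ⟶ 𝔸(ULift.{u} (Fin m); S)),
      i y ∈ U ∧ Etale π ∧ π ≫ (𝔸(ULift.{u} (Fin m ⊕ Fin n); S) ↘ S) = U.ι ≫ pX ∧
      IsPullback ρ (i ∣_ U)
        (AffineSpace.homOfVector (𝔸(ULift.{u} (Fin m); S) ↘ S)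
          (fun j : ULift.{u} (Fin m ⊕ Fin n) => Sum.elim (fun a => AffineSpace.coord S (ULift.up a)) (fun _ => 0) j.down))
        π := by
  subst w
  -- Step 1: affine opens
  obtain ⟨_, ⟨S₀, hS₀, rfl⟩, hsS₀, -⟩ :=
    S.isBasis_affineOpens.exists_subset_of_mem_open (Set.mem_univ (pX (i y))) isOpen_univ
  obtain ⟨_, ⟨V, hV, rfl⟩, hxV, hVS₀ : V ≤ pX ⁻¹ᵁ S₀⟩ :=
    X.isBasis_affineOpens.exists_subset_of_mem_open hsS₀ (pX ⁻¹ᵁ S₀).2
  have hW : IsAffineOpen (i ⁻¹ᵁ V) := hV.preimage i
  have hWS₀ : i ⁻¹ᵁ V ≤ (i ≫ pX) ⁻¹ᵁ S₀ := fun z hz => hVS₀ hz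
  -- Step 2: rings
  have hsmB := Smooth.smooth_appLE pX hS₀ hV hVS₀
  have hsmC := Smooth.smooth_appLE (i ≫ pX) hS₀ hW hWS₀
  algebraize [(pX.appLE S₀ V hVS₀).hom, ((i ≫ pX).appLE S₀ (i ⁻¹ᵁ V) hWS₀).hom]
  have hcomm : pX.appLE S₀ V hVS₀ ≫ i.app V = (i ≫ pX).appLE S₀ (i ⁻¹ᵁ V) hWS₀ := by
    rw [← Scheme.Hom.appLE_eq_app (f := i), Scheme.Hom.appLE_comp_appLE]
  let σ : Γ(X, V) →ₐ[Γ(S, S₀)] Γ(Y, i ⁻¹ᵁ V) :=
    { (i.app V).hom with
      commutes' := fun a => by
        show (pX.appLE S₀ V hVS₀ ≫ i.app V) a = _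
        rw [hcomm]
        rfl }
  have hσ : Function.Surjective σ := i.app_surjective V hV
  have hq : RingHom.ker σ ≤ (hV.primeIdealOf ⟨i y, hxV⟩).asIdeal := by
    intro b hb
    have h1 := IsAffineOpen.comap_primeIdealOf_appLE (f := i) V hV (i ⁻¹ᵁ V) hW le_rfl (x := y) hxV
    rw [← h1]
    show (i.appLE V (i ⁻¹ᵁ V) le_rfl).hom b ∈ (hW.primeIdealOf ⟨y, hxV⟩).asIdeal
    rw [Scheme.Hom.appLE_eq_app]
    have : (i.app V).hom b = 0 := hb
    rw [this]
    exact zero_mem _
  obtain ⟨r, g, f, m, g', hg0, hf, hE, hspan⟩ :=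
    Groth.Agent.Lib.Helper7.SmoothPair.exists_adapted_chart_of_surjective Γ(S, S₀) Γ(X, V)
      Γ(Y, i ⁻¹ᵁ V) σ hσ (hV.primeIdealOf ⟨i y, hxV⟩).asIdeal hq
  -- Step 3: the open U
  have hU : IsAffineOpen (X.basicOpen f) := hV.basicOpen f
  have hUV : X.basicOpen f ≤ V := X.basicOpen_le f
  have hUS₀ : X.basicOpen f ≤ pX ⁻¹ᵁ S₀ := hUV.trans hVS₀
  have hxU : i y ∈ X.basicOpen f := by
    have h1 : hV.primeIdealOf ⟨i y, hxV⟩ ∈ hV.fromSpec ⁻¹ᵁ X.basicOpen f := by
      rw [hV.fromSpec_preimage_basicOpen]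
      exact hf
    have h2 : hV.fromSpec (hV.primeIdealOf ⟨i y, hxV⟩) ∈ X.basicOpen f := h1
    rwa [hV.fromSpec_primeIdealOf] at h2
  have hloc := hV.isLocalization_basicOpen f
  let _ : Algebra Γ(S, S₀) Γ(X, X.basicOpen f) :=
    (pX.appLE S₀ (X.basicOpen f) hUS₀).hom.toAlgebra
  have htower : IsScalarTower Γ(S, S₀) Γ(X, V) Γ(X, X.basicOpen f) :=
    IsScalarTower.of_algebraMap_eq' (by
      rw [RingHom.algebraMap_toAlgebra, RingHom.algebraMap_toAlgebra,
        RingHom.algebraMap_toAlgebra, ← CommRingCat.hom_comp, Scheme.Hom.appLE_map])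
  let θ : Localization.Away f ≃ₐ[Γ(X, V)] Γ(X, X.basicOpen f) :=
    IsLocalization.algEquiv (Submonoid.powers f) _ _
  let w : ULift.{u} (Fin m ⊕ Fin r) → Γ(X, X.basicOpen f) := fun j =>
    Sum.elim (fun a => θ (g' a)) (fun b => algebraMap Γ(X, V) Γ(X, X.basicOpen f) (g b)) j.down
  let v : ULift.{u} (Fin m ⊕ Fin r) → Γ(X.basicOpen f, ⊤) := fun j =>
    (X.basicOpen f).topIso.inv (w j)
  have : IsAffine (X.basicOpen f).toScheme := hU
  have : IsAffine (Scheme.Opens.toScheme (X := S) S₀) := hS₀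
  -- ring-level étaleness
  have hEring : (MvPolynomial.eval₂Hom (algebraMap Γ(S, S₀) Γ(X, X.basicOpen f)) w).Etale := by
    have heq : MvPolynomial.eval₂Hom (algebraMap Γ(S, S₀) Γ(X, X.basicOpen f)) w =
        (θ.toRingEquiv.toRingHom.comp (MvPolynomial.aeval (Sum.elim
          (fun i => algebraMap Γ(X, V) (Localization.Away f) (g i)) g') :
            MvPolynomial (Fin r ⊕ Fin m) Γ(S, S₀) →ₐ[Γ(S, S₀)] Localization.Away f).toRingHom).comp
          (MvPolynomial.renameEquiv Γ(S, S₀)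
            ((Equiv.ulift.{u, 0} (α := Fin m ⊕ Fin r)).trans
              (Equiv.sumComm (Fin m) (Fin r)))).toRingEquiv.toRingHom := by
      apply MvPolynomial.ringHom_ext
      · intro a
        simp only [MvPolynomial.coe_eval₂Hom, MvPolynomial.eval₂_C, RingHom.comp_apply,
          RingEquiv.toRingHom_eq_coe, RingHom.coe_coe, AlgEquiv.coe_ringEquiv,
          AlgHom.toRingHom_eq_coe, MvPolynomial.renameEquiv_apply, MvPolynomial.rename_C]
        rw [← MvPolynomial.algebraMap_eq, AlgHom.commutes,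
          IsScalarTower.algebraMap_apply Γ(S, S₀) Γ(X, V) (Localization.Away f),
          AlgEquiv.commutes, ← IsScalarTower.algebraMap_apply]
      · rintro ⟨a | b⟩
        · simp only [MvPolynomial.coe_eval₂Hom, MvPolynomial.eval₂_X, RingHom.comp_apply,
            RingEquiv.toRingHom_eq_coe, RingHom.coe_coe, AlgEquiv.coe_ringEquiv,
            AlgHom.toRingHom_eq_coe, MvPolynomial.renameEquiv_apply, MvPolynomial.rename_X,
            Equiv.trans_apply, Equiv.ulift_apply, Equiv.sumComm_apply, Sum.swap_inl,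
            MvPolynomial.aeval_X, Sum.elim_inr, w, Sum.elim_inl]
        · simp only [MvPolynomial.coe_eval₂Hom, MvPolynomial.eval₂_X, RingHom.comp_apply,
            RingEquiv.toRingHom_eq_coe, RingHom.coe_coe, AlgEquiv.coe_ringEquiv,
            AlgHom.toRingHom_eq_coe, MvPolynomial.renameEquiv_apply, MvPolynomial.rename_X,
            Equiv.trans_apply, Equiv.ulift_apply, Equiv.sumComm_apply, Sum.swap_inr,
            MvPolynomial.aeval_X, Sum.elim_inl, w, Sum.elim_inr]
          rw [AlgEquiv.commutes]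
    rw [heq]
    exact RingHom.Etale.respectsIso.2 _ _ (RingHom.Etale.respectsIso.1 _ _ hE)
  have hEt₀ : Etale (AffineSpace.homOfVector (pX.resLE S₀ (X.basicOpen f) hUS₀) v) := by
    apply Groth.Agent.Lib.Helper7.AffineChart.etale_homOfVector_of_isAffine
    have heq : MvPolynomial.eval₂Hom (pX.resLE S₀ (X.basicOpen f) hUS₀).appTop.hom v =
        ((X.basicOpen f).topIso.inv.hom.comp
          (MvPolynomial.eval₂Hom (algebraMap Γ(S, S₀) Γ(X, X.basicOpen f)) w)).comp
            (MvPolynomial.map (Scheme.Opens.topIso (X := S) S₀).hom.hom) := by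
      apply MvPolynomial.ringHom_ext
      · intro b
        simp only [MvPolynomial.coe_eval₂Hom, MvPolynomial.eval₂_C, RingHom.comp_apply,
          MvPolynomial.map_C]
        rw [Scheme.Hom.appTop, Scheme.Hom.resLE_app_top]
        rfl
      · intro j
        simp only [MvPolynomial.coe_eval₂Hom, MvPolynomial.eval₂_X, RingHom.comp_apply,
          MvPolynomial.map_X]
        rfl
    rw [heq]
    have hb1 : Function.Bijective (Scheme.Opens.topIso (X := S) S₀).hom.hom :=
      ConcreteCategory.bijective_of_isIso (Scheme.Opens.topIso (X := S) S₀).hom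
    have hb2 : Function.Bijective (X.basicOpen f).topIso.inv.hom :=
      ConcreteCategory.bijective_of_isIso (X.basicOpen f).topIso.inv
    exact RingHom.Etale.stableUnderComposition _ _
      (RingHom.Etale.of_bijective ⟨MvPolynomial.map_injective _ hb1.1,
        MvPolynomial.map_surjective _ hb1.2⟩)
      (RingHom.Etale.stableUnderComposition _ _ hEring (RingHom.Etale.of_bijective hb2))
  -- Step 4: the morphisms
  have hπeq : AffineSpace.homOfVector ((X.basicOpen f).ι ≫ pX) v =
      AffineSpace.homOfVector (pX.resLE S₀ (X.basicOpen f) hUS₀) v ≫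
        AffineSpace.map (ULift.{u} (Fin m ⊕ Fin r)) (Scheme.Opens.ι (X := S) S₀) := by
    rw [AffineSpace.map, AffineSpace.comp_homOfVector]
    congr 1
    · rw [AffineSpace.homOfVector_over_assoc, Scheme.Hom.resLE_comp_ι]
    · ext j
      simp only [Function.comp_apply, AffineSpace.homOfVector_appTop_coord]
  have hπet : Etale (AffineSpace.homOfVector ((X.basicOpen f).ι ≫ pX) v) := by
    rw [hπeq]
    have := Groth.Agent.Lib.Helper7.AffineChart.isOpenImmersion_map (ULift.{u} (Fin m ⊕ Fin r))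
      (Scheme.Opens.ι (X := S) S₀)
    infer_instance
  refine ⟨X.basicOpen f, m, r, AffineSpace.homOfVector ((X.basicOpen f).ι ≫ pX) v,
    AffineSpace.homOfVector ((i ⁻¹ᵁ X.basicOpen f).ι ≫ i ≫ pX)
      (fun a => (i ∣_ X.basicOpen f).appTop (v ⟨Sum.inl a.down⟩)),
    hxU, hπet, AffineSpace.homOfVector_over _ _, ?_⟩
  -- vanishing of the last coordinates on Y
  have hvan : ∀ b : Fin r, (i ∣_ X.basicOpen f).appTop (v ⟨Sum.inr b⟩) = 0 := by
    intro b
    rw [← Scheme.Hom.resLE_eq_morphismRestrict, Scheme.Hom.appTop, Scheme.Hom.resLE_app_top]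
    simp only [CommRingCat.comp_apply, v, w, Sum.elim_inr]
    rw [Iso.inv_hom_id_apply]
    have h0 : i.appLE (X.basicOpen f) (i ⁻¹ᵁ X.basicOpen f) le_rfl
        (algebraMap Γ(X, V) Γ(X, X.basicOpen f) (g b)) = 0 := by
      rw [RingHom.algebraMap_toAlgebra, ← CommRingCat.comp_apply, Scheme.Hom.map_appLE,
        ← Scheme.Hom.appLE_map i (le_refl (i ⁻¹ᵁ V)) (homOfLE (i.preimage_mono hUV)).op,
        CommRingCat.comp_apply, Scheme.Hom.appLE_eq_app]
      have h00 : (i.app V) (g b) = 0 := hg0 b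
      rw [h00, map_zero]
    rw [h0, map_zero]
  have comm : AffineSpace.homOfVector ((i ⁻¹ᵁ X.basicOpen f).ι ≫ i ≫ pX)
        (fun a => (i ∣_ X.basicOpen f).appTop (v ⟨Sum.inl a.down⟩)) ≫
      AffineSpace.homOfVector (𝔸(ULift.{u} (Fin m); S) ↘ S)
        (fun j : ULift.{u} (Fin m ⊕ Fin r) =>
          Sum.elim (fun a => AffineSpace.coord S (ULift.up a)) (fun _ => 0) j.down) =
      (i ∣_ X.basicOpen f) ≫ AffineSpace.homOfVector ((X.basicOpen f).ι ≫ pX) v := by
    apply AffineSpace.hom_ext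
    · simp only [Category.assoc, AffineSpace.homOfVector_over]
      rw [morphismRestrict_ι_assoc]
    · rintro ⟨a | b⟩
      · simp only [Scheme.Hom.comp_appTop, CommRingCat.comp_apply,
          AffineSpace.homOfVector_appTop_coord, Sum.elim_inl]
      · simp only [Scheme.Hom.comp_appTop, CommRingCat.comp_apply,
          AffineSpace.homOfVector_appTop_coord, Sum.elim_inr, map_zero]
        exact (hvan b).symm
  have hzmono : Mono (AffineSpace.homOfVector (𝔸(ULift.{u} (Fin m); S) ↘ S)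
        (fun j : ULift.{u} (Fin m ⊕ Fin r) =>
          Sum.elim (fun a => AffineSpace.coord S (ULift.up a)) (fun _ => 0) j.down)) := by
    have hret : AffineSpace.homOfVector (𝔸(ULift.{u} (Fin m); S) ↘ S)
        (fun j : ULift.{u} (Fin m ⊕ Fin r) =>
          Sum.elim (fun a => AffineSpace.coord S (ULift.up a)) (fun _ => 0) j.down) ≫
        AffineSpace.homOfVector (𝔸(ULift.{u} (Fin m ⊕ Fin r); S) ↘ S)
          (fun a : ULift.{u} (Fin m) => AffineSpace.coord S ⟨Sum.inl a.down⟩) = 𝟙 _ := by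
      apply AffineSpace.hom_ext
      · simp only [Category.assoc, AffineSpace.homOfVector_over, Category.id_comp]
      · intro a
        simp only [Scheme.Hom.comp_appTop, CommRingCat.comp_apply,
          AffineSpace.homOfVector_appTop_coord, Sum.elim_inl, Scheme.Hom.id_appTop,
          CommRingCat.id_apply]
    exact (SplitMono.mk _ hret).mono
  have hkerσ : RingHom.ker σ = RingHom.ker (i.app V).hom :=
    Ideal.ext fun b => by rw [RingHom.mem_ker, RingHom.mem_ker]; rfl
  have hkerU : RingHom.ker (i.app (X.basicOpen f)).hom =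
      Ideal.span (Set.range fun b => algebraMap Γ(X, V) Γ(X, X.basicOpen f) (g b)) := by
    have h1 := Scheme.IdealSheafData.map_ideal i.ker (U := ⟨X.basicOpen f, hU⟩) (V := ⟨V, hV⟩) hUV
    rw [Scheme.Hom.ker_apply, Scheme.Hom.ker_apply] at h1
    rw [← h1, ← hkerσ]
    have h2 := congr_arg (Ideal.map (θ : Localization.Away f →+* Γ(X, X.basicOpen f))) hspan
    rw [Ideal.map_map, Ideal.map_span, ← Set.range_comp] at h2
    have h3 : ((θ : Localization.Away f →+* Γ(X, X.basicOpen f))).comp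
        (algebraMap Γ(X, V) (Localization.Away f)) = algebraMap Γ(X, V) Γ(X, X.basicOpen f) := by
      ext b
      exact θ.commutes b
    rw [h3] at h2
    have h4 : ((θ : Localization.Away f →+* Γ(X, X.basicOpen f)) ∘
        fun i => algebraMap Γ(X, V) (Localization.Away f) (g i)) =
        fun b => algebraMap Γ(X, V) Γ(X, X.basicOpen f) (g b) := by
      funext b
      exact θ.commutes (g b)
    rw [h4] at h2
    exact h2
  have hH : ∀ c : PullbackCone (AffineSpace.homOfVector (𝔸(ULift.{u} (Fin m); S) ↘ S)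
        (fun j : ULift.{u} (Fin m ⊕ Fin r) =>
          Sum.elim (fun a => AffineSpace.coord S (ULift.up a)) (fun _ => 0) j.down))
      (AffineSpace.homOfVector ((X.basicOpen f).ι ≫ pX) v),
      (i ∣_ X.basicOpen f).ker ≤ c.snd.ker := by
    intro c
    have hcond : ∀ b : Fin r, c.snd.appTop (v ⟨Sum.inr b⟩) = 0 := by
      intro b
      have h := congr_arg (fun k => k.appTop (AffineSpace.coord S ⟨Sum.inr b⟩)) c.condition
      simp only [Scheme.Hom.comp_appTop, CommRingCat.comp_apply,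
        AffineSpace.homOfVector_appTop_coord, Sum.elim_inr, map_zero] at h
      exact h.symm
    rw [Scheme.ker_of_isAffine c.snd, Scheme.ker_of_isAffine (i ∣_ X.basicOpen f)]
    refine (map_le_map_iff (Scheme.IdealSheafData.equivOfIsAffine
      (X := ((X.basicOpen f : X.Opens) : Scheme.{u}))).symm).mpr ?_
    intro t ht
    rw [RingHom.mem_ker] at ht ⊢
    obtain ⟨t', rfl⟩ : ∃ t', (X.basicOpen f).topIso.inv t' = t :=
      ⟨(X.basicOpen f).topIso.hom t, Iso.hom_inv_id_apply _ _⟩
    have ht' : t' ∈ RingHom.ker (i.app (X.basicOpen f)).hom := by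
      rw [RingHom.mem_ker]
      rw [← Scheme.Hom.resLE_eq_morphismRestrict, Scheme.Hom.appTop,
        Scheme.Hom.resLE_app_top] at ht
      simp only [CommRingCat.comp_apply] at ht
      rw [Iso.inv_hom_id_apply] at ht
      have h5 := (ConcreteCategory.bijective_of_isIso (i ⁻¹ᵁ X.basicOpen f).topIso.inv).1
        (ht.trans (map_zero _).symm)
      rwa [Scheme.Hom.appLE_eq_app] at h5
    rw [hkerU] at ht'
    have hle : Ideal.span (Set.range fun b => algebraMap Γ(X, V) Γ(X, X.basicOpen f) (g b)) ≤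
        (RingHom.ker c.snd.appTop.hom).comap (X.basicOpen f).topIso.inv.hom := by
      rw [Ideal.span_le]
      rintro _ ⟨b, rfl⟩
      exact hcond b
    exact hle ht'
  exact ⟨⟨comm⟩, ⟨PullbackCone.IsLimit.mk comm
    (fun c => IsClosedImmersion.lift (i ∣_ X.basicOpen f) c.snd (hH c))
    (fun c => by
      rw [← cancel_mono (AffineSpace.homOfVector (𝔸(ULift.{u} (Fin m); S) ↘ S)
        (fun j : ULift.{u} (Fin m ⊕ Fin r) =>
          Sum.elim (fun a => AffineSpace.coord S (ULift.up a)) (fun _ => 0) j.down)),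
        Category.assoc, comm, IsClosedImmersion.lift_fac_assoc, c.condition])
    (fun c => IsClosedImmersion.lift_fac _ _ _)
    (fun c k _ h2 => by
      rw [← cancel_mono (i ∣_ X.basicOpen f), h2, IsClosedImmersion.lift_fac])⟩⟩

end Groth.Agent.S1479
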