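import Groth.Statements.S14790
-- import your own Groth.Agent.* helpers here
import Groth.Agent.S14789
import Groth.Agent.Lib.Helper2.FlatLocusOpen
import Groth.Agent.Lib.Helper23.ProConsClosure
import Groth.Agent.Lib.Helper16.ProConsScheme
import Groth.Agent.Lib.Helper55.ProConsRetro

set_option autoImplicit false
universe u
open CategoryTheory CategoryTheory.Limits AlgebraicGeometry
open Subtr

namespace Groth.Agent.S14790

open Groth.Agent.Lib.Helper55 Groth.Agent.Lib.Helper16 Groth.Agent.Lib.Helper23

/-- The local ring of a reduced scheme at a maximal point is a field. -/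
theorem isField_stalk_of_maximal {Y : Scheme.{u}} [IsReduced Y] (η : Y)
    (hη : ∀ y' : Y, y' ⤳ η → y' = η) : IsField (Y.presheaf.stalk η) := by
  rw [IsLocalRing.isField_iff_maximalIdeal_eq]
  have hprime : ∀ p : PrimeSpectrum (Y.presheaf.stalk η),
      p = IsLocalRing.closedPoint (Y.presheaf.stalk η) := by
    intro p
    have h1 : Y.fromSpecStalk η p ⤳ η := by
      have : Y.fromSpecStalk η p ∈ Set.range (Y.fromSpecStalk η) := ⟨p, rfl⟩
      rw [Scheme.range_fromSpecStalk] at this
      exact this
    have h2 := hη _ h1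
    have h3 : Y.fromSpecStalk η p = Y.fromSpecStalk η (IsLocalRing.closedPoint _) := by
      rw [h2, Scheme.fromSpecStalk_closedPoint]
    exact (Y.fromSpecStalk η).isEmbedding.injective h3
  have hnil : nilradical (Y.presheaf.stalk η) = IsLocalRing.maximalIdeal _ := by
    rw [nilradical_eq_sInf]
    apply le_antisymm
    · exact sInf_le (IsLocalRing.maximalIdeal.isMaximal _).isPrime
    · apply le_sInf
      intro J hJ
      have h := hprime ⟨J, hJ⟩
      have h' := congrArg PrimeSpectrum.asIdeal h
      change J = IsLocalRing.maximalIdeal _ at h'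
      rw [h']
  rw [← hnil, nilradical_eq_zero]
  rfl

/-- Every ring map out of a field is flat. -/
theorem flat_of_isField {R S : Type u} [CommRing R] [CommRing S] (φ : R →+* S) (hR : IsField R) :
    φ.Flat := by
  let _ := hR.toField
  let _ := φ.toAlgebra
  exact (inferInstance : Module.Flat R S)

end Groth.Agent.S14790

namespace Groth.Agent.S14790

/-- Take a scheme Y that is reduced, quasi-compact and quasi-separated, whose set of maximal points
(points with no proper generization) is quasi-compact, and f : X ⟶ Y a morphism of finite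
presentation. Then there is a dense quasi-compact open subset U ⊆ Y over which f is flat. -/
theorem result {X Y : Scheme.{u}} [IsReduced Y]
    [CompactSpace Y] [QuasiSeparatedSpace Y]
    (hgen : IsCompact {y : Y | ∀ y' : Y, y' ⤳ y → y' = y})
    (f : X ⟶ Y) [LocallyOfFinitePresentation f] [QuasiCompact f] [QuasiSeparated f] :
    ∃ U : Y.Opens, Dense (U : Set Y) ∧ IsCompact (U : Set Y) ∧ Flat (f ∣_ U) := by
  classical
  have hWopen : IsOpen {x : X | (f.stalkMap x).hom.Flat} :=
    Groth.Agent.Lib.Helper2.isOpen_flat_stalkMap_locus f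
  have hE : ProCons.IsProConstructible (f.base '' {x : X | (f.stalkMap x).hom.Flat}ᶜ) :=
    Groth.Agent.Lib.Helper16.isProConstructible_image f _
      (Groth.Agent.Lib.Helper55.isProConstructible_of_isClosed hWopen.isClosed_compl)
  have hME : ∀ η : Y, (∀ y' : Y, y' ⤳ η → y' = η) →
      η ∈ (closure (f.base '' {x : X | (f.stalkMap x).hom.Flat}ᶜ))ᶜ := by
    intro η hη hηE
    obtain ⟨z, hzE, hzη⟩ :=
      Groth.Agent.Lib.Helper23.exists_specializes_of_mem_closure_of_isProConstructible hE hηE
    have hz := hη z hzη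
    obtain ⟨x, hxW, hxz⟩ := hzE
    apply hxW
    have hfx : ∀ y' : Y, y' ⤳ f x → y' = f x := by
      have : f x = η := hxz.trans hz
      rw [this]
      exact hη
    exact flat_of_isField _ (isField_stalk_of_maximal _ hfx)
  have hOopen : IsOpen (closure (f.base '' {x : X | (f.stalkMap x).hom.Flat}ᶜ))ᶜ :=
    isClosed_closure.isOpen_compl
  -- a quasi-compact open between the maximal points and the complement of the closure
  obtain ⟨U, hMU, hUO, hUc⟩ : ∃ U : Y.Opens, {y : Y | ∀ y' : Y, y' ⤳ y → y' = y} ⊆ (U : Set Y) ∧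
      (U : Set Y) ⊆ (closure (f.base '' {x : X | (f.stalkMap x).hom.Flat}ᶜ))ᶜ ∧
      IsCompact (U : Set Y) := by
    have key : ∀ y : Y, ∃ V : Y.Opens, IsAffineOpen V ∧
        (y ∈ (closure (f.base '' {x : X | (f.stalkMap x).hom.Flat}ᶜ))ᶜ →
          y ∈ V ∧ (V : Set Y) ⊆ (closure (f.base '' {x : X | (f.stalkMap x).hom.Flat}ᶜ))ᶜ) := by
      intro y
      by_cases hy : y ∈ (closure (f.base '' {x : X | (f.stalkMap x).hom.Flat}ᶜ))ᶜ
      · obtain ⟨V, hV, hyV, hVO⟩ := exists_isAffineOpen_mem_and_subset
          (x := y) (U := ⟨_, hOopen⟩) hy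
        exact ⟨V, hV, fun _ => ⟨hyV, hVO⟩⟩
      · obtain ⟨V, hV, -⟩ := Groth.Agent.Lib.Helper16.exists_affine_nhd y
        exact ⟨V, hV, fun h => absurd h hy⟩
    choose V hV hVy using key
    obtain ⟨t, htM, htfin, ht⟩ := hgen.elim_finite_subcover_image (b := {y : Y | ∀ y' : Y, y' ⤳ y → y' = y})
      (c := fun y => (V y : Set Y)) (fun y _ => (V y).2)
      (fun y hy => Set.mem_iUnion₂.mpr ⟨y, hy, (hVy y (hME y hy)).1⟩)
    refine ⟨⨆ y ∈ t, V y, ?_, ?_, ?_⟩
    · intro y hy
      obtain ⟨z, hzt, hyz⟩ := Set.mem_iUnion₂.mp (ht hy)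
      simp only [TopologicalSpace.Opens.coe_iSup, Set.mem_iUnion]
      exact ⟨z, hzt, hyz⟩
    · intro y hy
      simp only [TopologicalSpace.Opens.coe_iSup, Set.mem_iUnion] at hy
      obtain ⟨z, hzt, hyz⟩ := hy
      exact (hVy z (hME z (htM hzt))).2 hyz
    · simp only [TopologicalSpace.Opens.coe_iSup]
      exact htfin.isCompact_biUnion fun y _ => (hV y).isCompact
  refine ⟨U, ?_, hUc, ?_⟩
  · rw [dense_iff_inter_open]
    rintro O hO ⟨y, hy⟩
    obtain ⟨η, hηy, hηmax⟩ := Groth.Agent.S14789.exists_maximal_generization y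
    exact ⟨η, hηy.mem_open hO hy, hMU hηmax⟩
  · rw [Flat.iff_flat_stalkMap]
    intro x
    have hx : (f.stalkMap x.1).hom.Flat := by
      by_contra hx
      have h1 : f x.1 ∈ (U : Set Y) := x.2
      exact hUO h1 (subset_closure ⟨x.1, hx, rfl⟩)
    have := RingHom.toMorphismProperty_respectsIso_iff.mp RingHom.Flat.respectsIso
    exact ((RingHom.toMorphismProperty RingHom.Flat).arrow_mk_iso_iff
      (morphismRestrictStalkMap f U x)).mpr hx

end Groth.Agent.S14790
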