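import Groth.Statements.S14791
-- import your own Groth.Agent.* helpers here
import Groth.Agent.Lib.Helper55.SubtrLimit

set_option autoImplicit false
universe u
open CategoryTheory CategoryTheory.Limits AlgebraicGeometry
open Subtr

namespace Groth.Agent.S14791

/-- Let S = lim S_i be a cofiltered limit of schemes with affine transition morphisms, Y₀ a scheme over
a stage S_{i₀}, f₀ : X₀ ⟶ Y₀ a quasi-compact morphism, and write f_i, f for the base changes of f₀
to the stages S_i and to S (realised as second projections of fibre products). If there is a stage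
S_{i₁} such that f_i has the lifting property for ordered pairs of points for every stage S_i over
S_{i₁}, then f has it. (The published statement is about subtrusive morphisms and assumes f a
quotient map for the constructible topologies; this row keeps only the lifting property and assumes
f₀ quasi-compact, which makes the fibres quasi-compact as the filtered-intersection step of the
argument requires.) -/
theorem result {I : Type u} [SmallCategory I] [IsCofiltered I]
    (D : I ⥤ Scheme.{u}) (c : Limits.Cone D) (hc : Limits.IsLimit c)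
    [∀ (i j : I) (a : i ⟶ j), IsAffineHom (D.map a)] (i₀ : I)
    {X₀ Y₀ : Scheme.{u}} (f₀ : X₀ ⟶ Y₀) (g₀ : Y₀ ⟶ D.obj i₀) [QuasiCompact f₀]
    (h : ∃ (i₁ : I) (ψ : i₁ ⟶ i₀), ∀ (i : I) (φ : i ⟶ i₁),
      Subtr.IsSSubtrusive (pullback.snd f₀ (pullback.fst g₀ (D.map (φ ≫ ψ))))) :
    Subtr.IsSSubtrusive (pullback.snd f₀ (pullback.fst g₀ (c.π.app i₀))) := by
  have : ∀ {i j : I} (a : i ⟶ j), IsAffineHom (D.map a) := fun a => inferInstance
  obtain ⟨i₁, ψ, hψ⟩ := h
  have core : Subtr.IsSSubtrusive
      (Groth.Agent.Lib.Helper55.SubtrLimit.bcMap (c.π.app i₀) f₀ g₀) := by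
    apply Groth.Agent.Lib.Helper55.SubtrLimit.isSSubtrusive_bcMap_of_forall D c hc i₀ f₀ g₀
    intro k
    have hε : IsCofiltered.eqHom (IsCofiltered.minToLeft k.left i₁ ≫ k.hom)
          (IsCofiltered.minToRight k.left i₁ ≫ ψ) ≫ IsCofiltered.minToLeft k.left i₁ ≫ k.hom =
        IsCofiltered.eqHom (IsCofiltered.minToLeft k.left i₁ ≫ k.hom)
          (IsCofiltered.minToRight k.left i₁ ≫ ψ) ≫ IsCofiltered.minToRight k.left i₁ ≫ ψ :=
      IsCofiltered.eq_condition _ _
    refine ⟨Over.mk ((IsCofiltered.eqHom (IsCofiltered.minToLeft k.left i₁ ≫ k.hom)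
          (IsCofiltered.minToRight k.left i₁ ≫ ψ) ≫ IsCofiltered.minToRight k.left i₁) ≫ ψ),
      Over.homMk (IsCofiltered.eqHom (IsCofiltered.minToLeft k.left i₁ ≫ k.hom)
          (IsCofiltered.minToRight k.left i₁ ≫ ψ) ≫ IsCofiltered.minToLeft k.left i₁)
        (by simp only [Over.mk_left, Over.mk_hom, Category.assoc]; exact hε), ?_⟩
    have hst := hψ _ (IsCofiltered.eqHom (IsCofiltered.minToLeft k.left i₁ ≫ k.hom)
          (IsCofiltered.minToRight k.left i₁ ≫ ψ) ≫ IsCofiltered.minToRight k.left i₁)
    exact Groth.Agent.Lib.Helper55.SubtrLimit.isSSubtrusive_of_isPullback_of_iso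
      (IsPullback.of_hasPullback f₀ (pullback.fst g₀ (D.map _))).flip
      (Groth.Agent.Lib.Helper55.SubtrLimit.isPullback_bcMap (D.map _) f₀ g₀)
      (pullbackSymmetry _ _) (pullbackSymmetry_hom_comp_snd _ _) hst
  exact Groth.Agent.Lib.Helper55.SubtrLimit.isSSubtrusive_of_isPullback_of_iso
    (Groth.Agent.Lib.Helper55.SubtrLimit.isPullback_bcMap (c.π.app i₀) f₀ g₀)
    (IsPullback.of_hasPullback f₀ (pullback.fst g₀ (c.π.app i₀))).flip
    (pullbackSymmetry _ _) (pullbackSymmetry_hom_comp_fst _ _) core

end Groth.Agent.S14791
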