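import Groth.Statements.S14798
import Groth.Agent.Lib.Helper75.HJFrac

set_option autoImplicit false
open Finset
open HJFrac

namespace Groth.Agent.S14798

/-- Let 0 < r < n be coprime integers and n/r = b₁ - 1/(b₂ - 1/(⋯ - 1/b_λ)) the Hirzebruch–Jung
expansion (λ ≥ 1, every b_i ≥ 2); let m₁, m₂ be positive integers prime to n with r m₂ + m₁ ≡ 0 mod
n, and let μ₁, …, μ_λ be positive integers solving the tridiagonal system b_i μ_i - μ_{i-1} -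
μ_{i+1} = 0 (1 ≤ i ≤ λ) with the conventions μ₀ = m₂ and μ_{λ+1} = m₁ (the multiplicity vector
attached to (n, r, m₂, m₁)). Then n/(m₁ m₂) = 1/(m₂ μ₁) + 1/(μ₁ μ₂) + ⋯ + 1/(μ_{λ-1} μ_λ) + 1/(μ_λ
m₁). -/
theorem result (l : ℕ) (hl : 1 ≤ l) (b : ℕ → ℤ)
    (hb : ∀ i, 1 ≤ i → i ≤ l → 2 ≤ b i)
    (n r : ℕ) (hr : 0 < r) (hrn : r < n) (hcop : Nat.Coprime r n)
    (hhj : (n : ℚ) / r = HJFrac.hjVal ((List.range l).map fun i => b (i + 1)))
    (m₁ m₂ : ℕ) (hm₁ : 0 < m₁) (hm₂ : 0 < m₂) (h₁ : Nat.Coprime m₁ n) (h₂ : Nat.Coprime m₂ n)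
    (hdvd : (n : ℤ) ∣ r * m₂ + m₁)
    (μ : ℕ → ℤ) (hμ0 : μ 0 = m₂) (hμl : μ (l + 1) = m₁) (hμpos : ∀ i, i ≤ l + 1 → 0 < μ i)
    (hsys : ∀ i, 1 ≤ i → i ≤ l → b i * μ i = μ (i - 1) + μ (i + 1)) :
    (n : ℚ) / ((m₁ : ℚ) * m₂) = ∑ i ∈ Finset.range (l + 1), 1 / ((μ i : ℚ) * (μ (i + 1) : ℚ)) := by
  obtain ⟨hν0, hν1⟩ := Groth.Agent.Lib.Helper75.key l hl b hb n r hr hcop hhj
  have hWl := Groth.Agent.Lib.Helper75.wronskian b l μ hsys l le_rfl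
  rw [Groth.Agent.Lib.Helper75.nu_last, Groth.Agent.Lib.Helper75.nu_l, hμl] at hWl
  -- constant Wronskian equals -m₁
  have hW : ∀ i, i ≤ l → μ i * Groth.Agent.Lib.Helper75.nu b l (i + 1) -
      μ (i + 1) * Groth.Agent.Lib.Helper75.nu b l i = -(m₁ : ℤ) := by
    intro i hi
    rw [Groth.Agent.Lib.Helper75.wronskian b l μ hsys i hi, ← hWl]
    ring
  have hμne : ∀ i, i ≤ l + 1 → (μ i : ℚ) ≠ 0 := by
    intro i hi
    have := hμpos i hi
    exact_mod_cast this.ne'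
  have hm₁ne : (m₁ : ℚ) ≠ 0 := by exact_mod_cast hm₁.ne'
  have hm₂ne : (m₂ : ℚ) ≠ 0 := by exact_mod_cast hm₂.ne'
  -- telescoping
  have htel : ∀ k, k ≤ l + 1 →
      ∑ i ∈ Finset.range k, 1 / ((μ i : ℚ) * (μ (i + 1) : ℚ)) =
        ((Groth.Agent.Lib.Helper75.nu b l 0 : ℚ) / (μ 0 : ℚ) -
          (Groth.Agent.Lib.Helper75.nu b l k : ℚ) / (μ k : ℚ)) / (m₁ : ℚ) := by
    intro k
    induction k with
    | zero => intro _; simp
    | succ k ih =>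
      intro hk
      rw [Finset.sum_range_succ, ih (by omega)]
      have h1 := hμne k (by omega)
      have h2 := hμne (k + 1) hk
      have h0 := hμne 0 (by omega)
      have hWk : (μ k : ℚ) * (Groth.Agent.Lib.Helper75.nu b l (k + 1) : ℚ) -
          (μ (k + 1) : ℚ) * (Groth.Agent.Lib.Helper75.nu b l k : ℚ) = -(m₁ : ℚ) := by
        have := hW k (by omega)
        exact_mod_cast this
      field_simp
      linear_combination (μ 0 : ℚ) * hWk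
  rw [htel (l + 1) le_rfl, Groth.Agent.Lib.Helper75.nu_last, hν0, hμ0]
  have h0 := hμne 0 (by omega)
  rw [hμ0] at h0
  push_cast
  field_simp
  simp

end Groth.Agent.S14798
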