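import Groth.Statements.S1480
import Groth.Agent.Lib.Helper29.FlatLqf.Scheme

set_option autoImplicit false
universe u
open FlatMor

namespace Groth.Agent.S1480

open AlgebraicGeometry CategoryTheory Limits in
/-- Let f : X → S be flat, locally of finite presentation and locally quasi-finite, and g a nonzero
global function on X. Then there are affine opens V of X and U of S with f(V) ⊆ U and g nonzero on
V, an ideal F of O_S(U), a positive integer r and an injective O_S(U)-linear map from F^r to O_X(V)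
whose image contains the restriction of g to V. -/
theorem result {X S : Scheme.{u}} (f : X ⟶ S) [Flat f] [LocallyOfFinitePresentation f] [LocallyQuasiFinite f]
    (g : Γ(X, ⊤)) (hg : g ≠ 0) :
    ∃ (U : S.Opens) (hU : IsAffineOpen U) (V : X.Opens) (hV : IsAffineOpen V) (hVU : V ≤ f ⁻¹ᵁ U),
      X.presheaf.map (homOfLE le_top).op g ≠ (0 : Γ(X, V)) ∧
      ∃ (F : Ideal Γ(S, U)) (r : ℕ), 0 < r ∧
        letI := (f.appLE U V hVU).hom.toAlgebra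
        ∃ φ : (Fin r → ↥F) →ₗ[Γ(S, U)] Γ(X, V), Function.Injective φ ∧ X.presheaf.map (homOfLE le_top).op g ∈ LinearMap.range φ := by
  classical
  -- Step 0: affine opens on which `g` is nonzero
  obtain ⟨U₀, hU₀, V₀, hV₀, e₀, hg₀⟩ : ∃ (U : S.Opens) (_ : IsAffineOpen U) (V : X.Opens)
      (_ : IsAffineOpen V) (_ : V ≤ f ⁻¹ᵁ U),
      X.presheaf.map (homOfLE le_top).op g ≠ (0 : Γ(X, V)) := by
    by_contra hcon
    push Not at hcon
    apply hg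
    have hloc : ∀ x : X, ∃ (U : S.Opens) (V : X.Opens), IsAffineOpen U ∧ IsAffineOpen V ∧
        x ∈ V ∧ V ≤ f ⁻¹ᵁ U := by
      intro x
      obtain ⟨_, ⟨U, hU, rfl⟩, hxU, -⟩ :=
        S.isBasis_affineOpens.exists_subset_of_mem_open (Set.mem_univ (f x)) isOpen_univ
      obtain ⟨_, ⟨V, hV, rfl⟩, hxV, hVU⟩ :=
        X.isBasis_affineOpens.exists_subset_of_mem_open (show x ∈ (f ⁻¹ᵁ U : Set X) from hxU)
          (f ⁻¹ᵁ U).isOpen
      exact ⟨U, V, hU, hV, hxV, hVU⟩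
    choose U V hU hV hxV hVU using hloc
    have hcover : (⊤ : X.Opens) ≤ iSup V := fun x _ => TopologicalSpace.Opens.mem_iSup.mpr ⟨x, hxV x⟩
    refine X.sheaf.eq_of_locally_eq' V ⊤ (fun x => homOfLE le_top) hcover g 0 fun x => ?_
    have h0 : X.presheaf.map (homOfLE (le_top : V x ≤ ⊤)).op (0 : Γ(X, ⊤)) = 0 := map_zero _
    exact (hcon (U x) (hU x) (V x) (hV x) (hVU x)).trans h0.symm
  set g₀ : Γ(X, V₀) := X.presheaf.map (homOfLE le_top).op g with hg₀def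
  -- Step 1
  obtain ⟨a₁, ha₁⟩ := Groth.Agent.Lib.Helper29.FlatLqf.alg1_hom (f.appLE U₀ V₀ e₀).hom
    (RingHom.FiniteType.of_finitePresentation (Scheme.Hom.finitePresentation_appLE f hU₀ hV₀ e₀))
    (LocallyQuasiFinite.quasiFinite_appLE hU₀ hV₀ e₀) g₀ hg₀
  obtain ⟨e₁, hc₁, hlA₁, hlB₁⟩ := Groth.Agent.Lib.Helper29.FlatLqf.model_conditions f hU₀ hV₀ e₀ a₁
  have hU₁ : IsAffineOpen (S.basicOpen a₁) := hU₀.basicOpen a₁
  have hV₁ : IsAffineOpen (X.basicOpen ((f.appLE U₀ V₀ e₀).hom a₁)) := hV₀.basicOpen _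
  obtain ⟨s₁, hs₁, I₁, hI₁, hIs₁, hnv₁, hIg₁, hfin₁⟩ := ha₁ _ _ _ _ _ hc₁ hlA₁ hlB₁
  -- Step 2
  obtain ⟨a₂, ha₂⟩ := Groth.Agent.Lib.Helper29.FlatLqf.alg2_hom
    (f.appLE (S.basicOpen a₁) (X.basicOpen ((f.appLE U₀ V₀ e₀).hom a₁)) e₁).hom
    (Scheme.Hom.flat_appLE f hU₁ hV₁ e₁) (Scheme.Hom.finitePresentation_appLE f hU₁ hV₁ e₁)
    _ s₁ I₁ hI₁ hIs₁ hnv₁ hIg₁ hfin₁
  obtain ⟨e₂, hc₂, hlA₂, hlB₂⟩ := Groth.Agent.Lib.Helper29.FlatLqf.model_conditions f hU₁ hV₁ e₁ a₂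
  have hU₂ : IsAffineOpen (S.basicOpen a₂) := hU₁.basicOpen a₂
  have hV₂ := hV₁.basicOpen ((f.appLE (S.basicOpen a₁)
    (X.basicOpen ((f.appLE U₀ V₀ e₀).hom a₁)) e₁).hom a₂)
  obtain ⟨hg₂, F, r, hr, ψ, hψ, hmem⟩ := ha₂ _ _ _ _ _ hc₂ hlA₂ hlB₂
    (Scheme.Hom.flat_appLE f hU₂ hV₂ e₂)
  have hgeq : (X.presheaf.map (homOfLE (X.basicOpen_le ((f.appLE (S.basicOpen a₁)
      (X.basicOpen ((f.appLE U₀ V₀ e₀).hom a₁)) e₁).hom a₂))).op).hom
      ((X.presheaf.map (homOfLE (X.basicOpen_le ((f.appLE U₀ V₀ e₀).hom a₁))).op).hom g₀) =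
      X.presheaf.map (homOfLE le_top).op g := by
    rw [hg₀def]
    change (X.presheaf.map _ ≫ X.presheaf.map _ ≫ X.presheaf.map _) g = _
    rw [← Functor.map_comp, ← Functor.map_comp]
    rfl
  rw [hgeq] at hg₂ hmem
  exact ⟨_, hU₂, _, hV₂, e₂, hg₂, F, r, hr, ψ, hψ, hmem⟩

end Groth.Agent.S1480
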