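import Groth.Statements.S14805
import Groth.Agent.Lib.Helper75.LatIndex

set_option autoImplicit false
open Finset
open CompLat
open Groth.Agent.Lib.Helper75

namespace Groth.Agent.S14805

/-- Let n ≥ 1 and let D, D' : ℤⁿ → ℤⁿ be given by diagonal matrices with nonzero diagonal entries (rank
n), A : ℤⁿ → ℤⁿ an integer matrix of rank n - 1, S : ℤⁿ → ℤ the sum of the coordinates and Δ : ℤ →
ℤⁿ the diagonal embedding; assume S D A = 0 and A D' Δ = 0, and let d > 0 with dℤ = im(S D), i.e. d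
is the greatest common divisor of the diagonal entries of D. Then #(ker(S D)/im A) · |det D| = d ·
#(ker S/im(D A)). -/
theorem result (n : ℕ) (hn : 0 < n) (δ δ' : Fin n → ℤ) (hδ : ∀ i, δ i ≠ 0) (hδ' : ∀ i, δ' i ≠ 0)
    (A : Matrix (Fin n) (Fin n) ℤ) (hA : A.rank = n - 1)
    (hSDA : (∑ i : Fin n, (LinearMap.proj i : (Fin n → ℤ) →ₗ[ℤ] ℤ)) ∘ₗ
        (Matrix.mulVecLin (Matrix.diagonal δ)) ∘ₗ (Matrix.mulVecLin A) = 0)
    (hADΔ : (Matrix.mulVecLin A) ∘ₗ (Matrix.mulVecLin (Matrix.diagonal δ')) ∘ₗ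
        (LinearMap.pi fun _ : Fin n => (LinearMap.id : ℤ →ₗ[ℤ] ℤ)) = 0) :
    (Nat.card (LinearMap.ker ((∑ i : Fin n, (LinearMap.proj i : (Fin n → ℤ) →ₗ[ℤ] ℤ)) ∘ₗ (Matrix.mulVecLin (Matrix.diagonal δ))) ⧸
          (LinearMap.range (Matrix.mulVecLin A)).comap (LinearMap.ker ((∑ i : Fin n, (LinearMap.proj i : (Fin n → ℤ) →ₗ[ℤ] ℤ)) ∘ₗ (Matrix.mulVecLin (Matrix.diagonal δ)))).subtype) : ℤ) * |∏ i, δ i| =
      (univ.gcd δ) * Nat.card (LinearMap.ker (∑ i : Fin n, (LinearMap.proj i : (Fin n → ℤ) →ₗ[ℤ] ℤ)) ⧸ (LinearMap.range ((Matrix.mulVecLin (Matrix.diagonal δ)) ∘ₗ (Matrix.mulVecLin A))).comap (LinearMap.ker (∑ i : Fin n, (LinearMap.proj i : (Fin n → ℤ) →ₗ[ℤ] ℤ))).subtype) := by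
  classical
  have hSdef : (∑ i : Fin n, (LinearMap.proj i : (Fin n → ℤ) →ₗ[ℤ] ℤ)) = sumL n := rfl
  rw [hSdef] at hSDA ⊢
  set Dℓ := Matrix.mulVecLin (Matrix.diagonal δ) with hDℓ
  set Aℓ := Matrix.mulVecLin A with hAℓ
  have hDinj : Function.Injective Dℓ.toAddMonoidHom := diagL_injective δ hδ
  have hSsurj : Function.Surjective (sumL n).toAddMonoidHom := sumL_surjective hn
  have hH : ((LinearMap.range Aℓ).toAddSubgroup).map Dℓ.toAddMonoidHom ≤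
      (sumL n).toAddMonoidHom.ker := by
    rintro _ ⟨_, ⟨x, rfl⟩, rfl⟩
    exact LinearMap.congr_fun hSDA x
  have key := index_core Dℓ.toAddMonoidHom hDinj (sumL n).toAddMonoidHom hSsurj
    (LinearMap.range Aℓ).toAddSubgroup hH
  have e1 : Nat.card (LinearMap.ker (sumL n ∘ₗ Dℓ) ⧸
      (LinearMap.range Aℓ).comap (LinearMap.ker (sumL n ∘ₗ Dℓ)).subtype) =
      (LinearMap.range Aℓ).toAddSubgroup.relIndex
        ((sumL n).toAddMonoidHom.comp Dℓ.toAddMonoidHom).ker := card_quot_comap _ _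
  have e2 : Nat.card (LinearMap.ker (sumL n) ⧸
      (LinearMap.range (Dℓ ∘ₗ Aℓ)).comap (LinearMap.ker (sumL n)).subtype) =
      (((LinearMap.range Aℓ).toAddSubgroup).map Dℓ.toAddMonoidHom).relIndex
        (sumL n).toAddMonoidHom.ker := by
    rw [card_quot_comap]
    congr 1
    ext y
    constructor
    · rintro ⟨x, rfl⟩
      exact ⟨Aℓ x, ⟨x, rfl⟩, rfl⟩
    · rintro ⟨_, ⟨x, rfl⟩, rfl⟩
      exact ⟨x, rfl⟩
  have e3 := index_range_diagL δ
  have e4 := index_range_sumL_diagL δ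
  rw [e1, e2, ← e4, ← Int.natCast_natAbs, ← e3]
  exact_mod_cast key

end Groth.Agent.S14805
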