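import Groth.Statements.S14806
import Groth.Agent.S14805
import Groth.Agent.Lib.Helper75.LatIndex2

set_option autoImplicit false
open Finset
open CompLat
open Groth.Agent.Lib.Helper75

namespace Groth.Agent.S14806

/-- Let n ≥ 1, let D, D' : ℤⁿ → ℤⁿ be given by diagonal matrices with nonzero diagonal entries, A : ℤⁿ →
ℤⁿ an integer matrix of rank n - 1, S : ℤⁿ → ℤ the sum of the coordinates and Δ : ℤ → ℤⁿ the
diagonal embedding, with S D A = 0 and A D' Δ = 0; let d, d' be the greatest common divisors of the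
diagonal entries of D and of D' (dℤ = im(S D), d'ℤ = im(S D')). Then #(ker(S D)/im A) · |det D| ·
|det D'| = d d' · #(ker S/im(D A D')). -/
theorem result (n : ℕ) (hn : 0 < n) (δ δ' : Fin n → ℤ) (hδ : ∀ i, δ i ≠ 0) (hδ' : ∀ i, δ' i ≠ 0)
    (A : Matrix (Fin n) (Fin n) ℤ) (hA : A.rank = n - 1)
    (hSDA : (∑ i : Fin n, (LinearMap.proj i : (Fin n → ℤ) →ₗ[ℤ] ℤ)) ∘ₗ
        (Matrix.mulVecLin (Matrix.diagonal δ)) ∘ₗ (Matrix.mulVecLin A) = 0)
    (hADΔ : (Matrix.mulVecLin A) ∘ₗ (Matrix.mulVecLin (Matrix.diagonal δ')) ∘ₗ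
        (LinearMap.pi fun _ : Fin n => (LinearMap.id : ℤ →ₗ[ℤ] ℤ)) = 0) :
    (Nat.card (LinearMap.ker ((∑ i : Fin n, (LinearMap.proj i : (Fin n → ℤ) →ₗ[ℤ] ℤ)) ∘ₗ (Matrix.mulVecLin (Matrix.diagonal δ))) ⧸
          (LinearMap.range (Matrix.mulVecLin A)).comap (LinearMap.ker ((∑ i : Fin n, (LinearMap.proj i : (Fin n → ℤ) →ₗ[ℤ] ℤ)) ∘ₗ (Matrix.mulVecLin (Matrix.diagonal δ)))).subtype) : ℤ) * |∏ i, δ i| * |∏ i, δ' i| =
      (univ.gcd δ) * (univ.gcd δ') * Nat.card (LinearMap.ker (∑ i : Fin n, (LinearMap.proj i : (Fin n → ℤ) →ₗ[ℤ] ℤ)) ⧸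
          (LinearMap.range ((Matrix.mulVecLin (Matrix.diagonal δ)) ∘ₗ (Matrix.mulVecLin A) ∘ₗ (Matrix.mulVecLin (Matrix.diagonal δ')))).comap (LinearMap.ker (∑ i : Fin n, (LinearMap.proj i : (Fin n → ℤ) →ₗ[ℤ] ℤ))).subtype) := by
  classical
  have step1 := Groth.Agent.S14805.result n hn δ δ' hδ hδ' A hA hSDA hADΔ
  have hSdef : (∑ i : Fin n, (LinearMap.proj i : (Fin n → ℤ) →ₗ[ℤ] ℤ)) = sumL n := rfl
  rw [hSdef] at hSDA step1 ⊢
  have hker : Matrix.mulVecLin A δ' = 0 := by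
    have h := LinearMap.congr_fun hADΔ 1
    have h' : Matrix.mulVecLin (Matrix.diagonal δ')
        ((LinearMap.pi fun _ : Fin n => (LinearMap.id : ℤ →ₗ[ℤ] ℤ)) 1) = δ' := by
      funext i
      rw [diagL_apply]
      simp
    simpa [h'] using h
  have step2 := index_step2 hn δ δ' hδ hδ' A hA hSDA hker
  rw [card_quot_comap] at step1 ⊢
  rw [card_quot_comap] at step1 ⊢
  have step2' : (((LinearMap.range ((Matrix.mulVecLin (Matrix.diagonal δ)) ∘ₗ
        (Matrix.mulVecLin A))).toAddSubgroup.relIndex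
          (LinearMap.ker (sumL n)).toAddSubgroup : ℕ) : ℤ) * |∏ i, δ' i| =
      (univ.gcd δ') *
      (((LinearMap.range ((Matrix.mulVecLin (Matrix.diagonal δ)) ∘ₗ (Matrix.mulVecLin A) ∘ₗ
        (Matrix.mulVecLin (Matrix.diagonal δ')))).toAddSubgroup.relIndex
          (LinearMap.ker (sumL n)).toAddSubgroup : ℕ) : ℤ) := by
    have hg : ((univ.gcd δ').natAbs : ℤ) = univ.gcd δ' := by
      rw [Int.natCast_natAbs, Int.abs_eq_normalize, Finset.normalize_gcd]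
    rw [← Int.natCast_natAbs, ← hg]
    exact_mod_cast step2
  rw [step1, mul_assoc, step2']
  ring

end Groth.Agent.S14806
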