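import Groth.Statements.S14807
import Mathlib.GroupTheory.OrderOfElement
import Mathlib.SetTheory.Cardinal.Finite

set_option autoImplicit false
universe u
open CAlg

namespace Groth.Agent.S14807

/-- Let G be a finite abelian group, written additively, and ℓ a prime number. Every sequence (g_n)_{n ≥
0} of elements of G with ℓ^n · g_n = 0 and ℓ · g_{n+1} = g_n for all n is identically zero; in other
words the inverse limit of the subgroups of ℓ^n-torsion elements, with transition maps
multiplication by ℓ, vanishes. -/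
theorem result (G : Type u) [AddCommGroup G] [Finite G]
    (ℓ : ℕ) (hℓ : ℓ.Prime) (g : ℕ → G) (htor : ∀ n : ℕ, ℓ ^ n • g n = 0)
    (hcomp : ∀ n : ℕ, ℓ • g (n + 1) = g n) (n : ℕ) : g n = 0 := by
  classical
  set N := Nat.card G with hN
  -- every g m is killed by ℓ^N
  have key : ∀ m : ℕ, ℓ ^ N • g m = 0 := by
    intro m
    have h1 : addOrderOf (g m) ∣ ℓ ^ m := addOrderOf_dvd_of_nsmul_eq_zero (htor m)
    obtain ⟨j, hj, hje⟩ := (Nat.dvd_prime_pow hℓ).1 h1
    have h2 : addOrderOf (g m) ∣ N := addOrderOf_dvd_natCard (g m)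
    have hNpos : 0 < N := Nat.card_pos
    have h3 : ℓ ^ j ≤ N := Nat.le_of_dvd hNpos (hje ▸ h2)
    have h4 : N < ℓ ^ N := Nat.lt_pow_self hℓ.one_lt
    have h5 : j < N := by
      by_contra hcon
      replace hcon := not_lt.1 hcon
      have : ℓ ^ N ≤ ℓ ^ j := Nat.pow_le_pow_right hℓ.pos hcon
      omega
    have h6 : addOrderOf (g m) ∣ ℓ ^ N := by
      rw [hje]; exact pow_dvd_pow ℓ h5.le
    exact addOrderOf_dvd_iff_nsmul_eq_zero.1 h6
  have shift : ∀ k n : ℕ, ℓ ^ k • g (n + k) = g n := by
    intro k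
    induction k with
    | zero => intro n; simp
    | succ k ih =>
      intro n
      rw [pow_succ, mul_smul, ← add_assoc, hcomp, ih]
  rw [← shift N n]
  exact key _

end Groth.Agent.S14807
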