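import Groth.Statements.S14809
import Groth.Agent.Lib.Helper20.SecCosec
import Groth.Agent.Lib.Helper11.TensorBasis

set_option autoImplicit false
universe u
open CategoryTheory CategoryTheory.Limits AlgebraicGeometry
open PicF

namespace Groth.Agent.S14809

open Groth.Agent.Lib.Helper45 Groth.Agent.Lib.Helper49 Groth.Agent.Lib.Helper11.GenLocus
open Groth.Agent.Lib.Helper20.SecCosec TopologicalSpace

/-- Let X be an integral scheme such that Γ(X, O_X) is a field and L an invertible O_X-module with a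
nonzero global section (a nonzero morphism O_X → L). If some tensor power L^{⊗d} with d ≥ 1 is
isomorphic to O_X, then L itself is isomorphic to O_X. -/
theorem result (X : Scheme.{u}) [IsIntegral X]
    (hfield : IsField (Γ(X, ⊤) : Type u)) (L : X.Modules) (hL : PicF.IsInvertible L)
    (s : Coh.structureModule X ⟶ L) (hs : s ≠ 0) (d : ℕ) (hd : 0 < d)
    (htriv : Nonempty (CohB1.tensorPow L d ≅ Coh.structureModule X)) :
    Nonempty (L ≅ Coh.structureModule X) := by
  obtain ⟨φ⟩ := htriv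
  obtain ⟨n, rfl⟩ : ∃ n, d = n + 1 := ⟨d - 1, by omega⟩
  set σ : Coh.structureModule X ⟶ CohB1.tensorPow L (n + 1) := SecTwist.powHom s (n + 1) with hσdef
  set ψ : Coh.structureModule X ⟶ Coh.structureModule X := σ ≫ φ.hom with hψdef
  -- `σ ≠ 0`
  have hσ : σ ≠ 0 := by
    intro h0
    obtain ⟨x₀⟩ := (inferInstance : Nonempty X)
    obtain ⟨V, hxV, e, he⟩ := exists_isBasisOn_of_isInvertible hL x₀
    obtain ⟨a, ha⟩ := he.exists_eq_smul (sec s V)
    have h1 := pow_eq_smul_powSec s V e a ha.symm (n + 1)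
    have h2 : toΓ (CohB1.tensorPow L (n + 1)) V (SecTwist.pow s (n + 1) V) = sec σ V := by
      rw [sec_eq_val, hσdef, SecTwist.val_powHom]
      rfl
    have h3 : sec σ V = 0 := by
      rw [h0]
      rfl
    rw [h2, h3] at h1
    have h4 : a ^ (n + 1) = 0 := by
      apply (isBasisOn_powSec he (n + 1)).eq_of_smul_eq
      rw [← h1, zero_smul]
    haveI : Nonempty V := ⟨⟨x₀, hxV⟩⟩
    have ha0 : a = 0 := pow_eq_zero_iff (by omega) |>.mp h4
    apply hs
    apply eq_zero_of_sec_eq_zero hL s (⟨x₀, hxV⟩ : ((V : X.Opens) : Set X).Nonempty)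
    rw [← ha, ha0, zero_smul]
  have hψ : ψ ≠ 0 := by
    intro h
    apply hσ
    rw [← cancel_mono φ.hom, zero_comp]
    exact h
  have hc : ofO ⊤ (sec ψ ⊤) ≠ 0 := fun h => hψ (eq_zero_of_sec_top_eq_zero ψ h)
  have hcu : IsUnit (ofO ⊤ (sec ψ ⊤)) := by
    obtain ⟨d, hd⟩ := hfield.mul_inv_cancel hc
    exact IsUnit.of_mul_eq_one _ hd
  haveI hψiso : IsIso ψ := isIso_of_isUnit_sec_top ψ hcu
  haveI hσiso : IsIso σ := by
    have : σ = ψ ≫ φ.inv := by rw [hψdef, Category.assoc, Iso.hom_inv_id, Category.comp_id]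
    rw [this]
    infer_instance
  have htop : (⊤ : X.Opens) ≤ CohB1.genLocus (CohB1.tensorPow L (n + 1)) σ := by
    rw [le_genLocus_iff_app]
    intro V _
    infer_instance
  have htop' : (⊤ : X.Opens) ≤ CohB1.genLocus (CohB1.tensorMod (CohB1.tensorPow L n) L)
      (SecTwist.tmulHom (SecTwist.powHom s n) s) := htop
  rw [genLocus_tmulHom X _ _ (isInvertible_tensorPow hL n) hL] at htop'
  have h2 : (⊤ : X.Opens) ≤ CohB1.genLocus L s := htop'.trans inf_le_right
  rw [le_genLocus_iff_app] at h2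
  haveI : IsIso s := by
    rw [Scheme.Modules.Hom.isIso_iff_isIso_app]
    intro W
    exact h2 W le_top
  exact ⟨(asIso s).symm⟩


end Groth.Agent.S14809
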