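import Groth.Statements.S14822
import Mathlib
import Groth.Agent.Lib.Helper50.PushO3

set_option autoImplicit false
universe u
open CategoryTheory CategoryTheory.Limits AlgebraicGeometry
open CohIII

namespace Groth.Agent.S14822

/-- Let k be a field and f : X → Y a surjective k-morphism between integral proper k-schemes of the same
dimension, with Y normal (all local rings integrally closed domains). Then f is a fibration (Γ(U,
O_Y) → Γ(f⁻¹U, O_X) bijective for every open U ⊆ Y) if and only if f is birational: the embedding
K(Y) → K(X) of function fields given by the stalk map at the generic points is bijective. -/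
theorem result (k : Type u) [Field k]
    (X Y : Scheme.{u}) [X.Over (Spec (CommRingCat.of k))] [Y.Over (Spec (CommRingCat.of k))]
    [IsProper (X ↘ Spec (CommRingCat.of k))] [IsProper (Y ↘ Spec (CommRingCat.of k))] [IsIntegral X] [IsIntegral Y]
    (hY : Pi1.IsNormalScheme Y) (f : X ⟶ Y) [Surjective f] (hf : f ≫ (Y ↘ Spec (CommRingCat.of k)) = X ↘ Spec (CommRingCat.of k))
    (hdim : topologicalKrullDim ↥X = topologicalKrullDim ↥Y)
    (h : f.base (genericPoint ↥X) ⤳ genericPoint ↥Y) :
    (∀ U : Y.Opens, IsIso (f.app U)) ↔ Function.Bijective (CohIII.stalkToFunctionField f (genericPoint ↥Y) h) := by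
      haveI : IsProper (f ≫ (Y ↘ Spec (CommRingCat.of k))) := by rw [hf]; infer_instance
      haveI : IsProper f := IsProper.of_comp f (Y ↘ Spec (CommRingCat.of k))
      constructor
      · intro hiso
        refine ⟨(CohIII.stalkToFunctionField f (genericPoint ↥Y) h).injective, ?_⟩
        haveI : CompactSpace X :=
          (quasiCompact_iff_compactSpace (f := X ↘ Spec (CommRingCat.of k))).mp inferInstance
        exact Groth.Agent.Lib.Helper50.stalkToFunctionField_surjective_of_isIso_app f
          f.isClosedMap h
          (fun z hz => Groth.Agent.Lib.Helper50.closure_eq_univ_of_map_eq_genericPoint k X Y f hf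
            hdim z hz) hiso
      · intro hbij V
        have halg' : ∀ x : X.functionField,
            (∃ p : Polynomial Y.functionField, p ≠ 0 ∧
              Polynomial.eval₂ (CohIII.stalkToFunctionField f (genericPoint Y) h) x p = 0) →
            x ∈ Set.range (CohIII.stalkToFunctionField f (genericPoint Y) h) := by
          rintro x -
          exact hbij.2 x
        exact Groth.Agent.Lib.Helper50.isIso_app_of_forall_affine f (fun W hW hne => by
          haveI := hne
          exact Groth.Agent.Lib.Helper50.bijective_app_of_isAffineOpen hY f h halg' hW) V

end Groth.Agent.S14822
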