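import Groth.Statements.S14825
import Groth.Agent.Lib.Helper75.H0k
import Mathlib.AlgebraicGeometry.Group.Abelian
-- import your own Groth.Agent.* helpers here

set_option autoImplicit false
universe u
open CategoryTheory MonoidalCategory CartesianMonoidalCategory MonObj GrpObj AlgebraicGeometry
open AbVar

namespace Groth.Agent.S14825

/-- In the pointed case, let k be a field and X a proper k-scheme with H^0(X, O_X) one-dimensional and a
k-rational point x₀; let alb : X → A be the Albanese morphism (A an abelian variety over k — proper,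
geometrically integral group scheme — with alb(x₀) = 0, universal among pointed k-morphisms from X
to abelian varieties, the latter being geometrically reduced, connected, proper group schemes). Then
X has Albanese dimension zero, i.e. the image of alb is a single point of A (X is connected, so this
says the image is zero-dimensional), if and only if A is the trivial abelian variety, i.e. A → Spec
k is an isomorphism. (The published statement does not assume a rational point (it works with the
Albanese torsor); this row assumes one.) -/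
theorem result (k : Type u) [Field k] (X : Scheme.{u}) [X.Over (Spec (CommRingCat.of k))]
    [IsProper (X ↘ Spec (CommRingCat.of k))] (h0 : Module.finrank k (Coh.HH X (Coh.structureModule X) 0) = 1)
    (x₀ : 𝟙_ (Over (Spec (CommRingCat.of k))) ⟶ Over.mk (X ↘ Spec (CommRingCat.of k)))
    (A : Over (Spec (CommRingCat.of k))) [GrpObj A] [IsProper A.hom] [GeometricallyIntegral A.hom]
    (alb : Over.mk (X ↘ Spec (CommRingCat.of k)) ⟶ A) (halb : x₀ ≫ alb = η[A])
    (huniv : ∀ (B : Over (Spec (CommRingCat.of k))) [GrpObj B] [IsProper B.hom] [GeometricallyReduced B.hom] [ConnectedSpace ↥B.left]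
      (g : Over.mk (X ↘ Spec (CommRingCat.of k)) ⟶ B), x₀ ≫ g = η[B] → ∃! h : A ⟶ B, IsMonHom h ∧ alb ≫ h = g) :
    (Set.range alb.left.base).Subsingleton ↔ IsIso A.hom := by
  have hsurj := Groth.Agent.Lib.Helper75.H0k.appTop_surjective_of_finrank_eq_one k X h0
  obtain ⟨X', hX'⟩ : ∃ X' : Over (Spec (CommRingCat.of k)), X' = Over.mk (X ↘ Spec (CommRingCat.of k)) :=
    ⟨_, rfl⟩
  have hsurj' : Function.Surjective X'.hom.appTop.hom := by rw [hX']; exact hsurj
  clear hsurj h0
  subst hX'
  let pt : Spec (CommRingCat.of k) := IsLocalRing.closedPoint k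
  constructor
  · intro hsub
    -- `alb` is topologically constant with value `e`
    have hconst : ∀ x, alb.left x = η[A].left pt := by
      intro x
      apply hsub ⟨x, rfl⟩ ⟨x₀.left pt, ?_⟩
      rw [← halb]; rfl
    obtain ⟨U₀, hU₀, heU⟩ : ∃ U₀ : A.left.Opens, IsAffineOpen U₀ ∧ η[A].left pt ∈ U₀ := by
      obtain ⟨_, ⟨U₀, hU₀, rfl⟩, hzU, -⟩ :=
        A.left.isBasis_affineOpens.exists_subset_of_mem_open (Set.mem_univ (η[A].left pt)) isOpen_univ
      exact ⟨U₀, hU₀, hzU⟩
    have hrange : Set.range alb.left ⊆ Set.range U₀.ι := by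
      rintro _ ⟨x, rfl⟩
      rw [Scheme.Opens.range_ι, hconst x]
      exact heU
    let ψ : (Over.mk (X ↘ Spec (CommRingCat.of k))).left ⟶ (U₀ : Scheme) :=
      IsOpenImmersion.lift U₀.ι alb.left hrange
    have hψ : ψ ≫ U₀.ι = alb.left := IsOpenImmersion.lift_fac _ _ _
    have : IsAffine (U₀ : Scheme) := hU₀
    have hx₀ : x₀.left ≫ (Over.mk (X ↘ Spec (CommRingCat.of k))).hom = 𝟙 _ := by
      have := Over.w x₀
      simpa using this
    have hψ2 : ψ = (Over.mk (X ↘ Spec (CommRingCat.of k))).hom ≫ x₀.left ≫ ψ := by
      apply ext_of_isAffine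
      ext a
      rw [Scheme.Hom.comp_appTop, Scheme.Hom.comp_appTop]
      obtain ⟨c, hc⟩ := hsurj' (ψ.appTop a)
      show _ = (Over.mk (X ↘ Spec (CommRingCat.of k))).hom.appTop (x₀.left.appTop (ψ.appTop a))
      have hc' : ψ.appTop a = (Over.mk (X ↘ Spec (CommRingCat.of k))).hom.appTop c := hc.symm
      rw [hc']
      congr 1
      have : (Over.mk (X ↘ Spec (CommRingCat.of k))).hom.appTop ≫ x₀.left.appTop = 𝟙 _ := by
        rw [← Scheme.Hom.comp_appTop, hx₀]; simp
      exact (congr($this c)).symm
    have halb2 : alb = toUnit _ ≫ η[A] := by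
      ext1
      rw [← hψ, hψ2, Category.assoc, Category.assoc, hψ]
      have : x₀.left ≫ alb.left = η[A].left := by rw [← Over.comp_left, halb]
      rw [this]
      rfl
    have hAirr : IrreducibleSpace A.left :=
      GeometricallyIrreducible.irreducibleSpace_of_subsingleton A.hom
    obtain ⟨h, -, huniq⟩ := huniv A alb halb
    have h1 : 𝟙 A = h := huniq _ ⟨inferInstance, Category.comp_id _⟩
    have h2 : toUnit A ≫ η[A] = h := by
      apply huniq _ ⟨inferInstance, ?_⟩
      rw [halb2, Category.assoc, ← Category.assoc (η[A]), toUnit_unique (η[A] ≫ toUnit A) (𝟙 _),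
        Category.id_comp]
    have h3 : 𝟙 A = toUnit A ≫ η[A] := h1.trans h2.symm
    refine ⟨η[A].left, ?_, ?_⟩
    · have := congr($(h3).left)
      exact this.symm
    · have := Over.w η[A]
      simp
  · intro hiso x hx y hy
    have hinj : Function.Injective A.hom := by
      intro a b hab
      have h1 : ∀ z, (inv A.hom) (A.hom z) = z := by
        intro z
        rw [← Scheme.Hom.comp_apply, IsIso.hom_inv_id]; rfl
      rw [← h1 a, ← h1 b, hab]
    obtain ⟨a, rfl⟩ := hx
    obtain ⟨b, rfl⟩ := hy
    apply hinj
    exact Subsingleton.elim _ _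

end Groth.Agent.S14825
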