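import Groth.Statements.S14827
-- import your own Groth.Agent.* helpers here

set_option autoImplicit false
universe u
open CategoryTheory MonoidalCategory CartesianMonoidalCategory MonObj GrpObj AlgebraicGeometry
open AbVar

namespace Groth.Agent.S14827

/-- Over a field k (the published statement is over a base scheme S), let X be a proper k-scheme with
H^0(X, O_X) one-dimensional and a k-rational point x₀, and alb : X → A the Albanese morphism for the
base point x₀ (A an abelian variety — proper, geometrically integral group scheme — with alb(x₀) =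
0, universal among pointed morphisms to geometrically reduced, connected, proper group schemes). For
a second k-rational point x₁ let alb' = alb · (constant map with value alb(x₁))⁻¹, i.e. alb followed
by the translation of A by −alb(x₁). Then alb' is the Albanese morphism of X pointed by x₁: alb'(x₁)
= 0, and every k-morphism g : X → B to an abelian variety B with g(x₁) = 0 equals alb' ≫ h for a
unique homomorphism h : A → B. -/
theorem result (k : Type u) [Field k] (X : Scheme.{u}) [X.Over (Spec (CommRingCat.of k))]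
    [IsProper (X ↘ Spec (CommRingCat.of k))] (h0 : Module.finrank k (Coh.HH X (Coh.structureModule X) 0) = 1)
    (x₀ : 𝟙_ (Over (Spec (CommRingCat.of k))) ⟶ Over.mk (X ↘ Spec (CommRingCat.of k)))
    (A : Over (Spec (CommRingCat.of k))) [GrpObj A] [IsProper A.hom] [GeometricallyIntegral A.hom]
    (alb : Over.mk (X ↘ Spec (CommRingCat.of k)) ⟶ A) (halb : x₀ ≫ alb = η[A])
    (huniv : ∀ (B : Over (Spec (CommRingCat.of k))) [GrpObj B] [IsProper B.hom] [GeometricallyReduced B.hom] [ConnectedSpace ↥B.left]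
      (g : Over.mk (X ↘ Spec (CommRingCat.of k)) ⟶ B), x₀ ≫ g = η[B] → ∃! h : A ⟶ B, IsMonHom h ∧ alb ≫ h = g)
    (x₁ : 𝟙_ (Over (Spec (CommRingCat.of k))) ⟶ Over.mk (X ↘ Spec (CommRingCat.of k))) :
    x₁ ≫ (alb * (toUnit (Over.mk (X ↘ Spec (CommRingCat.of k))) ≫ x₁ ≫ alb)⁻¹) = η[A] ∧
    ∀ (B : Over (Spec (CommRingCat.of k))) [GrpObj B] [IsProper B.hom] [GeometricallyReduced B.hom] [ConnectedSpace ↥B.left]
      (g : Over.mk (X ↘ Spec (CommRingCat.of k)) ⟶ B), x₁ ≫ g = η[B] →
        ∃! h : A ⟶ B, IsMonHom h ∧ (alb * (toUnit (Over.mk (X ↘ Spec (CommRingCat.of k))) ≫ x₁ ≫ alb)⁻¹) ≫ h = g := by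
  -- points composed with the map to the unit
  have hpt : ∀ t : 𝟙_ (Over (Spec (CommRingCat.of k))) ⟶ Over.mk (X ↘ Spec (CommRingCat.of k)),
      t ≫ toUnit (Over.mk (X ↘ Spec (CommRingCat.of k))) = 𝟙 _ :=
    fun t => Subsingleton.elim _ _
  have hpt' : ∀ {B : Over (Spec (CommRingCat.of k))}
      (t : 𝟙_ (Over (Spec (CommRingCat.of k))) ⟶ Over.mk (X ↘ Spec (CommRingCat.of k)))
      (f : 𝟙_ (Over (Spec (CommRingCat.of k))) ⟶ B),
      t ≫ toUnit (Over.mk (X ↘ Spec (CommRingCat.of k))) ≫ f = f := by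
    intro B t f
    rw [← Category.assoc, hpt, Category.id_comp]
  refine ⟨?_, ?_⟩
  · rw [MonObj.comp_mul, GrpObj.comp_inv, hpt', mul_inv_cancel, MonObj.one_eq_one]
  · intro B _ _ _ _ g hg
    -- the map pointed at x₀
    have hx₀g₀ : x₀ ≫ (g * (toUnit (Over.mk (X ↘ Spec (CommRingCat.of k))) ≫ x₀ ≫ g)⁻¹) = η[B] := by
      rw [MonObj.comp_mul, GrpObj.comp_inv, hpt', mul_inv_cancel, MonObj.one_eq_one]
    obtain ⟨h, ⟨hh, hcomp⟩, huniq⟩ := huniv B _ hx₀g₀
    refine ⟨h, ⟨hh, ?_⟩, ?_⟩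
    · rw [MonObj.mul_comp, GrpObj.inv_comp, Category.assoc, Category.assoc, hcomp]
      have e : x₁ ≫ (g * (toUnit (Over.mk (X ↘ Spec (CommRingCat.of k))) ≫ x₀ ≫ g)⁻¹)
          = (x₀ ≫ g)⁻¹ := by
        rw [MonObj.comp_mul, GrpObj.comp_inv, hpt', hg, MonObj.one_eq_one, _root_.one_mul]
      rw [e, GrpObj.comp_inv, _root_.inv_inv, inv_mul_cancel_right]
    · rintro h' ⟨hh', hcomp'⟩
      apply huniq
      refine ⟨hh', ?_⟩
      -- alb = alb' * c
      have e1 : alb = (alb * (toUnit (Over.mk (X ↘ Spec (CommRingCat.of k))) ≫ x₁ ≫ alb)⁻¹) *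
          (toUnit (Over.mk (X ↘ Spec (CommRingCat.of k))) ≫ x₁ ≫ alb) := by
        rw [inv_mul_cancel_right]
      have e2 : x₁ ≫ alb ≫ h' = (x₀ ≫ g)⁻¹ := by
        have h3 : x₀ ≫ (alb * (toUnit (Over.mk (X ↘ Spec (CommRingCat.of k))) ≫ x₁ ≫ alb)⁻¹) ≫ h'
            = x₀ ≫ g := by rw [hcomp']
        rw [← Category.assoc, MonObj.comp_mul, GrpObj.comp_inv, hpt', halb, MonObj.one_eq_one,
          _root_.one_mul, GrpObj.inv_comp, Category.assoc] at h3
        rw [← h3, _root_.inv_inv]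
      conv_lhs => rw [e1]
      rw [MonObj.mul_comp, hcomp', Category.assoc, Category.assoc, e2, GrpObj.comp_inv]

end Groth.Agent.S14827
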