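import Groth.Statements.S14830
import Groth.Agent.Lib.Helper75.RigidityProd
-- import your own Groth.Agent.* helpers here

set_option autoImplicit false
universe u
open CategoryTheory MonoidalCategory CartesianMonoidalCategory MonObj GrpObj AlgebraicGeometry
open AbVar

namespace Groth.Agent.S14830

/-- Let k be a field and X, Y proper, geometrically integral k-schemes with k-rational points x₀ and y₀.
Let albX : X → A and albY : Y → B be Albanese morphisms: A, B abelian varieties over k (proper,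
geometrically integral group schemes), albX(x₀) = 0, albY(y₀) = 0, each universal among pointed
k-morphisms into abelian varieties (geometrically reduced, connected, proper group schemes). Then
the product morphism albX × albY : X ×_k Y → A ×_k B is the Albanese morphism of X ×_k Y pointed at
(x₀, y₀): for every abelian variety C and every k-morphism g : X ×_k Y → C with g(x₀, y₀) = 0 there
is a unique homomorphism h : A ×_k B → C with (albX × albY) ≫ h = g. -/
theorem result (k : Type u) [Field k] (X Y : Scheme.{u}) [X.Over (Spec (CommRingCat.of k))] [Y.Over (Spec (CommRingCat.of k))]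
    [IsProper (X ↘ Spec (CommRingCat.of k))] [IsProper (Y ↘ Spec (CommRingCat.of k))]
    [GeometricallyIntegral (X ↘ Spec (CommRingCat.of k))] [GeometricallyIntegral (Y ↘ Spec (CommRingCat.of k))]
    (x₀ : 𝟙_ (Over (Spec (CommRingCat.of k))) ⟶ Over.mk (X ↘ Spec (CommRingCat.of k))) (y₀ : 𝟙_ (Over (Spec (CommRingCat.of k))) ⟶ Over.mk (Y ↘ Spec (CommRingCat.of k)))
    (A : Over (Spec (CommRingCat.of k))) [GrpObj A] [IsProper A.hom] [GeometricallyIntegral A.hom]
    (albX : Over.mk (X ↘ Spec (CommRingCat.of k)) ⟶ A) (halbX : x₀ ≫ albX = η[A])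
    (hunivA : ∀ (C : Over (Spec (CommRingCat.of k))) [GrpObj C] [IsProper C.hom] [GeometricallyReduced C.hom] [ConnectedSpace ↥C.left]
      (g : Over.mk (X ↘ Spec (CommRingCat.of k)) ⟶ C), x₀ ≫ g = η[C] → ∃! h : A ⟶ C, IsMonHom h ∧ albX ≫ h = g)
    (B : Over (Spec (CommRingCat.of k))) [GrpObj B] [IsProper B.hom] [GeometricallyIntegral B.hom]
    (albY : Over.mk (Y ↘ Spec (CommRingCat.of k)) ⟶ B) (halbY : y₀ ≫ albY = η[B])
    (hunivB : ∀ (C : Over (Spec (CommRingCat.of k))) [GrpObj C] [IsProper C.hom] [GeometricallyReduced C.hom] [ConnectedSpace ↥C.left]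
      (g : Over.mk (Y ↘ Spec (CommRingCat.of k)) ⟶ C), y₀ ≫ g = η[C] → ∃! h : B ⟶ C, IsMonHom h ∧ albY ≫ h = g)
    (C : Over (Spec (CommRingCat.of k))) [GrpObj C] [IsProper C.hom] [GeometricallyReduced C.hom] [ConnectedSpace ↥C.left]
    (g : Over.mk (X ↘ Spec (CommRingCat.of k)) ⊗ Over.mk (Y ↘ Spec (CommRingCat.of k)) ⟶ C) (hg : lift x₀ y₀ ≫ g = η[C]) :
    ∃! h : A ⊗ B ⟶ C, IsMonHom h ∧ (albX ⊗ₘ albY) ≫ h = g := by
  obtain ⟨X', hX'⟩ : ∃ X' : Over (Spec (CommRingCat.of k)), X' = Over.mk (X ↘ Spec (CommRingCat.of k)) :=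
    ⟨_, rfl⟩
  obtain ⟨Y', hY'⟩ : ∃ Y' : Over (Spec (CommRingCat.of k)), Y' = Over.mk (Y ↘ Spec (CommRingCat.of k)) :=
    ⟨_, rfl⟩
  have hXp : IsProper X'.hom := by rw [hX']; assumption
  have hYp : IsProper Y'.hom := by rw [hY']; assumption
  have hXi : GeometricallyIntegral X'.hom := by rw [hX']; assumption
  have hYi : GeometricallyIntegral Y'.hom := by rw [hY']; assumption
  subst hX' hY'
  have hsepC : IsSeparated C.hom := inferInstance
  have hlftB : LocallyOfFiniteType B.hom := inferInstance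
  have hlftY : LocallyOfFiniteType (Over.mk (Y ↘ Spec (CommRingCat.of k))).hom := inferInstance
  -- the two restrictions
  obtain ⟨g₁, hg₁⟩ : ∃ g₁ : Over.mk (X ↘ Spec (CommRingCat.of k)) ⟶ C,
      g₁ = lift (𝟙 _) (toUnit _ ≫ y₀) ≫ g := ⟨_, rfl⟩
  obtain ⟨g₂, hg₂⟩ : ∃ g₂ : Over.mk (Y ↘ Spec (CommRingCat.of k)) ⟶ C,
      g₂ = lift (toUnit _ ≫ x₀) (𝟙 _) ≫ g := ⟨_, rfl⟩
  have hdecomp : g = (fst _ _ ≫ g₁) * (snd _ _ ≫ g₂) := by
    rw [hg₁, hg₂]
    exact Groth.Agent.Lib.Helper75.Rigidity.prod_decomp k _ _ C x₀ y₀ g hg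
  have e1 : y₀ ≫ lift (toUnit _ ≫ x₀) (𝟙 _) = lift x₀ y₀ := by
    rw [comp_lift, Category.comp_id, ← Category.assoc, toUnit_unique (y₀ ≫ toUnit _) (𝟙 _),
      Category.id_comp]
  have e2 : x₀ ≫ lift (𝟙 _) (toUnit _ ≫ y₀) = lift x₀ y₀ := by
    rw [comp_lift, Category.comp_id, ← Category.assoc, toUnit_unique (x₀ ≫ toUnit _) (𝟙 _),
      Category.id_comp]
  have hg₁pt : x₀ ≫ g₁ = η[C] := by rw [hg₁, ← Category.assoc, e2, hg]
  have hg₂pt : y₀ ≫ g₂ = η[C] := by rw [hg₂, ← Category.assoc, e1, hg]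
  obtain ⟨h₁, ⟨hmon₁, hh₁⟩, huniq₁⟩ := hunivA C g₁ hg₁pt
  obtain ⟨h₂, ⟨hmon₂, hh₂⟩, huniq₂⟩ := hunivB C g₂ hg₂pt
  have hcomm : (fst A B ≫ h₁) * (snd A B ≫ h₂) = (snd A B ≫ h₂) * (fst A B ≫ h₁) :=
    Groth.Agent.Lib.Helper75.Rigidity.commute_fst_snd k A B C h₁ h₂
      (IsMonHom.one_hom h₁) (IsMonHom.one_hom h₂)
  have hmonh : IsMonHom ((fst A B ≫ h₁) * (snd A B ≫ h₂)) :=
    Groth.Agent.Lib.Helper75.Rigidity.isMonHom_mul_of_commute A B C h₁ h₂ hcomm
  refine ⟨(fst A B ≫ h₁) * (snd A B ≫ h₂), ⟨hmonh, ?_⟩, ?_⟩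
  · rw [comp_mul, tensorHom_fst_assoc, tensorHom_snd_assoc, hh₁, hh₂, ← hdecomp]
  · rintro h' ⟨hmon', hh'⟩
    -- the two inclusions
    have hid : (𝟙 (A ⊗ B) : A ⊗ B ⟶ A ⊗ B) =
        (fst A B ≫ lift (𝟙 A) (toUnit A ≫ η[B])) * (snd A B ≫ lift (toUnit B ≫ η[A]) (𝟙 B)) := by
      apply CartesianMonoidalCategory.hom_ext
      · rw [mul_comp, Category.assoc, Category.assoc, lift_fst, lift_fst, Category.comp_id,
          Category.id_comp, ← Category.assoc, toUnit_unique (snd A B ≫ toUnit B) (toUnit _),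
          ← Hom.one_def, _root_.mul_one]
      · rw [mul_comp, Category.assoc, Category.assoc, lift_snd, lift_snd, Category.comp_id,
          Category.id_comp, ← Category.assoc, toUnit_unique (fst A B ≫ toUnit A) (toUnit _),
          ← Hom.one_def, _root_.one_mul]
    have hh'dec : h' = (fst A B ≫ lift (𝟙 A) (toUnit A ≫ η[B]) ≫ h') *
        (snd A B ≫ lift (toUnit B ≫ η[A]) (𝟙 B) ≫ h') := by
      conv_lhs => rw [← Category.id_comp h', hid, mul_comp, Category.assoc, Category.assoc]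
    have h1' : lift (𝟙 A) (toUnit A ≫ η[B]) ≫ h' = h₁ := by
      apply huniq₁
      refine ⟨inferInstance, ?_⟩
      rw [hg₁, ← hh', ← Category.assoc, ← Category.assoc]
      congr 1
      apply CartesianMonoidalCategory.hom_ext
      · rw [Category.assoc, lift_fst, Category.comp_id, Category.assoc, tensorHom_fst,
          lift_fst_assoc, Category.id_comp]
      · rw [Category.assoc, lift_snd, Category.assoc, tensorHom_snd, lift_snd_assoc,
          Category.assoc, halbY, ← Category.assoc, toUnit_unique (albX ≫ toUnit A) (toUnit _)]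
    have h2' : lift (toUnit B ≫ η[A]) (𝟙 B) ≫ h' = h₂ := by
      apply huniq₂
      refine ⟨inferInstance, ?_⟩
      rw [hg₂, ← hh', ← Category.assoc, ← Category.assoc]
      congr 1
      apply CartesianMonoidalCategory.hom_ext
      · rw [Category.assoc, lift_fst, Category.assoc, tensorHom_fst, lift_fst_assoc,
          Category.assoc, halbX, ← Category.assoc, toUnit_unique (albY ≫ toUnit B) (toUnit _)]
      · rw [Category.assoc, lift_snd, Category.comp_id, Category.assoc, tensorHom_snd,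
          lift_snd_assoc, Category.id_comp]
    rw [hh'dec, h1', h2']

end Groth.Agent.S14830
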