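import Groth.Statements.S14834
-- import your own Groth.Agent.* helpers here

set_option autoImplicit false
universe u
open CategoryTheory MonoidalCategory CartesianMonoidalCategory MonObj GrpObj AlgebraicGeometry
open AbVar

namespace Groth.Agent.S14834

open Limits in
/-- A morphism `r : X ⟶ Y` of `S`-schemes with `O_Y → r_* O_X` injective on sections is
"epi towards separated `S`-schemes". -/
theorem cancel_of_app_iso {S : Scheme.{u}} {X Y B : Over S} [IsSeparated B.hom]
    (r : X ⟶ Y) (hr : ∀ U : Y.left.Opens, IsIso (r.left.app U))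
    (a b : Y ⟶ B) (hab : r ≫ a = r ≫ b) : a = b := by
  have hker : r.left.ker = ⊥ := by
    rw [eq_bot_iff, Scheme.IdealSheafData.le_def]
    intro U
    refine (r.left.ideal_ker_le U).trans ?_
    have := hr U.1
    have hinj : Function.Injective (r.left.app U.1).hom :=
      ((ConcreteCategory.isIso_iff_bijective (r.left.app U.1)).mp this).1
    rw [(RingHom.injective_iff_ker_eq_bot _).mp hinj]
    exact le_rfl
  have hcl : IsClosedImmersion (equalizer.ι a b).left := inferInstance
  have hle : (equalizer.ι a b).left.ker ≤ r.left.ker := by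
    have h1 : r.left = (equalizer.lift r hab).left ≫ (equalizer.ι a b).left := by
      rw [← Over.comp_left, equalizer.lift_ι]
    rw [h1]
    exact Scheme.Hom.le_ker_comp _ _
  have hbot : (equalizer.ι a b).left.ker = ⊥ := by
    rw [eq_bot_iff]; rw [hker] at hle; exact hle
  have hiso : IsIso (equalizer.ι a b).left := IsClosedImmersion.isIso_iff_ker_eq_bot.mpr hbot
  ext1
  rw [← cancel_epi (equalizer.ι a b).left]
  exact congr($(equalizer.condition a b).left)

/-- Let k be a field, X a proper k-scheme with H^0(X, O_X) = k (k → Γ(X, O_X) bijective) and a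
k-rational point x₀, and alb : X → A the Albanese morphism (A an abelian variety — proper,
geometrically integral group scheme — with alb(x₀) = 0, universal among pointed k-morphisms from X
to geometrically reduced, connected, proper group schemes). Let X → Y → A be a Stein factorisation
of alb: Y proper over k, r : X → Y a k-morphism with O_Y → r_*O_X an isomorphism, s : Y → A finite
with r ≫ s = alb. Then s is the Albanese morphism of Y pointed at r(x₀): for every abelian variety B
and every k-morphism g : Y → B with g(r(x₀)) = 0 there is a unique homomorphism h : A → B with s ≫ h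
= g. (The published statement has no rational point and also identifies the maximal abelian
subschemes of the Picard schemes of the Albanese, of Y and of X by pullback; this row is the pointed
statement about the Albanese of Y only.) -/
theorem result (k : Type u) [Field k] (X Y : Over (Spec (CommRingCat.of k)))
    [IsProper X.hom] [IsProper Y.hom] (h0 : Function.Bijective (X.hom.appTop).hom)
    (x₀ : 𝟙_ (Over (Spec (CommRingCat.of k))) ⟶ X)
    (A : Over (Spec (CommRingCat.of k))) [GrpObj A] [IsProper A.hom] [GeometricallyIntegral A.hom]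
    (alb : X ⟶ A) (halb : x₀ ≫ alb = η[A])
    (huniv : ∀ (B : Over (Spec (CommRingCat.of k))) [GrpObj B] [IsProper B.hom] [GeometricallyReduced B.hom] [ConnectedSpace ↥B.left]
      (g : X ⟶ B), x₀ ≫ g = η[B] → ∃! h : A ⟶ B, IsMonHom h ∧ alb ≫ h = g)
    (r : X ⟶ Y) (hr : ∀ U : Y.left.Opens, IsIso (r.left.app U)) (s : Y ⟶ A) [IsFinite s.left]
    (hrs : r ≫ s = alb)
    (B : Over (Spec (CommRingCat.of k))) [GrpObj B] [IsProper B.hom] [GeometricallyReduced B.hom] [ConnectedSpace ↥B.left]
    (g : Y ⟶ B) (hg : x₀ ≫ r ≫ g = η[B]) :
    ∃! h : A ⟶ B, IsMonHom h ∧ s ≫ h = g := by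
  obtain ⟨h, ⟨hmon, hh⟩, huniq⟩ := huniv B (r ≫ g) hg
  have hsep : IsSeparated B.hom := inferInstance
  refine ⟨h, ⟨hmon, ?_⟩, ?_⟩
  · apply cancel_of_app_iso r hr
    rw [← Category.assoc, hrs, hh]
  · rintro h' ⟨hmon', hh'⟩
    apply huniq
    refine ⟨hmon', ?_⟩
    rw [← hrs, Category.assoc, hh']

end Groth.Agent.S14834
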