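import Groth.Statements.S5683
import Groth.Agent.Lib.Helper20.PullbackUnit

set_option autoImplicit false
universe u
open CategoryTheory CategoryTheory.Limits AlgebraicGeometry
open FGA

namespace Groth.Agent.S5683

open Groth.Agent.Lib.Helper45 Groth.Agent.Lib.Helper49 Groth.Agent.Lib.Helper11.GenLocus
  Groth.Agent.Lib.Helper20.PullbackUnit Groth.Agent.Lib.Helper20.InvUFD TopologicalSpace

variable {X S : Scheme.{u}}

-- the composite `Γ(L, V) → Γ(f^* L, f⁻¹ V) → Γ(O_X, f⁻¹ V)`
noncomputable def psi (f : X ⟶ S) {L : S.Modules}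
    (φ : (Scheme.Modules.pullback f).obj L ≅ Coh.structureModule X) (V : S.Opens) :
    Γ(L, V) → Γ(X, f ⁻¹ᵁ V) :=
  fun s => ofO (f ⁻¹ᵁ V) ((φ.hom.app (f ⁻¹ᵁ V)).hom ((unitApp f L V).hom s))

theorem preimage_mono (f : X ⟶ S) {V W : S.Opens} (h : W ≤ V) : f ⁻¹ᵁ W ≤ f ⁻¹ᵁ V :=
  fun _ hx => h hx

theorem psi_res (f : X ⟶ S) {L : S.Modules}
    (φ : (Scheme.Modules.pullback f).obj L ≅ Coh.structureModule X) {V W : S.Opens} (h : W ≤ V)
    (s : Γ(L, V)) :
    psi f φ W (mres L h s) = fres (preimage_mono f h) (psi f φ V s) := by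
  unfold psi
  have h1 := app_res ((Scheme.Modules.pullbackPushforwardAdjunction f).unit.app L) h s
  have h2 := app_res φ.hom (preimage_mono f h) ((unitApp f L V).hom s)
  change ofO (f ⁻¹ᵁ W) ((φ.hom.app (f ⁻¹ᵁ W)).hom ((unitApp f L W).hom
    ((L.presheaf.map (homOfLE h).op).hom s))) = _
  erw [← h1]
  erw [← h2]
  rfl

theorem psi_smul (f : X ⟶ S) {L : S.Modules}
    (φ : (Scheme.Modules.pullback f).obj L ≅ Coh.structureModule X) (V : S.Opens)
    (r : Γ(S, V)) (s : Γ(L, V)) :
    psi f φ V (r • s) = (f.app V).hom r * psi f φ V s := by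
  unfold psi
  have h1 := Scheme.Modules.Hom.app_smul
    ((Scheme.Modules.pullbackPushforwardAdjunction f).unit.app L) r s
  have h2 := Scheme.Modules.Hom.app_smul φ.hom ((f.app V).hom r) ((unitApp f L V).hom s)
  rw [← ofO_smul]
  erw [← h2]
  congr 2

theorem psi_bijective (f : X ⟶ S) (hf : ∀ U : S.Opens, Function.Bijective (f.app U))
    {L : S.Modules} (φ : (Scheme.Modules.pullback f).obj L ≅ Coh.structureModule X)
    (U : S.Opens) (e : L.restrict U.ι ≅ Coh.structureModule (↑U : Scheme.{u}))
    (V : S.Opens) (hV : V ≤ U) : Function.Bijective (psi f φ V) := by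
  have i1 : IsIso (unitApp f L V) := isIso_unitApp_of_trivial f hf L U e V hV
  have i2 : IsIso (φ.hom.app (f ⁻¹ᵁ V)) := inferInstance
  have b1 := (Groth.Agent.Lib.Helper11.GenLocus.isIso_iff_bijective _).mp i1
  have b2 := (Groth.Agent.Lib.Helper11.GenLocus.isIso_iff_bijective _).mp i2
  exact b2.comp b1

/-- Let f : X ⟶ S be a morphism of schemes such that for every open U of S the induced map from sections
of the structure sheaf of S over U to sections of the structure sheaf of X over the inverse image of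
U is bijective. If L is an invertible module on S whose pullback to X is isomorphic to the structure
sheaf of X, then L is isomorphic to the structure sheaf of S: pullback of invertible modules along f
is injective on isomorphism classes. This is exactness at Pic(S). -/
theorem result {X S : Scheme.{u}} (f : X ⟶ S)
    (hf : ∀ U : S.Opens, Function.Bijective (f.app U)) (L : S.Modules) (hL : PicF.IsInvertible L)
    (htriv : Nonempty ((Scheme.Modules.pullback f).obj L ≅ Coh.structureModule X)) :
    Nonempty (L ≅ Coh.structureModule S) := by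
  obtain ⟨φ⟩ := htriv
  choose U hxU hφ using hL
  have hb : ∀ (y : S) (V : S.Opens), V ≤ U y → Function.Bijective (psi f φ V) :=
    fun y V hV => psi_bijective f hf φ (U y) (hφ y).some V hV
  choose t ht using fun y => (hb y (U y) le_rfl).2 1
  have hcov : (⊤ : S.Opens) ≤ ⨆ y, U y := fun y _ => Opens.mem_iSup.mpr ⟨y, hxU y⟩
  obtain ⟨T, hT, -⟩ := TopCat.Sheaf.existsUnique_gluing' ⟨L.presheaf, L.isSheaf⟩ U ⊤
    (fun y => homOfLE le_top) hcov t (by
      intro y y'
      change mres L inf_le_left (t y) = mres L inf_le_right (t y')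
      apply (hb y (U y ⊓ U y') inf_le_left).1
      rw [psi_res, psi_res, ht, ht, map_one, map_one])
  have hT' : ∀ y, mres L (le_top : U y ≤ ⊤) T = t y := hT
  refine nonempty_iso_of_isBasisOn_top (t := T) ?_
  refine IsBasisOn.of_cover U ⊤ (fun _ => le_top) hcov T (fun y => ?_)
  rw [hT']
  intro W hW
  rw [← Function.Bijective.of_comp_iff' (hb y W hW)]
  have : (psi f φ W ∘ fun r : Γ(S, W) => r • mres L hW (t y)) = fun r => (f.app W).hom r := by
    funext r
    simp only [Function.comp_apply]
    rw [psi_smul, psi_res, ht, map_one, mul_one]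
  rw [this]
  exact hf W


end Groth.Agent.S5683
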