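import Groth.Statements.S14837
import Groth.Prelude.Def_Canon
import Groth.Agent.Lib.Helper99.ExtAdjLow
import Groth.Agent.Lib.Helper67.AffPushLin
import Groth.Agent.Lib.Helper49.StalkNbhd2
import Groth.Agent.Lib.Helper1.PushSupport
import Groth.Agent.S0002

set_option autoImplicit false
universe u
open CategoryTheory CategoryTheory.Limits AlgebraicGeometry
open Coh

namespace Groth.Agent.S14837

section Aux
open CategoryTheory Limits AlgebraicGeometry Opposite TopologicalSpace CohPull
open Groth.Agent.Lib.Lead Groth.Agent.Lib.Helper99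

variable {X Y : Scheme.{u}} (f : X ⟶ Y) (G : X.Modules)

/-- The first edge map `H^1(Y, f_* G) → H^1(X, G)` is injective, for every morphism and module. -/
theorem pushEdge_one_injective : Function.Injective (CohPull.pushEdge f G 1) := by
  have heq : ⇑(CohPull.pushEdge f G 1) =
      ⇑(ExtAdj.Φ (CohPull.invPushAdj f.base) (CohPull.oneTo f.base) (Coh.toAb G) 1) :=
    funext (PushEdge.pushEdge_eq_Φ f G 1)
  rw [heq]
  exact ExtAdjLow.Φ_one_injective (CohPull.invPushAdj f.base) (CohPull.oneTo f.base) (Coh.toAb G)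

theorem mapH_injective_of_isIso {M N : X.Modules} (φ : M ⟶ N) [IsIso φ] (p : ℕ) :
    Function.Injective (CohPull.mapH φ p) := by
  have hcomp : ∀ (ψ : N ⟶ M), φ ≫ ψ = 𝟙 M →
      (SheafOfModules.toSheaf X.ringCatSheaf).map φ ≫
      (SheafOfModules.toSheaf X.ringCatSheaf).map ψ = 𝟙 _ := by
    intro ψ h
    have h1 := ((SheafOfModules.toSheaf X.ringCatSheaf).map_comp φ ψ).symm
    have h2 := congrArg (fun t => (SheafOfModules.toSheaf X.ringCatSheaf).map t) h
    exact h1.trans (h2.trans ((SheafOfModules.toSheaf X.ringCatSheaf).map_id M))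
  intro x y h
  have h2 := congrArg (CohPull.mapH (CategoryTheory.inv φ) p) h
  change Sheaf.H.map _ p (Sheaf.H.map _ p x) = Sheaf.H.map _ p (Sheaf.H.map _ p y) at h2
  rw [← Sheaf.H.map_comp_apply, ← Sheaf.H.map_comp_apply,
    hcomp (CategoryTheory.inv φ) (IsIso.hom_inv_id φ), Sheaf.H.map_id_apply,
    Sheaf.H.map_id_apply] at h2
  exact h2

end Aux

/-- Let k be a field and f : X → Y a k-morphism between proper k-schemes which is a fibration (Γ(V, O_Y)
→ Γ(f⁻¹V, O_X) bijective for every open V ⊆ Y). Then H^1(Y, O_Y) injects naturally into H^1(X, O_X)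
(edge map of the Leray spectral sequence); stated here as the inequality dim_k H^1(Y, O_Y) ≤ dim_k
H^1(X, O_X) of finite dimensions. -/
theorem result (k : Type u) [Field k] (X Y : Scheme.{u})
    [X.Over (Spec (CommRingCat.of k))] [Y.Over (Spec (CommRingCat.of k))] [IsProper (X ↘ Spec (CommRingCat.of k))] [IsProper (Y ↘ Spec (CommRingCat.of k))]
    (f : X ⟶ Y) (hf : f ≫ (Y ↘ Spec (CommRingCat.of k)) = X ↘ Spec (CommRingCat.of k)) (hfib : ∀ V : Y.Opens, IsIso (f.app V)) :
    Module.finrank k (Coh.HH Y (Coh.structureModule Y) 1) ≤ Module.finrank k (Coh.HH X (Coh.structureModule X) 1) := by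
  classical
  let ψ : Coh.structureModule Y ⟶
      (AlgebraicGeometry.Scheme.Modules.pushforward f).obj (Coh.structureModule X) :=
    SheafOfModules.unitToPushforwardObjUnit f.toRingCatSheafHom
  have hψ : CategoryTheory.IsIso ψ := by
    rw [AlgebraicGeometry.Scheme.Modules.Hom.isIso_iff_isIso_app]
    intro U
    rw [CategoryTheory.ConcreteCategory.isIso_iff_bijective]
    exact (CategoryTheory.ConcreteCategory.isIso_iff_bijective (f.app U)).mp (hfib U)
  let jl : Coh.HH Y (Coh.structureModule Y) 1 →ₗ[k] Coh.HH X (Coh.structureModule X) 1 :=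
    (Groth.Agent.Lib.Helper67.AffPush.pushEdgeLin f k hf (Coh.structureModule X) 1).comp
      (Canon.HHlin k ψ 1)
  have hj : Function.Injective jl :=
    (pushEdge_one_injective f (Coh.structureModule X)).comp (mapH_injective_of_isIso ψ 1)
  have hcoh : Coh.IsCoh (Coh.structureModule X) :=
    ⟨Groth.Agent.Lib.Helper1.isQuasicoherent_structureModule X,
      Groth.Agent.Lib.Helper49.isFiniteType_unit X⟩
  have : Module.Finite k (Coh.HH X (Coh.structureModule X) 1) :=
    Groth.Agent.S0002.result k X (Coh.structureModule X) hcoh 1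
  exact LinearMap.finrank_le_finrank_of_injective hj

end Groth.Agent.S14837
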