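import Groth.Statements.S14839
import Groth.Agent.H40.Coeff2

set_option autoImplicit false
universe u v
open HopfRep

namespace Groth.Agent.S14839

open TensorProduct Groth.Agent.H40

open TensorProduct in
/-- Over a field K, every simple coalgebra is finite-dimensional. Here a subcoalgebra of C is a subspace
B whose comultiplication lands in the image of B ⊗ B in C ⊗ C, and C is simple when it is nonzero
and its only subcoalgebras are 0 and C. -/
theorem result {K : Type u} {C : Type v} [Field K] [AddCommGroup C]
    [Module K C] [Coalgebra K C] [Nontrivial C]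
    (hsimple : ∀ B : Submodule K C,
      (∀ b ∈ B, CoalgebraStruct.comul (R := K) b ∈ LinearMap.range (TensorProduct.map B.subtype B.subtype)) →
        B = ⊥ ∨ B = ⊤) :
    Module.Finite K C := by
  classical
  obtain ⟨c, hc⟩ := exists_ne (0 : C)
  obtain ⟨W, hWf, hcW, hWs⟩ := exists_finite_subcomod_mem (k := K) (C := C) (V := C) c
  have hfin : Module.Finite K (cfs (C := C) (V := C) W) := finite_cfs W
  have hcc : c ∈ cfs (C := C) (V := C) W := le_cfs_regular W hcW
  rcases hsimple (cfs (C := C) (V := C) W) (isSubcoalg_cfs W hWs) with h | h
  · exfalso
    rw [h, Submodule.mem_bot] at hcc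
    exact hc hcc
  · rw [h] at hfin
    exact Module.Finite.equiv (Submodule.topEquiv (R := K) (M := C))

end Groth.Agent.S14839
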