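import Groth.Statements.S1484
import Mathlib.RingTheory.Algebraic.Integral
import Mathlib.RingTheory.LocalRing.ResidueField.Ideal

set_option autoImplicit false
universe u
open FlatMor

namespace Groth.Agent.S1484

/-- Let R be a ring, p_1, …, p_r primes of R none of which is contained in another, k_i ⊆ κ(p_i)
subfields over which κ(p_i) is not algebraic, and J an ideal of R contained in none of the p_i. Then
some x ∈ J has image in κ(p_i) transcendental over k_i for every i. -/
theorem result {R : Type u} [CommRing R] {r : ℕ} (p : Fin r → Ideal R) [∀ i, (p i).IsPrime]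
    (hp : ∀ i j, i ≠ j → ¬ p i ≤ p j) (k : ∀ i, Subfield (p i).ResidueField)
    (hk : ∀ i, ¬ Algebra.IsAlgebraic ↥(k i) (p i).ResidueField) (J : Ideal R) (hJ : ∀ i, ¬ J ≤ p i) :
    ∃ x ∈ J, ∀ i, Transcendental ↥(k i) (algebraMap R (p i).ResidueField x) := by
  classical
  -- Step A: an element of `R` with transcendental image
  have hA : ∀ i, ∃ y : R, Transcendental (k i) (algebraMap R (p i).ResidueField y) := by
    intro i
    have h1 := hk i
    rw [← Algebra.transcendental_iff_not_isAlgebraic] at h1
    obtain ⟨t, ht⟩ := h1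
    obtain ⟨a, b, hb, rfl⟩ := IsFractionRing.div_surjective (A := R ⧸ p i) t
    obtain ⟨a, rfl⟩ := Ideal.Quotient.mk_surjective a
    obtain ⟨b, rfl⟩ := Ideal.Quotient.mk_surjective b
    by_contra hcon
    push Not at hcon
    apply ht
    have ha : IsAlgebraic (k i) (algebraMap R (p i).ResidueField a) := not_not.mp (hcon a)
    have hb' : IsAlgebraic (k i) (algebraMap R (p i).ResidueField b) := not_not.mp (hcon b)
    simp only [Ideal.algebraMap_quotient_residueField_mk]
    rw [div_eq_mul_inv]
    exact IsAlgebraic.mul ha (IsAlgebraic.inv hb')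
  -- Step B: an element of `J` in all `p j`, `j ≠ i`, but not in `p i`
  have hB : ∀ i, ∃ x : R, x ∈ J ∧ x ∉ p i ∧ ∀ j, j ≠ i → x ∈ p j := by
    intro i
    obtain ⟨d, hdJ, hdp⟩ := SetLike.not_le_iff_exists.mp (hJ i)
    have hc : ∀ j, j ≠ i → ∃ c, c ∈ p j ∧ c ∉ p i :=
      fun j hj => SetLike.not_le_iff_exists.mp (hp j i hj)
    choose c hc1 hc2 using hc
    let c' : Fin r → R := fun j => if h : j = i then 1 else c j h
    refine ⟨d * ∏ j, c' j, J.mul_mem_right _ hdJ, ?_, ?_⟩
    · intro hmem
      rcases (Ideal.IsPrime.mul_mem_iff_mem_or_mem inferInstance).mp hmem with h | h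
      · exact hdp h
      · obtain ⟨j, _, hj⟩ := Ideal.IsPrime.prod_mem_iff.mp h
        by_cases hji : j = i
        · simp only [c', hji, dite_true] at hj
          exact (Ideal.IsPrime.ne_top inferInstance) ((Ideal.eq_top_iff_one _).mpr hj)
        · simp only [c', hji, dite_false] at hj
          exact hc2 j hji hj
    · intro j hj
      apply Ideal.mul_mem_left
      apply Ideal.prod_mem _ (Finset.mem_univ j)
      simp only [c', hj, dite_false]
      exact hc1 j hj
  -- Step C: an element of `J` in all `p j`, `j ≠ i`, with transcendental image in `κ(p i)`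
  have hC : ∀ i, ∃ z : R, z ∈ J ∧ (∀ j, j ≠ i → z ∈ p j) ∧
      Transcendental (k i) (algebraMap R (p i).ResidueField z) := by
    intro i
    obtain ⟨y, hy⟩ := hA i
    obtain ⟨x, hxJ, hxp, hxj⟩ := hB i
    by_cases hx : Transcendental (k i) (algebraMap R (p i).ResidueField x)
    · exact ⟨x, hxJ, hxj, hx⟩
    · refine ⟨x * y, J.mul_mem_right _ hxJ, fun j hj => Ideal.mul_mem_right _ _ (hxj j hj), ?_⟩
      have hx' : IsAlgebraic (k i) (algebraMap R (p i).ResidueField x) := not_not.mp hx
      intro hxy
      apply hy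
      rw [map_mul] at hxy
      refine IsAlgebraic.of_mul (mem_nonZeroDivisors_of_ne_zero ?_) hx' hxy
      rwa [ne_eq, Ideal.algebraMap_residueField_eq_zero]
  choose z hzJ hzp hzt using hC
  refine ⟨∑ i, z i, J.sum_mem (fun i _ => hzJ i), fun i => ?_⟩
  rw [map_sum, Finset.sum_eq_single i]
  · exact hzt i
  · intro j _ hj
    rw [Ideal.algebraMap_residueField_eq_zero]
    exact hzp j i hj.symm
  · intro h
    exact absurd (Finset.mem_univ i) h

end Groth.Agent.S1484
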