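import Groth.Statements.S14843
import Groth.Agent.H40.Coeff9

set_option autoImplicit false
universe u v
open HopfRep

namespace Groth.Agent.S14843

open TensorProduct Groth.Agent.H40 Groth.Agent.Lib.Helper93.Comod

open TensorProduct in
/-- Over a field K, a coalgebra C is cosemisimple, i.e. C is the internal direct sum of a family of
simple subcoalgebras, if and only if every right C-comodule is completely reducible (every
subcomodule admits a complementary subcomodule). Here a subcoalgebra of C is a subspace B whose
comultiplication lands in the image of B ⊗ B, and a simple subcoalgebra is a nonzero subcoalgebra D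
whose only subcoalgebras contained in D are 0 and D. (Comodules are quantified in the universe of C;
the published statement is for left comodules, and the equivalence of 'direct sum of simple
subcomodules' with 'every subcomodule is a direct summand' is the standard one.) -/
theorem result {K : Type u} {C : Type v} [Field K]
    [AddCommGroup C] [Module K C] [Coalgebra K C] :
    (∃ (ι : Type v) (D : ι → Submodule K C), iSupIndep D ∧ iSup D = ⊤ ∧ ∀ i,
        D i ≠ ⊥ ∧ (∀ b ∈ D i, CoalgebraStruct.comul (R := K) b ∈ LinearMap.range (TensorProduct.map (D i).subtype (D i).subtype)) ∧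
        ∀ B : Submodule K C, B ≤ D i → (∀ b ∈ B, CoalgebraStruct.comul (R := K) b ∈ LinearMap.range (TensorProduct.map B.subtype B.subtype)) → B = ⊥ ∨ B = D i) ↔
      ∀ (V : Type v) [AddCommGroup V] [Module K V] [HopfRep.Comod K C V],
        HopfRep.IsSemisimpleComod K C V := by
  classical
  constructor
  · rintro ⟨ι, D, -, hsup, hD⟩ V _ _ _
    apply isSemisimpleComod_of_regular
    rw [eq_top_iff, ← hsup]
    apply iSup_le
    intro i
    have hDi : IsSimpleSubcoalg (D i) := ⟨(hD i).1, (hD i).2.1, fun B hB hBs => (hD i).2.2 B hB hBs⟩
    refine (le_iSup_simpleSub_of_isSimpleSubcoalg (D i) hDi).trans ?_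
    apply iSup_le
    intro S'
    exact le_iSup (fun S : {S : Submodule K C // IsSimpleSub (C := C) (V := C) S} => S.1)
      ⟨S'.1, S'.2.1⟩
  · intro h
    have hreg : HopfRep.IsSemisimpleComod K C C := h C
    have htop := iSup_simpleSub_eq_top_of_isSemisimple hreg
    refine ⟨{D : Submodule K C // IsSimpleSubcoalg D}, fun D => D.1, iSupIndep_simpleSubcoalg, ?_,
      fun D => ⟨D.2.1, D.2.2.1, fun B hB hBs => D.2.2.2 B hB hBs⟩⟩
    rw [eq_top_iff, ← htop]
    apply iSup_le
    intro S
    refine (le_cfs_regular S.1).trans ?_
    exact le_iSup (fun D : {D : Submodule K C // IsSimpleSubcoalg D} => D.1)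
      ⟨cfs (C := C) (V := C) S.1, isSimpleSubcoalg_cfs S.1 S.2⟩

end Groth.Agent.S14843
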