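import Groth.Statements.S14845
import Mathlib
-- import your own Groth.Agent.* helpers here

set_option autoImplicit false
open CategoryTheory CategoryTheory.Limits AlgebraicGeometry
universe u
open HilbD

set_option backward.isDefEq.respectTransparency false
set_option backward.isDefEq.respectTransparency.types false

namespace Groth.Agent.S14845

variable {X S : Scheme.{u}} (f : X ⟶ S)

/-- the graph morphism `(x, id) : T ⟶ X ×_S T` -/
noncomputable abbrev graph (T : Over S) (x : T.left ⟶ X) (hx : x ≫ f = T.hom) :
    T.left ⟶ PicF.XT f T :=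
  pullback.lift x (𝟙 T.left) (by simpa using hx)

theorem secGraph_eq (T : Over S) (x : T.left ⟶ X) (hx : x ≫ f = T.hom) :
    HilbD.secGraph f T x hx = (graph f T x hx).ker := rfl

theorem secGraph_congr (T : Over S) (x x' : T.left ⟶ X) (hx : x ≫ f = T.hom)
    (hx' : x' ≫ f = T.hom) (h : x = x') :
    HilbD.secGraph f T x hx = HilbD.secGraph f T x' hx' := by
  subst h; rfl

instance isClosedImmersion_graph [IsSeparated f] (T : Over S) (x : T.left ⟶ X)
    (hx : x ≫ f = T.hom) : IsClosedImmersion (graph f T x hx) := by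
  have h1 : graph f T x hx ≫ pullback.snd f T.hom = 𝟙 _ := pullback.lift_snd _ _ _
  have : IsClosedImmersion (graph f T x hx ≫ pullback.snd f T.hom) := by
    rw [h1]; infer_instance
  exact IsClosedImmersion.of_comp (graph f T x hx) (pullback.snd f T.hom)

/-- the base change of a graph is the graph of the composite -/
theorem isPullback_graph {T T' : Over S} (g : T' ⟶ T) (x : T.left ⟶ X) (hx : x ≫ f = T.hom)
    (hx' : (g.left ≫ x) ≫ f = T'.hom) :
    IsPullback g.left (graph f T' (g.left ≫ x) hx') (graph f T x hx) (PicF.XTmap f g) := by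
  have hw : g.left ≫ graph f T x hx = graph f T' (g.left ≫ x) hx' ≫ PicF.XTmap f g := by
    apply pullback.hom_ext
    · simp [graph, PicF.XTmap]
    · simp [graph, PicF.XTmap]
      exact (Category.id_comp _).symm
  refine ⟨⟨hw⟩, ⟨PullbackCone.IsLimit.mk _ (fun s => s.snd ≫ pullback.snd f T'.hom) ?_ ?_ ?_⟩⟩
  · intro s
    have h1 := congrArg (fun t => t ≫ pullback.snd f T.hom) s.condition
    simp only [Category.assoc, graph, pullback.lift_snd, Category.comp_id, PicF.XTmap] at h1
    rw [h1]
    simp
  · intro s
    have h1 := congrArg (fun t => t ≫ pullback.snd f T.hom) s.condition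
    simp only [Category.assoc, graph, pullback.lift_snd, Category.comp_id, PicF.XTmap] at h1
    have h2 := congrArg (fun t => t ≫ pullback.fst f T.hom) s.condition
    simp only [Category.assoc, graph, pullback.lift_fst, PicF.XTmap] at h2
    apply pullback.hom_ext
    · simp only [Category.assoc, graph, pullback.lift_fst]
      rw [Category.comp_id] at h2
      rw [← h2, h1, Category.assoc, Category.assoc]
    · simp [graph]
  · intro s m h1 h2
    rw [← h2]
    simp [graph]

/-- Lemma A: base change of the graph of a section. -/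
theorem pull_secGraph [IsSeparated f] {T T' : Over S} (g : T' ⟶ T) (x : T.left ⟶ X)
    (hx : x ≫ f = T.hom) (hx' : (g.left ≫ x) ≫ f = T'.hom) :
    HilbD.pull f g (HilbD.secGraph f T x hx) = HilbD.secGraph f T' (g.left ≫ x) hx' := by
  have hP := isPullback_graph f g x hx hx'
  set γ := graph f T x hx with hγ
  have hfac : γ.toImage ≫ (HilbD.secGraph f T x hx).subschemeι = γ := γ.toImage_imageι
  have hR : IsPullback γ.toImage γ (HilbD.secGraph f T x hx).subschemeι (𝟙 _) :=
    IsPullback.of_horiz_isIso ⟨by rw [hfac, Category.comp_id]⟩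
  have hQ := hP.paste_horiz hR
  rw [Category.comp_id] at hQ
  have e := hQ.isoPullback_hom_snd
  unfold HilbD.pull
  rw [secGraph_eq f T' (g.left ≫ x) hx', ← e, Scheme.Hom.ker_comp_of_isIso]

/-- Lemma B: a section is determined by the ideal of its graph. -/
theorem secGraph_injective [IsSeparated f] (T : Over S) (x x' : T.left ⟶ X)
    (hx : x ≫ f = T.hom) (hx' : x' ≫ f = T.hom)
    (h : HilbD.secGraph f T x hx = HilbD.secGraph f T x' hx') : x = x' := by
  rw [secGraph_eq, secGraph_eq] at h
  have hl := IsClosedImmersion.lift_fac (graph f T x hx) (graph f T x' hx') h.le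
  have h1 : IsClosedImmersion.lift (graph f T x hx) (graph f T x' hx') h.le = 𝟙 _ := by
    have e1 : graph f T x hx ≫ pullback.snd f T.hom = 𝟙 _ := pullback.lift_snd _ _ _
    have e2 : graph f T x' hx' ≫ pullback.snd f T.hom = 𝟙 _ := pullback.lift_snd _ _ _
    have e3 : (IsClosedImmersion.lift (graph f T x hx) (graph f T x' hx') h.le ≫
        graph f T x hx) ≫ pullback.snd f T.hom = 𝟙 _ := by rw [hl, e2]
    rw [Category.assoc, e1, Category.comp_id] at e3
    exact e3
  rw [h1, Category.id_comp] at hl
  have := congrArg (fun t => t ≫ pullback.fst f T.hom) hl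
  simpa [graph] using this

/-- Lemma C: a closed subscheme projecting isomorphically to `T` is a graph. -/
theorem eq_secGraph_of_isIso (T : Over S) (I : (PicF.XT f T).IdealSheafData)
    [IsIso (I.subschemeι ≫ PicF.XTproj f T)] :
    ∃ (x : T.left ⟶ X) (hx : x ≫ f = T.hom), I = HilbD.secGraph f T x hx := by
  refine ⟨inv (I.subschemeι ≫ PicF.XTproj f T) ≫ I.subschemeι ≫ pullback.fst f T.hom, ?_, ?_⟩
  · rw [Category.assoc, Category.assoc, pullback.condition, ← Category.assoc I.subschemeι,
      IsIso.inv_hom_id_assoc]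
  · rw [secGraph_eq]
    have : graph f T (inv (I.subschemeι ≫ PicF.XTproj f T) ≫ I.subschemeι ≫ pullback.fst f T.hom)
        (by rw [Category.assoc, Category.assoc, pullback.condition, ← Category.assoc I.subschemeι,
          IsIso.inv_hom_id_assoc]) = inv (I.subschemeι ≫ PicF.XTproj f T) ≫ I.subschemeι := by
      apply pullback.hom_ext
      · simp [graph]
      · simp [graph]
    rw [this, Scheme.Hom.ker_comp_of_isIso, Scheme.IdealSheafData.ker_subschemeι]

theorem isFinLocFreeOfDeg_one_of_isIso {A B : Scheme.{u}} (p : A ⟶ B) [IsIso p] :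
    Mor2.IsFinLocFreeOfDeg 1 p := by
  refine ⟨⟨inferInstance, inferInstance, inferInstance⟩, fun y => ?_⟩
  rw [Scheme.Hom.finrank_eq_one_of_isIso]
  rfl

theorem isIso_of_isFinLocFreeOfDeg_one {A B : Scheme.{u}} (p : A ⟶ B)
    (h : Mor2.IsFinLocFreeOfDeg 1 p) : IsIso p := by
  obtain ⟨⟨h1, h2, h3⟩, h4⟩ := h
  rw [Scheme.Hom.isIso_iff_finrank_eq]
  ext y
  rw [h4 y]
  rfl

theorem result' {X S : Scheme.{u}} (f : X ⟶ S) [IsSeparated f] :
    ∃ Δ : HilbD.Obj f 1 (Over.mk f),
      Δ.1 = HilbD.secGraph f (Over.mk f) (𝟙 X) (Category.id_comp f) ∧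
      HilbD.IsUniversal f 1 (Over.mk f) Δ := by
  set γ := graph f (Over.mk f) (𝟙 X) (Category.id_comp f) with hγ
  have hfac : γ.toImage ≫ (HilbD.secGraph f (Over.mk f) (𝟙 X) (Category.id_comp f)).subschemeι = γ :=
    γ.toImage_imageι
  have hγsnd : γ ≫ PicF.XTproj f (Over.mk f) = 𝟙 _ := pullback.lift_snd _ _ _
  have hiso : IsIso ((HilbD.secGraph f (Over.mk f) (𝟙 X) (Category.id_comp f)).subschemeι ≫
      PicF.XTproj f (Over.mk f)) := by
    have : (HilbD.secGraph f (Over.mk f) (𝟙 X) (Category.id_comp f)).subschemeι ≫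
      PicF.XTproj f (Over.mk f) = inv γ.toImage := by
      rw [← cancel_epi γ.toImage, IsIso.hom_inv_id, ← Category.assoc, hfac, hγsnd]
    rw [this]; infer_instance
  refine ⟨⟨HilbD.secGraph f (Over.mk f) (𝟙 X) (Category.id_comp f),
    isFinLocFreeOfDeg_one_of_isIso _⟩, rfl, ?_⟩
  rintro T ⟨I', hI'⟩
  have hiso' : IsIso (I'.subschemeι ≫ PicF.XTproj f T) := isIso_of_isFinLocFreeOfDeg_one _ hI'
  obtain ⟨x, hx, hI⟩ := eq_secGraph_of_isIso f T I'
  have hx2 : ((Over.homMk x hx : T ⟶ Over.mk f).left ≫ 𝟙 X) ≫ f = T.hom := by simpa using hx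
  refine ⟨Over.homMk x hx, ?_, ?_⟩
  · show HilbD.pull f (Over.homMk x hx)
      (HilbD.secGraph f (Over.mk f) (𝟙 X) (Category.id_comp f)) = I'
    have h1 := pull_secGraph f (T := Over.mk f) (T' := T) (Over.homMk x hx) (𝟙 X)
      (Category.id_comp f) hx2
    rw [h1, hI]
    exact secGraph_congr f T _ _ _ _ (by simp)
  · intro g' hg'
    have hg'' : HilbD.pull f g'
        (HilbD.secGraph f (Over.mk f) (𝟙 X) (Category.id_comp f)) = I' := hg'
    have hx3 : (g'.left ≫ 𝟙 X) ≫ f = T.hom := by simpa using Over.w g'
    have h1 := pull_secGraph f (T := Over.mk f) (T' := T) g' (𝟙 X) (Category.id_comp f) hx3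
    rw [h1, hI] at hg''
    have := secGraph_injective f T _ _ _ _ hg''
    ext
    simpa using this


/-- For a separated morphism f : X → S, the Hilbert functor of one point of X over S is represented by X
with the diagonal as universal family: the diagonal of X ×_S X (the graph of the identity section of
X over itself) is a closed subscheme finite locally free of degree 1 over X, and every closed
subscheme of X ×_S T which is finite locally free of degree 1 over T is its base change along a
unique S-morphism T → X. (The published statement takes S Noetherian, f locally of finite type and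
the Hilbert functor on locally Noetherian S-schemes with flat proper families of Hilbert polynomial
1; this row uses the functor of families finite locally free of degree 1 on all S-schemes, for which
the same argument applies without Noetherian hypotheses.) -/
theorem result {X S : Scheme.{u}} (f : X ⟶ S) [IsSeparated f] :
    ∃ Δ : HilbD.Obj f 1 (Over.mk f),
      Δ.1 = HilbD.secGraph f (Over.mk f) (𝟙 X) (Category.id_comp f) ∧
      HilbD.IsUniversal f 1 (Over.mk f) Δ := by
  exact result' f

end Groth.Agent.S14845
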