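import Groth.Statements.S14848
import Mathlib.Tactic
import Mathlib.LinearAlgebra.Matrix.NonsingularInverse

set_option autoImplicit false
universe u v
open McKay

namespace Groth.Agent.S14848

open Matrix in
/-- the diagonalisation computation over `L` -/
theorem pow_eq_one_iff_of_ne {L : Type*} [Field L] (ξ : L) (hξ0 : ξ ≠ 0) (hne : ξ ≠ ξ⁻¹) (k : ℕ) :
    (!![0, -1; 1, ξ + ξ⁻¹] : Matrix (Fin 2) (Fin 2) L) ^ k = 1 ↔ ξ ^ k = 1 := by
  set A : Matrix (Fin 2) (Fin 2) L := !![0, -1; 1, ξ + ξ⁻¹] with hA
  set P : Matrix (Fin 2) (Fin 2) L := !![1, 1; -ξ, -ξ⁻¹] with hP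
  set D : Matrix (Fin 2) (Fin 2) L := Matrix.diagonal ![ξ, ξ⁻¹] with hD
  have hAP : A * P = P * D := by
    ext i j
    fin_cases i <;> fin_cases j <;>
      simp [hA, hP, hD, Matrix.mul_apply, Fin.sum_univ_two, Matrix.diagonal_apply] <;>
      field_simp <;> ring
  have hAPk : ∀ m : ℕ, A ^ m * P = P * D ^ m := by
    intro m
    induction m with
    | zero => simp
    | succ m ih =>
      rw [pow_succ, Matrix.mul_assoc, hAP, ← Matrix.mul_assoc, ih, Matrix.mul_assoc, ← pow_succ]
  have hdet : P.det = ξ - ξ⁻¹ := by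
    simp [hP, Matrix.det_fin_two]
    ring
  have hPunit : IsUnit P := by
    rw [Matrix.isUnit_iff_isUnit_det, hdet, isUnit_iff_ne_zero]
    exact sub_ne_zero.2 hne
  have hDk : D ^ k = Matrix.diagonal ![ξ ^ k, ξ⁻¹ ^ k] := by
    rw [hD, Matrix.diagonal_pow]
    congr 1
    ext i; fin_cases i <;> simp
  constructor
  · intro h
    have h1 : P * D ^ k = P * 1 := by rw [← hAPk, h, Matrix.one_mul, Matrix.mul_one]
    have h2 : D ^ k = 1 := hPunit.mul_left_cancel h1
    rw [hDk] at h2
    have := congrFun (congrFun h2 0) 0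
    simpa using this
  · intro h
    have hinv : ξ⁻¹ ^ k = 1 := by rw [inv_pow, h, inv_one]
    have h2 : D ^ k = 1 := by
      rw [hDk, h, hinv]
      ext i j
      fin_cases i <;> fin_cases j <;> simp
    have h1 : A ^ k * P = 1 * P := by rw [hAPk, h2, Matrix.mul_one, Matrix.one_mul]
    exact hPunit.mul_right_cancel h1


/-- Let K be a field of characteristic zero, L an extension field of K and ξ ∈ L a primitive n-th root
of unity (n ≥ 1) with ξ + ξ⁻¹ ∈ K, say ξ + ξ⁻¹ = 2c with c ∈ K (the character of the natural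
two-dimensional representation of the cyclic group of order n takes values in K). Then the cyclic
group of order n is realisable over K as a subgroup of SL(2, K): there is an element of SL(2, K) of
order n. -/
theorem result {K : Type u} {L : Type v} [Field K] [Field L]
    [CharZero K] [Algebra K L] (n : ℕ) (hn : 1 ≤ n) (ξ : L) (hξ : IsPrimitiveRoot ξ n) (c : K)
    (hc : algebraMap K L (2 * c) = ξ + ξ⁻¹) :
    ∃ M : Matrix.SpecialLinearGroup (Fin 2) K, orderOf M = n := by
  classical
  have hξ0 : ξ ≠ 0 := hξ.ne_zero (by omega)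
  rcases Nat.lt_or_ge n 3 with hlt | hge
  · -- n = 1 or n = 2
    interval_cases n
    · exact ⟨1, orderOf_one⟩
    · -- n = 2 : M = -1
      have hdet : (!![(-1 : K), 0; 0, -1] : Matrix (Fin 2) (Fin 2) K).det = 1 := by
        simp [Matrix.det_fin_two]
      refine ⟨⟨!![(-1 : K), 0; 0, -1], hdet⟩, ?_⟩
      have : Fact (Nat.Prime 2) := ⟨Nat.prime_two⟩
      apply orderOf_eq_prime
      · apply Subtype.ext
        rw [Matrix.SpecialLinearGroup.coe_pow, Matrix.SpecialLinearGroup.coe_one]
        ext i j
        fin_cases i <;> fin_cases j <;> simp [pow_two, Matrix.mul_apply, Fin.sum_univ_two]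
      · intro h
        have h1 := congrArg (fun M : Matrix.SpecialLinearGroup (Fin 2) K => M.val 0 0) h
        simp at h1
        have : (2 : K) = 0 := by linear_combination (-1 : K) * h1
        exact two_ne_zero this
  · -- n ≥ 3 : companion matrix
    have hne : ξ ≠ ξ⁻¹ := by
      intro h
      have h2 : ξ ^ 2 = 1 := by
        rw [pow_two]
        nth_rewrite 2 [h]
        exact mul_inv_cancel₀ hξ0
      have := (hξ.pow_eq_one_iff_dvd 2).1 h2
      have := Nat.le_of_dvd (by norm_num) this
      omega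
    have hdet : (!![(0 : K), -1; 1, 2 * c] : Matrix (Fin 2) (Fin 2) K).det = 1 := by
      simp [Matrix.det_fin_two]
    refine ⟨⟨!![(0 : K), -1; 1, 2 * c], hdet⟩, ?_⟩
    set M : Matrix.SpecialLinearGroup (Fin 2) K := ⟨!![(0 : K), -1; 1, 2 * c], hdet⟩ with hM
    have hinj : Function.Injective (algebraMap K L) := (algebraMap K L).injective
    have hmap : (algebraMap K L).mapMatrix (M.val) = !![0, -1; 1, ξ + ξ⁻¹] := by
      ext i j
      fin_cases i <;> fin_cases j <;> simp [hM, ← hc]
    have key : ∀ k : ℕ, M ^ k = 1 ↔ n ∣ k := by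
      intro k
      rw [← hξ.pow_eq_one_iff_dvd, ← pow_eq_one_iff_of_ne ξ hξ0 hne, ← hmap, ← map_pow]
      constructor
      · intro h
        rw [← Matrix.SpecialLinearGroup.coe_pow, h, Matrix.SpecialLinearGroup.coe_one, map_one]
      · intro h
        apply Subtype.ext
        rw [Matrix.SpecialLinearGroup.coe_pow, Matrix.SpecialLinearGroup.coe_one]
        have hinj' : Function.Injective ((algebraMap K L).mapMatrix (m := Fin 2)) :=
          Matrix.map_injective hinj
        apply hinj'
        rw [h, map_one]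
    exact Nat.dvd_antisymm (orderOf_dvd_of_pow_eq_one ((key n).2 dvd_rfl))
      ((key _).1 (pow_orderOf_eq_one M))

end Groth.Agent.S14848
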