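import Groth.Statements.S14849
import Groth.Agent.S14848

set_option autoImplicit false
universe u v
open McKay

namespace Groth.Agent.S14849

open Matrix in
/-- the companion matrix over `L` raised to a power `k` with `ξ ^ k = -1` is `-1` -/
theorem pow_eq_neg_one_of_ne {L : Type*} [Field L] (ξ : L) (hξ0 : ξ ≠ 0) (hne : ξ ≠ ξ⁻¹) (k : ℕ)
    (h : ξ ^ k = -1) :
    (!![0, -1; 1, ξ + ξ⁻¹] : Matrix (Fin 2) (Fin 2) L) ^ k = -1 := by
  set A : Matrix (Fin 2) (Fin 2) L := !![0, -1; 1, ξ + ξ⁻¹] with hA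
  set P : Matrix (Fin 2) (Fin 2) L := !![1, 1; -ξ, -ξ⁻¹] with hP
  set D : Matrix (Fin 2) (Fin 2) L := Matrix.diagonal ![ξ, ξ⁻¹] with hD
  have hAP : A * P = P * D := by
    ext i j
    fin_cases i <;> fin_cases j <;>
      simp [hA, hP, hD, Matrix.mul_apply, Fin.sum_univ_two, Matrix.diagonal_apply] <;>
      field_simp <;> ring
  have hAPk : ∀ m : ℕ, A ^ m * P = P * D ^ m := by
    intro m
    induction m with
    | zero => simp
    | succ m ih =>
      rw [pow_succ, Matrix.mul_assoc, hAP, ← Matrix.mul_assoc, ih, Matrix.mul_assoc, ← pow_succ]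
  have hdet : P.det = ξ - ξ⁻¹ := by
    simp [hP, Matrix.det_fin_two]
    ring
  have hPunit : IsUnit P := by
    rw [Matrix.isUnit_iff_isUnit_det, hdet, isUnit_iff_ne_zero]
    exact sub_ne_zero.2 hne
  have hDk : D ^ k = Matrix.diagonal ![ξ ^ k, ξ⁻¹ ^ k] := by
    rw [hD, Matrix.diagonal_pow]
    congr 1
    ext i; fin_cases i <;> simp
  have hinv : ξ⁻¹ ^ k = -1 := by rw [inv_pow, h, inv_neg, inv_one]
  have h2 : D ^ k = -1 := by
    rw [hDk, h, hinv]
    ext i j
    fin_cases i <;> fin_cases j <;> simp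
  have h1 : A ^ k * P = (-1) * P := by rw [hAPk, h2, Matrix.mul_neg, Matrix.mul_one, neg_one_mul]
  exact hPunit.mul_right_cancel h1

/-- abstract construction of a homomorphism out of the generalised quaternion group -/
theorem exists_hom {G : Type*} [Group G] (n : ℕ) (hn : 0 < n) (A B : G)
    (hA : A ^ (2 * n) = 1) (hB : B * B = A ^ n) (hBA : A * B = B * A⁻¹) :
    ∃ f : QuaternionGroup n →* G,
      (∀ i : ZMod (2 * n), f (QuaternionGroup.a i) = A ^ i.val) ∧
      (∀ i : ZMod (2 * n), f (QuaternionGroup.xa i) = B * A ^ i.val) := by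
  have : NeZero (2 * n) := ⟨by omega⟩
  set g : ZMod (2 * n) → G := fun i => A ^ i.val with hg
  have hg_add : ∀ i j, g (i + j) = g i * g j := by
    intro i j
    simp only [hg]
    rw [ZMod.val_add, ← pow_eq_pow_mod _ hA, pow_add]
  have hg0 : g 0 = 1 := by simp [hg]
  have hg_neg : ∀ i, g (-i) = (g i)⁻¹ := by
    intro i
    rw [eq_inv_iff_mul_eq_one, ← hg_add, neg_add_cancel, hg0]
  have hg_n : g (n : ZMod (2 * n)) = A ^ n := by
    simp only [hg]
    rw [ZMod.val_natCast, Nat.mod_eq_of_lt (by omega)]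
  have hcommN : ∀ m : ℕ, A ^ m * B = B * (A ^ m)⁻¹ := by
    intro m
    induction m with
    | zero => simp
    | succ m ih =>
      rw [pow_succ, mul_assoc, hBA, ← mul_assoc, ih, mul_assoc, ← mul_inv_rev, ← pow_succ', pow_succ]
  have hcomm : ∀ i, g i * B = B * g (-i) := by
    intro i
    rw [hg_neg]
    exact hcommN _
  let F : QuaternionGroup n → G := fun q =>
    match q with
    | QuaternionGroup.a i => g i
    | QuaternionGroup.xa i => B * g i
  refine ⟨MonoidHom.mk' F ?_, fun i => rfl, fun i => rfl⟩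
  rintro (i | i) (j | j)
  · change g (i + j) = g i * g j
    exact hg_add i j
  · change B * g (j - i) = g i * (B * g j)
    rw [← mul_assoc, hcomm, mul_assoc, ← hg_add, neg_add_eq_sub]
  · change B * g (i + j) = B * g i * g j
    rw [hg_add, mul_assoc]
  · change g ((n : ZMod (2 * n)) + j - i) = B * g i * (B * g j)
    rw [mul_assoc, ← mul_assoc (g i), hcomm, ← mul_assoc, ← mul_assoc, hB, ← hg_n, ← hg_add,
      ← hg_add]
    congr 1
    ring


/-- Let K be a field of characteristic zero, L an extension field of K, n ≥ 2, and ξ ∈ L a primitive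
2n-th root of unity with ξ + ξ⁻¹ = 2c for some c ∈ K. If the Hilbert symbol of -1 and c² - 1 over K
equals 1, i.e. x² - (c² - 1) y² = -1 has a solution in K, then the binary dihedral group of order 4n
(generators σ, τ with τ² = σⁿ = (τσ)²) is isomorphic to a subgroup of SL(2, K). (The published
statement is an equivalence; this row is the direction realising the group from a solution of the
conic.) -/
theorem result {K : Type u} {L : Type v}
    [Field K] [Field L] [CharZero K] [Algebra K L] (n : ℕ) (hn : 2 ≤ n) (ξ : L)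
    (hξ : IsPrimitiveRoot ξ (2 * n)) (c : K) (hc : algebraMap K L (2 * c) = ξ + ξ⁻¹)
    (hsol : ∃ x y : K, x ^ 2 - (c ^ 2 - 1) * y ^ 2 = -1) :
    ∃ f : QuaternionGroup n →* Matrix.SpecialLinearGroup (Fin 2) K, Function.Injective f := by
  classical
  obtain ⟨x, y, hxy⟩ := hsol
  have hn0 : 0 < 2 * n := by omega
  have hξ0 : ξ ≠ 0 := hξ.ne_zero (by omega)
  have hne : ξ ≠ ξ⁻¹ := by
    intro h
    have h2 : ξ ^ 2 = 1 := by
      rw [pow_two]
      nth_rewrite 2 [h]
      exact mul_inv_cancel₀ hξ0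
    have := (hξ.pow_eq_one_iff_dvd 2).1 h2
    have := Nat.le_of_dvd (by norm_num) this
    omega
  have hξn : ξ ^ n = -1 := by
    have h2 : IsPrimitiveRoot (ξ ^ n) 2 := hξ.pow hn0 (mul_comm 2 n)
    exact h2.eq_neg_one_of_two_right
  have hdetA : (!![(0 : K), -1; 1, 2 * c] : Matrix (Fin 2) (Fin 2) K).det = 1 := by
    simp [Matrix.det_fin_two]
  have hdetB : (!![x + c * y, y; y - 2 * c * (x + c * y), -(x + c * y)] :
      Matrix (Fin 2) (Fin 2) K).det = 1 := by
    simp only [Matrix.det_fin_two_of]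
    linear_combination (-1 : K) * hxy
  set A : Matrix.SpecialLinearGroup (Fin 2) K := ⟨!![(0 : K), -1; 1, 2 * c], hdetA⟩ with hAdef
  set B : Matrix.SpecialLinearGroup (Fin 2) K :=
    ⟨!![x + c * y, y; y - 2 * c * (x + c * y), -(x + c * y)], hdetB⟩ with hBdef
  have hinj : Function.Injective (algebraMap K L) := (algebraMap K L).injective
  have hinj' : Function.Injective ((algebraMap K L).mapMatrix (m := Fin 2)) :=
    Matrix.map_injective hinj
  have hmap : (algebraMap K L).mapMatrix (A.val) = !![0, -1; 1, ξ + ξ⁻¹] := by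
    ext i j
    fin_cases i <;> fin_cases j <;> simp [hAdef, ← hc]
  have key : ∀ k : ℕ, A ^ k = 1 ↔ 2 * n ∣ k := by
    intro k
    rw [← hξ.pow_eq_one_iff_dvd, ← Groth.Agent.S14848.pow_eq_one_iff_of_ne ξ hξ0 hne, ← hmap,
      ← map_pow]
    constructor
    · intro h
      rw [← Matrix.SpecialLinearGroup.coe_pow, h, Matrix.SpecialLinearGroup.coe_one, map_one]
    · intro h
      apply Subtype.ext
      rw [Matrix.SpecialLinearGroup.coe_pow, Matrix.SpecialLinearGroup.coe_one]
      apply hinj'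
      rw [h, map_one]
  have hAn : (A ^ n).val = -1 := by
    rw [Matrix.SpecialLinearGroup.coe_pow]
    apply hinj'
    rw [map_pow, hmap, pow_eq_neg_one_of_ne ξ hξ0 hne n hξn, map_neg, map_one]
  have hA2n : A ^ (2 * n) = 1 := (key _).2 dvd_rfl
  have hBB : B * B = A ^ n := by
    apply Subtype.ext
    rw [hAn, Matrix.SpecialLinearGroup.coe_mul]
    ext i j
    fin_cases i <;> fin_cases j <;>
      simp [hBdef, Matrix.mul_apply, Fin.sum_univ_two] <;>
      first | ring1 | linear_combination (1 : K) * hxy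
  have hAinv : (A⁻¹).val = !![2 * c, 1; -1, 0] := by
    rw [Matrix.SpecialLinearGroup.coe_inv, Matrix.adjugate_fin_two]
    simp [hAdef]
  have hBA : A * B = B * A⁻¹ := by
    apply Subtype.ext
    rw [Matrix.SpecialLinearGroup.coe_mul, Matrix.SpecialLinearGroup.coe_mul, hAinv]
    ext i j
    fin_cases i <;> fin_cases j <;>
      simp [hAdef, hBdef, Matrix.mul_apply, Fin.sum_univ_two] <;> ring
  obtain ⟨f, hfa, hfxa⟩ := exists_hom n (by omega) A B hA2n hBB hBA
  refine ⟨f, ?_⟩
  rw [injective_iff_map_eq_one]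
  have : NeZero (2 * n) := ⟨by omega⟩
  rintro (i | i) hq
  · rw [hfa, key] at hq
    have hlt : i.val < 2 * n := ZMod.val_lt i
    have h0 : i.val = 0 := Nat.eq_zero_of_dvd_of_lt hq hlt
    have : i = 0 := (ZMod.val_eq_zero i).1 h0
    rw [this]; rfl
  · exfalso
    rw [hfxa] at hq
    -- B = (A^i)⁻¹ commutes with A, so A = A⁻¹
    have hBeq : B = (A ^ i.val)⁻¹ := eq_inv_of_mul_eq_one_left hq
    have hcomm : A * B = B * A := by
      rw [hBeq]
      exact ((Commute.refl A).pow_right _).inv_right.eq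
    have hAA : A⁻¹ = A := by
      have := hBA.symm.trans hcomm
      exact mul_left_cancel this
    have hA2 : A ^ 2 = 1 := by
      rw [pow_two]
      nth_rewrite 1 [← hAA]
      exact inv_mul_cancel A
    have := (key 2).1 hA2
    have := Nat.le_of_dvd (by norm_num) this
    omega

end Groth.Agent.S14849
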