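import Groth.Statements.S14850
import Groth.Agent.H40.Coeff7
import Groth.Agent.S7972

set_option autoImplicit false
universe u v
open HopfRep

namespace Groth.Agent.S14850

open TensorProduct Groth.Agent.H40 Groth.Agent.Lib.Helper93.Comod

open TensorProduct in
/-- Over a field K, a nonzero coalgebra C is simple if and only if C is isotypic as a right comodule
over itself, i.e. C is the internal direct sum of the images of a family of injective comodule maps
from one simple right C-comodule E. Here a subcoalgebra of C is a subspace B whose comultiplication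
lands in the image of B ⊗ B, and C is simple when its only subcoalgebras are 0 and C. (Stated for
the right regular comodule; the published statement allows left or right.) -/
theorem result {K : Type u} {C : Type v} [Field K] [AddCommGroup C]
    [Module K C] [Coalgebra K C] [Nontrivial C] :
    (∀ B : Submodule K C, (∀ b ∈ B, CoalgebraStruct.comul (R := K) b ∈ LinearMap.range (TensorProduct.map B.subtype B.subtype)) → B = ⊥ ∨ B = ⊤) ↔
    ∃ (E : Type v) (_ : AddCommGroup E) (_ : Module K E) (_ : HopfRep.Comod K C E),
      HopfRep.IsSimpleComod K C E ∧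
      ∃ (ι : Type v) (f : ι → (E →ₗ[K] C)),
        (∀ i, Hoch.IsComodHom C (f i) ∧ Function.Injective (f i)) ∧
        iSupIndep (fun i => LinearMap.range (f i)) ∧ (⨆ i, LinearMap.range (f i)) = ⊤ := by
  classical
  constructor
  · intro hsimple
    obtain ⟨S, -, hS⟩ := exists_simpleSub_le (k := K) (C := C) (V := C) ⊤ isSubcomod_top top_ne_bot
    have hfin : Module.Finite K S := finite_of_isSimpleSub S hS
    let d : HopfRep.Comod K C S := ComodSub.Comod.restr (HopfRep.Comod.regular K C) S hS.2.1
    have hE : @HopfRep.IsSimpleComod K C _ _ _ _ S _ _ d := isSimpleComod_restr S hS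
    have hcf : @cfs K _ C _ _ _ S _ _ d ⊤ = ⊤ := by
      rw [cfs_top_restr S hS.2.1]
      rcases hsimple _ (isSubcoalg_cfs S hS.2.1) with h | h
      · exact absurd (eq_bot_of_cfs_eq_bot S h) hS.1
      · exact h
    let b := Module.finBasis K S
    have hsum := @cfs_top_eq_iSup_basis K _ C _ _ _ S _ _ d _ _ b
    rw [hcf] at hsum
    let ι₀ := {i : Fin (Module.finrank K S) // @coeffMap K _ C _ _ _ S _ _ d (b.coord i) ≠ 0}
    let Sf : ι₀ → Submodule K C := fun i => LinearMap.range (@coeffMap K _ C _ _ _ S _ _ d (b.coord i.1))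
    have hSf : ∀ i, IsSimpleSub (C := C) (V := C) (Sf i) :=
      fun i => isSimpleSub_range hE _ (isComodHom_coeffMap _) i.2
    have hsum' : ⨆ i, Sf i = ⊤ := by
      rw [eq_top_iff, hsum]
      apply iSup_le
      intro i
      by_cases h : @coeffMap K _ C _ _ _ S _ _ d (b.coord i) = 0
      · rw [h, LinearMap.range_zero]
        exact bot_le
      · exact le_iSup Sf ⟨i, h⟩
    obtain ⟨J, hJind, hJc⟩ := Groth.Agent.S7972.result K C C Sf (fun i => (hSf i).2.1)
      (fun i => ⟨(hSf i).1, fun W' hW' hle => (hSf i).2.2 W' hW' hle⟩) hsum' ⊥ isSubcomod_bot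
    have hJtop : ⨆ j : J, Sf j = ⊤ := by
      have := hJc.sup_eq_top
      rwa [bot_sup_eq] at this
    refine ⟨S, inferInstance, inferInstance, d, hE, ULift.{v} J,
      fun i => @coeffMap K _ C _ _ _ S _ _ d (b.coord i.down.1.1), ?_, ?_, ?_⟩
    · intro i
      exact ⟨isComodHom_coeffMap _,
        (eq_zero_or_injective_of_isSimpleComod hE _ (isComodHom_coeffMap _)).resolve_left i.down.1.2⟩
    · exact hJind.comp (f := fun i : ULift.{v} J => i.down) ULift.down_injective
    · rw [← hJtop]
      exact Equiv.ulift.surjective.iSup_comp (fun j : J => Sf j)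
  · rintro ⟨E, _, _, _, hE, ι, f, hf, -, hsum⟩ B hB
    by_cases hB0 : B = ⊥
    · exact Or.inl hB0
    · right
      obtain ⟨S, hSB, hS⟩ := exists_simpleSub_le (k := K) (C := C) (V := C) B
        (isSubcomod_of_isSubcoalg B hB) hB0
      have hE' := hE.1
      have hf0 : ∀ i, f i ≠ 0 := by
        intro i h
        obtain ⟨x, hx⟩ := exists_ne (0 : E)
        apply hx
        apply (hf i).2
        rw [h, map_zero, LinearMap.zero_apply]
      have hSf : ∀ i, IsSimpleSub (C := C) (V := C) (LinearMap.range (f i)) :=
        fun i => isSimpleSub_range hE _ (hf i).1 (hf0 i)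
      obtain ⟨i₀, hi₀⟩ := exists_cfs_eq_of_le_iSup (C := C) S hS _ hSf (by rw [hsum]; exact le_top)
      rw [cfs_range_eq_of_injective (f i₀) (hf i₀).1 (hf i₀).2] at hi₀
      have h2 : cfs (C := C) (V := C) S ≤ B := cfs_le_of_le_isSubcoalg B hB S hSB
      rw [eq_top_iff, ← hsum]
      apply iSup_le
      intro i
      calc LinearMap.range (f i) ≤ cfs (C := C) (V := C) (LinearMap.range (f i)) := le_cfs_regular _
        _ = cfs (C := C) (⊤ : Submodule K E) := cfs_range_eq_of_injective (f i) (hf i).1 (hf i).2
        _ = cfs (C := C) (V := C) S := hi₀.symm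
        _ ≤ B := h2

end Groth.Agent.S14850
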