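import Groth.Statements.S14856
import Mathlib.Tactic

set_option autoImplicit false
universe u
open CAlg

namespace Groth.Agent.S14856

open Finset in
theorem ghostComponent_eq_sum (p : ℕ) [Fact p.Prime] (S : Type*) [CommRing S]
    (x : WittVector p S) (n : ℕ) :
    WittVector.ghostComponent n x =
      ∑ i ∈ range (n + 1), (p : S) ^ i * x.coeff i ^ p ^ (n - i) := by
  rw [WittVector.ghostComponent_apply, wittPolynomial_eq_sum_C_mul_X_pow, map_sum]
  apply Finset.sum_congr rfl
  intro i _
  simp [MvPolynomial.aeval_X]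

/-- the basic numerical inequality -/
theorem num_ineq (p : ℕ) (hp : 2 ≤ p) (s j : ℕ) (hs : 1 ≤ s) : j + s ≤ s * p ^ j := by
  have h1 : j + 1 ≤ p ^ j := by
    calc j + 1 ≤ 2 ^ j := Nat.lt_two_pow_self
      _ ≤ p ^ j := Nat.pow_le_pow_left hp j
  calc j + s ≤ s * (j + 1) := by nlinarith
    _ ≤ s * p ^ j := Nat.mul_le_mul_left s h1

/-- each term of the ghost component with `p^s ∣ x_i` is divisible by `p^(n+s)` -/
theorem term_dvd (p : ℕ) [hp : Fact p.Prime] (S : Type*) [CommRing S]
    (x : WittVector p S) (s : ℕ) (hs : 1 ≤ s) (n i : ℕ) (hi : i ≤ n)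
    (h : (p : S) ^ s ∣ x.coeff i) :
    (p : S) ^ (n + s) ∣ (p : S) ^ i * x.coeff i ^ p ^ (n - i) := by
  have h1 : ((p : S) ^ s) ^ p ^ (n - i) ∣ x.coeff i ^ p ^ (n - i) := pow_dvd_pow_of_dvd h _
  have h2 : (p : S) ^ i * ((p : S) ^ s) ^ p ^ (n - i) ∣ (p : S) ^ i * x.coeff i ^ p ^ (n - i) :=
    mul_dvd_mul_left _ h1
  refine dvd_trans ?_ h2
  rw [← pow_mul, ← pow_add]
  apply pow_dvd_pow
  have := num_ineq p hp.out.two_le s (n - i) hs
  omega


/-- Let p be a prime and S a commutative ring in which p is a non-zero-divisor. For a p-typical Witt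
vector x over S, a natural number m and an integer s ≥ 1, the power p^s divides each of the Witt
components x_0, …, x_m if and only if p^(n+s) divides the n-th ghost component w_n(x) = x_0^(p^n) +
p x_1^(p^(n-1)) + ⋯ + p^n x_n for every n ≤ m. -/
theorem result (p : ℕ) [Fact p.Prime] (S : Type u) [CommRing S]
    (hS : ∀ y : S, (p : S) * y = 0 → y = 0) (x : WittVector p S) (m s : ℕ) (hs : 1 ≤ s) :
    (∀ i ≤ m, (p : S) ^ s ∣ x.coeff i) ↔
      (∀ n ≤ m, (p : S) ^ (n + s) ∣ WittVector.ghostComponent n x) := by
  constructor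
  · intro h n hn
    rw [ghostComponent_eq_sum]
    apply Finset.dvd_sum
    intro i hi
    rw [Finset.mem_range] at hi
    exact term_dvd p S x s hs n i (by omega) (h i (by omega))
  · intro h i
    induction i using Nat.strong_induction_on with
    | _ i ih =>
      intro hi
      have hw := h i hi
      rw [ghostComponent_eq_sum, Finset.sum_range_succ, Nat.sub_self, pow_zero, pow_one] at hw
      have hsum : (p : S) ^ (i + s) ∣
          ∑ j ∈ Finset.range i, (p : S) ^ j * x.coeff j ^ p ^ (i - j) := by
        apply Finset.dvd_sum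
        intro j hj
        rw [Finset.mem_range] at hj
        exact term_dvd p S x s hs i j (by omega) (ih j hj (by omega))
      have hlast : (p : S) ^ (i + s) ∣ (p : S) ^ i * x.coeff i := (dvd_add_right hsum).1 hw
      obtain ⟨c, hc⟩ := hlast
      refine ⟨c, ?_⟩
      -- cancel p^i
      have hcancel : ∀ (k : ℕ) (a b : S), (p : S) ^ k * a = (p : S) ^ k * b → a = b := by
        intro k
        induction k with
        | zero => intro a b hab; simpa using hab
        | succ k ihk =>
          intro a b hab
          apply ihk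
          have : (p : S) * ((p : S) ^ k * a - (p : S) ^ k * b) = 0 := by
            rw [mul_sub]
            have e1 : (p : S) * ((p : S) ^ k * a) = (p : S) ^ (k + 1) * a := by ring
            have e2 : (p : S) * ((p : S) ^ k * b) = (p : S) ^ (k + 1) * b := by ring
            rw [e1, e2, hab, sub_self]
          exact sub_eq_zero.1 (hS _ this)
      apply hcancel i
      rw [hc]
      ring

end Groth.Agent.S14856
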