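import Groth.Statements.S14857
import Mathlib.RingTheory.WittVector.Domain
import Mathlib.RingTheory.WittVector.Identities

set_option autoImplicit false
open CAlg

namespace Groth.Agent.S14857

/-- General version: over any commutative ring, `p ∣ [p^p]`. -/
theorem aux (p : ℕ) [hp : Fact p.Prime] (R : Type*) [CommRing R] :
    (p : WittVector p R) ∣ WittVector.teichmuller p ((p : R) ^ p) := by
  set t := WittVector.teichmuller p (p : R) with ht
  set d := t - (p : WittVector p R) with hd
  have hd0 : d.coeff 0 = 0 := by
    have h1 : WittVector.constantCoeff d = 0 := by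
      rw [hd, map_sub, map_natCast]
      have : WittVector.constantCoeff t = (p : R) := WittVector.teichmuller_coeff_zero p (p : R)
      rw [this, sub_self]
    exact h1
  have hV : d = WittVector.verschiebung (d.shift 1) := by
    have := WittVector.eq_iterate_verschiebung (x := d) (n := 1)
      (by intro i hi; interval_cases i; exact hd0)
    simpa using this
  set y := d.shift 1 with hy
  have h2 : (WittVector.verschiebung y) ^ 2 =
      (p : WittVector p R) * WittVector.verschiebung (y * y) := by
    rw [sq, ← WittVector.verschiebung_mul_frobenius, WittVector.frobenius_verschiebung,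
      ← mul_assoc, ← nsmul_eq_mul', map_nsmul, nsmul_eq_mul]
  have h3 : (p : WittVector p R) ∣ (WittVector.verschiebung y) ^ p := by
    have h2le : 2 ≤ p := hp.out.two_le
    obtain ⟨k, rfl⟩ := Nat.exists_eq_add_of_le h2le
    rw [pow_add, h2, mul_assoc]
    exact dvd_mul_right _ _
  have h4 : (p : WittVector p R) ∣ t ^ p - (WittVector.verschiebung y) ^ p := by
    have h5 : t - WittVector.verschiebung y = (p : WittVector p R) := by
      rw [← hV, hd]; ring
    have := sub_dvd_pow_sub_pow t (WittVector.verschiebung y) p
    rwa [h5] at this
  have h6 : (p : WittVector p R) ∣ t ^ p := by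
    have := dvd_add h4 h3
    rwa [sub_add_cancel] at this
  rwa [ht, ← map_pow] at h6

/-- For a prime p, the Teichmüller representative [p^p] of the element p^p of the p-adic integers is
divisible by p in the ring of p-typical Witt vectors W(ℤ_p). -/
theorem result (p : ℕ) [Fact p.Prime] :
    (p : WittVector p ℤ_[p]) ∣ WittVector.teichmuller p ((p : ℤ_[p]) ^ p) := aux p ℤ_[p]

end Groth.Agent.S14857
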