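import Groth.Statements.S14858
import Groth.Agent.Lib.Helper75.CompleteProjective
import Groth.Agent.Lib.Helper75.WittComplete

set_option autoImplicit false
universe u v
open Disp

namespace Groth.Agent.S14858

/-- Let p be a prime and R a commutative ring which is complete and separated for the p-adic topology;
write W = W(R) for the p-typical Witt vectors and I for the ideal of W generated by the image of the
Verschiebung. Let P be a finitely generated projective W-module and Q a submodule of P which admits
a complement modulo I·P, that is a submodule C with Q + C = P and Q ∩ C = I·P (equivalently I·P ⊆ Q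
and the graded pieces P/Q and Q/I·P of the filtration I·P ⊆ Q ⊆ P are finitely generated projective
R-modules). Then there is a direct sum decomposition P = L ⊕ T by submodules with Q = L + I·T, so
that together with any Frobenius-semilinear operators F and V⁻¹ satisfying the remaining axioms the
pair (P, Q) underlies a 3n-display. -/
theorem result (p : ℕ) [Fact p.Prime] (R : Type u) [CommRing R]
    [IsAdicComplete (Ideal.span {(p : R)}) R]
    (P : Type v) [AddCommGroup P] [Module (WittVector p R) P]
    [Module.Finite (WittVector p R) P] [Module.Projective (WittVector p R) P]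
    (Q : Submodule (WittVector p R) P)
    (hQ : ∃ C : Submodule (WittVector p R) P,
      Q ⊔ C = ⊤ ∧ Q ⊓ C = W4c1extbt610.IV p R • (⊤ : Submodule (WittVector p R) P)) :
    ∃ L T : Submodule (WittVector p R) P, IsCompl L T ∧ Q = L ⊔ W4c1extbt610.IV p R • T := by
  obtain ⟨C, hQC, hQC'⟩ := hQ
  -- the ideal `I_R`
  have hIV : W4c1extbt610.IV p R =
      RingHom.ker (WittVector.constantCoeff : WittVector p R →+* R) := by
    apply le_antisymm
    · unfold W4c1extbt610.IV
      rw [Ideal.span_le]
      rintro _ ⟨w, rfl⟩
      exact (Groth.Agent.Lib.Helper75.WittComplete.mem_ker_constantCoeff_iff _).mpr ⟨w, rfl⟩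
    · intro x hx
      obtain ⟨w, rfl⟩ := (Groth.Agent.Lib.Helper75.WittComplete.mem_ker_constantCoeff_iff _).mp hx
      exact W4c1extbt610.verschiebung_mem_IV p R w
  have hW : IsAdicComplete (W4c1extbt610.IV p R) (WittVector p R) := by
    rw [hIV]
    exact Groth.Agent.Lib.Helper75.WittComplete.isAdicComplete_ker
  have hP : IsAdicComplete (W4c1extbt610.IV p R) P :=
    Groth.Agent.Lib.Helper75.CompleteProjective.isAdicComplete_of_finite_projective (W4c1extbt610.IV p R) P
  set I := W4c1extbt610.IV p R with hI
  have hIPQ : (I • ⊤ : Submodule (WittVector p R) P) ≤ Q := by rw [← hQC']; exact inf_le_left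
  -- a first approximation of the projector
  set φ : (Q × C) →ₗ[WittVector p R] P := Q.subtype.coprod C.subtype with hφ
  have hφsurj : Function.Surjective φ := by
    intro x
    have hx : x ∈ Q ⊔ C := by rw [hQC]; exact Submodule.mem_top
    obtain ⟨q, hq, c, hc, rfl⟩ := Submodule.mem_sup.mp hx
    exact ⟨(⟨q, hq⟩, ⟨c, hc⟩), by simp [hφ]⟩
  obtain ⟨s, hs⟩ := Module.projective_lifting_property φ LinearMap.id hφsurj
  have hs' : ∀ x : P, ((s x).1 : P) + ((s x).2 : P) = x := by
    intro x
    have := congrArg (fun g => g x) hs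
    simpa [hφ] using this
  set e₁ : Module.End (WittVector p R) P :=
    Q.subtype ∘ₗ LinearMap.fst (WittVector p R) Q C ∘ₗ s with he₁
  have he₁val : ∀ x, e₁ x = ((s x).1 : P) := fun x => rfl
  have he₁Q : ∀ x, e₁ x ∈ Q := fun x => (s x).1.2
  have he₁sub : ∀ x ∈ Q, e₁ x - x ∈ (I • ⊤ : Submodule (WittVector p R) P) := by
    intro x hx
    rw [← hQC', he₁val]
    have h1 : ((s x).1 : P) - x = -((s x).2 : P) := by
      rw [eq_sub_of_add_eq (hs' x)]; abel
    rw [h1]
    refine neg_mem ⟨?_, (s x).2.2⟩
    have h2 : ((s x).2 : P) = x - ((s x).1 : P) := eq_sub_of_add_eq' (hs' x)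
    rw [h2]
    exact sub_mem hx (s x).1.2
  have he₁C : ∀ x ∈ C, e₁ x ∈ (I • ⊤ : Submodule (WittVector p R) P) := by
    intro x hx
    rw [← hQC', he₁val]
    refine ⟨(s x).1.2, ?_⟩
    have h2 : ((s x).1 : P) = x - ((s x).2 : P) := eq_sub_of_add_eq (hs' x)
    rw [h2]
    exact sub_mem hx (s x).2.2
  have hu : ∀ x, (e₁ * e₁ - e₁) x ∈ (I • ⊤ : Submodule (WittVector p R) P) := by
    intro x
    exact he₁sub (e₁ x) (he₁Q x)
  obtain ⟨e, hee, hemod⟩ := Groth.Agent.Lib.Helper75.CompleteProjective.exists_idempotent_lift I e₁ hu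
  have hidem : IsIdempotentElem e := by
    ext x
    exact hee x
  refine ⟨LinearMap.range e, LinearMap.ker e, LinearMap.IsIdempotentElem.isCompl hidem, ?_⟩
  have heQ : ∀ x, e x ∈ Q := by
    intro x
    have h1 : e x = (e x - e₁ x) + e₁ x := by abel
    rw [h1]
    exact add_mem (hIPQ (hemod x)) (he₁Q x)
  apply le_antisymm
  · intro q hq
    have h1 : q = e q + (q - e q) := by abel
    rw [h1]
    refine Submodule.add_mem_sup (LinearMap.mem_range_self e q) ?_
    -- `q - e q ∈ ker e ∩ I P = I ker e`
    have h2 : q - e q ∈ (I • ⊤ : Submodule (WittVector p R) P) := by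
      have h3 : q - e q = -((e q - e₁ q) + (e₁ q - q)) := by abel
      rw [h3]
      exact neg_mem (add_mem (hemod q) (he₁sub q hq))
    set g : Module.End (WittVector p R) P := LinearMap.id - e with hg
    have h4 : g (q - e q) = q - e q := by
      simp only [hg, LinearMap.sub_apply, LinearMap.id_apply, map_sub, hee]
      abel
    rw [← h4]
    have h5 : g (q - e q) ∈ Submodule.map g (I • ⊤) :=
      Submodule.mem_map_of_mem h2
    rw [Submodule.map_smul''] at h5
    refine Submodule.smul_mono le_rfl ?_ h5
    rintro _ ⟨y, _, rfl⟩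
    rw [LinearMap.mem_ker]
    simp only [hg, LinearMap.sub_apply, LinearMap.id_apply, map_sub, hee, sub_self]
  · refine sup_le ?_ ?_
    · rintro _ ⟨x, rfl⟩
      exact heQ x
    · exact le_trans (Submodule.smul_mono le_rfl le_top) hIPQ


end Groth.Agent.S14858
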