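import Groth.Statements.S14859
import Mathlib.RingTheory.FiniteType
import Mathlib.LinearAlgebra.Basis.Prod
import Mathlib.LinearAlgebra.Projection

set_option autoImplicit false
universe u v w
open Disp

namespace Groth.Agent.S14859

section
variable {p : ℕ} [Fact p.Prime] {R : Type u} [CommRing R]

/-- the image of the Verschiebung is already an ideal -/
theorem mem_IV_iff (a : WittVector p R) :
    a ∈ W4c1extbt610.IV p R ↔ ∃ w : WittVector p R, WittVector.verschiebung w = a := by
  constructor
  · intro ha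
    unfold W4c1extbt610.IV at ha
    induction ha using Submodule.span_induction with
    | mem x hx => exact hx
    | zero => exact ⟨0, map_zero _⟩
    | add x y _ _ hx hy =>
      obtain ⟨w₁, rfl⟩ := hx
      obtain ⟨w₂, rfl⟩ := hy
      exact ⟨w₁ + w₂, map_add _ _ _⟩
    | smul c x _ hx =>
      obtain ⟨w, rfl⟩ := hx
      refine ⟨w * WittVector.frobenius c, ?_⟩
      rw [WittVector.verschiebung_mul_frobenius, smul_eq_mul, mul_comm]
  · rintro ⟨w, rfl⟩
    exact W4c1extbt610.verschiebung_mem_IV p R w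

end

/-- Let p be a prime, R a commutative ring with p-typical Witt vectors W = W(R), and (P, Q, F, V⁻¹) a
3n-display over R with a normal decomposition P = L ⊕ T, Q = L + I_R·T. Then V⁻¹ ⊕ F : L ⊕ T → P is
a Frobenius-linear isomorphism; stated here in the case where L and T are free with bases (l_i) and
(t_j): the family consisting of the V⁻¹(l_i) and the F(t_j) is a basis of the W-module P, i.e. it is
linearly independent over W and spans P. -/
theorem result (p : ℕ) [Fact p.Prime] (R : Type u) [CommRing R]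
    (P : Type v) [AddCommGroup P] [Module (WittVector p R) P] (D : W4c1extbt610.Display3n p R P)
    (L T : Submodule (WittVector p R) P) (hLT : IsCompl L T)
    (hQ : D.Q = L ⊔ W4c1extbt610.IV p R • T) (hLQ : L ≤ D.Q)
    (ιL ιT : Type w) (bL : Module.Basis ιL (WittVector p R) L) (bT : Module.Basis ιT (WittVector p R) T) :
    LinearIndependent (WittVector p R)
        (Sum.elim (fun i : ιL => D.Vinv ⟨(bL i : P), hLQ (bL i).2⟩) (fun j : ιT => D.F (bT j : P))) ∧
      Submodule.span (WittVector p R)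
        (Set.range (Sum.elim (fun i : ιL => D.Vinv ⟨(bL i : P), hLQ (bL i).2⟩) (fun j : ιT => D.F (bT j : P)))) = ⊤ := by
  classical
  set v : ιL ⊕ ιT → P :=
    Sum.elim (fun i : ιL => D.Vinv ⟨(bL i : P), hLQ (bL i).2⟩) (fun j : ιT => D.F (bT j : P)) with hv
  set S : Submodule (WittVector p R) P := Submodule.span (WittVector p R) (Set.range v) with hS
  have hTQ : W4c1extbt610.IV p R • T ≤ D.Q := by
    rw [hQ]; exact le_sup_right
  -- F maps T into S
  have hFT : ∀ t ∈ T, D.F t ∈ S := by
    intro t ht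
    have hle : (⊤ : Submodule (WittVector p R) T) ≤ S.comap (D.F.comp T.subtype) := by
      rw [← bT.span_eq, Submodule.span_le]
      rintro _ ⟨j, rfl⟩
      change D.F (bT j : P) ∈ S
      exact Submodule.subset_span ⟨Sum.inr j, rfl⟩
    exact hle (Submodule.mem_top : (⟨t, ht⟩ : T) ∈ ⊤)
  -- Vinv maps L into S
  have hVL : ∀ (l : P) (hl : l ∈ L), D.Vinv ⟨l, hLQ hl⟩ ∈ S := by
    intro l hl
    have hle : (⊤ : Submodule (WittVector p R) L) ≤
        S.comap (D.Vinv.comp (Submodule.inclusion hLQ)) := by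
      rw [← bL.span_eq, Submodule.span_le]
      rintro _ ⟨i, rfl⟩
      change D.Vinv (Submodule.inclusion hLQ (bL i)) ∈ S
      exact Submodule.subset_span ⟨Sum.inl i, rfl⟩
    exact hle (Submodule.mem_top : (⟨l, hl⟩ : L) ∈ ⊤)
  -- Vinv maps IV • T into S
  have hVT : ∀ m ∈ W4c1extbt610.IV p R • T, ∃ hm : m ∈ D.Q, D.Vinv ⟨m, hm⟩ ∈ S := by
    intro m hm
    refine Submodule.smul_induction_on hm ?_ ?_
    · intro a ha t ht
      obtain ⟨w, rfl⟩ := (mem_IV_iff a).1 ha
      refine ⟨hTQ (Submodule.smul_mem_smul ha ht), ?_⟩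
      have := D.Vinv_verschiebung_smul w t
      rw [this]
      exact S.smul_mem w (hFT t ht)
    · intro x y hx hy
      obtain ⟨hxQ, hx⟩ := hx
      obtain ⟨hyQ, hy⟩ := hy
      refine ⟨add_mem hxQ hyQ, ?_⟩
      have : (⟨x + y, add_mem hxQ hyQ⟩ : D.Q) = ⟨x, hxQ⟩ + ⟨y, hyQ⟩ := rfl
      rw [this, map_add]
      exact add_mem hx hy
  -- hence the range of Vinv is in S, and S = ⊤
  have hspan : S = ⊤ := by
    rw [eq_top_iff, ← D.span_range_Vinv, Submodule.span_le]
    rintro _ ⟨⟨q, hq⟩, rfl⟩
    have hq' : q ∈ L ⊔ W4c1extbt610.IV p R • T := hQ ▸ hq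
    obtain ⟨l, hl, m, hm, rfl⟩ := Submodule.mem_sup.1 hq'
    obtain ⟨hmQ, hmS⟩ := hVT m hm
    have : (⟨l + m, hq⟩ : D.Q) = ⟨l, hLQ hl⟩ + ⟨m, hmQ⟩ := rfl
    rw [this, map_add]
    exact add_mem (hVL l hl) hmS
  refine ⟨?_, hspan⟩
  -- linear independence via Orzech
  have := D.finite
  let b : Module.Basis (ιL ⊕ ιT) (WittVector p R) P :=
    (bL.prod bT).map (Submodule.prodEquivOfIsCompl L T hLT)
  let φ : P →ₗ[WittVector p R] P := b.constr (WittVector p R) v
  have hφsurj : Function.Surjective φ := by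
    rw [← LinearMap.range_eq_top, Module.Basis.constr_range, ← hS, hspan]
  have hφinj : Function.Injective φ := OrzechProperty.injective_of_surjective_endomorphism φ hφsurj
  have hφb : ∀ i, φ (b i) = v i := fun i => b.constr_basis (WittVector p R) v i
  have : v = φ ∘ b := by
    funext i; exact (hφb i).symm
  rw [this]
  exact b.linearIndependent.map' φ (LinearMap.ker_eq_bot.2 hφinj)

end Groth.Agent.S14859
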