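import Groth.Statements.S14860
import Mathlib
import Groth.Agent.Lib.Helper75.WittProjective

set_option autoImplicit false
universe u v
open CAlg

namespace Groth.Agent.S14860

open Groth.Agent.Lib.Helper75.WittTruncFiltration Groth.Agent.Lib.Helper75.WittProjective

lemma projective_quotient {W : Type u} [CommRing W] (I : Ideal W) (P : Type v) [AddCommGroup P]
    [Module W P] [Module.Finite W P] [Module.Projective W P] :
    Module.Projective (W ⧸ I) (P ⧸ (I • ⊤ : Submodule W P)) := by
  classical
  obtain ⟨r, s₀, i₀, -, -, hsi⟩ := Module.Finite.exists_comp_eq_id_of_projective W P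
  let κ : P →ₗ[W] (Fin r → W ⧸ I) := (Submodule.mkQ I).compLeft (Fin r) ∘ₗ i₀
  have hbot : ∀ y ∈ (I • ⊤ : Submodule W (Fin r → W ⧸ I)), y = 0 := by
    intro y hy
    refine Submodule.smul_induction_on (p := fun y => y = 0) hy ?_ ?_
    · intro a ha v _
      funext j
      obtain ⟨w, hw⟩ := Ideal.Quotient.mk_surjective (v j)
      rw [Pi.smul_apply, Pi.zero_apply, ← hw]
      change Ideal.Quotient.mk I (a * w) = 0
      exact Ideal.Quotient.eq_zero_iff_mem.mpr (I.mul_mem_right w ha)
    · rintro x y rfl rfl
      exact add_zero 0
  have hκ : (I • ⊤ : Submodule W P) ≤ LinearMap.ker κ := by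
    intro x hx
    rw [LinearMap.mem_ker]
    exact hbot _ (map_mem_smul_top I κ x hx)
  let ι' : (P ⧸ (I • ⊤ : Submodule W P)) →ₗ[W] (Fin r → W ⧸ I) := (I • ⊤ : Submodule W P).liftQ κ hκ
  have hsurj : Function.Surjective (algebraMap W (W ⧸ I)) := Ideal.Quotient.mk_surjective
  let s' : (Fin r → W ⧸ I) →ₗ[W ⧸ I] (P ⧸ (I • ⊤ : Submodule W P)) :=
    Fintype.linearCombination (W ⧸ I) (fun j => (I • ⊤ : Submodule W P).mkQ (s₀ (Pi.single j 1)))
  refine Module.Projective.of_split (ι'.extendScalarsOfSurjective hsurj) s' ?_
  apply LinearMap.ext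
  intro q
  obtain ⟨x, rfl⟩ := Submodule.mkQ_surjective _ q
  rw [LinearMap.comp_apply, LinearMap.id_apply, LinearMap.extendScalarsOfSurjective_apply]
  have h1 : ι' ((I • ⊤ : Submodule W P).mkQ x) = κ x := Submodule.liftQ_apply _ _ _
  rw [h1]
  have h2 : s' (κ x) = ∑ j, (κ x j) • (I • ⊤ : Submodule W P).mkQ (s₀ (Pi.single j 1)) :=
    Fintype.linearCombination_apply _ _ _
  rw [h2]
  have h3 : ∀ j, (κ x j) • (I • ⊤ : Submodule W P).mkQ (s₀ (Pi.single j 1)) =
      (I • ⊤ : Submodule W P).mkQ ((i₀ x j) • s₀ (Pi.single j 1)) := by
    intro j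
    have : κ x j = Ideal.Quotient.mk I (i₀ x j) := rfl
    rw [this, map_smul]
    rfl
  rw [Finset.sum_congr rfl (fun j _ => h3 j), ← map_sum]
  congr 1
  have h4 : ∑ j, i₀ x j • s₀ (Pi.single j 1) = s₀ (∑ j, i₀ x j • (Pi.single j (1 : W) : Fin r → W)) := by
    rw [map_sum]
    exact Finset.sum_congr rfl (fun j _ => (map_smul s₀ _ _).symm)
  have h5 : ∑ j, i₀ x j • (Pi.single j (1 : W) : Fin r → W) = i₀ x := by
    funext k
    simp [Finset.sum_apply, Pi.single_apply]
  rw [h4, h5]
  exact LinearMap.congr_fun hsi x


/-- Let p be a prime and R a commutative ring in which p is nilpotent; write W = W(R) for the p-typical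
Witt vectors and, for n ≥ 0, I_n ⊆ W for the ideal of Witt vectors whose first n components vanish
(the kernel of the truncation W → W_n(R), so W/I_n = W_n(R)). For a W-module P conditions (i) and
(ii) below are equivalent: (i) P is a projective W-module of finite type; (ii) P is separated for
the filtration by the submodules I_n P, and for every n the W_n(R)-module P/I_n P is finitely
generated and projective. (The published statement is made for every ℤ_(p)-algebra R, the section's
standing convention; over R = ℚ, where W(ℚ) ≅ ℚ^ℕ by the ghost map, the module ⊕_ℕ ℚ satisfies (ii)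
but is not finitely generated, and the published proof uses that I_1 is nilpotent in each W_n(R),
which holds when p is nilpotent in R; so p is taken nilpotent here. The third equivalent condition
of the published statement, freeness Zariski-locally on R, is not rendered.) -/
theorem result (p : ℕ) [Fact p.Prime] (R : Type u) [CommRing R]
    (hp : IsNilpotent (p : R))
    (P : Type v) [AddCommGroup P] [Module (WittVector p R) P] :
    (Module.Finite (WittVector p R) P ∧ Module.Projective (WittVector p R) P) ↔
      ((⨅ n : ℕ, (RingHom.ker (WittVector.truncate (p := p) (R := R) n) • (⊤ : Submodule (WittVector p R) P))) = ⊥ ∧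
        ∀ n : ℕ, Module.Finite (WittVector p R ⧸ RingHom.ker (WittVector.truncate (p := p) (R := R) n))
              (P ⧸ (RingHom.ker (WittVector.truncate (p := p) (R := R) n) • (⊤ : Submodule (WittVector p R) P))) ∧
            Module.Projective (WittVector p R ⧸ RingHom.ker (WittVector.truncate (p := p) (R := R) n))
              (P ⧸ (RingHom.ker (WittVector.truncate (p := p) (R := R) n) • (⊤ : Submodule (WittVector p R) P)))) := by
  classical
  constructor
  · rintro ⟨hfin, hproj⟩
    refine ⟨?_, fun n => ⟨?_, ?_⟩⟩
    · obtain ⟨r, s₀, i₀, -, -, hsi⟩ :=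
        Module.Finite.exists_comp_eq_id_of_projective (WittVector p R) P
      rw [eq_bot_iff]
      intro x hx
      rw [Submodule.mem_iInf] at hx
      have h1 : i₀ x = 0 := by
        apply eq_zero_of_forall_mem
        intro n
        exact map_mem_smul_top (In p R n) i₀ x (hx n)
      have h2 : x = s₀ (i₀ x) := (LinearMap.congr_fun hsi x).symm
      rw [Submodule.mem_bot, h2, h1, map_zero]
    · exact Module.Finite.of_restrictScalars_finite (WittVector p R) _ _
    · exact projective_quotient _ P
  · rintro ⟨hsep, hn⟩
    have hsurjalg : Function.Surjective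
        (algebraMap (WittVector p R) (WittVector p R ⧸ In p R 1)) := Ideal.Quotient.mk_surjective
    have hfin1 : Module.Finite (WittVector p R)
        (P ⧸ (In p R 1 • ⊤ : Submodule (WittVector p R) P)) := by
      have := (hn 1).1
      have : Module.Finite (WittVector p R) (WittVector p R ⧸ In p R 1) :=
        Module.Finite.of_surjective (Algebra.linearMap _ _) hsurjalg
      exact Module.Finite.trans (WittVector p R ⧸ In p R 1) _
    obtain ⟨r, s, hs⟩ := Module.Finite.exists_fin (R := WittVector p R)
      (M := P ⧸ (In p R 1 • ⊤ : Submodule (WittVector p R) P))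
    choose ω hω using fun i => Submodule.mkQ_surjective _ (s i)
    let f : (Fin r → WittVector p R) →ₗ[WittVector p R] P :=
      Fintype.linearCombination (WittVector p R) ω
    have hf1 : Function.Surjective
        ((In p R 1 • ⊤ : Submodule (WittVector p R) P).mkQ ∘ₗ f) := by
      rw [← LinearMap.range_eq_top, LinearMap.range_comp, Fintype.range_linearCombination,
        Submodule.map_span, ← Set.range_comp]
      have : (⇑(In p R 1 • ⊤ : Submodule (WittVector p R) P).mkQ ∘ ω) = s := funext hω
      rw [this, hs]
    exact finite_projective f hp hf1 (fun n => (hn n).2) hsep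

end Groth.Agent.S14860
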