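import Groth.Statements.S16222
import Groth.Agent.Lib.Helper82.DieudonneProj

set_option autoImplicit false
universe u v
open Disp

namespace Groth.Agent.S16222

/-- Let p be a prime and k a perfect ring of characteristic p, so that the Frobenius σ of W = W(k) is
bijective and W has no p-torsion. Let M be a projective Dieudonné module over k: a finitely
generated projective W-module with a σ-semilinear F : M → M and a σ⁻¹-semilinear V : M → M such that
FV = VF = p. Then the reduction M/pM satisfies the level-one conditions: the preimage of pM under F
is VM + pM, the preimage of pM under V is FM + pM (so Ker F = Im V and Ker V = Im F on M/pM), and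
M/VM, that is M/pM divided by the image of V, is a projective module over W/pW, which the first Witt
component identifies with k. -/
theorem result (p : ℕ) [Fact p.Prime] (k : Type u) [CommRing k]
    [CharP k p] [PerfectRing k p]
    (M : Type v) [AddCommGroup M] [Module (WittVector p k) M] [Module.Finite (WittVector p k) M] [Module.Projective (WittVector p k) M]
    (F : M →ₛₗ[(WittVector.frobenius : WittVector p k →+* WittVector p k)] M)
    (V : M →ₛₗ[((WittVector.frobeniusEquiv p k).symm : WittVector p k →+* WittVector p k)] M)
    (hFV : ∀ m : M, F (V m) = (p : WittVector p k) • m) (hVF : ∀ m : M, V (F m) = (p : WittVector p k) • m) :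
    ((Ideal.span {(p : WittVector p k)} • (⊤ : Submodule (WittVector p k) M)).comap F =
        Submodule.span (WittVector p k) (Set.range V) ⊔ Ideal.span {(p : WittVector p k)} • (⊤ : Submodule (WittVector p k) M) ∧
      (Ideal.span {(p : WittVector p k)} • (⊤ : Submodule (WittVector p k) M)).comap V =
        Submodule.span (WittVector p k) (Set.range F) ⊔ Ideal.span {(p : WittVector p k)} • (⊤ : Submodule (WittVector p k) M)) ∧
    Module.Projective (WittVector p k ⧸ Ideal.span {(p : WittVector p k)})
      ((M ⧸ (Ideal.span {(p : WittVector p k)} • (⊤ : Submodule (WittVector p k) M))) ⧸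
        Submodule.span (WittVector p k ⧸ Ideal.span {(p : WittVector p k)})
          (Set.range fun m : M => (Ideal.span {(p : WittVector p k)} • (⊤ : Submodule (WittVector p k) M)).mkQ (V m))) := by
  have htors : ∀ x : M, (p : WittVector p k) • x = 0 → ∃ z, x = (p : WittVector p k) • z := by
    intro x hx
    refine ⟨0, ?_⟩
    rw [smul_zero]
    exact Groth.Agent.Lib.Helper82.DieudonneProj.eq_zero_of_natCast_smul_eq_zero_of_projective x hx
  have hproj : Module.Projective (WittVector p k ⧸ Ideal.span {(p : WittVector p k)})
      (M ⧸ (Ideal.span {(p : WittVector p k)} • (⊤ : Submodule (WittVector p k) M))) :=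
    Groth.Agent.Lib.Helper82.DieudonneProj.projective_quotient_smul_top _
  refine ⟨⟨Groth.Agent.Lib.Helper82.Dieudonne.comap_eq (p : WittVector p k) (map_natCast _ p)
      (map_natCast _ p) F V hFV hVF htors,
    Groth.Agent.Lib.Helper82.Dieudonne.comap_eq (p : WittVector p k) (map_natCast _ p)
      (map_natCast _ p) V F hVF hFV htors⟩, ?_⟩
  exact Groth.Agent.Lib.Helper82.DieudonneProj.projective_quotient F V hFV hVF
    (fun 𝔭 _ x hx => Submodule.mem_sup_left
      (Groth.Agent.Lib.Helper82.DieudonneProj.mem_of_natCast_smul_mem_of_projective 𝔭 x hx))

end Groth.Agent.S16222
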