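import Groth.Statements.S14863
import Mathlib
import Groth.Prelude.Def_Dieu
import Groth.Prelude.Def_W4c1extbt610Disp
import Groth.Agent.S14858
import Groth.Agent.S16222

set_option autoImplicit false
universe u v
open Disp

namespace Groth.Agent.S14863

open Dieu WittVector

section

variable {p : ℕ} [Fact p.Prime] {k : Type u} [CommRing k] [CharP k p] [PerfectRing k p]
variable {M : Type v} [AddCommGroup M] [Module (WittVector p k) M]

local notation "σ" => (WittVector.frobenius : WittVector p k →+* WittVector p k)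
set_option quotPrecheck false in
local notation "σi" => ((WittVector.frobeniusEquiv p k).symm : WittVector p k →+* WittVector p k)

lemma σ_σi (a : WittVector p k) : σ (σi a) = a :=
  (WittVector.frobeniusEquiv p k).apply_symm_apply a

lemma σi_σ (a : WittVector p k) : σi (σ a) = a :=
  (WittVector.frobeniusEquiv p k).symm_apply_apply a

lemma verschiebung_eq (w : WittVector p k) : WittVector.verschiebung w = σi w * p := by
  conv_lhs => rw [← σ_σi w]
  exact WittVector.verschiebung_frobenius _

lemma IV_eq_span : W4c1extbt610.IV p k = Ideal.span {(p : WittVector p k)} := by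
  apply le_antisymm
  · rw [W4c1extbt610.IV, Ideal.span_le]
    rintro _ ⟨w, rfl⟩
    rw [SetLike.mem_coe, verschiebung_eq]
    exact Ideal.mul_mem_left _ _ (Ideal.mem_span_singleton_self _)
  · rw [Ideal.span_le, Set.singleton_subset_iff, SetLike.mem_coe]
    have : (p : WittVector p k) = WittVector.verschiebung (1 : WittVector p k) := by
      rw [verschiebung_eq, map_one, one_mul]
    rw [this]
    exact W4c1extbt610.verschiebung_mem_IV p k 1

lemma p_smul_eq_zero [Module.Projective (WittVector p k) M] {m : M}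
    (h : (p : WittVector p k) • m = 0) : m = 0 := by
  obtain ⟨s, hs⟩ := (Module.projective_def'.mp (inferInstance : Module.Projective (WittVector p k) M))
  have h1 : (p : WittVector p k) • s m = 0 := by rw [← map_smul, h, map_zero]
  have h2 : s m = 0 := by
    refine Finsupp.ext fun i => ?_
    have := congr($h1 i)
    simp only [Finsupp.smul_apply, smul_eq_mul, Finsupp.zero_apply] at this
    exact Groth.Agent.Lib.Helper82.Dieudonne.p_mul_eq_zero p k this
  have := congr($hs m)
  simp only [LinearMap.comp_apply, h2, map_zero, LinearMap.id_apply] at this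
  exact this.symm

end

section Construction

variable {p : ℕ} [Fact p.Prime] {k : Type u} [CommRing k] [CharP k p] [PerfectRing k p]
variable {M : Type v} [AddCommGroup M] [Module (WittVector p k) M]
variable [Module.Finite (WittVector p k) M] [Module.Projective (WittVector p k) M]

local notation "σ" => (WittVector.frobenius : WittVector p k →+* WittVector p k)
set_option quotPrecheck false in
local notation "σi" => ((WittVector.frobeniusEquiv p k).symm : WittVector p k →+* WittVector p k)

variable (F : M →ₛₗ[(WittVector.frobenius : WittVector p k →+* WittVector p k)] M)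
  (V : M →ₛₗ[((WittVector.frobeniusEquiv p k).symm : WittVector p k →+* WittVector p k)] M)
  (hFV : ∀ m : M, F (V m) = (p : WittVector p k) • m)
  (hVF : ∀ m : M, V (F m) = (p : WittVector p k) • m)

include hFV in
lemma V_injective : Function.Injective V := by
  rw [injective_iff_map_eq_zero]
  intro m hm
  apply p_smul_eq_zero (p := p) (k := k)
  rw [← hFV, hm, map_zero]

/-- The submodule `V M`. -/
def Qsub : Submodule (WittVector p k) M where
  carrier := Set.range V
  add_mem' := by rintro _ _ ⟨a, rfl⟩ ⟨b, rfl⟩; exact ⟨a + b, map_add V a b⟩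
  zero_mem' := ⟨0, map_zero V⟩
  smul_mem' := by
    rintro w _ ⟨a, rfl⟩
    exact ⟨σ w • a, by rw [LinearMap.map_smulₛₗ, σi_σ]⟩

lemma mem_Qsub (x : M) : x ∈ Qsub V ↔ x ∈ Set.range V := Iff.rfl

include hVF in
lemma p_smul_mem_Qsub (m : M) : (p : WittVector p k) • m ∈ Qsub V := ⟨F m, hVF m⟩

include hFV hVF in
lemma exists_compl : ∃ C : Submodule (WittVector p k) M,
    Qsub V ⊔ C = ⊤ ∧
      Qsub V ⊓ C = W4c1extbt610.IV p k • (⊤ : Submodule (WittVector p k) M) := by
  obtain ⟨-, hproj⟩ := Groth.Agent.S16222.result p k M F V hFV hVF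
  rw [IV_eq_span]
  set I : Ideal (WittVector p k) := Ideal.span {(p : WittVector p k)} with hI
  set pM : Submodule (WittVector p k) M := I • ⊤ with hpM
  set Vbar : Submodule (WittVector p k ⧸ I) (M ⧸ pM) :=
    Submodule.span _ (Set.range fun m : M => pM.mkQ (V m)) with hVbar
  obtain ⟨s, hs⟩ := Module.projective_lifting_property Vbar.mkQ LinearMap.id
    (Submodule.mkQ_surjective _)
  have hs' : ∀ n, Vbar.mkQ (s n) = n := fun n => congr($hs n)
  -- elements of `Vbar` come from `Q`
  have hVbar_mem : ∀ y ∈ Vbar, ∃ q ∈ Qsub V, pM.mkQ q = y := by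
    intro y hy
    induction hy using Submodule.span_induction with
    | mem y hy => obtain ⟨m, rfl⟩ := hy; exact ⟨V m, ⟨m, rfl⟩, rfl⟩
    | zero => exact ⟨0, Submodule.zero_mem _, map_zero _⟩
    | add y z _ _ hy hz =>
      obtain ⟨q, hq, rfl⟩ := hy
      obtain ⟨q', hq', rfl⟩ := hz
      exact ⟨q + q', Submodule.add_mem _ hq hq', map_add _ _ _⟩
    | smul a y _ hy =>
      obtain ⟨q, hq, rfl⟩ := hy
      obtain ⟨w, rfl⟩ := Ideal.Quotient.mk_surjective a
      exact ⟨w • q, Submodule.smul_mem _ _ hq, rfl⟩
  have hpM_mem : ∀ x : M, pM.mkQ x = 0 → ∃ m : M, x = (p : WittVector p k) • m := by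
    intro x hx
    rw [Submodule.mkQ_apply, Submodule.Quotient.mk_eq_zero, hpM, hI,
      Submodule.ideal_span_singleton_smul, Submodule.mem_smul_pointwise_iff_exists] at hx
    obtain ⟨m, -, rfl⟩ := hx
    exact ⟨m, rfl⟩
  have hp_mkQ : ∀ m : M, pM.mkQ ((p : WittVector p k) • m) = 0 := by
    intro m
    rw [Submodule.mkQ_apply, Submodule.Quotient.mk_eq_zero]
    exact Submodule.smul_mem_smul (Ideal.mem_span_singleton_self _) trivial
  let C : Submodule (WittVector p k) M :=
    { carrier := {x | pM.mkQ x ∈ LinearMap.range s}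
      add_mem' := by
        intro x y hx hy
        change pM.mkQ (x + y) ∈ LinearMap.range s
        rw [map_add]; exact Submodule.add_mem _ hx hy
      zero_mem' := by
        change pM.mkQ 0 ∈ LinearMap.range s
        rw [map_zero]; exact Submodule.zero_mem _
      smul_mem' := by
        intro w x hx
        change pM.mkQ (w • x) ∈ LinearMap.range s
        have : pM.mkQ (w • x) = Ideal.Quotient.mk I w • pM.mkQ x := rfl
        rw [this]
        exact Submodule.smul_mem _ _ hx }
  have hC : ∀ x, x ∈ C ↔ pM.mkQ x ∈ LinearMap.range s := fun x => Iff.rfl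
  refine ⟨C, ?_, ?_⟩
  · rw [eq_top_iff]
    intro x _
    have h1 : pM.mkQ x - s (Vbar.mkQ (pM.mkQ x)) ∈ Vbar := by
      rw [← Submodule.Quotient.mk_eq_zero, ← Submodule.mkQ_apply, map_sub, hs', sub_self]
    obtain ⟨q, hq, hq'⟩ := hVbar_mem _ h1
    obtain ⟨c, hc⟩ := pM.mkQ_surjective (s (Vbar.mkQ (pM.mkQ x)))
    have hcC : c ∈ C := (hC c).mpr ⟨_, hc.symm⟩
    have h2 : pM.mkQ (x - q - c) = 0 := by
      rw [map_sub, map_sub, hq', hc]; abel
    obtain ⟨m, hm⟩ := hpM_mem _ h2
    have hmC : (p : WittVector p k) • m ∈ C := by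
      rw [hC, hp_mkQ]; exact Submodule.zero_mem _
    have : x = q + (c + (p : WittVector p k) • m) := by rw [← hm]; abel
    rw [this]
    exact Submodule.add_mem_sup hq (Submodule.add_mem _ hcC hmC)
  · apply le_antisymm
    · rintro x ⟨hxQ, hxC⟩
      obtain ⟨m, rfl⟩ := hxQ
      obtain ⟨n, hn⟩ := (hC _).mp hxC
      have h1 : pM.mkQ (V m) ∈ Vbar := Submodule.subset_span ⟨m, rfl⟩
      have h2 : n = 0 := by
        rw [← hs' n, hn, Submodule.mkQ_apply, Submodule.Quotient.mk_eq_zero]
        exact h1
      rw [h2, map_zero] at hn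
      obtain ⟨m', hm'⟩ := hpM_mem _ hn.symm
      rw [hm']
      exact Submodule.smul_mem_smul (Ideal.mem_span_singleton_self _) trivial
    · rw [Submodule.smul_le]
      intro c hc x _
      obtain ⟨a, rfl⟩ := Ideal.mem_span_singleton'.mp hc
      rw [mul_comm, mul_smul]
      refine ⟨p_smul_mem_Qsub F V hVF _, ?_⟩
      rw [SetLike.mem_coe, hC, hp_mkQ]; exact Submodule.zero_mem _

lemma exists_V_eq (y : Qsub V) : ∃ m : M, V m = y := y.2

/-- The inverse of `V` on its image. -/
noncomputable def Vinv : Qsub V →ₛₗ[(WittVector.frobenius : WittVector p k →+* WittVector p k)] M where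
  toFun y := (exists_V_eq V y).choose
  map_add' y z := by
    apply V_injective F V hFV
    rw [map_add, (exists_V_eq V y).choose_spec, (exists_V_eq V z).choose_spec,
      (exists_V_eq V (y + z)).choose_spec]
    rfl
  map_smul' w y := by
    apply V_injective F V hFV
    rw [LinearMap.map_smulₛₗ, σi_σ, (exists_V_eq V y).choose_spec,
      (exists_V_eq V (w • y)).choose_spec]
    rfl

lemma V_Vinv (y : Qsub V) : V (Vinv F V hFV y) = y := (exists_V_eq V y).choose_spec

lemma Vinv_V (m : M) (h : V m ∈ Qsub V) : Vinv F V hFV ⟨V m, h⟩ = m :=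
  V_injective F V hFV (V_Vinv F V hFV _)

end Construction

theorem result (p : ℕ) [Fact p.Prime] (k : Type u) [CommRing k]
    [CharP k p] [PerfectRing k p]
    (M : Type v) [AddCommGroup M] [Module (WittVector p k) M]
    [Module.Finite (WittVector p k) M] [Module.Projective (WittVector p k) M]
    (F : M →ₛₗ[(WittVector.frobenius : WittVector p k →+* WittVector p k)] M)
    (V : M →ₛₗ[((WittVector.frobeniusEquiv p k).symm : WittVector p k →+* WittVector p k)] M)
    (hFV : ∀ m : M, F (V m) = (p : WittVector p k) • m) (hVF : ∀ m : M, V (F m) = (p : WittVector p k) • m) :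
    ∃ D : W4c1extbt610.Display3n p k M,
      D.F = F ∧ (∀ x : M, x ∈ D.Q ↔ x ∈ Set.range V) ∧
        ∀ (m : M) (h : V m ∈ D.Q), D.Vinv ⟨V m, h⟩ = m := by
  have : IsAdicComplete (Ideal.span {(p : k)}) k := by
    have h0 : (p : k) = 0 := CharP.cast_eq_zero k p
    have : Ideal.span {(p : k)} = ⊥ := by rw [h0]; exact Ideal.span_singleton_eq_bot.mpr rfl
    rw [this]
    infer_instance
  obtain ⟨C, hC1, hC2⟩ := exists_compl F V hFV hVF
  obtain ⟨L, T, hLT, hQ⟩ := Groth.Agent.S14858.result p k M (Qsub V) ⟨C, hC1, hC2⟩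
  have hIV : W4c1extbt610.IV p k • (⊤ : Submodule (WittVector p k) M) ≤ Qsub V := by
    rw [IV_eq_span, Submodule.smul_le]
    intro c hc x _
    obtain ⟨a, rfl⟩ := Ideal.mem_span_singleton'.mp hc
    rw [mul_smul]
    exact Submodule.smul_mem _ _ (p_smul_mem_Qsub F V hVF x)
  refine ⟨{ Q := Qsub V, F := F, Vinv := Vinv F V hFV, finite := inferInstance,
            projective := inferInstance, IV_smul_le := hIV,
            exists_normal := ⟨L, T, hLT, hQ⟩, span_range_Vinv := ?_,
            Vinv_verschiebung_smul := ?_ }, rfl, fun x => Iff.rfl, ?_⟩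
  · rw [eq_top_iff]
    intro m _
    exact Submodule.subset_span ⟨⟨V m, ⟨m, rfl⟩⟩, Vinv_V F V hFV m _⟩
  · intro w x
    apply V_injective F V hFV
    rw [V_Vinv F V hFV, LinearMap.map_smulₛₗ, hVF, smul_smul]
    change WittVector.verschiebung w • x = _
    rw [verschiebung_eq]
  · intro m h
    exact Vinv_V F V hFV m h

end Groth.Agent.S14863
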