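import Groth.Statements.S14867
import Mathlib
import Groth.Agent.Lib.Helper75.WittLiftProjective

set_option autoImplicit false
universe u
open CAlg

namespace Groth.Agent.S14867

open Groth.Agent.Lib.Helper75.WittTruncFiltration Groth.Agent.Lib.Helper75.WittLiftProjective
open Groth.Agent.Lib.Helper75.HomQuotientSystems

/-- the kernel of `W(S) → W(R)` lies in the Jacobson radical. -/
lemma ker_le_jacobson (p : ℕ) [Fact p.Prime] (S R : Type u)
    [CommRing S] [CommRing R] (φ : S →+* R)
    (hnil : ∀ a : S, φ a = 0 → IsNilpotent a) (hp : IsNilpotent (p : S)) :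
    RingHom.ker (WittVector.map (p := p) φ) ≤ (⊥ : Ideal (WittVector p S)).jacobson := by
  have hW : IsAdicComplete (In p S 1) (WittVector p S) := isAdicComplete_In_one hp
  have hjac : In p S 1 ≤ (⊥ : Ideal (WittVector p S)).jacobson :=
    IsAdicComplete.le_jacobson_bot (In p S 1)
  intro x hx
  rw [Ideal.mem_jacobson_bot]
  intro y
  set u := x * y + 1 with hu
  have hx0 : IsNilpotent (x.coeff 0) := by
    apply hnil
    rw [RingHom.mem_ker] at hx
    have := congrArg (fun w => w.coeff 0) hx
    simpa [WittVector.map_coeff] using this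
  have hu0 : IsUnit (u.coeff 0) := by
    have h1 : u.coeff 0 = x.coeff 0 * y.coeff 0 + 1 := by
      rw [hu, WittVector.add_coeff_zero, WittVector.mul_coeff_zero, WittVector.one_coeff_zero]
    rw [h1]
    exact (Commute.isNilpotent_mul_right (Commute.all _ _) hx0).isUnit_add_one
  obtain ⟨c, hc⟩ := hu0
  have h2 : u * WittVector.teichmuller p (↑c⁻¹ : S) - 1 ∈ In p S 1 := by
    rw [In_one, RingHom.mem_ker, map_sub, map_mul, map_one]
    have h3 : (WittVector.constantCoeff : WittVector p S →+* S) u = u.coeff 0 := rfl
    have h4 : (WittVector.constantCoeff : WittVector p S →+* S) (WittVector.teichmuller p (↑c⁻¹ : S)) =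
        (↑c⁻¹ : S) := WittVector.teichmuller_coeff_zero p _
    rw [h3, h4, ← hc, Units.mul_inv, sub_self]
  have h5 := Ideal.isUnit_of_sub_one_mem_jacobson_bot _ (hjac h2)
  exact isUnit_of_mul_isUnit_left h5

/-- uniqueness of lifts of projective modules along a surjection with kernel in the radical. -/
lemma exists_equiv_of_lifts {A B : Type u} [CommRing A] [CommRing B] (Φ : A →+* B)
    (hJ : RingHom.ker Φ ≤ (⊥ : Ideal A).jacobson)
    {P : Type u} [AddCommGroup P] [Module B P]
    (P₁ : Type u) [AddCommGroup P₁] [Module A P₁] [Module.Finite A P₁] [Module.Projective A P₁]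
    (P₂ : Type u) [AddCommGroup P₂] [Module A P₂] [Module.Finite A P₂] [Module.Projective A P₂]
    (π₁ : P₁ →ₛₗ[Φ] P) (π₂ : P₂ →ₛₗ[Φ] P)
    (hs₁ : Function.Surjective π₁)
    (hk₁ : LinearMap.ker π₁ = RingHom.ker Φ • (⊤ : Submodule A P₁))
    (hs₂ : Function.Surjective π₂)
    (hk₂ : LinearMap.ker π₂ = RingHom.ker Φ • (⊤ : Submodule A P₂)) :
    ∃ e : P₁ ≃ₗ[A] P₂, ∀ x : P₁, π₂ (e x) = π₁ x := by
  let _ : Module A P := Module.compHom P Φ
  let π₁' : P₁ →ₗ[A] P :=
    { toFun := π₁, map_add' := π₁.map_add, map_smul' := fun c x => π₁.map_smulₛₗ c x }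
  let π₂' : P₂ →ₗ[A] P :=
    { toFun := π₂, map_add' := π₂.map_add, map_smul' := fun c x => π₂.map_smulₛₗ c x }
  obtain ⟨e, he⟩ := Module.projective_lifting_property π₂' π₁' hs₂
  have he' : ∀ x, π₂ (e x) = π₁ x := fun x => LinearMap.congr_fun he x
  have hesurj : Function.Surjective e := by
    rw [← LinearMap.range_eq_top, eq_top_iff]
    apply Submodule.le_of_le_smul_of_le_jacobson_bot (I := RingHom.ker Φ) Module.Finite.fg_top hJ
    intro y _
    obtain ⟨x, hx⟩ := hs₁ (π₂ y)
    have h1 : y - e x ∈ LinearMap.ker π₂ := by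
      rw [LinearMap.mem_ker, map_sub, he', hx, sub_self]
    rw [hk₂] at h1
    have h2 : y = e x + (y - e x) := by abel
    rw [h2]
    exact Submodule.add_mem_sup (LinearMap.mem_range_self e x) h1
  obtain ⟨t, ht⟩ := Module.projective_lifting_property e LinearMap.id hesurj
  have ht' : ∀ y, e (t y) = y := fun y => LinearMap.congr_fun ht y
  set ψ : P₁ →ₗ[A] P₁ := LinearMap.id - t ∘ₗ e with hψ
  have hKψ : LinearMap.ker e = LinearMap.range ψ := by
    apply le_antisymm
    · intro x hx
      rw [LinearMap.mem_ker] at hx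
      refine ⟨x, ?_⟩
      rw [hψ, LinearMap.sub_apply, LinearMap.id_apply, LinearMap.comp_apply, hx, map_zero, sub_zero]
    · rintro _ ⟨x, rfl⟩
      rw [LinearMap.mem_ker, hψ, LinearMap.sub_apply, LinearMap.id_apply, LinearMap.comp_apply,
        map_sub, ht', sub_self]
  have hKfg : (LinearMap.ker e).FG := by
    rw [hKψ, LinearMap.range_eq_map]
    exact Module.Finite.fg_top.map ψ
  have hKle : LinearMap.ker e ≤ RingHom.ker Φ • LinearMap.ker e := by
    intro x hx
    have hx' := hx
    rw [LinearMap.mem_ker] at hx'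
    have h1 : x ∈ LinearMap.ker π₁ := by
      rw [LinearMap.mem_ker, ← he', hx', map_zero]
    rw [hk₁] at h1
    have h2 : ψ x = x := by
      rw [hψ, LinearMap.sub_apply, LinearMap.id_apply, LinearMap.comp_apply, hx', map_zero, sub_zero]
    have h3 : ψ x ∈ Submodule.map ψ (RingHom.ker Φ • ⊤) := Submodule.mem_map_of_mem h1
    rw [Submodule.map_smul'', Submodule.map_top, ← hKψ, h2] at h3
    exact h3
  have hK : LinearMap.ker e = ⊥ :=
    Submodule.eq_bot_of_le_smul_of_le_jacobson_bot _ _ hKfg hKle hJ
  exact ⟨LinearEquiv.ofBijective e ⟨LinearMap.ker_eq_bot.mp hK, hesurj⟩, he'⟩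


/-- Let p be a prime and S → R a surjective homomorphism of commutative rings such that every element of
its kernel 𝔞 is nilpotent and p is nilpotent in S; write J = W(𝔞) for the kernel of the induced
surjection W(S) → W(R) of rings of p-typical Witt vectors. Then finitely generated projective
modules lift along W(S) → W(R), uniquely up to isomorphism: for every finitely generated projective
W(R)-module P there is a finitely generated projective W(S)-module P̃ together with a surjection P̃
→ P, semilinear over W(S) → W(R), whose kernel is J·P̃ (that is, an isomorphism W(R) ⊗_{W(S)} P̃ ≅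
P); and for any two such pairs (P̃_1, π_1), (P̃_2, π_2) there is a W(S)-linear isomorphism P̃_1 ≅
P̃_2 compatible with π_1 and π_2. -/
theorem result (p : ℕ) [Fact p.Prime] (S R : Type u)
    [CommRing S] [CommRing R] (φ : S →+* R) (hφ : Function.Surjective φ)
    (hnil : ∀ a : S, φ a = 0 → IsNilpotent a) (hp : IsNilpotent (p : S))
    (P : Type u) [AddCommGroup P] [Module (WittVector p R) P]
    [Module.Finite (WittVector p R) P] [Module.Projective (WittVector p R) P] :
    (∃ (P' : Type u) (_ : AddCommGroup P') (_ : Module (WittVector p S) P'),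
        Module.Finite (WittVector p S) P' ∧ Module.Projective (WittVector p S) P' ∧
          ∃ π : P' →ₛₗ[WittVector.map (p := p) φ] P, Function.Surjective π ∧
            LinearMap.ker π = RingHom.ker (WittVector.map (p := p) φ) • (⊤ : Submodule (WittVector p S) P')) ∧
      ∀ (P₁ : Type u) [AddCommGroup P₁] [Module (WittVector p S) P₁]
        [Module.Finite (WittVector p S) P₁] [Module.Projective (WittVector p S) P₁]
        (P₂ : Type u) [AddCommGroup P₂] [Module (WittVector p S) P₂]
        [Module.Finite (WittVector p S) P₂] [Module.Projective (WittVector p S) P₂]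
        (π₁ : P₁ →ₛₗ[WittVector.map (p := p) φ] P) (π₂ : P₂ →ₛₗ[WittVector.map (p := p) φ] P),
        Function.Surjective π₁ →
          LinearMap.ker π₁ = RingHom.ker (WittVector.map (p := p) φ) • (⊤ : Submodule (WittVector p S) P₁) →
        Function.Surjective π₂ →
          LinearMap.ker π₂ = RingHom.ker (WittVector.map (p := p) φ) • (⊤ : Submodule (WittVector p S) P₂) →
        ∃ e : P₁ ≃ₗ[WittVector p S] P₂, ∀ x : P₁, π₂ (e x) = π₁ x := by
  classical
  refine ⟨?_, ?_⟩
  · obtain ⟨r, s₀, i₀, -, -, hsi⟩ :=
      Module.Finite.exists_comp_eq_id_of_projective (WittVector p R) P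
    have hsi' : ∀ y, s₀ (i₀ y) = y := fun y => LinearMap.congr_fun hsi y
    set E : Matrix (Fin r) (Fin r) (WittVector p R) := LinearMap.toMatrix' (i₀ ∘ₗ s₀) with hE
    have hEE : E * E = E := by
      rw [hE, ← LinearMap.toMatrix'_comp]
      congr 1
      apply LinearMap.ext
      intro x
      rw [LinearMap.comp_apply, LinearMap.comp_apply, LinearMap.comp_apply, hsi']
    have hEmul : ∀ v, E.mulVec v = i₀ (s₀ v) := by
      intro v
      rw [← Matrix.toLin'_apply, hE, Matrix.toLin'_toMatrix']
      rfl
    obtain ⟨e, hee, hcompat⟩ := exists_idempotent_lift_matrix φ hφ hnil hp E hEE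
    set G : Submodule (WittVector p S) (Fin r → WittVector p S) := LinearMap.range e with hG
    set ê : (Fin r → WittVector p S) →ₗ[WittVector p S] G := e.rangeRestrict with hê
    have hêz : ∀ z : G, ê (z : Fin r → WittVector p S) = z := by
      rintro ⟨_, x, rfl⟩
      apply Subtype.ext
      exact hee x
    have hsplit : ê ∘ₗ G.subtype = LinearMap.id := by
      ext1 z
      exact hêz z
    let π : G →ₛₗ[WittVector.map (p := p) φ] P :=
      { toFun := fun z => s₀ (mapVec φ r (z : Fin r → WittVector p S))
        map_add' := fun x y => by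
          simp only [Submodule.coe_add, map_add]
        map_smul' := fun c x => by
          simp only [Submodule.coe_smul, mapVec_smul, map_smul] }
    have hπ : ∀ z : G, π z = s₀ (mapVec φ r (z : Fin r → WittVector p S)) := fun z => rfl
    refine ⟨G, inferInstance, inferInstance, Module.Finite.of_surjective ê ?_,
      Module.Projective.of_split _ _ hsplit, π, ?_, ?_⟩
    · intro z
      exact ⟨z, hêz z⟩
    · intro y
      obtain ⟨x', hx'⟩ := mapVec_surjective (p := p) (r := r) φ hφ (i₀ y)
      refine ⟨ê x', ?_⟩
      rw [hπ]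
      have h1 : ((ê x' : G) : Fin r → WittVector p S) = e x' := rfl
      rw [h1, hcompat, hx', hEmul, hsi', hsi']
    · apply le_antisymm
      · intro x hx
        rw [LinearMap.mem_ker, hπ] at hx
        have h1 : mapVec φ r (x : Fin r → WittVector p S) = 0 := by
          have h2 : (x : Fin r → WittVector p S) = e x := by
            have := congrArg Subtype.val (hêz x)
            exact this.symm
          rw [h2, hcompat, hEmul, hx, map_zero]
        rw [mapVec_eq_zero_iff] at h1
        have h3 := map_mem_smul_top _ ê _ h1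
        rwa [hêz] at h3
      · intro x hx
        refine Submodule.smul_induction_on (p := fun x => x ∈ LinearMap.ker π) hx ?_ ?_
        · intro c hc z _
          rw [LinearMap.mem_ker, map_smulₛₗ, RingHom.mem_ker.mp hc, zero_smul]
        · intro a b ha hb
          exact Submodule.add_mem _ ha hb
  · intro P₁ _ _ _ _ P₂ _ _ _ _ π₁ π₂ hs₁ hk₁ hs₂ hk₂
    exact exists_equiv_of_lifts (WittVector.map φ) (ker_le_jacobson p S R φ hnil hp) P₁ P₂ π₁ π₂
      hs₁ hk₁ hs₂ hk₂

end Groth.Agent.S14867
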