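import Groth.Statements.S14869
import Mathlib.RingTheory.TensorProduct.Basic
import Mathlib.Algebra.Module.Projective
import Mathlib.LinearAlgebra.TensorProduct.Tower

set_option autoImplicit false
universe u v w
open CAlg

namespace Groth.Agent.S14869

open TensorProduct in
/-- Let S → R be a surjective homomorphism of commutative rings, let π : P_1 → P_2 be a surjective
homomorphism of S-modules with P_2 projective, and let π̄ : R ⊗_S P_1 → R ⊗_S P_2 be its base
change. Then every R-linear section σ̄ of π̄ lifts to a section of π: there is an S-linear map σ :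
P_2 → P_1 with π ∘ σ = id whose base change R ⊗_S σ is σ̄. -/
theorem result (S R : Type u) [CommRing S] [CommRing R] [Algebra S R]
    (hSR : Function.Surjective (algebraMap S R))
    (P₁ : Type v) [AddCommGroup P₁] [Module S P₁]
    (P₂ : Type w) [AddCommGroup P₂] [Module S P₂] [Module.Projective S P₂]
    (π : P₁ →ₗ[S] P₂) (hπ : Function.Surjective π)
    (σ' : R ⊗[S] P₂ →ₗ[R] R ⊗[S] P₁) (hσ' : (π.baseChange R).comp σ' = LinearMap.id) :
    ∃ σ : P₂ →ₗ[S] P₁, π.comp σ = LinearMap.id ∧ σ.baseChange R = σ' := by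
  classical
  -- a first section of π
  obtain ⟨σ₀, hσ₀⟩ := Module.projective_lifting_property π LinearMap.id hπ
  -- the S-linear map q : P₁ → R ⊗ P₁
  let q : P₁ →ₗ[S] R ⊗[S] P₁ := TensorProduct.mk S R P₁ 1
  have hq : Function.Surjective q := TensorProduct.mk_surjective S P₁ R hSR
  -- the error term
  let f : P₂ →ₗ[S] R ⊗[S] P₁ :=
    (σ'.restrictScalars S).comp (TensorProduct.mk S R P₂ 1) - q.comp σ₀
  obtain ⟨δ₀, hδ₀⟩ := Module.projective_lifting_property q f hq
  -- projection onto the kernel of π
  let pr : P₁ →ₗ[S] P₁ := LinearMap.id - σ₀.comp π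
  have hπpr : π.comp pr = 0 := by
    ext y
    have := LinearMap.congr_fun hσ₀ (π y)
    simp only [LinearMap.comp_apply, LinearMap.id_apply] at this
    simp [pr, this]
  refine ⟨σ₀ + pr.comp δ₀, ?_, ?_⟩
  · rw [LinearMap.comp_add, hσ₀, ← LinearMap.comp_assoc, hπpr, LinearMap.zero_comp, add_zero]
  · apply TensorProduct.AlgebraTensorModule.ext
    intro r x
    have hx : σ' ((1 : R) ⊗ₜ[S] x) = (1 : R) ⊗ₜ[S] σ₀ x + (1 : R) ⊗ₜ[S] pr (δ₀ x) := by
      have h1 : q (δ₀ x) = f x := LinearMap.congr_fun hδ₀ x
      have h2 : f x = σ' ((1 : R) ⊗ₜ[S] x) - (1 : R) ⊗ₜ[S] σ₀ x := by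
        simp [f, q]
      have h3 : (π.baseChange R) (f x) = 0 := by
        rw [h2, map_sub]
        have := LinearMap.congr_fun hσ' ((1 : R) ⊗ₜ[S] x)
        simp only [LinearMap.comp_apply, LinearMap.id_apply] at this
        rw [this]
        have h4 := LinearMap.congr_fun hσ₀ x
        simp only [LinearMap.comp_apply, LinearMap.id_apply] at h4
        simp [h4]
      have h5 : (1 : R) ⊗ₜ[S] pr (δ₀ x) = f x := by
        have : (1 : R) ⊗ₜ[S] pr (δ₀ x) = (pr.baseChange R) (q (δ₀ x)) := by
          simp [q]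
        rw [this, h1]
        have h6 : pr.baseChange R = LinearMap.id - (σ₀.baseChange R).comp (π.baseChange R) := by
          apply TensorProduct.AlgebraTensorModule.ext
          intro r y
          simp [pr]
        rw [h6]
        simp [h3]
      rw [h5, h2]; abel
    have hr : r ⊗ₜ[S] x = r • ((1 : R) ⊗ₜ[S] x) := by
      rw [TensorProduct.smul_tmul', smul_eq_mul, mul_one]
    rw [hr, map_smul, map_smul, hx]
    simp

end Groth.Agent.S14869
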