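import Groth.Statements.S14871
import Mathlib.Algebra.Lie.Solvable
import Mathlib.Algebra.Lie.IdealOperations

set_option autoImplicit false
universe u v
open PLie

namespace Groth.Agent.S14871

/-- Let `L` be a finite-dimensional Lie algebra over a field of characteristic `p` equipped with a
`p`-mapping `φ`. Then the solvable radical of `L` is stable under `φ` (it is a `p`-subalgebra). -/
theorem result
    (k : Type u) [Field k] (p : ℕ) [Fact p.Prime] [CharP k p]
    (L : Type v) [LieRing L] [LieAlgebra k L] [Module.Finite k L]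
    (φ : PLie.PMap k p L) (x : L) (hx : x ∈ LieAlgebra.radical k L) :
    φ x ∈ LieAlgebra.radical k L := by
  have hp : 0 < p := (Fact.out : p.Prime).pos
  have : IsNoetherian k L := inferInstance
  set Rd := LieAlgebra.radical k L with hRd
  set y := φ x with hy
  -- brackets with y land in the radical
  have hyR : ∀ z : L, ⁅z, y⁆ ∈ Rd := by
    intro z
    have h1 : ⁅y, z⁆ = (LieAlgebra.ad k L x ^ p) z := by
      have := φ.ad_map x
      rw [hy, ← this]; rfl
    obtain ⟨q, hq⟩ := Nat.exists_eq_succ_of_ne_zero hp.ne'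
    have h2 : ⁅y, z⁆ ∈ Rd := by
      rw [h1, hq, pow_succ', Module.End.mul_apply]
      exact lie_mem_left k L Rd x _ hx
    rw [← lie_skew]
    exact neg_mem h2
  -- the ideal J = Rd + k y
  let J : LieIdeal k L :=
    { (Rd.toSubmodule ⊔ Submodule.span k {y} : Submodule k L) with
      lie_mem := by
        intro z m hm
        obtain ⟨r, hr, w, hw, rfl⟩ := Submodule.mem_sup.1 hm
        obtain ⟨c, rfl⟩ := Submodule.mem_span_singleton.1 hw
        refine Submodule.mem_sup_left ?_
        rw [lie_add, lie_smul]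
        exact add_mem (lie_mem_right k L Rd z r hr) (Submodule.smul_mem _ c (hyR z)) }
  have hJmem : ∀ m : L, m ∈ J ↔ m ∈ (Rd.toSubmodule ⊔ Submodule.span k {y} : Submodule k L) :=
    fun m => Iff.rfl
  have hyJ : y ∈ J := (hJmem y).2 (Submodule.mem_sup_right (Submodule.mem_span_singleton_self y))
  have hJJ : ⁅J, J⁆ ≤ Rd := by
    rw [LieSubmodule.lie_le_iff]
    intro a _ m hm
    obtain ⟨r, hr, w, hw, rfl⟩ := Submodule.mem_sup.1 ((hJmem m).1 hm)
    obtain ⟨c, rfl⟩ := Submodule.mem_span_singleton.1 hw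
    rw [lie_add, lie_smul]
    exact add_mem (lie_mem_right k L Rd a r hr) (Submodule.smul_mem _ c (hyR a))
  have hsolv : LieAlgebra.IsSolvable J := by
    obtain ⟨n, hn⟩ := (LieAlgebra.isSolvable_iff k (L := Rd)).1 inferInstance
    rw [LieIdeal.derivedSeries_eq_bot_iff] at hn
    refine LieAlgebra.IsSolvable.mk (R := k) (k := n + 1) ?_
    rw [LieIdeal.derivedSeries_eq_bot_iff, LieAlgebra.derivedSeriesOfIdeal_add, eq_bot_iff, ← hn]
    apply LieAlgebra.derivedSeriesOfIdeal_mono
    rw [LieAlgebra.derivedSeriesOfIdeal_succ, LieAlgebra.derivedSeriesOfIdeal_zero]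
    exact hJJ
  exact (LieAlgebra.LieIdeal.solvable_iff_le_radical k L J).1 hsolv hyJ

end Groth.Agent.S14871
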