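import Groth.Statements.S14872
import Mathlib.Algebra.Lie.Engel

set_option autoImplicit false
universe u v
open PLie

namespace Groth.Agent.S14872

section
variable {k : Type u} [Field k] {L : Type v} [LieRing L] [LieAlgebra k L]

/-- powers of `ad` on an ideal compared with the ambient Lie algebra -/
theorem coe_ad_pow (I : LieIdeal k L) (x : I) (m : ℕ) (z : I) :
    (((LieAlgebra.ad k I x) ^ m) z : L) = (LieAlgebra.ad k L (x : L) ^ m) (z : L) := by
  induction m generalizing z with
  | zero => simp
  | succ m ih =>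
    rw [pow_succ, pow_succ, Module.End.mul_apply, Module.End.mul_apply, ih]
    simp

/-- an endomorphism shifting a filtration: its powers go down the filtration -/
theorem pow_mem_filtration (F : ℕ → Submodule k L) (T : Module.End k L)
    (hT : ∀ i z, z ∈ F i → T z ∈ F (i + 1)) (m : ℕ) (z : L) (hz : z ∈ F 0) :
    (T ^ m) z ∈ F m := by
  induction m with
  | zero => simpa using hz
  | succ m ih => rw [pow_succ', Module.End.mul_apply]; exact hT m _ ih

end

/-- Let `L` be a finite-dimensional Lie algebra over a field of characteristic `p` equipped with a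
`p`-mapping `φ`, and let `N` be its nilradical, i.e. the ideal of `L` that is nilpotent as a Lie
ring and contains every ideal of `L` nilpotent as a Lie ring. Then `N` is stable under `φ` (it is a
`p`-subalgebra). (The nilradical is given here through its characterising property; it is not the
largest submodule on which `L` acts nilpotently.) -/
theorem result
    (k : Type u) [Field k] (p : ℕ) [Fact p.Prime] [CharP k p]
    (L : Type v) [LieRing L] [LieAlgebra k L] [Module.Finite k L]
    (φ : PLie.PMap k p L) (N : LieIdeal k L) (hN : LieRing.IsNilpotent N)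
    (hmax : ∀ I : LieIdeal k L, LieRing.IsNilpotent I → I ≤ N)
    (x : L) (hx : x ∈ N) : φ x ∈ N := by
  have hp : 0 < p := (Fact.out : p.Prime).pos
  have hnoeth : IsNoetherian k L := inferInstance
  set y := φ x with hy
  -- Step 1: `N` acts nilpotently on `L`
  have hNL : LieModule.IsNilpotent N L := by
    rw [LieModule.isNilpotent_iff_forall' (R := k)]
    rintro ⟨n, hn⟩
    obtain ⟨m, hm⟩ := LieAlgebra.nilpotent_ad_of_nilpotent_algebra k N
    have hEnd : LieModule.toEnd k N L ⟨n, hn⟩ = LieAlgebra.ad k L n := by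
      ext z; rfl
    rw [hEnd]
    refine ⟨m + 1, ?_⟩
    ext z
    rw [pow_succ, Module.End.mul_apply]
    have hz : ⁅n, z⁆ ∈ N := lie_mem_left k L N n z hn
    have h1 := coe_ad_pow N ⟨n, hn⟩ m ⟨⁅n, z⁆, hz⟩
    rw [hm] at h1
    simp only [LinearMap.zero_apply, ZeroMemClass.coe_zero] at h1
    simpa using h1.symm
  obtain ⟨M, hM⟩ := LieModule.IsNilpotent.nilpotent k N L
  -- the filtration
  let F : ℕ → Submodule k L := fun i => (N.lcs L i).toSubmodule
  have hF0 : ∀ z : L, z ∈ F 0 := by
    intro z
    change z ∈ (N.lcs L 0).toSubmodule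
    rw [LieIdeal.lcs_zero]; trivial
  have hFM : F M = ⊥ := by
    change (N.lcs L M).toSubmodule = ⊥
    rw [LieIdeal.coe_lcs_eq, hM]; rfl
  have hFstep : ∀ (n : L), n ∈ N → ∀ i z, z ∈ F i → ⁅n, z⁆ ∈ F (i + 1) := by
    intro n hn i z hz
    change ⁅n, z⁆ ∈ (N.lcs L (i + 1))
    rw [LieIdeal.lcs_succ]
    exact LieSubmodule.lie_mem_lie hn hz
  have hFstab : ∀ (w : L) i z, z ∈ F i → ⁅w, z⁆ ∈ F i := by
    intro w i z hz
    exact (N.lcs L i).lie_mem hz
  -- powers of ad x stabilise the filtration
  have hadpow : ∀ (q : ℕ) i z, z ∈ F i → (LieAlgebra.ad k L x ^ q) z ∈ F i := by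
    intro q
    induction q with
    | zero => intro i z hz; simpa using hz
    | succ q ih =>
      intro i z hz
      rw [pow_succ', Module.End.mul_apply]
      exact hFstab x i _ (ih i z hz)
  -- brackets with y
  have hyz : ∀ z : L, ⁅y, z⁆ = (LieAlgebra.ad k L x ^ p) z := by
    intro z
    have := φ.ad_map x
    rw [hy, ← this]; rfl
  obtain ⟨q, hq⟩ := Nat.exists_eq_succ_of_ne_zero hp.ne'
  have hyF : ∀ i z, z ∈ F i → ⁅y, z⁆ ∈ F (i + 1) := by
    intro i z hz
    rw [hyz, hq, pow_succ', Module.End.mul_apply]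
    exact hFstep x hx i _ (hadpow q i z hz)
  have hyN : ∀ z : L, ⁅z, y⁆ ∈ N := by
    intro z
    have h2 : ⁅y, z⁆ ∈ N := by
      rw [hyz, hq, pow_succ', Module.End.mul_apply]
      exact lie_mem_left k L N x _ hx
    rw [← lie_skew]
    exact neg_mem h2
  -- the ideal J = N + k y
  let J : LieIdeal k L :=
    { (N.toSubmodule ⊔ Submodule.span k {y} : Submodule k L) with
      lie_mem := by
        intro z m hm
        obtain ⟨r, hr, w, hw, rfl⟩ := Submodule.mem_sup.1 hm
        obtain ⟨c, rfl⟩ := Submodule.mem_span_singleton.1 hw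
        refine Submodule.mem_sup_left ?_
        rw [lie_add, lie_smul]
        exact add_mem (lie_mem_right k L N z r hr) (Submodule.smul_mem _ c (hyN z)) }
  have hJmem : ∀ m : L, m ∈ J ↔ m ∈ (N.toSubmodule ⊔ Submodule.span k {y} : Submodule k L) :=
    fun m => Iff.rfl
  have hyJ : y ∈ J := (hJmem y).2 (Submodule.mem_sup_right (Submodule.mem_span_singleton_self y))
  -- every element of J is ad-nilpotent on L
  have hJnil : ∀ j ∈ J, LieAlgebra.ad k L j ^ M = 0 := by
    intro j hj
    obtain ⟨r, hr, w, hw, rfl⟩ := Submodule.mem_sup.1 ((hJmem j).1 hj)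
    obtain ⟨c, rfl⟩ := Submodule.mem_span_singleton.1 hw
    have hT : ∀ i z, z ∈ F i → (LieAlgebra.ad k L (r + c • y)) z ∈ F (i + 1) := by
      intro i z hz
      rw [LieAlgebra.ad_apply, add_lie, smul_lie]
      exact add_mem (hFstep r hr i z hz) (Submodule.smul_mem _ c (hyF i z hz))
    ext z
    have := pow_mem_filtration F _ hT M z (hF0 z)
    rw [hFM] at this
    simpa using this
  have hJnilp : LieRing.IsNilpotent J := by
    have : IsNoetherian k J := inferInstance
    rw [LieAlgebra.isNilpotent_iff_forall (R := k)]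
    rintro ⟨j, hj⟩
    refine ⟨M, ?_⟩
    ext z
    rw [coe_ad_pow, hJnil j hj]
    simp
  exact hmax J hJnilp hyJ

end Groth.Agent.S14872
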