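import Groth.Statements.S14874
import Groth.Agent.S14872
import Groth.Agent.S14873

set_option autoImplicit false
universe u v
open PLie

namespace Groth.Agent.S14874

section
variable {k : Type u} [Field k] {L : Type v} [LieRing L] [LieAlgebra k L]

/-- elements of an ideal that is nilpotent as a Lie ring are uniformly ad-nilpotent on the
ambient (Noetherian) Lie algebra -/
theorem exists_ad_pow_eq_zero [IsNoetherian k L] (N : LieIdeal k L) (hN : LieRing.IsNilpotent N) :
    ∃ M : ℕ, ∀ n ∈ N, LieAlgebra.ad k L n ^ M = 0 := by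
  obtain ⟨m, hm⟩ := LieAlgebra.nilpotent_ad_of_nilpotent_algebra k N
  refine ⟨m + 1, fun n hn => ?_⟩
  ext z
  rw [pow_succ, Module.End.mul_apply]
  have hz : ⁅n, z⁆ ∈ N := lie_mem_left k L N n z hn
  have h1 := Groth.Agent.S14872.coe_ad_pow N ⟨n, hn⟩ m ⟨⁅n, z⁆, hz⟩
  rw [hm] at h1
  simp only [LinearMap.zero_apply, ZeroMemClass.coe_zero] at h1
  simpa using h1.symm

end

/-- Let `L` be a finite-dimensional Lie algebra over a field of characteristic `p` equipped with a
`p`-mapping `φ`. Let `N` be the nilradical of `L` (the ideal nilpotent as a Lie ring that contains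
every such ideal) and `P` its `p`-radical (the largest ideal stable under `φ` all of whose elements
are `p`-nilpotent). Then `N = P` if and only if the centre of `L` is contained in `P`. -/
theorem result
    (k : Type u) [Field k] (p : ℕ) [Fact p.Prime] [CharP k p]
    (L : Type v) [LieRing L] [LieAlgebra k L] [Module.Finite k L]
    (φ : PLie.PMap k p L)
    (N : LieIdeal k L) (hN : LieRing.IsNilpotent N)
    (hNmax : ∀ I : LieIdeal k L, LieRing.IsNilpotent I → I ≤ N)
    (P : LieIdeal k L) (hPsub : ∀ x ∈ P, φ x ∈ P) (hPnil : ∀ x ∈ P, PLie.IsPNilpotent φ x)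
    (hPmax : ∀ J : LieIdeal k L, (∀ x ∈ J, φ x ∈ J) → (∀ x ∈ J, PLie.IsPNilpotent φ x) → J ≤ P) :
    N = P ↔ LieAlgebra.center k L ≤ P := by
  have hp : 1 < p := (Fact.out : p.Prime).one_lt
  have hnoeth : IsNoetherian k L := inferInstance
  have hiter : ∀ (m : ℕ) (y : L),
      LieAlgebra.ad k L (φ.toFun^[m] y) = LieAlgebra.ad k L y ^ (p ^ m) := by
    intro m
    induction m with
    | zero => intro y; simp
    | succ m ih =>
      intro y
      rw [Function.iterate_succ_apply', φ.ad_map, ih, ← pow_mul, pow_succ]
  constructor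
  · rintro rfl
    apply hNmax
    infer_instance
  · intro hZ
    apply le_antisymm
    · -- N ≤ P
      apply hPmax N
      · intro x hx
        exact Groth.Agent.S14872.result k p L φ N hN hNmax x hx
      · intro x hx
        obtain ⟨M, hM⟩ := exists_ad_pow_eq_zero N hN
        have hle : M ≤ p ^ M := (Nat.lt_pow_self hp).le
        have h0 : LieAlgebra.ad k L (φ.toFun^[M] x) = 0 := by
          rw [hiter, ← Nat.sub_add_cancel hle, pow_add, hM x hx, mul_zero]
        have hcen : φ.toFun^[M] x ∈ LieAlgebra.center k L := by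
          rw [LieModule.mem_maxTrivSubmodule]
          intro z
          rw [← lie_skew]
          have : ⁅φ.toFun^[M] x, z⁆ = LieAlgebra.ad k L (φ.toFun^[M] x) z := rfl
          rw [this, h0]; simp
        obtain ⟨n', hn'⟩ := hPnil _ (hZ hcen)
        refine ⟨n' + M, ?_⟩
        rw [Function.iterate_add_apply]
        exact hn'
    · -- P ≤ N
      apply hNmax
      exact Groth.Agent.S14873.result k p L φ P hPsub hPnil

end Groth.Agent.S14874
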