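import Groth.Statements.S14875
import Groth.Agent.S14872
import Mathlib.Algebra.Lie.Killing
import Mathlib.LinearAlgebra.BilinearForm.Orthogonal

set_option autoImplicit false
universe u v
open PLie

namespace Groth.Agent.S14875

section
variable {k : Type u} [Field k] {L : Type v} [LieRing L] [LieAlgebra k L]

/-- the filtration `G 0 = ⊤`, `G (i+1) = span {⁅u, z⁆ | u ∈ U, z ∈ G i}` -/
noncomputable def filt (U : LieSubalgebra k L) : ℕ → Submodule k L
  | 0 => ⊤
  | (i + 1) => Submodule.span k {m | ∃ u ∈ U, ∃ z ∈ filt U i, ⁅u, z⁆ = m}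

theorem filt_le_lcs (U : LieSubalgebra k L) (i : ℕ) :
    filt U i ≤ (LieModule.lowerCentralSeries k U L i).toSubmodule := by
  induction i with
  | zero => intro z _; simp
  | succ i ih =>
    rw [filt, Submodule.span_le]
    rintro m ⟨u, hu, z, hz, rfl⟩
    change ⁅u, z⁆ ∈ LieModule.lowerCentralSeries k U L (i + 1)
    rw [LieModule.lowerCentralSeries_succ]
    have h1 : (⟨u, hu⟩ : U) ∈ (⊤ : LieIdeal k U) := LieSubmodule.mem_top _
    have h2 : z ∈ LieModule.lowerCentralSeries k U L i := ih hz
    exact LieSubmodule.lie_mem_lie h1 h2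

theorem lie_mem_filt_succ (U : LieSubalgebra k L) (i : ℕ) {u z : L} (hu : u ∈ U)
    (hz : z ∈ filt U i) : ⁅u, z⁆ ∈ filt U (i + 1) := by
  rw [filt]
  exact Submodule.subset_span ⟨u, hu, z, hz, rfl⟩

theorem normalizer_lie_mem_filt (U : LieSubalgebra k L) (i : ℕ) {h z : L}
    (hh : h ∈ U.normalizer) (hz : z ∈ filt U i) : ⁅h, z⁆ ∈ filt U i := by
  induction i generalizing z with
  | zero => simp [filt]
  | succ i ih =>
    rw [filt] at hz
    induction hz using Submodule.span_induction with
    | mem m hm =>
      obtain ⟨u, hu, w, hw, rfl⟩ := hm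
      rw [leibniz_lie]
      refine add_mem ?_ ?_
      · exact lie_mem_filt_succ U i ((U.mem_normalizer_iff h).1 hh u hu) hw
      · exact lie_mem_filt_succ U i hu (ih hw)
    | zero => simp
    | add a b _ _ ha hb => rw [lie_add]; exact add_mem ha hb
    | smul c a _ ha => rw [lie_smul]; exact Submodule.smul_mem _ c ha

end

/-- Let `L` be a finite-dimensional Lie algebra over a field of characteristic `p` equipped with a
`p`-mapping `φ`, whose Killing form is non-degenerate. Let `U` and `H` be Lie subalgebras of `L`
such that `H` is the normaliser of `U`, `U` is the set of elements of `H` that lie in the solvable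
radical of `H` and are `p`-nilpotent, and the orthogonal of `U` for the Killing form is closed under
the bracket. Then `U` is the orthogonal of `H` for the Killing form. (The published statement is for
the Lie algebra of a reductive group over a field of characteristic `p` with its canonical
`p`-structure; this row states it for any finite-dimensional Lie algebra with a `p`-mapping.) -/
theorem result
    (k : Type u) [Field k] (p : ℕ) [Fact p.Prime] [CharP k p]
    (L : Type v) [LieRing L] [LieAlgebra k L] [Module.Finite k L]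
    (φ : PLie.PMap k p L) (hκ : (killingForm k L).Nondegenerate)
    (U H : LieSubalgebra k L) (hH : H = U.normalizer)
    (hU : ∀ x : L, x ∈ U ↔ ∃ hx : x ∈ H, (⟨x, hx⟩ : ↥H) ∈ LieAlgebra.radical k ↥H ∧ PLie.IsPNilpotent φ x)
    (hperp : ∀ a b : L, (∀ y ∈ U, killingForm k L a y = 0) → (∀ y ∈ U, killingForm k L b y = 0) →
      ∀ y ∈ U, killingForm k L ⁅a, b⁆ y = 0) :
    ∀ x : L, x ∈ U ↔ ∀ h ∈ H, killingForm k L h x = 0 := by
  have hnoeth : IsNoetherian k L := inferInstance
  have hiter : ∀ (m : ℕ) (y : L),
      LieAlgebra.ad k L (φ.toFun^[m] y) = LieAlgebra.ad k L y ^ (p ^ m) := by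
    intro m
    induction m with
    | zero => intro y; simp
    | succ m ih =>
      intro y
      rw [Function.iterate_succ_apply', φ.ad_map, ih, ← pow_mul, pow_succ]
  -- elements of U are ad-nilpotent
  have hUnil : ∀ x ∈ U, IsNilpotent (LieAlgebra.ad k L x) := by
    intro x hx
    obtain ⟨_, _, n, hn⟩ := (hU x).1 hx
    exact ⟨p ^ n, by rw [← hiter, hn, map_zero]⟩
  -- U acts nilpotently on L
  have hUL : LieModule.IsNilpotent U L := by
    rw [LieModule.isNilpotent_iff_forall' (R := k)]
    rintro ⟨x, hx⟩
    have hEnd : LieModule.toEnd k U L ⟨x, hx⟩ = LieAlgebra.ad k L x := by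
      ext z; rfl
    rw [hEnd]
    exact hUnil x hx
  obtain ⟨M, hM⟩ := LieModule.IsNilpotent.nilpotent k U L
  have hFM : filt U M = ⊥ := by
    rw [eq_bot_iff]
    refine (filt_le_lcs U M).trans ?_
    rw [hM]; exact le_of_eq rfl
  have hκsymm : ∀ a b : L, killingForm k L a b = killingForm k L b a :=
    fun a b => LieModule.traceForm_comm k L L a b
  -- (a) U is orthogonal to H
  have hUH : ∀ h ∈ H, ∀ x ∈ U, killingForm k L h x = 0 := by
    intro h hh x hx
    rw [killingForm_apply_apply]
    have hT : ∀ i z, z ∈ filt U i →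
        (LieAlgebra.ad k L h ∘ₗ LieAlgebra.ad k L x) z ∈ filt U (i + 1) := by
      intro i z hz
      rw [LinearMap.comp_apply, LieAlgebra.ad_apply, LieAlgebra.ad_apply]
      exact normalizer_lie_mem_filt U (i + 1) (hH ▸ hh) (lie_mem_filt_succ U i hx hz)
    have hnil : IsNilpotent (LieAlgebra.ad k L h ∘ₗ LieAlgebra.ad k L x) := by
      refine ⟨M, ?_⟩
      ext z
      have := Groth.Agent.S14872.pow_mem_filtration (filt U) _ hT M z (by simp [filt])
      rw [hFM] at this
      simpa using this
    exact (LinearMap.isNilpotent_trace_of_isNilpotent hnil).eq_zero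
  -- (b) the orthogonal of U is contained in H
  have hrefl : (killingForm k L).IsRefl := by
    intro a b hab
    rw [hκsymm]; exact hab
  have hQH : ∀ q : L, (∀ y ∈ U, killingForm k L q y = 0) → q ∈ H := by
    intro q hq
    rw [hH, LieSubalgebra.mem_normalizer_iff]
    intro u hu
    -- ⁅q, u⁆ is in the double orthogonal of U
    have hdo := LinearMap.BilinForm.orthogonal_orthogonal hκ hrefl U.toSubmodule
    have hmem : ⁅q, u⁆ ∈ (killingForm k L).orthogonal ((killingForm k L).orthogonal U.toSubmodule) := by
      rw [LinearMap.BilinForm.mem_orthogonal_iff]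
      intro q' hq'
      rw [LinearMap.BilinForm.mem_orthogonal_iff] at hq'
      have hq'U : ∀ y ∈ U, killingForm k L q' y = 0 := by
        intro y hy
        rw [hκsymm]; exact hq' y hy
      change killingForm k L q' ⁅q, u⁆ = 0
      have h1 : killingForm k L ⁅q', q⁆ u = killingForm k L q' ⁅q, u⁆ :=
        LieModule.traceForm_apply_lie_apply k L L q' q u
      rw [← h1]
      exact hperp q' q hq'U hq u hu
    rw [hdo] at hmem
    exact hmem
  intro x
  constructor
  · intro hx h hh
    exact hUH h hh x hx
  · intro hx
    have hdo := LinearMap.BilinForm.orthogonal_orthogonal hκ hrefl U.toSubmodule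
    have hmem : x ∈ (killingForm k L).orthogonal ((killingForm k L).orthogonal U.toSubmodule) := by
      rw [LinearMap.BilinForm.mem_orthogonal_iff]
      intro q hq
      rw [LinearMap.BilinForm.mem_orthogonal_iff] at hq
      have hqU : ∀ y ∈ U, killingForm k L q y = 0 := by
        intro y hy
        rw [hκsymm]; exact hq y hy
      exact hx q (hQH q hqU)
    rw [hdo] at hmem
    exact hmem

end Groth.Agent.S14875
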