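import Groth.Statements.S14879
import Mathlib.LinearAlgebra.Matrix.Block
import Mathlib.GroupTheory.Perm.Fin
import Mathlib.GroupTheory.Perm.Sign
import Mathlib.Tactic

set_option autoImplicit false
universe u
open Finset
open AlgGrp

namespace Groth.Agent.S14879

open Matrix Equiv in
/-- Product of the two diagonal block determinants as a sum over block permutations. -/
theorem det_blocks_mul {R : Type*} [CommRing R] {m n : Type*} [Fintype m] [Fintype n]
    [DecidableEq m] [DecidableEq n] (X : Matrix (m ⊕ n) (m ⊕ n) R) :
    X.toBlocks₁₁.det * X.toBlocks₂₂.det =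
      ∑ στ : Perm m × Perm n, (((Perm.sign (Perm.sumCongr στ.1 στ.2) : ℤˣ) : ℤ) : R) *
        ∏ x : m ⊕ n, X (Perm.sumCongr στ.1 στ.2 x) x := by
  rw [det_apply', det_apply', Finset.sum_mul_sum, ← Finset.sum_product']
  refine Finset.sum_congr rfl fun στ _ => ?_
  rw [Fintype.prod_sum_type, Perm.sign_sumCongr]
  simp only [toBlocks₁₁, toBlocks₂₂, of_apply, Perm.sumCongr_apply, Sum.map_inl, Sum.map_inr,
    Units.val_mul, Int.cast_mul]
  ring

open Matrix Equiv in
/-- The inner sum over all permutations, for a fixed block permutation `ρ`. -/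
theorem sum_perm_fixed {R : Type*} [CommRing R] {ι : Type*} [Fintype ι] [DecidableEq ι]
    (N : Matrix ι ι R) (ρ : Perm ι) :
    ∑ π : Perm ι, (((Perm.sign π : ℤˣ) : ℤ) : R) *
      ((((Perm.sign ρ : ℤˣ) : ℤ) : R) * ∏ x : ι, N (ρ x) (π.symm x)) = N.det := by
  rw [← det_transpose, det_apply']
  refine Fintype.sum_equiv ((Equiv.mulLeft ρ).trans (Equiv.inv (Perm ι))) _ _ fun π => ?_
  have h1 : ∏ x : ι, N (ρ x) (π.symm x) = ∏ y : ι, N y ((ρ * π)⁻¹ y) := by
    rw [← Equiv.prod_comp ρ (fun y => N y ((ρ * π)⁻¹ y))]
    refine Finset.prod_congr rfl fun x _ => ?_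
    congr 1
    simp [_root_.mul_inv_rev, Perm.mul_apply, Perm.inv_def]
  rw [h1]
  simp only [Equiv.trans_apply, Equiv.coe_mulLeft, Equiv.inv_apply, transpose_apply,
    Perm.sign_inv, Perm.sign_mul, Units.val_mul, Int.cast_mul]
  ring

open Matrix Equiv in
/-- The signed sum over all column permutations of the products of the two diagonal block minors. -/
theorem sum_perm_blocks {R : Type*} [CommRing R] {m n : Type*} [Fintype m] [Fintype n]
    [DecidableEq m] [DecidableEq n] (N : Matrix (m ⊕ n) (m ⊕ n) R) :
    ∑ π : Perm (m ⊕ n), (((Perm.sign π : ℤˣ) : ℤ) : R) *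
        (N.submatrix id π.symm).toBlocks₁₁.det * (N.submatrix id π.symm).toBlocks₂₂.det =
      (((Fintype.card m).factorial * (Fintype.card n).factorial : ℕ) : R) * N.det := by
  have h1 : ∀ π : Perm (m ⊕ n), (((Perm.sign π : ℤˣ) : ℤ) : R) *
        (N.submatrix id π.symm).toBlocks₁₁.det * (N.submatrix id π.symm).toBlocks₂₂.det =
      ∑ στ : Perm m × Perm n, (((Perm.sign π : ℤˣ) : ℤ) : R) *
        ((((Perm.sign (Perm.sumCongr στ.1 στ.2) : ℤˣ) : ℤ) : R) *
          ∏ x : m ⊕ n, N (Perm.sumCongr στ.1 στ.2 x) (π.symm x)) := by
    intro π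
    rw [mul_assoc, det_blocks_mul, Finset.mul_sum]
    rfl
  simp_rw [h1]
  rw [Finset.sum_comm]
  simp_rw [sum_perm_fixed]
  rw [Finset.sum_const, Finset.card_univ, Fintype.card_prod, Fintype.card_perm, Fintype.card_perm,
    nsmul_eq_mul]

end Groth.Agent.S14879

namespace Groth.Agent.S14879

open Matrix Equiv in
/-- The `Fin (p + r)` form of `sum_perm_blocks`. -/
theorem sum_perm_fin {R : Type*} [CommRing R] (p r : ℕ)
    (N : Matrix (Fin (p + r)) (Fin (p + r)) R) :
    ∑ π : Perm (Fin (p + r)), (((Perm.sign π : ℤˣ) : ℤ) : R) *
        ((N.submatrix id π.symm).submatrix (Fin.castAdd r) (Fin.castAdd r)).det *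
        ((N.submatrix id π.symm).submatrix (Fin.natAdd p) (Fin.natAdd p)).det =
      ((p.factorial * r.factorial : ℕ) : R) * N.det := by
  have key := sum_perm_blocks (N.submatrix (finSumFinEquiv (m := p) (n := r))
    (finSumFinEquiv (m := p) (n := r)))
  rw [det_submatrix_equiv_self, Fintype.card_fin, Fintype.card_fin] at key
  rw [← key]
  refine Fintype.sum_equiv (finSumFinEquiv (m := p) (n := r)).symm.permCongr _ _ fun π => ?_
  rw [Perm.sign_permCongr]
  have hπ : ∀ x, finSumFinEquiv (m := p) (n := r)
      ((Equiv.symm ((finSumFinEquiv (m := p) (n := r)).symm.permCongr π)) x) =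
        π.symm (finSumFinEquiv x) := by
    intro x
    have h : ((finSumFinEquiv (m := p) (n := r)).symm.permCongr π).symm =
        (finSumFinEquiv (m := p) (n := r)).symm.permCongr π.symm := by
      ext y
      simp [Equiv.permCongr_apply, Equiv.symm_apply_eq]
    rw [h]
    simp [Equiv.permCongr_apply]
  have h11 : (N.submatrix id π.symm).submatrix (Fin.castAdd r) (Fin.castAdd r) =
      ((N.submatrix (finSumFinEquiv (m := p) (n := r)) (finSumFinEquiv (m := p) (n := r))).submatrix
        id ((finSumFinEquiv (m := p) (n := r)).symm.permCongr π).symm).toBlocks₁₁ := by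
    ext i j
    simp only [toBlocks₁₁, submatrix_apply, of_apply, id_eq, hπ, finSumFinEquiv_apply_left]
  have h22 : (N.submatrix id π.symm).submatrix (Fin.natAdd p) (Fin.natAdd p) =
      ((N.submatrix (finSumFinEquiv (m := p) (n := r)) (finSumFinEquiv (m := p) (n := r))).submatrix
        id ((finSumFinEquiv (m := p) (n := r)).symm.permCongr π).symm).toBlocks₂₂ := by
    ext i j
    simp only [toBlocks₂₂, submatrix_apply, of_apply, id_eq, hπ, finSumFinEquiv_apply_right]
  rw [h11, h22]

end Groth.Agent.S14879

namespace Groth.Agent.S14879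

open Equiv in
/-- The sign of the shuffle permutation listing first `A` and then its complement, both
increasingly, is `(-1)` to the number of inversions. -/
theorem sign_shuffle (p r : ℕ) (A : Finset (Fin (p + r))) (hA : A.card = p) (hAc : Aᶜ.card = r)
    (ε : Perm (Fin (p + r)))
    (hε : ∀ x, ε x = Fin.append (A.orderEmbOfFin hA) (Aᶜ.orderEmbOfFin hAc) x) :
    Perm.sign ε = (-1 : ℤˣ) ^ ((A ×ˢ Aᶜ).filter (fun ab => ab.2 < ab.1)).card := by
  classical
  have hl : ∀ i : Fin p, ε (Fin.castAdd r i) = A.orderEmbOfFin hA i := by
    intro i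
    rw [hε, Fin.append_left]
  have hr' : ∀ j : Fin r, ε (Fin.natAdd p j) = Aᶜ.orderEmbOfFin hAc j := by
    intro j
    rw [hε, Fin.append_right]
  rw [Perm.sign_eq_prod_prod_Iio, Finset.prod_sigma', Finset.prod_ite, Finset.prod_const_one,
    one_mul, Finset.prod_const]
  congr 1
  refine Finset.card_bij (fun x _ => (ε x.2, ε x.1)) ?_ ?_ ?_
  · rintro ⟨j, i⟩ hx
    simp only [Finset.mem_filter, Finset.mem_sigma, Finset.mem_univ, Finset.mem_Iio, true_and,
      not_lt] at hx
    obtain ⟨hij, hle⟩ := hx
    have hlt : ε j < ε i := lt_of_le_of_ne hle (fun h => (ne_of_lt hij) (ε.injective h).symm)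
    simp only [Finset.mem_filter, Finset.mem_product, Finset.mem_compl]
    induction i using Fin.addCases with
    | left i' =>
      induction j using Fin.addCases with
      | left j' =>
        exfalso
        rw [hl, hl] at hlt
        have : i' < j' := by
          have h1 : (Fin.castAdd r i' : Fin (p + r)).val < (Fin.castAdd r j' : Fin (p + r)).val :=
            hij
          simp only [Fin.val_castAdd] at h1
          exact Fin.lt_def.mpr h1
        exact absurd ((A.orderEmbOfFin hA).strictMono this) (not_lt.mpr hlt.le)
      | right j' =>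
        refine ⟨⟨?_, ?_⟩, hlt⟩
        · rw [hl]
          exact Finset.orderEmbOfFin_mem A hA i'
        · rw [hr']
          exact Finset.mem_compl.mp (Finset.orderEmbOfFin_mem Aᶜ hAc j')
    | right i' =>
      exfalso
      induction j using Fin.addCases with
      | left j' =>
        have h1 : (Fin.natAdd p i' : Fin (p + r)).val < (Fin.castAdd r j' : Fin (p + r)).val := hij
        simp only [Fin.val_natAdd, Fin.val_castAdd] at h1
        omega
      | right j' =>
        rw [hr', hr'] at hlt
        have : i' < j' := by
          have h1 : (Fin.natAdd p i' : Fin (p + r)).val < (Fin.natAdd p j' : Fin (p + r)).val := hij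
          simp only [Fin.val_natAdd] at h1
          exact Fin.lt_def.mpr (by omega)
        exact absurd ((Aᶜ.orderEmbOfFin hAc).strictMono this) (not_lt.mpr hlt.le)
  · rintro ⟨j, i⟩ _ ⟨j', i'⟩ _ h
    simp only [Prod.mk.injEq] at h
    obtain ⟨h1, h2⟩ := h
    have e1 : i = i' := ε.injective h1
    have e2 : j = j' := ε.injective h2
    subst e1 e2
    rfl
  · rintro ⟨x, y⟩ hxy
    simp only [Finset.mem_filter, Finset.mem_product, Finset.mem_compl] at hxy
    obtain ⟨⟨hx, hy⟩, hlt⟩ := hxy
    have hx' : x ∈ Set.range (A.orderEmbOfFin hA) := by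
      rw [Finset.range_orderEmbOfFin]
      exact hx
    have hy' : y ∈ Set.range (Aᶜ.orderEmbOfFin hAc) := by
      rw [Finset.range_orderEmbOfFin]
      exact Finset.mem_coe.mpr (Finset.mem_compl.mpr hy)
    obtain ⟨i', rfl⟩ := hx'
    obtain ⟨j', rfl⟩ := hy'
    refine ⟨⟨Fin.natAdd p j', Fin.castAdd r i'⟩, ?_, ?_⟩
    · simp only [Finset.mem_filter, Finset.mem_sigma, Finset.mem_univ, Finset.mem_Iio, true_and,
        not_lt]
      refine ⟨?_, ?_⟩
      · rw [Fin.lt_def]
        simp only [Fin.val_natAdd, Fin.val_castAdd]
        omega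
      · rw [hl, hr']
        exact hlt.le
    · simp only [hl, hr']

end Groth.Agent.S14879

namespace Groth.Agent.S14879

/-- Let k be a field of characteristic zero, n = p + r with p, r ≥ 1, M an n × n matrix over k, A a set
of p row indices and B a set of r row indices, both listed increasingly. For a permutation π of the
indices, with permutation matrix P_π, let Y_A(M·P_π) be the minor of M·P_π on the rows A and the
first p columns, and Z_B(M·P_π) the minor on the rows B and the last r columns. Then the sum over
all π of sign(π)·Y_A(M·P_π)·Z_B(M·P_π) equals p!·r!·(−1)^N·det M when B is the complement of A,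
where N is the number of pairs (a, b) with a in A, b outside A and b < a, and equals 0 otherwise.
Taking det M = 1 this says that the pairing (f, h) ↦ Σ_π sign(π) f(π) h(π) between the spans of the
left p-minors and of the right r-minors is invariant under left translation by matrices of
determinant one and pairs Y_A with the signed complementary minor to p!·r!. (The published statement
asserts that the two families of minors are dual bases for this pairing, that is, the value 1 in
place of p!·r!; the p!·r! permutations preserving the two column blocks each contribute the same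
signed term, so this row carries that factor, which is 1 only for n = 2.) -/
theorem result (k : Type u) [Field k] [CharZero k]
    (p r : ℕ) (hp : 1 ≤ p) (hr : 1 ≤ r) (M : Matrix (Fin (p + r)) (Fin (p + r)) k)
    (A : Finset (Fin (p + r))) (hA : A.card = p) (B : Finset (Fin (p + r))) (hB : B.card = r) :
    ∑ π : Equiv.Perm (Fin (p + r)), (((Equiv.Perm.sign π : ℤˣ) : ℤ) : k) *
      ((M * π.permMatrix k).submatrix (A.orderEmbOfFin hA) (Fin.castAdd r)).det *
      ((M * π.permMatrix k).submatrix (B.orderEmbOfFin hB) (Fin.natAdd p)).det =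
    if B = Aᶜ then ((p.factorial * r.factorial : ℕ) : k) *
      (-1 : k) ^ ((A ×ˢ Aᶜ).filter (fun ab => ab.2 < ab.1)).card * M.det else 0 := by
  classical
  set a := A.orderEmbOfFin hA with ha
  set b := B.orderEmbOfFin hB with hb
  let Rsel : Fin (p + r) → Fin (p + r) := Fin.append a b
  have hstep : ∀ π : Equiv.Perm (Fin (p + r)),
      (((Equiv.Perm.sign π : ℤˣ) : ℤ) : k) *
        ((M * π.permMatrix k).submatrix a (Fin.castAdd r)).det *
        ((M * π.permMatrix k).submatrix b (Fin.natAdd p)).det =
      (((Equiv.Perm.sign π : ℤˣ) : ℤ) : k) *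
        (((M.submatrix Rsel id).submatrix id π.symm).submatrix (Fin.castAdd r)
          (Fin.castAdd r)).det *
        (((M.submatrix Rsel id).submatrix id π.symm).submatrix (Fin.natAdd p)
          (Fin.natAdd p)).det := by
    intro π
    have hM : M * π.permMatrix k = M.submatrix id π.symm := PEquiv.mul_toMatrix_toPEquiv M π
    rw [hM]
    have h1 : (M.submatrix id π.symm).submatrix a (Fin.castAdd r) =
        ((M.submatrix Rsel id).submatrix id π.symm).submatrix (Fin.castAdd r) (Fin.castAdd r) := by
      ext i j
      simp only [Matrix.submatrix_apply, id_eq, Rsel, Fin.append_left]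
    have h2 : (M.submatrix id π.symm).submatrix b (Fin.natAdd p) =
        ((M.submatrix Rsel id).submatrix id π.symm).submatrix (Fin.natAdd p) (Fin.natAdd p) := by
      ext i j
      simp only [Matrix.submatrix_apply, id_eq, Rsel, Fin.append_right]
    rw [h1, h2]
  simp_rw [hstep]
  rw [sum_perm_fin]
  split_ifs with hBA
  · -- complementary case
    subst hBA
    have hinj : Function.Injective Rsel := by
      intro x y hxy
      induction x using Fin.addCases with
      | left i =>
        induction y using Fin.addCases with
        | left j =>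
          simp only [Rsel, Fin.append_left] at hxy
          rw [a.injective hxy]
        | right j =>
          exfalso
          simp only [Rsel, Fin.append_left, Fin.append_right] at hxy
          have h1 : a i ∈ A := Finset.orderEmbOfFin_mem A hA i
          have h2 : b j ∈ Aᶜ := Finset.orderEmbOfFin_mem Aᶜ hB j
          rw [← hxy] at h2
          exact (Finset.mem_compl.mp h2) h1
      | right i =>
        induction y using Fin.addCases with
        | left j =>
          exfalso
          simp only [Rsel, Fin.append_left, Fin.append_right] at hxy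
          have h1 : a j ∈ A := Finset.orderEmbOfFin_mem A hA j
          have h2 : b i ∈ Aᶜ := Finset.orderEmbOfFin_mem Aᶜ hB i
          rw [hxy] at h2
          exact (Finset.mem_compl.mp h2) h1
        | right j =>
          simp only [Rsel, Fin.append_right] at hxy
          rw [b.injective hxy]
    let ε : Equiv.Perm (Fin (p + r)) := Equiv.ofBijective Rsel (Finite.injective_iff_bijective.mp hinj)
    have hε : ∀ x, ε x = Fin.append (A.orderEmbOfFin hA) (Aᶜ.orderEmbOfFin hB) x := fun x => rfl
    have hsign := sign_shuffle p r A hA hB ε hε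
    have hdet : (M.submatrix Rsel id).det = (((Equiv.Perm.sign ε : ℤˣ) : ℤ) : k) * M.det :=
      Matrix.det_permute ε M
    rw [hdet, hsign]
    simp only [Units.val_pow_eq_pow_val, Units.val_neg, Units.val_one, Int.cast_pow, Int.cast_neg,
      Int.cast_one]
    ring
  · -- a repeated row
    have hne : (A ∩ B).Nonempty := by
      by_contra hempty
      rw [Finset.not_nonempty_iff_eq_empty] at hempty
      apply hBA
      have hdisj : Disjoint A B := Finset.disjoint_iff_inter_eq_empty.mpr hempty
      have hsub : B ⊆ Aᶜ := by
        intro x hx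
        rw [Finset.mem_compl]
        exact fun hxA => (Finset.disjoint_left.mp hdisj) hxA hx
      apply Finset.eq_of_subset_of_card_le hsub
      rw [Finset.card_compl, Fintype.card_fin, hA, hB]
      omega
    obtain ⟨x, hx⟩ := hne
    rw [Finset.mem_inter] at hx
    have hx1 : x ∈ Set.range a := by
      rw [ha, Finset.range_orderEmbOfFin]
      exact hx.1
    have hx2 : x ∈ Set.range b := by
      rw [hb, Finset.range_orderEmbOfFin]
      exact hx.2
    obtain ⟨i, hi⟩ := hx1
    obtain ⟨j, hj⟩ := hx2
    have hrow : (M.submatrix Rsel id).det = 0 := by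
      apply Matrix.det_zero_of_row_eq (i := Fin.castAdd r i) (j := Fin.natAdd p j)
      · intro h
        have := congrArg Fin.val h
        simp only [Fin.val_castAdd, Fin.val_natAdd] at this
        omega
      · ext c
        simp only [Matrix.submatrix_apply, id_eq, Rsel, Fin.append_left, Fin.append_right, hi, hj]
    rw [hrow, mul_zero]

end Groth.Agent.S14879
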