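import Groth.Statements.S14882
-- import your own Groth.Agent.* helpers here

set_option autoImplicit false
universe u
open CategoryTheory MonoidalCategory CartesianMonoidalCategory MonObj GrpObj AlgebraicGeometry CategoryTheory.Limits
open AlgGrp

namespace Groth.Agent.S14882

/-- Over an algebraically closed field k of characteristic zero, let G be an algebraic group (a smooth
k-group scheme of finite type), X a variety (reduced, separated, of finite type over k) and Γ a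
finite group acting on X on the right (x ↦ x·σ, with x·(στ) = (x·σ)·τ). Let φ and φ' be 1-cocycles Γ
→ G(X), φ_{στ} = φ_σ · (φ_τ ∘ (·σ)), with attached Γ-linearizations of X × G given on points by
λ_σ(x, g) = (x·σ, φ_σ(x)⁻¹·g) and λ'_σ(x, g) = (x·σ, φ'_σ(x)⁻¹·g). Then the two Γ-linearized trivial
bundles are isomorphic, meaning that there is an automorphism Φ of X × G over X, commuting with the
action of G by right multiplication, with Φ ∘ λ_σ = λ'_σ ∘ Φ for every σ, if and only if the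
cocycles are cohomologous: there is ψ in G(X) with φ_σ = ψ⁻¹ · φ'_σ · (ψ ∘ (·σ)) for every σ. Hence
isomorphism classes of Γ-linearizations of the trivial bundle correspond to H¹(Γ, G(X)). -/
theorem result (k : Type u) [Field k] [IsAlgClosed k] [CharZero k]
    (G X : Over (Spec (CommRingCat.of k))) [GrpObj G] [Smooth G.hom] [QuasiCompact G.hom]
    [LocallyOfFiniteType X.hom] [QuasiCompact X.hom] [IsSeparated X.hom] [IsReduced X.left]
    (Γ : Type) [Group Γ] [Finite Γ] (ρ : Γ → (X ⟶ X)) (hρ₁ : ρ 1 = 𝟙 X) (hρ : ∀ σ τ : Γ, ρ (σ * τ) = ρ σ ≫ ρ τ)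
    (φ φ' : Γ → (X ⟶ G)) (hφ : ∀ σ τ : Γ, φ (σ * τ) = φ σ * (ρ σ ≫ φ τ))
    (hφ' : ∀ σ τ : Γ, φ' (σ * τ) = φ' σ * (ρ σ ≫ φ' τ))
    (lam lam' : Γ → (X ⊗ G ⟶ X ⊗ G))
    (hlam : ∀ (σ : Γ) (T : Over (Spec (CommRingCat.of k))) (x : T ⟶ X) (g : T ⟶ G),
      lift x g ≫ lam σ = lift (x ≫ ρ σ) ((x ≫ φ σ)⁻¹ * g))
    (hlam' : ∀ (σ : Γ) (T : Over (Spec (CommRingCat.of k))) (x : T ⟶ X) (g : T ⟶ G),
      lift x g ≫ lam' σ = lift (x ≫ ρ σ) ((x ≫ φ' σ)⁻¹ * g)) :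
    (∃ Φ : X ⊗ G ⟶ X ⊗ G, IsIso Φ ∧ Φ ≫ fst X G = fst X G ∧
      (∀ (T : Over (Spec (CommRingCat.of k))) (x : T ⟶ X) (g h : T ⟶ G),
        lift x (g * h) ≫ Φ ≫ snd X G = (lift x g ≫ Φ ≫ snd X G) * h) ∧
      ∀ σ : Γ, lam σ ≫ Φ = Φ ≫ lam' σ) ↔
    ∃ ψ : X ⟶ G, ∀ σ : Γ, φ σ = ψ⁻¹ * φ' σ * (ρ σ ≫ ψ) := by
  constructor
  · rintro ⟨Φ, -, h₁, h₂, hcomm⟩
    -- the classifying map of Φ
    let χ : X ⟶ G := lift (𝟙 X) (1 : X ⟶ G) ≫ Φ ≫ snd X G
    have hΦ : ∀ (T : Over (Spec (CommRingCat.of k))) (x : T ⟶ X) (g : T ⟶ G),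
        lift x g ≫ Φ = lift x ((x ≫ χ) * g) := by
      intro T x g
      apply CartesianMonoidalCategory.hom_ext
      · rw [Category.assoc, h₁, lift_fst, lift_fst]
      · rw [Category.assoc, lift_snd]
        have e1 : lift x g = lift x ((1 : T ⟶ G) * g) := by rw [_root_.one_mul]
        rw [e1, h₂ T x 1 g]
        congr 1
        change _ = x ≫ lift (𝟙 X) (1 : X ⟶ G) ≫ Φ ≫ snd X G
        rw [comp_lift_assoc, Category.comp_id, MonObj.comp_one]
    refine ⟨χ, fun σ => ?_⟩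
    have h := congrArg (fun f => lift (𝟙 X) (1 : X ⟶ G) ≫ f ≫ snd X G) (hcomm σ)
    rw [← Category.assoc, ← Category.assoc, ← Category.assoc, ← Category.assoc,
      hlam, hΦ, hΦ, hlam', lift_snd, lift_snd] at h
    simp only [Category.id_comp, _root_.mul_one] at h
    -- h : (ρ σ ≫ χ) * (φ σ)⁻¹ = (φ' σ)⁻¹ * χ
    have h' : φ σ = χ⁻¹ * φ' σ * (ρ σ ≫ χ) := by
      have e : (ρ σ ≫ χ) = (φ' σ)⁻¹ * χ * φ σ := by
        rw [← h, inv_mul_cancel_right]
      rw [e]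
      group
    exact h'
  · rintro ⟨ψ, hψ⟩
    let Φ : X ⊗ G ⟶ X ⊗ G := lift (fst X G) ((fst X G ≫ ψ) * snd X G)
    let Ψ : X ⊗ G ⟶ X ⊗ G := lift (fst X G) ((fst X G ≫ ψ)⁻¹ * snd X G)
    have hΦ : ∀ (T : Over (Spec (CommRingCat.of k))) (x : T ⟶ X) (g : T ⟶ G),
        lift x g ≫ Φ = lift x ((x ≫ ψ) * g) := by
      intro T x g
      change lift x g ≫ lift (fst X G) ((fst X G ≫ ψ) * snd X G) = _
      rw [comp_lift, MonObj.comp_mul, lift_fst_assoc, lift_fst, lift_snd]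
    have hΨ : ∀ (T : Over (Spec (CommRingCat.of k))) (x : T ⟶ X) (g : T ⟶ G),
        lift x g ≫ Ψ = lift x ((x ≫ ψ)⁻¹ * g) := by
      intro T x g
      change lift x g ≫ lift (fst X G) ((fst X G ≫ ψ)⁻¹ * snd X G) = _
      rw [comp_lift, MonObj.comp_mul, GrpObj.comp_inv, lift_fst_assoc, lift_fst, lift_snd]
    refine ⟨Φ, ⟨⟨Ψ, ?_, ?_⟩⟩, ?_, ?_, ?_⟩
    · rw [← Category.id_comp (Φ ≫ Ψ), ← lift_fst_snd, ← Category.assoc, hΦ, hΨ,
        inv_mul_cancel_left]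
    · rw [← Category.id_comp (Ψ ≫ Φ), ← lift_fst_snd, ← Category.assoc, hΨ, hΦ,
        mul_inv_cancel_left]
    · change lift (fst X G) ((fst X G ≫ ψ) * snd X G) ≫ fst X G = _
      rw [lift_fst]
    · intro T x g h
      rw [← Category.assoc, ← Category.assoc, hΦ, hΦ, lift_snd, lift_snd, _root_.mul_assoc]
    · intro σ
      rw [← Category.id_comp (lam σ ≫ Φ), ← Category.id_comp (Φ ≫ lam' σ), ← lift_fst_snd,
        ← Category.assoc, ← Category.assoc, hlam, hΦ, hΦ, hlam']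
      congr 1
      rw [hψ σ]
      simp only [MonObj.comp_mul, GrpObj.comp_inv, Category.assoc]
      group

end Groth.Agent.S14882
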