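import Groth.Statements.S14885
-- import your own Groth.Agent.* helpers here

set_option autoImplicit false
universe u v
open CategoryTheory TopologicalSpace Opposite AlgebraicGeometry Topology
open AlgGrp

namespace Groth.Agent.S14885

/-- Descending the sheaf part: if every `c_W(s)` is in the image of the injective `π^♯`, then `c`
factors uniquely through `π^♯`. -/
theorem exists_desc_c (X Y Z : SheafedSpace CommRingCat.{u}) (π : X ⟶ Y)
    (fb : Y.carrier ⟶ Z.carrier)
    (c : Z.presheaf ⟶ (π.hom.base ≫ fb) _* X.presheaf)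
    (hinj : ∀ V : Opens Y, Function.Injective (π.hom.c.app (op V)))
    (hrange : ∀ (W : Opens Z) (s : Z.presheaf.obj (op W)),
      c.app (op W) s ∈ Set.range (π.hom.c.app (op ((Opens.map fb).obj W)))) :
    ∃ c' : Z.presheaf ⟶ fb _* Y.presheaf,
      ∀ W : Opens Z, c'.app (op W) ≫ π.hom.c.app (op ((Opens.map fb).obj W)) = c.app (op W) := by
  classical
  choose t ht using hrange
  have hmk : ∀ W : Opens Z, ∃ φ : Z.presheaf.obj (op W) ⟶ Y.presheaf.obj (op ((Opens.map fb).obj W)),
      φ ≫ π.hom.c.app (op ((Opens.map fb).obj W)) = c.app (op W) := by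
    intro W
    let P := π.hom.c.app (op ((Opens.map fb).obj W))
    have hP : Function.Injective P := hinj _
    refine ⟨CommRingCat.ofHom
      { toFun := t W
        map_one' := hP (by rw [ht, map_one, map_one]; rfl)
        map_mul' := fun a b => hP (by rw [map_mul, ht, ht, ht, map_mul]; rfl)
        map_zero' := hP (by rw [ht, map_zero, map_zero]; rfl)
        map_add' := fun a b => hP (by rw [map_add, ht, ht, ht, map_add]; rfl) }, ?_⟩
    ext s
    exact ht W s
  choose φ hφ using hmk
  refine ⟨{ app := fun W => φ W.unop, naturality := ?_ }, fun W => hφ W⟩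
  intro W₁ W₂ i
  have hP : Function.Injective (π.hom.c.app (op ((Opens.map fb).obj W₂.unop))) := hinj _
  have hmono : Mono (π.hom.c.app (op ((Opens.map fb).obj W₂.unop))) :=
    ConcreteCategory.mono_of_injective _ hP
  rw [← cancel_mono (π.hom.c.app (op ((Opens.map fb).obj W₂.unop)))]
  have e1 : (Z.presheaf.map i ≫ φ W₂.unop) ≫ π.hom.c.app (op ((Opens.map fb).obj W₂.unop)) =
      c.app W₁ ≫ ((π.hom.base ≫ fb) _* X.presheaf).map i := by
    rw [Category.assoc, hφ W₂.unop]
    exact c.naturality i
  have e2 : (φ W₁.unop ≫ (fb _* Y.presheaf).map i) ≫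
      π.hom.c.app (op ((Opens.map fb).obj W₂.unop)) =
      c.app W₁ ≫ ((π.hom.base ≫ fb) _* X.presheaf).map i := by
    rw [Category.assoc]
    have n2 := π.hom.c.naturality ((Opens.map fb).op.map i)
    have : (fb _* Y.presheaf).map i ≫ π.hom.c.app (op ((Opens.map fb).obj W₂.unop)) =
        π.hom.c.app (op ((Opens.map fb).obj W₁.unop)) ≫
          ((π.hom.base ≫ fb) _* X.presheaf).map i := n2
    rw [this]
    exact ((Category.assoc (φ W₁.unop) (π.hom.c.app (op ((Opens.map fb).obj W₁.unop)))
      (((π.hom.base ≫ fb) _* X.presheaf).map i)).symm).trans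
        (congrArg (· ≫ ((π.hom.base ≫ fb) _* X.presheaf).map i) (hφ W₁.unop))
  exact e1.trans e2.symm

end Groth.Agent.S14885

namespace Groth.Agent.S14885

/-- Let a group Γ act on a ringed space X (a topological space with a sheaf of rings) by automorphisms
τ_g, and let π : X → Y be a Γ-invariant morphism of ringed spaces which exhibits Y as the quotient
ringed space X/Γ: the underlying continuous map of π is a topological quotient map whose fibres are
exactly the Γ-orbits, and for every open subset V of Y the ring map O_Y(V) → O_X(π⁻¹V) is injective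
with image the sections s satisfying τ_g^♯(s) = s for all g. Then (Y, π) is a categorical quotient
for the action in the category of ringed spaces: every morphism of ringed spaces f : X → Z with f ∘
τ_g = f for all g (as morphisms of ringed spaces) factors uniquely as f = f̄ ∘ π. -/
theorem result (X Y : SheafedSpace CommRingCat.{u}) (Γ : Type v) [Group Γ]
    (τ : Γ →* Aut X) (π : X ⟶ Y) (hτ : ∀ g : Γ, (τ g).hom ≫ π = π)
    (h1 : IsQuotientMap π.hom.base)
    (h2 : ∀ x x' : X, π.hom.base x = π.hom.base x' ↔ ∃ g : Γ, (τ g).hom.hom.base x = x')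
    (h3 : ∀ V : Opens Y, Function.Injective (π.hom.c.app (op V)) ∧
      Set.range (π.hom.c.app (op V)) =
        {s | ∀ g : Γ, (τ g).hom.hom.c.app (op ((Opens.map π.hom.base).obj V)) s =
          X.presheaf.map (eqToHom (congrArg (fun f : X ⟶ Y => op ((Opens.map f.hom.base).obj V)) (hτ g).symm)) s})
    (Z : SheafedSpace CommRingCat.{u}) (f : X ⟶ Z) (hf : ∀ g : Γ, (τ g).hom ≫ f = f) :
    ∃! fbar : Y ⟶ Z, π ≫ fbar = f := by
  classical
  have hsurj : Function.Surjective π.hom.base := h1.surjective
  have hfib : ∀ x x' : X, π.hom.base x = π.hom.base x' → f.hom.base x = f.hom.base x' := by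
    intro x x' hxx'
    obtain ⟨g, hg⟩ := (h2 x x').mp hxx'
    rw [← hg]
    have := congrArg (fun k : X ⟶ Z => k.hom.base x) (hf g)
    exact this.symm
  let fbFun : Y → Z := fun y => f.hom.base (Function.surjInv hsurj y)
  have hfb_apply : ∀ x, fbFun (π.hom.base x) = f.hom.base x :=
    fun x => hfib _ _ (Function.surjInv_eq hsurj _)
  have hcont : Continuous fbFun := by
    rw [h1.continuous_iff]
    have : fbFun ∘ π.hom.base = f.hom.base := funext hfb_apply
    rw [this]
    exact f.hom.base.hom.continuous
  obtain ⟨fb, hfb⟩ : ∃ fb : Y.carrier ⟶ Z.carrier, f.hom.base = π.hom.base ≫ fb :=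
    ⟨TopCat.ofHom ⟨fbFun, hcont⟩, by
      ext x
      exact (hfb_apply x).symm⟩
  clear hfb_apply hcont hfib
  clear fbFun
  obtain ⟨⟨base, c⟩⟩ := f
  dsimp only at hfb
  subst hfb
  have hinj : ∀ V : Opens Y, Function.Injective (π.hom.c.app (op V)) := fun V => (h3 V).1
  have hrange : ∀ (W : Opens Z) (s : Z.presheaf.obj (op W)),
      c.app (op W) s ∈ Set.range (π.hom.c.app (op ((Opens.map fb).obj W))) := by
    intro W s
    rw [(h3 ((Opens.map fb).obj W)).2]
    intro g
    have hg := PresheafedSpace.congr_app (congrArg (fun k : X ⟶ Z => k.hom) (hf g)) (op W)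
    exact congrArg (fun k => k.hom s) hg
  obtain ⟨c', hc'⟩ := exists_desc_c X Y Z π fb c hinj hrange
  let fbar : Y ⟶ Z := ⟨⟨fb, c'⟩⟩
  have hcomp : π ≫ fbar = ⟨⟨π.hom.base ≫ fb, c⟩⟩ := by
    apply InducedCategory.hom_ext
    apply PresheafedSpace.hext
    · rfl
    · apply heq_of_eq
      apply NatTrans.ext
      funext W
      exact hc' W.unop
  refine ⟨fbar, hcomp, ?_⟩
  intro fbar' h'
  obtain ⟨⟨b', c''⟩⟩ := fbar'
  have hb : b' = fb := by
    have hepi : Epi π.hom.base := (TopCat.epi_iff_surjective _).mpr hsurj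
    have := congrArg (fun k : X ⟶ Z => k.hom.base) h'
    exact (cancel_epi π.hom.base).mp this
  subst hb
  have hcc : c'' = c' := by
    apply NatTrans.ext
    funext W
    have hmono : Mono (π.hom.c.app (op ((Opens.map b').obj W.unop))) :=
      ConcreteCategory.mono_of_injective _ (hinj _)
    rw [← cancel_mono (π.hom.c.app (op ((Opens.map b').obj W.unop)))]
    have hg := PresheafedSpace.congr_app (congrArg (fun k : X ⟶ Z => k.hom) h') W
    have e1 : c''.app W ≫ π.hom.c.app (op ((Opens.map b').obj W.unop)) = c.app W := by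
      have : c''.app W ≫ π.hom.c.app (op ((Opens.map b').obj W.unop)) =
          c.app W ≫ X.presheaf.map (eqToHom rfl) := hg
      rw [this, eqToHom_refl, X.presheaf.map_id]
      exact Category.comp_id _
    rw [e1]
    exact (hc' W.unop).symm
  rw [hcc]

end Groth.Agent.S14885
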