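import Groth.Statements.S14887
-- import your own Groth.Agent.* helpers here
import Groth.Agent.Lib.Helper55.ValuationEquidim
import Groth.Agent.Lib.Helper55.ChevalleyBound
import Groth.Agent.Lib.Helper55.FibreDimFormula
import Groth.Agent.Lib.Helper55.ClosedSubschemeDim
import Groth.Agent.Lib.Helper55.OpenAtBaseChange
import Groth.Agent.Lib.Helper55.FiberBaseChange

set_option autoImplicit false
universe u
open CategoryTheory AlgebraicGeometry
open FlatMor

namespace Groth.Agent.S14887

open Groth.Agent.Lib.Helper55

section lift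

variable {A : Type u} [CommRing A] {X : Scheme.{u}} [IsIntegral X]
  (f : X ⟶ Spec (CommRingCat.of A))

/-- The prime of the image of the generic point kills all global functions. -/
theorem asIdeal_le_ker :
    (f (genericPoint X)).asIdeal ≤
      RingHom.ker ((Scheme.ΓSpecIso (CommRingCat.of A)).inv ≫ f.appTop).hom := by
  intro a ha
  rw [RingHom.mem_ker]
  by_contra hne
  have h1 : X.basicOpen (((Scheme.ΓSpecIso (CommRingCat.of A)).inv ≫ f.appTop).hom a) ≠ ⊥ := by
    intro h
    exact hne ((AlgebraicGeometry.basicOpen_eq_bot_iff _).mp h)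
  have h2 : (X.basicOpen (((Scheme.ΓSpecIso (CommRingCat.of A)).inv ≫ f.appTop).hom a) :
      Set X).Nonempty := by
    rw [Set.nonempty_iff_ne_empty]
    intro h
    apply h1
    exact SetLike.coe_injective h
  have h3 : genericPoint X ∈
      X.basicOpen (((Scheme.ΓSpecIso (CommRingCat.of A)).inv ≫ f.appTop).hom a) := by
    obtain ⟨z, hz⟩ := h2
    exact ((genericPoint_spec X).specializes (Set.mem_univ z)).mem_open
      (X.basicOpen _).isOpen hz
  have h4 : X.basicOpen (((Scheme.ΓSpecIso (CommRingCat.of A)).inv ≫ f.appTop).hom a) =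
      f ⁻¹ᵁ (PrimeSpectrum.basicOpen a) := by
    rw [← basicOpen_eq_of_affine, Scheme.preimage_basicOpen_top]
    rfl
  rw [h4] at h3
  exact h3 ha

end lift

section const

variable {A : Type u} [CommRing A] [IsDomain A] [ValuationRing A] {X : Scheme.{u}} [IsIntegral X]
  (f : X ⟶ Spec (CommRingCat.of A)) [LocallyOfFiniteType f]

/-- Over a valuation ring, the local fibre dimension of a morphism locally of finite type from an
integral scheme is constant (no dominance assumption). -/
theorem fibreDimAt_const_of_valuationRing (x₁ x₂ : X) :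
    FlatMor.fibreDimAt f x₁ = FlatMor.fibreDimAt f x₂ := by
  obtain ⟨p, hp⟩ : ∃ p : Ideal A, p = (f (genericPoint X)).asIdeal := ⟨_, rfl⟩
  have hpp : p.IsPrime := by rw [hp]; exact (f (genericPoint X)).isPrime
  have hle : p ≤ RingHom.ker ((Scheme.ΓSpecIso (CommRingCat.of A)).inv ≫ f.appTop).hom := by
    rw [hp]; exact asIdeal_le_ker f
  obtain ⟨f', hf'⟩ : ∃ f' : X ⟶ Spec (CommRingCat.of (A ⧸ p)), f' = f.liftQuotient p hle :=
    ⟨_, rfl⟩
  obtain ⟨j, hj⟩ : ∃ j : Spec (CommRingCat.of (A ⧸ p)) ⟶ Spec (CommRingCat.of A),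
      j = Spec.map (CommRingCat.ofHom (Ideal.Quotient.mk p)) := ⟨_, rfl⟩
  have hfac : f' ≫ j = f := by
    rw [hf', hj]; exact f.liftQuotient_comp p hle
  have hVR : ValuationRing (A ⧸ p) :=
    Function.Surjective.valuationRing (Ideal.Quotient.mk p) Ideal.Quotient.mk_surjective
  have hjci : IsClosedImmersion j := by
    rw [hj]; exact IsClosedImmersion.spec_of_surjective _ Ideal.Quotient.mk_surjective
  have hlft : LocallyOfFiniteType f' := by
    have : LocallyOfFiniteType (f' ≫ j) := by rw [hfac]; infer_instance
    exact locallyOfFiniteType_of_comp f' j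
  -- `f'` sends the generic point to the generic point
  have hgen : (f' (genericPoint X)).asIdeal = ⊥ := by
    have h1 : (j (f' (genericPoint X))).asIdeal = p := by
      rw [← Scheme.Hom.comp_apply, hfac, hp]
    have h2 : (j (f' (genericPoint X))).asIdeal =
        Ideal.comap (Ideal.Quotient.mk p) (f' (genericPoint X)).asIdeal := by
      rw [hj]; rfl
    rw [h2] at h1
    have h3 := Ideal.map_comap_of_surjective (Ideal.Quotient.mk p) Ideal.Quotient.mk_surjective
      (f' (genericPoint X)).asIdeal
    rw [h1, Ideal.map_quotient_self] at h3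
    exact h3.symm
  have hdom : IsDominant f' := by
    refine ⟨?_⟩
    have hcl : closure ({f' (genericPoint X)} : Set (Spec (CommRingCat.of (A ⧸ p)))) =
        Set.univ := by
      have h := PrimeSpectrum.closure_singleton (f' (genericPoint X) : PrimeSpectrum (A ⧸ p))
      rw [hgen] at h
      refine h.trans ?_
      ext q
      refine ⟨fun _ => Set.mem_univ _, fun _ => ?_⟩
      rw [PrimeSpectrum.mem_zeroLocus]
      intro a ha
      have ha0 : a = 0 := ha
      rw [ha0]
      exact q.asIdeal.zero_mem
    rw [DenseRange, dense_iff_closure_eq, ← Set.univ_subset_iff, ← hcl]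
    exact closure_mono (Set.singleton_subset_iff.mpr ⟨_, rfl⟩)
  have hpb : IsPullback (𝟙 X) f' f j := by
    refine ⟨⟨by rw [Category.id_comp, hfac]⟩, ⟨CategoryTheory.Limits.PullbackCone.IsLimit.mk _ (fun s => s.fst)
      (fun s => by simp) (fun s => ?_) (fun s m h1 _ => by simpa using h1)⟩⟩
    rw [← cancel_mono j, Category.assoc, hfac, s.condition]
  have e1 := fibreDimAt_eq_of_isPullback f j (𝟙 X) f' hpb x₁
  have e2 := fibreDimAt_eq_of_isPullback f j (𝟙 X) f' hpb x₂
  have i1 : (𝟙 X : X ⟶ X) x₁ = x₁ := rfl
  have i2 : (𝟙 X : X ⟶ X) x₂ = x₂ := rfl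
  rw [i1] at e1
  rw [i2] at e2
  rw [← e1, ← e2, fibreDimAt_eq_dim_generic_fiber_of_valuationRing f' x₁,
    fibreDimAt_eq_dim_generic_fiber_of_valuationRing f' x₂]

end const

section main

/-- transport of transcendence degrees along an equality of points -/
theorem trdeg_congr {X Y : Scheme.{u}} (f : X ⟶ Y) {a b : X} (h : a = b) :
    @Algebra.trdeg (Y.residueField (f a)) (X.residueField a) _ _
        (f.residueFieldMap a).hom.toAlgebra =
      @Algebra.trdeg (Y.residueField (f b)) (X.residueField b) _ _
        (f.residueFieldMap b).hom.toAlgebra := by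
  subst h
  rfl

/-- The closure of a point as an integral closed subscheme. -/
theorem exists_integral_closure_subscheme {X : Scheme.{u}} (x' : X) :
    ∃ (Z : Scheme.{u}) (ι : Z ⟶ X) (_ : IsClosedImmersion ι) (_ : IsIntegral Z),
      Set.range ι = closure {x'} ∧ ι (genericPoint Z) = x' := by
  obtain ⟨hirr, hrange, hgp⟩ := closure_subscheme_setup x'
  have hred := isReduced_subscheme_vanishingIdeal'
    (⟨closure {x'}, isClosed_closure⟩ : TopologicalSpace.Closeds X)
  have hint : IsIntegral (Scheme.IdealSheafData.vanishingIdeal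
      (⟨closure {x'}, isClosed_closure⟩ : TopologicalSpace.Closeds X)).subscheme :=
    isIntegral_of_irreducibleSpace_of_isReduced _
  exact ⟨_, (Scheme.IdealSheafData.vanishingIdeal
      (⟨closure {x'}, isClosed_closure⟩ : TopologicalSpace.Closeds X)).subschemeι,
    inferInstance, hint, hrange, hgp⟩

theorem main (R : Type u) [CommRing R] [IsDomain R] [ValuationRing R] {X : Scheme.{u}}
    (φ : X ⟶ Spec (CommRingCat.of R)) [LocallyOfFiniteType φ]
    (x x' : X) (hgen : x' ⤳ x) (hx : ∀ y : X, y ⤳ x → φ y = φ x → y = x) :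
    ∀ y : X, y ⤳ x' → φ y = φ x' → y = x' := by
  intro y hyx' hφy
  obtain ⟨Z, ι, hci, hint, hrange, hgp⟩ := exists_integral_closure_subscheme x'
  have hxr : x ∈ Set.range ι := by
    rw [hrange]
    exact hgen.mem_closure
  obtain ⟨w, rfl⟩ := hxr
  -- step 4: the local fibre dimension at `x` is the transcendence degree
  obtain ⟨z₀, hz₀f, hz₀s, -, n, hn, hFx, -, -⟩ := exists_maximal_point_fiber φ (ι w)
  obtain rfl : z₀ = ι w := hx z₀ hz₀s hz₀f
  -- step 1
  have h1 : (n : WithBot ℕ∞) ≤ FlatMor.fibreDimAt (ι ≫ φ) w := by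
    refine trdeg_le_fibreDimAt (ι ≫ φ) w n ?_
    rw [trdeg_residueField_preimmersion_comp ι φ w]
    exact hn
  -- step 2
  have h2 := fibreDimAt_const_of_valuationRing (ι ≫ φ) w (genericPoint Z)
  -- step 3
  obtain ⟨z₁, -, hz₁s, -, n', hn', hFξ, -, -⟩ :=
    exists_maximal_point_fiber (ι ≫ φ) (genericPoint Z)
  obtain rfl : z₁ = genericPoint Z :=
    (hz₁s.antisymm ((genericPoint_spec Z).specializes (Set.mem_univ _))).eq
  rw [trdeg_residueField_preimmersion_comp ι φ, trdeg_congr φ hgp] at hn'
  -- step 5
  obtain ⟨n'', hn'', hFx'⟩ := fibreDimAt_eq_stalk_fiber_add_trdeg φ x'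
  have hnn : n'' = n' := by
    have := hn''.symm.trans hn'
    exact_mod_cast this
  have hChev := fibreDimAt_le_of_specializes' φ x' (ι w) hgen
  rw [hFx', hFx, hnn] at hChev
  have h3 : ringKrullDim ((φ.fiber (φ x')).presheaf.stalk (φ.asFiber x')) + (n' : WithBot ℕ∞) ≤
      (0 : WithBot ℕ∞) + (n' : WithBot ℕ∞) := by
    rw [zero_add]
    calc _ ≤ (n : WithBot ℕ∞) := hChev
      _ ≤ _ := h1
      _ = _ := h2
      _ = _ := hFξ
  have h4 : ringKrullDim ((φ.fiber (φ x')).presheaf.stalk (φ.asFiber x')) ≤ 0 := by
    refine withBot_enat_le_of_add_le_add_left n' ?_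
    rw [add_comm, add_comm (n' : WithBot ℕ∞)]
    exact h3
  have h5 : ringKrullDim ((φ.fiber (φ x')).presheaf.stalk (φ.asFiber x')) = 0 :=
    le_antisymm h4 ringKrullDim_nonneg_of_nontrivial
  -- conclusion
  have hyr : y ∈ Set.range (φ.fiberι (φ x')) := by
    rw [φ.range_fiberι]
    exact hφy
  obtain ⟨w', rfl⟩ := hyr
  have hsp : w' ⤳ φ.asFiber x' := by
    rw [← (φ.fiberι (φ x')).isEmbedding.isInducing.specializes_iff, φ.fiberι_asFiber]
    exact hyx'
  have := eq_of_specializes_of_ringKrullDim_stalk_eq_zero (φ.asFiber x') w' h5 hsp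
  rw [this, φ.fiberι_asFiber]

end main

end Groth.Agent.S14887

namespace Groth.Agent.S14887

/-- Let R be a valuation ring and let φ : X → Spec R be flat and locally of finite presentation. Call x
∈ X fibre-generic when it is the generic point of an irreducible component of its fibre, i.e. no
point y ≠ x with φ y = φ x specializes to x. Then every generization of a fibre-generic point is
fibre-generic. (The published statement allows an arbitrary base scheme and takes φ finitely
presented. Over a two-dimensional base it fails: for the affine line over the affine plane with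
coordinates a, b, the closed point u = a/b of the generic fibre specializes to the generic point of
the fibre over a = b = 0, and the chain-lifting step of the published proof does not hold in that
generality. This row takes the base to be the spectrum of a valuation ring, the case in which the
result is applied to relative curves, and assumes only local finite presentation, the property being
local on X.) -/
theorem result
    (R : Type u) [CommRing R] [IsDomain R] [ValuationRing R] {X : Scheme.{u}}
    (φ : X ⟶ Spec (CommRingCat.of R)) [Flat φ] [LocallyOfFinitePresentation φ]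
    (x x' : X) (hgen : x' ⤳ x) (hx : ∀ y : X, y ⤳ x → φ y = φ x → y = x) :
    ∀ y : X, y ⤳ x' → φ y = φ x' → y = x' := by
  exact main R φ x x' hgen hx

end Groth.Agent.S14887
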