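import Groth.Statements.S14888
import Groth.Agent.H76.FiniteSpecLoc

set_option autoImplicit false
universe u
open CategoryTheory AlgebraicGeometry
open CAlg

namespace Groth.Agent.S14888

/-- Let R be a valuation ring whose spectrum is finite (finite height) and let f : X → Spec R be locally
of finite type with locally quasi-finite fibres. For every x ∈ X the canonical morphism Spec O_{X,x}
→ X is an open immersion, and the composite Spec O_{X,x} → Spec R is locally of finite type; in
particular O_{X,x} is finitely generated as an R-algebra. (The published statement takes X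
quasi-finite over Spec R; the assertions are local at x, so this row assumes only that X is locally
of finite type with discrete fibres.) -/
theorem result
    (R : Type u) [CommRing R] [IsDomain R] [ValuationRing R] [Finite (PrimeSpectrum R)]
    {X : Scheme.{u}} (f : X ⟶ Spec (CommRingCat.of R)) [LocallyOfFiniteType f] [LocallyQuasiFinite f]
    (x : X) :
    IsOpenImmersion (X.fromSpecStalk x) ∧ LocallyOfFiniteType (X.fromSpecStalk x ≫ f) := by
  obtain ⟨_, ⟨U : X.Opens, hU, rfl⟩, hxU, -⟩ :=
    X.isBasis_affineOpens.exists_subset_of_mem_open (Set.mem_univ x) isOpen_univ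
  have hxU' : x ∈ U := hxU
  -- the ring map `Γ(Spec R, ⊤) → Γ(X, U)` is quasi-finite
  have hqf : (f.appLE ⊤ U le_top).hom.QuasiFinite :=
    HasRingHomProperty.appLE @LocallyQuasiFinite f inferInstance ⟨⊤, isAffineOpen_top _⟩ ⟨U, hU⟩
      le_top
  have hfin0 : Finite (PrimeSpectrum Γ(Spec (CommRingCat.of R), ⊤)) :=
    Finite.of_equiv (PrimeSpectrum R)
      (PrimeSpectrum.comapEquiv
        (Scheme.ΓSpecIso (CommRingCat.of R)).commRingCatIsoToRingEquiv).toEquiv.symm
  have hfin : Finite (PrimeSpectrum Γ(X, U)) := by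
    algebraize [(f.appLE ⊤ U le_top).hom]
    exact Algebra.QuasiFinite.finite_primeSpectrum Γ(Spec (CommRingCat.of R), ⊤) Γ(X, U)
  let _ : Algebra Γ(X, U) (X.presheaf.stalk x) :=
    TopCat.Presheaf.algebra_section_stalk X.presheaf ⟨x, hxU'⟩
  have hloc : IsLocalization.AtPrime (X.presheaf.stalk x) (hU.primeIdealOf ⟨x, hxU'⟩).asIdeal :=
    hU.isLocalization_stalk ⟨x, hxU'⟩
  obtain ⟨g, -, hg⟩ := Groth.Agent.H76.FiniteSpecLoc.exists_isLocalization_away
    (hU.primeIdealOf ⟨x, hxU'⟩).asIdeal (X.presheaf.stalk x)
  have h1 : IsOpenImmersion (Spec.map (X.presheaf.germ U x hxU')) :=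
    IsOpenImmersion.of_isLocalization (R := Γ(X, U)) (S := X.presheaf.stalk x) g
  have h2 : IsOpenImmersion (X.fromSpecStalk x) := by
    rw [← hU.fromSpecStalk_eq_fromSpecStalk hxU', IsAffineOpen.fromSpecStalk]
    infer_instance
  exact ⟨h2, inferInstance⟩

end Groth.Agent.S14888
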