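import Groth.Statements.S14891
import Groth.Agent.Lib.Helper9.Abhyankar

set_option autoImplicit false
universe u
open CAlg

namespace Groth.Agent.S14891

/-- Let L/K be an extension of valued fields, i.e. v_L is a valuation on L whose restriction to K is
equivalent to v_K. Write E for the rational rank of the quotient of value groups |L^×|/|K^×| — here
the rank of the abelian group L^× modulo the subgroup generated by the units of the valuation ring
of v_L and the image of K^× — and F for the transcendence degree of the residue field of v_L over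
that of v_K. Then E + F ≤ tr.deg(L/K) (an inequality of cardinals). -/
theorem result
    {K L Γ₀ Γ₁ : Type u} [Field K] [Field L] [Algebra K L]
    [LinearOrderedCommGroupWithZero Γ₀] [LinearOrderedCommGroupWithZero Γ₁]
    (vK : Valuation K Γ₀) (vL : Valuation L Γ₁) [vK.HasExtension vL] :
    Module.rank ℤ (Additive Lˣ ⧸ Subgroup.toAddSubgroup
        (vL.valuationSubring.unitGroup ⊔ (Units.map (algebraMap K L).toMonoidHom).range)) +
      Algebra.trdeg (IsLocalRing.ResidueField vK.valuationSubring)
        (IsLocalRing.ResidueField vL.valuationSubring) ≤ Algebra.trdeg K L := by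
  classical
  obtain ⟨sI, hsI, hlin⟩ := exists_set_linearIndependent_of_isDomain ℤ
    (Additive Lˣ ⧸ Subgroup.toAddSubgroup
      (vL.valuationSubring.unitGroup ⊔ (Units.map (algebraMap K L).toMonoidHom).range))
  obtain ⟨sJ, hsJ⟩ := exists_isTranscendenceBasis (IsLocalRing.ResidueField vK.valuationSubring)
    (IsLocalRing.ResidueField vL.valuationSubring)
  have hF := hsJ.cardinalMk_eq_trdeg
  choose a ha using fun i : sI => QuotientAddGroup.mk_surjective
    (s := Subgroup.toAddSubgroup
      (vL.valuationSubring.unitGroup ⊔ (Units.map (algebraMap K L).toMonoidHom).range))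
    (i : Additive Lˣ ⧸ Subgroup.toAddSubgroup
      (vL.valuationSubring.unitGroup ⊔ (Units.map (algebraMap K L).toMonoidHom).range))
  choose y hy using fun j : sJ => IsLocalRing.residue_surjective
    (j : IsLocalRing.ResidueField vL.valuationSubring)
  have hyind : AlgebraicIndependent (IsLocalRing.ResidueField vK.valuationSubring)
      (fun j => IsLocalRing.residue vL.valuationSubring (y j)) := by
    have h0 : (fun j => IsLocalRing.residue vL.valuationSubring (y j))
        = ((↑) : sJ → IsLocalRing.ResidueField vL.valuationSubring) := funext hy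
    rw [h0]
    exact hsJ.1
  have hxlin : LinearIndependent ℤ (fun i : sI =>
      (QuotientAddGroup.mk (Additive.ofMul (Additive.toMul (a i))) :
        Additive Lˣ ⧸ Subgroup.toAddSubgroup (vL.valuationSubring.unitGroup ⊔
          (Units.map (algebraMap K L).toMonoidHom).range))) := by
    have h0 : (fun i : sI => (QuotientAddGroup.mk (Additive.ofMul (Additive.toMul (a i))) :
        Additive Lˣ ⧸ Subgroup.toAddSubgroup (vL.valuationSubring.unitGroup ⊔
          (Units.map (algebraMap K L).toMonoidHom).range)))
        = fun i : sI => id (i : Additive Lˣ ⧸ Subgroup.toAddSubgroup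
          (vL.valuationSubring.unitGroup ⊔ (Units.map (algebraMap K L).toMonoidHom).range)) :=
      funext ha
    rw [h0]
    exact hlin
  have h1 : AlgebraicIndependent K (fun j => ((y j : vL.valuationSubring) : L)) := by
    rw [algebraicIndependent_iff]
    intro P hP
    by_contra hP0
    obtain ⟨c, hc, hvc⟩ := Groth.Agent.Lib.Helper9.Abhyankar.gauss vK vL y hyind P hP0
    rw [hP, map_zero] at hvc
    have hc' : algebraMap K L c ≠ 0 := fun h => hc ((algebraMap K L).injective (by
      rw [h, map_zero]))
    exact ((Valuation.ne_zero_iff vL).mpr hc') hvc.symm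
  have h2 : AlgebraicIndependent
      (Algebra.adjoin K (Set.range (fun j => ((y j : vL.valuationSubring) : L))))
      (fun i => ((Additive.toMul (a i) : Lˣ) : L)) := by
    apply Groth.Agent.Lib.Helper9.Abhyankar.algebraicIndependent_units vL _ ?_ _ hxlin
    intro c hc
    obtain ⟨P, hP⟩ : ∃ P : MvPolynomial sJ K,
        MvPolynomial.aeval (fun j => ((y j : vL.valuationSubring) : L)) P = (c : L) := by
      have h3 : (c : L) ∈ (MvPolynomial.aeval (fun j => ((y j : vL.valuationSubring) : L)) :
          MvPolynomial sJ K →ₐ[K] L).range := by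
        rw [MvPolynomial.aeval_range]
        exact c.2
      exact h3
    have hP0 : P ≠ 0 := by
      rintro rfl
      apply hc
      apply Subtype.ext
      rw [← hP, map_zero]
      rfl
    obtain ⟨b, hb, hvb⟩ := Groth.Agent.Lib.Helper9.Abhyankar.gauss vK vL y hyind P hP0
    exact ⟨b, hb, by rw [← hP]; exact hvb⟩
  have h3 : AlgebraicIndependent K
      (Sum.elim (fun i => ((Additive.toMul (a i) : Lˣ) : L))
        (fun j => ((y j : vL.valuationSubring) : L))) :=
    AlgebraicIndependent.sumElim_iff.mpr ⟨h1, h2⟩
  have h4 := h3.cardinalMk_le_trdeg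
  rw [Cardinal.mk_sum, Cardinal.lift_id, Cardinal.lift_id, hsI, hF] at h4
  exact h4

end Groth.Agent.S14891
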