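import Groth.Statements.S14893
import Groth.Agent.Lib.Helper9.DimTrdeg

set_option autoImplicit false
universe u
open CAlg

namespace Groth.Agent.S14893

/-- Every valuation ring R is a filtered union of subrings which are valuation rings with finite
spectrum (finite height): there is a nonempty directed index type and a monotone family of such
subrings of R whose supremum is R. -/
theorem result
    (R : Type u) [CommRing R] [IsDomain R] [ValuationRing R] :
    ∃ (ι : Type u) (_ : Preorder ι) (_ : IsDirected ι (fun a b ↦ a ≤ b)) (_ : Nonempty ι)
      (F : ι → Subring R), Monotone F ∧ (⨆ i, F i) = ⊤ ∧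
        ∀ i, ValuationRing (F i) ∧ Finite (PrimeSpectrum (F i)) := by
  classical
  let E : Finset R → Subfield (FractionRing R) := fun s =>
    Subfield.closure (algebraMap R (FractionRing R) '' (s : Set R))
  let F : Finset R → Subring R := fun s => (E s).toSubring.comap (algebraMap R (FractionRing R))
  have hFmem : ∀ (s : Finset R) (a : R), a ∈ F s ↔ algebraMap R (FractionRing R) a ∈ E s :=
    fun s a => Iff.rfl
  refine ⟨Finset R, inferInstance, inferInstance, ⟨∅⟩, F, ?_, ?_, ?_⟩
  · intro s t hst a ha
    rw [hFmem] at ha ⊢
    exact Subfield.closure_mono (Set.image_mono (by exact_mod_cast hst)) ha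
  · rw [eq_top_iff]
    intro a _
    have h1 : a ∈ F {a} := by
      rw [hFmem]
      exact Subfield.subset_closure ⟨a, by simp, rfl⟩
    exact (le_iSup F {a}) h1
  · intro s
    have hdiv : ∀ (a b : F s) (c : R), (a : R) * c = b → ∃ c' : F s, a * c' = b := by
      intro a b c hc
      by_cases ha : (a : R) = 0
      · refine ⟨0, ?_⟩
        apply Subtype.ext
        rw [← hc, ha]
        simp
      · have ha' : algebraMap R (FractionRing R) a ≠ 0 := by
          intro h0
          exact ha ((IsFractionRing.injective R (FractionRing R)) (by rw [h0, map_zero]))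
        have hcE : algebraMap R (FractionRing R) c ∈ E s := by
          have h2 : algebraMap R (FractionRing R) c
              = algebraMap R (FractionRing R) b / algebraMap R (FractionRing R) a := by
            rw [eq_div_iff ha', ← map_mul, mul_comm, hc]
          rw [h2]
          exact div_mem ((hFmem s b).mp b.2) ((hFmem s a).mp a.2)
        exact ⟨⟨c, (hFmem s c).mpr hcE⟩, Subtype.ext hc⟩
    have hP : PreValuationRing (F s) := by
      refine ⟨fun a b => ?_⟩
      obtain ⟨c, hc | hc⟩ := ValuationRing.cond (a : R) (b : R)
      · obtain ⟨c', hc'⟩ := hdiv a b c hc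
        exact ⟨c', Or.inl hc'⟩
      · obtain ⟨c', hc'⟩ := hdiv b a c hc
        exact ⟨c', Or.inr hc'⟩
    have hV : ValuationRing (F s) := {}
    refine ⟨hV, ?_⟩
    have hinj : Function.Injective ((algebraMap R (FractionRing R)).comp (F s).subtype) :=
      (IsFractionRing.injective R (FractionRing R)).comp Subtype.val_injective
    obtain ⟨d, hd⟩ := Groth.Agent.Lib.Helper9.DimTrdeg.exists_ringKrullDim_le_of_closure
      ((algebraMap R (FractionRing R)).comp (F s).subtype) hinj
      (algebraMap R (FractionRing R) '' (s : Set R)) (s.finite_toSet.image _)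
      (fun a => (hFmem s a).mp a.2)
    exact Groth.Agent.Lib.Helper9.DimTrdeg.finite_primeSpectrum_of_valuationRing d hd

end Groth.Agent.S14893
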