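import Groth.Statements.S14897
-- import your own Groth.Agent.* helpers here
import Groth.Agent.Lib.Helper17.ProjSpaceProper

set_option autoImplicit false
universe u
open CategoryTheory CategoryTheory.Limits AlgebraicGeometry
open FlatMor

namespace Groth.Agent.S14897

theorem toImage_dominant {X Y : Scheme.{u}} (g : X ⟶ Y) [QuasiCompact g] :
    IsSchemeTheoreticallyDominant g.toImage := by
  constructor
  refine Scheme.IdealSheafData.ext_of_iSup_eq_top
    (U := fun U : Y.affineOpens => (⟨g.imageι ⁻¹ᵁ U.1, U.2.preimage g.imageι⟩ : g.image.affineOpens)) ?_ ?_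
  · rw [_root_.eq_top_iff]
    rintro x -
    have hx : g.imageι x ∈ (⨆ i : Y.affineOpens, (i : Y.Opens)) := by
      rw [iSup_affineOpens_eq_top]; trivial
    obtain ⟨U, hx⟩ := TopologicalSpace.Opens.mem_iSup.mp hx
    exact TopologicalSpace.Opens.mem_iSup.mpr ⟨U, hx⟩
  · intro U
    rw [Scheme.Hom.ker_apply]
    simp only [Scheme.IdealSheafData.ideal_bot, Pi.bot_apply]
    exact (RingHom.injective_iff_ker_eq_bot _).mp (g.toImage_app_injective U)

end Groth.Agent.S14897

namespace Groth.Agent.S14897

/-- Let S be integral, quasi-compact and quasi-separated, K̄ a field with a dominant morphism η̄ : Spec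
K̄ → S, and f ∈ K̄. Then there is a K̄-modification of S on which f is a rational function defining
a morphism to the projective line: η̄ factors as a schematically dominant s : Spec K̄ → S' followed
by a proper S' → S, and there is F : S' → P¹ (Proj of ℤ[T₀, T₁], universe-lifted) with s ≫ F equal
to the K̄-point [1 : f] of the chart T₀ ≠ 0. -/
theorem result
    {S : Scheme.{u}} [IsIntegral S] [CompactSpace S] [QuasiSeparatedSpace S]
    (Kb : Type u) [Field Kb] (ηb : Spec (CommRingCat.of Kb) ⟶ S) [IsDominant ηb] (f : Kb) :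
    ∃ (S' : Scheme.{u}) (s : Spec (CommRingCat.of Kb) ⟶ S') (q : S' ⟶ S)
      (F : S' ⟶ CohB1.ProjSpace 1 P1.R0.{u}),
      IsSchemeTheoreticallyDominant s ∧ IsProper q ∧ s ≫ q = ηb ∧
      s ≫ F = Spec.map (CommRingCat.ofHom (P1.chartMap 0 Kb f)) ≫
        Proj.awayι P1.grading (P1.T 0) (P1.X_mem 0) one_pos := by
  classical
  let pt : Spec (CommRingCat.of Kb) ⟶ CohB1.ProjSpace 1 P1.R0.{u} :=
    Spec.map (CommRingCat.ofHom (P1.chartMap 0 Kb f)) ≫
      Proj.awayι P1.grading (P1.T 0) (P1.X_mem 0) one_pos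
  let g : Spec (CommRingCat.of Kb) ⟶ CohB1.ProjSpaceOver 1 S :=
    pullback.lift pt ηb (specULiftZIsTerminal.hom_ext _ _)
  have : QuasiCompact g := inferInstance
  have := Groth.Agent.Lib.Helper17.ProjSpaceProper.isProper_toBase 1 S
  refine ⟨g.image, g.toImage, g.imageι ≫ CohB1.ProjSpaceOver.toBase 1 S,
    g.imageι ≫ pullback.fst _ _, toImage_dominant g, inferInstance, ?_, ?_⟩
  · rw [Scheme.Hom.toImage_imageι_assoc]
    exact pullback.lift_snd _ _ _
  · rw [Scheme.Hom.toImage_imageι_assoc]
    exact pullback.lift_fst _ _ _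

end Groth.Agent.S14897
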