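import Groth.Statements.S14901
import Groth.Agent.Lib.Helper78.FibreIrredMain

set_option autoImplicit false
universe u
open MovLem

namespace Groth.Agent.S14901

open AlgebraicGeometry CategoryTheory Topology TopologicalSpace Groth.Agent.Lib.Helper78.FibreIrred Groth.Agent.Lib.Helper55 in
/-- The image of a morphism of finite type over a field has dimension at least that of the
closure of any of its points. -/
theorem dim_closure_le_dim_range {k : Type u} [Field k] {S X : Scheme.{u}}
    (pX : X ⟶ Spec (CommRingCat.of k)) [LocallyOfFiniteType pX] [QuasiCompact pX]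
    [IsNoetherian S] (f : S ⟶ X) [LocallyOfFiniteType f] (ξ : S) :
    topologicalKrullDim ↥(closure ({f ξ} : Set X)) ≤ topologicalKrullDim ↥(Set.range f) := by
  have hXN := isNoetherian_of_finiteType pX
  obtain ⟨X', ι, hι, hrange⟩ :=
    exists_isClosedImmersion_range_eq (closure ({f ξ} : Set X)) isClosed_closure
  have hemb : IsClosedEmbedding ι := ι.isClosedEmbedding
  have hirr : IrreducibleSpace X' := by
    have h1 : IsIrreducible (Set.range ι) := hrange ▸ isIrreducible_singleton.closure
    have h2 : IrreducibleSpace ↥(Set.range ι) := Subtype.irreducibleSpace h1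
    exact irreducibleSpace_of_homeomorph hemb.isEmbedding.toHomeomorph
  have hX'N : IsNoetherian X' := isNoetherian_of_finiteType (ι ≫ pX)
  have hdimX' : topologicalKrullDim ↥X' = topologicalKrullDim ↥(closure ({f ξ} : Set X)) := by
    rw [← hrange]
    exact IsHomeomorph.topologicalKrullDim_eq _ hemb.isEmbedding.toHomeomorph.isHomeomorph
  -- the preimage of the range is constructible and dense
  have hc : IsConstructible (Set.range f) := by
    rw [← Set.image_univ]
    exact f.isConstructible_image IsConstructible.univ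
  have hE : IsConstructible (ι ⁻¹' Set.range f) := ι.isConstructible_preimage hc
  have hη : ι (genericPoint X') = f ξ := by
    have h1 : IsGenericPoint (ι (genericPoint X')) (closure (ι '' Set.univ)) :=
      (genericPoint_spec X').image ι.continuous
    rw [Set.image_univ, hrange, closure_closure] at h1
    exact h1.eq rfl
  have hdense : Dense (ι ⁻¹' Set.range f) := by
    rw [dense_iff_closure_eq, ← Set.univ_subset_iff, ← (genericPoint_spec X').def]
    refine closure_mono (Set.singleton_subset_iff.mpr ?_)
    show ι (genericPoint X') ∈ Set.range f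
    rw [hη]
    exact ⟨ξ, rfl⟩
  obtain ⟨U', hU'o, ⟨u, hu⟩, hU'sub⟩ := (Groth.Agent.S2395.result hE).mp hdense
  have h1 := localDim_eq_topologicalKrullDim_of_irreducibleSpace (ι ≫ pX) u
  have h2 : FlatMor.localDim ↥X' u ≤ topologicalKrullDim ↥U' :=
    iInf_le (fun U : {U : TopologicalSpace.Opens X' // u ∈ U} =>
      topologicalKrullDim (U.1 : Set X')) ⟨⟨U', hU'o⟩, hu⟩
  rw [← hdimX', ← h1]
  refine h2.trans ?_
  let φ : ↥U' → ↥(Set.range f) := fun w => ⟨ι w.1, hU'sub w.2⟩
  have hφ : IsInducing φ := by
    refine IsInducing.of_comp ?_ continuous_subtype_val ?_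
    · exact (ι.continuous.comp continuous_subtype_val).subtype_mk _
    · exact hemb.isEmbedding.isInducing.comp IsInducing.subtypeVal
  exact hφ.topologicalKrullDim_le

open AlgebraicGeometry CategoryTheory Topology TopologicalSpace Groth.Agent.Lib.Helper78.FibreIrred Groth.Agent.Lib.Helper55 in
/-- In a closed subset `F` of dimension `≥ b` of a scheme of finite type over a field there is a
point whose closure has dimension `≥ b`. -/
theorem exists_mem_le_dim_closure {k : Type u} [Field k] {S : Scheme.{u}}
    (pS : S ⟶ Spec (CommRingCat.of k)) [LocallyOfFiniteType pS] (F : Set S) (hF : IsClosed F)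
    (b : ℕ) (hb : (b : WithBot ℕ∞) ≤ topologicalKrullDim ↥F) :
    ∃ t ∈ F, (b : WithBot ℕ∞) ≤ topologicalKrullDim ↥(closure ({t} : Set S)) := by
  have hqs : QuasiSober ↥F := hF.isClosedEmbedding_subtypeVal.quasiSober
  let _ : S.Over (Spec (CommRingCat.of k)) := ⟨pS⟩
  have hq : LocallyOfFiniteType (S ↘ Spec (CommRingCat.of k)) := ‹LocallyOfFiniteType pS›
  have hcl : ∀ w : ↥F, topologicalKrullDim ↥(closure ({w} : Set ↥F)) =
      topologicalKrullDim ↥(closure ({w.1} : Set S)) := by
    intro w
    rw [← topologicalKrullDim_closure_inter_range_eq (Subtype.val : ↥F → S)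
      IsEmbedding.subtypeVal w, Subtype.range_coe, Set.inter_eq_left.mpr
      (hF.closure_subset_iff.mpr (Set.singleton_subset_iff.mpr w.2))]
  have h1 : (b : WithBot ℕ∞) ≤ ⨆ w : ↥F, topologicalKrullDim ↥(closure ({w.1} : Set S)) := by
    refine hb.trans (topologicalKrullDim_le_iSup_closure.trans ?_)
    exact iSup_mono fun w => (hcl w).le
  obtain ⟨w, hw⟩ := exists_le_of_le_iSup_natCast _ (fun w : ↥F => by
    obtain ⟨s, hs, -⟩ := exists_dim_closure_eq_trdeg k S w.1
    exact ⟨s, hs⟩) b h1
  exact ⟨w.1, w.2, hw⟩

open AlgebraicGeometry CategoryTheory in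
/-- Let k be a field, let S and X be separated k-schemes of finite type that are locally equidimensional
(all irreducible components passing through a given point have the same dimension), let f : S → X be
a k-morphism and Z ⊆ X a closed subset. Let d be the dimension of the image f(S), as a subspace of
X. If every point s of S with f(s) ∈ Z satisfies dim O_{S,s} ≥ d + 1 (equivalently: the closed
subset f⁻¹(Z) of S has local codimension at least d + 1 at each of its points), then f⁻¹(Z) is
empty. -/
theorem result (k : Type u) [Field k] (S X : Scheme.{u})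
    (pS : S ⟶ Spec (CommRingCat.of k)) (pX : X ⟶ Spec (CommRingCat.of k))
    [IsSeparated pS] [LocallyOfFiniteType pS] [QuasiCompact pS]
    [IsSeparated pX] [LocallyOfFiniteType pX] [QuasiCompact pX]
    (hS : ∀ (s : S) (A B : Set S), A ∈ irreducibleComponents (S : Type u) → B ∈ irreducibleComponents (S : Type u) →
      s ∈ A → s ∈ B → topologicalKrullDim A = topologicalKrullDim B)
    (hX : ∀ (x : X) (A B : Set X), A ∈ irreducibleComponents (X : Type u) → B ∈ irreducibleComponents (X : Type u) →
      x ∈ A → x ∈ B → topologicalKrullDim A = topologicalKrullDim B)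
    (f : S ⟶ X) (hf : f ≫ pX = pS) (Z : Set X) (hZ : IsClosed Z)
    (h : ∀ s : S, f.base s ∈ Z →
      topologicalKrullDim (Set.range f.base) + 1 ≤ ringKrullDim (S.presheaf.stalk s)) :
    f.base ⁻¹' Z = ∅ := by
  by_contra hne
  have hlft : LocallyOfFiniteType f :=
    Groth.Agent.Lib.Helper78.FibreIrred.lft_of_comp_eq pS pX f hf
  have hSN := Groth.Agent.Lib.Helper78.FibreIrred.isNoetherian_of_finiteType pS
  have hJ : JacobsonSpace S := LocallyOfFiniteType.jacobsonSpace pS
  obtain ⟨s₀, hs₀Z, hs₀c⟩ := nonempty_inter_closedPoints (Set.nonempty_iff_ne_empty.mpr hne)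
    (hZ.preimage f.continuous).isLocallyClosed
  have hy : IsClosed ({f s₀} : Set X) :=
    Groth.Agent.Lib.Helper78.FibreIrred.isClosed_singleton_map pS pX f hf s₀ hs₀c
  -- the component through `s₀`
  have hA := irreducibleComponent_mem_irreducibleComponents s₀
  have hAcl : IsClosed (irreducibleComponent s₀) := isClosed_of_mem_irreducibleComponents _ hA
  have hgen : closure {hA.1.genericPoint} = irreducibleComponent s₀ :=
    (hA.1.isGenericPoint_genericPoint hAcl).def
  set ξ := hA.1.genericPoint with hξ
  obtain ⟨a, b, ha, -, hab⟩ := Groth.Agent.Lib.Helper55.exists_dim_closure_eq_add pX f ξ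
  have hs₀A : s₀ ∈ closure ({ξ} : Set S) := hgen ▸ mem_irreducibleComponent
  have h1 := Groth.Agent.Lib.Helper78.FibreIrred.le_dim_fiber_inter_closure pX f ξ a b ha hab
    s₀ hs₀A
  have hFcl : IsClosed (f ⁻¹' {f s₀} ∩ closure ({ξ} : Set S)) :=
    (hy.preimage f.continuous).inter isClosed_closure
  obtain ⟨t, ⟨htF, htA⟩, htb⟩ := exists_mem_le_dim_closure pS _ hFcl b h1
  have hft : f t = f s₀ := htF
  -- local dimension at `t`
  have h2 := Groth.Agent.Lib.Helper55.localDim_eq_dim_closure_add_dim_stalk pS t
  obtain ⟨ξ', hξ', hξ't, hξ'd⟩ :=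
    Groth.Agent.Lib.Helper55.exists_mem_irreducibleComponents_dim_eq_localDim pS t
  have hAB : topologicalKrullDim ↥(closure ({ξ} : Set S)) =
      topologicalKrullDim ↥(closure ({ξ'} : Set S)) :=
    hS t _ _ (hgen ▸ hA) hξ' htA (specializes_iff_mem_closure.mp hξ't)
  rw [← hξ'd, ← hAB, hab] at h2
  -- `dim O_{S,t} ≥ a + 1`
  have h3 := h t (by
    show f t ∈ Z
    rw [hft]; exact hs₀Z)
  have h4 : (a : WithBot ℕ∞) ≤ topologicalKrullDim ↥(Set.range f) := by
    rw [← ha]
    exact dim_closure_le_dim_range pX f ξ
  have h5 : ((a + 1 : ℕ) : WithBot ℕ∞) ≤ ringKrullDim (S.presheaf.stalk t) := by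
    refine le_trans ?_ h3
    push_cast
    exact add_le_add_left h4 1
  let _ : S.Over (Spec (CommRingCat.of k)) := ⟨pS⟩
  have hq : LocallyOfFiniteType (S ↘ Spec (CommRingCat.of k)) := ‹LocallyOfFiniteType pS›
  obtain ⟨c, hc, -⟩ := Groth.Agent.Lib.Helper55.exists_dim_closure_eq_trdeg k S t
  rw [hc] at h2 htb
  have hbc : b ≤ c := by exact_mod_cast htb
  have h6 : ((c + (a + 1) : ℕ) : WithBot ℕ∞) ≤ ((a + b : ℕ) : WithBot ℕ∞) := by
    rw [h2]
    push_cast
    exact add_le_add_right (by exact_mod_cast h5) _
  have h7 : c + (a + 1) ≤ a + b := by exact_mod_cast h6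
  omega

end Groth.Agent.S14901
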