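import Groth.Statements.S14902
import Mathlib.AlgebraicGeometry.PullbackCarrier

set_option autoImplicit false
universe u
open MovLem

namespace Groth.Agent.S14902

open AlgebraicGeometry CategoryTheory CategoryTheory.Limits in
theorem result (k : Type u) [Field k] (X₁ X₂ X₃ : Scheme.{u})
    (π₁ : X₁ ⟶ Spec (CommRingCat.of k)) (π₂ : X₂ ⟶ Spec (CommRingCat.of k)) (π₃ : X₃ ⟶ Spec (CommRingCat.of k))
    (p₁₃ : pullback (pullback.snd π₁ π₂) (pullback.fst π₂ π₃) ⟶ pullback π₁ π₃)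
    (h₁₃ : p₁₃ ≫ pullback.fst π₁ π₃ =
      pullback.fst (pullback.snd π₁ π₂) (pullback.fst π₂ π₃) ≫ pullback.fst π₁ π₂)
    (h₁₃' : p₁₃ ≫ pullback.snd π₁ π₃ =
      pullback.snd (pullback.snd π₁ π₂) (pullback.fst π₂ π₃) ≫ pullback.snd π₂ π₃)
    (W₁ : Set ↥(pullback π₁ π₂)) (W₂ : Set ↥(pullback π₂ π₃)) (R₁ : Set X₁)
    (W₁₂ : Set ↥(pullback (pullback.snd π₁ π₂) (pullback.fst π₂ π₃)))
    (hW₁₂ : W₁₂ = (pullback.fst (pullback.snd π₁ π₂) (pullback.fst π₂ π₃)).base ⁻¹' W₁ ∩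
      (pullback.snd (pullback.snd π₁ π₂) (pullback.fst π₂ π₃)).base ⁻¹' W₂)
    (W₃ : Set ↥(pullback π₁ π₃)) (hW₃ : W₃ = p₁₃.base '' W₁₂)
    (R₂ : Set X₂) (hR₂ : R₂ = (pullback.snd π₁ π₂).base '' (W₁ ∩ (pullback.fst π₁ π₂).base ⁻¹' R₁))
    (R₃ : Set X₃) (hR₃ : R₃ = (pullback.snd (pullback.snd π₁ π₂) (pullback.fst π₂ π₃) ≫ pullback.snd π₂ π₃).base ''
      (W₁₂ ∩ (pullback.fst (pullback.snd π₁ π₂) (pullback.fst π₂ π₃) ≫ pullback.fst π₁ π₂).base ⁻¹' R₁)) :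
    R₃ = (pullback.snd π₁ π₃).base '' (W₃ ∩ (pullback.fst π₁ π₃).base ⁻¹' R₁) ∧
      R₃ = (pullback.snd π₂ π₃).base '' (W₂ ∩ (pullback.fst π₂ π₃).base ⁻¹' R₂) := by
  have e1 : ∀ z, (pullback.fst π₁ π₃).base (p₁₃.base z) =
      (pullback.fst π₁ π₂).base ((pullback.fst (pullback.snd π₁ π₂) (pullback.fst π₂ π₃)).base z) := by
    intro z
    have := congrArg (fun f => f.base z) h₁₃
    simpa using this
  have e2 : ∀ z, (pullback.snd π₁ π₃).base (p₁₃.base z) =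
      (pullback.snd π₂ π₃).base ((pullback.snd (pullback.snd π₁ π₂) (pullback.fst π₂ π₃)).base z) := by
    intro z
    have := congrArg (fun f => f.base z) h₁₃'
    simpa using this
  have e3 : ∀ z, (pullback.snd π₁ π₂).base
        ((pullback.fst (pullback.snd π₁ π₂) (pullback.fst π₂ π₃)).base z) =
      (pullback.fst π₂ π₃).base ((pullback.snd (pullback.snd π₁ π₂) (pullback.fst π₂ π₃)).base z) := by
    intro z
    have := congrArg (fun f => f.base z)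
      (pullback.condition (f := pullback.snd π₁ π₂) (g := pullback.fst π₂ π₃))
    simpa using this
  subst hW₁₂ hW₃ hR₂ hR₃
  constructor
  · ext x
    simp only [Set.mem_image, Set.mem_inter_iff, Set.mem_preimage, Scheme.Hom.comp_base,
      TopCat.comp_app]
    constructor
    · rintro ⟨z, ⟨⟨hz1, hz2⟩, hz3⟩, rfl⟩
      exact ⟨p₁₃.base z, ⟨⟨z, ⟨hz1, hz2⟩, rfl⟩, by rw [e1]; exact hz3⟩, e2 z⟩
    · rintro ⟨w, ⟨⟨z, ⟨hz1, hz2⟩, rfl⟩, hw⟩, rfl⟩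
      exact ⟨z, ⟨⟨hz1, hz2⟩, by rw [← e1]; exact hw⟩, (e2 z).symm⟩
  · ext x
    simp only [Set.mem_image, Set.mem_inter_iff, Set.mem_preimage, Scheme.Hom.comp_base,
      TopCat.comp_app]
    constructor
    · rintro ⟨z, ⟨⟨hz1, hz2⟩, hz3⟩, rfl⟩
      exact ⟨_, ⟨hz2, ⟨_, ⟨hz1, hz3⟩, e3 z⟩⟩, rfl⟩
    · rintro ⟨y, ⟨hy, ⟨x', ⟨hx1, hx2⟩, hxy⟩⟩, rfl⟩
      obtain ⟨z, hz1, hz2⟩ := Scheme.Pullback.exists_preimage_pullback
        (f := pullback.snd π₁ π₂) (g := pullback.fst π₂ π₃) x' y hxy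
      have hz1' : (pullback.fst (pullback.snd π₁ π₂) (pullback.fst π₂ π₃)).base z = x' := hz1
      have hz2' : (pullback.snd (pullback.snd π₁ π₂) (pullback.fst π₂ π₃)).base z = y := hz2
      refine ⟨z, ⟨⟨?_, ?_⟩, ?_⟩, ?_⟩
      · rw [hz1']; exact hx1
      · rw [hz2']; exact hy
      · rw [hz1']; exact hx2
      · rw [hz2']

end Groth.Agent.S14902
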