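import Groth.Statements.S14909
import Mathlib
import Groth.Agent.Lib.Helper63.WeierSing1
import Groth.Agent.Lib.Helper63.WeierSing2
-- import your own Groth.Agent.* helpers here

set_option autoImplicit false
universe u
open Neron


namespace Groth.Agent.S14909.Aux

open MvPowerSeries Groth.Agent.Lib.Helper63

variable {R : Type u} [CommRing R] [IsDomain R] [IsDiscreteValuationRing R]

theorem le_jacobson (ϖ : R) (hϖ : Irreducible ϖ) (M : Ideal (MvPowerSeries (Fin 2) R))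
    (hM : M = Ideal.span {C ϖ, X 0, X 1}) : M ≤ Ideal.jacobson ⊥ := by
  have hcc : M ≤ (IsLocalRing.maximalIdeal R).comap (constantCoeff (σ := Fin 2) (R := R)) := by
    rw [hM, Ideal.span_le]
    intro z hz
    simp only [Set.mem_insert_iff, Set.mem_singleton_iff] at hz
    rcases hz with hz | hz | hz <;> rw [hz]
    · change constantCoeff (C ϖ) ∈ IsLocalRing.maximalIdeal R
      rw [constantCoeff_C, IsLocalRing.mem_maximalIdeal]
      exact hϖ.not_isUnit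
    · change constantCoeff (X 0) ∈ IsLocalRing.maximalIdeal R
      rw [constantCoeff_X]
      exact Ideal.zero_mem _
    · change constantCoeff (X 1) ∈ IsLocalRing.maximalIdeal R
      rw [constantCoeff_X]
      exact Ideal.zero_mem _
  intro g hg
  rw [Ideal.mem_jacobson_bot]
  intro h
  rw [MvPowerSeries.isUnit_iff_constantCoeff, map_add, map_mul, map_one]
  have h1 : constantCoeff g ∈ IsLocalRing.maximalIdeal R := hcc hg
  rw [← IsLocalRing.jacobson_eq_maximalIdeal (⊥ : Ideal R) bot_ne_top,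
    Ideal.mem_jacobson_bot] at h1
  exact h1 _

theorem mem_maximalIdeal_of_dvd (ϖ : R) (hϖ : Irreducible ϖ) (u : Rˣ) (n : ℕ) (a : R)
    (h : ϖ ^ (n + 1) ∣ a * ((u : R) * ϖ) ^ n) : a ∈ IsLocalRing.maximalIdeal R := by
  rw [mul_pow, ← mul_assoc, pow_succ'] at h
  have h1 : ϖ ∣ a * (u : R) ^ n :=
    (mul_dvd_mul_iff_right (pow_ne_zero n hϖ.ne_zero)).mp h
  have h2 : ϖ ∣ a := (IsUnit.dvd_mul_right ((u.isUnit).pow n)).mp h1
  rw [hϖ.maximalIdeal_eq, Ideal.mem_span_singleton]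
  exact h2

theorem core (ϖ : R) (hϖ : Irreducible ϖ) (w : ℕ) (u₁ u₆ : Rˣ) (d : R)
    (h2 : (2 : R) = ϖ ^ (w + 1) * d)
    (I M : Ideal (MvPowerSeries (Fin 2) R))
    (hI : I = Ideal.span {(X 1 : MvPowerSeries (Fin 2) R) ^ 2
        + C ((u₁ : R) * ϖ ^ (w + 1)) * (X 0 * X 1) - X 0 ^ 3 - C ((u₆ : R) * ϖ),
      2 * X 1 + C ((u₁ : R) * ϖ ^ (w + 1)) * X 0,
      3 * X 0 ^ 2 - C ((u₁ : R) * ϖ ^ (w + 1)) * X 1})
    (hM : M = Ideal.span {C ϖ, X 0, X 1}) :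
    (∀ n : ℕ, M ^ (n + 1) ⊔ I = Ideal.span {(X 1 : MvPowerSeries (Fin 2) R) ^ (n + 1),
      X 0 * X 1 ^ n} ⊔ I) ∧
    ∀ a b : R, C a * (X 1 : MvPowerSeries (Fin 2) R) ^ (2 * w + 1 + 1)
        + C b * (X 0 * X 1 ^ (2 * w + 1)) ∈ M ^ (2 * w + 1 + 1 + 1) ⊔ I →
      a ∈ IsLocalRing.maximalIdeal R ∧ b ∈ IsLocalRing.maximalIdeal R := by
  obtain ⟨a₁, ha₁⟩ : ∃ a₁ : R, a₁ = (u₁ : R) * ϖ ^ (w + 1) := ⟨_, rfl⟩
  obtain ⟨c, hc⟩ : ∃ c : R, c = (u₆ : R) * ϖ := ⟨_, rfl⟩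
  rw [← ha₁, ← hc] at hI
  have hqc : ϖ ∣ c := by rw [hc]; exact Dvd.intro_left _ rfl
  -- generators of I
  have hf : (X 1 : MvPowerSeries (Fin 2) R) ^ 2 + C a₁ * (X 0 * X 1) - X 0 ^ 3 - C c ∈ I := by
    rw [hI]; exact Ideal.subset_span (by simp)
  have hfy : (2 : MvPowerSeries (Fin 2) R) * X 1 + C a₁ * X 0 ∈ I := by
    rw [hI]; exact Ideal.subset_span (by simp)
  have hfx : (3 : MvPowerSeries (Fin 2) R) * X 0 ^ 2 - C a₁ * X 1 ∈ I := by
    rw [hI]; exact Ideal.subset_span (by simp)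
  have hxM : (X 0 : MvPowerSeries (Fin 2) R) ∈ M := by
    rw [hM]; exact Ideal.subset_span (by simp)
  have hyM : (X 1 : MvPowerSeries (Fin 2) R) ∈ M := by
    rw [hM]; exact Ideal.subset_span (by simp)
  have hIfg : I.FG := by
    rw [hI]; exact Submodule.fg_span (Set.toFinite _)
  have h2S : (2 : MvPowerSeries (Fin 2) R) = C (ϖ ^ (w + 1)) * C d := by
    rw [← map_mul, ← h2, map_ofNat]
  have ha₁S : (C a₁ : MvPowerSeries (Fin 2) R) = C (u₁ : R) * C (ϖ ^ (w + 1)) := by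
    rw [ha₁, map_mul]
  -- F1
  have hF1 : (C ϖ : MvPowerSeries (Fin 2) R) ∈ I ⊔ M ^ 2 := by
    have h1 : (C ϖ : MvPowerSeries (Fin 2) R) = C ((u₆⁻¹ : Rˣ) : R) *
        ((X 1 ^ 2 + C a₁ * (X 0 * X 1) - X 0 ^ 3)
          - (X 1 ^ 2 + C a₁ * (X 0 * X 1) - X 0 ^ 3 - C c)) := by
      have : (C ϖ : MvPowerSeries (Fin 2) R) = C ((u₆⁻¹ : Rˣ) : R) * C c := by
        rw [← map_mul, hc, Units.inv_mul_cancel_left]
      rw [this]; ring
    rw [h1]
    apply Ideal.mul_mem_left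
    apply Ideal.sub_mem _ _ (Ideal.mem_sup_left hf)
    apply Ideal.mem_sup_right
    apply Ideal.sub_mem
    · apply Ideal.add_mem
      · exact Ideal.pow_mem_pow hyM 2
      · apply Ideal.mul_mem_left
        rw [pow_two]
        exact Ideal.mul_mem_mul hxM hyM
    · have : (X 0 : MvPowerSeries (Fin 2) R) ^ 3 = X 0 * X 0 ^ 2 := by ring
      rw [this]
      exact Ideal.mul_mem_left _ _ (Ideal.pow_mem_pow hxM 2)
  -- 3 is a unit
  have h2m : (2 : R) ∈ IsLocalRing.maximalIdeal R := by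
    rw [hϖ.maximalIdeal_eq, Ideal.mem_span_singleton]
    exact ⟨ϖ ^ w * d, by rw [h2, pow_succ']; ring⟩
  have h3u : IsUnit (3 : R) := by
    by_contra h3
    have h3m : (3 : R) ∈ IsLocalRing.maximalIdeal R := (IsLocalRing.mem_maximalIdeal _).mpr h3
    have h1m : (1 : R) ∈ IsLocalRing.maximalIdeal R := by
      have : (1 : R) = 3 - 2 := by norm_num
      rw [this]
      exact Ideal.sub_mem _ h3m h2m
    exact (Ideal.ne_top_iff_one _).mp (IsLocalRing.maximalIdeal.isMaximal R).ne_top h1m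
  obtain ⟨u₃, hu₃⟩ := h3u
  have h3S : (3 : MvPowerSeries (Fin 2) R) = C (u₃ : R) := by
    rw [hu₃, map_ofNat]
  -- F2
  have hF2 : (X 0 : MvPowerSeries (Fin 2) R) ^ 2 ∈ I ⊔ M ^ 3 := by
    have h1 : (X 0 : MvPowerSeries (Fin 2) R) ^ 2 = C ((u₃⁻¹ : Rˣ) : R) *
        ((3 * X 0 ^ 2 - C a₁ * X 1) + C (u₁ : R) * C (ϖ ^ w) * (X 1 * C ϖ)) := by
      have h4 : (C ((u₃⁻¹ : Rˣ) : R) : MvPowerSeries (Fin 2) R) * 3 = 1 := by
        rw [h3S, ← map_mul, Units.inv_mul, map_one]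
      have h5 : (C a₁ : MvPowerSeries (Fin 2) R) = C (u₁ : R) * C (ϖ ^ w) * C ϖ := by
        rw [ha₁, pow_succ, map_mul, map_mul]; ring
      rw [h5]
      calc (X 0 : MvPowerSeries (Fin 2) R) ^ 2 = (C ((u₃⁻¹ : Rˣ) : R) * 3) * X 0 ^ 2 := by
            rw [h4, one_mul]
        _ = _ := by ring
    rw [h1]
    apply Ideal.mul_mem_left
    apply Ideal.add_mem _ (Ideal.mem_sup_left hfx)
    apply Ideal.mul_mem_left
    have h6 : (X 1 : MvPowerSeries (Fin 2) R) ∈ M ^ 1 := by rw [pow_one]; exact hyM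
    have h7 : (X 1 : MvPowerSeries (Fin 2) R) * C ϖ ∈ I ⊔ M ^ (1 + 2) :=
      WeierSing1.mul_mem_sup_pow h6 hF1
    have e3 : (1 + 2 : ℕ) = 3 := by norm_num
    rw [e3] at h7
    exact h7
  have hA := WeierSing1.pow_sup_eq hM hF1 hF2 hIfg (le_jacobson ϖ hϖ M hM)
  refine ⟨hA, ?_⟩
  intro a b hab
  rw [hA] at hab
  -- (y²)^k ≡ c^k
  have hdvd : ∀ k : ℕ, ∃ t : MvPowerSeries (Fin 2) R,
      (X 1 : MvPowerSeries (Fin 2) R) ^ (2 * k) = (X 1 ^ 2 - C c) * t + C (c ^ k) := by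
    intro k
    obtain ⟨t, ht⟩ := sub_dvd_pow_sub_pow ((X 1 : MvPowerSeries (Fin 2) R) ^ 2) (C c) k
    refine ⟨t, ?_⟩
    rw [map_pow, ← ht, pow_mul]
    ring
  have hcpow : ∀ k : ℕ, (C (c ^ k) : MvPowerSeries (Fin 2) R) = C ((u₆ : R) ^ k) * C (ϖ ^ k) := by
    intro k
    rw [← map_mul, hc, mul_pow]
  obtain ⟨t, ht⟩ := hdvd (w + 1)
  obtain ⟨t', ht'⟩ := hdvd w
  have e1 : (X 1 : MvPowerSeries (Fin 2) R) ^ (2 * w + 1 + 1) =
      (X 1 ^ 2 - C c) * t + C ((u₆ : R) ^ (w + 1)) * C (ϖ ^ (w + 1)) := by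
    rw [← hcpow, ← ht]
    congr 1
  have e2 : (X 1 : MvPowerSeries (Fin 2) R) ^ (2 * w + 1) =
      X 1 * ((X 1 ^ 2 - C c) * t' + C (c ^ w)) := by
    rw [← ht']; ring
  constructor
  · -- detect a
    obtain ⟨J, hJ⟩ : ∃ J : Ideal (MvPowerSeries (Fin 2) R),
      J = Ideal.span {(X 0 : MvPowerSeries (Fin 2) R), X 1 ^ 2 - C c, C (ϖ ^ (w + 1)) * X 1,
        C (ϖ ^ (w + 1 + 1))} := ⟨_, rfl⟩
    have hg1 : (X 0 : MvPowerSeries (Fin 2) R) ∈ J := by
      rw [hJ]; exact Ideal.subset_span (by simp)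
    have hg2 : (X 1 : MvPowerSeries (Fin 2) R) ^ 2 - C c ∈ J := by
      rw [hJ]; exact Ideal.subset_span (by simp)
    have hg3 : (C (ϖ ^ (w + 1)) : MvPowerSeries (Fin 2) R) * X 1 ∈ J := by
      rw [hJ]; exact Ideal.subset_span (by simp)
    have hIJ : I ≤ J := by
      rw [hI, Ideal.span_le]
      intro z hz
      simp only [Set.mem_insert_iff, Set.mem_singleton_iff] at hz
      rcases hz with hz | hz | hz <;> rw [hz]
      · have : (X 1 : MvPowerSeries (Fin 2) R) ^ 2 + C a₁ * (X 0 * X 1) - X 0 ^ 3 - C c =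
            1 * (X 1 ^ 2 - C c) + (C a₁ * X 1 - X 0 ^ 2) * X 0 := by ring
        rw [this]
        exact J.add_mem (J.mul_mem_left _ hg2) (J.mul_mem_left _ hg1)
      · have : (2 : MvPowerSeries (Fin 2) R) * X 1 + C a₁ * X 0 =
            C d * (C (ϖ ^ (w + 1)) * X 1) + C a₁ * X 0 := by rw [h2S]; ring
        rw [this]
        exact J.add_mem (J.mul_mem_left _ hg3) (J.mul_mem_left _ hg1)
      · have : (3 : MvPowerSeries (Fin 2) R) * X 0 ^ 2 - C a₁ * X 1 =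
            (3 * X 0) * X 0 - C (u₁ : R) * (C (ϖ ^ (w + 1)) * X 1) := by rw [ha₁S]; ring
        rw [this]
        exact J.sub_mem (J.mul_mem_left _ hg1) (J.mul_mem_left _ hg3)
    have hspanJ : Ideal.span {(X 1 : MvPowerSeries (Fin 2) R) ^ (2 * w + 1 + 1 + 1),
        X 0 * X 1 ^ (2 * w + 1 + 1)} ≤ J := by
      rw [Ideal.span_le]
      intro z hz
      simp only [Set.mem_insert_iff, Set.mem_singleton_iff] at hz
      rcases hz with hz | hz <;> rw [hz]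
      · have : (X 1 : MvPowerSeries (Fin 2) R) ^ (2 * w + 1 + 1 + 1) =
            (X 1 * t) * (X 1 ^ 2 - C c)
              + C ((u₆ : R) ^ (w + 1)) * (C (ϖ ^ (w + 1)) * X 1) := by
          rw [pow_succ, e1]; ring
        rw [this]
        exact J.add_mem (J.mul_mem_left _ hg2) (J.mul_mem_left _ hg3)
      · rw [mul_comm]
        exact J.mul_mem_left _ hg1
    have hab' : C a * (X 1 : MvPowerSeries (Fin 2) R) ^ (2 * w + 1 + 1)
        + C b * (X 0 * X 1 ^ (2 * w + 1)) ∈ J := (sup_le hspanJ hIJ) hab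
    have hCa : (C (a * c ^ (w + 1)) : MvPowerSeries (Fin 2) R) ∈ J := by
      have : (C (a * c ^ (w + 1)) : MvPowerSeries (Fin 2) R) =
          (C a * X 1 ^ (2 * w + 1 + 1) + C b * (X 0 * X 1 ^ (2 * w + 1)))
            - (C b * X 1 ^ (2 * w + 1)) * X 0 - (C a * t) * (X 1 ^ 2 - C c) := by
        have h7 : (X 1 : MvPowerSeries (Fin 2) R) ^ (2 * w + 1 + 1) =
            (X 1 ^ 2 - C c) * t + C (c ^ (w + 1)) := ht
        rw [h7, map_mul]; ring
      rw [this]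
      exact J.sub_mem (J.sub_mem hab' (J.mul_mem_left _ hg1)) (J.mul_mem_left _ hg2)
    rw [hJ] at hCa
    have hdet := WeierSing2.detect_a c ϖ hqc (w + 1) _ hCa
    rw [WeierSing2.Lam_C, hc] at hdet
    exact mem_maximalIdeal_of_dvd ϖ hϖ u₆ (w + 1) a hdet
  · -- detect b
    obtain ⟨J, hJ⟩ : ∃ J : Ideal (MvPowerSeries (Fin 2) R),
      J = Ideal.span {(X 0 : MvPowerSeries (Fin 2) R) ^ 2, X 1 ^ 2 - C c,
        C (ϖ ^ (w + 1))} := ⟨_, rfl⟩
    have hg1 : (X 0 : MvPowerSeries (Fin 2) R) ^ 2 ∈ J := by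
      rw [hJ]; exact Ideal.subset_span (by simp)
    have hg2 : (X 1 : MvPowerSeries (Fin 2) R) ^ 2 - C c ∈ J := by
      rw [hJ]; exact Ideal.subset_span (by simp)
    have hg3 : (C (ϖ ^ (w + 1)) : MvPowerSeries (Fin 2) R) ∈ J := by
      rw [hJ]; exact Ideal.subset_span (by simp)
    have hIJ : I ≤ J := by
      rw [hI, Ideal.span_le]
      intro z hz
      simp only [Set.mem_insert_iff, Set.mem_singleton_iff] at hz
      rcases hz with hz | hz | hz <;> rw [hz]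
      · have : (X 1 : MvPowerSeries (Fin 2) R) ^ 2 + C a₁ * (X 0 * X 1) - X 0 ^ 3 - C c =
            1 * (X 1 ^ 2 - C c) + (C (u₁ : R) * (X 0 * X 1)) * C (ϖ ^ (w + 1))
              - X 0 * X 0 ^ 2 := by rw [ha₁S]; ring
        rw [this]
        exact J.sub_mem (J.add_mem (J.mul_mem_left _ hg2) (J.mul_mem_left _ hg3))
          (J.mul_mem_left _ hg1)
      · have : (2 : MvPowerSeries (Fin 2) R) * X 1 + C a₁ * X 0 =
            (C d * X 1 + C (u₁ : R) * X 0) * C (ϖ ^ (w + 1)) := by rw [h2S, ha₁S]; ring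
        rw [this]
        exact J.mul_mem_left _ hg3
      · have : (3 : MvPowerSeries (Fin 2) R) * X 0 ^ 2 - C a₁ * X 1 =
            3 * X 0 ^ 2 - (C (u₁ : R) * X 1) * C (ϖ ^ (w + 1)) := by rw [ha₁S]; ring
        rw [this]
        exact J.sub_mem (J.mul_mem_left _ hg1) (J.mul_mem_left _ hg3)
    have hy2v : ∀ s : MvPowerSeries (Fin 2) R, s * X 1 ^ (2 * w + 1 + 1) ∈ J := by
      intro s
      have : s * (X 1 : MvPowerSeries (Fin 2) R) ^ (2 * w + 1 + 1) =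
          (s * t) * (X 1 ^ 2 - C c) + (s * C ((u₆ : R) ^ (w + 1))) * C (ϖ ^ (w + 1)) := by
        rw [e1]; ring
      rw [this]
      exact J.add_mem (J.mul_mem_left _ hg2) (J.mul_mem_left _ hg3)
    have hspanJ : Ideal.span {(X 1 : MvPowerSeries (Fin 2) R) ^ (2 * w + 1 + 1 + 1),
        X 0 * X 1 ^ (2 * w + 1 + 1)} ≤ J := by
      rw [Ideal.span_le]
      intro z hz
      simp only [Set.mem_insert_iff, Set.mem_singleton_iff] at hz
      rcases hz with hz | hz <;> rw [hz]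
      · have : (X 1 : MvPowerSeries (Fin 2) R) ^ (2 * w + 1 + 1 + 1) =
            X 1 * X 1 ^ (2 * w + 1 + 1) := by ring
        rw [this]
        exact hy2v _
      · exact hy2v _
    have hab' : C a * (X 1 : MvPowerSeries (Fin 2) R) ^ (2 * w + 1 + 1)
        + C b * (X 0 * X 1 ^ (2 * w + 1)) ∈ J := (sup_le hspanJ hIJ) hab
    have hCb : (C (b * c ^ w) * (X 0 * X 1) : MvPowerSeries (Fin 2) R) ∈ J := by
      have : (C (b * c ^ w) * (X 0 * X 1) : MvPowerSeries (Fin 2) R) =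
          (C a * X 1 ^ (2 * w + 1 + 1) + C b * (X 0 * X 1 ^ (2 * w + 1)))
            - C a * X 1 ^ (2 * w + 1 + 1) - (C b * X 0 * X 1 * t') * (X 1 ^ 2 - C c) := by
        rw [e2, map_mul]; ring
      rw [this]
      exact J.sub_mem (J.sub_mem hab' (hy2v _)) (J.mul_mem_left _ hg2)
    rw [hJ] at hCb
    have hdet := WeierSing2.detect_b c ϖ hqc w _ hCb
    rw [WeierSing2.Lam_C_mul_X0_mul_X1, hc] at hdet
    exact mem_maximalIdeal_of_dvd ϖ hϖ u₆ w b hdet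

end Groth.Agent.S14909.Aux

namespace Groth.Agent.S14909

/-- Let R be a discrete valuation ring with uniformizer ϖ, let a₁, a₆ ∈ R with a₁ of valuation v ≥ 1, a₆
of valuation 1, and 2 of valuation at least v (so the residue characteristic is 2; 2 = 0 is
allowed). In the power series ring S = R[[x, y]] let M = (ϖ, x, y) be the maximal ideal and I the
ideal generated by y² + a₁xy − x³ − a₆, 2y + a₁x and 3x² − a₁y, so that S/I is a local ring with
maximal ideal m = M/I. Then the classes of y^(2v) and x·y^(2v−1) form a basis of the vector space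
m^(2v)/m^(2v+1) over the residue field: M^(2v) + I = (y^(2v), x·y^(2v−1)) + I, and whenever a·y^(2v)
+ b·x·y^(2v−1) ∈ M^(2v+1) + I with a, b ∈ R, both a and b lie in the maximal ideal of R. (Generation
holds with any exponent i ≥ 1 in place of 2v: M^i + I = (y^i, x·y^(i−1)) + I.) -/
theorem result (R : Type u) [CommRing R] [IsDomain R] [IsDiscreteValuationRing R]
    (ϖ a₁ a₆ : R) (hϖ : Irreducible ϖ) (v : ℕ) (hv : 1 ≤ v) (u₁ u₆ : Rˣ) (ha₁ : a₁ = u₁ * ϖ ^ v) (ha₆ : a₆ = u₆ * ϖ)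
    (h2 : (2 : R) ∈ IsLocalRing.maximalIdeal R ^ v)
    (x y : MvPowerSeries (Fin 2) R) (hx : x = MvPowerSeries.X 0) (hy : y = MvPowerSeries.X 1)
    (I M : Ideal (MvPowerSeries (Fin 2) R))
    (hI : I = Ideal.span {y ^ 2 + a₁ • (x * y) - x ^ 3 - algebraMap R (MvPowerSeries (Fin 2) R) a₆,
      2 * y + a₁ • x, 3 * x ^ 2 - a₁ • y})
    (hM : M = Ideal.span {algebraMap R (MvPowerSeries (Fin 2) R) ϖ, x, y}) :
    M ^ (2 * v) ⊔ I = Ideal.span {y ^ (2 * v), x * y ^ (2 * v - 1)} ⊔ I ∧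
      ∀ a b : R, a • y ^ (2 * v) + b • (x * y ^ (2 * v - 1)) ∈ M ^ (2 * v + 1) ⊔ I →
        a ∈ IsLocalRing.maximalIdeal R ∧ b ∈ IsLocalRing.maximalIdeal R := by
  subst hx hy
  obtain ⟨w, rfl⟩ : ∃ w, v = w + 1 := ⟨v - 1, by omega⟩
  obtain ⟨d, hd⟩ : ∃ d : R, (2 : R) = ϖ ^ (w + 1) * d := by
    rw [hϖ.maximalIdeal_eq, Ideal.span_singleton_pow, Ideal.mem_span_singleton] at h2
    exact h2
  have hI' : I = Ideal.span {(MvPowerSeries.X 1 : MvPowerSeries (Fin 2) R) ^ 2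
        + MvPowerSeries.C ((u₁ : R) * ϖ ^ (w + 1)) * (MvPowerSeries.X 0 * MvPowerSeries.X 1)
        - MvPowerSeries.X 0 ^ 3 - MvPowerSeries.C ((u₆ : R) * ϖ),
      2 * MvPowerSeries.X 1 + MvPowerSeries.C ((u₁ : R) * ϖ ^ (w + 1)) * MvPowerSeries.X 0,
      3 * MvPowerSeries.X 0 ^ 2
        - MvPowerSeries.C ((u₁ : R) * ϖ ^ (w + 1)) * MvPowerSeries.X 1} := by
    rw [hI, ha₁, ha₆]
    simp only [MvPowerSeries.smul_eq_C_mul]
    rfl
  have hM' : M = Ideal.span {MvPowerSeries.C ϖ, MvPowerSeries.X 0, MvPowerSeries.X 1} := by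
    rw [hM]; rfl
  obtain ⟨hA, hB⟩ := Aux.core ϖ hϖ w u₁ u₆ d hd I M hI' hM'
  have e1 : 2 * (w + 1) = 2 * w + 1 + 1 := by ring
  have e2 : 2 * (w + 1) - 1 = 2 * w + 1 := by omega
  rw [e2, e1]
  refine ⟨hA (2 * w + 1), ?_⟩
  intro a b hab
  apply hB a b
  rw [MvPowerSeries.smul_eq_C_mul, MvPowerSeries.smul_eq_C_mul] at hab
  exact hab

end Groth.Agent.S14909
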