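import Groth.Statements.S1491
import Groth.Agent.Lib.Helper10.LciComp
import Groth.Agent.S9253

set_option autoImplicit false
universe u
attribute [local instance] HasDerivedCategory.standard
open FlatMor

namespace Groth.Agent.S1491

open AlgebraicGeometry CategoryTheory Limits in
/-- Let f : X → Y and g : Y → Z be local complete intersection morphisms, in the affine-local sense that
all ring maps between affine opens are local complete intersection homomorphisms. Then f ≫ g is a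
local complete intersection morphism. -/
theorem result {X Y Z : Scheme.{u}} (f : X ⟶ Y) (g : Y ⟶ Z)
    (hf : (∀ (U : X.Opens) (V : Y.Opens) (hU : IsAffineOpen U) (hV : IsAffineOpen V) (hUV : U ≤ f ⁻¹ᵁ V),
        letI := (f.appLE V U hUV).hom.toAlgebra
        LCI.IsLCI Γ(Y, V) Γ(X, U)))
    (hg : (∀ (U : Y.Opens) (V : Z.Opens) (hU : IsAffineOpen U) (hV : IsAffineOpen V) (hUV : U ≤ g ⁻¹ᵁ V),
        letI := (g.appLE V U hUV).hom.toAlgebra
        LCI.IsLCI Γ(Z, V) Γ(Y, U))) :
    (∀ (U : X.Opens) (V : Z.Opens) (hU : IsAffineOpen U) (hV : IsAffineOpen V) (hUV : U ≤ (f ≫ g) ⁻¹ᵁ V),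
        letI := ((f ≫ g).appLE V U hUV).hom.toAlgebra
        LCI.IsLCI Γ(Z, V) Γ(X, U)) := by
  intro U W hU hW hUW
  show Groth.Agent.Lib.Helper10.LciComp.IsLCIHom ((f ≫ g).appLE W U hUW).hom
  apply Groth.Agent.Lib.Helper10.LciComp.isLCIHom_of_span Groth.Agent.S9253.result _
    {h : Γ(X, U) | ∃ V : Y.Opens, IsAffineOpen V ∧ V ≤ g ⁻¹ᵁ W ∧ X.basicOpen h ≤ f ⁻¹ᵁ V}
  · rw [← hU.self_le_iSup_basicOpen_iff]
    intro x hx
    have hfx : f.base x ∈ g ⁻¹ᵁ W := by
      have := hUW hx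
      simpa using this
    obtain ⟨V, hV, hxV, hVW⟩ := (TopologicalSpace.Opens.isBasis_iff_nbhd.mp Y.isBasis_affineOpens) hfx
    obtain ⟨h, hh1, hh2⟩ := hU.exists_basicOpen_le (V := U ⊓ f ⁻¹ᵁ V) ⟨x, hx, hxV⟩ hx
    rw [TopologicalSpace.Opens.mem_iSup]
    exact ⟨⟨h, V, hV, hVW, hh1.trans inf_le_right⟩, hh2⟩
  · rintro h ⟨V, hV, hVW, hDV⟩
    have hD : IsAffineOpen (X.basicOpen h) := hU.basicOpen h
    have hDU : X.basicOpen h ≤ U := X.basicOpen_le h
    have h1 : Groth.Agent.Lib.Helper10.LciComp.IsLCIHom (g.appLE W V hVW).hom := hg V W hV hW hVW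
    have h2 : Groth.Agent.Lib.Helper10.LciComp.IsLCIHom (f.appLE V (X.basicOpen h) hDV).hom :=
      hf (X.basicOpen h) V hD hV hDV
    have h3 := Groth.Agent.Lib.Helper10.LciComp.isLCIHom_comp _ _ h1 h2
    have hkey : (f.appLE V (X.basicOpen h) hDV).hom.comp (g.appLE W V hVW).hom =
        (X.presheaf.map (homOfLE hDU).op).hom.comp ((f ≫ g).appLE W U hUW).hom := by
      rw [← CommRingCat.hom_comp, ← CommRingCat.hom_comp, Scheme.Hom.appLE_comp_appLE,
        Scheme.Hom.appLE_map]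
    rw [hkey] at h3
    letI alg : Algebra Γ(X, U) Γ(X, X.basicOpen h) := (X.presheaf.map (homOfLE hDU).op).hom.toAlgebra
    haveI hloc : IsLocalization.Away h Γ(X, X.basicOpen h) :=
      hU.isLocalization_of_eq_basicOpen h (homOfLE hDU) rfl
    let e : Γ(X, X.basicOpen h) ≃ₐ[Γ(X, U)] Localization.Away h :=
      IsLocalization.algEquiv (Submonoid.powers h) _ _
    have he : (e.toRingEquiv : Γ(X, X.basicOpen h) →+* Localization.Away h).comp
        (X.presheaf.map (homOfLE hDU).op).hom = algebraMap Γ(X, U) (Localization.Away h) := by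
      ext x
      exact e.commutes x
    rw [← he, RingHom.comp_assoc]
    exact Groth.Agent.Lib.Helper10.LciComp.isLCIHom_comp _ _ h3
      (Groth.Agent.Lib.Helper10.LciComp.isLCIHom_ringEquiv e.toRingEquiv)

end Groth.Agent.S1491
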