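import Groth.Statements.S14913
import Groth.Agent.H72.Perfection

set_option autoImplicit false
universe u
open CategoryTheory AlgebraicGeometry
open PerfSch

namespace Groth.Agent.S14913

/-- Let p be a prime and let X, Y, X', Y' be schemes of characteristic p (p = 0 in the structure sheaf).
Let π_X : X' ⟶ X and π_Y : Y' ⟶ Y be perfections: X' is perfect (its absolute Frobenius is an
isomorphism) and every morphism from a perfect scheme of characteristic p to X factors uniquely
through π_X, and likewise for π_Y. Let f : X ⟶ Y be a morphism and f' : X' ⟶ Y' the induced morphism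
of perfections, the one with f' ≫ π_Y = π_X ≫ f. Then f is quasi-compact if and only if f' is
quasi-compact. -/
theorem result (p : ℕ) [Fact p.Prime] {X Y XP YP : Scheme.{u}}
    [FrobSch.IsCharP X p] [FrobSch.IsCharP Y p] [FrobSch.IsCharP XP p] [FrobSch.IsCharP YP p]
    (πX : XP ⟶ X) (πY : YP ⟶ Y) (hX : FrobSch.IsPerfection πX p) (hY : FrobSch.IsPerfection πY p)
    (f : X ⟶ Y) (fP : XP ⟶ YP) (w : fP ≫ πY = πX ≫ f) :
    AlgebraicGeometry.QuasiCompact f ↔ AlgebraicGeometry.QuasiCompact fP := by
  have hX' : IsHomeomorph πX := Groth.Agent.H72.Perf.isHomeomorph_of_isPerfection p πX hX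
  have hY' : IsHomeomorph πY := Groth.Agent.H72.Perf.isHomeomorph_of_isPerfection p πY hY
  have hw : ∀ x' : XP, πY (fP x') = f (πX x') := fun x' => by
    rw [← Scheme.Hom.comp_apply, ← Scheme.Hom.comp_apply, w]
  constructor
  · intro h
    refine ⟨fun U' hU' hc => ?_⟩
    have hU : IsOpen (πY '' U') := hY'.isOpenMap _ hU'
    have hcU : IsCompact (πY '' U') := hc.image hY'.continuous
    have h1 : IsCompact (f ⁻¹' (πY '' U')) := h.1 _ hU hcU
    have h2 : fP ⁻¹' U' = πX ⁻¹' (f ⁻¹' (πY '' U')) := by
      ext x'
      simp only [Set.mem_preimage]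
      rw [← hw x']
      exact (hY'.injective.mem_set_image).symm
    rw [h2]
    exact (hX'.homeomorph πX).isCompact_preimage.mpr h1
  · intro h
    refine ⟨fun U hU hc => ?_⟩
    have hU' : IsOpen (πY ⁻¹' U) := hU.preimage hY'.continuous
    have hcU' : IsCompact (πY ⁻¹' U) := (hY'.homeomorph πY).isCompact_preimage.mpr hc
    have h1 : IsCompact (fP ⁻¹' (πY ⁻¹' U)) := h.1 _ hU' hcU'
    have h2 : f ⁻¹' U = πX '' (fP ⁻¹' (πY ⁻¹' U)) := by
      ext x
      constructor
      · intro hx
        obtain ⟨x', rfl⟩ := hX'.surjective x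
        refine ⟨x', ?_, rfl⟩
        simp only [Set.mem_preimage]
        rw [hw x']
        exact hx
      · rintro ⟨x', hx', rfl⟩
        simp only [Set.mem_preimage] at hx' ⊢
        rw [← hw x']
        exact hx'
    rw [h2]
    exact h1.image hX'.continuous

end Groth.Agent.S14913
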