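import Groth.Statements.S14915
import Groth.Agent.H72.PerfAffine

set_option autoImplicit false
set_option linter.style.haveILetI false
universe u
open CategoryTheory AlgebraicGeometry
open PerfSch

namespace Groth.Agent.S14915

/-- Let p be a prime and let X, Y, X', Y' be schemes of characteristic p (p = 0 in the structure sheaf).
Let π_X : X' ⟶ X and π_Y : Y' ⟶ Y be perfections: X' is perfect (its absolute Frobenius is an
isomorphism) and every morphism from a perfect scheme of characteristic p to X factors uniquely
through π_X, and likewise for π_Y. Let f : X ⟶ Y be a morphism and f' : X' ⟶ Y' the induced morphism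
of perfections, the one with f' ≫ π_Y = π_X ≫ f. Then f is affine if and only if f' is affine. -/
theorem result (p : ℕ) [Fact p.Prime] {X Y XP YP : Scheme.{u}}
    [FrobSch.IsCharP X p] [FrobSch.IsCharP Y p] [FrobSch.IsCharP XP p] [FrobSch.IsCharP YP p]
    (πX : XP ⟶ X) (πY : YP ⟶ Y) (hX : FrobSch.IsPerfection πX p) (hY : FrobSch.IsPerfection πY p)
    (f : X ⟶ Y) (fP : XP ⟶ YP) (w : fP ≫ πY = πX ≫ f) :
    AlgebraicGeometry.IsAffineHom f ↔ AlgebraicGeometry.IsAffineHom fP := by
  haveI hiX := Groth.Agent.H72.Perf.isIntegralHom_of_isPerfection p πX hX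
  haveI hiY := Groth.Agent.H72.Perf.isIntegralHom_of_isPerfection p πY hY
  constructor
  · intro hf
    haveI : IsAffineHom (fP ≫ πY) := by rw [w]; infer_instance
    exact IsAffineHom.of_comp fP πY
  · intro hfP
    rw [IsZariskiLocalAtTarget.iff_of_openCover (P := @IsAffineHom) Y.affineCover]
    intro (i : Y.affineCover.I₀)
    show IsAffineHom (Limits.pullback.snd f (Y.affineCover.f i))
    haveI : FrobSch.IsCharP (Limits.pullback fP (Limits.pullback.fst πY (Y.affineCover.f i))) p :=
      FrobSch.IsCharP.of_hom (Limits.pullback.fst fP (Limits.pullback.fst πY (Y.affineCover.f i))) p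
    haveI : FrobSch.IsCharP (Limits.pullback πY (Y.affineCover.f i)) p :=
      FrobSch.IsCharP.of_hom (Limits.pullback.fst πY (Y.affineCover.f i)) p
    haveI : FrobSch.IsCharP (Limits.pullback f (Y.affineCover.f i)) p :=
      FrobSch.IsCharP.of_hom (Limits.pullback.fst f (Y.affineCover.f i)) p
    haveI : FrobSch.IsCharP (Y.affineCover.X i) p := FrobSch.IsCharP.of_hom (Y.affineCover.f i) p
    have hXi := Groth.Agent.H72.Perf.isPerfection_restrictπ p πX πY hX hY f fP w
      (Y.affineCover.f i)
    haveI : IsAffine (Y.affineCover.X i) := inferInstance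
    haveI : IsAffine (Limits.pullback πY (Y.affineCover.f i)) :=
      isAffine_of_isAffineHom (Limits.pullback.snd πY (Y.affineCover.f i))
    haveI : IsAffine (Limits.pullback fP (Limits.pullback.fst πY (Y.affineCover.f i))) :=
      isAffine_of_isAffineHom (Limits.pullback.snd fP (Limits.pullback.fst πY (Y.affineCover.f i)))
    haveI : IsAffine (Limits.pullback f (Y.affineCover.f i)) :=
      Groth.Agent.H72.PerfAff.isAffine_of_isAffine_perfection p _ hXi
    infer_instance

end Groth.Agent.S14915
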