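import Groth.Statements.S1493
import Groth.Agent.Lib.Helper10.LciRegular
import Groth.Agent.Lib.Helper10.RegImmDescent

set_option autoImplicit false
universe u
attribute [local instance] HasDerivedCategory.standard
open FlatMor

namespace Groth.Agent.S1493


open AlgebraicGeometry CategoryTheory Limits in
/-- sections over affine opens of a locally Noetherian scheme with regular local rings form regular
rings. -/
lemma isRegularRing_of_stalks {X : Scheme.{u}} [IsLocallyNoetherian X]
    (hX : ∀ x : X, IsRegularLocalRing ↑(X.presheaf.stalk x)) {U : X.Opens} (hU : IsAffineOpen U) :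
    IsRegularRing Γ(X, U) := by
  haveI : IsNoetherianRing Γ(X, U) := IsLocallyNoetherian.component_noetherian ⟨U, hU⟩
  rw [isRegularRing_iff]
  intro p hp
  have hx : hU.fromSpec (⟨p, hp⟩ : PrimeSpectrum Γ(X, U)) ∈ U :=
    Groth.Agent.Lib.Helper10.RegImmDescent.fromSpec_mem hU ⟨p, hp⟩
  letI : Algebra Γ(X, U) (X.presheaf.stalk (hU.fromSpec (⟨p, hp⟩ : PrimeSpectrum Γ(X, U)))) :=
    TopCat.Presheaf.algebra_section_stalk X.presheaf ⟨_, hx⟩
  have hloc : IsLocalization.AtPrime
      (X.presheaf.stalk (hU.fromSpec (⟨p, hp⟩ : PrimeSpectrum Γ(X, U))))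
      (hU.primeIdealOf ⟨_, hx⟩).asIdeal := hU.isLocalization_stalk ⟨_, hx⟩
  rw [Groth.Agent.Lib.Helper10.RegImmDescent.primeIdealOf_fromSpec hU ⟨p, hp⟩ hx] at hloc
  haveI := hX (hU.fromSpec (⟨p, hp⟩ : PrimeSpectrum Γ(X, U)))
  exact IsRegularLocalRing.of_ringEquiv
    (IsLocalization.algEquiv p.primeCompl
      (X.presheaf.stalk (hU.fromSpec (⟨p, hp⟩ : PrimeSpectrum Γ(X, U))))
      (Localization.AtPrime p)).toRingEquiv

open AlgebraicGeometry CategoryTheory Limits in
/-- Let f : X → Y be locally of finite type with X and Y regular (locally Noetherian with regular local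
rings). Then f is a local complete intersection morphism (affine-locally: local complete
intersection ring maps). -/
theorem result {X Y : Scheme.{u}} (f : X ⟶ Y) [LocallyOfFiniteType f] [IsLocallyNoetherian X] [IsLocallyNoetherian Y]
    (hX : ∀ x : X, IsRegularLocalRing ↑(X.presheaf.stalk x)) (hY : ∀ y : Y, IsRegularLocalRing ↑(Y.presheaf.stalk y)) :
    (∀ (U : X.Opens) (V : Y.Opens) (hU : IsAffineOpen U) (hV : IsAffineOpen V) (hUV : U ≤ f ⁻¹ᵁ V),
        letI := (f.appLE V U hUV).hom.toAlgebra
        LCI.IsLCI Γ(Y, V) Γ(X, U)) := by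
  intro U V hU hV hUV
  letI := (f.appLE V U hUV).hom.toAlgebra
  have hft : Algebra.FiniteType Γ(Y, V) Γ(X, U) := f.finiteType_appLE hV hU hUV
  haveI : IsRegularRing Γ(Y, V) := isRegularRing_of_stalks hY hV
  have hB := isRegularRing_of_stalks hX hU
  exact Groth.Agent.Lib.Helper10.LciRegular.isLCI_of_regular hft
    (fun q _ => hB.isRegularLocalRing_localization q)

end Groth.Agent.S1493
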