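import Groth.Statements.S14950
import Groth.Agent.H76.Milnor

set_option autoImplicit false
universe u
open scoped TensorProduct
open EtAlg

namespace Groth.Agent.S14950

theorem result (B' B A' A : Type u) [CommRing B'] [CommRing B] [CommRing A'] [CommRing A]
    [Algebra B' B] [Algebra B' A'] [Algebra B A] [Algebra A' A] [Algebra B' A] [IsScalarTower B' B A] [IsScalarTower B' A' A]
    (hsq : EtMil.IsFibreSquare B' B A' A)
    (L' : Type u) [AddCommGroup L'] [Module B' L'] (l : L')
    (h1 : ((1 : B) ⊗ₜ[B'] l : B ⊗[B'] L') = 0) (h2 : ((1 : A') ⊗ₜ[B'] l : A' ⊗[B'] L') = 0) :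
    (∀ j : B', algebraMap B' B j = 0 → j • l = 0) ∧
      l ∈ (RingHom.ker (algebraMap B' B)) • (⊤ : Submodule B' L') :=
  ⟨fun j hj => Groth.Agent.H76.Milnor.smul_eq_zero_of_one_tmul_eq_zero hsq l h2 j hj,
    Groth.Agent.H76.Milnor.mem_smul_top_of_one_tmul_eq_zero
      (Groth.Agent.H76.Milnor.surjective_left hsq) l h1⟩

end Groth.Agent.S14950
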