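import Groth.Statements.S14951
import Groth.Agent.H76.Milnor

set_option autoImplicit false
universe u
open scoped TensorProduct
open EtAlg

namespace Groth.Agent.S14951

theorem result (B' B A' A : Type u) [CommRing B'] [CommRing B] [CommRing A'] [CommRing A]
    [Algebra B' B] [Algebra B' A'] [Algebra B A] [Algebra A' A] [Algebra B' A] [IsScalarTower B' B A] [IsScalarTower B' A' A]
    (hsq : EtMil.IsFibreSquare B' B A' A)
    (D' : Type u) [CommRing D'] [Algebra B' D'] (x y : D')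
    (hx : ((1 : B) ⊗ₜ[B'] x : B ⊗[B'] D') = 0) (hx' : ((1 : A') ⊗ₜ[B'] x : A' ⊗[B'] D') = 0)
    (hy : ((1 : B) ⊗ₜ[B'] y : B ⊗[B'] D') = 0) (hy' : ((1 : A') ⊗ₜ[B'] y : A' ⊗[B'] D') = 0) : x * y = 0 := by
  have hkill : ∀ (j : B'), algebraMap B' B j = 0 → j • y = 0 := fun j hj =>
    Groth.Agent.H76.Milnor.smul_eq_zero_of_one_tmul_eq_zero hsq y hy' j hj
  have hmem : x ∈ (RingHom.ker (algebraMap B' B)) • (⊤ : Submodule B' D') :=
    Groth.Agent.H76.Milnor.mem_smul_top_of_one_tmul_eq_zero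
      (Groth.Agent.H76.Milnor.surjective_left hsq) x hx
  refine Submodule.smul_induction_on hmem ?_ ?_
  · intro j hj d _
    rw [smul_mul_assoc, mul_comm, ← smul_mul_assoc, hkill j hj, zero_mul]
  · intro a b ha hb
    rw [add_mul, ha, hb, add_zero]

end Groth.Agent.S14951
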