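import Groth.Statements.S14955
import Groth.Agent.H76.Milnor

set_option autoImplicit false
universe u
open scoped TensorProduct
open EtAlg

namespace Groth.Agent.S14955

theorem result (B' B A' A : Type u) [CommRing B'] [CommRing B] [CommRing A'] [CommRing A]
    [Algebra B' B] [Algebra B' A'] [Algebra B A] [Algebra A' A] [Algebra B' A] [IsScalarTower B' B A] [IsScalarTower B' A' A]
    (hsq : EtMil.IsFibreSquare B' B A' A) : Algebra.IsPushout B' B A' A := by
  have hsurjB := Groth.Agent.H76.Milnor.surjective_left hsq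
  have key : ∀ x : B ⊗[B'] A', ∃ a' : A', x = (1 : B) ⊗ₜ[B'] a' := by
    intro x
    induction x with
    | zero => exact ⟨0, by simp⟩
    | tmul b a' =>
      obtain ⟨b', rfl⟩ := hsurjB b
      refine ⟨b' • a', ?_⟩
      rw [← TensorProduct.smul_tmul, Algebra.smul_def, mul_one]
    | add x y hx hy =>
      obtain ⟨a, rfl⟩ := hx
      obtain ⟨b, rfl⟩ := hy
      exact ⟨a + b, by rw [TensorProduct.tmul_add]⟩
  constructor
  unfold IsBaseChange IsTensorProduct
  constructor
  · rw [injective_iff_map_eq_zero]
    intro x hx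
    obtain ⟨a', rfl⟩ := key x
    simp only [TensorProduct.lift.tmul, LinearMap.coe_restrictScalars, LinearMap.flip_apply,
      Algebra.linearMap_apply, map_one, Module.End.one_apply,
      AlgHom.toLinearMap_apply, IsScalarTower.coe_toAlgHom'] at hx
    have : algebraMap B A 0 = algebraMap A' A a' := by rw [map_zero, hx]
    obtain ⟨b', ⟨hb1, hb2⟩, _⟩ := hsq.2 0 a' this
    rw [← hb2, Algebra.algebraMap_eq_smul_one, ← TensorProduct.smul_tmul, Algebra.smul_def, hb1,
      zero_mul, TensorProduct.zero_tmul]
  · intro a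
    obtain ⟨a', rfl⟩ := hsq.1 a
    refine ⟨(1 : B) ⊗ₜ[B'] a', ?_⟩
    simp

end Groth.Agent.S14955
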