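import Groth.Statements.S14956
import Groth.Agent.H76.MilnorIso
import Groth.Agent.S14952
import Groth.Agent.S14954
import Groth.Agent.Lib.Helper85.AzumayaSpecSurj
import Mathlib.RingTheory.Flat.EquationalCriterion

set_option autoImplicit false
universe u
open TensorProduct
open Brauer

namespace Groth.Agent.S14956

/-- Let B' = B ×_A A' be a fibre product of commutative rings with A' → A surjective and D' a B'-algebra
(associative, unital, not necessarily commutative). Then D' is an Azumaya algebra over B' if and
only if B ⊗_{B'} D' is an Azumaya algebra over B and A' ⊗_{B'} D' is an Azumaya algebra over A'.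
(The published statement is for a quasi-coherent algebra on the pushout scheme Y of a closed
immersion and an affine morphism; this row is the case of an affine Y. Azumaya is taken in the
finite-projective-faithful sense.) -/
theorem result (B' B A' A : Type u) [CommRing B'] [CommRing B] [CommRing A'] [CommRing A]
    [Algebra B' B] [Algebra B' A'] [Algebra B A] [Algebra A' A] [Algebra B' A] [IsScalarTower B' B A] [IsScalarTower B' A' A]
    (hsq : EtMil.IsFibreSquare B' B A' A)
    (D' : Type u) [Ring D'] [Algebra B' D'] :
    IsAzumaya B' D' ↔ IsAzumaya B (B ⊗[B'] D') ∧ IsAzumaya A' (A' ⊗[B'] D') := by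
  constructor
  · intro h
    exact ⟨Groth.Agent.Lib.Helper85.isAzumaya_baseChange B' B D',
      Groth.Agent.Lib.Helper85.isAzumaya_baseChange B' A' D'⟩
  · rintro ⟨hB, hA'⟩
    haveI : Module.Flat B (B ⊗[B'] D') := inferInstance
    haveI : Module.FinitePresentation B (B ⊗[B'] D') := Module.finitePresentation_of_projective _ _
    haveI : Module.Flat A' (A' ⊗[B'] D') := inferInstance
    haveI : Module.FinitePresentation A' (A' ⊗[B'] D') :=
      Module.finitePresentation_of_projective _ _
    haveI hflat : Module.Flat B' D' := Groth.Agent.S14952.result B' B A' A hsq D'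
    haveI hfp : Module.FinitePresentation B' D' := Groth.Agent.S14954.result B' B A' A hsq D'
    haveI : Module.Projective B' D' := Module.Flat.projective_of_finitePresentation
    haveI : Module.Finite B' D' := inferInstance
    haveI : FaithfulSMul B' D' := by
      refine ⟨fun {r r'} h => ?_⟩
      apply Groth.Agent.H76.Milnor.eq_of_maps_eq hsq
      · apply FaithfulSMul.eq_of_smul_eq_smul (α := B ⊗[B'] D')
        intro x
        induction x using TensorProduct.induction_on with
        | zero => simp
        | add x y hx hy => rw [smul_add, smul_add, hx, hy]
        | tmul b d =>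
          rw [algebraMap_smul, algebraMap_smul, ← TensorProduct.tmul_smul,
            ← TensorProduct.tmul_smul, h d]
      · apply FaithfulSMul.eq_of_smul_eq_smul (α := A' ⊗[B'] D')
        intro x
        induction x using TensorProduct.induction_on with
        | zero => simp
        | add x y hx hy => rw [smul_add, smul_add, hx, hy]
        | tmul b d =>
          rw [algebraMap_smul, algebraMap_smul, ← TensorProduct.tmul_smul,
            ← TensorProduct.tmul_smul, h d]
    haveI hEndproj : Module.Projective B' (Module.End B' D') :=
      Module.Projective.of_equiv (dualTensorHomEquiv B' D' D')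
    haveI : Module.Flat B' (Module.End B' D') := inferInstance
    haveI : Module.Flat B' D'ᵐᵒᵖ :=
      Module.Flat.of_linearEquiv (MulOpposite.opLinearEquiv B').symm
    haveI : Module.Flat B' (D' ⊗[B'] D'ᵐᵒᵖ) := inferInstance
    have key : ∀ (S : Type u) [CommRing S] [Algebra B' S] [IsAzumaya S (S ⊗[B'] D')],
        Function.Bijective ((AlgHom.mulLeftRight B' D').toLinearMap.baseChange S) := by
      intro S _ _ _
      have h1 : Function.Bijective ((AlgHom.mulLeftRight S (S ⊗[B'] D')).toLinearMap ∘ₗ
          (Groth.Agent.Lib.Helper85.baseChangeReorder B' S D').toLinearMap) := by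
        rw [LinearMap.coe_comp]
        exact Function.Bijective.comp IsAzumaya.bij
          (Groth.Agent.Lib.Helper85.baseChangeReorder B' S D').bijective
      rw [Groth.Agent.Lib.Helper85.mulLeftRight_baseChange_comp, LinearMap.coe_comp] at h1
      have hT := Groth.Agent.Lib.Helper85.tensorProduct_bijective_of_finite_projective B' S D' D'
      exact (Function.Bijective.of_comp_iff' hT _).mp h1
    refine ⟨?_⟩
    exact Groth.Agent.H76.MilnorIso.bijective_of_baseChange_bijective hsq
      (AlgHom.mulLeftRight B' D').toLinearMap (key B) (key A')

end Groth.Agent.S14956
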