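import Groth.Statements.S14959
import Groth.Agent.Lib.Helper61.QCohChart
import Groth.Agent.Lib.Helper61.MilnorMod1

set_option autoImplicit false
universe u
open AlgebraicGeometry CategoryTheory CategoryTheory.Limits
open Pinch

namespace Groth.Agent.S14959

/-- Let w : X' → X, g : X' → Y', f : X → Y, u : Y' → Y be a cartesian square of schemes with f affine
and u a closed immersion which is a pinching square: for every affine open V of Y, with I(V) the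
kernel of Γ(V, O_Y) → Γ(u⁻¹V, O_Y'), the kernel of Γ(V, O_Y) → Γ(f⁻¹V, O_X) meets I(V) in 0 and the
ideal generated by the image of I(V) in Γ(f⁻¹V, O_X) consists of images of elements of I(V)
(equivalently Γ(V, O_Y) is the fibre product of Γ(u⁻¹V, O_Y') and Γ(f⁻¹V, O_X) over Γ(h⁻¹V, O_X'),
i.e. O_Y = u_*O_Y' ×_{h_*O_X'} f_*O_X). If G is a quasi-coherent O_Y-module whose pullbacks u*G and
f*G are zero, then G = 0. -/
theorem result {X X' Y Y' : Scheme.{u}} (f : X ⟶ Y) (u : Y' ⟶ Y) (w : X' ⟶ X) (g : X' ⟶ Y')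
    (hP : IsPullback w g f u) [IsAffineHom f] [IsClosedImmersion u]
    (hM : ∀ V ∈ Y.affineOpens,
      RingHom.ker (f.app V).hom ⊓ RingHom.ker (u.app V).hom = ⊥ ∧
      ∀ a ∈ Ideal.map (f.app V).hom (RingHom.ker (u.app V).hom),
        ∃ i ∈ RingHom.ker (u.app V).hom, (f.app V).hom i = a)
    (G : Y.Modules) [G.IsQuasicoherent]
    (h1 : IsZero ((Scheme.Modules.pullback u).obj G)) (h2 : IsZero ((Scheme.Modules.pullback f).obj G)) :
    IsZero G := by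
  apply Groth.Agent.Lib.Helper13.OmegaZero.isZero_of_forall_exists_isZero_pullback
  intro y
  obtain ⟨_, ⟨V, hV : IsAffineOpen V, rfl⟩, hyV, -⟩ :=
    Y.isBasis_affineOpens.exists_subset_of_mem_open (Set.mem_univ y) isOpen_univ
  refine ⟨Spec Γ(Y, V), hV.fromSpec, inferInstance, ?_, ?_⟩
  · rw [hV.opensRange_fromSpec]; exact hyV
  obtain ⟨M, ⟨e⟩⟩ := Groth.Agent.Lib.Helper61.QCohChart.exists_tilde_iso G hV
  refine IsZero.of_iso ?_ e
  rw [Groth.Agent.Lib.Helper13.OmegaZero.isZero_tilde_iff]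
  have hU : IsAffineOpen (f ⁻¹ᵁ V) := hV.preimage f
  have hU' : IsAffineOpen (u ⁻¹ᵁ V) := hV.preimage u
  letI algB : Algebra Γ(Y, V) Γ(X, f ⁻¹ᵁ V) := (f.appLE V (f ⁻¹ᵁ V) le_rfl).hom.toAlgebra
  letI algA' : Algebra Γ(Y, V) Γ(Y', u ⁻¹ᵁ V) := (u.appLE V (u ⁻¹ᵁ V) le_rfl).hom.toAlgebra
  have hB : Subsingleton (TensorProduct Γ(Y, V) Γ(X, f ⁻¹ᵁ V) M) :=
    Groth.Agent.Lib.Helper61.QCohChart.subsingleton_of_isZero_pullback f G hV hU le_rfl M e h2
  have hA' : Subsingleton (TensorProduct Γ(Y, V) Γ(Y', u ⁻¹ᵁ V) M) :=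
    Groth.Agent.Lib.Helper61.QCohChart.subsingleton_of_isZero_pullback u G hV hU' le_rfl M e h1
  have hfB : algebraMap Γ(Y, V) Γ(X, f ⁻¹ᵁ V) = (f.app V).hom := by
    rw [Scheme.Hom.app_eq_appLE]; rfl
  have hfA' : algebraMap Γ(Y, V) Γ(Y', u ⁻¹ᵁ V) = (u.app V).hom := by
    rw [Scheme.Hom.app_eq_appLE]; rfl
  obtain ⟨hm1, hm2⟩ := hM V hV
  have hsurj : Function.Surjective (algebraMap Γ(Y, V) Γ(Y', u ⁻¹ᵁ V)) := by
    rw [hfA']; exact u.app_surjective V hV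
  refine Groth.Agent.Lib.Helper61.MilnorMod.subsingleton_of_subsingleton_tensor
    (A := Γ(Y, V)) (B := Γ(X, f ⁻¹ᵁ V)) (A' := Γ(Y', u ⁻¹ᵁ V)) ?_ ?_ M hsurj hB hA'
  · rw [hfB, hfA']; exact hm1
  · rw [hfB, hfA']; exact hm2

end Groth.Agent.S14959
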