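import Groth.Statements.S1496
import Groth.Agent.Lib.Helper17.AmpleVeryAmple
import Groth.Agent.Lib.Helper17.ProjSpaceProper
import Groth.Agent.Lib.Helper11.RelAmpleComp
import Groth.Agent.Lib.Helper11.RestrictTensor

set_option autoImplicit false
universe u
attribute [local instance] HasDerivedCategory.standard
open FlatMor

namespace Groth.Agent.S1496

open AlgebraicGeometry CategoryTheory Limits in
/-- Let S be a scheme carrying an ample invertible sheaf and f : X → S a morphism. Then f is a closed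
immersion into some projective space over S (f factors as a closed immersion X → Pⁿ_S followed by
the projection Pⁿ_S → S, for some n) if and only if f is proper and X carries an ample invertible
sheaf; and the latter holds if and only if f is proper and some O_X-module is ample relative to f. -/
theorem result {X S : Scheme.{u}} (hS : ∃ N : S.Modules, CohB1.IsAmple N) (f : X ⟶ S) :
    ((∃ (n : ℕ) (i : X ⟶ CohB1.ProjSpaceOver n S), IsClosedImmersion i ∧ i ≫ pullback.snd (CohB1.ProjSpace.toSpec n (ULift.{u} ℤ)) (specULiftZIsTerminal.from S) = f) ↔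
      (IsProper f ∧ ∃ L : X.Modules, CohB1.IsAmple L)) ∧
    ((IsProper f ∧ ∃ L : X.Modules, CohB1.IsAmple L) ↔ (IsProper f ∧ ∃ L : X.Modules, RelAmple.IsRelAmple f L)) := by
  have hprop : ∀ n : ℕ, IsProper (pullback.snd (CohB1.ProjSpace.toSpec n (ULift.{u} ℤ))
      (specULiftZIsTerminal.from S)) := fun n =>
    Groth.Agent.Lib.Helper17.ProjSpaceProper.isProper_toBase n S
  obtain ⟨N, hN⟩ := hS
  have key : ∀ (_ : QuasiCompact f) (L : X.Modules), RelAmple.IsRelAmple f L →
      ∃ L' : X.Modules, CohB1.IsAmple L' := by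
    intro _ L hrel
    obtain ⟨n₀, -, h⟩ :=
      Groth.Agent.Lib.Helper11.RelAmpleComp.eventually_isAmple_tensor_pullback_pow f L N hrel hN
    exact ⟨_, h n₀ le_rfl⟩
  refine ⟨⟨?_, ?_⟩, ⟨?_, ?_⟩⟩
  · rintro ⟨n, i₀, hi₀, hcomp₀⟩
    obtain ⟨i, hi, hcomp⟩ : ∃ i : X ⟶ pullback (CohB1.ProjSpace.toSpec n (ULift.{u} ℤ))
        (specULiftZIsTerminal.from S), IsClosedImmersion i ∧
        i ≫ pullback.snd (CohB1.ProjSpace.toSpec n (ULift.{u} ℤ))
          (specULiftZIsTerminal.from S) = f :=
      ⟨i₀, hi₀, hcomp₀⟩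
    subst hcomp
    haveI := hprop n
    haveI : IsClosedImmersion i := hi
    have him : IsImmersion i := inferInstance
    refine ⟨inferInstance, ?_⟩
    have hva : RelAmple.IsRelVeryAmplePn (i ≫ pullback.snd (CohB1.ProjSpace.toSpec n (ULift.{u} ℤ))
        (specULiftZIsTerminal.from S)) ((Scheme.Modules.pullback i).obj (Twist.twistOver n S 1)) :=
      ⟨n, i, him, rfl, ⟨Iso.refl _⟩⟩
    exact key inferInstance _
      (Groth.Agent.Lib.Helper17.VeryAmpleRel.isRelAmple_of_isRelVeryAmplePn _ _ hva)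
  · rintro ⟨hproper, L, hL⟩
    obtain ⟨n₀, h⟩ := Groth.Agent.Lib.Helper17.AmpleVeryAmple.eventually_isRelVeryAmplePn f L
      (Coh.structureModule X) hL (Groth.Agent.Lib.Helper11.GenLocus.isInvertible_structureModule X)
    obtain ⟨n, i₀, hi₀, hcomp₀, -⟩ := h n₀ le_rfl
    obtain ⟨i, hi, hcomp⟩ : ∃ i : X ⟶ pullback (CohB1.ProjSpace.toSpec n (ULift.{u} ℤ))
        (specULiftZIsTerminal.from S), IsImmersion i ∧
        i ≫ pullback.snd (CohB1.ProjSpace.toSpec n (ULift.{u} ℤ))
          (specULiftZIsTerminal.from S) = f :=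
      ⟨i₀, hi₀, hcomp₀⟩
    haveI := hprop n
    haveI : IsProper (i ≫ pullback.snd (CohB1.ProjSpace.toSpec n (ULift.{u} ℤ))
        (specULiftZIsTerminal.from S)) := by rw [hcomp]; exact hproper
    haveI : UniversallyClosed i := UniversallyClosed.of_comp_of_isSeparated i
      (pullback.snd (CohB1.ProjSpace.toSpec n (ULift.{u} ℤ)) (specULiftZIsTerminal.from S))
    exact ⟨n, i, IsClosedImmersion.of_isPreimmersion i i.isClosedMap.isClosed_range, hcomp⟩
  · rintro ⟨hproper, L, hL⟩
    refine ⟨hproper, L, inferInstance, fun V => ?_⟩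
    haveI : CompactSpace ((f ⁻¹ᵁ V.1 : X.Opens) : Scheme.{u}) :=
      isCompact_iff_compactSpace.mp (QuasiCompact.isCompact_preimage (f := f) _ V.1.2 V.2.isCompact)
    exact Groth.Agent.Lib.Helper11.GenLocus.isAmple_restrict (f ⁻¹ᵁ V.1).ι hL
  · rintro ⟨hproper, L, hL⟩
    exact ⟨hproper, key inferInstance L hL⟩

end Groth.Agent.S1496
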