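import Groth.Statements.S14962
import Groth.Agent.Lib.Helper61.QCohChart
import Groth.Agent.Lib.Helper61.MilnorMod2
import Groth.Agent.Lib.Helper80.PullbackFiniteType

set_option autoImplicit false
universe u
open AlgebraicGeometry CategoryTheory CategoryTheory.Limits
open Pinch

namespace Groth.Agent.S14962

/-- Let w : X' → X, g : X' → Y', f : X → Y, u : Y' → Y be a cartesian square of schemes with f affine
and u a closed immersion which is a pinching square: for every affine open V of Y, with I(V) the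
kernel of Γ(V, O_Y) → Γ(u⁻¹V, O_Y'), the kernel of Γ(V, O_Y) → Γ(f⁻¹V, O_X) meets I(V) in 0 and the
ideal generated by the image of I(V) in Γ(f⁻¹V, O_X) consists of images of elements of I(V)
(equivalently Γ(V, O_Y) is the fibre product of Γ(u⁻¹V, O_Y') and Γ(f⁻¹V, O_X) over Γ(h⁻¹V, O_X'),
i.e. O_Y = u_*O_Y' ×_{h_*O_X'} f_*O_X). A quasi-coherent O_Y-module G is of finite type if and only
if u*G and f*G are of finite type. (The published clause is for flat modules of finite type;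
flatness descends separately and the finiteness part does not use it.) -/
theorem result {X X' Y Y' : Scheme.{u}} (f : X ⟶ Y) (u : Y' ⟶ Y) (w : X' ⟶ X) (g : X' ⟶ Y')
    (hP : IsPullback w g f u) [IsAffineHom f] [IsClosedImmersion u]
    (hM : ∀ V ∈ Y.affineOpens,
      RingHom.ker (f.app V).hom ⊓ RingHom.ker (u.app V).hom = ⊥ ∧
      ∀ a ∈ Ideal.map (f.app V).hom (RingHom.ker (u.app V).hom),
        ∃ i ∈ RingHom.ker (u.app V).hom, (f.app V).hom i = a)
    (G : Y.Modules) [G.IsQuasicoherent] :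
    SheafOfModules.IsFiniteType G ↔
      SheafOfModules.IsFiniteType ((Scheme.Modules.pullback u).obj G) ∧
        SheafOfModules.IsFiniteType ((Scheme.Modules.pullback f).obj G) := by
  constructor
  · intro h
    exact ⟨Groth.Agent.Lib.Helper80.isFiniteType_pullback u G h,
      Groth.Agent.Lib.Helper80.isFiniteType_pullback f G h⟩
  rintro ⟨hu, hf⟩
  refine Groth.Agent.Lib.Helper49.isFiniteType_of_forall_fromSpec G fun W => ?_
  obtain ⟨V, hV⟩ := W
  have hV' : IsAffineOpen V := hV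
  change SheafOfModules.IsFiniteType (G.restrict hV'.fromSpec)
  obtain ⟨M, ⟨e⟩⟩ := Groth.Agent.Lib.Helper61.QCohChart.exists_tilde_iso G hV'
  have hU : IsAffineOpen (f ⁻¹ᵁ V) := hV'.preimage f
  have hU' : IsAffineOpen (u ⁻¹ᵁ V) := hV'.preimage u
  letI algB : Algebra Γ(Y, V) Γ(X, f ⁻¹ᵁ V) := (f.appLE V (f ⁻¹ᵁ V) le_rfl).hom.toAlgebra
  letI algA' : Algebra Γ(Y, V) Γ(Y', u ⁻¹ᵁ V) := (u.appLE V (u ⁻¹ᵁ V) le_rfl).hom.toAlgebra
  -- finiteness of the two base changes
  have key : ∀ {Z : Scheme.{u}} (g : Z ⟶ Y) {U : Z.Opens} (hUa : IsAffineOpen U)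
      (le : U ≤ g ⁻¹ᵁ V),
      SheafOfModules.IsFiniteType (R := Z.ringCatSheaf) ((Scheme.Modules.pullback g).obj G) →
      letI := (g.appLE V U le).hom.toAlgebra
      Module.Finite Γ(Z, U) (TensorProduct Γ(Y, V) Γ(Z, U) M) := by
    intro Z g U hUa le hg
    letI := (g.appLE V U le).hom.toAlgebra
    obtain ⟨j⟩ := Groth.Agent.Lib.Helper61.QCohChart.chart_pullback g G hV' hUa le M e
    have h1 := Groth.Agent.Lib.Helper49.isFiniteType_restrict _ hUa.fromSpec hg
    have h2 := Groth.Agent.Lib.Helper49.isFiniteType_of_iso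
      ((Scheme.Modules.restrictFunctorIsoPullback hUa.fromSpec).app _ ≪≫ j) h1
    exact Groth.Agent.Lib.Helper49.finite_of_isFiniteType_tilde Γ(Z, U)
      (ModuleCat.of Γ(Z, U) (TensorProduct Γ(Y, V) Γ(Z, U) M)) h2
  have hB : Module.Finite Γ(X, f ⁻¹ᵁ V) (TensorProduct Γ(Y, V) Γ(X, f ⁻¹ᵁ V) M) :=
    key f hU le_rfl hf
  have hA' : Module.Finite Γ(Y', u ⁻¹ᵁ V) (TensorProduct Γ(Y, V) Γ(Y', u ⁻¹ᵁ V) M) :=
    key u hU' le_rfl hu
  have hfB : algebraMap Γ(Y, V) Γ(X, f ⁻¹ᵁ V) = (f.app V).hom := by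
    rw [Scheme.Hom.app_eq_appLE]; rfl
  have hfA' : algebraMap Γ(Y, V) Γ(Y', u ⁻¹ᵁ V) = (u.app V).hom := by
    rw [Scheme.Hom.app_eq_appLE]; rfl
  obtain ⟨hm1, hm2⟩ := hM V hV
  have hsurj : Function.Surjective (algebraMap Γ(Y, V) Γ(Y', u ⁻¹ᵁ V)) := by
    rw [hfA']; exact u.app_surjective V hV'
  have hfin : Module.Finite Γ(Y, V) M :=
    Groth.Agent.Lib.Helper61.MilnorMod.finite_of_finite_tensor
      (A := Γ(Y, V)) (B := Γ(X, f ⁻¹ᵁ V)) (A' := Γ(Y', u ⁻¹ᵁ V))
      (by rw [hfB, hfA']; exact hm1) (by rw [hfB, hfA']; exact hm2) hsurj M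
  have h3 := Groth.Agent.Lib.Helper49.isFiniteType_tilde_of_finite Γ(Y, V) M
  exact Groth.Agent.Lib.Helper49.isFiniteType_of_iso
    (e.symm ≪≫ ((Scheme.Modules.restrictFunctorIsoPullback hV'.fromSpec).app G).symm) h3

end Groth.Agent.S14962
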