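import Groth.Statements.S14965
import Groth.Agent.H76.Glue
import Groth.Agent.S14956

set_option autoImplicit false
universe u
open TensorProduct
open Brauer

namespace Groth.Agent.S14965

/-- Let B' = B ×_A A' be a fibre product of commutative rings with A' → A surjective, N an Azumaya
B-algebra, M' an Azumaya A'-algebra and φ : A ⊗_B N ≅ A ⊗_{A'} M' an isomorphism of A-algebras. If a
B'-algebra D' with B'-algebra homomorphisms π₁ : D' → N and π₂ : D' → M' is the glued algebra N ×_φ
M', in the sense that (π₁, π₂) is injective with image the pairs (n, m') satisfying φ(1 ⊗ n) = 1 ⊗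
m', then D' is an Azumaya B'-algebra. (The published statement is for Azumaya algebras on the
pushout scheme of a closed immersion and an affine morphism, glued as u_*B' ×_{h_*} f_*A; this row
is the case of an affine pushout.) -/
theorem result (B' B A' A : Type u) [CommRing B'] [CommRing B] [CommRing A'] [CommRing A]
    [Algebra B' B] [Algebra B' A'] [Algebra B A] [Algebra A' A] [Algebra B' A] [IsScalarTower B' B A] [IsScalarTower B' A' A]
    (hsq : EtMil.IsFibreSquare B' B A' A)
    (N : Type u) [Ring N] [Algebra B N] [Algebra B' N] [IsScalarTower B' B N] [IsAzumaya B N]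
    (M' : Type u) [Ring M'] [Algebra A' M'] [Algebra B' M'] [IsScalarTower B' A' M'] [IsAzumaya A' M']
    (φ : A ⊗[B] N ≃ₐ[A] A ⊗[A'] M')
    (D' : Type u) [Ring D'] [Algebra B' D'] (π₁ : D' →ₐ[B'] N) (π₂ : D' →ₐ[B'] M')
    (hinj : ∀ d : D', π₁ d = 0 → π₂ d = 0 → d = 0)
    (himg : ∀ (n : N) (m' : M'), φ ((1 : A) ⊗ₜ[B] n) = (1 : A) ⊗ₜ[A'] m' ↔ ∃ d : D', π₁ d = n ∧ π₂ d = m') :
    IsAzumaya B' D' := by
  classical
  set φl : A ⊗[B] N ≃ₗ[A] A ⊗[A'] M' := φ.toLinearEquiv with hφl
  -- the comparison with the glued module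
  let θ₀ : D' →ₗ[B'] EtMil.glue B' φl :=
    LinearMap.codRestrict (EtMil.glue B' φl) (π₁.toLinearMap.prod π₂.toLinearMap)
      (fun d => (himg _ _).mpr ⟨d, rfl, rfl⟩)
  have hθ1 : ∀ d, EtMil.glueFst B' φl (θ₀ d) = π₁ d := fun d => rfl
  have hθ2 : ∀ d, EtMil.glueSnd B' φl (θ₀ d) = π₂ d := fun d => rfl
  have hθinj : Function.Injective θ₀ := by
    rw [injective_iff_map_eq_zero]
    intro d hd
    apply hinj d
    · rw [← hθ1, hd, map_zero]
    · rw [← hθ2, hd, map_zero]
  have hθsurj : Function.Surjective θ₀ := by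
    rintro ⟨⟨n, m'⟩, hg⟩
    obtain ⟨d, hd1, hd2⟩ := (himg n m').mp hg
    refine ⟨d, ?_⟩
    apply Subtype.ext
    exact Prod.ext hd1 hd2
  let θ : D' ≃ₗ[B'] EtMil.glue B' φl := LinearEquiv.ofBijective θ₀ ⟨hθinj, hθsurj⟩
  have hθ : ∀ d, θ d = θ₀ d := fun d => rfl
  -- the first base change
  let Φ₁ : B ⊗[B'] D' →ₐ[B] N :=
    Algebra.TensorProduct.lift (Algebra.ofId B N) π₁ (fun b d => Algebra.commutes b (π₁ d))
  have hΦ₁ : Function.Bijective Φ₁ := by
    have h : (Φ₁ : B ⊗[B'] D' → N) =
        (Groth.Agent.H76.Glue.equivFst φl hsq) ∘ (θ.lTensor B) := by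
      funext z
      induction z using TensorProduct.induction_on with
      | zero => simp
      | tmul b d =>
        rw [Function.comp_apply, LinearEquiv.lTensor_tmul,
          Groth.Agent.H76.Glue.equivFst_tmul, hθ, hθ1, Algebra.TensorProduct.lift_tmul,
          Algebra.ofId_apply, Algebra.smul_def]
      | add x y hx hy =>
        rw [map_add, hx, hy, Function.comp_apply, Function.comp_apply, Function.comp_apply,
          map_add, map_add]
    rw [h]
    exact (Groth.Agent.H76.Glue.equivFst φl hsq).bijective.comp (θ.lTensor B).bijective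
  -- the second base change
  let Φ₂ : A' ⊗[B'] D' →ₐ[A'] M' :=
    Algebra.TensorProduct.lift (Algebra.ofId A' M') π₂ (fun a d => Algebra.commutes a (π₂ d))
  have hΦ₂ : Function.Bijective Φ₂ := by
    have h : (Φ₂ : A' ⊗[B'] D' → M') =
        (Groth.Agent.H76.Glue.equivSnd φl hsq) ∘ (θ.lTensor A') := by
      funext z
      induction z using TensorProduct.induction_on with
      | zero => simp
      | tmul a d =>
        rw [Function.comp_apply, LinearEquiv.lTensor_tmul]
        show _ = LinearMap.liftBaseChange A' (EtMil.glueSnd B' φl) (a ⊗ₜ[B'] θ d)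
        rw [LinearMap.liftBaseChange_tmul, hθ, hθ2, Algebra.TensorProduct.lift_tmul,
          Algebra.ofId_apply, Algebra.smul_def]
      | add x y hx hy =>
        rw [map_add, hx, hy, Function.comp_apply, Function.comp_apply, Function.comp_apply,
          map_add, map_add]
    rw [h]
    exact (Groth.Agent.H76.Glue.equivSnd φl hsq).bijective.comp (θ.lTensor A').bijective
  have hB : IsAzumaya B (B ⊗[B'] D') :=
    IsAzumaya.of_AlgEquiv B N (B ⊗[B'] D') (AlgEquiv.ofBijective Φ₁ hΦ₁).symm
  have hA' : IsAzumaya A' (A' ⊗[B'] D') :=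
    IsAzumaya.of_AlgEquiv A' M' (A' ⊗[B'] D') (AlgEquiv.ofBijective Φ₂ hΦ₂).symm
  exact (Groth.Agent.S14956.result B' B A' A hsq D').mpr ⟨hB, hA'⟩

end Groth.Agent.S14965
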