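import Groth.Statements.S14966

set_option autoImplicit false
universe u
open scoped TensorProduct
open EtAlg

namespace Groth.Agent.S14966

theorem result (A A' : Type u) [CommRing A] [CommRing A'] [Algebra A A']
    (hinj : Function.Injective (algebraMap A A')) :
    EtMil.IsFibreSquare A (A ⧸ Module.annihilator A (A' ⧸ LinearMap.range (Algebra.linearMap A A'))) A'
      (A' ⧸ Ideal.map (algebraMap A A') (Module.annihilator A (A' ⧸ LinearMap.range (Algebra.linearMap A A')))) := by
  set I := Module.annihilator A (A' ⧸ LinearMap.range (Algebra.linearMap A A')) with hI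
  have hmemI : ∀ i : A, i ∈ I ↔ ∀ x : A', ∃ a : A, algebraMap A A' a = i • x := by
    intro i
    rw [hI, Module.mem_annihilator]
    constructor
    · intro h x
      have := h (Submodule.Quotient.mk x)
      rw [← Submodule.Quotient.mk_smul, Submodule.Quotient.mk_eq_zero] at this
      obtain ⟨a, ha⟩ := this
      exact ⟨a, ha⟩
    · intro h m
      obtain ⟨x, rfl⟩ := Submodule.Quotient.mk_surjective _ m
      rw [← Submodule.Quotient.mk_smul, Submodule.Quotient.mk_eq_zero]
      obtain ⟨a, ha⟩ := h x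
      exact ⟨a, ha⟩
  -- the extension of the conductor is the image of the conductor
  have hmap : ∀ y ∈ Ideal.map (algebraMap A A') I, ∃ i ∈ I, algebraMap A A' i = y := by
    intro y hy
    refine Submodule.span_induction ?_ ?_ ?_ ?_ hy
    · rintro _ ⟨i, hi, rfl⟩
      exact ⟨i, hi, rfl⟩
    · exact ⟨0, I.zero_mem, map_zero _⟩
    · rintro x y _ _ ⟨i, hi, rfl⟩ ⟨j, hj, rfl⟩
      exact ⟨i + j, I.add_mem hi hj, map_add _ _ _⟩
    · rintro x y _ ⟨i, hi, rfl⟩
      obtain ⟨a, ha⟩ := (hmemI i).mp hi x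
      refine ⟨a, ?_, ?_⟩
      · rw [hmemI]
        intro z
        obtain ⟨a₂, ha₂⟩ := (hmemI i).mp hi (x * z)
        refine ⟨a₂, ?_⟩
        rw [ha₂, Algebra.smul_def, Algebra.smul_def, ha, Algebra.smul_def]
        ring
      · rw [ha, Algebra.smul_def, smul_eq_mul, mul_comm]
  refine ⟨Ideal.Quotient.mk_surjective, ?_⟩
  intro b a' hb
  obtain ⟨a₀, rfl⟩ := Ideal.Quotient.mk_surjective b
  have h1 : algebraMap A A' a₀ - a' ∈ Ideal.map (algebraMap A A') I := by
    rw [← Ideal.Quotient.eq]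
    exact hb
  obtain ⟨i, hi, hi'⟩ := hmap _ h1
  refine ⟨a₀ - i, ⟨?_, ?_⟩, ?_⟩
  · show Ideal.Quotient.mk I (a₀ - i) = Ideal.Quotient.mk I a₀
    rw [Ideal.Quotient.eq]
    simpa using I.neg_mem hi
  · rw [map_sub, hi']; ring
  · rintro y ⟨_, hy⟩
    apply hinj
    rw [hy, map_sub, hi']; ring

end Groth.Agent.S14966
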