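import Groth.Statements.S1497
import Groth.Agent.Lib.Helper17.AmpleVeryAmple
import Groth.Agent.Lib.Helper17.ProjSpaceProper
import Groth.Agent.Lib.Helper11.RelAmpleComp

set_option autoImplicit false
universe u
attribute [local instance] HasDerivedCategory.standard
open FlatMor

namespace Groth.Agent.S1497

open AlgebraicGeometry CategoryTheory Limits in
/-- Let S be a scheme with an ample invertible sheaf and f : X → S a morphism. Then f is a quasi-compact
immersion into some projective space P^n_S over S if and only if f is of finite type and X has an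
ample invertible sheaf. -/
theorem result {X S : Scheme.{u}} (hS : ∃ N : S.Modules, CohB1.IsAmple N) (f : X ⟶ S) :
    (∃ (n : ℕ) (i : X ⟶ CohB1.ProjSpaceOver n S), IsImmersion i ∧ QuasiCompact i ∧ i ≫ pullback.snd (CohB1.ProjSpace.toSpec n (ULift.{u} ℤ)) (specULiftZIsTerminal.from S) = f) ↔
      (LocallyOfFiniteType f ∧ QuasiCompact f ∧ ∃ L : X.Modules, CohB1.IsAmple L) := by
  have hprop : ∀ n : ℕ, IsProper (pullback.snd (CohB1.ProjSpace.toSpec n (ULift.{u} ℤ))
      (specULiftZIsTerminal.from S)) := fun n =>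
    Groth.Agent.Lib.Helper17.ProjSpaceProper.isProper_toBase n S
  constructor
  · rintro ⟨n, i₀, hi₀, hqc₀, hcomp₀⟩
    obtain ⟨i, hi, hqc, hcomp⟩ : ∃ i : X ⟶ pullback (CohB1.ProjSpace.toSpec n (ULift.{u} ℤ))
        (specULiftZIsTerminal.from S), IsImmersion i ∧ QuasiCompact i ∧
        i ≫ pullback.snd (CohB1.ProjSpace.toSpec n (ULift.{u} ℤ))
          (specULiftZIsTerminal.from S) = f :=
      ⟨i₀, hi₀, hqc₀, hcomp₀⟩
    subst hcomp
    haveI := hprop n
    refine ⟨inferInstance, inferInstance, ?_⟩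
    obtain ⟨N, hN⟩ := hS
    have hva : RelAmple.IsRelVeryAmplePn (i ≫ pullback.snd (CohB1.ProjSpace.toSpec n (ULift.{u} ℤ))
        (specULiftZIsTerminal.from S)) ((Scheme.Modules.pullback i).obj (Twist.twistOver n S 1)) :=
      ⟨n, i, hi, rfl, ⟨Iso.refl _⟩⟩
    have hrel := Groth.Agent.Lib.Helper17.VeryAmpleRel.isRelAmple_of_isRelVeryAmplePn _ _ hva
    obtain ⟨n₀, -, h⟩ := Groth.Agent.Lib.Helper11.RelAmpleComp.eventually_isAmple_tensor_pullback_pow _ _ N hrel hN
    exact ⟨_, h n₀ le_rfl⟩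
  · rintro ⟨hft, hqc, L, hL⟩
    obtain ⟨n₀, h⟩ := Groth.Agent.Lib.Helper17.AmpleVeryAmple.eventually_isRelVeryAmplePn f L
      (Coh.structureModule X) hL (Groth.Agent.Lib.Helper11.GenLocus.isInvertible_structureModule X)
    obtain ⟨n, i₀, hi₀, hcomp₀, -⟩ := h n₀ le_rfl
    obtain ⟨i, hi, hcomp, rfl⟩ : ∃ i : X ⟶ pullback (CohB1.ProjSpace.toSpec n (ULift.{u} ℤ))
        (specULiftZIsTerminal.from S), IsImmersion i ∧
        i ≫ pullback.snd (CohB1.ProjSpace.toSpec n (ULift.{u} ℤ))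
          (specULiftZIsTerminal.from S) = f ∧ i = i₀ :=
      ⟨i₀, hi₀, hcomp₀, rfl⟩
    haveI := hprop n
    refine ⟨n, i, hi, ?_, hcomp⟩
    haveI : QuasiCompact (i ≫ pullback.snd (CohB1.ProjSpace.toSpec n (ULift.{u} ℤ))
        (specULiftZIsTerminal.from S)) := by rw [hcomp]; exact hqc
    exact QuasiCompact.of_comp i (pullback.snd (CohB1.ProjSpace.toSpec n (ULift.{u} ℤ))
        (specULiftZIsTerminal.from S))

end Groth.Agent.S1497
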