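import Groth.Statements.S14973
import Mathlib.Algebra.Ring.Basic
import Mathlib.Logic.Function.Iterate
import Mathlib.Tactic.Ring
import Mathlib.Tactic.NoncommRing

set_option autoImplicit false
universe u v
open Diff16

namespace Groth.Agent.S14973

theorem result
    {B : Type u} [CommRing B] {L : Type v} [Ring L] (f : B →+* L) (F : ℕ → AddSubgroup L)
    (hex : ∀ x : L, ∃ i : ℕ, x ∈ F i)
    (h0 : ∀ x ∈ F 0, ∀ b : B, f b * x = x * f b)
    (hS : ∀ (i : ℕ), ∀ x ∈ F (i + 1), ∀ b : B, f b * x - x * f b ∈ F i)
    (M : Submonoid B) :
    (∀ (x : L) (m u : B), m ∈ M → u ∈ M → f u * x * f m = 0 → ∃ u' ∈ M, f u' * x = 0) ∧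
    (∀ (x : L) (m : B), m ∈ M → ∃ e ∈ M, ∃ y : L, f e * x = y * f m) := by
  -- nilpotency of the commutator
  have nil : ∀ (m : B) (i : ℕ), ∀ x ∈ F i, (fun x => f m * x - x * f m)^[i+1] x = 0 := by
    intro m i
    induction i with
    | zero =>
      intro x hx
      simp only [zero_add, Function.iterate_one]
      rw [h0 x hx m, sub_self]
    | succ i ih =>
      intro x hx
      rw [Function.iterate_succ_apply]
      exact ih _ (hS i x hx m)
  have hcomm : ∀ a b : B, f a * f b = f b * f a := by
    intro a b
    rw [← map_mul, ← map_mul, mul_comm]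
  constructor
  · intro x m u hm hu hx
    -- general claim
    have G : ∀ (n : ℕ) (x : L), (fun x => f m * x - x * f m)^[n] x = 0 → f u * x * f m = 0 →
        f m ^ n * f u * x = 0 := by
      intro n
      induction n with
      | zero =>
        intro x hx _
        simp only [Function.iterate_zero, id_eq] at hx
        rw [hx, mul_zero]
      | succ n ih =>
        intro x hx hux
        rw [Function.iterate_succ_apply] at hx
        have h1 : f u * (f m * x - x * f m) * f m = 0 := by
          have : f u * (f m * x - x * f m) * f m = f m * (f u * x * f m) - (f u * x * f m) * f m := by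
            rw [mul_sub, sub_mul, ← mul_assoc (f u) (f m) x, hcomm u m]
            simp only [mul_assoc]
          rw [this, hux, mul_zero, zero_mul, sub_zero]
        have h2 := ih _ hx h1
        have h3 : f m ^ (n + 1) * f u * x = f m ^ n * f u * (f m * x - x * f m)
            + f m ^ n * (f u * x * f m) := by
          rw [mul_sub, pow_succ]
          have : f m ^ n * f m * f u * x = f m ^ n * f u * (f m * x) := by
            rw [mul_assoc (f m ^ n) (f m) (f u), hcomm m u]
            simp only [mul_assoc]
          rw [this]
          simp only [mul_assoc]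
          abel
        rw [h3, h2, hux, mul_zero, add_zero]
    obtain ⟨i, hi⟩ := hex x
    refine ⟨m ^ (i + 1) * u, M.mul_mem (M.pow_mem hm _) hu, ?_⟩
    rw [map_mul, map_pow]
    exact G (i + 1) x (nil m i x hi) hx
  · intro x m hm
    have H : ∀ (n : ℕ) (x : L), (fun x => f m * x - x * f m)^[n] x = 0 →
        ∃ y : L, f m ^ n * x = y * f m := by
      intro n
      induction n with
      | zero =>
        intro x hx
        simp only [Function.iterate_zero, id_eq] at hx
        exact ⟨0, by rw [hx, mul_zero, zero_mul]⟩
      | succ n ih =>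
        intro x hx
        rw [Function.iterate_succ_apply] at hx
        obtain ⟨y', hy'⟩ := ih _ hx
        refine ⟨f m ^ n * x + y', ?_⟩
        rw [add_mul, ← hy', mul_sub, pow_succ]
        simp only [mul_assoc]
        abel
    obtain ⟨i, hi⟩ := hex x
    obtain ⟨y, hy⟩ := H (i + 1) x (nil m i x hi)
    exact ⟨m ^ (i + 1), M.pow_mem hm _, y, by rw [map_pow]; exact hy⟩

end Groth.Agent.S14973
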