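import Groth.Statements.S14981
import Groth.Agent.Lib.Helper59.InertiaCover

set_option autoImplicit false
universe u
open CategoryTheory MonoidalCategory CartesianMonoidalCategory MonObj AlgebraicGeometry
open CoactBr

namespace Groth.Agent.S14981

/-- Let `R` be a commutative ring, `A` a commutative Hopf algebra over `R` which is finite locally free
as an `R`-module (`G = Spec A`), `B` a commutative `R`-algebra, flat over `R`, with a coaction of
`A` that is an algebra map (an action of `G` on `X = Spec B`) whose ring of invariants is `R` itself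
(the structure map `R → B^A` is bijective, so `S = Spec R` is the quotient), and `K₁`, `K₂` fields
over `R` in which the same prime `q` of `R` vanishes. Let `x₁ : B → K₁` and `x₂ : B → K₂` be
`R`-algebra maps, two points of `X` over the point `q` of `S`. If the inertia group scheme at `x₁`
is trivial (over every scheme `T` over `Spec K₁`, a `T`-point of `G` fixing the point of `X` induced
by `x₁` is the unit), then so is the inertia group scheme at `x₂`. (The published statement is about
the canonical points of the primes of `B` over `q`; points with values in arbitrary fields are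
treated here, and `G` finite over `S` is read as finite locally free, the standing flatness
included.) -/
theorem result
    (R A B K₁ K₂ : Type u) [CommRing R] [CommRing A] [HopfAlgebra R A]
    [Module.Flat R A] [Module.Finite R A] [Module.Projective R A]
    [CommRing B] [Algebra R B] [Module.Flat R B] [HopfRep.Comod R A B] [GLin.IsCoactAlg R A B]
    (hC : Function.Bijective (algebraMap R (GLin.invariants R A B)))
    [Field K₁] [Algebra R K₁] [Field K₂] [Algebra R K₂]
    (hq : RingHom.ker (algebraMap R K₁) = RingHom.ker (algebraMap R K₂))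
    (x₁ : B →ₐ[R] K₁) (x₂ : B →ₐ[R] K₂)
    (h₁ : ∀ (T : Over (Spec (CommRingCat.of R))) (h : T ⟶ CoactBr.sp R K₁) (g : T ⟶ CoactBr.sp R A),
      lift g (h ≫ CoactBr.pt x₁) ≫ (CoactBr.action R A B).act = h ≫ CoactBr.pt x₁ → g = 1)
    (T : Over (Spec (CommRingCat.of R))) (h : T ⟶ CoactBr.sp R K₂) (g : T ⟶ CoactBr.sp R A)
    (hg : lift g (h ≫ CoactBr.pt x₂) ≫ (CoactBr.action R A B).act = h ≫ CoactBr.pt x₂) :
    g = 1 := by
  obtain ⟨Ω, _, _, _, ⟨j₁⟩, ⟨j₂⟩⟩ :=
    Groth.Agent.Lib.Helper59.InertiaCover.exists_common_algClosed (R := R) hq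
  obtain ⟨gam, hgam⟩ := Groth.Agent.Lib.Helper59.FiberTrans.exists_trans_eq_of_projective R A B
    (Groth.Agent.Lib.Helper59.InertiaConj.hinv_of_bijective hC) (j₁.comp x₁) (j₂.comp x₂)
  obtain ⟨T', π, h', hepi, hcomm⟩ := Groth.Agent.Lib.Helper59.InertiaCover.exists_cover j₂ h
  -- the point `x₂` on `T'` as a translate of `x₁`
  have e2 : π ≫ h ≫ CoactBr.pt x₂ =
      lift ((h' ≫ CoactBr.pt j₁) ≫ CoactBr.pt x₁) (h' ≫ CoactBr.pt gam) ≫ CoactBr.ract R A B := by
    rw [← Category.assoc, hcomm, Category.assoc, ← CoactBr.pt_comp, hgam,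
      Groth.Agent.Lib.Helper59.InertiaConj.pt_trans, comp_lift_assoc, CoactBr.pt_comp,
      Category.assoc]
  have hg' : lift (π ≫ g) (π ≫ h ≫ CoactBr.pt x₂) ≫ (CoactBr.action R A B).act =
      π ≫ h ≫ CoactBr.pt x₂ := by
    rw [← comp_lift_assoc, hg]
  rw [e2] at hg'
  set G : T' ⟶ CoactBr.sp R A := h' ≫ CoactBr.pt gam with hG
  have ek : G⁻¹ * (G * (π ≫ g) * G⁻¹) * G = π ≫ g := by group
  rw [← ek] at hg'
  have h3 := (Groth.Agent.Lib.Helper59.InertiaConj.fix_conj_iff
    ((h' ≫ CoactBr.pt j₁) ≫ CoactBr.pt x₁) G (G * (π ≫ g) * G⁻¹)).mpr hg'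
  have h4 := h₁ T' (h' ≫ CoactBr.pt j₁) (G * (π ≫ g) * G⁻¹) h3
  have h5 : π ≫ g = 1 := by
    have : π ≫ g = G⁻¹ * (G * (π ≫ g) * G⁻¹) * G := ek.symm
    rw [this, h4]
    group
  rw [← MonObj.comp_one π] at h5
  exact (cancel_epi π).mp h5

end Groth.Agent.S14981
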