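import Groth.Statements.S14984


set_option autoImplicit false
universe u v w
open HopfRep

namespace Groth.Agent.S14984

/-- Let `R` be a commutative ring, `A` a commutative Hopf algebra over `R`, flat as an `R`-module, `B` a
commutative `R`-algebra with a coaction of `A` that is an algebra map (an action of `G = Spec A` on
`X = Spec B`), and `C = B^A` the ring of invariants. If the action base-changed along `R → C` — the
`C`-Hopf algebra `C ⊗ A` coacting on `C ⊗ B` — is tame, i.e. there is a `C`-linear comodule map `β :
C ⊗ A → C ⊗ B` (regular coaction on the source, base-changed coaction on the target) with `β 1 = 1`,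
then the original action is tame: there is an `R`-linear comodule map `α : A → B` with `α 1 = 1`.
(The converse is the case `S = C` of stability of tameness under base change. The published lemma
also lists, as a third equivalent condition, tameness of the action of `C ⊗ A` on `B` itself over
`C`; that condition is not stated here.) -/
theorem result
    (R : Type u) (A : Type v) (B : Type w)
    [CommRing R] [CommRing A] [HopfAlgebra R A] [Module.Flat R A]
    [CommRing B] [Algebra R B] [HopfRep.Comod R A B] [GLin.IsCoactAlg R A B]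
    (h : ∃ β : TensorProduct R ↥(GLin.invariants R A B) A →ₗ[↥(GLin.invariants R A B)]
        TensorProduct R ↥(GLin.invariants R A B) B,
      @Hoch.IsComodHom ↥(GLin.invariants R A B) _ (TensorProduct R ↥(GLin.invariants R A B) A) _ _ _
        (TensorProduct R ↥(GLin.invariants R A B) A) _ _
        (HopfRep.Comod.regular ↥(GLin.invariants R A B) (TensorProduct R ↥(GLin.invariants R A B) A))
        (TensorProduct R ↥(GLin.invariants R A B) B) _ _
        (CoactBr.Comod.baseChange R ↥(GLin.invariants R A B) A B) β ∧ β 1 = 1) :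
    ∃ α : A →ₗ[R] B, Hoch.IsComodHom A α ∧ α 1 = 1 := by
  open TensorProduct in
  obtain ⟨β, hβ, hβ1⟩ := h
  let m : (GLin.invariants R A B) ⊗[R] B →ₗ[R] B :=
    TensorProduct.lift ((LinearMap.mul R B).comp (GLin.invariants R A B).val.toLinearMap)
  have m_tmul : ∀ (c : GLin.invariants R A B) (b : B), m (c ⊗ₜ[R] b) = (c : B) * b := by
    intro c b; simp [m]
  let μ : (GLin.invariants R A B) ⊗[R] (B ⊗[R] A) →ₗ[R] B ⊗[R] A :=
    TensorProduct.lift ((LinearMap.mul R (B ⊗[R] A)).comp
      ((TensorProduct.mk R B A).flip 1 ∘ₗ (GLin.invariants R A B).val.toLinearMap))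
  have μ_tmul : ∀ (c : GLin.invariants R A B) (x : B ⊗[R] A), μ (c ⊗ₜ[R] x) = ((c : B) ⊗ₜ[R] (1 : A)) * x := by
    intro c x; simp [μ]
  let m' : ((GLin.invariants R A B) ⊗[R] B) ⊗[GLin.invariants R A B] ((GLin.invariants R A B) ⊗[R] A) →ₗ[R]
      B ⊗[R] A :=
    μ ∘ₗ (LinearMap.rTensor (B ⊗[R] A)
        ((TensorProduct.lid (GLin.invariants R A B) (GLin.invariants R A B)).toLinearMap.restrictScalars R)) ∘ₗ
      ((AlgebraTensorModule.tensorTensorTensorComm R (GLin.invariants R A B) R (GLin.invariants R A B)
        (GLin.invariants R A B) (GLin.invariants R A B) B A).symm.toLinearMap.restrictScalars R)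
  have m'_tmul : ∀ (c c' : GLin.invariants R A B) (b : B) (a : A),
      m' ((c ⊗ₜ[R] b) ⊗ₜ[GLin.invariants R A B] (c' ⊗ₜ[R] a)) = ((c : B) * (c' : B) * b) ⊗ₜ[R] a := by
    intro c c' b a
    simp [m', μ_tmul]
  -- F1
  have F1 : ∀ u : (GLin.invariants R A B) ⊗[R] B,
      HopfRep.Comod.coact (k := R) (A := A) (m u) =
        m' ((CoactBr.Comod.baseChange R (GLin.invariants R A B) A B).coact u) := by
    intro u
    induction u using TensorProduct.induction_on with
    | zero => simp
    | tmul c b =>
      rw [m_tmul, GLin.IsCoactAlg.coact_mul, CoactBr.baseChange_coact_tmul]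
      have hc : HopfRep.Comod.coact (k := R) (A := A) (c : B) = (c : B) ⊗ₜ[R] (1 : A) := c.2
      rw [hc]
      generalize HopfRep.Comod.coact (k := R) (A := A) b = w
      induction w using TensorProduct.induction_on with
      | zero => simp
      | tmul b₀ b₁ =>
        rw [AlgebraTensorModule.tensorTensorTensorComm_tmul, m'_tmul]
        simp
      | add w₁ w₂ h₁ h₂ => simp only [TensorProduct.tmul_add, map_add, mul_add, h₁, h₂]
    | add u₁ u₂ h₁ h₂ => simp only [map_add, h₁, h₂]
  have F2 : ∀ (u : (GLin.invariants R A B) ⊗[R] B) (a₂ : A),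
      m' (u ⊗ₜ[GLin.invariants R A B] ((1 : GLin.invariants R A B) ⊗ₜ[R] a₂)) = m u ⊗ₜ[R] a₂ := by
    intro u a₂
    induction u using TensorProduct.induction_on with
    | zero => simp
    | tmul c b => rw [m'_tmul, m_tmul]; simp
    | add u₁ u₂ h₁ h₂ => simp only [map_add, TensorProduct.add_tmul, h₁, h₂]
  refine ⟨m ∘ₗ (β.restrictScalars R) ∘ₗ (TensorProduct.mk R (GLin.invariants R A B) A 1), ?_, ?_⟩
  · unfold Hoch.IsComodHom
    ext a
    simp only [LinearMap.comp_apply, TensorProduct.mk_apply, LinearMap.restrictScalars_apply]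
    rw [F1]
    have h := LinearMap.congr_fun hβ ((1 : GLin.invariants R A B) ⊗ₜ[R] a)
    simp only [LinearMap.comp_apply] at h
    rw [h]
    change m' ((LinearMap.rTensor _ β) (Coalgebra.comul (R := GLin.invariants R A B)
      ((1 : GLin.invariants R A B) ⊗ₜ[R] a))) = LinearMap.rTensor A _ (Coalgebra.comul (R := R) a)
    rw [TensorProduct.comul_tmul, CoactBr.comul_self_apply]
    generalize Coalgebra.comul (R := R) a = w
    induction w using TensorProduct.induction_on with
    | zero => simp
    | tmul a₁ a₂ =>
      rw [AlgebraTensorModule.tensorTensorTensorComm_tmul, LinearMap.rTensor_tmul, F2]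
      simp
    | add w₁ w₂ h₁ h₂ => simp only [TensorProduct.tmul_add, map_add, h₁, h₂]
  · simp only [LinearMap.comp_apply, TensorProduct.mk_apply, LinearMap.restrictScalars_apply]
    rw [← Algebra.TensorProduct.one_def, hβ1, Algebra.TensorProduct.one_def, m_tmul]
    simp

end Groth.Agent.S14984
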