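import Groth.Statements.S14988
import Groth.Agent.Lib.Helper73.ResPropGen

set_option autoImplicit false
universe u
open CategoryTheory CategoryTheory.Limits AlgebraicGeometry
open ResProp

namespace Groth.Agent.S14988

/-- In the case of schemes, let f : X ⟶ Y be a morphism of quasi-compact quasi-separated schemes. If
every quasi-coherent module on Y is a quotient of a direct sum of finite locally free modules (Y has
the resolution property) and some family (W_i) of finite locally free modules on X is f-generating,
i.e. every quasi-coherent module on X is a quotient of a direct sum of modules W_i ⊗ f^*N with N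
quasi-coherent on Y, then every quasi-coherent module on X is a quotient of a direct sum of finite
locally free modules (X has the resolution property). (The published statement is for quasi-compact
quasi-separated morphisms of algebraic stacks and assumes the family universally f-generating; this
row is the case of schemes and assumes the family only f-generating, which is what the argument
uses.) -/
theorem result {X Y : Scheme.{u}}
    [CompactSpace X] [QuasiSeparatedSpace X] [CompactSpace Y] [QuasiSeparatedSpace Y] (f : X ⟶ Y)
    (hY : ∀ N : Y.Modules, Coh.IsQCoh N →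
      ∃ (κ : Type u) (V : κ → Y.Modules) (π : (∐ V) ⟶ N), (∀ k, FlatMod.IsFinLocFree (V k)) ∧ Epi π)
    {ι : Type u} (W : ι → X.Modules) (hW : ∀ i, FlatMod.IsFinLocFree (W i))
    (hf : ∀ M : X.Modules, Coh.IsQCoh M →
      ∃ (κ : Type u) (j : κ → ι) (N : κ → Y.Modules)
        (π : (∐ fun k => CohB1.tensorMod (W (j k)) ((Scheme.Modules.pullback f).obj (N k))) ⟶ M),
        (∀ k, Coh.IsQCoh (N k)) ∧ Epi π) :
    ∀ M : X.Modules, Coh.IsQCoh M →
      ∃ (κ : Type u) (E : κ → X.Modules) (π : (∐ E) ⟶ M), (∀ k, FlatMod.IsFinLocFree (E k)) ∧ Epi π := by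
  intro M hM
  obtain ⟨κ, j, N, π, hN, hπ⟩ := hf M hM
  choose κ' V p hV hp using fun k => hY (N k) (hN k)
  refine ⟨Σ k, κ' k,
    fun kl => CohB1.tensorMod (W (j kl.1)) ((Scheme.Modules.pullback f).obj (V kl.1 kl.2)),
    Limits.Sigma.desc (fun kl =>
      Groth.Agent.Lib.Helper11.TensorMap.tensorModMap (𝟙 (W (j kl.1)))
        ((Scheme.Modules.pullback f).map (Limits.Sigma.ι (V kl.1) kl.2 ≫ p kl.1)) ≫
      Limits.Sigma.ι (fun k => CohB1.tensorMod (W (j k)) ((Scheme.Modules.pullback f).obj (N k)))
        kl.1 ≫ π), ?_, ?_⟩
  · intro kl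
    exact Groth.Agent.Lib.Helper11.FinFreeBasis.isFinLocFree_tensorMod (hW _)
      (Groth.Agent.Lib.Helper11.ResProp.isFinLocFree_pullback f _ (hV _ _))
  · constructor
    intro T g h hgh
    have key : ∀ k, Limits.Sigma.ι (fun k => CohB1.tensorMod (W (j k))
        ((Scheme.Modules.pullback f).obj (N k))) k ≫ π ≫ g =
        Limits.Sigma.ι (fun k => CohB1.tensorMod (W (j k))
          ((Scheme.Modules.pullback f).obj (N k))) k ≫ π ≫ h := by
      intro k
      haveI := hp k
      refine Groth.Agent.Lib.Helper73.ResPropGen.eq_of_comp_eq f (hW (j k)) (V k) (p k) _ _ ?_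
      intro l
      have := congrArg (fun φ => Limits.Sigma.ι (fun kl : Σ k, κ' k =>
        CohB1.tensorMod (W (j kl.1)) ((Scheme.Modules.pullback f).obj (V kl.1 kl.2))) ⟨k, l⟩ ≫ φ) hgh
      simp only [Limits.Sigma.ι_desc_assoc, Category.assoc] at this
      exact this
    have h1 : π ≫ g = π ≫ h := Limits.Sigma.hom_ext _ _ fun k => key k
    exact (cancel_epi π).mp h1

end Groth.Agent.S14988
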