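import Groth.Statements.S1499
import Mathlib
import Groth.Agent.Lib.Helper11.RelAmpleComp

set_option autoImplicit false
universe u
attribute [local instance] HasDerivedCategory.standard
open FlatMor

namespace Groth.Agent.S1499

section helpers

open CategoryTheory CategoryTheory.Limits AlgebraicGeometry TopologicalSpace Opposite
open Groth.Agent.Lib.Helper11 Groth.Agent.Lib.Helper45 Groth.Agent.Lib.Helper49
  Groth.Agent.Lib.Helper45.RefHullBasic Groth.Agent.Lib.Helper11.GenLocus
  Groth.Agent.Lib.Helper11.IdealGen Groth.Agent.Lib.Helper11.MulHom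
  Groth.Agent.Lib.Helper11.CounitEpi Groth.Agent.Lib.Helper11.PullbackBasis
  Groth.Agent.Lib.Helper11.PullbackTensor Groth.Agent.Lib.Helper11.CounitEpi2
  Groth.Agent.Lib.Helper11.PullbackAmple Groth.Agent.Lib.Helper11.PullbackAmple2
  Groth.Agent.Lib.Helper11.RelAmpleComp Groth.Agent.Lib.Helper11.AmpleSeparated


theorem main_S1499 {X Y : Scheme.{u}} (f : X ⟶ Y)
    (hY : MoreMor.HasAmpleFamily Y) (L : X.Modules) (hL : RelAmple.IsRelAmple f L) :
    MoreMor.HasAmpleFamily X := by
  have hqc : QuasiCompact f := hL.1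
  have hcY : CompactSpace Y := hY.1
  have hcX : CompactSpace X := QuasiCompact.compactSpace_of_compactSpace f
  have hqsY : QuasiSeparatedSpace Y := quasiSeparatedSpace_of_hasAmpleFamily hY
  have hsep : IsSeparated f := isSeparated_of_isRelAmple f L hL
  have hqsX : QuasiSeparatedSpace X := quasiSeparatedSpace_of_quasiSeparated f
  have hLinv := isInvertible_of_isRelAmple f L hL
  refine ⟨hcX, fun x => ?_⟩
  obtain ⟨K, n, s, hinv, hn, hys, haff⟩ := hY.2 (f.base x)
  have hG' := genLocus_pullPowSec f hinv n s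
  have hamp := hL.2 ⟨_, haff⟩
  obtain ⟨k, G, hGU, σ, hxG, hGaff, h1, h2⟩ :=
    exists_local_gen_data L (f ⁻¹ᵁ CohB1.genLocus _ s) hamp x hys
  have hF := isInvertible_tensorPow hLinv (k + 1)
  have hN := isInvertible_tensorPow (isInvertible_pullback f hinv) n
  obtain ⟨e₀, he₀⟩ := exists_genLocus_eq_of_twist' hF hN
    (pullPowSec f hinv n s) _ hG' σ G hGU h1 h2
  obtain ⟨t, ht⟩ := he₀ e₀ le_rfl
  have hM := isInvertible_tensorMod hF (isInvertible_tensorPow hN (e₀ + 1))
  have hg : CohB1.genLocus (CohB1.tensorPow _ 1) (t ≫ (unitTensorIso _).inv) = G :=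
    (genLocus_comp_iso t (unitTensorIso _).symm).trans ht
  exact ⟨_, 1, t ≫ (unitTensorIso _).inv, hM, le_rfl, hg ▸ hxG, hg ▸ hGaff⟩


end helpers

open AlgebraicGeometry CategoryTheory Limits in
/-- Let f : X → Y with Y having an ample family of invertible modules, and suppose some O_X-module is
ample relative to f. Then X has an ample family of invertible modules. -/
theorem result {X Y : Scheme.{u}} (f : X ⟶ Y)
    (hY : MoreMor.HasAmpleFamily Y) (L : X.Modules) (hL : RelAmple.IsRelAmple f L) :
    MoreMor.HasAmpleFamily X := by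
  exact main_S1499 f hY L hL

end Groth.Agent.S1499
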