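import Groth.Statements.S14994
import Mathlib.LinearAlgebra.Dual.Lemmas
import Mathlib.Algebra.Module.LocalizedModule.Basic
import Mathlib.RingTheory.Localization.Integer
import Mathlib.RingTheory.Localization.FractionRing
import Mathlib.Algebra.Module.Torsion.Basic

set_option autoImplicit false
universe u
open CAlg

namespace Groth.Agent.S14994

/-- A nonzero element of a finitely generated torsion-free module over a domain is detected by a
linear functional. -/
theorem exists_dual_ne_zero_of_torsionFree (A : Type u) [CommRing A] [IsDomain A]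
    (Q : Type u) [AddCommGroup Q] [Module A Q] [Module.Finite A Q]
    (htf : ∀ (a : A) (q : Q), a • q = 0 → a = 0 ∨ q = 0)
    (x : Q) (hx : x ≠ 0) : ∃ φ : Q →ₗ[A] A, φ x ≠ 0 := by
  classical
  let S : Submonoid A := nonZeroDivisors A
  let K := FractionRing A
  let V := LocalizedModule S Q
  let mk : Q →ₗ[A] V := LocalizedModule.mkLinearMap S Q
  have hmk : mk x ≠ 0 := by
    intro h0
    obtain ⟨s, hs⟩ := (IsLocalizedModule.eq_zero_iff S mk).mp h0
    have hs0 : (s : A) ≠ 0 := nonZeroDivisors.ne_zero s.2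
    rcases htf (s : A) x hs with h | h
    · exact hs0 h
    · exact hx h
  obtain ⟨g, hg⟩ := Module.Projective.exists_dual_ne_zero K hmk
  let h : Q →ₗ[A] K := (g.restrictScalars A).comp mk
  have hhx : h x ≠ 0 := hg
  obtain ⟨T, hT⟩ := (Module.Finite.fg_top : (⊤ : Submodule A Q).FG)
  obtain ⟨b, hb⟩ := IsLocalization.exist_integer_multiples S T (fun t => h t)
  have hb0 : (b : A) ≠ 0 := nonZeroDivisors.ne_zero b.2
  let h' : Q →ₗ[A] K := (b : A) • h
  have hrange : LinearMap.range h' ≤ LinearMap.range (Algebra.linearMap A K) := by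
    rw [LinearMap.range_eq_map, ← hT, Submodule.map_span_le]
    intro t ht
    obtain ⟨a, ha⟩ := hb t ht
    exact ⟨a, ha⟩
  have hinj : Function.Injective (Algebra.linearMap A K) :=
    IsFractionRing.injective A K
  let e := LinearEquiv.ofInjective (Algebra.linearMap A K) hinj
  let φ : Q →ₗ[A] A := e.symm.toLinearMap.comp
    (h'.codRestrict (LinearMap.range (Algebra.linearMap A K)) (fun q => hrange ⟨q, rfl⟩))
  refine ⟨φ, ?_⟩
  intro h0
  have h1 : (e (φ x) : K) = h' x := by
    simp [φ]
  rw [h0, map_zero] at h1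
  have h2 : h' x = (b : A) • h x := rfl
  rw [h2] at h1
  have h3 : (b : A) • h x ≠ 0 := by
    rw [Algebra.smul_def]
    exact mul_ne_zero (by simp [hb0]) hhx
  exact h3 h1.symm

theorem result (A : Type u) [CommRing A] [IsDomain A]
    [IsNoetherianRing A] [IsIntegrallyClosed A]
    (M : Type u) [AddCommGroup M] [Module A M] [Module.Finite A M] [NoZeroSMulDivisors A M]
    (N : Submodule A M) :
    (LinearMap.range N.subtype.dualMap.dualMap).comap (Module.Dual.eval A M) ≤
      (Submodule.torsion A (M ⧸ N)).comap N.mkQ := by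
  intro m hm
  rw [Submodule.mem_comap] at hm ⊢
  obtain ⟨ξ, hξ⟩ := hm
  by_contra hnot
  let T := Submodule.torsion A (M ⧸ N)
  have hx : T.mkQ (N.mkQ m) ≠ 0 := by
    intro h0
    exact hnot ((Submodule.Quotient.mk_eq_zero T).mp h0)
  have htf : ∀ (a : A) (q : (M ⧸ N) ⧸ T), a • q = 0 → a = 0 ∨ q = 0 := by
    intro a q haq
    by_cases ha : a = 0
    · exact Or.inl ha
    · right
      have hq : q ∈ Submodule.torsion A ((M ⧸ N) ⧸ T) :=
        (Submodule.mem_torsion_iff q).mpr ⟨⟨a, mem_nonZeroDivisors_of_ne_zero ha⟩, haq⟩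
      rw [Submodule.QuotientTorsion.torsion_eq_bot] at hq
      exact (Submodule.mem_bot A).mp hq
  obtain ⟨φ, hφ⟩ := exists_dual_ne_zero_of_torsionFree A ((M ⧸ N) ⧸ T) htf _ hx
  let ψ : M →ₗ[A] A := φ.comp (T.mkQ.comp N.mkQ)
  have hψN : N.subtype.dualMap ψ = 0 := by
    ext n
    have hn : (Submodule.Quotient.mk (n : M) : M ⧸ N) = 0 :=
      (Submodule.Quotient.mk_eq_zero N).mpr n.2
    simp [ψ, LinearMap.dualMap_apply, hn]
  have h1 : (Module.Dual.eval A M m) ψ = ψ m := rfl
  rw [← hξ, LinearMap.dualMap_apply, hψN, map_zero] at h1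
  exact hφ h1.symm

end Groth.Agent.S14994
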