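import Groth.Statements.S14997
import Mathlib.Algebra.Polynomial.Coeff
import Mathlib.Algebra.Polynomial.Degree.Lemmas
import Mathlib.Algebra.Polynomial.Eval.Coeff
import Mathlib.Algebra.Order.Field.Rat
import Mathlib.Tactic.FieldSimp
import Mathlib.Tactic.Ring
import Mathlib.Tactic.Linarith
import Mathlib.Tactic.LinearCombination

set_option autoImplicit false
open HilbPol

namespace Groth.Agent.S14997

/-- Transfer of lexicographic comparison along a "unitriangular" change. -/
theorem lex_transfer (ℓ : ℕ) (f g f' g' : Fin ℓ → ℚ)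
    (h : ∀ i : Fin ℓ, (∀ j, j < i → f j = g j) → f' i - g' i = f i - g i) :
    toLex f ≤ toLex g ↔ toLex f' ≤ toLex g' := by
  -- agreement on initial segments
  have hagree : ∀ n : ℕ, ∀ i : Fin ℓ, i.val ≤ n →
      ((∀ j, j < i → f j = g j) ↔ (∀ j, j < i → f' j = g' j)) := by
    intro n
    induction n with
    | zero =>
      intro i hi
      constructor
      · intro _ j hj
        exact absurd (Fin.lt_def.mp hj) (by omega)
      · intro _ j hj
        exact absurd (Fin.lt_def.mp hj) (by omega)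
    | succ n ih =>
      intro i hi
      constructor
      · intro hfg j hj
        have h1 := h j (fun j' hj' => hfg j' (lt_trans hj' hj))
        rw [hfg j hj, sub_self] at h1
        exact sub_eq_zero.mp h1
      · intro hfg' j hj
        have hjn : j.val ≤ n := by have := Fin.lt_def.mp hj; omega
        have h0 : ∀ j', j' < j → f j' = g j' :=
          (ih j hjn).mpr (fun j' hj' => hfg' j' (lt_trans hj' hj))
        have h1 := h j h0
        rw [hfg' j hj, sub_self] at h1
        exact (sub_eq_zero.mp h1.symm)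
  have hagree' : ∀ i : Fin ℓ, ((∀ j, j < i → f j = g j) ↔ (∀ j, j < i → f' j = g' j)) :=
    fun i => hagree i.val i le_rfl
  have heq : f = g ↔ f' = g' := by
    constructor
    · intro hfg
      funext i
      have := h i (fun j _ => congrFun hfg j)
      rw [congrFun hfg i, sub_self] at this
      exact sub_eq_zero.mp this
    · intro hfg'
      funext i
      have h0 := (hagree' i).mpr (fun j _ => congrFun hfg' j)
      have := h i h0
      rw [congrFun hfg' i, sub_self] at this
      exact sub_eq_zero.mp this.symm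
  have hlt : toLex f < toLex g ↔ toLex f' < toLex g' := by
    constructor
    · rintro ⟨i, hi, hlt⟩
      refine ⟨i, (hagree' i).mp hi, ?_⟩
      have := h i hi
      show f' i < g' i
      have hlt' : f i < g i := hlt
      linarith
    · rintro ⟨i, hi, hlt⟩
      have hi' := (hagree' i).mpr hi
      refine ⟨i, hi', ?_⟩
      have := h i hi'
      show f i < g i
      have hlt' : f' i < g' i := hlt
      linarith
  have e1 : toLex f = toLex g ↔ f = g := toLex.injective.eq_iff
  have e2 : toLex f' = toLex g' ↔ f' = g' := toLex.injective.eq_iff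
  constructor
  · intro hle
    rcases hle.eq_or_lt with h1 | h1
    · exact le_of_eq (e2.mpr (heq.mp (e1.mp h1)))
    · exact le_of_lt (hlt.mp h1)
  · intro hle
    rcases hle.eq_or_lt with h1 | h1
    · exact le_of_eq (e1.mpr (heq.mpr (e2.mp h1)))
    · exact le_of_lt (hlt.mpr h1)

open Polynomial in
/-- The leading coefficient of the backward difference. -/
theorem coeff_delta (R : ℚ[X]) (e : ℕ) (hR : R.natDegree ≤ e + 1) (a : ℚ) :
    (R - R.comp (X - C a)).coeff e = a * (e + 1) * R.coeff (e + 1) := by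
  have h1 : R.comp (X - C a) = ∑ k ∈ Finset.range (e + 2), C (R.coeff k) * (X + C (-a)) ^ k := by
    rw [comp_eq_sum_left, sum_over_range' R (by intro n; simp) (e + 2) (by omega)]
    simp [sub_eq_add_neg]
  rw [coeff_sub, h1, finsetSum_coeff]
  simp only [coeff_C_mul, coeff_X_add_C_pow]
  rw [Finset.sum_range_succ, Finset.sum_range_succ]
  have h0 : ∑ k ∈ Finset.range e, R.coeff k * ((-a) ^ (k - e) * (k.choose e : ℚ)) = 0 := by
    apply Finset.sum_eq_zero
    intro k hk
    rw [Nat.choose_eq_zero_of_lt (Finset.mem_range.mp hk)]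
    simp
  rw [h0]
  simp only [Nat.sub_self, pow_zero, Nat.choose_self, Nat.cast_one, mul_one, zero_add,
    Nat.add_sub_cancel_left, pow_one, Nat.choose_succ_self_right, Nat.cast_add]
  ring

open Polynomial in
theorem result (d ℓ : ℕ) (hℓ : ℓ + 1 ≤ d) (a : ℚ) (ha : a ≠ 0)
    (P Q : ℚ[X]) (hP : P.natDegree = d) (hQ : Q.natDegree = d) (hP0 : P ≠ 0) (hQ0 : Q ≠ 0) :
    toLex (fun j : Fin ℓ => ((P).coeff (d - 1 - (j : ℕ)) * (Nat.factorial (d - 1 - (j : ℕ)) : ℚ)) / ((P).coeff (d) * (Nat.factorial (d) : ℚ))) ≤ toLex (fun j : Fin ℓ => ((Q).coeff (d - 1 - (j : ℕ)) * (Nat.factorial (d - 1 - (j : ℕ)) : ℚ)) / ((Q).coeff (d) * (Nat.factorial (d) : ℚ))) ↔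
      toLex (fun j : Fin ℓ => ((P - P.comp (X - C a)).coeff ((d - 1) - 1 - (j : ℕ)) * (Nat.factorial ((d - 1) - 1 - (j : ℕ)) : ℚ)) / ((P - P.comp (X - C a)).coeff ((d - 1)) * (Nat.factorial ((d - 1)) : ℚ))) ≤
        toLex (fun j : Fin ℓ => ((Q - Q.comp (X - C a)).coeff ((d - 1) - 1 - (j : ℕ)) * (Nat.factorial ((d - 1) - 1 - (j : ℕ)) : ℚ)) / ((Q - Q.comp (X - C a)).coeff ((d - 1)) * (Nat.factorial ((d - 1)) : ℚ))) := by
  apply lex_transfer
  intro i hi
  obtain ⟨d', rfl⟩ : ∃ d', d = d' + 1 := ⟨d - 1, by omega⟩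
  simp only [Nat.add_sub_cancel] at hi ⊢
  have hiℓ : (i : ℕ) < ℓ := i.2
  -- leading coefficients
  have hcP : P.coeff (d' + 1) ≠ 0 := by
    rw [← hP]; exact leadingCoeff_ne_zero.mpr hP0
  have hcQ : Q.coeff (d' + 1) ≠ 0 := by
    rw [← hQ]; exact leadingCoeff_ne_zero.mpr hQ0
  have hfac : ∀ n : ℕ, (n.factorial : ℚ) ≠ 0 := fun n => Nat.cast_ne_zero.mpr n.factorial_ne_zero
  set αP : ℚ := P.coeff (d' + 1) * ((d' + 1).factorial : ℚ) with hαP
  set αQ : ℚ := Q.coeff (d' + 1) * ((d' + 1).factorial : ℚ) with hαQ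
  have hαP0 : αP ≠ 0 := mul_ne_zero hcP (hfac _)
  have hαQ0 : αQ ≠ 0 := mul_ne_zero hcQ (hfac _)
  -- leading coefficients of the differences
  have hΔP : (P - P.comp (X - C a)).coeff d' * (d'.factorial : ℚ) = a * αP := by
    rw [coeff_delta P d' (by omega) a, hαP, Nat.factorial_succ]
    push_cast; ring
  have hΔQ : (Q - Q.comp (X - C a)).coeff d' * (d'.factorial : ℚ) = a * αQ := by
    rw [coeff_delta Q d' (by omega) a, hαQ, Nat.factorial_succ]
    push_cast; ring
  rw [hΔP, hΔQ]
  -- the normalised difference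
  set R : ℚ[X] := C αP⁻¹ * P - C αQ⁻¹ * Q with hR
  have hRcoeff : ∀ k, R.coeff k = αP⁻¹ * P.coeff k - αQ⁻¹ * Q.coeff k := by
    intro k; rw [hR, coeff_sub, coeff_C_mul, coeff_C_mul]
  have hRdelta : R - R.comp (X - C a) =
      C αP⁻¹ * (P - P.comp (X - C a)) - C αQ⁻¹ * (Q - Q.comp (X - C a)) := by
    rw [hR, sub_comp, mul_comp, mul_comp, C_comp, C_comp]; ring
  -- R has small degree
  have hRdeg : R.natDegree ≤ (d' - 1 - (i : ℕ)) + 1 := by
    rw [natDegree_le_iff_coeff_eq_zero]
    intro N hN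
    rw [hRcoeff]
    rcases lt_trichotomy N (d' + 1) with hlt | heq | hgt
    · -- N = d' - j' for some j' < i
      have hj' : d' - N < (i : ℕ) := by omega
      have hj'ℓ : d' - N < ℓ := by omega
      have := hi ⟨d' - N, hj'ℓ⟩ (Fin.lt_def.mpr hj')
      simp only at this
      have hN' : d' - (d' - N) = N := by omega
      rw [hN'] at this
      have hfN := hfac N
      field_simp at this ⊢
      linarith
    · subst heq
      rw [hαP, hαQ]
      field_simp
      ring
    · rw [coeff_eq_zero_of_natDegree_lt (by omega), coeff_eq_zero_of_natDegree_lt (by omega)]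
      ring
  have hkey := coeff_delta R (d' - 1 - (i : ℕ)) hRdeg a
  rw [hRdelta, coeff_sub, coeff_C_mul, coeff_C_mul, hRcoeff] at hkey
  have hidx : d' - 1 - (i : ℕ) + 1 = d' - (i : ℕ) := by omega
  rw [hidx] at hkey
  have hfacidx : ((d' - (i : ℕ)).factorial : ℚ) =
      ((d' - 1 - (i : ℕ) : ℕ) + 1 : ℚ) * ((d' - 1 - (i : ℕ)).factorial : ℚ) := by
    rw [← hidx, Nat.factorial_succ]; push_cast; ring
  rw [hfacidx]
  have hf1 := hfac (d' - 1 - (i : ℕ))
  clear_value αP αQ R
  generalize (P - P.comp (X - C a)).coeff (d' - 1 - (i : ℕ)) = x at hkey ⊢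
  generalize (Q - Q.comp (X - C a)).coeff (d' - 1 - (i : ℕ)) = y at hkey ⊢
  generalize P.coeff (d' - (i : ℕ)) = u at hkey ⊢
  generalize Q.coeff (d' - (i : ℕ)) = v at hkey ⊢
  generalize ((d' - 1 - (i : ℕ)).factorial : ℚ) = F at hf1 ⊢
  generalize ((d' - 1 - (i : ℕ) : ℕ) : ℚ) = m at hkey ⊢
  have e1 : x * F / (a * αP) - y * F / (a * αQ) = F / a * (αP⁻¹ * x - αQ⁻¹ * y) := by
    field_simp
  have e2 : u * ((m + 1) * F) / αP - v * ((m + 1) * F) / αQ
      = (m + 1) * F * (αP⁻¹ * u - αQ⁻¹ * v) := by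
    field_simp
  rw [e1, e2, hkey]
  field_simp

end Groth.Agent.S14997
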