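import Groth.Statements.S1500
import Mathlib
import Groth.Agent.Lib.Helper11.EffCartier

set_option autoImplicit false
universe u
open FlatMor

namespace Groth.Agent.S1500

section helpers

open CategoryTheory CategoryTheory.Limits AlgebraicGeometry TopologicalSpace Opposite
open Groth.Agent.Lib.Helper45 Groth.Agent.Lib.Helper49 Groth.Agent.Lib.Helper11.GenLocus
open Groth.Agent.Lib.Helper11.PullbackAmple2 Groth.Agent.Lib.Helper11.RelAmpleComp
  Groth.Agent.Lib.Helper11.AmpleSeparated Groth.Agent.Lib.Helper11
  Groth.Agent.Lib.Helper11.EffCartier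

variable {X : Scheme.{u}}

theorem main_S1500 {m : ℕ} (D : Fin m → X.IdealSheafData)
    (hD : ∀ i, BlowUp.IsEffCartierIdeal (D i)) (hcap : ⋂ i, ((D i).support : Set ↑X) = ∅)
    (L : Fin m → X.Modules) (hL : ∀ i, PicF.IsInvertible (L i))
    (hamp : ∀ i, CohB1.IsAmple ((L i).restrict (Scheme.Opens.ι (D i).support.compl))) :
    MoreMor.HasAmpleFamily X := by
  choose N s hN hs using fun i => exists_OD (D i) (hD i)
  have hcov : ∀ x : X, ∃ i, x ∈ (D i).support.compl := by
    intro x
    by_contra hcon
    push_neg at hcon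
    have : x ∈ ⋂ i, ((D i).support : Set ↑X) := Set.mem_iInter.mpr fun i => by
      by_contra h
      exact hcon i h
    rw [hcap] at this
    exact this
  have hcU : ∀ i, IsCompact ((D i).support.compl : Set X) := by
    intro i
    have : CompactSpace ((D i).support.compl : Scheme.{u}) := (hamp i).2.1
    exact isCompact_iff_compactSpace.mpr this
  have hcX : CompactSpace X := by
    constructor
    have : (Set.univ : Set X) = ⋃ i, ((D i).support.compl : Set X) := by
      ext x
      simp only [Set.mem_univ, Set.mem_iUnion, true_iff]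
      exact hcov x
    rw [this]
    exact isCompact_iUnion hcU
  have hqsX : QuasiSeparatedSpace X := by
    refine QuasiSeparatedSpace.of_isOpenCover (U := fun i => CohB1.genLocus _ (s i))
      (eq_top_iff.mpr fun x _ => ?_) (fun i => ?_) (fun i => ?_)
    · obtain ⟨i, hi⟩ := hcov x
      exact Opens.mem_iSup.mpr ⟨i, (hs i) ▸ hi⟩
    · have := isAffineHom_genLocus_ι (hN i) (s i)
      exact IsRetrocompact_iff_isSpectralMap_subtypeVal.mpr (CohB1.genLocus _ (s i)).ι.isSpectralMap
    · rw [hs i]
      have : QuasiSeparatedSpace ((D i).support.compl : Scheme.{u}) :=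
        quasiSeparatedSpace_of_hasAmpleFamily (hasAmpleFamily_of_isAmple (hamp i))
      exact (isQuasiSeparated_iff_quasiSeparatedSpace _ ((D i).support.compl).2).mpr this
  refine ⟨hcX, fun x => ?_⟩
  obtain ⟨i, hi⟩ := hcov x
  obtain ⟨k, G, hGU, σ, hxG, hGaff, h1, h2⟩ := exists_local_gen_data (L i) _ (hamp i) x hi
  have hF := isInvertible_tensorPow (hL i) (k + 1)
  obtain ⟨e₀, he₀⟩ := exists_genLocus_eq_of_twist' hF (hN i) (s i) _ (hs i) σ G hGU h1 h2
  obtain ⟨t, ht⟩ := he₀ e₀ le_rfl
  have hM := isInvertible_tensorMod hF (isInvertible_tensorPow (hN i) (e₀ + 1))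
  have hg : CohB1.genLocus (CohB1.tensorPow _ 1) (t ≫ (unitTensorIso _).inv) = G :=
    (genLocus_comp_iso t (unitTensorIso _).symm).trans ht
  exact ⟨_, 1, t ≫ (unitTensorIso _).inv, hM, le_rfl, hg ▸ hxG, hg ▸ hGaff⟩

end helpers

open AlgebraicGeometry CategoryTheory Limits in
/-- Let D_1, …, D_m be effective Cartier divisors on X (ideal sheaves locally generated by a
nonzerodivisor) with empty common support, and L_1, …, L_m invertible O_X-modules with L_i ample on
the open complement of D_i. Then X has an ample family of invertible modules. -/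
theorem result {X : Scheme.{u}} {m : ℕ} (D : Fin m → X.IdealSheafData)
    (hD : ∀ i, BlowUp.IsEffCartierIdeal (D i)) (hcap : ⋂ i, ((D i).support : Set ↑X) = ∅)
    (L : Fin m → X.Modules) (hL : ∀ i, PicF.IsInvertible (L i)) (hamp : ∀ i, CohB1.IsAmple ((L i).restrict (Scheme.Opens.ι (D i).support.compl))) :
    MoreMor.HasAmpleFamily X := by
  exact main_S1500 D hD hcap L hL hamp

end Groth.Agent.S1500
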