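import Groth.Statements.S15004

set_option autoImplicit false
universe u v
open Harb

namespace Groth.Agent.S15004

theorem result (P : Type u) (ι : Type v) [Fintype ι]
    (inc : P → ι → Prop) (h : ℕ)
    (hfin : ∀ i j : ι, i ≠ j → {p : P | inc p i ∧ inc p j}.Finite)
    (hcount : ∀ i j : ι, i ≠ j → {p : P | inc p i ∧ inc p j}.ncard = h) (i : ι) :
    ∑ᶠ p ∈ {p : P | inc p i}, (Nat.card {j : ι // inc p j} - 1) = h * (Fintype.card ι - 1) := by
  classical
  -- the finite set of points of `C_i` lying on another curve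
  have hTfin : (⋃ j ∈ (Finset.univ.erase i : Finset ι), {p : P | inc p i ∧ inc p j}).Finite := by
    refine Set.Finite.biUnion (Finset.finite_toSet _) ?_
    intro j hj
    exact hfin i j (Finset.ne_of_mem_erase hj).symm
  set T : Finset P := hTfin.toFinset with hT
  have hmemT : ∀ p, p ∈ T ↔ ∃ j, j ≠ i ∧ inc p i ∧ inc p j := by
    intro p
    simp only [hT, Set.Finite.mem_toFinset, Set.mem_iUnion, Finset.mem_erase, Finset.mem_univ,
      and_true, Set.mem_setOf_eq, exists_prop]
  -- rewrite the multiplicity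
  have hr : ∀ p, inc p i → Nat.card {j : ι // inc p j} - 1 =
      ∑ j ∈ Finset.univ.erase i, if inc p j then 1 else 0 := by
    intro p hp
    rw [Nat.card_eq_fintype_card, Fintype.card_subtype, ← Finset.card_filter,
      Finset.filter_erase, Finset.card_erase_of_mem]
    simp [hp]
  have hsupp : {p : P | inc p i} ∩ Function.support (fun p => Nat.card {j : ι // inc p j} - 1) ⊆ ↑T := by
    rintro p ⟨hp, hsupp⟩
    rw [Function.mem_support, hr p hp] at hsupp
    obtain ⟨j, hj, hj'⟩ := Finset.exists_ne_zero_of_sum_ne_zero hsupp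
    rw [Finset.mem_coe, hmemT]
    refine ⟨j, Finset.ne_of_mem_erase hj, hp, ?_⟩
    by_contra hcon
    simp [hcon] at hj'
  have hsub : (↑T : Set P) ⊆ {p : P | inc p i} := by
    intro p hp
    obtain ⟨j, _, hpi, _⟩ := (hmemT p).mp hp
    exact hpi
  rw [finsum_mem_eq_sum_of_subset _ hsupp hsub]
  rw [Finset.sum_congr rfl (fun p hp => hr p (hsub hp)), Finset.sum_comm]
  have hinner : ∀ j ∈ Finset.univ.erase i, (∑ p ∈ T, if inc p j then 1 else 0) = h := by
    intro j hj
    have hji : j ≠ i := Finset.ne_of_mem_erase hj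
    rw [← Finset.card_filter, ← hcount i j hji.symm, ← Set.ncard_coe_finset]
    congr 1
    ext p
    simp only [Finset.coe_filter, Set.mem_setOf_eq, hmemT]
    constructor
    · rintro ⟨⟨_, _, hpi, _⟩, hpj⟩
      exact ⟨hpi, hpj⟩
    · rintro ⟨hpi, hpj⟩
      exact ⟨⟨j, hji, hpi, hpj⟩, hpj⟩
  rw [Finset.sum_congr rfl hinner, Finset.sum_const, Finset.card_erase_of_mem (Finset.mem_univ i),
    Finset.card_univ, smul_eq_mul, mul_comm]

end Groth.Agent.S15004
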