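import Groth.Statements.S15005
import Mathlib.Data.Finset.Prod

set_option autoImplicit false
universe u v
open Harb

namespace Groth.Agent.S15005

theorem result (P : Type u) (ι : Type v) [Fintype ι]
    (inc : P → ι → Prop) (h : ℕ)
    (hfin : ∀ i j : ι, i ≠ j → {p : P | inc p i ∧ inc p j}.Finite)
    (hcount : ∀ i j : ι, i ≠ j → {p : P | inc p i ∧ inc p j}.ncard = h) :
    ∑ k ∈ Finset.Icc 2 (Fintype.card ι), k * (k - 1) * Nat.card {p : P // Nat.card {j : ι // inc p j} = k} =
      h * (Fintype.card ι * (Fintype.card ι - 1)) := by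
  classical
  have hTfin : (⋃ x ∈ (Finset.univ.offDiag : Finset (ι × ι)),
      {p : P | inc p x.1 ∧ inc p x.2}).Finite := by
    refine Set.Finite.biUnion (Finset.finite_toSet _) ?_
    intro x hx
    exact hfin x.1 x.2 (Finset.mem_offDiag.mp hx).2.2
  set T : Finset P := hTfin.toFinset with hT
  have hmemT : ∀ p, p ∈ T ↔ ∃ x : ι × ι, x.1 ≠ x.2 ∧ inc p x.1 ∧ inc p x.2 := by
    intro p
    simp only [hT, Set.Finite.mem_toFinset, Set.mem_iUnion, Finset.mem_offDiag, Finset.mem_univ,
      true_and, Set.mem_setOf_eq, exists_prop]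
  -- the multiplicity
  let r : P → ℕ := fun p => (Finset.univ.filter (fun j => inc p j)).card
  have hr : ∀ p, Nat.card {j : ι // inc p j} = r p := by
    intro p
    rw [Nat.card_eq_fintype_card, Fintype.card_subtype]
  have hrd : ∀ p, r p ≤ Fintype.card ι := fun p => Finset.card_le_univ _
  have hT2 : ∀ p, p ∈ T ↔ 2 ≤ r p := by
    intro p
    rw [hmemT]
    constructor
    · rintro ⟨⟨a, b⟩, hab, ha, hb⟩
      exact Finset.one_lt_card.mpr ⟨a, by simpa using ha, b, by simpa using hb, hab⟩
    · intro h2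
      obtain ⟨a, ha, b, hb, hab⟩ := Finset.one_lt_card.mp h2
      exact ⟨(a, b), hab, by simpa using ha, by simpa using hb⟩
  have hcard : ∀ k ∈ Finset.Icc 2 (Fintype.card ι),
      Nat.card {p : P // Nat.card {j : ι // inc p j} = k} = (T.filter (fun p => r p = k)).card := by
    intro k hk
    apply Nat.subtype_card
    intro p
    rw [Finset.mem_filter, hr p, hT2]
    have := (Finset.mem_Icc.mp hk).1
    constructor
    · rintro ⟨_, h2⟩; exact h2
    · intro h2; exact ⟨by omega, h2⟩
  rw [Finset.sum_congr rfl (fun k hk => by rw [hcard k hk])]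
  -- swap to a sum over points
  have hswap : ∑ k ∈ Finset.Icc 2 (Fintype.card ι), k * (k - 1) * (T.filter (fun p => r p = k)).card
      = ∑ p ∈ T, r p * (r p - 1) := by
    simp_rw [Finset.card_filter, Finset.mul_sum]
    rw [Finset.sum_comm]
    refine Finset.sum_congr rfl ?_
    intro p hp
    have h2 := (hT2 p).mp hp
    rw [Finset.sum_eq_single (r p)]
    · simp
    · intro k _ hk
      simp [Ne.symm hk]
    · intro hnot
      exact (hnot (Finset.mem_Icc.mpr ⟨h2, hrd p⟩)).elim
  rw [hswap]
  -- r (r - 1) counts ordered pairs of distinct curves through p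
  have hpairs : ∀ p, r p * (r p - 1) =
      ∑ x ∈ (Finset.univ.offDiag : Finset (ι × ι)), if inc p x.1 ∧ inc p x.2 then 1 else 0 := by
    intro p
    rw [← Finset.card_filter]
    have : (Finset.univ.offDiag : Finset (ι × ι)).filter (fun x => inc p x.1 ∧ inc p x.2) =
        (Finset.univ.filter (fun j => inc p j)).offDiag := by
      ext ⟨a, b⟩
      simp only [Finset.mem_filter, Finset.mem_offDiag, Finset.mem_univ, true_and]
      tauto
    rw [this, Finset.offDiag_card, Nat.mul_sub, mul_one]
  rw [Finset.sum_congr rfl (fun p _ => hpairs p), Finset.sum_comm]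
  have hinner : ∀ x ∈ (Finset.univ.offDiag : Finset (ι × ι)),
      (∑ p ∈ T, if inc p x.1 ∧ inc p x.2 then 1 else 0) = h := by
    intro x hx
    have hne : x.1 ≠ x.2 := (Finset.mem_offDiag.mp hx).2.2
    rw [← Finset.card_filter, ← hcount x.1 x.2 hne, ← Set.ncard_coe_finset]
    congr 1
    ext p
    simp only [Finset.coe_filter, Set.mem_setOf_eq, hmemT]
    constructor
    · rintro ⟨_, hp⟩
      exact hp
    · intro hp
      exact ⟨⟨x, hne, hp⟩, hp⟩
  rw [Finset.sum_congr rfl hinner, Finset.sum_const, Finset.offDiag_card, Finset.card_univ,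
    smul_eq_mul, Nat.mul_sub, mul_one, mul_comm]

end Groth.Agent.S15005
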