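import Groth.Statements.S15006
import Mathlib.Data.Finset.Prod
import Mathlib.LinearAlgebra.Dimension.Constructions
import Mathlib.LinearAlgebra.Dimension.Free
import Mathlib.LinearAlgebra.FreeModule.Finite.Basic
import Mathlib.LinearAlgebra.Dimension.StrongRankCondition
import Mathlib.LinearAlgebra.Dimension.Finite
import Mathlib.LinearAlgebra.LinearIndependent.Lemmas
import Mathlib.Algebra.Order.Field.Rat
import Mathlib.Tactic.Linarith
import Mathlib.Tactic.Positivity

set_option autoImplicit false
universe u v
open Harb

namespace Groth.Agent.S15006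

/-- Nonuniform Fisher inequality, in the form needed: a family of `d` subsets `A i` of a finite set `T`
with all pairwise intersections of size `h` and each `A i` of size `> h` has `d ≤ |T|`. -/
theorem fisher {P : Type u} {ι : Type v} [Fintype ι] [DecidableEq ι] (T : Finset P)
    (inc : P → ι → Prop) [∀ p i, Decidable (inc p i)] (h : ℕ) (hh : 0 < h)
    (hpair : ∀ i j : ι, i ≠ j → (T.filter (fun p => inc p i ∧ inc p j)).card = h)
    (hbig : ∀ i : ι, h < (T.filter (fun p => inc p i)).card) :
    Fintype.card ι ≤ T.card := by
  let v : ι → (↥T → ℚ) := fun i p => if inc p.1 i then 1 else 0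
  have hli : LinearIndependent ℚ v := by
    rw [Fintype.linearIndependent_iff]
    intro c hc
    have hp : ∀ p : ↥T, ∑ i, c i * v i p = 0 := by
      intro p
      have := congrFun hc p
      simpa [Finset.sum_apply, Pi.smul_apply, smul_eq_mul] using this
    -- Gram matrix entries
    have hN : ∀ i j : ι, ∑ p : ↥T, v i p * v j p =
        ((T.filter (fun p => inc p i ∧ inc p j)).card : ℚ) := by
      intro i j
      rw [Finset.card_filter, Nat.cast_sum]
      rw [← Finset.sum_coe_sort T (fun p => ((if inc p i ∧ inc p j then 1 else 0 : ℕ) : ℚ))]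
      refine Finset.sum_congr rfl ?_
      intro p _
      by_cases h1 : inc p.1 i <;> by_cases h2 : inc p.1 j <;> simp [v, h1, h2]
    set a : ι → ℚ := fun j => ((T.filter (fun p => inc p j)).card : ℚ) with ha
    have hNjj : ∀ j : ι, ∑ p : ↥T, v j p * v j p = a j := by
      intro j
      rw [hN j j]
      simp only [and_self, ha]
    have hNij : ∀ i j : ι, i ≠ j → ∑ p : ↥T, v i p * v j p = (h : ℚ) := by
      intro i j hij
      rw [hN i j, hpair i j hij]
    set S : ℚ := ∑ i, c i with hS
    -- key identity for each j
    have key : ∀ j : ι, c j * (a j - h) + h * S = 0 := by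
      intro j
      have h1 : ∑ p : ↥T, v j p * (∑ i, c i * v i p) = 0 := by
        simp [hp]
      have h2 : ∑ p : ↥T, v j p * (∑ i, c i * v i p) = ∑ i, c i * (∑ p : ↥T, v i p * v j p) := by
        simp_rw [Finset.mul_sum]
        rw [Finset.sum_comm]
        refine Finset.sum_congr rfl ?_
        intro i _
        refine Finset.sum_congr rfl ?_
        intro p _
        ring
      rw [h2] at h1
      have h3 : ∑ i, c i * (∑ p : ↥T, v i p * v j p) = c j * a j + (S - c j) * h := by
        rw [← Finset.add_sum_erase Finset.univ _ (Finset.mem_univ j), hNjj]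
        congr 1
        have : ∀ i ∈ Finset.univ.erase j, c i * (∑ p : ↥T, v i p * v j p) = c i * h := by
          intro i hi
          rw [hNij i j (Finset.ne_of_mem_erase hi)]
        rw [Finset.sum_congr rfl this, ← Finset.sum_mul, hS,
          ← Finset.add_sum_erase Finset.univ c (Finset.mem_univ j)]
        ring
      rw [h3] at h1
      linarith
    have hpos : ∀ j, 0 < a j - h := by
      intro j
      have : (h : ℚ) < a j := by
        simp only [ha]
        exact_mod_cast hbig j
      linarith
    have hhq : (0 : ℚ) < h := by exact_mod_cast hh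
    have hS0 : S = 0 := by
      rcases lt_trichotomy S 0 with hlt | heq | hgt
      · exfalso
        have hcpos : ∀ j, 0 < c j := by
          intro j
          have := key j
          have h1 : c j * (a j - h) = -(h * S) := by linarith
          have h2 : 0 < -(h * S) := by
            have : h * S < 0 := mul_neg_of_pos_of_neg hhq hlt
            linarith
          rw [← h1] at h2
          exact (pos_iff_pos_of_mul_pos h2).mpr (hpos j)
        have : 0 ≤ S := Finset.sum_nonneg (fun j _ => (hcpos j).le)
        linarith
      · exact heq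
      · exfalso
        have hcneg : ∀ j, c j < 0 := by
          intro j
          have := key j
          have h1 : c j * (a j - h) = -(h * S) := by linarith
          have h2 : -(h * S) < 0 := by
            have : 0 < h * S := mul_pos hhq hgt
            linarith
          rw [← h1] at h2
          by_contra hcon
          push_neg at hcon
          have := mul_nonneg hcon (hpos j).le
          linarith
        have : S ≤ 0 := Finset.sum_nonpos (fun j _ => (hcneg j).le)
        linarith
    intro j
    have := key j
    rw [hS0, mul_zero, add_zero] at this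
    rcases mul_eq_zero.mp this with h1 | h1
    · exact h1
    · exact absurd h1 (hpos j).ne'
  have := hli.fintype_card_le_finrank
  rw [Module.finrank_fintype_fun_eq_card, Fintype.card_coe] at this
  exact this

theorem result (P : Type u) (ι : Type v) [Fintype ι]
    (inc : P → ι → Prop) (h : ℕ) (hh : 0 < h) (hd : 2 ≤ Fintype.card ι)
    (hfin : ∀ i j : ι, i ≠ j → {p : P | inc p i ∧ inc p j}.Finite)
    (hcount : ∀ i j : ι, i ≠ j → {p : P | inc p i ∧ inc p j}.ncard = h)
    (hnone : ∀ p : P, ∃ i : ι, ¬ inc p i) :
    Fintype.card ι ≤ Nat.card {p : P // 2 ≤ Nat.card {j : ι // inc p j}} := by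
  classical
  have hTfin : (⋃ x ∈ (Finset.univ.offDiag : Finset (ι × ι)),
      {p : P | inc p x.1 ∧ inc p x.2}).Finite := by
    refine Set.Finite.biUnion (Finset.finite_toSet _) ?_
    intro x hx
    exact hfin x.1 x.2 (Finset.mem_offDiag.mp hx).2.2
  set T : Finset P := hTfin.toFinset with hT
  have hmemT : ∀ p, p ∈ T ↔ ∃ x : ι × ι, x.1 ≠ x.2 ∧ inc p x.1 ∧ inc p x.2 := by
    intro p
    simp only [hT, Set.Finite.mem_toFinset, Set.mem_iUnion, Finset.mem_offDiag, Finset.mem_univ,
      true_and, Set.mem_setOf_eq, exists_prop]
  have hT2 : ∀ p, p ∈ T ↔ 2 ≤ Nat.card {j : ι // inc p j} := by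
    intro p
    rw [hmemT, Nat.card_eq_fintype_card, Fintype.card_subtype]
    constructor
    · rintro ⟨⟨a, b⟩, hab, ha, hb⟩
      exact Finset.one_lt_card.mpr ⟨a, by simpa using ha, b, by simpa using hb, hab⟩
    · intro h2
      obtain ⟨a, ha, b, hb, hab⟩ := Finset.one_lt_card.mp h2
      exact ⟨(a, b), hab, by simpa using ha, by simpa using hb⟩
  rw [Nat.subtype_card T hT2]
  have hpair : ∀ i j : ι, i ≠ j → (T.filter (fun p => inc p i ∧ inc p j)).card = h := by
    intro i j hij
    rw [← hcount i j hij, ← Set.ncard_coe_finset]
    congr 1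
    ext p
    simp only [Finset.coe_filter, Set.mem_setOf_eq, hmemT]
    constructor
    · rintro ⟨_, hp⟩
      exact hp
    · intro hp
      exact ⟨⟨(i, j), hij, hp⟩, hp⟩
  refine fisher T inc h hh hpair ?_
  intro i
  -- pick another curve
  obtain ⟨k, hk⟩ : ∃ k : ι, k ≠ i := by
    by_contra hcon
    push_neg at hcon
    have : Fintype.card ι ≤ 1 := Fintype.card_le_one_iff.mpr (fun a b => by rw [hcon a, hcon b])
    omega
  have hsub : T.filter (fun p => inc p i ∧ inc p k) ⊆ T.filter (fun p => inc p i) := by
    intro p hp
    rw [Finset.mem_filter] at hp ⊢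
    exact ⟨hp.1, hp.2.1⟩
  have hle := Finset.card_le_card hsub
  rw [hpair i k hk.symm] at hle
  rcases lt_or_eq_of_le hle with hlt | heq
  · exact hlt
  · exfalso
    -- then every point of `A i` lies on all curves
    have hall : ∀ j : ι, j ≠ i → T.filter (fun p => inc p i) ⊆ T.filter (fun p => inc p i ∧ inc p j) := by
      intro j hj
      have hsubj : T.filter (fun p => inc p i ∧ inc p j) ⊆ T.filter (fun p => inc p i) := by
        intro p hp
        rw [Finset.mem_filter] at hp ⊢
        exact ⟨hp.1, hp.2.1⟩
      have := Finset.eq_of_subset_of_card_le hsubj (by rw [hpair i j hj.symm, ← heq])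
      rw [this]
    have hne : (T.filter (fun p => inc p i)).Nonempty := by
      rw [← Finset.card_pos, ← heq]; exact hh
    obtain ⟨p, hp⟩ := hne
    obtain ⟨j, hj⟩ := hnone p
    have hpi : inc p i := (Finset.mem_filter.mp hp).2
    have hji : j ≠ i := by rintro rfl; exact hj hpi
    have := hall j hji hp
    exact hj (Finset.mem_filter.mp this).2.2

end Groth.Agent.S15006
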