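import Groth.Statements.S15007
import Mathlib.Data.Finset.Prod

set_option autoImplicit false
universe u v
open Harb

namespace Groth.Agent.S15007

theorem result (P : Type u) (ι : Type v) [Fintype ι]
    (inc : P → ι → Prop) (h : ℕ) (hh : 0 < h) (hd : 2 ≤ Fintype.card ι)
    (hfin : ∀ i j : ι, i ≠ j → {p : P | inc p i ∧ inc p j}.Finite)
    (hcount : ∀ i j : ι, i ≠ j → {p : P | inc p i ∧ inc p j}.ncard = h)
    (hnone : ∀ p : P, ∃ i : ι, ¬ inc p i) :
    h + 2 ≤ Nat.card {p : P // 2 ≤ Nat.card {j : ι // inc p j}} := by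
  classical
  have hTfin : (⋃ x ∈ (Finset.univ.offDiag : Finset (ι × ι)),
      {p : P | inc p x.1 ∧ inc p x.2}).Finite := by
    refine Set.Finite.biUnion (Finset.finite_toSet _) ?_
    intro x hx
    exact hfin x.1 x.2 (Finset.mem_offDiag.mp hx).2.2
  set T : Finset P := hTfin.toFinset with hT
  have hmemT : ∀ p, p ∈ T ↔ ∃ x : ι × ι, x.1 ≠ x.2 ∧ inc p x.1 ∧ inc p x.2 := by
    intro p
    simp only [hT, Set.Finite.mem_toFinset, Set.mem_iUnion, Finset.mem_offDiag, Finset.mem_univ,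
      true_and, Set.mem_setOf_eq, exists_prop]
  have hT2 : ∀ p, p ∈ T ↔ 2 ≤ Nat.card {j : ι // inc p j} := by
    intro p
    rw [hmemT, Nat.card_eq_fintype_card, Fintype.card_subtype]
    constructor
    · rintro ⟨⟨a, b⟩, hab, ha, hb⟩
      exact Finset.one_lt_card.mpr ⟨a, by simpa using ha, b, by simpa using hb, hab⟩
    · intro h2
      obtain ⟨a, ha, b, hb, hab⟩ := Finset.one_lt_card.mp h2
      exact ⟨(a, b), hab, by simpa using ha, by simpa using hb⟩
  rw [Nat.subtype_card T hT2]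
  have hpair : ∀ i j : ι, i ≠ j → (T.filter (fun p => inc p i ∧ inc p j)).card = h := by
    intro i j hij
    rw [← hcount i j hij, ← Set.ncard_coe_finset]
    congr 1
    ext p
    simp only [Finset.coe_filter, Set.mem_setOf_eq, hmemT]
    constructor
    · rintro ⟨_, hp⟩
      exact hp
    · intro hp
      exact ⟨⟨(i, j), hij, hp⟩, hp⟩
  obtain ⟨i, j, hij⟩ := Fintype.one_lt_card_iff.mp (by omega : 1 < Fintype.card ι)
  -- a point on both curves
  have hne : (T.filter (fun p => inc p i ∧ inc p j)).Nonempty := by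
    rw [← Finset.card_pos, hpair i j hij]; exact hh
  obtain ⟨p, hp⟩ := hne
  have hpi : inc p i := (Finset.mem_filter.mp hp).2.1
  have hpj : inc p j := (Finset.mem_filter.mp hp).2.2
  obtain ⟨k, hk⟩ := hnone p
  have hki : i ≠ k := by rintro rfl; exact hk hpi
  have hkj : j ≠ k := by rintro rfl; exact hk hpj
  -- a point of C_i ∩ C_k outside C_j
  have ex1 : ∀ a b : ι, a ≠ b → a ≠ k → inc p a → inc p b →
      ∃ q ∈ T, inc q a ∧ inc q k ∧ ¬ inc q b := by
    intro a b hab hak hpa hpb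
    have hnsub : ¬ (T.filter (fun q => inc q a ∧ inc q k) ⊆ T.filter (fun q => inc q a ∧ inc q b)) := by
      intro hsub
      have heq := Finset.eq_of_subset_of_card_le hsub (by rw [hpair a b hab, hpair a k hak])
      have hpm : p ∈ T.filter (fun q => inc q a ∧ inc q b) :=
        Finset.mem_filter.mpr ⟨(hmemT p).mpr ⟨(a, b), hab, hpa, hpb⟩, hpa, hpb⟩
      rw [← heq] at hpm
      exact hk (Finset.mem_filter.mp hpm).2.2
    obtain ⟨q, hq1, hq2⟩ := Finset.not_subset.mp hnsub
    have hq1' := Finset.mem_filter.mp hq1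
    refine ⟨q, hq1'.1, hq1'.2.1, hq1'.2.2, ?_⟩
    intro hqb
    exact hq2 (Finset.mem_filter.mpr ⟨hq1'.1, hq1'.2.1, hqb⟩)
  obtain ⟨q₁, hq₁T, hq₁i, hq₁k, hq₁j⟩ := ex1 i j hij hki hpi hpj
  obtain ⟨q₂, hq₂T, hq₂j, hq₂k, hq₂i⟩ := ex1 j i hij.symm hkj hpj hpi
  have hq12 : q₁ ≠ q₂ := by rintro rfl; exact hq₂i hq₁i
  have hq₁A : q₁ ∉ T.filter (fun p => inc p i ∧ inc p j) := fun hmem =>
    hq₁j (Finset.mem_filter.mp hmem).2.2
  have hq₂A : q₂ ∉ T.filter (fun p => inc p i ∧ inc p j) := fun hmem =>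
    hq₂i (Finset.mem_filter.mp hmem).2.1
  have hsub : insert q₁ (insert q₂ (T.filter (fun p => inc p i ∧ inc p j))) ⊆ T := by
    intro x hx
    rw [Finset.mem_insert, Finset.mem_insert] at hx
    rcases hx with rfl | rfl | hx
    · exact hq₁T
    · exact hq₂T
    · exact (Finset.mem_filter.mp hx).1
  have hcard : (insert q₁ (insert q₂ (T.filter (fun p => inc p i ∧ inc p j)))).card = h + 2 := by
    rw [Finset.card_insert_of_notMem, Finset.card_insert_of_notMem hq₂A, hpair i j hij]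
    rw [Finset.mem_insert]
    rintro (h1 | h1)
    · exact hq12 h1
    · exact hq₁A h1
  rw [← hcard]
  exact Finset.card_le_card hsub

end Groth.Agent.S15007
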