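import Groth.Statements.S15008
import Groth.Agent.Lib.Helper73.CanonDual9

set_option autoImplicit false
universe u
open CategoryTheory
open TFCurv

namespace Groth.Agent.S15008

/-- Let O be a one-dimensional Noetherian local domain with algebraically closed residue field whose
integral closure O~ in its fraction field K is a finite O-module, and suppose O is not Gorenstein.
If w is an O-submodule of K with O ⊆ w ⊆ O~ whose injective dimension as an O-module is at most one
(a canonical ideal placed between O and O~), then length(w/O) + length(O~/C) = 2 · length(O~/O),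
where C is the conductor of O in O~. -/
theorem result (O : Type u) [CommRing O] [IsDomain O] [IsNoetherianRing O] [IsLocalRing O] (hdim : ringKrullDim O = 1) [IsAlgClosed (IsLocalRing.ResidueField O)] (K : Type u) [Field K] [Algebra O K] [IsFractionRing O K] (hfin : Module.Finite O ↥(integralClosure O K)) (hG : ¬ LocCoh.IsGorensteinLocalRing O) (ω : Submodule O K) (hω1 : (1 : Submodule O K) ≤ ω) (hω2 : ω ≤ (Subalgebra.toSubmodule (integralClosure O K))) (hωinj : HasInjectiveDimensionLT (ModuleCat.of O ↥ω) 2) : Module.length O (↥ω ⧸ Submodule.comap ω.subtype (1 : Submodule O K)) + Module.length O (↥(integralClosure O K) ⧸ ((1 : Submodule O K).colon (Subalgebra.toSubmodule (integralClosure O K))) • (⊤ : Submodule O ↥(integralClosure O K))) = 2 * Module.length O (↥(integralClosure O K) ⧸ Submodule.comap (Subalgebra.toSubmodule (integralClosure O K)).subtype (1 : Submodule O K)) := by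
  classical
  haveI : Ring.KrullDimLE 1 O := by
    rw [Ring.krullDimLE_iff, hdim]
    rfl
  have hO : ¬ IsField O := by
    intro h
    have := ringKrullDim_eq_zero_of_isField h
    rw [hdim] at this
    simp at this
  set Ot : Submodule O K := Subalgebra.toSubmodule (integralClosure O K) with hOt
  have hOtfg : Ot.FG := Module.Finite.iff_fg.mp hfin
  have hωfg : ω.FG := Submodule.FG.of_le hOtfg hω2
  have hω0 : ω ≠ ⊥ := by
    intro h
    have h1 : (1 : K) ∈ ω := Submodule.one_le.mp hω1
    rw [h] at h1
    exact one_ne_zero ((Submodule.mem_bot O).mp h1)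
  have hcan : Groth.Agent.Lib.Helper73.CanonDual.IsCanon ω := ⟨hω0, hωfg, hωinj⟩
  have hmul : ∀ y ∈ Ot, ∀ z ∈ Ot, y * z ∈ Ot := fun y hy z hz =>
    (integralClosure O K).mul_mem hy hz
  have key := Groth.Agent.Lib.Helper73.CanonDual.length_conductor hO hcan Ot hOtfg hω1 hω2 hmul
  have h1Ot : (1 : Submodule O K) ≤ Ot := hω1.trans hω2
  -- the conductor term
  have hcond : ((1 : Submodule O K).colon (Subalgebra.toSubmodule (integralClosure O K))) •
      (⊤ : Submodule O ↥(integralClosure O K)) = ((1 : Submodule O K) / Ot).submoduleOf Ot := by
    apply le_antisymm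
    · rw [Submodule.smul_le]
      intro r hr z _
      change (r • z : ↥Ot).1 ∈ (1 : Submodule O K) / Ot
      rw [Submodule.mem_div_iff_forall_mul_mem]
      intro t ht
      have h1 : r • (z.1 * t) ∈ (1 : Submodule O K) :=
        Submodule.mem_colon.mp hr _ ((integralClosure O K).mul_mem z.2 ht)
      have h2 : (r • z : ↥Ot).1 * t = r • (z.1 * t) := by
        change (r • (z : K)) * t = r • ((z : K) * t)
        rw [smul_mul_assoc]
      rw [h2]
      exact h1
    · intro z hz
      have hz' : z.1 ∈ (1 : Submodule O K) / Ot := hz
      rw [Submodule.mem_div_iff_forall_mul_mem] at hz'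
      have hz1 : z.1 ∈ (1 : Submodule O K) := by
        have := hz' 1 (Submodule.one_le.mp h1Ot)
        rwa [mul_one] at this
      obtain ⟨r, hr⟩ := Submodule.mem_one.mp hz1
      have hrc : r ∈ (1 : Submodule O K).colon (Subalgebra.toSubmodule (integralClosure O K)) := by
        rw [Submodule.mem_colon]
        intro p hp
        rw [Algebra.smul_def, hr]
        exact hz' p hp
      have hzeq : z = r • (⟨1, Submodule.one_le.mp h1Ot⟩ : ↥(integralClosure O K)) := by
        apply Subtype.ext
        change z.1 = r • (1 : K)
        rw [Algebra.smul_def, mul_one, hr]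
      rw [hzeq]
      exact Submodule.smul_mem_smul hrc Submodule.mem_top
  rw [hcond]
  exact key

end Groth.Agent.S15008
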