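import Groth.Statements.S15010
import Mathlib

set_option autoImplicit false
universe u
open TFCurv

namespace Groth.Agent.S15010

section helpers
variable {O : Type u} [CommRing O] [IsDomain O] {K : Type u} [Field K] [Algebra O K]
  [IsFractionRing O K] {n : ℕ}

set_option linter.unusedSectionVars false

lemma single_mem_pi_one (j : Fin n) :
    (Pi.single j (1 : K) : Fin n → K) ∈
      Submodule.pi Set.univ (fun _ : Fin n => (1 : Submodule O K)) := by
  intro i _
  change (Pi.single j (1 : K) : Fin n → K) i ∈ (1 : Submodule O K)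
  rw [Submodule.mem_one]
  by_cases h : i = j
  · subst h; exact ⟨1, by simp⟩
  · exact ⟨0, by simp [h]⟩

/-- An `O`-linear map out of a lattice containing `O^n` is given by a matrix. -/
lemma apply_eq_mulVec (M N : Submodule O (Fin n → K))
    (hM1 : Submodule.pi Set.univ (fun _ : Fin n => (1 : Submodule O K)) ≤ M)
    (ψ : ↥M →ₗ[O] ↥N) (x : ↥M) :
    ((ψ x : ↥N) : Fin n → K) =
      (Matrix.of fun i j => ((ψ ⟨Pi.single j 1, hM1 (single_mem_pi_one j)⟩ : ↥N) : Fin n → K) i).mulVec
        (x : Fin n → K) := by
  classical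
  obtain ⟨⟨d, hd⟩, hc⟩ := IsLocalization.exist_integer_multiples_of_finite (nonZeroDivisors O)
    (fun j => (x : Fin n → K) j)
  choose c hc using hc
  have hd0 : algebraMap O K d ≠ 0 :=
    IsFractionRing.to_map_ne_zero_of_mem_nonZeroDivisors hd
  set E : Fin n → ↥M := fun j => ⟨Pi.single j 1, hM1 (single_mem_pi_one j)⟩ with hE
  have h1 : d • x = ∑ j, c j • E j := by
    apply Subtype.ext
    funext i
    rw [Submodule.coe_smul, Pi.smul_apply, Submodule.coe_sum, Finset.sum_apply]
    simp only [Submodule.coe_smul, Pi.smul_apply, hE, Pi.single_apply]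
    rw [Finset.sum_eq_single i]
    · simp only [if_true]
      rw [← hc i, Algebra.smul_def, mul_one]
    · intro j _ hj
      rw [if_neg (Ne.symm hj), smul_zero]
    · intro h; exact absurd (Finset.mem_univ i) h
  have h2 : d • ψ x = ∑ j, c j • ψ (E j) := by
    rw [← map_smul, h1, map_sum]
    simp only [map_smul]
  funext i
  have h3 := congrArg (fun v : ↥N => (v : Fin n → K) i) h2
  simp only [Submodule.coe_smul, Pi.smul_apply, Submodule.coe_sum, Finset.sum_apply] at h3
  apply mul_left_cancel₀ hd0
  rw [← Algebra.smul_def, h3, Matrix.mulVec, dotProduct, Finset.mul_sum]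
  refine Finset.sum_congr rfl fun j _ => ?_
  have hcj : algebraMap O K (c j) = algebraMap O K d * (x : Fin n → K) j := by
    rw [hc j]; exact Algebra.smul_def _ _
  rw [Matrix.of_apply, Algebra.smul_def, hcj]
  ring

end helpers


/-- Let O be a one-dimensional Noetherian local domain with algebraically closed residue field whose
integral closure O~ in its fraction field K is a finite O-module. If M and N are O-submodules of K^n
with O^n ⊆ M ⊆ O~^n and O^n ⊆ N ⊆ O~^n, then every O-linear isomorphism M → N is the restriction of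
x ↦ A·x for an invertible n × n matrix A with entries in O~. -/
theorem result (O : Type u) [CommRing O] [IsDomain O] [IsNoetherianRing O] [IsLocalRing O] (hdim : ringKrullDim O = 1) [IsAlgClosed (IsLocalRing.ResidueField O)] (K : Type u) [Field K] [Algebra O K] [IsFractionRing O K] (hfin : Module.Finite O ↥(integralClosure O K)) (n : ℕ) (M N : Submodule O (Fin n → K)) (hM1 : Submodule.pi Set.univ (fun _ : Fin n => (1 : Submodule O K)) ≤ M) (hM2 : M ≤ Submodule.pi Set.univ (fun _ : Fin n => (Subalgebra.toSubmodule (integralClosure O K)))) (hN1 : Submodule.pi Set.univ (fun _ : Fin n => (1 : Submodule O K)) ≤ N) (hN2 : N ≤ Submodule.pi Set.univ (fun _ : Fin n => (Subalgebra.toSubmodule (integralClosure O K)))) (φ : ↥M ≃ₗ[O] ↥N) : ∃ A : Matrix (Fin n) (Fin n) ↥(integralClosure O K), IsUnit A ∧ ∀ x : ↥M, ((φ x : ↥N) : Fin n → K) = (A.map (algebraMap ↥(integralClosure O K) K)).mulVec (x : Fin n → K) := by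
  classical
  let f : ↥(integralClosure O K) →+* K := algebraMap ↥(integralClosure O K) K
  have hf : Function.Injective f := Subtype.val_injective
  let EM : Fin n → ↥M := fun j => ⟨Pi.single j 1, hM1 (single_mem_pi_one j)⟩
  let EN : Fin n → ↥N := fun j => ⟨Pi.single j 1, hN1 (single_mem_pi_one j)⟩
  let A : Matrix (Fin n) (Fin n) ↥(integralClosure O K) :=
    Matrix.of fun i j => ⟨((φ (EM j) : ↥N) : Fin n → K) i, hN2 (φ (EM j)).2 i (Set.mem_univ i)⟩
  let B : Matrix (Fin n) (Fin n) ↥(integralClosure O K) :=
    Matrix.of fun i j => ⟨((φ.symm (EN j) : ↥M) : Fin n → K) i,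
      hM2 (φ.symm (EN j)).2 i (Set.mem_univ i)⟩
  have hA : ∀ x : ↥M, ((φ x : ↥N) : Fin n → K) = (A.map f).mulVec (x : Fin n → K) := by
    intro x
    exact (apply_eq_mulVec M N hM1 φ.toLinearMap x).trans rfl
  have hB : ∀ y : ↥N, ((φ.symm y : ↥M) : Fin n → K) = (B.map f).mulVec (y : Fin n → K) := by
    intro y
    exact (apply_eq_mulVec N M hN1 φ.symm.toLinearMap y).trans rfl
  have hAB : A * B = 1 := by
    apply Matrix.map_injective hf
    change (A * B).map f = (1 : Matrix (Fin n) (Fin n) ↥(integralClosure O K)).map f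
    rw [Matrix.map_mul, Matrix.map_one _ (map_zero f) (map_one f)]
    ext i j
    have h1 := congrFun (hA (φ.symm (EN j))) i
    rw [LinearEquiv.apply_symm_apply] at h1
    rw [Matrix.mul_apply, Matrix.one_apply]
    have h2 : ((EN j : ↥N) : Fin n → K) i = if i = j then 1 else 0 := by
      change (Pi.single j (1 : K) : Fin n → K) i = _
      rw [Pi.single_apply]
    rw [← h2, h1, Matrix.mulVec, dotProduct]
    rfl
  have hBA : B * A = 1 := by
    apply Matrix.map_injective hf
    change (B * A).map f = (1 : Matrix (Fin n) (Fin n) ↥(integralClosure O K)).map f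
    rw [Matrix.map_mul, Matrix.map_one _ (map_zero f) (map_one f)]
    ext i j
    have h1 := congrFun (hB (φ (EM j))) i
    rw [LinearEquiv.symm_apply_apply] at h1
    rw [Matrix.mul_apply, Matrix.one_apply]
    have h2 : ((EM j : ↥M) : Fin n → K) i = if i = j then 1 else 0 := by
      change (Pi.single j (1 : K) : Fin n → K) i = _
      rw [Pi.single_apply]
    rw [← h2, h1, Matrix.mulVec, dotProduct]
    rfl
  exact ⟨A, ⟨⟨A, B, hAB, hBA⟩, rfl⟩, hA⟩

end Groth.Agent.S15010
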