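import Groth.Statements.S15012
import Groth.Agent.Lib.Helper73.GorLatticeLen10

set_option autoImplicit false
universe u
open TFCurv

namespace Groth.Agent.S15012

/-- Let O be a one-dimensional Gorenstein local domain with algebraically closed residue field whose
integral closure O~ in its fraction field K is a finite O-module, and let C ⊆ O be the conductor of
O in O~. Every finitely generated torsion-free O-module of rank n is isomorphic to an O-submodule M'
of K^n with C^n ⊆ M' ⊆ O~^n and length(M'/C^n) = n · length(O/C); that is, every isomorphism class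
of rank-n torsion-free modules is represented by a submodule of (O~/C)^n of the same length as
(O/C)^n. -/
theorem result (O : Type u) [CommRing O] [IsDomain O] [LocCoh.IsGorensteinLocalRing O] (hdim : ringKrullDim O = 1) [IsAlgClosed (IsLocalRing.ResidueField O)] (K : Type u) [Field K] [Algebra O K] [IsFractionRing O K] (hfin : Module.Finite O ↥(integralClosure O K)) (M : Type u) [AddCommGroup M] [Module O M] [Module.Finite O M] [NoZeroSMulDivisors O M] (n : ℕ) (hn : Module.finrank K (TensorProduct O K M) = n) : ∃ M' : Submodule O (Fin n → K), Submodule.pi Set.univ (fun _ : Fin n => (((1 : Submodule O K).colon (Subalgebra.toSubmodule (integralClosure O K))) • (1 : Submodule O K))) ≤ M' ∧ M' ≤ Submodule.pi Set.univ (fun _ : Fin n => (Subalgebra.toSubmodule (integralClosure O K))) ∧ Nonempty (M ≃ₗ[O] ↥M') ∧ Module.length O (↥M' ⧸ Submodule.comap M'.subtype (Submodule.pi Set.univ (fun _ : Fin n => (((1 : Submodule O K).colon (Subalgebra.toSubmodule (integralClosure O K))) • (1 : Submodule O K))))) = (n : ℕ∞) * Module.length O (O ⧸ ((1 : Submodule O K).colon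 (Subalgebra.toSubmodule (integralClosure O K)))) := by
  classical
  haveI : Ring.KrullDimLE 1 O := by
    rw [Ring.krullDimLE_iff, hdim]
    rfl
  have hO : ¬ IsField O := by
    intro h
    have := ringKrullDim_eq_zero_of_isField h
    rw [hdim] at this
    simp at this
  haveI : Infinite (IsLocalRing.ResidueField O) := IsAlgClosed.instInfinite
  haveI : Module.Finite O ↥(integralClosure O K) := hfin
  obtain ⟨M'', hCM'', hM''1, ⟨e''⟩⟩ :=
    Groth.Agent.Lib.Helper73.CanonDual.exists_submodule_conductor hdim hO
      (Groth.Agent.Lib.Helper73.CanonDual.isCanon_one hdim) M n hn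
  obtain ⟨M₁, h1M₁, hM₁A, ⟨e₁⟩⟩ :=
    Groth.Agent.Lib.Helper98.exists_submodule_between O K hdim M n hn
  haveI := Groth.Agent.Lib.Helper98.isDedekindDomain_integralClosure O K
  haveI := Groth.Agent.Lib.Helper98.isPrincipalIdealRing_integralClosure O K hdim
  haveI : IsFractionRing (integralClosure O K) K :=
    integralClosure.isFractionRing_of_finite_extension K K
  have hA : ∀ x : K, x ∈ integralClosure O K ↔
      x ∈ Set.range (algebraMap ↥(integralClosure O K) K) :=
    fun x => ⟨fun hx => ⟨⟨x, hx⟩, rfl⟩, fun ⟨b, hb⟩ => hb ▸ b.2⟩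
  have hAfg : (Subalgebra.toSubmodule (integralClosure O K)).FG := Module.Finite.iff_fg.mp hfin
  have hM₁fg : M₁.FG := Module.Finite.iff_fg.mp (Module.Finite.equiv e₁)
  obtain ⟨M', h1, h2, ⟨e⟩, h4⟩ :=
    Groth.Agent.Lib.Helper73.CanonDual.exists_lattice_colength (B := ↥(integralClosure O K))
      (integralClosure O K) hA hAfg M₁ M'' hM₁fg h1M₁ hM₁A hCM'' hM''1 (e₁.symm.trans e'')
  exact ⟨M', h1, h2, ⟨e₁.trans e⟩, h4⟩

end Groth.Agent.S15012
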