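import Groth.Statements.S15013
import Mathlib
import Groth.Agent.Lib.Helper98.TorsionFreeEmbed

set_option autoImplicit false
universe u
open CategoryTheory
open TFCurv

namespace Groth.Agent.S15013

/-- Let O be a one-dimensional Noetherian local domain with algebraically closed residue field whose
integral closure O~ in its fraction field K is a finite O-module, and let w be a canonical ideal of
O, taken here as a nonzero finitely generated O-submodule of K whose injective dimension as an
O-module is at most one. Then Ext^i_O(M, w) vanishes for all i ≥ 1 and every finitely generated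
torsion-free O-module M. -/
theorem result (O : Type u) [CommRing O] [IsDomain O] [IsNoetherianRing O] [IsLocalRing O] (hdim : ringKrullDim O = 1) [IsAlgClosed (IsLocalRing.ResidueField O)] (K : Type u) [Field K] [Algebra O K] [IsFractionRing O K] (hfin : Module.Finite O ↥(integralClosure O K)) (ω : Submodule O K) (hω0 : ω ≠ ⊥) (hωfg : ω.FG) (hωinj : HasInjectiveDimensionLT (ModuleCat.of O ↥ω) 2) (M : Type u) [AddCommGroup M] [Module O M] [Module.Finite O M] [NoZeroSMulDivisors O M] (i : ℕ) (hi : 1 ≤ i) : Subsingleton (Abelian.Ext (ModuleCat.of O M) (ModuleCat.of O ↥ω) i) := by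
  by_cases h2 : 2 ≤ i
  · exact HasInjectiveDimensionLT.subsingleton _ 2 i h2 _
  have hi1 : i = 1 := by omega
  subst hi1
  obtain ⟨f, hf⟩ := Groth.Agent.Lib.Helper98.exists_injective_to_pi O K M
    (Module.finrank K (TensorProduct O K M)) rfl
  let S : ShortComplex (ModuleCat.{u} O) :=
    ShortComplex.mk (ModuleCat.ofHom f) (ModuleCat.ofHom (LinearMap.range f).mkQ) (by
      ext x
      change (LinearMap.range f).mkQ (f x) = 0
      rw [Submodule.mkQ_apply, Submodule.Quotient.mk_eq_zero]
      exact ⟨x, rfl⟩)
  have hS : S.ShortExact := by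
    have hmono : Mono S.f := by
      rw [ModuleCat.mono_iff_injective]
      exact hf
    have hepi : Epi S.g := by
      rw [ModuleCat.epi_iff_surjective]
      exact Submodule.mkQ_surjective _
    refine ShortComplex.ShortExact.mk ?_
    rw [ShortComplex.moduleCat_exact_iff]
    intro a ha
    change (LinearMap.range f).mkQ a = 0 at ha
    rw [Submodule.mkQ_apply, Submodule.Quotient.mk_eq_zero] at ha
    exact ha
  refine subsingleton_of_forall_eq 0 fun x => ?_
  have h0 : hS.extClass.comp x (show 1 + 1 = 2 by rfl) = 0 :=
    (HasInjectiveDimensionLT.subsingleton (ModuleCat.of O ↥ω) 2 2 le_rfl _).elim _ _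
  obtain ⟨x₂, hx₂⟩ := Abelian.Ext.contravariant_sequence_exact₁ hS (ModuleCat.of O ↥ω) x
    (show 1 + 1 = 2 by rfl) h0
  have : Projective S.X₂ := by
    change Projective (ModuleCat.of O (Fin _ → O))
    exact ModuleCat.projective_of_free (Module.Free.chooseBasis O (Fin _ → O))
  have hx₂0 : x₂ = 0 := Abelian.Ext.eq_zero_of_projective _
  rw [← hx₂, hx₂0, Abelian.Ext.comp_zero]

end Groth.Agent.S15013
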