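import Groth.Statements.S15016
import Groth.Agent.H76.ValueSemigroup

set_option autoImplicit false
universe u
open TFCurv

namespace Groth.Agent.S15016

theorem result (k : Type u) [Field k] [IsAlgClosed k] (A : Subalgebra k (PowerSeries k)) (hA : Module.Finite ↥A (PowerSeries k)) (hcl : ∀ f : PowerSeries k, (∀ n : ℕ, ∃ g ∈ A, (n : ℕ∞) ≤ PowerSeries.order (f - g)) → f ∈ A) (hsing : A ≠ ⊤) (Γ : Set ℕ) (hΓ : ∀ n : ℕ, n ∈ Γ ↔ ∃ f ∈ A, PowerSeries.order f = n) (c : ℕ) (hc : ∀ n : ℕ, c ≤ n → n ∈ Γ) (hc0 : c ≠ 0) (hc1 : c - 1 ∉ Γ) (f : PowerSeries k) : (∀ g : PowerSeries k, g * f ∈ A) ↔ (c : ℕ∞) ≤ PowerSeries.order f := by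
  constructor
  · intro h
    by_contra hlt
    rw [not_le] at hlt
    have hf0 : f ≠ 0 := by
      rintro rfl
      rw [PowerSeries.order_zero] at hlt
      exact absurd hlt (not_lt.mpr le_top)
    have hm : (f.order.toNat : ℕ∞) = f.order := PowerSeries.coe_toNat_order hf0
    set m := f.order.toNat with hm'
    have hmc : m < c := by
      rw [← hm] at hlt
      exact_mod_cast hlt
    apply hc1
    rw [hΓ]
    refine ⟨PowerSeries.X ^ (c - 1 - m) * f, h _, ?_⟩
    rw [PowerSeries.order_mul, PowerSeries.order_X_pow, ← hm]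
    have : c - 1 - m + m = c - 1 := by omega
    exact_mod_cast this
  · intro h g
    apply Groth.Agent.H76.ValueSemigroup.mem_of_le_order A hcl Γ hΓ c hc
    rw [PowerSeries.order_mul]
    exact le_trans h le_add_self

end Groth.Agent.S15016
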