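import Groth.Statements.S15017
import Mathlib.Data.Nat.ModEq

set_option autoImplicit false
open TFCurv

namespace Groth.Agent.S15017

theorem result (Γ : AddSubmonoid ℕ) (c : ℕ) (hc : ∀ n : ℕ, c ≤ n → n ∈ Γ) (hc0 : c ≠ 0) (hc1 : c - 1 ∉ Γ) (hsymm : ∀ x : ℕ, x < c → (x ∉ Γ ↔ c - 1 - x ∈ Γ)) (he : (1 : ℕ) ∉ Γ ∧ (2 : ℕ) ∉ Γ) : AddSubmonoid.closure {γ : ℕ | γ ∈ Γ ∧ γ < c} = Γ := by
  classical
  have hgap : ∀ n, n ∉ Γ → n < c := fun n hn => by
    by_contra h; exact hn (hc n (not_lt.mp h))
  have h1c : 1 < c := hgap 1 he.1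
  have h2c : 2 < c := hgap 2 he.2
  -- the multiplicity
  have hex : ∃ γ, γ ∈ Γ ∧ γ ≠ 0 := ⟨c, hc c le_rfl, hc0⟩
  obtain ⟨e, ⟨heΓ, he0⟩, hemin'⟩ : ∃ e, (e ∈ Γ ∧ e ≠ 0) ∧ ∀ γ, γ ∈ Γ → γ ≠ 0 → e ≤ γ := by
    refine ⟨Nat.find hex, Nat.find_spec hex, ?_⟩
    intro γ hγ hγ0
    exact Nat.find_min' hex ⟨hγ, hγ0⟩
  have he3 : 3 ≤ e := by
    by_contra h
    have : e = 1 ∨ e = 2 := by omega
    rcases this with rfl | rfl
    · exact he.1 heΓ
    · exact he.2 heΓ
  have hec : e < c := by
    have hle : e ≤ c := hemin' c (hc c le_rfl) hc0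
    rcases lt_or_eq_of_le hle with h | h
    · exact h
    · exfalso
      have h3 : c - 1 - 1 ∈ Γ := (hsymm 1 h1c).mp he.1
      have h4 : c - 1 - 1 ≠ 0 := by omega
      have := hemin' _ h3 h4
      omega
  -- Apéry-type reduction
  have apery : ∀ m : ℕ, m ∈ Γ → ¬ e ∣ m → ∃ a ∈ Γ, a ≤ m ∧ e < a ∧ a - e ∉ Γ := by
    intro m
    induction m using Nat.strong_induction_on with
    | _ m ih =>
      intro hm hdiv
      have hm0 : m ≠ 0 := by rintro rfl; exact hdiv (dvd_zero e)
      have hem : e ≤ m := hemin' m hm hm0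
      have hem' : e ≠ m := by rintro rfl; exact hdiv dvd_rfl
      by_cases hme : m - e ∈ Γ
      · have hdiv' : ¬ e ∣ m - e := by
          intro h
          apply hdiv
          have := (Nat.dvd_sub_iff_left hem dvd_rfl).mp h
          exact this
        obtain ⟨a, ha, ham, hea, hae⟩ := ih (m - e) (by omega) hme hdiv'
        exact ⟨a, ha, by omega, hea, hae⟩
      · exact ⟨m, hm, le_rfl, by omega, hme⟩
  apply le_antisymm
  · rw [AddSubmonoid.closure_le]
    rintro γ ⟨hγ, _⟩
    exact hγ
  · intro n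
    induction n using Nat.strong_induction_on with
    | _ n ih =>
      intro hn
      by_cases hnc : n < c
      · exact AddSubmonoid.subset_closure ⟨hn, hnc⟩
      · push_neg at hnc
        have heclo : e ∈ AddSubmonoid.closure {γ : ℕ | γ ∈ Γ ∧ γ < c} :=
          AddSubmonoid.subset_closure ⟨heΓ, hec⟩
        by_cases hne : n - e ∈ Γ
        · have := ih (n - e) (by omega) hne
          have h2 := AddSubmonoid.add_mem _ this heclo
          have e1 : n - e + e = n := by omega
          rwa [e1] at h2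
        · have hlt := hgap _ hne
          have h3 := (hsymm _ hlt).mp hne
          have h4 : c - 1 - (n - e) = 0 := by
            by_contra h0
            have := hemin' _ h3 h0
            omega
          have hnF : n = c - 1 + e := by omega
          -- choose a₀
          have : ∃ a₀, a₀ ∈ Γ ∧ ¬ e ∣ a₀ ∧ a₀ ≤ c + 1 := by
            by_cases hd : e ∣ c
            · refine ⟨c + 1, hc _ (by omega), ?_, le_rfl⟩
              intro hd'
              have := (Nat.dvd_add_right hd).mp hd'
              have := Nat.le_of_dvd (by omega) this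
              omega
            · exact ⟨c, hc _ le_rfl, hd, by omega⟩
          obtain ⟨a₀, ha₀, hdiv, ha₀le⟩ := this
          obtain ⟨a, ha, haa₀, hea, hae⟩ := apery a₀ ha₀ hdiv
          have hglt := hgap _ hae
          have hb := (hsymm _ hglt).mp hae
          have hsum : a + (c - 1 - (a - e)) = n := by omega
          have ha' := ih a (by omega) ha
          have hb' := ih _ (by omega) hb
          have := AddSubmonoid.add_mem _ ha' hb'
          rwa [hsum] at this

end Groth.Agent.S15017
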