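import Groth.Statements.S15018

set_option autoImplicit false
open TFCurv

namespace Groth.Agent.S15018

theorem result (Γ : AddSubmonoid ℕ) (c : ℕ) (hc : ∀ n : ℕ, c ≤ n → n ∈ Γ) (hc0 : c ≠ 0) (hc1 : c - 1 ∉ Γ) : (∀ x : ℕ, x < c → (x ∉ Γ ↔ c - 1 - x ∈ Γ)) ↔ ∃! n : ℕ, n ∉ Γ ∧ ∀ γ : ℕ, γ ∈ Γ → γ ≠ 0 → n + γ ∈ Γ := by
  have hgap : ∀ n, n ∉ Γ → n < c := fun n hn => by
    by_contra h; exact hn (hc n (not_lt.mp h))
  have hPF : c - 1 ∉ Γ ∧ ∀ γ : ℕ, γ ∈ Γ → γ ≠ 0 → c - 1 + γ ∈ Γ :=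
    ⟨hc1, fun γ _ hγ0 => hc _ (by omega)⟩
  constructor
  · intro hsymm
    refine ⟨c - 1, hPF, ?_⟩
    rintro n ⟨hn, hn'⟩
    have hlt := hgap n hn
    have h1 := (hsymm n hlt).mp hn
    by_contra hne
    have h2 := hn' _ h1 (by omega)
    have : n + (c - 1 - n) = c - 1 := by omega
    rw [this] at h2
    exact hc1 h2
  · rintro ⟨n, _, huniq⟩
    have hn : ∀ m, (m ∉ Γ ∧ ∀ γ : ℕ, γ ∈ Γ → γ ≠ 0 → m + γ ∈ Γ) → m = c - 1 := by
      intro m hm
      rw [huniq m hm, huniq (c - 1) hPF]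
    -- every gap can be pushed to the Frobenius number
    have key : ∀ k x : ℕ, c - x ≤ k → x ∉ Γ → ∃ γ₀ ∈ Γ, x + γ₀ = c - 1 := by
      intro k
      induction k with
      | zero =>
        intro x hk hx
        have := hgap x hx
        omega
      | succ k ih =>
        intro x hk hx
        by_cases hpf : ∀ γ : ℕ, γ ∈ Γ → γ ≠ 0 → x + γ ∈ Γ
        · exact ⟨0, Γ.zero_mem, by rw [add_zero]; exact hn x ⟨hx, hpf⟩⟩
        · push_neg at hpf
          obtain ⟨γ, hγ, hγ0, hxγ⟩ := hpf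
          have hlt := hgap _ hxγ
          obtain ⟨γ₁, hγ₁, h1⟩ := ih (x + γ) (by omega) hxγ
          exact ⟨γ + γ₁, Γ.add_mem hγ hγ₁, by omega⟩
    intro x hx
    constructor
    · intro hxΓ
      obtain ⟨γ₀, hγ₀, h1⟩ := key (c - x) x le_rfl hxΓ
      have : c - 1 - x = γ₀ := by omega
      rw [this]; exact hγ₀
    · intro h1 h2
      have := Γ.add_mem h1 h2
      have e : c - 1 - x + x = c - 1 := by omega
      rw [e] at this
      exact hc1 this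

end Groth.Agent.S15018
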