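import Groth.Statements.S15019
import Mathlib.Order.Interval.Finset.Nat
import Mathlib.Data.Nat.ModEq

set_option autoImplicit false
open TFCurv

namespace Groth.Agent.S15019

theorem encard_Ioo (e : ℕ) : (Set.Ioo 0 e : Set ℕ).encard = ((e - 1 : ℕ) : ℕ∞) := by
  rw [← Finset.coe_Ioo, Set.encard_coe_eq_coe_finsetCard, Nat.card_Ioo]
  simp

/-- If `a < b`, `a % e = b % e`, then `b = a + k * e` with `k ≥ 1`. -/
theorem exists_mul_of_mod_eq {e a b : ℕ} (hab : a < b) (h : a % e = b % e) :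
    ∃ k, 1 ≤ k ∧ b = a + k * e := by
  have h1 : e ∣ b - a := (Nat.modEq_iff_dvd' hab.le).mp h
  obtain ⟨k, hk⟩ := h1
  refine ⟨k, ?_, ?_⟩
  · rcases Nat.eq_zero_or_pos k with h0 | h0
    · subst h0; omega
    · exact h0
  · rw [mul_comm] at hk; omega

theorem result (Γ : AddSubmonoid ℕ) (c : ℕ) (hc : ∀ n : ℕ, c ≤ n → n ∈ Γ) (hc0 : c ≠ 0) (hc1 : c - 1 ∉ Γ) (e : ℕ) (he : e ∈ Γ) (he0 : e ≠ 0) (hemin : ∀ γ : ℕ, γ ∈ Γ → γ ≠ 0 → e ≤ γ) (S : Set ℕ) (hS0 : (0 : ℕ) ∈ S) (hS : ∀ γ : ℕ, γ ∈ Γ → ∀ s : ℕ, s ∈ S → γ + s ∈ S) : {n : ℕ | n ∉ S ∧ ∀ γ : ℕ, γ ∈ Γ → γ ≠ 0 → n + γ ∈ S}.encard ≤ ((e - 1 : ℕ) : ℕ∞) ∧ {s : ℕ | s ∈ S ∧ s ≠ 0 ∧ ∀ γ : ℕ, γ ∈ Γ → γ ≠ 0 → γ ≤ s → s - γ ∉ S}.encard ≤ ((e - 1 : ℕ) : ℕ∞) := by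
  have hke : ∀ k : ℕ, k * e ∈ Γ := fun k => by
    have := Γ.nsmul_mem he k
    simpa [smul_eq_mul] using this
  have hΓS : ∀ γ ∈ Γ, γ ∈ S := fun γ hγ => by simpa using hS γ hγ 0 hS0
  have hepos : 0 < e := Nat.pos_of_ne_zero he0
  constructor
  · rw [← encard_Ioo]
    refine Set.encard_le_encard_of_injOn (f := fun n => n % e) ?_ ?_
    · rintro n ⟨hn, _⟩
      refine ⟨?_, Nat.mod_lt _ hepos⟩
      rcases Nat.eq_zero_or_pos (n % e) with h0 | h0
      · exfalso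
        apply hn
        obtain ⟨k, hk⟩ := Nat.dvd_of_mod_eq_zero h0
        rw [hk, mul_comm]
        exact hΓS _ (hke k)
      · exact h0
    · rintro a ⟨ha, ha'⟩ b ⟨hb, hb'⟩ hab
      simp only at hab
      by_contra hne
      rcases lt_or_gt_of_ne hne with hlt | hlt
      · obtain ⟨k, hk1, hk⟩ := exists_mul_of_mod_eq hlt hab
        apply hb
        rw [hk]
        exact ha' _ (hke k) (Nat.mul_ne_zero (by omega) he0)
      · obtain ⟨k, hk1, hk⟩ := exists_mul_of_mod_eq hlt hab.symm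
        apply ha
        rw [hk]
        exact hb' _ (hke k) (Nat.mul_ne_zero (by omega) he0)
  · rw [← encard_Ioo]
    refine Set.encard_le_encard_of_injOn (f := fun n => n % e) ?_ ?_
    · rintro s ⟨hs, hs0, hs'⟩
      refine ⟨?_, Nat.mod_lt _ hepos⟩
      rcases Nat.eq_zero_or_pos (s % e) with h0 | h0
      · exfalso
        obtain ⟨k, hk⟩ := Nat.dvd_of_mod_eq_zero h0
        have hk0 : k ≠ 0 := by rintro rfl; simp at hk; exact hs0 hk
        have := hs' (k * e) (hke k) (Nat.mul_ne_zero (by omega) he0) (by rw [hk, mul_comm])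
        apply this
        rw [hk, mul_comm, Nat.sub_self]
        exact hS0
      · exact h0
    · rintro a ⟨ha, _, ha'⟩ b ⟨hb, _, hb'⟩ hab
      simp only at hab
      by_contra hne
      rcases lt_or_gt_of_ne hne with hlt | hlt
      · obtain ⟨k, hk1, hk⟩ := exists_mul_of_mod_eq hlt hab
        apply hb' (k * e) (hke k) (Nat.mul_ne_zero (by omega) he0) (by omega)
        have : b - k * e = a := by omega
        rw [this]; exact ha
      · obtain ⟨k, hk1, hk⟩ := exists_mul_of_mod_eq hlt hab.symm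
        apply ha' (k * e) (hke k) (Nat.mul_ne_zero (by omega) he0) (by omega)
        have : a - k * e = b := by omega
        rw [this]; exact hb

end Groth.Agent.S15019
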