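import Groth.Statements.S15023
import Mathlib
import Groth.Agent.Lib.Helper98.TorsionFreeEmbed
import Groth.Agent.Lib.Helper98.MonomialCurveLattice

set_option autoImplicit false
universe u
open TFCurv

namespace Groth.Agent.S15023

/-- Let k be an algebraically closed field and A ≠ k[[t]] a k-subalgebra of k[[t]] that is closed in the
t-adic topology, over which k[[t]] is a finite module, and such that every power series is carried
into A by multiplication with some nonzero element of A (so k[[t]] lies in the fraction field of A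
and is its normalisation, as for the complete local ring of a unibranch curve singularity), and let
Γ ⊆ ℕ be the set of t-orders of the nonzero elements of A (its value semigroup); assume moreover
that A is the monomial ring of Γ (a power series lies in A exactly when all its exponents lie in Γ),
and let δ be the number of gaps of Γ. Then every finitely generated torsion-free A-module of rank
one is isomorphic to an A-submodule M' of k[[t]] with t^{2δ} k[[t]] ⊆ M' and dim_k(k[[t]]/M') = δ,
equivalently dim_k(M'/t^{2δ}k[[t]]) = δ: every isomorphism class of rank-one torsion-free modules is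
represented by a δ-dimensional A-stable subspace of k[[t]]/t^{2δ}k[[t]]. -/
theorem result (k : Type u) [Field k] [IsAlgClosed k] (A : Subalgebra k (PowerSeries k)) (hA : Module.Finite ↥A (PowerSeries k)) (hcl : ∀ f : PowerSeries k, (∀ n : ℕ, ∃ g ∈ A, (n : ℕ∞) ≤ PowerSeries.order (f - g)) → f ∈ A) (hsing : A ≠ ⊤) (hbir : ∀ f : PowerSeries k, ∃ a ∈ A, a ≠ 0 ∧ a * f ∈ A) (Γ : Set ℕ) (hΓ : ∀ n : ℕ, n ∈ Γ ↔ ∃ f ∈ A, PowerSeries.order f = n) (hmono : ∀ f : PowerSeries k, f ∈ A ↔ ∀ n : ℕ, PowerSeries.coeff n f ≠ 0 → n ∈ Γ) (M : Type u) [AddCommGroup M] [Module ↥A M] [Module.Finite ↥A M] [NoZeroSMulDivisors ↥A M] (hrk : Module.finrank (FractionRing ↥A) (TensorProduct ↥A (FractionRing ↥A) M) = 1) : ∃ M' : Submodule ↥A (PowerSeries k), (Ideal.span {(PowerSeries.X : PowerSeries k) ^ (2 * Γᶜ.ncard)}).restrictScalars ↥A ≤ M' ∧ Nonempty (M ≃ₗ[↥A] ↥M') ∧ Module.finrank k (PowerSeries k ⧸ M'.restrictScalars k) = Γᶜ.ncard := by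
  classical
  obtain ⟨f, hf⟩ :=
    Groth.Agent.Lib.Helper98.exists_injective_to_pi ↥A (FractionRing ↥A) M 1 hrk
  let g : M →ₗ[↥A] PowerSeries k :=
    (Algebra.linearMap ↥A (PowerSeries k)).comp ((LinearMap.proj (0 : Fin 1)).comp f)
  have hg : Function.Injective g := by
    intro x y h
    apply hf
    funext i
    have hi : i = 0 := Subsingleton.elim _ _
    rw [hi]
    exact Subtype.val_injective h
  have hM : Nontrivial M := by
    by_contra hnt
    rw [not_nontrivial_iff_subsingleton] at hnt
    have h0 := Module.finrank_zero_of_subsingleton (R := FractionRing ↥A)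
      (M := TensorProduct ↥A (FractionRing ↥A) M)
    omega
  have hJ : LinearMap.range g ≠ ⊥ := by
    obtain ⟨m, hm⟩ := exists_ne (0 : M)
    intro h
    have hmem : g m ∈ LinearMap.range g := ⟨m, rfl⟩
    rw [h, Submodule.mem_bot] at hmem
    exact hm (hg (by rw [hmem, map_zero]))
  obtain ⟨M', h1, ⟨e⟩, h3⟩ :=
    Groth.Agent.Lib.Helper98.exists_lattice A hA hbir Γ hΓ (LinearMap.range g) hJ
  exact ⟨M', h1, ⟨(LinearEquiv.ofInjective g hg).trans e⟩, h3⟩

end Groth.Agent.S15023
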