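import Groth.Statements.S15029

set_option autoImplicit false
open TFCurv

namespace Groth.Agent.S15029

theorem result (Γ : AddSubmonoid ℕ) (c : ℕ) (hc : ∀ n : ℕ, c ≤ n → n ∈ Γ) (hc0 : c ≠ 0) (hc1 : c - 1 ∉ Γ) (S : Set ℕ) (hS0 : (0 : ℕ) ∈ S) (hS : ∀ γ : ℕ, γ ∈ Γ → ∀ s : ℕ, s ∈ S → γ + s ∈ S) : (S ≠ Set.univ → ∃ n : ℕ, n ∉ S ∧ ∀ γ : ℕ, γ ∈ Γ → γ ≠ 0 → n + γ ∈ S) ∧ ((↑Γ : Set ℕ) ≠ S → ∃ s : ℕ, s ∈ S ∧ s ∉ Γ ∧ ∀ γ : ℕ, γ ∈ Γ → γ ≠ 0 → γ ≤ s → s - γ ∉ S) := by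
  classical
  have hΓS : ∀ γ ∈ Γ, γ ∈ S := fun γ hγ => by simpa using hS γ hγ 0 hS0
  constructor
  · intro hne
    have hex : ∃ n, n ∉ S := by
      by_contra h
      push_neg at h
      exact hne (Set.eq_univ_of_forall h)
    -- the largest gap
    have hbound : ∀ n, n ∉ S → n ≤ c := fun n hn => by
      by_contra h
      exact hn (hΓS n (hc n (by omega)))
    let n := Nat.findGreatest (fun n => n ∉ S) c
    obtain ⟨m, hm⟩ := hex
    have hn : n ∉ S := Nat.findGreatest_spec (P := fun n => n ∉ S) (hbound m hm) hm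
    refine ⟨n, hn, ?_⟩
    intro γ _ hγ0
    by_contra h
    have h1 : n + γ ≤ n := Nat.le_findGreatest (hbound _ h) h
    omega
  · intro hne
    have hex : ∃ s, s ∈ S ∧ s ∉ Γ := by
      by_contra h
      push_neg at h
      exact hne (Set.Subset.antisymm (fun γ hγ => hΓS γ hγ) (fun s hs => h s hs))
    refine ⟨Nat.find hex, (Nat.find_spec hex).1, (Nat.find_spec hex).2, ?_⟩
    intro γ hγ hγ0 hle hmem
    have hlt : Nat.find hex - γ < Nat.find hex := by omega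
    have := Nat.find_min hex hlt
    have h1 : Nat.find hex - γ ∈ Γ := by
      by_contra h
      exact this ⟨hmem, h⟩
    have h2 := Γ.add_mem h1 hγ
    have e : Nat.find hex - γ + γ = Nat.find hex := by omega
    rw [e] at h2
    exact (Nat.find_spec hex).2 h2

end Groth.Agent.S15029
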