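import Groth.Statements.S15030
import Groth.Agent.Lib.Helper75.MonoExt

set_option autoImplicit false
universe u
open CategoryTheory
open TFCurv

namespace Groth.Agent.S15030

/-- Let k be an algebraically closed field of characteristic zero, δ ≥ 1, and A ⊂ k[[t]] the complete
local ring of the A_{2δ} singularity, i.e. the k-subalgebra of power series all of whose exponents
lie in the semigroup generated by 2 and 2δ + 1 (so A = k[[t², t^{2δ+1}]]). For 0 ≤ i ≤ δ let M_i ⊂
k[[t]] be the A-submodule generated by 1 and t^{2δ+1−2i} (these represent all rank-one torsion-free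
A-modules). Then for 0 ≤ i, j ≤ δ the A-module Ext¹_A(M_i, M_j) has length 2·min(i, j) (length over
A equals k-dimension here). (The published statement also covers the two-branch case n = 2δ − 1 with
the same value; only the one-branch case is stated.) -/
theorem result (k : Type u) [Field k] [IsAlgClosed k] [CharZero k] (δ : ℕ) (hδ : 1 ≤ δ) (A : Subalgebra k (PowerSeries k)) (hmono : ∀ f : PowerSeries k, f ∈ A ↔ ∀ n : ℕ, PowerSeries.coeff n f ≠ 0 → n ∈ AddSubmonoid.closure ({2, 2 * δ + 1} : Set ℕ)) (i j : ℕ) (hi : i ≤ δ) (hj : j ≤ δ) : Module.length ↥A (Abelian.Ext (ModuleCat.of ↥A ↥(Submodule.span ↥A ({1, (PowerSeries.X : PowerSeries k) ^ (2 * δ + 1 - 2 * i)} : Set (PowerSeries k)))) (ModuleCat.of ↥A ↥(Submodule.span ↥A ({1, (PowerSeries.X : PowerSeries k) ^ (2 * δ + 1 - 2 * j)} : Set (PowerSeries k)))) 1) = ((2 * min i j : ℕ) : ℕ∞) := by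
  classical
  open Groth.Agent.Lib.Helper75 Groth.Agent.Lib.Helper75.MonoSeries
    Groth.Agent.Lib.Helper75.MonoExt in
  have main : Module.length ↥A (Abelian.Ext (ModuleCat.of ↥A ↥(Submodule.span ↥A ({1, (PowerSeries.X : PowerSeries k) ^ (2 * δ + 1 - 2 * i)} : Set (PowerSeries k)))) (ModuleCat.of ↥A ↥(Submodule.span ↥A ({1, (PowerSeries.X : PowerSeries k) ^ (2 * δ + 1 - 2 * j)} : Set (PowerSeries k)))) 1) = ((2 * min i j : ℕ) : ℕ∞) := by
    let Γ : Set ℕ := {m | m % 2 = 0 ∨ 2 * δ + 1 ≤ m}
    have hΓeq : ∀ m : ℕ, m ∈ AddSubmonoid.closure ({2, 2 * δ + 1} : Set ℕ) ↔ m ∈ Γ := by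
      intro m
      constructor
      · intro hm
        induction hm using AddSubmonoid.closure_induction with
        | mem x hx =>
          rcases hx with rfl | rfl
          · left; rfl
          · right; exact le_rfl
        | zero => left; rfl
        | add x y _ _ hx hy =>
          rcases hx with hx | hx
          · rcases hy with hy | hy
            · left; omega
            · right; omega
          · right; omega
      · intro hm
        have h2 : (2 : ℕ) ∈ AddSubmonoid.closure ({2, 2 * δ + 1} : Set ℕ) :=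
          AddSubmonoid.subset_closure (by simp)
        have h3 : (2 * δ + 1 : ℕ) ∈ AddSubmonoid.closure ({2, 2 * δ + 1} : Set ℕ) :=
          AddSubmonoid.subset_closure (by simp)
        have heven : ∀ q : ℕ, 2 * q ∈ AddSubmonoid.closure ({2, 2 * δ + 1} : Set ℕ) := by
          intro q
          have := AddSubmonoid.nsmul_mem _ h2 q
          rw [smul_eq_mul] at this
          have e : 2 * q = q * 2 := Nat.mul_comm 2 q
          rw [e]; exact this
        by_cases hpar : m % 2 = 0
        · have : m = 2 * (m / 2) := by omega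
          rw [this]; exact heven _
        · have hge : 2 * δ + 1 ≤ m := by
            rcases hm with h | h
            · exact absurd h hpar
            · exact h
          have : m = (2 * δ + 1) + 2 * ((m - (2 * δ + 1)) / 2) := by omega
          rw [this]
          exact AddSubmonoid.add_mem _ h3 (heven _)
    have hA : ∀ f, f ∈ A ↔ Supp f Γ := by
      intro f
      rw [hmono]
      constructor
      · intro h m hm; exact (hΓeq m).mp (h m hm)
      · intro h m hm; exact (hΓeq m).mpr (h m hm)
    have hΓadd : ∀ γ ∈ Γ, ∀ e ∈ Γ, γ + e ∈ Γ := Γ_add A hA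
    -- the modules
    have hspan : ∀ j : ℕ, j ≤ δ → ∀ hEN : (∀ γ ∈ Γ, ∀ e ∈ {e : ℕ | e % 2 = 0 ∨ 2 * δ + 1 - 2 * j ≤ e},
        γ + e ∈ {e : ℕ | e % 2 = 0 ∨ 2 * δ + 1 - 2 * j ≤ e}),
        Submodule.span ↥A ({1, (PowerSeries.X : PowerSeries k) ^ (2 * δ + 1 - 2 * j)} : Set (PowerSeries k)) =
        monoMod A hA {e : ℕ | e % 2 = 0 ∨ 2 * δ + 1 - 2 * j ≤ e} hEN := by
      intro j hj hEN
      have himg : ({1, (PowerSeries.X : PowerSeries k) ^ (2 * δ + 1 - 2 * j)} : Set (PowerSeries k)) =
          (fun s : ℕ => (PowerSeries.X : PowerSeries k) ^ s) '' {0, 2 * δ + 1 - 2 * j} := by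
        rw [Set.image_pair, pow_zero]
      have hE' : ∀ γ ∈ Γ, ∀ e ∈ {e | ∃ s ∈ ({0, 2 * δ + 1 - 2 * j} : Set ℕ), ∃ γ ∈ Γ, e = γ + s},
          γ + e ∈ {e | ∃ s ∈ ({0, 2 * δ + 1 - 2 * j} : Set ℕ), ∃ γ ∈ Γ, e = γ + s} := by
        rintro γ hγ e ⟨s, hs, γ', hγ', rfl⟩
        exact ⟨s, hs, γ + γ', hΓadd γ hγ γ' hγ', by ring⟩
      rw [himg, span_monomials A hA _ (Set.toFinite _) hE']
      have hset : {e | ∃ s ∈ ({0, 2 * δ + 1 - 2 * j} : Set ℕ), ∃ γ ∈ Γ, e = γ + s} =
          {e : ℕ | e % 2 = 0 ∨ 2 * δ + 1 - 2 * j ≤ e} := by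
        ext e
        constructor
        · rintro ⟨s, (rfl | rfl), γ, (hγ | hγ), rfl⟩
          · left; omega
          · right; omega
          · right; omega
          · right; omega
        · rintro (he | he)
          · exact ⟨0, by simp, e, Or.inl he, by simp⟩
          · by_cases hpar : e % 2 = 0
            · exact ⟨0, by simp, e, Or.inl hpar, by simp⟩
            · exact ⟨2 * δ + 1 - 2 * j, by simp, e - (2 * δ + 1 - 2 * j), Or.inl (by omega), by omega⟩
      congr 1
    let EN : Set ℕ := {e : ℕ | e % 2 = 0 ∨ 2 * δ + 1 - 2 * j ≤ e}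
    have hEN : ∀ γ ∈ Γ, ∀ e ∈ EN, γ + e ∈ EN := by
      rintro γ (hγ | hγ) e (he | he)
      · left; omega
      · right; omega
      · right; omega
      · right; omega
    have key := monoMain1 A hA (2 * δ) (fun e he => by
      by_cases hpar : e % 2 = 0
      · exact Or.inl hpar
      · exact Or.inr (by omega)) EN hEN (2 * δ + 1 - 2 * i) (2 * δ + 1) (fun e he => Or.inr (by omega))
    rw [hspan j hj hEN]
    rw [enat_eq_sub key]
    -- counting
    have h1 : EH1 Γ (2 * δ) (2 * δ + 1 - 2 * i) EN \ shift (2 * δ) EN =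
        (fun m => 2 * m) '' Set.Ico (δ - min i j) δ ∪
          (fun m => 2 * m + 1) '' Set.Ico (2 * δ - j - i) (2 * δ - j) := by
      ext e
      simp only [EH1, EJ, shift, EN, Γ, Set.mem_sdiff, Set.mem_ofPred_eq, Set.mem_union, Set.mem_image,
        Set.mem_Ico]
      constructor
      · rintro ⟨⟨h1, h2⟩, h3⟩
        have hw1 := h2 (2 * i) ⟨Or.inl (by omega), Or.inr (by omega)⟩
        have hw2 := h2 (2 * δ + 1) ⟨Or.inr le_rfl, Or.inl (by omega)⟩
        by_cases hpar : e % 2 = 0
        · left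
          refine ⟨e / 2, ?_, by omega⟩
          omega
        · right
          refine ⟨e / 2, ?_, by omega⟩
          omega
      · rintro (⟨m, hm, rfl⟩ | ⟨m, hm, rfl⟩)
        · refine ⟨⟨Or.inl (by omega), ?_⟩, by omega⟩
          rintro w ⟨hw1, hw2⟩
          omega
        · refine ⟨⟨Or.inr (by omega), ?_⟩, by omega⟩
          rintro w ⟨hw1, hw2⟩
          omega
    have h2 : EN \ {e | e ∈ EN ∧ 2 * δ + 1 - 2 * i + e ∈ EN} =
        (fun m => 2 * m) '' Set.Ico 0 (i - min i j) := by
      ext e
      simp only [EN, Set.mem_sdiff, Set.mem_ofPred_eq, Set.mem_image, Set.mem_Ico]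
      constructor
      · rintro ⟨h1, h2⟩
        refine ⟨e / 2, ?_, ?_⟩ <;> omega
      · rintro ⟨m, hm, rfl⟩
        omega
    have hinj2 : Function.Injective (fun m : ℕ => 2 * m) := fun x y h => by
      simp only at h; omega
    have hinj3 : Function.Injective (fun m : ℕ => 2 * m + 1) := fun x y h => by
      simp only at h; omega
    have hdisj : Disjoint ((fun m => 2 * m) '' Set.Ico (δ - min i j) δ)
        ((fun m => 2 * m + 1) '' Set.Ico (2 * δ - j - i) (2 * δ - j)) := by
      rw [Set.disjoint_left]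
      rintro e ⟨m, _, rfl⟩ ⟨m', _, h⟩
      simp only at h
      omega
    rw [h1, h2, Set.ncard_union_eq hdisj ((Set.finite_Ico _ _).image _) ((Set.finite_Ico _ _).image _),
      Set.ncard_image_of_injective _ hinj2, Set.ncard_image_of_injective _ hinj3,
      Set.ncard_image_of_injective _ hinj2, ncard_Ico, ncard_Ico, ncard_Ico]
    congr 1
    omega
  exact main

end Groth.Agent.S15030
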