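import Groth.Statements.S15031
import Groth.Agent.Lib.Helper75.MonoExt

set_option autoImplicit false
universe u
open CategoryTheory
open TFCurv

namespace Groth.Agent.S15031

/-- Let k be an algebraically closed field, n ≥ 2, and A = R_n ⊂ k[[t]] the monomial ring of the cubical
semigroup ⟨n, n+1, …, 2n−1⟩, i.e. the k-subalgebra of power series with no terms of degree 1, …,
n−1. For 0 ≤ i ≤ n − 2 let M_i ⊂ k[[t]] be the A-submodule generated by 1, t, …, t^i (the monomial
module whose value set is Γ_n together with 1, …, i). Then the A-module Ext¹_A(M_i, M_i) has length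
i·(n − 2 − i); as the A-endomorphisms of M_i are the scalars, this number is the invariant χ₁(M_i) =
dim Ext¹(M_i, M_i) − dim(End(M_i)/A). (The published statement asserts the value for every module
with this value set; only the monomial module is stated here.) -/
theorem result (k : Type u) [Field k] [IsAlgClosed k] (n : ℕ) (hn : 2 ≤ n) (A : Subalgebra k (PowerSeries k)) (hmono : ∀ f : PowerSeries k, f ∈ A ↔ ∀ m : ℕ, PowerSeries.coeff m f ≠ 0 → (m = 0 ∨ n ≤ m)) (i : ℕ) (hi : i + 2 ≤ n) : Module.length ↥A (Abelian.Ext (ModuleCat.of ↥A ↥(Submodule.span ↥A ((fun a : ℕ => (PowerSeries.X : PowerSeries k) ^ a) '' Set.Iic i))) (ModuleCat.of ↥A ↥(Submodule.span ↥A ((fun a : ℕ => (PowerSeries.X : PowerSeries k) ^ a) '' Set.Iic i))) 1) = ((i * (n - 2 - i) : ℕ) : ℕ∞) := by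
  classical
  open Groth.Agent.Lib.Helper75 Groth.Agent.Lib.Helper75.MonoSeries
    Groth.Agent.Lib.Helper75.MonoExt in
  have main : Module.length ↥A (Abelian.Ext (ModuleCat.of ↥A ↥(Submodule.span ↥A ((fun a : ℕ => (PowerSeries.X : PowerSeries k) ^ a) '' Set.Iic i))) (ModuleCat.of ↥A ↥(Submodule.span ↥A ((fun a : ℕ => (PowerSeries.X : PowerSeries k) ^ a) '' Set.Iic i))) 1) = ((i * (n - 2 - i) : ℕ) : ℕ∞) := by
    let Γ : Set ℕ := {m | m = 0 ∨ n ≤ m}
    have hA : ∀ f, f ∈ A ↔ Supp f Γ := hmono
    let EN : Set ℕ := {e | e ≤ i ∨ n ≤ e}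
    have hEN : ∀ γ ∈ Γ, ∀ e ∈ EN, γ + e ∈ EN := by
      rintro γ (rfl | hγ) e he
      · simpa using he
      · right; omega
    -- the span is the monomial module
    have hspanN : Submodule.span ↥A ((fun a : ℕ => (PowerSeries.X : PowerSeries k) ^ a) '' Set.Iic i) =
        monoMod A hA EN hEN := by
      have hE' : ∀ γ ∈ Γ, ∀ e ∈ {e | ∃ s ∈ Set.Iic i, ∃ γ ∈ Γ, e = γ + s},
          γ + e ∈ {e | ∃ s ∈ Set.Iic i, ∃ γ ∈ Γ, e = γ + s} := by
        rintro γ hγ e ⟨s, hs, γ', hγ', rfl⟩
        exact ⟨s, hs, γ + γ', Γ_add A hA γ hγ γ' hγ', by ring⟩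
      rw [span_monomials A hA (Set.Iic i) (Set.finite_Iic i) hE']
      have hset : {e | ∃ s ∈ Set.Iic i, ∃ γ ∈ Γ, e = γ + s} = EN := by
        ext e
        constructor
        · rintro ⟨s, hs, γ, (rfl | hγ), rfl⟩
          · left; simpa using hs
          · right; omega
        · rintro (he | he)
          · exact ⟨e, he, 0, Or.inl rfl, by simp⟩
          · exact ⟨0, by simp, e, Or.inr he, by simp⟩
      congr 1
    -- the generators
    let a : Fin i → ℕ := fun j => (j : ℕ) + 1
    have hspanM : (fun a : ℕ => (PowerSeries.X : PowerSeries k) ^ a) '' Set.Iic i =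
        insert (1 : PowerSeries k) (Set.range fun j => (PowerSeries.X : PowerSeries k) ^ (a j)) := by
      ext f
      constructor
      · rintro ⟨s, hs, rfl⟩
        rcases Nat.eq_zero_or_pos s with rfl | hpos
        · left; simp
        · right
          refine ⟨⟨s - 1, ?_⟩, ?_⟩
          · simp only [Set.mem_Iic] at hs; omega
          · simp only [a]
            congr 1
            omega
      · rintro (rfl | ⟨j, rfl⟩)
        · exact ⟨0, by simp, by simp⟩
        · exact ⟨a j, by simp only [a, Set.mem_Iic]; omega, rfl⟩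
    have key := monoMainRn A hA a EN hEN n (fun e => Iff.rfl)
      (fun j j' h => by simp only [a] at h; exact Fin.ext (by omega))
      (fun j => by simp [a]) (fun j => by simp only [a]; omega) n (fun e he => Or.inr he)
    rw [← hspanM, ← hspanN] at key
    rw [enat_eq_sub key]
    -- counting
    have h1 : ENo EN \ shift n EN = Set.Ioo (n + i) (2 * n) := by
      ext e
      simp only [ENo, shift, EN, Set.mem_sdiff, Set.mem_ofPred_eq, Set.mem_univ, forall_true_left,
        Set.mem_Ioo]
      constructor
      · rintro ⟨h1, h2⟩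
        have hne : n ≤ e := by
          by_contra hlt
          have := h1 (n - 1 - e)
          omega
        omega
      · rintro ⟨h1, h2⟩
        refine ⟨fun w => Or.inr (by omega), by omega⟩
    have h2 : EN \ EN' a EN = Set.Icc 1 i := by
      ext e
      simp only [EN', EN, Set.mem_sdiff, Set.mem_ofPred_eq, Set.mem_Icc, a]
      constructor
      · rintro ⟨h1, h2⟩
        by_contra hcon
        apply h2
        refine ⟨h1, fun j => ?_⟩
        have := j.2
        omega
      · rintro ⟨h1, h2⟩
        refine ⟨Or.inl h2, ?_⟩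
        rintro ⟨_, h3⟩
        have := h3 ⟨i - e, by omega⟩
        simp only at this
        omega
    rw [h1, h2, ncard_Ioo, ncard_Icc]
    congr 1
    have h3 : 2 * n - (n + i) - 1 = (n - 2 - i) + 1 := by omega
    rw [h3, mul_add, mul_one]
    omega
  exact main

end Groth.Agent.S15031
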