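import Groth.Statements.S15032
import Groth.Agent.Lib.Helper75.MonoExt
import Groth.Agent.Lib.Helper75.EndQuot

set_option autoImplicit false
universe u
open CategoryTheory
open TFCurv

namespace Groth.Agent.S15032

/-- Let k be an algebraically closed field, n ≥ 2, and A = R_n ⊂ k[[t]] the monomial ring of the cubical
semigroup ⟨n, n+1, …, 2n−1⟩, i.e. the k-subalgebra of power series with no terms of degree 1, …,
n−1. For the normalisation R~ = k[[t]] viewed as an A-module, χ₁(R~) = (n − 1)², where χ₁(M) = dim_k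
Ext¹_A(M, M) − dim_k(End_A(M)/A): the length of the A-module Ext¹_A(k[[t]], k[[t]]) equals (n − 1)²
plus the length of the A-linear endomorphisms of k[[t]] modulo multiplications by elements of A. -/
theorem result (k : Type u) [Field k] [IsAlgClosed k] (n : ℕ) (hn : 2 ≤ n) (A : Subalgebra k (PowerSeries k)) (hmono : ∀ f : PowerSeries k, f ∈ A ↔ ∀ m : ℕ, PowerSeries.coeff m f ≠ 0 → (m = 0 ∨ n ≤ m)) : Module.length ↥A (Abelian.Ext (ModuleCat.of ↥A (PowerSeries k)) (ModuleCat.of ↥A (PowerSeries k)) 1) = (((n - 1) ^ 2 : ℕ) : ℕ∞) + Module.length ↥A ((PowerSeries k →ₗ[↥A] PowerSeries k) ⧸ LinearMap.range (Algebra.lsmul ↥A ↥A (PowerSeries k) : ↥A →ₐ[↥A] Module.End ↥A (PowerSeries k)).toLinearMap) := by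
  classical
  open Groth.Agent.Lib.Helper75 Groth.Agent.Lib.Helper75.MonoSeries
    Groth.Agent.Lib.Helper75.MonoExt in
  have main : Module.length ↥A (Abelian.Ext (ModuleCat.of ↥A (PowerSeries k)) (ModuleCat.of ↥A (PowerSeries k)) 1) = (((n - 1) ^ 2 : ℕ) : ℕ∞) + Module.length ↥A ((PowerSeries k →ₗ[↥A] PowerSeries k) ⧸ LinearMap.range (Algebra.lsmul ↥A ↥A (PowerSeries k) : ↥A →ₐ[↥A] Module.End ↥A (PowerSeries k)).toLinearMap) := by
    let Γ : Set ℕ := {m | m = 0 ∨ n ≤ m}
    have hA : ∀ f, f ∈ A ↔ Supp f Γ := hmono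
    have hΓ : ∀ γ ∈ Γ, ∀ e ∈ Γ, γ + e ∈ Γ := Γ_add A hA
    let EN : Set ℕ := Set.univ
    have hEN : ∀ γ ∈ Γ, ∀ e ∈ EN, γ + e ∈ EN := fun _ _ _ _ => Set.mem_univ _
    have hNtop : monoMod A hA EN hEN = ⊤ := by
      ext f
      simp only [mem_monoMod, Submodule.mem_top, iff_true]
      intro m _
      exact Set.mem_univ _
    let a : Fin (n - 1) → ℕ := fun j => (j : ℕ) + 1
    -- the span of 1, X, ..., X^(n-1) is everything
    have hMtop : Submodule.span ↥A
        (insert (1 : PowerSeries k) (Set.range fun j => (PowerSeries.X : PowerSeries k) ^ (a j))) = ⊤ := by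
      have hspanM : (fun a : ℕ => (PowerSeries.X : PowerSeries k) ^ a) '' Set.Iic (n - 1) =
          insert (1 : PowerSeries k) (Set.range fun j => (PowerSeries.X : PowerSeries k) ^ (a j)) := by
        ext f
        constructor
        · rintro ⟨s, hs, rfl⟩
          rcases Nat.eq_zero_or_pos s with rfl | hpos
          · left; simp
          · right
            refine ⟨⟨s - 1, ?_⟩, ?_⟩
            · simp only [Set.mem_Iic] at hs; omega
            · simp only [a]
              congr 1
              omega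
        · rintro (rfl | ⟨j, rfl⟩)
          · exact ⟨0, by simp, by simp⟩
          · exact ⟨a j, by have := j.2; simp only [a, Set.mem_Iic]; omega, rfl⟩
      have hE' : ∀ γ ∈ Γ, ∀ e ∈ {e | ∃ s ∈ Set.Iic (n - 1), ∃ γ ∈ Γ, e = γ + s},
          γ + e ∈ {e | ∃ s ∈ Set.Iic (n - 1), ∃ γ ∈ Γ, e = γ + s} := by
        rintro γ hγ e ⟨s, hs, γ', hγ', rfl⟩
        exact ⟨s, hs, γ + γ', hΓ γ hγ γ' hγ', by ring⟩
      rw [← hspanM, span_monomials A hA (Set.Iic (n - 1)) (Set.finite_Iic _) hE', ← hNtop]
      have hset : {e | ∃ s ∈ Set.Iic (n - 1), ∃ γ ∈ Γ, e = γ + s} = EN := by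
        ext e
        simp only [EN, Set.mem_univ, iff_true]
        by_cases hen : n ≤ e
        · exact ⟨0, by simp, e, Or.inr hen, by simp⟩
        · exact ⟨e, by simp only [Set.mem_Iic]; omega, 0, Or.inl rfl, by simp⟩
      congr 1
    have key := monoMainRn A hA a EN hEN n (fun e => Iff.rfl)
      (fun j j' h => by simp only [a] at h; exact Fin.ext (by omega))
      (fun j => by simp [a]) (fun j => by have := j.2; simp only [a]; omega) 0
      (fun e _ => Set.mem_univ _)
    -- transport Ext
    obtain ⟨e1⟩ := ExtPres.ext_congr_left (ModuleCat.of ↥A ↥(monoMod A hA EN hEN))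
      (LinearEquiv.ofTop _ hMtop) 1
    obtain ⟨e2⟩ := ExtPres.ext_congr_right (ModuleCat.of ↥A (PowerSeries k))
      (LinearEquiv.ofTop _ hNtop) 1
    rw [e1.length_eq, e2.length_eq] at key
    rw [enat_eq_sub key]
    -- the right-hand side
    have hXn : (PowerSeries.X : PowerSeries k) ^ n ∈ A := by
      rw [hA, supp_X_pow]; exact Or.inr le_rfl
    obtain ⟨e3⟩ := EndQuot.end_quot_equiv (R := ↥A) (B := PowerSeries k)
      (A.val : ↥A →+* PowerSeries k) (fun _ _ => rfl) ⟨_, hXn⟩
      (fun b hb => by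
        have : (PowerSeries.X : PowerSeries k) ^ n * b = 0 := hb
        exact (mul_eq_zero.mp this).resolve_left (pow_ne_zero n PowerSeries.X_ne_zero))
      (fun b => hc_of A hA n (fun e he => Or.inr he) b)
    rw [e3.length_eq]
    have hrange : LinearMap.range (LinearMap.toSpanSingleton ↥A (PowerSeries k) 1) =
        monoMod A hA Γ hΓ := by
      ext f
      simp only [LinearMap.mem_range, LinearMap.toSpanSingleton_apply, mem_monoMod]
      rw [← hA]
      constructor
      · rintro ⟨y, rfl⟩
        have : y • (1 : PowerSeries k) = (y : PowerSeries k) := by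
          change (y : PowerSeries k) * 1 = _
          rw [mul_one]
        rw [this]; exact y.2
      · intro hf
        refine ⟨⟨f, hf⟩, ?_⟩
        change f * 1 = f
        rw [mul_one]
    rw [hrange]
    obtain ⟨e4⟩ := EndQuot.subQ_top_equiv (monoMod A hA EN hEN) (monoMod A hA Γ hΓ) hNtop
    have hfin : (EN \ Γ).Finite := by
      apply (Set.finite_lt_nat n).subset
      rintro e ⟨_, he⟩
      by_contra hlt
      simp only [Set.mem_ofPred_eq, not_lt] at hlt
      exact he (Or.inr hlt)
    rw [← e4.length_eq, length_quot A hA EN Γ hEN hΓ hfin]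
    -- counting
    have h1 : ENo EN \ shift n EN = Set.Ico 0 n := by
      ext e
      simp only [ENo, shift, EN, Set.mem_sdiff, Set.mem_ofPred_eq, Set.mem_univ, forall_true_left,
        Set.mem_Ico]
      constructor
      · rintro ⟨_, h2⟩
        rw [and_true] at h2
        omega
      · rintro ⟨_, h2⟩
        exact ⟨fun _ => trivial, by omega⟩
    have h2 : EN \ EN' a EN = ∅ := by
      ext e
      simp [EN', EN]
    have h3 : EN \ Γ = Set.Ioo 0 n := by
      ext e
      simp only [EN, Γ, Set.mem_sdiff, Set.mem_univ, true_and, Set.mem_ofPred_eq, Set.mem_Ioo]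
      omega
    rw [h1, h2, h3, ncard_Ico, ncard_Ioo, Set.ncard_empty]
    norm_cast
    have h4 : n = (n - 1) + 1 := by omega
    generalize n - 1 = m at h4
    subst h4
    simp only [Nat.sub_zero]
    ring
  exact main

end Groth.Agent.S15032
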