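import Groth.Statements.S15033
import Groth.Agent.Lib.Helper75.MonoExt

set_option autoImplicit false
universe u
open CategoryTheory
open TFCurv

namespace Groth.Agent.S15033

/-- Let k be an algebraically closed field, n ≥ 2, and A = R_n ⊂ k[[t]] the monomial ring of the cubical
semigroup ⟨n, n+1, …, 2n−1⟩, i.e. the k-subalgebra of power series with no terms of degree 1, …,
n−1. For 0 ≤ i < n − 1 let R_{n−i} ⊂ k[[t]] be the A-submodule generated by 1, t^{n−i}, t^{n−i+1},
…, t^{n−1}, i.e. the overring of A consisting of the power series with no terms of degree 1, …, n −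
i − 1. Then the A-module Ext¹_A(R_{n−i}, R_{n−i}) has length i·(n − 1). Since the A-endomorphisms of
R_{n−i} are the multiplications by elements of R_{n−i}, of colength i over A, this is the published
value χ₁(R_{n−i}) = i·(n − 2) of χ₁(M) = dim Ext¹(M, M) − dim(End(M)/A). -/
theorem result (k : Type u) [Field k] [IsAlgClosed k] (n : ℕ) (hn : 2 ≤ n) (A : Subalgebra k (PowerSeries k)) (hmono : ∀ f : PowerSeries k, f ∈ A ↔ ∀ m : ℕ, PowerSeries.coeff m f ≠ 0 → (m = 0 ∨ n ≤ m)) (i : ℕ) (hi : i + 2 ≤ n) : Module.length ↥A (Abelian.Ext (ModuleCat.of ↥A ↥(Submodule.span ↥A ((fun a : ℕ => (PowerSeries.X : PowerSeries k) ^ a) '' ({0} ∪ Set.Icc (n - i) (n - 1))))) (ModuleCat.of ↥A ↥(Submodule.span ↥A ((fun a : ℕ => (PowerSeries.X : PowerSeries k) ^ a) '' ({0} ∪ Set.Icc (n - i) (n - 1))))) 1) = ((i * (n - 1) : ℕ) : ℕ∞) := by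
  classical
  open Groth.Agent.Lib.Helper75 Groth.Agent.Lib.Helper75.MonoSeries
    Groth.Agent.Lib.Helper75.MonoExt in
  have main : Module.length ↥A (Abelian.Ext (ModuleCat.of ↥A ↥(Submodule.span ↥A ((fun a : ℕ => (PowerSeries.X : PowerSeries k) ^ a) '' ({0} ∪ Set.Icc (n - i) (n - 1))))) (ModuleCat.of ↥A ↥(Submodule.span ↥A ((fun a : ℕ => (PowerSeries.X : PowerSeries k) ^ a) '' ({0} ∪ Set.Icc (n - i) (n - 1))))) 1) = ((i * (n - 1) : ℕ) : ℕ∞) := by
    let Γ : Set ℕ := {m | m = 0 ∨ n ≤ m}
    have hA : ∀ f, f ∈ A ↔ Supp f Γ := hmono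
    let S : Set ℕ := {0} ∪ Set.Icc (n - i) (n - 1)
    have hSfin : S.Finite := (Set.finite_singleton 0).union (Set.finite_Icc _ _)
    let EN : Set ℕ := {e | e = 0 ∨ n - i ≤ e}
    have hEN : ∀ γ ∈ Γ, ∀ e ∈ EN, γ + e ∈ EN := by
      rintro γ (rfl | hγ) e he
      · simpa using he
      · right; omega
    -- the span is the monomial module
    have hspanN : Submodule.span ↥A ((fun a : ℕ => (PowerSeries.X : PowerSeries k) ^ a) '' S) =
        monoMod A hA EN hEN := by
      have hE' : ∀ γ ∈ Γ, ∀ e ∈ {e | ∃ s ∈ S, ∃ γ ∈ Γ, e = γ + s},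
          γ + e ∈ {e | ∃ s ∈ S, ∃ γ ∈ Γ, e = γ + s} := by
        rintro γ hγ e ⟨s, hs, γ', hγ', rfl⟩
        exact ⟨s, hs, γ + γ', Γ_add A hA γ hγ γ' hγ', by ring⟩
      rw [span_monomials A hA S hSfin hE']
      have hset : {e | ∃ s ∈ S, ∃ γ ∈ Γ, e = γ + s} = EN := by
        ext e
        constructor
        · rintro ⟨s, (hs | hs), γ, (rfl | hγ), rfl⟩
          · left
            have : s = 0 := hs
            omega
          · right; omega
          · right
            have := hs.1
            omega
          · right; omega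
        · rintro (he | he)
          · exact ⟨0, Or.inl rfl, 0, Or.inl rfl, by omega⟩
          · by_cases hen : n ≤ e
            · exact ⟨0, Or.inl rfl, e, Or.inr hen, by simp⟩
            · exact ⟨e, Or.inr ⟨he, by omega⟩, 0, Or.inl rfl, by simp⟩
      congr 1
    -- the generators
    let a : Fin i → ℕ := fun j => n - i + (j : ℕ)
    have hspanM : (fun a : ℕ => (PowerSeries.X : PowerSeries k) ^ a) '' S =
        insert (1 : PowerSeries k) (Set.range fun j => (PowerSeries.X : PowerSeries k) ^ (a j)) := by
      ext f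
      constructor
      · rintro ⟨s, (hs | hs), rfl⟩
        · left
          have : s = 0 := hs
          subst this
          simp
        · right
          refine ⟨⟨s - (n - i), ?_⟩, ?_⟩
          · have := hs.1; have := hs.2; omega
          · simp only [a]
            congr 1
            have := hs.1
            omega
      · rintro (rfl | ⟨j, rfl⟩)
        · exact ⟨0, Or.inl rfl, by simp⟩
        · refine ⟨a j, Or.inr ⟨?_, ?_⟩, rfl⟩
          · simp only [a]; omega
          · have := j.2
            simp only [a]; omega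
    have key := monoMainRn A hA a EN hEN n (fun e => Iff.rfl)
      (fun j j' h => by simp only [a] at h; exact Fin.ext (by omega))
      (fun j => by simp only [a]; omega) (fun j => by have := j.2; simp only [a]; omega) n
      (fun e he => Or.inr (by omega))
    rw [← hspanM, ← hspanN] at key
    rw [enat_eq_sub key]
    -- counting
    rcases Nat.eq_zero_or_pos i with hi0 | hipos
    · subst hi0; simp
    have h1 : ENo EN \ shift n EN = Set.Ico (n - i) (2 * n - i) \ {n} := by
      ext e
      simp only [ENo, shift, EN, Set.mem_sdiff, Set.mem_ofPred_eq, Set.mem_univ, forall_true_left,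
        Set.mem_Ico, Set.mem_singleton_iff]
      constructor
      · rintro ⟨h1, h2⟩
        have hne : n - i ≤ e := by
          by_contra hlt
          rcases Nat.eq_zero_or_pos e with rfl | hpos
          · have := h1 1
            omega
          · have := h1 0
            omega
        omega
      · rintro ⟨⟨h1, h2⟩, h3⟩
        refine ⟨fun w => Or.inr (by omega), by omega⟩
    have h2 : EN \ EN' a EN = ∅ := by
      ext e
      simp only [EN', EN, Set.mem_sdiff, Set.mem_ofPred_eq, a, Set.mem_empty_iff_false, iff_false]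
      rintro ⟨h1, h2⟩
      apply h2
      refine ⟨h1, fun j => Or.inr (by omega)⟩
    rw [h1, h2, Set.ncard_sdiff_singleton_of_mem (by simp only [Set.mem_Ico]; omega), ncard_Ico,
      Set.ncard_empty]
    have h3 : 2 * n - i - (n - i) - 1 = n - 1 := by omega
    rw [h3, Nat.sub_zero]
  exact main

end Groth.Agent.S15033
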