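import Groth.Statements.S15036
import Groth.Agent.H76.NthCount

set_option autoImplicit false
open TFCurv

namespace Groth.Agent.S15036

theorem result (Γ : AddSubmonoid ℕ) (c : ℕ) (hc : ∀ n : ℕ, c ≤ n → n ∈ Γ) (hc0 : c ≠ 0) (hc1 : c - 1 ∉ Γ) (S : Set ℕ) (hS0 : (0 : ℕ) ∈ S) (hS : ∀ γ : ℕ, γ ∈ Γ → ∀ s : ℕ, s ∈ S → γ + s ∈ S) (cS : ℕ) (hcS : ∀ n : ℕ, cS ≤ n → n ∈ S) (hcS0 : cS ≠ 0) (hcS1 : cS - 1 ∉ S) (s : ℕ) (hs : s ∉ S) (hs' : ∀ γ : ℕ, γ ∈ Γ → γ ≠ 0 → s + γ ∈ S) : (∀ i : ℕ, Nat.nth (fun m => m ∈ S) i ≤ Nat.nth (fun m => m ∈ insert s S) i + 1) ↔ s + 1 = cS := by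
  classical
  have hSinf : (Set.ofPred (fun m => m ∈ S)).Infinite := by
    refine Set.infinite_of_not_bddAbove ?_
    rintro ⟨B, hB⟩
    have := hB (hcS (max B cS + 1) (by omega))
    omega
  have hS'inf : (Set.ofPred (fun m => m ∈ insert s S)).Infinite :=
    hSinf.mono (fun x hx => Set.mem_insert_of_mem s hx)
  rw [Groth.Agent.H76.NthCount.forall_nth_le_nth_add_one_iff hSinf hS'inf]
  -- counting function of `insert s S`
  have hcount : ∀ x, Nat.count (fun m => m ∈ insert s S) x =
      Nat.count (fun m => m ∈ S) x + if s < x then 1 else 0 := by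
    intro x
    induction x with
    | zero => simp
    | succ x ih =>
      rw [Nat.count_succ, Nat.count_succ, ih]
      by_cases hxs : x = s
      · subst hxs
        simp [hs]
      · by_cases hxS : x ∈ S
        · have h1 : x ∈ insert s S := Set.mem_insert_of_mem s hxS
          by_cases hlt : s < x
          · have : s < x + 1 := by omega
            simp [h1, hxS, hlt, this]
          · have : ¬ s < x + 1 := by omega
            simp [h1, hxS, hlt, this]
        · have h1 : x ∉ insert s S := by
            rw [Set.mem_insert_iff]; push_neg; exact ⟨hxs, hxS⟩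
          by_cases hlt : s < x
          · have : s < x + 1 := by omega
            simp [h1, hxS, hlt, this]
          · have : ¬ s < x + 1 := by omega
            simp [h1, hxS, hlt, this]
  have hiff : ∀ b, (Nat.count (fun m => m ∈ insert s S) (b + 1) ≤ Nat.count (fun m => m ∈ S) (b + 2)) ↔
      (s ≤ b → b + 1 ∈ S) := by
    intro b
    rw [hcount, Nat.count_succ (fun m => m ∈ S) (b + 1)]
    by_cases h1 : s ≤ b <;> by_cases h2 : b + 1 ∈ S
    · have : s < b + 1 := by omega
      simp [h1, h2, this]
    · have : s < b + 1 := by omega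
      simp [h1, h2, this]
    · have : ¬ s < b + 1 := by omega
      simp [h1, h2, this]
    · have : ¬ s < b + 1 := by omega
      simp [h1, h2, this]
  simp_rw [hiff]
  constructor
  · intro h
    have hall : ∀ n, s + 1 ≤ n → n ∈ S := by
      intro n hn
      induction n with
      | zero => omega
      | succ n ih =>
        by_cases hns : n = s
        · subst hns
          exact h n (Set.mem_insert _ _) le_rfl
        · have hn' : s + 1 ≤ n := by omega
          exact h n (Set.mem_insert_of_mem s (ih hn')) (by omega)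
    have h1 : cS ≤ s + 1 := by
      by_contra hcon
      push_neg at hcon
      exact hcS1 (hall (cS - 1) (by omega))
    have h2 : s < cS := by
      by_contra hcon
      push_neg at hcon
      exact hs (hcS s hcon)
    omega
  · intro h b _ hsb
    exact hcS (b + 1) (by omega)

end Groth.Agent.S15036
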