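import Groth.Statements.S15037
import Groth.Agent.H76.NthConductor

set_option autoImplicit false
open TFCurv

namespace Groth.Agent.S15037

open Groth.Agent.H76.NthConductor in
theorem result (Γ : AddSubmonoid ℕ) (c : ℕ) (hc : ∀ n : ℕ, c ≤ n → n ∈ Γ) (hc0 : c ≠ 0) (hc1 : c - 1 ∉ Γ) (S : Set ℕ) (hS0 : (0 : ℕ) ∈ S) (hS : ∀ γ : ℕ, γ ∈ Γ → ∀ s : ℕ, s ∈ S → γ + s ∈ S) (cS : ℕ) (hcS : ∀ n : ℕ, cS ≤ n → n ∈ S) (hcS1 : cS = 0 ∨ cS - 1 ∉ S) (S' : Set ℕ) (hS'0 : (0 : ℕ) ∈ S') (hS' : ∀ γ : ℕ, γ ∈ Γ → ∀ s : ℕ, s ∈ S' → γ + s ∈ S') (cS' : ℕ) (hcS' : ∀ n : ℕ, cS' ≤ n → n ∈ S') (hcS'1 : cS' = 0 ∨ cS' - 1 ∉ S') : (∀ i : ℕ, Nat.nth (fun m => m ∈ S) i + S'ᶜ.ncard ≤ Nat.nth (fun m => m ∈ S') i + Sᶜ.ncard) ↔ ((S' ∩ Set.Iio cS').ncard ≤ (S ∩ Set.Iio cS).ncard ∧ ∀ i : ℕ, i < (S' ∩ Set.Iio cS').ncard → Nat.nth (fun m => m ∈ S) i + S'ᶜ.ncard ≤ Nat.nth (fun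 m => m ∈ S') i + Sᶜ.ncard) := by
  constructor
  · intro H
    refine ⟨?_, fun i _ => H i⟩
    by_contra hlt
    push_neg at hlt
    -- i = r' - 1
    have hr' : 0 < (S' ∩ Set.Iio cS').ncard := by omega
    have hcS'0 : cS' ≠ 0 := by
      rintro rfl
      have : (S' ∩ Set.Iio 0) = ∅ := by
        ext x; simp
      rw [this, Set.ncard_empty] at hr'
      exact lt_irrefl _ hr'
    have hcS'1' : cS' - 1 ∉ S' := hcS'1.resolve_left hcS'0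
    have h1 := nth_eq_add_ncard S cS hcS ((S' ∩ Set.Iio cS').ncard - 1) (by omega)
    have h2 := nth_lt_add_ncard S' cS' hcS' hcS'1' ((S' ∩ Set.Iio cS').ncard - 1) (by omega)
    have h3 := H ((S' ∩ Set.Iio cS').ncard - 1)
    omega
  · rintro ⟨_, H⟩ i
    by_cases hi : i < (S' ∩ Set.Iio cS').ncard
    · exact H i hi
    · push_neg at hi
      have h1 := nth_eq_add_ncard S' cS' hcS' i hi
      have h2 := nth_le_add_ncard S cS hcS i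
      omega

end Groth.Agent.S15037
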