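import Groth.Statements.S15038
import Mathlib.Data.Nat.ModEq
import Mathlib.Order.Interval.Finset.Nat

set_option autoImplicit false
open TFCurv

namespace Groth.Agent.S15038

/-- If `a < b`, `a % e = b % e`, then `b = a + k * e` with `k ≥ 1`. -/
theorem exists_mul_of_mod_eq {e a b : ℕ} (hab : a < b) (h : a % e = b % e) :
    ∃ k, 1 ≤ k ∧ b = a + k * e := by
  have h1 : e ∣ b - a := (Nat.modEq_iff_dvd' hab.le).mp h
  obtain ⟨k, hk⟩ := h1
  refine ⟨k, ?_, ?_⟩
  · rcases Nat.eq_zero_or_pos k with h0 | h0
    · subst h0; omega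
    · exact h0
  · rw [mul_comm] at hk; omega

theorem result (Γ : AddSubmonoid ℕ) (c : ℕ) (hc : ∀ n : ℕ, c ≤ n → n ∈ Γ) (hc0 : c ≠ 0) (hc1 : c - 1 ∉ Γ) (hsymm : ∀ x : ℕ, x < c → (x ∉ Γ ↔ c - 1 - x ∈ Γ)) (e : ℕ) (he : e ∈ Γ) (he0 : e ≠ 0) (hemin : ∀ γ : ℕ, γ ∈ Γ → γ ≠ 0 → e ≤ γ) (he2 : 2 < e) : ∃ G : Finset ℕ, G.card ≤ e - 1 ∧ AddSubmonoid.closure (↑G : Set ℕ) = Γ := by
  classical
  have hgap : ∀ n, n ∉ Γ → n < c := fun n hn => by
    by_contra h; exact hn (hc n (not_lt.mp h))
  have hke : ∀ k : ℕ, k * e ∈ Γ := fun k => by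
    have := Γ.nsmul_mem he k
    simpa [smul_eq_mul] using this
  -- Apéry-type reduction
  have apery : ∀ m : ℕ, m ∈ Γ → ¬ e ∣ m → ∃ a ∈ Γ, a ≤ m ∧ e < a ∧ a - e ∉ Γ := by
    intro m
    induction m using Nat.strong_induction_on with
    | _ m ih =>
      intro hm hdiv
      have hm0 : m ≠ 0 := by rintro rfl; exact hdiv (dvd_zero e)
      have hem : e ≤ m := hemin m hm hm0
      have hem' : e ≠ m := by rintro rfl; exact hdiv dvd_rfl
      by_cases hme : m - e ∈ Γ
      · have hdiv' : ¬ e ∣ m - e := by
          intro h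
          apply hdiv
          have := (Nat.dvd_sub_iff_left hem dvd_rfl).mp h
          exact this
        obtain ⟨a, ha, ham, hea, hae⟩ := ih (m - e) (by omega) hme hdiv'
        exact ⟨a, ha, by omega, hea, hae⟩
      · exact ⟨m, hm, le_rfl, by omega, hme⟩
  -- the Apéry predicate
  let Ap : ℕ → Prop := fun n => n ∈ Γ ∧ n ≠ 0 ∧ n - e ∉ Γ
  have hAp_mod : ∀ n, Ap n → n % e ≠ 0 := by
    rintro n ⟨hn, hn0, hne⟩ h0
    obtain ⟨k, hk⟩ := Nat.dvd_of_mod_eq_zero h0
    have hk0 : k ≠ 0 := by rintro rfl; simp at hk; exact hn0 hk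
    apply hne
    have : n - e = (k - 1) * e := by
      rw [hk, Nat.sub_mul, one_mul, mul_comm]
    rw [this]; exact hke _
  have hAp_inj : ∀ a b, Ap a → Ap b → a % e = b % e → a = b := by
    have aux : ∀ a b, Ap a → Ap b → a % e = b % e → a < b → False := by
      rintro a b ⟨ha, ha0, hae⟩ ⟨hb, hb0, hbe⟩ hab hlt
      obtain ⟨k, hk1, hk⟩ := exists_mul_of_mod_eq hlt hab
      apply hbe
      have : b - e = a + (k - 1) * e := by
        rw [hk, Nat.sub_mul, one_mul]
        have : e ≤ k * e := Nat.le_mul_of_pos_left e (by omega)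
        omega
      rw [this]
      exact Γ.add_mem ha (hke _)
    intro a b ha hb hab
    rcases lt_trichotomy a b with h | h | h
    · exact (aux a b ha hb hab h).elim
    · exact h
    · exact (aux b a hb ha hab.symm h).elim
  have hApF : Ap (c - 1 + e) := by
    refine ⟨hc _ (by omega), by omega, ?_⟩
    have : c - 1 + e - e = c - 1 := by omega
    rw [this]; exact hc1
  let T : Finset ℕ := (Finset.range (c + e)).filter (fun n => Ap n ∧ n ≠ c - 1 + e)
  have hTcard : T.card ≤ e - 2 := by
    have h1 : T.card ≤ ((Finset.Ioo 0 e).erase ((c - 1 + e) % e)).card := by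
      refine Finset.card_le_card_of_injOn (fun n => n % e) ?_ ?_
      · intro n hn
        have hn' := (Finset.mem_filter.mp hn).2
        have hne : n % e ≠ (c - 1 + e) % e := fun h => hn'.2 (hAp_inj _ _ hn'.1 hApF h)
        have hpos : 0 < n % e := Nat.pos_of_ne_zero (hAp_mod n hn'.1)
        have hlt : n % e < e := Nat.mod_lt _ (by omega)
        simp only [Finset.coe_erase, Finset.coe_Ioo, Set.mem_diff, Set.mem_Ioo,
          Set.mem_singleton_iff]
        exact ⟨⟨hpos, hlt⟩, hne⟩
      · intro a ha b hb hab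
        have ha' := (Finset.mem_filter.mp ha).2
        have hb' := (Finset.mem_filter.mp hb).2
        exact hAp_inj a b ha'.1 hb'.1 hab
    have h2 : (c - 1 + e) % e ∈ Finset.Ioo 0 e := by
      rw [Finset.mem_Ioo]
      exact ⟨Nat.pos_of_ne_zero (hAp_mod _ hApF), Nat.mod_lt _ (by omega)⟩
    rw [Finset.card_erase_of_mem h2, Nat.card_Ioo] at h1
    omega
  refine ⟨insert e T, ?_, ?_⟩
  · have := Finset.card_insert_le e T
    omega
  · apply le_antisymm
    · rw [AddSubmonoid.closure_le]
      intro γ hγ
      rw [Finset.coe_insert, Set.mem_insert_iff] at hγ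
      rcases hγ with rfl | hγ
      · exact he
      · exact (Finset.mem_filter.mp hγ).2.1.1
    · intro n
      induction n using Nat.strong_induction_on with
      | _ n ih =>
        intro hn
        have heclo : e ∈ AddSubmonoid.closure (↑(insert e T) : Set ℕ) :=
          AddSubmonoid.subset_closure (by simp)
        by_cases hn0 : n = 0
        · subst hn0; exact AddSubmonoid.zero_mem _
        have hen : e ≤ n := hemin n hn hn0
        by_cases hne : n - e ∈ Γ
        · have := ih (n - e) (by omega) hne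
          have h2 := AddSubmonoid.add_mem _ this heclo
          have e1 : n - e + e = n := by omega
          rwa [e1] at h2
        · have hApn : Ap n := ⟨hn, hn0, hne⟩
          have hlt := hgap _ hne
          by_cases hnF : n = c - 1 + e
          · -- choose a₀
            have : ∃ a₀, a₀ ∈ Γ ∧ ¬ e ∣ a₀ ∧ a₀ ≤ c + 1 := by
              by_cases hd : e ∣ c
              · refine ⟨c + 1, hc _ (by omega), ?_, le_rfl⟩
                intro hd'
                have := (Nat.dvd_add_right hd).mp hd'
                have := Nat.le_of_dvd (by omega) this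
                omega
              · exact ⟨c, hc _ le_rfl, hd, by omega⟩
            obtain ⟨a₀, ha₀, hdiv, ha₀le⟩ := this
            obtain ⟨a, ha, haa₀, hea, hae⟩ := apery a₀ ha₀ hdiv
            have hglt := hgap _ hae
            have hb := (hsymm _ hglt).mp hae
            have hsum : a + (c - 1 - (a - e)) = n := by omega
            have ha' := ih a (by omega) ha
            have hb' := ih _ (by omega) hb
            have := AddSubmonoid.add_mem _ ha' hb'
            rwa [hsum] at this
          · apply AddSubmonoid.subset_closure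
            rw [Finset.coe_insert]
            right
            rw [Finset.mem_coe, Finset.mem_filter, Finset.mem_range]
            exact ⟨by omega, hApn, hnF⟩

end Groth.Agent.S15038
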