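import Groth.Statements.S15041
import Groth.Agent.Lib.Helper75.MonoExt

set_option autoImplicit false
universe u
open CategoryTheory
open TFCurv

namespace Groth.Agent.S15041


open Groth.Agent.Lib.Helper75 Groth.Agent.Lib.Helper75.MonoSeries Groth.Agent.Lib.Helper75.MonoExt

section parts

variable {k : Type u} [Field k] (A : Subalgebra k (PowerSeries k)) {Γ : Set ℕ}
  (hΓmem : ∀ m, m ∈ Γ ↔ (m = 0 ∨ m = 3 ∨ m = 4 ∨ 6 ≤ m))
  (hA : ∀ f : PowerSeries k, f ∈ A ↔ Supp f Γ)

include hΓmem in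
lemma hcΓ : ∀ e, 6 ≤ e → e ∈ Γ := fun e he => (hΓmem e).mpr (by omega)

lemma hspan (b : ℕ) (EN : Set ℕ) (hEN : ∀ γ ∈ Γ, ∀ e ∈ EN, γ + e ∈ EN)
    (hchar : ∀ e, e ∈ EN ↔ ∃ s ∈ ({0, b} : Set ℕ), ∃ γ ∈ Γ, e = γ + s) :
    Submodule.span ↥A ({1, (PowerSeries.X : PowerSeries k) ^ b} : Set (PowerSeries k)) =
      monoMod A hA EN hEN := by
  have hΓadd : ∀ γ ∈ Γ, ∀ e ∈ Γ, γ + e ∈ Γ := Γ_add A hA
  have himg : ({1, (PowerSeries.X : PowerSeries k) ^ b} : Set (PowerSeries k)) =
      (fun s : ℕ => (PowerSeries.X : PowerSeries k) ^ s) '' {0, b} := by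
    rw [Set.image_pair, pow_zero]
  have hE' : ∀ γ ∈ Γ, ∀ e ∈ {e | ∃ s ∈ ({0, b} : Set ℕ), ∃ γ ∈ Γ, e = γ + s},
      γ + e ∈ {e | ∃ s ∈ ({0, b} : Set ℕ), ∃ γ ∈ Γ, e = γ + s} := by
    rintro γ hγ e ⟨s, hs, γ', hγ', rfl⟩
    exact ⟨s, hs, γ + γ', hΓadd γ hγ γ' hγ', by ring⟩
  rw [himg, span_monomials A hA _ (Set.toFinite _) hE']
  have hset : {e | ∃ s ∈ ({0, b} : Set ℕ), ∃ γ ∈ Γ, e = γ + s} = EN := by
    ext e; exact (hchar e).symm
  congr 1

include hΓmem hA in
lemma part1 : Module.length ↥A (Abelian.Ext (ModuleCat.of ↥A ↥(Submodule.span ↥A ({1, (PowerSeries.X : PowerSeries k) ^ 5} : Set (PowerSeries k)))) (ModuleCat.of ↥A ↥(Submodule.span ↥A ({1, (PowerSeries.X : PowerSeries k) ^ 5} : Set (PowerSeries k)))) 1) = 2 := by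
  classical
  have hcΓ := hcΓ hΓmem
  have hspan := hspan A hA
  let EN : Set ℕ := {e | e = 0 ∨ 3 ≤ e}
  have hEN : ∀ γ ∈ Γ, ∀ e ∈ EN, γ + e ∈ EN := by
    intro γ hγ e he
    rw [hΓmem] at hγ
    simp only [EN, Set.mem_ofPred_eq] at he ⊢
    omega
  have hs := hspan 5 EN hEN (by
    intro e
    simp only [EN, Set.mem_ofPred_eq, Set.mem_insert_iff, Set.mem_singleton_iff, hΓmem]
    constructor
    · intro he
      by_cases h5 : e = 5
      · exact ⟨5, Or.inr rfl, 0, Or.inl rfl, by omega⟩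
      · exact ⟨0, Or.inl rfl, e, by omega, by omega⟩
    · rintro ⟨s, (rfl | rfl), γ, hγ, rfl⟩ <;> omega)
  have key := monoMain1 A hA 6 hcΓ EN hEN 5 3 (fun e he => Or.inr he)
  rw [← hs] at key
  rw [enat_eq_sub key]
  have h1 : EH1 Γ 6 5 EN \ shift 6 EN = ↑({7, 8} : Finset ℕ) := by
    ext e
    simp only [EH1, EJ, shift, EN, hΓmem, Set.mem_sdiff, Set.mem_ofPred_eq, Finset.coe_insert,
      Finset.coe_singleton, Set.mem_insert_iff, Set.mem_singleton_iff]
    constructor
    · rintro ⟨⟨h1, h2⟩, h3⟩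
      have hw3 := h2 3 (by omega)
      have hw4 := h2 4 (by omega)
      omega
    · intro he
      refine ⟨⟨by omega, fun w hw => ?_⟩, by omega⟩
      omega
  have h2 : EN \ {e | e ∈ EN ∧ 5 + e ∈ EN} = ∅ := by
    ext e
    simp only [EN, Set.mem_sdiff, Set.mem_ofPred_eq, Set.mem_empty_iff_false, iff_false]
    omega
  rw [h1, h2, Set.ncard_coe_finset, Set.ncard_empty]
  rfl

include hΓmem hA in
lemma part2 : Module.length ↥A (Abelian.Ext (ModuleCat.of ↥A ↥(Submodule.span ↥A ({1, (PowerSeries.X : PowerSeries k)} : Set (PowerSeries k)))) (ModuleCat.of ↥A ↥(Submodule.span ↥A ({1, (PowerSeries.X : PowerSeries k)} : Set (PowerSeries k)))) 1) = 2 := by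
  classical
  have hcΓ := hcΓ hΓmem
  have hspan := hspan A hA
  let EN : Set ℕ := {e | e ≠ 2}
  have hEN : ∀ γ ∈ Γ, ∀ e ∈ EN, γ + e ∈ EN := by
    intro γ hγ e he
    rw [hΓmem] at hγ
    simp only [EN, Set.mem_ofPred_eq] at he ⊢
    omega
  have hs := hspan 1 EN hEN (by
    intro e
    simp only [EN, Set.mem_ofPred_eq, Set.mem_insert_iff, Set.mem_singleton_iff, hΓmem]
    constructor
    · intro he
      by_cases h5 : e = 1 ∨ e = 5
      · exact ⟨1, Or.inr rfl, e - 1, by omega, by omega⟩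
      · exact ⟨0, Or.inl rfl, e, by omega, by omega⟩
    · rintro ⟨s, (rfl | rfl), γ, hγ, rfl⟩ <;> omega)
  have key := monoMain1 A hA 6 hcΓ EN hEN 1 3 (fun e he => by
    simp only [EN, Set.mem_ofPred_eq]; omega)
  rw [pow_one] at key hs
  rw [← hs] at key
  rw [enat_eq_sub key]
  have h1 : EH1 Γ 6 1 EN \ shift 6 EN = ↑({3, 4, 8} : Finset ℕ) := by
    ext e
    simp only [EH1, EJ, shift, EN, hΓmem, Set.mem_sdiff, Set.mem_ofPred_eq, Finset.coe_insert,
      Finset.coe_singleton, Set.mem_insert_iff, Set.mem_singleton_iff]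
    constructor
    · rintro ⟨⟨h1, h2⟩, h3⟩
      have hw3 := h2 3 (by omega)
      have hw6 := h2 6 (by omega)
      have hw7 := h2 7 (by omega)
      have hw8 := h2 8 (by omega)
      omega
    · intro he
      refine ⟨⟨by omega, fun w hw => ?_⟩, by omega⟩
      omega
  have h2 : EN \ {e | e ∈ EN ∧ 1 + e ∈ EN} = ↑({1} : Finset ℕ) := by
    ext e
    simp only [EN, Set.mem_sdiff, Set.mem_ofPred_eq, Finset.coe_singleton,
      Set.mem_singleton_iff]
    omega
  rw [h1, h2, Set.ncard_coe_finset, Set.ncard_coe_finset]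
  rfl

include hΓmem hA in
lemma part3 : Module.length ↥A (Abelian.Ext (ModuleCat.of ↥A ↥(Submodule.span ↥A ({1, (PowerSeries.X : PowerSeries k) ^ 2} : Set (PowerSeries k)))) (ModuleCat.of ↥A ↥(Submodule.span ↥A ({1, (PowerSeries.X : PowerSeries k) ^ 2} : Set (PowerSeries k)))) 1) = 4 := by
  classical
  have hcΓ := hcΓ hΓmem
  have hspan := hspan A hA
  let EN : Set ℕ := {e | e ≠ 1}
  have hEN : ∀ γ ∈ Γ, ∀ e ∈ EN, γ + e ∈ EN := by
    intro γ hγ e he
    rw [hΓmem] at hγ
    simp only [EN, Set.mem_ofPred_eq] at he ⊢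
    omega
  have hs := hspan 2 EN hEN (by
    intro e
    simp only [EN, Set.mem_ofPred_eq, Set.mem_insert_iff, Set.mem_singleton_iff, hΓmem]
    constructor
    · intro he
      by_cases h5 : e = 2 ∨ e = 5
      · exact ⟨2, Or.inr rfl, e - 2, by omega, by omega⟩
      · exact ⟨0, Or.inl rfl, e, by omega, by omega⟩
    · rintro ⟨s, (rfl | rfl), γ, hγ, rfl⟩ <;> omega)
  have key := monoMain1 A hA 6 hcΓ EN hEN 2 3 (fun e he => by
    simp only [EN, Set.mem_ofPred_eq]; omega)
  rw [← hs] at key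
  rw [enat_eq_sub key]
  have h1 : EH1 Γ 6 2 EN \ shift 6 EN = ↑({2, 4, 5, 7} : Finset ℕ) := by
    ext e
    simp only [EH1, EJ, shift, EN, hΓmem, Set.mem_sdiff, Set.mem_ofPred_eq, Finset.coe_insert,
      Finset.coe_singleton, Set.mem_insert_iff, Set.mem_singleton_iff]
    constructor
    · rintro ⟨⟨h1, h2⟩, h3⟩
      have hw4 := h2 4 (by omega)
      have hw6 := h2 6 (by omega)
      have hw7 := h2 7 (by omega)
      omega
    · intro he
      refine ⟨⟨by omega, fun w hw => ?_⟩, by omega⟩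
      omega
  have h2 : EN \ {e | e ∈ EN ∧ 2 + e ∈ EN} = ∅ := by
    ext e
    simp only [EN, Set.mem_sdiff, Set.mem_ofPred_eq, Set.mem_empty_iff_false, iff_false]
    omega
  rw [h1, h2, Set.ncard_coe_finset, Set.ncard_empty]
  rfl

include hΓmem hA in
lemma part4 : Module.length ↥A (Abelian.Ext (ModuleCat.of ↥A ↥(Submodule.span ↥A ({1, (PowerSeries.X : PowerSeries k), (PowerSeries.X : PowerSeries k) ^ 2} : Set (PowerSeries k)))) (ModuleCat.of ↥A ↥(Submodule.span ↥A ({1, (PowerSeries.X : PowerSeries k), (PowerSeries.X : PowerSeries k) ^ 2} : Set (PowerSeries k)))) 1) = 6 := by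
  classical
  have hcΓ := hcΓ hΓmem
  have hΓadd : ∀ γ ∈ Γ, ∀ e ∈ Γ, γ + e ∈ Γ := Γ_add A hA
  let EN : Set ℕ := Set.univ
  have hEN : ∀ γ ∈ Γ, ∀ e ∈ EN, γ + e ∈ EN := fun _ _ _ _ => Set.mem_univ _
  let a : Fin 2 → ℕ := ![1, 2]
  have hsN : Submodule.span ↥A ({1, (PowerSeries.X : PowerSeries k), (PowerSeries.X : PowerSeries k) ^ 2} : Set (PowerSeries k)) =
      monoMod A hA EN hEN := by
    have himg : ({1, (PowerSeries.X : PowerSeries k), (PowerSeries.X : PowerSeries k) ^ 2} : Set (PowerSeries k)) =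
        (fun s : ℕ => (PowerSeries.X : PowerSeries k) ^ s) '' {0, 1, 2} := by
      rw [Set.image_insert_eq, Set.image_pair, pow_zero, pow_one]
    have hE' : ∀ γ ∈ Γ, ∀ e ∈ {e | ∃ s ∈ ({0, 1, 2} : Set ℕ), ∃ γ ∈ Γ, e = γ + s},
        γ + e ∈ {e | ∃ s ∈ ({0, 1, 2} : Set ℕ), ∃ γ ∈ Γ, e = γ + s} := by
      rintro γ hγ e ⟨s, hs, γ', hγ', rfl⟩
      exact ⟨s, hs, γ + γ', hΓadd γ hγ γ' hγ', by ring⟩
    rw [himg, span_monomials A hA _ (Set.toFinite _) hE']
    have hset : {e | ∃ s ∈ ({0, 1, 2} : Set ℕ), ∃ γ ∈ Γ, e = γ + s} = EN := by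
      ext e
      simp only [EN, Set.mem_univ, iff_true, Set.mem_ofPred_eq, Set.mem_insert_iff,
        Set.mem_singleton_iff, hΓmem]
      by_cases h1 : e = 1 ∨ e = 5
      · exact ⟨1, by omega, e - 1, by omega, by omega⟩
      · by_cases h2 : e = 2
        · exact ⟨2, by omega, 0, by omega, by omega⟩
        · exact ⟨0, by omega, e, by omega, by omega⟩
    congr 1
  have hsM : ({1, (PowerSeries.X : PowerSeries k), (PowerSeries.X : PowerSeries k) ^ 2} : Set (PowerSeries k)) =
      insert (1 : PowerSeries k) (Set.range fun j => (PowerSeries.X : PowerSeries k) ^ (a j)) := by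
    congr 1
    ext f
    simp only [Set.mem_insert_iff, Set.mem_singleton_iff, Set.mem_range, Fin.exists_fin_two, a,
      Matrix.cons_val_zero, Matrix.cons_val_one, pow_one]
    constructor
    · rintro (rfl | rfl)
      · left; rfl
      · right; rfl
    · rintro (rfl | rfl)
      · left; rfl
      · right; rfl
  have h3A : (PowerSeries.X : PowerSeries k) ^ 3 ∈ A := by
    rw [hA, supp_X_pow, hΓmem]; omega
  have h4A : (PowerSeries.X : PowerSeries k) ^ 4 ∈ A := by
    rw [hA, supp_X_pow, hΓmem]; omega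
  have key := monoMain A hA 6 hcΓ a EN hEN 0 (fun _ _ => Set.mem_univ _)
    (fun _ => {e | 3 ≤ e}) (fun _ γ _ e he => by
      simp only [Set.mem_ofPred_eq] at he ⊢; omega) ?_
  · rw [← hsM, ← hsN] at key
    rw [enat_eq_sub key]
    have h1 : ({e : ℕ | 3 ≤ e} \ shift 6 EN) = Set.Ico 3 6 := by
      ext e
      simp only [shift, EN, Set.mem_sdiff, Set.mem_ofPred_eq, Set.mem_univ, and_true, Set.mem_Ico]
      omega
    have h2 : EN \ EN' a EN = ∅ := by
      ext e
      simp [EN', EN]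
    rw [h1, h2, Fin.sum_univ_two, ncard_Ico, Set.ncard_empty]
    rfl
  · intro h
    constructor
    · intro hh
      refine ⟨fun j m _ => Set.mem_univ _, ?_⟩
      intro κ hκ
      rw [LinearMap.mem_ker, ExtMono.pi0_apply (A.val : A →+* PowerSeries k) (fun _ _ => rfl),
        Fin.sum_univ_two] at hκ
      replace hκ : ((κ.1 : ↥A) : PowerSeries k) +
          (((κ.2 0 : ↥A) : PowerSeries k) * PowerSeries.X ^ 1 +
            ((κ.2 1 : ↥A) : PowerSeries k) * PowerSeries.X ^ 2) = 0 := hκ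
      have hnot : ∀ (x : ↥A) (m : ℕ), (m = 1 ∨ m = 2 ∨ m = 5) →
          PowerSeries.coeff m (x : PowerSeries k) = 0 := by
        intro x m hm
        by_contra hne
        have := (hΓmem m).mp ((hA _).mp x.2 m hne)
        omega
      have c0 : PowerSeries.coeff 0 ((κ.2 0 : ↥A) : PowerSeries k) = 0 := by
        have h1 := congrArg (PowerSeries.coeff 1) hκ
        rw [map_add, map_add, map_zero, PowerSeries.coeff_mul_X_pow', PowerSeries.coeff_mul_X_pow',
          hnot κ.1 1 (by omega)] at h1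
        simpa using h1
      have c1 : PowerSeries.coeff 0 ((κ.2 1 : ↥A) : PowerSeries k) = 0 := by
        have h1 := congrArg (PowerSeries.coeff 2) hκ
        rw [map_add, map_add, map_zero, PowerSeries.coeff_mul_X_pow', PowerSeries.coeff_mul_X_pow',
          hnot κ.1 2 (by omega)] at h1
        simp only [zero_add, show (1 : ℕ) ≤ 2 by omega, if_true, le_refl, Nat.sub_self,
          show 2 - 1 = 1 by rfl] at h1
        rw [hnot (κ.2 0) 1 (by omega), zero_add] at h1
        exact h1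
      have hsupp : ∀ j, Supp ((κ.2 j : ↥A) : PowerSeries k) {w | 3 ≤ w} := by
        intro j m hm
        have hmΓ := (hΓmem m).mp ((hA _).mp (κ.2 j).2 m hm)
        have hm0 : m ≠ 0 := by
          rintro rfl
          fin_cases j
          · exact hm c0
          · exact hm c1
        simp only [Set.mem_ofPred_eq]
        omega
      apply supp_sum
      intro j _
      refine (hsupp j).mul (hh j) ?_
      intro w hw e he
      simp only [shift, EN, Set.mem_ofPred_eq, Set.mem_univ, and_true] at hw he ⊢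
      omega
    · rintro ⟨_, h2⟩
      -- first h 0
      have hκ1 : ((-⟨PowerSeries.X ^ 4, h4A⟩ : ↥A), (![⟨PowerSeries.X ^ 3, h3A⟩, 0] : Fin 2 → ↥A)) ∈
          LinearMap.ker (ExtMono.pi0 (k := k) (A := ↥A) a) := by
        rw [LinearMap.mem_ker, ExtMono.pi0_apply (A.val : A →+* PowerSeries k) (fun _ _ => rfl),
          Fin.sum_univ_two]
        change -(PowerSeries.X : PowerSeries k) ^ 4 + (PowerSeries.X ^ 3 * PowerSeries.X ^ 1 + 0 * PowerSeries.X ^ 2) = 0
        ring
      have e1 := h2 _ hκ1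
      rw [Fin.sum_univ_two] at e1
      replace e1 : Supp ((PowerSeries.X : PowerSeries k) ^ 3 * h 0 + 0 * h 1) (shift 6 EN) := e1
      rw [zero_mul, add_zero, supp_X_pow_mul'] at e1
      have hh0 : Supp (h 0) {e | 3 ≤ e} := by
        intro m hm
        have := e1 m hm
        simp only [shift, EN, Set.mem_ofPred_eq, Set.mem_univ, and_true] at this ⊢
        omega
      have hκ2 : ((0 : ↥A), (![⟨PowerSeries.X ^ 4, h4A⟩, -⟨PowerSeries.X ^ 3, h3A⟩] : Fin 2 → ↥A)) ∈
          LinearMap.ker (ExtMono.pi0 (k := k) (A := ↥A) a) := by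
        rw [LinearMap.mem_ker, ExtMono.pi0_apply (A.val : A →+* PowerSeries k) (fun _ _ => rfl),
          Fin.sum_univ_two]
        change (0 : PowerSeries k) + (PowerSeries.X ^ 4 * PowerSeries.X ^ 1 + (-(PowerSeries.X : PowerSeries k) ^ 3) * PowerSeries.X ^ 2) = 0
        ring
      have e2 := h2 _ hκ2
      rw [Fin.sum_univ_two] at e2
      replace e2 : Supp ((PowerSeries.X : PowerSeries k) ^ 4 * h 0 + (-(PowerSeries.X : PowerSeries k) ^ 3) * h 1)
          (shift 6 EN) := e2
      have e3 : Supp ((PowerSeries.X : PowerSeries k) ^ 4 * h 0) (shift 6 EN) := by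
        rw [supp_X_pow_mul']
        intro m hm
        have := hh0 m hm
        simp only [shift, EN, Set.mem_ofPred_eq, Set.mem_univ, and_true] at this ⊢
        omega
      have e4 : Supp ((PowerSeries.X : PowerSeries k) ^ 3 * h 1) (shift 6 EN) := by
        have := (e3.sub e2)
        have h5 : (PowerSeries.X : PowerSeries k) ^ 4 * h 0 -
            ((PowerSeries.X : PowerSeries k) ^ 4 * h 0 + (-(PowerSeries.X : PowerSeries k) ^ 3) * h 1) =
            (PowerSeries.X : PowerSeries k) ^ 3 * h 1 := by ring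
        rwa [h5] at this
      rw [supp_X_pow_mul'] at e4
      have hh1 : Supp (h 1) {e | 3 ≤ e} := by
        intro m hm
        have := e4 m hm
        simp only [shift, EN, Set.mem_ofPred_eq, Set.mem_univ, and_true] at this ⊢
        omega
      intro j
      fin_cases j
      · exact hh0
      · exact hh1

end parts

/-- Let k be an algebraically closed field of characteristic zero and A ⊂ k[[t]] the complete local ring
of the E_6 singularity, i.e. the k-subalgebra of power series all of whose exponents lie in the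
semigroup generated by 3 and 4 (A = k[[t³, t⁴]]). Its rank-one torsion-free modules are A, M₁ = A +
A·t⁵, its dual M₁* = A + A·t, M₂ = A + A·t² and M₃ = A + A·t + A·t² = k[[t]], of index 0, 1, 1, 2,
3. Then Ext¹_A(M, M) has length 2·index(M): length 2 for M₁ and for M₁*, 4 for M₂ and 6 for M₃
(length over A equals k-dimension). As End_A(M₁) = End_A(M₁*) = M₁, End_A(M₂) = M₂, End_A(M₃) = M₃
have colength 1, 1, 2, 3 over A, this is the identity χ₁(M) = dim Ext¹(M, M) − dim(End(M)/A) =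
index(M). -/
theorem result (k : Type u) [Field k] [IsAlgClosed k] [CharZero k] (A : Subalgebra k (PowerSeries k)) (hmono : ∀ f : PowerSeries k, f ∈ A ↔ ∀ n : ℕ, PowerSeries.coeff n f ≠ 0 → n ∈ AddSubmonoid.closure ({3, 4} : Set ℕ)) : Module.length ↥A (Abelian.Ext (ModuleCat.of ↥A ↥(Submodule.span ↥A ({1, (PowerSeries.X : PowerSeries k) ^ 5} : Set (PowerSeries k)))) (ModuleCat.of ↥A ↥(Submodule.span ↥A ({1, (PowerSeries.X : PowerSeries k) ^ 5} : Set (PowerSeries k)))) 1) = 2 ∧ Module.length ↥A (Abelian.Ext (ModuleCat.of ↥A ↥(Submodule.span ↥A ({1, (PowerSeries.X : PowerSeries k)} : Set (PowerSeries k)))) (ModuleCat.of ↥A ↥(Submodule.span ↥A ({1, (PowerSeries.X : PowerSeries k)} : Set (PowerSeries k)))) 1) = 2 ∧ Module.length ↥A (Abelian.Ext (ModuleCat.of ↥A ↥(Submodule.span ↥A ({1, (PowerSeries.X : PowerSeries k) ^ 2} : Set (PowerSeries k)))) (ModuleCat.of ↥A ↥(Submodule.span ↥A ({1, (PowerSeries.X : PowerSeries k) ^ 2} : Set (PowerSeries k)))) 1) = 4 ∧ Module.length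 ↥A (Abelian.Ext (ModuleCat.of ↥A ↥(Submodule.span ↥A ({1, (PowerSeries.X : PowerSeries k), (PowerSeries.X : PowerSeries k) ^ 2} : Set (PowerSeries k)))) (ModuleCat.of ↥A ↥(Submodule.span ↥A ({1, (PowerSeries.X : PowerSeries k), (PowerSeries.X : PowerSeries k) ^ 2} : Set (PowerSeries k)))) 1) = 6 := by
  have hΓeq : ∀ m : ℕ, m ∈ AddSubmonoid.closure ({3, 4} : Set ℕ) ↔ (m = 0 ∨ m = 3 ∨ m = 4 ∨ 6 ≤ m) := by
    intro m
    have h3 : (3 : ℕ) ∈ AddSubmonoid.closure ({3, 4} : Set ℕ) :=
      AddSubmonoid.subset_closure (by simp)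
    have h4 : (4 : ℕ) ∈ AddSubmonoid.closure ({3, 4} : Set ℕ) :=
      AddSubmonoid.subset_closure (by simp)
    constructor
    · intro hm
      induction hm using AddSubmonoid.closure_induction with
      | mem x hx =>
        rcases hx with rfl | rfl
        · right; left; rfl
        · right; right; left; rfl
      | zero => left; rfl
      | add x y _ _ hx hy => omega
    · intro hm
      have hge : ∀ q : ℕ, ∀ m, m ≤ q → 6 ≤ m → m ∈ AddSubmonoid.closure ({3, 4} : Set ℕ) := by
        intro q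
        induction q with
        | zero => intro m h1 h2; omega
        | succ q ih =>
          intro m h1 h2
          by_cases h6 : m = 6
          · subst h6; exact AddSubmonoid.add_mem _ h3 h3
          by_cases h7 : m = 7
          · subst h7; exact AddSubmonoid.add_mem _ h3 h4
          by_cases h8 : m = 8
          · subst h8; exact AddSubmonoid.add_mem _ h4 h4
          have : m = 3 + (m - 3) := by omega
          rw [this]
          exact AddSubmonoid.add_mem _ h3 (ih _ (by omega) (by omega))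
      rcases hm with rfl | rfl | rfl | hm
      · exact AddSubmonoid.zero_mem _
      · exact h3
      · exact h4
      · exact hge m m le_rfl hm
  have hA : ∀ f : PowerSeries k, f ∈ A ↔ Supp f {m : ℕ | m = 0 ∨ m = 3 ∨ m = 4 ∨ 6 ≤ m} := by
    intro f
    rw [hmono]
    constructor
    · intro h m hm; exact (hΓeq m).mp (h m hm)
    · intro h m hm; exact (hΓeq m).mpr (h m hm)
  exact ⟨part1 A (fun _ => Iff.rfl) hA, part2 A (fun _ => Iff.rfl) hA, part3 A (fun _ => Iff.rfl) hA,
    part4 A (fun _ => Iff.rfl) hA⟩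

end Groth.Agent.S15041
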