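import Groth.Statements.S15042
import Groth.Agent.Lib.Helper7.Quiet.BaseChange

set_option autoImplicit false
open CategoryTheory AlgebraicGeometry
universe u
open Quiet

namespace Groth.Agent.S15042

/-- Over a scheme `X` of prime characteristic `p`, if `f : Y ⟶ X` is quasi-etale (locally on the source
an extraction of `p`-th roots followed by an etale morphism) and `Y'` with its projections `g' : Y'
⟶ Y`, `f' : Y' ⟶ X'` is the fibre product of `f` and a morphism `g : X' ⟶ X`, then `f'` is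
quasi-etale. -/
theorem result (p : ℕ) [Fact p.Prime] {X Y X' Y' : Scheme.{u}} [FrobSch.IsCharP X p]
    (f : Y ⟶ X) (g : X' ⟶ X) (f' : Y' ⟶ X') (g' : Y' ⟶ Y) (H : IsPullback g' f' f g)
    (hf : Quiet.IsQuiet p f) : Quiet.IsQuiet p f' := by
  intro y'
  obtain ⟨V, Y₁, r, e, hyV, hr, he, hre⟩ := hf (g' y')
  -- the pulled back etale scheme and the induced map
  have hw : ((g' ∣_ V) ≫ r) ≫ e = ((g' ⁻¹ᵁ V).ι ≫ f') ≫ g := by
    rw [Category.assoc, hre, ← Category.assoc, morphismRestrict_ι, Category.assoc, Category.assoc,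
      H.w]
  let r' : ((g' ⁻¹ᵁ V : Y'.Opens) : Scheme.{u}) ⟶ Limits.pullback e g :=
    Limits.pullback.lift ((g' ∣_ V) ≫ r) ((g' ⁻¹ᵁ V).ι ≫ f') hw
  have h1 : r' ≫ Limits.pullback.fst e g = (g' ∣_ V) ≫ r := Limits.pullback.lift_fst _ _ _
  have h2 : r' ≫ Limits.pullback.snd e g = (g' ⁻¹ᵁ V).ι ≫ f' := Limits.pullback.lift_snd _ _ _
  refine ⟨g' ⁻¹ᵁ V, Limits.pullback e g, r', Limits.pullback.snd e g, hyV, ?_, inferInstance, h2⟩
  -- `r'` is a base change of `r`
  have hright : IsPullback (Limits.pullback.snd e g) (Limits.pullback.fst e g) g e :=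
    (IsPullback.of_hasPullback e g).flip
  have hbig : IsPullback ((g' ⁻¹ᵁ V).ι ≫ f') (g' ∣_ V) g (V.ι ≫ f) :=
    (isPullback_morphismRestrict g' V).flip.paste_horiz H.flip
  have hleft : IsPullback r' (g' ∣_ V) (Limits.pullback.fst e g) r := by
    refine IsPullback.of_right ?_ h1 hright
    rw [h2, hre]
    exact hbig
  exact Groth.Agent.Lib.Helper7.QuietRing.IsPthRoot.of_isPullback hleft.flip hr

end Groth.Agent.S15042
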