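import Groth.Statements.S15043
import Groth.Agent.Lib.Helper7.Quiet.BaseChange
import Groth.Agent.Lib.Helper7.Quiet.EtaleDescent

set_option autoImplicit false
open CategoryTheory AlgebraicGeometry
universe u
open Quiet

namespace Groth.Agent.S15043

open Groth.Agent.Lib.Helper7.QuietRing TopologicalSpace

/-- Over a scheme `X` of prime characteristic `p`, the composite of quasi-etale morphisms `g : Z ⟶ Y`
and `f : Y ⟶ X` (each locally on its source an extraction of `p`-th roots followed by an etale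
morphism) is quasi-etale. -/
theorem result (p : ℕ) [Fact p.Prime] {X Y Z : Scheme.{u}} [FrobSch.IsCharP X p]
    (f : Y ⟶ X) (g : Z ⟶ Y) (hf : Quiet.IsQuiet p f) (hg : Quiet.IsQuiet p g) :
    Quiet.IsQuiet p (g ≫ f) := by
  have hp : p.Prime := Fact.out
  intro z
  obtain ⟨V₁, Y₁, r₁, e₁, hzV₁, hr₁, he₁, hre₁⟩ := hg z
  obtain ⟨V₂, Y₂, r₂, e₂, hyV₂, hr₂, he₂, hre₂⟩ := hf (g z)
  rw [isPthRoot_iff] at hr₁ hr₂
  obtain ⟨U₂, hU₂, hyU₂, hW₂, n, tw₂⟩ := hr₂ (r₂ ⟨g z, hyV₂⟩)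
  obtain ⟨U₁, hU₁, hzU₁, hrU₁, m, tw₁⟩ := hr₁ (r₁ ⟨z, hzV₁⟩)
  have hey₁ : e₁ (r₁ ⟨z, hzV₁⟩) = g z := by
    have := congr($(hre₁) ⟨z, hzV₁⟩)
    simpa using this
  -- the open immersion `j : Spec B ⟶ Y`
  let j : Spec Γ(V₂, r₂ ⁻¹ᵁ U₂) ⟶ Y := hW₂.fromSpec ≫ V₂.ι
  have hj : j.opensRange = V₂.ι ''ᵁ (r₂ ⁻¹ᵁ U₂) := by
    rw [Scheme.Hom.opensRange_comp, hW₂.opensRange_fromSpec]
  have hy₁E : r₁ ⟨z, hzV₁⟩ ∈ e₁ ⁻¹ᵁ j.opensRange := by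
    rw [hj]
    show e₁ (r₁ ⟨z, hzV₁⟩) ∈ V₂.ι ''ᵁ (r₂ ⁻¹ᵁ U₂)
    rw [hey₁]
    exact ⟨⟨g z, hyV₂⟩, hyU₂, rfl⟩
  obtain ⟨W₁, hW₁, hy₁W₁, hW₁le⟩ :=
    Opens.isBasis_iff_nbhd.1 Y₁.isBasis_affineOpens
      (show r₁ ⟨z, hzV₁⟩ ∈ e₁ ⁻¹ᵁ j.opensRange ⊓ U₁ from ⟨hy₁E, hzU₁⟩)
  replace hW₁ : IsAffineOpen W₁ := hW₁
  obtain ⟨hD, tw₁'⟩ := tower_of_le r₁ hU₁ hrU₁ hW₁ (hW₁le.trans inf_le_right) m tw₁
  -- the etale map `Spec C ⟶ Spec B`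
  have hrange : Set.range (hW₁.fromSpec ≫ e₁) ⊆ Set.range j := by
    rintro _ ⟨x, rfl⟩
    have : hW₁.fromSpec x ∈ W₁ := by
      have h0 : hW₁.fromSpec x ∈ hW₁.fromSpec.opensRange := ⟨x, rfl⟩
      rwa [hW₁.opensRange_fromSpec] at h0
    exact (hW₁le this).1
  let ε : Spec Γ(Y₁, W₁) ⟶ Spec Γ(V₂, r₂ ⁻¹ᵁ U₂) :=
    IsOpenImmersion.lift j (hW₁.fromSpec ≫ e₁) hrange
  have hε : ε ≫ j = hW₁.fromSpec ≫ e₁ := IsOpenImmersion.lift_fac _ _ _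
  have hεet : Etale ε := by
    have : Etale (ε ≫ j) := by rw [hε]; infer_instance
    exact MorphismProperty.of_postcomp (W := @Etale) (W' := @IsOpenImmersion) ε j inferInstance this
  obtain ⟨γ, hγ⟩ : ∃ γ : Γ(V₂, r₂ ⁻¹ᵁ U₂) ⟶ Γ(Y₁, W₁), Spec.map γ = ε :=
    ⟨Spec.preimage ε, Spec.map_preimage ε⟩
  have hγet : γ.hom.Etale := by
    rw [← hγ] at hεet
    exact (HasRingHomProperty.Spec_iff (P := @Etale)).1 hεet
  -- descend the etale algebra along the root tower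
  have hA : (p : Γ(Y₂, U₂)) = 0 := by
    haveI : FrobSch.IsCharP Y₂ p := FrobSch.IsCharP.of_hom e₂ p
    exact FrobSch.natCast_eq_zero_app Y₂ p U₂
  haveI : Nonempty W₁ := ⟨⟨r₁ ⟨z, hzV₁⟩, hy₁W₁⟩⟩
  have hC : Nontrivial Γ(Y₁, W₁) := inferInstance
  obtain ⟨C', γ', ψ, hγ', sq⟩ := exists_etale_descent hp n (r₂.app U₂) γ hA hC tw₂ hγet
  have twψ : IsRootTowerHom p n ψ.hom := IsRootTowerHom.of_isPushout n _ _ _ _ sq tw₂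
  have twψδ : IsRootTowerHom p (n + m) (ψ ≫ r₁.app W₁).hom := by
    rw [CommRingCat.hom_comp]
    exact IsRootTowerHom.comp n m _ _ twψ tw₁'
  -- the open `V`
  let V : Z.Opens := V₁.ι ''ᵁ (r₁ ⁻¹ᵁ W₁)
  have hrangeV : Set.range V.ι = Set.range (hD.fromSpec ≫ V₁.ι) := by
    have h1 : V.ι.opensRange = (hD.fromSpec ≫ V₁.ι).opensRange := by
      rw [Scheme.Opens.opensRange_ι, Scheme.Hom.opensRange_comp, hD.opensRange_fromSpec]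
    exact congr(($h1 : Set Z))
  let α := IsOpenImmersion.isoOfRangeEq V.ι (hD.fromSpec ≫ V₁.ι) hrangeV
  have hα : α.hom ≫ (hD.fromSpec ≫ V₁.ι) = V.ι := IsOpenImmersion.isoOfRangeEq_hom_fac _ _ _
  have hγ'et : Etale (Spec.map γ') := (HasRingHomProperty.Spec_iff (P := @Etale)).2 hγ'
  refine ⟨V, Spec C', α.hom ≫ Spec.map (ψ ≫ r₁.app W₁), Spec.map γ' ≫ hU₂.fromSpec ≫ e₂,
    ⟨⟨z, hzV₁⟩, hy₁W₁, rfl⟩, isPthRoot_iso_comp_SpecMap _ twψδ α, inferInstance, ?_⟩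
  have e1 : Spec.map ψ ≫ Spec.map γ' = Spec.map γ ≫ Spec.map (r₂.app U₂) := by
    rw [← Spec.map_comp, ← Spec.map_comp, sq.w]
  have e2 : Spec.map (r₂.app U₂) ≫ hU₂.fromSpec = hW₂.fromSpec ≫ r₂ := by
    rw [← IsAffineOpen.SpecMap_appLE_fromSpec r₂ hU₂ hW₂ le_rfl, Scheme.Hom.app_eq_appLE]
  have e3 : Spec.map (r₁.app W₁) ≫ hW₁.fromSpec = hD.fromSpec ≫ r₁ := by
    rw [← IsAffineOpen.SpecMap_appLE_fromSpec r₁ hW₁ hD le_rfl, Scheme.Hom.app_eq_appLE]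
  calc (α.hom ≫ Spec.map (ψ ≫ r₁.app W₁)) ≫ Spec.map γ' ≫ hU₂.fromSpec ≫ e₂
      = α.hom ≫ Spec.map (r₁.app W₁) ≫ (Spec.map ψ ≫ Spec.map γ') ≫ hU₂.fromSpec ≫ e₂ := by
        simp only [Spec.map_comp, Category.assoc]
    _ = α.hom ≫ Spec.map (r₁.app W₁) ≫ Spec.map γ ≫
          (Spec.map (r₂.app U₂) ≫ hU₂.fromSpec) ≫ e₂ := by
        rw [e1]
        simp only [Category.assoc]
    _ = α.hom ≫ Spec.map (r₁.app W₁) ≫ (ε ≫ j) ≫ f := by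
        rw [e2, hγ]
        simp only [j, Category.assoc, hre₂]
    _ = α.hom ≫ (Spec.map (r₁.app W₁) ≫ hW₁.fromSpec) ≫ e₁ ≫ f := by
        rw [hε]
        simp only [Category.assoc]
    _ = α.hom ≫ hD.fromSpec ≫ (r₁ ≫ e₁) ≫ f := by
        rw [e3]
        simp only [Category.assoc]
    _ = V.ι ≫ g ≫ f := by
        rw [hre₁, ← hα]
        simp only [Category.assoc]

end Groth.Agent.S15043
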