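import Groth.Statements.S15044
import Groth.Agent.Lib.Helper10.SyntMor
import Groth.Agent.Lib.Helper10.LciSmooth

set_option autoImplicit false
open CategoryTheory AlgebraicGeometry
universe u
open Quiet

namespace Groth.Agent.S15044

open Groth.Agent.Lib.Helper10.LciComp Groth.Agent.Lib.Helper10.LciSmooth
open Groth.Agent.Lib.Helper10.LciPoly Groth.Agent.Lib.Helper10.LciMor
open Groth.Agent.Lib.Helper10.RegDescent Groth.Agent.Lib.Helper10.RegDescentKoszul
open Polynomial

/-- adjoining a root of a monic polynomial is a flat local complete intersection map. -/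
theorem adjoinRoot_flat_lci {A : Type u} [CommRing A] (f : A[X]) (hf : f.Monic) :
    (algebraMap A (AdjoinRoot f)).Flat ∧ IsLCIHom (algebraMap A (AdjoinRoot f)) := by
  constructor
  · rw [RingHom.flat_algebraMap_iff]
    haveI := hf.free_adjoinRoot
    infer_instance
  · have hker : RingHom.ker (AdjoinRoot.mk f) = Ideal.ofList [f] := by
      ext g
      rw [RingHom.mem_ker, AdjoinRoot.mk_eq_zero, Ideal.ofList_singleton, Ideal.mem_span_singleton]
    have hK : LCI.IsKoszulRegularSeq A[X] [f] := by
      apply Groth.Agent.Lib.Helper94.isKoszulRegularSeq_of_isWeaklyRegular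
      rw [RingTheory.Sequence.isWeaklyRegular_singleton_iff]
      exact hf.isRegular.left.isSMulRegular
    have h := isLCIHom_comp_of_isPolyHom isPolyHom_polynomial_C (AdjoinRoot.mk f)
      AdjoinRoot.mk_surjective (isLoc_of_ofList _ [f] hK hker)
    exact h

/-- a root tower is a flat local complete intersection map. -/
theorem rootTower_flat_lci (p : ℕ) (hp : p ≠ 0) : ∀ (n : ℕ) (A B : Type u) [CommRing A] [CommRing B]
    [Algebra A B], Quiet.IsRootTower p n A B →
      (algebraMap A B).Flat ∧ IsLCIHom (algebraMap A B)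
  | 0, A, B, _, _, _, h => by
    obtain ⟨e⟩ := h
    have he : algebraMap A B = (e.symm.toRingEquiv : A →+* B) := by
      ext a
      exact (e.symm.commutes a).symm
    rw [he]
    exact ⟨RingHom.Flat.of_bijective e.symm.bijective, isLCIHom_ringEquiv e.symm.toRingEquiv⟩
  | n + 1, A, B, _, _, _, h => by
    obtain ⟨a, alg, htower, h'⟩ := h
    obtain ⟨h1, h2⟩ := rootTower_flat_lci p hp n (Quiet.RootRing p A a) B h'
    obtain ⟨h3, h4⟩ := adjoinRoot_flat_lci (X ^ p - C a : A[X]) (monic_X_pow_sub_C a hp)
    rw [IsScalarTower.algebraMap_eq A (Quiet.RootRing p A a) B]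
    exact ⟨h3.comp h1, isLCIHom_comp _ _ h4 h2⟩

open AlgebraicGeometry CategoryTheory in
/-- a `p`-th root morphism is flat and a local complete intersection morphism. -/
theorem isPthRoot_flat_lci (p : ℕ) (hp : p ≠ 0) {Y X : Scheme.{u}} (r : Y ⟶ X)
    (hr : Quiet.IsPthRoot p r) : Flat r ∧ lciMor r := by
  have key : ∀ y : Y, ∃ (U : X.affineOpens) (V : Y.affineOpens) (_ : y ∈ V.1)
      (e : V.1 ≤ r ⁻¹ᵁ U.1), (r.appLE U V e).hom.Flat ∧ IsLCIHom (r.appLE U V e).hom := by
    intro y
    obtain ⟨U, hyU, haff, n, hn⟩ := hr (r y)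
    refine ⟨U, ⟨r ⁻¹ᵁ U.1, haff⟩, hyU, le_rfl, ?_⟩
    letI := (r.app U.1).hom.toAlgebra
    have := rootTower_flat_lci p hp n _ _ hn
    rw [RingHom.algebraMap_toAlgebra] at this
    rw [← Scheme.Hom.app_eq_appLE]
    exact this
  constructor
  · rw [HasRingHomProperty.iff_exists_appLE (P := @Flat)
      (RingHom.Flat.stableUnderComposition.stableUnderCompositionWithLocalizationAway
        RingHom.Flat.holdsForLocalizationAway).left]
    intro y
    obtain ⟨U, V, hy, e, h1, -⟩ := key y
    exact ⟨U, V, hy, e, h1⟩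
  · rw [HasRingHomProperty.iff_exists_appLE (P := lciMor)
      (Groth.Agent.Lib.Helper10.LciLocalProp.isLCIHom_stableUnderComposition.stableUnderCompositionWithLocalizationAway
        Groth.Agent.Lib.Helper10.LciLocalProp.isLCIHom_holdsForLocalizationAway).left]
    intro y
    obtain ⟨U, V, hy, e, -, h2⟩ := key y
    exact ⟨U, V, hy, e, h2⟩

/-- Over a scheme `X` of prime characteristic `p`, a quasi-etale morphism `f : Y ⟶ X` (locally on the
source an extraction of `p`-th roots followed by an etale morphism) is syntomic: every point of `Y`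
has an affine open neighbourhood mapping into an affine open of `X` such that the induced ring map
is flat, finitely presented and has local complete intersection fibres. -/
theorem result (p : ℕ) [Fact p.Prime] {X Y : Scheme.{u}} [FrobSch.IsCharP X p]
    (f : Y ⟶ X) (hf : Quiet.IsQuiet p f) : Synt.IsSyntomicMor f := by
  have hp : p ≠ 0 := (Fact.out : p.Prime).ne_zero
  choose V Y' r e hyV hr he hcomm using hf
  have hsup : ⨆ y, V y = ⊤ := by
    rw [eq_top_iff]
    intro y _
    exact TopologicalSpace.Opens.mem_iSup.mpr ⟨y, hyV y⟩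
  have hloc : ∀ y, Flat ((V y).ι ≫ f) ∧ lciMor ((V y).ι ≫ f) := by
    intro y
    obtain ⟨h1, h2⟩ := isPthRoot_flat_lci p hp (r y) (hr y)
    haveI := he y
    rw [← hcomm y]
    exact ⟨inferInstance, lciMor.comp_mem _ _ h2 (lciMor_of_smooth _)⟩
  have hflat : Flat f :=
    IsZariskiLocalAtSource.of_iSup_eq_top (P := @Flat) V hsup (fun y => (hloc y).1)
  have hlci : lciMor f :=
    IsZariskiLocalAtSource.of_iSup_eq_top (P := lciMor) V hsup (fun y => (hloc y).2)
  exact Groth.Agent.Lib.Helper10.SyntMor.isSyntomicMor_of_flat_of_lciMor f hlci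

end Groth.Agent.S15044
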