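import Groth.Statements.S15045
import Groth.Agent.Lib.Helper7.Quiet.Ring
import Groth.Agent.Lib.Helper7.EtaleLift.Global
import Groth.Agent.Lib.Helper18.ThickAffine

set_option autoImplicit false
open CategoryTheory AlgebraicGeometry
universe u
open Quiet

namespace Groth.Agent.S15045

open Groth.Agent.Lib.Helper7.QuietRing Groth.Agent.Lib.Helper7.EtaleLift TopologicalSpace

theorem isRootTowerHom_of_iso {p n : ℕ} {A B A' B' : CommRingCat.{u}} (φ : A ⟶ B) (φ' : A' ⟶ B')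
    (e₁ : A ≅ A') (e₂ : B ≅ B') (h : e₁.hom ≫ φ' = φ ≫ e₂.hom)
    (hφ : IsRootTowerHom p n φ.hom) : IsRootTowerHom p n φ'.hom :=
  IsRootTowerHom.of_equiv n φ.hom φ'.hom e₁.commRingCatIsoToRingEquiv
    e₂.commRingCatIsoToRingEquiv (fun x => congr($(h).hom x)) hφ

theorem isPthRoot_of_isAffine {p : ℕ} {X Y : Scheme.{u}} [IsAffine X] [IsAffine Y] (f : X ⟶ Y)
    (n : ℕ) (h : IsRootTowerHom p n f.appTop.hom) : IsPthRoot p f := fun _ =>
  ⟨⟨⊤, isAffineOpen_top Y⟩, trivial, isAffineOpen_top X, n, h⟩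

theorem isPthRoot_top_ι_SpecMap {p n : ℕ} {A B : CommRingCat.{u}} (φ : A ⟶ B)
    (h : IsRootTowerHom p n φ.hom) :
    IsPthRoot p ((⊤ : (Spec B).Opens).ι ≫ Spec.map φ) := by
  haveI : IsAffine ((⊤ : (Spec B).Opens) : Scheme.{u}) := isAffineOpen_top (Spec B)
  haveI : IsIso (⊤ : (Spec B).Opens).ι := (Scheme.topIso (Spec B)).isIso_hom
  haveI : IsIso ((⊤ : (Spec B).Opens).ι.appTop) :=
    inferInstanceAs (IsIso ((⊤ : (Spec B).Opens).ι.app ⊤))
  refine isPthRoot_of_isAffine _ n ?_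
  refine isRootTowerHom_of_iso φ _ (Scheme.ΓSpecIso A).symm
    ((Scheme.ΓSpecIso B).symm ≪≫ asIso ((⊤ : (Spec B).Opens).ι.appTop)) ?_ h
  simp [Scheme.Hom.comp_appTop, Scheme.ΓSpecIso_inv_naturality_assoc]

/-- Let `T` be a scheme of prime characteristic `p`, `i : U ⟶ T` a closed immersion which is surjective
on points, and `f' : U' ⟶ U` quasi-etale (locally on `U'` an extraction of `p`-th roots followed by
an etale morphism). Then every point of `U'` has an open neighbourhood `V` which is the base change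
along `i` of a quasi-etale `T`-scheme: there are a quasi-etale `q : T' ⟶ T` and `j : V ⟶ T'` making
`V`, with `j` and `V ⟶ U' ⟶ U`, the fibre product of `q` and `i`. (The published statement asks `U ⟶
T` to be a closed nil-immersion, a term it does not define; this row takes any closed immersion that
is surjective on points, which is all the printed argument uses.) -/
theorem result (p : ℕ) [Fact p.Prime] {T U U' : Scheme.{u}}
    [FrobSch.IsCharP T p] (i : U ⟶ T) [IsClosedImmersion i] [Surjective i] (f' : U' ⟶ U)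
    (hf' : Quiet.IsQuiet p f') (u : U') :
    ∃ (V : U'.Opens) (T' : Scheme.{u}) (q : T' ⟶ T) (j : (V : Scheme.{u}) ⟶ T'),
      u ∈ V ∧ Quiet.IsQuiet p q ∧ IsPullback j (V.ι ≫ f') q i := by
  obtain ⟨V₀, Y', r, e, huV₀, hr, he, hre⟩ := hf' u
  obtain ⟨T₁, k, y, hk⟩ := exists_isEtLift i e
  have hkc := hk.isClosedImmersion
  have hks := hk.surjective
  have hy := hk.etale
  obtain ⟨⟨W, hW⟩, hrW, hW', n, tw⟩ := hr (r ⟨u, huV₀⟩)
  obtain ⟨Wt, rfl⟩ : ∃ Wt : T₁.Opens, k ⁻¹ᵁ Wt = W := by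
    obtain ⟨s, hs, hs'⟩ := k.isClosedEmbedding.isEmbedding.isInducing.isOpen_iff.1 W.2
    exact ⟨⟨s, hs⟩, Opens.ext hs'⟩
  change IsAffineOpen (k ⁻¹ᵁ Wt) at hW
  change r ⟨u, huV₀⟩ ∈ k ⁻¹ᵁ Wt at hrW
  change IsAffineOpen (r ⁻¹ᵁ (k ⁻¹ᵁ Wt)) at hW'
  change IsRootTowerHom p n (r.app (k ⁻¹ᵁ Wt)).hom at tw
  -- `Wt` is affine
  have hWt : IsAffineOpen Wt := by
    have : IsAffine ((k ⁻¹ᵁ Wt : Y'.Opens) : Scheme.{u}) := hW
    have : IsClosedImmersion (k ∣_ Wt) :=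
      MorphismProperty.of_isPullback (P := @IsClosedImmersion) (isPullback_morphismRestrict k Wt).flip hkc
    have : Surjective (k ∣_ Wt) :=
      MorphismProperty.of_isPullback (P := @Surjective) (isPullback_morphismRestrict k Wt).flip hks
    exact Groth.Agent.Lib.Helper18.ThickAffine.isAffine_of_isClosedImmersion_of_surjective
      (k ∣_ Wt) (k ∣_ Wt).surjective
  have hπ : Function.Surjective (k.app Wt).hom := k.app_surjective Wt hWt
  obtain ⟨B', φ', ψ, tw', hpo⟩ := exists_lift_cat n (k.app Wt) (r.app (k ⁻¹ᵁ Wt)) hπ tw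
  -- the pullback squares
  have hmid : IsPullback (Spec.map (k.app Wt)) hW.fromSpec hWt.fromSpec k :=
    IsOpenImmersion.isPullback _ _ _ _
      (by rw [← IsAffineOpen.SpecMap_appLE_fromSpec k hWt hW le_rfl, Scheme.Hom.app_eq_appLE])
      (by rw [hWt.opensRange_fromSpec, hW.opensRange_fromSpec])
  have htop : IsPullback (Spec.map ψ) (Spec.map (r.app (k ⁻¹ᵁ Wt))) (Spec.map φ')
      (Spec.map (k.app Wt)) := (isPullback_SpecMap_of_isPushout _ _ _ _ hpo).flip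
  have hbig : IsPullback (Spec.map ψ) (Spec.map (r.app (k ⁻¹ᵁ Wt)) ≫ hW.fromSpec ≫ e)
      (Spec.map φ' ≫ hWt.fromSpec ≫ y) i := by
    simpa only [Category.assoc] using (htop.paste_vert hmid).paste_vert hk.isPullback
  have hleft : Spec.map (r.app (k ⁻¹ᵁ Wt)) ≫ hW.fromSpec ≫ e = (hW'.fromSpec ≫ V₀.ι) ≫ f' := by
    rw [Category.assoc, ← hre, ← Category.assoc, ← Category.assoc,
      ← IsAffineOpen.SpecMap_appLE_fromSpec r hW hW' le_rfl, Scheme.Hom.app_eq_appLE]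
  rw [hleft] at hbig
  -- the open `V`
  let V : U'.Opens := V₀.ι ''ᵁ (r ⁻¹ᵁ (k ⁻¹ᵁ Wt))
  have hrange : Set.range V.ι = Set.range (hW'.fromSpec ≫ V₀.ι) := by
    have h1 : V.ι.opensRange = (hW'.fromSpec ≫ V₀.ι).opensRange := by
      rw [Scheme.Opens.opensRange_ι, Scheme.Hom.opensRange_comp, hW'.opensRange_fromSpec]
    exact congr(($h1 : Set U'))
  let α := IsOpenImmersion.isoOfRangeEq V.ι (hW'.fromSpec ≫ V₀.ι) hrange
  have hα : α.hom ≫ (hW'.fromSpec ≫ V₀.ι) = V.ι := IsOpenImmersion.isoOfRangeEq_hom_fac _ _ _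
  refine ⟨V, Spec B', Spec.map φ' ≫ hWt.fromSpec ≫ y, α.hom ≫ Spec.map ψ,
    ⟨⟨u, huV₀⟩, hrW, rfl⟩, ?_, ?_⟩
  · intro x
    exact ⟨⊤, Spec Γ(T₁, Wt), (⊤ : (Spec B').Opens).ι ≫ Spec.map φ', hWt.fromSpec ≫ y, trivial,
      isPthRoot_top_ι_SpecMap φ' tw', inferInstance, by simp⟩
  · have h1 : IsPullback α.hom (V.ι ≫ f') ((hW'.fromSpec ≫ V₀.ι) ≫ f') (𝟙 U) :=
      IsPullback.of_horiz_isIso ⟨by rw [Category.comp_id, ← hα]; simp only [Category.assoc]⟩
    simpa using h1.paste_horiz hbig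

end Groth.Agent.S15045
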