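import Groth.Statements.S15046
import Groth.Agent.Lib.Helper16.Quiet.Main

set_option autoImplicit false
open CategoryTheory AlgebraicGeometry
universe u
open Quiet

namespace Groth.Agent.S15046

/-- Let `k` be a perfect field of prime characteristic `p` and `A` a smooth `k`-algebra of
characteristic `p`. Then the Frobenius endomorphism `a ↦ a ^ p` of `A` is faithfully flat, and the
endomorphism of `Spec A` it induces is an extraction of `p`-th roots: every point has an affine open
neighbourhood with affine preimage over which the induced ring map is a tower of finitely many
elementary extractions `B → B[x]/(x^p - b)`. -/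
theorem result (p : ℕ) [Fact p.Prime]
    (k : Type u) [Field k] [CharP k p] [PerfectRing k p] (A : Type u) [CommRing A] [Algebra k A]
    [CharP A p] [Algebra.Smooth k A] :
    (frobenius A p).FaithfullyFlat ∧
      Quiet.IsPthRoot p (Spec.map (CommRingCat.ofHom (frobenius A p))) := by
  refine ⟨Groth.Agent.Lib.Helper16.QuietFrob.faithfullyFlat_frobenius_of_smooth p k A, ?_⟩
  have h := Groth.Agent.Lib.Helper16.QuietFrob.isPthRoot_frob_of_smooth p k (CommRingCat.of A)
  rwa [Groth.Agent.Lib.Helper16.QuietFrob.frob_Spec] at h

end Groth.Agent.S15046
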