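import Groth.Statements.S15047
import Groth.Agent.H76.Descent

set_option autoImplicit false
universe u
open TensorProduct
open Desc

namespace Groth.Agent.S15047

open Groth.Agent.H76.Descent in
theorem result (A A' : Type u) [CommRing A] [CommRing A'] [Algebra A A']
    [Module.FaithfullyFlat A A'] (M N : Type u) [AddCommGroup M] [Module A M] [AddCommGroup N] [Module A N]
    (f : A' ⊗[A] M →ₗ[A'] A' ⊗[A] N)
    (hf : ∀ m : M,
      LinearMap.rTensor N (Algebra.TensorProduct.includeLeft : A' →ₐ[A] A' ⊗[A] A').toLinearMap (f (1 ⊗ₜ[A] m)) =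
        LinearMap.rTensor N (Algebra.TensorProduct.includeRight : A' →ₐ[A] A' ⊗[A] A').toLinearMap (f (1 ⊗ₜ[A] m))) :
    ∃! h : M →ₗ[A] N, h.baseChange A' = f := by
  have hinj := one_tmul_injective A A' N
  have hex : ∀ m : M, ∃ n : N, (1 : A') ⊗ₜ[A] n = f (1 ⊗ₜ[A] m) := fun m =>
    exists_of_includeLeft_eq_includeRight A A' N _ (hf m)
  choose h0 hh0 using hex
  let h : M →ₗ[A] N :=
    { toFun := h0
      map_add' := by
        intro x y
        apply hinj
        simp only
        rw [hh0, tmul_add, map_add, tmul_add, hh0, hh0]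
      map_smul' := by
        intro r x
        apply hinj
        simp only [RingHom.id_apply]
        rw [hh0, tmul_smul, tmul_smul, LinearMap.map_smul_of_tower, hh0] }
  have hbc : h.baseChange A' = f := by
    apply TensorProduct.AlgebraTensorModule.curry_injective
    ext m
    simp only [TensorProduct.AlgebraTensorModule.curry_apply, LinearMap.restrictScalars_self,
      TensorProduct.curry_apply, LinearMap.baseChange_tmul]
    exact hh0 m
  refine ⟨h, hbc, ?_⟩
  intro h' hh'
  ext m
  apply hinj
  simp only
  have h1 : (1 : A') ⊗ₜ[A] h' m = f (1 ⊗ₜ[A] m) := by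
    rw [← hh', LinearMap.baseChange_tmul]
  rw [h1]
  exact (hh0 m).symm

end Groth.Agent.S15047
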