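import Mathlib
import Groth.Statements.S15049
import Groth.Agent.Lib.Helper63.LTApply
-- import your own Groth.Agent.* helpers here

set_option autoImplicit false
universe u
open LubinTate

namespace Groth.Agent.S15049

/-- Let O be a discrete valuation ring with finite residue field of cardinality q, π a uniformizer of O,
and f = πT + T^q ∈ O[[T]]. Then there is a one-dimensional commutative formal group law F(X,Y) over
O for which f is an endomorphism, f(F(X,Y)) = F(f(X), f(Y)); and F is the unique power series in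
O[[X,Y]] with zero constant term and linear part X + Y satisfying this identity. (The published
statement is for the ring of integers of a finite extension of ℚ_p or of 𝔽_q((X)); completeness is
not used and any discrete valuation ring with finite residue field is allowed here.) -/
theorem result (O : Type u) [CommRing O] [IsDomain O] [IsDiscreteValuationRing O]
    [Finite (IsLocalRing.ResidueField O)] (π : O) (hπ : Irreducible π) (f : PowerSeries O)
    (hf : f = π • PowerSeries.X + PowerSeries.X ^ Nat.card (IsLocalRing.ResidueField O)) :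
    ∃ F : FormalGroup O, F.IsComm ∧
      PowerSeries.subst F.toPowerSeries f =
        MvPowerSeries.subst (fun i : Fin 2 => PowerSeries.subst (MvPowerSeries.X i : MvPowerSeries (Fin 2) O) f) F.toPowerSeries ∧
      ∀ G : MvPowerSeries (Fin 2) O, G.constantCoeff = 0 → G.coeff (Finsupp.single 0 1) = 1 →
        G.coeff (Finsupp.single 1 1) = 1 →
        PowerSeries.subst G f =
        MvPowerSeries.subst (fun i : Fin 2 => PowerSeries.subst (MvPowerSeries.X i : MvPowerSeries (Fin 2) O) f) G →
        G = F.toPowerSeries := by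
  classical
  subst hf
  have hq0 : Nat.card (IsLocalRing.ResidueField O) ≠ 0 := by
    have := Groth.Agent.Lib.Helper63.LT.two_le_card (O := O); omega
  obtain ⟨Fs, hF0, hFlin, hFeps⟩ :=
    Groth.Agent.Lib.Helper63.LT.lt_exists (σ := Fin 2) hπ (fun _ => (1 : O))
  have hFX : MvPowerSeries.coeff (Finsupp.single (0 : Fin 2) 1) Fs = 1 := hFlin 0
  have hFY : MvPowerSeries.coeff (Finsupp.single (1 : Fin 2) 1) Fs = 1 := hFlin 1
  -- general facts about `Fs(a₀, a₁)`
  have hsub0 : ∀ {σ : Type} [Finite σ] (a : Fin 2 → MvPowerSeries σ O),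
      (∀ j, MvPowerSeries.constantCoeff (a j) = 0) →
      MvPowerSeries.constantCoeff (Fs.subst a) = 0 := fun a ha0 =>
    Groth.Agent.Lib.Helper63.LT.constantCoeff_subst_zero ha0 hF0
  have hsubeps : ∀ {σ : Type} [Finite σ] (a : Fin 2 → MvPowerSeries σ O),
      (∀ j, MvPowerSeries.constantCoeff (a j) = 0) →
      (∀ j, Groth.Agent.Lib.Helper63.LT.eps π (Nat.card (IsLocalRing.ResidueField O)) 1 (a j) = 0) →
      Groth.Agent.Lib.Helper63.LT.eps π (Nat.card (IsLocalRing.ResidueField O)) 1 (Fs.subst a) = 0 :=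
    fun a ha0 ha => Groth.Agent.Lib.Helper63.LT.eps_subst π _ 1 hq0 hFeps ha0 ha
  have hsublin : ∀ {σ : Type} [Finite σ] (a : Fin 2 → MvPowerSeries σ O),
      (∀ j, MvPowerSeries.constantCoeff (a j) = 0) → ∀ i : σ,
      MvPowerSeries.coeff (Finsupp.single i 1) (Fs.subst a) =
        MvPowerSeries.coeff (Finsupp.single i 1) (a 0) +
          MvPowerSeries.coeff (Finsupp.single i 1) (a 1) := fun a ha0 i =>
    Groth.Agent.Lib.Helper63.LT.coeff_single_subst_two hF0 hFX hFY ha0 i
  have hXeps : ∀ {σ : Type} [Finite σ] (i : σ),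
      Groth.Agent.Lib.Helper63.LT.eps π (Nat.card (IsLocalRing.ResidueField O)) 1
        (MvPowerSeries.X i : MvPowerSeries σ O) = 0 := fun i =>
    Groth.Agent.Lib.Helper63.LT.eps_X π _ hq0 i
  -- vectors of two series
  have hvec0 : ∀ {σ : Type} (u v : MvPowerSeries σ O), MvPowerSeries.constantCoeff u = 0 →
      MvPowerSeries.constantCoeff v = 0 → ∀ j : Fin 2, MvPowerSeries.constantCoeff (![u, v] j) = 0 := by
    intro σ u v hu hv j
    fin_cases j
    · exact hu
    · exact hv
  have hveceps : ∀ {σ : Type} [Finite σ] (u v : MvPowerSeries σ O),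
      Groth.Agent.Lib.Helper63.LT.eps π (Nat.card (IsLocalRing.ResidueField O)) 1 u = 0 →
      Groth.Agent.Lib.Helper63.LT.eps π (Nat.card (IsLocalRing.ResidueField O)) 1 v = 0 → ∀ j : Fin 2,
      Groth.Agent.Lib.Helper63.LT.eps π (Nat.card (IsLocalRing.ResidueField O)) 1 (![u, v] j) = 0 := by
    intro σ _ u v hu hv j
    fin_cases j
    · exact hu
    · exact hv
  have cX : ∀ {σ : Type} (i : σ), MvPowerSeries.constantCoeff (MvPowerSeries.X i : MvPowerSeries σ O) = 0 :=
    fun i => MvPowerSeries.constantCoeff_X i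
  -- associativity
  have hassoc : Fs.subst ![Fs.subst ![(MvPowerSeries.X 0 : MvPowerSeries (Fin 3) O), MvPowerSeries.X 1],
        MvPowerSeries.X 2] =
      Fs.subst ![(MvPowerSeries.X 0 : MvPowerSeries (Fin 3) O),
        Fs.subst ![(MvPowerSeries.X 1 : MvPowerSeries (Fin 3) O), MvPowerSeries.X 2]] := by
    have h01 := hvec0 (MvPowerSeries.X 0 : MvPowerSeries (Fin 3) O) (MvPowerSeries.X 1) (cX 0) (cX 1)
    have h12 := hvec0 (MvPowerSeries.X 1 : MvPowerSeries (Fin 3) O) (MvPowerSeries.X 2) (cX 1) (cX 2)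
    have hL := hvec0 _ (MvPowerSeries.X 2 : MvPowerSeries (Fin 3) O) (hsub0 _ h01) (cX 2)
    have hR := hvec0 (MvPowerSeries.X 0 : MvPowerSeries (Fin 3) O) _ (cX 0) (hsub0 _ h12)
    refine Groth.Agent.Lib.Helper63.LT.lt_unique (σ := Fin 3) hπ (hsub0 _ hL) (hsub0 _ hR) ?_
      (hsubeps _ hL (hveceps _ _ (hsubeps _ h01 (hveceps _ _ (hXeps 0) (hXeps 1))) (hXeps 2)))
      (hsubeps _ hR (hveceps _ _ (hXeps 0) (hsubeps _ h12 (hveceps _ _ (hXeps 1) (hXeps 2)))))
    intro i
    rw [hsublin _ hL, hsublin _ hR]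
    simp only [Matrix.cons_val_zero, Matrix.cons_val_one]
    rw [hsublin _ h01, hsublin _ h12]
    simp only [Matrix.cons_val_zero, Matrix.cons_val_one]
    rw [add_assoc]
  let F : FormalGroup O :=
    { toPowerSeries := Fs
      zero_constantCoeff := hF0
      lin_coeff_X := hFX
      lin_coeff_Y := hFY
      assoc := hassoc }
  refine ⟨F, ⟨?_⟩, ?_, ?_⟩
  · -- commutativity
    have h10 := hvec0 (MvPowerSeries.X 1 : MvPowerSeries (Fin 2) O) (MvPowerSeries.X 0) (cX 1) (cX 0)
    change Fs = Fs.subst ![(MvPowerSeries.X 1 : MvPowerSeries (Fin 2) O), MvPowerSeries.X 0]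
    refine Groth.Agent.Lib.Helper63.LT.lt_unique (σ := Fin 2) hπ hF0 (hsub0 _ h10) ?_ hFeps
      (hsubeps _ h10 (hveceps _ _ (hXeps 1) (hXeps 0)))
    intro i
    rw [hsublin _ h10, hFlin i]
    simp only [Matrix.cons_val_zero, Matrix.cons_val_one]
    rw [Groth.Agent.Lib.Helper63.LT.coeff_single_X, Groth.Agent.Lib.Helper63.LT.coeff_single_X]
    fin_cases i <;> simp
  · exact (Groth.Agent.Lib.Helper63.LT.eps_eq_zero_iff π _ hq0 hF0).mp hFeps
  · intro G hG0 hGX hGY hG
    refine Groth.Agent.Lib.Helper63.LT.lt_unique (σ := Fin 2) hπ hG0 hF0 ?_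
      ((Groth.Agent.Lib.Helper63.LT.eps_eq_zero_iff π _ hq0 hG0).mpr hG) hFeps
    intro i
    rw [hFlin i]
    fin_cases i
    · exact hGX
    · exact hGY

end Groth.Agent.S15049
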