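import Mathlib
import Groth.Statements.S15051
import Groth.Agent.Lib.Helper63.LTApply
-- import your own Groth.Agent.* helpers here

set_option autoImplicit false
universe u
open LubinTate

namespace Groth.Agent.S15051

/-- Let O be a discrete valuation ring with finite residue field of cardinality q, π a uniformizer of O,
and f = πT + T^q ∈ O[[T]]; let F be a one-dimensional formal group law over O for which f is an
endomorphism, f(F(X,Y)) = F(f(X), f(Y)), and g ∈ O[[T]] a power series with zero constant term which
commutes with f, g(f(T)) = f(g(T)). Then g is an endomorphism of F, that is g(F(X,Y)) = F(g(X),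
g(Y)); so α ↦ [α] maps O into the endomorphisms of the Lubin–Tate formal group. (The published
statement is for the ring of integers of a finite extension of ℚ_p or of 𝔽_q((X)); completeness is
not used and any discrete valuation ring with finite residue field is allowed here.) -/
theorem result (O : Type u) [CommRing O] [IsDomain O] [IsDiscreteValuationRing O]
    [Finite (IsLocalRing.ResidueField O)] (π : O) (hπ : Irreducible π) (f : PowerSeries O)
    (hf : f = π • PowerSeries.X + PowerSeries.X ^ Nat.card (IsLocalRing.ResidueField O))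
    (F : FormalGroup O)
    (hF : PowerSeries.subst F.toPowerSeries f =
        MvPowerSeries.subst (fun i : Fin 2 => PowerSeries.subst (MvPowerSeries.X i : MvPowerSeries (Fin 2) O) f) F.toPowerSeries)
    (g : PowerSeries O) (hg0 : g.constantCoeff = 0)
    (hgf : PowerSeries.subst g f = PowerSeries.subst f g) :
    PowerSeries.subst F.toPowerSeries g =
      MvPowerSeries.subst (fun i : Fin 2 => PowerSeries.subst (MvPowerSeries.X i : MvPowerSeries (Fin 2) O) g)
        F.toPowerSeries := by
  subst hf
  have hq0 : Nat.card (IsLocalRing.ResidueField O) ≠ 0 := by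
    have := Groth.Agent.Lib.Helper63.LT.two_le_card (O := O); omega
  have eg := (Groth.Agent.Lib.Helper63.LT.eps_unit_iff π _ hg0).mpr hgf
  have eF := (Groth.Agent.Lib.Helper63.LT.eps_eq_zero_iff π _ hq0 F.zero_constantCoeff).mpr hF
  -- the series `g(X_i)`
  have hX0 : ∀ (i : Fin 2) (j : Unit), MvPowerSeries.constantCoeff
      ((fun _ : Unit => (MvPowerSeries.X i : MvPowerSeries (Fin 2) O)) j) = 0 :=
    fun i _ => MvPowerSeries.constantCoeff_X i
  have ha0 : ∀ i : Fin 2, MvPowerSeries.constantCoeff
      (PowerSeries.subst (MvPowerSeries.X i : MvPowerSeries (Fin 2) O) g) = 0 := fun i =>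
    Groth.Agent.Lib.Helper63.LT.constantCoeff_subst_zero (hX0 i) hg0
  have ha : ∀ i : Fin 2, Groth.Agent.Lib.Helper63.LT.eps π (Nat.card (IsLocalRing.ResidueField O)) 1
      (PowerSeries.subst (MvPowerSeries.X i : MvPowerSeries (Fin 2) O) g) = 0 := fun i =>
    Groth.Agent.Lib.Helper63.LT.eps_subst π _ 1 hq0 eg (hX0 i)
      (fun _ => Groth.Agent.Lib.Helper63.LT.eps_X π _ hq0 i)
  have halin : ∀ i k : Fin 2, MvPowerSeries.coeff (Finsupp.single k 1)
      (PowerSeries.subst (MvPowerSeries.X i : MvPowerSeries (Fin 2) O) g) =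
        if k = i then PowerSeries.coeff 1 g else 0 := by
    intro i k
    change MvPowerSeries.coeff (Finsupp.single k 1)
      (MvPowerSeries.subst (fun _ : Unit => (MvPowerSeries.X i : MvPowerSeries (Fin 2) O)) g) = _
    classical
    rw [Groth.Agent.Lib.Helper63.LT.coeff_single_subst (hX0 i) hg0, Fintype.sum_unique,
      MvPowerSeries.coeff_X]
    change PowerSeries.coeff 1 g * _ = _
    by_cases hki : k = i
    · subst hki; simp
    · rw [if_neg hki, if_neg, mul_zero]
      intro h
      exact hki ((Finsupp.single_left_inj one_ne_zero).mp h)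
  have hF0 : ∀ j : Unit, MvPowerSeries.constantCoeff ((fun _ : Unit => F.toPowerSeries) j) = 0 :=
    fun _ => F.zero_constantCoeff
  refine Groth.Agent.Lib.Helper63.LT.lt_unique (σ := Fin 2) hπ
    (Groth.Agent.Lib.Helper63.LT.constantCoeff_subst_zero hF0 hg0)
    (Groth.Agent.Lib.Helper63.LT.constantCoeff_subst_zero ha0 F.zero_constantCoeff) ?_
    (Groth.Agent.Lib.Helper63.LT.eps_subst π _ 1 hq0 eg hF0 (fun _ => eF))
    (Groth.Agent.Lib.Helper63.LT.eps_subst π _ 1 hq0 eF ha0 ha)
  intro i
  change MvPowerSeries.coeff (Finsupp.single i 1)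
    (MvPowerSeries.subst (fun _ : Unit => F.toPowerSeries) g) = _
  rw [Groth.Agent.Lib.Helper63.LT.coeff_single_subst hF0 hg0, Fintype.sum_unique,
    Groth.Agent.Lib.Helper63.LT.coeff_single_subst ha0 F.zero_constantCoeff, Fin.sum_univ_two,
    F.lin_coeff_X, F.lin_coeff_Y, one_mul, one_mul, halin, halin]
  change PowerSeries.coeff 1 g * _ = _
  fin_cases i
  · simp [F.lin_coeff_X]
  · simp [F.lin_coeff_Y]

end Groth.Agent.S15051
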