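import Mathlib
import Groth.Statements.S15052
import Groth.Agent.Lib.Helper63.LTLog
-- import your own Groth.Agent.* helpers here

set_option autoImplicit false
universe u
open LubinTate

namespace Groth.Agent.S15052

/-- Let O be a discrete valuation ring with finite residue field of cardinality q, π a uniformizer of O,
and f = πT + T^q ∈ O[[T]]; let K be the fraction field of O and F a one-dimensional formal group law
over O for which f is an endomorphism, f(F(X,Y)) = F(f(X), f(Y)). Then there is a unique power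
series ℓ ∈ K[[T]] with zero constant term and linear coefficient 1 such that ℓ(f(T)) = π·ℓ(T); this
logarithm is a homomorphism to the additive formal group, ℓ(F(T,S)) = ℓ(T) + ℓ(S), and it is
O-linear in the sense that ℓ(g(T)) = α·ℓ(T) for every α ∈ O and every series g ∈ O[[T]] with zero
constant term and linear coefficient α commuting with f. (The published statement is for the ring of
integers of a finite extension of ℚ_p; completeness is not used and any discrete valuation ring with
finite residue field is allowed here.) -/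
theorem result (O : Type u) [CommRing O] [IsDomain O] [IsDiscreteValuationRing O]
    [Finite (IsLocalRing.ResidueField O)] (K : Type u) [Field K] [Algebra O K] [IsFractionRing O K]
    (π : O) (hπ : Irreducible π) (f : PowerSeries O)
    (hf : f = π • PowerSeries.X + PowerSeries.X ^ Nat.card (IsLocalRing.ResidueField O))
    (F : FormalGroup O)
    (hF : PowerSeries.subst F.toPowerSeries f =
        MvPowerSeries.subst (fun i : Fin 2 => PowerSeries.subst (MvPowerSeries.X i : MvPowerSeries (Fin 2) O) f) F.toPowerSeries) :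
    ∃ ℓ : PowerSeries K, (ℓ.constantCoeff = 0 ∧ ℓ.coeff 1 = 1 ∧
      PowerSeries.subst (PowerSeries.map (algebraMap O K) f) ℓ = algebraMap O K π • ℓ) ∧
      (∀ ℓ' : PowerSeries K, ℓ'.constantCoeff = 0 → ℓ'.coeff 1 = 1 →
        PowerSeries.subst (PowerSeries.map (algebraMap O K) f) ℓ' = algebraMap O K π • ℓ' → ℓ' = ℓ) ∧
      PowerSeries.subst ((F.toPowerSeries).map (algebraMap O K)) ℓ =
        PowerSeries.subst (MvPowerSeries.X (0 : Fin 2) : MvPowerSeries (Fin 2) K) ℓ +
          PowerSeries.subst (MvPowerSeries.X (1 : Fin 2) : MvPowerSeries (Fin 2) K) ℓ ∧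
      (∀ (α : O) (g : PowerSeries O), g.constantCoeff = 0 → g.coeff 1 = α →
        PowerSeries.subst g f = PowerSeries.subst f g →
        PowerSeries.subst (PowerSeries.map (algebraMap O K) g) ℓ = algebraMap O K α • ℓ) := by
  classical
  subst hf
  have hq : 2 ≤ Nat.card (IsLocalRing.ResidueField O) := Groth.Agent.Lib.Helper63.LT.two_le_card
  have hq0 : Nat.card (IsLocalRing.ResidueField O) ≠ 0 := by omega
  have hφinj : Function.Injective (algebraMap O K) := IsFractionRing.injective O K
  have hπK : ∀ m : ℕ, 2 ≤ m → algebraMap O K π - algebraMap O K π ^ m ≠ 0 := by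
    intro m hm h
    have h1 : algebraMap O K (π - π ^ m) = 0 := by rw [map_sub, map_pow]; exact h
    have h2 : π - π ^ m = 0 := hφinj (h1.trans (map_zero _).symm)
    have h3 := Groth.Agent.Lib.Helper63.LT.hnz hπ m hm 1 (by rw [h2, zero_mul])
    exact one_ne_zero h3
  have hfK : PowerSeries.map (algebraMap O K)
      (π • PowerSeries.X + PowerSeries.X ^ Nat.card (IsLocalRing.ResidueField O)) =
      Groth.Agent.Lib.Helper63.LT.fser (algebraMap O K π) (Nat.card (IsLocalRing.ResidueField O)) := by
    simp only [Groth.Agent.Lib.Helper63.LT.fser, PowerSeries.smul_eq_C_mul, map_add, map_mul,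
      PowerSeries.map_C, PowerSeries.map_X, map_pow]
  -- one variable translation for the linear equation
  have htr : ∀ ℓ : PowerSeries K,
      Groth.Agent.Lib.Helper63.LT.eps (algebraMap O K π) (Nat.card (IsLocalRing.ResidueField O)) 0
        (ℓ : MvPowerSeries Unit K) = 0 ↔
      PowerSeries.subst (PowerSeries.map (algebraMap O K)
        (π • PowerSeries.X + PowerSeries.X ^ Nat.card (IsLocalRing.ResidueField O))) ℓ =
        algebraMap O K π • ℓ := by
    intro ℓ
    rw [hfK, Groth.Agent.Lib.Helper63.LT.eps_zero_iff]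
    rfl
  obtain ⟨ℓ, hℓ0, hℓ1, hℓeps⟩ := Groth.Agent.Lib.Helper63.LT.field_exists (σ := Unit)
    (algebraMap O K π) (Nat.card (IsLocalRing.ResidueField O)) 0 hq hπK (fun _ => (1 : K))
  have hℓ1' : MvPowerSeries.coeff (Finsupp.single () 1) ℓ = 1 := hℓ1 ()
  -- base change of Lubin–Tate series
  have hmapeps : ∀ {σ : Type} [Finite σ] (G : MvPowerSeries σ O),
      Groth.Agent.Lib.Helper63.LT.eps π (Nat.card (IsLocalRing.ResidueField O)) 1 G = 0 →
      Groth.Agent.Lib.Helper63.LT.eps (algebraMap O K π) (Nat.card (IsLocalRing.ResidueField O)) 1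
        (G.map (algebraMap O K)) = 0 := by
    intro σ _ G hG
    have := Groth.Agent.Lib.Helper63.LT.map_eps_general π _ 1 (algebraMap O K) hq0 G
    rw [hG, map_zero, map_one] at this
    exact this.symm
  refine ⟨ℓ, ⟨hℓ0, hℓ1', (htr ℓ).mp hℓeps⟩, ?_, ?_, ?_⟩
  · intro ℓ' h0' h1' he'
    refine Groth.Agent.Lib.Helper63.LT.field_unique (σ := Unit) (algebraMap O K π) _ 0 hq hπK h0' hℓ0 ?_
      ((htr ℓ').mpr he') hℓeps
    intro i
    rw [hℓ1 i]
    exact h1'
  · -- additivity
    have eF := (Groth.Agent.Lib.Helper63.LT.eps_eq_zero_iff π _ hq0 F.zero_constantCoeff).mpr hF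
    have eFK := hmapeps _ eF
    have hFK0 : ∀ j : Unit, MvPowerSeries.constantCoeff
        ((fun _ : Unit => F.toPowerSeries.map (algebraMap O K)) j) = 0 := by
      intro _
      change MvPowerSeries.constantCoeff (MvPowerSeries.map (algebraMap O K) F.toPowerSeries) = 0
      rw [MvPowerSeries.constantCoeff_map, F.zero_constantCoeff, map_zero]
    have hX0 : ∀ (i : Fin 2) (j : Unit), MvPowerSeries.constantCoeff
        ((fun _ : Unit => (MvPowerSeries.X i : MvPowerSeries (Fin 2) K)) j) = 0 :=
      fun i _ => MvPowerSeries.constantCoeff_X i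
    have hXeps : ∀ i : Fin 2, Groth.Agent.Lib.Helper63.LT.eps (algebraMap O K π)
        (Nat.card (IsLocalRing.ResidueField O)) 0
        (PowerSeries.subst (MvPowerSeries.X i : MvPowerSeries (Fin 2) K) ℓ) = 0 := fun i =>
      Groth.Agent.Lib.Helper63.LT.eps_subst _ _ 0 hq0 hℓeps (hX0 i)
        (fun _ => Groth.Agent.Lib.Helper63.LT.eps_X _ _ hq0 i)
    have hXc : ∀ i : Fin 2, MvPowerSeries.constantCoeff
        (PowerSeries.subst (MvPowerSeries.X i : MvPowerSeries (Fin 2) K) ℓ) = 0 := fun i =>
      Groth.Agent.Lib.Helper63.LT.constantCoeff_subst_zero (hX0 i) hℓ0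
    have hXlin : ∀ i k : Fin 2, MvPowerSeries.coeff (Finsupp.single k 1)
        (PowerSeries.subst (MvPowerSeries.X i : MvPowerSeries (Fin 2) K) ℓ) =
          if k = i then 1 else 0 := by
      intro i k
      change MvPowerSeries.coeff (Finsupp.single k 1)
        (MvPowerSeries.subst (fun _ : Unit => (MvPowerSeries.X i : MvPowerSeries (Fin 2) K)) ℓ) = _
      rw [Groth.Agent.Lib.Helper63.LT.coeff_single_subst (hX0 i) hℓ0, Fintype.sum_unique,
        Groth.Agent.Lib.Helper63.LT.coeff_single_X, hℓ1, one_mul]
    refine Groth.Agent.Lib.Helper63.LT.field_unique (σ := Fin 2) (algebraMap O K π) _ 0 hq hπK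
      (Groth.Agent.Lib.Helper63.LT.constantCoeff_subst_zero hFK0 hℓ0)
      (by rw [map_add, hXc, hXc, add_zero]) ?_
      (Groth.Agent.Lib.Helper63.LT.eps_subst _ _ 0 hq0 hℓeps hFK0 (fun _ => eFK))
      (by rw [Groth.Agent.Lib.Helper63.LT.eps_zero_add _ _ hq0, hXeps, hXeps, add_zero])
    intro i
    change MvPowerSeries.coeff (Finsupp.single i 1)
      (MvPowerSeries.subst (fun _ : Unit => F.toPowerSeries.map (algebraMap O K)) ℓ) = _
    rw [Groth.Agent.Lib.Helper63.LT.coeff_single_subst hFK0 hℓ0, Fintype.sum_unique, hℓ1, one_mul,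
      map_add, hXlin, hXlin, MvPowerSeries.coeff_map]
    fin_cases i
    · simp [F.lin_coeff_X]
    · simp [F.lin_coeff_Y]
  · -- O-linearity
    intro α g hg0 hg1 hgf
    have eg := (Groth.Agent.Lib.Helper63.LT.eps_unit_iff π _ hg0).mpr hgf
    have egK := hmapeps (σ := Unit) g eg
    have hgK0 : ∀ j : Unit, MvPowerSeries.constantCoeff
        ((fun _ : Unit => (PowerSeries.map (algebraMap O K) g : PowerSeries K)) j) = 0 := by
      intro _
      change MvPowerSeries.constantCoeff (MvPowerSeries.map (algebraMap O K) g) = 0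
      rw [MvPowerSeries.constantCoeff_map]
      change algebraMap O K (PowerSeries.constantCoeff g) = 0
      rw [hg0, map_zero]
    refine Groth.Agent.Lib.Helper63.LT.field_unique (σ := Unit) (algebraMap O K π) _ 0 hq hπK
      (Groth.Agent.Lib.Helper63.LT.constantCoeff_subst_zero hgK0 hℓ0) ?_ ?_
      (Groth.Agent.Lib.Helper63.LT.eps_subst _ _ 0 hq0 hℓeps hgK0 (fun _ => egK))
      (by rw [Groth.Agent.Lib.Helper63.LT.eps_zero_smul _ _ hq0, hℓeps, smul_zero])
    · rw [MvPowerSeries.smul_eq_C_mul, map_mul, hℓ0, mul_zero]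
    · intro i
      change MvPowerSeries.coeff (Finsupp.single i 1)
        (MvPowerSeries.subst (fun _ : Unit => (PowerSeries.map (algebraMap O K) g : PowerSeries K)) ℓ) = _
      rw [Groth.Agent.Lib.Helper63.LT.coeff_single_subst hgK0 hℓ0, Fintype.sum_unique, hℓ1, one_mul,
        map_smul, hℓ1, smul_eq_mul, mul_one]
      change MvPowerSeries.coeff (Finsupp.single i 1) (MvPowerSeries.map (algebraMap O K) g) = _
      rw [MvPowerSeries.coeff_map]
      change algebraMap O K (PowerSeries.coeff 1 g) = _
      rw [hg1]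

end Groth.Agent.S15052
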