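import Groth.Statements.S15054

set_option autoImplicit false
universe u
open CategoryTheory CategoryTheory.Limits MonoidalCategory CartesianMonoidalCategory MonObj GrpObj AlgebraicGeometry
open BTGrp

namespace Groth.Agent.S15054

variable {S : Scheme.{u}}

/-- Kernels in terms of points. -/
theorem isKernel_iff {N G Q : Over S} [GrpObj Q] (i : N ⟶ G) (q : G ⟶ Q) :
    AlgGrp.IsKernel i q ↔
      (i ≫ q = 1 ∧ ∀ (T : Over S) (a : T ⟶ G), a ≫ q = 1 → ∃! l : T ⟶ N, l ≫ i = a) := by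
  constructor
  · intro h
    refine ⟨?_, ?_⟩
    · rw [Hom.one_def]; exact h.w
    · intro T a ha
      have hw : a ≫ q = toUnit T ≫ η[Q] := by rw [ha, Hom.one_def]
      refine ⟨h.lift a (toUnit T) hw, h.lift_fst _ _ _, ?_⟩
      intro l hl
      apply h.hom_ext
      · rw [hl, h.lift_fst]
      · exact toUnit_unique _ _
  · rintro ⟨hw, hex⟩
    have hw' : i ≫ q = toUnit N ≫ η[Q] := by rw [hw, Hom.one_def]
    have hs : ∀ s : PullbackCone q η[Q], s.fst ≫ q = 1 := by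
      intro s
      rw [s.condition, Hom.one_def]; congr 1; exact toUnit_unique _ _
    refine ⟨⟨hw'⟩, ⟨PullbackCone.IsLimit.mk _ (fun s => (hex s.pt s.fst (hs s)).choose) ?_ ?_ ?_⟩⟩
    · intro s
      exact (hex s.pt s.fst (hs s)).choose_spec.1
    · intro s
      exact toUnit_unique _ _
    · intro s m hm _
      exact (hex s.pt s.fst (hs s)).choose_spec.2 m hm

theorem mono_of_isKernel {N G Q : Over S} [GrpObj Q] {i : N ⟶ G} {q : G ⟶ Q}
    (h : AlgGrp.IsKernel i q) : Mono i := by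
  obtain ⟨hw, hex⟩ := (isKernel_iff i q).mp h
  refine ⟨fun {T} a b hab => ?_⟩
  have h1 : (b ≫ i) ≫ q = 1 := by rw [Category.assoc, hw, MonObj.comp_one]
  obtain ⟨l, _, hl⟩ := hex T (b ≫ i) h1
  rw [hl a hab, hl b rfl]

theorem result {S : Scheme.{u}} (ℓ h : ℕ) [Fact ℓ.Prime] (G : BTGrp.ProBT ℓ S h)
    (i : (t : ℕ) → (G.G 1 ⟶ G.G (t + 1))) (hi0 : i 0 = 𝟙 (G.G 1))
    (hi : ∀ t : ℕ, i (t + 1) = i t ≫ G.incl (t + 1)) (t : ℕ) :
    AlgGrp.IsKernel (i t) ((𝟙 (G.G (t + 1))) ^ ℓ) := by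
  -- for any point `a` of a layer, `a ≫ 𝟙 ^ n = a ^ n`
  have hpow : ∀ (ν n : ℕ) (T : Over S) (a : T ⟶ G.G ν), a ≫ (𝟙 (G.G ν)) ^ n = a ^ n := by
    intro ν n T a
    rw [MonObj.comp_pow, Category.comp_id]
  induction t with
  | zero =>
    rw [isKernel_iff]
    have h0 := (isKernel_iff _ _).mp (G.isKernel 0)
    have hincl : G.incl 0 = 1 := by
      have := h0.1
      rw [hpow, pow_zero, pow_one] at this
      exact this
    have hℓ : (𝟙 (G.G (0 + 1))) ^ ℓ = 1 := by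
      rw [← G.proj_incl 0, hincl, MonObj.comp_one]
    refine ⟨?_, ?_⟩
    · rw [hi0, Category.id_comp]; exact hℓ
    · intro T a _
      refine ⟨a, by rw [hi0]; exact Category.comp_id a, ?_⟩
      intro l hl
      rw [hi0] at hl
      rw [← hl]; exact (Category.comp_id l).symm
  | succ t ih =>
    rw [isKernel_iff] at ih ⊢
    obtain ⟨ih1, ih2⟩ := ih
    have hk := (isKernel_iff _ _).mp (G.isKernel (t + 1))
    have hmono : Mono (G.incl (t + 1)) := mono_of_isKernel (G.isKernel (t + 1))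
    refine ⟨?_, ?_⟩
    · rw [hi, hpow, ← MonObj.pow_comp, ← hpow, ih1, MonObj.one_comp]
    · intro T a ha
      rw [hpow] at ha
      have ha' : a ≫ (𝟙 (G.G (t + 1 + 1))) ^ (ℓ ^ (t + 1)) = 1 := by
        rw [hpow, pow_succ', pow_mul, ha, one_pow]
      obtain ⟨y, hy, hyu⟩ := hk.2 T a ha'
      have hyℓ : y ≫ (𝟙 (G.G (t + 1))) ^ ℓ = 1 := by
        rw [hpow]
        apply hmono.right_cancellation
        rw [MonObj.pow_comp, hy, ha, MonObj.one_comp]
      obtain ⟨z, hz, hzu⟩ := ih2 T y hyℓ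
      refine ⟨z, ?_, ?_⟩
      · show z ≫ i (t + 1) = a
        rw [hi, ← Category.assoc, hz, hy]
      · intro z' hz'
        have hz'' : z' ≫ i (t + 1) = a := hz'
        rw [hi, ← Category.assoc] at hz''
        exact hzu z' (hyu _ hz'')

end Groth.Agent.S15054
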