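import Groth.Statements.S15056
import Mathlib

set_option autoImplicit false
universe u
open scoped TensorProduct
open FrobAlg

namespace Groth.Agent.S15056

section Fwd

variable (p : ℕ) [Fact p.Prime] (R : Type u) [CommRing R] [CharP R p]
  (A : Type u) [CommRing A] [HopfAlgebra R A]

lemma sub_counit_mem (a : A) :
    Bialgebra.counitAlgHom R A (a - algebraMap R A (Bialgebra.counitAlgHom R A a)) = 0 := by
  rw [map_sub, AlgHom.commutes]
  simp

theorem finite_of_height [Algebra.FiniteType R A] (n : ℕ)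
    (h : ∀ a : A, Bialgebra.counitAlgHom R A a = 0 → a ^ p ^ n = 0) : Module.Finite R A := by
  have hint : ∀ a : A, IsIntegral R a := by
    intro a
    have h1 : IsIntegral R (a - algebraMap R A (Bialgebra.counitAlgHom R A a)) := by
      refine IsIntegral.of_pow (pow_pos (Fact.out : p.Prime).pos n) ?_
      rw [h _ (sub_counit_mem R A a)]
      exact isIntegral_zero
    have h2 := h1.add (isIntegral_algebraMap (x := Bialgebra.counitAlgHom R A a))
    rwa [sub_add_cancel] at h2
  have : Algebra.IsIntegral R A := ⟨hint⟩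
  exact Algebra.IsIntegral.finite

variable (K : Type u) [Field K] [Algebra R K]

/-- the counit of the base change. -/
noncomputable def epsK : K ⊗[R] A →ₐ[K] K :=
  Algebra.TensorProduct.lift (Algebra.ofId K K) ((Algebra.ofId R K).comp (Bialgebra.counitAlgHom R A))
    (fun _ _ => Commute.all _ _)

lemma epsK_tmul (c : K) (a : A) :
    epsK R A K (c ⊗ₜ[R] a) = c * algebraMap R K (Bialgebra.counitAlgHom R A a) := by
  simp [epsK]

lemma isNilpotent_sub (n : ℕ)
    (h : ∀ a : A, Bialgebra.counitAlgHom R A a = 0 → a ^ p ^ n = 0) (x : K ⊗[R] A) :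
    IsNilpotent (x - algebraMap K (K ⊗[R] A) (epsK R A K x)) := by
  induction x using TensorProduct.induction_on with
  | zero => simp
  | tmul c a =>
    have h1 : c ⊗ₜ[R] a - algebraMap K (K ⊗[R] A) (epsK R A K (c ⊗ₜ[R] a)) =
        c ⊗ₜ[R] (a - algebraMap R A (Bialgebra.counitAlgHom R A a)) := by
      have h0 : c ⊗ₜ[R] (algebraMap R A (Bialgebra.counitAlgHom R A a)) =
          (c * algebraMap R K (Bialgebra.counitAlgHom R A a)) ⊗ₜ[R] (1 : A) := by
        rw [Algebra.algebraMap_eq_smul_one (Bialgebra.counitAlgHom R A a), TensorProduct.tmul_smul,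
          TensorProduct.smul_tmul', Algebra.smul_def, mul_comm]
      rw [epsK_tmul, TensorProduct.tmul_sub, Algebra.TensorProduct.algebraMap_apply, h0]
      rfl
    rw [h1]
    refine ⟨p ^ n, ?_⟩
    rw [Algebra.TensorProduct.tmul_pow, h _ (sub_counit_mem R A a), TensorProduct.tmul_zero]
  | add x y hx hy =>
    have h1 : x + y - algebraMap K (K ⊗[R] A) (epsK R A K (x + y)) =
        (x - algebraMap K (K ⊗[R] A) (epsK R A K x)) + (y - algebraMap K (K ⊗[R] A) (epsK R A K y)) := by
      rw [map_add, map_add]; ring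
    rw [h1]
    exact (Commute.all _ _).isNilpotent_add hx hy

theorem isLocalRing_of_height (n : ℕ)
    (h : ∀ a : A, Bialgebra.counitAlgHom R A a = 0 → a ^ p ^ n = 0) :
    IsLocalRing (K ⊗[R] A) := by
  have hsurj : Function.Surjective (epsK R A K) := fun c => ⟨algebraMap K _ c, by
    rw [Algebra.TensorProduct.algebraMap_apply, epsK_tmul]; simp⟩
  have hmax : (RingHom.ker (epsK R A K)).IsMaximal :=
    RingHom.ker_isMaximal_of_surjective _ hsurj
  refine IsLocalRing.of_unique_max_ideal ⟨RingHom.ker (epsK R A K), hmax, fun m hm => ?_⟩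
  have hle : RingHom.ker (epsK R A K) ≤ m := by
    intro x hx
    have h1 := isNilpotent_sub p R A K n h x
    rw [(RingHom.mem_ker).1 hx, map_zero, sub_zero] at h1
    obtain ⟨j, hj⟩ := h1
    exact hm.isPrime.mem_of_pow_mem j (hj ▸ m.zero_mem)
  exact (hmax.eq_of_le hm.ne_top hle).symm

end Fwd

section Bwd

variable (R : Type u) [CommRing R] (A : Type u) [CommRing A] [HopfAlgebra R A]

theorem mem_prime_of_local
    (h : ∀ (K : Type u) [Field K] [IsAlgClosed K] [Algebra R K], IsLocalRing (K ⊗[R] A))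
    (a : A) (ha : Bialgebra.counitAlgHom R A a = 0) (q : Ideal A) [q.IsPrime] : a ∈ q := by
  let L := FractionRing (A ⧸ q)
  let K := AlgebraicClosure L
  let ι : A →+* K := (algebraMap L K).comp ((algebraMap (A ⧸ q) L).comp (Ideal.Quotient.mk q))
  let _ : Algebra R K := (ι.comp (algebraMap R A)).toAlgebra
  let g : A →ₐ[R] K := { ι with commutes' := fun r => rfl }
  have hloc : IsLocalRing (K ⊗[R] A) := h K
  let φ : K ⊗[R] A →ₐ[K] K := Algebra.TensorProduct.lift (Algebra.ofId K K) g (fun _ _ => Commute.all _ _)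
  have hφs : Function.Surjective φ := fun c => ⟨algebraMap K _ c, by simp [φ]⟩
  have hes : Function.Surjective (epsK R A K) := fun c => ⟨algebraMap K _ c, by
    rw [Algebra.TensorProduct.algebraMap_apply, epsK_tmul]; simp⟩
  have h1 : RingHom.ker φ = IsLocalRing.maximalIdeal (K ⊗[R] A) :=
    IsLocalRing.eq_maximalIdeal (RingHom.ker_isMaximal_of_surjective _ hφs)
  have h2 : RingHom.ker (epsK R A K) = IsLocalRing.maximalIdeal (K ⊗[R] A) :=
    IsLocalRing.eq_maximalIdeal (RingHom.ker_isMaximal_of_surjective _ hes)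
  have h3 : (1 : K) ⊗ₜ[R] a ∈ RingHom.ker (epsK R A K) := by
    rw [RingHom.mem_ker, epsK_tmul, ha, map_zero, mul_zero]
  rw [h2, ← h1, RingHom.mem_ker] at h3
  have h4 : ι a = 0 := by
    have : φ ((1 : K) ⊗ₜ[R] a) = ι a := by simp [φ, g]
    rw [← this, h3]
  have h5 : (algebraMap (A ⧸ q) L) (Ideal.Quotient.mk q a) = 0 :=
    (algebraMap L K).injective (by rw [map_zero]; exact h4)
  have h6 : Ideal.Quotient.mk q a = 0 :=
    IsFractionRing.injective (A ⧸ q) L (by rw [map_zero]; exact h5)
  exact Ideal.Quotient.eq_zero_iff_mem.1 h6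

end Bwd

theorem result (p : ℕ) [Fact p.Prime] (R : Type u) [CommRing R] [CharP R p]
    [IsNoetherianRing R] (A : Type u) [CommRing A] [HopfAlgebra R A] [Algebra.FiniteType R A] :
    (∃ n : ℕ, ∀ a : A, Bialgebra.counitAlgHom R A a = 0 → a ^ p ^ n = 0) ↔
      (Module.Finite R A ∧ ∀ (K : Type u) [Field K] [IsAlgClosed K] [Algebra R K], IsLocalRing (K ⊗[R] A)) := by
  constructor
  · rintro ⟨n, hn⟩
    refine ⟨finite_of_height p R A n hn, ?_⟩
    intro K _ _ _
    exact isLocalRing_of_height p R A K n hn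
  · rintro ⟨hfin, hloc⟩
    have hnoeth : IsNoetherianRing A := Algebra.FiniteType.isNoetherianRing R A
    obtain ⟨m, hm⟩ := IsNoetherianRing.isNilpotent_nilradical A
    refine ⟨m, fun a ha => ?_⟩
    have hmem : a ∈ nilradical A := by
      rw [nilradical_eq_sInf, Ideal.mem_sInf]
      intro q hq
      have : q.IsPrime := hq
      exact mem_prime_of_local R A hloc a ha q
    have h1 : a ^ m = 0 := by
      have : a ^ m ∈ nilradical A ^ m := Ideal.pow_mem_pow hmem m
      rw [hm] at this
      exact (Ideal.mem_bot).1 this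
    have h2 : m ≤ p ^ m := (Nat.lt_pow_self (Fact.out : p.Prime).one_lt).le
    exact pow_eq_zero_of_le h2 h1

end Groth.Agent.S15056
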