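import Mathlib
import Groth.Statements.S15060
import Groth.Agent.Lib.Helper63.LTApply
-- import your own Groth.Agent.* helpers here

set_option autoImplicit false
universe u
open LubinTate

namespace Groth.Agent.S15060

/-- Let O be a discrete valuation ring with finite residue field of cardinality q, π a uniformizer of O,
f = πT + T^q ∈ O[[T]], and F a one-dimensional formal group law over O for which f is an
endomorphism, f(F(X,Y)) = F(f(X), f(Y)). For α ∈ O write [α] for a power series with zero constant
term and linear coefficient α commuting with f (it is unique). Then for all α, β ∈ O and all such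
series [α], [β], [αβ], [α+β] one has [α]([β](T)) = [αβ](T) and F([α](T), [β](T)) = [α+β](T): the map
α ↦ [α] is a ring homomorphism from O to the endomorphisms of F with their formal-group addition and
composition. (The published statement is for the ring of integers of a finite extension of ℚ_p or of
𝔽_q((X)); completeness is not used and any discrete valuation ring with finite residue field is
allowed here.) -/
theorem result (O : Type u) [CommRing O] [IsDomain O] [IsDiscreteValuationRing O]
    [Finite (IsLocalRing.ResidueField O)] (π : O) (hπ : Irreducible π) (f : PowerSeries O)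
    (hf : f = π • PowerSeries.X + PowerSeries.X ^ Nat.card (IsLocalRing.ResidueField O))
    (F : FormalGroup O)
    (hF : PowerSeries.subst F.toPowerSeries f =
        MvPowerSeries.subst (fun i : Fin 2 => PowerSeries.subst (MvPowerSeries.X i : MvPowerSeries (Fin 2) O) f)
          F.toPowerSeries)
    (α β : O) (gα gβ gαβ gs : PowerSeries O)
    (hα0 : gα.constantCoeff = 0) (hα1 : gα.coeff 1 = α) (hαf : PowerSeries.subst gα f = PowerSeries.subst f gα)
    (hβ0 : gβ.constantCoeff = 0) (hβ1 : gβ.coeff 1 = β) (hβf : PowerSeries.subst gβ f = PowerSeries.subst f gβ)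
    (hαβ0 : gαβ.constantCoeff = 0) (hαβ1 : gαβ.coeff 1 = α * β)
    (hαβf : PowerSeries.subst gαβ f = PowerSeries.subst f gαβ)
    (hs0 : gs.constantCoeff = 0) (hs1 : gs.coeff 1 = α + β) (hsf : PowerSeries.subst gs f = PowerSeries.subst f gs) :
    PowerSeries.subst gβ gα = gαβ ∧ F.toPowerSeries.subst ![gα, gβ] = gs := by
  subst hf
  have hq0 : Nat.card (IsLocalRing.ResidueField O) ≠ 0 := by
    have := Groth.Agent.Lib.Helper63.LT.two_le_card (O := O); omega
  have eα := (Groth.Agent.Lib.Helper63.LT.eps_unit_iff π _ hα0).mpr hαf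
  have eβ := (Groth.Agent.Lib.Helper63.LT.eps_unit_iff π _ hβ0).mpr hβf
  have eαβ := (Groth.Agent.Lib.Helper63.LT.eps_unit_iff π _ hαβ0).mpr hαβf
  have es := (Groth.Agent.Lib.Helper63.LT.eps_unit_iff π _ hs0).mpr hsf
  have eF := (Groth.Agent.Lib.Helper63.LT.eps_eq_zero_iff π _ hq0 F.zero_constantCoeff).mpr hF
  constructor
  · have ha0 : ∀ j : Unit, MvPowerSeries.constantCoeff ((fun _ : Unit => gβ) j) = 0 := fun _ => hβ0
    refine Groth.Agent.Lib.Helper63.LT.lt_unique (σ := Unit) hπ
      (Groth.Agent.Lib.Helper63.LT.constantCoeff_subst_zero ha0 hα0) hαβ0 ?_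
      (Groth.Agent.Lib.Helper63.LT.eps_subst π _ 1 hq0 eα ha0 (fun _ => eβ)) eαβ
    intro i
    change MvPowerSeries.coeff (Finsupp.single i 1) (MvPowerSeries.subst (fun _ : Unit => gβ) gα) = _
    rw [Groth.Agent.Lib.Helper63.LT.coeff_single_subst ha0 hα0, Fintype.sum_unique]
    change PowerSeries.coeff 1 gα * PowerSeries.coeff 1 gβ = PowerSeries.coeff 1 gαβ
    rw [hα1, hβ1, hαβ1]
  · have ha0 : ∀ j : Fin 2, MvPowerSeries.constantCoeff ((![gα, gβ] : Fin 2 → PowerSeries O) j) = 0 := by
      intro j
      fin_cases j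
      · exact hα0
      · exact hβ0
    have ha : ∀ j : Fin 2, Groth.Agent.Lib.Helper63.LT.eps π (Nat.card (IsLocalRing.ResidueField O)) 1
        ((![gα, gβ] : Fin 2 → PowerSeries O) j) = 0 := by
      intro j
      fin_cases j
      · exact eα
      · exact eβ
    refine Groth.Agent.Lib.Helper63.LT.lt_unique (σ := Unit) hπ
      (Groth.Agent.Lib.Helper63.LT.constantCoeff_subst_zero ha0 F.zero_constantCoeff) hs0 ?_
      (Groth.Agent.Lib.Helper63.LT.eps_subst π _ 1 hq0 eF ha0 ha) es
    intro i
    rw [Groth.Agent.Lib.Helper63.LT.coeff_single_subst ha0 F.zero_constantCoeff, Fin.sum_univ_two,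
      F.lin_coeff_X, F.lin_coeff_Y, one_mul, one_mul]
    change PowerSeries.coeff 1 gα + PowerSeries.coeff 1 gβ = PowerSeries.coeff 1 gs
    rw [hα1, hβ1, hs1]

end Groth.Agent.S15060
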