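import Groth.Statements.S15062
import Mathlib.RingTheory.Bialgebra.Hom
import Mathlib.RingTheory.Etale.Basic
import Mathlib.RingTheory.Henselian
import Mathlib.RingTheory.HopfAlgebra.Basic
import Mathlib.RingTheory.Unramified.Finite
import Mathlib.Tactic

set_option autoImplicit false
universe u
open scoped TensorProduct
open Hopf

namespace Groth.Agent.S15062

open TensorProduct

theorem idempotent_eq_zero_or_one {T : Type*} [CommRing T] [IsLocalRing T] {u : T}
    (hu : IsIdempotentElem u) : u = 0 ∨ u = 1 := by
  have h0 : u * (1 - u) = 0 := by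
    have : u * u = u := hu
    linear_combination -this
  rcases IsLocalRing.isUnit_or_isUnit_one_sub_self u with h | h
  · right
    have := (h.mul_right_eq_zero).mp h0
    exact (sub_eq_zero.mp this).symm
  · left
    exact (h.mul_left_eq_zero).mp h0

/-- Two algebra maps from an unramified algebra to a local ring which agree modulo a proper ideal
are equal. -/
theorem algHom_eq_of_unramified {R C T : Type*} [CommRing R] [CommRing C] [CommRing T] [Algebra R C]
    [Algebra R T] [Algebra.FormallyUnramified R C] [Algebra.EssFiniteType R C] [IsLocalRing T]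
    (J : Ideal T) (hJ : J ≠ ⊤) (f₁ f₂ : C →ₐ[R] T) (h : ∀ c, f₁ c - f₂ c ∈ J) : f₁ = f₂ := by
  set t := Algebra.FormallyUnramified.elem R C with ht
  have ht1 : ∀ c : C, ((1 : C) ⊗ₜ[R] c - c ⊗ₜ[R] (1 : C)) * t = 0 :=
    Algebra.FormallyUnramified.one_tmul_sub_tmul_one_mul_elem
  have ht2 : Algebra.TensorProduct.lmul' R t = 1 := Algebra.FormallyUnramified.lmul_elem
  let F : C ⊗[R] C →ₐ[R] T := Algebra.TensorProduct.lift f₁ f₂ (fun x y => Commute.all _ _)
  have hF : ∀ x y, F (x ⊗ₜ y) = f₁ x * f₂ y := fun x y => by
    simp [F]
  -- `F t ≡ 1` modulo `J`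
  have hmod : ∀ z : C ⊗[R] C, F z - f₁ (Algebra.TensorProduct.lmul' R z) ∈ J := by
    intro z
    induction z using TensorProduct.induction_on with
    | zero => simp
    | tmul x y =>
      rw [hF, Algebra.TensorProduct.lmul'_apply_tmul, map_mul, ← mul_sub]
      have := J.mul_mem_left (f₁ x) (h y)
      have h2 : f₁ x * (f₂ y - f₁ y) = -(f₁ x * (f₁ y - f₂ y)) := by ring
      rw [h2]
      exact J.neg_mem this
    | add x y hx hy =>
      rw [map_add, map_add, map_add]
      have := J.add_mem hx hy
      convert this using 1
      ring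
  have hFt : F t = 1 := by
    have hidem : IsIdempotentElem (F t) := by
      have h1 : t * (1 - t) = 0 := by
        have hmem : (1 - t) ∈ KaehlerDifferential.ideal R C := by
          rw [KaehlerDifferential.ideal, RingHom.mem_ker, map_sub, map_one, ht2, sub_self]
        rw [← KaehlerDifferential.span_range_eq_ideal] at hmem
        refine Submodule.span_induction (p := fun z _ => t * z = 0) ?_ ?_ ?_ ?_ hmem
        · rintro _ ⟨c, rfl⟩
          rw [mul_comm]
          exact ht1 c
        · exact mul_zero t
        · intro x y _ _ hx hy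
          rw [mul_add, hx, hy, add_zero]
        · intro a x _ hx
          rw [smul_eq_mul, mul_left_comm, hx, mul_zero]
      have h2 : t * t = t := by linear_combination -h1
      change F t * F t = F t
      rw [← map_mul, h2]
    rcases idempotent_eq_zero_or_one hidem with h0 | h1
    · exfalso
      apply hJ
      rw [Ideal.eq_top_iff_one]
      have := hmod t
      rw [h0, ht2, map_one, zero_sub] at this
      simpa using J.neg_mem this
    · exact h1
  apply AlgHom.ext
  intro c
  have h3 := congrArg F (ht1 c)
  rw [map_mul, map_sub, hF, hF, map_zero, hFt, mul_one, map_one, map_one, one_mul, mul_one] at h3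
  exact (sub_eq_zero.mp h3).symm


/-- Let R be a henselian Noetherian local ring and A a commutative Hopf algebra over R which is finite
and flat as an R-module (a finite flat R-group G = Spec A, not assumed commutative); let e ∈ A be an
idempotent with ε(e) = 1 such that A/(1 − e) is a local ring, so that G⁰ = Spec A/(1 − e) is the
connected component of the unit section, and let B ⊆ A be the subalgebra of functions invariant
under right translation by G⁰: the equaliser of a ↦ (id ⊗ π)(Δ a) and a ↦ a ⊗ 1 into A ⊗_R A/(1 − e)
(so Spec B = G^ét). Then: (2) for every commutative Hopf algebra C over R which is finite étale over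
R (a finite étale R-group H) and every bialgebra homomorphism φ : C → A (a homomorphism G → H), the
image of φ lies in B — the homomorphism factors (necessarily uniquely, A being faithfully flat over
B) through G → G^ét; (3) for every commutative Hopf algebra D over R which is finite and flat over R
and a local ring (a connected finite flat R-group H) and every bialgebra homomorphism ψ : A → D (a
homomorphism H → G), ψ(e) = 1, i.e. ψ kills the ideal (1 − e) and the homomorphism factors
(uniquely) through G⁰ → G. -/
theorem result (R : Type u) [CommRing R] [HenselianLocalRing R] [IsNoetherianRing R]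
    (A : Type u) [CommRing A] [HopfAlgebra R A] [Module.Finite R A] [Module.Flat R A]
    (e : A) (he : IsIdempotentElem e) (hε : Bialgebra.counitAlgHom R A e = 1)
    [IsLocalRing (A ⧸ Ideal.span ({1 - e} : Set A))] :
    (∀ (C : Type u) [CommRing C] [HopfAlgebra R C] [Module.Finite R C] [Algebra.Etale R C] (φ : C →ₐc[R] A) (c : C),
        φ c ∈ (AlgHom.equalizer
          ((Algebra.TensorProduct.map (AlgHom.id R A) (Ideal.Quotient.mkₐ R (Ideal.span ({1 - e} : Set A)))).comp
            (Bialgebra.comulAlgHom R A))
          (Algebra.TensorProduct.includeLeft : A →ₐ[R] A ⊗[R] (A ⧸ Ideal.span ({1 - e} : Set A))))) ∧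
      ∀ (D : Type u) [CommRing D] [HopfAlgebra R D] [Module.Finite R D] [Module.Flat R D] [IsLocalRing D]
        (ψ : A →ₐc[R] D), ψ e = 1 := by
  set I : Ideal A := Ideal.span ({1 - e} : Set A) with hI
  have hεI : ∀ a ∈ I, Bialgebra.counitAlgHom R A a = 0 := by
    intro a ha
    have hle : I ≤ RingHom.ker (Bialgebra.counitAlgHom R A) := by
      refine Ideal.span_le.mpr ?_
      intro x hx
      rw [Set.mem_singleton_iff.mp hx, SetLike.mem_coe, RingHom.mem_ker, map_sub, map_one, hε,
        sub_self]
    exact hle ha
  let εbar : (A ⧸ I) →ₐ[R] R := Ideal.Quotient.liftₐ I (Bialgebra.counitAlgHom R A) hεI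
  have hεbar : ∀ a : A, εbar (Ideal.Quotient.mk I a) = Coalgebra.counit (R := R) a := fun a => rfl
  constructor
  · intro C _ _ _ _ φ c
    rw [AlgHom.mem_equalizer]
    -- the two maps `C → A/I`
    let f₁ : C →ₐ[R] A ⧸ I := (Ideal.Quotient.mkₐ R I).comp (φ : C →ₐ[R] A)
    let f₂ : C →ₐ[R] A ⧸ I := (Algebra.ofId R (A ⧸ I)).comp (Bialgebra.counitAlgHom R C)
    have hJ : RingHom.ker εbar ≠ ⊤ := by
      intro htop
      have h1 : (1 : A ⧸ I) ∈ RingHom.ker εbar := htop ▸ Submodule.mem_top
      rw [RingHom.mem_ker, map_one] at h1
      exact one_ne_zero h1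
    have hf : f₁ = f₂ := by
      refine algHom_eq_of_unramified (RingHom.ker εbar) hJ f₁ f₂ ?_
      intro x
      rw [RingHom.mem_ker, map_sub]
      have h1 : εbar (f₁ x) = Coalgebra.counit (R := R) x := by
        change εbar (Ideal.Quotient.mk I (φ x)) = _
        rw [hεbar]
        exact CoalgHomClass.counit_comp_apply φ x
      have h2 : εbar (f₂ x) = Coalgebra.counit (R := R) x := by
        change εbar (algebraMap R (A ⧸ I) (Coalgebra.counit (R := R) x)) = _
        rw [AlgHom.commutes]
        rfl
      rw [h1, h2, sub_self]
    change (Algebra.TensorProduct.map (AlgHom.id R A) (Ideal.Quotient.mkₐ R I))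
      (Coalgebra.comul (R := R) (φ c)) = (φ c) ⊗ₜ[R] (1 : A ⧸ I)
    rw [← CoalgHomClass.map_comp_comul_apply φ c]
    have h4 : ∀ z : C ⊗[R] C, (Algebra.TensorProduct.map (AlgHom.id R A) (Ideal.Quotient.mkₐ R I))
        (TensorProduct.map (φ : C →ₗ[R] A) (φ : C →ₗ[R] A) z)
        = TensorProduct.map (φ : C →ₗ[R] A) (Algebra.linearMap R (A ⧸ I))
          ((Coalgebra.counit (R := R) (A := C)).lTensor C z) := by
      intro z
      induction z using TensorProduct.induction_on with
      | zero => simp
      | tmul x y =>
        have : f₁ y = f₂ y := by rw [hf]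
        simp only [TensorProduct.map_tmul, Algebra.TensorProduct.map_tmul, LinearMap.lTensor_tmul,
          AlgHom.coe_id, id_eq]
        congr 1
      | add x y hx hy => simp only [map_add, hx, hy]
    rw [h4, Coalgebra.lTensor_counit_comul]
    simp
  · intro D _ _ _ _ _ ψ
    have hidem : IsIdempotentElem (ψ e) := he.map ψ
    rcases idempotent_eq_zero_or_one hidem with h0 | h1
    · exfalso
      have h1 : Coalgebra.counit (R := R) (ψ e) = (1 : R) := by
        rw [CoalgHomClass.counit_comp_apply ψ e]
        exact hε
      rw [h0, map_zero] at h1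
      exact zero_ne_one h1
    · exact h1

end Groth.Agent.S15062
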