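import Groth.Statements.S15067
import Mathlib
import Groth.Agent.Lib.Helper86.HopfInv

set_option autoImplicit false
universe u
open scoped TensorProduct
open Hopf

namespace Groth.Agent.S15067


open WithConv Groth.Agent.Lib.Helper86.HopfInv

theorem isLocalRing_of_exact {A A'' : Type*} [CommRing A] [CommRing A''] [Algebra A'' A]
    [Algebra.IsIntegral A'' A] [IsLocalRing A''] (I'' : Ideal A'') (hI'' : I'' ≠ ⊤)
    [IsLocalRing (A ⧸ I''.map (algebraMap A'' A))] : IsLocalRing A := by
  set J : Ideal A := I''.map (algebraMap A'' A) with hJ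
  have : Nontrivial A := (Ideal.Quotient.mk J).domain_nontrivial
  have hM : (Ideal.comap (Ideal.Quotient.mk J) (IsLocalRing.maximalIdeal (A ⧸ J))).IsMaximal :=
    Ideal.comap_isMaximal_of_surjective _ Ideal.Quotient.mk_surjective
  apply IsLocalRing.of_unique_max_ideal
  refine ⟨_, hM, ?_⟩
  intro 𝔫 h𝔫
  have h1 : (𝔫.comap (algebraMap A'' A)).IsMaximal :=
    Ideal.isMaximal_comap_of_isIntegral_of_isMaximal 𝔫
  have h2 : I'' ≤ 𝔫.comap (algebraMap A'' A) := by
    rw [IsLocalRing.eq_maximalIdeal h1]
    exact IsLocalRing.le_maximalIdeal hI''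
  have h3 : J ≤ 𝔫 := by
    rw [hJ, Ideal.map_le_iff_le_comap]; exact h2
  have h4 : 𝔫 ≤ Ideal.comap (Ideal.Quotient.mk J) (IsLocalRing.maximalIdeal (A ⧸ J)) := by
    intro x hx
    rw [Ideal.mem_comap, IsLocalRing.mem_maximalIdeal, mem_nonunits_iff]
    intro hu
    obtain ⟨y, hy⟩ := hu.exists_right_inv
    obtain ⟨y, rfl⟩ := Ideal.Quotient.mk_surjective y
    have h5 : x * y - 1 ∈ J := by
      rw [← Ideal.Quotient.eq, map_mul, map_one]; exact hy
    have h6 : (1 : A) ∈ 𝔫 := by
      have : (1 : A) = x * y - (x * y - 1) := by ring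
      rw [this]
      exact Ideal.sub_mem _ (Ideal.mul_mem_right _ _ hx) (h3 h5)
    exact h𝔫.ne_top ((Ideal.eq_top_iff_one _).mpr h6)
  exact h𝔫.eq_of_le hM.ne_top h4

section
variable {R : Type u} [CommRing R] {A A'' : Type u} [CommRing A] [HopfAlgebra R A]
    [CommRing A''] [HopfAlgebra R A''] [Algebra A'' A] [IsScalarTower R A'' A]

noncomputable def inL : A →ₐ[R] A ⊗[A''] A := Algebra.TensorProduct.includeLeft

noncomputable def inR : A →ₐ[R] A ⊗[A''] A :=
  (Algebra.TensorProduct.includeRight : A →ₐ[A''] A ⊗[A''] A).restrictScalars R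

noncomputable def beta : A →ₐ[R] A ⊗[A''] A :=
  (toConv ((inL (R := R) (A'' := A'')).comp (HopfAlgebra.antipodeAlgHom R A)) *
    toConv (inR (R := R) (A'' := A''))).ofConv

theorem inL_comp_phi : (inL (R := R) (A'' := A'')).comp (IsScalarTower.toAlgHom R A'' A) =
    (inR (R := R) (A'' := A'')).comp (IsScalarTower.toAlgHom R A'' A) := by
  ext c
  simp only [AlgHom.comp_apply, inL, inR, IsScalarTower.coe_toAlgHom', AlgHom.restrictScalars_apply,
    Algebra.TensorProduct.includeLeft_apply, Algebra.TensorProduct.includeRight_apply]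
  rw [Algebra.algebraMap_eq_smul_one, TensorProduct.smul_tmul, ]

end

section
variable {R : Type u} [CommRing R] {A A'' : Type u} [CommRing A] [HopfAlgebra R A]
    [CommRing A''] [HopfAlgebra R A''] [Algebra A'' A] [IsScalarTower R A'' A]
    (hΔ : (Bialgebra.comulAlgHom R A).comp (IsScalarTower.toAlgHom R A'' A) =
      (Algebra.TensorProduct.map (IsScalarTower.toAlgHom R A'' A) (IsScalarTower.toAlgHom R A'' A)).comp
        (Bialgebra.comulAlgHom R A''))
    (hε : (Bialgebra.counitAlgHom R A).comp (IsScalarTower.toAlgHom R A'' A) = Bialgebra.counitAlgHom R A'')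

include hΔ hε in
theorem beta_comp_phi : (beta (R := R) (A'' := A'')).comp (IsScalarTower.toAlgHom R A'' A) =
    (Algebra.ofId R (A ⊗[A''] A)).comp (Bialgebra.counitAlgHom R A'') := by
  let φc : A'' →ₐc[R] A := BialgHom.ofAlgHom (IsScalarTower.toAlgHom R A'' A) hε hΔ.symm
  have hφc : (φc : A'' →ₐ[R] A) = IsScalarTower.toAlgHom R A'' A := rfl
  have h1 := AlgHom.convMul_comp_bialgHom_distrib
    (toConv ((inL (R := R) (A'' := A'')).comp (HopfAlgebra.antipodeAlgHom R A)))
    (toConv (inR (R := R) (A'' := A''))) φc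
  have h2 := AlgHom.convMul_comp_bialgHom_distrib
    (toConv ((inL (R := R) (A'' := A'')).comp (HopfAlgebra.antipodeAlgHom R A)))
    (toConv (inL (R := R) (A'' := A''))) φc
  rw [hφc] at h1 h2
  simp only [ofConv_toConv] at h1 h2
  unfold beta
  rw [h1, ← inL_comp_phi, ← h2, conv_antipode_mul, AlgHom.convOne_def, ofConv_toConv,
    AlgHom.comp_assoc, hε]

end

section
variable {R : Type u} [CommRing R] {A A'' : Type u} [CommRing A] [HopfAlgebra R A]
    [CommRing A''] [HopfAlgebra R A''] [Algebra A'' A] [IsScalarTower R A'' A]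
    (hΔ : (Bialgebra.comulAlgHom R A).comp (IsScalarTower.toAlgHom R A'' A) =
      (Algebra.TensorProduct.map (IsScalarTower.toAlgHom R A'' A) (IsScalarTower.toAlgHom R A'' A)).comp
        (Bialgebra.comulAlgHom R A''))
    (hε : (Bialgebra.counitAlgHom R A).comp (IsScalarTower.toAlgHom R A'' A) = Bialgebra.counitAlgHom R A'')

include hΔ hε in
theorem beta_mem_J (a : A)
    (ha : a ∈ (RingHom.ker (Bialgebra.counitAlgHom R A'')).map (algebraMap A'' A)) :
    beta (R := R) (A'' := A'') a = 0 := by
  have hle : (RingHom.ker (Bialgebra.counitAlgHom R A'')).map (algebraMap A'' A) ≤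
      RingHom.ker (beta (R := R) (A'' := A'')) := by
    rw [Ideal.map_le_iff_le_comap]
    intro c hc
    rw [Ideal.mem_comap, RingHom.mem_ker]
    have h1 := DFunLike.congr_fun (beta_comp_phi hΔ hε) c
    rw [AlgHom.comp_apply, AlgHom.comp_apply, (RingHom.mem_ker).mp hc, map_zero] at h1
    exact h1
  exact (RingHom.mem_ker).mp (hle ha)

/-- `β̄ : A/J → A ⊗_{A''} A`. -/
noncomputable def betaBar :
    (A ⧸ (RingHom.ker (Bialgebra.counitAlgHom R A'')).map (algebraMap A'' A)) →ₐ[R] A ⊗[A''] A :=
  Ideal.Quotient.liftₐ _ (beta (R := R) (A'' := A'')) (beta_mem_J hΔ hε)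

/-- `Θ : A ⊗_R A/J → A ⊗_{A''} A`. -/
noncomputable def Theta :
    A ⊗[R] (A ⧸ (RingHom.ker (Bialgebra.counitAlgHom R A'')).map (algebraMap A'' A)) →ₐ[A]
      A ⊗[A''] A :=
  Algebra.TensorProduct.lift (Algebra.ofId A (A ⊗[A''] A)) (betaBar hΔ hε)
    (fun _ _ => Commute.all _ _)

theorem inR_eq_conv : toConv (inR (R := R) (A := A) (A'' := A'')) =
    toConv (inL (R := R) (A := A) (A'' := A'')) * toConv (beta (R := R) (A := A) (A'' := A'')) := by
  unfold beta
  rw [toConv_ofConv, ← mul_assoc, conv_mul_antipode (inL (R := R) (A'' := A'')), one_mul]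

theorem Theta_surjective : Function.Surjective (Theta hΔ hε) := by
  have hL : ∀ a : A, inL (R := R) (A'' := A'') a ∈ (Theta hΔ hε).range := by
    intro a
    refine ⟨a ⊗ₜ 1, ?_⟩
    simp [Theta, inL, Algebra.ofId_apply, Algebra.TensorProduct.algebraMap_apply]
  have hβ : ∀ b : A, beta (R := R) (A'' := A'') b ∈ (Theta hΔ hε).range := by
    intro b
    refine ⟨1 ⊗ₜ Ideal.Quotient.mk _ b, ?_⟩
    simp [Theta, betaBar, ← Algebra.TensorProduct.one_def]
  have hcomp : ((Theta hΔ hε).restrictScalars R).comp
      (Algebra.TensorProduct.map (AlgHom.id R A) (Ideal.Quotient.mkₐ R _)) =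
      (Algebra.TensorProduct.lmul' R).comp
        (Algebra.TensorProduct.map (inL (R := R) (A'' := A'')) (beta (R := R) (A'' := A''))) := by
    ext a
    · simp [Theta, inL, Algebra.ofId_apply, Algebra.TensorProduct.algebraMap_apply]
    · simp [Theta, betaBar, ← Algebra.TensorProduct.one_def]
  have hR : ∀ b : A, inR (R := R) (A'' := A'') b ∈ (Theta hΔ hε).range := by
    intro b
    have h1 : inR (R := R) (A'' := A'') b =
        (toConv (inL (R := R) (A'' := A'')) * toConv (beta (R := R) (A'' := A''))).ofConv b := by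
      rw [← inR_eq_conv]
    rw [h1, AlgHom.convMul_def]
    simp only [ofConv_toConv]
    rw [← AlgHom.comp_assoc, ← hcomp]
    exact ⟨_, rfl⟩
  intro x
  rw [← AlgHom.mem_range]
  induction x using TensorProduct.induction_on with
  | zero => exact Subalgebra.zero_mem _
  | add x y hx hy => exact Subalgebra.add_mem _ hx hy
  | tmul a b =>
    have : a ⊗ₜ[A''] b = inL (R := R) (A'' := A'') a * inR (R := R) (A'' := A'') b := by
      simp [inL, inR]
    rw [this]
    exact Subalgebra.mul_mem _ (hL a) (hR b)

end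

section
variable {R : Type u} [CommRing R] {A A'' : Type u} [CommRing A] [HopfAlgebra R A]
    [CommRing A''] [HopfAlgebra R A''] [Algebra A'' A] [IsScalarTower R A'' A]
    (hΔ : (Bialgebra.comulAlgHom R A).comp (IsScalarTower.toAlgHom R A'' A) =
      (Algebra.TensorProduct.map (IsScalarTower.toAlgHom R A'' A) (IsScalarTower.toAlgHom R A'' A)).comp
        (Bialgebra.comulAlgHom R A''))
    (hε : (Bialgebra.counitAlgHom R A).comp (IsScalarTower.toAlgHom R A'' A) = Bialgebra.counitAlgHom R A'')

include hΔ hε in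
theorem etale_of_exact [IsNoetherianRing R] [Module.Finite R A] [Module.Flat R A]
    [Module.FaithfullyFlat A'' A]
    (h1 : Algebra.Etale R A'')
    (h2 : Algebra.Etale R (A ⧸ (RingHom.ker (Bialgebra.counitAlgHom R A'')).map (algebraMap A'' A))) :
    Algebra.Etale R A := by
  have u1 : Algebra.FormallyUnramified A
      (A ⊗[R] (A ⧸ (RingHom.ker (Bialgebra.counitAlgHom R A'')).map (algebraMap A'' A))) :=
    inferInstance
  have u2 : Algebra.FormallyUnramified A (A ⊗[A''] A) :=
    Algebra.FormallyUnramified.of_surjective (Theta hΔ hε) (Theta_surjective hΔ hε)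
  have u3 : Algebra.FormallyUnramified A'' A :=
    Algebra.FormallyUnramified.of_formallyUnramified_tensorProduct_of_faithfullyFlat A
  have u4 : Algebra.FormallyUnramified R A := Algebra.FormallyUnramified.comp R A'' A
  have u5 : Algebra.FiniteType R A := inferInstance
  have u6 : Algebra.FinitePresentation R A := Algebra.FinitePresentation.of_finiteType.mp u5
  exact Algebra.Etale.of_formallyUnramified_of_flat

end

/-- Let R be a henselian Noetherian local ring, A and A'' commutative Hopf algebras over R which are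
finite and flat as R-modules (finite flat R-groups G = Spec A, G'' = Spec A''), and A'' → A an
R-algebra homomorphism compatible with the comultiplications and counits (a homomorphism π : G →
G'') making A a faithfully flat A''-module (π faithfully flat). Let J ⊆ A be the ideal generated by
the image of the augmentation ideal of A'', so that G' = Spec A/J is the kernel of π and 1 → G' → G
→ G'' → 1 is an exact sequence of finite flat R-groups. Then: (2) if A'' and A/J are local rings
(G'' and G' connected), A is a local ring (G is connected); (3) if A'' and A/J are étale over R (G''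
and G' finite étale), A is étale over R (G is finite étale). -/
theorem result (R : Type u) [CommRing R] [HenselianLocalRing R] [IsNoetherianRing R]
    (A A'' : Type u) [CommRing A] [HopfAlgebra R A] [Module.Finite R A] [Module.Flat R A]
    [CommRing A''] [HopfAlgebra R A''] [Module.Finite R A''] [Module.Flat R A'']
    [Algebra A'' A] [IsScalarTower R A'' A] [Module.FaithfullyFlat A'' A]
    (hΔ : (Bialgebra.comulAlgHom R A).comp (IsScalarTower.toAlgHom R A'' A) =
      (Algebra.TensorProduct.map (IsScalarTower.toAlgHom R A'' A) (IsScalarTower.toAlgHom R A'' A)).comp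
        (Bialgebra.comulAlgHom R A''))
    (hε : (Bialgebra.counitAlgHom R A).comp (IsScalarTower.toAlgHom R A'' A) = Bialgebra.counitAlgHom R A'') :
    ((IsLocalRing A'' ∧
        IsLocalRing (A ⧸ (RingHom.ker (Bialgebra.counitAlgHom R A'')).map (algebraMap A'' A))) → IsLocalRing A) ∧
      ((Algebra.Etale R A'' ∧
        Algebra.Etale R (A ⧸ (RingHom.ker (Bialgebra.counitAlgHom R A'')).map (algebraMap A'' A))) →
        Algebra.Etale R A) := by
  refine ⟨?_, ?_⟩
  · rintro ⟨h1, h2⟩
    have hInt : Algebra.IsIntegral A'' A := Algebra.IsIntegral.tower_top (R := R)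
    exact isLocalRing_of_exact (A := A) (A'' := A'') (RingHom.ker (Bialgebra.counitAlgHom R A''))
      (RingHom.ker_ne_top _)
  · rintro ⟨h1, h2⟩
    exact etale_of_exact hΔ hε h1 h2

end Groth.Agent.S15067
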