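import Groth.Statements.S15068
import Mathlib

set_option autoImplicit false
universe u
open scoped TensorProduct
open Hopf

namespace Groth.Agent.S15068


theorem isLocalHom_of_isIntegral {S T : Type*} [CommRing S] [CommRing T] [IsLocalRing S]
    [IsLocalRing T] [Algebra S T] [Algebra.IsIntegral S T] : IsLocalHom (algebraMap S T) := by
  have hmax : (IsLocalRing.maximalIdeal T).comap (algebraMap S T) = IsLocalRing.maximalIdeal S :=
    IsLocalRing.eq_maximalIdeal (Ideal.isMaximal_comap_of_isIntegral_of_isMaximal _)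
  constructor
  intro a ha
  by_contra hna
  have h1 : a ∈ IsLocalRing.maximalIdeal S := hna
  rw [← hmax] at h1
  exact h1 ha

/-- key step: a finite unramified local `R`-algebra with an `R`-point: every element is congruent to
a scalar modulo `𝔪_R`. -/
theorem sub_mem_map_maximalIdeal {R B : Type*} [CommRing R] [CommRing B] [IsLocalRing R]
    [IsLocalRing B] [Algebra R B] [Module.Finite R B] [Algebra.FormallyUnramified R B]
    (ε : B →+* R) (hε : ∀ r, ε (algebraMap R B r) = r) (b : B) :
    b - algebraMap R B (ε b) ∈ (IsLocalRing.maximalIdeal R).map (algebraMap R B) := by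
  have : IsLocalHom (algebraMap R B) := isLocalHom_of_isIntegral
  rw [Algebra.FormallyUnramified.map_maximalIdeal]
  rw [IsLocalRing.mem_maximalIdeal, mem_nonunits_iff]
  intro hu
  have h1 := hu.map ε
  rw [map_sub, hε, sub_self] at h1
  exact not_isUnit_zero h1

theorem bijective_of_local_etale_kernel
    {R A A'' : Type u} [CommRing R] [IsLocalRing R] [CommRing A] [Algebra R A] [Module.Finite R A]
    [CommRing A''] [Algebra R A''] [Algebra A'' A] [IsScalarTower R A'' A] [Module.Flat A'' A]
    [IsLocalRing A'']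
    (ε : A →ₐ[R] R) (ε'' : A'' →ₐ[R] R) (hcomp : ∀ x, ε (algebraMap A'' A x) = ε'' x)
    [Algebra.FormallyUnramified R (A ⧸ (RingHom.ker ε'').map (algebraMap A'' A))]
    (e : A) (he : IsIdempotentElem e) (heε : ε e = 1)
    [IsLocalRing (A ⧸ Ideal.span ({1 - e} : Set A))] :
    Function.Bijective (algebraMap A'' (A ⧸ Ideal.span ({1 - e} : Set A))) := by
  set I0 : Ideal A := Ideal.span ({1 - e} : Set A) with hI0
  set J : Ideal A := (RingHom.ker ε'').map (algebraMap A'' A) with hJ
  have hInt : Algebra.IsIntegral A'' A := Algebra.IsIntegral.tower_top (R := R)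
  have hIntQ : Algebra.IsIntegral A'' (A ⧸ I0) := Algebra.IsIntegral.trans (R := A'') A
  have hloc : IsLocalHom (algebraMap A'' (A ⧸ I0)) := isLocalHom_of_isIntegral
  -- injectivity
  have hLocz : IsLocalization.Away e (A ⧸ I0) :=
    IsLocalization.Away.quotient_of_isIdempotentElem he
  have hfl1 : Module.Flat A (A ⧸ I0) := IsLocalization.flat _ (Submonoid.powers e)
  have hfl2 : Module.Flat A'' (A ⧸ I0) := Module.Flat.trans A'' A _
  have hff : Module.FaithfullyFlat A'' (A ⧸ I0) := Module.FaithfullyFlat.of_flat_of_isLocalHom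
  refine ⟨(RingHom.faithfullyFlat_algebraMap_iff.mpr hff).injective, ?_⟩
  -- surjectivity
  -- ε kills J and I0
  have hεJ : J ≤ RingHom.ker ε := by
    rw [hJ, Ideal.map_le_iff_le_comap]
    intro x hx
    rw [Ideal.mem_comap, RingHom.mem_ker, hcomp]
    exact (RingHom.mem_ker).mp hx
  have hεI0 : I0 ≤ RingHom.ker ε := by
    rw [hI0, Ideal.span_le]
    intro x hx
    rw [Set.mem_singleton_iff] at hx
    rw [hx, SetLike.mem_coe, RingHom.mem_ker, map_sub, map_one, heε, sub_self]
  have hεJI : J ⊔ I0 ≤ RingHom.ker ε := sup_le hεJ hεI0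
  have hne : J ⊔ I0 ≠ ⊤ := by
    intro h
    have : (1 : A) ∈ RingHom.ker ε := hεJI (h ▸ Submodule.mem_top)
    rw [RingHom.mem_ker, map_one] at this
    exact one_ne_zero this
  have : Nontrivial (A ⧸ (J ⊔ I0)) := Ideal.Quotient.nontrivial_iff.mpr hne
  have : IsLocalRing (A ⧸ (J ⊔ I0)) :=
    IsLocalRing.of_surjective' (Ideal.Quotient.factor (le_sup_right : I0 ≤ J ⊔ I0))
      (Ideal.Quotient.factor_surjective (le_sup_right : I0 ≤ J ⊔ I0))
  have : Algebra.FormallyUnramified R (A ⧸ (J ⊔ I0)) :=
    Algebra.FormallyUnramified.of_surjective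
      (Ideal.Quotient.factorₐ R (le_sup_left : J ≤ J ⊔ I0))
      (Ideal.Quotient.factor_surjective (le_sup_left : J ≤ J ⊔ I0))
  -- the R-point of Q'
  let ε' : (A ⧸ (J ⊔ I0)) →+* R := Ideal.Quotient.lift (J ⊔ I0) (ε : A →+* R)
    (fun a ha => (RingHom.mem_ker).mp (hεJI ha))
  have hε' : ∀ r, ε' (algebraMap R (A ⧸ (J ⊔ I0)) r) = r := by
    intro r
    have : algebraMap R (A ⧸ (J ⊔ I0)) r = Ideal.Quotient.mk (J ⊔ I0) (algebraMap R A r) := rfl
    rw [this, Ideal.Quotient.lift_mk]
    exact ε.commutes r
  -- the key membership in A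
  have key : ∀ a : A, a - algebraMap R A (ε a) ∈
      (IsLocalRing.maximalIdeal A'').map (algebraMap A'' A) ⊔ I0 := by
    intro a
    have h1 := sub_mem_map_maximalIdeal ε' hε' (Ideal.Quotient.mk (J ⊔ I0) a)
    have h2 : Ideal.Quotient.mk (J ⊔ I0) a - algebraMap R (A ⧸ (J ⊔ I0))
        (ε' (Ideal.Quotient.mk (J ⊔ I0) a)) =
        Ideal.Quotient.mk (J ⊔ I0) (a - algebraMap R A (ε a)) := by
      rw [map_sub, Ideal.Quotient.lift_mk]; rfl
    rw [h2] at h1
    have h3 : (IsLocalRing.maximalIdeal R).map (algebraMap R (A ⧸ (J ⊔ I0))) =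
        ((IsLocalRing.maximalIdeal R).map (algebraMap R A)).map (Ideal.Quotient.mk (J ⊔ I0)) := by
      rw [Ideal.map_map]; rfl
    rw [h3] at h1
    have h4 : a - algebraMap R A (ε a) ∈ ((IsLocalRing.maximalIdeal R).map (algebraMap R A)) ⊔
        (J ⊔ I0) := by
      have := Ideal.mem_comap.mpr h1
      rw [Ideal.comap_map_of_surjective _ Ideal.Quotient.mk_surjective, ← RingHom.ker_eq_comap_bot,
        Ideal.mk_ker] at this
      exact this
    have hmR : (IsLocalRing.maximalIdeal R).map (algebraMap R A'') ≤ IsLocalRing.maximalIdeal A'' := by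
      apply IsLocalRing.le_maximalIdeal
      intro h
      have hle : (IsLocalRing.maximalIdeal R).map (algebraMap R A'') ≤
          (IsLocalRing.maximalIdeal R).comap (ε'' : A'' →+* R) := by
        rw [Ideal.map_le_iff_le_comap]
        intro r hr
        rw [Ideal.mem_comap, Ideal.mem_comap]
        have : (ε'' : A'' →+* R) (algebraMap R A'' r) = r := ε''.commutes r
        rw [this]; exact hr
      rw [h, top_le_iff] at hle
      exact Ideal.comap_ne_top _ (IsLocalRing.maximalIdeal.isMaximal R).ne_top hle
    have hker : RingHom.ker ε'' ≤ IsLocalRing.maximalIdeal A'' :=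
      IsLocalRing.le_maximalIdeal (RingHom.ker_ne_top _)
    have h5 : ((IsLocalRing.maximalIdeal R).map (algebraMap R A)) ⊔ (J ⊔ I0) ≤
        (IsLocalRing.maximalIdeal A'').map (algebraMap A'' A) ⊔ I0 := by
      refine sup_le ?_ (sup_le ?_ le_sup_right)
      · rw [IsScalarTower.algebraMap_eq R A'' A, ← Ideal.map_map]
        exact le_sup_of_le_left (Ideal.map_mono hmR)
      · exact le_sup_of_le_left (Ideal.map_mono hker)
    exact h5 h4
  -- Nakayama
  have hfinQ : Module.Finite A'' (A ⧸ I0) := Module.Finite.of_restrictScalars_finite R A'' (A ⧸ I0)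
  have hsurj : Function.Surjective (Algebra.linearMap A'' (A ⧸ I0)) := by
    rw [← LinearMap.range_eq_top, ← top_le_iff]
    apply Submodule.le_of_le_smul_of_le_jacobson_bot Module.Finite.fg_top
      (IsLocalRing.maximalIdeal_le_jacobson _)
    rw [Ideal.smul_top_eq_map]
    rintro x -
    obtain ⟨a, rfl⟩ := Ideal.Quotient.mk_surjective x
    have h1 := key a
    have h2 : Ideal.Quotient.mk I0 (a - algebraMap R A (ε a)) ∈
        (IsLocalRing.maximalIdeal A'').map (algebraMap A'' (A ⧸ I0)) := by
      have := Ideal.mem_map_of_mem (Ideal.Quotient.mk I0) h1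
      rw [Ideal.map_sup, Ideal.map_map, Ideal.map_quotient_self, sup_bot_eq] at this
      exact this
    rw [Submodule.mem_sup]
    refine ⟨Ideal.Quotient.mk I0 (algebraMap R A (ε a)), ?_, _, h2, ?_⟩
    · refine ⟨algebraMap R A'' (ε a), ?_⟩
      rw [Algebra.linearMap_apply, IsScalarTower.algebraMap_apply R A'' A]; rfl
    · rw [map_sub]; ring
  exact hsurj

/-- Let R be a henselian Noetherian local ring, A and A'' commutative Hopf algebras over R which are
finite and flat as R-modules, and A'' → A an R-algebra homomorphism compatible with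
comultiplications and counits making A faithfully flat over A'' (a faithfully flat homomorphism π :
G → G'' of finite flat R-groups); let J ⊆ A be the ideal generated by the image of the augmentation
ideal of A'' (G' = Spec A/J = ker π, so 1 → G' → G → G'' → 1 is exact). Assume A'' is a local ring
(G'' connected) and A/J is étale over R (G' finite étale), and let e ∈ A be an idempotent with ε(e)
= 1 such that A/(1 − e) is local (G⁰ = Spec A/(1 − e), the unit component of G). Then the composite
A'' → A → A/(1 − e) is bijective: the restriction G⁰ → G'' of π is an isomorphism, whose inverse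
splits the extension, G ≅ G' × G''. -/
theorem result (R : Type u) [CommRing R] [HenselianLocalRing R]
    [IsNoetherianRing R] (A A'' : Type u) [CommRing A] [HopfAlgebra R A] [Module.Finite R A] [Module.Flat R A]
    [CommRing A''] [HopfAlgebra R A''] [Module.Finite R A''] [Module.Flat R A'']
    [Algebra A'' A] [IsScalarTower R A'' A] [Module.FaithfullyFlat A'' A]
    (hΔ : (Bialgebra.comulAlgHom R A).comp (IsScalarTower.toAlgHom R A'' A) =
      (Algebra.TensorProduct.map (IsScalarTower.toAlgHom R A'' A) (IsScalarTower.toAlgHom R A'' A)).comp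
        (Bialgebra.comulAlgHom R A''))
    (hε : (Bialgebra.counitAlgHom R A).comp (IsScalarTower.toAlgHom R A'' A) = Bialgebra.counitAlgHom R A'')
    [IsLocalRing A''] [Algebra.Etale R (A ⧸ (RingHom.ker (Bialgebra.counitAlgHom R A'')).map (algebraMap A'' A))]
    (e : A) (he : IsIdempotentElem e) (heε : Bialgebra.counitAlgHom R A e = 1)
    [IsLocalRing (A ⧸ Ideal.span ({1 - e} : Set A))] :
    Function.Bijective ((Ideal.Quotient.mkₐ R (Ideal.span ({1 - e} : Set A))).comp (IsScalarTower.toAlgHom R A'' A)) := by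
  have hcomp : ∀ x, Bialgebra.counitAlgHom R A (algebraMap A'' A x) = Bialgebra.counitAlgHom R A'' x :=
    fun x => DFunLike.congr_fun hε x
  have hb := bijective_of_local_etale_kernel (R := R) (A := A) (A'' := A'')
    (Bialgebra.counitAlgHom R A) (Bialgebra.counitAlgHom R A'') hcomp e he heε
  exact hb

end Groth.Agent.S15068
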