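import Groth.Statements.S15070
import Groth.Agent.Lib.Helper80.NormalSheaf
import Groth.Agent.Lib.Helper49.FinLocFree
import Groth.Agent.Lib.Helper49.FinitePresentation
import Groth.Agent.Lib.Helper73.MCM
import Groth.Agent.S9514
import Groth.Agent.S1535
import Groth.Agent.S0220

set_option autoImplicit false
universe u
open CategoryTheory CategoryTheory.Limits AlgebraicGeometry
open OrdSurf

namespace Groth.Agent.S15070


/-- Let k be an algebraically closed field of characteristic zero and X a smooth projective surface over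
k (an integral k-scheme, smooth over k, of dimension two, admitting a closed immersion over k into
some projective space P^n_k). Let N be a coherent O_X-module all of whose stalks are torsion-free
modules over the local rings, M a finite locally free O_X-module and φ : M → N an epimorphism of
O_X-modules. Then the kernel of φ is a finite locally free O_X-module. -/
theorem result (k : Type u) [Field k] [IsAlgClosed k] [CharZero k]
    (X : Scheme.{u}) [X.Over (Spec (CommRingCat.of k))] [IsIntegral X]
    [Smooth (X ↘ Spec (CommRingCat.of k))] (hdim : topologicalKrullDim X = 2)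
    (hproj : ∃ (n : ℕ) (ι : X ⟶ CohB1.ProjSpace n k), IsClosedImmersion ι ∧
      ι ≫ CohB1.ProjSpace.toSpec n k = X ↘ Spec (CommRingCat.of k))
    (N : X.Modules) (hN : Coh.IsCoh N) (hNtf : TorSh.IsTorsionFree N)
    (M : X.Modules) (hM : FlatMod.IsFinLocFree M) (φ : M ⟶ N) [Epi φ] :
    FlatMod.IsFinLocFree (kernel φ) := by
  haveI : IsLocallyNoetherian X :=
    LocallyOfFiniteType.isLocallyNoetherian (X ↘ Spec (CommRingCat.of k))
  have hMq := Groth.Agent.Lib.Helper49.isQuasicoherent_of_isFinLocFree M hM
  have hMfp := Groth.Agent.Lib.Helper49.isFinitePresentation_of_isFinLocFree M hM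
  have hMc : Coh.IsCoh M := ⟨hMq, inferInstance⟩
  have hKc : Coh.IsCoh (kernel φ) := (Groth.Agent.S9514.result X hMc hN φ).1
  have hKq : (kernel φ).IsQuasicoherent := hKc.1
  rw [Groth.Agent.Lib.Helper49.isFinLocFree_iff_isFinitePresentation_and_free_stalk]
  refine ⟨Groth.Agent.Lib.Helper49.isFinitePresentation_of_isFiniteType_of_noetherian _ hKc.2,
    fun x => ?_⟩
  let S : ShortComplex X.Modules := ShortComplex.mk (kernel.ι φ) φ (kernel.condition φ)
  have hS : S.ShortExact := ShortComplex.ShortExact.mk' (ShortComplex.exact_kernel φ)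
    (inferInstanceAs (Mono (kernel.ι φ))) (inferInstanceAs (Epi φ))
  haveI : IsRegularLocalRing (X.presheaf.stalk x) := Groth.Agent.S1535.result k X x
  haveI : Module.Finite (X.presheaf.stalk x) ((kernel φ).presheaf.stalk x) :=
    Groth.Agent.Lib.Helper12.QuasiFlat.finite_stalk_of_isCoh _ hKc x
  haveI : Module.Finite (X.presheaf.stalk x) (M.presheaf.stalk x) :=
    Groth.Agent.Lib.Helper12.QuasiFlat.finite_stalk_of_isCoh M hMc x
  haveI : Module.Finite (X.presheaf.stalk x) (N.presheaf.stalk x) :=
    Groth.Agent.Lib.Helper12.QuasiFlat.finite_stalk_of_isCoh N hN x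
  haveI : Module.IsTorsionFree (X.presheaf.stalk x) (N.presheaf.stalk x) := hNtf x
  have hMfree := Groth.Agent.Lib.Helper49.free_stalk_of_isFinLocFree M hM x
  apply Groth.Agent.Lib.Helper73.MCM.free_of_le_depth
  have hd := Groth.Agent.Lib.Helper73.RegularNormal.depth_self_of_isRegularLocalRing
    (X.presheaf.stalk x)
  have hs : ((IsLocalRing.maximalIdeal (X.presheaf.stalk x)).spanFinrank : WithBot ℕ∞) =
      ringKrullDim (X.presheaf.stalk x) := IsRegularLocalRing.spanFinrank_maximalIdeal
  have hdR : LocCoh.depth (X.presheaf.stalk x) (X.presheaf.stalk x) =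
      ((IsLocalRing.maximalIdeal (X.presheaf.stalk x)).spanFinrank : ℕ∞) := by
    apply WithBot.coe_injective
    rw [hd, ← hs]; rfl
  have hle : (IsLocalRing.maximalIdeal (X.presheaf.stalk x)).spanFinrank ≤ 2 := by
    have h1 := Groth.Agent.S0220.ringKrullDim_stalk_le_topologicalKrullDim X x
    rw [hdim, ← hs] at h1
    have : (((IsLocalRing.maximalIdeal (X.presheaf.stalk x)).spanFinrank : ℕ∞) : WithBot ℕ∞) ≤
        ((2 : ℕ∞) : WithBot ℕ∞) := h1
    have := WithBot.coe_le_coe.mp this
    exact_mod_cast this
  -- depth of M_x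
  have hMd : LocCoh.depth (X.presheaf.stalk x) (X.presheaf.stalk x) ≤
      LocCoh.idealDepth (IsLocalRing.maximalIdeal (X.presheaf.stalk x)) (M.presheaf.stalk x) := by
    have e : (M.presheaf.stalk x) ≃ₗ[X.presheaf.stalk x]
        (Fin (Module.finrank (X.presheaf.stalk x) (M.presheaf.stalk x)) → X.presheaf.stalk x) :=
      (Module.finBasis _ _).equivFun
    rw [Groth.Agent.Lib.Helper29.idealDepth_congr _ e]
    exact Groth.Agent.Lib.Helper93.Depth.idealDepth_le_pi_fin _ _ _
  have hinj := Groth.Agent.Lib.Helper49.stalkMap_injective_of_mono (kernel.ι φ) x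
  have hex := Groth.Agent.Lib.Helper49.stalkMap_exact_of_shortExact S hS x
  generalize (IsLocalRing.maximalIdeal (X.presheaf.stalk x)).spanFinrank = d at *
  change (d : ℕ∞) ≤ LocCoh.idealDepth (IsLocalRing.maximalIdeal (X.presheaf.stalk x))
    ((kernel φ).presheaf.stalk x)
  interval_cases d
  · exact bot_le
  · refine Groth.Agent.Lib.Helper93.Depth.one_le_idealDepth_of_injective _
      (Groth.Agent.Lib.Helper49.stalkMapLinear (kernel.ι φ) x) hinj ?_
    rw [hdR] at hMd
    exact hMd
  · have hN1 : (1 : ℕ∞) ≤ LocCoh.idealDepth (IsLocalRing.maximalIdeal (X.presheaf.stalk x))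
        (N.presheaf.stalk x) := by
      refine Groth.Agent.Lib.Helper80.NormalSheaf.one_le_depth_of_isTorsionFree _ ?_ _
      rw [← hs]
      exact WithBot.coe_le_coe.mpr (by norm_num)
    rw [hdR] at hMd
    exact Groth.Agent.Lib.Helper93.Depth.two_le_idealDepth_of_exact _
      (Groth.Agent.Lib.Helper49.stalkMapLinear S.f x) (Groth.Agent.Lib.Helper49.stalkMapLinear S.g x)
      hinj hex hMd hN1

end Groth.Agent.S15070
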