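import Groth.Statements.S6876
import Mathlib
import Groth.Agent.Lib.Helper29.DepthRees

set_option autoImplicit false
universe u
open CAlg

namespace Groth.Agent.S6876

open RingTheory.Sequence IsLocalRing
open scoped Pointwise

universe v w

theorem isSMulRegular_hom {R : Type u} [CommRing R] (M : Type v) {N : Type w} [AddCommGroup M]
    [Module R M] [AddCommGroup N] [Module R N] (x : R) (h : IsSMulRegular N x) :
    IsSMulRegular (M →ₗ[R] N) x := by
  intro φ ψ hφψ
  ext m
  exact h (by simpa using LinearMap.congr_fun hφψ m)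

/-- For an `N`-regular element `x`, `Hom(M,N)/x Hom(M,N)` embeds into `Hom(M, N/xN)`. -/
theorem exists_injective_quotSMulTop_hom {R : Type u} [CommRing R] (M : Type v) {N : Type w}
    [AddCommGroup M] [Module R M] [AddCommGroup N] [Module R N] (x : R)
    (h : IsSMulRegular N x) :
    ∃ f : QuotSMulTop x (M →ₗ[R] N) →ₗ[R] (M →ₗ[R] QuotSMulTop x N), Function.Injective f := by
  let c : (M →ₗ[R] N) →ₗ[R] (M →ₗ[R] QuotSMulTop x N) :=
    (Submodule.mkQ (x • (⊤ : Submodule R N))).compRight R
  have hker : LinearMap.ker c ≤ x • (⊤ : Submodule R (M →ₗ[R] N)) := by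
    intro φ hφ
    have hφ' : ∀ m, ∃ n : N, x • n = φ m := by
      intro m
      have h1 : c φ m = 0 := by rw [LinearMap.mem_ker.mp hφ]; rfl
      have h2 : φ m ∈ x • (⊤ : Submodule R N) := (Submodule.Quotient.mk_eq_zero _).mp h1
      obtain ⟨n, -, hn⟩ := (Submodule.mem_smul_pointwise_iff_exists _ _ _).mp h2
      exact ⟨n, hn⟩
    choose ψ hψ using hφ'
    let ψ' : M →ₗ[R] N :=
      { toFun := ψ
        map_add' := fun a b => h (by
          change x • ψ (a + b) = x • (ψ a + ψ b)
          rw [smul_add, hψ, hψ, hψ, map_add])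
        map_smul' := fun r a => h (by
          change x • ψ (r • a) = x • (r • ψ a)
          rw [smul_comm, hψ, hψ, map_smul]) }
    refine (Submodule.mem_smul_pointwise_iff_exists _ _ _).mpr ⟨ψ', trivial, ?_⟩
    ext m
    exact hψ m
  have hle : x • (⊤ : Submodule R (M →ₗ[R] N)) ≤ LinearMap.ker c := by
    intro φ hφ
    obtain ⟨ψ, -, rfl⟩ := (Submodule.mem_smul_pointwise_iff_exists _ _ _).mp hφ
    rw [LinearMap.mem_ker]
    ext m
    change Submodule.Quotient.mk (x • ψ m) = (0 : QuotSMulTop x N)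
    rw [Submodule.Quotient.mk_eq_zero]
    exact (Submodule.mem_smul_pointwise_iff_exists _ _ _).mpr ⟨ψ m, trivial, rfl⟩
  refine ⟨Submodule.liftQ _ c hle, ?_⟩
  rw [← LinearMap.ker_eq_bot, Submodule.ker_liftQ_eq_bot _ _ _ hker]

theorem subsingleton_of_smul_top_eq_top {R : Type u} [CommRing R] [IsLocalRing R] (N : Type w)
    [AddCommGroup N] [Module R N] [Module.Finite R N]
    (h : maximalIdeal R • (⊤ : Submodule R N) = ⊤) : Subsingleton N := by
  have h1 : (⊤ : Submodule R N) = ⊥ :=
    Submodule.eq_bot_of_le_smul_of_le_jacobson_bot (maximalIdeal R) ⊤ Module.Finite.fg_top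
      h.ge (maximalIdeal_le_jacobson _)
  exact (Submodule.subsingleton_iff R).mp ⟨fun a b => by
    have : ∀ c : Submodule R N, c = ⊥ := fun c => le_bot_iff.mp (h1 ▸ le_top)
    rw [this a, this b]⟩


/-- Let `R` be a Noetherian local ring and `M, N` finite `R`-modules. If `N` has depth `≥ 1` then so
does `Hom_R(M, N)`; if `N` has depth `≥ 2` then so does `Hom_R(M, N)`. -/
theorem result (R : Type u) [CommRing R] [IsNoetherianRing R] [IsLocalRing R]
    (M N : Type u) [AddCommGroup M] [Module R M] [Module.Finite R M] [AddCommGroup N] [Module R N] [Module.Finite R N] :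
    (1 ≤ LocCoh.depth R N → 1 ≤ LocCoh.depth R (M →ₗ[R] N)) ∧
    (2 ≤ LocCoh.depth R N → 2 ≤ LocCoh.depth R (M →ₗ[R] N)) := by
  constructor
  · intro h
    have h' : ((1 : ℕ) : ℕ∞) ≤ LocCoh.idealDepth (maximalIdeal R) N := by exact_mod_cast h
    have goalx : ((1 : ℕ) : ℕ∞) ≤ LocCoh.idealDepth (maximalIdeal R) (M →ₗ[R] N) := by
      rw [Groth.Agent.Lib.Helper29.le_idealDepth_iff] at h' ⊢
      rcases h' with h' | ⟨rs, hlen, hmem, hreg⟩
      · left
        have := subsingleton_of_smul_top_eq_top N h'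
        exact Subsingleton.elim _ _
      · right
        obtain ⟨x, rfl⟩ := List.length_eq_one_iff.mp hlen
        refine ⟨[x], rfl, hmem, ?_⟩
        rw [isWeaklyRegular_singleton_iff] at hreg ⊢
        exact isSMulRegular_hom M x hreg
    exact_mod_cast goalx
  · intro h
    have h' : ((2 : ℕ) : ℕ∞) ≤ LocCoh.idealDepth (maximalIdeal R) N := by exact_mod_cast h
    have goalx : ((2 : ℕ) : ℕ∞) ≤ LocCoh.idealDepth (maximalIdeal R) (M →ₗ[R] N) := by
      rw [Groth.Agent.Lib.Helper29.le_idealDepth_iff] at h' ⊢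
      rcases h' with h' | ⟨rs, hlen, hmem, hreg⟩
      · left
        have := subsingleton_of_smul_top_eq_top N h'
        exact Subsingleton.elim _ _
      · right
        obtain ⟨x, y, rfl⟩ := List.length_eq_two.mp hlen
        refine ⟨[x, y], rfl, hmem, ?_⟩
        rw [isWeaklyRegular_cons_iff, isWeaklyRegular_singleton_iff] at hreg ⊢
        obtain ⟨hx, hy⟩ := hreg
        refine ⟨isSMulRegular_hom M x hx, ?_⟩
        obtain ⟨f, hf⟩ := exists_injective_quotSMulTop_hom M x hx
        exact (isSMulRegular_hom M y hy).of_injective f hf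
    exact_mod_cast goalx

end Groth.Agent.S6876
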