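import Groth.Statements.S2090
import Mathlib
import Groth.Agent.Lib.Helper29.DepthRees
import Groth.Agent.S6876

set_option autoImplicit false
universe u
open CAlg

namespace Groth.Agent.S2090

open IsLocalRing RingTheory.Sequence
open scoped Pointwise

/-- An element killed by `P` maps to an element killed by the maximal ideal of `R_P`; more generally
if `P • x` lies in a submodule `W`, then `𝔪 • x/1` lies in the localization of `W` (stated
elementwise). -/
theorem smul_mk_one_of_mem_maximalIdeal {R : Type u} [CommRing R] (P : Ideal R) [P.IsPrime]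
    {X : Type u} [AddCommGroup X] [Module R X] (x : X)
    (a : Localization.AtPrime P) (ha : a ∈ maximalIdeal (Localization.AtPrime P)) :
    ∃ (a₀ : R) (s : P.primeCompl), a₀ ∈ P ∧
      a • (LocalizedModule.mk x 1 : LocalizedModule P.primeCompl X) = LocalizedModule.mk (a₀ • x) s := by
  obtain ⟨⟨a₀, s⟩, rfl⟩ := IsLocalization.mk'_surjective P.primeCompl a
  have ha₀ : a₀ ∈ P := (IsLocalization.AtPrime.mk'_mem_maximal_iff (Localization.AtPrime P) P a₀ s).mp ha
  refine ⟨a₀, s, ha₀, ?_⟩
  change IsLocalization.mk' (Localization.AtPrime P) a₀ s • LocalizedModule.mk x 1 = _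
  rw [← Localization.mk_eq_mk', LocalizedModule.mk_smul_mk, mul_one]

theorem mk_one_eq_zero_iff {R : Type u} [CommRing R] (S : Submonoid R)
    {X : Type u} [AddCommGroup X] [Module R X] (x : X) :
    (LocalizedModule.mk x 1 : LocalizedModule S X) = 0 ↔ ∃ s ∈ S, s • x = 0 := by
  have := IsLocalizedModule.eq_zero_iff S (LocalizedModule.mkLinearMap S X) (m := x)
  rw [LocalizedModule.mkLinearMap_apply] at this
  rw [this]
  constructor
  · rintro ⟨c, hc⟩
    exact ⟨c, c.2, hc⟩
  · rintro ⟨s, hs, h⟩
    exact ⟨⟨s, hs⟩, h⟩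

/-- A nonzero element of `N_P` killed by the maximal ideal shows `P ∈ Ass N`. -/
theorem mem_associatedPrimes_of_socle {R : Type u} [CommRing R] [IsNoetherianRing R] (P : Ideal R)
    [P.IsPrime] {N : Type u} [AddCommGroup N] [Module R N]
    (n : LocalizedModule P.primeCompl N) (hn : n ≠ 0)
    (hkill : ∀ a ∈ maximalIdeal (Localization.AtPrime P), a • n = 0) :
    P ∈ associatedPrimes R N := by
  have h1 : maximalIdeal (Localization.AtPrime P) ∈
      associatedPrimes (Localization.AtPrime P) (LocalizedModule P.primeCompl N) := by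
    rw [AssociatedPrimes.mem_iff, isAssociatedPrime_iff]
    refine ⟨inferInstance, n, ?_⟩
    apply le_antisymm
    · intro a ha
      rw [Submodule.mem_colon_singleton, Submodule.mem_bot]
      exact hkill a ha
    · apply IsLocalRing.le_maximalIdeal
      intro htop
      have : (1 : Localization.AtPrime P) ∈ (⊥ : Submodule (Localization.AtPrime P)
          (LocalizedModule P.primeCompl N)).colon {n} := by rw [htop]; exact Submodule.mem_top
      rw [Submodule.mem_colon_singleton, Submodule.mem_bot, one_smul] at this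
      exact hn this
  have h2 := Module.associatedPrimes.preimage_comap_associatedPrimes_eq_associatedPrimes_of_isLocalizedModule
    P.primeCompl (Localization.AtPrime P) (LocalizedModule.mkLinearMap P.primeCompl N)
  rw [← h2] at h1
  have h3 : (maximalIdeal (Localization.AtPrime P)).comap (algebraMap R (Localization.AtPrime P)) = P :=
    IsLocalization.AtPrime.under_maximalIdeal (Localization.AtPrime P) P
  rw [Set.mem_preimage, h3] at h1
  exact h1

/-- Let `R` be Noetherian and `φ : M → N` a map of `R`-modules with `M` finite. Suppose that for every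
prime `𝔭` either `φ_𝔭` is bijective, or `M_𝔭` has depth at least two and `𝔭` is not an associated
prime of `N`. Then `φ` is bijective. -/
theorem result {R M N : Type u} [CommRing R] [IsNoetherianRing R] [AddCommGroup M]
    [Module R M] [Module.Finite R M] [AddCommGroup N] [Module R N] (φ : M →ₗ[R] N)
    (h : ∀ (p : Ideal R) [p.IsPrime],
      Function.Bijective (LocalizedModule.map p.primeCompl φ) ∨
        (2 ≤ LocCoh.depth (Localization.AtPrime p) (LocalizedModule p.primeCompl M) ∧
          p ∉ associatedPrimes R N)) :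
    Function.Bijective φ := by
  have hinj : Function.Injective φ := by
    rw [← LinearMap.ker_eq_bot, eq_bot_iff]
    intro k hk
    rw [Submodule.mem_bot]
    by_contra hk0
    have hk0' : (⟨k, hk⟩ : LinearMap.ker φ) ≠ 0 := fun h0 => hk0 (congrArg Subtype.val h0)
    obtain ⟨P, hP, -⟩ := exists_le_isAssociatedPrime_of_isNoetherianRing R
      (⟨k, hk⟩ : LinearMap.ker φ) hk0'
    rw [isAssociatedPrime_iff] at hP
    obtain ⟨hPprime, ⟨x, hxker⟩, hPx⟩ := hP
    have hmem : ∀ r : R, r ∈ P ↔ r • x = 0 := by
      intro r
      rw [hPx, Submodule.mem_colon_singleton, Submodule.mem_bot]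
      constructor
      · intro h0; exact congrArg Subtype.val h0
      · intro h0; exact Subtype.ext h0
    -- `x/1 ≠ 0` in `M_P`
    have hx1 : (LocalizedModule.mk x 1 : LocalizedModule P.primeCompl M) ≠ 0 := by
      rw [Ne, mk_one_eq_zero_iff]
      rintro ⟨s, hs, hsx⟩
      exact hs ((hmem s).mpr hsx)
    -- `𝔪 • x/1 = 0`
    have hkill : ∀ a ∈ maximalIdeal (Localization.AtPrime P),
        a • (LocalizedModule.mk x 1 : LocalizedModule P.primeCompl M) = 0 := by
      intro a ha
      obtain ⟨a₀, s, ha₀, h1⟩ := smul_mk_one_of_mem_maximalIdeal P x a ha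
      rw [h1, (hmem a₀).mp ha₀, LocalizedModule.zero_mk]
    rcases h P with hb | ⟨hd, -⟩
    · apply hx1
      apply hb.1
      rw [LocalizedModule.map_mk, LinearMap.mem_ker.mp hxker, LocalizedModule.zero_mk, map_zero]
    · have h' : ((1 : ℕ) : ℕ∞) ≤ LocCoh.idealDepth (maximalIdeal (Localization.AtPrime P))
          (LocalizedModule P.primeCompl M) := by
        have : (1 : ℕ∞) ≤ 2 := by norm_num
        exact_mod_cast this.trans hd
      rw [Groth.Agent.Lib.Helper29.le_idealDepth_iff] at h'
      rcases h' with h' | ⟨rs, hlen, hmemrs, hreg⟩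
      · have := Groth.Agent.S6876.subsingleton_of_smul_top_eq_top
          (LocalizedModule P.primeCompl M) h'
        exact hx1 (Subsingleton.elim _ _)
      · obtain ⟨a, rfl⟩ := List.length_eq_one_iff.mp hlen
        rw [isWeaklyRegular_singleton_iff] at hreg
        apply hx1
        apply hreg
        change a • _ = a • (0 : LocalizedModule P.primeCompl M)
        rw [hkill a (hmemrs a (by simp)), smul_zero]
  refine ⟨hinj, ?_⟩
  rw [← LinearMap.range_eq_top]
  by_contra hne
  have hnt : Nontrivial (N ⧸ LinearMap.range φ) := Submodule.Quotient.nontrivial_iff.mpr hne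
  obtain ⟨P, hP⟩ := associatedPrimes.nonempty R (N ⧸ LinearMap.range φ)
  rw [AssociatedPrimes.mem_iff, isAssociatedPrime_iff] at hP
  obtain ⟨hPprime, xbar, hPx⟩ := hP
  obtain ⟨x, rfl⟩ := Submodule.Quotient.mk_surjective _ xbar
  have hmem : ∀ r : R, r ∈ P ↔ r • x ∈ LinearMap.range φ := by
    intro r
    rw [hPx, Submodule.mem_colon_singleton, Submodule.mem_bot, ← Submodule.Quotient.mk_smul,
      Submodule.Quotient.mk_eq_zero]
  set ψ := LocalizedModule.map P.primeCompl φ with hψ
  have hψinj : Function.Injective ψ := LocalizedModule.map_injective _ φ hinj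
  -- `x/1 ∉ range ψ`
  have hx1 : ∀ m : LocalizedModule P.primeCompl M,
      ψ m ≠ (LocalizedModule.mk x 1 : LocalizedModule P.primeCompl N) := by
    intro m hm
    induction m using LocalizedModule.induction_on with
    | h m s =>
      rw [hψ, LocalizedModule.map_mk, LocalizedModule.mk_eq] at hm
      obtain ⟨u, hu⟩ := hm
      have h1 : ((u : R) * (s : R)) • x ∈ LinearMap.range φ := by
        refine ⟨(u : R) • m, ?_⟩
        rw [map_smul, mul_smul]
        have := hu
        simp only [Submonoid.smul_def, one_smul] at this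
        exact this
      have h2 := (hmem _).mpr h1
      exact (P.primeCompl.mul_mem u.2 s.2) h2
  -- `𝔪 • x/1 ⊆ range ψ`
  have hrange : ∀ a ∈ maximalIdeal (Localization.AtPrime P),
      ∃ m, ψ m = a • (LocalizedModule.mk x 1 : LocalizedModule P.primeCompl N) := by
    intro a ha
    obtain ⟨a₀, s, ha₀, h1⟩ := smul_mk_one_of_mem_maximalIdeal P x a ha
    obtain ⟨m, hm⟩ := (hmem a₀).mp ha₀
    refine ⟨LocalizedModule.mk m s, ?_⟩
    rw [h1, hψ, LocalizedModule.map_mk, hm]
  rcases h P with hb | ⟨hd, hass⟩
  · obtain ⟨m, hm⟩ := hb.2 (LocalizedModule.mk x 1)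
    exact hx1 m hm
  · apply hass
    have h' : ((2 : ℕ) : ℕ∞) ≤ LocCoh.idealDepth (maximalIdeal (Localization.AtPrime P))
        (LocalizedModule P.primeCompl M) := by exact_mod_cast hd
    rw [Groth.Agent.Lib.Helper29.le_idealDepth_iff] at h'
    rcases h' with h' | ⟨rs, hlen, hmemrs, hreg⟩
    · have hss := Groth.Agent.S6876.subsingleton_of_smul_top_eq_top
        (LocalizedModule P.primeCompl M) h'
      refine mem_associatedPrimes_of_socle P (LocalizedModule.mk x 1) ?_ ?_
      · intro h0
        exact hx1 0 (by rw [map_zero, h0])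
      · intro a ha
        obtain ⟨m, hm⟩ := hrange a ha
        rw [← hm, Subsingleton.elim m 0, map_zero]
    · obtain ⟨a, b, rfl⟩ := List.length_eq_two.mp hlen
      rw [isWeaklyRegular_cons_iff, isWeaklyRegular_singleton_iff] at hreg
      obtain ⟨hareg, hbreg⟩ := hreg
      have ham : a ∈ maximalIdeal (Localization.AtPrime P) := hmemrs a (by simp)
      have hbm : b ∈ maximalIdeal (Localization.AtPrime P) := hmemrs b (by simp)
      obtain ⟨m₁, hm₁⟩ := hrange a ham
      obtain ⟨m₂, hm₂⟩ := hrange b hbm
      have h1 : b • m₁ = a • m₂ := by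
        apply hψinj
        rw [map_smul, map_smul, hm₁, hm₂, smul_smul, smul_smul, mul_comm]
      have h2 : (Submodule.Quotient.mk m₁ :
          QuotSMulTop a (LocalizedModule P.primeCompl M)) = 0 := by
        apply hbreg
        change b • (Submodule.Quotient.mk m₁ : QuotSMulTop a (LocalizedModule P.primeCompl M)) =
          b • (0 : QuotSMulTop a (LocalizedModule P.primeCompl M))
        rw [smul_zero, ← Submodule.Quotient.mk_smul, h1, Submodule.Quotient.mk_eq_zero]
        exact (Submodule.mem_smul_pointwise_iff_exists _ _ _).mpr ⟨m₂, trivial, rfl⟩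
      rw [Submodule.Quotient.mk_eq_zero] at h2
      obtain ⟨m₃, -, hm₃⟩ := (Submodule.mem_smul_pointwise_iff_exists _ _ _).mp h2
      refine mem_associatedPrimes_of_socle P (LocalizedModule.mk x 1 - ψ m₃) ?_ ?_
      · intro h0
        exact hx1 m₃ (sub_eq_zero.mp h0).symm
      · have ha0 : a • ((LocalizedModule.mk x 1 : LocalizedModule P.primeCompl N) - ψ m₃) = 0 := by
          rw [smul_sub, ← map_smul, hm₃, hm₁, sub_self]
        intro c hc
        obtain ⟨m₄, hm₄⟩ := hrange c hc
        have h3 : c • ((LocalizedModule.mk x 1 : LocalizedModule P.primeCompl N) - ψ m₃) =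
            ψ (m₄ - c • m₃) := by
          rw [smul_sub, map_sub, map_smul, hm₄]
        rw [h3]
        have h4 : a • (m₄ - c • m₃) = 0 := by
          apply hψinj
          rw [map_smul, ← h3, smul_comm, ha0, smul_zero, map_zero]
        have h5 : m₄ - c • m₃ = 0 := by
          apply hareg
          change a • (m₄ - c • m₃) = a • (0 : LocalizedModule P.primeCompl M)
          rw [h4, smul_zero]
        rw [h5, map_zero]

end Groth.Agent.S2090
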