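import Groth.Statements.S8890
import Groth.Agent.S0045
import Groth.Agent.S2090
import Groth.Agent.Lib.Helper49.StalkNbhd
import Groth.Agent.Lib.Helper45.S1Alg
import Groth.Agent.Lib.Helper45.QCohStalk
import Groth.Agent.Lib.Helper45.FiniteType
import Groth.Agent.Lib.Helper45.AffinePoints
import Groth.Agent.Lib.Helper80.DepthLocalized

set_option autoImplicit false
universe u
open CategoryTheory CategoryTheory.Limits AlgebraicGeometry TopologicalSpace
open SDiv

namespace Groth.Agent.S8890

open Groth.Agent.Lib.Helper45 Groth.Agent.Lib.Helper49 Groth.Agent.Lib.Helper80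

attribute [local instance] stalkModuleSections

/-- The affine-local statement: under the pointwise hypotheses, `φ` is bijective on sections over every
affine open. -/
theorem app_bijective_of_pointwise (X : Scheme.{u}) [IsLocallyNoetherian X] {F G : X.Modules} (φ : F ⟶ G)
    (hF : Coh.IsCoh F) (hG : Coh.IsQCoh G)
    (h : ∀ x : ↥X, Function.Bijective ((TopCat.Presheaf.stalkFunctor AddCommGrpCat.{u} x).map (Scheme.Modules.Hom.mapPresheaf φ)) ∨
      ((2 : ℕ∞) ≤ LocCoh.depth (X.presheaf.stalk x) (F.presheaf.stalk x) ∧ ¬ Curv2.IsAssPoint G x))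
    {W : X.Opens} (hW : IsAffineOpen W) : Function.Bijective (φ.app W) := by
  have hFq : F.IsQuasicoherent := hF.1
  have hGq : G.IsQuasicoherent := hG
  haveI : IsNoetherianRing Γ(X, W) := IsLocallyNoetherian.component_noetherian ⟨W, hW⟩
  haveI : Module.Finite Γ(X, W) Γ(F, W) := finite_sections_of_isCoh hW F hF
  have key := Groth.Agent.S2090.result (R := Γ(X, W)) (M := Γ(F, W)) (N := Γ(G, W)) (Groth.Agent.Lib.Helper49.appₗ φ W) (by
    intro p hp
    obtain ⟨x, hx⟩ := exists_primeIdealOf_eq hW ⟨p, hp⟩
    have hp' : (hW.primeIdealOf x).asIdeal = p := congrArg PrimeSpectrum.asIdeal hx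
    subst hp'
    have hloc := hW.isLocalization_stalk x
    have hlF := isLocalizedModule_germₗ hW F x
    have hlG := isLocalizedModule_germₗ hW G x
    rcases h (x : X) with hb | ⟨hd, hass⟩
    · left
      have heq := stalkMapₗ_eq_map φ hW x
      have hb' : Function.Bijective (stalkMapₗ φ x) := hb
      rw [heq] at hb'
      exact (IsLocalizedModule.map_bijective_iff_localizedModuleMap_bijective
        (germₗ F x) (germₗ G x)).mp hb'
    · right
      refine ⟨?_, ?_⟩
      · rw [← depth_eq_depth_localizedModule (hW.primeIdealOf x).asIdeal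
          (X.presheaf.stalk (x : X)) (germₗ F x)]
        exact hd
      · intro hmem
        apply hass
        exact (maximalIdeal_mem_associatedPrimes_iff (hW.primeIdealOf x).asIdeal
          (X.presheaf.stalk (x : X)) (germₗ G x)).mpr hmem)
  exact key

/-- Let X be a locally Noetherian scheme and φ : F ⟶ G a morphism of quasi-coherent O_X-modules with F
coherent. Assume that for every point x of X either the stalk map F_x → G_x is an isomorphism, or
depth(F_x) ≥ 2 and x is not an associated point of G. Then φ is an isomorphism. -/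
theorem result (X : Scheme.{u}) [IsLocallyNoetherian X] {F G : X.Modules} (φ : F ⟶ G)
    (hF : Coh.IsCoh F) (hG : Coh.IsQCoh G)
    (h : ∀ x : ↥X, Function.Bijective ((TopCat.Presheaf.stalkFunctor AddCommGrpCat.{u} x).map (Scheme.Modules.Hom.mapPresheaf φ)) ∨
      ((2 : ℕ∞) ≤ LocCoh.depth (X.presheaf.stalk x) (F.presheaf.stalk x) ∧ ¬ Curv2.IsAssPoint G x)) :
    IsIso φ := by
  have hFq : F.IsQuasicoherent := hF.1
  have hGq : G.IsQuasicoherent := hG
  apply Groth.Agent.S0045.isIso_of_app_bijective_of_cover
  intro x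
  obtain ⟨_, ⟨W, hW : IsAffineOpen W, rfl⟩, hxW, -⟩ :=
    X.isBasis_affineOpens.exists_subset_of_mem_open (Set.mem_univ x) isOpen_univ
  exact ⟨W, hW, hxW, app_bijective_of_pointwise X φ hF hG h hW⟩

end Groth.Agent.S8890
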