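import Groth.Statements.S8891
import Groth.Agent.S8890

set_option autoImplicit false
universe u
open CategoryTheory CategoryTheory.Limits AlgebraicGeometry TopologicalSpace
open SDiv

namespace Groth.Agent.S8891

/-- On an integral scheme, a point different from the generic point is not associated to a module
with torsion-free stalks. -/
theorem not_isAssPoint_of_ne_genericPoint (X : Scheme.{u}) [IsIntegral X] (G : X.Modules) (x : X)
    (htf : NoZeroSMulDivisors ↑(X.presheaf.stalk x) ↑(G.presheaf.stalk x))
    (hx : x ≠ genericPoint ↥X) : ¬ Curv2.IsAssPoint G x := by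
  intro hass
  obtain ⟨hprime, m, hm⟩ := hass
  -- an open containing the generic point but not `x`
  have hnspec : ¬ (x ⤳ genericPoint ↥X) := by
    intro hsp
    have h1 : genericPoint ↥X ⤳ x := (genericPoint_spec ↥X).specializes (by simp)
    exact hx (hsp.antisymm h1).eq
  rw [specializes_iff_forall_open] at hnspec
  push Not at hnspec
  obtain ⟨U0, hU0, hηU0, hxU0⟩ := hnspec
  obtain ⟨_, ⟨W, hW : IsAffineOpen W, rfl⟩, hxW, -⟩ :=
    X.isBasis_affineOpens.exists_subset_of_mem_open (Set.mem_univ x) isOpen_univ
  have hηW : genericPoint ↥X ∈ W :=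
    ((genericPoint_spec ↥X).mem_open_set_iff W.2).mpr ⟨x, trivial, hxW⟩
  let U : X.Opens := ⟨U0, hU0⟩
  obtain ⟨a, haU, hηa⟩ := hW.exists_basicOpen_le (V := U) ⟨genericPoint ↥X, hηU0⟩ hηW
  have hxa : x ∉ X.basicOpen a := fun h => hxU0 (haU h)
  have ha0 : a ≠ 0 := by
    rintro rfl
    rw [Scheme.basicOpen_zero] at hηa
    exact hηa
  -- the germ of `a` at `x` is a non-zero element of the maximal ideal
  have hgm : X.presheaf.germ W x hxW a ∈ IsLocalRing.maximalIdeal (X.presheaf.stalk x) := by
    rw [IsLocalRing.mem_maximalIdeal, mem_nonunits_iff]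
    intro hu
    exact hxa ((X.mem_basicOpen a x hxW).mpr hu)
  rw [hm] at hgm
  obtain ⟨n, hn⟩ := hgm
  rw [Submodule.mem_colon_singleton, Submodule.mem_bot] at hn
  rcases htf.eq_zero_or_eq_zero_of_smul_eq_zero hn with h0 | h0
  · rw [← map_pow] at h0
    have han := germ_injective_of_isIntegral X x hxW (h0.trans (map_zero _).symm)
    haveI : IsDomain Γ(X, W) := by
      haveI : Nonempty W := ⟨⟨x, hxW⟩⟩
      infer_instance
    exact ha0 (eq_zero_of_pow_eq_zero han)
  · subst h0
    have htop : IsLocalRing.maximalIdeal (X.presheaf.stalk x) = ⊤ := by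
      rw [hm, Ideal.radical_eq_top, Ideal.eq_top_iff_one, Submodule.mem_colon_singleton, smul_zero]
      exact Submodule.zero_mem _
    exact hprime.ne_top htop

/-- Let X be an integral locally Noetherian scheme and φ : F ⟶ G a morphism of quasi-coherent
O_X-modules with F coherent and G torsion free. Assume that for every point x either the stalk map
F_x → G_x is an isomorphism, or depth(F_x) ≥ 2 and x is not the generic point of X. Then φ is an
isomorphism. (The published statement allows the second alternative at the generic point as well;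
since the zero module has infinite depth, F = 0 and G = O_X then satisfy every hypothesis while 0 →
O_X is not an isomorphism. The general criterion this is a special case of requires x not to be
associated to G, which for torsion-free G ≠ 0 fails exactly at the generic point; so the generic
point is excluded from the second alternative here.) -/
theorem result (X : Scheme.{u}) [IsIntegral X] [IsLocallyNoetherian X] {F G : X.Modules}
    (φ : F ⟶ G) (hF : Coh.IsCoh F) (hG : Coh.IsQCoh G)
    (htf : ∀ x : ↥X, NoZeroSMulDivisors ↑(X.presheaf.stalk x) ↑(G.presheaf.stalk x))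
    (h : ∀ x : ↥X, Function.Bijective ((TopCat.Presheaf.stalkFunctor AddCommGrpCat.{u} x).map (Scheme.Modules.Hom.mapPresheaf φ)) ∨
      ((2 : ℕ∞) ≤ LocCoh.depth (X.presheaf.stalk x) (F.presheaf.stalk x) ∧ x ≠ genericPoint ↥X)) :
    IsIso φ := by
  apply Groth.Agent.S8890.result X φ hF hG
  intro x
  rcases h x with hb | ⟨hd, hne⟩
  · exact Or.inl hb
  · exact Or.inr ⟨hd, not_isAssPoint_of_ne_genericPoint X G x (htf x) hne⟩

end Groth.Agent.S8891
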