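import Groth.Statements.S15071
import Groth.Agent.S8891
import Groth.Agent.S1535
import Groth.Agent.Lib.Helper73.RegularNormal
import Groth.Agent.Lib.Helper93.DepthHom
import Groth.Agent.Lib.Helper49.FinLocFree
import Groth.Agent.Lib.Helper49.StalkKerCoker
import Groth.Agent.Lib.Helper12.QuasiFlat

set_option autoImplicit false
universe u
open CategoryTheory CategoryTheory.Limits AlgebraicGeometry
open OrdSurf

namespace Groth.Agent.S15071

theorem withBot_enat_two_le_of_not_le_one {d : WithBot ℕ∞} (h : ¬ d ≤ 1) : (2 : WithBot ℕ∞) ≤ d := by
  induction d with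
  | bot => exact absurd bot_le h
  | coe c =>
    have h' : ¬ c ≤ 1 := fun h2 => h (WithBot.coe_le_coe.mpr h2)
    rw [not_le] at h'
    have : (1 : ℕ∞) + 1 ≤ c := Order.add_one_le_of_lt h'
    rw [one_add_one_eq_two] at this
    exact WithBot.coe_le_coe.mpr this



/-- Let k be an algebraically closed field of characteristic zero and X a smooth projective surface over
k (an integral k-scheme, smooth over k, of dimension two, admitting a closed immersion over k into
some projective space P^n_k). Let φ : M → N be a monomorphism between finite locally free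
O_X-modules. Then either φ is an isomorphism, or the support of the cokernel of φ contains a point
of X whose local ring has Krull dimension at most one, i.e. the support has codimension at most one
in X. (The published statement phrases the first alternative as M and N being isomorphic; the
argument shows that the given monomorphism is an isomorphism, which is the form stated here.) -/
theorem result (k : Type u) [Field k] [IsAlgClosed k] [CharZero k]
    (X : Scheme.{u}) [X.Over (Spec (CommRingCat.of k))] [IsIntegral X]
    [Smooth (X ↘ Spec (CommRingCat.of k))] (hdim : topologicalKrullDim X = 2)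
    (hproj : ∃ (n : ℕ) (ι : X ⟶ CohB1.ProjSpace n k), IsClosedImmersion ι ∧
      ι ≫ CohB1.ProjSpace.toSpec n k = X ↘ Spec (CommRingCat.of k))
    (M N : X.Modules) (hM : FlatMod.IsFinLocFree M) (hN : FlatMod.IsFinLocFree N)
    (φ : M ⟶ N) [Mono φ] :
    IsIso φ ∨ ∃ x : X, x ∈ CohB1.support (cokernel φ) ∧ ringKrullDim (X.presheaf.stalk x) ≤ 1 := by
  by_contra hcon
  push Not at hcon
  obtain ⟨hniso, hsupp⟩ := hcon
  apply hniso
  haveI : IsLocallyNoetherian X :=
    LocallyOfFiniteType.isLocallyNoetherian (X ↘ Spec (CommRingCat.of k))
  have hMq := Groth.Agent.Lib.Helper49.isQuasicoherent_of_isFinLocFree M hM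
  have hNq := Groth.Agent.Lib.Helper49.isQuasicoherent_of_isFinLocFree N hN
  have hMfp := Groth.Agent.Lib.Helper49.isFinitePresentation_of_isFinLocFree M hM
  have hMc : Coh.IsCoh M := ⟨hMq, inferInstance⟩
  refine Groth.Agent.S8891.result X φ hMc hNq ?_ ?_
  · intro x
    have := Groth.Agent.Lib.Helper49.free_stalk_of_isFinLocFree N hN x
    refine ⟨fun {c m} hcm => ?_⟩
    by_cases hc : c = 0
    · exact Or.inl hc
    · right
      have hreg : IsSMulRegular (N.presheaf.stalk x) c :=
        Module.IsTorsionFree.isSMulRegular (isRegular_of_ne_zero hc)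
      exact hreg (show c • m = c • (0 : ↑(N.presheaf.stalk x)) by rw [hcm, smul_zero])
  · intro x
    by_cases hx : ringKrullDim (X.presheaf.stalk x) ≤ 1
    · left
      have hsub : Subsingleton ↑((cokernel φ).presheaf.stalk x) := by
        by_contra hns
        exact absurd hx (not_le.mpr (hsupp x hns))
      exact ⟨Groth.Agent.Lib.Helper49.stalkMap_injective_of_mono φ x,
        (Groth.Agent.Lib.Helper49.subsingleton_stalk_cokernel_iff φ x).mp hsub⟩
    · right
      have h2 : (2 : WithBot ℕ∞) ≤ ringKrullDim (X.presheaf.stalk x) :=
        withBot_enat_two_le_of_not_le_one hx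
      constructor
      · have : IsRegularLocalRing (X.presheaf.stalk x) := Groth.Agent.S1535.result k X x
        have hd := Groth.Agent.Lib.Helper73.RegularNormal.depth_self_of_isRegularLocalRing
          (X.presheaf.stalk x)
        rw [← hd] at h2
        have h2' : (2 : ℕ∞) ≤ LocCoh.depth (X.presheaf.stalk x) (X.presheaf.stalk x) :=
          WithBot.coe_le_coe.mp h2
        have := Groth.Agent.Lib.Helper49.free_stalk_of_isFinLocFree M hM x
        have : Module.Finite (X.presheaf.stalk x) (M.presheaf.stalk x) :=
          Groth.Agent.Lib.Helper12.QuasiFlat.finite_stalk_of_isCoh M hMc x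
        let b := Module.Free.chooseBasis (X.presheaf.stalk x) (M.presheaf.stalk x)
        have e : (M.presheaf.stalk x) ≃ₗ[X.presheaf.stalk x]
            (Fin (Module.finrank (X.presheaf.stalk x) (M.presheaf.stalk x)) → X.presheaf.stalk x) :=
          (Module.finBasis _ _).equivFun
        refine h2'.trans ?_
        unfold LocCoh.depth
        rw [Groth.Agent.Lib.Helper29.idealDepth_congr _ e]
        exact Groth.Agent.Lib.Helper93.Depth.idealDepth_le_pi_fin _ _ _
      · intro hgen
        apply hx
        rw [hgen, ringKrullDim_stalk_eq_coheight]
        have : Order.coheight (genericPoint ↥X) = 0 := by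
          change Order.coheight (⊤ : ↥X) = 0
          exact Order.coheight_top _
        rw [this]
        exact zero_le_one

end Groth.Agent.S15071
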