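import Groth.Statements.S15079
import Mathlib
import Groth.Agent.Lib.Helper77.SubstLead

set_option autoImplicit false
universe u v
open MovLem

namespace Groth.Agent.S15079

/-- Let k be an infinite perfect field, r, m ≥ 1, and let f be an irreducible polynomial in t over
k[x_1, …, x_r] whose constant term in t is a unit of k[x_1, …, x_r], so that the hypersurface Z : f
= 0 in affine (r+1)-space with coordinates x_1, …, x_r, t is integral and does not meet the divisor
t = 0 (the modulus condition in cubical degree one). Then there are a nonzero polynomial h in k[x_1,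
…, x_r] and an integer s₀ such that for every s ≥ s₀, every field K over k and every point g of K^r
with h(g) ≠ 0, the translate of Z_K by the automorphism x_i ↦ x_i + t^{s(m+1)} g_i, t ↦ t is finite
and surjective over affine r-space over K: the quotient of K[x_1, …, x_r][t] by the translated
equation is a finitely generated K[x_1, …, x_r]-module and K[x_1, …, x_r] maps injectively into it.
(The published statement allows every nonzero point g of affine r-space; for r = 2 and f = x_1 t − 1
the point g = (0, 1) translates Z to itself, which is not finite over the affine plane, so the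
conclusion is stated here for g in a nonempty open subset h ≠ 0, which is what the published proof
establishes.) -/
theorem result
    {k : Type u} [Field k] [Infinite k] [PerfectField k] (r m : ℕ) (hr : 1 ≤ r) (hm : 1 ≤ m)
    (f : Polynomial (MvPolynomial (Fin r) k)) (hirr : Irreducible f) (h0 : IsUnit (f.coeff 0)) :
    ∃ h : MvPolynomial (Fin r) k, h ≠ 0 ∧ ∃ s₀ : ℕ, ∀ s : ℕ, s₀ ≤ s →
      ∀ (K : Type v) [Field K] [Algebra k K] (g : Fin r → K), MvPolynomial.aeval g h ≠ 0 →
        ∀ F : Polynomial (MvPolynomial (Fin r) K),
          F = Polynomial.eval₂ (MvPolynomial.aeval (fun i : Fin r => Polynomial.C (MvPolynomial.X i) + Polynomial.C (MvPolynomial.C (g i)) * Polynomial.X ^ (s * (m + 1))) : MvPolynomial (Fin r) k →ₐ[k] Polynomial (MvPolynomial (Fin r) K)).toRingHom Polynomial.X f →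
          Module.Finite (MvPolynomial (Fin r) K) (Polynomial (MvPolynomial (Fin r) K) ⧸ Ideal.span {F}) ∧
          Function.Injective ((Ideal.Quotient.mk (Ideal.span {F})).comp (algebraMap (MvPolynomial (Fin r) K) (Polynomial (MvPolynomial (Fin r) K)))) := by
  have hf : f ≠ 0 := hirr.ne_zero
  have hdeg1 : 1 ≤ f.natDegree := by
    by_contra hlt
    have h00 : f.natDegree = 0 := by omega
    have hfC : f = Polynomial.C (f.coeff 0) := Polynomial.eq_C_of_natDegree_eq_zero h00
    have : IsUnit f := by rw [hfC]; exact Polynomial.isUnit_C.mpr h0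
    exact hirr.not_isUnit this
  obtain ⟨h, hh, H⟩ := Groth.Agent.Lib.Helper77.SubstLead.main2 f hf
  refine ⟨h, hh, f.natDegree + 1, ?_⟩
  intro s hs K _ _ g hg F hF
  have hN : f.natDegree + 1 ≤ s * (m + 1) := by nlinarith
  obtain ⟨c, hc, hlead, hnat⟩ := H (s * (m + 1)) hN K g hg
  have hlead' : F.leadingCoeff = MvPolynomial.C c := by rw [hF]; exact hlead
  have hnat' : 1 ≤ F.natDegree := by rw [hF]; exact hdeg1.trans hnat
  have hFne : F ≠ 0 := by
    intro h0; rw [h0] at hnat'; simp at hnat'
  constructor
  · set F' : Polynomial (MvPolynomial (Fin r) K) := Polynomial.C (MvPolynomial.C c⁻¹) * F with hF'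
    have hu : IsUnit (Polynomial.C (MvPolynomial.C c⁻¹) : Polynomial (MvPolynomial (Fin r) K)) := by
      apply Polynomial.isUnit_C.mpr
      exact (IsUnit.mk0 _ (inv_ne_zero hc)).map MvPolynomial.C
    have hmonic : F'.Monic := by
      rw [Polynomial.Monic, hF', Polynomial.leadingCoeff_mul, Polynomial.leadingCoeff_C, hlead',
        ← map_mul, inv_mul_cancel₀ hc, map_one]
    have e : Ideal.span {F} = Ideal.span {F'} := by
      rw [hF', Ideal.span_singleton_mul_left_unit hu]
    rw [e]
    exact hmonic.finite_quotient
  · rw [injective_iff_map_eq_zero]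
    intro a ha
    by_contra hane
    rw [RingHom.comp_apply, Ideal.Quotient.eq_zero_iff_mem, Ideal.mem_span_singleton,
      Polynomial.algebraMap_apply, Algebra.algebraMap_self, RingHom.id_apply] at ha
    have hCa : (Polynomial.C a : Polynomial (MvPolynomial (Fin r) K)) ≠ 0 := by
      rwa [Ne, Polynomial.C_eq_zero]
    have := Polynomial.natDegree_le_of_dvd ha hCa
    rw [Polynomial.natDegree_C] at this
    omega

end Groth.Agent.S15079
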