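import Groth.Statements.S15083
import Mathlib

set_option autoImplicit false
universe u
open MovLem

namespace Groth.Agent.S15083

open Matrix in
theorem weyl_coe {ι F : Type*} [Fintype ι] [DecidableEq ι] [Field F]
    {i j : ι} (hij : i ≠ j) (a : F) (ha : a ≠ 0) :
    (Matrix.SpecialLinearGroup.transvection hij a *
      Matrix.SpecialLinearGroup.transvection hij.symm (-a⁻¹) *
      Matrix.SpecialLinearGroup.transvection hij a : Matrix.SpecialLinearGroup ι F).1 =
    1 - single i i 1 - single j j 1 + single i j a - single j i a⁻¹ := by
  rw [Matrix.SpecialLinearGroup.coe_mul, Matrix.SpecialLinearGroup.coe_mul]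
  simp only [Matrix.SpecialLinearGroup.transvection_coe]
  simp [mul_add, add_mul, single_mul_single_of_ne, hij.symm, ha]
  ext k l
  simp only [Matrix.add_apply, Matrix.sub_apply, single_apply, one_apply]
  split_ifs <;> simp_all <;> ring

open Matrix in
theorem diag2n_decompose {ι F : Type*} [Fintype ι] [DecidableEq ι] [Field F]
    {i j : ι} (hij : i ≠ j) (a : F) (ha : a ≠ 0) :
    Matrix.SpecialLinearGroup.diag2n hij a ha =
      Matrix.SpecialLinearGroup.transvection hij a *
      Matrix.SpecialLinearGroup.transvection hij.symm (-a⁻¹) *
      Matrix.SpecialLinearGroup.transvection hij a *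
      (Matrix.SpecialLinearGroup.transvection hij (-1) *
      Matrix.SpecialLinearGroup.transvection hij.symm 1 *
      Matrix.SpecialLinearGroup.transvection hij (-1)) := by
  apply Subtype.ext
  have h1 := weyl_coe hij a ha
  have h2 := weyl_coe hij (-1 : F) (by simp)
  rw [Matrix.SpecialLinearGroup.coe_mul, h1]
  simp only [inv_neg, inv_one, neg_neg] at h2
  rw [h2]
  rw [Matrix.SpecialLinearGroup.diag2n_coe]
  clear h1 h2
  simp [mul_add, add_mul, mul_sub, sub_mul, single_mul_single_of_ne, hij, hij.symm]
  ext k l
  simp only [Matrix.add_apply, Matrix.sub_apply, Matrix.neg_apply, single_apply, diagonal_apply,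
    one_apply]
  grind

open Matrix in
theorem map_transvection {ι R S : Type*} [Fintype ι] [DecidableEq ι] [CommRing R] [CommRing S]
    (f : R →+* S) {i j : ι} (hij : i ≠ j) (b : R) :
    Matrix.SpecialLinearGroup.map f (Matrix.SpecialLinearGroup.transvection hij b) =
      Matrix.SpecialLinearGroup.transvection hij (f b) := by
  apply Subtype.ext
  ext k l
  simp only [Matrix.SpecialLinearGroup.map_apply_coe, Matrix.SpecialLinearGroup.transvection_coe,
    RingHom.mapMatrix_apply, Matrix.map_apply, Matrix.add_apply, single_apply, one_apply]
  split_ifs <;> simp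

/-- the path predicate -/
def HasPath {K : Type*} [Field K] {n : ℕ} (A : Matrix.SpecialLinearGroup (Fin n) K) : Prop :=
  ∃ M : Matrix.SpecialLinearGroup (Fin n) (Polynomial K),
      Matrix.SpecialLinearGroup.map (Polynomial.evalRingHom (0 : K)) M = 1 ∧
      Matrix.SpecialLinearGroup.map (Polynomial.evalRingHom (1 : K)) M = A

theorem hasPath_mul {K : Type*} [Field K] {n : ℕ} (A B : Matrix.SpecialLinearGroup (Fin n) K)
    (hA : HasPath A) (hB : HasPath B) : HasPath (A * B) := by
  obtain ⟨M, hM0, hM1⟩ := hA
  obtain ⟨N, hN0, hN1⟩ := hB
  exact ⟨M * N, by rw [map_mul, hM0, hN0, one_mul], by rw [map_mul, hM1, hN1]⟩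

theorem hasPath_transvection {K : Type*} [Field K] {n : ℕ} {i j : Fin n} (hij : i ≠ j) (a : K) :
    HasPath (Matrix.SpecialLinearGroup.transvection hij a) := by
  refine ⟨Matrix.SpecialLinearGroup.transvection hij (Polynomial.C a * Polynomial.X), ?_, ?_⟩
  · rw [map_transvection]; simp
  · rw [map_transvection]; simp

/-- Let K be a field and r ≥ 1. For every element A of the special linear group SL_{r+1}(K) there is an
algebraic path in SL_{r+1} from the identity to A defined over K: a matrix M of determinant 1 with
entries in the polynomial ring K[y] such that M(0) is the identity matrix and M(1) = A. (The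
published statement takes K to be the function field of SL_{r+1} over the ground field, A its
generic point viewed as a K-rational point, and the parameter space to be the projective line minus
the point 1, with endpoints 0 and ∞; this row gives the path for an arbitrary K-point A on the
affine line with endpoints 0 and 1, which is what the published construction provides before
composing with the coordinate change y ↦ y/(y − 1).) -/
theorem result
    (K : Type u) [Field K] (r : ℕ) (hr : 1 ≤ r)
    (A : Matrix.SpecialLinearGroup (Fin (r + 1)) K) :
    ∃ M : Matrix.SpecialLinearGroup (Fin (r + 1)) (Polynomial K),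
      Matrix.SpecialLinearGroup.map (Polynomial.evalRingHom (0 : K)) M = 1 ∧
      Matrix.SpecialLinearGroup.map (Polynomial.evalRingHom (1 : K)) M = A := by
  classical
  have : Nontrivial (Fin (r + 1)) := Fin.nontrivial_iff_two_le.mpr (by omega)
  change HasPath A
  refine Matrix.SpecialLinearGroup.diagonal_transvection_induction' (fun A => HasPath A) A
    ?_ ?_ ?_
  · intro i j hij c hc
    rw [diag2n_decompose hij c hc]
    refine hasPath_mul _ _ (hasPath_mul _ _ (hasPath_mul _ _ ?_ ?_) ?_)
      (hasPath_mul _ _ (hasPath_mul _ _ ?_ ?_) ?_)
    all_goals exact hasPath_transvection _ _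
  · intro i j hij a
    exact hasPath_transvection hij a
  · intro A B hA hB
    exact hasPath_mul A B hA hB

end Groth.Agent.S15083
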