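import Groth.Statements.S15084
import Mathlib

set_option autoImplicit false
universe u
open MovLem

namespace Groth.Agent.S15084

/-- Let A be a Noetherian integrally closed domain with fraction field K, let B be a domain with
fraction field L, and let A → B be an injective ring homomorphism, with K → L the induced map of
fraction fields, such that Spec B → Spec A is surjective (every prime ideal of A is the contraction
of a prime ideal of B). If a ∈ K is such that its image in L lies in B, then a ∈ A. (The published
statement: for a surjective morphism f : Y → X of normal integral separated schemes of finite type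
over a perfect field and a Cartier divisor D on X, if f^*D is effective then D is effective; a
Cartier divisor is locally the divisor of a nonzero rational function a, effectivity of div(a) on a
normal scheme means that a is a regular function, and this row is that local statement, which is
what the published proof establishes.) -/
theorem result
    (A B K L : Type u) [CommRing A] [IsDomain A] [IsNoetherianRing A] [IsIntegrallyClosed A]
    [CommRing B] [IsDomain B] [Field K] [Field L]
    [Algebra A B] [Algebra A K] [IsFractionRing A K] [Algebra B L] [IsFractionRing B L]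
    [Algebra K L] [Algebra A L] [IsScalarTower A K L] [IsScalarTower A B L]
    (hinj : Function.Injective (algebraMap A B))
    (hsurj : ∀ p : Ideal A, p.IsPrime → ∃ q : Ideal B, q.IsPrime ∧ q.comap (algebraMap A B) = p)
    (a : K) (ha : algebraMap K L a ∈ (algebraMap B L).range) :
    a ∈ (algebraMap A K).range := by
  classical
  obtain ⟨b, hb⟩ := ha
  -- the ideal of denominators of an element of `K`
  let D : K → Ideal A := fun x =>
    { carrier := {r | algebraMap A K r * x ∈ (algebraMap A K).range}
      zero_mem' := by
        show algebraMap A K 0 * x ∈ (algebraMap A K).range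
        rw [map_zero, zero_mul]; exact zero_mem _
      add_mem' := by
        intro r s hr hs
        show algebraMap A K (r + s) * x ∈ (algebraMap A K).range
        rw [map_add, add_mul]; exact add_mem hr hs
      smul_mem' := by
        intro t r hr
        show algebraMap A K (t • r) * x ∈ (algebraMap A K).range
        rw [smul_eq_mul, map_mul, mul_assoc]; exact mul_mem ⟨t, rfl⟩ hr }
  have hDmem : ∀ (x : K) (r : A), r ∈ D x ↔ algebraMap A K r * x ∈ (algebraMap A K).range :=
    fun x r => Iff.rfl
  have hDtop : ∀ x : K, D x = ⊤ ↔ x ∈ (algebraMap A K).range := by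
    intro x
    rw [Ideal.eq_top_iff_one, hDmem, map_one, one_mul]
  by_contra hna
  let S : Set (Ideal A) := {I | ∃ t : A, I = D (algebraMap A K t * a) ∧ I ≠ ⊤}
  have hS : S.Nonempty := ⟨D a, 1, by rw [map_one, one_mul], by rw [Ne, hDtop]; exact hna⟩
  obtain ⟨p, ⟨t₀, rfl, hptop⟩, hmax⟩ :=
    (set_has_maximal_iff_noetherian (R := A) (M := A)).mpr inferInstance S hS
  set a' : K := algebraMap A K t₀ * a with ha'
  set b' : B := algebraMap A B t₀ * b with hb'
  have hb'a' : algebraMap B L b' = algebraMap K L a' := by
    rw [hb', ha', map_mul, map_mul, hb, ← IsScalarTower.algebraMap_apply A B L,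
      ← IsScalarTower.algebraMap_apply A K L]
  -- `p = D a'` is prime
  have hprime : (D a').IsPrime := by
    refine ⟨hptop, ?_⟩
    intro r s hrs
    by_contra hcon
    push Not at hcon
    obtain ⟨hr, hs⟩ := hcon
    have hle : D a' ≤ D (algebraMap A K (s * t₀) * a) := by
      intro u hu
      rw [hDmem] at hu ⊢
      have : algebraMap A K u * (algebraMap A K (s * t₀) * a) =
          algebraMap A K s * (algebraMap A K u * a') := by
        rw [ha', map_mul]; ring
      rw [this]
      exact mul_mem ⟨s, rfl⟩ hu
    have hne : D (algebraMap A K (s * t₀) * a) ≠ ⊤ := by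
      rw [Ne, hDtop]
      intro h
      apply hs
      rw [hDmem]
      have : algebraMap A K s * a' = algebraMap A K (s * t₀) * a := by
        rw [ha', map_mul]; ring
      rw [this]; exact h
    have hmem : D (algebraMap A K (s * t₀) * a) ∈ S := ⟨s * t₀, rfl, hne⟩
    have heq : D a' = D (algebraMap A K (s * t₀) * a) := by
      by_contra hneq
      exact hmax _ hmem (lt_of_le_of_ne hle hneq)
    apply hr
    rw [heq, hDmem]
    have : algebraMap A K r * (algebraMap A K (s * t₀) * a) = algebraMap A K (r * s) * a' := by
      rw [ha', map_mul, map_mul]; ring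
    rw [this]
    exact (hDmem _ _).mp hrs
  -- `p ≠ ⊥`
  have hpbot : D a' ≠ ⊥ := by
    obtain ⟨y, hy⟩ := IsLocalization.exists_integer_multiple (nonZeroDivisors A) a'
    intro h0
    have hymem : (y : A) ∈ D a' := by
      rw [hDmem]
      obtain ⟨c, hc⟩ := hy
      exact ⟨c, by rw [hc, Algebra.smul_def]⟩
    rw [h0, Ideal.mem_bot] at hymem
    exact nonZeroDivisors.coe_ne_zero y hymem
  by_cases hcase : ∀ r ∈ D a', ∀ c : A, algebraMap A K c = algebraMap A K r * a' → c ∈ D a'
  · -- `a'` is integral over `A`
    let N : Submodule A K := Submodule.map (Algebra.linearMap A K) (D a')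
    have hNbot : N ≠ ⊥ := by
      intro h0
      apply hpbot
      rw [eq_bot_iff]
      intro r hr
      have : Algebra.linearMap A K r ∈ N := Submodule.mem_map_of_mem hr
      rw [h0, Submodule.mem_bot, Algebra.linearMap_apply] at this
      rw [Ideal.mem_bot]
      exact (IsFractionRing.injective A K) (by rw [this, map_zero])
    have hNfg : N.FG := (IsNoetherian.noetherian (D a')).map _
    have hint : IsIntegral A a' := by
      refine isIntegral_of_smul_mem_submodule N hNbot hNfg a' ?_
      rintro _ ⟨r, hr, rfl⟩
      obtain ⟨c, hc⟩ := (hDmem _ _).mp hr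
      have hcp := hcase r hr c hc
      refine ⟨c, hcp, ?_⟩
      rw [Algebra.linearMap_apply, Algebra.linearMap_apply, hc, smul_eq_mul, mul_comm]
    obtain ⟨y, hy⟩ := IsIntegrallyClosed.isIntegral_iff.mp hint
    exact hptop ((hDtop a').mpr ⟨y, hy⟩)
  · push Not at hcase
    obtain ⟨r, hr, c, hc, hcp⟩ := hcase
    obtain ⟨q, hq, hqp⟩ := hsurj (D a') hprime
    apply hcp
    rw [← hqp, Ideal.mem_comap]
    have h1 : algebraMap B L (algebraMap A B c) = algebraMap B L (algebraMap A B r * b') := by
      rw [map_mul, hb'a', ← IsScalarTower.algebraMap_apply A B L,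
        ← IsScalarTower.algebraMap_apply A B L, IsScalarTower.algebraMap_apply A K L, hc, map_mul,
        ← IsScalarTower.algebraMap_apply A K L]
    have h2 : algebraMap A B c = algebraMap A B r * b' := IsFractionRing.injective B L h1
    rw [h2]
    apply Ideal.mul_mem_right
    rw [← Ideal.mem_comap, hqp]
    exact hr

end Groth.Agent.S15084
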