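import Groth.Statements.S15115
import Groth.Agent.Lib.Helper59.LinRedAlg
-- import your own Groth.Agent.* helpers here

set_option autoImplicit false
universe u
open HopfRep

namespace Groth.Agent.S15115

open TensorProduct in
theorem smul_eq_rTensor {k : Type*} [CommRing k] {A : Type*} [CommRing A] [Algebra k A]
    {H : Type*} [AddCommGroup H] [Module k H]
    {M : Type*} [AddCommGroup M] [Module k M] [Module A M] [IsScalarTower k A M]
    (a : A) (t : M ⊗[k] H) :
    a • t = LinearMap.rTensor H ((Algebra.lsmul k k M a : M →ₗ[k] M)) t := by
  induction t using TensorProduct.induction_on with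
  | zero => simp
  | tmul m h => simp [TensorProduct.smul_tmul']
  | add x y hx hy => simp only [smul_add, map_add, hx, hy]


open TensorProduct in
/-- Let k be an algebraically closed field, H a finite-dimensional commutative Hopf algebra over k all
of whose finite-dimensional comodules are semisimple (a finite linearly reductive group scheme G
over k), A a commutative k-algebra, and M an A-module with an H-coaction that is A-linear (G acts on
M by A-module maps, A carrying the trivial action). Let A' be a commutative A-algebra and N = A' ⊗_A
M its base change, exhibited by an A-linear map φ : M → N, with the induced coaction: A'-linear and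
compatible with φ. Then invariants commute with this base change: writing M^G for the A-submodule of
coinvariant elements of M, the natural map A' ⊗_A M^G → N, a' ⊗ m ↦ a' φ(m), is injective and its
image is exactly the set of coinvariant elements of N. (The published statement is the isomorphism
ρ^* π_* F → π'_* σ^* F for a tame Deligne–Mumford stack with coarse moduli space π and any base
change ρ of the coarse space; this row is the statement about invariants to which its proof reduces
it, for modules that need not be finitely generated.) -/
theorem result (k : Type u) [Field k] [IsAlgClosed k]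
    (H : Type u) [CommRing H] [HopfAlgebra k H] [Module.Finite k H] (hred : HopfRep.IsLinearlyReductive k H)
    (A : Type u) [CommRing A] [Algebra k A]
    (M : Type u) [AddCommGroup M] [Module k M] [Module A M] [IsScalarTower k A M] [HopfRep.Comod k H M]
    (hlin : ∀ (a : A) (m : M), HopfRep.Comod.coact (k := k) (A := H) (a • m) = a • HopfRep.Comod.coact (k := k) (A := H) m)
    (A' : Type u) [CommRing A'] [Algebra k A'] [Algebra A A'] [IsScalarTower k A A']
    (N : Type u) [AddCommGroup N] [Module k N] [Module A N] [Module A' N]
    [IsScalarTower k A N] [IsScalarTower A A' N] [IsScalarTower k A' N] [HopfRep.Comod k H N]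
    (φ : M →ₗ[A] N) (hφ : IsBaseChange A' φ)
    (hcomp : ∀ m : M, HopfRep.Comod.coact (k := k) (A := H) (φ m) =
      LinearMap.rTensor H (φ.restrictScalars k) (HopfRep.Comod.coact (k := k) (A := H) m))
    (hlinN : ∀ (a' : A') (n : N), HopfRep.Comod.coact (k := k) (A := H) (a' • n) = a' • HopfRep.Comod.coact (k := k) (A := H) n)
    (P : Submodule A M) (hP : (P : Set M) = (HopfRep.fixedPts k H M : Set M)) :
    Function.Injective (TensorProduct.lift (((Algebra.lsmul A A N : A' →ₐ[A] Module.End A N).toLinearMap).compl₂ (φ ∘ₗ P.subtype))) ∧
      Set.range (TensorProduct.lift (((Algebra.lsmul A A N : A' →ₐ[A] Module.End A N).toLinearMap).compl₂ (φ ∘ₗ P.subtype))) =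
        (HopfRep.fixedPts k H N : Set N) := by
  classical
  obtain ⟨EM, hEM⟩ := Groth.Agent.Lib.Helper59.LinRed.exists_isReynolds (V := M) hred
  obtain ⟨EN, hEN⟩ := Groth.Agent.Lib.Helper59.LinRed.exists_isReynolds (V := N) hred
  -- `EM` is `A`-linear
  have hEMlin : ∀ (a : A) (m : M), EM (a • m) = a • EM m := by
    intro a m
    have hcm : Hoch.IsComodHom H (Algebra.lsmul k k M a : M →ₗ[k] M) := by
      apply LinearMap.ext
      intro x
      simp only [LinearMap.comp_apply]
      rw [← smul_eq_rTensor]
      exact hlin a x
    have := hEM.natural hred hEM (Algebra.lsmul k k M a : M →ₗ[k] M) hcm m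
    simpa using this.symm
  have hENlin : ∀ (a' : A') (n : N), EN (a' • n) = a' • EN n := by
    intro a' n
    have hcm : Hoch.IsComodHom H (Algebra.lsmul k k N a' : N →ₗ[k] N) := by
      apply LinearMap.ext
      intro x
      simp only [LinearMap.comp_apply]
      rw [← smul_eq_rTensor]
      exact hlinN a' x
    have := hEN.natural hred hEN (Algebra.lsmul k k N a' : N →ₗ[k] N) hcm n
    simpa using this.symm
  have hφhom : Hoch.IsComodHom H (φ.restrictScalars k) := by
    apply LinearMap.ext
    intro m
    exact hcomp m
  have hφE : ∀ m, φ (EM m) = EN (φ m) := fun m =>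
    hEM.natural hred hEN (φ.restrictScalars k) hφhom m
  have hPmem : ∀ m : M, m ∈ P ↔ m ∈ HopfRep.fixedPts k H M := by
    intro m
    change m ∈ (P : Set M) ↔ _
    rw [hP]
    rfl
  set L := TensorProduct.lift (((Algebra.lsmul A A N : A' →ₐ[A] Module.End A N).toLinearMap).compl₂
    (φ ∘ₗ P.subtype)) with hL
  have hLt : ∀ (a' : A') (p : P), L (a' ⊗ₜ[A] p) = a' • φ (p : M) := by
    intro a' p
    simp [hL]
  have hLsmul : ∀ (s : A') (t : A' ⊗[A] P), L (s • t) = s • L t := by
    intro s t
    induction t using TensorProduct.induction_on with
    | zero => simp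
    | tmul a' p => rw [TensorProduct.smul_tmul', hLt, hLt, smul_eq_mul, mul_smul]
    | add x y hx hy => rw [smul_add, map_add, map_add, hx, hy, smul_add]
  refine ⟨?_, ?_⟩
  · -- injectivity
    let ψ : M →ₗ[A] P :=
      { toFun := fun m => ⟨EM m, (hPmem _).mpr (hEM.apply_mem m)⟩
        map_add' := fun x y => Subtype.ext (map_add EM x y)
        map_smul' := fun a x => Subtype.ext (hEMlin a x) }
    have hψ : ψ ∘ₗ P.subtype = LinearMap.id := by
      apply LinearMap.ext
      intro p
      exact Subtype.ext (hEM.apply_of_mem ((hPmem _).mp p.2))
    have hinj : Function.Injective (LinearMap.lTensor A' P.subtype) := by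
      apply Function.LeftInverse.injective (g := LinearMap.lTensor A' ψ)
      intro t
      rw [← LinearMap.comp_apply, ← LinearMap.lTensor_comp, hψ, LinearMap.lTensor_id,
        LinearMap.id_apply]
    have hfac : ∀ t, L t = hφ.equiv (LinearMap.lTensor A' P.subtype t) := by
      intro t
      induction t using TensorProduct.induction_on with
      | zero => simp
      | tmul a' p => rw [hLt, LinearMap.lTensor_tmul, IsBaseChange.equiv_tmul]; rfl
      | add x y hx hy => rw [map_add, map_add, map_add, hx, hy]
    intro t₁ t₂ h12
    rw [hfac, hfac] at h12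
    exact hinj (hφ.equiv.injective h12)
  · apply Set.Subset.antisymm
    · rintro n ⟨t, rfl⟩
      change L t ∈ HopfRep.fixedPts k H N
      induction t using TensorProduct.induction_on with
      | zero => rw [map_zero]; exact Submodule.zero_mem _
      | tmul a' p =>
        rw [hLt]
        change HopfRep.Comod.coact (k := k) (A := H) (a' • φ (p : M)) = (a' • φ (p : M)) ⊗ₜ[k] (1 : H)
        have hp : HopfRep.Comod.coact (k := k) (A := H) (p : M) = (p : M) ⊗ₜ[k] (1 : H) :=
          (hPmem _).mp p.2
        rw [hlinN, hcomp, hp, LinearMap.rTensor_tmul, TensorProduct.smul_tmul']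
        rfl
      | add x y hx hy => rw [map_add]; exact Submodule.add_mem _ hx hy
    · intro n hn
      have hn' : n ∈ HopfRep.fixedPts k H N := hn
      have key : ∀ n : N, EN n ∈ Set.range L := by
        intro n
        induction n using hφ.inductionOn with
        | zero => exact ⟨0, by simp⟩
        | tmul m =>
          refine ⟨(1 : A') ⊗ₜ[A] ⟨EM m, (hPmem _).mpr (hEM.apply_mem m)⟩, ?_⟩
          rw [hLt, one_smul, hφE]
        | smul s n hn =>
          obtain ⟨t, ht⟩ := hn
          exact ⟨s • t, by rw [hLsmul, ht, hENlin]⟩
        | add n₁ n₂ h₁ h₂ =>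
          obtain ⟨t₁, ht₁⟩ := h₁
          obtain ⟨t₂, ht₂⟩ := h₂
          exact ⟨t₁ + t₂, by rw [map_add, ht₁, ht₂, map_add]⟩
      have := key n
      rwa [hEN.apply_of_mem hn'] at this

end Groth.Agent.S15115
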