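import Groth.Statements.S15117
import Mathlib

set_option autoImplicit false
universe u v w
open TensorProduct
open NRGIT

namespace Groth.Agent.S15117

/-- Let k be a field, π : A → B a map of commutative bialgebras over k, W a right A-comodule and V ⊆ W a
subcomodule all of whose elements are coinvariant for the B-coaction induced through π. Then the
coaction of every v ∈ V lies in V ⊗ A' ⊆ W ⊗ A, where A' ⊆ A is the set of elements a with (π ⊗
id)(Δ a) = 1 ⊗ a, i.e. coinvariant for the coaction of B on A through π on the left factor; the row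
states membership in the span of the pure tensors w ⊗ a with w ∈ V and a ∈ A'. (The published
statement is for a linear algebraic group H over an algebraically closed field of characteristic
zero, a normal subgroup N and an H-stable space V of N-invariant sections of a linearised line
bundle, with the coaction landing in O(H)^N ⊗ V, where O(H)^N is the ring of functions on H
invariant under N acting by right multiplication; this row is the comodule form, for any bialgebra
map over a field, where normality of N is not needed.) -/
theorem result (k : Type u) [Field k]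
    (A B : Type v) [CommRing A] [CommRing B] [Bialgebra k A] [Bialgebra k B] (π : A →ₐc[k] B)
    (W : Type w) [AddCommGroup W] [Module k W] [HopfRep.Comod k A W]
    (V : Submodule k W) (hV : HopfRep.IsSubcomod (k := k) (A := A) V)
    (hfix : ∀ v ∈ V, (π.toLinearMap.lTensor W) (HopfRep.Comod.coact (k := k) (A := A) v) = v ⊗ₜ[k] (1 : B))
    (v : W) (hv : v ∈ V) :
    HopfRep.Comod.coact (k := k) (A := A) v ∈
      Submodule.span k {x : W ⊗[k] A | ∃ w ∈ V, ∃ a : A,
        (π.toLinearMap.rTensor A) (Coalgebra.comul (R := k) a) = (1 : B) ⊗ₜ[k] a ∧ x = w ⊗ₜ[k] a} := by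
  classical
  set ρ : W →ₗ[k] W ⊗[k] A := HopfRep.Comod.coact (k := k) (A := A) with hρ
  let Φ : A →ₗ[k] B ⊗[k] A :=
    (π.toLinearMap.rTensor A) ∘ₗ (Coalgebra.comul (R := k)) - (TensorProduct.mk k B A 1)
  obtain ⟨y, hy⟩ := hV v hv
  have key1 : ∀ (t : W ⊗[k] A) (a : A),
      (LinearMap.lTensor W (π.toLinearMap.rTensor A)) ((TensorProduct.assoc k W A A) (t ⊗ₜ a)) =
        (TensorProduct.assoc k W B A) ((π.toLinearMap.lTensor W t) ⊗ₜ a) := by
    intro t a
    induction t using TensorProduct.induction_on with
    | zero => simp
    | tmul w a' => simp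
    | add x y hx hy => simp only [TensorProduct.add_tmul, map_add, hx, hy]
  have key2 : ∀ y : V ⊗[k] A,
      (LinearMap.lTensor W (π.toLinearMap.rTensor A))
        ((TensorProduct.assoc k W A A) ((ρ.rTensor A) ((V.subtype.rTensor A) y))) =
      (LinearMap.lTensor W (TensorProduct.mk k B A 1)) ((V.subtype.rTensor A) y) := by
    intro y
    induction y using TensorProduct.induction_on with
    | zero => simp
    | tmul w a =>
      simp only [LinearMap.rTensor_tmul, Submodule.subtype_apply]
      rw [key1, hfix w w.2]
      simp
    | add x y hx hy => simp only [map_add, hx, hy]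
  have h0 : (LinearMap.lTensor W Φ) (ρ v) = 0 := by
    have hco := congrArg (fun f => f v) (HopfRep.Comod.coassoc (k := k) (A := A) (V := W))
    simp only [LinearMap.comp_apply] at hco
    simp only [Φ, LinearMap.lTensor_sub, LinearMap.sub_apply, LinearMap.lTensor_comp,
      LinearMap.comp_apply]
    rw [← hco, ← hy]
    erw [key2]
    rw [sub_self]
  have hinj : Function.Injective (V.subtype.rTensor (B ⊗[k] A)) :=
    Module.Flat.rTensor_preserves_injective_linearMap _ V.injective_subtype
  have h1 : (LinearMap.lTensor V Φ) y = 0 := by
    apply hinj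
    rw [map_zero]
    have : (V.subtype.rTensor (B ⊗[k] A)) ((LinearMap.lTensor V Φ) y) =
        (LinearMap.lTensor W Φ) ((V.subtype.rTensor A) y) := by
      simp only [← LinearMap.comp_apply, LinearMap.rTensor_comp_lTensor,
        LinearMap.lTensor_comp_rTensor]
    rw [this, hy, h0]
  have hex := Module.Flat.lTensor_exact V (LinearMap.exact_subtype_ker_map Φ)
  obtain ⟨z, hz⟩ := (hex y).mp h1
  have hfin : ∀ z : V ⊗[k] (LinearMap.ker Φ),
      (V.subtype.rTensor A) ((LinearMap.lTensor V (LinearMap.ker Φ).subtype) z) ∈
      Submodule.span k {x : W ⊗[k] A | ∃ w ∈ V, ∃ a : A,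
        (π.toLinearMap.rTensor A) (Coalgebra.comul (R := k) a) = (1 : B) ⊗ₜ[k] a ∧
          x = w ⊗ₜ[k] a} := by
    intro z
    induction z using TensorProduct.induction_on with
    | zero => simp
    | tmul w a =>
      simp only [LinearMap.lTensor_tmul, LinearMap.rTensor_tmul, Submodule.subtype_apply]
      apply Submodule.subset_span
      refine ⟨w, w.2, a, ?_, rfl⟩
      have h2 : Φ (a : A) = 0 := LinearMap.mem_ker.mp a.2
      have h3 : Φ (a : A) = (π.toLinearMap.rTensor A) (Coalgebra.comul (R := k) (a : A)) -
          (1 : B) ⊗ₜ[k] (a : A) := rfl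
      rw [h3, sub_eq_zero] at h2
      exact h2
    | add x y hx hy => simp only [map_add]; exact Submodule.add_mem _ hx hy
  rw [← hy, ← hz]
  exact hfin z

end Groth.Agent.S15117
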