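import Groth.Statements.S15121
import Mathlib
import Groth.Agent.Lib.Helper77.GradedSlice

set_option autoImplicit false
universe u v w
open InvQ

namespace Groth.Agent.S15121

/-- Let k be a field of characteristic zero and A a commutative k-algebra graded by a finitely generated
free abelian group Λ (the character group of a torus acting on Spec A) whose grading monoid is
positive: if the pieces of degrees w and −w are both non-zero then w = 0. Let δ be a locally
nilpotent k-derivation of A (an action of the additive group) that is homogeneous of degree d, with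
the piece of degree d equal to zero (the graded condition on the Lie algebra weight). Suppose that
no maximal ideal of A contains both all graded pieces of non-zero degree and the image of δ (every
torus-fixed closed point has trivial stabiliser under the additive group). Then δ has a homogeneous
slice: some s of degree −d with δ s = 1. (The published statement is for the coordinate ring of an
affine variety over an algebraically closed field of characteristic zero and concludes moreover that
the quotient map by the additive group is a trivial principal bundle, which follows from the slice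
by a standard argument not restated here; this row keeps the algebraic content, for any such graded
algebra.) -/
theorem result
    (k : Type u) [Field k] [CharZero k]
    (A : Type v) [CommRing A] [Algebra k A]
    (Λ : Type w) [AddCommGroup Λ] [DecidableEq Λ] [Module.Free ℤ Λ] [Module.Finite ℤ Λ]
    (𝒜 : Λ → Submodule k A) [GradedAlgebra 𝒜]
    (hpos : ∀ w : Λ, 𝒜 w ≠ ⊥ → 𝒜 (-w) ≠ ⊥ → w = 0)
    (δ : Derivation k A A) (hnil : ∀ a : A, ∃ n : ℕ, ((δ : A →ₗ[k] A) ^ n) a = 0)
    (d : Λ) (hhom : ∀ (w : Λ) (a : A), a ∈ 𝒜 w → δ a ∈ 𝒜 (w + d)) (hd : 𝒜 d = ⊥)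
    (hfix : ∀ m : Ideal A, m.IsMaximal → (∀ w : Λ, w ≠ 0 → (𝒜 w : Set A) ⊆ m) → ¬ (Set.range δ ⊆ m)) :
    ∃ s ∈ 𝒜 (-d), δ s = 1 := by
  classical
  have horth : ∀ w : Λ, w ≠ 0 → ∀ r ∈ 𝒜 w, ∀ a ∈ 𝒜 (-w), r * a = 0 := by
    intro w hw r hr a ha
    by_cases h1 : 𝒜 w = ⊥
    · rw [h1] at hr
      rw [(Submodule.mem_bot k).mp hr, zero_mul]
    · by_cases h2 : 𝒜 (-w) = ⊥
      · rw [h2] at ha
        rw [(Submodule.mem_bot k).mp ha, mul_zero]
      · exact absurd (hpos w h1 h2) hw
  have hJ : Ideal.span ({x : A | ∃ w : Λ, w ≠ 0 ∧ x ∈ 𝒜 w} ∪ Set.range δ) = ⊤ := by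
    by_contra hne
    obtain ⟨m, hm, hle⟩ := Ideal.exists_le_maximal _ hne
    have h1 : ∀ w : Λ, w ≠ 0 → (𝒜 w : Set A) ⊆ m := by
      intro w hw x hx
      apply hle
      apply Ideal.subset_span
      left
      exact ⟨w, hw, hx⟩
    apply hfix m hm h1
    intro x hx
    apply hle
    apply Ideal.subset_span
    right
    exact hx
  exact Groth.Agent.Lib.Helper77.exists_homogeneous_slice 𝒜 δ d hhom hd horth hJ

end Groth.Agent.S15121
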