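import Groth.Statements.S15122
import Mathlib

set_option autoImplicit false
universe u v w
open GIT

namespace Groth.Agent.S15122

/-- Let R be a commutative ring, A a commutative R-algebra graded by the natural numbers, σ a
homogeneous element of degree zero, and B the localisation of A away from σ, equipped with a grading
by the natural numbers for which the localisation map ι : A → B is a graded ring homomorphism (such
a grading is necessarily the one induced from A). Then the homogeneous ideal of B generated by the
image of the irrelevant ideal of A is the whole irrelevant ideal of B; in other words the induced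
rational map from Proj B to Proj A is defined everywhere. (The published statement also assumes σ a
non-zero-divisor, which this step does not use, and goes on to conclude that Proj B → Proj A is an
open immersion onto the basic open set of σ.) -/
theorem result
    (R : Type u) (A : Type v) (B : Type w) [CommRing R] [CommRing A] [CommRing B] [Algebra R A] [Algebra R B]
    [Algebra A B] [IsScalarTower R A B]
    (𝒜 : ℕ → Submodule R A) [GradedAlgebra 𝒜] (ℬ : ℕ → Submodule R B) [GradedAlgebra ℬ]
    (σ : A) (hσ0 : σ ∈ 𝒜 0) [IsLocalization.Away σ B]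
    (ι : 𝒜 →+*ᵍ ℬ) (hι : ∀ a : A, ι a = algebraMap A B a) :
    (HomogeneousIdeal.irrelevant 𝒜).map ι = HomogeneousIdeal.irrelevant ℬ := by
  classical
  have hmem : ∀ (b : B), b ∈ HomogeneousIdeal.irrelevant ℬ ↔ (DirectSum.decompose ℬ b 0 : B) = 0 :=
    fun b => Iff.rfl
  have hmemA : ∀ (a : A), a ∈ HomogeneousIdeal.irrelevant 𝒜 ↔ (DirectSum.decompose 𝒜 a 0 : A) = 0 :=
    fun a => Iff.rfl
  apply le_antisymm
  · rw [HomogeneousIdeal.map_le_iff_le_comap]
    intro a ha
    change ι a ∈ HomogeneousIdeal.irrelevant ℬ
    rw [hmem, ← ι.map_directSumDecompose, (hmemA a).mp ha, ι.map_zero]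
  · intro b hb
    change b ∈ (HomogeneousIdeal.irrelevant 𝒜).toIdeal.map ι
    rw [hmem] at hb
    obtain ⟨n, a, hna⟩ := IsLocalization.Away.surj σ b
    have hσB : algebraMap A B σ ∈ ℬ 0 := by
      rw [← hι σ]
      exact ι.map_mem hσ0
    have hσn : algebraMap A B σ ^ n ∈ ℬ 0 := by
      have := SetLike.pow_mem_graded n hσB
      simpa using this
    -- degree zero part of ι a vanishes
    have h0 : (DirectSum.decompose ℬ (algebraMap A B a) 0 : B) = 0 := by
      rw [← hna, DirectSum.coe_decompose_mul_of_right_mem_zero ℬ hσn, hb, zero_mul]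
    set a' : A := a - (DirectSum.decompose 𝒜 a 0 : A) with ha'
    have ha'irr : a' ∈ HomogeneousIdeal.irrelevant 𝒜 := by
      rw [hmemA, ha', DirectSum.decompose_sub, DirectSum.sub_apply, AddSubgroupClass.coe_sub,
        DirectSum.decompose_of_mem_same 𝒜 (SetLike.coe_mem _), sub_self]
    have hιa' : ι a' = b * algebraMap A B σ ^ n := by
      rw [ha', ι.map_sub, ι.map_directSumDecompose, hι a, h0, sub_zero, hna]
    obtain ⟨u, hu⟩ := (IsLocalization.Away.algebraMap_isUnit (S := B) σ).pow n
    have hb' : b = ι a' * (↑u⁻¹ : B) := by
      rw [hιa', ← hu, mul_assoc, Units.mul_inv, mul_one]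
    rw [hb']
    exact Ideal.mul_mem_right _ _ (Ideal.mem_map_of_mem _ ha'irr)

end Groth.Agent.S15122
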