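import Groth.Statements.S15125
import Mathlib

set_option autoImplicit false
universe u
open scoped TensorProduct
open Fields

namespace Groth.Agent.S15125

open Polynomial IntermediateField


theorem of_eq_iff {B : Type*} [CommRing B] (I : Ideal B) (a b : B) :
    AdicCompletion.of I B a = AdicCompletion.of I B b ↔ ∀ n : ℕ, a - b ∈ I ^ n := by
  rw [← sub_eq_zero, ← map_sub]
  constructor
  · intro h n
    have h1 := congrArg (fun z => z.val n) h
    simp only [AdicCompletion.of_apply, AdicCompletion.val_zero, Pi.zero_apply] at h1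
    rw [Submodule.mkQ_apply, Submodule.Quotient.mk_eq_zero] at h1
    simpa using h1
  · intro h
    apply AdicCompletion.ext
    intro n
    rw [AdicCompletion.of_apply, Submodule.mkQ_apply, AdicCompletion.val_zero, Pi.zero_apply,
      Submodule.Quotient.mk_eq_zero]
    simpa using h n

-- d = u d^2, d ∈ I ⇒ d ∈ I^n
theorem mem_pow_of_eq_mul_sq {B : Type*} [CommRing B] (I : Ideal B) (d u : B) (hd : d ∈ I)
    (h : d = u * d ^ 2) (n : ℕ) : d ∈ I ^ n := by
  induction n with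
  | zero => simp
  | succ n ih =>
    rw [h, pow_two, ← mul_assoc, pow_succ]
    exact Ideal.mul_mem_mul (Ideal.mul_mem_left _ _ ih) hd


theorem sep_dir {K L : Type u} [Field K] [Field L] [Algebra K L] (x : L)
    (hx : IsSeparable K x) :
    ∃ u : L ⊗[K] L, (x ⊗ₜ[K] (1:L) - (1:L) ⊗ₜ[K] x) =
      u * (x ⊗ₜ[K] (1:L) - (1:L) ⊗ₜ[K] x)^2 := by
  set f := minpoly K x with hf
  set a : L ⊗[K] L := x ⊗ₜ[K] (1:L) with ha
  set b : L ⊗[K] L := (1:L) ⊗ₜ[K] x with hb
  have hfx : aeval x f = 0 := minpoly.aeval K x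
  have ha0 : aeval a f = 0 := by
    have : a = (Algebra.TensorProduct.includeLeft : L →ₐ[K] L ⊗[K] L) x := rfl
    rw [this, aeval_algHom_apply, hfx, map_zero]
  have hb0 : aeval b f = 0 := by
    have : b = (Algebra.TensorProduct.includeRight : L →ₐ[K] L ⊗[K] L) x := rfl
    rw [this, aeval_algHom_apply, hfx, map_zero]
  have hder : aeval x (derivative f) ≠ 0 := hx.aeval_derivative_ne_zero hfx
  have hb1 : aeval b (derivative f) =
      (Algebra.TensorProduct.includeRight : L →ₐ[K] L ⊗[K] L) (aeval x (derivative f)) := by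
    have : b = (Algebra.TensorProduct.includeRight : L →ₐ[K] L ⊗[K] L) x := rfl
    rw [this, aeval_algHom_apply]
  obtain ⟨k, hk⟩ := Polynomial.binomExpansion (f.map (algebraMap K (L ⊗[K] L))) b (a - b)
  rw [add_sub_cancel, derivative_map, eval_map_algebraMap, eval_map_algebraMap,
    eval_map_algebraMap, ha0, hb0, hb1, zero_add] at hk
  set v : L ⊗[K] L := (Algebra.TensorProduct.includeRight : L →ₐ[K] L ⊗[K] L)
    ((aeval x (derivative f))⁻¹) with hv
  have hv1 : v * (Algebra.TensorProduct.includeRight : L →ₐ[K] L ⊗[K] L)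
      (aeval x (derivative f)) = 1 := by
    rw [hv, ← map_mul, inv_mul_cancel₀ hder, map_one]
  refine ⟨-(v * k), ?_⟩
  have : v * 0 = v * ((Algebra.TensorProduct.includeRight : L →ₐ[K] L ⊗[K] L)
      (aeval x (derivative f)) * (a - b) + k * (a - b) ^ 2) := by rw [← hk]
  rw [mul_zero, mul_add, ← mul_assoc, hv1, one_mul] at this
  linear_combination (-1 : L ⊗[K] L) * this


theorem krull_step {K L : Type u} [Field K] [Field L] [Algebra K L] [Algebra.EssFiniteType K L]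
    (d : L ⊗[K] L) (h : ∀ n : ℕ, d ∈ KaehlerDifferential.ideal K L ^ n) :
    ∃ e : L ⊗[K] L, e * d = 0 ∧ Algebra.TensorProduct.lmul' K e = 1 := by
  have : IsNoetherianRing (L ⊗[K] L) := Algebra.EssFiniteType.isNoetherianRing L (L ⊗[K] L)
  have hmem : d ∈ (⨅ i : ℕ, (KaehlerDifferential.ideal K L) ^ i • ⊤ : Submodule (L ⊗[K] L) (L ⊗[K] L)) := by
    rw [Submodule.mem_iInf]
    intro i
    simpa using h i
  obtain ⟨r, hr⟩ := (Ideal.mem_iInf_smul_pow_eq_bot_iff (KaehlerDifferential.ideal K L) d).mp hmem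
  refine ⟨1 - r, ?_, ?_⟩
  · rw [smul_eq_mul] at hr
    rw [sub_mul, one_mul, hr, sub_self]
  · have : Algebra.TensorProduct.lmul' K (r : L ⊗[K] L) = 0 := r.2
    rw [map_sub, map_one, this, sub_zero]


section
variable {K L : Type u} [Field K] [Field L] [Algebra K L] (F : IntermediateField K L)
  {ι : Type*} (bL : Module.Basis ι F L)

noncomputable def cij (i j : ι) : L ⊗[K] L →ₗ[K] F ⊗[K] F :=
  TensorProduct.map ((bL.coord i).restrictScalars K) ((bL.coord j).restrictScalars K)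

theorem cij_tmul (i j : ι) (y w : L) : cij F bL i j (y ⊗ₜ w) = bL.coord i y ⊗ₜ bL.coord j w := rfl

theorem cij_mul (i j : ι) (β : F ⊗[K] F) (z : L ⊗[K] L) :
    cij F bL i j (Algebra.TensorProduct.map F.val F.val β * z) = β * cij F bL i j z := by
  induction β using TensorProduct.induction_on with
  | zero => simp
  | add β₁ β₂ h₁ h₂ => simp only [map_add, add_mul, h₁, h₂]
  | tmul a b =>
    induction z using TensorProduct.induction_on with
    | zero => simp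
    | add z₁ z₂ h₁ h₂ => simp only [map_add, mul_add, h₁, h₂]
    | tmul y w =>
      rw [Algebra.TensorProduct.map_tmul, Algebra.TensorProduct.tmul_mul_tmul, cij_tmul, cij_tmul,
        Algebra.TensorProduct.tmul_mul_tmul]
      have h1 : (F.val a) * y = a • y := by rw [IntermediateField.coe_val]; rfl
      have h2 : (F.val b) * w = b • w := by rw [IntermediateField.coe_val]; rfl
      rw [h1, h2, map_smul, map_smul, smul_eq_mul, smul_eq_mul]

theorem lmul_eq_zero_of_cij (z : L ⊗[K] L)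
    (h : ∀ i j, Algebra.TensorProduct.lmul' K (cij F bL i j z) = 0) :
    Algebra.TensorProduct.lmul' K z = 0 := by
  classical
  obtain ⟨S, rfl⟩ := TensorProduct.exists_finset z
  set J : Finset ι := S.biUnion (fun p => (bL.repr p.1).support ∪ (bL.repr p.2).support) with hJ
  have hrep : ∀ p ∈ S, ∀ y : L, (y = p.1 ∨ y = p.2) → y = ∑ i ∈ J, (bL.coord i y : L) * bL i := by
    intro p hp y hy
    have hsub : (bL.repr y).support ⊆ J := by
      intro i hi
      rw [hJ, Finset.mem_biUnion]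
      refine ⟨p, hp, ?_⟩
      rcases hy with rfl | rfl
      · exact Finset.mem_union_left _ hi
      · exact Finset.mem_union_right _ hi
    conv_lhs => rw [← bL.linearCombination_repr y, Finsupp.linearCombination_apply,
      Finsupp.sum_of_support_subset _ hsub _ (by intro i _; simp)]
    refine Finset.sum_congr rfl (fun i _ => ?_)
    rw [Module.Basis.coord_apply]; rfl
  rw [map_sum]
  have key : ∀ p ∈ S, Algebra.TensorProduct.lmul' K (p.1 ⊗ₜ[K] p.2) =
      ∑ i ∈ J, ∑ j ∈ J, ((Algebra.TensorProduct.lmul' K (cij F bL i j (p.1 ⊗ₜ[K] p.2)) : F) : L) *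
        (bL i * bL j) := by
    intro p hp
    rw [Algebra.TensorProduct.lmul'_apply_tmul]
    conv_lhs => rw [hrep p hp p.1 (Or.inl rfl), hrep p hp p.2 (Or.inr rfl), Finset.sum_mul_sum]
    refine Finset.sum_congr rfl (fun i _ => Finset.sum_congr rfl (fun j _ => ?_))
    rw [cij_tmul, Algebra.TensorProduct.lmul'_apply_tmul]
    push_cast
    ring
  rw [Finset.sum_congr rfl key, Finset.sum_comm]
  refine Finset.sum_eq_zero (fun i _ => ?_)
  rw [Finset.sum_comm]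
  refine Finset.sum_eq_zero (fun j _ => ?_)
  rw [← Finset.sum_mul]
  have := h i j
  rw [map_sum, map_sum] at this
  have h2 : ∑ p ∈ S, ((Algebra.TensorProduct.lmul' K (cij F bL i j (p.1 ⊗ₜ[K] p.2)) : F) : L) = 0 := by
    have h3 := congrArg (F.val) this
    rw [map_sum, map_zero] at h3
    exact h3
  rw [h2, zero_mul]
end


section
variable {K L : Type u} [Field K] [Field L] [Algebra K L] (x : L)

theorem mem_span_gen (y : L) (hy : y ∈ K⟮x⟯) :
    ((1 : K⟮x⟯) ⊗ₜ[K] (⟨y, hy⟩ : K⟮x⟯) - (⟨y, hy⟩ : K⟮x⟯) ⊗ₜ[K] (1 : K⟮x⟯)) ∈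
      Ideal.span ({(AdjoinSimple.gen K x) ⊗ₜ[K] (1 : K⟮x⟯) - (1 : K⟮x⟯) ⊗ₜ[K] (AdjoinSimple.gen K x)} :
        Set (K⟮x⟯ ⊗[K] K⟮x⟯)) := by
  set I := Ideal.span ({(AdjoinSimple.gen K x) ⊗ₜ[K] (1 : K⟮x⟯) - (1 : K⟮x⟯) ⊗ₜ[K] (AdjoinSimple.gen K x)} :
        Set (K⟮x⟯ ⊗[K] K⟮x⟯)) with hI
  induction hy using IntermediateField.adjoin_induction with
  | mem y hy =>
    have hy' : y = x := hy
    subst hy'
    have : ((1 : K⟮y⟯) ⊗ₜ[K] (⟨y, subset_adjoin K {y} hy⟩ : K⟮y⟯) - (⟨y, subset_adjoin K {y} hy⟩ : K⟮y⟯) ⊗ₜ[K] (1 : K⟮y⟯)) =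
      -((AdjoinSimple.gen K y) ⊗ₜ[K] (1 : K⟮y⟯) - (1 : K⟮y⟯) ⊗ₜ[K] (AdjoinSimple.gen K y)) := by
      rw [neg_sub]; rfl
    rw [this]
    exact (Ideal.neg_mem_iff (α := ↥K⟮y⟯ ⊗[K] ↥K⟮y⟯) _).mpr (Ideal.mem_span_singleton_self _)
  | algebraMap k =>
    have h1 : (⟨algebraMap K L k, IntermediateField.algebraMap_mem _ k⟩ : K⟮x⟯) = k • (1 : K⟮x⟯) := by
      apply Subtype.ext
      simp [Algebra.smul_def]
    rw [h1, TensorProduct.tmul_smul, TensorProduct.smul_tmul', sub_self]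
    exact I.zero_mem
  | add y z hy hz ihy ihz =>
    have h1 : (⟨y + z, add_mem hy hz⟩ : K⟮x⟯) = ⟨y, hy⟩ + ⟨z, hz⟩ := rfl
    rw [h1, TensorProduct.tmul_add, TensorProduct.add_tmul, add_sub_add_comm]
    exact I.add_mem ihy ihz
  | inv y hy ih =>
    by_cases hy0 : y = 0
    · subst hy0
      have h1 : (⟨(0:L)⁻¹, inv_mem hy⟩ : K⟮x⟯) = 0 := by apply Subtype.ext; simp
      rw [h1, TensorProduct.tmul_zero, TensorProduct.zero_tmul, sub_self]
      exact I.zero_mem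
    · set Y : K⟮x⟯ := ⟨y, hy⟩
      have hY0 : Y ≠ 0 := fun h => hy0 (congrArg Subtype.val h)
      have h1 : (⟨y⁻¹, inv_mem hy⟩ : K⟮x⟯) = Y⁻¹ := rfl
      rw [h1]
      have : (1 : K⟮x⟯) ⊗ₜ[K] Y⁻¹ - Y⁻¹ ⊗ₜ[K] (1 : K⟮x⟯) =
          (Y⁻¹ ⊗ₜ[K] Y⁻¹) * (Y ⊗ₜ[K] (1 : K⟮x⟯) - (1 : K⟮x⟯) ⊗ₜ[K] Y) := by
        rw [mul_sub, Algebra.TensorProduct.tmul_mul_tmul,
          Algebra.TensorProduct.tmul_mul_tmul, mul_one, inv_mul_cancel₀ hY0]
      rw [this]
      refine I.mul_mem_left _ ?_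
      rw [← neg_sub]
      exact (Ideal.neg_mem_iff (α := ↥K⟮x⟯ ⊗[K] ↥K⟮x⟯) I).mpr ih
  | mul y z hy hz ihy ihz =>
    set Y : K⟮x⟯ := ⟨y, hy⟩
    set Z : K⟮x⟯ := ⟨z, hz⟩
    have h1 : (⟨y * z, mul_mem hy hz⟩ : K⟮x⟯) = Y * Z := rfl
    rw [h1]
    have : (1 : K⟮x⟯) ⊗ₜ[K] (Y * Z) - (Y * Z) ⊗ₜ[K] (1 : K⟮x⟯) =
        ((1 : K⟮x⟯) ⊗ₜ[K] Y) * ((1 : K⟮x⟯) ⊗ₜ[K] Z - Z ⊗ₜ[K] (1 : K⟮x⟯)) +
        (Z ⊗ₜ[K] (1 : K⟮x⟯)) * ((1 : K⟮x⟯) ⊗ₜ[K] Y - Y ⊗ₜ[K] (1 : K⟮x⟯)) := by
      simp only [mul_sub, Algebra.TensorProduct.tmul_mul_tmul, mul_one, one_mul]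
      rw [mul_comm Z Y]
      ring
    rw [this]
    exact I.add_mem (I.mul_mem_left _ ihz) (I.mul_mem_left _ ihy)

theorem ideal_eq_span :
    KaehlerDifferential.ideal K K⟮x⟯ =
      Ideal.span ({(AdjoinSimple.gen K x) ⊗ₜ[K] (1 : K⟮x⟯) - (1 : K⟮x⟯) ⊗ₜ[K] (AdjoinSimple.gen K x)} :
        Set (K⟮x⟯ ⊗[K] K⟮x⟯)) := by
  apply le_antisymm
  · rw [← KaehlerDifferential.span_range_eq_ideal, Ideal.span_le]
    rintro _ ⟨⟨y, hy⟩, rfl⟩
    exact mem_span_gen x y hy
  · rw [Ideal.span_le]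
    rintro _ rfl
    simp [RingHom.mem_ker]

theorem isSeparable_of_annihilator (e : K⟮x⟯ ⊗[K] K⟮x⟯)
    (he : e * ((AdjoinSimple.gen K x) ⊗ₜ[K] (1 : K⟮x⟯) - (1 : K⟮x⟯) ⊗ₜ[K] (AdjoinSimple.gen K x)) = 0)
    (hm : Algebra.TensorProduct.lmul' K e ≠ 0) : IsSeparable K x := by
  set d := (AdjoinSimple.gen K x) ⊗ₜ[K] (1 : K⟮x⟯) - (1 : K⟮x⟯) ⊗ₜ[K] (AdjoinSimple.gen K x) with hd
  set c := Algebra.TensorProduct.lmul' K e with hc
  set e' : K⟮x⟯ ⊗[K] K⟮x⟯ := (c⁻¹ ⊗ₜ[K] (1 : K⟮x⟯)) * e with he'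
  have he'd : e' * d = 0 := by rw [he', mul_assoc, he, mul_zero]
  have hme' : Algebra.TensorProduct.lmul' K e' = 1 := by
    rw [he', map_mul, Algebra.TensorProduct.lmul'_apply_tmul, mul_one, ← hc, inv_mul_cancel₀ hm]
  have hmem : 1 - e' ∈ KaehlerDifferential.ideal K K⟮x⟯ := by
    rw [RingHom.mem_ker, map_sub, map_one, hme', sub_self]
  rw [ideal_eq_span, Ideal.mem_span_singleton'] at hmem
  obtain ⟨u, hu⟩ := hmem
  have hdd : d = u * d * d := by
    rw [hu, sub_mul, one_mul, he'd, sub_zero]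
  have hidem : IsIdempotentElem (KaehlerDifferential.ideal K K⟮x⟯) := by
    apply le_antisymm
    · exact Ideal.mul_le_right
    · conv_lhs => rw [ideal_eq_span]
      rw [Ideal.span_le]
      rintro _ rfl
      rw [← hd, hdd]
      refine Ideal.mul_mem_mul ?_ ?_
      · rw [ideal_eq_span]; exact Ideal.mul_mem_left _ _ (Ideal.subset_span rfl)
      · rw [ideal_eq_span]; exact Ideal.subset_span rfl
  have hsub : Subsingleton Ω[K⟮x⟯⁄K] := (Ideal.cotangent_subsingleton_iff _).mpr hidem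
  have : Algebra.FormallyUnramified K K⟮x⟯ := ⟨hsub⟩
  have : Algebra.EssFiniteType K K⟮x⟯ := by
    rw [IntermediateField.essFiniteType_iff]
    exact ⟨{x}, by simp⟩
  have : Algebra.IsSeparable K K⟮x⟯ := Algebra.FormallyUnramified.isSeparable K K⟮x⟯
  have h2 := Algebra.IsSeparable.isSeparable K (AdjoinSimple.gen K x)
  unfold IsSeparable at h2 ⊢
  rwa [IntermediateField.minpoly_eq, AdjoinSimple.coe_gen] at h2
end

/-- Let L be a finitely generated field extension of K, and I ⊆ L ⊗_K L the kernel of multiplication L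
⊗_K L → L. An element x of L has the property that x ⊗ 1 and 1 ⊗ x have the same image in the I-adic
completion of L ⊗_K L if and only if x is separable algebraic over K. Equivalently, the equaliser of
the two natural maps from L to that completion is the separable algebraic closure of K in L. -/
theorem result
    (K L : Type u) [Field K] [Field L] [Algebra K L]
    (hfg : (⊤ : IntermediateField K L).FG) (x : L) :
    AdicCompletion.of (KaehlerDifferential.ideal K L) (L ⊗[K] L) (x ⊗ₜ[K] (1 : L)) =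
        AdicCompletion.of (KaehlerDifferential.ideal K L) (L ⊗[K] L) ((1 : L) ⊗ₜ[K] x) ↔
      x ∈ separableClosure K L := by
  classical
  set d : L ⊗[K] L := x ⊗ₜ[K] (1 : L) - (1 : L) ⊗ₜ[K] x with hd
  rw [of_eq_iff, mem_separableClosure_iff]
  constructor
  · intro h
    have : Algebra.EssFiniteType K L := IntermediateField.fg_top_iff.mp hfg
    obtain ⟨e, he, hme⟩ := krull_step d h
    let bL := Module.Basis.ofVectorSpace K⟮x⟯ L
    have hjd : Algebra.TensorProduct.map K⟮x⟯.val K⟮x⟯.val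
        ((AdjoinSimple.gen K x) ⊗ₜ[K] (1 : K⟮x⟯) - (1 : K⟮x⟯) ⊗ₜ[K] (AdjoinSimple.gen K x)) = d := by
      rw [map_sub, Algebra.TensorProduct.map_tmul, Algebra.TensorProduct.map_tmul, map_one]
      simp [hd]
    by_contra hns
    have hall : ∀ i j, Algebra.TensorProduct.lmul' K (cij K⟮x⟯ bL i j e) = 0 := by
      intro i j
      by_contra hne
      apply hns
      refine isSeparable_of_annihilator x (cij K⟮x⟯ bL i j e) ?_ hne
      have h3 := cij_mul K⟮x⟯ bL i j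
        ((AdjoinSimple.gen K x) ⊗ₜ[K] (1 : K⟮x⟯) - (1 : K⟮x⟯) ⊗ₜ[K] (AdjoinSimple.gen K x)) e
      rw [hjd, mul_comm d e, he, map_zero] at h3
      have h4 : (cij K⟮x⟯ bL i j e) *
          ((AdjoinSimple.gen K x) ⊗ₜ[K] (1 : K⟮x⟯) - (1 : K⟮x⟯) ⊗ₜ[K] (AdjoinSimple.gen K x)) =
          ((AdjoinSimple.gen K x) ⊗ₜ[K] (1 : K⟮x⟯) - (1 : K⟮x⟯) ⊗ₜ[K] (AdjoinSimple.gen K x)) *
            (cij K⟮x⟯ bL i j e) := by ring
      exact h4.trans h3.symm
    have := lmul_eq_zero_of_cij K⟮x⟯ bL e hall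
    rw [hme] at this
    exact one_ne_zero this
  · intro hx
    obtain ⟨u, hu⟩ := sep_dir x hx
    refine mem_pow_of_eq_mul_sq _ d u ?_ hu
    simp [hd, RingHom.mem_ker]

end Groth.Agent.S15125
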