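import Groth.Statements.S15130
import Mathlib
import Groth.Agent.Lib.Helper77.ArtinFlat

set_option autoImplicit false
universe u v
open CAlg

namespace Groth.Agent.S15130

/-- Let A be an Artinian local ring with residue field k and P → Q → R → M → 0 a complex of A-modules
with P, Q, R flat which is exact at R and at M. If the reduced complex k ⊗ P → k ⊗ Q → k ⊗ R is
exact (the rest of the reduced sequence is then automatically exact), then M is flat and the
original complex is exact at Q as well. (The published statement is for local Artinian algebras over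
an algebraically closed field of characteristic zero having that field as residue field; this row
allows any Artinian local ring.) -/
theorem result
    (A : Type u) [CommRing A] [IsLocalRing A] [IsArtinianRing A]
    (P Q R M : Type v) [AddCommGroup P] [Module A P] [AddCommGroup Q] [Module A Q]
    [AddCommGroup R] [Module A R] [AddCommGroup M] [Module A M]
    [Module.Flat A P] [Module.Flat A Q] [Module.Flat A R]
    (f : P →ₗ[A] Q) (g : Q →ₗ[A] R) (h : R →ₗ[A] M)
    (hfg : g ∘ₗ f = 0) (hgh : Function.Exact g h) (hh : Function.Surjective h)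
    (hred : Function.Exact (f.lTensor (IsLocalRing.ResidueField A)) (g.lTensor (IsLocalRing.ResidueField A))) :
    Module.Flat A M ∧ Function.Exact f g := by
  classical
  -- notation
  let k := IsLocalRing.ResidueField A
  let B : Submodule A R := LinearMap.range g
  let g' : Q →ₗ[A] B := g.rangeRestrict
  have hg'surj : Function.Surjective g' := LinearMap.surjective_rangeRestrict g
  have hιg' : B.subtype ∘ₗ g' = g := LinearMap.subtype_comp_codRestrict _ _ _
  have hexB : Function.Exact B.subtype h := by
    intro r
    rw [hgh r]
    constructor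
    · rintro ⟨q, rfl⟩; exact ⟨⟨g q, ⟨q, rfl⟩⟩, rfl⟩
    · rintro ⟨⟨b, ⟨q, rfl⟩⟩, rfl⟩; exact ⟨q, rfl⟩
  have hg'f : g' ∘ₗ f = 0 := by
    apply LinearMap.ext; intro p
    apply Subtype.ext
    have := congrArg (fun φ : P →ₗ[A] R => φ p) hfg
    simpa [g'] using this
  -- (1) k ⊗ B → k ⊗ R is injective
  have hBinj : Function.Injective (B.subtype.lTensor k) := by
    rw [injective_iff_map_eq_zero]
    intro y hy
    obtain ⟨q, rfl⟩ := LinearMap.lTensor_surjective k hg'surj y
    have h1 : (g.lTensor k) q = 0 := by
      rw [← hιg', LinearMap.lTensor_comp, LinearMap.comp_apply, hy]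
    obtain ⟨p, rfl⟩ := (hred q).mp h1
    rw [← LinearMap.comp_apply, ← LinearMap.lTensor_comp, hg'f, LinearMap.lTensor_zero,
      LinearMap.zero_apply]
  -- (2) M is flat
  have hMflat : Module.Flat A M :=
    Groth.Agent.Lib.Helper77.flat_of_exact_of_lTensor_residueField_injective B.subtype h hh hexB hBinj
  -- (3) B is flat
  have hBflat : Module.Flat A B :=
    Groth.Agent.Lib.Helper77.flat_of_flat_of_flat_coker B.subtype h B.injective_subtype hh hexB
  refine ⟨hMflat, ?_⟩
  -- (4) Z = ker g
  let Z : Submodule A Q := LinearMap.ker g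
  have hexZ : Function.Exact Z.subtype g' := by
    intro q
    constructor
    · intro hq
      refine ⟨⟨q, ?_⟩, rfl⟩
      have := congrArg (fun b : B => (b : R)) hq
      exact LinearMap.mem_ker.mpr (by simpa [g'] using this)
    · rintro ⟨⟨z, hz⟩, rfl⟩
      apply Subtype.ext
      have hz' : g z = 0 := LinearMap.mem_ker.mp hz
      simpa [g'] using hz'
  have hZinj : Function.Injective (Z.subtype.lTensor k) :=
    Groth.Agent.Lib.Helper77.lTensor_injective_of_flat_coker Z.subtype g' Z.injective_subtype
      hg'surj hexZ k
  -- (5) f' : P → Z is surjective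
  let f' : P →ₗ[A] Z := f.codRestrict Z (fun p => by
    have := congrArg (fun φ : P →ₗ[A] R => φ p) hfg
    simpa [Z] using this)
  have hιf' : Z.subtype ∘ₗ f' = f := LinearMap.subtype_comp_codRestrict _ _ _
  have hg'ι : g' ∘ₗ Z.subtype = 0 := by
    apply LinearMap.ext; intro z
    exact (hexZ _).mpr ⟨z, rfl⟩
  have hf'surj : Function.Surjective f' := by
    apply Groth.Agent.Lib.Helper77.surjective_of_lTensor_residueField_surjective
    intro z
    have hgι : g ∘ₗ Z.subtype = 0 := by
      apply LinearMap.ext; intro z
      exact LinearMap.mem_ker.mp z.2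
    have h1 : (g.lTensor k) ((Z.subtype.lTensor k) z) = 0 := by
      rw [← LinearMap.comp_apply, ← LinearMap.lTensor_comp, hgι, LinearMap.lTensor_zero,
        LinearMap.zero_apply]
    obtain ⟨p, hp⟩ := (hred _).mp h1
    refine ⟨p, ?_⟩
    apply hZinj
    rw [← hp, ← LinearMap.comp_apply, ← LinearMap.lTensor_comp, hιf']
  -- (6) exactness
  intro q
  constructor
  · intro hq
    obtain ⟨p, hp⟩ := hf'surj ⟨q, hq⟩
    refine ⟨p, ?_⟩
    have := congrArg (fun z : Z => (z : Q)) hp
    simpa [f'] using this
  · rintro ⟨p, rfl⟩
    have := congrArg (fun φ : P →ₗ[A] R => φ p) hfg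
    simpa using this

end Groth.Agent.S15130
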