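import Groth.Statements.S15131
import Mathlib
import Groth.Agent.Lib.Helper65.ArtTorsor

set_option autoImplicit false
universe u v
open CategoryTheory
open ArtFun

namespace Groth.Agent.S15131

open ArtFun.Art in
/-- Under (H1), (H2) and trivial tangent space, `F(μ)` is injective for every small extension `μ`. -/
theorem map_injective_of_smallExt {k : Type u} [Field k] (F : ArtFun.Art k k ⥤ Type v)
    (h1 : ArtFun.Hbar F) (h2 : ArtFun.Heps F)
    (ht : Subsingleton (ArtFun.TangentSpace F)) {A B : ArtFun.Art k k} (μ : B ⟶ A)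
    (hμ : ArtFun.Art.IsSmallExt μ) : Function.Injective (F.map μ) := by
  intro x₁ x₂ hx
  obtain ⟨P, q₁, q₂, τ, hP, hPτ⟩ := Groth.Agent.Lib.Helper65.exists_torsor_square μ hμ
  obtain ⟨u, hu⟩ := h1 q₁ q₂ μ μ hP hμ ⟨(x₁, x₂), hx⟩
  have hu1 : F.map q₁ u = x₁ := congrArg (fun t => t.1.1) hu
  have hu2 : F.map q₂ u = x₂ := congrArg (fun t => t.1.2) hu
  obtain ⟨δ, hδ1, hδ2⟩ := Groth.Agent.Lib.Helper65.isFibreProd_lift_hom hP (𝟙 B) (𝟙 B) rfl
  have huδ : u = F.map δ x₁ := by
    apply (h2 q₁ τ hPτ).1
    apply ArtFun.FibProd.ext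
    · show F.map q₁ u = F.map q₁ (F.map δ x₁)
      rw [← Functor.map_comp_apply, hδ1, Functor.map_id_apply, hu1]
    · exact ht.elim (F.map τ u) (F.map τ (F.map δ x₁))
  rw [← hu2, huδ, ← Functor.map_comp_apply, hδ2, Functor.map_id_apply]

/-- Let k be a field and F a functor on local Artinian k-algebras with residue field k with F(k) a
single point, satisfying (H1) (the comparison map of A₁ ×_A A₂ is surjective when A₂ → A is a small
extension) and (H2) (it is bijective when A = k and A₂ = k[ε]). If the tangent space F(k[ε]) is a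
single point then F is the one-point functor: every F(A) has exactly one element. (The converse is
clear.) -/
theorem result
    {k : Type u} [Field k] (F : ArtFun.Art k k ⥤ Type v)
    (h0 : ArtFun.H0 F) (h1 : ArtFun.Hbar F) (h2 : ArtFun.Heps F)
    (ht : Subsingleton (ArtFun.TangentSpace F)) (A : ArtFun.Art k k) :
    Nonempty (F.obj A) ∧ Subsingleton (F.obj A) := by
  obtain ⟨⟨pt⟩, hsub⟩ := h0
  refine ⟨?_, ?_⟩
  · -- the structure map `k → A` is a morphism `base ⟶ A`
    let ι : ArtFun.Art.base k k ⟶ A :=
      ⟨Algebra.ofId k A, by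
        apply AlgHom.ext
        intro c
        exact A.res.commutes c⟩
    exact ⟨F.map ι pt⟩
  · have key := Groth.Agent.Lib.Helper65.art_surjective_induction (Λ := k) (k := k)
      (fun A B f => Function.Injective (F.map f)) ?_ ?_ ?_ (ArtFun.Art.toBase A) A.res_surjective
    · exact ⟨fun x y => key (hsub.elim _ _)⟩
    · intro A B e he x y hxy
      have := congrArg (F.map (inv e)) hxy
      rwa [← Functor.map_comp_apply, ← Functor.map_comp_apply, IsIso.hom_inv_id,
        Functor.map_id_apply, Functor.map_id_apply] at this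
    · intro A B p hp
      exact map_injective_of_smallExt F h1 h2 ht p hp
    · intro A B C p q hp hq x y hxy
      rw [Functor.map_comp_apply, Functor.map_comp_apply] at hxy
      exact hp (hq hxy)

end Groth.Agent.S15131
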