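import Groth.Statements.S15132
import Mathlib
import Groth.Agent.Lib.Helper65.ArtTorsor

set_option autoImplicit false
universe u v
open CategoryTheory
open ArtFun

namespace Groth.Agent.S15132

open ArtFun.Art in
/-- Injectivity of the comparison map for a small extension, under (H1), (H2), (H4). -/
theorem cmp_injective_of_smallExt' {k : Type u} [Field k] (F : ArtFun.Art k k ⥤ Type v)
    (h1 : ArtFun.Hbar F) (h2 : ArtFun.Heps F) (h4 : ArtFun.HSq F)
    ⦃B A A' A'' : ArtFun.Art k k⦄ (p' : B ⟶ A') (p'' : B ⟶ A'') (f' : A' ⟶ A) (f'' : A'' ⟶ A)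
    (h : ArtFun.Art.IsFibreProd p' p'' f' f'') (hf : ArtFun.Art.IsSmallExt f'') :
    Function.Injective (ArtFun.cmp F h) := by
  intro z w hzw
  have hz1 : F.map p' z = F.map p' w := congrArg (fun t => t.1.1) hzw
  have hz2 : F.map p'' z = F.map p'' w := congrArg (fun t => t.1.2) hzw
  -- torsor square for f''
  obtain ⟨P, r₁, r₂, τ'', hP, hPτ⟩ := Groth.Agent.Lib.Helper65.exists_torsor_square f'' hf
  -- C = B ×_k k[ε]
  obtain ⟨C, q₁, τ, hC⟩ := Groth.Agent.Lib.Helper65.art_exists_isFibreProd (toBase B)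
    (toBase (dual k k)) (dual k k).res_surjective
  -- g : C → P
  obtain ⟨g, hg1, hgτ⟩ := Groth.Agent.Lib.Helper65.isFibreProd_lift_hom hPτ (q₁ ≫ p'') τ
    (by rw [eq_toBase ((q₁ ≫ p'') ≫ toBase A''), eq_toBase (τ ≫ toBase (dual k k))])
  -- q₂ : C → B
  obtain ⟨q₂, hq2a, hq2b⟩ := Groth.Agent.Lib.Helper65.isFibreProd_lift_hom h (q₁ ≫ p') (g ≫ r₂)
    (by rw [Category.assoc, h.w, ← Category.assoc, ← hg1, Category.assoc, hP.w, Category.assoc])
  -- C = B ×_{A'} B
  have hCC : IsFibreProd q₁ q₂ p' p' := by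
    refine ⟨hq2a.symm, ?_, ?_⟩
    · intro x y hx1 hx2
      apply hC.inj x y hx1
      have hgx : g x = g y := by
        apply hP.inj
        · have e1 : r₁ (g x) = p'' (q₁ x) := congrArg (fun t : C ⟶ A'' => t.toAlgHom x) hg1
          have e2 : r₁ (g y) = p'' (q₁ y) := congrArg (fun t : C ⟶ A'' => t.toAlgHom y) hg1
          rw [e1, e2, hx1]
        · have e1 : p'' (q₂ x) = r₂ (g x) := congrArg (fun t : C ⟶ A'' => t.toAlgHom x) hq2b
          have e2 : p'' (q₂ y) = r₂ (g y) := congrArg (fun t : C ⟶ A'' => t.toAlgHom y) hq2b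
          rw [← e1, ← e2, hx2]
      have e1 : τ'' (g x) = τ x := congrArg (fun t : C ⟶ dual k k => t.toAlgHom x) hgτ
      have e2 : τ'' (g y) = τ y := congrArg (fun t : C ⟶ dual k k => t.toAlgHom y) hgτ
      rw [← e1, ← e2, hgx]
    · intro b₁ b₂ hb
      have hb' : f'' (p'' b₁) = f'' (p'' b₂) := by
        rw [← h.w_apply, ← h.w_apply, hb]
      obtain ⟨y, hy1, hy2⟩ := hP.surj (p'' b₁) (p'' b₂) hb'
      obtain ⟨x, hx1, hx2⟩ := hC.surj b₁ (τ'' y) (by
        change B.res b₁ = (dual k k).res (τ'' y)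
        rw [Art.res_app τ'' y, ← Art.res_app r₁ y, hy1, Art.res_app p'' b₁])
      refine ⟨x, hx1, ?_⟩
      have hgx : g x = y := by
        apply hPτ.inj
        · have e1 : r₁ (g x) = p'' (q₁ x) := congrArg (fun t : C ⟶ A'' => t.toAlgHom x) hg1
          rw [e1, hx1, hy1]
        · have e1 : τ'' (g x) = τ x := congrArg (fun t : C ⟶ dual k k => t.toAlgHom x) hgτ
          rw [e1, hx2]
      apply h.inj
      · have e1 : p' (q₂ x) = p' (q₁ x) := congrArg (fun t : C ⟶ A' => t.toAlgHom x) hq2a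
        rw [e1, hx1, hb]
      · have e1 : p'' (q₂ x) = r₂ (g x) := congrArg (fun t : C ⟶ A'' => t.toAlgHom x) hq2b
        rw [e1, hgx, hy2]
  have hp'surj : Function.Surjective p' := by
    intro a'
    obtain ⟨a'', ha''⟩ := hf.1 (f' a')
    obtain ⟨b, hb, -⟩ := h.surj a' a'' ha''.symm
    exact ⟨b, hb⟩
  -- lift (z, w) to u ∈ F(C)
  obtain ⟨u, hu⟩ := Groth.Agent.Lib.Helper65.cmp_surjective_of_smallExt F h1 q₁ q₂ p' p' hCC hp'surj
    ⟨(z, w), hz1⟩
  have hu1 : F.map q₁ u = z := congrArg (fun t => t.1.1) hu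
  have hu2 : F.map q₂ u = w := congrArg (fun t => t.1.2) hu
  -- diagonal of P
  obtain ⟨δ, hδ1, hδ2⟩ := Groth.Agent.Lib.Helper65.isFibreProd_lift_hom hP (𝟙 A'') (𝟙 A'') rfl
  -- F(g) u = F(δ) (F(p'') z)
  have hgu : F.map g u = F.map δ (F.map p'' z) := by
    apply (h4 r₁ r₂ f'' hP hf).1
    apply ArtFun.FibProd.ext
    · show F.map r₁ (F.map g u) = F.map r₁ (F.map δ (F.map p'' z))
      rw [← Functor.map_comp_apply, ← Functor.map_comp_apply, hδ1, Functor.map_id_apply, hg1,
        Functor.map_comp_apply, hu1]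
    · show F.map r₂ (F.map g u) = F.map r₂ (F.map δ (F.map p'' z))
      rw [← Functor.map_comp_apply, ← Functor.map_comp_apply, hδ2, Functor.map_id_apply, ← hq2b,
        Functor.map_comp_apply, hu2, hz2]
  -- section σ : B → C
  obtain ⟨σ, hσ1, hστ⟩ := Groth.Agent.Lib.Helper65.isFibreProd_lift_hom hC (𝟙 B) (p'' ≫ δ ≫ τ'')
    (by rw [eq_toBase (𝟙 B ≫ toBase B), eq_toBase ((p'' ≫ δ ≫ τ'') ≫ toBase (dual k k))])
  have hσg : σ ≫ g = p'' ≫ δ := by
    apply Groth.Agent.Lib.Helper65.isFibreProd_hom_ext hPτ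
    · rw [Category.assoc, hg1, ← Category.assoc, hσ1, Category.id_comp, Category.assoc, hδ1,
        Category.comp_id]
    · rw [Category.assoc, hgτ, hστ, Category.assoc]
  have hσ2 : σ ≫ q₂ = 𝟙 B := by
    apply Groth.Agent.Lib.Helper65.isFibreProd_hom_ext h
    · rw [Category.assoc, hq2a, ← Category.assoc, hσ1]
    · rw [Category.assoc, hq2b, ← Category.assoc, hσg, Category.assoc, hδ2, Category.comp_id,
        Category.id_comp]
  have huσ : u = F.map σ z := by
    apply (h2 q₁ τ hC).1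
    apply ArtFun.FibProd.ext
    · show F.map q₁ u = F.map q₁ (F.map σ z)
      rw [← Functor.map_comp_apply, hσ1, Functor.map_id_apply, hu1]
    · show F.map τ u = F.map τ (F.map σ z)
      rw [← Functor.map_comp_apply, hστ, ← hgτ, Functor.map_comp_apply, hgu,
        Functor.map_comp_apply, Functor.map_comp_apply]
  rw [← hu2, huσ, ← Functor.map_comp_apply, hσ2, Functor.map_id_apply]

/-- Let k be a field and F a functor on local Artinian k-algebras with residue field k with F(k) a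
single point. If F satisfies (H1), (H2) and (H4) — surjectivity of the comparison map F(A₁ ×_A A₂) →
F(A₁) ×_{F(A)} F(A₂) when A₂ → A is a small extension, bijectivity when A = k and A₂ = k[ε], and
bijectivity for A₂ ×_A A₂ with A₂ → A a small extension — then F is homogeneous: the comparison map
is bijective for every fibre-product square in which A₂ → A is surjective. (The converse
implications are immediate.) -/
theorem result
    {k : Type u} [Field k] (F : ArtFun.Art k k ⥤ Type v)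
    (h0 : ArtFun.H0 F) (h1 : ArtFun.Hbar F) (h2 : ArtFun.Heps F) (h4 : ArtFun.HSq F)
    ⦃B A A' A'' : ArtFun.Art k k⦄ (p' : B ⟶ A') (p'' : B ⟶ A'') (f' : A' ⟶ A) (f'' : A'' ⟶ A)
    (h : ArtFun.Art.IsFibreProd p' p'' f' f'') (hf : Function.Surjective f'') :
    Function.Bijective (ArtFun.cmp F h) := by
  refine Groth.Agent.Lib.Helper65.cmp_bijective_of_smallExt F ?_ p' p'' f' f'' h hf
  intro B A A' A'' p' p'' f' f'' h hs
  exact ⟨cmp_injective_of_smallExt' F h1 h2 h4 p' p'' f' f'' h hs, h1 p' p'' f' f'' h hs⟩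

end Groth.Agent.S15132
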