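import Groth.Statements.S15133
import Mathlib
import Groth.Agent.Lib.Helper77.ArtinFlat

set_option autoImplicit false
universe u
open CategoryTheory
open CAlg

namespace Groth.Agent.S15133

/-- Let A be an Artinian local ring with residue field k, n ≥ 1, and 0 → I → P₀ → P₁ → ⋯ → Pₙ a complex
of A-modules with P₀, …, Pₙ flat whose reduction 0 → k ⊗ I → k ⊗ P₀ → ⋯ → k ⊗ Pₙ is exact. Then I
and coker(Pₙ₋₁ → Pₙ) are flat. The complex is written as a cochain complex C indexed by ℕ with C⁰ =
I and Cⁱ⁺¹ = Pᵢ; its terms in degrees above n + 1 play no role. (The published statement adds that I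
maps onto the kernel of k ⊗ P₀ → k ⊗ P₁, which is already part of the exactness hypothesis, and is
for local Artinian algebras over an algebraically closed field of characteristic zero having that
field as residue field; this row allows any Artinian local ring.) -/
theorem result
    (A : Type u) [CommRing A] [IsLocalRing A] [IsArtinianRing A] (n : ℕ) (hn : 0 < n)
    (C : CochainComplex (ModuleCat.{u} A) ℕ)
    (hflat : ∀ i, i ≤ n → Module.Flat A (C.X (i + 1)))
    (hred : ∀ j, j ≤ n →
      (((MonoidalCategory.tensorLeft (ModuleCat.of A (IsLocalRing.ResidueField A))).mapHomologicalComplex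
        (ComplexShape.up ℕ)).obj C).ExactAt j) :
    Module.Flat A (C.X 0) ∧ Module.Flat A (C.X (n + 1) ⧸ LinearMap.range (C.d n (n + 1)).hom) := by
  obtain ⟨m, rfl⟩ : ∃ m, n = m + 1 := ⟨n - 1, by omega⟩
  have hex : ∀ j, j + 1 ≤ m + 1 →
      Function.Exact ((C.d j (j + 1)).hom.lTensor (IsLocalRing.ResidueField A))
        ((C.d (j + 1) (j + 2)).hom.lTensor (IsLocalRing.ResidueField A)) := by
    intro j hj
    have h := hred (j + 1) hj
    rw [HomologicalComplex.exactAt_iff' _ j (j + 1) (j + 2) (by simp) (by simp)] at h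
    rw [CategoryTheory.ShortComplex.ShortExact.moduleCat_exact_iff_function_exact] at h
    exact h
  have hinj0 : Function.Injective ((C.d 0 1).hom.lTensor (IsLocalRing.ResidueField A)) := by
    have h := hred 0 (by omega)
    rw [HomologicalComplex.exactAt_iff' _ 0 0 1 (by simp) (by simp)] at h
    rw [CategoryTheory.ShortComplex.ShortExact.moduleCat_exact_iff_function_exact] at h
    rw [injective_iff_map_eq_zero]
    intro x hx
    obtain ⟨y, hy⟩ := (h x).mp hx
    rw [← hy]
    have hz : (((MonoidalCategory.tensorLeft (ModuleCat.of A (IsLocalRing.ResidueField A))).mapHomologicalComplex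
        (ComplexShape.up ℕ)).obj C).d 0 0 = 0 := HomologicalComplex.shape _ 0 0 (by simp)
    change ((((MonoidalCategory.tensorLeft (ModuleCat.of A (IsLocalRing.ResidueField A))).mapHomologicalComplex
        (ComplexShape.up ℕ)).obj C).d 0 0) y = 0
    rw [hz]
    rfl
  have hcomp : ∀ j, (C.d (j + 1) (j + 2)).hom ∘ₗ (C.d j (j + 1)).hom = 0 := by
    intro j
    have := C.d_comp_d j (j + 1) (j + 2)
    have h2 := congrArg ModuleCat.Hom.hom this
    rw [ModuleCat.hom_comp, ModuleCat.hom_zero] at h2
    exact h2
  have hfl1 : Module.Flat A (C.X 1) := hflat 0 (by omega)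
  have hfl2 : Module.Flat A (C.X 2) := hflat 1 (by omega)
  have hflm1 : Module.Flat A (C.X (m + 1)) := hflat m (by omega)
  have hflm2 : Module.Flat A (C.X (m + 2)) := hflat (m + 1) (by omega)
  refine ⟨?_, ?_⟩
  · exact Groth.Agent.Lib.Helper77.flat_head_of_reduced_exact (C.d 0 1).hom (C.d 1 2).hom (hcomp 0)
      hinj0 (hex 0 (by omega))
  · exact (Groth.Agent.Lib.Helper77.flat_and_exact_of_reduced_exact (C.d m (m + 1)).hom
      (C.d (m + 1) (m + 2)).hom (LinearMap.range (C.d (m + 1) (m + 2)).hom).mkQ (hcomp m)
      (LinearMap.exact_map_mkQ_range _) (Submodule.mkQ_surjective _) (hex m (by omega))).1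

end Groth.Agent.S15133
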