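import Groth.Statements.S15134
import Mathlib
import Groth.Agent.Lib.Helper65.ArtQuot

set_option autoImplicit false
universe u v
open CategoryTheory
open ArtFun

namespace Groth.Agent.S15134

/-- Let k be a field and F a functor on local Artinian k-algebras with residue field k with F(k) a
point. If F satisfies (H2') — the comparison map F(A₁ ×_k A₂) → F(A₁) × F(A₂) is bijective for every
pair of objects — then F satisfies condition (L): for every small extension f : B → A with kernel J,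
writing P = B ×_k B, Q = A ×_k A, r : P → Q for the map induced by f, and C = P/K with K the ideal
of P consisting of the pairs (b, b) with b ∈ J, every element of F(Q) whose two images in F(A) agree
lifts along F(C) → F(Q). Here P and Q are pinned as fibre products over k, K is described through
the two projections, and the two inequalities on K (it lies in the maximal ideal of P and is killed
by r), which always hold, are taken as hypotheses so that the quotient object and the factored map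
can be named. -/
theorem result
    {k : Type u} [Field k] (F : ArtFun.Art k k ⥤ Type v) (h0 : ArtFun.H0 F)
    (h2' : ∀ ⦃P A' A'' : ArtFun.Art k k⦄ (p' : P ⟶ A') (p'' : P ⟶ A'')
      (h : ArtFun.Art.IsFibreProd p' p'' (ArtFun.Art.toBase A') (ArtFun.Art.toBase A'')),
      Function.Bijective (ArtFun.cmp F h))
    ⦃B A : ArtFun.Art k k⦄ (f : B ⟶ A) (hf : ArtFun.Art.IsSmallExt f)
    ⦃P : ArtFun.Art k k⦄ (p₁ p₂ : P ⟶ B)
    (hP : ArtFun.Art.IsFibreProd p₁ p₂ (ArtFun.Art.toBase B) (ArtFun.Art.toBase B))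
    ⦃Q : ArtFun.Art k k⦄ (q₁ q₂ : Q ⟶ A)
    (hQ : ArtFun.Art.IsFibreProd q₁ q₂ (ArtFun.Art.toBase A) (ArtFun.Art.toBase A))
    (r : P ⟶ Q) (hr₁ : r ≫ q₁ = p₁ ≫ f) (hr₂ : r ≫ q₂ = p₂ ≫ f)
    (hK : Ideal.span {z : P | p₁ z = p₂ z ∧ f (p₁ z) = 0} ≤ IsLocalRing.maximalIdeal P)
    (hKr : Ideal.span {z : P | p₁ z = p₂ z ∧ f (p₁ z) = 0} ≤ RingHom.ker r.toAlgHom)
    (y : F.obj Q) (hy : F.map q₁ y = F.map q₂ y) :
    ∃ z : F.obj (ArtFun.Art.quot P (Ideal.span {z : P | p₁ z = p₂ z ∧ f (p₁ z) = 0}) hK),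
      F.map (ArtFun.Art.quotFactor hK r hKr) z = y := by
  classical
  -- diagonals
  obtain ⟨δB, hδB1, hδB2⟩ := Groth.Agent.Lib.Helper65.isFibreProd_lift_hom hP (𝟙 B) (𝟙 B) rfl
  obtain ⟨δA, hδA1, hδA2⟩ := Groth.Agent.Lib.Helper65.isFibreProd_lift_hom hQ (𝟙 A) (𝟙 A) rfl
  set K : Ideal P := Ideal.span {z : P | p₁ z = p₂ z ∧ f (p₁ z) = 0} with hKdef
  -- δB ≫ quotMk kills ker f
  have hkill : RingHom.ker f.toAlgHom ≤ RingHom.ker (δB ≫ ArtFun.Art.quotMk P K hK).toAlgHom := by
    intro b hb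
    rw [RingHom.mem_ker] at hb ⊢
    have h1 : p₁ (δB b) = b := congrArg (fun t : B ⟶ B => t.toAlgHom b) hδB1
    have h2 : p₂ (δB b) = b := congrArg (fun t : B ⟶ B => t.toAlgHom b) hδB2
    have hmem : δB b ∈ K := by
      apply Ideal.subset_span
      refine ⟨by rw [h1, h2], ?_⟩
      rw [h1]; exact hb
    show Ideal.Quotient.mk K (δB b) = 0
    exact Ideal.Quotient.eq_zero_iff_mem.mpr hmem
  have := Groth.Agent.Lib.Helper65.quotFactor_ker_isIso f hf.1
  let s : A ⟶ ArtFun.Art.quot P K hK :=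
    inv (ArtFun.Art.quotFactor (Groth.Agent.Lib.Helper65.art_ker_le_maximalIdeal f) f le_rfl) ≫
      ArtFun.Art.quotFactor (Groth.Agent.Lib.Helper65.art_ker_le_maximalIdeal f)
        (δB ≫ ArtFun.Art.quotMk P K hK) hkill
  have hfs : f ≫ s = δB ≫ ArtFun.Art.quotMk P K hK := by
    have e1 : f = ArtFun.Art.quotMk B _ (Groth.Agent.Lib.Helper65.art_ker_le_maximalIdeal f) ≫
        ArtFun.Art.quotFactor (Groth.Agent.Lib.Helper65.art_ker_le_maximalIdeal f) f le_rfl :=
      (ArtFun.Art.quotMk_quotFactor _ f le_rfl).symm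
    conv_lhs => rw [e1]
    simp only [s, Category.assoc, IsIso.hom_inv_id_assoc]
    exact ArtFun.Art.quotMk_quotFactor _ _ hkill
  have hδr : δB ≫ r = f ≫ δA := by
    apply Groth.Agent.Lib.Helper65.isFibreProd_hom_ext hQ
    · rw [Category.assoc, hr₁, ← Category.assoc, hδB1, Category.id_comp, Category.assoc, hδA1,
        Category.comp_id]
    · rw [Category.assoc, hr₂, ← Category.assoc, hδB2, Category.id_comp, Category.assoc, hδA2,
        Category.comp_id]
  have hsr : s ≫ ArtFun.Art.quotFactor hK r hKr = δA := by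
    have h1 : f ≫ (s ≫ ArtFun.Art.quotFactor hK r hKr) = f ≫ δA := by
      rw [← Category.assoc, hfs, Category.assoc, ArtFun.Art.quotMk_quotFactor, hδr]
    apply ArtFun.Art.hom_ext
    apply AlgHom.ext
    intro a
    obtain ⟨b, rfl⟩ := hf.1 a
    exact congrArg (fun t : B ⟶ Q => t.toAlgHom b) h1
  -- y = F(δA)(F q₁ y)
  have hyδ : F.map δA (F.map q₁ y) = y := by
    apply (h2' q₁ q₂ hQ).1
    apply ArtFun.FibProd.ext
    · show F.map q₁ (F.map δA (F.map q₁ y)) = F.map q₁ y
      rw [← Functor.map_comp_apply, hδA1, Functor.map_id_apply]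
    · show F.map q₂ (F.map δA (F.map q₁ y)) = F.map q₂ y
      rw [← Functor.map_comp_apply, hδA2, Functor.map_id_apply, hy]
  refine ⟨F.map s (F.map q₁ y), ?_⟩
  rw [← Functor.map_comp_apply, hsr, hyδ]

end Groth.Agent.S15134
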