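import Groth.Statements.S1515
import Groth.Agent.Lib.Helper82.SmoothDiag


set_option autoImplicit false
universe u
attribute [local instance] HasDerivedCategory.standard
open FlatMor

namespace Groth.Agent.S1515

open AlgebraicGeometry CategoryTheory Limits in
/-- (1) ⇔ (2) ⇔ (4): let f : X → Y be separated and of finite type between locally Noetherian schemes,
with diagonal Δ (a closed immersion). Then f is smooth iff f is flat and Δ is a regular closed
immersion, iff f is flat and Δ is a perfect morphism. -/
theorem result {X Y : Scheme.{u}} (f : X ⟶ Y) [IsSeparated f] [LocallyOfFiniteType f] [QuasiCompact f] [IsLocallyNoetherian X] [IsLocallyNoetherian Y] :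
    (Smooth f ↔ Flat f ∧ Mor2.IsRegularClosedImmersion (pullback.diagonal f)) ∧
    (Smooth f ↔ Flat f ∧ MoreMor.IsPerfectMor (pullback.diagonal f)) := by
  have hlfp : LocallyOfFinitePresentation f := inferInstance
  refine ⟨⟨fun h => ⟨inferInstance,
      Groth.Agent.Lib.Helper82.SmoothDiag.isRegularClosedImmersion_diagonal_of_smooth f⟩,
    fun ⟨h1, h2⟩ =>
      Groth.Agent.Lib.Helper82.SmoothDiag.smooth_of_flat_of_isRegularClosedImmersion_diagonal f h2⟩,
    ⟨fun h => ⟨inferInstance, Groth.Agent.S1509.result _
      (Groth.Agent.Lib.Helper82.SmoothDiag.isRegularClosedImmersion_diagonal_of_smooth f)⟩,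
    fun ⟨h1, h2⟩ =>
      Groth.Agent.Lib.Helper82.SmoothDiag.smooth_of_flat_of_isPerfectMor_diagonal f h2⟩⟩

end Groth.Agent.S1515
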