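import Groth.Statements.S15150
import Mathlib

set_option autoImplicit false
universe u
open HilbZeta

namespace Groth.Agent.S15150

open TensorProduct

theorem nilradical_pow_finrank_eq_bot (F C : Type*) [Field F] [CommRing C] [Algebra F C]
    [FiniteDimensional F C] :
    (nilradical C) ^ (Module.finrank F C) = ⊥ := by
  have : IsArtinianRing C := IsArtinianRing.of_finite F C
  set N := nilradical C with hNdef
  obtain ⟨n, hn⟩ : IsNilpotent N := IsArtinianRing.isNilpotent_nilradical
  have key : ∀ i, N ^ i = ⊥ ∨
      Module.finrank F ((N ^ i).restrictScalars F) + i ≤ Module.finrank F C := by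
    intro i
    induction i with
    | zero =>
      right
      exact Submodule.finrank_le _
    | succ i ih =>
      rcases ih with h | h
      · left; rw [pow_succ, h, Ideal.bot_mul]
      · by_cases heq : N ^ (i + 1) = N ^ i
        · left
          have hall : ∀ m, N ^ (i + m) = N ^ i := by
            intro m
            induction m with
            | zero => rfl
            | succ m ihm => rw [← add_assoc, pow_succ, ihm, ← pow_succ, heq]
          rw [heq, ← hall n, pow_add, hn, mul_zero]; rfl
        · right
          have hlt : (N ^ (i + 1)).restrictScalars F < (N ^ i).restrictScalars F := by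
            refine lt_of_le_of_ne (Ideal.pow_le_pow_right (Nat.le_succ i)) ?_
            intro h'
            exact heq (Submodule.restrictScalars_injective F _ _ h')
          have := Submodule.finrank_lt_finrank_of_lt hlt
          omega
  rcases key (Module.finrank F C) with h | h
  · exact h
  · have h0 : Module.finrank F ((N ^ Module.finrank F C).restrictScalars F) = 0 := by omega
    have h1 := Submodule.finrank_eq_zero.mp h0
    apply Submodule.restrictScalars_injective F
    rw [h1]
    rfl

theorem eq_zero_of_forall_fiber (A B : Type*) [CommRing A] [IsReduced A] [AddCommGroup B]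
    [Module A B] [Module.Projective A B] (b : B)
    (h : ∀ p : PrimeSpectrum A, (1 : p.asIdeal.ResidueField) ⊗ₜ[A] b = 0) : b = 0 := by
  by_contra hb
  obtain ⟨s, hs⟩ := Module.projective_def'.mp ‹Module.Projective A B›
  have hsb : s b ≠ 0 := by
    intro h0
    apply hb
    have := congrArg (fun f => f b) hs
    simpa [h0] using this.symm
  obtain ⟨c, hc⟩ : ∃ c, s b c ≠ 0 := by
    by_contra hcon
    push Not at hcon
    exact hsb (Finsupp.ext hcon)
  let φ : B →ₗ[A] A := (Finsupp.lapply c).comp s
  have hφ : φ b ≠ 0 := hc
  have hnn : ¬ IsNilpotent (φ b) := fun hn => hφ hn.eq_zero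
  obtain ⟨p, hp, hnot⟩ : ∃ p : Ideal A, p.IsPrime ∧ φ b ∉ p := by
    by_contra hcon
    push Not at hcon
    apply hnn
    rw [← mem_nilradical, nilradical_eq_sInf, Ideal.mem_sInf]
    exact fun {I} hI => hcon I hI
  have h1 := h ⟨p, hp⟩
  have h2 := congrArg (LinearMap.lTensor p.ResidueField φ) h1
  rw [LinearMap.lTensor_tmul, map_zero] at h2
  have h3 := congrArg (TensorProduct.rid A p.ResidueField) h2
  rw [TensorProduct.rid_tmul, map_zero, Algebra.smul_def, mul_one] at h3
  exact hnot ((Ideal.algebraMap_residueField_eq_zero).mp h3)

/-- Let A be a reduced commutative ring, S an A-algebra together with an A-algebra homomorphism π : S →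
A (a section of Spec S → Spec A), with kernel m, and I an ideal of S such that S/I is a finite
projective A-module of constant rank d and m is contained in the radical of I (the finite flat
subscheme Spec S/I of degree d lies, as a set, on the section). Then m^d ⊆ I: the subscheme lies in
the (d−1)-st infinitesimal neighbourhood of the section. (The published statement is for a closed
subscheme, flat and proper of degree d over a Noetherian base, of a family of reduced curve
singularities with a section, with no reducedness assumption on the base; over the dual numbers k[ε]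
the ideal (x − ε) of k[ε][x] has quotient free of rank one and radical containing x but does not
contain x, so the base is taken reduced here, and the statement is given in its affine form, to
which the argument reduces at once; the curve hypotheses play no role and are dropped; the condition
that Spec S/I lies set-theoretically on the section, which the published argument deduces from
properness of Z inside the germ, is a hypothesis here.) -/
theorem result (A : Type u) [CommRing A] [IsReduced A]
    (S : Type u) [CommRing S] [Algebra A S] (π : S →ₐ[A] A) (I : Ideal S) (d : ℕ)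
    [Module.Finite A (S ⧸ I)] [Module.Projective A (S ⧸ I)]
    (hrank : ∀ p : PrimeSpectrum A, Module.rankAtStalk (R := A) (S ⧸ I) p = d)
    (hsupp : RingHom.ker π ≤ I.radical) :
    RingHom.ker π ^ d ≤ I := by
  have hN : (nilradical (S ⧸ I)) ^ d = ⊥ := by
    rw [eq_bot_iff]
    intro b hb
    rw [Ideal.mem_bot]
    apply eq_zero_of_forall_fiber A (S ⧸ I) b
    intro p
    let ι : (S ⧸ I) →ₐ[A] p.asIdeal.ResidueField ⊗[A] (S ⧸ I) :=
      Algebra.TensorProduct.includeRight
    have h1 : ι b ∈ (nilradical (p.asIdeal.ResidueField ⊗[A] (S ⧸ I))) ^ d := by
      have hle : Ideal.map ι (nilradical (S ⧸ I)) ≤ nilradical _ := by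
        rw [Ideal.map_le_iff_le_comap]
        intro x hx
        exact (mem_nilradical.mp hx).map ι
      exact Ideal.pow_right_mono hle d
        (by rw [← Ideal.map_pow]; exact Ideal.mem_map_of_mem ι hb)
    have h2 := nilradical_pow_finrank_eq_bot p.asIdeal.ResidueField
      (p.asIdeal.ResidueField ⊗[A] (S ⧸ I))
    have h3 : Module.finrank p.asIdeal.ResidueField (p.asIdeal.ResidueField ⊗[A] (S ⧸ I)) = d := by
      rw [← hrank p, Module.rankAtStalk_eq]
    rw [h3] at h2
    rw [h2] at h1
    exact h1
  intro x hx
  have hx' : x ∈ I.radical ^ d := Ideal.pow_right_mono hsupp d hx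
  have hmem : Ideal.Quotient.mk I x ∈ (nilradical (S ⧸ I)) ^ d := by
    have hmap : Ideal.map (Ideal.Quotient.mk I) I.radical ≤ nilradical (S ⧸ I) := by
      rw [Ideal.map_le_iff_le_comap]
      intro y hy
      obtain ⟨n, hn⟩ := hy
      rw [Ideal.mem_comap, mem_nilradical]
      exact ⟨n, by rw [← map_pow, Ideal.Quotient.eq_zero_iff_mem]; exact hn⟩
    exact Ideal.pow_right_mono hmap d
      (by rw [← Ideal.map_pow]; exact Ideal.mem_map_of_mem _ hx')
  rw [hN, Ideal.mem_bot, Ideal.Quotient.eq_zero_iff_mem] at hmem
  exact hmem

end Groth.Agent.S15150
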