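import Groth.Statements.S15151
import Mathlib

set_option autoImplicit false
universe u
open CategoryTheory AlgebraicGeometry
open HilbZeta

namespace Groth.Agent.S15151

/-- A ring hom from a PID is flat iff it is torsion-free in the naive sense. -/
theorem flat_of_torsionFree {R S : Type*} [CommRing R] [IsDomain R] [IsBezout R] [CommRing S]
    (ψ : R →+* S) (h : ∀ (p : R) (b : S), p ≠ 0 → ψ p * b = 0 → b = 0) : ψ.Flat := by
  let _ := ψ.toAlgebra
  show Module.Flat R S
  rw [Module.Flat.flat_iff_torsion_eq_bot_of_isBezout, eq_bot_iff]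
  intro b hb
  rw [Submodule.mem_torsion_iff] at hb
  obtain ⟨a, ha⟩ := hb
  rw [Submodule.mem_bot]
  refine h (a : R) b (nonZeroDivisors.coe_ne_zero a) ?_
  rw [← ha]
  rfl

theorem torsionFree_of_flat {R S : Type*} [CommRing R] [IsDomain R] [CommRing S]
    (ψ : R →+* S) (hψ : ψ.Flat) (p : R) (b : S) (hp : p ≠ 0) (hb : ψ p * b = 0) : b = 0 := by
  let _ := ψ.toAlgebra
  have : Module.Flat R S := hψ
  have ht := Module.Flat.torsion_eq_bot (R := R) (M := S)
  have hmem : b ∈ Submodule.torsion R S := by
    rw [Submodule.mem_torsion_iff]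
    exact ⟨⟨p, mem_nonZeroDivisors_of_ne_zero hp⟩, hb⟩
  rw [ht, Submodule.mem_bot] at hmem
  exact hmem

/-- Let k be a field, and let f : X → Y and g : Y → Spec k[t] be morphisms of schemes with f
quasi-compact and with zero kernel ideal sheaf (Y is the scheme-theoretic image of f), such that the
composite X → Spec k[t] is flat. Then g is flat; in particular a k[t]-subalgebra of a flat
k[t]-algebra is flat. (The published statement has no quasi-compactness hypothesis on f and is over
an algebraically closed field; this row assumes f quasi-compact and allows any field.) -/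
theorem result (k : Type u) [Field k]
    (X Y : Scheme.{u}) (f : X ⟶ Y) (g : Y ⟶ Spec (CommRingCat.of (Polynomial k)))
    [QuasiCompact f] (hker : f.ker = ⊥) [Flat (f ≫ g)] : Flat g := by
  have hdom : IsSchemeTheoreticallyDominant f := ⟨hker⟩
  refine HasRingHomProperty.of_iSup_eq_top (P := @Flat) (fun V : Y.affineOpens => V)
    (iSup_affineOpens_eq_top Y) ?_
  intro V
  let e := Scheme.ΓSpecIso (CommRingCat.of (Polynomial k))
  have hebij : Function.Bijective e.inv.hom := ConcreteCategory.bijective_of_isIso e.inv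
  rw [← RingHom.Flat.comp_iff_of_bijective_right hebij]
  apply flat_of_torsionFree
  intro p b hp hpb
  -- push to X
  apply f.app_injective V.1
  rw [map_zero]
  refine X.IsSheaf.section_ext fun x hx => ?_
  obtain ⟨_, ⟨W, hW, rfl⟩, hxW, hWV : W ≤ f ⁻¹ᵁ V.1⟩ :=
    X.isBasis_affineOpens.exists_subset_of_mem_open hx (f ⁻¹ᵁ V.1).isOpen
  refine ⟨W, hWV, hxW, ?_⟩
  rw [map_zero]
  -- flatness of the composite on `W`
  have hflat : ((f ≫ g).appLE ⊤ W le_top).hom.Flat :=
    HasRingHomProperty.appLE (P := @Flat) (f ≫ g) inferInstance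
      ⟨⊤, isAffineOpen_top _⟩ ⟨W, hW⟩ le_top
  rw [← RingHom.Flat.comp_iff_of_bijective_right hebij] at hflat
  refine torsionFree_of_flat _ hflat p _ hp ?_
  have hcomp : (f ≫ g).appLE ⊤ W le_top = g.appLE ⊤ V.1 le_top ≫ f.appLE V.1 W hWV :=
    (Scheme.Hom.appLE_comp_appLE f g ⊤ V.1 W le_top hWV).symm
  have hres : X.presheaf.map (homOfLE hWV).op (f.app V.1 b) = f.appLE V.1 W hWV b := by
    rw [← ConcreteCategory.comp_apply, Scheme.Hom.app_eq_appLE, Scheme.Hom.appLE_map]
  rw [hres, hcomp]
  simp only [RingHom.comp_apply, CommRingCat.hom_comp]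
  rw [← map_mul]
  have : (g.appLE ⊤ V.1 le_top).hom (e.inv.hom p) * b = 0 := hpb
  rw [this, map_zero]

end Groth.Agent.S15151
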