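import Groth.Statements.S15153
import Mathlib
import Groth.Agent.Lib.Helper77.RankConstructible

set_option autoImplicit false
universe u
open TensorProduct
open HilbZeta

namespace Groth.Agent.S15153

/-- Let A be a Noetherian commutative ring, S a commutative A-algebra and Q an S-module which is finite
and flat as an A-module. For a prime p of A with residue field κ(p), multiplication by an element of
S induces a κ(p)-linear endomorphism of the fibre κ(p) ⊗_A Q; let φ(p) be the κ(p)-dimension of the
span of these endomorphisms, which is the colength of the annihilator of the fibre module κ(p) ⊗_A Q
in the fibre algebra κ(p) ⊗_A S (the length of the smallest subscheme of the fibre carrying it).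
Then p ↦ φ(p) is a constructible function: for every n the primes with φ(p) = n form a constructible
subset of Spec A. (The published statement is for a coherent sheaf, flat and finite over a
Noetherian base, on a family of reduced curve singularities with a section, and its function of the
base point is this colength; the curve hypotheses play no role and the row is the affine form over
any Noetherian ring.) -/
theorem result (A : Type u) [CommRing A] [IsNoetherianRing A]
    (S : Type u) [CommRing S] [Algebra A S]
    (Q : Type u) [AddCommGroup Q] [Module A Q] [Module S Q] [IsScalarTower A S Q]
    [Module.Finite A Q] [Module.Flat A Q] (n : ℕ) :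
    Topology.IsConstructible {p : PrimeSpectrum A |
      Module.finrank p.asIdeal.ResidueField
        (Submodule.span p.asIdeal.ResidueField
          (Set.range fun s : S =>
            LinearMap.baseChange p.asIdeal.ResidueField (DistribSMul.toLinearMap A Q s))) = n} := by
  classical
  have : Module.FinitePresentation A Q := Module.finitePresentation_of_finite A Q
  have : Module.Projective A Q := Module.Flat.projective_of_finitePresentation
  let T : S → Module.End A Q := fun s => DistribSMul.toLinearMap A Q s
  have hfg : (Submodule.span A (Set.range T)).FG := IsNoetherian.noetherian _
  obtain ⟨t, ht_sub, ht_span⟩ := (Submodule.fg_span_iff_fg_span_finset_subset _).mp hfg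
  let E : {x // x ∈ t} → Module.End A Q := fun x => x.1
  obtain ⟨N, w, hw⟩ := Groth.Agent.Lib.Helper77.RankConstructible.exists_matrix_rank E
  have hset : {p : PrimeSpectrum A |
      Module.finrank p.asIdeal.ResidueField
        (Submodule.span p.asIdeal.ResidueField
          (Set.range fun s : S =>
            LinearMap.baseChange p.asIdeal.ResidueField (DistribSMul.toLinearMap A Q s))) = n} =
      {p : PrimeSpectrum A |
        (Groth.Agent.Lib.Helper77.RankConstructible.redMat w p).rank = n} := by
    ext p
    simp only [Set.mem_ofPred_eq]
    rw [← hw p]
    have hspan : Submodule.span p.asIdeal.ResidueField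
          (Set.range fun s : S =>
            LinearMap.baseChange p.asIdeal.ResidueField (DistribSMul.toLinearMap A Q s)) =
        Submodule.span p.asIdeal.ResidueField
          (Set.range fun l : {x // x ∈ t} =>
            LinearMap.baseChange p.asIdeal.ResidueField (E l)) := by
      apply le_antisymm
      · apply Submodule.span_le.mpr
        rintro _ ⟨s, rfl⟩
        have hTs : T s ∈ Submodule.span A (t : Set (Module.End A Q)) := by
          rw [← ht_span]; exact Submodule.subset_span ⟨s, rfl⟩
        refine Submodule.span_induction
          (p := fun x _ => LinearMap.baseChange p.asIdeal.ResidueField x ∈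
            Submodule.span p.asIdeal.ResidueField
              (Set.range fun l : {x // x ∈ t} =>
                LinearMap.baseChange p.asIdeal.ResidueField (E l))) ?_ ?_ ?_ ?_ hTs
        · intro x hx
          exact Submodule.subset_span ⟨⟨x, hx⟩, rfl⟩
        · rw [LinearMap.baseChange_zero]; exact zero_mem _
        · intro x y _ _ hx hy
          rw [LinearMap.baseChange_add]; exact add_mem hx hy
        · intro a x _ hx
          rw [LinearMap.baseChange_smul, ← algebraMap_smul p.asIdeal.ResidueField a]
          exact Submodule.smul_mem _ _ hx
      · apply Submodule.span_le.mpr
        rintro _ ⟨⟨x, hx⟩, rfl⟩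
        obtain ⟨s, rfl⟩ := ht_sub hx
        exact Submodule.subset_span ⟨s, rfl⟩
    rw [hspan]
  rw [hset]
  exact Groth.Agent.Lib.Helper77.RankConstructible.isConstructible_rank_eq w n

end Groth.Agent.S15153
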