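import Groth.Statements.S1516
import Groth.Agent.Lib.Helper7.FormallyEtaleLift

set_option autoImplicit false
universe u
open FlatMor

namespace Groth.Agent.S1516

open AlgebraicGeometry CategoryTheory Limits in
/-- Let f : X → S be formally étale (unique infinitesimal lifting against first order thickenings of
affine schemes). Then for every first order thickening t : T → T' of schemes and every commutative
square with T → X on top and T' → S at the bottom there is exactly one lift T' → X. -/
theorem result {X S : Scheme.{u}} (f : X ⟶ S) (hf : MoreMor.IsFormallyEtaleHom f)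
    {T T' : Scheme.{u}} (t : T ⟶ T') (ht : MoreMor.IsFirstOrderThickening t) (a : T ⟶ X) (b : T' ⟶ S) (w : t ≫ b = a ≫ f) :
    ∃! l : T' ⟶ X, t ≫ l = a ∧ l ≫ f = b := by
  obtain ⟨⟨h1, h2⟩, hsq⟩ := ht
  haveI := h1
  haveI := h2
  exact Groth.Agent.Lib.Helper7.existsUnique_lift_of_ringLevel f t a b
    (Groth.Agent.Lib.Helper7.ringLevel_of_isFormallyEtaleHom f hf) hsq w

end Groth.Agent.S1516
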