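import Groth.Statements.S15162
import Mathlib
import Groth.Agent.Lib.Helper77.GL2Z

set_option autoImplicit false
open Matrix
open BddFin

namespace Groth.Agent.S15162

/-- Let Γ be a finite subgroup of GL_2(ℤ) acting on ℤ² by matrix multiplication. If every element of Γ
has a non-zero fixed vector in ℤ², then there is a non-zero vector of ℤ² fixed by all of Γ. -/
theorem result
    (Γ : Subgroup (Matrix.GeneralLinearGroup (Fin 2) ℤ)) [Finite Γ]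
    (h : ∀ γ ∈ Γ, ∃ v : Fin 2 → ℤ, v ≠ 0 ∧ (γ : Matrix (Fin 2) (Fin 2) ℤ) *ᵥ v = v) :
    ∃ v : Fin 2 → ℤ, v ≠ 0 ∧ ∀ γ ∈ Γ, (γ : Matrix (Fin 2) (Fin 2) ℤ) *ᵥ v = v := by
  classical
  have hn : 0 < Nat.card Γ := Nat.card_pos
  have hpow : ∀ γ ∈ Γ, (γ : Matrix (Fin 2) (Fin 2) ℤ) ^ Nat.card Γ = 1 := by
    intro γ hγ
    have h1 := pow_card_eq_one' (G := Γ) (x := ⟨γ, hγ⟩)
    have h2 := congrArg (fun x : Γ => ((x : Matrix.GeneralLinearGroup (Fin 2) ℤ) :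
      Matrix (Fin 2) (Fin 2) ℤ)) h1
    simp only [SubmonoidClass.coe_pow, OneMemClass.coe_one, Units.val_pow_eq_pow_val,
      Units.val_one] at h2
    exact h2
  have hdet1 : ∀ γ ∈ Γ, (γ : Matrix (Fin 2) (Fin 2) ℤ).det = 1 → γ = 1 := by
    intro γ hγ hd
    have := Groth.Agent.Lib.Helper77.gl2Z_eq_one_of_det_one_of_fixed _ hd (h γ hγ) _ hn (hpow γ hγ)
    exact Units.ext this
  have hdetpm : ∀ γ : Matrix.GeneralLinearGroup (Fin 2) ℤ,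
      (γ : Matrix (Fin 2) (Fin 2) ℤ).det = 1 ∨ (γ : Matrix (Fin 2) (Fin 2) ℤ).det = -1 := by
    intro γ
    have hu : IsUnit (γ : Matrix (Fin 2) (Fin 2) ℤ).det :=
      (Matrix.isUnit_iff_isUnit_det _).mp γ.isUnit
    exact Int.isUnit_iff.mp hu
  have huniq : ∀ γ ∈ Γ, ∀ δ ∈ Γ, γ ≠ 1 → δ ≠ 1 → γ = δ := by
    intro γ hγ δ hδ hγ1 hδ1
    have dγ : (γ : Matrix (Fin 2) (Fin 2) ℤ).det = -1 :=
      (hdetpm γ).resolve_left (fun h => hγ1 (hdet1 γ hγ h))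
    have dδ : (δ : Matrix (Fin 2) (Fin 2) ℤ).det = -1 :=
      (hdetpm δ).resolve_left (fun h => hδ1 (hdet1 δ hδ h))
    have dδinv : ((δ⁻¹ : Matrix.GeneralLinearGroup (Fin 2) ℤ) : Matrix (Fin 2) (Fin 2) ℤ).det = -1 := by
      have h1 : ((δ * δ⁻¹ : Matrix.GeneralLinearGroup (Fin 2) ℤ) : Matrix (Fin 2) (Fin 2) ℤ).det = 1 := by
        rw [mul_inv_cancel]; simp
      rw [Units.val_mul, Matrix.det_mul, dδ] at h1
      linarith
    have hprod : γ * δ⁻¹ = 1 := by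
      apply hdet1 _ (Γ.mul_mem hγ (Γ.inv_mem hδ))
      rw [Units.val_mul, Matrix.det_mul, dγ, dδinv]; norm_num
    exact mul_inv_eq_one.mp hprod
  by_cases hex : ∃ γ₀ ∈ Γ, γ₀ ≠ 1
  · obtain ⟨γ₀, hγ₀, hne⟩ := hex
    obtain ⟨v, hv0, hv⟩ := h γ₀ hγ₀
    refine ⟨v, hv0, fun γ hγ => ?_⟩
    by_cases hγ1 : γ = 1
    · subst hγ1; simp
    · rw [huniq γ hγ γ₀ hγ₀ hγ1 hne]; exact hv
  · push Not at hex
    refine ⟨![1, 0], ?_, fun γ hγ => ?_⟩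
    · intro h0
      have := congrFun h0 0
      simp at this
    · rw [hex γ hγ]; simp

end Groth.Agent.S15162
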