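import Groth.Statements.S15163
import Mathlib
import Groth.Agent.S15162

set_option autoImplicit false
open Matrix
open BddFin

namespace Groth.Agent.S15163

/-- trace bound for a finite-order 2x2 integer matrix with det ±1 -/
theorem trace_bound (M : Matrix (Fin 2) (Fin 2) ℤ) (hdet : M.det = 1 ∨ M.det = -1)
    (n : ℕ) (hn : 0 < n) (hMn : M ^ n = 1) : |M.trace| ≤ 2 := by
  by_contra hcon
  push Not at hcon
  have ht3 : 3 ≤ |M.trace| := by omega
  obtain ⟨t, ht⟩ : ∃ t : ℤ, t = M.trace := ⟨_, rfl⟩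
  obtain ⟨δ, hδ⟩ : ∃ δ : ℤ, δ = M.det := ⟨_, rfl⟩
  -- Cayley-Hamilton
  have hCH : M * M = t • M - δ • (1 : Matrix (Fin 2) (Fin 2) ℤ) := by
    ext i j
    simp only [Matrix.sub_apply, Matrix.smul_apply, Matrix.one_apply, Matrix.mul_apply,
      Fin.sum_univ_two, smul_eq_mul, ht, hδ, Matrix.trace, Matrix.det_fin_two, Matrix.diag_apply]
    fin_cases i <;> fin_cases j <;> simp <;> ring
  let s : ℕ → ℤ := fun k => (M ^ k).trace
  have hrec : ∀ k, s (k + 2) = t * s (k + 1) - δ * s k := by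
    intro k
    have : M ^ (k + 2) = t • M ^ (k + 1) - δ • M ^ k := by
      rw [pow_add, pow_two, hCH, mul_sub, mul_smul_comm, mul_smul_comm, mul_one, ← pow_succ]
    simp only [s, this, Matrix.trace_sub, Matrix.trace_smul, smul_eq_mul]
  have hs0 : s 0 = 2 := by simp [s, Matrix.trace, Fin.sum_univ_two]
  have hs1 : s 1 = t := by simp [s, ht]
  have hdabs : |δ| = 1 := by rcases hdet with h | h <;> simp [hδ, h]
  rw [← ht] at ht3
  have hinc : ∀ k, |s k| < |s (k + 1)| := by
    intro k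
    induction k with
    | zero => rw [hs0, hs1]; simp; omega
    | succ k ih =>
      rw [hrec k]
      have h1 : |t * s (k + 1) - δ * s k| ≥ |t * s (k + 1)| - |δ * s k| := by
        have := abs_sub_abs_le_abs_sub (t * s (k + 1)) (δ * s k)
        linarith
      rw [abs_mul, abs_mul, hdabs, one_mul] at h1
      have h2 : 0 ≤ |s k| := abs_nonneg _
      nlinarith
  have hmono : ∀ k, 1 ≤ k → |s 0| < |s k| := by
    intro k hk
    induction k with
    | zero => omega
    | succ k ih =>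
      rcases Nat.eq_zero_or_pos k with h0 | hpos
      · subst h0; exact hinc 0
      · exact lt_trans (ih hpos) (hinc k)
  have := hmono n hn
  simp only [s, hMn] at this
  simp [Matrix.trace] at this

/-- Let Γ be a finite subgroup of GL_2(ℤ) and d > 6 an integer. Suppose some vector w of (ℤ/dℤ)², with
m·w ≠ 0 for all 0 < m < d, is fixed by the reduction modulo d of every element of Γ. Then some
non-zero vector of ℤ² is fixed by all of Γ. -/
theorem result
    (Γ : Subgroup (Matrix.GeneralLinearGroup (Fin 2) ℤ)) [Finite Γ] (d : ℕ) (hd : 6 < d)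
    (w : Fin 2 → ZMod d) (hw : ∀ m : ℕ, 0 < m → m < d → m • w ≠ 0)
    (hfix : ∀ γ ∈ Γ, ((γ : Matrix (Fin 2) (Fin 2) ℤ).map (Int.castRingHom (ZMod d))) *ᵥ w = w) :
    ∃ v : Fin 2 → ℤ, v ≠ 0 ∧ ∀ γ ∈ Γ, (γ : Matrix (Fin 2) (Fin 2) ℤ) *ᵥ v = v := by
  classical
  apply Groth.Agent.S15162.result Γ
  intro γ hγ
  have hn : 0 < Nat.card Γ := Nat.card_pos
  have hpow : (γ : Matrix (Fin 2) (Fin 2) ℤ) ^ Nat.card Γ = 1 := by
    have h1 := pow_card_eq_one' (G := Γ) (x := ⟨γ, hγ⟩)
    have h2 := congrArg (fun x : Γ => ((x : Matrix.GeneralLinearGroup (Fin 2) ℤ) :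
      Matrix (Fin 2) (Fin 2) ℤ)) h1
    simp only [SubmonoidClass.coe_pow, OneMemClass.coe_one, Units.val_pow_eq_pow_val,
      Units.val_one] at h2
    exact h2
  have hdetpm : (γ : Matrix (Fin 2) (Fin 2) ℤ).det = 1 ∨ (γ : Matrix (Fin 2) (Fin 2) ℤ).det = -1 := by
    have hu : IsUnit (γ : Matrix (Fin 2) (Fin 2) ℤ).det :=
      (Matrix.isUnit_iff_isUnit_det _).mp γ.isUnit
    exact Int.isUnit_iff.mp hu
  set M : Matrix (Fin 2) (Fin 2) ℤ := (γ : Matrix (Fin 2) (Fin 2) ℤ) with hM
  have htr := trace_bound M hdetpm _ hn hpow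
  -- D = det (M - 1)
  have hD : (M - 1).det = 1 - M.trace + M.det := by
    simp [Matrix.det_fin_two, Matrix.trace, Fin.sum_univ_two]; ring
  have hDbound : |(M - 1).det| ≤ 4 := by
    rw [hD]
    rw [abs_le] at htr ⊢
    rcases hdetpm with h | h <;> rw [h] <;> constructor <;> linarith [htr.1, htr.2]
  -- reduction mod d
  have hfixγ := hfix γ hγ
  have hker : ((M - 1).map (Int.castRingHom (ZMod d))) *ᵥ w = 0 := by
    rw [Matrix.map_sub _ (Int.castRingHom (ZMod d)).map_sub]
    rw [Matrix.sub_mulVec, hfixγ]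
    have : (1 : Matrix (Fin 2) (Fin 2) ℤ).map (Int.castRingHom (ZMod d)) = 1 :=
      Matrix.map_one _ (map_zero _) (map_one _)
    rw [this, Matrix.one_mulVec, sub_self]
  have hdetw : ((M - 1).det : ZMod d) • w = 0 := by
    have h1 := congrArg (fun u => ((M - 1).map (Int.castRingHom (ZMod d))).adjugate *ᵥ u) hker
    simp only [Matrix.mulVec_mulVec, Matrix.adjugate_mul, Matrix.mulVec_zero] at h1
    rw [Matrix.smul_mulVec, Matrix.one_mulVec] at h1
    have h2 : ((M - 1).map (Int.castRingHom (ZMod d))).det = (((M - 1).det : ℤ) : ZMod d) := by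
      have := (RingHom.map_det (Int.castRingHom (ZMod d)) (M - 1)).symm
      simpa using this
    rw [h2] at h1
    exact h1
  have hD0 : (M - 1).det = 0 := by
    by_contra hne
    have hpos : 0 < ((M - 1).det).natAbs := Int.natAbs_pos.mpr hne
    have hlt : ((M - 1).det).natAbs < d := by
      have : (((M - 1).det).natAbs : ℤ) ≤ 4 := by
        rw [Int.natCast_natAbs]; exact hDbound
      omega
    apply hw _ hpos hlt
    rcases Int.natAbs_eq ((M - 1).det) with h | h
    · rw [h] at hdetw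
      rw [← Nat.cast_smul_eq_nsmul (ZMod d)]
      simpa using hdetw
    · rw [h] at hdetw
      rw [← Nat.cast_smul_eq_nsmul (ZMod d)]
      simpa using hdetw
  obtain ⟨v, hv0, hv⟩ := (Matrix.exists_mulVec_eq_zero_iff (M := M - 1)).mpr hD0
  refine ⟨v, hv0, ?_⟩
  rw [Matrix.sub_mulVec, Matrix.one_mulVec, sub_eq_zero] at hv
  exact hv

end Groth.Agent.S15163
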