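import Groth.Statements.S15164
import Mathlib
import Groth.Agent.Lib.Helper77.QuadIso

set_option autoImplicit false
universe u v
open BddFin

namespace Groth.Agent.S15164

/-- Let K be a field of characteristic p > 2, V a finite-dimensional K-vector space and q a quadratic
form on V that does not represent zero (q x = 0 only for x = 0). Then the group of K-linear
automorphisms of V preserving q has no element of order p: if g preserves q and g ^ p = 1 then g =
1. (Non-degeneracy of q, also assumed in the published statement, follows from anisotropy since 2 is
invertible, so it is not repeated here.) -/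
theorem result
    (K : Type u) [Field K] (p : ℕ) [Fact p.Prime] [CharP K p] (hp : p ≠ 2)
    (V : Type v) [AddCommGroup V] [Module K V] [FiniteDimensional K V]
    (q : QuadraticForm K V) (hq : q.Anisotropic)
    (g : V ≃ₗ[K] V) (hg : ∀ x : V, q (g x) = q x) (hgp : g ^ p = 1) : g = 1 := by
  have h2 : (2 : K) ≠ 0 := by
    intro h
    have h' : ((2 : ℕ) : K) = 0 := by exact_mod_cast h
    rw [CharP.cast_eq_zero_iff K p 2] at h'
    have hp' : p.Prime := Fact.out
    rcases (Nat.dvd_prime Nat.prime_two).mp h' with h1 | h1
    · exact hp'.one_lt.ne' h1
    · exact hp h1
  rcases subsingleton_or_nontrivial V with hV | hV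
  · ext x; exact Subsingleton.elim _ _
  · let G : Module.End K V := (g : V →ₗ[K] V)
    have hGp : G ^ p = 1 := by
      have := congrArg (LinearEquiv.automorphismGroup.toLinearMapMonoidHom (R := K) (M := V)) hgp
      rw [map_pow, map_one] at this
      exact this
    have : CharP (Module.End K V) p :=
      charP_of_injective_algebraMap (algebraMap K (Module.End K V)).injective p
    have hnil : IsNilpotent (G - 1) := by
      refine ⟨p, ?_⟩
      rw [sub_pow_char_of_commute p (Commute.one_right G), hGp, one_pow, sub_self]
    have hG1 : G = 1 :=
      Groth.Agent.Lib.Helper77.quadIso_eq_one_of_isNilpotent h2 q hq G (fun x => hg x) hnil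
    ext x
    have := congrArg (fun f : Module.End K V => f x) hG1
    simpa [G] using this

end Groth.Agent.S15164
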