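import Groth.Statements.S15166
import Mathlib
import Groth.Agent.Lib.Helper77.QuadIso
import Groth.Agent.Lib.Helper77.InvolBound

set_option autoImplicit false
universe u v
open Polynomial
open BddFin

namespace Groth.Agent.S15166

/-- Let K be a field of characteristic different from 2 such that K contains all roots of unity (for
every n ≥ 1 the polynomial X^n − 1 splits into linear factors over K), V a finite-dimensional
K-vector space and q a quadratic form on V that does not represent zero. Then every finite subgroup
of the group of K-linear automorphisms of V preserving q is abelian and has order at most 2 ^ (dim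
V). (The published statement also covers perfect fields of characteristic 2; this row is the case of
characteristic ≠ 2.) -/
theorem result
    (K : Type u) [Field K] (hK : ∀ n : ℕ, 0 < n → (X ^ n - 1 : K[X]).Splits) (h2 : (2 : K) ≠ 0)
    (V : Type v) [AddCommGroup V] [Module K V] [FiniteDimensional K V]
    (q : QuadraticForm K V) (hq : q.Anisotropic)
    (G : Subgroup (V ≃ₗ[K] V)) [Finite G] (hG : ∀ g ∈ G, ∀ x : V, q (g x) = q x) :
    (∀ g ∈ G, ∀ h ∈ G, g * h = h * g) ∧ Nat.card G ≤ 2 ^ Module.finrank K V := by
  classical
  have hfinG : Fintype G := Fintype.ofFinite G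
  -- every element squares to one
  have hsq : ∀ g ∈ G, ((g : V ≃ₗ[K] V) : Module.End K V) ^ 2 = 1 := by
    intro g hgG
    have hcard : 0 < Nat.card G := Nat.card_pos
    have hpow : g ^ Nat.card G = 1 := by
      have h := pow_card_eq_one' (G := G) (x := ⟨g, hgG⟩)
      have h' := congrArg (fun x : G => (x : V ≃ₗ[K] V)) h
      simp only [SubmonoidClass.coe_pow, OneMemClass.coe_one] at h'
      exact h'
    have hGd : ((g : V ≃ₗ[K] V) : Module.End K V) ^ Nat.card G = 1 := by
      have := congrArg (LinearEquiv.automorphismGroup.toLinearMapMonoidHom (R := K) (M := V)) hpow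
      rw [map_pow, map_one] at this
      exact this
    exact Groth.Agent.Lib.Helper77.quadIso_sq_eq_one hK h2 q hq _ (fun x => hG g hgG x) _ hcard hGd
  have hsq' : ∀ g ∈ G, g * g = 1 := by
    intro g hgG
    ext x
    have := congrArg (fun f : Module.End K V => f x) (hsq g hgG)
    simpa [pow_two] using this
  have hcommG : ∀ g ∈ G, ∀ h ∈ G, g * h = h * g := by
    intro g hgG h hhG
    have h1 := hsq' g hgG
    have h2' := hsq' h hhG
    have h3 := hsq' (g * h) (G.mul_mem hgG hhG)
    calc g * h = (h * h) * (g * h) * (g * g) := by rw [h1, h2', one_mul, mul_one]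
      _ = h * (h * g) * (h * g) * g := by group
      _ = h * ((h * g) * (h * g)) * g := by group
      _ = h * g := by rw [hsq' (h * g) (G.mul_mem hhG hgG), mul_one]
  refine ⟨hcommG, ?_⟩
  -- the bound
  let ι : G → Module.End K V := fun g => ((g : V ≃ₗ[K] V) : Module.End K V)
  have hι : Function.Injective ι := by
    intro a b hab
    apply Subtype.ext
    apply LinearEquiv.toLinearMap_injective
    exact hab
  let S : Finset (Module.End K V) := Finset.univ.image ι
  have hScard : S.card = Nat.card G := by
    rw [Finset.card_image_of_injective _ hι, Finset.card_univ, Nat.card_eq_fintype_card]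
  rw [← hScard]
  apply Groth.Agent.Lib.Helper77.card_le_two_pow_of_commuting_involutions h2 _ V rfl S
  · intro s hs
    obtain ⟨g, -, rfl⟩ := Finset.mem_image.mp hs
    have := hsq g g.2
    rwa [pow_two] at this
  · intro s hs t ht
    obtain ⟨g, -, rfl⟩ := Finset.mem_image.mp hs
    obtain ⟨h, -, rfl⟩ := Finset.mem_image.mp ht
    have := congrArg (LinearEquiv.automorphismGroup.toLinearMapMonoidHom (R := K) (M := V))
      (hcommG g g.2 h h.2)
    rw [map_mul, map_mul] at this
    exact this

end Groth.Agent.S15166
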