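import Groth.Statements.S15167
import Groth.Agent.Lib.Helper25.CSAModuleDim

set_option autoImplicit false
universe u v
open Polynomial
open BddFin

namespace Groth.Agent.S15167

/-- Let K be a field such that K contains all roots of unity (for every n ≥ 1 the polynomial X^n − 1
splits into linear factors over K), A a central simple K-algebra of dimension n ^ 2, and x an
invertible element of A some power x ^ m (m ≥ 1) of which lies in K. Then there are a positive
integer r dividing n and elements a_i of K such that the minimal polynomial of x over K is the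
product of the polynomials X ^ r − a_i. -/
theorem result
    (K : Type u) [Field K] (hK : ∀ n : ℕ, 0 < n → (X ^ n - 1 : K[X]).Splits)
    (A : Type v) [Ring A] [Algebra K A] [Algebra.IsCentral K A] [IsSimpleRing A] [FiniteDimensional K A]
    (n : ℕ) (hn : Module.finrank K A = n ^ 2)
    (x : A) (hx : IsUnit x) (hxm : ∃ m : ℕ, 0 < m ∧ x ^ m ∈ (algebraMap K A).range) :
    ∃ r : ℕ, 0 < r ∧ r ∣ n ∧ ∃ s : Multiset K, minpoly K x = (s.map fun a : K => X ^ r - C a).prod := by
  classical
  obtain ⟨m, hm, a, ha⟩ := hxm
  have ha0 : a ≠ 0 := by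
    rintro rfl
    rw [map_zero] at ha
    have h1 : IsUnit (x ^ m) := hx.pow m
    rw [← ha] at h1
    exact not_isUnit_zero h1
  have hint : IsIntegral K x := Algebra.IsIntegral.isIntegral x
  have hgmon := minpoly.monic hint
  have hg0 : minpoly K x ≠ 0 := hgmon.ne_zero
  have hgdvd : minpoly K x ∣ X ^ m - C a := minpoly.dvd K x (by simp [ha])
  have hn0 : 0 < n := by
    rcases Nat.eq_zero_or_pos n with rfl | h
    · have : 0 < Module.finrank K A := Module.finrank_pos
      rw [hn] at this
      simp at this
    · exact h
  have hgunit : ¬ IsUnit (minpoly K x) := minpoly.not_isUnit K x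
  obtain ⟨h₀, hh₀⟩ := UniqueFactorizationMonoid.exists_mem_normalizedFactors hg0 hgunit
  have hfac : ∀ h ∈ UniqueFactorizationMonoid.normalizedFactors (minpoly K x),
      Irreducible h ∧ h.Monic ∧ h ∣ X ^ m - C a := by
    intro h hh
    obtain ⟨h1, h2, h3⟩ := (Polynomial.mem_normalizedFactors_iff hg0).mp hh
    exact ⟨h1, h2, h3.trans hgdvd⟩
  have hdeg : ∀ h ∈ UniqueFactorizationMonoid.normalizedFactors (minpoly K x),
      h.natDegree = h₀.natDegree := by
    intro h hh
    obtain ⟨h1, h2, h3⟩ := hfac h hh
    obtain ⟨h1', h2', h3'⟩ := hfac h₀ hh₀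
    exact le_antisymm
      (Groth.Agent.Lib.Helper25.RootsOfUnity.natDegree_le_of_irreducible_of_dvd hm (hK m hm)
        h1' h2' h1 h2 ha0 h3' h3)
      (Groth.Agent.Lib.Helper25.RootsOfUnity.natDegree_le_of_irreducible_of_dvd hm (hK m hm)
        h1 h2 h1' h2' ha0 h3 h3')
  have hr0 : 0 < h₀.natDegree := (hfac h₀ hh₀).1.natDegree_pos
  have hbin : ∀ h ∈ UniqueFactorizationMonoid.normalizedFactors (minpoly K x),
      X ^ h₀.natDegree - C (-(h.coeff 0)) = h := by
    intro h hh
    obtain ⟨h1, h2, h3⟩ := hfac h hh
    obtain ⟨c, hc⟩ := Groth.Agent.Lib.Helper25.RootsOfUnity.eq_X_pow_sub_C_of_irreducible_of_dvd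
      hm (hK m hm) h1 h2 ha0 h3
    rw [hdeg h hh] at hc
    have hc0 : h.coeff 0 = -c := by
      rw [hc]
      simp [hr0.ne]
    rw [hc0, neg_neg, ← hc]
  refine ⟨h₀.natDegree, hr0, ?_, (UniqueFactorizationMonoid.normalizedFactors (minpoly K x)).map
    (fun h => -(h.coeff 0)), ?_⟩
  · -- `r ∣ n`
    let T : Module.End A A := LinearMap.toSpanSingleton A A x
    have hT : ∀ (p : K[X]) (v : A), (aeval T p) v = v * aeval x p := by
      intro p v
      have hpow : ∀ (k : ℕ) (v : A), (T ^ k) v = v * x ^ k := by
        intro k
        induction k with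
        | zero => intro v; simp
        | succ k ih =>
          intro v
          have e1 : (T ^ (k + 1)) v = T ((T ^ k) v) := by rw [pow_succ']; rfl
          rw [e1, ih, pow_succ, ← mul_assoc]
          rfl
      induction p using Polynomial.induction_on' with
      | add p q hp hq => simp only [map_add, LinearMap.add_apply, hp, hq, mul_add]
      | monomial k c =>
        rw [← C_mul_X_pow_eq_monomial]
        simp only [map_mul, aeval_C, map_pow, aeval_X, Module.End.mul_apply,
          Module.algebraMap_end_apply, hpow]
        rw [Algebra.algebraMap_eq_smul_one, smul_mul_assoc, one_mul, mul_smul_comm]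
    have hprod : (UniqueFactorizationMonoid.normalizedFactors (minpoly K x)).prod = minpoly K x := by
      rw [UniqueFactorizationMonoid.prod_normalizedFactors_eq hg0, hgmon.normalize_eq_self]
    have hT0 : aeval T (UniqueFactorizationMonoid.normalizedFactors (minpoly K x)).prod = 0 := by
      rw [hprod]
      refine LinearMap.ext fun v => ?_
      rw [hT, minpoly.aeval, mul_zero]
      rfl
    have hdvd := Groth.Agent.Lib.Helper25.RootsOfUnity.mul_dvd_finrank_of_prod hn
      (UniqueFactorizationMonoid.normalizedFactors (minpoly K x))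
      (fun h hh => ⟨(hfac h hh).1, hdeg h hh⟩) A T hT0
    rw [hn, sq] at hdvd
    exact Nat.dvd_of_mul_dvd_mul_right hn0 hdvd
  · rw [Multiset.map_map]
    have h1 : (UniqueFactorizationMonoid.normalizedFactors (minpoly K x)).map
        ((fun a : K => (X : K[X]) ^ h₀.natDegree - C a) ∘ fun h : K[X] => -(h.coeff 0)) =
        (UniqueFactorizationMonoid.normalizedFactors (minpoly K x)).map id :=
      Multiset.map_congr rfl (fun h hh => hbin h hh)
    rw [h1, Multiset.map_id, UniqueFactorizationMonoid.prod_normalizedFactors_eq hg0,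
      hgmon.normalize_eq_self]

end Groth.Agent.S15167
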