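import Groth.Statements.S15168
import Groth.Agent.Lib.Helper25.RootsOfUnityCSA

set_option autoImplicit false
universe u v
open Polynomial
open BddFin

namespace Groth.Agent.S15168

/-- Let K be a field such that K contains all roots of unity (for every n ≥ 1 the polynomial X^n − 1
splits into linear factors over K), A a central division algebra of dimension n ^ 2 over K, and x an
element of A some power x ^ m (m ≥ 1) of which lies in K. Then x ^ n lies in K; that is, the order
of the class of x in the quotient of the unit group of A by that of K divides n. -/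
theorem result
    (K : Type u) [Field K] (hK : ∀ n : ℕ, 0 < n → (X ^ n - 1 : K[X]).Splits)
    (A : Type v) [DivisionRing A] [Algebra K A] [Algebra.IsCentral K A] [FiniteDimensional K A]
    (n : ℕ) (hn : Module.finrank K A = n ^ 2)
    (x : A) (hxm : ∃ m : ℕ, 0 < m ∧ x ^ m ∈ (algebraMap K A).range) :
    x ^ n ∈ (algebraMap K A).range := by
  obtain ⟨m, hm, a, ha⟩ := hxm
  by_cases hx0 : x = 0
  · subst hx0
    rcases Nat.eq_zero_or_pos n with rfl | hn0
    · rw [pow_zero]; exact one_mem _
    · rw [zero_pow hn0.ne']; exact zero_mem _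
  have hint : IsIntegral K x := Algebra.IsIntegral.isIntegral x
  have hirr : Irreducible (minpoly K x) := minpoly.irreducible hint
  have hmon := minpoly.monic hint
  have ha0 : a ≠ 0 := by
    rintro rfl
    rw [map_zero] at ha
    exact hx0 (pow_eq_zero_iff hm.ne' |>.mp ha.symm)
  have hdvd : minpoly K x ∣ X ^ m - C a := minpoly.dvd K x (by simp [ha])
  obtain ⟨c, hc⟩ := Groth.Agent.Lib.Helper25.RootsOfUnity.eq_X_pow_sub_C_of_irreducible_of_dvd
    hm (hK m hm) hirr hmon ha0 hdvd
  have hxr : x ^ (minpoly K x).natDegree = algebraMap K A c := by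
    have h := minpoly.aeval K x
    rw [hc] at h
    simpa [sub_eq_zero] using h
  -- the degree of `x` divides `n`
  have : Fact (Irreducible (minpoly K x)) := ⟨hirr⟩
  let φ : AdjoinRoot (minpoly K x) →ₐ[K] A :=
    Ideal.Quotient.liftₐ (Ideal.span {minpoly K x}) (aeval x) (fun p hp => by
      obtain ⟨q, rfl⟩ := Ideal.mem_span_singleton.mp hp
      rw [map_mul, minpoly.aeval, zero_mul])
  have hne : minpoly K x ≠ 0 := hmon.ne_zero
  have : FiniteDimensional K (AdjoinRoot (minpoly K x)) := (AdjoinRoot.powerBasis hne).finite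
  have hdim : Module.finrank K (AdjoinRoot (minpoly K x)) = (minpoly K x).natDegree :=
    (AdjoinRoot.powerBasis hne).finrank.trans (AdjoinRoot.powerBasis_dim hne)
  have hrn : (minpoly K x).natDegree ∣ n :=
    hdim ▸ Groth.Agent.Lib.Helper25.RootsOfUnity.finrank_dvd_of_algHom φ hn
  obtain ⟨q, hq⟩ := hrn
  rw [hq, pow_mul, hxr, ← map_pow]
  exact ⟨_, rfl⟩

end Groth.Agent.S15168
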