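import Groth.Statements.S15169
import Mathlib

set_option autoImplicit false
universe u v
open BddFin

namespace Groth.Agent.S15169

open Polynomial

section
variable {K : Type u} [Field K] {A : Type v} [DivisionRing A] [Algebra K A]

theorem finrank_subalgebra_dvd [FiniteDimensional K A] (B : Subalgebra K A) :
    Module.finrank K B ∣ Module.finrank K A := by
  letI : DivisionRing B := divisionRingOfFiniteDimensional K B
  have h := Module.finrank_mul_finrank K B A
  exact ⟨_, h.symm⟩

/-- `ad(a)^p = ad(a^p)` in characteristic `p`. -/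
theorem ad_pow_char (p : ℕ) [Fact p.Prime] [CharP K p] (a x : A) :
    ((LinearMap.mulLeft K a - LinearMap.mulRight K a) ^ p) x = a ^ p * x - x * a ^ p := by
  haveI : CharP A p := charP_of_injective_algebraMap (algebraMap K A).injective p
  haveI : CharP (A →ₗ[K] A) p :=
    charP_of_injective_ringHom (Algebra.lmul K A).toRingHom.injective p
  rw [sub_pow_char_of_commute p (LinearMap.commute_mulLeft_right a a), LinearMap.sub_apply,
    LinearMap.pow_mulLeft, LinearMap.pow_mulRight, LinearMap.mulLeft_apply,
    LinearMap.mulRight_apply]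

end


/-- (1) ⇒ (2): let K be a field with char K = p > 0 and A a central division K-algebra with dim_K A = p
^ 2. If some element of A is not separable over K, then there are v, u in A with v ^ p and u ^ p in
K and v * u - u * v = 1 which generate A as a K-algebra. -/
theorem result
    (K : Type u) [Field K] (p : ℕ) [Fact p.Prime] [CharP K p]
    (A : Type v) [DivisionRing A] [Algebra K A] [Algebra.IsCentral K A] [FiniteDimensional K A]
    (hA : Module.finrank K A = p ^ 2) (h : ∃ v : A, ¬ IsSeparable K v) :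
    ∃ v u : A, v ^ p ∈ (algebraMap K A).range ∧ u ^ p ∈ (algebraMap K A).range ∧ v * u - u * v = 1 ∧
      Algebra.adjoin K {v, u} = ⊤ := by
  have hp : p.Prime := Fact.out
  have hp2 : 2 ≤ p := hp.two_le
  obtain ⟨v, hvsep⟩ := h
  -- v is not in K
  have hvK : v ∉ (algebraMap K A).range := by
    rintro ⟨c, rfl⟩
    exact hvsep (isSeparable_algebraMap c)
  -- hence v is not central
  obtain ⟨w₀, hw₀⟩ : ∃ w : A, w * v ≠ v * w := by
    by_contra hcon
    push Not at hcon
    have h1 : v ∈ Subalgebra.center K A := Subalgebra.mem_center_iff.2 hcon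
    have h2 : v ∈ (⊥ : Subalgebra K A) := Algebra.IsCentral.out h1
    rw [Algebra.mem_bot] at h2
    exact hvK h2
  -- minimal polynomial of v
  have hint : IsIntegral K v := Algebra.IsIntegral.isIntegral v
  obtain ⟨f, hf⟩ : ∃ f : K[X], f = minpoly K v := ⟨_, rfl⟩
  have hirr : Irreducible f := hf ▸ minpoly.irreducible hint
  have hmonic : f.Monic := hf ▸ minpoly.monic hint
  have hf0 : f ≠ 0 := hmonic.ne_zero
  have hnsep : ¬ f.Separable := hf ▸ hvsep
  obtain ⟨g, hg_irr, hg⟩ := ((Polynomial.separable_or p hirr).resolve_left hnsep).2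
  have hgmonic : g.Monic := (monic_expand_iff hp.pos).1 (hg ▸ hmonic)
  have hfg : f.natDegree = g.natDegree * p := by rw [← hg, natDegree_expand]
  -- the field K[X]/(f) and its embedding into A
  haveI : Fact (Irreducible f) := ⟨hirr⟩
  let ι : AdjoinRoot f →ₐ[K] A := Ideal.Quotient.liftₐ (Ideal.span {f}) (aeval v) (by
    intro g hg
    obtain ⟨q, rfl⟩ := Ideal.mem_span_singleton.1 hg
    rw [map_mul, hf, minpoly.aeval, zero_mul])
  have hι_mk : ∀ q : K[X], ι (AdjoinRoot.mk f q) = aeval v q := fun q => rfl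
  have hι_inj : Function.Injective ι := ι.toRingHom.injective
  have hfin : Module.finrank K (AdjoinRoot f) = f.natDegree := by
    rw [(AdjoinRoot.powerBasis hf0).finrank, AdjoinRoot.powerBasis_dim]
  haveI : FiniteDimensional K (AdjoinRoot f) := (AdjoinRoot.powerBasis hf0).finite
  have hrange_comm : ∀ a b : A, a ∈ ι.range → b ∈ ι.range → a * b = b * a := by
    rintro _ _ ⟨a, rfl⟩ ⟨b, rfl⟩
    change ι a * ι b = ι b * ι a
    rw [← map_mul, ← map_mul, mul_comm]
  have hrange_fin : Module.finrank K ι.range = f.natDegree := by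
    rw [← hfin]
    exact (LinearEquiv.ofInjective ι.toLinearMap hι_inj).finrank_eq.symm
  have hv_range : v ∈ ι.range := ⟨AdjoinRoot.mk f X, by
    change ι (AdjoinRoot.mk f X) = v
    rw [hι_mk, aeval_X]⟩
  have hdeg : f.natDegree = p := by
    have hdvd : f.natDegree ∣ p ^ 2 := by
      rw [← hrange_fin, ← hA]
      exact finrank_subalgebra_dvd ι.range
    obtain ⟨k, hk, hk'⟩ := (Nat.dvd_prime_pow hp).1 hdvd
    interval_cases k
    · exfalso
      rw [pow_zero, hfg] at hk'
      have : p ∣ 1 := ⟨g.natDegree, by rw [← hk', mul_comm]⟩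
      exact hp.one_lt.ne' (Nat.dvd_one.1 this)
    · simpa using hk'
    · exfalso
      have heq : Module.finrank K ι.range = Module.finrank K A := by
        rw [hrange_fin, hk', hA]
      have htop : Subalgebra.toSubmodule ι.range = ⊤ :=
        Submodule.eq_top_of_finrank_eq heq
      have hall : ∀ a : A, a ∈ ι.range := fun a => by
        have : a ∈ Subalgebra.toSubmodule ι.range := by rw [htop]; trivial
        exact this
      exact hw₀ (hrange_comm _ _ (hall w₀) (hall v))
  have hgdeg : g.natDegree = 1 := by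
    rw [hdeg] at hfg
    have := Nat.eq_of_mul_eq_mul_right hp.pos (by rw [one_mul]; exact hfg : 1 * p = g.natDegree * p)
    exact this.symm
  -- v ^ p ∈ K
  obtain ⟨c, hc⟩ : ∃ c : K, v ^ p = algebraMap K A c := by
    have h1 : g = X + C (g.coeff 0) := hgmonic.eq_X_add_C hgdeg
    have h2 : aeval v f = 0 := hf ▸ minpoly.aeval K v
    rw [← hg, h1] at h2
    simp only [map_add, expand_X, expand_C, map_pow, aeval_X, aeval_C] at h2
    refine ⟨-g.coeff 0, ?_⟩
    rw [map_neg]
    exact eq_neg_of_add_eq_zero_left h2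
  -- the derivation δ = ad v
  obtain ⟨δ, hδ⟩ : ∃ δ : Module.End K A, δ = LinearMap.mulLeft K v - LinearMap.mulRight K v :=
    ⟨_, rfl⟩
  have hδ_apply : ∀ x, δ x = v * x - x * v := fun x => by
    rw [hδ, LinearMap.sub_apply, LinearMap.mulLeft_apply, LinearMap.mulRight_apply]
  have hδp : ∀ x, (δ ^ p) x = 0 := fun x => by
    rw [hδ, ad_pow_char p v x, hc, Algebra.commutes, sub_self]
  have hδw₀ : δ w₀ ≠ 0 := by
    rw [hδ_apply]
    intro h0
    exact hw₀ (sub_eq_zero.1 h0).symm
  -- find w with δ w ≠ 0 and δ (δ w) = 0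
  obtain ⟨w, hw1, hw2⟩ : ∃ w : A, δ w ≠ 0 ∧ δ (δ w) = 0 := by
    classical
    have hex : ∃ n : ℕ, (δ ^ (n + 1)) w₀ = 0 := ⟨p - 1, by
      rw [Nat.sub_add_cancel hp.one_le]; exact hδp w₀⟩
    have hspec := Nat.find_spec hex
    have hmin := fun m (hm : m < Nat.find hex) => Nat.find_min hex hm
    obtain ⟨n, hn⟩ : ∃ n, n = Nat.find hex := ⟨_, rfl⟩
    rw [← hn] at hspec hmin
    cases n with
    | zero =>
      exfalso
      rw [zero_add, pow_one] at hspec
      exact hδw₀ hspec
    | succ m =>
      refine ⟨(δ ^ m) w₀, ?_, ?_⟩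
      · have := hmin m (Nat.lt_succ_self m)
        rwa [pow_succ', Module.End.mul_apply] at this
      · rw [pow_succ', pow_succ', Module.End.mul_apply, Module.End.mul_apply] at hspec
        exact hspec
  obtain ⟨c', hc'⟩ : ∃ c' : A, c' = δ w := ⟨_, rfl⟩
  have hc'0 : c' ≠ 0 := hc' ▸ hw1
  have hc'comm : Commute v c' := by
    have : δ c' = 0 := hc' ▸ hw2
    rw [hδ_apply] at this
    exact sub_eq_zero.1 this
  have hc'inv : Commute v c'⁻¹ := hc'comm.inv_right₀
  obtain ⟨u, hu⟩ : ∃ u : A, u = w * c'⁻¹ := ⟨_, rfl⟩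
  have hvu : v * u - u * v = 1 := by
    have h1 : v * w - w * v = c' := by rw [hc', hδ_apply]
    rw [hu, mul_assoc, ← hc'inv.eq, ← mul_assoc, ← mul_assoc, ← sub_mul, h1,
      mul_inv_cancel₀ hc'0]
  -- generation
  obtain ⟨B, hB⟩ : ∃ B : Subalgebra K A, B = Algebra.adjoin K {v, u} := ⟨_, rfl⟩
  have hvB : v ∈ B := hB ▸ Algebra.subset_adjoin (by simp)
  have huB : u ∈ B := hB ▸ Algebra.subset_adjoin (by simp)
  have hrange_le : ι.range ≤ B := by
    rintro _ ⟨a, rfl⟩
    obtain ⟨q, rfl⟩ := AdjoinRoot.mk_surjective a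
    change ι (AdjoinRoot.mk f q) ∈ B
    rw [hι_mk, aeval_eq_sum_range]
    refine Subalgebra.sum_mem _ fun i _ => ?_
    exact Subalgebra.smul_mem _ (Subalgebra.pow_mem _ hvB i) _
  have hBtop : B = ⊤ := by
    have hdvd : Module.finrank K B ∣ p ^ 2 := hA ▸ finrank_subalgebra_dvd B
    have hle : Module.finrank K ι.range ≤ Module.finrank K B :=
      Submodule.finrank_mono (s := Subalgebra.toSubmodule ι.range)
        (t := Subalgebra.toSubmodule B) hrange_le
    rw [hrange_fin, hdeg] at hle
    obtain ⟨k, hk, hk'⟩ := (Nat.dvd_prime_pow hp).1 hdvd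
    interval_cases k
    · exfalso
      rw [hk', pow_zero] at hle
      omega
    · exfalso
      rw [pow_one] at hk'
      have heq : Subalgebra.toSubmodule ι.range = Subalgebra.toSubmodule B := by
        apply Submodule.eq_of_le_of_finrank_eq hrange_le
        change Module.finrank K ι.range = Module.finrank K B
        rw [hrange_fin, hdeg, hk']
      have huR : u ∈ ι.range := by
        have : u ∈ Subalgebra.toSubmodule ι.range := by rw [heq]; exact huB
        exact this
      have := hrange_comm v u hv_range huR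
      rw [this, sub_self] at hvu
      exact zero_ne_one hvu
    · have : Subalgebra.toSubmodule B = ⊤ :=
        Submodule.eq_top_of_finrank_eq (by
          change Module.finrank K B = Module.finrank K A
          rw [hk', hA])
      exact Algebra.toSubmodule_eq_top.1 this
  -- u ^ p ∈ K
  have hup : u ^ p ∈ (algebraMap K A).range := by
    obtain ⟨ε, hε⟩ : ∃ ε : Module.End K A, ε = LinearMap.mulLeft K u - LinearMap.mulRight K u :=
      ⟨_, rfl⟩
    have hε_apply : ∀ x, ε x = u * x - x * u := fun x => by
      rw [hε, LinearMap.sub_apply, LinearMap.mulLeft_apply, LinearMap.mulRight_apply]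
    have hεv : ε v = -1 := by rw [hε_apply, ← hvu]; abel
    have hε1 : ε (-1) = 0 := by rw [hε_apply]; simp
    have hεp : (ε ^ p) v = 0 := by
      obtain ⟨q, rfl⟩ : ∃ q, p = q + 2 := ⟨p - 2, by omega⟩
      rw [pow_succ, pow_succ, Module.End.mul_apply, Module.End.mul_apply, hεv, hε1, map_zero]
    have hcomm_v : u ^ p * v = v * u ^ p := by
      have := ad_pow_char (K := K) p u v
      rw [← hε, hεp] at this
      exact (sub_eq_zero.1 this.symm)
    have hcent : ∀ b : A, b * u ^ p = u ^ p * b := by
      have hle : Algebra.adjoin K {v, u} ≤ Subalgebra.centralizer K {u ^ p} := by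
        apply Algebra.adjoin_le
        rintro x hx
        rcases hx with rfl | rfl
        · rw [SetLike.mem_coe, Subalgebra.mem_centralizer_iff]
          rintro _ rfl
          exact hcomm_v
        · rw [SetLike.mem_coe, Subalgebra.mem_centralizer_iff]
          rintro _ rfl
          rw [← pow_succ, ← pow_succ']
      intro b
      have hb : b ∈ Algebra.adjoin K {v, u} := by rw [← hB, hBtop]; trivial
      have := (Subalgebra.mem_centralizer_iff K).1 (hle hb) (u ^ p) rfl
      exact this.symm
    have h1 : u ^ p ∈ Subalgebra.center K A := Subalgebra.mem_center_iff.2 hcent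
    have h2 : u ^ p ∈ (⊥ : Subalgebra K A) := Algebra.IsCentral.out h1
    rw [Algebra.mem_bot] at h2
    exact h2
  exact ⟨v, u, ⟨c, hc.symm⟩, hup, hvu, hB ▸ hBtop⟩

end Groth.Agent.S15169
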