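import Groth.Statements.S1517
import Mathlib.RingTheory.TwoSidedIdeal.Operations
import Mathlib.RingTheory.SimpleRing.Basic

set_option autoImplicit false
universe u
open Brauer

namespace Groth.Agent.S1517

open scoped Pointwise in
/-- In a simple ring, `1` lies in the two-sided ideal generated by a nonzero right ideal `M`,
which is additively generated by the products `x * m`. -/
theorem induction_one (A : Type u) [Ring A] [IsSimpleRing A]
    (M : Submodule Aᵐᵒᵖ A) (hM : M ≠ ⊥) :
    ∀ (P : A → Prop), P 0 → (∀ x y, P x → P y → P (x + y)) → (∀ x, P x → P (-x)) →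
      (∀ (x : A) (m : A), m ∈ M → P (x * m)) → P 1 := by
  have hMr : ∀ m ∈ M, ∀ a : A, m * a ∈ M := by
    intro m hm a
    have := M.smul_mem (MulOpposite.op a) hm
    simpa [MulOpposite.smul_eq_mul_unop] using this
  have h1 : (1 : A) ∈ AddSubgroup.closure
      ((Set.univ : Set A) * (M : Set A) * (Set.univ : Set A)) := by
    rw [← TwoSidedIdeal.mem_span_iff_mem_addSubgroup_closure]
    have hne : TwoSidedIdeal.span (M : Set A) ≠ ⊥ := by
      intro hbot
      apply hM
      rw [eq_bot_iff]
      intro m hm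
      have : m ∈ TwoSidedIdeal.span (M : Set A) := TwoSidedIdeal.subset_span hm
      rw [hbot] at this
      simpa using this
    rw [(eq_bot_or_eq_top _).resolve_left hne]
    trivial
  intro P h0 hadd hneg hgen
  refine AddSubgroup.closure_induction (p := fun z _ => P z) ?_ h0
    (fun x y _ _ hx hy => hadd x y hx hy) (fun x _ hx => hneg x hx) h1
  rintro _ ⟨_, ⟨x, -, m, hm, rfl⟩, c, -, rfl⟩
  show P (x * m * c)
  rw [mul_assoc]
  exact hgen x (m * c) (hMr m hm c)

/-- Let A be a ring with no nontrivial two-sided ideals and M a nonzero right ideal, viewed as a right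
A-module with endomorphism ring A'. Then every A'-linear endomorphism of M is right multiplication
by exactly one element of A; that is, the natural map from A to the bicommutant of M is a bijection. -/
theorem result (A : Type u) [Ring A] [IsSimpleRing A]
    (M : Submodule Aᵐᵒᵖ A) (hM : M ≠ ⊥)
    (g : Module.End (Module.End Aᵐᵒᵖ M) M) :
    ∃! a : A, ∀ m : M, (g m : A) = (m : A) * a := by
  classical
  -- `M` is a right ideal
  have hMr : ∀ m ∈ M, ∀ a : A, m * a ∈ M := by
    intro m hm a
    have := M.smul_mem (MulOpposite.op a) hm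
    simpa [MulOpposite.smul_eq_mul_unop] using this
  have hind := induction_one A M hM
  -- left multiplication by an element of `M`
  let L : M → Module.End Aᵐᵒᵖ M := fun m =>
    { toFun := fun n => ⟨(m : A) * (n : A), hMr m m.2 n⟩
      map_add' := fun n n' => by ext; simp [mul_add]
      map_smul' := fun a n => by
        ext
        simp [MulOpposite.smul_eq_mul_unop, mul_assoc] }
  have hL : ∀ m n : M, (g (L m n) : A) = (m : A) * (g n : A) := by
    intro m n
    have := g.map_smul (L m) n
    have h2 : (L m • n) = L m n := rfl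
    have h3 : (L m • g n) = L m (g n) := rfl
    rw [h2, h3] at this
    rw [this]
    rfl
  have huniq : ∀ d : A, (∀ m : M, (m : A) * d = 0) → d = 0 := by
    intro d hd
    have := hind (fun z => z * d = 0) (zero_mul d)
      (fun x y hx hy => by rw [add_mul, hx, hy, add_zero])
      (fun x hx => by rw [neg_mul, hx, neg_zero])
      (fun x m hm => by rw [mul_assoc, hd ⟨m, hm⟩, mul_zero])
    simpa using this
  have hex : ∃ b : A, ∀ m : M, (g ⟨(m : A) * 1, hMr m m.2 1⟩ : A) = (m : A) * b := by
    refine hind (fun y => ∃ b : A, ∀ m : M, (g ⟨(m : A) * y, hMr m m.2 y⟩ : A) = (m : A) * b)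
      ?_ ?_ ?_ ?_
    · refine ⟨0, fun m => ?_⟩
      have : (⟨(m : A) * 0, hMr m m.2 0⟩ : M) = 0 := Subtype.ext (mul_zero _)
      rw [this, map_zero, mul_zero]
      rfl
    · rintro x y ⟨b, hb⟩ ⟨b', hb'⟩
      refine ⟨b + b', fun m => ?_⟩
      have : (⟨(m : A) * (x + y), hMr m m.2 (x + y)⟩ : M) =
          ⟨(m : A) * x, hMr m m.2 x⟩ + ⟨(m : A) * y, hMr m m.2 y⟩ := Subtype.ext (mul_add _ _ _)
      rw [this, map_add, mul_add, ← hb m, ← hb' m]
      rfl
    · rintro x ⟨b, hb⟩
      refine ⟨-b, fun m => ?_⟩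
      have : (⟨(m : A) * (-x), hMr m m.2 (-x)⟩ : M) = -⟨(m : A) * x, hMr m m.2 x⟩ :=
        Subtype.ext (mul_neg _ _)
      rw [this, map_neg, mul_neg, ← hb m]
      rfl
    · intro x m' hm'
      refine ⟨x * (g ⟨m', hm'⟩ : A), fun m => ?_⟩
      have : (⟨(m : A) * (x * m'), hMr m m.2 (x * m')⟩ : M) =
          L ⟨(m : A) * x, hMr m m.2 x⟩ ⟨m', hm'⟩ := Subtype.ext (mul_assoc _ _ _).symm
      rw [this, hL, mul_assoc]
  obtain ⟨b, hb⟩ := hex
  have hb' : ∀ m : M, (g m : A) = (m : A) * b := by
    intro m
    have : (⟨(m : A) * 1, hMr m m.2 1⟩ : M) = m := Subtype.ext (mul_one _)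
    rw [← hb m, this]
  refine ⟨b, hb', ?_⟩
  intro a' ha'
  have := huniq (a' - b) (fun m => by rw [mul_sub, ← ha' m, ← hb' m, sub_self])
  exact sub_eq_zero.mp this

end Groth.Agent.S1517
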