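import Groth.Statements.S15170
import Mathlib

set_option autoImplicit false
universe u v
open BddFin

namespace Groth.Agent.S15170

open Polynomial

section
variable {K : Type u} [Field K] {A : Type v} [DivisionRing A] [Algebra K A]

theorem semiconj_aeval (v t s : A) (h : v * t = s * v) (g : K[X]) :
    v * aeval t g = aeval s g * v := by
  induction g using Polynomial.induction_on' with
  | add g₁ g₂ h₁ h₂ => rw [map_add, map_add, mul_add, add_mul, h₁, h₂]
  | monomial n c =>
    have hpow : ∀ n : ℕ, v * t ^ n = s ^ n * v := by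
      intro n
      induction n with
      | zero => simp
      | succ n ih => rw [pow_succ, ← mul_assoc, ih, mul_assoc, h, ← mul_assoc, ← pow_succ]
    rw [aeval_monomial, aeval_monomial, ← mul_assoc, ← Algebra.commutes c v, mul_assoc, hpow,
      mul_assoc]

end


/-- (2) ⇒ (3): let K be a field with char K = p > 0 and A a central division K-algebra with dim_K A = p
^ 2. If v, u in A satisfy v ^ p ∈ K, u ^ p ∈ K and v * u - u * v = 1, then some Galois extension L
of K with [L : K] = p admits a K-algebra embedding into A (so A has a Galois subfield of degree p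
over K). -/
theorem result
    (K : Type u) [Field K] (p : ℕ) [Fact p.Prime] [CharP K p]
    (A : Type v) [DivisionRing A] [Algebra K A] [Algebra.IsCentral K A] [FiniteDimensional K A]
    (hA : Module.finrank K A = p ^ 2) (v u : A) (hv : v ^ p ∈ (algebraMap K A).range)
    (hu : u ^ p ∈ (algebraMap K A).range) (hvu : v * u - u * v = 1) :
    ∃ (L : Type v) (_ : Field L) (_ : Algebra K L), IsGalois K L ∧ Module.finrank K L = p ∧
      Nonempty (L →ₐ[K] A) := by
  have hp : p.Prime := Fact.out
  -- the element t and the conjugation relation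
  have hv0 : v ≠ 0 := by
    rintro rfl
    simp at hvu
  obtain ⟨t, ht⟩ : ∃ t : A, t = u * v := ⟨_, rfl⟩
  have hconj : v * t = (t + 1) * v := by
    have : v * u = u * v + 1 := by rw [← hvu]; abel
    rw [ht, ← mul_assoc, this, add_mul, one_mul]
  -- minimal polynomial
  have hint : IsIntegral K t := Algebra.IsIntegral.isIntegral t
  obtain ⟨f, hf⟩ : ∃ f : K[X], f = minpoly K t := ⟨_, rfl⟩
  have hirr : Irreducible f := hf ▸ minpoly.irreducible hint
  have hmonic : f.Monic := hf ▸ minpoly.monic hint
  have hf0 : f ≠ 0 := hmonic.ne_zero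
  -- f (t + 1) = 0
  have hroot : aeval (t + 1) f = 0 := by
    have h1 := semiconj_aeval (K := K) v t (t + 1) hconj f
    rw [hf, minpoly.aeval, mul_zero] at h1
    rw [hf]
    exact (mul_eq_zero.1 h1.symm).resolve_right hv0
  -- f (X + 1) = f
  have hcomp : f.comp (X + 1) = f := by
    have h1 : aeval t (f.comp (X + 1)) = 0 := by
      rw [aeval_comp]
      simpa using hroot
    have h2 : f ∣ f.comp (X + 1) := hf ▸ minpoly.dvd K t (hf ▸ h1)
    have h3 : (f.comp (X + 1)).Monic := by
      have := hmonic.comp_X_add_C (1 : K)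
      simpa using this
    have h4 : (f.comp (X + 1)).natDegree ≤ f.natDegree := by
      have := natDegree_comp_le (p := f) (q := (X + 1 : K[X]))
      have hX : (X + 1 : K[X]).natDegree = 1 := by
        have := natDegree_X_add_C (1 : K)
        simpa using this
      rw [hX, mul_one] at this
      exact this
    exact eq_of_monic_of_dvd_of_natDegree_le hmonic h3 h2 h4
  -- the field L₀ = K[X]/(f) and its embedding into A
  haveI : Fact (Irreducible f) := ⟨hirr⟩
  let ι : AdjoinRoot f →ₐ[K] A := Ideal.Quotient.liftₐ (Ideal.span {f}) (aeval t) (by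
    intro g hg
    obtain ⟨q, rfl⟩ := Ideal.mem_span_singleton.1 hg
    rw [map_mul, hf, minpoly.aeval, zero_mul])
  have hι_root : ι (AdjoinRoot.root f) = t := by
    change ι (AdjoinRoot.mk f X) = t
    change aeval t X = t
    exact aeval_X t
  have hι_inj : Function.Injective ι := ι.toRingHom.injective
  -- degree computation
  have hfin : Module.finrank K (AdjoinRoot f) = f.natDegree := by
    rw [(AdjoinRoot.powerBasis hf0).finrank, AdjoinRoot.powerBasis_dim]
  haveI : FiniteDimensional K (AdjoinRoot f) := (AdjoinRoot.powerBasis hf0).finite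
  have hdeg : f.natDegree = p := by
    letI : Module (AdjoinRoot f) A := Module.compHom A ι.toRingHom
    haveI : IsScalarTower K (AdjoinRoot f) A := ⟨fun k l a => by
      change ι (k • l) * a = k • (ι l * a)
      rw [map_smul, smul_mul_assoc]⟩
    have hmul := Module.finrank_mul_finrank K (AdjoinRoot f) A
    rw [hA, hfin] at hmul
    have hdvd : f.natDegree ∣ p ^ 2 := ⟨_, hmul.symm⟩
    obtain ⟨k, hk, hk'⟩ := (Nat.dvd_prime_pow hp).1 hdvd
    interval_cases k
    · -- degree one: t central, contradiction
      exfalso
      rw [pow_zero] at hk'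
      rw [hf] at hk'
      obtain ⟨c, hc⟩ := minpoly.natDegree_eq_one_iff.1 hk'
      have hcomm : v * t = t * v := by
        rw [← hc]
        exact (Algebra.commutes c v).symm
      rw [hconj, add_mul, one_mul] at hcomm
      exact hv0 (by simpa using hcomm)
    · simpa using hk'
    · -- degree p^2: A commutative, contradiction
      exfalso
      have heq : Module.finrank K (AdjoinRoot f) = Module.finrank K A := by
        rw [hfin, hk', hA]
      have hsurj : Function.Surjective ι.toLinearMap :=
        (LinearMap.injective_iff_surjective_of_finrank_eq_finrank heq).1 hι_inj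
      obtain ⟨a, ha⟩ := hsurj v
      obtain ⟨b, hb⟩ := hsurj u
      have hcomm : v * u = u * v := by
        rw [← ha, ← hb]
        change ι a * ι b = ι b * ι a
        rw [← map_mul, ← map_mul, mul_comm]
      rw [hcomm, sub_self] at hvu
      exact zero_ne_one hvu
  -- the automorphism root ↦ root + 1
  have hσroot : f.eval₂ (Algebra.ofId K (AdjoinRoot f) : K →+* AdjoinRoot f)
      (AdjoinRoot.root f + 1) = 0 := by
    have h1 : aeval (AdjoinRoot.root f + 1) f = aeval (AdjoinRoot.root f) (f.comp (X + 1)) := by
      rw [aeval_comp]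
      simp
    have h2 : aeval (AdjoinRoot.root f) f = 0 := by
      rw [AdjoinRoot.aeval_eq, AdjoinRoot.mk_self]
    rw [hcomp, h2] at h1
    exact h1
  let σ : AdjoinRoot f →ₐ[K] AdjoinRoot f :=
    AdjoinRoot.liftAlgHom f (Algebra.ofId K (AdjoinRoot f)) (AdjoinRoot.root f + 1) hσroot
  have hσ_root : σ (AdjoinRoot.root f) = AdjoinRoot.root f + 1 := AdjoinRoot.liftAlgHom_root _ _ _ _
  let σe : AdjoinRoot f ≃ₐ[K] AdjoinRoot f := AlgEquiv.ofBijective σ (AlgHom.bijective σ)
  have hσe_pow : ∀ k : ℕ, (σe ^ k) (AdjoinRoot.root f) = AdjoinRoot.root f + (k : AdjoinRoot f) := by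
    intro k
    induction k with
    | zero => simp
    | succ k ih =>
      rw [pow_succ', AlgEquiv.mul_apply, ih, map_add, map_natCast]
      change σ (AdjoinRoot.root f) + _ = _
      rw [hσ_root]
      push_cast
      ring
  haveI : CharP (AdjoinRoot f) p :=
    charP_of_injective_algebraMap (algebraMap K (AdjoinRoot f)).injective p
  have hinj : Function.Injective (fun k : Fin p => σe ^ (k : ℕ)) := by
    intro i j hij
    have h1 := congrArg (fun τ : AdjoinRoot f ≃ₐ[K] AdjoinRoot f => τ (AdjoinRoot.root f)) hij
    simp only [hσe_pow] at h1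
    have h2 : ((i : ℕ) : AdjoinRoot f) = ((j : ℕ) : AdjoinRoot f) := add_left_cancel h1
    rw [CharP.natCast_eq_natCast (AdjoinRoot f) p] at h2
    have h3 := Nat.ModEq.eq_of_lt_of_lt h2 i.isLt j.isLt
    exact Fin.ext h3
  have hcard : Nat.card (AdjoinRoot f ≃ₐ[K] AdjoinRoot f) = Module.finrank K (AdjoinRoot f) := by
    apply le_antisymm
    · rw [Nat.card_eq_fintype_card]
      exact AlgEquiv.card_le
    · have := Nat.card_le_card_of_injective _ hinj
      rw [Nat.card_eq_fintype_card, Fintype.card_fin] at this
      rw [hfin, hdeg]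
      exact this
  haveI : IsGalois K (AdjoinRoot f) := IsGalois.of_card_aut_eq_finrank K _ hcard
  -- transfer to universe v
  haveI : Small.{v} (AdjoinRoot f) := small_of_injective hι_inj
  let e : Shrink.{v} (AdjoinRoot f) ≃ₐ[K] AdjoinRoot f := Shrink.algEquiv K (AdjoinRoot f)
  refine ⟨Shrink.{v} (AdjoinRoot f), inferInstance, inferInstance, ?_, ?_, ⟨ι.comp e.toAlgHom⟩⟩
  · exact IsGalois.of_algEquiv e.symm
  · rw [e.toLinearEquiv.finrank_eq, hfin, hdeg]

end Groth.Agent.S15170
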