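import Groth.Statements.S15171
import Mathlib

set_option autoImplicit false
universe u v w
open BddFin

namespace Groth.Agent.S15171

open Polynomial in
/-- eigenvector lemma -/
theorem exists_eigen_of_prod {K V : Type*} [Field K] [AddCommGroup V] [Module K V]
    (T : Module.End K V) (l : Multiset K) :
    ∀ v : V, v ≠ 0 → aeval T ((l.map (fun c => X - C c)).prod) v = 0 →
      ∃ c ∈ l, ∃ w : V, w ≠ 0 ∧ T w = c • w := by
  induction l using Multiset.induction_on with
  | empty =>
    intro v hv h
    simp at h
    exact absurd h hv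
  | cons c l ih =>
    intro v hv h
    rw [Multiset.map_cons, Multiset.prod_cons, mul_comm, map_mul, Module.End.mul_apply] at h
    by_cases hc : aeval T (X - C c) v = 0
    · refine ⟨c, Multiset.mem_cons_self _ _, v, hv, ?_⟩
      simpa [sub_eq_zero] using hc
    · obtain ⟨c', hc', w, hw, hTw⟩ := ih _ hc h
      exact ⟨c', Multiset.mem_cons_of_mem hc', w, hw, hTw⟩

open Polynomial in
/-- derivation formula -/
theorem ad_aeval {K A : Type*} [Field K] [Ring A] [Algebra K A] (t w : A) (c : K)
    (hw : t * w - w * t = c • w) (g : K[X]) :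
    t * aeval w g - aeval w g * t = c • (w * aeval w (derivative g)) := by
  have hpow : ∀ n : ℕ, t * w ^ n - w ^ n * t = (n : K) • c • w ^ n := by
    intro n
    induction n with
    | zero => simp
    | succ n ih =>
      have : t * w ^ (n + 1) - w ^ (n + 1) * t = (t * w ^ n - w ^ n * t) * w + w ^ n * (t * w - w * t) := by
        rw [pow_succ]; noncomm_ring
      rw [this, ih, hw]
      simp only [smul_mul_assoc, mul_smul_comm, ← pow_succ]
      rw [Nat.cast_succ, add_smul, one_smul]
  induction g using Polynomial.induction_on' with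
  | add p q hp hq =>
    simp only [map_add, mul_add, add_mul, smul_add]
    rw [← hp, ← hq]; abel
  | monomial n a =>
    rw [derivative_monomial, aeval_monomial, aeval_monomial]
    rcases n with _ | n
    · simp [Algebra.commutes]
    · simp only [Nat.add_sub_cancel, Nat.cast_succ, ← Algebra.smul_def]
      rw [mul_smul_comm, smul_mul_assoc, ← smul_sub, hpow, mul_smul_comm, ← pow_succ']
      simp only [smul_smul, Nat.cast_succ]
      congr 1
      ring

open Polynomial in
theorem exists_theta {K L : Type*} [Field K] [Field L] [Algebra K L] [IsGalois K L]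
    (p : ℕ) [Fact p.Prime] [CharP K p] (hL : Module.finrank K L = p) :
    ∃ (σ : L ≃ₐ[K] L) (θ : L), σ θ = θ + 1 ∧
      (∀ x : L, σ x = x → x ∈ Set.range (algebraMap K L)) := by
  have hp : p.Prime := Fact.out
  have : FiniteDimensional K L := Module.finite_of_finrank_pos (by rw [hL]; exact hp.pos)
  have hcard : Nat.card (L ≃ₐ[K] L) = p := by rw [IsGalois.card_aut_eq_finrank, hL]
  have : IsCyclic (L ≃ₐ[K] L) := isCyclic_of_prime_card hcard
  obtain ⟨σ, hσ⟩ := IsCyclic.exists_generator (α := L ≃ₐ[K] L)
  -- fixed points of σ are in K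
  have hfix : ∀ x : L, σ x = x → x ∈ Set.range (algebraMap K L) := by
    intro x hx
    rw [IsGalois.mem_range_algebraMap_iff_fixed]
    intro τ
    have hle : Subgroup.zpowers σ ≤ MulAction.stabilizer (L ≃ₐ[K] L) x := by
      rw [Subgroup.zpowers_le]
      exact hx
    exact hle (hσ τ)
  suffices h : ∃ θ : L, σ θ = θ + 1 by
    obtain ⟨θ, hθ⟩ := h
    exact ⟨σ, θ, hθ, hfix⟩
  -- N = σ - 1
  let N : L →ₗ[K] L := σ.toLinearMap - LinearMap.id
  have hNapply : ∀ x, N x = σ x - x := fun x => rfl
  -- kernel of N is span {1}
  have hker : LinearMap.ker N = Submodule.span K {(1 : L)} := by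
    ext x
    rw [LinearMap.mem_ker, hNapply, sub_eq_zero, Submodule.mem_span_singleton]
    constructor
    · intro hx
      obtain ⟨a, rfl⟩ := hfix x hx
      exact ⟨a, by rw [Algebra.smul_def, mul_one]⟩
    · rintro ⟨a, rfl⟩
      rw [map_smul, map_one]
  have hkerdim : Module.finrank K (LinearMap.ker N) = 1 := by
    rw [hker, finrank_span_singleton one_ne_zero]
  have hrangedim : Module.finrank K (LinearMap.range N) + 1 = p := by
    have := LinearMap.finrank_range_add_finrank_ker N
    rw [hkerdim, hL] at this
    exact this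
  -- trace
  let Tr : L →ₗ[K] K := Algebra.trace K L
  have hTrsurj : Function.Surjective Tr := Algebra.trace_surjective K L
  have hTrdim : Module.finrank K (LinearMap.ker Tr) + 1 = p := by
    have := LinearMap.finrank_range_add_finrank_ker Tr
    rw [LinearMap.range_eq_top.mpr hTrsurj, finrank_top, Module.finrank_self, hL] at this
    omega
  have hle : LinearMap.range N ≤ LinearMap.ker Tr := by
    rintro _ ⟨x, rfl⟩
    rw [LinearMap.mem_ker, hNapply, map_sub, sub_eq_zero]
    exact Algebra.trace_eq_of_algEquiv σ x
  have heq : LinearMap.range N = LinearMap.ker Tr :=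
    Submodule.eq_of_le_of_finrank_eq hle (by omega)
  have h1 : (1 : L) ∈ LinearMap.ker Tr := by
    rw [LinearMap.mem_ker]
    have : Tr 1 = Algebra.trace K L (algebraMap K L 1) := by rw [(algebraMap K L).map_one]
    rw [this, Algebra.trace_algebraMap, hL]
    simp
  rw [← heq] at h1
  obtain ⟨θ, hθ⟩ := h1
  refine ⟨θ, ?_⟩
  rw [hNapply] at hθ
  rw [← hθ]; ring

/-- (3) ⇒ (1): let K be a field with char K = p > 0 and A a central division K-algebra with dim_K A = p
^ 2. If some Galois extension L of K with [L : K] = p admits a K-algebra embedding into A, then some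
element of A is not separable over K. -/
theorem result
    (K : Type u) [Field K] (p : ℕ) [Fact p.Prime] [CharP K p]
    (A : Type v) [DivisionRing A] [Algebra K A] [Algebra.IsCentral K A] [FiniteDimensional K A]
    (hA : Module.finrank K A = p ^ 2) (L : Type w) [Field L] [Algebra K L] [IsGalois K L]
    (hL : Module.finrank K L = p) (ι : L →ₐ[K] A) :
    ∃ v : A, ¬ IsSeparable K v := by
  open Polynomial in
  have hp : p.Prime := Fact.out
  obtain ⟨σ, θ, hσθ, hfix⟩ := exists_theta (K := K) (L := L) p hL
  have : CharP L p := charP_of_injective_algebraMap (algebraMap K L).injective p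
  -- a = θ^p - θ ∈ K
  obtain ⟨a, ha⟩ : θ ^ p - θ ∈ Set.range (algebraMap K L) := by
    apply hfix
    rw [map_sub, map_pow, hσθ, add_pow_char, one_pow]
    ring
  set t : A := ι θ with ht
  have hta : t ^ p - t = algebraMap K A a := by
    rw [ht, ← map_pow, ← map_sub, ← ha, AlgHom.commutes]
  -- D = ad t
  let Lt : Module.End K A := LinearMap.mulLeft K t
  let Rt : Module.End K A := LinearMap.mulRight K t
  let D : Module.End K A := Lt - Rt
  have hDapply : ∀ x, D x = t * x - x * t := fun x => rfl
  have : CharP (Module.End K A) p :=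
    charP_of_injective_algebraMap (algebraMap K (Module.End K A)).injective p
  have hcomm : Commute Lt Rt := LinearMap.commute_mulLeft_right t t
  have hLp : ∀ n : ℕ, ∀ x, (Lt ^ n) x = t ^ n * x := by
    intro n
    induction n with
    | zero => intro x; simp
    | succ n ih => intro x; rw [pow_succ, Module.End.mul_apply, ih, pow_succ, mul_assoc]; rfl
  have hRp : ∀ n : ℕ, ∀ x, (Rt ^ n) x = x * t ^ n := by
    intro n
    induction n with
    | zero => intro x; simp
    | succ n ih =>
      intro x
      rw [pow_succ, Module.End.mul_apply, ih, pow_succ']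
      show x * t * t ^ n = _
      rw [mul_assoc]
  have hDp : D ^ p = D := by
    show (Lt - Rt) ^ p = Lt - Rt
    rw [sub_pow_char_of_commute p hcomm]
    ext x
    rw [LinearMap.sub_apply, LinearMap.sub_apply, hLp, hRp]
    have h1 : t ^ p = t + algebraMap K A a := by rw [← hta]; abel
    rw [h1, add_mul, mul_add, Algebra.commutes]
    show _ = t * x - x * t
    abel
  -- D ≠ 0
  have hD0 : D ≠ 0 := by
    intro h0
    have hcen : t ∈ Subalgebra.center K A := by
      rw [Subalgebra.mem_center_iff]
      intro x
      have := hDapply x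
      rw [h0, LinearMap.zero_apply] at this
      exact (sub_eq_zero.mp this.symm).symm
    have hbot := Algebra.IsCentral.out (K := K) (D := A) hcen
    obtain ⟨c, hc⟩ := Algebra.mem_bot.mp hbot
    have : ι (algebraMap K L c) = ι θ := by rw [AlgHom.commutes, hc]
    have hθc : algebraMap K L c = θ := ι.toRingHom.injective this
    have : σ θ = θ := by rw [← hθc, AlgEquiv.commutes]
    rw [hσθ] at this
    simp at this
  obtain ⟨y, hy⟩ : ∃ y, D y ≠ 0 := by
    by_contra hcon
    push Not at hcon
    exact hD0 (LinearMap.ext hcon)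
  -- polynomial X^(p-1) - 1
  set q : K[X] := X ^ (p - 1) - C 1 with hq
  have hp1 : p - 1 ≠ 0 := by have := hp.two_le; omega
  have hqmonic : q.Monic := monic_X_pow_sub_C 1 hp1
  have hqne : q ≠ 0 := hqmonic.ne_zero
  have hXq : (X ^ p - X : K[X]) = X * q := by
    rw [hq, mul_sub, ← pow_succ', Nat.sub_add_cancel hp.one_le, C_1, mul_one]
  have hsplit : q.Splits := by
    have h1 : (X ^ p - X : K[X]).Splits := by
      have := (Subfield.splits_bot K p).map (Subfield.subtype ⊥)
      simpa using this
    have hne : (X ^ p - X : K[X]) ≠ 0 := by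
      rw [hXq]; exact mul_ne_zero X_ne_zero hqne
    exact Splits.of_dvd h1 hne ⟨X, by rw [hXq, mul_comm]⟩
  have hqprod := hsplit.eq_prod_roots_of_monic hqmonic
  have hqD : aeval D q (D y) = 0 := by
    rw [hq, map_sub, aeval_C, map_one, map_pow, aeval_X, LinearMap.sub_apply,
      ← Module.End.mul_apply, ← pow_succ, Nat.sub_add_cancel hp.one_le, hDp]
    simp
  rw [hqprod] at hqD
  obtain ⟨c, hc, u, hu, hDu⟩ := exists_eigen_of_prod D q.roots (D y) hy hqD
  have hc0 : c ≠ 0 := by
    have := (mem_roots hqne).mp hc
    rw [hq, IsRoot.def, eval_sub, eval_pow, eval_X, eval_C] at this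
    intro h0
    rw [h0, zero_pow hp1] at this
    simp at this
  -- u is inseparable
  refine ⟨u, fun hsep => ?_⟩
  set f := minpoly K u with hf
  have hfu : aeval u f = 0 := minpoly.aeval K u
  have hder := ad_aeval t u c (by rw [← hDapply]; exact hDu) f
  rw [hfu, mul_zero, zero_mul, sub_zero] at hder
  have hf' : aeval u (derivative f) = 0 := by
    have := (smul_eq_zero.mp hder.symm).resolve_left hc0
    exact (mul_eq_zero.mp this).resolve_left hu
  have hf'0 : derivative f = 0 := by
    by_contra hne
    have h1 := minpoly.degree_le_of_ne_zero K u hne hf'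
    have hfne : f ≠ 0 := by
      intro h0
      exact hne (by rw [h0, derivative_zero])
    have h2 := degree_derivative_lt hfne
    exact absurd (lt_of_le_of_lt h1 h2) (lt_irrefl _)
  have hsep' : f.Separable := hsep
  rw [separable_def, hf'0] at hsep'
  exact minpoly.not_isUnit K u (isCoprime_zero_right.mp hsep')

end Groth.Agent.S15171
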