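import Groth.Statements.S15172
import Mathlib

set_option autoImplicit false
universe u v
open Polynomial
open BddFin

namespace Groth.Agent.S15172

/-- Let L be a field of characteristic p > 0 and s a finite subset of L containing 0 and closed under
addition (a finite additive subgroup). Then the polynomial f = ∏_{a ∈ s} (X - a) is additive: f (x +
y) = f x + f y for all x, y in any commutative L-algebra (equivalently, as an identity of
polynomials in two variables). -/
theorem result
    (L : Type u) [Field L] (p : ℕ) [Fact p.Prime] [CharP L p] (s : Finset L) (h0 : (0 : L) ∈ s)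
    (hadd : ∀ a ∈ s, ∀ b ∈ s, a + b ∈ s) (R : Type v) [CommRing R] [Algebra L R] (x y : R) :
    aeval (x + y) (∏ a ∈ s, (X - C a)) = aeval x (∏ a ∈ s, (X - C a)) + aeval y (∏ a ∈ s, (X - C a)) := by
  classical
  set f : L[X] := ∏ a ∈ s, (X - C a) with hf
  -- closure under multiples, negation, subtraction
  have hnsmul : ∀ n : ℕ, ∀ a ∈ s, n • a ∈ s := by
    intro n a ha
    induction n with
    | zero => simpa using h0
    | succ n ih => rw [succ_nsmul]; exact hadd _ ih _ ha
  have hneg : ∀ a ∈ s, -a ∈ s := by
    intro a ha
    have h := hnsmul (p - 1) a ha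
    have hp : (p : L) = 0 := CharP.cast_eq_zero L p
    have h1 : ((p - 1 : ℕ) : L) = -1 := by
      have : 1 ≤ p := (Fact.out : p.Prime).one_lt.le
      rw [Nat.cast_sub this, hp]; simp
    rwa [nsmul_eq_mul, h1, neg_one_mul] at h
  have hsub : ∀ a ∈ s, ∀ b ∈ s, b - a ∈ s := fun a ha b hb => by
    rw [sub_eq_add_neg]; exact hadd b hb _ (hneg a ha)
  -- translation invariance of f
  have htrans : ∀ a ∈ s, f.comp (X + C a) = f := by
    intro a ha
    rw [hf, Polynomial.prod_comp]
    refine Finset.prod_nbij' (fun b => b - a) (fun b => b + a) ?_ ?_ ?_ ?_ ?_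
    · intro b hb; exact hsub a ha b hb
    · intro b hb; exact hadd b hb a ha
    · intro b _; simp
    · intro b _; simp
    · intro b _
      simp only [sub_comp, X_comp, C_comp, C_sub]
      ring
  have hfmonic : f.Monic := by
    rw [hf]; exact Polynomial.monic_prod_of_monic _ _ (fun a _ => Polynomial.monic_X_sub_C a)
  have hfdeg : f.natDegree = s.card := by
    rw [hf]; exact Polynomial.natDegree_finsetProd_X_sub_C_eq_card s (fun a => a)
  have hcard : 0 < s.card := Finset.card_pos.mpr ⟨0, h0⟩
  -- two-variable polynomial
  let B := L[X]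
  let P : B[X] := f.map (C : L →+* B)
  have hPmonic : P.Monic := hfmonic.map _
  have hPdeg : P.natDegree = s.card := by
    rw [show P = f.map (C : L →+* B) from rfl, Polynomial.natDegree_map_eq_of_injective C_injective, hfdeg]
  let Q : B[X] := P.comp (X + C (X : B))
  have hQmonic : Q.Monic := by
    apply Polynomial.Monic.comp hPmonic (Polynomial.monic_X_add_C _)
    rw [Polynomial.natDegree_X_add_C]; exact one_ne_zero
  have hQdeg : Q.natDegree = s.card := by
    rw [show Q = P.comp (X + C (X : B)) from rfl, Polynomial.natDegree_comp,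
      Polynomial.natDegree_X_add_C, mul_one, hPdeg]
  let G : B[X] := Q - P - C f
  have hGdeg : G.natDegree < s.card := by
    have h1 : (Q - P).degree < Q.degree := by
      apply Polynomial.degree_sub_lt_left
      · rw [Polynomial.degree_eq_natDegree hQmonic.ne_zero,
          Polynomial.degree_eq_natDegree hPmonic.ne_zero, hQdeg, hPdeg]
      · exact hQmonic.ne_zero
      · rw [hQmonic.leadingCoeff, hPmonic.leadingCoeff]
    have h2 : (C f : B[X]).degree < Q.degree := by
      rw [Polynomial.degree_eq_natDegree hQmonic.ne_zero, hQdeg]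
      exact lt_of_le_of_lt Polynomial.degree_C_le (by exact_mod_cast hcard)
    have h3 : G.degree < Q.degree :=
      lt_of_le_of_lt (Polynomial.degree_sub_le _ _) (max_lt h1 h2)
    rw [Polynomial.degree_eq_natDegree hQmonic.ne_zero, hQdeg] at h3
    by_cases hG0 : G = 0
    · rw [hG0]; simpa using hcard
    · rw [Polynomial.degree_eq_natDegree hG0] at h3
      exact_mod_cast h3
  have hGroots : ∀ b ∈ s.image (C : L → B), G.eval b = 0 := by
    intro b hb
    obtain ⟨a, ha, rfl⟩ := Finset.mem_image.mp hb
    have e1 : Q.eval (C a) = f.comp (X + C a) := by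
      rw [show Q = P.comp (X + C (X : B)) from rfl, Polynomial.eval_comp, Polynomial.eval_add,
        Polynomial.eval_X, Polynomial.eval_C, show P = f.map (C : L →+* B) from rfl,
        Polynomial.eval_map, add_comm]
      rfl
    have e2 : P.eval (C a) = 0 := by
      simp only [P, Polynomial.eval_map]
      rw [Polynomial.eval₂_hom]
      have : f.eval a = 0 := by
        rw [hf, Polynomial.eval_prod]
        exact Finset.prod_eq_zero ha (by simp)
      rw [this, map_zero]
    simp only [G, Polynomial.eval_sub, Polynomial.eval_C, e1, e2, htrans a ha]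
    ring
  have hG0 : G = 0 := by
    apply Polynomial.eq_zero_of_natDegree_lt_card_of_eval_eq_zero' G (s.image (C : L → B)) hGroots
    rw [Finset.card_image_of_injective _ C_injective]
    exact hGdeg
  -- specialise
  let φ : B →+* R := (aeval y : L[X] →ₐ[L] R).toRingHom
  have hsp := congrArg (Polynomial.eval₂ φ x) hG0
  have hφC : φ.comp (C : L →+* B) = algebraMap L R := by
    ext a; exact Polynomial.aeval_C y a
  have hφX : φ (X : B) = y := Polynomial.aeval_X y
  have eQ : Q.eval₂ φ x = aeval (x + y) f := by
    simp only [Q, P]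
    rw [Polynomial.eval₂_comp, Polynomial.eval₂_map, hφC]
    simp only [Polynomial.eval₂_add, Polynomial.eval₂_X, Polynomial.eval₂_C, hφX]
    rfl
  have eP : P.eval₂ φ x = aeval x f := by
    simp only [P]
    rw [Polynomial.eval₂_map, hφC]
    rfl
  have eC : (C f : B[X]).eval₂ φ x = aeval y f := by
    rw [Polynomial.eval₂_C]
    rfl
  simp only [G, Polynomial.eval₂_sub, eQ, eP, eC, Polynomial.eval₂_zero] at hsp
  have : aeval (x + y) f = aeval x f + aeval y f := by
    have h := sub_eq_zero.mp hsp
    rw [sub_eq_iff_eq_add] at h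
    rw [h, add_comm]
  exact this

end Groth.Agent.S15172
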