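import Groth.Statements.S15173
import Mathlib

set_option autoImplicit false
universe u v
open Polynomial
open BddFin

namespace Groth.Agent.S15173

section helpers
open scoped IsMulCommutative

/-- group-theoretic core: a central subgroup `Z`, finitely many pairwise commuting elements with
`p`-th powers in `Z` and pairwise distinct classes mod `Z` give a subgroup `H ≥ Z` of finite index `> N`. -/
theorem exists_subgroup_relIndex {G : Type*} [Group G] (Z : Subgroup G)
    (hZ : ∀ z ∈ Z, ∀ g : G, g * z = z * g) (p : ℕ) (hp : 0 < p) (N : ℕ)
    (u : Fin (N + 1) → G) (hcomm : ∀ i j, u i * u j = u j * u i)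
    (hpow : ∀ i, u i ^ p ∈ Z) (hdist : ∀ i j, (u i)⁻¹ * u j ∈ Z → i = j) :
    ∃ H : Subgroup G, Z ≤ H ∧ N < Z.relIndex H := by
  have hZn : Z.Normal := ⟨fun z hz g => by rw [hZ z hz g, mul_inv_cancel_right]; exact hz⟩
  let π := QuotientGroup.mk' Z
  let S : Set (G ⧸ Z) := Set.range fun i => π (u i)
  have hScomm : ∀ x ∈ S, ∀ y ∈ S, x * y = y * x := by
    rintro _ ⟨i, rfl⟩ _ ⟨j, rfl⟩
    rw [← map_mul, ← map_mul, hcomm]
  let T : Subgroup (G ⧸ Z) := Subgroup.closure S
  have : IsMulCommutative T := Subgroup.isMulCommutative_closure hScomm
  have hTpow : ∀ x ∈ T, x ^ p = 1 := by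
    intro x hx
    induction hx using Subgroup.closure_induction with
    | mem x hx =>
      obtain ⟨i, rfl⟩ := hx
      rw [← map_pow]
      exact (QuotientGroup.eq_one_iff _).mpr (hpow i)
    | one => exact one_pow _
    | mul x y hx hy ihx ihy =>
      have hc : Commute x y := setLike_mul_comm (s := T) hx hy
      rw [hc.mul_pow, ihx, ihy, one_mul]
    | inv x hx ih => rw [inv_pow, ih, inv_one]
  have : Group.FG T := by
    rw [Group.fg_iff_subgroup_fg]
    exact ⟨(Set.finite_range fun i => π (u i)).toFinset, by simp [T, S]⟩
  have htors : IsMulTorsion T := by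
    intro t
    rw [isOfFinOrder_iff_pow_eq_one]
    exact ⟨p, hp, Subtype.ext (by simpa using hTpow t t.2)⟩
  have : Finite T := CommGroup.finite_of_fg_isMulTorsion (G := T) htors
  refine ⟨T.comap π, ?_, ?_⟩
  · intro z hz
    rw [Subgroup.mem_comap]
    have : π z = 1 := (QuotientGroup.eq_one_iff z).mpr hz
    rw [this]; exact T.one_mem
  · have h1 : Z = (⊥ : Subgroup (G ⧸ Z)).comap π := by
      rw [MonoidHom.comap_bot, QuotientGroup.ker_mk']
    have h2 : Z.relIndex (T.comap π) = Nat.card T := by
      have h3 : ((⊥ : Subgroup (G ⧸ Z)).comap π).relIndex (T.comap π) = Nat.card T := by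
        rw [Subgroup.relIndex_comap, Subgroup.map_comap_eq_self_of_surjective
          (QuotientGroup.mk'_surjective Z), Subgroup.relIndex_bot_left]
      rw [← h3]
      congr 1
    rw [h2]
    have hinj : Function.Injective (fun i : Fin (N + 1) => (⟨π (u i), Subgroup.subset_closure ⟨i, rfl⟩⟩ : T)) := by
      intro i j hij
      have h3 : π (u i) = π (u j) := congrArg Subtype.val hij
      apply hdist
      exact QuotientGroup.eq.mp h3
    have := Nat.card_le_card_of_injective _ hinj
    simp at this
    omega


theorem main (K : Type u) [Field K] (p : ℕ) [Fact p.Prime] [CharP K p]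
    (A : Type v) [DivisionRing A] [Algebra K A]
    (w : A) (hw : w ^ p ∈ (algebraMap K A).range) (hwK : w ∉ (algebraMap K A).range) (N : ℕ) :
    ∃ H : Subgroup Aˣ, (Units.map (algebraMap K A : K →* A)).range ≤ H ∧
      N < ((Units.map (algebraMap K A : K →* A)).range).relIndex H := by
  have hp : p.Prime := Fact.out
  have hinjA : Function.Injective (algebraMap K A) := (algebraMap K A).injective
  have hcharA : CharP A p := charP_of_injective_algebraMap hinjA p
  obtain ⟨a, ha⟩ := hw
  -- K is infinite
  have hKinf : Infinite K := by
    by_contra hfin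
    rw [not_infinite_iff_finite] at hfin
    obtain ⟨b, hb⟩ := surjective_frobenius K p a
    rw [frobenius_def] at hb
    apply hwK
    refine ⟨b, ?_⟩
    have h1 : (w - algebraMap K A b) ^ p = 0 := by
      rw [sub_pow_char_of_commute p (Algebra.commute_algebraMap_right b w), ← ha, ← map_pow, hb, sub_self]
    have h2 := pow_eq_zero_iff (hp.ne_zero) |>.mp h1
    exact (sub_eq_zero.mp h2).symm
  let emb := Infinite.natEmbedding K
  let c : Fin (N + 1) → K := fun i => emb (i : ℕ)
  have hcinj : Function.Injective c := fun i j h => Fin.ext (emb.injective h)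
  have hne : ∀ t : K, w + algebraMap K A t ≠ 0 := by
    intro t h
    apply hwK
    refine ⟨-t, ?_⟩
    rw [map_neg]
    exact (eq_neg_of_add_eq_zero_left h).symm
  let u : Fin (N + 1) → Aˣ := fun i => Units.mk0 (w + algebraMap K A (c i)) (hne _)
  apply exists_subgroup_relIndex _ ?_ p hp.pos N u ?_ ?_ ?_
  · rintro _ ⟨l, rfl⟩ g
    apply Units.ext
    simp only [Units.val_mul, Units.coe_map, MonoidHom.coe_coe]
    exact (Algebra.commutes (l : K) (g : A)).symm
  · intro i j
    apply Units.ext
    simp only [Units.val_mul, u, Units.val_mk0]
    have : Commute (w + algebraMap K A (c i)) (w + algebraMap K A (c j)) :=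
      ((Commute.refl w).add_right (Algebra.commute_algebraMap_right _ _)).add_left
        (Algebra.commute_algebraMap_left _ _)
    exact this.eq
  · intro i
    have h1 : (w + algebraMap K A (c i)) ^ p = algebraMap K A (a + c i ^ p) := by
      rw [add_pow_char_of_commute p (Algebra.commute_algebraMap_right _ _), ← ha, map_add, map_pow]
    have hb : a + c i ^ p ≠ 0 := by
      intro h0
      rw [h0, map_zero] at h1
      exact hne _ (pow_eq_zero_iff hp.ne_zero |>.mp h1)
    refine ⟨Units.mk0 _ hb, ?_⟩
    apply Units.ext
    simp only [Units.coe_map, MonoidHom.coe_coe, Units.val_mk0, Units.val_pow_eq_pow_val, u]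
    exact h1.symm
  · intro i j hij
    obtain ⟨l, hl⟩ := hij
    have h1 : u i * Units.map (algebraMap K A : K →* A) l = u j := by
      rw [hl, mul_inv_cancel_left]
    have h2 : (w + algebraMap K A (c i)) * algebraMap K A (l : K) = w + algebraMap K A (c j) := by
      have := congrArg Units.val h1
      simpa [u] using this
    by_cases hl1 : (l : K) = 1
    · rw [hl1, map_one, mul_one] at h2
      exact hcinj (hinjA (add_left_cancel h2))
    · exfalso
      apply hwK
      refine ⟨(c j - c i * l) / (l - 1), ?_⟩
      have hl1' : (l : K) - 1 ≠ 0 := sub_ne_zero.mpr hl1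
      have h3 : w * algebraMap K A ((l : K) - 1) = algebraMap K A (c j - c i * l) := by
        rw [map_sub, map_sub, map_mul, map_one, mul_sub, mul_one]
        rw [add_mul] at h2
        have h4 : w * algebraMap K A (l : K) = w + algebraMap K A (c j) - algebraMap K A (c i) * algebraMap K A (l : K) :=
          eq_sub_of_add_eq h2
        rw [h4]; abel
      rw [map_div₀, div_eq_iff (by rw [Ne, map_eq_zero]; exact hl1'), ← h3]

end helpers

/-- Let K be a field of characteristic p > 0 such that K contains all roots of unity (for every n ≥ 1
the polynomial X^n − 1 splits into linear factors over K), and A a finite-dimensional central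
division algebra over K. If A contains an element w not in K with w ^ p in K, then the quotient of
the unit group of A by that of K has unbounded finite subgroups: for every N there is a subgroup H
of the units of A containing the units of K as a subgroup of finite index greater than N. (The
published statement assumes only that some element of A is inseparable over K and passes at once to
a purely inseparable subfield of degree p; this row assumes an element generating such a subfield
directly, which is what the rest of the printed argument uses.) -/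
theorem result
    (K : Type u) [Field K] (p : ℕ) [Fact p.Prime] [CharP K p] (hK : ∀ n : ℕ, 0 < n → (X ^ n - 1 : K[X]).Splits)
    (A : Type v) [DivisionRing A] [Algebra K A] [Algebra.IsCentral K A] [FiniteDimensional K A]
    (w : A) (hw : w ^ p ∈ (algebraMap K A).range) (hwK : w ∉ (algebraMap K A).range) (N : ℕ) :
    ∃ H : Subgroup Aˣ, (Units.map (algebraMap K A : K →* A)).range ≤ H ∧
      N < ((Units.map (algebraMap K A : K →* A)).range).relIndex H := by
  exact main K p A w hw hwK N

end Groth.Agent.S15173
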