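import Groth.Statements.S15177
import Groth.Prelude.Def_ComodSub
import Groth.Agent.H40.Unipotent
import Mathlib

set_option autoImplicit false
universe u v
open BddFin

namespace Groth.Agent.S15177

open TensorProduct Polynomial Groth.Agent.H40

section LinAlg

variable {K : Type u} [Field K] {V : Type v} [AddCommGroup V] [Module K V]

/-- A linear map with `T^n = 1`, `(T-1)^m = 0` and `n` invertible is the identity. -/
theorem eq_one_of_pow_eq_one_of_sub_one_pow (T : Module.End K V) (n m : ℕ) (hn : (n : K) ≠ 0)
    (hT : T ^ n = 1) (hN : (T - 1) ^ m = 0) : T = 1 := by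
  have hsep : (X ^ n - C (1 : K)).Separable := separable_X_pow_sub_C (1 : K) hn one_ne_zero
  have hroot : (X - C (1 : K)) ∣ X ^ n - C (1 : K) := by
    rw [dvd_iff_isRoot]
    simp
  obtain ⟨R, hR⟩ := hroot
  have hcop : IsCoprime (X - C (1 : K)) R := by
    rw [hR] at hsep
    exact hsep.isCoprime
  have hcop' : IsCoprime ((X - C (1 : K)) ^ m) R := hcop.pow_left
  obtain ⟨a, b, hab⟩ := hcop'
  -- (X - 1) = a (X-1)^(m+1) + b (X^n - 1)
  have key : (X - C (1 : K)) = a * (X - C 1) * (X - C (1 : K)) ^ m + b * (X ^ n - C (1 : K)) := by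
    rw [hR]
    calc (X - C (1 : K)) = (a * (X - C (1 : K)) ^ m + b * R) * (X - C 1) := by rw [hab, one_mul]
      _ = _ := by ring
  have h1 : aeval T (X - C (1 : K)) = T - 1 := by simp
  have h2 : aeval T (X ^ n - C (1 : K)) = 0 := by simp [hT]
  have h3 : aeval T ((X - C (1 : K)) ^ m) = 0 := by rw [map_pow, h1, hN]
  have := congrArg (aeval T) key
  simp only [map_add, map_mul, h2, h3, mul_zero, add_zero] at this
  rw [h1] at this
  exact sub_eq_zero.1 this

end LinAlg

section Comod

variable {K : Type u} [Field K] {A : Type v} [CommRing A] [Bialgebra K A]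

/-- `coactSlice` is multiplicative for the convolution product of linear functionals. -/
theorem coactSlice_pow {V : Type*} [AddCommGroup V] [Module K V] [HopfRep.Comod K A V]
    (g : WithConv (A →ₐ[K] K)) (n : ℕ) :
    (coactSlice (C := A) (V := V) g.ofConv.toLinearMap) ^ n =
      coactSlice (C := A) (V := V) (g ^ n).ofConv.toLinearMap := by
  induction n with
  | zero =>
    ext v
    rw [pow_zero, pow_zero, Module.End.one_apply]
    have : (1 : WithConv (A →ₐ[K] K)).ofConv.toLinearMap = Coalgebra.counit (R := K) (A := A) := by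
      ext a
      simp
    rw [this, coactSlice_counit]
  | succ n ih =>
    ext v
    rw [pow_succ', Module.End.mul_apply, ih]
    have h := slice_coact_coactSlice (C := A) (V := V) g.ofConv.toLinearMap
      (g ^ n).ofConv.toLinearMap v
    have h' : coactSlice (C := A) (V := V) g.ofConv.toLinearMap
        (coactSlice (C := A) (V := V) (g ^ n).ofConv.toLinearMap v) =
        slice g.ofConv.toLinearMap (HopfRep.Comod.coact (k := K) (A := A)
          (coactSlice (C := A) (g ^ n).ofConv.toLinearMap v)) := rfl
    rw [h', h]
    congr 1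
    rw [pow_succ']
    rfl

end Comod


/-- Let K be a field and Γ a unipotent linear algebraic group over K, given here by its coordinate Hopf
algebra A (a finitely generated, formally smooth commutative Hopf algebra over K all of whose
non-zero finite-dimensional comodules have a non-zero fixed vector). Then the group Γ(K) of K-points
(K-algebra maps A → K under convolution) has no non-trivial element of finite order coprime to the
characteristic of K: an element of finite order whose order is non-zero in K is the identity. -/
theorem result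
    (K : Type u) [Field K] (A : Type v) [CommRing A] [HopfAlgebra K A] [Algebra.FiniteType K A]
    [Algebra.FormallySmooth K A] (hU : HopfRep.IsUnipotent K A)
    (g : WithConv (A →ₐ[K] K)) (hg : IsOfFinOrder g) (hcop : ((orderOf g : ℕ) : K) ≠ 0) : g = 1 := by
  obtain ⟨n, hn⟩ : ∃ n, n = orderOf g := ⟨_, rfl⟩
  have hgn : g ^ n = 1 := hn ▸ pow_orderOf_eq_one g
  rw [← hn] at hcop
  obtain ⟨γ, hγ⟩ : ∃ γ : A →ₗ[K] K, γ = g.ofConv.toLinearMap := ⟨_, rfl⟩
  have hγ1 : γ 1 = 1 := by rw [hγ]; simp
  have hone : (1 : WithConv (A →ₐ[K] K)).ofConv.toLinearMap = Coalgebra.counit (R := K) (A := A) := by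
    ext a
    simp
  -- key: for every a, coactSlice γ a = a  (regular comodule)
  have key : ∀ a : A, coactSlice (C := A) (V := A) γ a = a := by
    intro a
    obtain ⟨W, hWfin, haW, hWsub⟩ := exists_finite_subcomod_mem (k := K) (C := A) (V := A) a
    letI cW : HopfRep.Comod K A W := ComodSub.Comod.restr (HopfRep.Comod.regular K A) W hWsub
    obtain ⟨m, F, hmono, hF0, hFm, hFsub, hFgr⟩ :=
      hasUnipFiltration_of_isUnipotent hU (Module.finrank K W) W hWfin rfl
    obtain ⟨T, hT⟩ : ∃ T : Module.End K W, T = coactSlice (C := A) (V := W) γ := ⟨_, rfl⟩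
    have hTn : T ^ n = 1 := by
      rw [hT, hγ, coactSlice_pow, hgn, hone]
      exact LinearMap.ext fun v => coactSlice_counit v
    have hstep : ∀ i, ∀ v ∈ F (i + 1), (T - 1) v ∈ F i := by
      intro i v hv
      have h1 := slice_mem_of_mem_range (F i) _ (hFgr i v hv) γ
      rw [map_sub, slice_tmul, hγ1, one_smul] at h1
      rw [LinearMap.sub_apply, Module.End.one_apply, hT]
      exact h1
    have hnil : ∀ i, ∀ v ∈ F i, ((T - 1) ^ i) v = 0 := by
      intro i
      induction i with
      | zero =>
        intro v hv
        rw [hF0] at hv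
        rw [(Submodule.mem_bot K).1 hv]
        simp
      | succ i ih =>
        intro v hv
        rw [pow_succ, Module.End.mul_apply]
        exact ih _ (hstep i v hv)
    have hN : (T - 1) ^ m = 0 :=
      LinearMap.ext fun v => hnil m v (by rw [hFm]; trivial)
    have hT1 : T = 1 := eq_one_of_pow_eq_one_of_sub_one_pow T n m hcop hTn hN
    have h2 := ComodSub.restr_coact_coe (HopfRep.Comod.regular K A) W hWsub ⟨a, haW⟩
    have h3 : coactSlice (C := A) (V := A) γ a = W.subtype (T ⟨a, haW⟩) := by
      rw [hT]
      change slice γ (HopfRep.Comod.coact (k := K) (A := A) a) =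
        W.subtype (slice γ (cW.coact ⟨a, haW⟩))
      rw [← slice_rTensor, h2]
    rw [h3, hT1]
    rfl
  -- conclude
  have hcounit : ∀ t : A ⊗[K] A, Coalgebra.counit (R := K) (A := A) (slice γ t) =
      γ ((TensorProduct.lid K A) (LinearMap.rTensor A (Coalgebra.counit (R := K) (A := A)) t)) := by
    intro t
    induction t using TensorProduct.induction_on with
    | zero => simp
    | tmul x c => simp [mul_comm]
    | add x y hx hy => simp only [map_add, hx, hy]
  apply WithConv.ext
  apply AlgHom.ext
  intro a
  have h1 := congrArg (Coalgebra.counit (R := K) (A := A)) (key a)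
  change Coalgebra.counit (R := K) (A := A) (slice γ (Coalgebra.comul (R := K) a)) = _ at h1
  rw [hcounit, Coalgebra.rTensor_counit_comul] at h1
  simp only [TensorProduct.lid_tmul, one_smul] at h1
  rw [hγ] at h1
  change g.ofConv a = algebraMap K K (Coalgebra.counit (R := K) (A := A) a)
  rw [Algebra.algebraMap_self_apply]
  exact h1

end Groth.Agent.S15177
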