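import Groth.Statements.S15180
import Groth.Agent.Lib.Helper77.GaGmQuot9

set_option autoImplicit false
universe u
open CategoryTheory MonoidalCategory CartesianMonoidalCategory MonObj GrpObj AlgebraicGeometry
open BddFin

namespace Groth.Agent.S15180

/-- Let K be an arbitrary field, G a K-group scheme isomorphic (as a group scheme) to 𝔾_a (additive) or
to 𝔾_m (multiplicative), and H a finite subgroup scheme of G (a monomorphic homomorphism H → G with
H finite over K). Then the quotient G/H is isomorphic to G; equivalently, there is a homomorphism of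
K-group schemes G → G which is flat and surjective and whose kernel is H. -/
theorem result
    (K : Type u) [Field K] (G H : Over (Spec (CommRingCat.of K))) [GrpObj G] [GrpObj H]
    (hG : Nonempty (Grp.mk G ≅ Grp.mk (Red.Ga (Spec (CommRingCat.of K)))) ∨
      Nonempty (Grp.mk G ≅ Grp.mk (Red.Gm (Spec (CommRingCat.of K)))))
    (i : H ⟶ G) [IsMonHom i] [Mono i] [IsFinite H.hom] :
    ∃ φ : G ⟶ G, IsMonHom φ ∧ AlgGrp.IsKernel i φ ∧ Flat φ.left ∧ Surjective φ.left := by
  unfold AlgGrp.IsKernel
  rcases hG with ⟨⟨ε⟩⟩ | ⟨⟨ε⟩⟩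
  · exact Groth.Agent.Lib.Helper77.GaGmQuot.transport_main ε i
      (fun i₀ _ _ => Groth.Agent.Lib.Helper77.GaGmQuot.ga_main i₀)
  · exact Groth.Agent.Lib.Helper77.GaGmQuot.transport_main ε i
      (fun i₀ _ _ => Groth.Agent.Lib.Helper77.GaGmQuot.gm_main i₀)

end Groth.Agent.S15180
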