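import Groth.Statements.S15183
import Mathlib

set_option autoImplicit false
universe u v
open Polynomial
open BddFin

namespace Groth.Agent.S15183

open Polynomial in
/-- A primitive `d`-th root of unity exists when `X^d - 1` splits and `d ≠ 0` in `K`. -/
theorem exists_primitiveRoot_of_splits (K : Type*) [Field K] (d : ℕ) (hd : 0 < d)
    (hsplit : (X ^ d - 1 : K[X]).Splits) (hdK : (d : K) ≠ 0) : ∃ ζ : K, IsPrimitiveRoot ζ d := by
  have : NeZero (d : K) := ⟨hdK⟩
  have hne : (X ^ d - 1 : K[X]) ≠ 0 := by
    have := Polynomial.monic_X_pow_sub_C (1 : K) hd.ne'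
    rw [map_one] at this
    exact this.ne_zero
  have hcs : (cyclotomic d K).Splits := hsplit.of_dvd hne (cyclotomic.dvd_X_pow_sub_one d K)
  have hdeg : (cyclotomic d K).degree ≠ 0 := (degree_cyclotomic_pos d K hd).ne'
  obtain ⟨ζ, hζ⟩ := hcs.exists_eval_eq_zero hdeg
  exact ⟨ζ, (isRoot_cyclotomic_iff (n := d) (R := K)).mp hζ⟩

/-- A non-zero non-unit in an Artinian simple ring yields a nontrivial idempotent. -/
theorem exists_nontrivial_idempotent (A : Type*) [Ring A] [IsSimpleRing A] [IsArtinianRing A]
    (y : A) (hy0 : y ≠ 0) (hyu : ¬ IsUnit y) : ∃ e : A, IsIdempotentElem e ∧ e ≠ 0 ∧ e ≠ 1 := by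
  obtain ⟨e, he, hspan⟩ := IsSemisimpleRing.ideal_eq_span_idempotent (Ideal.span {y} : Ideal A)
  refine ⟨e, he, ?_, ?_⟩
  · rintro rfl
    have : y ∈ (Ideal.span {(0 : A)} : Ideal A) := hspan ▸ Ideal.subset_span rfl
    rw [Ideal.span_singleton_zero] at this
    exact hy0 (by simpa using this)
  · rintro rfl
    have h1 : (1 : A) ∈ (Ideal.span {y} : Ideal A) := hspan ▸ Ideal.subset_span rfl
    rw [Ideal.mem_span_singleton'] at h1
    obtain ⟨z, hz⟩ := h1
    exact hyu (IsUnit.of_mul_eq_one_right z hz)

/-- Let K be a field such that K contains all roots of unity (for every n ≥ 1 the polynomial X^n − 1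
splits into linear factors over K), and A a finite-dimensional central simple K-algebra which is not
a division algebra (some non-zero element is not a unit). Then the quotient of the unit group of A
by that of K has elements of every finite order invertible in K: for every d ≥ 1 with d ≠ 0 in K
there is a unit x of A with x ^ d in K and x ^ k not in K for 0 < k < d. (The published assertion is
phrased for the automorphism group of the Severi–Brauer variety of A, which is isomorphic to the
units of A modulo those of K; this row is the algebra-side statement its proof establishes.) -/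
theorem result
    (K : Type u) [Field K] (hK : ∀ n : ℕ, 0 < n → (X ^ n - 1 : K[X]).Splits)
    (A : Type v) [Ring A] [Algebra K A] [Algebra.IsCentral K A] [IsSimpleRing A] [FiniteDimensional K A]
    (hA : ∃ y : A, y ≠ 0 ∧ ¬ IsUnit y) (d : ℕ) (hd : 0 < d) (hdK : (d : K) ≠ 0) :
    ∃ x : A, IsUnit x ∧ x ^ d ∈ (algebraMap K A).range ∧
      ∀ k : ℕ, 0 < k → k < d → x ^ k ∉ (algebraMap K A).range := by
  have : IsArtinianRing A := IsArtinianRing.of_finite K A
  obtain ⟨y, hy0, hyu⟩ := hA
  obtain ⟨e, he, he0, he1⟩ := exists_nontrivial_idempotent A y hy0 hyu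
  obtain ⟨ζ, hζ⟩ := exists_primitiveRoot_of_splits K d hd (hK d hd) hdK
  have hζ0 : ζ ≠ 0 := hζ.ne_zero hd.ne'
  have hee : e * e = e := he
  have he1e : e * (1 - e) = 0 := by rw [mul_sub, mul_one, hee, sub_self]
  have h1ee : (1 - e) * e = 0 := by rw [sub_mul, one_mul, hee, sub_self]
  have h1e1e : (1 - e) * (1 - e) = 1 - e := by
    rw [mul_sub, mul_one, h1ee, sub_zero]
  have h1e0 : (1 : A) - e ≠ 0 := fun h => he1 (sub_eq_zero.mp h).symm
  -- x_c := c • e + (1 - e)
  have hmul : ∀ a b : K, (a • e + (1 - e)) * (b • e + (1 - e)) = (a * b) • e + (1 - e) := by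
    intro a b
    rw [add_mul, mul_add, mul_add, smul_mul_smul_comm, hee, smul_mul_assoc, he1e, smul_zero,
      mul_smul_comm, h1ee, smul_zero, h1e1e]
    abel
  have hpow : ∀ n : ℕ, (ζ • e + (1 - e)) ^ n = (ζ ^ n) • e + (1 - e) := by
    intro n
    induction n with
    | zero => simp
    | succ n ih => rw [pow_succ, ih, hmul, pow_succ]
  refine ⟨ζ • e + (1 - e), ?_, ?_, ?_⟩
  · refine ⟨⟨ζ • e + (1 - e), ζ⁻¹ • e + (1 - e), ?_, ?_⟩, rfl⟩
    · rw [hmul, mul_inv_cancel₀ hζ0, one_smul]; abel
    · rw [hmul, inv_mul_cancel₀ hζ0, one_smul]; abel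
  · rw [hpow, hζ.pow_eq_one, one_smul]
    exact ⟨1, by rw [map_one]; abel⟩
  · intro k hk hkd hmem
    obtain ⟨c, hc⟩ := hmem
    rw [hpow] at hc
    -- multiply by e and by (1 - e)
    have h1 : c • e = (ζ ^ k) • e := by
      have := congrArg (fun t => t * e) hc
      simp only [add_mul, smul_mul_assoc, hee, h1ee, add_zero] at this
      rw [← this, Algebra.algebraMap_eq_smul_one, smul_mul_assoc, one_mul]
    have h2 : c • (1 - e) = (1 : K) • (1 - e) := by
      have := congrArg (fun t => t * (1 - e)) hc
      simp only [add_mul, smul_mul_assoc, he1e, h1e1e, smul_zero, zero_add] at this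
      rw [one_smul, Algebra.smul_def]
      exact this
    have hc1 : c = 1 := by
      by_contra hne
      have : (c - 1) • (1 - e) = 0 := by rw [sub_smul, h2, sub_self]
      rcases smul_eq_zero.mp this with h | h
      · exact hne (sub_eq_zero.mp h)
      · exact h1e0 h
    have hck : c = ζ ^ k := by
      by_contra hne
      have : (c - ζ ^ k) • e = 0 := by rw [sub_smul, h1, sub_self]
      rcases smul_eq_zero.mp this with h | h
      · exact hne (sub_eq_zero.mp h)
      · exact he0 h
    have hζk : ζ ^ k = 1 := by rw [← hck, hc1]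
    have := hζ.dvd_of_pow_eq_one k hζk
    have := Nat.le_of_dvd hk this
    omega

end Groth.Agent.S15183
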