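import Groth.Statements.S15185
import Groth.Agent.S15168

set_option autoImplicit false
universe u v
open Polynomial
open BddFin

namespace Groth.Agent.S15185

/-- Let K be a field of characteristic p > 0 such that K contains all roots of unity (for every n ≥ 1
the polynomial X^n − 1 splits into linear factors over K), A a central division algebra of dimension
n ^ 2 over K, and write n = n' · p ^ m with n' prime to p; let N be the reduced norm of A. Consider
the kernel of the homomorphism from the units of A modulo those of K to Kˣ/(Kˣ)^(p^m) induced by N.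
Every element of finite order of that kernel has order dividing n': if x ≠ 0 in A has x ^ r in K for
some r ≥ 1 and N x is a (p ^ m)-th power of a non-zero element of K, then x ^ n' lies in K. -/
theorem result
    (K : Type u) [Field K] (p : ℕ) [Fact p.Prime] [CharP K p] (hK : ∀ n : ℕ, 0 < n → (X ^ n - 1 : K[X]).Splits)
    (A : Type v) [DivisionRing A] [Algebra K A] [Algebra.IsCentral K A] [FiniteDimensional K A]
    (n n' m : ℕ) (hA : Module.finrank K A = n ^ 2) (hn : n = n' * p ^ m) (hn' : ¬ p ∣ n')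
    (N : A →* K) (hN : CSAGal.IsRedNorm K A N)
    (x : A) (hx : x ≠ 0) (hxr : ∃ r : ℕ, 0 < r ∧ x ^ r ∈ (algebraMap K A).range)
    (hNx : ∃ b : K, b ≠ 0 ∧ N x = b ^ (p ^ m)) :
    x ^ n' ∈ (algebraMap K A).range := by
  open scoped TensorProduct in
  have hp : p.Prime := Fact.out
  obtain ⟨c₀, hc₀⟩ := Groth.Agent.S15168.result K hK A n hA x hxr
  obtain ⟨b, hb0, hNxb⟩ := hNx
  obtain ⟨K', _, _, _, nφ, φ, hφ⟩ := hN
  have hx0 : x ^ n ≠ 0 := pow_ne_zero _ hx
  have hc₀0 : c₀ ≠ 0 := by
    rintro rfl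
    rw [map_zero] at hc₀
    exact hx0 hc₀.symm
  -- the matrix size is `n`
  have hnφ : nφ = n := by
    have h1 : Module.finrank K' (K' ⊗[K] A) = Module.finrank K A := Module.finrank_baseChange
    have h2 := LinearEquiv.finrank_eq φ.toLinearEquiv
    rw [h1, hA, Module.finrank_matrix] at h2
    simp only [Fintype.card_fin, Module.finrank_self, mul_one] at h2
    have h3 : n ^ 2 = nφ ^ 2 := by rw [h2, sq]
    exact (Nat.pow_left_injective (n := 2) two_ne_zero h3).symm
  subst hnφ
  -- w = x ^ n'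
  have hw : (x ^ n') ^ (p ^ m) = algebraMap K A c₀ := by
    rw [← pow_mul, ← hn, hc₀]
  have hW : (φ (1 ⊗ₜ[K] (x ^ n'))) ^ (p ^ m) =
      algebraMap K' (Matrix (Fin nφ) (Fin nφ) K') (algebraMap K K' c₀) := by
    rw [← map_pow, Algebra.TensorProduct.tmul_pow, one_pow, hw]
    have h1 : (1 : K') ⊗ₜ[K] (algebraMap K A c₀) =
        algebraMap K' (K' ⊗[K] A) (algebraMap K K' c₀) := by
      rw [Algebra.TensorProduct.algebraMap_apply, Algebra.algebraMap_eq_smul_one c₀,
        TensorProduct.tmul_smul, Algebra.algebraMap_eq_smul_one, TensorProduct.smul_tmul',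
        Algebra.algebraMap_eq_smul_one]
      simp
    rw [h1, AlgEquiv.commutes]
  have hdet : (algebraMap K K' (N (x ^ n'))) ^ (p ^ m) = (algebraMap K K' c₀) ^ nφ := by
    rw [hφ, ← Matrix.det_pow, hW, Algebra.algebraMap_eq_smul_one, Matrix.det_smul]
    simp
  have hdet' : (N (x ^ n')) ^ (p ^ m) = c₀ ^ nφ := by
    apply (algebraMap K K').injective
    rw [map_pow (algebraMap K K'), map_pow (algebraMap K K'), hdet]
  rw [map_pow, hNxb] at hdet'
  -- `(b ^ n') ^ (p ^ m)` equals `c₀ ^ n'`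
  have h1 : (b ^ n') ^ (p ^ m) = c₀ ^ n' := by
    have h2 : ((b ^ n') ^ (p ^ m)) ^ (p ^ m) = (c₀ ^ n') ^ (p ^ m) := by
      have e1 : (c₀ ^ n') ^ (p ^ m) = c₀ ^ nφ := by rw [← pow_mul, ← hn]
      rw [e1, ← hdet']
      ring
    have := iterateFrobenius_inj K p m
    apply this
    rw [iterateFrobenius_def, iterateFrobenius_def, h2]
  -- `c₀` is a `p ^ m`-th power
  have hcop : Nat.Coprime n' (p ^ m) :=
    (Nat.Coprime.pow_left m ((Nat.Prime.coprime_iff_not_dvd hp).mpr hn')).symm
  obtain ⟨u, v, huv⟩ := Nat.isCoprime_iff_coprime.mpr hcop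
  have hd : c₀ = ((b ^ n') ^ u * c₀ ^ v) ^ (p ^ m) := by
    calc c₀ = c₀ ^ (1 : ℤ) := (zpow_one c₀).symm
      _ = c₀ ^ (u * (n' : ℤ) + v * ((p ^ m : ℕ) : ℤ)) := by rw [huv]
      _ = (c₀ ^ n') ^ u * (c₀ ^ v) ^ (p ^ m) := by
        rw [zpow_add₀ hc₀0, mul_comm u, zpow_mul, zpow_natCast, zpow_mul, zpow_natCast]
      _ = ((b ^ n') ^ u * c₀ ^ v) ^ (p ^ m) := by
        rw [← h1, mul_pow]
        congr 1
        rw [← zpow_natCast, ← zpow_natCast ((b ^ n') ^ u), ← zpow_mul, ← zpow_mul, mul_comm]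
  set d := (b ^ n') ^ u * c₀ ^ v with hddef
  have : CharP A p := charP_of_injective_algebraMap (algebraMap K A).injective p
  have hcomm : Commute (x ^ n') (algebraMap K A d) := (Algebra.commutes d (x ^ n')).symm
  have hzero : (x ^ n' - algebraMap K A d) ^ (p ^ m) = 0 := by
    rw [sub_pow_char_pow_of_commute _ _ hcomm, hw, ← map_pow, ← hd, sub_self]
  have := pow_eq_zero_iff (pow_ne_zero m hp.ne_zero) |>.mp hzero
  exact ⟨d, (sub_eq_zero.mp this).symm⟩

end Groth.Agent.S15185
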