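import Groth.Statements.S1520
import Groth.Agent.Lib.Helper67.CurveInv
import Groth.Agent.Lib.Helper11.GenLocus

set_option autoImplicit false
universe u
open CategoryTheory CategoryTheory.Limits AlgebraicGeometry
open Variety

namespace Groth.Agent.S1520

/-- On a proper curve over a field, an invertible module of degree at most zero which has a nonzero
global section is isomorphic to the structure sheaf. -/
theorem result (k : Type u) [Field k] (X : Scheme.{u}) [X.Over (Spec (CommRingCat.of k))]
    [IsIntegral X] [IsProper (X ↘ (Spec (CommRingCat.of k)))] (hdim : topologicalKrullDim X = 1)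
    (L : X.Modules) (hL : PicF.IsInvertible L) (s : Coh.structureModule X ⟶ L) (hs : s ≠ 0)
    (hdeg : Curv2.deg k X L 1 ≤ 0) :
    Nonempty (L ≅ Coh.structureModule X) := by
  have hO1 := Groth.Agent.Lib.Helper67.CurveTors.rank_one_of_isInvertible
    (Groth.Agent.Lib.Helper11.GenLocus.isInvertible_structureModule X)
  have hL1 := Groth.Agent.Lib.Helper67.CurveTors.rank_one_of_isInvertible hL
  obtain ⟨-, he, hiso⟩ := Groth.Agent.Lib.Helper67.CurveInv.main k X hdim.le hO1 hL1 s hs
  unfold Curv2.deg at hdeg
  rw [he] at hdeg
  have h0 : Module.finrank k (Coh.HH X (cokernel s) 0) = 0 := by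
    have : (Module.finrank k (Coh.HH X (cokernel s) 0) : ℤ) ≤ 0 := by
      push_cast at hdeg
      linarith
    have h2 : (0 : ℤ) ≤ (Module.finrank k (Coh.HH X (cokernel s) 0) : ℤ) := Int.natCast_nonneg _
    exact_mod_cast le_antisymm this h2
  haveI := hiso h0
  exact ⟨(asIso s).symm⟩

end Groth.Agent.S1520
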