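import Groth.Statements.S1521
import Groth.Agent.Lib.Helper67.CurveInv
import Groth.Agent.Lib.Helper11.GenLocus

set_option autoImplicit false
universe u
open CategoryTheory CategoryTheory.Limits AlgebraicGeometry
open Variety

namespace Groth.Agent.S1521

/-- On a proper curve over a field, a nonzero map N → L of invertible modules forces deg N ≤ deg L, and
if the degrees are equal the map is an isomorphism. -/
theorem result (k : Type u) [Field k] (X : Scheme.{u}) [X.Over (Spec (CommRingCat.of k))]
    [IsIntegral X] [IsProper (X ↘ (Spec (CommRingCat.of k)))] (hdim : topologicalKrullDim X = 1)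
    (N L : X.Modules) (hN : PicF.IsInvertible N) (hL : PicF.IsInvertible L) (φ : N ⟶ L) (hφ : φ ≠ 0) :
    Curv2.deg k X N 1 ≤ Curv2.deg k X L 1 ∧ (Curv2.deg k X N 1 = Curv2.deg k X L 1 → IsIso φ) := by
  have hN1 := Groth.Agent.Lib.Helper67.CurveTors.rank_one_of_isInvertible hN
  have hL1 := Groth.Agent.Lib.Helper67.CurveTors.rank_one_of_isInvertible hL
  obtain ⟨-, he, hiso⟩ := Groth.Agent.Lib.Helper67.CurveInv.main k X hdim.le hN1 hL1 φ hφ
  unfold Curv2.deg
  constructor
  · rw [he]
    have : (0 : ℤ) ≤ (Module.finrank k (Coh.HH X (cokernel φ) 0) : ℤ) := Int.natCast_nonneg _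
    linarith
  · intro h
    apply hiso
    rw [he] at h
    have : (Module.finrank k (Coh.HH X (cokernel φ) 0) : ℤ) = 0 := by linarith
    exact_mod_cast this

end Groth.Agent.S1521
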