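import Groth.Statements.S15224
import Mathlib
-- import your own Groth.Agent.* helpers here

set_option autoImplicit false
open Finset
open W4c2rk2extmaps

namespace Groth.Agent.S15224

/-- In a commutative ℚ-algebra R let y be an element and put c_k = y^k / k! for every k. Then for k ≥ 2,
Σ_{i=1}^{k-1} (-1)^(i-1) c_i c_(k-i) + (-1)^(k-1) c_k = c_k. (The published statement concerns the
Chern classes of a specific vector bundle on a Jacobian, which are of the form c_k = (4θ)^k / k!;
the printed argument establishes the identity for every sequence of this form in a commutative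
ℚ-algebra, which is the form stated here.) -/
theorem result (R : Type*) [CommRing R] [Algebra ℚ R] (y : R)
    (c : ℕ → R) (hc : ∀ k : ℕ, c k = ((Nat.factorial k : ℚ)⁻¹) • y ^ k)
    (k : ℕ) (hk : 2 ≤ k) :
    (∑ i ∈ Finset.Ico 1 k, (-1 : R) ^ (i - 1) * c i * c (k - i)) + (-1 : R) ^ (k - 1) * c k = c k := by
  -- key: c i * c (k - i) = (k.choose i : ℚ) • c k
  have key : ∀ i ∈ Finset.Ico 1 k, (-1 : R) ^ (i - 1) * c i * c (k - i)
      = (((-1 : ℚ) ^ (i - 1) * (k.choose i : ℚ))) • c k := by
    intro i hi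
    rw [Finset.mem_Ico] at hi
    have hik : i ≤ k := hi.2.le
    rw [hc i, hc (k - i), hc k]
    have hpow : y ^ i * y ^ (k - i) = y ^ k := by
      rw [← pow_add]; congr 1; omega
    have hch : (k.choose i : ℚ) = (k.factorial : ℚ) / ((i.factorial : ℚ) * ((k - i).factorial : ℚ)) := by
      rw [Nat.choose_eq_factorial_div_factorial hik]
      rw [Nat.cast_div (Nat.factorial_mul_factorial_dvd_factorial hik)]
      · push_cast; rfl
      · push_cast
        have h1 : (i.factorial : ℚ) ≠ 0 := by exact_mod_cast Nat.factorial_ne_zero i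
        have h2 : ((k - i).factorial : ℚ) ≠ 0 := by exact_mod_cast Nat.factorial_ne_zero (k - i)
        exact mul_ne_zero h1 h2
    have h1 : (i.factorial : ℚ) ≠ 0 := by exact_mod_cast Nat.factorial_ne_zero i
    have h2 : ((k - i).factorial : ℚ) ≠ 0 := by exact_mod_cast Nat.factorial_ne_zero (k - i)
    have h3 : (k.factorial : ℚ) ≠ 0 := by exact_mod_cast Nat.factorial_ne_zero k
    have hm1 : (-1 : R) ^ (i - 1) = ((-1 : ℚ) ^ (i - 1)) • (1 : R) := by
      rw [Algebra.smul_def, mul_one, map_pow, map_neg, map_one]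
    rw [hm1]
    rw [smul_mul_assoc, one_mul, smul_mul_assoc, smul_mul_smul_comm, hpow, smul_smul, smul_smul]
    congr 1
    rw [hch]
    field_simp
  rw [Finset.sum_congr rfl key, ← Finset.sum_smul]
  have hm1 : (-1 : R) ^ (k - 1) = ((-1 : ℚ) ^ (k - 1)) • (1 : R) := by
    rw [Algebra.smul_def, mul_one, map_pow, map_neg, map_one]
  rw [hm1, smul_mul_assoc, one_mul, ← add_smul]
  have hsum : (∑ i ∈ Finset.Ico 1 k, (-1 : ℚ) ^ (i - 1) * (k.choose i : ℚ)) + (-1 : ℚ) ^ (k - 1) = 1 := by
    have halt := Int.alternating_sum_range_choose_of_ne (n := k) (by omega)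
    have hq : (∑ m ∈ Finset.range (k + 1), ((-1 : ℚ) ^ m * (k.choose m : ℚ))) = 0 := by
      have := congrArg (Int.cast : ℤ → ℚ) halt
      push_cast at this
      exact this
    rw [Finset.range_eq_Ico, Finset.sum_Ico_succ_top (by omega), Finset.sum_eq_sum_Ico_succ_bot (by omega)] at hq
    simp only [pow_zero, Nat.choose_zero_right, Nat.cast_one, mul_one, Nat.choose_self, zero_add] at hq
    have e1 : ∀ i ∈ Finset.Ico 1 k, (-1 : ℚ) ^ (i - 1) * (k.choose i : ℚ) = - ((-1 : ℚ) ^ i * (k.choose i : ℚ)) := by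
      intro i hi
      rw [Finset.mem_Ico] at hi
      obtain ⟨j, rfl⟩ : ∃ j, i = j + 1 := ⟨i - 1, by omega⟩
      simp [pow_succ]
    rw [Finset.sum_congr rfl e1, Finset.sum_neg_distrib]
    obtain ⟨j, rfl⟩ : ∃ j, k = j + 1 := ⟨k - 1, by omega⟩
    simp only [Nat.add_sub_cancel]
    rw [pow_succ] at hq
    linarith
  rw [hsum, one_smul]

end Groth.Agent.S15224
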