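import Groth.Statements.S15229
import Groth.Agent.S15224
import Mathlib

set_option autoImplicit false
open Finset
open W4c2rk2extmaps

namespace Groth.Agent.S15229

/-- In a commutative ℚ-algebra R let θ, η be elements and g a natural number, and put c_k = (4θ)^k / k!.
Suppose θ^(g+1) = 0 and that η satisfies the relation η^(g+1) = Σ_{i=1}^{g+1} (-1)^(i-1) c_i
η^(g+1-i). Then η^(g+k) θ^(g-k) = c_k η^g θ^(g-k) for every 1 ≤ k ≤ g. (The published statement
concerns the first Chern class η of the tautological line bundle on a projective bundle P(U) over a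
g-dimensional Jacobian, with c_k the Chern classes of U, which are (4θ)^k / k!; there θ^(g+1)
vanishes for dimension reasons and the displayed relation is the projective-bundle relation, and the
printed argument derives the identity from exactly these three inputs, which is the form stated
here.) -/
theorem result (R : Type*) [CommRing R] [Algebra ℚ R]
    (θ η : R) (g : ℕ) (c : ℕ → R) (hc : ∀ k : ℕ, c k = ((Nat.factorial k : ℚ)⁻¹) • ((4 : R) * θ) ^ k)
    (hθ : θ ^ (g + 1) = 0)
    (hrel : η ^ (g + 1) = ∑ i ∈ Finset.Ico 1 (g + 2), (-1 : R) ^ (i - 1) * c i * η ^ (g + 1 - i))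
    (k : ℕ) (hk1 : 1 ≤ k) (hkg : k ≤ g) :
    η ^ (g + k) * θ ^ (g - k) = c k * η ^ g * θ ^ (g - k) := by
  have hcθ : ∀ i m : ℕ, c i * θ ^ m
      = algebraMap ℚ R ((Nat.factorial i : ℚ)⁻¹) * 4 ^ i * θ ^ (i + m) := by
    intro i m
    rw [hc i, Algebra.smul_def, mul_pow, pow_add]
    ring
  have hθ' : ∀ m, g + 1 ≤ m → θ ^ m = 0 := by
    intro m hm
    obtain ⟨j, rfl⟩ := Nat.exists_eq_add_of_le hm
    rw [pow_add, hθ, zero_mul]
  induction k using Nat.strong_induction_on with
  | _ k ih =>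
  have h1 : η ^ (g + k) * θ ^ (g - k) = η ^ (g + 1) * (η ^ (k - 1) * θ ^ (g - k)) := by
    rw [← mul_assoc, ← pow_add]
    congr 2
    omega
  rw [h1, hrel, Finset.sum_mul]
  have hsplit : Finset.Ico 1 (g + 2) = Finset.Ico 1 k ∪ ({k} ∪ Finset.Ico (k + 1) (g + 2)) := by
    ext i
    simp only [Finset.mem_Ico, Finset.mem_union, Finset.mem_singleton]
    omega
  rw [hsplit, Finset.sum_union, Finset.sum_union]
  rotate_left
  · rw [Finset.disjoint_left]
    intro i hi1 hi2
    simp only [Finset.mem_Ico, Finset.mem_singleton] at hi1 hi2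
    omega
  · rw [Finset.disjoint_left]
    intro i hi1 hi2
    simp only [Finset.mem_Ico, Finset.mem_union, Finset.mem_singleton] at hi1 hi2
    omega
  -- the tail vanishes
  have htail : ∑ i ∈ Finset.Ico (k + 1) (g + 2),
      (-1 : R) ^ (i - 1) * c i * η ^ (g + 1 - i) * (η ^ (k - 1) * θ ^ (g - k)) = 0 := by
    apply Finset.sum_eq_zero
    intro i hi
    rw [Finset.mem_Ico] at hi
    have : c i * θ ^ (g - k) = 0 := by
      rw [hcθ, hθ' (i + (g - k)) (by omega), mul_zero]
    calc (-1 : R) ^ (i - 1) * c i * η ^ (g + 1 - i) * (η ^ (k - 1) * θ ^ (g - k))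
        = (-1 : R) ^ (i - 1) * η ^ (g + 1 - i) * η ^ (k - 1) * (c i * θ ^ (g - k)) := by ring
      _ = 0 := by rw [this, mul_zero]
  have hmid : ∑ i ∈ ({k} : Finset ℕ),
      (-1 : R) ^ (i - 1) * c i * η ^ (g + 1 - i) * (η ^ (k - 1) * θ ^ (g - k))
      = (-1 : R) ^ (k - 1) * c k * (η ^ g * θ ^ (g - k)) := by
    rw [Finset.sum_singleton]
    have : η ^ (g + 1 - k) * η ^ (k - 1) = η ^ g := by
      rw [← pow_add]; congr 1; omega
    calc (-1 : R) ^ (k - 1) * c k * η ^ (g + 1 - k) * (η ^ (k - 1) * θ ^ (g - k))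
        = (-1 : R) ^ (k - 1) * c k * ((η ^ (g + 1 - k) * η ^ (k - 1)) * θ ^ (g - k)) := by ring
      _ = _ := by rw [this]
  have hhead : ∑ i ∈ Finset.Ico 1 k,
      (-1 : R) ^ (i - 1) * c i * η ^ (g + 1 - i) * (η ^ (k - 1) * θ ^ (g - k))
      = (∑ i ∈ Finset.Ico 1 k, (-1 : R) ^ (i - 1) * c i * c (k - i)) * (η ^ g * θ ^ (g - k)) := by
    rw [Finset.sum_mul]
    apply Finset.sum_congr rfl
    intro i hi
    rw [Finset.mem_Ico] at hi
    have hη : η ^ (g + 1 - i) * η ^ (k - 1) = η ^ (g + (k - i)) := by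
      rw [← pow_add]; congr 1; omega
    have hih := ih (k - i) (by omega) (by omega) (by omega)
    have e1 : g - k + i = g - (k - i) := by omega
    have e2 : i + (g - k) = g - (k - i) := by omega
    calc (-1 : R) ^ (i - 1) * c i * η ^ (g + 1 - i) * (η ^ (k - 1) * θ ^ (g - k))
        = (-1 : R) ^ (i - 1) * ((η ^ (g + 1 - i) * η ^ (k - 1)) * (c i * θ ^ (g - k))) := by ring
      _ = (-1 : R) ^ (i - 1) * (η ^ (g + (k - i)) *
            (algebraMap ℚ R ((Nat.factorial i : ℚ)⁻¹) * 4 ^ i * θ ^ (g - (k - i)))) := by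
          rw [hη, hcθ, e2]
      _ = (-1 : R) ^ (i - 1) * (algebraMap ℚ R ((Nat.factorial i : ℚ)⁻¹) * 4 ^ i *
            (η ^ (g + (k - i)) * θ ^ (g - (k - i)))) := by ring
      _ = (-1 : R) ^ (i - 1) * (algebraMap ℚ R ((Nat.factorial i : ℚ)⁻¹) * 4 ^ i *
            (c (k - i) * η ^ g * θ ^ (g - (k - i)))) := by rw [hih]
      _ = (-1 : R) ^ (i - 1) * c (k - i) * η ^ g *
            (algebraMap ℚ R ((Nat.factorial i : ℚ)⁻¹) * 4 ^ i * θ ^ (i + (g - k))) := by
          rw [e2]; ring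
      _ = (-1 : R) ^ (i - 1) * c (k - i) * η ^ g * (c i * θ ^ (g - k)) := by rw [hcθ]
      _ = _ := by ring
  rw [htail, add_zero, hmid, hhead, ← add_mul]
  have hfin : (∑ i ∈ Finset.Ico 1 k, (-1 : R) ^ (i - 1) * c i * c (k - i)) + (-1 : R) ^ (k - 1) * c k
      = c k := by
    rcases Nat.lt_or_ge k 2 with hk2 | hk2
    · have : k = 1 := by omega
      subst this
      simp
    · exact Groth.Agent.S15224.result R ((4 : R) * θ) c hc k hk2
  rw [hfin, mul_assoc]

end Groth.Agent.S15229
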