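import Groth.Statements.S1523
import Groth.Agent.Lib.Helper67.PtSec5
import Groth.Agent.Lib.Helper67.NonDegDeg
import Groth.Agent.Lib.Helper24.SmoothRationalPoint

set_option autoImplicit false
universe u
open CategoryTheory CategoryTheory.Limits AlgebraicGeometry
open Variety

namespace Groth.Agent.S1523

/-- On a proper curve over an algebraically closed field there is an invertible module whose H^0 is
one-dimensional and whose H^1 vanishes, and an invertible module whose H^0 and H^1 both vanish. -/
theorem result (k : Type u) [Field k] [IsAlgClosed k] (X : Scheme.{u}) [X.Over (Spec (CommRingCat.of k))]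
    [IsIntegral X] [IsProper (X ↘ (Spec (CommRingCat.of k)))] (hdim : topologicalKrullDim X = 1) :
    (∃ L : X.Modules, PicF.IsInvertible L ∧ Module.finrank k (Coh.HH X L 0) = 1 ∧ Subsingleton (Coh.HH X L 1)) ∧
    (∃ N : X.Modules, PicF.IsInvertible N ∧ Subsingleton (Coh.HH X N 0) ∧ Subsingleton (Coh.HH X N 1)) := by
  have h0 := Groth.Agent.Lib.Helper67.NonDegDeg.h0_eq_one_of_isAlgClosed k X
  haveI : LocallyOfFinitePresentation (X ↘ Spec (CommRingCat.of k)) :=
    LocallyOfFinitePresentation.iff_locallyOfFiniteType.mpr inferInstance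
  have hξ : genericPoint X ∈ (X ↘ Spec (CommRingCat.of k)).smoothLocus :=
    Scheme.Hom.genericPoint_mem_smoothLocus_of_perfectField (X ↘ Spec (CommRingCat.of k))
  have hpts : ∀ U : X.Opens, (U : Set X).Nonempty →
      ∃ p : Groth.Agent.Lib.Helper67.PtSec.PtSec k X, p.P ∈ U := fun U hU =>
    Groth.Agent.Lib.Helper67.PtSec.exists_ptSec k X hdim
      (X ↘ Spec (CommRingCat.of k)).smoothLocus ⟨genericPoint X, hξ⟩
      (fun x hx => Groth.Agent.Lib.Helper24.isRegularLocalRing_stalk_of_mem_smoothLocus k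
        (X ↘ Spec (CommRingCat.of k)) x hx) U hU
  constructor
  · obtain ⟨L, hL, -, hh0, hh1⟩ :=
      Groth.Agent.Lib.Helper67.PtSec.exists_h0_one_h1_zero k X hdim hpts h0
    exact ⟨L, hL, hh0, hh1⟩
  · obtain ⟨N, hN, -, hh0, hh1⟩ :=
      Groth.Agent.Lib.Helper67.PtSec.exists_h0_zero_h1_zero k X hdim hpts h0
    exact ⟨N, hN, hh0, hh1⟩

end Groth.Agent.S1523
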