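import Groth.Statements.S15234
-- import your own Groth.Agent.* helpers here
import Groth.Agent.Lib.Helper32.BeilinsonD

set_option autoImplicit false
universe u
open CategoryTheory CategoryTheory.Limits Opposite
attribute [local instance] HasDerivedCategory.standard
open SiteCmp

namespace Groth.Agent.S15234



/-- The bounded case. Let f : (Y, O_Y) → (X, O_X) be a morphism of small ringed sites which is flat in
the sense that the module pullback f^* is exact, and let A_X ⊆ Mod(O_X) and A_Y ⊆ Mod(O_Y) be weak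
Serre subcategories. Assume: (i) f^* sends A_X into A_Y and the induced functor A_X → A_Y is an
equivalence of categories; (ii) for all F, F' in A_X and every integer n, the map Hom_{D(O_X)}(F,
F'[n]) → Hom_{D(O_Y)}(f^*F, f^*F'[n]) induced by f^* is bijective. Then the functor f^* : D(O_X) →
D(O_Y) sends every bounded object all of whose cohomology sheaves lie in A_X to a bounded object
with cohomology sheaves in A_Y, is fully faithful on such objects, and every bounded object of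
D(O_Y) with cohomology sheaves in A_Y is isomorphic to the image of such an object: f^* restricts to
an equivalence D^b_{A_X}(O_X) → D^b_{A_Y}(O_Y). (The published statement concludes the same for the
bounded ABOVE categories D^-, under two further hypotheses — prebases B_X, B_Y with the underlying
functor sending B_X into B_Y, and H^p(V, G) = 0 for p > 0, G in A_Y, V in B_Y; its printed passage
from bounded to bounded above asserts that the unit F → Rf_* f^* F and the counit are isomorphisms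
on these subcategories, which does not follow from the hypotheses and fails for the completion
morphism of the lisse-étale site of a proper scheme along a non-nilpotent ideal, where the structure
sheaf is not its own completion; this row states the bounded case, which the printed dévissage
establishes.) -/
theorem result
    {CX : Type u} [SmallCategory CX] {JX : GrothendieckTopology CX}
    {CY : Type u} [SmallCategory CY] {JY : GrothendieckTopology CY}
    {O_X : Sheaf JX CommRingCat.{u}} {O_Y : Sheaf JY CommRingCat.{u}}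
    (f : ModSite.RMor O_Y O_X) [PreservesFiniteLimits f.pull]
    (A_X : ObjectProperty (ModSite.Mod O_X)) (A_Y : ObjectProperty (ModSite.Mod O_Y))
    [WSerre.IsWeakSerre A_X] [WSerre.IsWeakSerre A_Y]
    (h1 : ∀ F : ModSite.Mod O_X, A_X F → A_Y (f.pull.obj F))
    (h1e : (ObjectProperty.lift A_Y (A_X.ι ⋙ f.pull) (fun F => h1 F.obj F.property)).IsEquivalence)
    (h2 : ∀ (F F' : ModSite.Mod O_X), A_X F → A_X F' → ∀ n : ℤ,
      Function.Bijective (fun φ : (SiteCmp.inD O_X F ⟶ (SiteCmp.inD O_X F')⟦n⟧) => (SiteCmp.pullD f).map φ)) :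
    (∀ K : DerivedCategory (ModSite.Mod O_X), WSerre.cohInBdd A_X K →
        WSerre.cohInBdd A_Y ((SiteCmp.pullD f).obj K)) ∧
      (∀ K L : DerivedCategory (ModSite.Mod O_X), WSerre.cohInBdd A_X K → WSerre.cohInBdd A_X L →
        Function.Bijective (fun φ : (K ⟶ L) => (SiteCmp.pullD f).map φ)) ∧
      (∀ M : DerivedCategory (ModSite.Mod O_Y), WSerre.cohInBdd A_Y M →
        ∃ K : DerivedCategory (ModSite.Mod O_X), WSerre.cohInBdd A_X K ∧
          Nonempty ((SiteCmp.pullD f).obj K ≅ M)) := by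
  classical
  have hG_GE : ∀ (Z : DerivedCategory (ModSite.Mod O_X)) (n : ℤ), Z.IsGE n →
      ((SiteCmp.pullD f).obj Z).IsGE n := fun Z n h =>
    Groth.Agent.Lib.Helper32.WayOut.isGE_mapDerivedCategory f.pull Z n h
  have hG_LE : ∀ (Z : DerivedCategory (ModSite.Mod O_X)) (n : ℤ), Z.IsLE n →
      ((SiteCmp.pullD f).obj Z).IsLE n := by
    intro Z n h
    rw [DerivedCategory.isLE_iff] at h ⊢
    intro i hi
    obtain ⟨e⟩ := Groth.Agent.Lib.Helper32.WayOut2.nonempty_homologyIso_mapDerivedCategory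
      f.pull Z i
    exact (f.pull.map_isZero (h i hi)).of_iso e
  have hcoh : ∀ K : DerivedCategory (ModSite.Mod O_X), WSerre.cohIn A_X K →
      WSerre.cohIn A_Y ((SiteCmp.pullD f).obj K) := fun K hK i => by
    obtain ⟨e⟩ := Groth.Agent.Lib.Helper32.WayOut2.nonempty_homologyIso_mapDerivedCategory
      f.pull K i
    exact A_Y.prop_of_iso e.symm (h1 _ (hK i))
  have part1 : ∀ K : DerivedCategory (ModSite.Mod O_X), WSerre.cohInBdd A_X K →
      WSerre.cohInBdd A_Y ((SiteCmp.pullD f).obj K) := by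
    rintro K ⟨hKc, ⟨a, ha⟩, ⟨b, hb⟩⟩
    exact ⟨hcoh K hKc, ⟨a, hG_GE K a ha⟩, ⟨b, hG_LE K b hb⟩⟩
  have part2 : ∀ K L : DerivedCategory (ModSite.Mod O_X), WSerre.cohInBdd A_X K →
      WSerre.cohInBdd A_X L → Groth.Agent.Lib.Helper32.Beilinson.Phi (SiteCmp.pullD f) K L := by
    rintro K L ⟨hKc, ⟨a, ha⟩, ⟨b, hb⟩⟩ ⟨hLc, ⟨a', ha'⟩, ⟨b', hb'⟩⟩
    exact Groth.Agent.Lib.Helper32.BeilinsonD.phi_of_bounded (SiteCmp.pullD f)
      (fun M => A_X M) (fun M => A_X M) (fun M N hM hN n => h2 M N hM hN n) K L a b a' b'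
      ha hb ha' hb' hKc hLc
  refine ⟨part1, fun K L hK hL => (part2 K L hK hL).psi, ?_⟩
  rintro M ⟨hMc, ⟨a, ha⟩, ⟨b, hb⟩⟩
  refine Groth.Agent.Lib.Helper32.BeilinsonD.prop_of_bounded'
    (fun M => ∃ K : DerivedCategory (ModSite.Mod O_X), WSerre.cohInBdd A_X K ∧
      Nonempty ((SiteCmp.pullD f).obj K ≅ M)) ?_ ?_ ?_ a b M ha hb ?_
  · rintro X Y e ⟨K, hK, ⟨e'⟩⟩
    exact ⟨K, hK, ⟨e' ≪≫ e⟩⟩
  · intro Z hZ
    obtain ⟨Z0, hZ0⟩ := (inferInstance : HasZeroObject (DerivedCategory (ModSite.Mod O_X))).zero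
    refine ⟨Z0, ⟨Groth.Agent.Lib.Helper32.WayOut2.cohIn_of_isZero A_X hZ0,
      ⟨0, DerivedCategory.TStructure.t.isGE_of_isZero hZ0 0⟩,
      ⟨0, DerivedCategory.TStructure.t.isLE_of_isZero hZ0 0⟩⟩,
      ⟨((SiteCmp.pullD f).map_isZero hZ0).iso hZ⟩⟩
  · rintro Δ hΔ ⟨K₁, hK₁, ⟨e₁⟩⟩ ⟨K₃, hK₃, ⟨e₃⟩⟩
    have hpsi : Groth.Agent.Lib.Helper32.Beilinson.Psi (SiteCmp.pullD f) K₃ (K₁⟦(1 : ℤ)⟧) :=
      ((part2 K₃ K₁ hK₃ hK₁).shift_right 1).psi
    obtain ⟨d, hd⟩ := hpsi.2 ((e₃.hom ≫ Δ.mor₃ ≫ e₁.inv⟦(1 : ℤ)⟧') ≫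
      ((SiteCmp.pullD f).commShiftIso (1 : ℤ)).inv.app K₁)
    change (SiteCmp.pullD f).map d = _ at hd
    obtain ⟨K₂, u, v, hT⟩ := Pretriangulated.distinguished_cocone_triangle₂ d
    have hK₂ : WSerre.cohInBdd A_X K₂ := by
      obtain ⟨hK₁c, ⟨a₁, ha₁⟩, ⟨b₁, hb₁⟩⟩ := hK₁
      obtain ⟨hK₃c, ⟨a₃, ha₃⟩, ⟨b₃, hb₃⟩⟩ := hK₃
      refine ⟨Groth.Agent.Lib.Helper32.WayOut2.cohIn_ext₂ A_X _ hT hK₁c hK₃c,
        ⟨min a₁ a₃, ?_⟩, ⟨max b₁ b₃, ?_⟩⟩
      · exact DerivedCategory.TStructure.t.isGE₂ _ hT (min a₁ a₃)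
          (DerivedCategory.TStructure.t.isGE_of_ge K₁ (min a₁ a₃) a₁ (min_le_left _ _))
          (DerivedCategory.TStructure.t.isGE_of_ge K₃ (min a₁ a₃) a₃ (min_le_right _ _))
      · exact DerivedCategory.TStructure.t.isLE₂ _ hT (max b₁ b₃)
          (DerivedCategory.TStructure.t.isLE_of_le K₁ b₁ (max b₁ b₃) (le_max_left _ _))
          (DerivedCategory.TStructure.t.isLE_of_le K₃ b₃ (max b₁ b₃) (le_max_right _ _))
    refine ⟨K₂, hK₂, ?_⟩
    have hT' := (SiteCmp.pullD f).map_distinguished _ hT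
    have comm : ((SiteCmp.pullD f).mapTriangle.obj (Pretriangulated.Triangle.mk u v d)).mor₃ ≫
        e₁.hom⟦(1 : ℤ)⟧' = e₃.hom ≫ Δ.mor₃ := by
      change ((SiteCmp.pullD f).map d ≫ ((SiteCmp.pullD f).commShiftIso (1 : ℤ)).hom.app K₁) ≫
        e₁.hom⟦(1 : ℤ)⟧' = e₃.hom ≫ Δ.mor₃
      rw [hd]
      simp only [Category.assoc, Iso.inv_hom_id_app_assoc]
      rw [← CategoryTheory.Functor.map_comp, e₁.inv_hom_id, CategoryTheory.Functor.map_id,
        Category.comp_id]
    obtain ⟨b, hb₁, hb₂⟩ := Pretriangulated.complete_distinguished_triangle_morphism₂ _ _ hT' hΔ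
      e₁.hom e₃.hom comm
    let φ : (SiteCmp.pullD f).mapTriangle.obj (Pretriangulated.Triangle.mk u v d) ⟶ Δ :=
      Pretriangulated.Triangle.homMk _ _ e₁.hom b e₃.hom hb₁ hb₂ comm
    have : IsIso φ.hom₂ := Pretriangulated.isIso₂_of_isIso₁₃ φ hT' hΔ
      (inferInstanceAs (IsIso e₁.hom)) (inferInstanceAs (IsIso e₃.hom))
    exact ⟨@asIso _ _ _ _ φ.hom₂ this⟩
  · intro q
    have hN : A_Y ((DerivedCategory.homologyFunctor (ModSite.Mod O_Y) q).obj M) := hMc q
    obtain ⟨F, ⟨eF⟩⟩ := h1e.essSurj.mem_essImage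
      (⟨(DerivedCategory.homologyFunctor (ModSite.Mod O_Y) q).obj M, hN⟩ : A_Y.FullSubcategory)
    have eF' : f.pull.obj F.obj ≅ (DerivedCategory.homologyFunctor (ModSite.Mod O_Y) q).obj M :=
      A_Y.ι.mapIso eF
    refine ⟨(DerivedCategory.singleFunctor (ModSite.Mod O_X) q).obj F.obj,
      ⟨Groth.Agent.Lib.Helper32.WayOut2.cohIn_single A_X F.obj F.property q,
        ⟨q, inferInstance⟩, ⟨q, inferInstance⟩⟩, ⟨?_⟩⟩
    exact (f.pull.mapDerivedCategorySingleFunctor q).app F.obj ≪≫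
      (DerivedCategory.singleFunctor _ q).mapIso eF'

end Groth.Agent.S15234
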