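import Groth.Statements.S15235
import Mathlib.Tactic

set_option autoImplicit false
universe u
open CategoryTheory Opposite
open HomAlg3

namespace Groth.Agent.S15235

/-- transition map of a tower of types, from level `b` to level `a ≤ b`. -/
private abbrev tr (F : ℕᵒᵖ ⥤ Type u) {a b : ℕ} (h : a ≤ b) : F.obj (op b) → F.obj (op a) :=
  F.map (homOfLE h).op

private lemma tr_refl (F : ℕᵒᵖ ⥤ Type u) (a : ℕ) (x : F.obj (op a)) : tr F (le_refl a) x = x := by
  have : (homOfLE (le_refl a)).op = 𝟙 (op a) := rfl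
  simp [tr]

private lemma tr_tr (F : ℕᵒᵖ ⥤ Type u) {a b c : ℕ} (h : a ≤ b) (h' : b ≤ c) (x : F.obj (op c)) :
    tr F h (tr F h' x) = tr F (h.trans h') x := by
  have : (homOfLE (h.trans h')).op = (homOfLE h').op ≫ (homOfLE h).op := rfl
  simp [tr, this]

private lemma map_eq_tr (F : ℕᵒᵖ ⥤ Type u) {j j' : ℕᵒᵖ} (f : j ⟶ j') :
    F.map f = tr F (show j'.unop ≤ j.unop from leOfHom f.unop) := by
  rfl

private lemma surj_of_le (F : ℕᵒᵖ ⥤ Type u) (j₀ : ℕ)
    (hs : ∀ j : ℕ, j₀ ≤ j → Function.Surjective (tr F (Nat.le_succ j)))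
    {a b : ℕ} (h : a ≤ b) (ha : j₀ ≤ a) : Function.Surjective (tr F h) := by
  induction b, h using Nat.le_induction with
  | base => intro x; exact ⟨x, tr_refl F a x⟩
  | succ b hab ih =>
    intro x
    obtain ⟨y, hy⟩ := ih x
    obtain ⟨z, hz⟩ := hs b (ha.trans hab) y
    refine ⟨z, ?_⟩
    rw [← hy, ← hz, tr_tr]

private lemma inj_of_le (F : ℕᵒᵖ ⥤ Type u) (j₀ : ℕ)
    (hs : ∀ j : ℕ, j₀ ≤ j → Function.Injective (tr F (Nat.le_succ j)))
    {a b : ℕ} (h : a ≤ b) (ha : j₀ ≤ a) : Function.Injective (tr F h) := by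
  induction b, h using Nat.le_induction with
  | base => intro x y hxy; simpa [tr_refl] using hxy
  | succ b hab ih =>
    intro x y hxy
    apply hs b (ha.trans hab)
    apply ih
    rw [tr_tr, tr_tr]
    exact hxy

/-- A chosen compatible family above `j₀` lifting `x`. -/
private noncomputable def lift (F : ℕᵒᵖ ⥤ Type u) (j₀ : ℕ)
    (hs : ∀ j : ℕ, j₀ ≤ j → Function.Surjective (tr F (Nat.le_succ j)))
    (x : F.obj (op j₀)) : (n : ℕ) → F.obj (op (j₀ + n))
  | 0 => x
  | n + 1 => (hs (j₀ + n) (Nat.le_add_right _ _) (lift F j₀ hs x n)).choose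

private lemma lift_succ (F : ℕᵒᵖ ⥤ Type u) (j₀ : ℕ)
    (hs : ∀ j : ℕ, j₀ ≤ j → Function.Surjective (tr F (Nat.le_succ j)))
    (x : F.obj (op j₀)) (n : ℕ) :
    tr F (Nat.le_succ (j₀ + n)) (lift F j₀ hs x (n + 1)) = lift F j₀ hs x n :=
  (hs (j₀ + n) (Nat.le_add_right _ _) (lift F j₀ hs x n)).choose_spec

private lemma lift_le (F : ℕᵒᵖ ⥤ Type u) (j₀ : ℕ)
    (hs : ∀ j : ℕ, j₀ ≤ j → Function.Surjective (tr F (Nat.le_succ j)))
    (x : F.obj (op j₀)) {m n : ℕ} (h : m ≤ n) :
    tr F (Nat.add_le_add_left h j₀) (lift F j₀ hs x n) = lift F j₀ hs x m := by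
  induction n, h using Nat.le_induction with
  | base => exact tr_refl F _ _
  | succ n hmn ih =>
    rw [← ih, ← lift_succ F j₀ hs x n, tr_tr]

private lemma main (F : ℕᵒᵖ ⥤ Type u) (j₀ : ℕ)
    (hs : ∀ j : ℕ, j₀ ≤ j → Function.Surjective (tr F (Nat.le_succ j))) :
    F.IsMittagLeffler ∧
      Function.Surjective (fun s : F.sections => s.1 (op j₀)) ∧
      ((∀ j : ℕ, j₀ ≤ j → Function.Injective (tr F (Nat.le_succ j))) →
        Function.Bijective (fun s : F.sections => s.1 (op j₀))) := by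
  have hsurj : Function.Surjective (fun s : F.sections => s.1 (op j₀)) := by
    intro x
    refine ⟨⟨fun j => tr F (Nat.le_add_left j.unop j₀) (lift F j₀ hs x j.unop), ?_⟩, ?_⟩
    · intro j j' f
      have hle : j'.unop ≤ j.unop := leOfHom f.unop
      show F.map f (tr F _ (lift F j₀ hs x j.unop)) = tr F _ (lift F j₀ hs x j'.unop)
      rw [map_eq_tr, tr_tr, ← lift_le F j₀ hs x hle, tr_tr]
    · show tr F _ (lift F j₀ hs x j₀) = x
      have h1 := lift_le F j₀ hs x (Nat.zero_le j₀)
      have h2 : tr F (Nat.le_add_right j₀ 0) (lift F j₀ hs x 0) = x := tr_refl F _ _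
      calc tr F _ (lift F j₀ hs x j₀)
          = tr F (Nat.le_add_right j₀ 0) (tr F (Nat.add_le_add_left (Nat.zero_le j₀) j₀)
              (lift F j₀ hs x j₀)) := by rw [tr_tr]
        _ = x := by rw [h1, h2]
  refine ⟨?_, hsurj, ?_⟩
  · intro j
    refine ⟨op (max j.unop j₀), (homOfLE (le_max_left _ _)).op, ?_⟩
    intro k g
    have hk : j.unop ≤ k.unop := leOfHom g.unop
    rintro _ ⟨y, rfl⟩
    obtain ⟨z, hz⟩ := surj_of_le F j₀ hs (le_max_right k.unop (max j.unop j₀) ) (le_max_right _ _) y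
    refine ⟨tr F (le_max_left k.unop (max j.unop j₀)) z, ?_⟩
    rw [map_eq_tr, map_eq_tr, tr_tr, ← hz, tr_tr]
  · intro hi
    refine ⟨?_, hsurj⟩
    intro s t hst
    ext j
    -- compare at level max j j₀
    have hinj := inj_of_le F j₀ hi (le_max_right j.unop j₀) (le_refl _)
    have hs1 : tr F (le_max_right j.unop j₀) (s.1 (op (max j.unop j₀))) = s.1 (op j₀) :=
      s.2 (homOfLE (le_max_right j.unop j₀)).op
    have ht1 : tr F (le_max_right j.unop j₀) (t.1 (op (max j.unop j₀))) = t.1 (op j₀) :=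
      t.2 (homOfLE (le_max_right j.unop j₀)).op
    have heq : s.1 (op (max j.unop j₀)) = t.1 (op (max j.unop j₀)) := by
      apply hinj
      rw [hs1, ht1]
      exact hst
    have hs2 : tr F (le_max_left j.unop j₀) (s.1 (op (max j.unop j₀))) = s.1 j :=
      s.2 (homOfLE (le_max_left j.unop j₀)).op
    have ht2 : tr F (le_max_left j.unop j₀) (t.1 (op (max j.unop j₀))) = t.1 j :=
      t.2 (homOfLE (le_max_left j.unop j₀)).op
    rw [← hs2, ← ht2, heq]

/-- Let (G_j) be an inverse system of abelian groups indexed by the natural numbers, with transition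
maps G_{j+1} → G_j, and let j₀ be a natural number such that the transition map G_{j+1} → G_j is
surjective for every j ≥ j₀. Then: (a) the system satisfies the Mittag-Leffler condition; (b) the
evaluation map from the inverse limit (realised as the set of compatible families) to G_{j₀} is
surjective; (c) if in addition the transition maps G_{j+1} → G_j are injective for every j ≥ j₀,
that evaluation map is bijective. (The published statement indexes the system by the negative
integers and assumes j₀ ≥ 1; this row indexes it by the natural numbers and allows j₀ = 0, which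
changes nothing.) -/
theorem result (G : ℕᵒᵖ ⥤ AddCommGrpCat.{u})
    (j₀ : ℕ) (hs : ∀ j : ℕ, j₀ ≤ j → Function.Surjective (G.map (homOfLE (Nat.le_succ j)).op).hom) :
    (G ⋙ forget AddCommGrpCat.{u}).IsMittagLeffler ∧
      Function.Surjective (fun s : (G ⋙ forget AddCommGrpCat.{u}).sections => s.1 (op j₀)) ∧
      ((∀ j : ℕ, j₀ ≤ j → Function.Injective (G.map (homOfLE (Nat.le_succ j)).op).hom) →
        Function.Bijective (fun s : (G ⋙ forget AddCommGrpCat.{u}).sections => s.1 (op j₀))) := by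
  exact main (G ⋙ forget AddCommGrpCat.{u}) j₀ hs

end Groth.Agent.S15235
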