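import Mathlib
import Groth.Statements.S15237

set_option autoImplicit false
open CategoryTheory AlgebraicGeometry
universe u
open Variety

namespace Groth.Agent.S15237


open AlgebraicGeometry CategoryTheory TopologicalSpace

theorem isAlgebraic_of_rank_le (k κ : Type u) [Field k] [Field κ] [Algebra k κ] [Uncountable k]
    (h : Module.rank k κ ≤ Cardinal.aleph0) : Algebra.IsAlgebraic k κ := by
  by_contra hna
  rw [← Algebra.transcendental_iff_not_isAlgebraic] at hna
  haveI := hna
  have h1 := Algebra.Transcendental.rank_eq_cardinalMk k κ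
  have h2 : Cardinal.mk k ≤ Cardinal.mk κ :=
    Cardinal.mk_le_of_injective (algebraMap k κ).injective
  have h3 : Cardinal.aleph0 < Cardinal.mk k := Cardinal.aleph0_lt_mk_iff.mpr inferInstance
  exact absurd (h3.trans_le (h2.trans (h1 ▸ h))) (lt_irrefl _)

theorem exists_maximal_avoiding (k B : Type u) [Field k] [Uncountable k] [CommRing B]
    [IsDomain B] [Algebra k B] [Algebra.FiniteType k B] (f : ℕ → B) (hf : ∀ n, f n ≠ 0) :
    ∃ 𝔪 : Ideal B, 𝔪.IsMaximal ∧ ∀ n, f n ∉ 𝔪 := by
  classical
  obtain ⟨s₀, hs₀⟩ := (Algebra.FiniteType.out : (⊤ : Subalgebra k B).FG)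
  let T : Set (FractionRing B) := (algebraMap B (FractionRing B) '' (s₀ : Set B)) ∪
    Set.range (fun n => (algebraMap B (FractionRing B) (f n))⁻¹)
  have hTc : T.Countable := (s₀.countable_toSet.image _).union (Set.countable_range _)
  let C : Subalgebra k (FractionRing B) := Algebra.adjoin k T
  have hBC : ∀ b : B, (IsScalarTower.toAlgHom k B (FractionRing B)) b ∈ C := by
    intro b
    have hb : b ∈ Algebra.adjoin k (s₀ : Set B) := by rw [hs₀]; exact Algebra.mem_top
    have h1 : (IsScalarTower.toAlgHom k B (FractionRing B)) b ∈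
        (Algebra.adjoin k (s₀ : Set B)).map (IsScalarTower.toAlgHom k B (FractionRing B)) :=
      ⟨b, hb, rfl⟩
    rw [AlgHom.map_adjoin] at h1
    exact Algebra.adjoin_mono Set.subset_union_left h1
  let φ : B →ₐ[k] C := (IsScalarTower.toAlgHom k B (FractionRing B)).codRestrict C hBC
  have hunit : ∀ n, IsUnit (φ (f n)) := by
    intro n
    have hinv : (algebraMap B (FractionRing B) (f n))⁻¹ ∈ C :=
      Algebra.subset_adjoin (Or.inr ⟨n, rfl⟩)
    refine IsUnit.of_mul_eq_one ⟨_, hinv⟩ ?_
    apply Subtype.ext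
    show algebraMap B (FractionRing B) (f n) * (algebraMap B (FractionRing B) (f n))⁻¹ = 1
    exact mul_inv_cancel₀
      ((map_ne_zero_iff _ (IsFractionRing.injective B (FractionRing B))).mpr (hf n))
  obtain ⟨𝔫, h𝔫⟩ := Ideal.exists_maximal C
  letI : Field (C ⧸ 𝔫) := Ideal.Quotient.field 𝔫
  have hrank : Module.rank k (C ⧸ 𝔫) ≤ Cardinal.aleph0 := by
    have h1 : Module.rank k (C ⧸ 𝔫) ≤ Module.rank k C :=
      LinearMap.rank_le_of_surjective (Ideal.Quotient.mkₐ k 𝔫).toLinearMap
        (Ideal.Quotient.mkₐ_surjective k 𝔫)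
    have h2 : Module.rank k C ≤ max (Cardinal.mk T) Cardinal.aleph0 := Algebra.rank_adjoin_le T
    have h3 : Cardinal.mk T ≤ Cardinal.aleph0 := Cardinal.mk_le_aleph0_iff.mpr hTc.to_subtype
    exact h1.trans (h2.trans (max_le h3 le_rfl))
  haveI halg : Algebra.IsAlgebraic k (C ⧸ 𝔫) := isAlgebraic_of_rank_le k _ hrank
  let ψ : B →ₐ[k] (C ⧸ 𝔫) := (Ideal.Quotient.mkₐ k 𝔫).comp φ
  refine ⟨RingHom.ker ψ.toRingHom, ?_, ?_⟩
  · letI : Field ψ.range := (Subalgebra.isField_of_algebraic ψ.range).toField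
    have hsurj : Function.Surjective ψ.rangeRestrict := ψ.rangeRestrict_surjective
    have hker : RingHom.ker ψ.rangeRestrict.toRingHom = RingHom.ker ψ.toRingHom := by
      ext b
      simp only [RingHom.mem_ker]
      constructor
      · intro h; exact congrArg Subtype.val h
      · intro h; exact Subtype.ext h
    rw [← hker]
    exact RingHom.ker_isMaximal_of_surjective _ hsurj
  · intro n hn
    have h0 : ψ (f n) = 0 := hn
    have hu : IsUnit (ψ (f n)) := (hunit n).map (Ideal.Quotient.mkₐ k 𝔫)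
    rw [h0] at hu
    exact not_isUnit_zero hu

theorem main (k : Type u) [Field k] [Uncountable k] (X : Scheme.{u})
    (sX : X ⟶ Spec (CommRingCat.of k)) [IrreducibleSpace X] [LocallyOfFiniteType sX]
    (Z : ℕ → Closeds X) (hZ : ∀ n, (Z n : Set X) ≠ Set.univ) :
    ∃ x : X, IsClosed ({x} : Set X) ∧ ∀ n, x ∉ Z n := by
  haveI : JacobsonSpace X := LocallyOfFiniteType.jacobsonSpace sX
  have hη : IsGenericPoint (genericPoint X) ⊤ := genericPoint_spec X
  have hηZ : ∀ n, genericPoint X ∉ Z n := by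
    intro n hmem
    apply hZ n
    rw [Set.eq_univ_iff_forall]
    intro y
    have h1 : closure ({genericPoint X} : Set X) ⊆ (Z n : Set X) :=
      (Z n).isClosed.closure_subset_iff.mpr (Set.singleton_subset_iff.mpr hmem)
    apply h1
    rw [hη.def]
    trivial
  obtain ⟨𝔭, h𝔭⟩ := X.affineOpenCover.covers (genericPoint X)
  haveI : IsOpenImmersion (X.affineOpenCover.f (X.affineOpenCover.idx (genericPoint X))) :=
    X.affineOpenCover.map_prop _
  obtain ⟨R, j, hj, hR⟩ : ∃ (R : CommRingCat.{u}) (j : Spec R ⟶ X) (_ : IsOpenImmersion j),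
      ∃ 𝔭 : PrimeSpectrum R, j 𝔭 = genericPoint X :=
    ⟨_, X.affineOpenCover.f (X.affineOpenCover.idx (genericPoint X)), inferInstance, 𝔭, h𝔭⟩
  obtain ⟨𝔭, h𝔭⟩ := hR
  have hjemb : Topology.IsOpenEmbedding ⇑j := j.isOpenEmbedding
  obtain ⟨φ, hφ : Spec.map φ = j ≫ sX⟩ := Spec.homEquiv.symm.surjective (j ≫ sX)
  have hft : RingHom.FiniteType φ.hom := by
    have : LocallyOfFiniteType (Spec.map φ) := by rw [hφ]; infer_instance
    exact HasRingHomProperty.Spec_iff.mp this
  letI : Algebra k R := φ.hom.toAlgebra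
  haveI : Algebra.FiniteType k R := hft
  haveI := 𝔭.isPrime
  haveI : Algebra.FiniteType k (R ⧸ 𝔭.asIdeal) :=
    Algebra.FiniteType.of_surjective (Ideal.Quotient.mkₐ k 𝔭.asIdeal)
      (Ideal.Quotient.mkₐ_surjective k _)
  have hex : ∀ n, ∃ f : R, f ∉ 𝔭.asIdeal ∧ ∀ q : PrimeSpectrum R, j q ∈ Z n → f ∈ q.asIdeal := by
    intro n
    have hcl : IsClosed (⇑j ⁻¹' (Z n : Set X)) := (Z n).isClosed.preimage j.continuous
    obtain ⟨I, hI⟩ := (PrimeSpectrum.isClosed_iff_zeroLocus_ideal _).mp hcl
    have h𝔭n : 𝔭 ∉ PrimeSpectrum.zeroLocus (I : Set R) := by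
      rw [← hI]
      intro hmem
      apply hηZ n
      rw [← h𝔭]
      exact hmem
    rw [PrimeSpectrum.mem_zeroLocus, SetLike.coe_subset_coe] at h𝔭n
    obtain ⟨f, hfI, hf𝔭⟩ := SetLike.not_le_iff_exists.mp h𝔭n
    refine ⟨f, hf𝔭, fun q hq => ?_⟩
    have : q ∈ PrimeSpectrum.zeroLocus (I : Set R) := by
      rw [← hI]; exact hq
    exact this hfI
  choose f hf1 hf2 using hex
  obtain ⟨𝔪B, hmax, hav⟩ := exists_maximal_avoiding k (R ⧸ 𝔭.asIdeal)
    (fun n => Ideal.Quotient.mk 𝔭.asIdeal (f n))
    (fun n h0 => hf1 n (Ideal.Quotient.eq_zero_iff_mem.mp h0))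
  haveI hmax' : (𝔪B.comap (Ideal.Quotient.mk 𝔭.asIdeal)).IsMaximal :=
    Ideal.comap_isMaximal_of_surjective _ Ideal.Quotient.mk_surjective
  let q : PrimeSpectrum R := ⟨𝔪B.comap (Ideal.Quotient.mk 𝔭.asIdeal), hmax'.isPrime⟩
  refine ⟨j q, ?_, fun n hn => ?_⟩
  · have hq : q ∈ ⇑j ⁻¹' closedPoints X := by
      rw [hjemb.preimage_closedPoints]
      exact (PrimeSpectrum.isClosed_singleton_iff_isMaximal q).mpr hmax'
    exact hq
  · exact hav n (hf2 n q hn)


/-- Let k be an uncountable field and X an irreducible k-scheme of finite type. Then the closed points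
of X are not covered by countably many closed subsets of X different from X: for every sequence Z₀,
Z₁, … of closed subsets of X with Zₙ ≠ X for all n there is a closed point of X lying in no Zₙ. (The
published statement is for an irreducible quasi-projective variety and says that the variety is not
a countable union of closed subsets different from it, a variety being read through its closed
points; with the generic point of the scheme that assertion would be immediate, so this row asks for
a closed point, and it assumes only finite type over k.) -/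
theorem result (k : Type u) [Field k] [Uncountable k]
    (X : Scheme.{u}) (sX : X ⟶ Spec (CommRingCat.of k)) [IrreducibleSpace X]
    [LocallyOfFiniteType sX] [QuasiCompact sX]
    (Z : ℕ → TopologicalSpace.Closeds X) (hZ : ∀ n, (Z n : Set X) ≠ Set.univ) :
    ∃ x : X, IsClosed ({x} : Set X) ∧ ∀ n, x ∉ Z n := by
  exact main k X sX Z hZ

end Groth.Agent.S15237
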