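import Groth.Statements.S15254
import Groth.Agent.Lib.Helper45.Dev.SerreVanish2
import Groth.Agent.Lib.Helper45.RefHullStalk
import Groth.Agent.Lib.Helper83.AmpleSerre
import Groth.Agent.S0051
import Groth.Agent.S0047
import Groth.Agent.S0019

set_option linter.style.haveILetI false

set_option autoImplicit false
universe u
open CategoryTheory CategoryTheory.Limits AlgebraicGeometry TopologicalSpace
open W4c2seshadripos

namespace Groth.Agent.S15254

/-- Let X be an integral scheme proper over a field k (the published statement: a projective variety), x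
a closed point of X with ideal sheaf m_x, and L an ample invertible O_X-module. Then there is m₀
such that for every m ≥ m₀, every i > 1 and every a ≥ 0 the cohomology group H^i(X, m_x^a ⊗ L^{⊗m})
vanishes (here m_x^a ⊗ L^{⊗m} = m_x^a · L^{⊗m}, the ideal sheaf m_x^a being taken as an O_X-module). -/
theorem result (k : Type u) [Field k] (X : Scheme.{u})
    [X.Over (Spec (CommRingCat.of k))] [IsProper (X ↘ (Spec (CommRingCat.of k)))] [IsIntegral X]
    (x : X) (hx : IsClosed ({x} : Set X)) (L : X.Modules) (hL : CohB1.IsAmple L) :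
    ∃ m₀ : ℕ, ∀ m : ℕ, m₀ ≤ m → ∀ i : ℕ, 1 < i → ∀ a : ℕ,
      Subsingleton (Coh.HH X (CohB1.tensorMod (ClSub.idealMod ((W4c2seshadripos.pointIdeal x hx) ^ a))
        (CohB1.tensorPow L m)) i) := by
  classical
  haveI : IsLocallyNoetherian X :=
    LocallyOfFiniteType.isLocallyNoetherian (X ↘ (Spec (CommRingCat.of k)))
  have hO : Coh.IsCoh (Coh.structureModule X) :=
    Groth.Agent.Lib.Helper45.RefHullStalk.isCoh_structureModule X
  obtain ⟨m₀, hm₀⟩ := (Groth.Agent.S0051.result k X (X ↘ (Spec (CommRingCat.of k))) L hL.1).mp hL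
    _ hO
  refine ⟨m₀, fun m hm i hi a => ?_⟩
  obtain ⟨j, rfl⟩ : ∃ j, i = j + 1 := ⟨i - 1, by omega⟩
  have hj : 0 < j := by omega
  have hNinv : PicF.IsInvertible (CohB1.tensorPow L m) :=
    Groth.Agent.Lib.Helper11.GenLocus.isInvertible_tensorPow hL.1 m
  have hN : FlatMod.IsFinLocFree (CohB1.tensorPow L m) :=
    Groth.Agent.Lib.Helper45.SerreVanish.isFinLocFree_of_isInvertible hNinv
  let I : X.IdealSheafData := (W4c2seshadripos.pointIdeal x hx) ^ a
  have hST := Groth.Agent.Lib.Helper45.SerreVanish.shortExact_map_tensR hN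
    (Groth.Agent.Lib.Helper1.idealModComplex_shortExact I)
  -- the quotient is supported at `x`
  let U : X.Opens := ⟨({x} : Set X)ᶜ, hx.isOpen_compl⟩
  have hsupp : (I.support : Set X) ⊆ {x} := by
    by_cases ha : a = 0
    · have : I = ⊤ := by
        change (W4c2seshadripos.pointIdeal x hx) ^ a = ⊤
        rw [ha, pow_zero]
        rfl
      rw [this, Scheme.IdealSheafData.support_top]
      exact Set.empty_subset _
    · have h1 : I.support = (W4c2seshadripos.pointIdeal x hx).support :=
        Scheme.IdealSheafData.support_pow _ a ha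
      rw [h1]
      exact le_of_eq rfl
  have hdisj : Disjoint (U : Set X) (I.support : Set X) := by
    rw [Set.disjoint_left]
    intro y hyU hyI
    exact hyU (hsupp hyI)
  have hQ0 : IsZero ((ClSub.quotMod I).restrict U.ι) :=
    Groth.Agent.Lib.Helper45.SerreVanish.isZero_restrict_quotMod I U hdisj
  have hQcoh : Coh.IsCoh (ClSub.quotMod I) :=
    Groth.Agent.S0019.result I.subschemeι _
      (Groth.Agent.Lib.Helper45.RefHullStalk.isCoh_structureModule _)
  have hQN : Coh.IsCoh (CohB1.tensorMod (ClSub.quotMod I) (CohB1.tensorPow L m)) :=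
    Groth.Agent.Lib.Helper83.AmpleSerre.isCoh_tensorMod_tensorPow hL.1 hQcoh m
  have h3 : Subsingleton (Coh.HH X (CohB1.tensorMod (ClSub.quotMod I) (CohB1.tensorPow L m)) j) := by
    refine Groth.Agent.S0047.result X _ hQN ?_ j hj
    intro y hy
    have hyU := Groth.Agent.Lib.Helper45.SerreVanish.support_tensorMod_subset _ _ hNinv U hQ0 hy
    have : y = x := by
      by_contra hne
      exact hyU hne
    rw [this]
    exact hx
  have h2 : Subsingleton (Coh.HH X (CohB1.tensorMod (Coh.structureModule X)
      (CohB1.tensorPow L m)) (j + 1)) := hm₀ m hm (j + 1) (Nat.succ_pos j)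
  exact Groth.Agent.Lib.Helper45.SerreVanish.subsingleton_HH_left_of_shortExact hST j h3 h2

end Groth.Agent.S15254
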