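import Groth.Statements.S15255
import Groth.Agent.Lib.Helper45.Dev.SerreVanish2
import Groth.Agent.Lib.Helper45.RefHullStalk
import Groth.Agent.Lib.Helper83.AmpleSerre
import Groth.Agent.Lib.Helper37.SerreFT
import Groth.Agent.Lib.Helper49.IdealModFinite
import Groth.Agent.Lib.Helper49.StalkExact
import Groth.Agent.Lib.Helper49.SupportSplit2
import Groth.Agent.Lib.Helper49.QCohLocal
import Groth.Agent.Lib.Helper49.FiniteTypeLocal
import Groth.Agent.S0047

set_option linter.style.haveILetI false

set_option autoImplicit false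
universe u
open CategoryTheory CategoryTheory.Limits AlgebraicGeometry TopologicalSpace
open W4c2seshadripos

namespace Groth.Agent.S15255

section Aux
open Groth.Agent.Lib

variable {X : Scheme.{u}}

/-- powers of an ideal sheaf decrease. -/
theorem pow_succ_le (I : X.IdealSheafData) (a : ℕ) : I ^ (a + 1) ≤ I ^ a := by
  rw [Scheme.IdealSheafData.le_def]
  intro U
  rw [Scheme.IdealSheafData.ideal_pow, Scheme.IdealSheafData.ideal_pow, Pi.pow_apply,
    Pi.pow_apply]
  exact Ideal.pow_le_pow_right (Nat.le_succ a)

/-- off the support of `K`, the inclusion `K ⟶ O_X` is surjective on stalks. -/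
theorem stalkMap_idealModι_surjective (K : X.IdealSheafData) (U : X.Opens)
    (hU : Disjoint (U : Set X) (K.support : Set X)) (y : X) (hy : y ∈ U) :
    Function.Surjective (Helper49.stalkMap (ClSub.idealModι K) y).hom := by
  have hex := Helper49.stalkMap_exact_of_shortExact _ (Helper1.idealModComplex_shortExact K) y
  have h0 : IsZero ((ClSub.quotMod K).restrict U.ι) :=
    Helper45.SerreVanish.isZero_restrict_quotMod K U hU
  have hsub : Subsingleton ((ClSub.quotMod K).presheaf.stalk y) :=
    Helper49.subsingleton_stalk_of_isZero_restrict _ U h0 y hy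
  intro b
  exact (hex b).mp (hsub.elim _ _)

/-- the cokernel of `K ⟶ K'` (for `K ≤ K'`) has zero stalks off the support of `K`. -/
theorem subsingleton_stalk_cokernel_idealModMap {K K' : X.IdealSheafData} (h : K ≤ K')
    (U : X.Opens) (hU : Disjoint (U : Set X) (K.support : Set X)) (y : X) (hy : y ∈ U) :
    Subsingleton ((cokernel (Helper37.SerreFT.idealModMap h)).presheaf.stalk y) := by
  have hj : Function.Surjective (Helper49.stalkMap (Helper37.SerreFT.idealModMap h) y).hom := by
    intro b
    obtain ⟨a, ha⟩ := stalkMap_idealModι_surjective K U hU y hy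
      ((Helper49.stalkMap (ClSub.idealModι K') y).hom b)
    refine ⟨a, ?_⟩
    apply Helper49.stalkMap_injective_of_mono (ClSub.idealModι K') y
    rw [← ha]
    have h1 := Helper49.stalkMap_comp (Helper37.SerreFT.idealModMap h) (ClSub.idealModι K') y
    rw [Helper37.SerreFT.idealModMap_ι] at h1
    have h2 := congrArg (fun φ => φ.hom a) h1
    simp only [AddCommGrpCat.hom_comp] at h2
    exact h2.symm
  refine ⟨fun c d => ?_⟩
  have key : ∀ c : ↑((cokernel (Helper37.SerreFT.idealModMap h)).presheaf.stalk y), c = 0 := by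
    intro c
    obtain ⟨b, rfl⟩ := Helper49.stalkMap_surjective_of_epi
      (cokernel.π (Helper37.SerreFT.idealModMap h)) y c
    obtain ⟨a, rfl⟩ := hj b
    have h1 := Helper49.stalkMap_comp (Helper37.SerreFT.idealModMap h)
      (cokernel.π (Helper37.SerreFT.idealModMap h)) y
    rw [cokernel.condition] at h1
    have h2 := congrArg (fun φ => φ.hom a) h1
    simp only [AddCommGrpCat.hom_comp] at h2
    rw [Helper49.stalkMap_zero] at h2
    exact h2.symm
  rw [key c, key d]

end Aux

/-- Let X be an integral scheme proper over a field k (the published statement: a projective variety), x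
a closed point of X with ideal sheaf m_x, L an invertible O_X-module and a, m > 0 integers. If
H^1(X, m_x^a ⊗ L^{⊗m}) is nonzero then so is H^1(X, m_x^(a+1) ⊗ L^{⊗m}) (the ideal sheaves m_x^a
being taken as O_X-modules, so that m_x^a ⊗ L^{⊗m} = m_x^a · L^{⊗m}). -/
theorem result (k : Type u) [Field k]
    (X : Scheme.{u}) [X.Over (Spec (CommRingCat.of k))] [IsProper (X ↘ (Spec (CommRingCat.of k)))]
    [IsIntegral X] (x : X) (hx : IsClosed ({x} : Set X)) (L : X.Modules) (hL : PicF.IsInvertible L)
    (a m : ℕ) (ha : 0 < a) (hm : 0 < m)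
    (h : Nontrivial (Coh.HH X (CohB1.tensorMod (ClSub.idealMod ((W4c2seshadripos.pointIdeal x hx) ^ a))
      (CohB1.tensorPow L m)) 1)) :
    Nontrivial (Coh.HH X (CohB1.tensorMod (ClSub.idealMod ((W4c2seshadripos.pointIdeal x hx) ^ (a + 1)))
      (CohB1.tensorPow L m)) 1) := by
  classical
  haveI : IsLocallyNoetherian X :=
    LocallyOfFiniteType.isLocallyNoetherian (X ↘ (Spec (CommRingCat.of k)))
  have hNinv : PicF.IsInvertible (CohB1.tensorPow L m) :=
    Groth.Agent.Lib.Helper11.GenLocus.isInvertible_tensorPow hL m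
  have hN : FlatMod.IsFinLocFree (CohB1.tensorPow L m) :=
    Groth.Agent.Lib.Helper45.SerreVanish.isFinLocFree_of_isInvertible hNinv
  let I : X.IdealSheafData := W4c2seshadripos.pointIdeal x hx
  let j := Groth.Agent.Lib.Helper37.SerreFT.idealModMap (pow_succ_le I a)
  haveI : Mono j :=
    mono_of_mono_fac (Groth.Agent.Lib.Helper37.SerreFT.idealModMap_ι (pow_succ_le I a))
  let S : ShortComplex X.Modules := ShortComplex.mk j (cokernel.π j) (cokernel.condition j)
  have hS : S.ShortExact :=
    ShortComplex.ShortExact.mk' (ShortComplex.exact_cokernel j) ‹Mono j› inferInstance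
  have hST := Groth.Agent.Lib.Helper45.SerreVanish.shortExact_map_tensR hN hS
  let U : X.Opens := ⟨({x} : Set X)ᶜ, hx.isOpen_compl⟩
  have hsupp : ((I ^ (a + 1)).support : Set X) ⊆ {x} := by
    rw [Scheme.IdealSheafData.support_pow_succ]
    exact le_of_eq rfl
  have hdisj : Disjoint (U : Set X) ((I ^ (a + 1)).support : Set X) := by
    rw [Set.disjoint_left]
    intro y hyU hyI
    exact hyU (hsupp hyI)
  have hC0 : IsZero ((cokernel j).restrict U.ι) :=
    Groth.Agent.Lib.Helper49.isZero_restrict_of_stalk _ U fun y hy =>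
      subsingleton_stalk_cokernel_idealModMap (pow_succ_le I a) U hdisj y hy
  have hIaq : (ClSub.idealMod (I ^ a)).IsQuasicoherent :=
    Groth.Agent.Lib.Helper1.isQuasicoherent_idealMod _
  have hIa1q : (ClSub.idealMod (I ^ (a + 1))).IsQuasicoherent :=
    Groth.Agent.Lib.Helper1.isQuasicoherent_idealMod _
  have hIaft : SheafOfModules.IsFiniteType (R := X.ringCatSheaf) (ClSub.idealMod (I ^ a)) :=
    Groth.Agent.Lib.Helper49.IdealModFinite.isFiniteType_idealMod _ fun V => by
      haveI : IsNoetherianRing Γ(X, V.1) := IsLocallyNoetherian.component_noetherian V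
      exact IsNoetherian.noetherian _
  have hCcoh : Coh.IsCoh (cokernel j) :=
    ⟨Groth.Agent.Lib.Helper49.isQuasicoherent_cokernel j hIa1q hIaq,
      Groth.Agent.Lib.Helper49.isFiniteType_of_epi (cokernel.π j) hIaft⟩
  have hCN : Coh.IsCoh (CohB1.tensorMod (cokernel j) (CohB1.tensorPow L m)) :=
    Groth.Agent.Lib.Helper83.AmpleSerre.isCoh_tensorMod_tensorPow hL hCcoh m
  have h3 : Subsingleton (Coh.HH X (CohB1.tensorMod (cokernel j) (CohB1.tensorPow L m)) 1) := by
    refine Groth.Agent.S0047.result X _ hCN ?_ 1 Nat.one_pos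
    intro y hy
    have hyU := Groth.Agent.Lib.Helper45.SerreVanish.support_tensorMod_subset _ _ hNinv U hC0 hy
    have : y = x := by
      by_contra hne
      exact hyU hne
    rw [this]
    exact hx
  by_contra hcon
  rw [not_nontrivial_iff_subsingleton] at hcon
  have h2 : Subsingleton (Coh.HH X (CohB1.tensorMod (ClSub.idealMod (I ^ a))
      (CohB1.tensorPow L m)) 1) :=
    Groth.Agent.Lib.Helper1.subsingleton_HH_of_shortExact hST 1 hcon h3
  exact not_subsingleton _ h2

end Groth.Agent.S15255
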