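import Groth.Statements.S15258
import Groth.Agent.Lib.Helper78.EssFT
-- import your own Groth.Agent.* helpers here

set_option autoImplicit false
universe u
open CategoryTheory CategoryTheory.Limits AlgebraicGeometry TopologicalSpace
open W4c2seshadripos

namespace Groth.Agent.S15258

open Groth.Agent.Lib.Helper78.EssFT

/-- Call f : X → Y locally essentially of finite type when Y has a cover by affine opens U = Spec A such
that each f⁻¹(U) has a cover by affine opens Spec B with A → B essentially of finite type (a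
localization of a finite-type A-algebra; Mathlib's RingHom.EssFiniteType), and essentially of finite
type when moreover f is quasi-compact. Then f is locally essentially of finite type exactly when
every affine open U = Spec A of Y has f⁻¹(U) covered by affine opens V = Spec B of X with A → B
essentially of finite type. -/
theorem result {X Y : Scheme.{u}} (f : X ⟶ Y) :
    (∃ S : Set Y.affineOpens, (⋃ U ∈ S, ((U : Y.Opens) : Set ↥Y)) = Set.univ ∧
      ∀ U ∈ S, ∃ T : Set X.affineOpens, (⋃ V ∈ T, ((V : X.Opens) : Set ↥X)) = ((f ⁻¹ᵁ (U : Y.Opens)) : Set ↥X) ∧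
        ∀ V ∈ T, ∃ e : (V : X.Opens) ≤ f ⁻¹ᵁ (U : Y.Opens), (f.appLE (U : Y.Opens) (V : X.Opens) e).hom.EssFiniteType) ↔
    ∀ U : Y.affineOpens, ∃ T : Set X.affineOpens, (⋃ V ∈ T, ((V : X.Opens) : Set ↥X)) = ((f ⁻¹ᵁ (U : Y.Opens)) : Set ↥X) ∧
        ∀ V ∈ T, ∃ e : (V : X.Opens) ≤ f ⁻¹ᵁ (U : Y.Opens), (f.appLE (U : Y.Opens) (V : X.Opens) e).hom.EssFiniteType := by
  constructor
  · rintro ⟨S, hS, hT⟩ U
    refine ⟨{W : X.affineOpens | ∃ e : (W : X.Opens) ≤ f ⁻¹ᵁ (U : Y.Opens),
      (f.appLE (U : Y.Opens) (W : X.Opens) e).hom.EssFiniteType}, ?_, fun V hV => hV⟩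
    apply Set.Subset.antisymm
    · intro x hx
      simp only [Set.mem_iUnion] at hx
      obtain ⟨W, ⟨e, -⟩, hxW⟩ := hx
      exact e hxW
    · intro x hx
      have hfx : f x ∈ (Set.univ : Set Y) := Set.mem_univ _
      rw [← hS] at hfx
      simp only [Set.mem_iUnion] at hfx
      obtain ⟨U₁, hU₁S, hfxU₁⟩ := hfx
      obtain ⟨T, hTcov, hTE⟩ := hT U₁ hU₁S
      have hx' : x ∈ ((f ⁻¹ᵁ (U₁ : Y.Opens)) : Set ↥X) := hfxU₁
      rw [← hTcov] at hx'
      simp only [Set.mem_iUnion] at hx'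
      obtain ⟨V, hVT, hxV⟩ := hx'
      obtain ⟨e, he⟩ := hTE V hVT
      obtain ⟨W, hW, hxW, -, e', he'⟩ :=
        exists_affine_nhds_essFiniteType f U.2 U₁.2 V.2 e he x hxV hx
      simp only [Set.mem_iUnion]
      exact ⟨⟨W, hW⟩, ⟨e', he'⟩, hxW⟩
  · intro h
    refine ⟨Set.univ, ?_, fun U _ => h U⟩
    apply Set.eq_univ_of_forall
    intro y
    have : y ∈ (⨆ i : Y.affineOpens, (i : Y.Opens)) := by
      rw [iSup_affineOpens_eq_top]; trivial
    rw [Opens.mem_iSup] at this
    obtain ⟨U, hyU⟩ := this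
    simp only [Set.mem_iUnion]
    exact ⟨U, Set.mem_univ _, hyU⟩

end Groth.Agent.S15258
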