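import Groth.Statements.S15260
import Mathlib.Tactic

set_option autoImplicit false
universe u
open CategoryTheory CategoryTheory.Limits AlgebraicGeometry TopologicalSpace
open W4c2seshadripos

namespace Groth.Agent.S15260

/-- Say a morphism of schemes h : S → T is locally essentially of finite type when for every affine open
U = Spec A of T the preimage h⁻¹(U) is covered by affine opens V = Spec B of S with A → B
essentially of finite type (a localization of a finite-type A-algebra; this is the every-affine-open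
form of the notion). If f : X → Y and g : Y → Z are locally essentially of finite type then so is f
≫ g. (The published statement also covers the quasi-compact variant, essentially of finite type;
that case follows since quasi-compact morphisms are stable under composition.) -/
theorem result {X Y Z : Scheme.{u}} (f : X ⟶ Y) (g : Y ⟶ Z)
    (hf : ∀ U : Y.affineOpens, ∃ T : Set X.affineOpens, (⋃ V ∈ T, ((V : X.Opens) : Set ↥X)) = ((f ⁻¹ᵁ (U : Y.Opens)) : Set ↥X) ∧
        ∀ V ∈ T, ∃ e : (V : X.Opens) ≤ f ⁻¹ᵁ (U : Y.Opens), (f.appLE (U : Y.Opens) (V : X.Opens) e).hom.EssFiniteType)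
    (hg : ∀ U : Z.affineOpens, ∃ T : Set Y.affineOpens, (⋃ V ∈ T, ((V : Y.Opens) : Set ↥Y)) = ((g ⁻¹ᵁ (U : Z.Opens)) : Set ↥Y) ∧
        ∀ V ∈ T, ∃ e : (V : Y.Opens) ≤ g ⁻¹ᵁ (U : Z.Opens), (g.appLE (U : Z.Opens) (V : Y.Opens) e).hom.EssFiniteType)
    (U : Z.affineOpens) :
    ∃ T : Set X.affineOpens, (⋃ V ∈ T, ((V : X.Opens) : Set ↥X)) = (((f ≫ g) ⁻¹ᵁ (U : Z.Opens)) : Set ↥X) ∧
        ∀ V ∈ T, ∃ e : (V : X.Opens) ≤ (f ≫ g) ⁻¹ᵁ (U : Z.Opens), ((f ≫ g).appLE (U : Z.Opens) (V : X.Opens) e).hom.EssFiniteType := by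
  obtain ⟨TY, hTY, hTY'⟩ := hg U
  choose TX hTX hTX' using hf
  refine ⟨{W | ∃ V ∈ TY, W ∈ TX V}, ?_, ?_⟩
  · ext x
    simp only [Set.mem_iUnion, Set.mem_ofPred_eq, SetLike.mem_coe, exists_prop]
    constructor
    · rintro ⟨W, ⟨V, hV, hW⟩, hx⟩
      obtain ⟨e₁, -⟩ := hTY' V hV
      obtain ⟨e₂, -⟩ := hTX' V W hW
      exact e₁ (e₂ hx)
    · intro hx
      have hx' : f.base x ∈ ((g ⁻¹ᵁ (U : Z.Opens)) : Set ↥Y) := hx
      rw [← hTY] at hx'
      simp only [Set.mem_iUnion, SetLike.mem_coe, exists_prop] at hx'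
      obtain ⟨V, hV, hxV⟩ := hx'
      have hx'' : x ∈ ((f ⁻¹ᵁ (V : Y.Opens)) : Set ↥X) := hxV
      rw [← hTX V] at hx''
      simp only [Set.mem_iUnion, SetLike.mem_coe, exists_prop] at hx''
      obtain ⟨W, hW, hxW⟩ := hx''
      exact ⟨W, ⟨V, hV, hW⟩, hxW⟩
  · rintro W ⟨V, hV, hW⟩
    obtain ⟨e₁, h₁⟩ := hTY' V hV
    obtain ⟨e₂, h₂⟩ := hTX' V W hW
    refine ⟨e₂.trans ((Opens.map f.base).map (homOfLE e₁)).le, ?_⟩
    rw [← Scheme.Hom.appLE_comp_appLE f g _ _ _ e₁ e₂]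
    exact h₁.comp h₂

end Groth.Agent.S15260
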