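import Groth.Statements.S15261
import Groth.Agent.Lib.Helper78.EssFT
-- import your own Groth.Agent.* helpers here

set_option autoImplicit false
universe u
open CategoryTheory CategoryTheory.Limits AlgebraicGeometry TopologicalSpace
open W4c2seshadripos

namespace Groth.Agent.S15261

/-- Say a morphism of schemes h : S → T is locally essentially of finite type when for every affine open
U = Spec A of T the preimage h⁻¹(U) is covered by affine opens V = Spec B of S with A → B
essentially of finite type (the every-affine-open form of the notion). If f : X → Y is locally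
essentially of finite type and g : Y' → Y is any morphism of schemes, then the base change X ×_Y Y'
→ Y' is locally essentially of finite type. (The quasi-compact variant, essentially of finite type,
follows since quasi-compactness is stable under base change.) -/
theorem result {X Y Y' : Scheme.{u}} (f : X ⟶ Y) (g : Y' ⟶ Y)
    (hf : ∀ U : Y.affineOpens, ∃ T : Set X.affineOpens, (⋃ V ∈ T, ((V : X.Opens) : Set ↥X)) = ((f ⁻¹ᵁ (U : Y.Opens)) : Set ↥X) ∧
        ∀ V ∈ T, ∃ e : (V : X.Opens) ≤ f ⁻¹ᵁ (U : Y.Opens), (f.appLE (U : Y.Opens) (V : X.Opens) e).hom.EssFiniteType)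
    (U : Y'.affineOpens) :
    ∃ T : Set (pullback f g).affineOpens, (⋃ V ∈ T, ((V : (pullback f g).Opens) : Set ↥(pullback f g))) = (((pullback.snd f g) ⁻¹ᵁ (U : Y'.Opens)) : Set ↥(pullback f g)) ∧
        ∀ V ∈ T, ∃ e : (V : (pullback f g).Opens) ≤ (pullback.snd f g) ⁻¹ᵁ (U : Y'.Opens), ((pullback.snd f g).appLE (U : Y'.Opens) (V : (pullback f g).Opens) e).hom.EssFiniteType := by
  classical
  refine ⟨{W : (pullback f g).affineOpens | ∃ e : (W : (pullback f g).Opens) ≤
      (pullback.snd f g) ⁻¹ᵁ (U : Y'.Opens),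
      ((pullback.snd f g).appLE (U : Y'.Opens) (W : (pullback f g).Opens) e).hom.EssFiniteType},
    ?_, fun V hV => hV⟩
  apply Set.Subset.antisymm
  · intro z hz
    simp only [Set.mem_iUnion] at hz
    obtain ⟨W, ⟨e, -⟩, hzW⟩ := hz
    exact e hzW
  · intro z hz
    -- an affine open of `Y` containing the image of `z`
    have hy : g (pullback.snd f g z) ∈ (⨆ i : Y.affineOpens, (i : Y.Opens)) := by
      rw [iSup_affineOpens_eq_top]; trivial
    rw [Opens.mem_iSup] at hy
    obtain ⟨U₀, hyU₀⟩ := hy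
    have hcond : f (pullback.fst f g z) = g (pullback.snd f g z) := by
      rw [← Scheme.Hom.comp_apply, ← Scheme.Hom.comp_apply, pullback.condition]
    obtain ⟨T₀, hT₀cov, hT₀E⟩ := hf U₀
    have hx : pullback.fst f g z ∈ ((f ⁻¹ᵁ (U₀ : Y.Opens)) : Set ↥X) := by
      change f (pullback.fst f g z) ∈ (U₀ : Y.Opens)
      rw [hcond]; exact hyU₀
    rw [← hT₀cov] at hx
    simp only [Set.mem_iUnion] at hx
    obtain ⟨V, hVT₀, hxV⟩ := hx
    obtain ⟨e, he⟩ := hT₀E V hVT₀
    obtain ⟨a, haU₀, hza⟩ := U.2.exists_basicOpen_le (V := g ⁻¹ᵁ (U₀ : Y.Opens))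
      ⟨pullback.snd f g z, hyU₀⟩ hz
    obtain ⟨W, hW, hWeq, e', he'⟩ :=
      Groth.Agent.Lib.Helper78.EssFT.baseChange_step f g U₀.2 V.2 e he U.2 a haU₀
    simp only [Set.mem_iUnion]
    refine ⟨⟨W, hW⟩, ⟨e', he'⟩, ?_⟩
    change z ∈ (W : Set ↥(pullback f g))
    rw [hWeq]
    exact ⟨hxV, hza⟩

end Groth.Agent.S15261
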