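import Groth.Statements.S15285
import Mathlib
-- import your own Groth.Agent.* helpers here

set_option autoImplicit false
universe v v' u u'
open PicCat

namespace Groth.Agent.S15285


open CategoryTheory MonoidalCategory

/-- The action of an endomorphism of the unit on an object. -/
def act {M : Type*} [Category M] [MonoidalCategory M] (X : M) (a : 𝟙_ M ⟶ 𝟙_ M) : X ⟶ X :=
  (λ_ X).inv ≫ a ▷ X ≫ (λ_ X).hom

theorem act_bijective {M : Type*} [Category M] [MonoidalCategory M] (X : M)
    (h : (tensorRight X).IsEquivalence) : Function.Bijective (act X) := by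
  constructor
  · intro a a' haa
    unfold act at haa
    have h1 : a ▷ X = a' ▷ X := by
      have := congrArg (fun φ => (λ_ X).hom ≫ φ ≫ (λ_ X).inv) haa
      simpa using this
    exact (tensorRight X).map_injective h1
  · intro φ
    obtain ⟨a, ha⟩ := (tensorRight X).map_surjective ((λ_ X).hom ≫ φ ≫ (λ_ X).inv)
    refine ⟨a, ?_⟩
    have ha' : a ▷ X = (λ_ X).hom ≫ φ ≫ (λ_ X).inv := ha
    unfold act
    rw [ha']
    simp

open Functor.LaxMonoidal in
theorem map_act {C : Type*} [Category C] [MonoidalCategory C]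
    {D : Type*} [Category D] [MonoidalCategory D] (F : C ⥤ D) [F.LaxMonoidal]
    (X : C) (a : 𝟙_ C ⟶ 𝟙_ C) (b : 𝟙_ D ⟶ 𝟙_ D) (hab : ε F ≫ F.map a = b ≫ ε F) :
    F.map (act X a) = act (F.obj X) b := by
  unfold act
  symm
  calc (λ_ (F.obj X)).inv ≫ b ▷ F.obj X ≫ (λ_ (F.obj X)).hom
      = (λ_ (F.obj X)).inv ≫ (b ≫ ε F) ▷ F.obj X ≫ μ F (𝟙_ C) X ≫ F.map (λ_ X).hom := by
        rw [left_unitality, comp_whiskerRight, Category.assoc]
    _ = (λ_ (F.obj X)).inv ≫ ε F ▷ F.obj X ≫ (F.map a ▷ F.obj X ≫ μ F (𝟙_ C) X) ≫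
          F.map (λ_ X).hom := by
        rw [← hab, comp_whiskerRight, Category.assoc, Category.assoc]
    _ = ((λ_ (F.obj X)).inv ≫ ε F ▷ F.obj X ≫ μ F (𝟙_ C) X) ≫ F.map (a ▷ X) ≫
          F.map (λ_ X).hom := by
        rw [μ_natural_left]
        simp only [Category.assoc]
    _ = F.map ((λ_ X).inv ≫ a ▷ X ≫ (λ_ X).hom) := by
        rw [left_unitality_inv, F.map_comp, F.map_comp]

open CategoryTheory MonoidalCategory in
/-- Let C and D be Picard categories (monoidal groupoids in which tensoring on either side with any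
object is an equivalence of categories) and F : C ⥤ D a lax monoidal functor. If F induces a
bijection on isomorphism classes of objects (it is essentially surjective, and F X ≅ F Y only when X
≅ Y) and a bijection on endomorphisms of the unit object, then F is an equivalence of categories. -/
theorem result
    {C : Type u} [Category.{v} C] [MonoidalCategory C] [IsGroupoid C]
    {D : Type u'} [Category.{v'} D] [MonoidalCategory D] [IsGroupoid D]
    (hC : ∀ X : C, (tensorLeft X).IsEquivalence ∧ (tensorRight X).IsEquivalence)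
    (hD : ∀ X : D, (tensorLeft X).IsEquivalence ∧ (tensorRight X).IsEquivalence)
    (F : C ⥤ D) [F.LaxMonoidal] [F.EssSurj]
    (h0 : ∀ X Y : C, Nonempty (F.obj X ≅ F.obj Y) → Nonempty (X ≅ Y))
    (h1 : Function.Bijective (fun φ : 𝟙_ C ⟶ 𝟙_ C => F.map φ)) :
    F.IsEquivalence := by
  have hendo_inj : ∀ X : C, Function.Injective (fun φ : X ⟶ X => F.map φ) := by
    intro X φ φ' hφ
    obtain ⟨a, rfl⟩ := (act_bijective X (hC X).2).2 φ
    obtain ⟨a', rfl⟩ := (act_bijective X (hC X).2).2 φ'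
    have h2 : F.map (act X a) = F.map (act X a') := hφ
    rw [map_act F X a (Functor.LaxMonoidal.ε F ≫ F.map a ≫ inv (Functor.LaxMonoidal.ε F)) (by simp),
      map_act F X a' (Functor.LaxMonoidal.ε F ≫ F.map a' ≫ inv (Functor.LaxMonoidal.ε F)) (by simp)]
      at h2
    have h3 := (act_bijective (F.obj X) (hD (F.obj X)).2).1 h2
    have h4 : F.map a = F.map a' := by
      have := congrArg (fun ψ => inv (Functor.LaxMonoidal.ε F) ≫ ψ ≫ Functor.LaxMonoidal.ε F) h3
      simpa using this
    rw [h1.1 h4]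
  have hendo_surj : ∀ X : C, Function.Surjective (fun φ : X ⟶ X => F.map φ) := by
    intro X ψ
    obtain ⟨b, rfl⟩ := (act_bijective (F.obj X) (hD (F.obj X)).2).2 ψ
    obtain ⟨a, ha⟩ := h1.2 (inv (Functor.LaxMonoidal.ε F) ≫ b ≫ Functor.LaxMonoidal.ε F)
    refine ⟨act X a, ?_⟩
    have ha' : F.map a = inv (Functor.LaxMonoidal.ε F) ≫ b ≫ Functor.LaxMonoidal.ε F := ha
    exact map_act F X a b (by rw [ha']; simp)
  haveI : F.Faithful := ⟨by
    intro X Y f f' hff
    have h2 : F.map (f ≫ inv f') = F.map (𝟙 X) := by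
      rw [F.map_comp, hff, ← F.map_comp, IsIso.hom_inv_id]
    have h3 := hendo_inj X h2
    have : f = (f ≫ inv f') ≫ f' := by simp
    rw [this, h3, Category.id_comp]⟩
  haveI : F.Full := ⟨by
    intro X Y g
    obtain ⟨g₀⟩ := h0 X Y ⟨asIso g⟩
    obtain ⟨h, hh⟩ := hendo_surj X (g ≫ inv (F.map g₀.hom))
    refine ⟨h ≫ g₀.hom, ?_⟩
    have hh' : F.map h = g ≫ inv (F.map g₀.hom) := hh
    rw [F.map_comp, hh']
    simp⟩
  exact { }

end Groth.Agent.S15285
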