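import Groth.Statements.S15286
import Groth.Agent.S15285
-- import your own Groth.Agent.* helpers here

set_option autoImplicit false
universe v v' u u'
open PicCat

namespace Groth.Agent.S15286


open CategoryTheory MonoidalCategory Groth.Agent.S15285

variable {M : Type*} [Category M] [MonoidalCategory M]

theorem act_naturality {A B : M} (g : A ⟶ B) (c : 𝟙_ M ⟶ 𝟙_ M) : act A c ≫ g = g ≫ act B c := by
  unfold act
  rw [Category.assoc, Category.assoc, ← leftUnitor_naturality, ← whisker_exchange_assoc,
    leftUnitor_inv_naturality_assoc]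

theorem act_comp (A : M) (c c' : 𝟙_ M ⟶ 𝟙_ M) : act A (c ≫ c') = act A c ≫ act A c' := by
  unfold act
  simp

theorem act_id (A : M) : act A (𝟙 _) = 𝟙 A := by
  unfold act
  simp

theorem act_whiskerRight (A B : M) (c : 𝟙_ M ⟶ 𝟙_ M) : act A c ▷ B = act (A ⊗ B) c := by
  unfold act
  monoidal

theorem act_eq_right [BraidedCategory M] (A : M) (c : 𝟙_ M ⟶ 𝟙_ M) :
    act A c = (ρ_ A).inv ≫ A ◁ c ≫ (ρ_ A).hom := by
  unfold act
  have h1 := BraidedCategory.braiding_naturality_left c A
  -- c ▷ A ≫ β = β ≫ A ◁ c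
  have h2 : (β_ (𝟙_ M) A).hom = (λ_ A).hom ≫ (ρ_ A).inv := braiding_tensorUnit_left A
  rw [h2] at h1
  have : c ▷ A = (λ_ A).hom ≫ (ρ_ A).inv ≫ A ◁ c ≫ (ρ_ A).hom ≫ (λ_ A).inv := by
    have := congrArg (fun φ => φ ≫ (ρ_ A).hom ≫ (λ_ A).inv) h1
    simpa using this
  rw [this]
  simp

theorem whiskerLeft_act [BraidedCategory M] (A B : M) (c : 𝟙_ M ⟶ 𝟙_ M) :
    A ◁ act B c = act (A ⊗ B) c := by
  rw [← act_whiskerRight, act_eq_right A c]
  unfold act
  monoidal

theorem act_tensor [BraidedCategory M] (A B : M) (c c' : 𝟙_ M ⟶ 𝟙_ M) :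
    act A c ⊗ₘ act B c' = act (A ⊗ B) (c ≫ c') := by
  rw [MonoidalCategory.tensorHom_def, act_whiskerRight, whiskerLeft_act, act_comp]


theorem act_tensor' [BraidedCategory M] (A B : M) (c c' : 𝟙_ M ⟶ 𝟙_ M) :
    act A c ⊗ₘ act B c' = act (A ⊗ B) (c' ≫ c) := by
  rw [MonoidalCategory.tensorHom_def', act_whiskerRight, whiskerLeft_act, act_comp]

open CategoryTheory MonoidalCategory in
/-- Let C be a Picard category, D a commutative (braided) Picard category, F, G : C ⥤ D lax monoidal
functors and θ₀ : F ⟶ G a monoidal natural transformation. Identify an endomorphism φ of the unit of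
D with the automorphism λ⁻¹ ≫ (φ ▷ Z) ≫ λ of any object Z. Then the monoidal natural transformations
F ⟶ G form a torsor under the monoid homomorphisms χ from the monoid of isomorphism classes of C to
End(𝟙_D): every monoidal θ : F ⟶ G is X ↦ θ₀_X ≫ (action of χ[X] on G X) for a unique such χ, and
for every χ this formula defines a monoidal natural transformation. (The published statement allows
D non-commutative; for a non-braided monoidal groupoid the classes so obtained are crossed rather
than plain homomorphisms, so D is taken braided here.) -/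
theorem result
    {C : Type u} [Category.{v} C] [MonoidalCategory C] [IsGroupoid C]
    {D : Type u'} [Category.{v'} D] [MonoidalCategory D] [BraidedCategory D] [IsGroupoid D]
    (hC : ∀ X : C, (tensorLeft X).IsEquivalence ∧ (tensorRight X).IsEquivalence)
    (hD : ∀ X : D, (tensorLeft X).IsEquivalence ∧ (tensorRight X).IsEquivalence)
    (F G : C ⥤ D) [F.LaxMonoidal] [G.LaxMonoidal] (θ₀ : F ⟶ G) [NatTrans.IsMonoidal θ₀] :
    (∀ θ : F ⟶ G, NatTrans.IsMonoidal θ →
      ∃! χ : Skeleton C →* End (𝟙_ D), ∀ X : C,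
        θ.app X = θ₀.app X ≫ (λ_ (G.obj X)).inv ≫
          ((χ (toSkeleton X) : 𝟙_ D ⟶ 𝟙_ D) ▷ G.obj X) ≫ (λ_ (G.obj X)).hom) ∧
    (∀ χ : Skeleton C →* End (𝟙_ D), ∃ θ : F ⟶ G, NatTrans.IsMonoidal θ ∧ ∀ X : C,
        θ.app X = θ₀.app X ≫ (λ_ (G.obj X)).inv ≫
          ((χ (toSkeleton X) : 𝟙_ D ⟶ 𝟙_ D) ▷ G.obj X) ≫ (λ_ (G.obj X)).hom) := by
  have hactinj : ∀ (A : D), Function.Injective (act A) := fun A => (act_bijective A (hD A).2).1
  constructor
  · intro θ hθ
    -- the class of `θ` relative to `θ₀` at each object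
    choose c hc using fun X => (act_bijective (G.obj X) (hD (G.obj X)).2).2
      (inv (θ₀.app X) ≫ θ.app X)
    have hc' : ∀ X, θ₀.app X ≫ act (G.obj X) (c X) = θ.app X := by
      intro X
      rw [hc X, IsIso.hom_inv_id_assoc]
    -- a criterion to identify `c X`
    have hcrit : ∀ (X : C) (b : 𝟙_ D ⟶ 𝟙_ D), θ₀.app X ≫ act (G.obj X) b = θ.app X → b = c X := by
      intro X b hb
      apply hactinj (G.obj X)
      rw [hc X, ← hb, IsIso.inv_hom_id_assoc]
    -- invariance under isomorphism
    have hiso : ∀ {X Y : C} (f : X ⟶ Y), c Y = c X := by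
      intro X Y f
      apply hcrit
      rw [← cancel_mono (G.map f), Category.assoc, act_naturality, ← Category.assoc,
        ← θ₀.naturality, Category.assoc, hc', θ.naturality]
    -- multiplicativity
    have hmul : ∀ X Y : C, c (X ⊗ Y) = c Y ≫ c X := by
      intro X Y
      symm
      apply hcrit
      rw [← cancel_epi (Functor.LaxMonoidal.μ F X Y), NatTrans.IsMonoidal.tensor_assoc,
        ← act_naturality (Functor.LaxMonoidal.μ G X Y), ← act_tensor',
        tensorHom_comp_tensorHom_assoc, hc', hc', NatTrans.IsMonoidal.tensor]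
    have hone : c (𝟙_ C) = 𝟙 _ := by
      symm
      apply hcrit
      rw [act_id, Category.comp_id, ← cancel_epi (Functor.LaxMonoidal.ε F),
        NatTrans.IsMonoidal.unit, NatTrans.IsMonoidal.unit]
    have hsk : ∀ X : C, c ((fromSkeleton C).obj (toSkeleton X)) = c X :=
      fun X => (hiso (fromSkeletonToSkeletonIso X).hom).symm
    let χ : Skeleton C →* End (𝟙_ D) :=
      { toFun := fun s => c ((fromSkeleton C).obj s)
        map_one' := by
          rw [Skeleton.one_eq, hsk, hone]
          rfl
        map_mul' := by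
          intro s s'
          rw [Skeleton.mul_eq, hsk, End.mul_def]
          exact hmul _ _ }
    have hχ : ∀ X : C, χ (toSkeleton X) = c X := fun X => hsk X
    refine ⟨χ, ?_, ?_⟩
    · intro X
      change θ.app X = θ₀.app X ≫ act (G.obj X) (χ (toSkeleton X))
      rw [hχ, hc']
    · intro χ' hχ'
      apply MonoidHom.ext
      intro s
      rw [← toSkeleton_fromSkeleton_obj s, hχ]
      apply hcrit
      exact (hχ' _).symm
  · intro χ
    let θ : F ⟶ G :=
      { app := fun X => θ₀.app X ≫ act (G.obj X) (χ (toSkeleton X))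
        naturality := by
          intro X Y f
          have hXY : toSkeleton X = toSkeleton Y :=
            toSkeleton_eq_toSkeleton_iff.mpr ⟨asIso f⟩
          rw [hXY, Category.assoc, act_naturality, ← Category.assoc, θ₀.naturality,
            Category.assoc] }
    have hθ : ∀ X, θ.app X = θ₀.app X ≫ act (G.obj X) (χ (toSkeleton X)) := fun X => rfl
    refine ⟨θ, ⟨?_, ?_⟩, fun X => rfl⟩
    · rw [hθ, ← Skeleton.one_eq, map_one]
      have : (1 : End (𝟙_ D)) = 𝟙 (𝟙_ D) := rfl
      rw [this, act_id, Category.comp_id, NatTrans.IsMonoidal.unit]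
    · intro X Y
      rw [hθ, hθ, hθ, Skeleton.toSkeleton_tensorObj, map_mul, End.mul_def,
        ← tensorHom_comp_tensorHom, act_tensor', Category.assoc,
        act_naturality (Functor.LaxMonoidal.μ G X Y), NatTrans.IsMonoidal.tensor_assoc]

end Groth.Agent.S15286
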