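import Groth.Statements.S15287
import Mathlib
import Groth.Agent.Lib.Helper11.GenPoints

set_option autoImplicit false
universe u
open CategoryTheory AlgebraicGeometry
open PicF

namespace Groth.Agent.S15287

/-- Let Y be a scheme proper over a field k carrying an ample invertible O_Y-module A, let L be an
invertible O_Y-module and y_1, …, y_m finitely many points of Y. Then there is N₀ such that for
every N ≥ N₀ the module L ⊗ A^{⊗ N} has a global section generating it at every y_i (each y_i lies
in the largest open over which the section is a basis). (The published statement takes Y projective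
over k and A very ample; this row takes Y proper over k and A ample.) -/
theorem result
    (k : Type u) [Field k] (Y : Scheme.{u}) (f : Y ⟶ Spec (CommRingCat.of k)) [IsProper f]
    (A : Y.Modules) (hA : CohB1.IsAmple A) (L : Y.Modules) (hL : PicF.IsInvertible L)
    (ι : Type) [Finite ι] (y : ι → ↥Y) :
    ∃ N₀ : ℕ, ∀ N : ℕ, N₀ ≤ N →
      ∃ s : Coh.structureModule Y ⟶ CohB1.tensorMod L (CohB1.tensorPow A N),
        ∀ i : ι, y i ∈ CohB1.genLocus (CohB1.tensorMod L (CohB1.tensorPow A N)) s := by
  have : CompactSpace Y := QuasiCompact.compactSpace_of_compactSpace f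
  obtain ⟨N₀, h⟩ := Groth.Agent.Lib.Helper11.GenLocus.exists_sections_generating_finite hA L hL
    (Set.range y) (Set.finite_range y)
  refine ⟨N₀, fun N hN => ?_⟩
  obtain ⟨s, hs⟩ := h N hN
  exact ⟨s, fun i => hs ⟨i, rfl⟩⟩

end Groth.Agent.S15287
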