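import Groth.Statements.S1529
import Mathlib.AlgebraicGeometry.Artinian
import Mathlib.AlgebraicGeometry.Limits
import Mathlib.AlgebraicGeometry.Morphisms.Finite
import Mathlib.RingTheory.Jacobson.Artinian

set_option autoImplicit false
universe u
open CategoryTheory CategoryTheory.Limits AlgebraicGeometry
open Variety

namespace Groth.Agent.S1529

/-- A scheme with exactly one point is affine. -/
theorem isAffine_of_subsingleton (X : Scheme.{u}) [Subsingleton X] [Nonempty X] : IsAffine X := by
  obtain ⟨x⟩ := ‹Nonempty X›
  obtain ⟨_, ⟨V, hV, rfl⟩, hxV, -⟩ :=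
    X.isBasis_affineOpens.exists_subset_of_mem_open (Set.mem_univ x) isOpen_univ
  have : V = ⊤ := by
    rw [eq_top_iff]
    intro y _
    rwa [Subsingleton.elim y x]
  rw [this] at hV
  have : IsAffine (⊤ : X.Opens).toScheme := hV
  exact IsAffine.of_isIso X.topIso.inv

/-- A scheme whose underlying space is finite and discrete is affine. -/
theorem isAffine_of_finite_discrete (X : Scheme.{u}) [Finite X] [DiscreteTopology X] :
    IsAffine X := by
  let U : X → X.Opens := fun x => ⟨{x}, isOpen_discrete _⟩
  have hsub : ∀ x, Subsingleton (U x : Scheme.{u}) := fun x =>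
    ⟨fun a b => Subtype.ext (a.2.trans b.2.symm)⟩
  have hne : ∀ x, Nonempty (U x : Scheme.{u}) := fun x => ⟨⟨x, rfl⟩⟩
  have haff : ∀ x, IsAffine (U x : Scheme.{u}) := fun x => isAffine_of_subsingleton _
  obtain ⟨hcolim⟩ := nonempty_isColimit_cofanMk_of (fun x => (U x).ι)
    (by
      rw [eq_top_iff]
      intro x _
      simp only [Scheme.Opens.opensRange_ι, TopologicalSpace.Opens.mem_iSup]
      exact ⟨x, rfl⟩)
    (by
      intro x y hxy
      simp only [Function.onFun, Scheme.Opens.opensRange_ι]
      rw [disjoint_iff]
      ext z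
      simp only [TopologicalSpace.Opens.coe_inf, Set.mem_inter_iff, SetLike.mem_coe,
        TopologicalSpace.Opens.coe_bot, Set.mem_empty_iff_false, iff_false, not_and]
      intro h1 h2
      exact hxy ((show z = x from h1).symm.trans (show z = y from h2)))
  let e : (∐ fun x => (U x : Scheme.{u})) ≅ X :=
    (colimit.isColimit _).coconePointUniqueUpToIso hcolim
  exact IsAffine.of_isIso e.inv

/-- A scheme of finite type over a field whose underlying topological space has Krull dimension at most
zero is affine, and its structure morphism is finite. -/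
theorem result (k : Type u) [Field k] (X : Scheme.{u}) [X.Over (Spec (CommRingCat.of k))]
    [LocallyOfFiniteType (X ↘ (Spec (CommRingCat.of k)))] [QuasiCompact (X ↘ (Spec (CommRingCat.of k)))]
    (hdim : topologicalKrullDim X ≤ 0) :
    IsAffine X ∧ IsFinite (X ↘ (Spec (CommRingCat.of k))) := by
  have hN : IsLocallyNoetherian X :=
    LocallyOfFiniteType.isLocallyNoetherian (X ↘ (Spec (CommRingCat.of k)))
  have hA : IsLocallyArtinian X := IsLocallyArtinian.of_topologicalKrullDim_le_zero hdim
  have hc : CompactSpace X :=
    (quasiCompact_iff_compactSpace (f := X ↘ (Spec (CommRingCat.of k)))).mp inferInstance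
  have hfin : Finite X := finite_of_compact_of_discrete
  have haff : IsAffine X := isAffine_of_finite_discrete X
  refine ⟨haff, ?_⟩
  rw [HasAffineProperty.iff_of_isAffine (P := @IsFinite)]
  refine ⟨haff, ?_⟩
  have hft : (X ↘ (Spec (CommRingCat.of k))).appTop.hom.FiniteType :=
    (HasRingHomProperty.iff_of_isAffine (P := @LocallyOfFiniteType)).mp inferInstance
  have hart : IsArtinianRing Γ(X, ⊤) := inferInstance
  have hJ : IsJacobsonRing Γ(Spec (CommRingCat.of k), ⊤) :=
    (isJacobsonRing_iso (Scheme.ΓSpecIso (CommRingCat.of k)).commRingCatIsoToRingEquiv).mpr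
      (inferInstanceAs (IsJacobsonRing k))
  algebraize [(X ↘ (Spec (CommRingCat.of k))).appTop.hom]
  show Module.Finite Γ(Spec (CommRingCat.of k), ⊤) Γ(X, ⊤)
  exact Module.finite_of_isArtinianRing _ _

end Groth.Agent.S1529
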