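import Groth.Statements.S15292
import Mathlib

set_option autoImplicit false
universe u
open DeRham

namespace Groth.Agent.S15292

open exteriorPower in
/-- Generators `a • (db₁ ∧ … ∧ db_p)` span additively. -/
theorem induction_gen (R A : Type u) [CommRing R] [CommRing A] [Algebra R A] (p : ℕ)
    (K : Submodule R ↥(⋀[A]^p (Ω[A⁄R])))
    (hK : ∀ (b₀ : A) (b : Fin p → A), DeRham.gen (KaehlerDifferential.D R A) p b₀ b ∈ K)
    (x : ↥(⋀[A]^p (Ω[A⁄R]))) : x ∈ K := by
  have hs : Submodule.span A (Set.range (KaehlerDifferential.D R A)) = ⊤ :=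
    KaehlerDifferential.span_range_derivation R A
  have hx : x ∈ Submodule.span A (ιMulti A p '' {a : Fin p → Ω[A⁄R] |
      Set.range a ⊆ Set.range (KaehlerDifferential.D R A)}) := by
    rw [ιMulti_span_of_span A p (Ω[A⁄R]) hs]; trivial
  suffices h : ∀ a' : A, a' • x ∈ K by simpa using h 1
  induction hx using Submodule.span_induction with
  | mem x hx =>
    obtain ⟨a, ha, rfl⟩ := hx
    choose b hb using fun i => ha (Set.mem_range_self i)
    intro a'
    have : a = fun i => KaehlerDifferential.D R A (b i) := funext fun i => (hb i).symm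
    rw [this]
    exact hK a' b
  | zero => intro a'; rw [smul_zero]; exact K.zero_mem
  | add x y _ _ hx hy => intro a'; rw [smul_add]; exact K.add_mem (hx a') (hy a')
  | smul c x _ hx => intro a'; rw [smul_smul]; exact hx _

open exteriorPower in
/-- Let R → A be a ring map and d a family of R-linear maps from p-forms to (p+1)-forms on the exterior
powers of the Kähler differentials of A over R, p ≥ 0, satisfying the de Rham rule d(b₀ db₁ ∧ … ∧
db_p) = db₀ ∧ db₁ ∧ … ∧ db_p for all p and all bᵢ in A. Then the composite of two consecutive d is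
zero in every degree; together with the rule this says that d is a de Rham differential of the
Kähler differentials. -/
theorem result (R A : Type u) [CommRing R] [CommRing A] [Algebra R A]
    (d : ∀ p : ℕ, ↥(⋀[A]^p (Ω[A⁄R])) →ₗ[R] ↥(⋀[A]^(p + 1) (Ω[A⁄R])))
    (hd : DeRham.IsRule (KaehlerDifferential.D R A) d) :
    DeRham.IsDiff (KaehlerDifferential.D R A) d := by
  refine ⟨hd, fun p => ?_⟩
  refine LinearMap.ext fun x => ?_
  show (d (p + 1) ∘ₗ d p) x = 0
  rw [← LinearMap.mem_ker]
  refine induction_gen R A p _ (fun b₀ b => ?_) x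
  rw [LinearMap.mem_ker, LinearMap.comp_apply, hd p b₀ b]
  have h1 : ιMulti A (p + 1) (Fin.cons (KaehlerDifferential.D R A b₀)
      (fun i => KaehlerDifferential.D R A (b i))) =
      DeRham.gen (KaehlerDifferential.D R A) (p + 1) 1 (Fin.cons b₀ b) := by
    unfold DeRham.gen
    rw [one_smul]
    congr 1
    funext i
    refine Fin.cases ?_ (fun j => ?_) i <;> simp
  rw [h1, hd (p + 1) 1 (Fin.cons b₀ b)]
  have h2 : (Fin.cons (KaehlerDifferential.D R A 1)
      (fun i => KaehlerDifferential.D R A ((Fin.cons b₀ b : Fin (p + 1) → A) i)) :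
      Fin (p + 1 + 1) → Ω[A⁄R]) 0 = 0 := by
    simp
  exact (ιMulti A (p + 1 + 1)).map_coord_zero 0 h2

end Groth.Agent.S15292
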