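import Groth.Statements.S15293
import Mathlib

set_option autoImplicit false
universe u
open DeRham

namespace Groth.Agent.S15293

open exteriorPower in
/-- For a commutative square of ring maps R → A → B, R → S → B (B an algebra over R, A and S
compatibly), there is a family of additive maps ψ_p from the p-forms of A over R to the p-forms of B
over S, p ≥ 0, which is the map of de Rham complexes induced by the square: ψ_p sends b₀ db₁ ∧ … ∧
db_p to g(b₀) d(g b₁) ∧ … ∧ d(g b_p), where g : A → B is the structure map. In degree 0 this is g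
and in degree 1 the induced map on Kähler differentials. -/
theorem result (R S A B : Type u) [CommRing R] [CommRing S] [CommRing A] [CommRing B]
    [Algebra R S] [Algebra R A] [Algebra R B] [Algebra A B] [Algebra S B]
    [IsScalarTower R A B] [IsScalarTower R S B] :
    ∃ ψ : ∀ p : ℕ, ↥(⋀[A]^p (Ω[A⁄R])) →+ ↥(⋀[B]^p (Ω[B⁄S])),
      DeRham.IsCxMap (KaehlerDifferential.D R A) (KaehlerDifferential.D S B) (algebraMap A B) ψ := by
  have hcomm : SMulCommClass S A B := ⟨fun s a b => by
    rw [Algebra.smul_def, Algebra.smul_def, Algebra.smul_def, Algebra.smul_def, mul_left_comm]⟩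
  let f : Ω[A⁄R] →ₗ[A] Ω[B⁄S] := KaehlerDifferential.map R S A B
  have hf : ∀ x : A, f (KaehlerDifferential.D R A x) = KaehlerDifferential.D S B (algebraMap A B x) :=
    fun x => KaehlerDifferential.map_D R S A B x
  have htower : ∀ p : ℕ, IsScalarTower A B ↥(⋀[B]^p (Ω[B⁄S])) := fun p => Submodule.isScalarTower' _
  let m : ∀ p : ℕ, (Ω[B⁄S]) [⋀^Fin p]→ₗ[A] ↥(⋀[B]^p (Ω[B⁄S])) := fun p =>
    { (ιMulti B p (M := Ω[B⁄S])).toMultilinearMap.restrictScalars A with
      map_eq_zero_of_eq' := fun v i j h hij => (ιMulti B p (M := Ω[B⁄S])).map_eq_zero_of_eq v h hij }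
  let ψ : ∀ p : ℕ, ↥(⋀[A]^p (Ω[A⁄R])) →ₗ[A] ↥(⋀[B]^p (Ω[B⁄S])) := fun p =>
    alternatingMapLinearEquiv ((m p).compLinearMap f)
  refine ⟨fun p => (ψ p).toAddMonoidHom, fun p b₀ b => ?_⟩
  show ψ p (b₀ • ιMulti A p (fun i => KaehlerDifferential.D R A (b i))) =
    algebraMap A B b₀ • ιMulti B p (fun i => KaehlerDifferential.D S B (algebraMap A B (b i)))
  rw [map_smul, alternatingMapLinearEquiv_apply_ιMulti, algebraMap_smul]
  congr 1
  show ιMulti B p (fun i => f (KaehlerDifferential.D R A (b i))) = _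
  simp only [hf]

end Groth.Agent.S15293
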