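import Groth.Statements.S15294
import Mathlib

set_option autoImplicit false
universe u
open DeRham

namespace Groth.Agent.S15294

open exteriorPower in
/-- Generators `a • (db₁ ∧ … ∧ db_p)` span additively. -/
theorem induction_gen_add (R A : Type u) [CommRing R] [CommRing A] [Algebra R A] (p : ℕ)
    (K : AddSubgroup ↥(⋀[A]^p (Ω[A⁄R])))
    (hK : ∀ (b₀ : A) (b : Fin p → A), DeRham.gen (KaehlerDifferential.D R A) p b₀ b ∈ K)
    (x : ↥(⋀[A]^p (Ω[A⁄R]))) : x ∈ K := by
  have hs : Submodule.span A (Set.range (KaehlerDifferential.D R A)) = ⊤ :=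
    KaehlerDifferential.span_range_derivation R A
  have hx : x ∈ Submodule.span A (ιMulti A p '' {a : Fin p → Ω[A⁄R] |
      Set.range a ⊆ Set.range (KaehlerDifferential.D R A)}) := by
    rw [ιMulti_span_of_span A p (Ω[A⁄R]) hs]; trivial
  suffices h : ∀ a' : A, a' • x ∈ K by simpa using h 1
  induction hx using Submodule.span_induction with
  | mem x hx =>
    obtain ⟨a, ha, rfl⟩ := hx
    choose b hb using fun i => ha (Set.mem_range_self i)
    intro a'
    have : a = fun i => KaehlerDifferential.D R A (b i) := funext fun i => (hb i).symm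
    rw [this]
    exact hK a' b
  | zero => intro a'; rw [smul_zero]; exact K.zero_mem
  | add x y _ _ hx hy => intro a'; rw [smul_add]; exact K.add_mem (hx a') (hy a')
  | smul c x _ hx => intro a'; rw [smul_smul]; exact hx _

open exteriorPower in
/-- The map of de Rham complexes attached to a square of ring maps is compatible with the differentials.
Precisely: let R → A and S → B be ring maps with B an algebra over A (and over R, compatibly), let d
and d' be de Rham differentials of the Kähler differentials of A over R and of B over S, and let ψ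
be a family of additive maps from p-forms of A over R to p-forms of B over S which is the induced
map for the structure map g : A → B, sending b₀ db₁ ∧ … ∧ db_p to g(b₀) d(g b₁) ∧ … ∧ d(g b_p). Then
ψ in degree p+1 composed with d equals d' composed with ψ in degree p. (The published statement is
for a commutative square of ring maps R → S, A → B; once the family ψ is given the conclusion holds
for any ring maps, the square being needed only to produce ψ.) -/
theorem result (R S A B : Type u) [CommRing R] [CommRing S] [CommRing A] [CommRing B]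
    [Algebra R A] [Algebra S B] [Algebra A B] [Algebra R B] [IsScalarTower R A B]
    (d : ∀ p : ℕ, ↥(⋀[A]^p (Ω[A⁄R])) →ₗ[R] ↥(⋀[A]^(p + 1) (Ω[A⁄R])))
    (hd : DeRham.IsDiff (KaehlerDifferential.D R A) d)
    (d' : ∀ p : ℕ, ↥(⋀[B]^p (Ω[B⁄S])) →ₗ[S] ↥(⋀[B]^(p + 1) (Ω[B⁄S])))
    (hd' : DeRham.IsDiff (KaehlerDifferential.D S B) d')
    (ψ : ∀ p : ℕ, ↥(⋀[A]^p (Ω[A⁄R])) →+ ↥(⋀[B]^p (Ω[B⁄S])))
    (hψ : DeRham.IsCxMap (KaehlerDifferential.D R A) (KaehlerDifferential.D S B) (algebraMap A B) ψ)
    (p : ℕ) (x : ↥(⋀[A]^p (Ω[A⁄R]))) :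
    ψ (p + 1) (d p x) = d' p (ψ p x) := by
  let K : AddSubgroup ↥(⋀[A]^p (Ω[A⁄R])) :=
    { carrier := {x | ψ (p + 1) (d p x) = d' p (ψ p x)}
      add_mem' := by
        intro x y hx hy
        simp only [Set.mem_ofPred_eq] at hx hy ⊢
        rw [map_add, map_add, map_add, map_add, hx, hy]
      zero_mem' := by simp
      neg_mem' := by
        intro x hx
        simp only [Set.mem_ofPred_eq] at hx ⊢
        rw [map_neg, map_neg, map_neg, map_neg, hx] }
  suffices h : x ∈ K from h
  refine induction_gen_add R A p K (fun b₀ b => ?_) x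
  show ψ (p + 1) (d p (gen _ p b₀ b)) = d' p (ψ p (gen _ p b₀ b))
  rw [hd.1 p b₀ b, hψ p b₀ b, hd'.1 p]
  have h1 : ιMulti A (p + 1) (Fin.cons (KaehlerDifferential.D R A b₀)
      (fun i => KaehlerDifferential.D R A (b i))) =
      DeRham.gen (KaehlerDifferential.D R A) (p + 1) 1 (Fin.cons b₀ b) := by
    unfold DeRham.gen
    rw [one_smul]
    congr 1
    funext i
    refine Fin.cases ?_ (fun j => ?_) i <;> simp
  rw [h1, hψ (p + 1) 1 (Fin.cons b₀ b)]
  unfold DeRham.gen
  rw [map_one, one_smul]
  congr 1
  funext i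
  refine Fin.cases ?_ (fun j => ?_) i <;> simp

end Groth.Agent.S15294
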