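import Groth.Statements.S15295
import Groth.Agent.S15294
import Groth.Agent.H46.ExtPowBaseChange

set_option autoImplicit false
universe u
open DeRham

namespace Groth.Agent.S15295

open exteriorPower TensorProduct in
/-- The de Rham complex commutes with base change. Let R → A and R → S be ring maps and B = S ⊗_R A (an
R-algebra over A and S with the pushout property), and let ψ be the induced map of de Rham complexes
from the p-forms of A over R to the p-forms of B over S (additive maps sending b₀ db₁ ∧ … ∧ db_p to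
g(b₀) d(g b₁) ∧ … ∧ d(g b_p), g : A → B the structure map). Then in each degree p the S-linear
extension S ⊗_R ⋀^p Ω_{A/R} → ⋀^p Ω_{B/S}, s ⊗ x ↦ s · ψ_p(x), is bijective. (This row states the
degreewise bijectivity, with the base change written S ⊗_R − rather than − ⊗_R S; the compatibility
of ψ with the differentials, which makes this an isomorphism of complexes, holds for any square of
ring maps.) -/
theorem result (R S A B : Type u) [CommRing R] [CommRing S] [CommRing A] [CommRing B]
    [Algebra R S] [Algebra R A] [Algebra R B] [Algebra A B] [Algebra S B]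
    [IsScalarTower R A B] [IsScalarTower R S B] [Algebra.IsPushout R S A B]
    (ψ : ∀ p : ℕ, ↥(⋀[A]^p (Ω[A⁄R])) →+ ↥(⋀[B]^p (Ω[B⁄S])))
    (hψ : DeRham.IsCxMap (KaehlerDifferential.D R A) (KaehlerDifferential.D S B) (algebraMap A B) ψ)
    (p : ℕ) (Φ : S ⊗[R] ↥(⋀[A]^p (Ω[A⁄R])) →+ ↥(⋀[B]^p (Ω[B⁄S])))
    (hΦ : ∀ (s : S) (x : ↥(⋀[A]^p (Ω[A⁄R]))), Φ (s ⊗ₜ[R] x) = s • ψ p x) :
    Function.Bijective Φ := by
  have hcomm : SMulCommClass S A B := ⟨fun s a b => by
    rw [Algebra.smul_def, Algebra.smul_def, Algebra.smul_def, Algebra.smul_def, mul_left_comm]⟩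
  let f : Ω[A⁄R] →ₗ[A] Ω[B⁄S] := KaehlerDifferential.map R S A B
  have hfD : ∀ a : A, f (KaehlerDifferential.D R A a) = KaehlerDifferential.D S B (algebraMap A B a) :=
    fun a => KaehlerDifferential.map_D R S A B a
  have hbc : IsBaseChange B f := by
    apply IsBaseChange.of_equiv (KaehlerDifferential.tensorKaehlerEquiv R S A B)
    let L1 : Ω[A⁄R] →ₗ[A] Ω[B⁄S] :=
      ((KaehlerDifferential.tensorKaehlerEquiv R S A B).toLinearMap.restrictScalars A) ∘ₗ
        (TensorProduct.mk A B (Ω[A⁄R]) 1)
    have h12 : L1 = f := by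
      apply Derivation.liftKaehlerDifferential_unique
      ext a
      show KaehlerDifferential.tensorKaehlerEquiv R S A B ((1 : B) ⊗ₜ KaehlerDifferential.D R A a) =
        f (KaehlerDifferential.D R A a)
      rw [KaehlerDifferential.tensorKaehlerEquiv_tmul_D, one_smul, hfD]
    intro ω
    exact LinearMap.congr_fun h12 ω
  have hbij := Groth.Agent.H46.ExtBC.bcMap_bijective hbc p
  have hψ' : ∀ x, ψ p x = Groth.Agent.H46.ExtBC.extMap A B f p x := by
    intro x
    let K : AddSubgroup ↥(⋀[A]^p (Ω[A⁄R])) :=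
      { carrier := {x | ψ p x = Groth.Agent.H46.ExtBC.extMap A B f p x}
        add_mem' := by
          intro x y hx hy
          simp only [Set.mem_ofPred_eq] at hx hy ⊢
          rw [map_add, map_add, hx, hy]
        zero_mem' := by simp
        neg_mem' := by
          intro x hx
          simp only [Set.mem_ofPred_eq] at hx ⊢
          rw [map_neg, map_neg, hx] }
    suffices h : x ∈ K from h
    refine Groth.Agent.S15294.induction_gen_add R A p K (fun b₀ b => ?_) x
    show ψ p (gen _ p b₀ b) = Groth.Agent.H46.ExtBC.extMap A B f p (gen _ p b₀ b)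
    rw [hψ p b₀ b]
    unfold DeRham.gen
    rw [map_smul, Groth.Agent.H46.ExtBC.extMap_ιMulti]
    have : IsScalarTower A B ↥(⋀[B]^p (Ω[B⁄S])) := Submodule.isScalarTower' _
    rw [algebraMap_smul]
    congr 2
    funext i
    exact (hfD _).symm
  let c := (Algebra.IsPushout.cancelBaseChange R S A B ↥(⋀[A]^p (Ω[A⁄R]))).symm
  have hΦ' : ∀ t, Φ t = Groth.Agent.H46.ExtBC.bcMap A B f p (c t) := by
    intro t
    induction t with
    | zero => simp
    | add x y hx hy => rw [map_add, map_add, map_add, hx, hy]
    | tmul s x =>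
      rw [hΦ, hψ']
      show _ = Groth.Agent.H46.ExtBC.bcMap A B f p
        ((Algebra.IsPushout.cancelBaseChange R S A B ↥(⋀[A]^p (Ω[A⁄R]))).symm (s ⊗ₜ x))
      rw [Algebra.IsPushout.cancelBaseChange_symm_tmul, Groth.Agent.H46.ExtBC.bcMap_tmul,
        algebraMap_smul]
  have hfun : (Φ : _ → _) = Groth.Agent.H46.ExtBC.bcMap A B f p ∘ c := funext hΦ'
  rw [hfun]
  exact hbij.comp c.bijective

end Groth.Agent.S15295
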