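import Groth.Statements.S15296
import Groth.Agent.H46.DeRhamLeibniz
import Groth.Agent.H46.ExtPowKer

set_option autoImplicit false
universe u
open DeRham

namespace Groth.Agent.S15296

open exteriorPower in
/-- Let R → A be a ring map, π a surjective A-linear map from the Kähler differentials of A over R onto
an A-module Ω', δ = π ∘ d the induced derivation A → Ω', and d_A a de Rham differential of the
Kähler differentials. Suppose the kernel of π is generated over A by elements ω with π(ω) = 0 whose
differential d_A(ω) is killed by the second exterior power of π. Then the exterior powers of Ω' over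
A carry a de Rham differential for δ: a family of R-linear maps d from p-forms to (p+1)-forms with
d(f₀ δf₁ ∧ … ∧ δf_p) = δf₀ ∧ δf₁ ∧ … ∧ δf_p and d ∘ d = 0; moreover d is compatible with d_A through
the exterior powers of π. -/
theorem result (R A Ω' : Type u) [CommRing R] [CommRing A] [Algebra R A]
    [AddCommGroup Ω'] [Module A Ω'] [Module R Ω'] [IsScalarTower R A Ω']
    (π : Ω[A⁄R] →ₗ[A] Ω') (hπ : Function.Surjective π)
    (dA : ∀ p : ℕ, ↥(⋀[A]^p (Ω[A⁄R])) →ₗ[R] ↥(⋀[A]^(p + 1) (Ω[A⁄R])))
    (hdA : DeRham.IsDiff (KaehlerDifferential.D R A) dA)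
    (hker : LinearMap.ker π ≤ Submodule.span A {ω : Ω[A⁄R] | π ω = 0 ∧
      exteriorPower.map 2 π (dA 1 ((exteriorPower.oneEquiv A (Ω[A⁄R])).symm ω)) = 0}) :
    ∃ d : ∀ p : ℕ, ↥(⋀[A]^p Ω') →ₗ[R] ↥(⋀[A]^(p + 1) Ω'),
      DeRham.IsDiff (π.compDer (KaehlerDifferential.D R A)) d ∧
        ∀ (p : ℕ) (x : ↥(⋀[A]^p (Ω[A⁄R]))),
          d p (exteriorPower.map p π x) = exteriorPower.map (p + 1) π (dA p x) := by
  classical
  have tow : ∀ k, IsScalarTower R A ↥(⋀[A]^k Ω') := fun k => Submodule.isScalarTower' _
  let Z : ∀ p, Submodule A ↥(⋀[A]^p (Ω[A⁄R])) := fun p =>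
    { carrier := {x | ∀ a : A, exteriorPower.map (p + 1) π (dA p (a • x)) = 0}
      add_mem' := by
        intro x y hx hy a
        rw [smul_add, map_add, map_add, hx a, hy a, add_zero]
      zero_mem' := by
        intro a
        simp
      smul_mem' := by
        intro c x hx a
        rw [smul_smul]
        exact hx _ }
  have hZ : ∀ p (v : Fin p → Ω[A⁄R]), (∃ i, v i ∈ LinearMap.ker π) → ιMulti A p v ∈ Z p := by
    intro p v ⟨i, hi⟩
    cases p with
    | zero => exact i.elim0
    | succ k =>
      have stepB : ∀ n ∈ LinearMap.ker π, ∀ w : Fin k → Ω[A⁄R],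
          ιMulti A (k + 1) (Fin.cons n w) ∈ Z (k + 1) := by
        let T : Submodule A (Ω[A⁄R]) :=
          { carrier := {n | ∀ w : Fin k → Ω[A⁄R], ιMulti A (k + 1) (Fin.cons n w) ∈ Z (k + 1)}
            add_mem' := by
              intro n n' hn hn' w
              have hcons := (ιMulti A (k + 1) (M := Ω[A⁄R])).toMultilinearMap.cons_add w n n'
              simp only [AlternatingMap.coe_multilinearMap] at hcons
              rw [hcons]
              exact (Z (k + 1)).add_mem (hn w) (hn' w)
            zero_mem' := by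
              intro w
              have hcons := (ιMulti A (k + 1) (M := Ω[A⁄R])).toMultilinearMap.cons_smul w
                (0 : A) (0 : Ω[A⁄R])
              simp only [AlternatingMap.coe_multilinearMap, zero_smul] at hcons
              rw [hcons]
              exact (Z (k + 1)).zero_mem
            smul_mem' := by
              intro c n hn w
              have hcons := (ιMulti A (k + 1) (M := Ω[A⁄R])).toMultilinearMap.cons_smul w c n
              simp only [AlternatingMap.coe_multilinearMap] at hcons
              rw [hcons]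
              exact (Z (k + 1)).smul_mem c (hn w) }
        suffices hSig : {ω : Ω[A⁄R] | π ω = 0 ∧ exteriorPower.map 2 π
            (dA 1 ((exteriorPower.oneEquiv A (Ω[A⁄R])).symm ω)) = 0} ⊆ T by
          intro n hn
          exact (Submodule.span_le.2 hSig) (hker hn)
        rintro ω ⟨hω1, hω2⟩ w
        let Lω : ↥(⋀[A]^k (Ω[A⁄R])) →ₗ[A] ↥(⋀[A]^(k + 1) (Ω[A⁄R])) :=
          alternatingMapLinearEquiv ((ιMulti A (k + 1) (M := Ω[A⁄R])).curryLeft ω)
        have hL : ∀ w, Lω (ιMulti A k w) = ιMulti A (k + 1) (Fin.cons ω w) := by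
          intro w
          rw [alternatingMapLinearEquiv_apply_ιMulti]
          rfl
        rw [← hL]
        suffices htop : (Z (k + 1)).comap Lω = ⊤ by
          have : ιMulti A k w ∈ (Z (k + 1)).comap Lω := by
            rw [htop]
            trivial
          exact this
        rw [eq_top_iff, ← ιMulti_span_of_span A k (Ω[A⁄R])
          (KaehlerDifferential.span_range_derivation R A), Submodule.span_le]
        rintro _ ⟨v', hv', rfl⟩
        choose b hb using fun i => hv' (Set.mem_range_self i)
        have hv'' : v' = fun i => KaehlerDifferential.D R A (b i) := funext fun i => (hb i).symm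
        rw [hv'']
        show Lω (ιMulti A k (fun i => KaehlerDifferential.D R A (b i))) ∈ Z (k + 1)
        rw [hL]
        intro a
        apply Subtype.ext
        rw [Groth.Agent.H46.DR.coe_map, ZeroMemClass.coe_zero]
        have hid := Groth.Agent.H46.DR.leibniz_identity R A dA hdA k a b
          ((exteriorPower.oneEquiv A (Ω[A⁄R])).symm ω)
        rw [LinearEquiv.apply_symm_apply] at hid
        have hω2' : ExteriorAlgebra.map π ((dA 1 ((exteriorPower.oneEquiv A (Ω[A⁄R])).symm ω) :
            ↥(⋀[A]^(1 + 1) (Ω[A⁄R]))) : ExteriorAlgebra A (Ω[A⁄R])) = 0 :=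
          (Groth.Agent.H46.DR.coe_map π (1 + 1) _).symm.trans (congrArg Subtype.val hω2)
        rw [hid, map_add, map_smul, map_mul, map_mul, map_mul, hω2', ExteriorAlgebra.map_apply_ι,
          ExteriorAlgebra.map_apply_ι, hω1]
        simp
      by_cases h0 : i = 0
      · subst h0
        have hv : v = Fin.cons (v 0) (Fin.tail v) := (Fin.cons_self_tail v).symm
        rw [hv]
        exact stepB _ hi _
      · have hswap := (ιMulti A (k + 1) (M := Ω[A⁄R])).map_swap v (Ne.symm h0)
        have hmem : ιMulti A (k + 1) (v ∘ Equiv.swap 0 i) ∈ Z (k + 1) := by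
          have hv : (v ∘ Equiv.swap 0 i) =
              Fin.cons ((v ∘ Equiv.swap 0 i) 0) (Fin.tail (v ∘ Equiv.swap 0 i)) :=
            (Fin.cons_self_tail _).symm
          rw [hv]
          apply stepB
          simpa using hi
        rw [hswap] at hmem
        exact (Submodule.neg_mem_iff _).1 hmem
  have hkerle : ∀ p, LinearMap.ker (exteriorPower.map p π) ≤ Z p :=
    fun p => Groth.Agent.H46.ExtKer.ker_map_le π hπ p (Z p) (hZ p)
  have hstar : ∀ p (x : ↥(⋀[A]^p (Ω[A⁄R]))), exteriorPower.map p π x = 0 →
      exteriorPower.map (p + 1) π (dA p x) = 0 := by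
    intro p x hx
    have := hkerle p (LinearMap.mem_ker.2 hx) 1
    rwa [one_smul] at this
  let g : ∀ p, ↥(⋀[A]^p (Ω[A⁄R])) →ₗ[R] ↥(⋀[A]^p Ω') :=
    fun p => (exteriorPower.map p π).restrictScalars R
  have hg : ∀ p, Function.Surjective (g p) := fun p => exteriorPower.map_surjective (n := p) hπ
  let h : ∀ p, ↥(⋀[A]^p (Ω[A⁄R])) →ₗ[R] ↥(⋀[A]^(p + 1) Ω') := fun p => (g (p + 1)) ∘ₗ dA p
  have hle : ∀ p, LinearMap.ker (g p) ≤ LinearMap.ker (h p) := fun p x hx => hstar p x hx
  let d : ∀ p, ↥(⋀[A]^p Ω') →ₗ[R] ↥(⋀[A]^(p + 1) Ω') := fun p =>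
    ((LinearMap.ker (g p)).liftQ (h p) (hle p)) ∘ₗ
      ((g p).quotKerEquivOfSurjective (hg p)).symm.toLinearMap
  have hd : ∀ p (x : ↥(⋀[A]^p (Ω[A⁄R]))),
      d p (exteriorPower.map p π x) = exteriorPower.map (p + 1) π (dA p x) := by
    intro p x
    show (LinearMap.ker (g p)).liftQ (h p) (hle p)
      (((g p).quotKerEquivOfSurjective (hg p)).symm (g p x)) = _
    have hx : ((g p).quotKerEquivOfSurjective (hg p)).symm (g p x) =
        Submodule.Quotient.mk x := by
      rw [LinearEquiv.symm_apply_eq]
      rfl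
    rw [hx]
    rfl
  refine ⟨d, ⟨?_, ?_⟩, hd⟩
  · intro p b₀ b
    have e1 : gen (π.compDer (KaehlerDifferential.D R A)) p b₀ b =
        exteriorPower.map p π (gen (KaehlerDifferential.D R A) p b₀ b) := by
      unfold DeRham.gen
      rw [map_smul, exteriorPower.map_apply_ιMulti]
      rfl
    rw [e1, hd, hdA.1 p b₀ b, exteriorPower.map_apply_ιMulti]
    congr 1
    funext i
    refine Fin.cases ?_ (fun j => ?_) i <;> simp
  · intro p
    refine LinearMap.ext fun y => ?_
    obtain ⟨x, rfl⟩ := exteriorPower.map_surjective (n := p) hπ y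
    show d (p + 1) (d p (exteriorPower.map p π x)) = 0
    rw [hd, hd]
    have h2 : dA (p + 1) (dA p x) = 0 := LinearMap.congr_fun (hdA.2 p) x
    rw [h2, map_zero]

end Groth.Agent.S15296
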