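import Groth.Statements.S15297
import Groth.Agent.S15294

set_option autoImplicit false
universe u
open DeRham

namespace Groth.Agent.S15297

open exteriorPower in
/-- Let R → A be a ring map and d a de Rham differential of the Kähler differentials of A over R. Then
each d from p-forms to (p+1)-forms, an R-linear map between A-modules, is a differential operator of
order at most 1 relative to R → A: every commutator of d with multiplication by an element of A is
A-linear. -/
theorem result (R A : Type u) [CommRing R] [CommRing A] [Algebra R A]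
    (d : ∀ p : ℕ, ↥(⋀[A]^p (Ω[A⁄R])) →ₗ[R] ↥(⋀[A]^(p + 1) (Ω[A⁄R])))
    (hd : DeRham.IsDiff (KaehlerDifferential.D R A) d) (p : ℕ) :
    Diff16.IsDiffOpLE R A ↥(⋀[A]^p (Ω[A⁄R])) ↥(⋀[A]^(p + 1) (Ω[A⁄R])) 1 (d p) := by
  intro b
  show ∀ (c : A) (m : ↥(⋀[A]^p (Ω[A⁄R]))),
    Diff16.commutator R A _ _ (d p) b (c • m) = c • Diff16.commutator R A _ _ (d p) b m
  intro c x
  have key : ∀ (b₀ : A) (bs : Fin p → A),
      Diff16.commutator R A _ _ (d p) b (DeRham.gen (KaehlerDifferential.D R A) p b₀ bs) =
        b₀ • ιMulti A (p + 1) (Fin.cons (KaehlerDifferential.D R A b)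
          (fun i => KaehlerDifferential.D R A (bs i))) := by
    intro b₀ bs
    have e1 : b • DeRham.gen (KaehlerDifferential.D R A) p b₀ bs =
        DeRham.gen (KaehlerDifferential.D R A) p (b * b₀) bs := by
      unfold DeRham.gen; rw [smul_smul]
    show d p (b • DeRham.gen (KaehlerDifferential.D R A) p b₀ bs) -
      b • d p (DeRham.gen (KaehlerDifferential.D R A) p b₀ bs) = _
    rw [e1, hd.1 p, hd.1 p, Derivation.leibniz]
    have h1 := (ιMulti A (p + 1) (M := Ω[A⁄R])).toMultilinearMap.cons_add
      (fun i => KaehlerDifferential.D R A (bs i)) (b • KaehlerDifferential.D R A b₀)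
        (b₀ • KaehlerDifferential.D R A b)
    have h2 := (ιMulti A (p + 1) (M := Ω[A⁄R])).toMultilinearMap.cons_smul
      (fun i => KaehlerDifferential.D R A (bs i)) b (KaehlerDifferential.D R A b₀)
    have h3 := (ιMulti A (p + 1) (M := Ω[A⁄R])).toMultilinearMap.cons_smul
      (fun i => KaehlerDifferential.D R A (bs i)) b₀ (KaehlerDifferential.D R A b)
    simp only [AlternatingMap.coe_multilinearMap] at h1 h2 h3
    rw [h1, h2, h3]
    abel
  let K : AddSubgroup ↥(⋀[A]^p (Ω[A⁄R])) :=
    { carrier := {x | ∀ c : A, Diff16.commutator R A _ _ (d p) b (c • x) =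
        c • Diff16.commutator R A _ _ (d p) b x}
      add_mem' := by
        intro x y hx hy c
        rw [smul_add, map_add, map_add, hx c, hy c, smul_add]
      zero_mem' := by intro c; simp
      neg_mem' := by
        intro x hx c
        rw [smul_neg, map_neg, map_neg, hx c, smul_neg] }
  suffices h : x ∈ K from h c
  refine Groth.Agent.S15294.induction_gen_add R A p K (fun b₀ bs => ?_) x
  intro c
  have e2 : c • DeRham.gen (KaehlerDifferential.D R A) p b₀ bs =
      DeRham.gen (KaehlerDifferential.D R A) p (c * b₀) bs := by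
    unfold DeRham.gen; rw [smul_smul]
  rw [e2, key, key, smul_smul]

end Groth.Agent.S15297
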