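import Groth.Statements.S15298
import Mathlib
import Groth.Agent.Lib.Helper90.PSUniv

set_option autoImplicit false
universe u
open CAlg

namespace Groth.Agent.S15298.Aux

set_option autoImplicit false
set_option linter.style.haveILetI false

open Groth.Agent.Lib.Helper90

theorem main (k A : Type u) [Field k]
    [CommRing A] [Algebra k A] (x : A) (hx : x ∈ nonZeroDivisors A)
    [IsAdicComplete (Ideal.span {x}) A] [Algebra.FormallySmooth k (A ⧸ Ideal.span {x})] :
    ∃ e : PowerSeries (A ⧸ Ideal.span {x}) ≃ₐ[k] A,
      e PowerSeries.X = x ∧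
      ∀ f : PowerSeries (A ⧸ Ideal.span {x}),
        Ideal.Quotient.mk (Ideal.span {x}) (e f) = PowerSeries.constantCoeff f := by
  obtain ⟨s, hs⟩ := Algebra.FormallySmooth.exists_mkₐ_comp_eq_of_isAdicComplete (R := k)
    (A := A ⧸ Ideal.span {x}) (S := A) (I := Ideal.span {x}) (AlgHom.id k _)
  have hs' : ∀ c : A ⧸ Ideal.span {x}, Ideal.Quotient.mk (Ideal.span {x}) (s c) = c := by
    intro c
    have := congrArg (fun g => g c) hs
    simpa using this
  letI : Algebra (A ⧸ Ideal.span {x}) A := s.toRingHom.toAlgebra
  haveI : IsScalarTower k (A ⧸ Ideal.span {x}) A :=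
    IsScalarTower.of_algebraMap_eq (fun c => (s.commutes c).symm)
  have hbij : Function.Bijective
      ((Ideal.Quotient.mk (Ideal.span {x})).comp (algebraMap (A ⧸ Ideal.span {x}) A)) := by
    have : ((Ideal.Quotient.mk (Ideal.span {x})).comp (algebraMap (A ⧸ Ideal.span {x}) A))
        = RingHom.id _ := by
      ext c
      exact hs' c
    rw [this]
    exact Function.bijective_id
  obtain ⟨e, he1, he2⟩ := PSUniv.exists_algEquiv_powerSeries (B := A ⧸ Ideal.span {x}) x hx hbij
  refine ⟨e.restrictScalars k, he1, fun f => ?_⟩
  have := he2 f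
  change Ideal.Quotient.mk (Ideal.span {x}) (e f) = _
  rw [this]
  exact hs' _

end Groth.Agent.S15298.Aux

namespace Groth.Agent.S15298

/-- Let k be a field, A a Noetherian k-algebra and x a non-zero-divisor of A such that A is separated
and complete for the (x)-adic topology, and assume that B = A/xA is formally smooth over k. Then A
is a power series ring over B in the variable x: there is a k-algebra isomorphism e : B[[T]] ≅ A
with e(T) = x whose reduction modulo x is the constant-coefficient map, i.e. e(f) ≡ f(0) mod x for
every power series f. -/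
theorem result (k A : Type u) [Field k]
    [CommRing A] [Algebra k A] [IsNoetherianRing A] (x : A) (hx : x ∈ nonZeroDivisors A)
    [IsAdicComplete (Ideal.span {x}) A] [Algebra.FormallySmooth k (A ⧸ Ideal.span {x})] :
    ∃ e : PowerSeries (A ⧸ Ideal.span {x}) ≃ₐ[k] A,
      e PowerSeries.X = x ∧
      ∀ f : PowerSeries (A ⧸ Ideal.span {x}),
        Ideal.Quotient.mk (Ideal.span {x}) (e f) = PowerSeries.constantCoeff f := by
  exact Aux.main k A x hx

end Groth.Agent.S15298
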