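import Mathlib
import Groth.Statements.S15299
import Groth.Agent.Lib.Helper63.Poincare4

set_option autoImplicit false
universe u
open Omega

namespace Groth.Agent.S15299


open ExteriorAlgebra Groth.Agent.Lib.Helper63.Poincare

section poly

variable (k : Type u) [Field k] (n : ℕ)

/-- the variables, indexed by `ULift (Fin n)` -/
noncomputable def xs : ULift.{u} (Fin n) → MvPolynomial (Fin n) k := fun j => MvPolynomial.X j.down

/-- partial derivatives as linear maps -/
noncomputable def Dp (j : ULift.{u} (Fin n)) : MvPolynomial (Fin n) k →ₗ[k] MvPolynomial (Fin n) k :=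
  (MvPolynomial.pderiv j.down).toLinearMap

/-- divide the coefficient of `x^d` by `|d| + m` -/
noncomputable def Sp (m : ℕ) : MvPolynomial (Fin n) k →ₗ[k] MvPolynomial (Fin n) k :=
  (MvPolynomial.basisMonomials (Fin n) k).constr k
    (fun d => MvPolynomial.monomial d (((d.degree + m : ℕ) : k)⁻¹))

variable {k n}

lemma Dp_apply (j : ULift.{u} (Fin n)) (f : MvPolynomial (Fin n) k) :
    Dp k n j f = MvPolynomial.pderiv j.down f := rfl

lemma Sp_monomial (m : ℕ) (d : Fin n →₀ ℕ) (c : k) :
    Sp k n m (MvPolynomial.monomial d c) =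
      MvPolynomial.monomial d (c * ((d.degree + m : ℕ) : k)⁻¹) := by
  have h1 : MvPolynomial.monomial d c = c • (MvPolynomial.basisMonomials (Fin n) k) d := by
    rw [MvPolynomial.coe_basisMonomials, MvPolynomial.smul_monomial, smul_eq_mul, mul_one]
  rw [h1, map_smul, Sp, Module.Basis.constr_basis, MvPolynomial.smul_monomial, smul_eq_mul]

lemma hD_poly (inst : DecidableEq (ULift.{u} (Fin n))) (i j : ULift.{u} (Fin n))
    (f : MvPolynomial (Fin n) k) :
    Dp k n j (xs k n i * f) = (@ite _ (i = j) (inst i j) f 0) + xs k n i * Dp k n j f := by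
  rw [Dp_apply, Dp_apply, xs, MvPolynomial.pderiv_mul]
  congr 1
  by_cases h : i = j
  · subst h
    rw [if_pos rfl, MvPolynomial.pderiv_X_self, one_mul]
  · rw [if_neg h]
    have h' : i.down ≠ j.down := fun hh => h (ULift.ext _ _ hh)
    rw [MvPolynomial.pderiv_X_of_ne h', zero_mul]

lemma euler_monomial (d : Fin n →₀ ℕ) (c : k) :
    euler (xs k n) (Dp k n) (MvPolynomial.monomial d c) =
      MvPolynomial.monomial d ((d.degree : k) * c) := by
  rw [euler, LinearMap.sum_apply]
  simp only [LinearMap.comp_apply, LinearMap.mulLeft_apply, Dp_apply, xs,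
    MvPolynomial.X_mul_pderiv_monomial]
  rw [← Finset.sum_smul]
  have h1 : ∑ j : ULift.{u} (Fin n), d j.down = d.degree := by
    rw [Finsupp.degree_eq_sum]
    exact Equiv.sum_comp Equiv.ulift (fun i => d i)
  rw [h1, ← Nat.cast_smul_eq_nsmul k, MvPolynomial.smul_monomial, smul_eq_mul]

variable [CharZero k]

lemma hS1_poly (m : ℕ) (hm : 1 ≤ m) :
    euler (xs k n) (Dp k n) ∘ₗ Sp k n m + (m : k) • Sp k n m = LinearMap.id := by
  apply MvPolynomial.linearMap_ext
  intro d
  apply LinearMap.ext
  intro c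
  simp only [LinearMap.comp_apply, LinearMap.add_apply, LinearMap.smul_apply, LinearMap.id_apply,
    Sp_monomial, euler_monomial, MvPolynomial.smul_monomial, smul_eq_mul]
  rw [← map_add]
  congr 1
  have hne : ((d.degree + m : ℕ) : k) ≠ 0 := by
    have : d.degree + m ≠ 0 := by omega
    exact_mod_cast this
  have h2 : ((d.degree : k) + (m : k)) * ((d.degree + m : ℕ) : k)⁻¹ = 1 := by
    rw [← Nat.cast_add]
    exact mul_inv_cancel₀ hne
  linear_combination c * h2

lemma hS2_poly (m : ℕ) (j : ULift.{u} (Fin n)) :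
    Dp k n j ∘ₗ Sp k n m = Sp k n (m + 1) ∘ₗ Dp k n j := by
  apply MvPolynomial.linearMap_ext
  intro d
  apply LinearMap.ext
  intro c
  simp only [LinearMap.comp_apply, Sp_monomial, Dp_apply, MvPolynomial.pderiv_monomial]
  congr 1
  by_cases h : d j.down = 0
  · rw [h, Nat.cast_zero, mul_zero, mul_zero, zero_mul]
  · have h1 : (d - Finsupp.single j.down 1).degree + (m + 1) = d.degree + m := by
      have h2 : d = (d - Finsupp.single j.down 1) + Finsupp.single j.down 1 :=
        (Finsupp.sub_add_single_one_cancel h).symm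
      conv_rhs => rw [h2, map_add, Finsupp.degree_single]
      ring
    rw [h1]
    ring

end poly

section transport

lemma map_mem_extPow {R M N : Type*} [CommRing R] [AddCommGroup M] [Module R M] [AddCommGroup N]
    [Module R N] (f : M →ₗ[R] N) (p : ℕ) (ω : ExteriorAlgebra R M) (hω : ω ∈ ⋀[R]^p M) :
    ExteriorAlgebra.map f ω ∈ ⋀[R]^p N := by
  rw [← ExteriorAlgebra.ιMulti_span_fixedDegree R p] at hω
  induction hω using Submodule.span_induction with
  | mem x hx =>
    obtain ⟨m, rfl⟩ := hx
    rw [ExteriorAlgebra.map_apply_ιMulti]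
    exact (exteriorPower.ιMulti R p (f ∘ m)).2
  | zero => rw [map_zero]; exact Submodule.zero_mem _
  | add x y _ _ hx hy => rw [map_add]; exact Submodule.add_mem _ hx hy
  | smul r x _ hx => rw [map_smul]; exact Submodule.smul_mem _ _ hx

variable (k : Type u) [Field k] (n : ℕ)

/-- the basis `dX_i` indexed by `ULift (Fin n)` -/
noncomputable def bU : Module.Basis (ULift.{u} (Fin n)) (MvPolynomial (Fin n) k)
    (KaehlerDifferential k (MvPolynomial (Fin n) k)) :=
  (KaehlerDifferential.mvPolynomialBasis k (Fin n)).reindex Equiv.ulift.symm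

/-- the coordinate isomorphism -/
noncomputable def phi : KaehlerDifferential k (MvPolynomial (Fin n) k) ≃ₗ[MvPolynomial (Fin n) k]
    (ULift.{u} (Fin n) → MvPolynomial (Fin n) k) := (bU k n).equivFun

variable {k n}

lemma phi_D (f : MvPolynomial (Fin n) k) :
    phi k n (KaehlerDifferential.D k _ f) = fun j => MvPolynomial.pderiv j.down f := by
  funext j
  rw [phi, Module.Basis.equivFun_apply, bU, Module.Basis.repr_reindex_apply,
    KaehlerDifferential.mvPolynomialBasis_repr_apply]
  rfl

lemma phi_symm_e (inst : DecidableEq (ULift.{u} (Fin n))) (j : ULift.{u} (Fin n)) :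
    (phi k n).symm (@e (MvPolynomial (Fin n) k) _ _ inst j) =
      KaehlerDifferential.D k _ (MvPolynomial.X j.down) := by
  classical
  rw [LinearEquiv.symm_apply_eq, phi_D]
  funext i
  rw [e, MvPolynomial.pderiv_X, Pi.single_apply, Pi.single_apply]
  by_cases h : i = j
  · subst h; simp
  · have h' : j.down ≠ i.down := fun hh => h (ULift.ext _ _ hh.symm)
    rw [if_neg h, if_neg h']

end transport

section main

variable {k : Type u} [Field k] [CharZero k] {n : ℕ}
  (d : ExteriorAlgebra (MvPolynomial (Fin n) k) (KaehlerDifferential k (MvPolynomial (Fin n) k)) →ₗ[k]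
      ExteriorAlgebra (MvPolynomial (Fin n) k) (KaehlerDifferential k (MvPolynomial (Fin n) k)))
  (h0 : ∀ a : MvPolynomial (Fin n) k,
      d (algebraMap (MvPolynomial (Fin n) k) _ a) =
        ExteriorAlgebra.ι (MvPolynomial (Fin n) k) (KaehlerDifferential.D k (MvPolynomial (Fin n) k) a))
  (hder : ∀ (p : ℕ) (ω η : ExteriorAlgebra (MvPolynomial (Fin n) k) (KaehlerDifferential k (MvPolynomial (Fin n) k))),
      ω ∈ ExteriorAlgebra.exteriorPower (MvPolynomial (Fin n) k) p (KaehlerDifferential k (MvPolynomial (Fin n) k)) →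
        d (ω * η) = d ω * η + (-1) ^ p * ω * d η)
  (hdd : ∀ ω, d (d ω) = 0)

include h0 hder hdd in
lemma d_wedge_closed : ∀ (p : ℕ) (v : Fin p → MvPolynomial (Fin n) k),
    d (ExteriorAlgebra.ιMulti (MvPolynomial (Fin n) k) p
      (fun r => KaehlerDifferential.D k (MvPolynomial (Fin n) k) (v r))) = 0 := by
  intro p
  induction p with
  | zero =>
    intro v
    rw [ExteriorAlgebra.ιMulti_zero_apply]
    have h1 := h0 1
    have h2 : algebraMap (MvPolynomial (Fin n) k)
      (ExteriorAlgebra (MvPolynomial (Fin n) k) (KaehlerDifferential k (MvPolynomial (Fin n) k))) 1 = 1 :=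
      map_one _
    rw [h2] at h1
    rw [h1, Derivation.map_one_eq_zero, map_zero]
  | succ p ih =>
    intro v
    rw [ExteriorAlgebra.ιMulti_succ_apply]
    have hmem : ExteriorAlgebra.ι (MvPolynomial (Fin n) k)
        (KaehlerDifferential.D k (MvPolynomial (Fin n) k) (v 0)) ∈
        ExteriorAlgebra.exteriorPower (MvPolynomial (Fin n) k) 1
          (KaehlerDifferential k (MvPolynomial (Fin n) k)) := by
      rw [ExteriorAlgebra.exteriorPower, pow_one]
      exact ⟨_, rfl⟩
    rw [hder 1 _ _ hmem]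
    have h1 : d (ExteriorAlgebra.ι (MvPolynomial (Fin n) k)
        (KaehlerDifferential.D k (MvPolynomial (Fin n) k) (v 0))) = 0 := by
      rw [← h0, hdd]
    have h2 : Matrix.vecTail (fun r => KaehlerDifferential.D k (MvPolynomial (Fin n) k) (v r)) =
        fun r => KaehlerDifferential.D k (MvPolynomial (Fin n) k) (Fin.tail v r) := rfl
    rw [h1, zero_mul, zero_add, h2, ih (Fin.tail v), mul_zero]

/-- `Φ`, the transport of forms to coordinates -/
noncomputable def PhiA (k : Type u) [Field k] (n : ℕ) :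
    ExteriorAlgebra (MvPolynomial (Fin n) k) (KaehlerDifferential k (MvPolynomial (Fin n) k)) →ₐ[MvPolynomial (Fin n) k]
      ExteriorAlgebra (MvPolynomial (Fin n) k) (ULift.{u} (Fin n) → MvPolynomial (Fin n) k) :=
  ExteriorAlgebra.map (phi k n).toLinearMap

/-- `Ψ`, the inverse transport -/
noncomputable def PsiA (k : Type u) [Field k] (n : ℕ) :
    ExteriorAlgebra (MvPolynomial (Fin n) k) (ULift.{u} (Fin n) → MvPolynomial (Fin n) k) →ₐ[MvPolynomial (Fin n) k]
      ExteriorAlgebra (MvPolynomial (Fin n) k) (KaehlerDifferential k (MvPolynomial (Fin n) k)) :=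
  ExteriorAlgebra.map (phi k n).symm.toLinearMap

omit [CharZero k] in
lemma Psi_Phi (x) : PsiA k n (PhiA k n x) = x := by
  have h1 := ExteriorAlgebra.map_comp_map (phi k n).toLinearMap (phi k n).symm.toLinearMap
  have h2 : (phi k n).symm.toLinearMap ∘ₗ (phi k n).toLinearMap = LinearMap.id :=
    LinearMap.ext fun y => by simp
  rw [h2, ExteriorAlgebra.map_id] at h1
  exact AlgHom.congr_fun h1 x

omit [CharZero k] in
lemma Phi_Psi (x) : PhiA k n (PsiA k n x) = x := by
  have h1 := ExteriorAlgebra.map_comp_map (phi k n).symm.toLinearMap (phi k n).toLinearMap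
  have h2 : (phi k n).toLinearMap ∘ₗ (phi k n).symm.toLinearMap = LinearMap.id :=
    LinearMap.ext fun y => by simp
  rw [h2, ExteriorAlgebra.map_id] at h1
  exact AlgHom.congr_fun h1 x

include h0 hder hdd in
lemma key (p : ℕ) (ω : ↥(⋀[MvPolynomial (Fin n) k]^p (ULift.{u} (Fin n) → MvPolynomial (Fin n) k))) :
    PhiA k n (d (PsiA k n ω.1)) = (extD (Dp k n) p ω).1 := by
  letI : DecidableEq (ULift.{u} (Fin n)) := fun a b => LinearOrder.toDecidableEq a b
  let F : ↥(⋀[MvPolynomial (Fin n) k]^p (ULift.{u} (Fin n) → MvPolynomial (Fin n) k)) →+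
      ExteriorAlgebra (MvPolynomial (Fin n) k) (ULift.{u} (Fin n) → MvPolynomial (Fin n) k) :=
    AddMonoidHom.mk' (fun ω => PhiA k n (d (PsiA k n ω.1))) (by
      intro a b
      simp only [Submodule.coe_add, map_add])
  let G : ↥(⋀[MvPolynomial (Fin n) k]^p (ULift.{u} (Fin n) → MvPolynomial (Fin n) k)) →+
      ExteriorAlgebra (MvPolynomial (Fin n) k) (ULift.{u} (Fin n) → MvPolynomial (Fin n) k) :=
    AddMonoidHom.mk' (fun ω => (extD (Dp k n) p ω).1) (by
      intro a b
      simp only [map_add, Submodule.coe_add])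
  refine eq_of_basis F G ?_ ω
  intro I f
  change PhiA k n (d (PsiA k n (f • Bn _ _ p I).1)) = (extD (Dp k n) p (f • Bn _ _ p I)).1
  have hB : (Bn (MvPolynomial (Fin n) k) (ULift.{u} (Fin n)) p I).1 =
      ExteriorAlgebra.ιMulti (MvPolynomial (Fin n) k) p
        (fun r => e (MvPolynomial (Fin n) k) (Set.powersetCard.ofFinEmbEquiv.symm I r)) := by
    rw [Bn, exteriorPower.basis_apply, exteriorPower.ιMulti_family, exteriorPower.ιMulti_apply_coe]
    refine congrArg (ExteriorAlgebra.ιMulti (MvPolynomial (Fin n) k) p) ?_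
    funext r
    simp only [Function.comp_apply, Pi.basisFun_apply, e]
  have hW : PsiA k n (Bn (MvPolynomial (Fin n) k) (ULift.{u} (Fin n)) p I).1 =
      ExteriorAlgebra.ιMulti (MvPolynomial (Fin n) k) p
        (fun r => KaehlerDifferential.D k (MvPolynomial (Fin n) k)
          (MvPolynomial.X (Set.powersetCard.ofFinEmbEquiv.symm I r).down)) := by
    rw [hB, PsiA, ExteriorAlgebra.map_apply_ιMulti]
    refine congrArg (ExteriorAlgebra.ιMulti (MvPolynomial (Fin n) k) p) ?_
    funext r
    simp only [Function.comp_apply, LinearEquiv.coe_coe]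
    exact phi_symm_e _ _
  have hdW : d (PsiA k n (Bn (MvPolynomial (Fin n) k) (ULift.{u} (Fin n)) p I).1) = 0 := by
    rw [hW]
    exact d_wedge_closed d h0 hder hdd p _
  have hmem0 : algebraMap (MvPolynomial (Fin n) k)
      (ExteriorAlgebra (MvPolynomial (Fin n) k) (KaehlerDifferential k (MvPolynomial (Fin n) k))) f ∈
      ExteriorAlgebra.exteriorPower (MvPolynomial (Fin n) k) 0
        (KaehlerDifferential k (MvPolynomial (Fin n) k)) := by
    rw [ExteriorAlgebra.exteriorPower, pow_zero, Submodule.mem_one]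
    exact ⟨f, rfl⟩
  rw [Submodule.coe_smul, map_smul, Algebra.smul_def, hder 0 _ _ hmem0, hdW, mul_zero, add_zero, h0,
    map_mul, Phi_Psi]
  have h3 : PhiA k n (ExteriorAlgebra.ι (MvPolynomial (Fin n) k)
      (KaehlerDifferential.D k (MvPolynomial (Fin n) k) f)) =
      ∑ j, Dp k n j f • ExteriorAlgebra.ι (MvPolynomial (Fin n) k) (e (MvPolynomial (Fin n) k) j) := by
    rw [PhiA, ExteriorAlgebra.map_apply_ι, LinearEquiv.coe_coe, phi_D]
    conv_lhs => rw [← sum_smul_e (fun j : ULift.{u} (Fin n) => MvPolynomial.pderiv j.down f), map_sum]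
    refine Finset.sum_congr rfl (fun j _ => ?_)
    rw [map_smul, Dp_apply]
  rw [h3, extD_apply, AddSubmonoidClass.coe_finsetSum, Finset.sum_mul]
  refine Finset.sum_congr rfl (fun j _ => ?_)
  rw [tilde_smul_basis, map_smul, Submodule.coe_smul, L_coe, smul_mul_assoc]

end main

/-- Let k be a field of characteristic zero, A = k[x_1, …, x_n] and Ω = Ω_{A/k}. Let d be a k-linear
endomorphism of the exterior algebra ⋀_A Ω which agrees with the universal derivation on A, sends
⋀^p Ω into ⋀^(p+1) Ω, is a graded derivation and satisfies d ∘ d = 0 (these properties characterise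
the de Rham differential). Then the de Rham complex 0 → k → A → Ω → ⋀^2 Ω → ⋯ → ⋀^n Ω → 0 is exact:
an element of A with d a = 0 is a constant, and every d-closed element of ⋀^(p+1) Ω is d of some
element of ⋀^p Ω. -/
theorem result (k : Type u) [Field k] [CharZero k] (n : ℕ)
    (d : ExteriorAlgebra (MvPolynomial (Fin n) k) (KaehlerDifferential k (MvPolynomial (Fin n) k)) →ₗ[k]
      ExteriorAlgebra (MvPolynomial (Fin n) k) (KaehlerDifferential k (MvPolynomial (Fin n) k)))
    (h0 : ∀ a : MvPolynomial (Fin n) k,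
      d (algebraMap (MvPolynomial (Fin n) k) _ a) =
        ExteriorAlgebra.ι (MvPolynomial (Fin n) k) (KaehlerDifferential.D k (MvPolynomial (Fin n) k) a))
    (hdeg : ∀ (p : ℕ) (ω : ExteriorAlgebra (MvPolynomial (Fin n) k) (KaehlerDifferential k (MvPolynomial (Fin n) k))),
      ω ∈ ExteriorAlgebra.exteriorPower (MvPolynomial (Fin n) k) p (KaehlerDifferential k (MvPolynomial (Fin n) k)) →
        d ω ∈ ExteriorAlgebra.exteriorPower (MvPolynomial (Fin n) k) (p + 1) (KaehlerDifferential k (MvPolynomial (Fin n) k)))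
    (hder : ∀ (p : ℕ) (ω η : ExteriorAlgebra (MvPolynomial (Fin n) k) (KaehlerDifferential k (MvPolynomial (Fin n) k))),
      ω ∈ ExteriorAlgebra.exteriorPower (MvPolynomial (Fin n) k) p (KaehlerDifferential k (MvPolynomial (Fin n) k)) →
        d (ω * η) = d ω * η + (-1) ^ p * ω * d η)
    (hdd : ∀ ω, d (d ω) = 0) :
    (∀ a : MvPolynomial (Fin n) k, d (algebraMap (MvPolynomial (Fin n) k) _ a) = 0 →
        ∃ c : k, a = MvPolynomial.C c) ∧
    ∀ (p : ℕ) (ω : ExteriorAlgebra (MvPolynomial (Fin n) k) (KaehlerDifferential k (MvPolynomial (Fin n) k))),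
      ω ∈ ExteriorAlgebra.exteriorPower (MvPolynomial (Fin n) k) (p + 1) (KaehlerDifferential k (MvPolynomial (Fin n) k)) →
        d ω = 0 →
          ∃ θ ∈ ExteriorAlgebra.exteriorPower (MvPolynomial (Fin n) k) p (KaehlerDifferential k (MvPolynomial (Fin n) k)),
            d θ = ω := by
  classical
  have hk := key d h0 hder hdd
  constructor
  · intro a ha
    rw [h0] at ha
    have h1 : KaehlerDifferential.D k (MvPolynomial (Fin n) k) a = 0 := by
      have := ExteriorAlgebra.ι_inj (MvPolynomial (Fin n) k)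
        (x := KaehlerDifferential.D k (MvPolynomial (Fin n) k) a) (y := 0)
      rw [map_zero] at this
      exact this.mp ha
    have h2 : ∀ i : Fin n, MvPolynomial.pderiv i a = 0 := by
      intro i
      rw [← KaehlerDifferential.mvPolynomialBasis_repr_apply, h1, map_zero]
      rfl
    refine ⟨MvPolynomial.coeff 0 a, ?_⟩
    ext m
    rw [MvPolynomial.coeff_C]
    by_cases hm : 0 = m
    · rw [if_pos hm, hm]
    · rw [if_neg hm]
      obtain ⟨i, hi⟩ : ∃ i, m i ≠ 0 := by
        by_contra hcon
        push Not at hcon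
        exact hm (Finsupp.ext fun i => (hcon i).symm)
      have h3 := MvPolynomial.coeff_pderiv a (m - Finsupp.single i 1) (i := i)
      rw [h2 i, MvPolynomial.coeff_zero, Finsupp.sub_add_single_one_cancel hi] at h3
      have h4 : ((m - Finsupp.single i 1 : Fin n →₀ ℕ) i : k) + 1 ≠ 0 := by
        have hh := Nat.succ_ne_zero ((m - Finsupp.single i 1 : Fin n →₀ ℕ) i)
        exact_mod_cast hh
      rcases mul_eq_zero.mp h3.symm with h5 | h5
      · exact h5
      · exact absurd h5 h4
  · intro p ω hω hdω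
    set ω' : ↥(⋀[MvPolynomial (Fin n) k]^(p + 1) (ULift.{u} (Fin n) → MvPolynomial (Fin n) k)) :=
      ⟨PhiA k n ω, map_mem_extPow _ _ _ hω⟩ with hω'
    have hcl : extD (Dp k n) (p + 1) ω' = 0 := by
      apply Subtype.ext
      rw [← hk (p + 1) ω']
      change PhiA k n (d (PsiA k n (PhiA k n ω))) = 0
      rw [Psi_Phi, hdω, map_zero]
    have hex := exact_of_closed (xs k n) (Dp k n) (hD_poly _) (Sp k n) hS1_poly hS2_poly p ω' hcl
    set θ' := iota (xs k n) p (tilde (Sp k n (p + 1)) (p + 1) ω') with hθ'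
    refine ⟨PsiA k n θ'.1, map_mem_extPow _ _ _ θ'.2, ?_⟩
    have h1 := hk p θ'
    rw [hex] at h1
    have h2 := congrArg (PsiA k n) h1
    rw [Psi_Phi] at h2
    rw [h2]
    change PsiA k n (PhiA k n ω) = ω
    exact Psi_Phi ω

end Groth.Agent.S15299
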