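import Groth.Statements.S15302
import Mathlib.Algebra.Homology.Homotopy
import Mathlib.Algebra.Homology.QuasiIso
import Mathlib.CategoryTheory.Abelian.Injective.Resolution
-- import your own Groth.Agent.* helpers here

set_option autoImplicit false
universe v u
open HomAlg3

namespace Groth.Agent.S15302

open CategoryTheory CategoryTheory.Limits ZeroObject

variable {C : Type u} [Category.{v} C] [Abelian C]

/-- A split epimorphism onto `B` decomposes the source as `B ⊞ K`. -/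
theorem exists_iso_of_section {A B : C} (f : A ⟶ B) (s : B ⟶ A) (hs : s ≫ f = 𝟙 B) :
    ∃ (K : C) (e : A ≅ B ⊞ K), f = e.hom ≫ biprod.fst := by
  have h0 : (𝟙 A - f ≫ s) ≫ f = 0 := by
    rw [Preadditive.sub_comp, Category.id_comp, Category.assoc, hs, Category.comp_id, sub_self]
  let k : A ⟶ kernel f := kernel.lift f (𝟙 A - f ≫ s) h0
  have hk : k ≫ kernel.ι f = 𝟙 A - f ≫ s := kernel.lift_ι _ _ _
  have hsk : s ≫ k = 0 := by
    rw [← cancel_mono (kernel.ι f), Category.assoc, hk, Preadditive.comp_sub, Category.comp_id,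
      ← Category.assoc, hs, Category.id_comp, sub_self, zero_comp]
  have hιk : kernel.ι f ≫ k = 𝟙 _ := by
    rw [← cancel_mono (kernel.ι f), Category.assoc, hk, Preadditive.comp_sub, Category.comp_id,
      ← Category.assoc, kernel.condition, zero_comp, sub_zero, Category.id_comp]
  refine ⟨kernel f, ⟨biprod.lift f k, biprod.desc s (kernel.ι f), ?_, ?_⟩, ?_⟩
  · rw [biprod.lift_desc, hk]; abel
  · ext
    · simp [hs]
    · simp [hsk]
    · simp
    · simp [hιk]
  · simp

/-- Data of "shifted objects" `Y (p+1) ≅ I^p`, `Y 0 = 0`. -/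
structure ShiftData (I : CochainComplex C ℕ) where
  Y : ℕ → C
  t : ∀ p, I.X p ⟶ Y (p + 1)
  r : ∀ p, Y (p + 1) ⟶ I.X p
  tr : ∀ p, t p ≫ r p = 𝟙 _
  rt : ∀ p, r p ≫ t p = 𝟙 _
  zero : IsZero (Y 0)

/-- The shifted objects: `Y 0 = 0`, `Y (p+1) = I^p`. -/
noncomputable def Yobj (I : CochainComplex C ℕ) : ℕ → C
  | 0 => 0
  | (p + 1) => I.X p

noncomputable def shiftData (I : CochainComplex C ℕ) : ShiftData I where
  Y := Yobj I
  t p := (𝟙 (I.X p) : I.X p ⟶ I.X p)
  r p := (𝟙 (I.X p) : I.X p ⟶ I.X p)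
  tr _ := Category.comp_id _
  rt _ := Category.comp_id _
  zero := isZero_zero C

namespace ShiftData

variable {I : CochainComplex C ℕ} (D : ShiftData I)

attribute [reassoc (attr := simp)] tr rt

/-- The map `Y p ⟶ I^p` (the differential). -/
noncomputable def fromY : ∀ p, D.Y p ⟶ I.X p
  | 0 => 0
  | (p + 1) => D.r p ≫ I.d p (p + 1)

@[reassoc (attr := simp)]
lemma fromY_d (p : ℕ) : D.fromY p ≫ I.d p (p + 1) = 0 := by
  cases p <;> simp [fromY]

@[simp]
lemma fromY_succ (p : ℕ) : D.fromY (p + 1) = D.r p ≫ I.d p (p + 1) := rfl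

/-- The contractible "disk" complex with terms `I^p ⊞ I^(p-1)`. -/
noncomputable def E : CochainComplex C ℕ :=
  CochainComplex.of (fun p => I.X p ⊞ D.Y p)
    (fun p => biprod.fst ≫ D.t p ≫ biprod.inr)
    (fun p => by simp)

lemma E_d (p : ℕ) : D.E.d p (p + 1) =
    (biprod.fst : I.X p ⊞ D.Y p ⟶ I.X p) ≫ D.t p ≫
      (biprod.inr : D.Y (p + 1) ⟶ I.X (p + 1) ⊞ D.Y (p + 1)) := by
  exact CochainComplex.of_d (V := C) (fun p => I.X p ⊞ D.Y p)
    (fun p => biprod.fst ≫ D.t p ≫ biprod.inr) p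

lemma π_comm (p : ℕ) :
    ((biprod.fst + biprod.snd ≫ D.fromY p : I.X p ⊞ D.Y p ⟶ I.X p)) ≫ I.d p (p + 1) =
      ((biprod.fst : I.X p ⊞ D.Y p ⟶ I.X p) ≫ D.t p ≫
        (biprod.inr : D.Y (p + 1) ⟶ I.X (p + 1) ⊞ D.Y (p + 1))) ≫
      (biprod.fst + biprod.snd ≫ D.fromY (p + 1)) := by
  simp [Preadditive.add_comp, Preadditive.comp_add]

/-- The termwise split epimorphism `E ⟶ I`. -/
noncomputable def π : D.E ⟶ I where
  f p := (biprod.fst + biprod.snd ≫ D.fromY p : I.X p ⊞ D.Y p ⟶ I.X p)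
  comm' := by
    rintro i j (rfl : i + 1 = j)
    rw [E_d]
    exact D.π_comm i

/-- Components of the contracting homotopy of `E`. -/
noncomputable def hE : ∀ i j, (ComplexShape.up ℕ).Rel j i → (D.E.X i ⟶ D.E.X j) :=
  fun i j hij => by
    have hij' : j + 1 = i := hij
    subst hij'
    exact ((biprod.snd : I.X (j + 1) ⊞ D.Y (j + 1) ⟶ D.Y (j + 1)) ≫ D.r j ≫
      (biprod.inl : I.X j ⟶ I.X j ⊞ D.Y j))

lemma hE_succ (j : ℕ) : D.hE (j + 1) j rfl =
    ((biprod.snd : I.X (j + 1) ⊞ D.Y (j + 1) ⟶ D.Y (j + 1)) ≫ D.r j ≫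
      (biprod.inl : I.X j ⟶ I.X j ⊞ D.Y j)) := rfl

lemma contr_zero :
    𝟙 (I.X 0 ⊞ D.Y 0) = ((biprod.fst : I.X 0 ⊞ D.Y 0 ⟶ I.X 0) ≫ D.t 0 ≫
        (biprod.inr : D.Y (0 + 1) ⟶ I.X (0 + 1) ⊞ D.Y (0 + 1))) ≫
      ((biprod.snd : I.X (0 + 1) ⊞ D.Y (0 + 1) ⟶ D.Y (0 + 1)) ≫ D.r 0 ≫
        (biprod.inl : I.X 0 ⟶ I.X 0 ⊞ D.Y 0)) := by
  have h0 : (biprod.snd : I.X 0 ⊞ D.Y 0 ⟶ D.Y 0) = 0 := D.zero.eq_of_tgt _ _
  have : (biprod.fst : I.X 0 ⊞ D.Y 0 ⟶ I.X 0) ≫ biprod.inl = 𝟙 _ := by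
    rw [← biprod.total (X := I.X 0) (Y := D.Y 0), h0, zero_comp, add_zero]
  simp [this]

lemma contr_succ (p : ℕ) :
    𝟙 (I.X (p + 1) ⊞ D.Y (p + 1)) =
      ((biprod.fst : I.X (p + 1) ⊞ D.Y (p + 1) ⟶ I.X (p + 1)) ≫ D.t (p + 1) ≫
        (biprod.inr : D.Y (p + 1 + 1) ⟶ I.X (p + 1 + 1) ⊞ D.Y (p + 1 + 1))) ≫
      ((biprod.snd : I.X (p + 1 + 1) ⊞ D.Y (p + 1 + 1) ⟶ D.Y (p + 1 + 1)) ≫ D.r (p + 1) ≫
        (biprod.inl : I.X (p + 1) ⟶ I.X (p + 1) ⊞ D.Y (p + 1))) +
      ((biprod.snd : I.X (p + 1) ⊞ D.Y (p + 1) ⟶ D.Y (p + 1)) ≫ D.r p ≫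
        (biprod.inl : I.X p ⟶ I.X p ⊞ D.Y p)) ≫
      ((biprod.fst : I.X p ⊞ D.Y p ⟶ I.X p) ≫ D.t p ≫
        (biprod.inr : D.Y (p + 1) ⟶ I.X (p + 1) ⊞ D.Y (p + 1))) := by
  simp [biprod.total]

lemma id_eq : 𝟙 D.E = Homotopy.nullHomotopicMap' D.hE := by
  refine HomologicalComplex.hom_ext _ _ (fun p => ?_)
  cases p with
  | zero =>
    rw [Homotopy.nullHomotopicMap'_f_of_not_rel_right (c := ComplexShape.up ℕ) (k₁ := 0) (k₀ := 1)
      rfl (by simp)]
    change _ = D.E.d 0 (0 + 1) ≫ D.hE (0 + 1) 0 rfl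
    rw [E_d, hE_succ]
    exact D.contr_zero
  | succ p =>
    rw [Homotopy.nullHomotopicMap'_f (c := ComplexShape.up ℕ) (k₂ := p) (k₁ := p + 1)
      (k₀ := p + 1 + 1) rfl rfl]
    change _ = D.E.d (p + 1) (p + 1 + 1) ≫ D.hE (p + 1 + 1) (p + 1) rfl +
      D.hE (p + 1) p rfl ≫ D.E.d p (p + 1)
    rw [E_d, E_d, hE_succ, hE_succ]
    exact D.contr_succ p

/-- The termwise section of `π`. -/
noncomputable def sec (p : ℕ) : I.X p ⟶ D.E.X p :=
  (biprod.inl : I.X p ⟶ I.X p ⊞ D.Y p)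

lemma sec_π (p : ℕ) : D.sec p ≫ D.π.f p = 𝟙 _ := by
  change (biprod.inl : I.X p ⟶ I.X p ⊞ D.Y p) ≫ (biprod.fst + biprod.snd ≫ D.fromY p) = _
  simp [Preadditive.comp_add]

/-- `E` is contractible. -/
noncomputable def contraction : Homotopy (𝟙 D.E) 0 :=
  (Homotopy.ofEq D.id_eq).trans (Homotopy.nullHomotopy' D.hE)

end ShiftData

lemma injective_Yobj {F : C} (I : InjectiveResolution F) (n : ℕ) :
    Injective (Yobj I.cocomplex n) := by
  cases n with
  | zero => exact (inferInstance : Injective (0 : C))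
  | succ p => exact (inferInstance : Injective (I.cocomplex.X p))

/-- `inl` is a quasi-isomorphism when the second summand is contractible. -/
lemma quasiIso_inl (K L : CochainComplex C ℕ) (h : Homotopy (𝟙 L) 0) :
    QuasiIso (biprod.inl : K ⟶ K ⊞ L) := by
  let e : HomotopyEquiv K (K ⊞ L) :=
    { hom := biprod.inl
      inv := biprod.fst
      homotopyHomInvId := Homotopy.ofEq biprod.inl_fst
      homotopyInvHomId := by
        have H1 : Homotopy (biprod.snd ≫ 𝟙 L ≫ biprod.inr : K ⊞ L ⟶ K ⊞ L)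
            (biprod.snd ≫ 0 ≫ biprod.inr) := (h.compRight biprod.inr).compLeft biprod.snd
        have e1 : (biprod.fst ≫ biprod.inl : K ⊞ L ⟶ K ⊞ L) =
            biprod.fst ≫ biprod.inl + biprod.snd ≫ 0 ≫ biprod.inr := by simp
        have e2 : (biprod.fst ≫ biprod.inl + biprod.snd ≫ 𝟙 L ≫ biprod.inr : K ⊞ L ⟶ K ⊞ L) =
            𝟙 _ := by simp [biprod.total]
        exact (Homotopy.ofEq e1).trans
          (((Homotopy.refl _).add H1.symm).trans (Homotopy.ofEq e2)) }
  exact e.quasiIso_hom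

open CategoryTheory CategoryTheory.Limits in
/-- In an abelian category with enough injectives, let α : G ⟶ F be a morphism and I an injective
resolution of F. Then G has an injective resolution J together with a morphism of cochain complexes
β : J ⟶ I lying over α (the augmentations commute with α and β) such that for every p there are an
object K^p and an isomorphism J^p ≅ I^p ⊕ K^p identifying β^p with the projection onto the first
factor (so K^p is injective as well). (The published statement is for abelian sheaves on a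
topological space; its proof uses only an embedding of G into an injective object and cokernels, so
the row is stated in any abelian category with enough injectives.) -/
theorem result {C : Type u} [Category.{v} C] [Abelian C]
    [EnoughInjectives C] {G F : C} (α : G ⟶ F) (I : InjectiveResolution F) :
    ∃ (J : InjectiveResolution G) (β : J.cocomplex ⟶ I.cocomplex),
      J.ι ≫ β = (CochainComplex.single₀ C).map α ≫ I.ι ∧
      ∀ p : ℕ, ∃ (K : C) (e : J.cocomplex.X p ≅ I.cocomplex.X p ⊞ K), β.f p = e.hom ≫ biprod.fst := by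
  obtain ⟨J'⟩ : Nonempty (InjectiveResolution G) := ⟨InjectiveResolution.of G⟩
  let D := shiftData I.cocomplex
  let β' := InjectiveResolution.desc α I J'
  have hβ' : J'.ι ≫ β' = (CochainComplex.single₀ C).map α ≫ I.ι :=
    InjectiveResolution.desc_commutes α I J'
  have hinj : ∀ n, Injective ((J'.cocomplex ⊞ D.E).X n) := by
    intro n
    have h1 : Injective (D.E.X n) := by
      change Injective (I.cocomplex.X n ⊞ Yobj I.cocomplex n)
      have : Injective (Yobj I.cocomplex n) := injective_Yobj I n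
      infer_instance
    exact Injective.of_iso (HomologicalComplex.biprodXIso J'.cocomplex D.E n).symm inferInstance
  have hq : QuasiIso (biprod.inl : J'.cocomplex ⟶ J'.cocomplex ⊞ D.E) :=
    quasiIso_inl _ _ D.contraction
  let J : InjectiveResolution G :=
    { cocomplex := J'.cocomplex ⊞ D.E
      injective := hinj
      ι := J'.ι ≫ biprod.inl
      quasiIso := inferInstance }
  refine ⟨J, biprod.desc β' D.π, ?_, ?_⟩
  · change (J'.ι ≫ biprod.inl) ≫ biprod.desc β' D.π = _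
    rw [Category.assoc, biprod.inl_desc, hβ']
  · intro p
    apply exists_iso_of_section _ (D.sec p ≫ (biprod.inr : D.E ⟶ J'.cocomplex ⊞ D.E).f p)
    rw [Category.assoc, ← HomologicalComplex.comp_f, biprod.inr_desc, D.sec_π]

end Groth.Agent.S15302
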