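import Groth.Statements.S15307
import Groth.Agent.Lib.Helper96.TowerLim
import Groth.Agent.Lib.Helper5.RDerShift
-- import your own Groth.Agent.* helpers here

set_option autoImplicit false
universe u
open HomAlg3

namespace Groth.Agent.S15307
open CategoryTheory CategoryTheory.Limits Opposite

/-- The representable presheaf of `n` on the poset `ℕ`, in universe `u`. -/
def repr (n : ℕ) : ℕᵒᵖ ⥤ Type u where
  obj k := ULift.{u} (PLift (k.unop ≤ n))
  map {k k'} f := ↾fun x => ⟨⟨(leOfHom f.unop).trans x.down.down⟩⟩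

instance (n : ℕ) (k : ℕᵒᵖ) : Subsingleton ((repr.{u} n).obj k) :=
  inferInstanceAs (Subsingleton (ULift.{u} (PLift (k.unop ≤ n))))

/-- The free tower `ℤ` in degrees `≤ n`. -/
noncomputable def hTow (n : ℕ) : ℕᵒᵖ ⥤ AddCommGrpCat.{u} := repr.{u} n ⋙ AddCommGrpCat.free.{u}

/-- The inclusion `hTow n ⟶ hTow (n + 1)`. -/
noncomputable def hIncl (n : ℕ) : hTow.{u} n ⟶ hTow.{u} (n + 1) :=
  Functor.whiskerRight
    ({ app := fun k => ↾fun x => ⟨⟨x.down.down.trans (Nat.le_succ n)⟩⟩ } :
      repr.{u} n ⟶ repr.{u} (n + 1)) AddCommGrpCat.free.{u}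

instance (n : ℕ) : Mono (hIncl.{u} n) := by
  have : ∀ k, Mono ((hIncl.{u} n).app k) := by
    intro k
    have : Mono (({ app := fun k => ↾fun x => ⟨⟨x.down.down.trans (Nat.le_succ n)⟩⟩ } :
        repr.{u} n ⟶ repr.{u} (n + 1)).app k) := by
      rw [mono_iff_injective]
      intro a b _
      exact Subsingleton.elim a b
    exact inferInstanceAs (Mono (AddCommGrpCat.free.{u}.map _))
  exact NatTrans.mono_of_mono_app _

variable (T : ℕᵒᵖ ⥤ AddCommGrpCat.{u})

/-- The function on generators defining `ofElem`. -/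
def ofElemFun (n : ℕ) (x : T.obj (op n)) (k : ℕᵒᵖ) : (repr.{u} n).obj k → T.obj k :=
  fun h => T.map (homOfLE h.down.down).op x

lemma ofElemFun_map (n : ℕ) (x : T.obj (op n)) {k k' : ℕᵒᵖ} (f : k ⟶ k') (h : (repr.{u} n).obj k) :
    T.map f (ofElemFun T n x k h) = ofElemFun T n x k' ((repr.{u} n).map f h) := by
  have e : (homOfLE h.down.down).op ≫ f = (homOfLE ((repr.{u} n).map f h).down.down).op :=
    Subsingleton.elim _ _
  have := congrArg (fun g => (T.map g) x) e
  simpa [ofElemFun] using this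

/-- The morphism `hTow n ⟶ T` attached to an element of `T n`. -/
noncomputable def ofElem (n : ℕ) (x : T.obj (op n)) : hTow.{u} n ⟶ T where
  app k := AddCommGrpCat.ofHom (FreeAbelianGroup.lift (ofElemFun T n x k))
  naturality k k' f := by
    ext : 1
    apply FreeAbelianGroup.lift_ext
    intro h
    have e1 : (AddCommGrpCat.free.{u}.map ((repr.{u} n).map f)).hom (FreeAbelianGroup.of h) =
        FreeAbelianGroup.of ((repr.{u} n).map f h) := rfl
    change FreeAbelianGroup.lift (ofElemFun T n x k')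
        ((AddCommGrpCat.free.{u}.map ((repr.{u} n).map f)).hom (FreeAbelianGroup.of h)) =
      (T.map f).hom (FreeAbelianGroup.lift (ofElemFun T n x k) (FreeAbelianGroup.of h))
    rw [e1, FreeAbelianGroup.lift_apply_of, FreeAbelianGroup.lift_apply_of]
    exact (ofElemFun_map T n x f h).symm

/-- the generator of `repr n` -/
def genRep (n : ℕ) : (repr.{u} n).obj (op n) := ⟨⟨le_rfl⟩⟩

/-- the generator of `hTow n` in degree `n` -/
noncomputable def gen (n : ℕ) : (hTow.{u} n).obj (op n) := FreeAbelianGroup.of (genRep.{u} n)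

lemma ofElemFun_genRep (n : ℕ) (x : T.obj (op n)) : ofElemFun T n x (op n) (genRep.{u} n) = x := by
  change (T.map (𝟙 (op n))) x = x
  rw [T.map_id]
  rfl

lemma ofElem_gen (n : ℕ) (x : T.obj (op n)) : (ofElem T n x).app (op n) (gen.{u} n) = x := by
  have h := FreeAbelianGroup.lift_apply_of (ofElemFun T n x (op n)) (genRep.{u} n)
  exact h.trans (ofElemFun_genRep T n x)

lemma hIncl_gen (n : ℕ) :
    (hIncl.{u} n).app (op n) (gen.{u} n) =
      (hTow.{u} (n + 1)).map (homOfLE (Nat.le_succ n)).op (gen.{u} (n + 1)) := by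
  change FreeAbelianGroup.of _ = FreeAbelianGroup.of _
  congr 1

/-- Injective towers have surjective transition maps. -/
lemma surjective_tr_of_injective [Injective T] (n : ℕ) :
    Function.Surjective (T.map (homOfLE (Nat.le_succ n)).op) := by
  intro x
  let ψ : hTow.{u} (n + 1) ⟶ T := Injective.factorThru (ofElem T n x) (hIncl.{u} n)
  have hψ : hIncl.{u} n ≫ ψ = ofElem T n x := Injective.comp_factorThru _ _
  refine ⟨ψ.app (op (n + 1)) (gen.{u} (n + 1)), ?_⟩
  have h1 := NatTrans.naturality_apply ψ (homOfLE (Nat.le_succ n)).op (gen.{u} (n + 1))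
  rw [← h1, ← hIncl_gen]
  have h2 := congrArg (fun φ => φ.app (op n) (gen.{u} n)) hψ
  simpa [ofElem_gen] using h2


/-- the canonical short exact sequence `0 ⟶ A ⟶ I ⟶ Q ⟶ 0` with `I` injective -/
noncomputable def ses [EnoughInjectives (ℕᵒᵖ ⥤ AddCommGrpCat.{u})] :
    ShortComplex (ℕᵒᵖ ⥤ AddCommGrpCat.{u}) :=
  ShortComplex.mk (Injective.ι T) (cokernel.π (Injective.ι T)) (by simp)

lemma ses_shortExact [EnoughInjectives (ℕᵒᵖ ⥤ AddCommGrpCat.{u})] : (ses T).ShortExact :=
  { exact := ShortComplex.exact_cokernel _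
    mono_f := by dsimp [ses]; infer_instance
    epi_g := by dsimp [ses]; infer_instance }

instance [EnoughInjectives (ℕᵒᵖ ⥤ AddCommGrpCat.{u})] : Injective (ses T).X₂ := by
  dsimp [ses]; infer_instance

lemma surjective_app_of_epi {A B : ℕᵒᵖ ⥤ AddCommGrpCat.{u}} (g : A ⟶ B) [Epi g] (k : ℕᵒᵖ) :
    Function.Surjective (g.app k) := by
  have : Epi (g.app k) := inferInstanceAs (Epi (((evaluation _ _).obj k).map g))
  exact (AddCommGrpCat.epi_iff_surjective _).1 this

/-- the cokernel of `A ⟶ I(A)` has surjective transition maps -/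
lemma surjective_tr_ses_X₃ [EnoughInjectives (ℕᵒᵖ ⥤ AddCommGrpCat.{u})] (n : ℕ) :
    Function.Surjective ((ses T).X₃.map (homOfLE (Nat.le_succ n)).op) := by
  intro x
  have := (ses_shortExact T).epi_g
  obtain ⟨y, rfl⟩ := surjective_app_of_epi (ses T).g (op n) x
  obtain ⟨z, rfl⟩ := surjective_tr_of_injective (ses T).X₂ n y
  exact ⟨(ses T).g.app (op (n + 1)) z,
    (NatTrans.naturality_apply (ses T).g (homOfLE (Nat.le_succ n)).op z).symm⟩


open Groth.Agent.Lib.Helper96.TowerLim in
/-- For a short exact sequence of towers whose kernel has surjective transition maps, the map on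
limits is surjective. -/
lemma epi_lim_map_g {S : ShortComplex (ℕᵒᵖ ⥤ AddCommGrpCat.{u})} (hS : S.ShortExact)
    (hsurj : ∀ n, Function.Surjective (S.X₁.map (homOfLE (Nat.le_succ n)).op)) :
    Epi ((lim : (ℕᵒᵖ ⥤ AddCommGrpCat.{u}) ⥤ AddCommGrpCat.{u}).map S.g) := by
  have hg := hS.epi_g
  have hex : ∀ (k : ℕᵒᵖ) (x₂ : S.X₂.obj k), S.g.app k x₂ = 0 → ∃ x₁ : S.X₁.obj k, S.f.app k x₁ = x₂ := by
    intro k
    have h := (hS.map_of_exact ((evaluation ℕᵒᵖ AddCommGrpCat.{u}).obj k)).exact
    exact (ShortComplex.ab_exact_iff _).1 h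
  have hzero : ∀ (k : ℕᵒᵖ) (x₁ : S.X₁.obj k), S.g.app k (S.f.app k x₁) = 0 := by
    intro k x₁
    have := congrArg (fun φ => φ.app k x₁) S.zero
    exact this
  rw [AddCommGrpCat.epi_iff_surjective]
  refine surjective_of_tower S.g (surjective_app_of_epi S.g (op 0)) ?_
    (limit.isLimit S.X₂) (limit.isLimit S.X₃) _ ?_
  · intro n a b' hab
    obtain ⟨a'', rfl⟩ := surjective_app_of_epi S.g (op (n + 1)) b'
    have h0 : S.g.app (op n) (S.X₂.map (homOfLE (Nat.le_succ n)).op a'' - a) = 0 := by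
      rw [map_sub, hab, sub_eq_zero]
      exact NatTrans.naturality_apply S.g (homOfLE (Nat.le_succ n)).op a''
    obtain ⟨q, hq⟩ := hex _ _ h0
    obtain ⟨q', rfl⟩ := hsurj n q
    refine ⟨a'' - S.f.app (op (n + 1)) q', ?_, ?_⟩
    · change S.X₂.map (homOfLE (Nat.le_succ n)).op (a'' - S.f.app (op (n + 1)) q') = a
      rw [map_sub]
      have h1 := NatTrans.naturality_apply S.f (homOfLE (Nat.le_succ n)).op q'
      rw [← h1, hq]
      abel
    · rw [map_sub, hzero, sub_zero]
  · intro n y
    have := limMap_π S.g (op n) (F := S.X₂) (G := S.X₃)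
    exact congrArg (fun φ => φ y) this


open CategoryTheory CategoryTheory.Limits in
/-- For abelian groups, for an inverse system (A_n) of abelian groups indexed by the natural numbers,
the right derived functors lim^(i) A_n of the inverse limit vanish for every i ≥ 2. (The two
instance hypotheses, enough injectives in the category of towers of abelian groups and additivity of
the limit functor, always hold. The published statement is made in an axiomatic setting that also
covers quasi-coherent sheaves; this row is the case of abelian groups.) -/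
theorem result
    [EnoughInjectives (ℕᵒᵖ ⥤ AddCommGrpCat.{u})]
    [(lim : (ℕᵒᵖ ⥤ AddCommGrpCat.{u}) ⥤ AddCommGrpCat.{u}).Additive]
    (A : ℕᵒᵖ ⥤ AddCommGrpCat.{u}) (i : ℕ) (hi : 2 ≤ i) :
    IsZero (((lim : (ℕᵒᵖ ⥤ AddCommGrpCat.{u}) ⥤ AddCommGrpCat.{u}).rightDerived i).obj A) := by

  obtain ⟨j, rfl⟩ : ∃ j, i = j + 2 := ⟨i - 2, by omega⟩
  induction j generalizing A with
  | zero =>
    refine Groth.Agent.Lib.Helper5.isZero_rightDerived_succ_succ_X₁ _ (ses_shortExact A) 0 ?_
    exact Groth.Agent.Lib.Helper5.isZero_rightDerived_one_X₁ _ (ses_shortExact (ses A).X₃)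
      (epi_lim_map_g (ses_shortExact (ses A).X₃) (surjective_tr_ses_X₃ A))
  | succ j ih =>
    exact Groth.Agent.Lib.Helper5.isZero_rightDerived_succ_succ_X₁ _ (ses_shortExact A) (j + 1)
      (ih (ses A).X₃ (by omega))
end Groth.Agent.S15307
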