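import Groth.Statements.S15315
import Mathlib.Tactic
import Mathlib.RingTheory.Ideal.Operations

set_option autoImplicit false
universe u
open ArLef

namespace Groth.Agent.S15315

private lemma main (A : Type u) [CommRing A] (a b : A) (I K J₁ J₂ J₃ : Ideal A)
    (ha : IsSMulRegular (A ⧸ Ideal.span ({b} : Set A)) a)
    (hK1 : K ≤ Ideal.span {a}) (hK2 : ∀ i ∈ I, a * i ∈ K) (hK3 : ∀ k ∈ K, ∃ i' ∈ I, a * i' = k)
    (hJ₁ : J₁ = I ⊔ Ideal.span {b}) (hJ₂ : J₂ = K ⊔ Ideal.span {b})
    (hJ₃ : J₃ = Ideal.span {a} ⊔ Ideal.span {b}) :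
    Module.length A (A ⧸ J₂) = Module.length A (A ⧸ J₃) + Module.length A (A ⧸ J₁) := by
  have h12 : J₁ ≤ Submodule.comap (LinearMap.lsmul A A a) J₂ := by
    intro x hx
    rw [hJ₁] at hx
    obtain ⟨i, hi, c, hc, rfl⟩ := Submodule.mem_sup.mp hx
    show a • (i + c) ∈ J₂
    rw [smul_add, hJ₂]
    refine Ideal.add_mem _ ?_ ?_
    · exact Ideal.mem_sup_left (hK2 i hi)
    · exact Ideal.mem_sup_right (Ideal.mul_mem_left _ _ hc)
  have h23 : J₂ ≤ Submodule.comap (LinearMap.id : A →ₗ[A] A) J₃ := by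
    intro x hx
    show x ∈ J₃
    rw [hJ₃]
    rw [hJ₂] at hx
    obtain ⟨i, hi, c, hc, rfl⟩ := Submodule.mem_sup.mp hx
    refine Ideal.add_mem _ ?_ (Ideal.mem_sup_right hc)
    exact Ideal.mem_sup_left (hK1 hi)
  have hf : Function.Injective (Submodule.mapQ J₁ J₂ (LinearMap.lsmul A A a) h12) := by
    rw [injective_iff_map_eq_zero]
    intro x hx
    obtain ⟨x, rfl⟩ := Submodule.Quotient.mk_surjective _ x
    have hx' : a * x ∈ J₂ := by
      rw [Submodule.mapQ_apply, Submodule.Quotient.mk_eq_zero] at hx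
      exact hx
    rw [hJ₂] at hx'
    obtain ⟨i, hi, c, hc, hsum⟩ := Submodule.mem_sup.mp hx'
    obtain ⟨i', hi', rfl⟩ : ∃ i' ∈ I, a * i' = i := hK3 i hi
    have h1 : a * (x - i') ∈ Ideal.span ({b} : Set A) := by
      have : a * (x - i') = c := by rw [mul_sub, ← hsum]; ring
      rw [this]; exact hc
    have h2 : a • (Ideal.Quotient.mk (Ideal.span ({b} : Set A)) (x - i')) = a • 0 := by
      rw [smul_zero]
      have : a • (Ideal.Quotient.mk (Ideal.span ({b} : Set A)) (x - i')) =
          Ideal.Quotient.mk (Ideal.span ({b} : Set A)) (a * (x - i')) := by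
        rw [map_mul]; rfl
      rw [this]
      exact Ideal.Quotient.eq_zero_iff_mem.mpr h1
    have h3 := ha h2
    have h4 : x - i' ∈ Ideal.span ({b} : Set A) := Ideal.Quotient.eq_zero_iff_mem.mp h3
    rw [Submodule.Quotient.mk_eq_zero, hJ₁]
    have : x = i' + (x - i') := by ring
    rw [this]
    exact Submodule.add_mem_sup hi' h4
  have hg : Function.Surjective (Submodule.mapQ J₂ J₃ LinearMap.id h23) := by
    intro y
    obtain ⟨y, rfl⟩ := Submodule.Quotient.mk_surjective _ y
    exact ⟨Submodule.Quotient.mk y, rfl⟩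
  have hex : Function.Exact (Submodule.mapQ J₁ J₂ (LinearMap.lsmul A A a) h12)
      (Submodule.mapQ J₂ J₃ LinearMap.id h23) := by
    intro y
    obtain ⟨y, rfl⟩ := Submodule.Quotient.mk_surjective _ y
    constructor
    · intro hy
      have hy' : y ∈ J₃ := by
        rw [Submodule.mapQ_apply, Submodule.Quotient.mk_eq_zero] at hy
        exact hy
      rw [hJ₃] at hy'
      obtain ⟨i, hi, c, hc, rfl⟩ := Submodule.mem_sup.mp hy'
      obtain ⟨z, rfl⟩ := Ideal.mem_span_singleton'.mp hi
      refine ⟨Submodule.Quotient.mk z, ?_⟩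
      rw [Submodule.mapQ_apply, Submodule.Quotient.eq]
      have : (LinearMap.lsmul A A a) z - (z * a + c) = -c := by
        show a • z - (z * a + c) = -c
        rw [smul_eq_mul]; ring
      rw [this, hJ₂]
      exact (Ideal.neg_mem_iff _).mpr (Ideal.mem_sup_right hc)
    · rintro ⟨x, hx⟩
      obtain ⟨x, rfl⟩ := Submodule.Quotient.mk_surjective _ x
      rw [← hx, Submodule.mapQ_apply, Submodule.mapQ_apply, Submodule.Quotient.mk_eq_zero, hJ₃]
      exact Ideal.mem_sup_left (Ideal.mul_mem_right _ _ (Ideal.mem_span_singleton_self a))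
  rw [Module.length_eq_add_of_exact _ _ hf hg hex, add_comm]

/-- For a Noetherian commutative ring A, elements a, b with a a non-zero-divisor on A/(b), and an ideal
I, one has length(A/(aI + bA)) = length(A/(a, b)) + length(A/(I + bA)) as extended natural numbers;
in particular when two of the three quotients have finite length so does the third. -/
theorem result (A : Type u) [CommRing A] [IsNoetherianRing A] (a b : A) (I : Ideal A)
    (ha : IsSMulRegular (A ⧸ Ideal.span ({b} : Set A)) a) :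
    Module.length A (A ⧸ (Ideal.span {a} * I ⊔ Ideal.span {b})) =
      Module.length A (A ⧸ Ideal.span ({a, b} : Set A)) + Module.length A (A ⧸ (I ⊔ Ideal.span {b})) := by
  refine main A a b I (Ideal.span {a} * I) _ _ _ ha Ideal.mul_le_left ?_ ?_ rfl rfl ?_
  · intro i hi
    exact Ideal.mul_mem_mul (Ideal.mem_span_singleton_self a) hi
  · intro k hk
    rw [Ideal.mem_span_singleton_mul] at hk
    obtain ⟨z, hz, rfl⟩ := hk
    exact ⟨z, hz, rfl⟩
  · rw [← Ideal.span_union]; rfl

end Groth.Agent.S15315
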