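import Groth.Statements.S15316
import Groth.Agent.Lib.Helper78.NodeAlgPrime
-- import your own Groth.Agent.* helpers here

set_option autoImplicit false
universe u
open ArLef ArLef.NodeAlg

namespace Groth.Agent.S15316


open Groth.Agent.Lib.Helper78.NodeAlgBasic in
/-- abstract core: in a commutative ring, `x y = π'`, `x`, `y` prime nonzerodivisors, `σ` an
automorphism with `σ π' ~ π'`: then `σ` stabilizes or switches `x`, `y` up to units. -/
theorem core {N : Type u} [CommRing N] (x y : N) (hx : Prime x) (hy : Prime y)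
    (hxr : ∀ z, x * z = 0 → z = 0) (hyr : ∀ z, y * z = 0 → z = 0)
    (σ : N ≃+* N) (hσ : Associated (σ (x * y)) (x * y)) :
    (∃ α β : Nˣ, σ x = (α : N) * x ∧ σ y = (β : N) * y) ∨
      (∃ α β : Nˣ, σ x = (α : N) * y ∧ σ y = (β : N) * x) := by
  obtain ⟨u, hu⟩ := hσ
  rw [map_mul] at hu
  have hσx : Prime (σ x) := (MulEquiv.prime_iff σ.toMulEquiv).mpr hx
  -- a general step: if `σ x ∣ w` with `w` a prime nonzerodivisor then `σ x = α w`
  have step : ∀ w : N, Prime w → (∀ z, w * z = 0 → z = 0) → σ x ∣ w → ∃ α : Nˣ, σ x = (α : N) * w := by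
    intro w hw hwr hdvd
    obtain ⟨c, hc⟩ := hdvd
    -- w = σ x * c ; w prime ⇒ w ∣ σ x or w ∣ c
    rcases hw.dvd_or_dvd (hc ▸ dvd_rfl : w ∣ σ x * c) with h1 | h1
    · obtain ⟨d, hd⟩ := h1
      -- σ x = w d, w = w d c ⇒ d c = 1
      have : w * (d * c - 1) = 0 := by
        rw [mul_sub, mul_one, ← mul_assoc, ← hd, ← hc, sub_self]
      have hdc : d * c = 1 := sub_eq_zero.mp (hwr _ this)
      exact ⟨⟨d, c, hdc, by rw [mul_comm]; exact hdc⟩, by rw [hd]; exact mul_comm _ _⟩
    · exfalso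
      obtain ⟨c', rfl⟩ := h1
      have : w * (σ x * c' - 1) = 0 := by
        rw [mul_sub, mul_one]
        rw [sub_eq_zero]
        calc w * (σ x * c') = σ x * (w * c') := by ring
          _ = w := hc.symm
      have h2 : σ x * c' = 1 := sub_eq_zero.mp (hwr _ this)
      exact hσx.not_isUnit (IsUnit.of_mul_eq_one _ h2)
  have hdvd : σ x ∣ x * y := by
    have : σ x * σ y * ↑u = x * y := hu
    exact ⟨σ y * ↑u, by rw [← this]; ring⟩
  rcases hσx.dvd_or_dvd hdvd with h1 | h1
  · left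
    obtain ⟨α, hα⟩ := step x hx hxr h1
    refine ⟨α, α⁻¹ * u⁻¹, hα, ?_⟩
    -- α x σ y u = x y
    have : x * (σ y - ((α⁻¹ * u⁻¹ : Nˣ) : N) * y) = 0 := by
      have h3 : (α : N) * x * σ y * ↑u = x * y := by rw [← hα]; exact hu
      have h4 : x * σ y = ((α⁻¹ * u⁻¹ : Nˣ) : N) * (x * y) := by
        rw [← h3]
        push_cast
        have e1 : ((α⁻¹ : Nˣ) : N) * (α : N) = 1 := by simp
        have e2 : ((u⁻¹ : Nˣ) : N) * (u : N) = 1 := by simp
        calc x * σ y = (((α⁻¹ : Nˣ) : N) * (α : N)) * (((u⁻¹ : Nˣ) : N) * (u : N)) * (x * σ y) := by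
              rw [e1, e2]; ring
          _ = _ := by ring
      rw [mul_sub, h4]; ring
    exact sub_eq_zero.mp (hxr _ this)
  · right
    obtain ⟨α, hα⟩ := step y hy hyr h1
    refine ⟨α, α⁻¹ * u⁻¹, hα, ?_⟩
    have : y * (σ y - ((α⁻¹ * u⁻¹ : Nˣ) : N) * x) = 0 := by
      have h3 : (α : N) * y * σ y * ↑u = x * y := by rw [← hα]; exact hu
      have h4 : y * σ y = ((α⁻¹ * u⁻¹ : Nˣ) : N) * (x * y) := by
        rw [← h3]
        push_cast
        have e1 : ((α⁻¹ : Nˣ) : N) * (α : N) = 1 := by simp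
        have e2 : ((u⁻¹ : Nˣ) : N) * (u : N) = 1 := by simp
        calc y * σ y = (((α⁻¹ : Nˣ) : N) * (α : N)) * (((u⁻¹ : Nˣ) : N) * (u : N)) * (y * σ y) := by
              rw [e1, e2]; ring
          _ = _ := by ring
      rw [mul_sub, h4]; ring
    exact sub_eq_zero.mp (hyr _ this)

/-- Let B be a discrete valuation ring with uniformizer π and N = B[[t, e]]/(te - π) the complete local
ring of a semi-stable arithmetic surface at a singular point of the closed fibre. A ring
automorphism σ of N with σ(π) associated to π (for instance a B-algebra automorphism, or one lying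
over an automorphism of B) either stabilizes the two branches, σ(t) = α t and σ(e) = β e for units
α, β, or switches them, σ(t) = α e and σ(e) = β t for units α, β. (The published setting has B
complete with algebraically closed residue field and σ linear over B or over an automorphism of B;
the argument uses only that σ(π) generates (π).) -/
theorem result (B : Type u) [CommRing B] [IsDomain B] [IsDiscreteValuationRing B] (π : B) (hπ : Irreducible π)
    (σ : ArLef.NodeAlg B π ≃+* ArLef.NodeAlg B π)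
    (hσ : Associated (σ (algebraMap B (ArLef.NodeAlg B π) π)) (algebraMap B (ArLef.NodeAlg B π) π)) :
    (∃ α β : (ArLef.NodeAlg B π)ˣ, σ (ArLef.NodeAlg.t π) = (α : ArLef.NodeAlg B π) * ArLef.NodeAlg.t π ∧ σ (ArLef.NodeAlg.e π) = (β : ArLef.NodeAlg B π) * ArLef.NodeAlg.e π) ∨
      (∃ α β : (ArLef.NodeAlg B π)ˣ, σ (ArLef.NodeAlg.t π) = (α : ArLef.NodeAlg B π) * ArLef.NodeAlg.e π ∧ σ (ArLef.NodeAlg.e π) = (β : ArLef.NodeAlg B π) * ArLef.NodeAlg.t π) := by
  have hπ0 : π ≠ 0 := hπ.ne_zero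
  have hπp : Prime π := hπ.prime
  have h01 : (0 : Fin 2) ≠ 1 := by decide
  have h10 : (1 : Fin 2) ≠ 0 := by decide
  have hte : ArLef.NodeAlg.t π * ArLef.NodeAlg.e π = algebraMap B (ArLef.NodeAlg B π) π :=
    Groth.Agent.Lib.Helper78.NodeAlgBasic.t_mul_e π
  exact core (ArLef.NodeAlg.t π) (ArLef.NodeAlg.e π)
    (Groth.Agent.Lib.Helper78.NodeAlgBasic.v_prime π hπp h10)
    (Groth.Agent.Lib.Helper78.NodeAlgBasic.v_prime π hπp h01)
    (fun z hz => Groth.Agent.Lib.Helper78.NodeAlgBasic.v_mul_eq_zero π hπ0 h10 z hz)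
    (fun z hz => Groth.Agent.Lib.Helper78.NodeAlgBasic.v_mul_eq_zero π hπ0 h01 z hz)
    σ (by rw [hte]; exact hσ)

end Groth.Agent.S15316
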