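import Groth.Statements.S15317
import Groth.Agent.Lib.Helper78.NodeAlgFix

set_option autoImplicit false
universe u
open ArLef ArLef.NodeAlg

namespace Groth.Agent.S15317

open Groth.Agent.Lib.Helper78.NodeAlgBasic in
/-- core of S15317: ring automorphism fixing `B`, `σ t = α t`, `σ e = β e`. -/
theorem core (B : Type u) [CommRing B] [IsDomain B] [IsDiscreteValuationRing B] (π : B) (hπ : Irreducible π)
    (σ : ArLef.NodeAlg B π ≃+* ArLef.NodeAlg B π)
    (hσB : ∀ b : B, σ (algebraMap B (ArLef.NodeAlg B π) b) = algebraMap B (ArLef.NodeAlg B π) b)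
    (α β : ArLef.NodeAlg B π)
    (ht : σ (ArLef.NodeAlg.t π) = α * ArLef.NodeAlg.t π)
    (he : σ (ArLef.NodeAlg.e π) = β * ArLef.NodeAlg.e π) :
    α * β = 1 ∧ (α = 1 → ∀ z, σ z = z) ∧
      ArLef.fixIdeal σ = Ideal.span {α - 1} *
        Ideal.span ({ArLef.NodeAlg.t π, ArLef.NodeAlg.e π} : Set (ArLef.NodeAlg B π)) := by
  have hπ0 : π ≠ 0 := hπ.ne_zero
  have hπu : ¬ IsUnit π := hπ.not_isUnit
  have hte := t_mul_e π
  have hab : α * β = 1 := by
    have h1 : σ (ArLef.NodeAlg.t π * ArLef.NodeAlg.e π) = ArLef.NodeAlg.t π * ArLef.NodeAlg.e π := by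
      rw [hte, hσB]
    rw [map_mul, ht, he] at h1
    have h2 : algebraMap B (ArLef.NodeAlg B π) π * (α * β - 1) = 0 := by
      rw [← hte]; linear_combination h1
    exact sub_eq_zero.mp (pi_mul_eq_zero π hπ0 _ h2)
  refine ⟨hab, ?_, ?_⟩
  · intro hα z
    have hβ : β = 1 := by rw [hα, one_mul] at hab; exact hab
    have := sub_mem_of_gens π hπu σ ⊥ (by rw [ht, hα, one_mul, sub_self]; exact Submodule.zero_mem _)
      (by rw [he, hβ, one_mul, sub_self]; exact Submodule.zero_mem _)
      (fun b => by rw [hσB, sub_self]; exact Submodule.zero_mem _) z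
    exact sub_eq_zero.mp ((Submodule.mem_bot _).mp this)
  · have hgt : (α - 1) * ArLef.NodeAlg.t π = σ (ArLef.NodeAlg.t π) - ArLef.NodeAlg.t π := by
      rw [ht]; ring
    have hge : (α - 1) * ArLef.NodeAlg.e π = -α * (σ (ArLef.NodeAlg.e π) - ArLef.NodeAlg.e π) := by
      rw [he]; linear_combination (ArLef.NodeAlg.e π) * hab
    have hge' : σ (ArLef.NodeAlg.e π) - ArLef.NodeAlg.e π = (α - 1) * (-β * ArLef.NodeAlg.e π) := by
      rw [he]; linear_combination (ArLef.NodeAlg.e π) * hab
    apply le_antisymm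
    · apply fixIdeal_le π hπu
      · rw [← hgt]
        exact Ideal.mul_mem_mul (Ideal.mem_span_singleton_self _) (Ideal.subset_span (by simp))
      · rw [hge']
        exact Ideal.mul_mem_mul (Ideal.mem_span_singleton_self _)
          (Ideal.mul_mem_left _ _ (Ideal.subset_span (by simp)))
      · intro b
        rw [hσB, sub_self]
        exact Submodule.zero_mem _
    · rw [Ideal.mul_le]
      intro r hr s hs
      obtain ⟨c, rfl⟩ := Ideal.mem_span_singleton'.mp hr
      obtain ⟨a, b, rfl⟩ := Ideal.mem_span_pair.mp hs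
      have e1 : c * (α - 1) * (a * ArLef.NodeAlg.t π + b * ArLef.NodeAlg.e π) =
          c * a * ((α - 1) * ArLef.NodeAlg.t π) + c * b * ((α - 1) * ArLef.NodeAlg.e π) := by ring
      rw [e1, hgt, hge]
      exact Ideal.add_mem _ (Ideal.mul_mem_left _ _ (sub_mem_fixIdeal _ _))
        (Ideal.mul_mem_left _ _ (Ideal.mul_mem_left _ _ (sub_mem_fixIdeal _ _)))

/-- Let B be a discrete valuation ring with uniformizer π, N = B[[t, e]]/(te - π), and σ a non-trivial
B-algebra automorphism of N stabilizing both branches of the closed fibre (σ(t) associated to t,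
σ(e) associated to e). Then the fixed-point ideal of σ, generated by all σ(r) - r, is g·(t, e) for a
non-zero g: the divisorial part of the fixed locus is cut out by g and its residual part is the
reduced closed point, of multiplicity one. (Stated in the complete local ring, where the published
argument takes place; the published setting has B complete with algebraically closed residue field.) -/
theorem result (B : Type u) [CommRing B] [IsDomain B] [IsDiscreteValuationRing B] (π : B) (hπ : Irreducible π)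
    (σ : ArLef.NodeAlg B π ≃ₐ[B] ArLef.NodeAlg B π) (hσ : σ ≠ AlgEquiv.refl)
    (ht : Associated (σ (ArLef.NodeAlg.t π)) (ArLef.NodeAlg.t π))
    (he : Associated (σ (ArLef.NodeAlg.e π)) (ArLef.NodeAlg.e π)) :
    ∃ g : ArLef.NodeAlg B π, g ≠ 0 ∧
      ArLef.fixIdeal σ = Ideal.span {g} * Ideal.span ({ArLef.NodeAlg.t π, ArLef.NodeAlg.e π} : Set (ArLef.NodeAlg B π)) := by
  obtain ⟨u, hu⟩ := ht
  obtain ⟨w, hw⟩ := he
  have ht' : σ (ArLef.NodeAlg.t π) = ((u⁻¹ : (ArLef.NodeAlg B π)ˣ) : ArLef.NodeAlg B π) * ArLef.NodeAlg.t π := by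
    exact ((Units.eq_mul_inv_iff_mul_eq u).mpr hu).trans (mul_comm _ _)
  have he' : σ (ArLef.NodeAlg.e π) = ((w⁻¹ : (ArLef.NodeAlg B π)ˣ) : ArLef.NodeAlg B π) * ArLef.NodeAlg.e π := by
    exact ((Units.eq_mul_inv_iff_mul_eq w).mpr hw).trans (mul_comm _ _)
  obtain ⟨hab, hid, hfix⟩ := core B π hπ σ.toRingEquiv (fun b => σ.commutes b) _ _ ht' he'
  refine ⟨((u⁻¹ : (ArLef.NodeAlg B π)ˣ) : ArLef.NodeAlg B π) - 1, ?_, hfix⟩
  intro h0
  apply hσ
  ext z
  exact hid (sub_eq_zero.mp h0) z

end Groth.Agent.S15317
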