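import Groth.Statements.S15318
import Groth.Agent.Lib.Helper78.NodeAlgSwitch

set_option autoImplicit false
universe u
open ArLef ArLef.NodeAlg

namespace Groth.Agent.S15318

open Groth.Agent.Lib.Helper78.NodeAlgBasic in
/-- core of S15318: ring automorphism fixing `B`, `σ t = α e`, `σ e = β t`. -/
theorem core (B : Type u) [CommRing B] [IsDomain B] [IsDiscreteValuationRing B] (π : B) (hπ : Irreducible π)
    (σ : ArLef.NodeAlg B π ≃+* ArLef.NodeAlg B π)
    (hσB : ∀ b : B, σ (algebraMap B (ArLef.NodeAlg B π) b) = algebraMap B (ArLef.NodeAlg B π) b)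
    (α β : ArLef.NodeAlg B π) (hα : IsUnit α)
    (ht : σ (ArLef.NodeAlg.t π) = α * ArLef.NodeAlg.e π)
    (he : σ (ArLef.NodeAlg.e π) = β * ArLef.NodeAlg.t π) :
    ArLef.fixIdeal σ = Ideal.span {α * ArLef.NodeAlg.e π - ArLef.NodeAlg.t π} ∧
      α * ArLef.NodeAlg.e π - ArLef.NodeAlg.t π ∉
        (Ideal.span ({ArLef.NodeAlg.t π, ArLef.NodeAlg.e π} : Set (ArLef.NodeAlg B π))) ^ 2 ∧
      ∀ z : ArLef.NodeAlg B π, algebraMap B (ArLef.NodeAlg B π) π * z ∈
        Ideal.span ({α * ArLef.NodeAlg.e π - ArLef.NodeAlg.t π} : Set (ArLef.NodeAlg B π)) →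
        z ∈ Ideal.span ({α * ArLef.NodeAlg.e π - ArLef.NodeAlg.t π} : Set (ArLef.NodeAlg B π)) := by
  have hπ0 : π ≠ 0 := hπ.ne_zero
  have hπu : ¬ IsUnit π := hπ.not_isUnit
  have hπp : Prime π := hπ.prime
  have hte := t_mul_e π
  have hab : α * β = 1 := by
    have h1 : σ (ArLef.NodeAlg.t π * ArLef.NodeAlg.e π) = ArLef.NodeAlg.t π * ArLef.NodeAlg.e π := by
      rw [hte, hσB]
    rw [map_mul, ht, he] at h1
    have h2 : algebraMap B (ArLef.NodeAlg B π) π * (α * β - 1) = 0 := by
      rw [← hte]; linear_combination h1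
    exact sub_eq_zero.mp (pi_mul_eq_zero π hπ0 _ h2)
  refine ⟨?_, mul_e_sub_t_not_mem_sq π hπu α, ?_⟩
  · apply le_antisymm
    · apply fixIdeal_le π hπu
      · rw [ht]; exact Ideal.mem_span_singleton_self _
      · have : σ (ArLef.NodeAlg.e π) - ArLef.NodeAlg.e π =
            -β * (α * ArLef.NodeAlg.e π - ArLef.NodeAlg.t π) := by
          rw [he]; linear_combination (ArLef.NodeAlg.e π) * hab
        rw [this]
        exact Ideal.mul_mem_left _ _ (Ideal.mem_span_singleton_self _)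
      · intro b
        rw [hσB, sub_self]
        exact Submodule.zero_mem _
    · rw [Ideal.span_le, Set.singleton_subset_iff, ← ht]
      exact sub_mem_fixIdeal _ _
  · intro z hz
    exact mem_span_of_pi_mul_mem π hπp _ (t_not_dvd_mul_e_sub_t π hπp α hα)
      (e_not_dvd_mul_e_sub_t π hπp α) z hz

/-- Let B be a discrete valuation ring with uniformizer π, N = B[[t, e]]/(te - π), and σ a B-algebra
automorphism of N switching the two branches of the closed fibre (σ(t) associated to e, σ(e)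
associated to t). Then the fixed-point ideal of σ is principal, generated by an element h of order
one (h is not in (t, e)²), and π is a non-zero-divisor modulo h: the fixed locus is a horizontal
regular divisor through the point with empty residual part. (Stated in the complete local ring,
where the published argument takes place; the published setting has B complete with algebraically
closed residue field.) -/
theorem result (B : Type u) [CommRing B] [IsDomain B] [IsDiscreteValuationRing B] (π : B) (hπ : Irreducible π)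
    (σ : ArLef.NodeAlg B π ≃ₐ[B] ArLef.NodeAlg B π)
    (ht : Associated (σ (ArLef.NodeAlg.t π)) (ArLef.NodeAlg.e π))
    (he : Associated (σ (ArLef.NodeAlg.e π)) (ArLef.NodeAlg.t π)) :
    ∃ h : ArLef.NodeAlg B π, ArLef.fixIdeal σ = Ideal.span {h} ∧
      h ∉ (Ideal.span ({ArLef.NodeAlg.t π, ArLef.NodeAlg.e π} : Set (ArLef.NodeAlg B π))) ^ 2 ∧
      IsSMulRegular (ArLef.NodeAlg B π ⧸ Ideal.span ({h} : Set (ArLef.NodeAlg B π))) π := by
  obtain ⟨u, hu⟩ := ht
  obtain ⟨w, hw⟩ := he
  have ht' : σ (ArLef.NodeAlg.t π) = ((u⁻¹ : (ArLef.NodeAlg B π)ˣ) : ArLef.NodeAlg B π) * ArLef.NodeAlg.e π :=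
    ((Units.eq_mul_inv_iff_mul_eq u).mpr hu).trans (mul_comm _ _)
  have he' : σ (ArLef.NodeAlg.e π) = ((w⁻¹ : (ArLef.NodeAlg B π)ˣ) : ArLef.NodeAlg B π) * ArLef.NodeAlg.t π :=
    ((Units.eq_mul_inv_iff_mul_eq w).mpr hw).trans (mul_comm _ _)
  obtain ⟨hfix, hsq, hreg⟩ := core B π hπ σ.toRingEquiv (fun b => σ.commutes b) _ _ (u⁻¹).isUnit ht' he'
  refine ⟨_, hfix, hsq, ?_⟩
  intro x y hxy
  obtain ⟨x, rfl⟩ := Ideal.Quotient.mk_surjective x
  obtain ⟨y, rfl⟩ := Ideal.Quotient.mk_surjective y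
  rw [Ideal.Quotient.eq]
  apply hreg
  have h1 : (Ideal.Quotient.mk (Ideal.span ({((u⁻¹ : (ArLef.NodeAlg B π)ˣ) : ArLef.NodeAlg B π) * ArLef.NodeAlg.e π - ArLef.NodeAlg.t π} : Set (ArLef.NodeAlg B π)))) (algebraMap B (ArLef.NodeAlg B π) π * x) =
      (Ideal.Quotient.mk _) (algebraMap B (ArLef.NodeAlg B π) π * y) := by
    rw [← Algebra.smul_def, ← Algebra.smul_def]
    exact hxy
  rw [Ideal.Quotient.eq, ← mul_sub] at h1
  exact h1

end Groth.Agent.S15318
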