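import Groth.Statements.S15319
import Groth.Agent.Lib.Helper78.NodeAlgBasic
-- import your own Groth.Agent.* helpers here

set_option autoImplicit false
universe u
open ArLef ArLef.NodeAlg

namespace Groth.Agent.S15319

/-- Let B be a discrete valuation ring with uniformizer π, N = B[[t, e]]/(te - π) the complete local
ring of a semi-stable arithmetic surface over B at a singular point of the closed fibre, and σ a
ring automorphism of N sending π to π + γ π^j with γ a unit of B and j ≥ 1 (σ lies over an
automorphism τ of B with v(τ(π) - π) = j). Then the fixed-point ideal of σ is not contained in (π^j)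
= (t^j e^j): the two branches through the point cannot both occur with multiplicity j in the
divisorial part of the fixed locus. (The published setting has B complete with algebraically closed
residue field.) -/
theorem result (B : Type u) [CommRing B] [IsDomain B] [IsDiscreteValuationRing B] (π : B) (hπ : Irreducible π)
    (j : ℕ) (hj : 1 ≤ j) (γ : B) (hγ : IsUnit γ)
    (σ : ArLef.NodeAlg B π ≃+* ArLef.NodeAlg B π)
    (hσ : σ (algebraMap B (ArLef.NodeAlg B π) π) = algebraMap B (ArLef.NodeAlg B π) (π + γ * π ^ j)) :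
    ¬ ArLef.fixIdeal σ ≤ Ideal.span ({algebraMap B (ArLef.NodeAlg B π) (π ^ j)} : Set (ArLef.NodeAlg B π)) := by
  intro hle
  have hπ0 : π ≠ 0 := hπ.ne_zero
  let ι := algebraMap B (ArLef.NodeAlg B π)
  -- `σ t - t` and `σ e - e` are multiples of `π ^ j`
  have ht : σ (t π) - t π ∈ ArLef.fixIdeal σ := Ideal.subset_span ⟨t π, rfl⟩
  have he : σ (e π) - e π ∈ ArLef.fixIdeal σ := Ideal.subset_span ⟨e π, rfl⟩
  obtain ⟨a, ha⟩ := Ideal.mem_span_singleton.mp (hle ht)
  obtain ⟨b, hb⟩ := Ideal.mem_span_singleton.mp (hle he)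
  have hσt : σ (t π) = t π + ι (π ^ j) * a := by rw [← ha]; ring
  have hσe : σ (e π) = e π + ι (π ^ j) * b := by rw [← hb]; ring
  have hte : t π * e π = ι π := Groth.Agent.Lib.Helper78.NodeAlgBasic.t_mul_e π
  -- compare the two expressions for `σ π`
  have h1 : σ (ι π) = ι π + ι (π ^ j) * (a * e π + b * t π + ι (π ^ j) * a * b) := by
    rw [← hte, map_mul, hσt, hσe]; ring
  have h2 : ι (π ^ j) * (ι γ - (a * e π + b * t π + ι (π ^ j) * a * b)) = 0 := by
    have : ι (π + γ * π ^ j) = ι π + ι (π ^ j) * ι γ := by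
      rw [map_add, map_mul]; ring
    have h3 := hσ.symm.trans h1
    rw [this] at h3
    have h4 := add_left_cancel h3
    rw [mul_sub, h4, sub_self]
  have h5 := Groth.Agent.Lib.Helper78.NodeAlgBasic.pi_pow_mul_eq_zero π hπ0 j _ h2
  -- apply the map to `B / π`
  have h6 := congrArg (Groth.Agent.Lib.Helper78.NodeAlgBasic.toResidue π) h5
  have hπj : Groth.Agent.Lib.Helper78.NodeAlgBasic.toResidue π (ι (π ^ j)) = 0 := by
    rw [Groth.Agent.Lib.Helper78.NodeAlgBasic.toResidue_algebraMap,
      Ideal.Quotient.eq_zero_iff_mem, Ideal.mem_span_singleton]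
    exact dvd_pow_self π (by omega)
  rw [map_sub, map_add, map_add, map_mul, map_mul, map_mul, map_mul, hπj,
    Groth.Agent.Lib.Helper78.NodeAlgBasic.toResidue_t,
    Groth.Agent.Lib.Helper78.NodeAlgBasic.toResidue_e,
    Groth.Agent.Lib.Helper78.NodeAlgBasic.toResidue_algebraMap, map_zero] at h6
  simp only [mul_zero, zero_mul, add_zero, sub_zero] at h6
  rw [Ideal.Quotient.eq_zero_iff_mem, Ideal.mem_span_singleton] at h6
  exact hπ.not_isUnit (isUnit_of_dvd_unit h6 hγ)

end Groth.Agent.S15319
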