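import Groth.Statements.S1532
import Groth.Agent.Lib.Helper67.CurveKL2

set_option autoImplicit false
universe u
open CategoryTheory CategoryTheory.Limits AlgebraicGeometry
open Curves

namespace Groth.Agent.S1532

/-- Let X be a proper integral one-dimensional scheme over k whose global functions are k, of genus g, L
an invertible module and Z a closed subscheme of dimension zero with ideal sheaf I, with deg L > 2g
- 2 + deg Z. Then H^1(X, I ⊗ L) = 0, and if moreover H^0(X, I ⊗ L) = 0 then g = 0 and deg L = deg Z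
- 1. -/
theorem result (k : Type u) [Field k] (X : Scheme.{u}) [X.Over (Spec (CommRingCat.of k))]
    [IsProper (X ↘ (Spec (CommRingCat.of k)))] [IsIntegral X] (hdim : topologicalKrullDim X = 1)
    (h0 : Module.finrank k (Coh.HH X (Coh.structureModule X) 0) = 1)
    (L : X.Modules) (hL : PicF.IsInvertible L) (Z : X.IdealSheafData) (hZ : topologicalKrullDim (Z.support : Set X) ≤ 0)
    (hdeg : 2 * (Curv2.genus k X : ℤ) - 2 + Module.finrank k (Coh.HH X (ClSub.quotMod Z) 0) < Curv2.deg k X L 1) :
    Subsingleton (Coh.HH X (CohB1.tensorMod (ClSub.idealMod Z) L) 1) ∧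
      (Subsingleton (Coh.HH X (CohB1.tensorMod (ClSub.idealMod Z) L) 0) →
        Curv2.genus k X = 0 ∧ Curv2.deg k X L 1 = Module.finrank k (Coh.HH X (ClSub.quotMod Z) 0) - 1) := by
  have hdim' : topologicalKrullDim X ≤ 1 := hdim.le
  haveI : IsNoetherian X :=
    Groth.Agent.Lib.Helper67.CurveP1.isNoetherian_of_proper k (X ↘ Spec (CommRingCat.of k))
  have hH1 : Subsingleton (Coh.HH X (CohB1.tensorMod (ClSub.idealMod Z) L) 1) := by
    by_contra hns
    rw [not_subsingleton_iff_nontrivial] at hns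
    have := Groth.Agent.Lib.Helper67.CurveKL.deg_le_of_nontrivial_h1_twist k X hdim' h0 Z hZ hL hns
    omega
  refine ⟨hH1, fun hH0 => ?_⟩
  have hLcoh := Groth.Agent.Lib.Helper67.CurveDeg.isCoh_of_rank
    (Groth.Agent.Lib.Helper67.CurveTors.rank_one_of_isInvertible hL)
  have hFcoh : Coh.IsCoh (CohB1.tensorMod (ClSub.idealMod Z) L) :=
    Groth.Agent.Lib.Helper67.TensZero.isCoh_tensorMod
      (Groth.Agent.Lib.Helper67.CurveKL.isCoh_idealMod X Z) hLcoh
  have hχF := Groth.Agent.Lib.Helper67.CurveInv.euler_eq_of_coh k X hdim' _ hFcoh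
  have hχO := Groth.Agent.Lib.Helper67.CurveInv.euler_eq_of_coh k X hdim' _
    (Groth.Agent.Lib.Helper67.GenCurve.isCoh_structureModule X)
  have htw := Groth.Agent.Lib.Helper67.CurveKL.euler_idealTwist k X hdim' Z hZ hL
  have e0 : Module.finrank k (Coh.HH X (CohB1.tensorMod (ClSub.idealMod Z) L) 0) = 0 :=
    Module.finrank_zero_of_subsingleton
  have e1 : Module.finrank k (Coh.HH X (CohB1.tensorMod (ClSub.idealMod Z) L) 1) = 0 :=
    Module.finrank_zero_of_subsingleton
  unfold Curv2.deg at hdeg ⊢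
  unfold Curv2.genus at hdeg ⊢
  rw [hχO, h0] at hdeg ⊢
  rw [hχF, e0, e1] at htw
  push_cast at hdeg htw ⊢
  constructor
  · omega
  · omega

end Groth.Agent.S1532
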