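import Groth.Statements.S15320
import Groth.Agent.Lib.Helper78.NodeAlgLength

set_option autoImplicit false
universe u
open ArLef ArLef.NodeAlg

namespace Groth.Agent.S15320

open Groth.Agent.Lib.Helper78.NodeAlgBasic in
/-- core of S15320. -/
theorem core (B : Type u) [CommRing B] [IsDomain B] [IsDiscreteValuationRing B] (π : B) (hπ : Irreducible π)
    (j : ℕ) (hj : 1 ≤ j) (γ : B) (hγ : IsUnit γ)
    (σ : ArLef.NodeAlg B π ≃+* ArLef.NodeAlg B π)
    (hσB : ∀ b : B, σ (algebraMap B (ArLef.NodeAlg B π) b) - algebraMap B (ArLef.NodeAlg B π) b ∈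
      Ideal.span ({algebraMap B (ArLef.NodeAlg B π) (π ^ j)} : Set (ArLef.NodeAlg B π)))
    (hσπ : σ (algebraMap B (ArLef.NodeAlg B π) π) = algebraMap B (ArLef.NodeAlg B π) (π + γ * π ^ j))
    (α β : ArLef.NodeAlg B π) (hα : IsUnit α)
    (ht : σ (ArLef.NodeAlg.t π) = α * ArLef.NodeAlg.e π)
    (he : σ (ArLef.NodeAlg.e π) = β * ArLef.NodeAlg.t π) :
    ArLef.fixIdeal σ = K (ArLef.NodeAlg.e π) (α * ArLef.NodeAlg.e π - ArLef.NodeAlg.t π) (2 * j - 1) := by
  have hπ0 : π ≠ 0 := hπ.ne_zero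
  have hπu : ¬ IsUnit π := hπ.not_isUnit
  have hπp : Prime π := hπ.prime
  have hte := t_mul_e π
  set t := ArLef.NodeAlg.t π with htdef
  set e := ArLef.NodeAlg.e π with hedef
  set h := α * e - t with hh
  set δ : ArLef.NodeAlg B π := algebraMap B (ArLef.NodeAlg B π) (γ * π ^ (j - 1)) with hδ
  obtain ⟨i, rfl⟩ : ∃ i, j = i + 1 := ⟨j - 1, by omega⟩
  have hm : 2 * (i + 1) - 1 = 2 * i + 1 := by omega
  rw [hm]
  simp only [Nat.add_sub_cancel] at hδ
  have hab : α * β = 1 + δ := by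
    have h1 : σ (t * e) = algebraMap B (ArLef.NodeAlg B π) π * (1 + δ) := by
      rw [hte, hσπ, hδ, ← map_one (algebraMap B (ArLef.NodeAlg B π)), ← map_add, ← map_mul]
      congr 1
      ring
    rw [map_mul, ht, he] at h1
    have h2 : algebraMap B (ArLef.NodeAlg B π) π * (α * β - (1 + δ)) = 0 := by
      rw [mul_sub, ← h1, ← hte]; ring
    exact sub_eq_zero.mp (pi_mul_eq_zero π hπ0 _ h2)
  -- the key congruence
  have hcong : algebraMap B (ArLef.NodeAlg B π) (π ^ i) * e - α ^ i * e ^ (2 * i + 1) ∈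
      Ideal.span ({h} : Set (ArLef.NodeAlg B π)) := by
    have h1 : t * e - α * e * e ∣ (t * e) ^ i - (α * e * e) ^ i := sub_dvd_pow_sub_pow _ _ _
    have h2 : h ∣ t * e - α * e * e := ⟨-e, by rw [hh]; ring⟩
    obtain ⟨c, hc⟩ := h2.trans h1
    rw [Ideal.mem_span_singleton]
    refine ⟨c * e, ?_⟩
    rw [map_pow, ← hte]
    linear_combination e * hc
  have hK_e : e ^ (2 * i + 1) ∈ K e h (2 * i + 1) := Ideal.subset_span (by simp)
  have hK_h : h ∈ K e h (2 * i + 1) := Ideal.subset_span (by simp)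
  have hspan_le : Ideal.span ({h} : Set (ArLef.NodeAlg B π)) ≤ K e h (2 * i + 1) := by
    rw [Ideal.span_le, Set.singleton_subset_iff]; exact hK_h
  have hπie : algebraMap B (ArLef.NodeAlg B π) (π ^ i) * e ∈ K e h (2 * i + 1) := by
    have := Ideal.add_mem _ (hspan_le hcong) (Ideal.mul_mem_left _ (α ^ i) hK_e)
    rwa [sub_add_cancel] at this
  have hδe : δ * e = algebraMap B (ArLef.NodeAlg B π) γ * (algebraMap B (ArLef.NodeAlg B π) (π ^ i) * e) := by
    rw [hδ, map_mul]; ring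
  have hσe : σ e - e = δ * e - β * h := by
    rw [he, hh]; linear_combination e * hab
  apply le_antisymm
  · apply fixIdeal_le π hπu
    · rw [ht]; exact hK_h
    · rw [hσe, hδe]
      exact Ideal.sub_mem _ (Ideal.mul_mem_left _ _ hπie) (Ideal.mul_mem_left _ _ hK_h)
    · intro b
      have hle : Ideal.span ({algebraMap B (ArLef.NodeAlg B π) (π ^ (i + 1))} : Set (ArLef.NodeAlg B π)) ≤
          K e h (2 * i + 1) := by
        rw [Ideal.span_le, Set.singleton_subset_iff, pow_succ, map_mul, ← hte]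
        have : algebraMap B (ArLef.NodeAlg B π) (π ^ i) * (t * e) =
            t * (algebraMap B (ArLef.NodeAlg B π) (π ^ i) * e) := by ring
        rw [this]
        exact Ideal.mul_mem_left _ _ hπie
      exact hle (hσB b)
  · have hI_h : h ∈ ArLef.fixIdeal σ := by
      rw [hh, ← ht]; exact sub_mem_fixIdeal _ _
    have hI_δe : δ * e ∈ ArLef.fixIdeal σ := by
      have : δ * e = (σ e - e) + β * h := by rw [hσe]; ring
      rw [this]
      exact Ideal.add_mem _ (sub_mem_fixIdeal _ _) (Ideal.mul_mem_left _ _ hI_h)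
    have hI_πe : algebraMap B (ArLef.NodeAlg B π) (π ^ i) * e ∈ ArLef.fixIdeal σ := by
      rw [hδe] at hI_δe
      exact (Ideal.unit_mul_mem_iff_mem _ (hγ.map (algebraMap B (ArLef.NodeAlg B π)))).mp hI_δe
    have hI_e : e ^ (2 * i + 1) ∈ ArLef.fixIdeal σ := by
      have h1 : Ideal.span ({h} : Set (ArLef.NodeAlg B π)) ≤ ArLef.fixIdeal σ := by
        rw [Ideal.span_le, Set.singleton_subset_iff]; exact hI_h
      have h2 : α ^ i * e ^ (2 * i + 1) ∈ ArLef.fixIdeal σ := by
        have := Ideal.sub_mem _ hI_πe (h1 hcong)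
        rwa [sub_sub_cancel] at this
      exact (Ideal.unit_mul_mem_iff_mem _ (hα.pow i)).mp h2
    rw [K, Ideal.span_le]
    rintro x (rfl | rfl)
    · exact hI_e
    · exact hI_h

open Groth.Agent.Lib.Helper78.NodeAlgBasic in
theorem one_mem_of_pow_e_mem (B : Type u) [CommRing B] [IsDomain B] (π : B) (hπ : Prime π)
    (h : ArLef.NodeAlg B π) (he : ¬ ArLef.NodeAlg.e π ∣ h) (n : ℕ)
    (hn : ArLef.NodeAlg.e π ^ n ∈ Ideal.span ({h} : Set (ArLef.NodeAlg B π))) :
    (1 : ArLef.NodeAlg B π) ∈ Ideal.span ({h} : Set (ArLef.NodeAlg B π)) := by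
  induction n with
  | zero => simpa using hn
  | succ n ih =>
    apply ih
    rw [pow_succ'] at hn
    exact mem_span_of_e_mul_mem π hπ h he _ hn

/-- Let B be a discrete valuation ring with uniformizer π, N = B[[t, e]]/(te - π) the complete local
ring of a semi-stable arithmetic surface over B at a singular point x of the closed fibre, and σ a
ring automorphism of N over an automorphism τ of B with v(τ(π) - π) = j ≥ 1, that is σ(π) = π + γ
π^j with γ a unit of B, and with σ(b) - b ∈ π^j N for every b ∈ B (automatic when B is totally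
ramified over the fixed ring of τ, as in the published setting, where the residue field is
algebraically closed). If σ switches the two branches through x (σ(t) associated to e and σ(e) to
t), then the fixed-point ideal I of σ is contained in no proper principal ideal (x is not on the
divisorial part of the fixed locus) and N/I has length 2j - 1 (the multiplicity of x in the residual
fixed-point scheme). -/
theorem result (B : Type u) [CommRing B] [IsDomain B] [IsDiscreteValuationRing B] (π : B) (hπ : Irreducible π)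
    (j : ℕ) (hj : 1 ≤ j) (γ : B) (hγ : IsUnit γ)
    (σ : ArLef.NodeAlg B π ≃+* ArLef.NodeAlg B π)
    (hσB : ∀ b : B, σ (algebraMap B (ArLef.NodeAlg B π) b) - algebraMap B (ArLef.NodeAlg B π) b ∈
      Ideal.span ({algebraMap B (ArLef.NodeAlg B π) (π ^ j)} : Set (ArLef.NodeAlg B π)))
    (hσπ : σ (algebraMap B (ArLef.NodeAlg B π) π) = algebraMap B (ArLef.NodeAlg B π) (π + γ * π ^ j))
    (ht : Associated (σ (ArLef.NodeAlg.t π)) (ArLef.NodeAlg.e π)) (he : Associated (σ (ArLef.NodeAlg.e π)) (ArLef.NodeAlg.t π)) :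
    (∀ g : ArLef.NodeAlg B π, ArLef.fixIdeal σ ≤ Ideal.span ({g} : Set (ArLef.NodeAlg B π)) → IsUnit g) ∧
      Module.length (ArLef.NodeAlg B π) (ArLef.NodeAlg B π ⧸ ArLef.fixIdeal σ) = ((2 * j - 1 : ℕ) : ℕ∞) := by
  obtain ⟨u, hu⟩ := ht
  obtain ⟨w, hw⟩ := he
  have ht' : σ (ArLef.NodeAlg.t π) = ((u⁻¹ : (ArLef.NodeAlg B π)ˣ) : ArLef.NodeAlg B π) * ArLef.NodeAlg.e π :=
    ((Units.eq_mul_inv_iff_mul_eq u).mpr hu).trans (mul_comm _ _)
  have he' : σ (ArLef.NodeAlg.e π) = ((w⁻¹ : (ArLef.NodeAlg B π)ˣ) : ArLef.NodeAlg B π) * ArLef.NodeAlg.t π :=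
    ((Units.eq_mul_inv_iff_mul_eq w).mpr hw).trans (mul_comm _ _)
  have hfix := core B π hπ j hj γ hγ σ hσB hσπ _ _ (u⁻¹).isUnit ht' he'
  have hπp : Prime π := hπ.prime
  have h01 : (0 : Fin 2) ≠ 1 := by decide
  set α : ArLef.NodeAlg B π := ((u⁻¹ : (ArLef.NodeAlg B π)ˣ) : ArLef.NodeAlg B π) with hα
  have hαu : IsUnit α := (u⁻¹).isUnit
  set h := α * ArLef.NodeAlg.e π - ArLef.NodeAlg.t π with hh
  have he_h : ¬ ArLef.NodeAlg.e π ∣ h :=
    Groth.Agent.Lib.Helper78.NodeAlgBasic.e_not_dvd_mul_e_sub_t π hπp α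
  have hmax := Groth.Agent.Lib.Helper78.NodeAlgBasic.isMaximal_span_t_e π hπ
  have hh_mem : h ∈ Ideal.span ({ArLef.NodeAlg.t π, ArLef.NodeAlg.e π} : Set (ArLef.NodeAlg B π)) :=
    Ideal.sub_mem _ (Ideal.mul_mem_left _ _ (Ideal.subset_span (by simp))) (Ideal.subset_span (by simp))
  have h1_not : (1 : ArLef.NodeAlg B π) ∉ Ideal.span ({h} : Set (ArLef.NodeAlg B π)) := by
    intro h1
    have hle : Ideal.span ({h} : Set (ArLef.NodeAlg B π)) ≤
        Ideal.span ({ArLef.NodeAlg.t π, ArLef.NodeAlg.e π} : Set (ArLef.NodeAlg B π)) := by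
      rw [Ideal.span_le, Set.singleton_subset_iff]; exact hh_mem
    exact hmax.ne_top ((Ideal.eq_top_iff_one _).mpr (hle h1))
  constructor
  · intro g hg
    haveI := Groth.Agent.Lib.Helper78.NodeAlgBasic.isLocalRing π hπ.not_isUnit
    have hM := Groth.Agent.Lib.Helper78.NodeAlgBasic.maximalIdeal_eq_span_t_e π hπ
    by_contra hgu
    have hgM : g ∈ Ideal.span ({ArLef.NodeAlg.t π, ArLef.NodeAlg.e π} : Set (ArLef.NodeAlg B π)) := by
      rw [← hM]; exact hgu
    rw [hfix] at hg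
    have hhg : h ∈ Ideal.span ({g} : Set (ArLef.NodeAlg B π)) :=
      hg (Ideal.subset_span (by simp))
    obtain ⟨c, hc⟩ := Ideal.mem_span_singleton.mp hhg
    by_cases hcu : IsUnit c
    · -- (g) = (h), then e^m ∈ (h)
      have hgh : Ideal.span ({g} : Set (ArLef.NodeAlg B π)) ≤ Ideal.span {h} := by
        rw [Ideal.span_le, Set.singleton_subset_iff, SetLike.mem_coe, Ideal.mem_span_singleton]
        obtain ⟨c', hc'⟩ := hcu.exists_right_inv
        exact ⟨c', by rw [hc, mul_assoc, hc', mul_one]⟩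
      have hem : ArLef.NodeAlg.e π ^ (2 * j - 1) ∈ Ideal.span ({h} : Set (ArLef.NodeAlg B π)) :=
        hgh (hg (Ideal.subset_span (by simp)))
      exact h1_not (one_mem_of_pow_e_mem B π hπp h he_h _ hem)
    · have hcM : c ∈ Ideal.span ({ArLef.NodeAlg.t π, ArLef.NodeAlg.e π} : Set (ArLef.NodeAlg B π)) := by
        rw [← hM]; exact hcu
      apply Groth.Agent.Lib.Helper78.NodeAlgBasic.mul_e_sub_t_not_mem_sq π hπ.not_isUnit α
      rw [← hh, hc, pow_two]
      exact Ideal.mul_mem_mul hgM hcM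
  · rw [hfix, Groth.Agent.Lib.Helper78.NodeAlgBasic.length_K (ArLef.NodeAlg.e π) h
      (fun z hz => Groth.Agent.Lib.Helper78.NodeAlgBasic.v_mul_eq_zero π hπ.ne_zero h01 z hz)
      (fun v hv => (Groth.Agent.Lib.Helper78.NodeAlgBasic.v_prime π hπp h01).dvd_or_dvd hv |>.resolve_left he_h)]
    have hK1 : Groth.Agent.Lib.Helper78.NodeAlgBasic.K (ArLef.NodeAlg.e π) h 1 =
        Ideal.span ({ArLef.NodeAlg.t π, ArLef.NodeAlg.e π} : Set (ArLef.NodeAlg B π)) := by
      apply le_antisymm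
      · rw [Groth.Agent.Lib.Helper78.NodeAlgBasic.K, Ideal.span_le]
        rintro x (rfl | rfl)
        · rw [pow_one]; exact Ideal.subset_span (by simp)
        · exact hh_mem
      · rw [Ideal.span_le]
        have hKe : ArLef.NodeAlg.e π ∈ Groth.Agent.Lib.Helper78.NodeAlgBasic.K (ArLef.NodeAlg.e π) h 1 := by
          have : ArLef.NodeAlg.e π ^ 1 ∈ Groth.Agent.Lib.Helper78.NodeAlgBasic.K (ArLef.NodeAlg.e π) h 1 :=
            Ideal.subset_span (by simp)
          rwa [pow_one] at this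
        have hKh : h ∈ Groth.Agent.Lib.Helper78.NodeAlgBasic.K (ArLef.NodeAlg.e π) h 1 :=
          Ideal.subset_span (by simp)
        rintro x (rfl | rfl)
        · have : ArLef.NodeAlg.t π = α * ArLef.NodeAlg.e π - h := by rw [hh]; ring
          rw [this]
          exact Ideal.sub_mem _ (Ideal.mul_mem_left _ _ hKe) hKh
        · exact hKe
    rw [hK1, Groth.Agent.Lib.Helper78.NodeAlgBasic.length_quot_span_t_e π hπ, mul_one]

end Groth.Agent.S15320
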