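import Groth.Statements.S19595
import Mathlib

set_option autoImplicit false
universe u
open ArLef

namespace Groth.Agent.S19595
open PowerSeries


section
variable {B : Type u} [CommRing B] [IsDomain B] [IsDiscreteValuationRing B]

/-- The reduction map `B⟦X⟧ → k⟦X⟧`. -/
noncomputable abbrev red : PowerSeries B →+* PowerSeries (IsLocalRing.ResidueField B) :=
  PowerSeries.map (IsLocalRing.residue B)

lemma red_surjective : Function.Surjective (red (B := B)) :=
  PowerSeries.map_surjective _ IsLocalRing.residue_surjective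

lemma red_eq_zero_iff {π : B} (hπ : Irreducible π) (g : PowerSeries B) :
    red g = 0 ↔ C π ∣ g := by
  have hm : IsLocalRing.maximalIdeal B = Ideal.span {π} :=
    (IsDiscreteValuationRing.irreducible_iff_uniformizer π).mp hπ
  constructor
  · intro h
    have h1 : ∀ n, ∃ c : B, coeff n g = π * c := by
      intro n
      have h2 : IsLocalRing.residue B (coeff n g) = 0 := by
        have := congrArg (coeff n) h
        simpa using this
      rw [IsLocalRing.residue_eq_zero_iff, hm, Ideal.mem_span_singleton] at h2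
      exact h2
    choose c hc using h1
    refine ⟨PowerSeries.mk c, ?_⟩
    ext n
    simp [hc n]
  · rintro ⟨c, rfl⟩
    have : IsLocalRing.residue B π = 0 := by
      rw [IsLocalRing.residue_eq_zero_iff, hm]
      exact Ideal.mem_span_singleton_self π
    simp [this]

lemma dvd_of_dvd_mul {π : B} (hπ : Irreducible π) {f v : PowerSeries B}
    (hf : ¬ C π ∣ f) (h : C π ∣ f * v) : C π ∣ v := by
  rw [← red_eq_zero_iff hπ] at h hf ⊢
  rw [map_mul] at h
  exact (mul_eq_zero.mp h).resolve_left hf

lemma Cπ_ne_zero {π : B} (hπ : Irreducible π) : (C π : PowerSeries B) ≠ 0 := by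
  intro h
  apply hπ.ne_zero
  have := congrArg (constantCoeff) h
  simpa using this

end



section General
variable {A : Type u} [CommRing A] [IsDomain A] (P f : A)

/-- The ideal `(P^n, f)`. -/
def K (n : ℕ) : Ideal A := Ideal.span {P ^ n, f}

lemma K_zero : K P f 0 = ⊤ := by
  rw [K, pow_zero, Ideal.eq_top_iff_one]
  exact Ideal.subset_span (by simp)

lemma mulP_le (n : ℕ) : K P f n ≤ Submodule.comap (LinearMap.mulLeft A P) (K P f (n + 1)) := by
  rw [K, Ideal.span_le]
  intro x hx
  rcases hx with h | h
  · show P * x ∈ K P f (n + 1)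
    rw [h, ← pow_succ']
    exact Ideal.subset_span (by simp)
  · show P * x ∈ K P f (n + 1)
    rw [Set.mem_singleton_iff.mp h]
    exact Ideal.mul_mem_left _ _ (Ideal.subset_span (by simp))

/-- multiplication by `P`: `A/(P^n,f) → A/(P^{n+1},f)`. -/
noncomputable def mulP (n : ℕ) : (A ⧸ K P f n) →ₗ[A] (A ⧸ K P f (n + 1)) :=
  Submodule.mapQ (K P f n) (K P f (n + 1)) (LinearMap.mulLeft A P) (mulP_le P f n)

lemma mulP_mk (n : ℕ) (a : A) :
    mulP P f n (Submodule.Quotient.mk a) = Submodule.Quotient.mk (P * a) := by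
  rw [mulP, Submodule.mapQ_apply]
  rfl

lemma K_succ_le (n : ℕ) : K P f (n + 1) ≤ K P f 1 := by
  rw [K, Ideal.span_le]
  intro x hx
  rcases hx with h | h
  · rw [h, pow_succ']
    exact Ideal.mul_mem_right _ _ (Ideal.subset_span (by simp))
  · rw [Set.mem_singleton_iff.mp h]
    exact Ideal.subset_span (by simp)

noncomputable def proj (n : ℕ) : (A ⧸ K P f (n + 1)) →ₗ[A] (A ⧸ K P f 1) :=
  Submodule.mapQ (K P f (n + 1)) (K P f 1) LinearMap.id (by simpa using K_succ_le P f n)

lemma proj_mk (n : ℕ) (a : A) :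
    proj P f n (Submodule.Quotient.mk a) = Submodule.Quotient.mk a := by
  rw [proj, Submodule.mapQ_apply]
  rfl

lemma proj_surjective (n : ℕ) : Function.Surjective (proj P f n) := by
  intro y
  obtain ⟨a, rfl⟩ := Submodule.Quotient.mk_surjective _ y
  exact ⟨Submodule.Quotient.mk a, proj_mk P f n a⟩

variable (hP : P ≠ 0) (hreg : ∀ v : A, P ∣ f * v → P ∣ v)

include hP hreg in
lemma mulP_injective (n : ℕ) : Function.Injective (mulP P f n) := by
  rw [← LinearMap.ker_eq_bot, LinearMap.ker_eq_bot']
  intro y hy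
  obtain ⟨a, rfl⟩ := Submodule.Quotient.mk_surjective _ y
  have h1 : P * a ∈ K P f (n + 1) := by
    rw [mulP_mk] at hy
    exact (Submodule.Quotient.mk_eq_zero _).mp hy
  rw [K, Ideal.mem_span_pair] at h1
  obtain ⟨u, v, huv⟩ := h1
  -- u * P^(n+1) + v * f = P * a
  have h2 : P ∣ f * v := by
    have : f * v = P * (a - u * P ^ n) := by
      rw [pow_succ'] at huv
      linear_combination huv
    exact ⟨_, this⟩
  obtain ⟨w, rfl⟩ := hreg v h2
  have h3 : a = u * P ^ n + w * f := by
    apply mul_left_cancel₀ hP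
    rw [pow_succ'] at huv
    linear_combination -huv
  rw [Submodule.Quotient.mk_eq_zero, K, Ideal.mem_span_pair]
  exact ⟨u, w, h3.symm⟩

lemma exact_mulP_proj (n : ℕ) : Function.Exact (mulP P f n) (proj P f n) := by
  intro y
  obtain ⟨a, rfl⟩ := Submodule.Quotient.mk_surjective _ y
  constructor
  · intro h
    have h1 : a ∈ K P f 1 := by
      rw [proj_mk] at h
      exact (Submodule.Quotient.mk_eq_zero _).mp h
    rw [K, Ideal.mem_span_pair, pow_one] at h1
    obtain ⟨u, v, rfl⟩ := h1
    refine ⟨Submodule.Quotient.mk u, ?_⟩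
    rw [mulP_mk, Submodule.Quotient.eq]
    have : P * u - (u * P + v * f) = -v * f := by ring
    rw [this]
    exact Ideal.mul_mem_left _ _ (Ideal.subset_span (by simp))
  · rintro ⟨x, hx⟩
    obtain ⟨u, rfl⟩ := Submodule.Quotient.mk_surjective _ x
    rw [← hx]
    rw [mulP_mk, proj_mk, Submodule.Quotient.mk_eq_zero]
    exact Ideal.mul_mem_right _ _ (Ideal.subset_span (by simp))

include hP hreg in
lemma length_K (n : ℕ) :
    Module.length A (A ⧸ K P f n) = (n : ℕ∞) * Module.length A (A ⧸ K P f 1) := by
  induction n with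
  | zero =>
    rw [K_zero]
    simp
  | succ n ih =>
    rw [Module.length_eq_add_of_exact (mulP P f n) (proj P f n) (mulP_injective P f hP hreg n)
      (proj_surjective P f n) (exact_mulP_proj P f n), ih]
    push_cast
    rw [add_mul, one_mul]

end General



section Cont
variable {A : Type u} [CommRing A]

/-- elements moved by `σ` into the ideal `J` form a subring. -/
lemma sub_mem_mul (σ : A ≃+* A) (J : Ideal A) {g h : A} (hg : σ g - g ∈ J) (hh : σ h - h ∈ J) :
    σ (g * h) - g * h ∈ J := by
  have : σ (g * h) - g * h = σ g * (σ h - h) + (σ g - g) * h := by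
    rw [map_mul]; ring
  rw [this]
  exact J.add_mem (J.mul_mem_left _ hh) (J.mul_mem_right _ hg)

lemma sub_mem_pow (σ : A ≃+* A) (J : Ideal A) {g : A} (hg : σ g - g ∈ J) (n : ℕ) :
    σ (g ^ n) - g ^ n ∈ J := by
  induction n with
  | zero => simp
  | succ n ih =>
    rw [pow_succ]
    exact sub_mem_mul σ J ih hg

lemma sub_mem_add (σ : A ≃+* A) (J : Ideal A) {g h : A} (hg : σ g - g ∈ J) (hh : σ h - h ∈ J) :
    σ (g + h) - (g + h) ∈ J := by
  have : σ (g + h) - (g + h) = (σ g - g) + (σ h - h) := by
    rw [map_add]; ring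
  rw [this]
  exact J.add_mem hg hh

/-- Krull: in a noetherian local ring every ideal is closed. -/
lemma mem_of_forall_mem_sup_pow [IsNoetherianRing A] [IsLocalRing A] (J : Ideal A) (x : A)
    (h : ∀ N : ℕ, x ∈ J ⊔ IsLocalRing.maximalIdeal A ^ N) : x ∈ J := by
  have h0 := Ideal.iInf_pow_smul_eq_bot_of_isLocalRing (R := A) (M := A ⧸ J)
    (IsLocalRing.maximalIdeal A) (Ideal.IsPrime.ne_top inferInstance)
  have h1 : (Submodule.Quotient.mk x : A ⧸ J) ∈
      (⨅ i : ℕ, IsLocalRing.maximalIdeal A ^ i • ⊤ : Submodule A (A ⧸ J)) := by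
    rw [Submodule.mem_iInf]
    intro N
    obtain ⟨a, ha, b, hb, rfl⟩ := Submodule.mem_sup.mp (h N)
    have : (Submodule.Quotient.mk (a + b) : A ⧸ J) = b • (Submodule.Quotient.mk (1 : A) : A ⧸ J) := by
      rw [← Submodule.Quotient.mk_smul, Submodule.Quotient.eq]
      simpa using ha
    rw [this]
    exact Submodule.smul_mem_smul hb Submodule.mem_top
  rw [h0, Submodule.mem_bot] at h1
  exact (Submodule.Quotient.mk_eq_zero _).mp h1

end Cont

section PS
variable {B : Type u} [CommRing B] [IsDomain B] [IsDiscreteValuationRing B]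

lemma coe_poly_mem (σ : PowerSeries B ≃+* PowerSeries B) (J : Ideal (PowerSeries B))
    (hC : ∀ b : B, σ (C b) - C b ∈ J) (hX : σ X - X ∈ J) (p : Polynomial B) :
    σ (p : PowerSeries B) - (p : PowerSeries B) ∈ J := by
  induction p using Polynomial.induction_on' with
  | add p q hp hq =>
    rw [Polynomial.coe_add]
    exact sub_mem_add σ J hp hq
  | monomial n b =>
    rw [Polynomial.coe_monomial, ← mul_one b, ← smul_eq_mul, map_smul, ← PowerSeries.X_pow_eq,
      smul_eq_C_mul]
    exact sub_mem_mul σ J (hC b) (sub_mem_pow σ J hX n)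

lemma sub_mem_of_gens (σ : PowerSeries B ≃+* PowerSeries B) (J : Ideal (PowerSeries B))
    (hC : ∀ b : B, σ (C b) - C b ∈ J) (hX : σ X - X ∈ J) (g : PowerSeries B) :
    σ g - g ∈ J := by
  apply mem_of_forall_mem_sup_pow
  intro N
  have hXm : (X : PowerSeries B) ∈ IsLocalRing.maximalIdeal (PowerSeries B) := by
    rw [IsLocalRing.mem_maximalIdeal, mem_nonunits_iff, PowerSeries.isUnit_iff_constantCoeff]
    simp
  have hσXm : σ X ∈ IsLocalRing.maximalIdeal (PowerSeries B) := by
    rw [IsLocalRing.mem_maximalIdeal, mem_nonunits_iff] at hXm ⊢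
    intro h
    apply hXm
    have := h.map σ.symm
    simpa using this
  have hg := PowerSeries.eq_X_pow_mul_shift_add_trunc N g
  set h := (PowerSeries.mk fun i ↦ coeff (i + N) g) with hh
  set p := PowerSeries.trunc N g with hp
  have e : σ g - g = σ (X ^ N * h + (p : PowerSeries B)) - (X ^ N * h + (p : PowerSeries B)) := by
    rw [← hg]
  have : σ g - g = (σ (p : PowerSeries B) - (p : PowerSeries B)) + (σ X ^ N * σ h - X ^ N * h) := by
    rw [e, map_add, map_mul, map_pow]
    ring
  rw [this]
  apply Submodule.add_mem_sup (coe_poly_mem σ J hC hX p)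
  apply Ideal.sub_mem
  · exact Ideal.mul_mem_right _ _ (Ideal.pow_mem_pow hσXm N)
  · exact Ideal.mul_mem_right _ _ (Ideal.pow_mem_pow hXm N)

end PS

section
variable {B : Type u} [CommRing B] [IsDomain B] [IsDiscreteValuationRing B]

lemma length_K1 {π : B} (hπ : Irreducible π) (f : PowerSeries B) :
    Module.length (PowerSeries B) (PowerSeries B ⧸ K (C π) f 1) =
      Module.length (PowerSeries (IsLocalRing.ResidueField B))
        (PowerSeries (IsLocalRing.ResidueField B) ⧸
          Ideal.span ({red f} : Set (PowerSeries (IsLocalRing.ResidueField B)))) := by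
  let _ : Algebra (PowerSeries B) (PowerSeries (IsLocalRing.ResidueField B)) := (red (B := B)).toAlgebra
  have hsurj : Function.Surjective (algebraMap (PowerSeries B) (PowerSeries (IsLocalRing.ResidueField B))) :=
    red_surjective
  rw [← Module.length_eq_of_surjective (S := PowerSeries B) hsurj]
  set I' : Ideal (PowerSeries (IsLocalRing.ResidueField B)) := Ideal.span {red f} with hI'
  let ψ : PowerSeries B →ₗ[PowerSeries B] (PowerSeries (IsLocalRing.ResidueField B) ⧸ I') :=
    (I'.mkQ.restrictScalars (PowerSeries B)).comp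
      (Algebra.linearMap (PowerSeries B) (PowerSeries (IsLocalRing.ResidueField B)))
  have hψ : ∀ a, ψ a = Submodule.Quotient.mk (red a) := fun a => rfl
  have hψs : Function.Surjective ψ := by
    intro y
    obtain ⟨b, rfl⟩ := Submodule.Quotient.mk_surjective _ y
    obtain ⟨a, rfl⟩ := red_surjective b
    exact ⟨a, hψ a⟩
  have hker : LinearMap.ker ψ = K (C π) f 1 := by
    ext a
    rw [LinearMap.mem_ker, hψ, Submodule.Quotient.mk_eq_zero, hI', Ideal.mem_span_singleton, K,
      Ideal.mem_span_pair, pow_one]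
    constructor
    · rintro ⟨c', hc'⟩
      obtain ⟨c, rfl⟩ := red_surjective c'
      have : red (a - f * c) = 0 := by rw [map_sub, map_mul, hc', sub_self]
      rw [red_eq_zero_iff hπ] at this
      obtain ⟨d, hd⟩ := this
      exact ⟨d, c, by linear_combination -hd⟩
    · rintro ⟨u, v, rfl⟩
      refine ⟨red v, ?_⟩
      have h0 : red (C π : PowerSeries B) = 0 := (red_eq_zero_iff hπ _).mpr dvd_rfl
      rw [map_add, map_mul, map_mul, h0, mul_zero, zero_add, mul_comm]
  exact ((Submodule.quotEquivOfEq _ _ hker).symm.trans (ψ.quotKerEquivOfSurjective hψs)).length_eq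

end

section Main
variable {B : Type u} [CommRing B] [IsDomain B] [IsDiscreteValuationRing B]

lemma fixIdeal_eq {π : B} (j i : ℕ) (γ : B) (hγ : IsUnit γ)
    (σ : PowerSeries B ≃+* PowerSeries B)
    (hσB : ∀ b : B, σ (C b) - C b ∈ Ideal.span ({C (π ^ j)} : Set (PowerSeries B)))
    (hσπ : σ (C π) = C (π + γ * π ^ j))
    (f : PowerSeries B) (hf : σ X - X = C (π ^ i) * f) :
    ArLef.fixIdeal σ = Ideal.span {C π ^ j, C π ^ i * f} := by
  apply le_antisymm
  · rw [ArLef.fixIdeal, Ideal.span_le]
    rintro _ ⟨g, rfl⟩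
    apply sub_mem_of_gens σ
    · intro b
      have h1 : Ideal.span ({C (π ^ j)} : Set (PowerSeries B)) ≤ Ideal.span {C π ^ j, C π ^ i * f} := by
        rw [Ideal.span_le, Set.singleton_subset_iff, map_pow]
        exact Ideal.subset_span (by simp)
      exact h1 (hσB b)
    · rw [hf, map_pow]
      exact Ideal.subset_span (by simp)
  · rw [Ideal.span_le]
    intro x hx
    rcases hx with h | h
    · rw [h]
      have h1 : σ (C π) - C π ∈ ArLef.fixIdeal σ := Ideal.subset_span ⟨C π, rfl⟩
      rw [hσπ, map_add, add_sub_cancel_left, map_mul, map_pow] at h1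
      have h2 : IsUnit (C γ : PowerSeries B) := hγ.map C
      exact (Ideal.unit_mul_mem_iff_mem _ h2).mp h1
    · rw [Set.mem_singleton_iff.mp h]
      have h1 : σ X - X ∈ ArLef.fixIdeal σ := Ideal.subset_span ⟨X, rfl⟩
      rw [hf, map_pow] at h1
      exact h1

lemma colon_eq {π : B} (hπ : Irreducible π) (j i : ℕ) (hij : i < j) (f : PowerSeries B) :
    (Ideal.span {C π ^ j, C π ^ i * f} : Ideal (PowerSeries B)).colon
      ({C π ^ i} : Set (PowerSeries B)) = K (C π) f (j - i) := by
  have hP : (C π : PowerSeries B) ^ i ≠ 0 := pow_ne_zero _ (Cπ_ne_zero hπ)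
  have hj : (C π : PowerSeries B) ^ j = C π ^ i * C π ^ (j - i) := by
    rw [← pow_add]; congr 1; omega
  ext x
  rw [Submodule.mem_colon_singleton, K, Ideal.mem_span_pair, Ideal.mem_span_pair, smul_eq_mul]
  constructor
  · rintro ⟨u, v, h⟩
    refine ⟨u, v, ?_⟩
    apply mul_left_cancel₀ hP
    rw [hj] at h
    linear_combination h
  · rintro ⟨u, v, h⟩
    refine ⟨u, v, ?_⟩
    rw [hj, ← h]
    ring

end Main

/-- In the case of a smooth point lying on the divisorial part of the fixed locus with multiplicity i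
strictly between 0 and j, let B be a discrete valuation ring with uniformizer π and residue field k,
B[[t]] the complete local ring of a semi-stable arithmetic surface over B at a point x where the
closed fibre is smooth, and σ a ring automorphism of B[[t]] with σ(π) = π + γ π^j (γ a unit of B, j
≥ 1) and σ(b) - b ∈ π^j B[[t]] for all b ∈ B (σ lies over an automorphism τ of B with v(τ(π) - π) =
j). Suppose σ(t) - t = π^i f with 0 < i < j and π not dividing f, so that the fixed-point ideal I of
σ is (π^j, π^i f) and its divisorial part near x is the closed fibre with multiplicity i. Then the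
residual fixed-point scheme, with ideal (I : π^i), has length (j - i) m at x, where m is the length
of k[[t]]/(f mod π) (the order at x of the derivation induced by σ on the closed fibre). -/
theorem result (B : Type u) [CommRing B] [IsDomain B] [IsDiscreteValuationRing B] (π : B) (hπ : Irreducible π)
    (j i : ℕ) (hi : 0 < i) (hij : i < j) (γ : B) (hγ : IsUnit γ)
    (σ : PowerSeries B ≃+* PowerSeries B)
    (hσB : ∀ b : B, σ (algebraMap B (PowerSeries B) b) - algebraMap B (PowerSeries B) b ∈
      Ideal.span ({algebraMap B (PowerSeries B) (π ^ j)} : Set (PowerSeries B)))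
    (hσπ : σ (algebraMap B (PowerSeries B) π) = algebraMap B (PowerSeries B) (π + γ * π ^ j))
    (f : PowerSeries B) (hf : σ PowerSeries.X - PowerSeries.X = algebraMap B (PowerSeries B) (π ^ i) * f)
    (hfπ : ¬ (algebraMap B (PowerSeries B) π ∣ f)) :
    Module.length (PowerSeries B) (PowerSeries B ⧸ (ArLef.fixIdeal σ).colon ({algebraMap B (PowerSeries B) (π ^ i)} : Set (PowerSeries B))) =
      ((j - i : ℕ) : ℕ∞) * Module.length (PowerSeries (IsLocalRing.ResidueField B)) (PowerSeries (IsLocalRing.ResidueField B) ⧸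
        Ideal.span ({PowerSeries.map (IsLocalRing.residue B) f} : Set (PowerSeries (IsLocalRing.ResidueField B)))) := by
  have hC : ∀ b : B, algebraMap B (PowerSeries B) b = C b := fun b => rfl
  simp only [hC] at hσB hσπ hf hfπ ⊢
  have hfix := fixIdeal_eq j i γ hγ σ hσB hσπ f hf
  have hcol := colon_eq hπ j i hij f
  have e : algebraMap B (PowerSeries B) (π ^ i) = C π ^ i := by rw [map_pow]; rfl
  rw [hfix, e, hcol]
  have hreg : ∀ v : PowerSeries B, C π ∣ f * v → C π ∣ v := fun v hv => dvd_of_dvd_mul hπ hfπ hv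
  rw [length_K (C π) f (Cπ_ne_zero hπ) hreg (j - i), length_K1 hπ f]

end Groth.Agent.S19595
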