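import Groth.Statements.S15322
import Mathlib.Tactic
import Mathlib.AlgebraicGeometry.Morphisms.FormallyUnramified
import Mathlib.AlgebraicGeometry.Morphisms.Separated

set_option autoImplicit false
universe u
open CategoryTheory AlgebraicGeometry
open ArLef

namespace Groth.Agent.S15322

open CategoryTheory.Limits in
/-- rigidity: two morphisms `a b : T ⟶ D` over `C`, with `D ⟶ C` unramified, locally of finite
type and separated and `T` connected, which agree after composition with some `z : Z ⟶ T` from a
nonempty scheme, are equal. -/
private lemma rigid {C D T Z : Scheme.{u}} (f : D ⟶ C) [FormallyUnramified f]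
    [LocallyOfFiniteType f] [IsSeparated f] [ConnectedSpace T] (a b : T ⟶ D)
    (hab : a ≫ f = b ≫ f) (z : Z ⟶ T) [Nonempty Z] (hz : z ≫ a = z ≫ b) : a = b := by
  let g : T ⟶ pullback f f := pullback.lift a b hab
  have hopen : IsOpen (Set.range (pullback.diagonal f).base) :=
    (pullback.diagonal f).isOpenEmbedding.isOpen_range
  have hclosed : IsClosed (Set.range (pullback.diagonal f).base) :=
    (pullback.diagonal f).isClosedEmbedding.isClosed_range
  have hclopen : IsClopen (g.base ⁻¹' Set.range (pullback.diagonal f).base) :=
    ⟨hclosed.preimage g.continuous, hopen.preimage g.continuous⟩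
  have hzg : z ≫ g = (z ≫ a) ≫ pullback.diagonal f := by
    apply pullback.hom_ext
    · rw [Category.assoc, Category.assoc, pullback.lift_fst, pullback.diagonal_fst, Category.comp_id]
    · rw [Category.assoc, Category.assoc, pullback.lift_snd, pullback.diagonal_snd, Category.comp_id, hz]
  have hne : (g.base ⁻¹' Set.range (pullback.diagonal f).base).Nonempty := by
    obtain ⟨p⟩ := ‹Nonempty Z›
    refine ⟨z.base p, (z ≫ a).base p, ?_⟩
    show (pullback.diagonal f).base ((z ≫ a).base p) = g.base (z.base p)
    rw [← Scheme.Hom.comp_apply, ← Scheme.Hom.comp_apply, ← hzg]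
  have huniv : g.base ⁻¹' Set.range (pullback.diagonal f).base = Set.univ :=
    hclopen.eq_univ hne
  have hrange : Set.range g.base ⊆ Set.range (pullback.diagonal f).base := by
    rintro _ ⟨t, rfl⟩
    have : t ∈ g.base ⁻¹' Set.range (pullback.diagonal f).base := by rw [huniv]; trivial
    exact this
  have hl := IsOpenImmersion.lift_fac (pullback.diagonal f) g hrange
  have h1 : a = IsOpenImmersion.lift (pullback.diagonal f) g hrange := by
    have := congrArg (fun k => k ≫ pullback.fst f f) hl
    simp only [Category.assoc, pullback.diagonal_fst, Category.comp_id, g, pullback.lift_fst] at this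
    exact this.symm
  have h2 : b = IsOpenImmersion.lift (pullback.diagonal f) g hrange := by
    have := congrArg (fun k => k ≫ pullback.snd f f) hl
    simp only [Category.assoc, pullback.diagonal_snd, Category.comp_id, g, pullback.lift_snd] at this
    exact this.symm
  rw [h1, ← h2]

/-- Let f : D → C be a morphism, τ an automorphism of C and σ an automorphism of D with σ f = f τ; call
σ a good lifting of τ when the fixed-point scheme of σ is the full preimage of that of τ, i.e. every
morphism z : Z → D with z f τ = z f has z σ = z. If f is etale, separated and surjective with D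
connected and the fixed-point scheme of τ is non-empty (some point of C, with its residue field, is
fixed by τ), then τ has at most one good lifting. (The published statement is for a finite etale
cover of smooth projective irreducible curves over a field and a non-trivial τ; the argument uses
only the hypotheses stated here.) -/
theorem result {C D : Scheme.{u}} (f : D ⟶ C) [Etale f] [IsSeparated f] [Surjective f]
    [ConnectedSpace D] (τ : C ≅ C) (σ σ' : D ≅ D)
    (hσ : σ.hom ≫ f = f ≫ τ.hom) (hσ' : σ'.hom ≫ f = f ≫ τ.hom)
    (good : ∀ (Z : Scheme.{u}) (z : Z ⟶ D), z ≫ f ≫ τ.hom = z ≫ f → z ≫ σ.hom = z)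
    (good' : ∀ (Z : Scheme.{u}) (z : Z ⟶ D), z ≫ f ≫ τ.hom = z ≫ f → z ≫ σ'.hom = z)
    (x : C) (hx : C.fromSpecResidueField x ≫ τ.hom = C.fromSpecResidueField x) :
    σ = σ' := by
  obtain ⟨d, rfl⟩ := f.surjective x
  have hz : D.fromSpecResidueField d ≫ f ≫ τ.hom = D.fromSpecResidueField d ≫ f := by
    rw [← Scheme.Hom.SpecMap_residueFieldMap_fromSpecResidueField_assoc, hx,
      Scheme.Hom.SpecMap_residueFieldMap_fromSpecResidueField]
  have h1 := good _ _ hz
  have h2 := good' _ _ hz
  ext1
  exact rigid f σ.hom σ'.hom (hσ.trans hσ'.symm) (D.fromSpecResidueField d) (h1.trans h2.symm)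

end Groth.Agent.S15322
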