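import Groth.Statements.S15325
import Groth.Agent.Lib.Helper78.NodeAlgColon

set_option autoImplicit false
universe u
open ArLef ArLef.NodeAlg

namespace Groth.Agent.S15325

section
open Groth.Agent.Lib.Helper78.NodeAlgBasic

variable (k : Type u) [Field k]

theorem isPrime_span_zero : (Ideal.span {(0 : k)}).IsPrime := by
  rw [Ideal.span_singleton_eq_bot.mpr rfl]
  exact Ideal.isPrime_bot

theorem isMaximal_span_zero : (Ideal.span {(0 : k)}).IsMaximal := by
  rw [Ideal.span_singleton_eq_bot.mpr rfl]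
  exact Ideal.bot_isMaximal

/-- in `k[[t,e]]/(te)`: `t y = e z` forces `e ∣ y`. -/
theorem e_dvd_of_t_mul_eq (y z : ArLef.NodeAlg k 0)
    (h : ArLef.NodeAlg.t (0 : k) * y = ArLef.NodeAlg.e (0 : k) * z) : ArLef.NodeAlg.e (0 : k) ∣ y := by
  haveI := isPrime_span_zero k
  have h01 : (0 : Fin 2) ≠ 1 := by decide
  apply dvd_of_toAxis_eq_zero (0 : k) h01
  have h1 := congrArg (toAxis (0 : k) 0) h
  rw [map_mul, map_mul, show ArLef.NodeAlg.t (0 : k) = v (0 : k) 0 from rfl,
    show ArLef.NodeAlg.e (0 : k) = v (0 : k) 1 from rfl, toAxis_v_self,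
    toAxis_v_other (0 : k) h01, zero_mul] at h1
  exact (mul_eq_zero.mp h1).resolve_left PowerSeries.X_ne_zero

theorem t_mul_e_zero : ArLef.NodeAlg.t (0 : k) * ArLef.NodeAlg.e (0 : k) = 0 := by
  rw [t_mul_e, map_zero]

theorem length_quot_span_e_t :
    Module.length (ArLef.NodeAlg k 0) (ArLef.NodeAlg k 0 ⧸
      Ideal.span ({ArLef.NodeAlg.e (0 : k), ArLef.NodeAlg.t (0 : k)} : Set (ArLef.NodeAlg k 0))) = 1 := by
  haveI := isMaximal_span_zero k
  letI : Field (k ⧸ Ideal.span {(0 : k)}) := Ideal.Quotient.field _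
  have hmax : (Ideal.span ({ArLef.NodeAlg.t (0 : k), ArLef.NodeAlg.e (0 : k)} :
      Set (ArLef.NodeAlg k 0))).IsMaximal := by
    rw [← ker_toResidue]
    exact RingHom.ker_isMaximal_of_surjective (toResidue (0 : k)) (toResidue_surjective (0 : k))
  rw [Set.pair_comm, Module.length_eq_one_iff]
  exact isSimpleModule_iff_isCoatom.mpr (Ideal.isMaximal_def.mp hmax)

/-- core of S15325 -/
theorem core (σ : ArLef.NodeAlg k 0 ≃+* ArLef.NodeAlg k 0)
    (hσk : ∀ c : k, σ (algebraMap k (ArLef.NodeAlg k 0) c) = algebraMap k (ArLef.NodeAlg k 0) c)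
    (α β : ArLef.NodeAlg k 0)
    (ht : σ (ArLef.NodeAlg.t (0 : k)) = α * ArLef.NodeAlg.t (0 : k))
    (he : σ (ArLef.NodeAlg.e (0 : k)) = β * ArLef.NodeAlg.e (0 : k)) :
    Module.length (ArLef.NodeAlg k 0) (ArLef.NodeAlg k 0 ⧸ ArLef.fixIdeal σ) + 1 =
      Module.length (ArLef.NodeAlg k 0) (ArLef.NodeAlg k 0 ⧸ (ArLef.fixIdeal σ ⊔ Ideal.span ({ArLef.NodeAlg.t (0 : k)} : Set (ArLef.NodeAlg k 0)))) +
        Module.length (ArLef.NodeAlg k 0) (ArLef.NodeAlg k 0 ⧸ (ArLef.fixIdeal σ ⊔ Ideal.span ({ArLef.NodeAlg.e (0 : k)} : Set (ArLef.NodeAlg k 0)))) := by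
  set t := ArLef.NodeAlg.t (0 : k) with htdef
  set e := ArLef.NodeAlg.e (0 : k) with hedef
  set a := α - 1 with ha
  set b := β - 1 with hb
  have hte : t * e = 0 := t_mul_e_zero k
  have hfix : ArLef.fixIdeal σ = Ideal.span {t * a, e * b} := by
    apply le_antisymm
    · apply fixIdeal_le (0 : k) not_isUnit_zero
      · rw [ht]
        have : α * ArLef.NodeAlg.t (0 : k) - ArLef.NodeAlg.t (0 : k) = t * a := by rw [ha]; ring
        rw [this]; exact Ideal.subset_span (by simp)
      · rw [he]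
        have : β * ArLef.NodeAlg.e (0 : k) - ArLef.NodeAlg.e (0 : k) = e * b := by rw [hb]; ring
        rw [this]; exact Ideal.subset_span (by simp)
      · intro c
        rw [hσk, sub_self]; exact Submodule.zero_mem _
    · rw [Ideal.span_le]
      rintro z (rfl | rfl)
      · have : t * a = σ t - t := by rw [ht, ha]; ring
        rw [this]; exact sub_mem_fixIdeal _ _
      · have : e * b = σ e - e := by rw [he, hb]; ring
        rw [this]; exact sub_mem_fixIdeal _ _
  -- colon by t
  have step1 : Module.length (ArLef.NodeAlg k 0) (ArLef.NodeAlg k 0 ⧸ ArLef.fixIdeal σ) =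
      Module.length (ArLef.NodeAlg k 0) (ArLef.NodeAlg k 0 ⧸ Ideal.span ({e, a} : Set (ArLef.NodeAlg k 0))) +
      Module.length (ArLef.NodeAlg k 0) (ArLef.NodeAlg k 0 ⧸ (ArLef.fixIdeal σ ⊔ Ideal.span ({t} : Set (ArLef.NodeAlg k 0)))) := by
    apply length_quot_eq_add_of_colon _ _ _ t _ rfl
    intro y
    rw [hfix, Ideal.mem_span_pair, Ideal.mem_span_pair]
    constructor
    · rintro ⟨p, q, h⟩
      have h1 : t * (y - p * a) = e * (q * b) := by linear_combination -h
      obtain ⟨c, hc⟩ := e_dvd_of_t_mul_eq k _ _ h1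
      exact ⟨c, p, by linear_combination -hc⟩
    · rintro ⟨p, q, rfl⟩
      exact ⟨q, 0, by linear_combination (-p) * hte⟩
  have hsup : ArLef.fixIdeal σ ⊔ Ideal.span ({e} : Set (ArLef.NodeAlg k 0)) = Ideal.span {e, t * a} := by
    rw [hfix]
    apply le_antisymm
    · rw [sup_le_iff, Ideal.span_le, Ideal.span_le]
      refine ⟨?_, ?_⟩
      · rintro z (rfl | rfl)
        · exact Ideal.subset_span (by simp)
        · exact Ideal.mul_mem_right _ _ (Ideal.subset_span (by simp))
      · rintro z rfl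
        exact Ideal.subset_span (by simp)
    · rw [Ideal.span_le]
      rintro z (rfl | rfl)
      · exact Ideal.mem_sup_right (Ideal.mem_span_singleton_self _)
      · exact Ideal.mem_sup_left (Ideal.subset_span (by simp))
  have step2 : Module.length (ArLef.NodeAlg k 0) (ArLef.NodeAlg k 0 ⧸ Ideal.span ({e, t * a} : Set (ArLef.NodeAlg k 0))) =
      Module.length (ArLef.NodeAlg k 0) (ArLef.NodeAlg k 0 ⧸ Ideal.span ({e, a} : Set (ArLef.NodeAlg k 0))) +
      Module.length (ArLef.NodeAlg k 0) (ArLef.NodeAlg k 0 ⧸ Ideal.span ({e, t} : Set (ArLef.NodeAlg k 0))) := by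
    apply length_quot_eq_add_of_colon _ _ _ t _ (span_pair_sup_span_mul t e a)
    intro y
    rw [Ideal.mem_span_pair, Ideal.mem_span_pair]
    constructor
    · rintro ⟨p, q, h⟩
      have h1 : t * (y - q * a) = e * p := by linear_combination -h
      obtain ⟨c, hc⟩ := e_dvd_of_t_mul_eq k _ _ h1
      exact ⟨c, q, by linear_combination -hc⟩
    · rintro ⟨p, q, rfl⟩
      exact ⟨0, q, by linear_combination (-p) * hte⟩
  rw [hsup, step2, step1, length_quot_span_e_t]
  abel

end

/-- Let k be a field, A = k[[t, e]]/(te) the complete local ring of a nodal curve at a node x, and σ a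
k-algebra automorphism of A fixing the two branches, σ(t) = α t and σ(e) = β e with units α, β.
Writing I for the fixed-point ideal of σ (generated by all σ(r) - r), the fixed-point multiplicity
length(A/I) of σ at x and the fixed-point multiplicities length(A/(I + (t))), length(A/(I + (e))) of
the automorphisms induced on the two branches satisfy length(A/I) + 1 = length(A/(I + (t))) +
length(A/(I + (e))), as extended natural numbers (both sides are infinite when σ fixes a branch
pointwise). (The published setting has k algebraically closed.) -/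
theorem result (k : Type u) [Field k]
    (σ : ArLef.NodeAlg k 0 ≃ₐ[k] ArLef.NodeAlg k 0) (α β : (ArLef.NodeAlg k 0)ˣ)
    (ht : σ (ArLef.NodeAlg.t (0 : k)) = (α : ArLef.NodeAlg k 0) * ArLef.NodeAlg.t (0 : k)) (he : σ (ArLef.NodeAlg.e (0 : k)) = (β : ArLef.NodeAlg k 0) * ArLef.NodeAlg.e (0 : k)) :
    Module.length (ArLef.NodeAlg k 0) (ArLef.NodeAlg k 0 ⧸ ArLef.fixIdeal σ) + 1 =
      Module.length (ArLef.NodeAlg k 0) (ArLef.NodeAlg k 0 ⧸ (ArLef.fixIdeal σ ⊔ Ideal.span ({ArLef.NodeAlg.t (0 : k)} : Set (ArLef.NodeAlg k 0)))) +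
        Module.length (ArLef.NodeAlg k 0) (ArLef.NodeAlg k 0 ⧸ (ArLef.fixIdeal σ ⊔ Ideal.span ({ArLef.NodeAlg.e (0 : k)} : Set (ArLef.NodeAlg k 0)))) := by
  exact core k σ.toRingEquiv (fun c => σ.commutes c) _ _ ht he

end Groth.Agent.S15325
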