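import Groth.Statements.S15326
import Mathlib.Tactic

set_option autoImplicit false
universe u
open ArLef

namespace Groth.Agent.S15326

/-- Let A be a commutative ring, t an element generating a prime ideal (a local equation of an
irreducible component C of the closed fibre), v an element outside (t) with π = vt the uniformizer,
and σ a ring automorphism of A with σ(vt) = vt whose fixed-point ideal is contained in (t^i) for
some i ≥ 1 (C has multiplicity at least i in the fixed locus). Then σ(t) - t lies in t^(i+1) A_(t),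
the localization at the prime (t): σ - 1 vanishes on (t)/(t^(i+1)) at the generic point of C. -/
theorem result (A : Type u) [CommRing A] (t v : A)
    [ht : (Ideal.span ({t} : Set A)).IsPrime] (hv : v ∉ Ideal.span ({t} : Set A))
    (σ : A ≃+* A) (hσ : σ (v * t) = v * t) (i : ℕ) (hi : 1 ≤ i)
    (hI : ArLef.fixIdeal σ ≤ Ideal.span ({t ^ i} : Set A)) :
    algebraMap A (Localization.AtPrime (Ideal.span ({t} : Set A))) (σ t - t) ∈
      Ideal.span ({algebraMap A (Localization.AtPrime (Ideal.span ({t} : Set A))) (t ^ (i + 1))} :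
        Set (Localization.AtPrime (Ideal.span ({t} : Set A)))) := by
  have h1 : σ t - t ∈ Ideal.span ({t ^ i} : Set A) := hI (Ideal.subset_span ⟨t, rfl⟩)
  have h2 : σ v - v ∈ Ideal.span ({t ^ i} : Set A) := hI (Ideal.subset_span ⟨v, rfl⟩)
  obtain ⟨x, hx⟩ := Ideal.mem_span_singleton.mp h1
  obtain ⟨y, hy⟩ := Ideal.mem_span_singleton.mp h2
  obtain ⟨k, rfl⟩ : ∃ k, i = k + 1 := ⟨i - 1, by omega⟩
  rw [map_mul] at hσ
  have hst : σ t = t + t ^ (k + 1) * x := by rw [← hx]; ring
  have hsv : σ v = v + t ^ (k + 1) * y := by rw [← hy]; ring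
  have key : v * (σ t - t) = t ^ (k + 1 + 1) * (-(y + t ^ k * x * y)) := by
    rw [hst, hsv] at hσ
    have : v * (t + t ^ (k + 1) * x - t) = v * (t ^ (k + 1) * x) := by ring
    rw [hst, this]
    linear_combination hσ
  have hu : IsUnit (algebraMap A (Localization.AtPrime (Ideal.span ({t} : Set A))) v) :=
    IsLocalization.map_units (M := (Ideal.span ({t} : Set A)).primeCompl) _ ⟨v, hv⟩
  obtain ⟨u, hu⟩ := hu
  rw [Ideal.mem_span_singleton']
  have key2 := congrArg (algebraMap A (Localization.AtPrime (Ideal.span ({t} : Set A)))) key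
  rw [map_mul, map_mul, ← hu] at key2
  generalize algebraMap A (Localization.AtPrime (Ideal.span ({t} : Set A))) (-(y + t ^ k * x * y)) = a at key2 ⊢
  generalize algebraMap A (Localization.AtPrime (Ideal.span ({t} : Set A))) (t ^ (k + 1 + 1)) = b at key2 ⊢
  generalize algebraMap A (Localization.AtPrime (Ideal.span ({t} : Set A))) (σ t - t) = c at key2 ⊢
  refine ⟨((u⁻¹ : (Localization.AtPrime (Ideal.span ({t} : Set A)))ˣ) :
    Localization.AtPrime (Ideal.span ({t} : Set A))) * a, ?_⟩
  calc ((u⁻¹ : (Localization.AtPrime (Ideal.span ({t} : Set A)))ˣ) :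
        Localization.AtPrime (Ideal.span ({t} : Set A))) * a * b
      = ((u⁻¹ : (Localization.AtPrime (Ideal.span ({t} : Set A)))ˣ) :
        Localization.AtPrime (Ideal.span ({t} : Set A))) * (b * a) := by ring
    _ = ((u⁻¹ : (Localization.AtPrime (Ideal.span ({t} : Set A)))ˣ) :
        Localization.AtPrime (Ideal.span ({t} : Set A))) * (↑u * c) := by rw [key2]
    _ = c := by rw [← mul_assoc, Units.inv_mul, one_mul]

end Groth.Agent.S15326
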