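import Groth.Statements.S15327
import Mathlib.Tactic
import Mathlib.LinearAlgebra.Matrix.NonsingularInverse
import Mathlib.LinearAlgebra.Matrix.ToLin
import Mathlib.LinearAlgebra.Matrix.DotProduct

set_option autoImplicit false
open ArLef ArLef.BlowupGraph

namespace Groth.Agent.S15327

open Matrix

variable {n : ℕ} (G : ArLef.BlowupGraph n)

/-- the incidence matrix "the `m`-th centre lies on `E_p`" -/
private def parM : Matrix (Fin n) (Fin n) ℚ := fun p m => if p ∈ G.par m then 1 else 0

/-- `N = 1 - Par` -/
private def nM : Matrix (Fin n) (Fin n) ℚ := 1 - parM G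

/-- the matrix of total transforms -/
private def tM : Matrix (Fin n) (Fin n) ℚ := fun k m => (G.tt k m : ℚ)

/-- the recursion for `tt` in terms of `par`. -/
private lemma tt_eq (k m : Fin n) :
    G.tt k m = if m < k then 0 else if m = k then 1 else ∑ p ∈ G.par m, G.tt k p := by
  unfold BlowupGraph.tt
  rw [BlowupGraph.ttN]
  have h1 : (m.1 < k.1) ↔ m < k := Iff.rfl
  have h2 : (m.1 = k.1) ↔ m = k := Fin.val_inj
  simp only [h1, h2]
  congr 1
  congr 1
  rw [Finset.sum_attach (G.parN m.1) (fun p => G.ttN k.1 p)]
  unfold BlowupGraph.parN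
  rw [dif_pos m.2, Finset.sum_map]
  rfl


private lemma tt_eq_zero_of_lt {k m : Fin n} (h : m < k) : G.tt k m = 0 := by
  rw [tt_eq, if_pos h]

private lemma tM_mul_nM : tM G * nM G = 1 := by
  ext k m
  rw [Matrix.mul_apply]
  have h1 : ∀ p, tM G k p * nM G p m =
      (if p = m then (G.tt k m : ℚ) else 0) - (if p ∈ G.par m then (G.tt k p : ℚ) else 0) := by
    intro p
    simp only [tM, nM, parM, Matrix.sub_apply, Matrix.one_apply]
    by_cases hpm : p = m
    · subst hpm
      by_cases hp : p ∈ G.par p
      · exact absurd (G.par_lt _ _ hp) (lt_irrefl _)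
      · simp [hp]
    · by_cases hp : p ∈ G.par m <;> simp [hpm, hp]
  rw [Finset.sum_congr rfl (fun p _ => h1 p), Finset.sum_sub_distrib, Finset.sum_ite_eq' ,
    if_pos (Finset.mem_univ _), ← Finset.sum_filter, Finset.filter_mem_eq_inter, Finset.univ_inter]
  rw [Matrix.one_apply]
  have h2 := tt_eq G k m
  by_cases hlt : m < k
  · rw [if_pos hlt] at h2
    rw [h2, if_neg (ne_of_gt hlt)]
    have : ∑ p ∈ G.par m, (G.tt k p : ℚ) = 0 := by
      apply Finset.sum_eq_zero
      intro p hp
      rw [tt_eq_zero_of_lt G ((G.par_lt _ _ hp).trans hlt)]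
      simp
    rw [this]; simp
  · rw [if_neg hlt] at h2
    by_cases heq : m = k
    · rw [if_pos heq] at h2
      rw [h2, if_pos heq.symm]
      have : ∑ p ∈ G.par m, (G.tt k p : ℚ) = 0 := by
        apply Finset.sum_eq_zero
        intro p hp
        rw [tt_eq_zero_of_lt G (heq ▸ G.par_lt _ _ hp)]
        simp
      rw [this]; simp
    · rw [if_neg heq] at h2
      rw [h2, if_neg (Ne.symm heq)]
      push_cast
      ring


/-- the later centres lying on both `E_p` and `E_q` -/
private def sS (p q : Fin n) : Finset (Fin n) :=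
  Finset.univ.filter fun m => p ∈ G.par m ∧ q ∈ G.par m

private lemma sS_comm (p q : Fin n) : sS G p q = sS G q p := by
  unfold sS
  congr 1
  ext m
  exact and_comm

private lemma parM_eq_zero_of_le {p q : Fin n} (h : q ≤ p) : parM G p q = 0 := by
  unfold parM
  rw [if_neg]
  intro hp
  exact absurd (G.par_lt _ _ hp) (not_lt.mpr h)

private lemma nn_apply (p q : Fin n) :
    (nM G * (nM G)ᵀ) p q =
      (if p = q then 1 else 0) - parM G q p - parM G p q + ((sS G p q).card : ℚ) := by
  rw [Matrix.mul_apply]
  have h1 : ∀ m, nM G p m * (nM G)ᵀ m q =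
      (if m = p then (if q = m then (1 : ℚ) else 0) else 0) - (if m = p then parM G q m else 0)
        - (if m = q then parM G p m else 0)
        + (if p ∈ G.par m ∧ q ∈ G.par m then (1 : ℚ) else 0) := by
    intro m
    simp only [nM, Matrix.transpose_apply, Matrix.sub_apply, Matrix.one_apply, parM]
    by_cases h1 : p = m <;> by_cases h2 : q = m <;> by_cases h3 : p ∈ G.par m <;>
      by_cases h4 : q ∈ G.par m <;> simp [h1, h2, h3, h4, eq_comm] <;> (try subst h1) <;>
      (try subst h2) <;> simp_all
  rw [Finset.sum_congr rfl (fun m _ => h1 m), Finset.sum_add_distrib, Finset.sum_sub_distrib,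
    Finset.sum_sub_distrib, Finset.sum_ite_eq', Finset.sum_ite_eq', Finset.sum_ite_eq',
    if_pos (Finset.mem_univ _), if_pos (Finset.mem_univ _), if_pos (Finset.mem_univ _)]
  congr 1
  · congr 2
    by_cases h : p = q
    · rw [if_pos h, if_pos h.symm]
    · rw [if_neg h, if_neg (Ne.symm h)]
  · rw [← Finset.sum_filter, Finset.sum_const, nsmul_eq_mul, mul_one]
    rfl


private lemma adj_comm (p q : Fin n) : G.Adj p q ↔ G.Adj q p := by
  unfold BlowupGraph.Adj
  exact or_comm

private lemma mem_sS {p q m : Fin n} : m ∈ sS G p q ↔ p ∈ G.par m ∧ q ∈ G.par m := by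
  simp [sS]

private lemma par_eq_of_mem_sS {p q m : Fin n} (hpq : p ≠ q) (hm : m ∈ sS G p q) :
    G.par m = {p, q} := by
  rw [mem_sS] at hm
  symm
  apply Finset.eq_of_subset_of_card_le
  · intro x hx
    rw [Finset.mem_insert, Finset.mem_singleton] at hx
    rcases hx with rfl | rfl
    · exact hm.1
    · exact hm.2
  · rw [Finset.card_pair hpq]
    exact G.card_le_two m

private lemma adj_formula {p q : Fin n} (h : p < q) :
    (if G.Adj p q then (1 : ℚ) else 0) = parM G p q - ((sS G p q).card : ℚ) := by
  have hne : p ≠ q := ne_of_lt h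
  have hqp : q ∉ G.par p := fun hq => absurd (G.par_lt _ _ hq) (not_lt.mpr h.le)
  by_cases hpq : p ∈ G.par q
  · have hP : parM G p q = 1 := by simp [parM, hpq]
    have hcard : (sS G p q).card ≤ 1 := by
      rw [Finset.card_le_one]
      intro a ha b hb
      by_contra hab
      have key : ∀ a b : Fin n, a ∈ sS G p q → b ∈ sS G p q → a < b → False := by
        intro a b ha hb hlt
        have hb' := (mem_sS G).mp hb
        have h2 := (G.meet_of_two b p q hb'.1 hb'.2 h).2 a
          (G.par_lt _ _ ((mem_sS G).mp ha).2) hlt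
        exact h2 (par_eq_of_mem_sS G hne ha)
      rcases lt_trichotomy a b with hlt | heq | hgt
      · exact key a b ha hb hlt
      · exact hab heq
      · exact key b a hb ha hgt
    by_cases hAdj : G.Adj p q
    · have hS : sS G p q = ∅ := by
        rw [Finset.eq_empty_iff_forall_notMem]
        intro m hm
        rcases hAdj with ⟨-, h2⟩ | ⟨h1, -⟩
        · exact h2 m (G.par_lt _ _ ((mem_sS G).mp hm).2) (par_eq_of_mem_sS G hne hm)
        · exact hqp h1
      rw [if_pos hAdj, hP, hS]
      simp
    · have hS : (sS G p q).card = 1 := by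
        apply le_antisymm hcard
        rw [Nat.succ_le_iff, Finset.card_pos]
        by_contra hemp
        apply hAdj
        left
        refine ⟨hpq, fun m hm hpar => hemp ⟨m, ?_⟩⟩
        rw [mem_sS, hpar]
        simp
      rw [if_neg hAdj, hP, hS]
      simp
  · have hP : parM G p q = 0 := by simp [parM, hpq]
    have hS : sS G p q = ∅ := by
      rw [Finset.eq_empty_iff_forall_notMem]
      intro m hm
      have hm' := (mem_sS G).mp hm
      exact hpq (G.meet_of_two m p q hm'.1 hm'.2 h).1
    have hAdj : ¬ G.Adj p q := by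
      rintro (⟨h1, -⟩ | ⟨h1, -⟩)
      · exact hpq h1
      · exact hqp h1
    rw [if_neg hAdj, hP, hS]
    simp

private lemma mat_eq : G.mat = -(nM G * (nM G)ᵀ) := by
  ext p q
  rw [Matrix.neg_apply, nn_apply]
  unfold BlowupGraph.mat
  by_cases hpq : p = q
  · subst hpq
    rw [if_pos rfl, if_pos rfl, parM_eq_zero_of_le G le_rfl]
    unfold BlowupGraph.selfInt
    have : sS G p p = Finset.univ.filter fun m => p ∈ G.par m := by
      unfold sS
      congr 1
      ext m
      simp
    rw [this]
    push_cast
    ring
  · rw [if_neg hpq, if_neg hpq]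
    rcases lt_or_gt_of_ne hpq with hlt | hgt
    · rw [adj_formula G hlt, parM_eq_zero_of_le G hlt.le]
      ring
    · have : (if G.Adj p q then (1 : ℚ) else 0) = if G.Adj q p then (1 : ℚ) else 0 := by
        simp only [adj_comm G p q]
      rw [this, adj_formula G hgt, parM_eq_zero_of_le G hgt.le, sS_comm G p q]
      ring


/-- the multiplicity matrix -/
private def qM : Matrix (Fin n) (Fin n) ℚ := fun i j => (G.mult i j : ℚ)

private lemma qM_eq : qM G = (tM G)ᵀ * tM G := by
  ext i j
  simp only [qM, BlowupGraph.mult, Matrix.mul_apply, Matrix.transpose_apply, tM]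
  push_cast
  rfl

private lemma qM_symm (i j : Fin n) : qM G i j = qM G j i := by
  simp only [qM, BlowupGraph.mult]
  congr 1
  apply Finset.sum_congr rfl
  intro k _
  ring

private lemma nM_mul_tM : nM G * tM G = 1 := mul_eq_one_comm.mp (tM_mul_nM G)

private lemma mat_mul_qM : G.mat * qM G = -1 := by
  rw [mat_eq, qM_eq, Matrix.neg_mul]
  congr 1
  calc nM G * (nM G)ᵀ * ((tM G)ᵀ * tM G)
      = nM G * (((nM G)ᵀ * (tM G)ᵀ) * tM G) := by simp only [Matrix.mul_assoc]
    _ = nM G * ((tM G * nM G)ᵀ * tM G) := by rw [Matrix.transpose_mul]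
    _ = 1 := by rw [tM_mul_nM, Matrix.transpose_one, Matrix.one_mul, nM_mul_tM]

private lemma mat_mul_qM_apply (r i : Fin n) :
    ∑ j, G.mat r j * qM G j i = if r = i then -1 else 0 := by
  have := congrFun (congrFun (mat_mul_qM G) r) i
  rw [Matrix.mul_apply] at this
  rw [this, Matrix.neg_apply, Matrix.one_apply]
  split_ifs <;> simp


private lemma isUnit_sub (I : Finset (Fin n)) :
    IsUnit (G.mat.submatrix (fun x : I => x.1) (fun x : I => x.1)).det := by
  have hA : G.mat.submatrix (fun x : I => x.1) (fun x : I => x.1) =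
      -(((nM G).submatrix (fun x : I => x.1) id) * ((nM G).submatrix (fun x : I => x.1) id)ᵀ) := by
    rw [mat_eq]
    ext a b
    simp [Matrix.mul_apply]
  have hNT : ((nM G).submatrix (fun x : I => x.1) id) * tM G =
      (1 : Matrix (Fin n) (Fin n) ℚ).submatrix (fun x : I => x.1) id := by
    ext a m
    have := congrFun (congrFun (nM_mul_tM G) a.1) m
    rw [Matrix.mul_apply] at this
    rw [Matrix.mul_apply, Matrix.submatrix_apply, id, ← this]
    rfl
  rw [← Matrix.isUnit_iff_isUnit_det, ← Matrix.mulVec_injective_iff_isUnit]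
  intro x y hxy
  have h0 : (G.mat.submatrix (fun x : I => x.1) (fun x : I => x.1)) *ᵥ (x - y) = 0 := by
    rw [Matrix.mulVec_sub, hxy, sub_self]
  suffices h5 : x - y = 0 from sub_eq_zero.mp h5
  generalize x - y = v at h0 ⊢
  have h1 : v ⬝ᵥ ((((nM G).submatrix (fun x : I => x.1) id) *
      ((nM G).submatrix (fun x : I => x.1) id)ᵀ) *ᵥ v) = 0 := by
    rw [hA, Matrix.neg_mulVec, neg_eq_zero] at h0
    rw [h0, dotProduct_zero]
  have h2 : (v ᵥ* ((nM G).submatrix (fun x : I => x.1) id)) ⬝ᵥ
      (v ᵥ* ((nM G).submatrix (fun x : I => x.1) id)) = 0 := by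
    rw [← Matrix.mulVec_mulVec, Matrix.dotProduct_mulVec, Matrix.mulVec_transpose] at h1
    exact h1
  have h3 : v ᵥ* ((nM G).submatrix (fun x : I => x.1) id) = 0 := dotProduct_self_eq_zero.mp h2
  have h4 : v ᵥ* (((nM G).submatrix (fun x : I => x.1) id) * tM G) = 0 := by
    rw [← Matrix.vecMul_vecMul, h3, Matrix.zero_vecMul]
  rw [hNT] at h4
  ext a
  have h6 := congrFun h4 a.1
  rw [Pi.zero_apply] at h6 ⊢
  rw [← h6]
  simp only [Matrix.vecMul, dotProduct, Matrix.submatrix_apply, id, Matrix.one_apply]
  rw [Finset.sum_eq_single a]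
  · simp
  · intro b _ hb
    have : (b : Fin n) ≠ a := fun h => hb (Subtype.ext h)
    simp [this]
  · intro h
    exact absurd (Finset.mem_univ a) h


private lemma sum_split (I : Finset (Fin n)) (f : Fin n → ℚ) :
    ∑ j, f j = ∑ j ∈ Finset.univ.filter (fun j => j ∉ I), f j + ∑ a : I, f a.1 := by
  rw [Finset.sum_coe_sort I f, ← Finset.sum_filter_add_sum_filter_not Finset.univ (· ∈ I) f,
    Finset.filter_mem_eq_inter, Finset.univ_inter, add_comm]

private lemma key (I : Finset (Fin n)) (r i : Fin n) (hi : i ∉ I) :
    ∑ j ∈ Finset.univ.filter (fun j => j ∉ I), G.pairing I r j * qM G j i =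
      if r = i then -1 else 0 := by
  have hAinv : (G.mat.submatrix (fun x : I => x.1) (fun x : I => x.1))⁻¹ *
      (G.mat.submatrix (fun x : I => x.1) (fun x : I => x.1)) = 1 :=
    Matrix.nonsing_inv_mul _ (isUnit_sub G I)
  unfold BlowupGraph.pairing
  generalize (G.mat.submatrix (fun x : I => x.1) (fun x : I => x.1))⁻¹ = B at hAinv ⊢
  have hw : ∀ b : I, ∑ j ∈ Finset.univ.filter (fun j => j ∉ I), G.mat b.1 j * qM G j i =
      -∑ c : I, G.mat b.1 c.1 * qM G c.1 i := by
    intro b
    have h1 := mat_mul_qM_apply G b.1 i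
    have hbi : (b : Fin n) ≠ i := fun h => hi (h ▸ b.2)
    rw [if_neg hbi, sum_split I] at h1
    linarith
  have hB : ∀ a c : I, ∑ b : I, B a b * G.mat b.1 c.1 = if a = c then 1 else 0 := by
    intro a c
    have := congrFun (congrFun hAinv a) c
    rw [Matrix.mul_apply, Matrix.one_apply] at this
    exact this
  simp only [sub_mul, Finset.sum_sub_distrib]
  have h2 : ∑ j ∈ Finset.univ.filter (fun j => j ∉ I),
      (∑ a : I, ∑ b : I, G.mat r a.1 * B a b * G.mat b.1 j) * qM G j i =
        -∑ a : I, G.mat r a.1 * qM G a.1 i := by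
    calc ∑ j ∈ Finset.univ.filter (fun j => j ∉ I),
          (∑ a : I, ∑ b : I, G.mat r a.1 * B a b * G.mat b.1 j) * qM G j i
        = ∑ a : I, ∑ b : I, G.mat r a.1 * B a b *
            ∑ j ∈ Finset.univ.filter (fun j => j ∉ I), G.mat b.1 j * qM G j i := by
          simp only [Finset.sum_mul, Finset.mul_sum]
          rw [Finset.sum_comm]
          apply Finset.sum_congr rfl
          intro a _
          rw [Finset.sum_comm]
          apply Finset.sum_congr rfl
          intro b _
          apply Finset.sum_congr rfl
          intro j _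
          ring
      _ = ∑ a : I, ∑ b : I, G.mat r a.1 * B a b * (-∑ c : I, G.mat b.1 c.1 * qM G c.1 i) := by
          simp only [hw]
      _ = -∑ a : I, G.mat r a.1 * ∑ c : I, (∑ b : I, B a b * G.mat b.1 c.1) * qM G c.1 i := by
          simp only [Finset.mul_sum, Finset.sum_mul, mul_neg, Finset.sum_neg_distrib]
          congr 1
          apply Finset.sum_congr rfl
          intro a _
          rw [Finset.sum_comm]
          apply Finset.sum_congr rfl
          intro c _
          apply Finset.sum_congr rfl
          intro b _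
          ring
      _ = -∑ a : I, G.mat r a.1 * qM G a.1 i := by
          congr 1
          apply Finset.sum_congr rfl
          intro a _
          congr 1
          simp only [hB]
          rw [Finset.sum_eq_single a]
          · simp
          · intro c _ hc
            rw [if_neg (Ne.symm hc), zero_mul]
          · intro h
            exact absurd (Finset.mem_univ a) h
  rw [h2, sub_neg_eq_add, ← sum_split I (fun j => G.mat r j * qM G j i)]
  exact mat_mul_qM_apply G r i


/-- Let Φ be the labelled dual graph of the exceptional curves of n successive blow-ups of closed points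
starting from a regular surface with algebraically closed residue fields (vertices = exceptional
curves in order of creation, labels = intersection numbers), I any set of vertices (the curves
contracted to a normal surface) and σ a permutation of the vertices preserving all intersection
numbers and the set I. Let e_{ij} be the multiplicity of E_i × E_j in the fibre square of the
composite blow-down (the sum over k of c^k_i c^k_j, c^k the total transform of the k-th exceptional
curve) and (E_i · E_j)_I Mumford's rational intersection number of the images after contracting I.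
Then the sum over i, j outside I of e_{ij} (σ E_i · E_j)_I equals minus the number of σ-fixed
vertices outside I. (Stated for the dual graphs realized with all residue fields equal to the base
field, which is the case the published argument realizes geometrically.) -/
theorem result (n : ℕ) (G : ArLef.BlowupGraph n) (I : Finset (Fin n))
    (σ : Equiv.Perm (Fin n)) (hσ : ∀ i j : Fin n, G.mat (σ i) (σ j) = G.mat i j)
    (hσI : ∀ i : Fin n, σ i ∈ I ↔ i ∈ I) :
    G.lNum I σ = ArLef.BlowupGraph.rNum I σ := by
  unfold BlowupGraph.lNum BlowupGraph.rNum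
  have h1 : ∀ i ∈ Finset.univ.filter (fun i => i ∉ I),
      ∑ j ∈ Finset.univ.filter (fun j => j ∉ I), (G.mult i j : ℚ) * G.pairing I (σ i) j =
        if σ i = i then -1 else 0 := by
    intro i hi
    rw [← key G I (σ i) i (Finset.mem_filter.mp hi).2]
    apply Finset.sum_congr rfl
    intro j _
    rw [mul_comm, qM_symm G j i]
    rfl
  rw [Finset.sum_congr rfl h1, Finset.sum_ite, Finset.sum_const_zero, add_zero, Finset.sum_const,
    Finset.filter_filter]
  simp

end Groth.Agent.S15327
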