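import Groth.Statements.S15329
import Mathlib
-- import your own Groth.Agent.* helpers here

set_option autoImplicit false
open TensorProduct LaurentPolynomial
universe u v
open CAlg

namespace Groth.Agent.S15329

/-- Let k be a field, E a k-vector space and F an increasing ℤ-indexed filtration of E by subspaces. In
E[T, T⁻¹] = k[T, T⁻¹] ⊗ E the Rees module of (E, F) is the k-span of the elements T^n ⊗ v with v ∈ F
n; it is the module of global sections of the equivariant bundle on the affine line attached to (E,
F), and E[T, T⁻¹] that of its sections away from the origin. For a linear form α on E and an integer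
p, the k[T, T⁻¹]-linear form m ↦ T^p · (id ⊗ α)(m) is the invariant section α of the dual bundle
away from the origin multiplied by T^p, and it extends over the origin exactly when it maps the Rees
module into the polynomial subring k[T]. This happens if and only if α vanishes on F(−p − 1); so the
dual equivariant bundle corresponds to the dual space filtered by the annihilators of the F(−p − 1).
(The published statement has the annihilator of F(−p + 1), over the complex numbers; for E = k with
F n = 0 for n < 0 and F n = E for n ≥ 0 the form with p = 0 and α ≠ 0 maps the Rees module into k[T]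
although α does not vanish on F(1) = E, and the published argument gives the index −p − 1, which
this row states, over any field.) -/
theorem result
    (k : Type u) [Field k] (E : Type v) [AddCommGroup E] [Module k E]
    (F : ℤ → Submodule k E) (hF : Monotone F)
    (α : Module.Dual k E) (p : ℤ) :
    (∀ m ∈ Submodule.span k {x : k[T;T⁻¹] ⊗[k] E | ∃ (n : ℤ) (v : E), v ∈ F n ∧ x = T n ⊗ₜ[k] v},
      T p * (TensorProduct.AlgebraTensorModule.rid k k[T;T⁻¹] k[T;T⁻¹]) (LinearMap.baseChange k[T;T⁻¹] α m)
        ∈ (Polynomial.toLaurent : Polynomial k →+* k[T;T⁻¹]).range) ↔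
    ∀ v ∈ F (-p - 1), α v = 0 := by
  classical
  -- the value on a generator
  have hgen : ∀ (n : ℤ) (v : E),
      T p * (TensorProduct.AlgebraTensorModule.rid k k[T;T⁻¹] k[T;T⁻¹])
        (LinearMap.baseChange k[T;T⁻¹] α (T n ⊗ₜ[k] v)) = C (α v) * T (p + n) := by
    intro n v
    rw [LinearMap.baseChange_tmul, TensorProduct.AlgebraTensorModule.rid_tmul,
      LaurentPolynomial.smul_eq_C_mul, T_add, ← mul_assoc, ← mul_assoc]
    congr 1
    exact (LaurentPolynomial.commute_T p (C (α v))).eq
  constructor
  · intro h v hv
    have h1 := h (T (-p - 1) ⊗ₜ[k] v) (Submodule.subset_span ⟨-p - 1, v, hv, rfl⟩)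
    rw [hgen] at h1
    have h2 : p + (-p - 1) = -1 := by ring
    rw [h2] at h1
    obtain ⟨f, hf⟩ := h1
    by_contra hne
    have h3 := LaurentPolynomial.support_coeff_C_mul_T_of_ne_zero hne (-1)
    rw [← hf, LaurentPolynomial.support_coeff_toLaurent] at h3
    have h4 : (-1 : ℤ) ∈ Finset.map Nat.castEmbedding f.support := by
      rw [h3]; exact Finset.mem_singleton_self _
    rw [Finset.mem_map] at h4
    obtain ⟨m, -, hm⟩ := h4
    simp only [Nat.castEmbedding_apply] at hm
    omega
  · intro h m hm
    induction hm using Submodule.span_induction with
    | mem x hx =>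
      obtain ⟨n, v, hv, rfl⟩ := hx
      rw [hgen]
      by_cases hpn : 0 ≤ p + n
      · refine ⟨Polynomial.monomial (p + n).toNat (α v), ?_⟩
        rw [Polynomial.toLaurent_C_mul_T, Int.toNat_of_nonneg hpn]
      · have hv' : v ∈ F (-p - 1) := hF (by omega) hv
        rw [h v hv', map_zero, zero_mul]
        exact Subring.zero_mem _
    | zero =>
      simp only [map_zero, mul_zero]
      exact Subring.zero_mem _
    | add x y _ _ hx hy =>
      simp only [map_add, mul_add]
      exact Subring.add_mem _ hx hy
    | smul c x _ hx =>
      rw [LinearMap.map_smul_of_tower, LinearMapClass.map_smul_of_tower]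
      rw [mul_smul_comm, LaurentPolynomial.smul_eq_C_mul]
      exact Subring.mul_mem _ ⟨Polynomial.C c, Polynomial.toLaurent_C c⟩ hx

end Groth.Agent.S15329
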