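import Groth.Statements.S15333
import Groth.Agent.Lib.Helper67.SmCurve6

set_option autoImplicit false
universe u
open CategoryTheory CategoryTheory.Limits AlgebraicGeometry
open VBCurve

namespace Groth.Agent.S15333

/-- Let X be a smooth proper integral curve (integral, smooth and proper of dimension one) over an
algebraically closed field k. Let E and F be finite locally free O_X-modules of ranks r ≥ 1 and s ≥
1 which are slope-semistable and slope-stable (deg G · r ≤ deg E · r' for every finite locally free
submodule G ⊂ E of rank r' ≥ 1, with strict inequality when r' < r, and likewise for F; degree = χ −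
rank·χ(O_X)) and which have the same slope, deg E · s = deg F · r. Then either there is no nonzero
homomorphism E → F or E ≅ F; precisely, every nonzero homomorphism E → F is an isomorphism. -/
theorem result (k : Type u) [Field k] [IsAlgClosed k] (X : Scheme.{u}) [X.Over (Spec (CommRingCat.of k))]
    [IsIntegral X] [IsProper (X ↘ Spec (CommRingCat.of k))] [Smooth (X ↘ Spec (CommRingCat.of k))]
    (hdim : topologicalKrullDim X = 1)
    (r s : ℕ) (hr : 0 < r) (hs : 0 < s) (E F : X.Modules)
    (hE : FlatMod.IsFinLocFreeOfRank r E) (hF : FlatMod.IsFinLocFreeOfRank s F)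
    (hEss : ModFun.IsSlopeSemistable k X E r) (hEst : ModFun.IsSlopeStable k X E r)
    (hFss : ModFun.IsSlopeSemistable k X F s) (hFst : ModFun.IsSlopeStable k X F s)
    (hμ : Curv2.deg k X E r * (s : ℤ) = Curv2.deg k X F s * (r : ℤ))
    (f : E ⟶ F) (hf : f ≠ 0) : IsIso f := by
  have hreg := fun x => Groth.Agent.S1535.result k X x
  obtain ⟨K, I, u, t, a, b, ha, hb, hK, hI, hrk, ht, hts, hdg, hmono, haf⟩ :=
    Groth.Agent.Lib.Helper67.SmCurve.exists_ker_im k X hreg hdim.le hE hF f hf
  have hr' : (r : ℤ) = (u : ℤ) + (t : ℤ) := by exact_mod_cast hrk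
  have hs' : (0 : ℤ) < (s : ℤ) := by exact_mod_cast hs
  have hrr : (0 : ℤ) < (r : ℤ) := by exact_mod_cast hr
  have h2 := hFss I t b hb ht hI
  have h3 : Curv2.deg k X E r * (r : ℤ) =
      Curv2.deg k X K u * (r : ℤ) + Curv2.deg k X I t * (r : ℤ) := by
    rw [hdg]; ring
  have h4 : Curv2.deg k X E r * (r : ℤ) =
      Curv2.deg k X E r * (u : ℤ) + Curv2.deg k X E r * (t : ℤ) := by
    rw [hr']; ring
  rcases Nat.eq_zero_or_pos u with hu | hu
  · haveI := hmono hu
    subst hu
    have htr : t = r := by omega
    subst htr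
    rw [Groth.Agent.Lib.Helper67.SmCurve.deg_eq_zero_of_rank_zero k X hK, zero_add] at hdg
    rcases Nat.lt_or_ge t s with hlt | hge
    · exfalso
      have h5 := hFst I t b hb ht hlt hI
      rw [← hdg, hμ] at h5
      exact lt_irrefl _ h5
    · have hst : t = s := le_antisymm hts hge
      subst hst
      have hdeq : Curv2.deg k X E t = Curv2.deg k X F t :=
        mul_right_cancel₀ (ne_of_gt hs') hμ
      exact (Groth.Agent.Lib.Helper67.SmCurve.deg_le_of_mono_same_rank k X hdim.le hE hF f).2 hdeq
  · exfalso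
    have h1 := hEst K u a ha hu (by omega) hK
    have h6 : Curv2.deg k X E r * (t : ℤ) < Curv2.deg k X I t * (r : ℤ) := by linarith
    have h7 : Curv2.deg k X E r * (t : ℤ) * (s : ℤ) < Curv2.deg k X I t * (r : ℤ) * (s : ℤ) :=
      mul_lt_mul_of_pos_right h6 hs'
    have h8 : Curv2.deg k X I t * (s : ℤ) * (r : ℤ) ≤ Curv2.deg k X F s * (t : ℤ) * (r : ℤ) :=
      mul_le_mul_of_nonneg_right h2 hrr.le
    have h9 : Curv2.deg k X E r * (s : ℤ) * (t : ℤ) = Curv2.deg k X F s * (r : ℤ) * (t : ℤ) := by
      rw [hμ]
    nlinarith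

end Groth.Agent.S15333
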