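import Groth.Statements.S15335
import Groth.Agent.Lib.Helper67.SmCurve8

set_option autoImplicit false
universe u
open CategoryTheory CategoryTheory.Limits AlgebraicGeometry
open VBCurve

namespace Groth.Agent.S15335

/-- Let X be a smooth proper integral curve (integral, smooth and proper of dimension one) over an
algebraically closed field k, and E₁, E₂ finite locally free O_X-modules of ranks r₁ ≥ 1, r₂ ≥ 1.
The maximal slope of E₁ ⊕ E₂ is at most the larger of the maximal slopes of E₁ and E₂: if m₁, m₂ are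
rational numbers such that every finite locally free submodule of positive rank of E₁ (resp. E₂) has
slope deg/rank ≤ m₁ (resp. ≤ m₂), degree meaning χ − rank·χ(O_X), then every finite locally free
submodule F of the biproduct E₁ ⊞ E₂ of rank r' ≥ 1 has slope deg F / r' ≤ max(m₁, m₂). -/
theorem result (k : Type u) [Field k] [IsAlgClosed k] (X : Scheme.{u}) [X.Over (Spec (CommRingCat.of k))]
    [IsIntegral X] [IsProper (X ↘ Spec (CommRingCat.of k))] [Smooth (X ↘ Spec (CommRingCat.of k))]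
    (hdim : topologicalKrullDim X = 1)
    (r₁ r₂ : ℕ) (hr₁ : 0 < r₁) (hr₂ : 0 < r₂) (E₁ E₂ : X.Modules)
    (hE₁ : FlatMod.IsFinLocFreeOfRank r₁ E₁) (hE₂ : FlatMod.IsFinLocFreeOfRank r₂ E₂) (m₁ m₂ : ℚ)
    (h₁ : ∀ (G : X.Modules) (r' : ℕ) (i : G ⟶ E₁), Mono i → 0 < r' → FlatMod.IsFinLocFreeOfRank r' G →
      (Curv2.deg k X G r' : ℚ) / r' ≤ m₁)
    (h₂ : ∀ (G : X.Modules) (r' : ℕ) (i : G ⟶ E₂), Mono i → 0 < r' → FlatMod.IsFinLocFreeOfRank r' G →
      (Curv2.deg k X G r' : ℚ) / r' ≤ m₂)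
    (F : X.Modules) (r' : ℕ) (i : F ⟶ E₁ ⊞ E₂) (hi : Mono i) (hr' : 0 < r')
    (hF : FlatMod.IsFinLocFreeOfRank r' F) :
    (Curv2.deg k X F r' : ℚ) / r' ≤ max m₁ m₂ := by
  have hreg := fun x => Groth.Agent.S1535.result k X x
  haveI := hi
  have hT : (ShortComplex.mk (Limits.biprod.inl : E₁ ⟶ E₁ ⊞ E₂) (Limits.biprod.snd : E₁ ⊞ E₂ ⟶ E₂)
      (by simp)).ShortExact :=
    (ShortComplex.Splitting.ofHasBinaryBiproduct E₁ E₂).shortExact
  obtain ⟨K, I, u, t, a, b, ha, hb, hK, hI, hrk, hdeg⟩ :=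
    Groth.Agent.Lib.Helper67.SmCurve.exists_sub_split k X hreg hdim.le hT hE₂ hF i
  have hKle : (Curv2.deg k X K u : ℚ) ≤ m₁ * (u : ℚ) := by
    rcases Nat.eq_zero_or_pos u with hu | hu
    · subst hu
      rw [Groth.Agent.Lib.Helper67.SmCurve.deg_eq_zero_of_rank_zero k X hK]
      simp
    · have h := h₁ K u a ha hu hK
      have hu' : (0 : ℚ) < (u : ℚ) := by exact_mod_cast hu
      exact (div_le_iff₀ hu').mp h
  have hIle : (Curv2.deg k X I t : ℚ) ≤ m₂ * (t : ℚ) := by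
    rcases Nat.eq_zero_or_pos t with ht | ht
    · subst ht
      rw [Groth.Agent.Lib.Helper67.SmCurve.deg_eq_zero_of_rank_zero k X hI]
      simp
    · have h := h₂ I t b hb ht hI
      have ht' : (0 : ℚ) < (t : ℚ) := by exact_mod_cast ht
      exact (div_le_iff₀ ht').mp h
  have hr'Q : (0 : ℚ) < (r' : ℚ) := by exact_mod_cast hr'
  rw [div_le_iff₀ hr'Q, hdeg, hrk]
  push_cast
  have hu0 : (0 : ℚ) ≤ (u : ℚ) := by positivity
  have ht0 : (0 : ℚ) ≤ (t : ℚ) := by positivity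
  have h1 : m₁ * (u : ℚ) ≤ max m₁ m₂ * (u : ℚ) :=
    mul_le_mul_of_nonneg_right (le_max_left _ _) hu0
  have h2 : m₂ * (t : ℚ) ≤ max m₁ m₂ * (t : ℚ) :=
    mul_le_mul_of_nonneg_right (le_max_right _ _) ht0
  linarith

end Groth.Agent.S15335
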