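import Groth.Statements.S15344
import Groth.Agent.Lib.Helper78.MonoResidue
-- import your own Groth.Agent.* helpers here

set_option autoImplicit false
set_option linter.style.haveILetI false
universe u
open CategoryTheory CategoryTheory.Limits AlgebraicGeometry
open Mor

namespace Groth.Agent.S15344

open IsLocalRing Groth.Agent.Lib.Helper78

/-- The valuative lifting property with residue-field condition. -/
def VLift {X Y : Scheme.{u}} (f : Y ⟶ X) : Prop :=
  ∀ S : ValuativeCommSq f,
    (∃ l₀ : Spec (CommRingCat.of (IsLocalRing.ResidueField S.R)) ⟶ Y,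
        l₀ ≫ f = Spec.map (CommRingCat.ofHom (IsLocalRing.residue S.R)) ≫ S.i₂) →
      S.commSq.HasLift

set_option backward.isDefEq.respectTransparency.types false in
/-- General version: `p : P ⟶ X'` a base change of `f`. -/
theorem reflects_of_vlift' {X Y : Scheme.{u}} (f : Y ⟶ X) [Mono f] (H : VLift f)
    {X' P : Scheme.{u}} (g : X' ⟶ X) (q : P ⟶ Y) (p : P ⟶ X') (sq : IsPullback q p f g)
    (y₀ y₁ : P) (h : p y₁ ⤳ p y₀) : y₁ ⤳ y₀ := by
  have : Mono p := sq.mono_snd_of_mono
  let stalk_y_to_residue_x' : X'.presheaf.stalk (p y₀) ⟶ P.residueField y₁ :=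
    X'.presheaf.stalkSpecializes h ≫ p.stalkMap y₁ ≫ P.residue y₁
  obtain ⟨A, hA, hA_local⟩ := exists_factor_valuationRing stalk_y_to_residue_x'.hom
  let stalk_y_to_A : X'.presheaf.stalk (p y₀) ⟶ .of A :=
    CommRingCat.ofHom (stalk_y_to_residue_x'.hom.codRestrict _ hA)
  have w : P.fromSpecResidueField y₁ ≫ p =
      Spec.map (CommRingCat.ofHom (algebraMap A (P.residueField y₁))) ≫
        Spec.map stalk_y_to_A ≫ X'.fromSpecStalk (p y₀) := by
    rw [Scheme.fromSpecResidueField, Category.assoc, ← Scheme.SpecMap_stalkMap_fromSpecStalk,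
      ← Scheme.SpecMap_stalkSpecializes_fromSpecStalk h]
    simp_rw [← Spec.map_comp_assoc]
    rfl
  have w' : (P.fromSpecResidueField y₁ ≫ q) ≫ f =
      Spec.map (CommRingCat.ofHom (algebraMap A (P.residueField y₁))) ≫
        (Spec.map stalk_y_to_A ≫ X'.fromSpecStalk (p y₀) ≫ g) := by
    rw [Category.assoc, sq.w, reassoc_of% w]
  let S : ValuativeCommSq f :=
    { R := A, K := P.residueField y₁, i₁ := P.fromSpecResidueField y₁ ≫ q,
      i₂ := Spec.map stalk_y_to_A ≫ X'.fromSpecStalk (p y₀) ≫ g, commSq := ⟨w'⟩ }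
  haveI : IsLocalHom stalk_y_to_A.hom := hA_local
  let RM : X'.residueField (p y₀) ⟶ CommRingCat.of (IsLocalRing.ResidueField A) :=
    CommRingCat.ofHom (IsLocalRing.ResidueField.map stalk_y_to_A.hom)
  have hRM : X'.residue (p y₀) ≫ RM =
      stalk_y_to_A ≫ CommRingCat.ofHom (IsLocalRing.residue A) := by
    ext a
    rfl
  let l₀ : Spec (CommRingCat.of (IsLocalRing.ResidueField A)) ⟶ Y :=
    Spec.map RM ≫ Spec.map (inv (p.residueFieldMap y₀)) ≫ P.fromSpecResidueField y₀ ≫ q
  have hl₀ : l₀ ≫ f = Spec.map (CommRingCat.ofHom (IsLocalRing.residue A)) ≫ S.i₂ := by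
    simp only [l₀, S, Category.assoc]
    rw [sq.w, ← Scheme.Hom.SpecMap_residueFieldMap_fromSpecResidueField_assoc,
      ← Spec.map_comp_assoc (p.residueFieldMap y₀), IsIso.hom_inv_id, Spec.map_id,
      Category.id_comp, Scheme.fromSpecResidueField]
    simp only [Category.assoc]
    rw [← Spec.map_comp_assoc, ← Spec.map_comp_assoc, hRM]
  obtain ⟨l, hl₁, hl₂⟩ := (H S ⟨l₀, hl₀⟩).exists_lift
  dsimp only [S] at hl₁ hl₂
  let L : Spec (CommRingCat.of A) ⟶ P :=
    sq.lift l (Spec.map stalk_y_to_A ≫ X'.fromSpecStalk (p y₀)) (by rw [hl₂, Category.assoc])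
  have hL : Spec.map (CommRingCat.ofHom (algebraMap A (P.residueField y₁))) ≫ L =
      P.fromSpecResidueField y₁ := by
    apply sq.hom_ext
    · rw [Category.assoc, sq.lift_fst, hl₁]
    · rw [Category.assoc, sq.lift_snd, w]
  have hclosed : L (closedPoint A) = y₀ := by
    have hinj : Function.Injective p := Scheme.Hom.injective p
    apply hinj
    rw [← Scheme.Hom.comp_apply, sq.lift_snd]
    simp only [Scheme.Hom.comp_base, TopCat.coe_comp, Function.comp_apply]
    have : Spec.map stalk_y_to_A (closedPoint A) = closedPoint (X'.presheaf.stalk (p y₀)) :=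
      comap_closedPoint (S := A) (stalk_y_to_residue_x'.hom.codRestrict A.toSubring hA)
    rw [this, X'.fromSpecStalk_closedPoint]
  rw [← hclosed]
  simp_rw [← Scheme.fromSpecResidueField_apply y₁ (closedPoint (P.residueField y₁)), ← hL]
  exact (specializes_closedPoint _).map L.continuous

set_option backward.isDefEq.respectTransparency false in
theorem vlift_of_reflects {X Y : Scheme.{u}} (f : Y ⟶ X) [Mono f]
    (Hr : ∀ (X' : Scheme.{u}) (g : X' ⟶ X) (y₀ y₁ : ↥(pullback f g)),
        (pullback.snd f g).base y₁ ⤳ (pullback.snd f g).base y₀ → y₁ ⤳ y₀) : VLift f := by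
  rintro ⟨R, K, i₁, i₂, ⟨w⟩⟩ ⟨l₀, hl₀⟩
  dsimp only at l₀ hl₀
  have : IsDomain (CommRingCat.of R) := ‹_›
  have : ValuationRing (CommRingCat.of R) := ‹_›
  let : Field (CommRingCat.of K) := ‹_›
  let lft := pullback.lift i₁ (Spec.map (CommRingCat.ofHom (algebraMap R K))) w
  let lft0 := pullback.lift l₀ (Spec.map (CommRingCat.ofHom (IsLocalRing.residue R))) hl₀
  let x : ↥(pullback f i₂) := lft0 (closedPoint (IsLocalRing.ResidueField R))
  have h₂ : pullback.snd f i₂ x = closedPoint R := by
    simp only [x, lft0]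
    rw [← Scheme.Hom.comp_apply, pullback.lift_snd]
    exact comap_closedPoint (IsLocalRing.residue R)
  have h₁ : lft (closedPoint K) ⤳ x := by
    apply Hr _ i₂ x (lft (closedPoint K))
    rw [h₂]
    exact specializes_closedPoint (R := R) _
  let e : CommRingCat.of R ≅ (Spec <| .of R).presheaf.stalk (pullback.snd f i₂ x) :=
    (stalkClosedPointIso (.of R)).symm ≪≫
      (Spec <| .of R).presheaf.stalkCongr (.of_eq h₂.symm)
  let α := e.hom ≫ (pullback.snd f i₂).stalkMap x
  have : IsLocalHom e.hom.hom := isLocalHom_of_isIso e.hom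
  have : IsLocalHom α.hom := inferInstanceAs
    (IsLocalHom (((pullback.snd f i₂).stalkMap x).hom.comp e.hom.hom))
  let β := (pullback f i₂).presheaf.stalkSpecializes h₁ ≫ Scheme.stalkClosedPointTo lft
  have hαβ : α ≫ β = CommRingCat.ofHom (algebraMap R K) := by
    simp only [CommRingCat.coe_of, Iso.trans_hom, Iso.symm_hom, TopCat.Presheaf.stalkCongr_hom,
      Category.assoc, α, e, β, stalkClosedPointIso_inv, StructureSheaf.toStalk]
    change (Scheme.ΓSpecIso (.of R)).inv ≫ (Spec <| .of R).presheaf.germ _ _ _ ≫ _ = _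
    simp only [TopCat.Presheaf.germ_stalkSpecializes_assoc, Scheme.Hom.germ_stalkMap_assoc]
    simp only [TopologicalSpace.Opens.map_top]
    rw [Scheme.germ_stalkClosedPointTo lft ⊤ trivial]
    erw [← Scheme.Hom.comp_app_assoc lft (pullback.snd f i₂)]
    rw [pullback.lift_snd]
    simp
  have hbij := (bijective_rangeRestrict_comp_of_valuationRing (R := R) (K := K) α.hom β.hom
    (CommRingCat.hom_ext_iff.mp hαβ))
  let φ : (pullback f i₂).presheaf.stalk x ⟶ CommRingCat.of R := CommRingCat.ofHom <|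
    (RingEquiv.ofBijective _ hbij).symm.toRingHom.comp β.hom.rangeRestrict
  have hαφ : α ≫ φ = 𝟙 _ := by ext x; exact (RingEquiv.ofBijective _ hbij).symm_apply_apply x
  have hαφ' : (pullback.snd f i₂).stalkMap x ≫ φ = e.inv := by
    rw [← cancel_epi e.hom, ← Category.assoc, hαφ, e.hom_inv_id]
  have hφβ : φ ≫ CommRingCat.ofHom (algebraMap R K) = β :=
    hαβ ▸ CommRingCat.hom_ext (RingHom.ext fun x ↦ congr_arg Subtype.val
      ((RingEquiv.ofBijective _ hbij).apply_symm_apply (β.hom.rangeRestrict x)))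
  refine ⟨⟨⟨Spec.map ((pullback.fst f i₂).stalkMap x ≫ φ) ≫ Y.fromSpecStalk _, ?_, ?_⟩⟩⟩
  · simp only [← Spec.map_comp_assoc, Category.assoc, hφβ]
    simp only [Spec.map_comp, Category.assoc, Scheme.SpecMap_stalkMap_fromSpecStalk,
      Scheme.SpecMap_stalkSpecializes_fromSpecStalk_assoc, β]
    rw [Scheme.Spec_stalkClosedPointTo_fromSpecStalk_assoc]
    simp [lft]
  · simp only [Spec.map_comp, Category.assoc, Scheme.SpecMap_stalkMap_fromSpecStalk,
      pullback.condition]
    rw [← Scheme.SpecMap_stalkMap_fromSpecStalk_assoc, ← Spec.map_comp_assoc, hαφ']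
    simp only [Iso.trans_inv, TopCat.Presheaf.stalkCongr_inv, Iso.symm_inv, Spec.map_comp,
      Category.assoc, Scheme.SpecMap_stalkSpecializes_fromSpecStalk_assoc, e]
    rw [← Spec_stalkClosedPointIso, ← Spec.map_comp_assoc,
      Iso.inv_hom_id, Spec.map_id, Category.id_comp]

/-- Let f : Y ⟶ X be a monomorphism of schemes, X quasi-separated. Then the projection Y ×_X X' ⟶ X'
reflects specializations (if the image of y₁ specializes to the image of y₀ then y₁ specializes to
y₀) after every base change X' ⟶ X if and only if, for every valuation ring A with fraction field K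
and every commutative square Spec K ⟶ Y, Spec A ⟶ X over f such that, in addition, some morphism
from the spectrum of the residue field of A to Y lies over Spec A ⟶ X, the square admits a lift Spec
A ⟶ Y. -/
theorem result {X Y : Scheme.{u}} [QuasiSeparatedSpace ↥X]
    (f : Y ⟶ X) [Mono f] :
    (∀ (X' : Scheme.{u}) (g : X' ⟶ X) (y₀ y₁ : ↥(pullback f g)),
        (pullback.snd f g).base y₁ ⤳ (pullback.snd f g).base y₀ → y₁ ⤳ y₀) ↔
      ∀ S : ValuativeCommSq f,
        (∃ l₀ : Spec (CommRingCat.of (IsLocalRing.ResidueField S.R)) ⟶ Y,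
            l₀ ≫ f = Spec.map (CommRingCat.ofHom (IsLocalRing.residue S.R)) ≫ S.i₂) →
          S.commSq.HasLift := by
  constructor
  · intro Hr
    exact vlift_of_reflects f Hr
  · intro H X' g y₀ y₁ h
    exact reflects_of_vlift' f H g (pullback.fst f g) (pullback.snd f g)
      (IsPullback.of_hasPullback f g) y₀ y₁ h

end Groth.Agent.S15344
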