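import Groth.Statements.S15349
import Groth.Agent.Lib.Helper78.MonoResidue
import Mathlib.AlgebraicGeometry.Noetherian

set_option autoImplicit false
universe u
open CategoryTheory CategoryTheory.Limits AlgebraicGeometry
open Mor

namespace Groth.Agent.S15349

open Groth.Agent.Lib.Helper78

/-- The lift of a point of `T` whose image in `X` lies in the image of the monomorphism `f`. -/
theorem exists_lift_of_mem_range {X Y : Scheme.{u}} (f : Y ⟶ X) [Mono f] {T : Scheme.{u}}
    (s : T ⟶ X) (p : T) (hp : s p ∈ Set.range f) :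
    ∃ l : Spec (T.residueField p) ⟶ Y, l ≫ f = T.fromSpecResidueField p ≫ s := by
  obtain ⟨y, hy⟩ := hp
  refine ⟨Spec.map (s.residueFieldMap p) ≫ Spec.map (X.residueFieldCongr hy).hom ≫
    Spec.map (inv (f.residueFieldMap y)) ≫ Y.fromSpecResidueField y, ?_⟩
  have h1 : Y.fromSpecResidueField y ≫ f =
      Spec.map (f.residueFieldMap y) ≫ X.fromSpecResidueField (f y) :=
    (Scheme.Hom.SpecMap_residueFieldMap_fromSpecResidueField f y).symm
  have h2 : Spec.map (s.residueFieldMap p) ≫ X.fromSpecResidueField (s p) =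
      T.fromSpecResidueField p ≫ s :=
    Scheme.Hom.SpecMap_residueFieldMap_fromSpecResidueField s p
  have h3 : Spec.map (X.residueFieldCongr hy).hom ≫ X.fromSpecResidueField (f y) =
      X.fromSpecResidueField (s p) := by
    simp
  simp only [Category.assoc, h1]
  rw [← Spec.map_comp_assoc (f.residueFieldMap y), IsIso.hom_inv_id, Spec.map_id,
    Category.id_comp, h3, h2]

/-- The zero locus of an ideal as a subset of the underlying space of `Spec R`. -/
def Z {R : Type u} [CommRing R] (I : Ideal R) : Set ↥(Spec (CommRingCat.of R)) :=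
  (PrimeSpectrum.zeroLocus (I : Set R) : Set (PrimeSpectrum R))

theorem mem_Z {R : Type u} [CommRing R] (I : Ideal R) (q : ↥(Spec (CommRingCat.of R))) :
    q ∈ Z I ↔ I ≤ PrimeSpectrum.asIdeal (q : PrimeSpectrum R) :=
  Iff.rfl

theorem Z_anti {R : Type u} [CommRing R] {I J : Ideal R} (h : I ≤ J) : Z J ⊆ Z I :=
  fun q hq => le_trans h ((mem_Z J q).mp hq)

theorem Z_top {R : Type u} [CommRing R] : Z (⊤ : Ideal R) = ∅ := by
  ext q
  simp only [mem_Z, Set.mem_empty_iff_false, iff_false, top_le_iff]
  exact (q : PrimeSpectrum R).isPrime.ne_top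

theorem Z_bot {R : Type u} [CommRing R] : Z (⊥ : Ideal R) = Set.univ := by
  ext q
  simp [mem_Z]

theorem closure_eq_Z {A : Type u} [CommRing A] (D : Set ↥(Spec (CommRingCat.of A))) :
    closure D = Z (PrimeSpectrum.vanishingIdeal (D : Set (PrimeSpectrum A))) :=
  (PrimeSpectrum.zeroLocus_vanishingIdeal_eq_closure (D : Set (PrimeSpectrum A))).symm

theorem range_SpecMap_mk {R : Type u} [CommRing R] (I : Ideal R) :
    Set.range (Spec.map (CommRingCat.ofHom (Ideal.Quotient.mk I))) = Z I := by
  have h := range_comap_of_surjective (R ⧸ I) (Ideal.Quotient.mk I) Ideal.Quotient.mk_surjective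
  rw [Ideal.mk_ker] at h
  exact h

theorem SpecMap_mk_mem_Z {R : Type u} [CommRing R] (I : Ideal R) (K : Ideal (R ⧸ I))
    (p : ↥(Spec (CommRingCat.of (R ⧸ I)))) (hp : p ∈ Z K) :
    Spec.map (CommRingCat.ofHom (Ideal.Quotient.mk I)) p ∈ Z (K.comap (Ideal.Quotient.mk I)) := by
  rw [mem_Z] at hp ⊢
  intro x hx
  exact hp hx

theorem lt_comap_mk {R : Type u} [CommRing R] (I : Ideal R) (K : Ideal (R ⧸ I)) (hK : K ≠ ⊥) :
    I < K.comap (Ideal.Quotient.mk I) := by
  refine lt_of_le_of_ne ?_ ?_
  · intro x hx
    rw [Ideal.mem_comap, Ideal.Quotient.eq_zero_iff_mem.mpr hx]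
    exact K.zero_mem
  · intro h
    apply hK
    rw [eq_bot_iff]
    intro x hx
    obtain ⟨x, rfl⟩ := Ideal.Quotient.mk_surjective x
    have : x ∈ K.comap (Ideal.Quotient.mk I) := hx
    rw [← h] at this
    rw [Ideal.mem_bot]
    exact Ideal.Quotient.eq_zero_iff_mem.mpr this

theorem isCompact_preimage_zeroLocus {X Y : Scheme.{u}} (f : Y ⟶ X) [Mono f]
    (hc : ∀ (A : Type u) [CommRing A] [IsDomain A] (s : Spec (CommRingCat.of A) ⟶ X) (D : Set ↥(Spec (CommRingCat.of A))),
        Dense D →
        (∀ p ∈ D, ∃ l : Spec ((Spec (CommRingCat.of A)).residueField p) ⟶ Y,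
            l ≫ f = (Spec (CommRingCat.of A)).fromSpecResidueField p ≫ s) →
          ∃ U : (Spec (CommRingCat.of A)).Opens, (U : Set ↥(Spec (CommRingCat.of A))).Nonempty ∧
            ∃ l : (U : Scheme.{u}) ⟶ Y, l ≫ f = U.ι ≫ s)
    (R : Type u) [CommRing R] [IsNoetherianRing R] (j : Spec (CommRingCat.of R) ⟶ X) (I : Ideal R) :
    IsCompact (f ⁻¹' (j '' Z I)) := by
  induction I using IsNoetherian.induction with
  | hgt I ih =>
  have hmono : ∀ J : Ideal R, I ≤ J → f ⁻¹' (j '' Z J) ⊆ f ⁻¹' (j '' Z I) :=
    fun J hJ => Set.preimage_mono (Set.image_mono (Z_anti hJ))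
  by_cases htop : I = ⊤
  · subst htop
    rw [Z_top, Set.image_empty, Set.preimage_empty]
    exact isCompact_empty
  by_cases hprime : Ideal.IsPrime I
  · -- the prime case
    let φ : CommRingCat.of R ⟶ CommRingCat.of (R ⧸ I) := CommRingCat.ofHom (Ideal.Quotient.mk I)
    let s : Spec (CommRingCat.of (R ⧸ I)) ⟶ X := Spec.map φ ≫ j
    have hsurj : ∀ q : ↥(Spec (CommRingCat.of R)), q ∈ Z I →
        ∃ p : ↥(Spec (CommRingCat.of (R ⧸ I))), Spec.map φ p = q := by
      intro q hq
      rw [← range_SpecMap_mk] at hq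
      exact hq
    have hmemI : ∀ p : ↥(Spec (CommRingCat.of (R ⧸ I))), Spec.map φ p ∈ Z I := by
      intro p
      rw [← range_SpecMap_mk]
      exact ⟨p, rfl⟩
    let D : Set ↥(Spec (CommRingCat.of (R ⧸ I))) := {p | s p ∈ Set.range f}
    let K₀ : Ideal (R ⧸ I) := PrimeSpectrum.vanishingIdeal (D : Set (PrimeSpectrum (R ⧸ I)))
    have hclD : closure D = Z K₀ := closure_eq_Z D
    by_cases hK₀ : K₀ = ⊥
    · -- `D` is dense
      have hD : Dense D := by
        rw [dense_iff_closure_eq, hclD, hK₀, Z_bot]
      obtain ⟨U, hUne, l, hl⟩ := hc (R ⧸ I) s D hD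
        (fun p hp => exists_lift_of_mem_range f s p hp)
      -- the complement of `U`
      let K : Ideal (R ⧸ I) := PrimeSpectrum.vanishingIdeal
        ((U : Set ↥(Spec (CommRingCat.of (R ⧸ I))))ᶜ : Set (PrimeSpectrum (R ⧸ I)))
      have hUc : Z K = (U : Set ↥(Spec (CommRingCat.of (R ⧸ I))))ᶜ := by
        exact (closure_eq_Z ((U : Set ↥(Spec (CommRingCat.of (R ⧸ I))))ᶜ)).symm.trans
          (U.isOpen.isClosed_compl).closure_eq
      have hK : K ≠ ⊥ := by
        intro h
        rw [h, Z_bot] at hUc
        obtain ⟨u, hu⟩ := hUne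
        have : u ∈ (U : Set ↥(Spec (CommRingCat.of (R ⧸ I))))ᶜ := by
          rw [← hUc]; trivial
        exact this hu
      have hcompU : CompactSpace ↥(U : Scheme.{u}) :=
        isCompact_iff_compactSpace.mp
          (TopologicalSpace.NoetherianSpace.isCompact (U : Set ↥(Spec (CommRingCat.of (R ⧸ I)))))
      have hrange : IsCompact (Set.range l) := isCompact_range l.continuous
      have hJ := ih _ (lt_comap_mk I K hK)
      have heq : f ⁻¹' (j '' Z I) =
          Set.range l ∪ f ⁻¹' (j '' Z (K.comap (Ideal.Quotient.mk I))) := by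
        apply Set.Subset.antisymm
        · rintro y ⟨q, hq, hqy⟩
          obtain ⟨p, rfl⟩ := hsurj q hq
          by_cases hpU : p ∈ U
          · left
            obtain ⟨u, rfl⟩ : p ∈ Set.range U.ι := by
              rw [Scheme.Opens.range_ι]; exact hpU
            refine ⟨u, ?_⟩
            apply Scheme.Hom.injective f
            have h1 : f (l u) = s (U.ι u) := by
              rw [← Scheme.Hom.comp_apply, ← Scheme.Hom.comp_apply, hl]
            have h2 : s (U.ι u) = j (Spec.map φ (U.ι u)) := Scheme.Hom.comp_apply _ _ _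
            exact h1.trans (h2.trans hqy)
          · right
            refine ⟨Spec.map φ p, SpecMap_mk_mem_Z I K p ?_, hqy⟩
            rw [hUc]
            exact hpU
        · apply Set.union_subset
          · rintro _ ⟨u, rfl⟩
            refine ⟨Spec.map φ (U.ι u), hmemI _, ?_⟩
            have h1 : f (l u) = s (U.ι u) := by
              rw [← Scheme.Hom.comp_apply, ← Scheme.Hom.comp_apply, hl]
            have h2 : s (U.ι u) = j (Spec.map φ (U.ι u)) := Scheme.Hom.comp_apply _ _ _
            exact (h1.trans h2).symm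
          · exact hmono _ (lt_comap_mk I K hK).le
      rw [heq]
      exact hrange.union hJ
    · -- `D` is not dense
      have hJ := ih _ (lt_comap_mk I K₀ hK₀)
      have heq : f ⁻¹' (j '' Z I) = f ⁻¹' (j '' Z (K₀.comap (Ideal.Quotient.mk I))) := by
        apply Set.Subset.antisymm
        · rintro y ⟨q, hq, hqy⟩
          obtain ⟨p, rfl⟩ := hsurj q hq
          refine ⟨Spec.map φ p, SpecMap_mk_mem_Z I K₀ p ?_, hqy⟩
          rw [← hclD]
          apply subset_closure
          exact ⟨y, hqy.symm⟩
        · exact hmono _ (lt_comap_mk I K₀ hK₀).le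
      rw [heq]
      exact hJ
  · -- the non-prime case
    rw [Ideal.isPrime_iff] at hprime
    push Not at hprime
    obtain ⟨a, b, hab, ha, hb⟩ := hprime htop
    have hlt : ∀ c : R, c ∉ I → I < I ⊔ Ideal.span {c} := by
      intro c hc'
      refine lt_of_le_of_ne le_sup_left ?_
      intro h
      apply hc'
      rw [h]
      exact Ideal.mem_sup_right (Ideal.mem_span_singleton_self c)
    have h1 := ih _ (hlt a ha)
    have h2 := ih _ (hlt b hb)
    have heq : f ⁻¹' (j '' Z I) =
        f ⁻¹' (j '' Z (I ⊔ Ideal.span {a})) ∪ f ⁻¹' (j '' Z (I ⊔ Ideal.span {b})) := by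
      apply Set.Subset.antisymm
      · rintro y ⟨q, hq, hqy⟩
        rw [mem_Z] at hq
        have : a ∈ PrimeSpectrum.asIdeal (q : PrimeSpectrum R) ∨
            b ∈ PrimeSpectrum.asIdeal (q : PrimeSpectrum R) :=
          (q : PrimeSpectrum R).isPrime.mem_or_mem (hq hab)
        rcases this with h | h
        · left
          refine ⟨q, ?_, hqy⟩
          rw [mem_Z]
          exact sup_le hq ((Ideal.span_singleton_le_iff_mem _).mpr h)
        · right
          refine ⟨q, ?_, hqy⟩
          rw [mem_Z]
          exact sup_le hq ((Ideal.span_singleton_le_iff_mem _).mpr h)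
      · exact Set.union_subset (hmono _ (hlt a ha).le) (hmono _ (hlt b hb).le)
    rw [heq]
    exact h1.union h2

/-- Let X be a locally Noetherian scheme and f : Y ⟶ X a monomorphism locally of finite presentation
such that, for every integral domain A and every morphism s : Spec A ⟶ X for which the points of a
dense subset of Spec A lift to Y (the residue field of each such point maps to Y over s), some
nonempty open subscheme of Spec A maps to Y over s. Then f is quasi-compact. (The published remark
is for a representable morphism of algebraic stacks; this row is the case of schemes.) -/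
theorem result {X Y : Scheme.{u}} [IsLocallyNoetherian X]
    (f : Y ⟶ X) [LocallyOfFinitePresentation f] [Mono f]
    (hc : ∀ (A : Type u) [CommRing A] [IsDomain A] (s : Spec (CommRingCat.of A) ⟶ X) (D : Set ↥(Spec (CommRingCat.of A))),
        Dense D →
        (∀ p ∈ D, ∃ l : Spec ((Spec (CommRingCat.of A)).residueField p) ⟶ Y,
            l ≫ f = (Spec (CommRingCat.of A)).fromSpecResidueField p ≫ s) →
          ∃ U : (Spec (CommRingCat.of A)).Opens, (U : Set ↥(Spec (CommRingCat.of A))).Nonempty ∧
            ∃ l : (U : Scheme.{u}) ⟶ Y, l ≫ f = U.ι ≫ s) :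
    QuasiCompact f := by
  rw [quasiCompact_iff_forall_isAffineOpen]
  intro V hV
  have hN : IsNoetherianRing Γ(X, V) := IsLocallyNoetherian.component_noetherian ⟨V, hV⟩
  have h := isCompact_preimage_zeroLocus f hc Γ(X, V) hV.fromSpec ⊥
  rw [Z_bot, Set.image_univ] at h
  have e : Set.range hV.fromSpec = (V : Set X) := hV.range_fromSpec
  rw [e] at h
  exact h

end Groth.Agent.S15349
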