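import Groth.Statements.S15346
import Groth.Agent.Lib.Helper78.DVRScheme
import Groth.Agent.S15345
import Groth.Agent.S15349

set_option autoImplicit false
universe u
open CategoryTheory CategoryTheory.Limits AlgebraicGeometry
open Mor

namespace Groth.Agent.S15346

open Groth.Agent.Lib.Helper78

/-- A morphism from the spectrum of a field whose image point lies in the image of a monomorphism
lifts along the monomorphism. -/
theorem exists_lift_of_field {X Y : Scheme.{u}} (f : Y ⟶ X) [Mono f] (k : Type u) [Field k]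
    (s : Spec (CommRingCat.of k) ⟶ X) (hs : s (IsLocalRing.closedPoint k) ∈ Set.range f) :
    ∃ l : Spec (CommRingCat.of k) ⟶ Y, l ≫ f = s := by
  obtain ⟨l', hl'⟩ := Groth.Agent.S15349.exists_lift_of_mem_range f (𝟙 X)
    (s (IsLocalRing.closedPoint k)) hs
  refine ⟨Spec.map (Scheme.descResidueField (Scheme.stalkClosedPointTo s)) ≫ l', ?_⟩
  rw [Category.assoc, hl', Category.comp_id]
  exact Scheme.descResidueField_stalkClosedPointTo_fromSpecResidueField k X s

theorem hyp_of_dvr {X Y : Scheme.{u}} [IsLocallyNoetherian X]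
    (f : Y ⟶ X) [Mono f]
    (h : ∀ S : ValuativeCommSq f, IsDiscreteValuationRing S.R →
        (∃ l₀ : Spec (CommRingCat.of (IsLocalRing.ResidueField S.R)) ⟶ Y,
            l₀ ≫ f = Spec.map (CommRingCat.ofHom (IsLocalRing.residue S.R)) ≫ S.i₂) →
          S.commSq.HasLift) : Groth.Agent.S15345.Hyp f := by
  intro X' g _ y₀ y₁ hs
  have hXN : IsLocallyNoetherian X' := LocallyOfFiniteType.isLocallyNoetherian g
  set q := pullback.snd f g with hq
  have hqinj : Function.Injective q := Scheme.Hom.injective q
  by_cases heq : q y₀ = q y₁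
  · rw [hqinj heq]
  -- a discrete valuation ring through the specialization
  obtain ⟨A, t, hA, htcl, htgen⟩ := exists_dvr_specialization (𝟙 X') (q y₁) (q y₀) hs heq
  rw [Category.comp_id] at htgen
  -- the generic point lifts
  obtain ⟨l₁, hl₁⟩ := Groth.Agent.S15349.exists_lift_of_mem_range q (𝟙 X') (q y₁) ⟨y₁, rfl⟩
  rw [Category.comp_id] at hl₁
  let S : ValuativeCommSq f :=
    { R := A
      K := X'.residueField (q y₁)
      i₁ := l₁ ≫ pullback.fst f g
      i₂ := t ≫ g
      commSq := ⟨by
        change (l₁ ≫ pullback.fst f g) ≫ f = Spec.map (CommRingCat.ofHom A.subtype) ≫ t ≫ g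
        rw [Category.assoc, pullback.condition, ← Category.assoc, hl₁, ← Category.assoc, htgen]⟩ }
  -- the closed point lifts
  have hcl : ∃ l₀ : Spec (CommRingCat.of (IsLocalRing.ResidueField S.R)) ⟶ Y,
      l₀ ≫ f = Spec.map (CommRingCat.ofHom (IsLocalRing.residue S.R)) ≫ S.i₂ := by
    have h1 : (Spec.map (CommRingCat.ofHom (IsLocalRing.residue S.R)) ≫ t)
        (IsLocalRing.closedPoint (IsLocalRing.ResidueField S.R)) ∈ Set.range q := by
      refine ⟨y₀, ?_⟩
      have h2 : (Spec.map (CommRingCat.ofHom (IsLocalRing.residue S.R)))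
          (IsLocalRing.closedPoint (IsLocalRing.ResidueField S.R)) = IsLocalRing.closedPoint A :=
        IsLocalRing.comap_closedPoint (IsLocalRing.residue S.R)
      change q y₀ = t ((Spec.map (CommRingCat.ofHom (IsLocalRing.residue S.R)))
          (IsLocalRing.closedPoint (IsLocalRing.ResidueField S.R)))
      rw [h2]
      exact htcl.symm
    obtain ⟨l₀, hl₀⟩ := exists_lift_of_field q _ _ h1
    refine ⟨l₀ ≫ pullback.fst f g, ?_⟩
    change (l₀ ≫ pullback.fst f g) ≫ f = Spec.map (CommRingCat.ofHom (IsLocalRing.residue S.R)) ≫ t ≫ g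
    rw [Category.assoc, pullback.condition, ← Category.assoc, hl₀, Category.assoc]
  obtain ⟨⟨l, hl1, hl2⟩⟩ := h S hA hcl
  -- lift to the fibre product
  let Λ : Spec (CommRingCat.of A) ⟶ pullback f g := pullback.lift l t hl2
  have hΛ : Λ ≫ q = t := pullback.lift_snd _ _ _
  let η : ↥(Spec (CommRingCat.of A)) := (Spec.map (CommRingCat.ofHom A.subtype))
    (IsLocalRing.closedPoint (X'.residueField (q y₁)))
  have hη : t η = q y₁ := by
    change (Spec.map (CommRingCat.ofHom A.subtype) ≫ t)
      (IsLocalRing.closedPoint (X'.residueField (q y₁))) = q y₁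
    rw [htgen]
    exact Scheme.fromSpecResidueField_apply _ _
  have h1 : Λ η = y₁ := by
    apply hqinj
    rw [← Scheme.Hom.comp_apply, hΛ]
    exact hη
  let c : ↥(Spec (CommRingCat.of A)) := IsLocalRing.closedPoint A
  have h0 : Λ c = y₀ := by
    apply hqinj
    have : (Λ ≫ q) c = t c := by rw [hΛ]
    rw [Scheme.Hom.comp_apply] at this
    rw [this]
    exact htcl
  rw [← h1, ← h0]
  have hsp : η ⤳ c := IsLocalRing.specializes_closedPoint (R := A) η
  exact hsp.map Λ.continuous

/-- Let X be a locally Noetherian scheme and f : Y ⟶ X a monomorphism. Suppose that for every discrete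
valuation ring A with fraction field K and every commutative square Spec K ⟶ Y, Spec A ⟶ X over f
such that some morphism from the spectrum of the residue field of A to Y lies over Spec A ⟶ X, the
square admits a lift Spec A ⟶ Y. Then after every base change X' ⟶ X the projection Y ×_X X' ⟶ X'
reflects specializations. -/
theorem result {X Y : Scheme.{u}} [IsLocallyNoetherian X]
    (f : Y ⟶ X) [Mono f]
    (h : ∀ S : ValuativeCommSq f, IsDiscreteValuationRing S.R →
        (∃ l₀ : Spec (CommRingCat.of (IsLocalRing.ResidueField S.R)) ⟶ Y,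
            l₀ ≫ f = Spec.map (CommRingCat.ofHom (IsLocalRing.residue S.R)) ≫ S.i₂) →
          S.commSq.HasLift) :
    ∀ (X' : Scheme.{u}) (g : X' ⟶ X) (y₀ y₁ : ↥(pullback f g)),
        (pullback.snd f g).base y₁ ⤳ (pullback.snd f g).base y₀ → y₁ ⤳ y₀ := by
  intro X' g y₀ y₁ hs
  exact Groth.Agent.S15345.main f (hyp_of_dvr f h) X' g y₀ y₁ hs

end Groth.Agent.S15346
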