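import Groth.Statements.S15347
import Mathlib.Tactic
import Mathlib.AlgebraicGeometry.Morphisms.ClosedImmersion
import Mathlib.AlgebraicGeometry.Morphisms.UniversallyClosed
import Mathlib.AlgebraicGeometry.Properties

set_option autoImplicit false
universe u
open CategoryTheory CategoryTheory.Limits AlgebraicGeometry
open Mor

namespace Groth.Agent.S15347

/-- the valuative lifting property of an immersion, given a lift of the closed point -/
private lemma part1 {X Y : Scheme.{u}} (f : Y ⟶ X) [IsImmersion f] (S : ValuativeCommSq f)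
    (h : ∃ l₀ : Spec (CommRingCat.of (IsLocalRing.ResidueField S.R)) ⟶ Y,
      l₀ ≫ f = Spec.map (CommRingCat.ofHom (IsLocalRing.residue S.R)) ≫ S.i₂) :
    S.commSq.HasLift := by
  obtain ⟨l₀, hl₀⟩ := h
  -- the closed point of `Spec R` maps into the open `f.coborderRange`
  let x0 : ↥(Spec (CommRingCat.of (IsLocalRing.ResidueField S.R))) :=
    IsLocalRing.closedPoint (IsLocalRing.ResidueField S.R)
  let x1 : ↥(Spec (CommRingCat.of S.R)) := IsLocalRing.closedPoint S.R
  have hcl : (Spec.map (CommRingCat.ofHom (IsLocalRing.residue S.R))).base x0 = x1 :=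
    IsLocalRing.comap_closedPoint (IsLocalRing.residue S.R)
  have hx1 : S.i₂.base x1 ∈ f.coborderRange := by
    have h1 : (l₀ ≫ f).base x0 = (Spec.map (CommRingCat.ofHom (IsLocalRing.residue S.R)) ≫ S.i₂).base x0 := by
      rw [hl₀]
    rw [Scheme.Hom.comp_apply, Scheme.Hom.comp_apply, hcl] at h1
    rw [← h1]
    exact subset_coborder ⟨_, rfl⟩
  have hrange : Set.range S.i₂.base ⊆ Set.range f.coborderRange.ι.base := by
    rw [Scheme.Opens.range_ι]
    rintro _ ⟨x, rfl⟩
    exact ((IsLocalRing.specializes_closedPoint (R := S.R) x).map S.i₂.continuous).mem_open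
      f.coborderRange.2 hx1
  have e1 := IsOpenImmersion.lift_fac f.coborderRange.ι S.i₂ hrange
  -- the valuative square over the closed immersion `f.liftCoborder`
  have hsq : CommSq S.i₁ (Spec.map (CommRingCat.ofHom (algebraMap S.R S.K))) f.liftCoborder
      (IsOpenImmersion.lift f.coborderRange.ι S.i₂ hrange) := by
    constructor
    rw [← cancel_mono f.coborderRange.ι, Category.assoc, Category.assoc, e1,
      Scheme.Hom.liftCoborder_ι, S.commSq.w]
  have hex : ValuativeCriterion.Existence f.liftCoborder := by
    have : UniversallyClosed f.liftCoborder := inferInstance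
    rw [UniversallyClosed.eq_valuativeCriterion] at this
    exact this.1
  obtain ⟨⟨l, hl1, hl2⟩⟩ := (hex ⟨S.R, S.K, S.i₁, _, hsq⟩).exists_lift
  refine ⟨⟨⟨l, hl1, ?_⟩⟩⟩
  have hl2' : l ≫ f.liftCoborder = IsOpenImmersion.lift f.coborderRange.ι S.i₂ hrange := hl2
  calc l ≫ f = l ≫ f.liftCoborder ≫ f.coborderRange.ι := by rw [f.liftCoborder_ι]
    _ = S.i₂ := by rw [← Category.assoc, hl2', e1]

/-- generic lifting along an immersion -/
private lemma part2 {X Y : Scheme.{u}} (f : Y ⟶ X) [IsImmersion f]
    (A : Type u) [CommRing A] [IsDomain A] (s : Spec (CommRingCat.of A) ⟶ X)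
    (D : Set ↥(Spec (CommRingCat.of A))) (hD : Dense D)
    (hl : ∀ p ∈ D, ∃ l : Spec ((Spec (CommRingCat.of A)).residueField p) ⟶ Y,
      l ≫ f = (Spec (CommRingCat.of A)).fromSpecResidueField p ≫ s) :
    ∃ U : (Spec (CommRingCat.of A)).Opens, (U : Set ↥(Spec (CommRingCat.of A))).Nonempty ∧
      ∃ l : (U : Scheme.{u}) ⟶ Y, l ≫ f = U.ι ≫ s := by
  have : Nonempty ↥(Spec (CommRingCat.of A)) := inferInstanceAs (Nonempty (PrimeSpectrum A))
  obtain ⟨p₀, hp₀⟩ : D.Nonempty := hD.nonempty
  -- points of `D` map into the coborder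
  have hDW : ∀ p ∈ D, p ∈ s ⁻¹ᵁ f.coborderRange := by
    intro p hp
    obtain ⟨l, hl'⟩ := hl p hp
    have h1 := congrArg (fun g : Spec ((Spec (CommRingCat.of A)).residueField p) ⟶ X =>
      g.base default) hl'
    simp only [Scheme.Hom.comp_apply, Scheme.fromSpecResidueField_apply] at h1
    show s.base p ∈ f.coborderRange
    rw [← h1]
    exact subset_coborder ⟨_, rfl⟩
  refine ⟨s ⁻¹ᵁ f.coborderRange, ⟨p₀, hDW p₀ hp₀⟩, ?_⟩
  -- the pullback of the closed immersion
  have hsurj : Surjective (pullback.snd f.liftCoborder (s ∣_ f.coborderRange)) := by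
    constructor
    rw [← Set.range_eq_univ]
    have hclosed : IsClosed (Set.range (pullback.snd f.liftCoborder (s ∣_ f.coborderRange)).base) :=
      (pullback.snd f.liftCoborder (s ∣_ f.coborderRange)).isClosedEmbedding.isClosed_range
    have hdense : Dense ((s ⁻¹ᵁ f.coborderRange).ι.base ⁻¹' D) :=
      hD.preimage (s ⁻¹ᵁ f.coborderRange).ι.isOpenEmbedding.isOpenMap
    have hsub : (s ⁻¹ᵁ f.coborderRange).ι.base ⁻¹' D ⊆
        Set.range (pullback.snd f.liftCoborder (s ∣_ f.coborderRange)).base := by
      intro w hw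
      obtain ⟨l, hl'⟩ := hl _ hw
      -- the residue field point of `w`
      have hq : ((s ⁻¹ᵁ f.coborderRange : (Spec (CommRingCat.of A)).Opens) :
          Scheme.{u}).fromSpecResidueField w ≫ (s ⁻¹ᵁ f.coborderRange).ι =
          Spec.map ((s ⁻¹ᵁ f.coborderRange).ι.residueFieldMap w) ≫
            (Spec (CommRingCat.of A)).fromSpecResidueField ((s ⁻¹ᵁ f.coborderRange).ι.base w) :=
        (Scheme.Hom.SpecMap_residueFieldMap_fromSpecResidueField _ w).symm
      have hcomm : (Spec.map ((s ⁻¹ᵁ f.coborderRange).ι.residueFieldMap w) ≫ l) ≫ f.liftCoborder =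
          ((s ⁻¹ᵁ f.coborderRange : (Spec (CommRingCat.of A)).Opens) :
            Scheme.{u}).fromSpecResidueField w ≫ (s ∣_ f.coborderRange) := by
        rw [← cancel_mono f.coborderRange.ι, Category.assoc, Category.assoc, Category.assoc,
          Scheme.Hom.liftCoborder_ι, morphismRestrict_ι, hl', reassoc_of% hq]
      refine ⟨(pullback.lift _ _ hcomm).base default, ?_⟩
      rw [← Scheme.Hom.comp_apply, pullback.lift_snd, Scheme.fromSpecResidueField_apply]
    have := hclosed.closure_subset_iff.mpr hsub
    rw [hdense.closure_eq] at this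
    exact Set.eq_univ_of_univ_subset this
  have hiso : IsIso (pullback.snd f.liftCoborder (s ∣_ f.coborderRange)) :=
    isIso_of_isClosedImmersion_of_surjective _
  refine ⟨inv (pullback.snd f.liftCoborder (s ∣_ f.coborderRange)) ≫
    pullback.fst f.liftCoborder (s ∣_ f.coborderRange), ?_⟩
  calc (inv (pullback.snd f.liftCoborder (s ∣_ f.coborderRange)) ≫
        pullback.fst f.liftCoborder (s ∣_ f.coborderRange)) ≫ f
      = (inv (pullback.snd f.liftCoborder (s ∣_ f.coborderRange)) ≫
        pullback.fst f.liftCoborder (s ∣_ f.coborderRange)) ≫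
          f.liftCoborder ≫ f.coborderRange.ι := by rw [f.liftCoborder_ι]
    _ = (s ⁻¹ᵁ f.coborderRange).ι ≫ s := by
      rw [Category.assoc, reassoc_of% (pullback.condition
        (f := f.liftCoborder) (g := s ∣_ f.coborderRange)), IsIso.inv_hom_id_assoc,
        morphismRestrict_ι]

/-- Let f : Y ⟶ X be an immersion of schemes. Then: for every valuation ring A with fraction field K and
every commutative square Spec K ⟶ Y, Spec A ⟶ X over f such that some morphism from the spectrum of
the residue field of A to Y lies over Spec A ⟶ X, the square admits a lift; and for every integral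
domain A and every morphism s : Spec A ⟶ X such that the points of a dense subset of Spec A lift to
Y (the residue field of each such point maps to Y over s), there is a nonempty open subscheme U of
Spec A with a morphism U ⟶ Y over s. (The published statement is for a representable, locally
finitely presented morphism of algebraic stacks with locally Noetherian target and a quasi-compact
immersion, and also lists that f is a monomorphism; this row is the case of schemes, for any
immersion and any target.) -/
theorem result {X Y : Scheme.{u}} (f : Y ⟶ X) [IsImmersion f] :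
    (∀ S : ValuativeCommSq f,
        (∃ l₀ : Spec (CommRingCat.of (IsLocalRing.ResidueField S.R)) ⟶ Y,
            l₀ ≫ f = Spec.map (CommRingCat.ofHom (IsLocalRing.residue S.R)) ≫ S.i₂) →
          S.commSq.HasLift) ∧
      ∀ (A : Type u) [CommRing A] [IsDomain A] (s : Spec (CommRingCat.of A) ⟶ X) (D : Set ↥(Spec (CommRingCat.of A))),
        Dense D →
        (∀ p ∈ D, ∃ l : Spec ((Spec (CommRingCat.of A)).residueField p) ⟶ Y,
            l ≫ f = (Spec (CommRingCat.of A)).fromSpecResidueField p ≫ s) →
          ∃ U : (Spec (CommRingCat.of A)).Opens, (U : Set ↥(Spec (CommRingCat.of A))).Nonempty ∧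
            ∃ l : (U : Scheme.{u}) ⟶ Y, l ≫ f = U.ι ≫ s :=
  ⟨fun S h => part1 f S h, fun A _ _ s D hD hl => part2 f A s D hD hl⟩

end Groth.Agent.S15347
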