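import Groth.Statements.S15348
import Groth.Agent.S15349
import Groth.Agent.S15346
import Groth.Agent.Lib.Helper78.QCSpecialize
import Mathlib.AlgebraicGeometry.ZariskisMainTheorem

set_option autoImplicit false
universe u
open CategoryTheory CategoryTheory.Limits AlgebraicGeometry
open Mor

namespace Groth.Agent.S15348

open Groth.Agent.Lib.Helper78

/-- Key step: for a quasi-compact monomorphism locally of finite type that universally reflects
specializations, a point of the relative normalization lying over the image of `f` lies in the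
image of `f.toNormalization`. -/
theorem mem_range_toNormalization {X Y : Scheme.{u}} (f : Y ⟶ X) [Mono f] [QuasiCompact f]
    [QuasiSeparated f]
    (Hr : ∀ (X' : Scheme.{u}) (g : X' ⟶ X) (y₀ y₁ : ↥(pullback f g)),
        (pullback.snd f g).base y₁ ⤳ (pullback.snd f g).base y₀ → y₁ ⤳ y₀)
    (n : ↥f.normalization) (hn : f.fromNormalization n ∈ Set.range f) :
    n ∈ Set.range f.toNormalization := by
  obtain ⟨y₀, hy₀⟩ := hn
  let ν := f.fromNormalization
  let j := f.toNormalization
  have hjν : j ≫ ν = f := f.toNormalization_fromNormalization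
  let σ : Y ⟶ pullback f ν := pullback.lift (𝟙 Y) j (by rw [Category.id_comp, hjν])
  have hσ1 : σ ≫ pullback.fst f ν = 𝟙 Y := pullback.lift_fst _ _ _
  have hσ2 : σ ≫ pullback.snd f ν = j := pullback.lift_snd _ _ _
  have : IsClosedImmersion (σ ≫ pullback.fst f ν) := by rw [hσ1]; infer_instance
  have hσ : IsClosedImmersion σ := IsClosedImmersion.of_comp σ (pullback.fst f ν)
  obtain ⟨z, hz1, hz2⟩ := Scheme.Pullback.exists_preimage_pullback (f := f) (g := ν) y₀ n hy₀
  have hdense : n ∈ closure (Set.range j) := by
    rw [j.denseRange.closure_range]; trivial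
  obtain ⟨y₁, hy₁⟩ := exists_specializes_of_mem_closure_range j n hdense
  have hspec : σ y₁ ⤳ z := by
    apply Hr _ ν z (σ y₁)
    have h1 : (pullback.snd f ν) (σ y₁) = j y₁ := by
      rw [← Scheme.Hom.comp_apply, hσ2]
    rw [h1, hz2]
    exact hy₁
  have hzr : z ∈ Set.range σ :=
    hspec.mem_closed σ.isClosedEmbedding.isClosed_range ⟨y₁, rfl⟩
  obtain ⟨y, rfl⟩ := hzr
  exact ⟨y, by rw [← hz2, ← Scheme.Hom.comp_apply, hσ2]⟩

/-- Let X be a locally Noetherian scheme and f : Y ⟶ X a monomorphism locally of finite presentation.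
Assume: for every discrete valuation ring A with fraction field K and every commutative square Spec
K ⟶ Y, Spec A ⟶ X over f such that some morphism from the spectrum of the residue field of A to Y
lies over Spec A ⟶ X, the square admits a lift; and for every integral domain A and every morphism s
: Spec A ⟶ X such that the points of a dense subset of Spec A lift to Y (the residue field of each
such point maps to Y over s), some nonempty open subscheme of Spec A maps to Y over s. Then f is an
immersion (f is then also quasi-compact; that is not part of this statement). (The published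
statement is for a representable morphism of algebraic stacks; this row is the case of schemes.) -/
theorem result {X Y : Scheme.{u}} [IsLocallyNoetherian X]
    (f : Y ⟶ X) [LocallyOfFinitePresentation f] [Mono f]
    (hb : ∀ S : ValuativeCommSq f, IsDiscreteValuationRing S.R →
        (∃ l₀ : Spec (CommRingCat.of (IsLocalRing.ResidueField S.R)) ⟶ Y,
            l₀ ≫ f = Spec.map (CommRingCat.ofHom (IsLocalRing.residue S.R)) ≫ S.i₂) →
          S.commSq.HasLift)
    (hc : ∀ (A : Type u) [CommRing A] [IsDomain A] (s : Spec (CommRingCat.of A) ⟶ X) (D : Set ↥(Spec (CommRingCat.of A))),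
        Dense D →
        (∀ p ∈ D, ∃ l : Spec ((Spec (CommRingCat.of A)).residueField p) ⟶ Y,
            l ≫ f = (Spec (CommRingCat.of A)).fromSpecResidueField p ≫ s) →
          ∃ U : (Spec (CommRingCat.of A)).Opens, (U : Set ↥(Spec (CommRingCat.of A))).Nonempty ∧
            ∃ l : (U : Scheme.{u}) ⟶ Y, l ≫ f = U.ι ≫ s) :
    IsImmersion f := by
  have hqc : QuasiCompact f := Groth.Agent.S15349.result f hc
  have Hr := Groth.Agent.S15346.result f hb
  have hlft : LocallyOfFiniteType f := inferInstance
  have hsep : IsSeparated f := inferInstance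
  have hlqf : LocallyQuasiFinite f := inferInstance
  let ν := f.fromNormalization
  let j := f.toNormalization
  have hj : IsOpenImmersion j := inferInstance
  have hjν : j ≫ ν = f := f.toNormalization_fromNormalization
  have star := mem_range_toNormalization f Hr
  have hνclosed : IsClosedMap ν := ν.isClosedMap
  let F : Set X := ν '' (Set.range j)ᶜ
  have hF : IsClosed F := hνclosed _ (j.isOpenEmbedding.isOpen_range.isClosed_compl)
  let U : X.Opens := ⟨Fᶜ, hF.isOpen_compl⟩
  have hfU : Set.range f ⊆ (U : Set X) := by
    rintro _ ⟨y, rfl⟩ ⟨n, hn, hny⟩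
    exact hn (star n ⟨y, hny.symm⟩)
  have hpre : ((ν ⁻¹ᵁ U : f.normalization.Opens) : Set f.normalization) = Set.range j := by
    ext n
    constructor
    · intro hn
      by_contra h
      exact hn ⟨n, h, rfl⟩
    · rintro ⟨y, rfl⟩
      apply hfU
      have h := congrArg (fun g : Y ⟶ X => g y) hjν
      exact ⟨y, h.symm.trans (Scheme.Hom.comp_apply j ν y)⟩
  let f₀ : Y ⟶ U := IsOpenImmersion.lift U.ι f (by simpa using hfU)
  have hf₀ : f₀ ≫ U.ι = f := IsOpenImmersion.lift_fac _ _ _
  let e : Y ≅ (ν ⁻¹ᵁ U : Scheme) := IsOpenImmersion.isoOfRangeEq j (ν ⁻¹ᵁ U).ι (by simp [hpre])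
  have he : e.hom ≫ (ν ⁻¹ᵁ U).ι = j := IsOpenImmersion.isoOfRangeEq_hom_fac _ _ _
  have hfac : f₀ = e.hom ≫ (ν ∣_ U) := by
    rw [← cancel_mono U.ι, hf₀, Category.assoc, morphismRestrict_ι, ← Category.assoc, he, hjν]
  have hint : IsIntegralHom f₀ := by rw [hfac]; infer_instance
  have hlft₀ : LocallyOfFiniteType f₀ := by
    have : LocallyOfFiniteType (f₀ ≫ U.ι) := by rw [hf₀]; infer_instance
    exact locallyOfFiniteType_of_comp f₀ U.ι
  have hmono₀ : Mono f₀ := mono_of_mono_fac hf₀
  have hfin : IsFinite f₀ :=
    (IsFinite.iff_isIntegralHom_and_locallyOfFiniteType _).mpr ⟨hint, hlft₀⟩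
  have hci : IsClosedImmersion f₀ :=
    (IsClosedImmersion.iff_isFinite_and_mono _).mpr ⟨hfin, hmono₀⟩
  rw [← hf₀]
  infer_instance

end Groth.Agent.S15348
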