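import Groth.Statements.S15352
import Groth.Agent.Lib.Helper70.GrpConnE

set_option autoImplicit false
universe u
open CategoryTheory CategoryTheory.Limits MonoidalCategory CartesianMonoidalCategory MonObj GrpObj AlgebraicGeometry
open GrpSch

namespace Groth.Agent.S15352

/-- Let k be an algebraically closed field, G a group scheme locally of finite type over k, G⁰ ⊆ G the
connected component of the unit point, and U a nonempty open subscheme of G contained in G⁰. Then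
every point of G⁰ is in the image of the morphism U ×_k U ⟶ G, (g, h) ↦ g·h⁻¹. (The published
statement writes U as an open of G mapping to G⁰ × G⁰; this row makes the containment U ⊆ G⁰
explicit.) -/
theorem result (k : Type u) [Field k] [IsAlgClosed k]
    (G : Over (Spec (CommRingCat.of k))) [GrpObj G] [LocallyOfFiniteType G.hom] (U : G.left.Opens)
    (hne : (U : Set ↥G.left).Nonempty)
    (hU : (U : Set ↥G.left) ⊆ connectedComponent (η[G].left.base (IsLocalRing.closedPoint k))) :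
    connectedComponent (η[G].left.base (IsLocalRing.closedPoint k)) ⊆ Set.range
      ((((Over.homMk U.ι rfl : Over.mk (U.ι ≫ G.hom) ⟶ G) ⊗ₘ
          ((Over.homMk U.ι rfl : Over.mk (U.ι ≫ G.hom) ⟶ G) ≫ ι[G])) ≫ μ[G]).left.base) := by
  classical
  obtain ⟨G₀, instG₀, j, hjmon, hjcl, -, hjrange, hgi, -⟩ := Groth.Agent.Lib.Helper70.GrpConnE.main G
  have hirr : IrreducibleSpace G₀.left :=
    GeometricallyIrreducible.irreducibleSpace_of_subsingleton G₀.hom
  set UO : Over (Spec (CommRingCat.of k)) := Over.mk (U.ι ≫ G.hom) with hUO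
  set jU : UO ⟶ G := Over.homMk U.ι rfl with hjU
  have hιι : ι[G] ≫ ι[G] = 𝟙 G := by
    have h := inv_inv (𝟙 G : G ⟶ G)
    rw [Hom.inv_def, Hom.inv_def, Category.id_comp] at h
    exact h
  -- the opens in `G₀`
  let U₀ : G₀.left.Opens := j.left ⁻¹ᵁ U
  let V₀ : G₀.left.Opens := ι[G₀].left ⁻¹ᵁ U₀
  have hU₀ne : (U₀ : Set G₀.left).Nonempty := by
    obtain ⟨u, hu⟩ := hne
    have : u ∈ Set.range j.left := by rw [hjrange]; exact hU hu
    obtain ⟨u₀, rfl⟩ := this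
    exact ⟨u₀, hu⟩
  have hV₀ne : (V₀ : Set G₀.left).Nonempty := by
    obtain ⟨u₀, hu₀⟩ := hU₀ne
    refine ⟨ι[G₀].left u₀, ?_⟩
    change ι[G₀].left (ι[G₀].left u₀) ∈ U₀
    have hιι₀ : ι[G₀] ≫ ι[G₀] = 𝟙 G₀ := by
      have h := inv_inv (𝟙 G₀ : G₀ ⟶ G₀)
      rw [Hom.inv_def, Hom.inv_def, Category.id_comp] at h
      exact h
    rw [← Scheme.Hom.comp_apply, ← Over.comp_left, hιι₀]
    exact hu₀
  have hU₀d : Dense (U₀ : Set G₀.left) := U₀.2.dense hU₀ne
  have hV₀d : Dense (V₀ : Set G₀.left) := V₀.2.dense hV₀ne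
  have hmul := Groth.Agent.Lib.Helper70.GrpTrans.mul_image_dense_opens k G₀ U₀ V₀ hU₀d hV₀d
  intro x hx
  have hx' : x ∈ Set.range j.left := by rw [hjrange]; exact hx
  obtain ⟨x₀, rfl⟩ := hx'
  have hx₀ : x₀ ∈ μ[G₀].left '' ((fst G₀ G₀).left ⁻¹' (U₀ : Set G₀.left) ∩
      (snd G₀ G₀).left ⁻¹' (V₀ : Set G₀.left)) := by rw [hmul]; trivial
  obtain ⟨w₀, ⟨hw1, hw2⟩, hw3⟩ := hx₀
  -- the point of `G ⊗ G`
  let w' := (j ⊗ₘ (j ≫ ι[G])).left w₀
  have hfst : (fst G G).left w' ∈ U := by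
    change (fst G G).left ((j ⊗ₘ (j ≫ ι[G])).left w₀) ∈ U
    rw [← Scheme.Hom.comp_apply, ← Over.comp_left, tensorHom_fst, Over.comp_left,
      Scheme.Hom.comp_apply]
    exact hw1
  have hsnd : (snd G G).left w' ∈ U := by
    change (snd G G).left ((j ⊗ₘ (j ≫ ι[G])).left w₀) ∈ U
    rw [← Scheme.Hom.comp_apply, ← Over.comp_left, tensorHom_snd, ← GrpObj.inv_hom,
      ← Category.assoc, Over.comp_left, Over.comp_left, Scheme.Hom.comp_apply,
      Scheme.Hom.comp_apply]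
    exact hw2
  have hrange : w' ∈ Set.range (jU ⊗ₘ jU).left := by
    rw [Over.tensorHom_left, Scheme.Pullback.range_map]
    refine ⟨?_, ?_⟩
    · change (fst G G).left w' ∈ Set.range U.ι
      rw [Scheme.Opens.range_ι]
      exact hfst
    · change (snd G G).left w' ∈ Set.range U.ι
      rw [Scheme.Opens.range_ι]
      exact hsnd
  obtain ⟨v, hv⟩ := hrange
  refine ⟨v, ?_⟩
  have e1 : (jU ⊗ₘ (jU ≫ ι[G])) ≫ μ[G] = (jU ⊗ₘ jU) ≫ (𝟙 G ⊗ₘ ι[G]) ≫ μ[G] := by
    rw [← Category.assoc, tensorHom_comp_tensorHom, Category.comp_id]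
  have e2 : (j ⊗ₘ (j ≫ ι[G])) ≫ (𝟙 G ⊗ₘ ι[G]) ≫ μ[G] = μ[G₀] ≫ j := by
    rw [← Category.assoc, tensorHom_comp_tensorHom, Category.comp_id, Category.assoc, hιι,
      Category.comp_id, IsMonHom.mul_hom]
  change (((jU ⊗ₘ (jU ≫ ι[G])) ≫ μ[G]).left) v = j.left x₀
  rw [e1, Over.comp_left, Scheme.Hom.comp_apply, hv]
  change ((𝟙 G ⊗ₘ ι[G]) ≫ μ[G]).left ((j ⊗ₘ (j ≫ ι[G])).left w₀) = j.left x₀
  rw [← Scheme.Hom.comp_apply, ← Over.comp_left, e2, Over.comp_left, Scheme.Hom.comp_apply, hw3]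

end Groth.Agent.S15352
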