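import Groth.Statements.S15353
import Groth.Agent.Lib.Helper78.PicNilpotent
-- import your own Groth.Agent.* helpers here

set_option autoImplicit false
universe u
open CAlg

namespace Groth.Agent.S15353


open TensorProduct CommRing in
theorem bijective_mapAlgebra {R A : Type u} [CommRing R] [CommRing A] [Algebra R A]
    (hsurj : Function.Surjective (algebraMap R A))
    (hnil : IsNilpotent (RingHom.ker (algebraMap R A))) :
    Function.Bijective (Pic.mapAlgebra R A) := by
  constructor
  · rw [injective_iff_map_eq_one]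
    intro N hN
    rw [Pic.mapAlgebra_apply, Pic.mk_eq_one_iff] at hN
    obtain ⟨φ⟩ := hN
    obtain ⟨e⟩ := Groth.Agent.Lib.Helper78.PicNilpotent.nonempty_linearEquiv_of_baseChange
      hsurj hnil (Q := N) φ
    rw [← Pic.mk_eq_self (M := N), Pic.mk_eq_one_iff]
    exact ⟨e⟩
  · intro L
    obtain ⟨L', _, _, _, _, ⟨eL⟩⟩ :=
      Groth.Agent.Lib.Helper78.PicNilpotent.exists_lift_projective hsurj hnil L
    obtain ⟨P', _, _, _, _, ⟨eP⟩⟩ :=
      Groth.Agent.Lib.Helper78.PicNilpotent.exists_lift_projective hsurj hnil (Module.Dual A L)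
    -- `L' ⊗ P'` becomes trivial after base change
    let φ : A ⊗[R] (L' ⊗[R] P') ≃ₗ[A] A :=
      (AlgebraTensorModule.distribBaseChange R A L' P') ≪≫ₗ
      (TensorProduct.congr eL eP) ≪≫ₗ (TensorProduct.comm A L (Module.Dual A L)) ≪≫ₗ
      (Module.Invertible.linearEquiv A L)
    obtain ⟨e⟩ := Groth.Agent.Lib.Helper78.PicNilpotent.nonempty_linearEquiv_of_baseChange
      hsurj hnil (Q := L' ⊗[R] P') φ
    haveI : Module.Invertible R L' := Module.Invertible.left e
    refine ⟨Pic.mk R L', ?_⟩
    rw [Pic.mapAlgebra_apply, Pic.mk_eq_iff]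
    exact ⟨(AlgebraTensorModule.congr (LinearEquiv.refl A A) (Pic.mk.linearEquiv R L')) ≪≫ₗ eL⟩

/-- Let f : A' → A be a surjective ring homomorphism whose kernel is a nilpotent ideal. Then the induced
homomorphism of Picard groups Pic(A') → Pic(A), base change of invertible modules along f, is
bijective. -/
theorem result {A' A : Type u} [CommRing A'] [CommRing A]
    (f : A' →+* A) (hf : Function.Surjective f) (hker : IsNilpotent (RingHom.ker f)) :
    Function.Bijective (CommRing.Pic.mapRingHom f) := by
  letI := f.toAlgebra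
  have h1 : Function.Surjective (algebraMap A' A) := hf
  have h2 : IsNilpotent (RingHom.ker (algebraMap A' A)) := hker
  exact bijective_mapAlgebra h1 h2

end Groth.Agent.S15353
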