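import Groth.Statements.S15354
import Mathlib.Tactic

set_option autoImplicit false
universe u
open CategoryTheory CategoryTheory.Limits AlgebraicGeometry
open Mor

namespace Groth.Agent.S15354

/-- two morphisms from the spectrum of a local domain `A` that agree at the closed point (as points)
and on the generic fibre `Spec K` are equal. -/
private lemma main {Y : Scheme.{u}}
    (A : Type u) [CommRing A] [IsLocalRing A] (K : Type u) [CommRing K] [Algebra A K]
    (hinj : Function.Injective (algebraMap A K))
    (ξ η : Spec (CommRingCat.of A) ⟶ Y)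
    (hK : Spec.map (CommRingCat.ofHom (algebraMap A K)) ≫ ξ = Spec.map (CommRingCat.ofHom (algebraMap A K)) ≫ η)
    (hpt : ξ.base (IsLocalRing.closedPoint A) = η.base (IsLocalRing.closedPoint A)) :
    ξ = η := by
  -- an affine open neighbourhood of the image of the closed point
  obtain ⟨V, hV, hyV⟩ : ∃ V : Y.Opens, IsAffineOpen V ∧ ξ.base (IsLocalRing.closedPoint A) ∈ V := by
    obtain ⟨_, ⟨V, hV, rfl⟩, hy, -⟩ := Y.isBasis_affineOpens.exists_subset_of_mem_open
      (Set.mem_univ (ξ.base (IsLocalRing.closedPoint A))) isOpen_univ
    exact ⟨V, hV, hy⟩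
  have hξ : Set.range ξ.base ⊆ Set.range V.ι.base := by
    rw [Scheme.Opens.range_ι]
    rintro _ ⟨x, rfl⟩
    exact ((IsLocalRing.specializes_closedPoint (R := A) x).map ξ.continuous).mem_open V.2 hyV
  have hη : Set.range η.base ⊆ Set.range V.ι.base := by
    rw [Scheme.Opens.range_ι]
    rintro _ ⟨x, rfl⟩
    exact ((IsLocalRing.specializes_closedPoint (R := A) x).map η.continuous).mem_open V.2
      (hpt ▸ hyV)
  have e1 : IsOpenImmersion.lift V.ι ξ hξ ≫ V.ι = ξ := IsOpenImmersion.lift_fac _ _ _
  have e2 : IsOpenImmersion.lift V.ι η hη ≫ V.ι = η := IsOpenImmersion.lift_fac _ _ _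
  have hK' : Spec.map (CommRingCat.ofHom (algebraMap A K)) ≫ IsOpenImmersion.lift V.ι ξ hξ =
      Spec.map (CommRingCat.ofHom (algebraMap A K)) ≫ IsOpenImmersion.lift V.ι η hη := by
    rw [← cancel_mono V.ι, Category.assoc, Category.assoc, e1, e2, hK]
  have : IsAffine (V : Scheme.{u}) := hV
  have key : IsOpenImmersion.lift V.ι ξ hξ = IsOpenImmersion.lift V.ι η hη := by
    apply ext_of_isAffine
    have h1 := congrArg Scheme.Hom.appTop hK'
    rw [Scheme.Hom.comp_appTop, Scheme.Hom.comp_appTop] at h1
    have hmono : Mono (Spec.map (CommRingCat.ofHom (algebraMap A K))).appTop := by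
      have hn := Scheme.ΓSpecIso_naturality (CommRingCat.ofHom (algebraMap A K))
      have : (Spec.map (CommRingCat.ofHom (algebraMap A K))).appTop =
          (Scheme.ΓSpecIso (CommRingCat.of A)).hom ≫ CommRingCat.ofHom (algebraMap A K) ≫
            (Scheme.ΓSpecIso (CommRingCat.of K)).inv := by
        rw [← Category.assoc, ← hn, Category.assoc, Iso.hom_inv_id, Category.comp_id]
      rw [this]
      have : Mono (CommRingCat.ofHom (algebraMap A K)) :=
        ConcreteCategory.mono_of_injective _ hinj
      infer_instance
    exact (cancel_mono _).mp h1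
  rw [← e1, ← e2, key]

/-- Let f : Y ⟶ X be a morphism of schemes, A a valuation ring with fraction field K and residue field
k, and ξ, η : Spec A ⟶ Y two A-points of Y over the same A-point of X. If ξ and η restrict to the
same K-point and to the same k-point of Y, then ξ = η. (The published statement is an equivalence,
for algebraic spaces locally of finite presentation over a Noetherian scheme, between local
separatedness of f and conditions (a), (b); this row is the necessity of (a) in the case of schemes,
where no hypothesis on f is needed.) -/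
theorem result {X Y : Scheme.{u}} (f : Y ⟶ X)
    (A : Type u) [CommRing A] [IsDomain A] [ValuationRing A] (K : Type u) [Field K] [Algebra A K]
    [IsFractionRing A K] (ξ η : Spec (CommRingCat.of A) ⟶ Y) (hf : ξ ≫ f = η ≫ f)
    (hK : Spec.map (CommRingCat.ofHom (algebraMap A K)) ≫ ξ = Spec.map (CommRingCat.ofHom (algebraMap A K)) ≫ η)
    (hk : Spec.map (CommRingCat.ofHom (IsLocalRing.residue A)) ≫ ξ =
      Spec.map (CommRingCat.ofHom (IsLocalRing.residue A)) ≫ η) :
    ξ = η := by
  refine main A K (IsFractionRing.injective A K) ξ η hK ?_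
  -- the closed point is the image of the unique point of the spectrum of the residue field
  let x0 : ↥(Spec (CommRingCat.of (IsLocalRing.ResidueField A))) :=
    IsLocalRing.closedPoint (IsLocalRing.ResidueField A)
  let x1 : ↥(Spec (CommRingCat.of A)) := IsLocalRing.closedPoint A
  have hcl : (Spec.map (CommRingCat.ofHom (IsLocalRing.residue A))).base x0 = x1 :=
    IsLocalRing.comap_closedPoint (IsLocalRing.residue A)
  have h1 : (Spec.map (CommRingCat.ofHom (IsLocalRing.residue A)) ≫ ξ).base x0 =
      (Spec.map (CommRingCat.ofHom (IsLocalRing.residue A)) ≫ η).base x0 := by rw [hk]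
  rw [Scheme.Hom.comp_apply, Scheme.Hom.comp_apply, hcl] at h1
  exact h1

end Groth.Agent.S15354
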