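import Groth.Statements.S15355
import Mathlib.Tactic
import Mathlib.AlgebraicGeometry.Properties

set_option autoImplicit false
universe u
open CategoryTheory CategoryTheory.Limits AlgebraicGeometry
open Mor

namespace Groth.Agent.S15355

/-- Two morphisms from a reduced scheme `T` to an affine scheme `V` that agree on the residue
fields of a dense set of points are equal. -/
private lemma eq_of_dense {T V : Scheme.{u}} [IsReduced T] [IsAffine V] (ξ η : T ⟶ V)
    (D : Set T) (hD : Dense D)
    (h : ∀ t ∈ D, T.fromSpecResidueField t ≫ ξ = T.fromSpecResidueField t ≫ η) : ξ = η := by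
  apply ext_of_isAffine
  ext b
  have key : T.basicOpen (ξ.appTop b - η.appTop b) = ⊥ := by
    by_contra hne
    have hne' : ((T.basicOpen (ξ.appTop b - η.appTop b) : T.Opens) : Set T).Nonempty := by
      rw [Set.nonempty_iff_ne_empty]
      intro h0
      apply hne
      ext1
      exact h0
    obtain ⟨t, ht, htD⟩ := hD.inter_open_nonempty _ (T.basicOpen _).2 hne'
    have h2 := h t htD
    have h3 : (T.fromSpecResidueField t).appTop (ξ.appTop b - η.appTop b) = 0 := by
      rw [map_sub, sub_eq_zero]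
      have := congrArg (fun g : Spec (T.residueField t) ⟶ V => g.appTop b) h2
      simp only [Scheme.Hom.comp_appTop, CommRingCat.comp_apply] at this
      exact this
    have h4 : (default : Spec (T.residueField t)) ∈
        (T.fromSpecResidueField t) ⁻¹ᵁ (T.basicOpen (ξ.appTop b - η.appTop b)) := by
      show (T.fromSpecResidueField t) default ∈ T.basicOpen (ξ.appTop b - η.appTop b)
      rw [Scheme.fromSpecResidueField_apply]
      exact ht
    rw [Scheme.preimage_basicOpen_top, h3, Scheme.basicOpen_zero] at h4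
    exact h4
  have := (basicOpen_eq_bot_iff _).mp key
  exact sub_eq_zero.mp this

/-- Let f : Y ⟶ X be a morphism of schemes, A an integral domain and ξ, η : Spec A ⟶ Y two A-points of Y
over the same A-point of X. If ξ and η induce the same κ(p)-point of Y at every point p of some
dense subset of Spec A, then ξ and η agree on a nonempty open subscheme of Spec A. (The published
statement is an equivalence, for algebraic spaces locally of finite presentation over a Noetherian
scheme, between local separatedness of f and conditions (a), (b); this row is the necessity of (b)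
in the case of schemes, where no hypothesis on f is needed.) -/
theorem result {X Y : Scheme.{u}} (f : Y ⟶ X)
    (A : Type u) [CommRing A] [IsDomain A] (ξ η : Spec (CommRingCat.of A) ⟶ Y) (hf : ξ ≫ f = η ≫ f)
    (D : Set ↥(Spec (CommRingCat.of A))) (hD : Dense D)
    (hpt : ∀ p ∈ D, (Spec (CommRingCat.of A)).fromSpecResidueField p ≫ ξ =
      (Spec (CommRingCat.of A)).fromSpecResidueField p ≫ η) :
    ∃ U : (Spec (CommRingCat.of A)).Opens, (U : Set ↥(Spec (CommRingCat.of A))).Nonempty ∧ U.ι ≫ ξ = U.ι ≫ η := by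
  have : Nonempty ↥(Spec (CommRingCat.of A)) :=
    inferInstanceAs (Nonempty (PrimeSpectrum A))
  obtain ⟨p₀, hp₀⟩ : D.Nonempty := hD.nonempty
  have hpt₀ : ξ.base p₀ = η.base p₀ := by
    have h1 := congrArg (fun g : Spec ((Spec (CommRingCat.of A)).residueField p₀) ⟶ Y =>
      g.base default) (hpt p₀ hp₀)
    simp only [Scheme.Hom.comp_apply, Scheme.fromSpecResidueField_apply] at h1
    exact h1
  obtain ⟨V, hV, hyV⟩ : ∃ V : Y.Opens, IsAffineOpen V ∧ ξ.base p₀ ∈ V := by
    obtain ⟨_, ⟨V, hV, rfl⟩, hy, -⟩ := Y.isBasis_affineOpens.exists_subset_of_mem_open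
      (Set.mem_univ (ξ.base p₀)) isOpen_univ
    exact ⟨V, hV, hy⟩
  have hW : p₀ ∈ ξ ⁻¹ᵁ V ⊓ η ⁻¹ᵁ V := ⟨hyV, by show η.base p₀ ∈ V; rw [← hpt₀]; exact hyV⟩
  refine ⟨ξ ⁻¹ᵁ V ⊓ η ⁻¹ᵁ V, ⟨p₀, hW⟩, ?_⟩
  have hξ : Set.range ((ξ ⁻¹ᵁ V ⊓ η ⁻¹ᵁ V).ι ≫ ξ).base ⊆ Set.range V.ι.base := by
    rw [Scheme.Opens.range_ι]
    rintro _ ⟨x, rfl⟩
    rw [Scheme.Hom.comp_apply]
    exact x.2.1
  have hη : Set.range ((ξ ⁻¹ᵁ V ⊓ η ⁻¹ᵁ V).ι ≫ η).base ⊆ Set.range V.ι.base := by
    rw [Scheme.Opens.range_ι]
    rintro _ ⟨x, rfl⟩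
    rw [Scheme.Hom.comp_apply]
    exact x.2.2
  have e1 := IsOpenImmersion.lift_fac V.ι _ hξ
  have e2 := IsOpenImmersion.lift_fac V.ι _ hη
  have : IsAffine (V : Scheme.{u}) := hV
  have key : IsOpenImmersion.lift V.ι _ hξ = IsOpenImmersion.lift V.ι _ hη := by
    apply eq_of_dense _ _ ((ξ ⁻¹ᵁ V ⊓ η ⁻¹ᵁ V).ι.base ⁻¹' D)
    · -- density of the preimage of D in the open subscheme
      exact hD.preimage (ξ ⁻¹ᵁ V ⊓ η ⁻¹ᵁ V).ι.isOpenEmbedding.isOpenMap
    · intro t ht
      rw [← cancel_mono V.ι, Category.assoc, Category.assoc, e1, e2,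
        ← Scheme.Hom.SpecMap_residueFieldMap_fromSpecResidueField_assoc,
        ← Scheme.Hom.SpecMap_residueFieldMap_fromSpecResidueField_assoc, hpt _ ht]
  rw [← e1, ← e2, key]

end Groth.Agent.S15355
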