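import Groth.Statements.S15361
import Mathlib

set_option autoImplicit false
open GalCoh

namespace Groth.Agent.S15361
open Matrix


variable {p : ℕ} [Fact p.Prime]

/-- rank-one nilpotent matrix with image spanned by `v`. -/
def nil (v : Fin 2 → ZMod p) : Matrix (Fin 2) (Fin 2) (ZMod p) :=
  !![-(v 0 * v 1), v 0 ^ 2; -(v 1 ^ 2), v 0 * v 1]

lemma nil_mul_nil (v : Fin 2 → ZMod p) : nil v * nil v = 0 := by
  ext i j
  fin_cases i <;> fin_cases j <;> simp [nil, Matrix.mul_apply, Fin.sum_univ_two] <;> ring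

lemma conj_nil (g : Matrix (Fin 2) (Fin 2) (ZMod p)) (v : Fin 2 → ZMod p) :
    g * nil v * g.adjugate = nil (g *ᵥ v) := by
  rw [Matrix.adjugate_fin_two]
  ext i j
  fin_cases i <;> fin_cases j <;>
    simp [nil, Matrix.mul_apply, Fin.sum_univ_two, Matrix.mulVec, dotProduct] <;> ring

lemma one_add_mul_one_add (s t : ZMod p) (v : Fin 2 → ZMod p) :
    (1 + s • nil v) * (1 + t • nil v) = 1 + (s + t) • nil v := by
  have h := nil_mul_nil v
  calc (1 + s • nil v) * (1 + t • nil v)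
      = 1 + s • nil v + t • nil v + (s * t) • (nil v * nil v) := by
        rw [add_mul, mul_add, mul_add, one_mul, mul_one, one_mul, smul_mul_smul_comm]
        abel
    _ = 1 + (s + t) • nil v := by rw [h, smul_zero, add_zero, add_smul, add_assoc]

/-- the transvection `1 + t • nil v` as an element of `GL₂`. -/
def trv (t : ZMod p) (v : Fin 2 → ZMod p) : GL (Fin 2) (ZMod p) where
  val := 1 + t • nil v
  inv := 1 + (-t) • nil v
  val_inv := by rw [one_add_mul_one_add, add_neg_cancel, zero_smul, add_zero]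
  inv_val := by rw [one_add_mul_one_add, neg_add_cancel, zero_smul, add_zero]

@[simp] lemma coe_trv (t : ZMod p) (v : Fin 2 → ZMod p) :
    (trv t v : Matrix (Fin 2) (Fin 2) (ZMod p)) = 1 + t • nil v := rfl

lemma trv_mul_trv (s t : ZMod p) (v : Fin 2 → ZMod p) : trv s v * trv t v = trv (s + t) v := by
  apply Units.ext
  simp only [Units.val_mul, coe_trv]
  exact one_add_mul_one_add s t v

lemma trv_zero (v : Fin 2 → ZMod p) : trv 0 v = 1 := by
  apply Units.ext
  simp

lemma trv_pow (t : ZMod p) (v : Fin 2 → ZMod p) (k : ℕ) :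
    trv t v ^ k = trv ((k : ZMod p) * t) v := by
  induction k with
  | zero => rw [pow_zero, Nat.cast_zero, zero_mul, trv_zero]
  | succ k ih =>
    rw [pow_succ, ih, trv_mul_trv]
    congr 1
    push_cast
    ring

/-- conjugation of a transvection. -/
lemma conj_trv (c : GL (Fin 2) (ZMod p)) (t : ZMod p) (v : Fin 2 → ZMod p) :
    c * trv t v * c⁻¹ =
      trv (t * (Matrix.det (c : Matrix (Fin 2) (Fin 2) (ZMod p)))⁻¹)
        ((c : Matrix (Fin 2) (Fin 2) (ZMod p)) *ᵥ v) := by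
  apply Units.ext
  have hdet : IsUnit (Matrix.det (c : Matrix (Fin 2) (Fin 2) (ZMod p))) :=
    (Matrix.isUnit_iff_isUnit_det _).mp c.isUnit
  have hinv : ((c⁻¹ : GL (Fin 2) (ZMod p)) : Matrix (Fin 2) (Fin 2) (ZMod p)) =
      (Matrix.det (c : Matrix (Fin 2) (Fin 2) (ZMod p)))⁻¹ •
        (c : Matrix (Fin 2) (Fin 2) (ZMod p)).adjugate := by
    rw [Matrix.coe_units_inv, Matrix.inv_def, Ring.inverse_eq_inv']
  have hcc : (c : Matrix (Fin 2) (Fin 2) (ZMod p)) *
      ((c⁻¹ : GL (Fin 2) (ZMod p)) : Matrix (Fin 2) (Fin 2) (ZMod p)) = 1 := by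
    rw [← Units.val_mul, mul_inv_cancel, Units.val_one]
  simp only [Units.val_mul, coe_trv]
  rw [mul_add, mul_one, add_mul, hcc, ← conj_nil, hinv]
  simp only [Matrix.mul_smul, Matrix.smul_mul, smul_smul]
  rw [mul_comm]





lemma coe_trv_e1 (t : ZMod p) :
    (trv t ![1, 0] : Matrix (Fin 2) (Fin 2) (ZMod p)) = !![1, t; 0, 1] := by
  rw [coe_trv]
  ext i j
  fin_cases i <;> fin_cases j <;> simp [nil]

lemma coe_trv_e2 (t : ZMod p) :
    (trv (-t) ![0, 1] : Matrix (Fin 2) (Fin 2) (ZMod p)) = !![1, 0; t, 1] := by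
  rw [coe_trv]
  ext i j
  fin_cases i <;> fin_cases j <;> simp [nil]

lemma decomp (a b c d : ZMod p) (hc : c ≠ 0) (hdet : a * d - b * c = 1) :
    (!![a, b; c, d] : Matrix (Fin 2) (Fin 2) (ZMod p)) =
      !![1, (a - 1) / c; 0, 1] * !![1, 0; c, 1] * !![1, (d - 1) / c; 0, 1] := by
  ext i j
  fin_cases i <;> fin_cases j <;>
    simp [Matrix.mul_apply, Fin.sum_univ_two]
  · field_simp
    ring
  · field_simp
    linear_combination (-1 : ZMod p) * hdet
  · field_simp
    ring

/-- `SL₂` is generated by elementary matrices. -/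
lemma mem_of_det_one (H : Subgroup (GL (Fin 2) (ZMod p)))
    (h1 : ∀ t : ZMod p, trv t ![1, 0] ∈ H) (h2 : ∀ t : ZMod p, trv t ![0, 1] ∈ H)
    (g : GL (Fin 2) (ZMod p))
    (hg : Matrix.det (g : Matrix (Fin 2) (Fin 2) (ZMod p)) = 1) : g ∈ H := by
  -- first the case `g 1 0 ≠ 0`
  have key : ∀ g : GL (Fin 2) (ZMod p),
      Matrix.det (g : Matrix (Fin 2) (Fin 2) (ZMod p)) = 1 →
      (g : Matrix (Fin 2) (Fin 2) (ZMod p)) 1 0 ≠ 0 → g ∈ H := by
    intro g hg hc
    have hdet : (g : Matrix (Fin 2) (Fin 2) (ZMod p)) 0 0 * (g : Matrix (Fin 2) (Fin 2) (ZMod p)) 1 1 -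
        (g : Matrix (Fin 2) (Fin 2) (ZMod p)) 0 1 * (g : Matrix (Fin 2) (Fin 2) (ZMod p)) 1 0 = 1 := by
      rw [← hg, Matrix.det_fin_two]
    have : g = trv (((g : Matrix (Fin 2) (Fin 2) (ZMod p)) 0 0 - 1) /
          (g : Matrix (Fin 2) (Fin 2) (ZMod p)) 1 0) ![1, 0] *
        trv (-(g : Matrix (Fin 2) (Fin 2) (ZMod p)) 1 0) ![0, 1] *
        trv (((g : Matrix (Fin 2) (Fin 2) (ZMod p)) 1 1 - 1) /
          (g : Matrix (Fin 2) (Fin 2) (ZMod p)) 1 0) ![1, 0] := by
      apply Units.ext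
      rw [Units.val_mul, Units.val_mul, coe_trv_e1, coe_trv_e2, coe_trv_e1,
        ← decomp _ _ _ _ hc hdet]
      exact Matrix.eta_fin_two _
    rw [this]
    exact H.mul_mem (H.mul_mem (h1 _) (h2 _)) (h1 _)
  by_cases hc : (g : Matrix (Fin 2) (Fin 2) (ZMod p)) 1 0 = 0
  · -- multiply by an elementary matrix
    have ha : (g : Matrix (Fin 2) (Fin 2) (ZMod p)) 0 0 ≠ 0 := by
      intro ha
      rw [Matrix.det_fin_two, ha, hc] at hg
      simp at hg
    have hg' : trv (-1) ![0, 1] * g ∈ H := by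
      apply key
      · rw [Units.val_mul, Matrix.det_mul, hg, mul_one, coe_trv_e2, Matrix.det_fin_two]
        simp
      · rw [Units.val_mul, coe_trv_e2, Matrix.mul_apply, Fin.sum_univ_two]
        simp [hc, ha]
    have : g = (trv (-1) ![0, 1])⁻¹ * (trv (-1) ![0, 1] * g) := by group
    rw [this]
    exact H.mul_mem (H.inv_mem (h2 _)) hg'
  · exact key g hg hc





lemma cayley (N : Matrix (Fin 2) (Fin 2) (ZMod p)) (hdet : N.det = 0) :
    N * N = (N 0 0 + N 1 1) • N := by
  rw [Matrix.det_fin_two] at hdet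
  ext i j
  fin_cases i <;> fin_cases j <;>
    simp [Matrix.mul_apply, Fin.sum_univ_two]
  · linear_combination (-1 : ZMod p) * hdet
  · ring
  · ring
  · linear_combination (-1 : ZMod p) * hdet

lemma pow_succ_eq (N : Matrix (Fin 2) (Fin 2) (ZMod p)) (hdet : N.det = 0) (k : ℕ) :
    N ^ (k + 1) = (N 0 0 + N 1 1) ^ k • N := by
  induction k with
  | zero => simp
  | succ k ih =>
    rw [pow_succ, ih, Matrix.smul_mul, cayley N hdet, smul_smul, ← pow_succ]

/-- an element of order `p` of `GL₂(𝔽_p)` is a transvection. -/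
lemma exists_trv_of_pow_eq_one (u : GL (Fin 2) (ZMod p)) (hu : u ^ p = 1) (hu1 : u ≠ 1) :
    ∃ (s : ZMod p) (v : Fin 2 → ZMod p), s ≠ 0 ∧ v ≠ 0 ∧ u = trv s v := by
  have hp := (Fact.out : p.Prime)
  set N : Matrix (Fin 2) (Fin 2) (ZMod p) := (u : Matrix (Fin 2) (Fin 2) (ZMod p)) - 1 with hN
  have hNp : N ^ p = 0 := by
    rw [hN, sub_pow_char_of_commute _ (Commute.one_right _), one_pow, ← Units.val_pow_eq_pow_val, hu,
      Units.val_one, sub_self]
  have hN0 : N ≠ 0 := by
    intro h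
    apply hu1
    apply Units.ext
    rw [Units.val_one, ← sub_eq_zero]
    exact h
  have hdet : N.det = 0 := by
    have := congrArg Matrix.det hNp
    rw [Matrix.det_pow, Matrix.det_zero] at this
    exact pow_eq_zero_iff hp.ne_zero |>.mp this
  have htr : N 0 0 + N 1 1 = 0 := by
    have h1 := pow_succ_eq N hdet (p - 1)
    rw [Nat.sub_add_cancel hp.one_le, hNp] at h1
    rcases smul_eq_zero.mp h1.symm with h | h
    · by_cases hp1 : p - 1 = 0
      · exfalso
        have := hp.two_le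
        omega
      · exact pow_eq_zero_iff hp1 |>.mp h
    · exact absurd h hN0
  have hdet' : N 0 0 * N 1 1 - N 0 1 * N 1 0 = 0 := by rw [← Matrix.det_fin_two]; exact hdet
  have hd : N 1 1 = -N 0 0 := by linear_combination htr
  have hu' : (u : Matrix (Fin 2) (Fin 2) (ZMod p)) = 1 + N := by rw [hN]; abel
  have hNeta := Matrix.eta_fin_two N
  by_cases hb : N 0 1 = 0
  · have ha : N 0 0 = 0 := by
      have : N 0 0 ^ 2 = 0 := by
        rw [hd, hb] at hdet'
        linear_combination (-1 : ZMod p) * hdet'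
      exact pow_eq_zero_iff (two_ne_zero) |>.mp this
    have hc : N 1 0 ≠ 0 := by
      intro hc
      apply hN0
      rw [hNeta, hb, ha, hc, hd, ha]
      ext i j
      fin_cases i <;> fin_cases j <;> simp
    refine ⟨-N 1 0, ![0, 1], neg_ne_zero.mpr hc, ?_, ?_⟩
    · intro h
      have := congrFun h 1
      simp at this
    · apply Units.ext
      rw [coe_trv, hu']
      congr 1
      rw [hNeta, hb, ha, hd, ha]
      ext i j
      fin_cases i <;> fin_cases j <;> simp [nil]
  · refine ⟨(N 0 1)⁻¹, ![N 0 1, -N 0 0], inv_ne_zero hb, ?_, ?_⟩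
    · intro h
      have := congrFun h 0
      simp at this
      exact hb this
    · apply Units.ext
      rw [coe_trv, hu']
      congr 1
      have hc : N 1 0 = -(N 0 0 ^ 2) / N 0 1 := by
        field_simp
        rw [hd] at hdet'
        linear_combination (-1 : ZMod p) * hdet'
      rw [hNeta, hd, hc]
      ext i j
      fin_cases i <;> fin_cases j <;> simp [nil] <;> field_simp





section Cartan
variable (C : Subgroup (GL (Fin 2) (ZMod p))) (E : Subring (Matrix (Fin 2) (Fin 2) (ZMod p)))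
  (hE : IsField E) (hcard : Nat.card E = p ^ 2)
  (hEC : (E : Set (Matrix (Fin 2) (Fin 2) (ZMod p))) =
    insert 0 ((fun g : GL (Fin 2) (ZMod p) => (g : Matrix (Fin 2) (Fin 2) (ZMod p))) ''
      (C : Set (GL (Fin 2) (ZMod p)))))

include hEC in
lemma mem_C_of_mem_E {x : Matrix (Fin 2) (Fin 2) (ZMod p)} (hx : x ∈ E) (hx0 : x ≠ 0) :
    ∃ c ∈ C, (c : Matrix (Fin 2) (Fin 2) (ZMod p)) = x := by
  have : x ∈ (E : Set (Matrix (Fin 2) (Fin 2) (ZMod p))) := hx
  rw [hEC] at this
  rcases this with h | ⟨c, hc, rfl⟩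
  · exact absurd h hx0
  · exact ⟨c, hc, rfl⟩

include hE in
lemma exists_inv_of_mem_E {x : Matrix (Fin 2) (Fin 2) (ZMod p)} (hx : x ∈ E) (hx0 : x ≠ 0) :
    ∃ y ∈ E, y * x = 1 := by
  have hne : (⟨x, hx⟩ : E) ≠ 0 := by
    intro h
    apply hx0
    exact congrArg Subtype.val h
  obtain ⟨y, hy⟩ := hE.mul_inv_cancel hne
  refine ⟨y.1, y.2, ?_⟩
  have hy' : y * ⟨x, hx⟩ = 1 := (hE.mul_comm _ _).trans hy
  exact congrArg Subtype.val hy'

include hE hcard hEC in
/-- a non-split Cartan subgroup acts transitively on non-zero vectors. -/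
lemma transitive (v w : Fin 2 → ZMod p) (hv : v ≠ 0) (hw : w ≠ 0) :
    ∃ c ∈ C, (c : Matrix (Fin 2) (Fin 2) (ZMod p)) *ᵥ v = w := by
  let f : E → (Fin 2 → ZMod p) := fun x => (x : Matrix (Fin 2) (Fin 2) (ZMod p)) *ᵥ v
  have hinj : Function.Injective f := by
    intro x y hxy
    by_contra hne
    have hz : (x : Matrix (Fin 2) (Fin 2) (ZMod p)) - (y : Matrix (Fin 2) (Fin 2) (ZMod p)) ≠ 0 := by
      intro h
      apply hne
      exact Subtype.ext (sub_eq_zero.mp h)
    obtain ⟨z', _, hz'⟩ := exists_inv_of_mem_E E hE (E.sub_mem x.2 y.2) hz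
    apply hv
    have h0 : ((x : Matrix (Fin 2) (Fin 2) (ZMod p)) - (y : Matrix (Fin 2) (Fin 2) (ZMod p))) *ᵥ v = 0 := by
      rw [Matrix.sub_mulVec]
      exact sub_eq_zero.mpr hxy
    calc v = (1 : Matrix (Fin 2) (Fin 2) (ZMod p)) *ᵥ v := (Matrix.one_mulVec v).symm
      _ = z' *ᵥ (((x : Matrix (Fin 2) (Fin 2) (ZMod p)) - (y : Matrix (Fin 2) (Fin 2) (ZMod p))) *ᵥ v) := by
          rw [Matrix.mulVec_mulVec, hz']
      _ = 0 := by rw [h0, Matrix.mulVec_zero]
  have hbij : Function.Bijective f := by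
    apply hinj.bijective_of_nat_card_le
    rw [hcard, Nat.card_eq_fintype_card, Fintype.card_fun, ZMod.card, Fintype.card_fin]
  obtain ⟨x, hx⟩ := hbij.2 w
  have hx0 : (x : Matrix (Fin 2) (Fin 2) (ZMod p)) ≠ 0 := by
    intro h
    apply hw
    rw [← hx]
    show (x : Matrix (Fin 2) (Fin 2) (ZMod p)) *ᵥ v = 0
    rw [h, Matrix.zero_mulVec]
  obtain ⟨c, hc, hcx⟩ := mem_C_of_mem_E C E hEC x.2 hx0
  exact ⟨c, hc, by rw [hcx]; exact hx⟩

lemma scalar_mem (s : ZMod p) : (s • (1 : Matrix (Fin 2) (Fin 2) (ZMod p))) ∈ E := by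
  have h1 : ((s.val : ℕ) : Matrix (Fin 2) (Fin 2) (ZMod p)) ∈ E := natCast_mem E _
  have h2 : ((s.val : ℕ) : Matrix (Fin 2) (Fin 2) (ZMod p)) = s • 1 := by
    rw [← nsmul_one, ← Nat.cast_smul_eq_nsmul (ZMod p), ZMod.natCast_zmod_val]
  rwa [h2] at h1

lemma det_comb (s t : ZMod p) (x : Matrix (Fin 2) (Fin 2) (ZMod p)) (htr : x 0 0 + x 1 1 = 0) :
    (s • (1 : Matrix (Fin 2) (Fin 2) (ZMod p)) + t • x).det = s ^ 2 + x.det * t ^ 2 := by
  rw [Matrix.det_fin_two, Matrix.det_fin_two]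
  simp
  have hd : x 1 1 = -x 0 0 := by linear_combination htr
  rw [hd]
  ring

include hE hcard hEC in
/-- the determinant is surjective on a non-split Cartan subgroup. -/
lemma det_surj (a : ZMod p) (ha : a ≠ 0) :
    ∃ c ∈ C, (c : Matrix (Fin 2) (Fin 2) (ZMod p)).det = a := by
  have hp := (Fact.out : p.Prime)
  rcases hp.eq_two_or_odd with h2 | hodd
  · -- `p = 2`: `a = 1`
    refine ⟨1, C.one_mem, ?_⟩
    rw [Units.val_one, Matrix.det_one]
    have hlt : a.val < 2 := by
      have := ZMod.val_lt a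
      omega
    have hne : a.val ≠ 0 := by
      intro h
      exact ha ((ZMod.val_eq_zero a).mp h)
    have h1 : a.val = 1 := by omega
    rw [← ZMod.natCast_zmod_val a, h1, Nat.cast_one]
  · -- odd `p`
    have h2ne : (2 : ZMod p) ≠ 0 := by
      intro h
      have : ((2 : ℕ) : ZMod p) = 0 := by exact_mod_cast h
      rw [ZMod.natCast_eq_zero_iff] at this
      have := Nat.le_of_dvd (by norm_num) this
      have := hp.two_le
      omega
    -- a non-scalar element of `E`
    obtain ⟨c₀, hc₀, hc₀v⟩ := transitive C E hE hcard hEC ![1, 0] ![0, 1]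
      (by intro h; simpa using congrFun h 0) (by intro h; simpa using congrFun h 1)
    have hc₀E : (c₀ : Matrix (Fin 2) (Fin 2) (ZMod p)) ∈ E := by
      show (c₀ : Matrix (Fin 2) (Fin 2) (ZMod p)) ∈ (E : Set (Matrix (Fin 2) (Fin 2) (ZMod p)))
      rw [hEC]
      exact Or.inr ⟨c₀, hc₀, rfl⟩
    have h00 : (c₀ : Matrix (Fin 2) (Fin 2) (ZMod p)) 0 0 = 0 := by
      have := congrFun hc₀v 0
      simpa [Matrix.mulVec, dotProduct, Fin.sum_univ_two] using this
    have h10 : (c₀ : Matrix (Fin 2) (Fin 2) (ZMod p)) 1 0 = 1 := by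
      have := congrFun hc₀v 1
      simpa [Matrix.mulVec, dotProduct, Fin.sum_univ_two] using this
    set τ := (c₀ : Matrix (Fin 2) (Fin 2) (ZMod p)) 1 1 with hτ
    set x : Matrix (Fin 2) (Fin 2) (ZMod p) :=
      (c₀ : Matrix (Fin 2) (Fin 2) (ZMod p)) - (τ / 2) • 1 with hx
    have hxE : x ∈ E := E.sub_mem hc₀E (scalar_mem E _)
    have hx10 : x 1 0 = 1 := by simp [hx, h10]
    have hx0 : x ≠ 0 := by
      intro h
      rw [h] at hx10
      simp at hx10
    have hxtr : x 0 0 + x 1 1 = 0 := by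
      simp only [hx, Matrix.sub_apply, Matrix.smul_apply, Matrix.one_apply_eq, smul_eq_mul, mul_one,
        h00, ← hτ]
      field_simp
      ring
    -- `x` is invertible, so `det x ≠ 0`
    have hdx : x.det ≠ 0 := by
      obtain ⟨y, _, hy⟩ := exists_inv_of_mem_E E hE hxE hx0
      intro h
      have := congrArg Matrix.det hy
      rw [Matrix.det_mul, h, mul_zero, Matrix.det_one] at this
      exact zero_ne_one this
    -- solve `s² + δ t² = a`
    have hcardF : Fintype.card (ZMod p) % 2 = 1 := by rw [ZMod.card]; exact hodd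
    obtain ⟨s, t, hst⟩ := FiniteField.exists_root_sum_quadratic
      (f := (Polynomial.X ^ 2 : Polynomial (ZMod p)))
      (g := Polynomial.C x.det * Polynomial.X ^ 2 - Polynomial.C a)
      (Polynomial.degree_X_pow 2)
      (by
        rw [Polynomial.degree_sub_C (by rw [Polynomial.degree_C_mul_X_pow 2 hdx]; norm_num),
          Polynomial.degree_C_mul_X_pow 2 hdx]
        rfl) hcardF
    simp only [Polynomial.eval_pow, Polynomial.eval_X, Polynomial.eval_sub, Polynomial.eval_mul,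
      Polynomial.eval_C] at hst
    set y : Matrix (Fin 2) (Fin 2) (ZMod p) := s • 1 + t • x with hy
    have hyE : y ∈ E := by
      apply E.add_mem (scalar_mem E s)
      have : t • x = (t • (1 : Matrix (Fin 2) (Fin 2) (ZMod p))) * x := by
        rw [Matrix.smul_mul, one_mul]
      rw [this]
      exact E.mul_mem (scalar_mem E t) hxE
    have hydet : y.det = a := by
      rw [hy, det_comb s t x hxtr]
      linear_combination hst
    have hy0 : y ≠ 0 := by
      intro h
      rw [h, Matrix.det_zero] at hydet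
      exact ha hydet.symm
    obtain ⟨c, hc, hcy⟩ := mem_C_of_mem_E C E hEC hyE hy0
    exact ⟨c, hc, by rw [hcy, hydet]⟩

end Cartan





/-- the converse direction -/
lemma eq_top_of_cartan (H C : Subgroup (GL (Fin 2) (ZMod p)))
    (E : Subring (Matrix (Fin 2) (Fin 2) (ZMod p))) (hCH : C ≤ H)
    (hE : IsField E) (hcard : Nat.card E = p ^ 2)
    (hEC : (E : Set (Matrix (Fin 2) (Fin 2) (ZMod p))) =
      insert 0 ((fun g : GL (Fin 2) (ZMod p) => (g : Matrix (Fin 2) (Fin 2) (ZMod p))) ''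
        (C : Set (GL (Fin 2) (ZMod p)))))
    (hdvd : p ∣ Nat.card H) : H = ⊤ := by
  have hp := (Fact.out : p.Prime)
  -- an element of order p
  obtain ⟨u, hu⟩ := exists_prime_orderOf_dvd_card' p hdvd
  have hu1 : (u : GL (Fin 2) (ZMod p)) ≠ 1 := by
    intro h
    have : u = 1 := Subtype.ext h
    rw [this, orderOf_one] at hu
    exact hp.one_lt.ne hu
  have hup : (u : GL (Fin 2) (ZMod p)) ^ p = 1 := by
    have := pow_orderOf_eq_one u
    rw [hu] at this
    exact_mod_cast congrArg Subtype.val this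
  obtain ⟨s, v₀, hs, hv₀, huv⟩ := exists_trv_of_pow_eq_one (u : GL (Fin 2) (ZMod p)) hup hu1
  have hmem₀ : trv s v₀ ∈ H := by rw [← huv]; exact u.2
  -- all transvections
  have hall : ∀ (w : Fin 2 → ZMod p), w ≠ 0 → ∀ t : ZMod p, trv t w ∈ H := by
    intro w hw t
    obtain ⟨c, hc, hcw⟩ := transitive C E hE hcard hEC v₀ w hv₀ hw
    have hcH : c ∈ H := hCH hc
    have h1 : c * trv s v₀ * c⁻¹ ∈ H := H.mul_mem (H.mul_mem hcH hmem₀) (H.inv_mem hcH)
    rw [conj_trv, hcw] at h1
    set s' := s * (Matrix.det (c : Matrix (Fin 2) (Fin 2) (ZMod p)))⁻¹ with hs'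
    have hdet : Matrix.det (c : Matrix (Fin 2) (Fin 2) (ZMod p)) ≠ 0 := by
      have : IsUnit (Matrix.det (c : Matrix (Fin 2) (Fin 2) (ZMod p))) :=
        (Matrix.isUnit_iff_isUnit_det _).mp c.isUnit
      exact this.ne_zero
    have hs'0 : s' ≠ 0 := mul_ne_zero hs (inv_ne_zero hdet)
    have h2 := H.pow_mem h1 (t / s').val
    rw [trv_pow, ZMod.natCast_zmod_val, div_mul_cancel₀ t hs'0] at h2
    exact h2
  -- SL₂ ≤ H
  have hSL : ∀ g : GL (Fin 2) (ZMod p),
      Matrix.det (g : Matrix (Fin 2) (Fin 2) (ZMod p)) = 1 → g ∈ H := by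
    intro g hg
    apply mem_of_det_one H _ _ g hg
    · exact hall _ (by intro h; simpa using congrFun h 0)
    · exact hall _ (by intro h; simpa using congrFun h 1)
  rw [eq_top_iff]
  intro g _
  have hdet : Matrix.det (g : Matrix (Fin 2) (Fin 2) (ZMod p)) ≠ 0 := by
    have : IsUnit (Matrix.det (g : Matrix (Fin 2) (Fin 2) (ZMod p))) :=
      (Matrix.isUnit_iff_isUnit_det _).mp g.isUnit
    exact this.ne_zero
  obtain ⟨c, hc, hcdet⟩ := det_surj C E hE hcard hEC _ hdet
  have h1 : c⁻¹ * g ∈ H := by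
    apply hSL
    rw [Units.val_mul, Matrix.det_mul, Matrix.coe_units_inv, Matrix.det_nonsing_inv, hcdet,
      Ring.inverse_eq_inv', inv_mul_cancel₀ hdet]
  have : g = c * (c⁻¹ * g) := by group
  rw [this]
  exact H.mul_mem (hCH hc) h1

/-- existence of a non-split Cartan subgroup -/
lemma exists_cartan :
    ∃ (C : Subgroup (GL (Fin 2) (ZMod p))) (E : Subring (Matrix (Fin 2) (Fin 2) (ZMod p))),
      IsField E ∧ Nat.card E = p ^ 2 ∧
        (E : Set (Matrix (Fin 2) (Fin 2) (ZMod p))) =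
          insert 0 ((fun g : GL (Fin 2) (ZMod p) => (g : Matrix (Fin 2) (Fin 2) (ZMod p))) ''
            (C : Set (GL (Fin 2) (ZMod p)))) := by
  let K := GaloisField p 2
  have hfr : Module.finrank (ZMod p) K = 2 := GaloisField.finrank p (by norm_num)
  have : Module.Finite (ZMod p) K := Module.finite_of_finrank_pos (by rw [hfr]; norm_num)
  let b : Module.Basis (Fin 2) (ZMod p) K := Module.finBasisOfFinrankEq (ZMod p) K hfr
  let φ : K →ₐ[ZMod p] Matrix (Fin 2) (Fin 2) (ZMod p) := Algebra.leftMulMatrix b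
  have hφ : Function.Injective φ := Algebra.leftMulMatrix_injective b
  refine ⟨(Units.map (φ : K →* Matrix (Fin 2) (Fin 2) (ZMod p))).range,
    (φ : K →+* Matrix (Fin 2) (Fin 2) (ZMod p)).range, ?_, ?_, ?_⟩
  · -- field
    let e : K ≃+* (φ : K →+* Matrix (Fin 2) (Fin 2) (ZMod p)).range :=
      RingEquiv.ofBijective (φ : K →+* Matrix (Fin 2) (Fin 2) (ZMod p)).rangeRestrict
        ⟨(fun a b h => hφ (congrArg Subtype.val h)),
          (φ : K →+* Matrix (Fin 2) (Fin 2) (ZMod p)).rangeRestrict_surjective⟩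
    exact MulEquiv.isField (Field.toIsField K) e.symm.toMulEquiv
  · let e : K ≃ (φ : K →+* Matrix (Fin 2) (Fin 2) (ZMod p)).range :=
      Equiv.ofBijective (φ : K →+* Matrix (Fin 2) (Fin 2) (ZMod p)).rangeRestrict
        ⟨(fun a b h => hφ (congrArg Subtype.val h)),
          (φ : K →+* Matrix (Fin 2) (Fin 2) (ZMod p)).rangeRestrict_surjective⟩
    rw [← Nat.card_congr e]
    exact GaloisField.card p 2 (by norm_num)
  · ext x
    constructor
    · rintro ⟨k, rfl⟩
      by_cases hk : k = 0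
      · left
        rw [hk]
        exact map_zero _
      · right
        refine ⟨Units.map (φ : K →* Matrix (Fin 2) (Fin 2) (ZMod p)) (Units.mk0 k hk), ⟨_, rfl⟩, ?_⟩
        rfl
    · rintro (h | ⟨c, ⟨u, rfl⟩, rfl⟩)
      · rw [h]
        exact Subring.zero_mem _
      · exact ⟨(u : K), rfl⟩


/-- Let p be a prime and H a subgroup of GL₂(𝔽_p). Then H = GL₂(𝔽_p) if and only if (i) some non-split
Cartan subgroup lies in H, i.e. some subgroup C ≤ H such that C ∪ {0} is a subfield of the matrix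
algebra M₂(𝔽_p) with p² elements, and (ii) p divides the order of H. -/
theorem result (p : ℕ) [Fact p.Prime]
    (H : Subgroup (GL (Fin 2) (ZMod p))) :
    H = ⊤ ↔
      (∃ (C : Subgroup (GL (Fin 2) (ZMod p))) (E : Subring (Matrix (Fin 2) (Fin 2) (ZMod p))),
          C ≤ H ∧ IsField E ∧ Nat.card E = p ^ 2 ∧
            (E : Set (Matrix (Fin 2) (Fin 2) (ZMod p))) =
              insert 0 ((fun g : GL (Fin 2) (ZMod p) => (g : Matrix (Fin 2) (Fin 2) (ZMod p))) ''
                (C : Set (GL (Fin 2) (ZMod p))))) ∧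
        p ∣ Nat.card H := by
  have hp := (Fact.out : p.Prime)
  constructor
  · rintro rfl
    constructor
    · obtain ⟨C, E, h1, h2, h3⟩ := exists_cartan (p := p)
      exact ⟨C, E, le_top, h1, h2, h3⟩
    · rw [Subgroup.card_top, Matrix.card_GL_field, Fin.prod_univ_two, ZMod.card]
      simp only [Fin.val_zero, Fin.val_one, pow_zero, pow_one]
      apply Dvd.dvd.mul_left
      exact Nat.dvd_sub (dvd_pow_self p two_ne_zero) dvd_rfl
  · rintro ⟨⟨C, E, hCH, hE, hcard, hEC⟩, hdvd⟩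
    exact eq_top_of_cartan H C E hCH hE hcard hEC hdvd


end Groth.Agent.S15361
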