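import Groth.Statements.S15363
import Mathlib

set_option autoImplicit false
universe u
open CategoryTheory AlgebraicGeometry
open SekSuwa

namespace Groth.Agent.S15363

/-- ring-level statement -/
lemma ring_key (R : Type u) [CommRing R] (N : ℕ) (lam : R) (h : SekSuwa.DivCond lam N)
    (B : Type u) [CommRing B] (ψ : R →+* B) (hψ : ψ.Flat)
    (a b : SekSuwa.AK R lam N h →+* B)
    (ha : a.comp (algebraMap R (SekSuwa.AK R lam N h)) = ψ)
    (hb : b.comp (algebraMap R (SekSuwa.AK R lam N h)) = ψ)
    (hab : a (1 + lam • SekSuwa.AK.t) = b (1 + lam • SekSuwa.AK.t)) : a = b := by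
  let _ : Algebra R B := ψ.toAlgebra
  have : Module.Flat R B := hψ
  have hreg : IsSMulRegular B (algebraMap R B lam) := by
    apply IsSMulRegular.of_flat
    have := h.nzd
    rw [mem_nonZeroDivisors_iff_right] at this
    intro x y hxy
    have h2 : (x - y) * lam = 0 := by
      simp only [smul_eq_mul] at hxy
      rw [sub_mul, mul_comm x, mul_comm y, hxy, sub_self]
    exact sub_eq_zero.mp (this _ h2)
  have ha' : ∀ r : R, a (algebraMap R _ r) = algebraMap R B r := fun r =>
    congrArg (fun φ : R →+* B => φ r) ha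
  have hb' : ∀ r : R, b (algebraMap R _ r) = algebraMap R B r := fun r =>
    congrArg (fun φ : R →+* B => φ r) hb
  let a' : SekSuwa.AK R lam N h →ₐ[R] B := { a with commutes' := ha' }
  let b' : SekSuwa.AK R lam N h →ₐ[R] B := { b with commutes' := hb' }
  have ht : a' SekSuwa.AK.t = b' SekSuwa.AK.t := by
    have e : a' (1 + lam • SekSuwa.AK.t) = b' (1 + lam • SekSuwa.AK.t) := hab
    rw [map_add, map_add, map_one, map_one, map_smul, map_smul, Algebra.smul_def, Algebra.smul_def] at e
    exact hreg (add_left_cancel e)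
  have e1 : (1 + lam • (SekSuwa.AK.t : SekSuwa.AK R lam N h)) * SekSuwa.AK.inv = 1 := by
    have := congrArg (SekSuwa.AK.mkHom R lam N h) (SekSuwa.A.u_mul_inv (R := R) (lam := lam))
    rw [map_mul, map_one, SekSuwa.A.u, map_add, map_one, map_smul] at this
    exact this
  have hinv : a' SekSuwa.AK.inv = b' SekSuwa.AK.inv := by
    have ea := congrArg a' e1
    have eb := congrArg b' e1
    rw [map_mul, map_one] at ea eb
    have hu : a' (1 + lam • SekSuwa.AK.t) = b' (1 + lam • SekSuwa.AK.t) := hab
    calc a' SekSuwa.AK.inv = a' SekSuwa.AK.inv * (b' (1 + lam • SekSuwa.AK.t) * b' SekSuwa.AK.inv) := by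
          rw [eb, mul_one]
      _ = (a' (1 + lam • SekSuwa.AK.t) * a' SekSuwa.AK.inv) * b' SekSuwa.AK.inv := by
          rw [hu]; ring
      _ = b' SekSuwa.AK.inv := by rw [ea, one_mul]
  have hab' : a' = b' := SekSuwa.AK.algHom_ext ht hinv
  ext x
  exact congrArg (fun φ : SekSuwa.AK R lam N h →ₐ[R] B => φ x) hab'


lemma spec_case (R : Type u) [CommRing R] (N : ℕ) (lam : R) (h : SekSuwa.DivCond lam N)
    (X : Scheme.{u}) (s : X ⟶ Spec (CommRingCat.of R)) [Flat s]
    (fl gl : X ⟶ Spec (CommRingCat.of (SekSuwa.AK R lam N h)))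
    (hf : fl ≫ Spec.map (CommRingCat.ofHom (algebraMap R (SekSuwa.AK R lam N h))) = s)
    (hg : gl ≫ Spec.map (CommRingCat.ofHom (algebraMap R (SekSuwa.AK R lam N h))) = s)
    (hfg : fl ≫ Spec.map (CommRingCat.ofHom ((SekSuwa.alphaNHom R lam N h :
        MonoidAlgebra R (Multiplicative (ZMod N)) →+* SekSuwa.AK R lam N h))) =
      gl ≫ Spec.map (CommRingCat.ofHom ((SekSuwa.alphaNHom R lam N h :
        MonoidAlgebra R (Multiplicative (ZMod N)) →+* SekSuwa.AK R lam N h))))
    (B : CommRingCat.{u}) (j : Spec B ⟶ X) [IsOpenImmersion j] :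
    j ≫ fl = j ≫ gl := by
  have hflat : Flat (j ≫ s) := inferInstance
  let ψ : CommRingCat.of R ⟶ B := Spec.preimage (j ≫ s)
  have hψ : Spec.map ψ = j ≫ s := Spec.map_preimage _
  have hψflat : ψ.hom.Flat := by
    rw [← hψ] at hflat
    exact (HasRingHomProperty.Spec_iff (P := @Flat)).mp hflat
  let a : CommRingCat.of (SekSuwa.AK R lam N h) ⟶ B := Spec.preimage (j ≫ fl)
  let b : CommRingCat.of (SekSuwa.AK R lam N h) ⟶ B := Spec.preimage (j ≫ gl)
  have ha : Spec.map a = j ≫ fl := Spec.map_preimage _
  have hb : Spec.map b = j ≫ gl := Spec.map_preimage _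
  have haψ : CommRingCat.ofHom (algebraMap R (SekSuwa.AK R lam N h)) ≫ a = ψ := by
    apply Spec.map_injective
    rw [Spec.map_comp, ha, hψ, Category.assoc, hf]
  have hbψ : CommRingCat.ofHom (algebraMap R (SekSuwa.AK R lam N h)) ≫ b = ψ := by
    apply Spec.map_injective
    rw [Spec.map_comp, hb, hψ, Category.assoc, hg]
  have hcomp : CommRingCat.ofHom ((SekSuwa.alphaNHom R lam N h :
        MonoidAlgebra R (Multiplicative (ZMod N)) →+* SekSuwa.AK R lam N h)) ≫ a =
      CommRingCat.ofHom ((SekSuwa.alphaNHom R lam N h :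
        MonoidAlgebra R (Multiplicative (ZMod N)) →+* SekSuwa.AK R lam N h)) ≫ b := by
    apply Spec.map_injective
    rw [Spec.map_comp, Spec.map_comp, ha, hb, Category.assoc, Category.assoc, hfg]
  have hab : a = b := by
    ext1
    apply ring_key R N lam h B ψ.hom hψflat a.hom b.hom
    · rw [← haψ]; rfl
    · rw [← hbψ]; rfl
    · have := congrArg (fun φ => φ.hom (MonoidAlgebra.single (Multiplicative.ofAdd (1 : ZMod N)) 1)) hcomp
      simp only [CommRingCat.hom_comp, CommRingCat.hom_ofHom, RingHom.comp_apply] at this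
      have e := SekSuwa.alphaNHom_single_one R lam N h
      have e' : ((SekSuwa.alphaNHom R lam N h :
        MonoidAlgebra R (Multiplicative (ZMod N)) →+* SekSuwa.AK R lam N h))
          (MonoidAlgebra.single (Multiplicative.ofAdd (1 : ZMod N)) 1) = 1 + lam • SekSuwa.AK.t := e
      rw [e'] at this
      exact this
  rw [← ha, ← hb, hab]

/-- Let R be an integral domain, p a prime and λ ∈ R a non-zero element with λ^p dividing (1 + λX)^p −
1, so that the congruence group scheme G_λ = Spec R[T]/(P_λ(T)) of level λ and its homomorphism θ_λ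
: G_λ → μ_p, X ↦ 1 + λT, are defined. For every scheme G flat over Spec R, composition with θ_λ is
injective on R-morphisms G → G_λ; in particular θ_λ induces an injective map from the homomorphisms
G → G_λ of a flat R-group scheme G to its homomorphisms G → μ_p. (The published statement is over
the ring of integers of an algebraic closure of a complete discretely valued field of mixed
characteristic, for finite flat commutative group schemes killed by p; the published argument, that
θ_λ is an isomorphism on the generic fibre and G is flat, gives the form stated here.) -/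
theorem result (R : Type u) [CommRing R] [IsDomain R]
    (p : ℕ) [Fact p.Prime] (lam : R) (h : SekSuwa.DivCond lam p)
    (G : Over (Spec (CommRingCat.of R))) [Flat G.hom]
    (f g : G ⟶ SekSuwa.GK R lam p h)
    (hfg : f ≫ SekSuwa.alphaN R lam p h = g ≫ SekSuwa.alphaN R lam p h) : f = g := by
  apply Over.OverMorphism.ext
  apply Scheme.Cover.hom_ext G.left.affineOpenCover.openCover
  intro i
  have : IsOpenImmersion (G.left.affineOpenCover.f i) := G.left.affineOpenCover.map_prop i
  exact spec_case R p lam h G.left G.hom f.left g.left (Over.w f) (Over.w g)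
    (congrArg (fun φ => φ.left) hfg) _ (G.left.affineOpenCover.f i)

end Groth.Agent.S15363
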