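import Groth.Statements.S15364
import Groth.Agent.Lib.Helper75.RigGI
import Groth.Agent.Lib.Helper14.GrpSepQCa
import Groth.Agent.Lib.Helper41.SmoothGeomRed
-- import your own Groth.Agent.* helpers here

set_option autoImplicit false
universe u
open CategoryTheory CategoryTheory.Limits MonoidalCategory CartesianMonoidalCategory AlgebraicGeometry
open AbSch

namespace Groth.Agent.S15364

/-- For an abelian scheme f : A → T (a commutative T-group scheme, proper and smooth over T with
geometrically connected fibres) and a commutative group scheme H finite and locally free over T, the
adjunction map H → f_* f^* H of fppf sheaves on T is an isomorphism, i.e. for every T-scheme U the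
map H(U) → H(A ×_T U), s ↦ s ∘ pr, is bijective. This row states the case U = T, to which the
general case reduces by base change: composition with the structure morphism A → T is a bijection
from the sections of H over T onto the T-morphisms A → H. The group structure of H plays no role and
is not assumed. (The published statement has an arbitrary base T; the published argument rests on
the rigidity lemma in its form for Noetherian schemes, so T is taken locally Noetherian here.) -/
theorem result {T : Scheme.{u}} [IsLocallyNoetherian T]
    (A : Over T) [GrpObj A] [IsCommMonObj A] [IsProper A.hom] [Smooth A.hom] [GeometricallyConnected A.hom]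
    (H : Over T) [IsFinite H.hom] [Flat H.hom] [LocallyOfFinitePresentation H.hom] :
    Function.Bijective fun s : (𝟙_ (Over T) ⟶ H) => toUnit A ≫ s := by
  have hconn : ∀ t : T, _root_.IsConnected (A.hom ⁻¹' {t}) := fun t =>
    A.hom.isConnected_preimage_singleton t
  have hred : GeometricallyReduced A.hom :=
    Groth.Agent.Lib.Helper41.SmoothGeomRed.geometricallyReduced_of_smooth A.hom
  have hirr : GeometricallyIrreducible A.hom :=
    Groth.Agent.Lib.Helper14.GrpSepQC.geometricallyIrreducible_of_connected_fibres A hconn
  have hGI : GeometricallyIntegral A.hom :=
    GeometricallyIntegral.of_geometricallyReduced_of_geometricallyIrreducible A.hom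
  have h0 : ∀ t : T, Groth.Agent.Lib.Helper75.RigMain.FibH0 A.hom t := fun t =>
    Groth.Agent.Lib.Helper75.RigGI.fibH0_of_geometricallyIntegral A.hom t
  constructor
  · intro s s' hss'
    have hsurj : Surjective A.hom := inferInstance
    have hEE : EffectiveEpi A.hom := inferInstance
    have hepi : Epi A.hom := inferInstance
    apply Over.OverMorphism.ext
    rw [← cancel_epi A.hom]
    have h1 := congrArg (fun t => t.left) hss'
    simpa using h1
  · intro φ
    have hw : φ.left ≫ H.hom = A.hom := Over.w φ
    have huniv : Groth.Agent.Lib.Helper75.RigMain.collapsed A.hom φ.left = Set.univ := by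
      rw [Set.eq_univ_iff_forall]
      intro t
      obtain ⟨x₀, hx₀⟩ := Groth.Agent.Lib.Helper75.RigMain.nonempty_fibre A.hom t (h0 t)
      refine ⟨φ.left.base x₀, fun x hx => ?_⟩
      have hdisc : _root_.IsDiscrete (H.hom ⁻¹' {t}) := H.hom.isDiscrete_preimage_singleton t
      exact (hconn t).isPreconnected.constant_of_mapsTo hdisc φ.left.continuous.continuousOn
        (by
          intro z hz
          show H.hom.base (φ.left.base z) = t
          rw [← Scheme.Hom.comp_apply, hw]
          exact hz) hx hx₀
    obtain ⟨t, ht1, ht2⟩ :=
      Groth.Agent.Lib.Helper75.RigMain.exists_section_of_proper_of_univ A.hom H.hom φ.left hw h0 huniv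
    refine ⟨Over.homMk t (by simpa using ht1), ?_⟩
    apply Over.OverMorphism.ext
    have h2 : (toUnit A).left = A.hom := by simp
    rw [Over.comp_left, h2]
    exact ht2.symm

end Groth.Agent.S15364
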