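import Groth.Statements.S15365
import Mathlib

set_option autoImplicit false
universe u
open scoped BigOperators
open CAlg

namespace Groth.Agent.S15365

open MvPolynomial Algebra

section

variable (p : ℕ) [Fact p.Prime] (A : Type u) [CommRing A] [CharP A p] (n : ℕ)
  (h : Matrix (Fin n) (Fin n) A)

/-- the relations of the presentation. -/
noncomputable def rel (j : Fin n) : MvPolynomial (Fin n) A :=
  (X j : MvPolynomial (Fin n) A) ^ p - ∑ i : Fin n, C (h i j) * X i

/-- the naive presentation. -/
noncomputable def pres : PreSubmersivePresentation A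
    (MvPolynomial (Fin n) A ⧸ Ideal.span (Set.range (rel p A n h))) (Fin n) (Fin n) :=
  PreSubmersivePresentation.naive (v := rel p A n h) id Function.injective_id

lemma pderiv_rel (i j : Fin n) : pderiv i (rel p A n h j) = - C (h i j) := by
  classical
  unfold rel
  rw [map_sub, pderiv_pow, map_sum]
  have hp0 : ((p : ℕ) : MvPolynomial (Fin n) A) = 0 := CharP.cast_eq_zero _ p
  rw [hp0, zero_mul, zero_mul, zero_sub]
  congr 1
  rw [Finset.sum_eq_single i]
  · rw [pderiv_C_mul, pderiv_X_self, mul_one]
  · intro k _ hk
    rw [pderiv_C_mul, pderiv_X_of_ne hk, mul_zero]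
  · intro hi
    exact absurd (Finset.mem_univ i) hi

lemma jacobiMatrix_pres : (pres p A n h).jacobiMatrix = - (C.mapMatrix h) := by
  ext i j
  rw [pres, PreSubmersivePresentation.jacobiMatrix_naive]
  simp [pderiv_rel]

lemma jacobian_pres : (pres p A n h).jacobian =
    (-1) ^ n * algebraMap A _ h.det := by
  rw [PreSubmersivePresentation.jacobian_eq_jacobiMatrix_det, jacobiMatrix_pres, Matrix.det_neg,
    Fintype.card_fin, map_mul, map_pow, map_neg, map_one, ← RingHom.map_det]
  congr 1

end


section general

open Algebra Extension Module MvPolynomial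

variable {R : Type*} {S : Type*} {ι : Type*} {σ : Type*} [CommRing R] [CommRing S] [Algebra R S]

/-- If `Ω[S⁄R] = 0`, the Jacobian of any pre-submersive presentation with finitely many relations
is a unit. -/
lemma isUnit_jacobian_of_subsingleton_kaehler [Finite σ]
    (P : Algebra.PreSubmersivePresentation R S ι σ) [Subsingleton Ω[S⁄R]] :
    IsUnit P.jacobian := by
  classical
  rw [P.isUnit_jacobian_iff_aevalDifferential_bijective]
  apply OrzechProperty.bijective_of_surjective_endomorphism
  -- the cotangent complex is surjective
  have h1 : Function.Surjective P.toExtension.cotangentComplex := by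
    intro y
    exact (P.toExtension.exact_cotangentComplex_toKaehler y).mp (Subsingleton.elim _ _)
  have h2 : Function.Surjective (Finsupp.lcomapDomain (M := S) (R := S) P.map P.map_inj) := by
    intro g
    refine ⟨Finsupp.mapDomain P.map g, ?_⟩
    simp only [Finsupp.lcomapDomain_apply]
    exact Finsupp.comapDomain_mapDomain (f := P.map) P.map_inj g
  have h3 : Function.Surjective P.cotangentComplexAux := by
    unfold Algebra.PreSubmersivePresentation.cotangentComplexAux
    simp only [LinearMap.coe_comp, LinearEquiv.coe_coe]
    exact (LinearEquiv.surjective _).comp (h2.comp ((LinearEquiv.surjective _).comp h1))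
  -- the cotangent module is spanned by the relations
  have hspan := Extension.Cotangent.span_eq_top_of_span_eq_ker (P := P.toExtension)
    P.relation P.span_range_relation_eq_ker
  rw [← LinearMap.range_eq_top] at h3 ⊢
  rw [_root_.eq_top_iff, ← h3, LinearMap.range_eq_map, ← hspan, Submodule.map_span,
    Submodule.span_le]
  rintro _ ⟨_, ⟨i, rfl⟩, rfl⟩
  refine ⟨Pi.single i 1, ?_⟩
  ext j
  rw [P.aevalDifferential_single, P.cotangentComplexAux_apply]

end general

/-- Let A be a commutative ring of characteristic p > 0 and (h_{ij})_{1 ≤ i,j ≤ n} a square matrix over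
A, the matrix of a commutative p-Lie algebra (L, φ) with L free with basis e_1, …, e_n and φ(e_j) =
Σ_i h_{ij} e_i. The associated finite group scheme Spec A[X_1, …, X_n]/(X_j^p − Σ_i h_{ij} X_i)_{1 ≤
j ≤ n} is étale over A if and only if the matrix (h_{ij}) is invertible, i.e. its determinant is a
unit of A. Only the algebra structure enters this assertion. -/
theorem result (p : ℕ) [Fact p.Prime]
    (A : Type u) [CommRing A] [CharP A p] (n : ℕ) (h : Matrix (Fin n) (Fin n) A) :
    Algebra.Etale A (MvPolynomial (Fin n) A ⧸ Ideal.span (Set.range fun j : Fin n =>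
        (MvPolynomial.X j : MvPolynomial (Fin n) A) ^ p -
          ∑ i : Fin n, MvPolynomial.C (h i j) * MvPolynomial.X i)) ↔
      IsUnit h.det := by
  classical
  have hp : p ≠ 0 := (Fact.out : p.Prime).ne_zero
  set B := MvPolynomial (Fin n) A ⧸ Ideal.span (Set.range (rel p A n h)) with hB
  change Algebra.Etale A B ↔ _
  have hjac := jacobian_pres p A n h
  have hunit : IsUnit (pres p A n h).jacobian ↔ IsUnit h.det := by
    rw [hjac]
    have hu : IsUnit ((-1 : B) ^ n) := ((isUnit_one (M := B)).neg).pow n
    rw [IsUnit.mul_iff]
    constructor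
    · rintro ⟨-, hd⟩
      -- retraction `B → A`, `X ↦ 0`
      have hle : ∀ a ∈ Ideal.span (Set.range (rel p A n h)),
          (MvPolynomial.aeval (fun _ : Fin n => (0 : A)) : MvPolynomial (Fin n) A →ₐ[A] A) a = 0 := by
        intro a ha
        have : Ideal.span (Set.range (rel p A n h)) ≤
            RingHom.ker (MvPolynomial.aeval (fun _ : Fin n => (0 : A)) :
              MvPolynomial (Fin n) A →ₐ[A] A).toRingHom := by
          rw [Ideal.span_le]
          rintro _ ⟨j, rfl⟩
          simp [rel, hp]
        exact this ha
      let ev : B →ₐ[A] A := Ideal.Quotient.liftₐ _ _ hle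
      have := hd.map ev
      rwa [AlgHom.commutes, Algebra.algebraMap_self_apply] at this
    · intro hd
      exact ⟨hu, hd.map _⟩
  rw [← hunit]
  constructor
  · intro het
    haveI : Subsingleton Ω[B⁄A] := inferInstance
    exact isUnit_jacobian_of_subsingleton_kaehler (pres p A n h)
  · intro hu
    let P : Algebra.SubmersivePresentation A B (Fin n) (Fin n) := ⟨pres p A n h, hu⟩
    have hdim : P.dimension = 0 := by
      simp [Algebra.Presentation.dimension]
    have := P.isStandardSmoothOfRelativeDimension hdim
    exact Algebra.Etale.iff_isStandardSmoothOfRelativeDimension_zero.mpr this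

end Groth.Agent.S15365
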