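import Groth.Statements.S15366
import Mathlib
-- import your own Groth.Agent.* helpers here

set_option autoImplicit false
universe u
open CAlg

namespace Groth.Agent.S15366.Aux

open PowerSeries

theorem isAdicComplete_X {R : Type*} [CommRing R] :
    IsAdicComplete (Ideal.span {(PowerSeries.X : R⟦X⟧)}) R⟦X⟧ := by
  have key : ∀ (n : ℕ) (f : R⟦X⟧),
      f ∈ ((Ideal.span {(PowerSeries.X : R⟦X⟧)}) ^ n • ⊤ : Submodule R⟦X⟧ R⟦X⟧) ↔
        ∀ m < n, PowerSeries.coeff m f = 0 := by
    intro n f
    rw [smul_eq_mul, Ideal.mul_top, Ideal.span_singleton_pow, Ideal.mem_span_singleton,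
      PowerSeries.X_pow_dvd_iff]
  refine { haus' := ?_, prec' := ?_ }
  · intro x hx
    ext m
    have h1 := hx (m + 1)
    rw [SModEq.sub_mem, sub_zero, key] at h1
    simpa using h1 m (Nat.lt_succ_self m)
  · intro f hf
    refine ⟨PowerSeries.mk fun n => PowerSeries.coeff n (f (n + 1)), fun n => ?_⟩
    rw [SModEq.sub_mem, key]
    intro m hm
    rw [map_sub, PowerSeries.coeff_mk, sub_eq_zero]
    have h1 := hf (show m + 1 ≤ n from hm)
    rw [SModEq.sub_mem, key] at h1
    have h2 := h1 m (Nat.lt_succ_self m)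
    rw [map_sub, sub_eq_zero] at h2
    exact h2.symm

variable (k : Type u) [Field k]

abbrev A1 := MvPowerSeries (Fin 1) k
abbrev K := FractionRing (A1 k)
abbrev Kbar := AlgebraicClosure (K k)
abbrev A := PowerSeries (Kbar k)

noncomputable def theta : MvPowerSeries (Fin 2) k →+* A k :=
  (PowerSeries.map (algebraMap (A1 k) (Kbar k))).comp
    (MvPowerSeries.finSuccEquiv k 1 : MvPowerSeries (Fin 2) k →+* PowerSeries (A1 k))

lemma theta_X0 : theta k (MvPowerSeries.X 0) = PowerSeries.X := by
  simp [theta]

lemma algebraMap_inj : Function.Injective (algebraMap (A1 k) (Kbar k)) := by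
  rw [IsScalarTower.algebraMap_eq (A1 k) (K k) (Kbar k)]
  exact (algebraMap (K k) (Kbar k)).injective.comp (IsFractionRing.injective (A1 k) (K k))

lemma theta_inj : Function.Injective (theta k) := by
  intro a b hab
  apply (MvPowerSeries.finSuccEquiv k 1).injective
  simp only [theta, RingHom.comp_apply] at hab
  refine PowerSeries.ext fun n => ?_
  have := congrArg (PowerSeries.coeff n) hab
  rw [PowerSeries.coeff_map, PowerSeries.coeff_map] at this
  exact algebraMap_inj k this

lemma theta_unit (f : MvPowerSeries (Fin 2) k)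
    (hf : f ∉ Ideal.span {(MvPowerSeries.X 0 : MvPowerSeries (Fin 2) k)}) :
    IsUnit (theta k f) := by
  rw [PowerSeries.isUnit_iff_constantCoeff]
  rw [isUnit_iff_ne_zero]
  intro h0
  apply hf
  rw [Ideal.mem_span_singleton]
  have h1 : PowerSeries.constantCoeff (MvPowerSeries.finSuccEquiv k 1 f) = 0 := by
    simp only [theta, RingHom.comp_apply] at h0
    rw [← PowerSeries.coeff_zero_eq_constantCoeff_apply, PowerSeries.coeff_map] at h0
    rw [← PowerSeries.coeff_zero_eq_constantCoeff_apply]
    exact algebraMap_inj k (h0.trans (map_zero _).symm)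
  rw [← PowerSeries.X_dvd_iff] at h1
  obtain ⟨g, hg⟩ := h1
  refine ⟨(MvPowerSeries.finSuccEquiv k 1).symm g, ?_⟩
  apply (MvPowerSeries.finSuccEquiv k 1).injective
  rw [map_mul, AlgEquiv.apply_symm_apply, hg]
  congr 1
  simp

end Groth.Agent.S15366.Aux

namespace Groth.Agent.S15366

/-- Let k be an algebraically closed field of characteristic p > 0, R = k[[t₁, t₂]], and O = R_{(t₁)}
the local ring of Spec R at the generic point x of the divisor t₁ = 0 (a discrete valuation ring,
with uniformizer t₁ and residue field k((t₂))). Then O embeds, by an injective local k-algebra map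
φ, into some complete discrete valuation ring A containing k whose residue field is algebraically
closed and in which φ(t₁) is still a uniformizer. The prime ideal (t₁) is passed as an ideal P equal
to it together with its primality. -/
theorem result
    (p : ℕ) [Fact p.Prime] (k : Type u) [Field k] [IsAlgClosed k] [CharP k p]
    (P : Ideal (MvPowerSeries (Fin 2) k))
    (hP : P = Ideal.span {(MvPowerSeries.X 0 : MvPowerSeries (Fin 2) k)}) [P.IsPrime] :
    ∃ (A : Type u) (_ : CommRing A) (_ : IsDomain A) (_ : IsDiscreteValuationRing A) (_ : Algebra k A)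
      (φ : Localization.AtPrime P →ₐ[k] A),
      IsAdicComplete (IsLocalRing.maximalIdeal A) A ∧ IsAlgClosed (IsLocalRing.ResidueField A) ∧
        Function.Injective φ ∧ IsLocalHom φ.toRingHom ∧
          Irreducible (φ (algebraMap (MvPowerSeries (Fin 2) k) (Localization.AtPrime P)
            (MvPowerSeries.X 0))) := by
  classical
  subst hP
  have hu : ∀ y : (Ideal.span {(MvPowerSeries.X 0 : MvPowerSeries (Fin 2) k)}).primeCompl,
      IsUnit (Aux.theta k (y : MvPowerSeries (Fin 2) k)) := fun y => Aux.theta_unit k _ y.2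
  obtain ⟨φ0, hφ0⟩ : ∃ φ0 : Localization.AtPrime
      (Ideal.span {(MvPowerSeries.X 0 : MvPowerSeries (Fin 2) k)}) →+* Aux.A k,
      φ0 = IsLocalization.lift hu := ⟨_, rfl⟩
  have hφ0_alg : ∀ x, φ0 (algebraMap _ _ x) = Aux.theta k x := by
    intro x
    rw [hφ0, IsLocalization.lift_eq]
  have hinj : Function.Injective φ0 := by
    rw [hφ0, IsLocalization.lift_injective_iff]
    intro a b
    rw [(IsLocalization.injective (Localization.AtPrime
      (Ideal.span {(MvPowerSeries.X 0 : MvPowerSeries (Fin 2) k)}))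
      (Ideal.primeCompl_le_nonZeroDivisors
        (Ideal.span {(MvPowerSeries.X 0 : MvPowerSeries (Fin 2) k)}))).eq_iff,
      (Aux.theta_inj k).eq_iff]
  let algkA : Algebra k (Aux.A k) :=
    (φ0.comp (algebraMap k (Localization.AtPrime
      (Ideal.span {(MvPowerSeries.X 0 : MvPowerSeries (Fin 2) k)})))).toAlgebra
  refine ⟨Aux.A k, inferInstance, inferInstance, inferInstance, algkA,
    { φ0 with commutes' := fun r => rfl }, ?_, ?_, hinj, ?_, ?_⟩
  · rw [PowerSeries.maximalIdeal_eq_span_X]
    exact Aux.isAdicComplete_X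
  · exact IsAlgClosed.of_ringEquiv (k := Aux.Kbar k) _
      (PowerSeries.residueFieldOfPowerSeries (k := Aux.Kbar k)).symm
  · refine ⟨fun x hx => ?_⟩
    have hx' : IsUnit (φ0 x) := hx
    obtain ⟨a, s, rfl⟩ := IsLocalization.exists_mk'_eq
      (Ideal.span {(MvPowerSeries.X 0 : MvPowerSeries (Fin 2) k)}).primeCompl x
    have h1 : φ0 (IsLocalization.mk' _ a s) * Aux.theta k s = Aux.theta k a := by
      rw [← hφ0_alg, ← map_mul, IsLocalization.mk'_spec, hφ0_alg]
    have h2 : IsUnit (Aux.theta k a) := by
      rw [← h1]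
      exact hx'.mul (hu s)
    have h3 : a ∉ Ideal.span {(MvPowerSeries.X 0 : MvPowerSeries (Fin 2) k)} := by
      intro ha
      rw [Ideal.mem_span_singleton] at ha
      obtain ⟨g, rfl⟩ := ha
      rw [map_mul, Aux.theta_X0] at h2
      exact PowerSeries.X_irreducible.not_isUnit (isUnit_of_mul_isUnit_left h2)
    have h4 : IsUnit (algebraMap (MvPowerSeries (Fin 2) k) (Localization.AtPrime
        (Ideal.span {(MvPowerSeries.X 0 : MvPowerSeries (Fin 2) k)})) a) :=
      IsLocalization.map_units _
        (⟨a, h3⟩ : (Ideal.span {(MvPowerSeries.X 0 : MvPowerSeries (Fin 2) k)}).primeCompl)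
    have h5 : IsLocalization.mk' (Localization.AtPrime
        (Ideal.span {(MvPowerSeries.X 0 : MvPowerSeries (Fin 2) k)})) a s *
        algebraMap _ _ (s : MvPowerSeries (Fin 2) k) = algebraMap _ _ a :=
      IsLocalization.mk'_spec _ _ _
    rw [← h5] at h4
    exact isUnit_of_mul_isUnit_left h4
  · show Irreducible (φ0 _)
    rw [hφ0_alg, Aux.theta_X0]
    exact PowerSeries.X_irreducible

end Groth.Agent.S15366
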