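import Groth.Statements.S15367
import Groth.Agent.Lib.Helper78.HomQuot
-- import your own Groth.Agent.* helpers here

set_option autoImplicit false
universe u v
open TensorProduct
open CAlg

namespace Groth.Agent.S15367

/-- Let R be a discrete valuation ring with uniformizer π and residue field k, n ≥ 0, and M₀ a finitely
generated module over R/πⁿR, viewed as an R-module killed by πⁿ; put M₀* = Hom_R(M₀, R/πⁿR). Then
dim_k(M₀*/πM₀*) = dim_k(M₀/πM₀). The published lemma is stated for a finitely presented module over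
the quotient of the ring of integers of an algebraic closure of K by the elements of valuation ≥ t,
with its dual into that quotient ring, and the published proof reduces it by descent to exactly this
statement over the valuation ring of a finite extension of K; the row states that step. -/
theorem result
    (R : Type u) [CommRing R] [IsDomain R] [IsDiscreteValuationRing R] (ϖ : R) (hϖ : Irreducible ϖ) (n : ℕ)
    (M : Type v) [AddCommGroup M] [Module R M] [Module.Finite R M] (hM : ∀ m : M, ϖ ^ n • m = 0) :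
    Module.finrank (IsLocalRing.ResidueField R)
        (IsLocalRing.ResidueField R ⊗[R] (M →ₗ[R] (R ⧸ Ideal.span {ϖ ^ n}))) =
      Module.finrank (IsLocalRing.ResidueField R) (IsLocalRing.ResidueField R ⊗[R] M) := by
  classical
  have hϖ0 : ϖ ≠ 0 := hϖ.ne_zero
  have hϖu : ¬ IsUnit ϖ := hϖ.not_isUnit
  -- structure theorem
  have hM' : Module.IsTorsion' M (Submonoid.powers ϖ) := fun m => ⟨⟨ϖ ^ n, n, rfl⟩, hM m⟩
  obtain ⟨d, e, ⟨φ⟩⟩ := Module.torsion_by_prime_power_decomposition hϖ hM'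
  -- each exponent is at most `n`
  have he : ∀ i, e i ≤ n := by
    intro i
    have h1 : ϖ ^ n • φ.symm (DirectSum.lof R (Fin d) (fun i => R ⧸ R ∙ ϖ ^ e i) i
        (Submodule.Quotient.mk 1)) = 0 := hM _
    rw [← map_smul, ← map_smul, LinearEquiv.map_eq_zero_iff] at h1
    rw [DirectSum.lof_eq_of] at h1
    have h2 := DirectSum.of_injective (β := fun i => R ⧸ R ∙ ϖ ^ e i) i
      (h1.trans (map_zero _).symm)
    rw [← Submodule.Quotient.mk_smul, Submodule.Quotient.mk_eq_zero, smul_eq_mul, mul_one,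
      Submodule.mem_span_singleton] at h2
    obtain ⟨a, ha⟩ := h2
    exact (pow_dvd_pow_iff hϖ0 hϖu).mp ⟨a, by rw [← ha, smul_eq_mul, mul_comm]⟩
  -- the componentwise equivalence
  have hcomp : ∀ i, Nonempty (((R ⧸ R ∙ ϖ ^ e i) →ₗ[R] (R ⧸ Ideal.span {ϖ ^ n})) ≃ₗ[R]
      (R ⧸ R ∙ ϖ ^ e i)) := by
    intro i
    refine ⟨Groth.Agent.Lib.Helper78.HomQuot.homQuotEquiv (R ∙ ϖ ^ e i) (Ideal.span {ϖ ^ n})
      (ϖ ^ (n - e i)) ?_ ?_⟩
    · intro x
      rw [Ideal.mem_span_singleton, Submodule.mem_span_singleton]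
      have : ϖ ^ n = ϖ ^ (n - e i) * ϖ ^ e i := by rw [← pow_add, Nat.sub_add_cancel (he i)]
      rw [this, mul_dvd_mul_iff_left (pow_ne_zero _ hϖ0)]
      constructor
      · rintro ⟨a, rfl⟩; exact ⟨a, by rw [smul_eq_mul, mul_comm]⟩
      · rintro ⟨a, rfl⟩; exact ⟨a, by rw [smul_eq_mul, mul_comm]⟩
    · intro r hr
      have h1 := hr (ϖ ^ e i) (Submodule.mem_span_singleton_self _)
      rw [Ideal.mem_span_singleton] at h1
      have : ϖ ^ n = ϖ ^ e i * ϖ ^ (n - e i) := by rw [← pow_add, Nat.add_sub_cancel' (he i)]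
      rw [this, mul_dvd_mul_iff_left (pow_ne_zero _ hϖ0)] at h1
      obtain ⟨x, rfl⟩ := h1
      exact ⟨x, rfl⟩
  -- the dual is (non-canonically) isomorphic to `M`
  let E : (M →ₗ[R] (R ⧸ Ideal.span {ϖ ^ n})) ≃ₗ[R] M :=
    (LinearEquiv.arrowCongr φ (LinearEquiv.refl R (R ⧸ Ideal.span {ϖ ^ n}))) ≪≫ₗ
    (LinearEquiv.arrowCongr (DirectSum.linearEquivFunOnFintype R (Fin d)
      (fun i => R ⧸ R ∙ ϖ ^ e i)) (LinearEquiv.refl R (R ⧸ Ideal.span {ϖ ^ n}))) ≪≫ₗ
    (LinearMap.lsum R (fun i : Fin d => R ⧸ R ∙ ϖ ^ e i) R).symm ≪≫ₗ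
    (LinearEquiv.piCongrRight (fun i => (hcomp i).some)) ≪≫ₗ
    (DirectSum.linearEquivFunOnFintype R (Fin d) (fun i => R ⧸ R ∙ ϖ ^ e i)).symm ≪≫ₗ φ.symm
  exact (TensorProduct.AlgebraTensorModule.congr
    (LinearEquiv.refl (IsLocalRing.ResidueField R) (IsLocalRing.ResidueField R)) E).finrank_eq

end Groth.Agent.S15367
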