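import Groth.Statements.S1537
import Mathlib
import Groth.Agent.Lib.Helper50.GeomConnScheme
import Groth.Agent.Lib.Helper50.SepClosedIn2

set_option autoImplicit false
universe u
open CategoryTheory CategoryTheory.Limits AlgebraicGeometry
open Variety

namespace Groth.Agent.S1537

/-- A connected k-scheme is geometrically connected as soon as it has a point whose residue field
contains no element integral over k other than the elements of k. -/
theorem result (k : Type u) [Field k] (X : Scheme.{u}) [X.Over (Spec (CommRingCat.of k))] [ConnectedSpace X]
    (x : X) (hx : ∀ a : X.residueField x, (Curv2.resMap k X x).IsIntegralElem a → a ∈ (Curv2.resMap k X x).range) :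
    GeometricallyConnected (X ↘ (Spec (CommRingCat.of k))) := by
    refine ⟨geometrically_iff_of_commRing_of_isClosedUnderIsomorphisms.mpr fun K _ _ => ?_⟩
    letI := (Curv2.resMap k X x).toAlgebra
    have hφ := Groth.Agent.Lib.Helper50.specMap_resMap_eq k x
    have hL : ∀ α : X.residueField x, IsSeparable k α →
        α ∈ Set.range (algebraMap k (X.residueField x)) := by
      intro α hα
      exact hx α hα.isIntegral
    have hirr := Groth.Agent.Lib.Helper50.irreducibleSpace_tensor_of_sepClosedIn' hL
      (AlgebraicClosure k)
    obtain ⟨e⟩ := Groth.Agent.Lib.Helper50.nonempty_homeomorph_fiber_bc (K := AlgebraicClosure k)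
      (X ↘ Spec (CommRingCat.of k)) x (Curv2.resMap k X x) hφ
    have hS : _root_.IsConnected ((Limits.pullback.fst (X ↘ Spec (CommRingCat.of k))
        (Spec.map (CommRingCat.ofHom (algebraMap k (AlgebraicClosure k))))) ⁻¹' {x}) := by
      have h1 := e.irreducibleSpace_iff.mpr hirr
      exact isConnected_iff_connectedSpace.mpr inferInstance
    have := Groth.Agent.Lib.Helper50.isConnected_preimage_bcFst (X ↘ Spec (CommRingCat.of k))
      isConnected_univ (Set.subset_univ {x}) hS K
    rw [Set.preimage_univ] at this
    exact connectedSpace_iff_univ.mpr this

end Groth.Agent.S1537
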