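import Groth.Statements.S1539
import Mathlib
import Groth.Agent.Lib.Helper50.GeomIrredScheme

set_option autoImplicit false
universe u
open CategoryTheory CategoryTheory.Limits AlgebraicGeometry
open Variety

namespace Groth.Agent.S1539

/-- If X_{k'} is irreducible for every finite separable field extension k' of k, then X is geometrically
irreducible over k. -/
theorem result (k : Type u) [Field k] (X : Scheme.{u}) [X.Over (Spec (CommRingCat.of k))]
    (h : ∀ (k' : Type u) [Field k'] [Algebra k k'] [FiniteDimensional k k'] [Algebra.IsSeparable k k'],
      IrreducibleSpace (Curv2.bc k X k')) :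
    GeometricallyIrreducible (X ↘ (Spec (CommRingCat.of k))) := by
    have hX : IrreducibleSpace X := by
      have := h k
      have hs : Surjective (Curv2.bcFst k X k) := by
        have := Groth.Agent.Lib.Helper50.surjective_specMap_field (algebraMap k k)
        infer_instance
      exact hs.surj.irreducibleSpace (Scheme.Hom.continuous _)
    have hφ := Groth.Agent.Lib.Helper50.specMap_resMap_eq k (genericPoint X)
    letI := (Curv2.resMap k X (genericPoint X)).toAlgebra
    refine ⟨geometrically_iff_of_commRing_of_isClosedUnderIsomorphisms.mpr fun K _ _ => ?_⟩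
    rw [Groth.Agent.Lib.Helper50.irreducibleSpace_bc_iff (X ↘ Spec (CommRingCat.of k))
      (Curv2.resMap k X (genericPoint X)) hφ]
    have h2 : ∀ (k' : Type u) [Field k'] [Algebra k k'] [Module.Finite k k']
        [Algebra.IsSeparable k k'],
        IrreducibleSpace (PrimeSpectrum (TensorProduct k k' (X.residueField (genericPoint X)))) := by
      intro k' _ _ _ _
      have h1 := (Groth.Agent.Lib.Helper50.irreducibleSpace_bc_iff (K := k')
        (X ↘ Spec (CommRingCat.of k)) (Curv2.resMap k X (genericPoint X)) hφ).mp (h k')
      exact ((PrimeSpectrum.homeomorphOfRingEquiv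
        (Algebra.TensorProduct.comm k k' (X.residueField (genericPoint X))).toRingEquiv).irreducibleSpace_iff).mpr h1
    have h21 := (Groth.Agent.S9630.result (k := k) (R := X.residueField (genericPoint X))).out 1 0
    have h3 := h21.mp h2 K
    exact ((PrimeSpectrum.homeomorphOfRingEquiv
      (Algebra.TensorProduct.comm k K (X.residueField (genericPoint X))).toRingEquiv).irreducibleSpace_iff).mp h3

end Groth.Agent.S1539
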