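import Groth.Statements.S15391
import Mathlib.Tactic
import Mathlib.RingTheory.Localization.BaseChange
import Mathlib.RingTheory.KrullDimension.Zero
import Mathlib.RingTheory.Ideal.MinimalPrime.Localization
import Mathlib.RingTheory.Ideal.MinimalPrime.Noetherian
import Mathlib.Algebra.Module.Torsion.Free
import Mathlib.RingTheory.LocalProperties.Reduced

set_option autoImplicit false
universe u
open TensorProduct
open TorFree

namespace Groth.Agent.S15391

/-- At a minimal prime `q` of a reduced ring, an element `t` of a module whose image in the fibre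
`κ(q) ⊗ M` vanishes is killed by some `s ∉ q`. -/
private lemma exists_smul_eq_zero (R : Type u) [CommRing R] [IsReduced R]
    (M : Type u) [AddCommGroup M] [Module R M] (q : Ideal R) (hq : q ∈ minimalPrimes R)
    [hqp : q.IsPrime] (t : M)
    (ht : (1 : q.ResidueField) ⊗ₜ[R] t = (0 : q.ResidueField ⊗[R] M)) :
    ∃ s : R, s ∉ q ∧ s • t = 0 := by
  have hdim : Ring.KrullDimLE 0 (Localization.AtPrime q) := .of_isLocalization q hq _
  have hfield : IsField (Localization.AtPrime q) := Ring.KrullDimLE.isField_of_isReduced
  have hmax : IsLocalRing.maximalIdeal (Localization.AtPrime q) = ⊥ :=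
    IsLocalRing.isField_iff_maximalIdeal_eq.mp hfield
  -- the residue map is bijective
  have hbij : Function.Bijective
      (IsScalarTower.toAlgHom R (Localization.AtPrime q) q.ResidueField).toLinearMap := by
    constructor
    · rw [injective_iff_map_eq_zero]
      intro x hx
      have : x ∈ IsLocalRing.maximalIdeal (Localization.AtPrime q) := by
        rw [← IsLocalRing.residue_eq_zero_iff]
        exact hx
      rw [hmax] at this
      exact this
    · exact IsLocalRing.residue_surjective
  let e : Localization.AtPrime q ≃ₗ[R] q.ResidueField := LinearEquiv.ofBijective _ hbij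
  have h1 : (1 : Localization.AtPrime q) ⊗ₜ[R] t = (0 : Localization.AtPrime q ⊗[R] M) := by
    apply (TensorProduct.congr e (LinearEquiv.refl R M)).injective
    rw [map_zero, TensorProduct.congr_tmul]
    have : e 1 = 1 := map_one (IsScalarTower.toAlgHom R (Localization.AtPrime q) q.ResidueField)
    rw [this]
    exact ht
  have hloc : IsLocalizedModule q.primeCompl (TensorProduct.mk R (Localization.AtPrime q) M 1) :=
    (isLocalizedModule_iff_isBaseChange q.primeCompl (Localization.AtPrime q) _).mpr
      (TensorProduct.isBaseChange R M (Localization.AtPrime q))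
  have h2 : (TensorProduct.mk R (Localization.AtPrime q) M 1) t = 0 := h1
  obtain ⟨s, hs⟩ := (IsLocalizedModule.eq_zero_iff q.primeCompl
    (TensorProduct.mk R (Localization.AtPrime q) M 1)).mp h2
  exact ⟨s.1, s.2, hs⟩

/-- Let R be a reduced Noetherian commutative ring, M a finitely generated torsion-free R-module (no
non-zero element of M is annihilated by a non-zero-divisor of R), and t an element of M whose image
1 ⊗ t in the fibre κ(p) ⊗_R M vanishes for every prime ideal p of R, κ(p) being the residue field at
p. Then t = 0. This is the affine form of the claim that a global section of a coherent torsion-free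
module on a reduced Noetherian scheme which vanishes in every fibre is zero. -/
theorem result (R : Type u) [CommRing R] [IsReduced R] [IsNoetherianRing R]
    (M : Type u) [AddCommGroup M] [Module R M] [Module.Finite R M] [Module.IsTorsionFree R M]
    (t : M) (ht : ∀ p : PrimeSpectrum R, (1 : p.asIdeal.ResidueField) ⊗ₜ[R] t = (0 : p.asIdeal.ResidueField ⊗[R] M)) :
    t = 0 := by
  -- the annihilator of `t`
  let I : Ideal R := (Submodule.span R {t}).annihilator
  have hI : ∀ s : R, s • t = 0 → s ∈ I := by
    intro s hs
    rw [Submodule.mem_annihilator_span_singleton]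
    exact hs
  have hfin := minimalPrimes.finite_of_isNoetherianRing R
  -- prime avoidance
  have hnot : ¬ ((I : Set R) ⊆ ⋃ p ∈ (hfin.toFinset : Set (Ideal R)), (p : Set R)) := by
    rw [Ideal.subset_union_prime (f := fun p : Ideal R => p) ⊥ ⊥]
    · rintro ⟨p, hp, hIp⟩
      rw [Set.Finite.mem_toFinset] at hp
      have : p.IsPrime := hp.1.1
      obtain ⟨s, hsp, hst⟩ := exists_smul_eq_zero R M p hp t (ht ⟨p, hp.1.1⟩)
      exact hsp (hIp (hI s hst))
    · intro p hp _ _
      rw [Set.Finite.mem_toFinset] at hp
      exact hp.1.1
  rw [Set.not_subset] at hnot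
  obtain ⟨x, hxI, hx⟩ := hnot
  -- `x` is a non-zero-divisor
  have hxreg : IsRegular x := by
    have hx' : x ∉ ⋃ p ∈ (⊥ : Ideal R).minimalPrimes, (p : Set R) := by
      intro h
      apply hx
      simp only [Set.mem_iUnion, Finset.mem_coe, Set.Finite.mem_toFinset] at h ⊢
      exact h
    rw [Ideal.iUnion_minimalPrimes] at hx'
    have hrad : (⊥ : Ideal R).radical = ⊥ := Ideal.radical_bot_of_isReduced
    rw [hrad] at hx'
    simp only [Set.mem_ofPred_eq, Ideal.mem_bot, not_exists, not_and] at hx'
    have hl : IsLeftRegular x := by
      rw [isLeftRegular_iff_right_eq_zero_of_mul]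
      intro y hy
      by_contra hy0
      exact hx' y hy0 hy
    exact isLeftRegular_iff_isRegular.mp hl
  have hxt : x • t = 0 := by
    have := (Submodule.mem_annihilator_span_singleton t x).mp hxI
    exact this
  have := Module.IsTorsionFree.isSMulRegular (M := M) hxreg
  apply this
  show x • t = x • 0
  rw [hxt, smul_zero]

end Groth.Agent.S15391
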