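import Groth.Statements.S15411
import Mathlib
import Groth.Agent.Lib.Helper86.EqDesc

set_option autoImplicit false
universe u
open scoped TensorProduct
open Hopf

namespace Groth.Agent.S15411

open Groth.Agent.Lib.Helper86.EqDesc

section Theta
variable {K : Type u} [Field K] (S : Type u) [CommRing S] [Algebra K S]
  (A : Type u) [CommRing A] [Bialgebra K A]

/-- `a₁ ⊗ a₂ ↦ (1 ⊗ a₁) ⊗ (1 ⊗ a₂)`. -/
noncomputable def theta : A ⊗[K] A →ₗ[K] (S ⊗[K] A) ⊗[S] (S ⊗[K] A) :=
  ((TensorProduct.AlgebraTensorModule.distribBaseChange K S A A).toLinearMap.restrictScalars K) ∘ₗ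
    (TensorProduct.mk K S (A ⊗[K] A) 1)

lemma theta_tmul (a₁ a₂ : A) :
    theta S A (a₁ ⊗ₜ[K] a₂) = ((1 : S) ⊗ₜ[K] a₁) ⊗ₜ[S] ((1 : S) ⊗ₜ[K] a₂) := rfl

lemma theta_eq (x : A ⊗[K] A) :
    theta S A x = TensorProduct.AlgebraTensorModule.distribBaseChange K S A A ((1 : S) ⊗ₜ[K] x) :=
  rfl

lemma comul_one_tmul (a : A) :
    Coalgebra.comul (R := S) ((1 : S) ⊗ₜ[K] a) = theta S A (Coalgebra.comul (R := K) a) := by
  rw [TensorProduct.comul_tmul, CommSemiring.comul_apply]
  generalize Coalgebra.comul (R := K) a = x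
  induction x using TensorProduct.induction_on with
  | zero => simp
  | tmul a₁ a₂ =>
    rw [TensorProduct.AlgebraTensorModule.tensorTensorTensorComm_tmul, theta_tmul]
  | add x y hx hy => rw [TensorProduct.tmul_add, map_add, hx, hy, map_add]

lemma counit_one_tmul (a : A) :
    Coalgebra.counit (R := S) ((1 : S) ⊗ₜ[K] a) = algebraMap K S (Coalgebra.counit (R := K) a) := by
  rw [TensorProduct.counit_tmul, CommSemiring.counit_apply, Algebra.algebraMap_eq_smul_one]

end Theta

theorem result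
    (K : Type u) [Field K] (ιv ιe : Type u) [Finite ιv] [Finite ιe]
    (Kv : ιv → Type u) [∀ i, CommRing (Kv i)] [∀ i, Algebra K (Kv i)]
    (Ke : ιe → Type u) [∀ k, CommRing (Ke k)] [∀ k, Algebra K (Ke k)]
    (l r : ιe → ιv) (ρl : ∀ k, Kv (l k) →ₐ[K] Ke k) (ρr : ∀ k, Kv (r k) →ₐ[K] Ke k)
    (hlim : ∀ x : (∀ i, Kv i), (∀ k, ρl k (x (l k)) = ρr k (x (r k))) →
      ∃! a : K, ∀ i, algebraMap K (Kv i) a = x i)
    (A B : Type u) [CommRing A] [CommRing B] [Bialgebra K A] [Bialgebra K B]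
    (u : ∀ i, (Kv i ⊗[K] B) ≃ₐc[Kv i] (Kv i ⊗[K] A))
    (hu : ∀ (k : ιe) (b : B),
      Algebra.TensorProduct.map (ρl k) (AlgHom.id K A) (u (l k) (1 ⊗ₜ[K] b)) =
        Algebra.TensorProduct.map (ρr k) (AlgHom.id K A) (u (r k) (1 ⊗ₜ[K] b))) :
    ∃! v : B ≃ₐc[K] A, ∀ (i : ιv) (b : B), u i (1 ⊗ₜ[K] b) = 1 ⊗ₜ[K] v b := by
  classical
  -- the linear maps underlying `u i` and its inverse
  let U : ∀ i, (Kv i ⊗[K] B) →ₗ[Kv i] (Kv i ⊗[K] A) := fun i =>
    { toFun := u i, map_add' := map_add (u i), map_smul' := map_smul (u i) }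
  let V : ∀ i, (Kv i ⊗[K] A) →ₗ[Kv i] (Kv i ⊗[K] B) := fun i =>
    { toFun := (u i).symm, map_add' := map_add (u i).symm, map_smul' := map_smul (u i).symm }
  have hVU : ∀ i z, V i (U i z) = z := fun i z => (u i).symm_apply_apply z
  have hUV : ∀ i z, U i (V i z) = z := fun i z => (u i).apply_symm_apply z
  -- existence of v b
  have hv : ∀ b : B, ∃! a : A, ∀ i, u i (1 ⊗ₜ[K] b) = (1 : Kv i) ⊗ₜ[K] a := fun b =>
    existsUnique_descend ρl ρr hlim A (fun i => u i (1 ⊗ₜ[K] b)) (fun k => hu k b)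
  choose v hv1 hv2 using hv
  have inj := fun (M : Type u) [AddCommGroup M] [Module K M] (m m' : M) =>
    tmul_injective ρl ρr hlim M (m := m) (m' := m')
  -- twisted maps agree
  have htwU : ∀ k, tw (ρl k) (U (l k)) = tw (ρr k) (U (r k)) := by
    intro k
    apply TensorProduct.AlgebraTensorModule.ext
    intro t b
    rw [tw_tmul, tw_tmul]
    exact congrArg (t • ·) (hu k b)
  have htwV : ∀ k, tw (ρl k) (V (l k)) = tw (ρr k) (V (r k)) := by
    intro k
    apply LinearMap.ext
    intro x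
    have h1 : tw (ρl k) (V (l k)) x =
        tw (ρl k) (V (l k)) (tw (ρr k) (U (r k)) (tw (ρr k) (V (r k)) x)) := by
      rw [tw_comp_eq_id (ρr k) (V (r k)) (U (r k)) (hUV (r k))]
    rw [h1, ← htwU k, tw_comp_eq_id (ρl k) (U (l k)) (V (l k)) (hVU (l k))]
  -- existence of w a
  have hw : ∀ a : A, ∃! b : B, ∀ i, (u i).symm (1 ⊗ₜ[K] a) = (1 : Kv i) ⊗ₜ[K] b := fun a =>
    existsUnique_descend ρl ρr hlim B (fun i => (u i).symm (1 ⊗ₜ[K] a)) (fun k => by
      have h1 := tw_nat (ρl k) (V (l k)) ((1 : Kv (l k)) ⊗ₜ[K] a)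
      have h2 := tw_nat (ρr k) (V (r k)) ((1 : Kv (r k)) ⊗ₜ[K] a)
      rw [TensorProduct.map_tmul, AlgHom.toLinearMap_apply, map_one, LinearMap.id_apply] at h1 h2
      exact h1.trans ((congrArg (fun F => F ((1 : Ke k) ⊗ₜ[K] a)) (htwV k)).trans h2.symm))
  choose w hw1 hw2 using hw
  -- algebraic properties of v
  have v_add : ∀ b b', v (b + b') = v b + v b' := by
    intro b b'
    symm
    apply hv2
    intro i
    rw [TensorProduct.tmul_add, map_add, hv1, hv1, TensorProduct.tmul_add]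
  have v_smul : ∀ (c : K) b, v (c • b) = c • v b := by
    intro c b
    symm
    apply hv2
    intro i
    have h1 : (1 : Kv i) ⊗ₜ[K] (c • b) = (algebraMap K (Kv i) c) • ((1 : Kv i) ⊗ₜ[K] b) := by
      rw [TensorProduct.tmul_smul, TensorProduct.smul_tmul', TensorProduct.smul_tmul',
        Algebra.smul_def c, smul_eq_mul]
    have h2 : (1 : Kv i) ⊗ₜ[K] (c • v b) = (algebraMap K (Kv i) c) • ((1 : Kv i) ⊗ₜ[K] v b) := by
      rw [TensorProduct.tmul_smul, TensorProduct.smul_tmul', TensorProduct.smul_tmul',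
        Algebra.smul_def c, smul_eq_mul]
    rw [h1, h2, map_smul, hv1]
  have v_one : v 1 = 1 := by
    symm
    apply hv2
    intro i
    rw [← Algebra.TensorProduct.one_def, map_one]
    exact Algebra.TensorProduct.one_def
  have v_mul : ∀ b b', v (b * b') = v b * v b' := by
    intro b b'
    symm
    apply hv2
    intro i
    have h1 : (1 : Kv i) ⊗ₜ[K] (b * b') = ((1 : Kv i) ⊗ₜ[K] b) * ((1 : Kv i) ⊗ₜ[K] b') := by
      rw [Algebra.TensorProduct.tmul_mul_tmul, one_mul]
    rw [h1, map_mul, hv1, hv1, Algebra.TensorProduct.tmul_mul_tmul, one_mul]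
  let vlin : B →ₗ[K] A := { toFun := v, map_add' := v_add, map_smul' := v_smul }
  let valg : B →ₐ[K] A := AlgHom.ofLinearMap vlin v_one v_mul
  have hbij : Function.Bijective valg := by
    constructor
    · intro b b' h
      apply inj B
      intro i
      apply EquivLike.injective (u i)
      rw [hv1, hv1]
      exact congrArg _ h
    · intro a
      refine ⟨w a, ?_⟩
      symm
      apply hv2
      intro i
      rw [← hw1 a i, (u i).apply_symm_apply]
  let valgE : B ≃ₐ[K] A := AlgEquiv.ofBijective valg hbij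
  have hcounit : (Bialgebra.counitAlgHom K A).comp (valgE : B →ₐ[K] A) =
      Bialgebra.counitAlgHom K B := by
    apply AlgHom.ext
    intro b
    show Coalgebra.counit (R := K) (v b) = Coalgebra.counit (R := K) b
    apply algebraMap_injective' ρl ρr hlim
    intro i
    rw [← counit_one_tmul, ← counit_one_tmul, ← hv1 b i]
    exact CoalgHomClass.counit_comp_apply (u i) _
  have hcomul : (Algebra.TensorProduct.map (valgE : B →ₐ[K] A) (valgE : B →ₐ[K] A)).comp
      (Bialgebra.comulAlgHom K B) = (Bialgebra.comulAlgHom K A).comp (valgE : B →ₐ[K] A) := by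
    apply AlgHom.ext
    intro b
    show TensorProduct.map vlin vlin (Coalgebra.comul (R := K) b) = Coalgebra.comul (R := K) (v b)
    apply inj (A ⊗[K] A)
    intro i
    apply (TensorProduct.AlgebraTensorModule.distribBaseChange K (Kv i) A A).injective
    rw [← theta_eq, ← theta_eq, ← comul_one_tmul, ← hv1 b i,
      ← CoalgHomClass.map_comp_comul_apply (u i), comul_one_tmul]
    generalize Coalgebra.comul (R := K) b = x
    induction x using TensorProduct.induction_on with
    | zero => simp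
    | tmul b₁ b₂ =>
      rw [TensorProduct.map_tmul, theta_tmul, theta_tmul, TensorProduct.map_tmul]
      show _ = (u i (1 ⊗ₜ[K] b₁)) ⊗ₜ[Kv i] (u i (1 ⊗ₜ[K] b₂))
      rw [hv1, hv1]
      rfl
    | add x y hx hy => rw [map_add, map_add, hx, hy, map_add, map_add]
  refine ⟨BialgEquiv.ofAlgEquiv valgE hcounit hcomul, ?_, ?_⟩
  · intro i b
    exact hv1 b i
  · intro v' hv'
    apply BialgEquiv.ext
    intro b
    exact hv2 b (v' b) (fun i => hv' i b)

end Groth.Agent.S15411
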