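import Groth.Statements.S15412
import Mathlib.Tactic.Group

set_option autoImplicit false
universe w v u
open CategoryTheory Opposite
open Bitors

namespace Groth.Agent.S15412

variable {C : Type u} [Category.{v} C] {J : GrothendieckTopology C}
    {G H : Sheaf J GrpCat.{w}} {P : NonAbH1.GSheaf G}

private lemma smul_cancel (hP : P.IsPseudoTorsor) {U : Cᵒᵖ} (p : P.P.obj.obj U)
    {g g' : G.obj.obj U} (h : P.smul g p = P.smul g' p) : g = g' := by
  obtain ⟨g₀, -, hg⟩ := hP U p (P.smul g' p)
  rw [hg _ h, hg _ rfl]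

private lemma isomFamily_ext (φ ψ : Bitors.IsomFamily P H)
    (h : ∀ (U : Cᵒᵖ) (p : P.P.obj.obj U) (x : H.obj.obj U), φ.φ p x = ψ.φ p x) : φ = ψ := by
  cases φ with
  | mk φ1 φ2 φ3 =>
  cases ψ with
  | mk ψ1 ψ2 ψ3 =>
  have : @φ1 = @ψ1 := by
    funext U p
    exact MulEquiv.ext (h U p)
  subst this
  rfl

private lemma rightStr_ext (ρ ρ' : Bitors.RightStr P H)
    (h : ∀ (U : Cᵒᵖ) (p : P.P.obj.obj U) (x : H.obj.obj U), ρ.rsmul p x = ρ'.rsmul p x) : ρ = ρ' := by
  cases ρ with
  | mk r1 r2 r3 r4 r5 r6 =>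
  cases ρ' with
  | mk s1 s2 s3 s4 s5 s6 =>
  have : @r1 = @s1 := by
    funext U p x
    exact h U p x
  subst this
  rfl

/-- the element `g` with `g • p = p · h`. -/
private noncomputable def phiFun (hP : P.IsPseudoTorsor) (ρ : Bitors.RightStr P H) {U : Cᵒᵖ}
    (p : P.P.obj.obj U) (h : H.obj.obj U) : G.obj.obj U :=
  (hP U p (ρ.rsmul p h)).choose

private lemma phiFun_spec (hP : P.IsPseudoTorsor) (ρ : Bitors.RightStr P H) {U : Cᵒᵖ}
    (p : P.P.obj.obj U) (h : H.obj.obj U) : P.smul (phiFun hP ρ p h) p = ρ.rsmul p h :=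
  (hP U p (ρ.rsmul p h)).choose_spec.1

/-- the element `h` with `p · h = g • p`. -/
private noncomputable def psiFun (ρ : Bitors.RightStr P H) {U : Cᵒᵖ}
    (p : P.P.obj.obj U) (g : G.obj.obj U) : H.obj.obj U :=
  (ρ.existsUnique_rsmul p (P.smul g p)).choose

private lemma psiFun_spec (ρ : Bitors.RightStr P H) {U : Cᵒᵖ}
    (p : P.P.obj.obj U) (g : G.obj.obj U) : ρ.rsmul p (psiFun ρ p g) = P.smul g p :=
  (ρ.existsUnique_rsmul p (P.smul g p)).choose_spec.1

private lemma rsmul_cancel (ρ : Bitors.RightStr P H) {U : Cᵒᵖ} (p : P.P.obj.obj U)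
    {h h' : H.obj.obj U} (e : ρ.rsmul p h = ρ.rsmul p h') : h = h' := by
  obtain ⟨h₀, -, hh⟩ := ρ.existsUnique_rsmul p (ρ.rsmul p h')
  rw [hh _ e, hh _ rfl]

private noncomputable def phiEquiv (hP : P.IsPseudoTorsor) (ρ : Bitors.RightStr P H) {U : Cᵒᵖ}
    (p : P.P.obj.obj U) : H.obj.obj U ≃* G.obj.obj U where
  toFun := phiFun hP ρ p
  invFun := psiFun ρ p
  left_inv h := by
    apply rsmul_cancel ρ p
    rw [psiFun_spec, phiFun_spec]
  right_inv g := by
    apply smul_cancel hP p
    rw [phiFun_spec, psiFun_spec]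
  map_mul' h h' := by
    apply smul_cancel hP p
    rw [phiFun_spec, ρ.rsmul_mul, ← phiFun_spec hP ρ p h, ρ.smul_rsmul, ← phiFun_spec hP ρ p h',
      P.mul_smul]

private noncomputable def phiFamily (hP : P.IsPseudoTorsor) (ρ : Bitors.RightStr P H) :
    Bitors.IsomFamily P H where
  φ p := phiEquiv hP ρ p
  map_φ f p h := by
    apply smul_cancel hP (P.P.obj.map f p)
    show P.smul (G.obj.map f (phiFun hP ρ p h)) _ = P.smul (phiFun hP ρ _ _) _
    rw [← P.map_smul, phiFun_spec, phiFun_spec, ρ.map_rsmul]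
  φ_smul g p h := by
    apply smul_cancel hP (P.smul g p)
    show P.smul (phiFun hP ρ _ h) _ = P.smul (g * phiFun hP ρ p h * g⁻¹) _
    rw [phiFun_spec, ρ.smul_rsmul, ← phiFun_spec hP ρ p h, ← P.mul_smul, ← P.mul_smul]
    congr 1
    group

private noncomputable def rhoStr (hP : P.IsPseudoTorsor) (φ : Bitors.IsomFamily P H) :
    Bitors.RightStr P H where
  rsmul p h := P.smul (φ.φ p h) p
  rsmul_one p := by
    show P.smul (φ.φ p 1) p = p
    rw [map_one, P.one_smul]
  rsmul_mul p h h' := by
    show P.smul (φ.φ p (h * h')) p = P.smul (φ.φ (P.smul (φ.φ p h) p) h') (P.smul (φ.φ p h) p)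
    rw [φ.φ_smul, map_mul, ← P.mul_smul]
    congr 1
    group
  map_rsmul f p h := by
    show P.P.obj.map f (P.smul (φ.φ p h) p) = P.smul (φ.φ _ _) _
    rw [P.map_smul, φ.map_φ]
  smul_rsmul g p h := by
    show P.smul (φ.φ (P.smul g p) h) (P.smul g p) = P.smul g (P.smul (φ.φ p h) p)
    rw [φ.φ_smul, ← P.mul_smul, ← P.mul_smul]
    congr 1
    group
  existsUnique_rsmul p q := by
    obtain ⟨g, hg, hg'⟩ := hP _ p q
    refine ⟨(φ.φ p).symm g, ?_, ?_⟩
    · show P.smul (φ.φ p ((φ.φ p).symm g)) p = q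
      rw [MulEquiv.apply_symm_apply]
      exact hg
    · intro h hh
      have : φ.φ p h = g := hg' _ hh
      rw [← this, MulEquiv.symm_apply_apply]

/-- On a site, let G and H be sheaves of groups and P a sheaf of sets with a left G-action which is
simply transitive on every set of sections P(U). The right H-actions on P that are compatible with
restriction, commute with the G-action and are simply transitive on every P(U) (for P a G-torsor:
the structures of (G, H)-bitorsor on P) correspond exactly to the families of group isomorphisms φ_p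
: H(U) ≃ G(U), one for each section p of P over each U, compatible with restriction and with φ_{g·p}
= g φ_p g⁻¹ (the equivariant maps from P to the sheaf of isomorphisms from H to G); the
correspondence is the rule p · h = φ_p(h) · p, and the statement is that every right structure
arises by this rule from exactly one family and every family from exactly one right structure. (The
published statement takes P a left G-torsor; only the simple transitivity of the G-action on
sections enters, so local existence of sections is not assumed.) -/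
theorem result
    {C : Type u} [Category.{v} C] {J : GrothendieckTopology C}
    (G H : Sheaf J GrpCat.{w}) (P : NonAbH1.GSheaf G) (hP : P.IsPseudoTorsor) :
    (∀ ρ : Bitors.RightStr P H, ∃! φ : Bitors.IsomFamily P H,
        ∀ (U : Cᵒᵖ) (p : P.P.obj.obj U) (h : H.obj.obj U), ρ.rsmul p h = P.smul (φ.φ p h) p) ∧
    (∀ φ : Bitors.IsomFamily P H, ∃! ρ : Bitors.RightStr P H,
        ∀ (U : Cᵒᵖ) (p : P.P.obj.obj U) (h : H.obj.obj U), ρ.rsmul p h = P.smul (φ.φ p h) p) := by
  constructor
  · intro ρ
    refine ⟨phiFamily hP ρ, fun U p h => (phiFun_spec hP ρ p h).symm, ?_⟩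
    intro ψ hψ
    apply isomFamily_ext
    intro U p x
    apply smul_cancel hP p
    rw [← hψ]
    exact (phiFun_spec hP ρ p x).symm
  · intro φ
    refine ⟨rhoStr hP φ, fun U p h => rfl, ?_⟩
    intro ρ' hρ'
    apply rightStr_ext
    intro U p x
    rw [hρ']
    rfl

end Groth.Agent.S15412
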