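import Groth.Statements.S15414
import Mathlib.Tactic.Group
import Mathlib.Algebra.Group.Int.Defs
import Mathlib.Algebra.Group.Equiv.TypeTags

set_option autoImplicit false
universe w v u
open CategoryTheory Opposite
open Bitors

namespace Groth.Agent.S15414

variable {C : Type u} [Category.{v} C] {J : GrothendieckTopology C}

/-- separatedness of a sheaf of groups, proved by testing against the free group on one generator -/
private lemma grp_sep (G : Sheaf J GrpCat.{w}) {X : C} (S : J.Cover X) (x y : G.obj.obj (op X))
    (h : ∀ I : S.Arrow, G.obj.map I.f.op x = G.obj.map I.f.op y) : x = y := by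
  let e : G.obj.obj (op X) → (GrpCat.of (ULift.{w} (Multiplicative ℤ)) ⟶ G.obj.obj (op X)) :=
    fun x => GrpCat.ofHom ((zpowersHom _ x).comp (MulEquiv.ulift.toMonoidHom))
  have he : ∀ z, (e z).hom (ULift.up (Multiplicative.ofAdd 1)) = z := by
    intro z
    show z ^ (1 : ℤ) = z
    exact zpow_one z
  have key : e x = e y := by
    apply G.2.hom_ext S
    intro I
    ext a
    obtain ⟨a⟩ := a
    have hx : ∀ z : G.obj.obj (op X), (e z ≫ G.obj.map I.f.op).hom (ULift.up a) =
        (G.obj.map I.f.op z) ^ (Multiplicative.toAdd a) := by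
      intro z
      show (G.obj.map I.f.op).hom (z ^ (Multiplicative.toAdd a)) = _
      exact map_zpow _ _ _
    rw [hx, hx, h I]
  rw [← he x, ← he y, key]

/-- On a site, let G and H be sheaves of groups and P, P' sheaves of sets with left G-actions, simply
transitive on every set of sections, carrying right H-actions ρ, ρ' (compatible with restriction,
commuting with G, simply transitive section-wise) given by families of group isomorphisms φ, φ'
through p · h = φ_p(h) · p and p' · h = φ'_{p'}(h) · p'. Let Y be an object that covers the site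
(for every object U the arrows V → U whose source admits a morphism to Y form a covering sieve), let
p and p' be sections of P and P' over Y, let f : P → P' be a G-equivariant morphism of sheaves and g
a section of G over Y with f(p) = g · p'. Then f commutes with the right H-actions if and only if
φ_{p|V}(h) = g|_V φ'_{p'|V}(h) (g|_V)⁻¹ for every object V with a morphism to Y, along which p, p'
and g are restricted, and every section h of H over V; that is, the isomorphism family of p equals
the conjugate by g of the isomorphism family of p', as isomorphisms between the sheaves H and G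
restricted over Y. (The published statement takes P and P' to be (G, H)-bitorsors trivialised by a
section over a cover Y → S; only the simple transitivity of the G-actions on sections and the
covering property of Y enter.) -/
theorem result
    {C : Type u} [Category.{v} C] {J : GrothendieckTopology C}
    (G H : Sheaf J GrpCat.{w}) (P P' : NonAbH1.GSheaf G)
    (hP : P.IsPseudoTorsor) (hP' : P'.IsPseudoTorsor)
    (ρ : Bitors.RightStr P H) (ρ' : Bitors.RightStr P' H)
    (φ : Bitors.IsomFamily P H) (φ' : Bitors.IsomFamily P' H)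
    (hρ : ∀ (U : Cᵒᵖ) (q : P.P.obj.obj U) (h : H.obj.obj U), ρ.rsmul q h = P.smul (φ.φ q h) q)
    (hρ' : ∀ (U : Cᵒᵖ) (q : P'.P.obj.obj U) (h : H.obj.obj U), ρ'.rsmul q h = P'.smul (φ'.φ q h) q)
    (Y : C) (hY : J.CoversTop (fun _ : PUnit.{w + 1} => Y))
    (p : P.P.obj.obj (op Y)) (p' : P'.P.obj.obj (op Y)) (f : P ⟶ P') (g : G.obj.obj (op Y))
    (hg : f.hom.hom.app (op Y) p = P'.smul g p') :
    (∀ (U : Cᵒᵖ) (q : P.P.obj.obj U) (h : H.obj.obj U),
        f.hom.hom.app U (ρ.rsmul q h) = ρ'.rsmul (f.hom.hom.app U q) h) ↔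
      ∀ (V : C) (t : V ⟶ Y) (h : H.obj.obj (op V)),
        φ.φ (P.P.obj.map t.op p) h =
          G.obj.map t.op g * φ'.φ (P'.P.obj.map t.op p') h * (G.obj.map t.op g)⁻¹ := by
  -- first reduce to the pointwise equality of the isomorphism families, as in S15413
  have step : (∀ (U : Cᵒᵖ) (q : P.P.obj.obj U) (h : H.obj.obj U),
        f.hom.hom.app U (ρ.rsmul q h) = ρ'.rsmul (f.hom.hom.app U q) h) ↔
      ∀ (U : Cᵒᵖ) (q : P.P.obj.obj U) (h : H.obj.obj U),
        φ.φ q h = φ'.φ (f.hom.hom.app U q) h := by
    constructor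
    · intro hf U q h
      have h1 := hf U q h
      rw [hρ, hρ', NonAbH1.GSheaf.Hom.map_smul] at h1
      obtain ⟨g₀, -, hg₀⟩ := hP' U (f.hom.hom.app U q)
        (P'.smul (φ'.φ (f.hom.hom.app U q) h) (f.hom.hom.app U q))
      rw [hg₀ _ h1, hg₀ _ rfl]
    · intro hf U q h
      rw [hρ, hρ', NonAbH1.GSheaf.Hom.map_smul, hf]
  rw [step]
  -- naturality of f
  have fnat : ∀ {U V : Cᵒᵖ} (s : U ⟶ V) (q : P.P.obj.obj U),
      f.hom.hom.app V (P.P.obj.map s q) = P'.P.obj.map s (f.hom.hom.app U q) := by
    intro U V s q
    exact NatTrans.naturality_apply f.hom.hom s q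
  -- the value of f on restrictions of p
  have fp : ∀ (V : C) (t : V ⟶ Y), f.hom.hom.app (op V) (P.P.obj.map t.op p) =
      P'.smul (G.obj.map t.op g) (P'.P.obj.map t.op p') := by
    intro V t
    rw [fnat, hg, P'.map_smul]
  constructor
  · intro hf V t h
    rw [hf, fp, φ'.φ_smul]
  · intro hf U q h
    apply grp_sep G (hY.cover U.unop)
    rintro ⟨V, s, ⟨_, ⟨t⟩⟩⟩
    show G.obj.map s.op (φ.φ q h) = G.obj.map s.op (φ'.φ (f.hom.hom.app U q) h)
    rw [φ.map_φ, φ'.map_φ, ← fnat]
    obtain ⟨γ, hγ, -⟩ := hP (op V) (P.P.obj.map t.op p) (P.P.obj.map s.op q)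
    rw [← hγ, φ.φ_smul, hf, NonAbH1.GSheaf.Hom.map_smul, φ'.φ_smul, fp, φ'.φ_smul]

end Groth.Agent.S15414
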