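import Groth.Statements.S15419
import Groth.Agent.Lib.Helper39.GrQuasi
import Groth.Agent.Lib.Helper39.GrBridge

set_option autoImplicit false
universe u
open GrLC

namespace Groth.Agent.S15419

/-- Let k be a field, S = k[x_0, …, x_r] graded by degree, 𝔪 = (x_0, …, x_r), M a finitely generated
ℤ-graded S-module and x a linear form (x ∈ S_1) that is quasi-regular on M: the submodule of
elements of M killed by x has finite length. Let N = M/xM, given as a graded module with a
surjective degree-preserving S-linear map π : M → N whose kernel is xM; graded local cohomology of M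
and of N is computed from *injective resolutions in the graded category. If M is weakly d-regular,
that is H^i_𝔪(M) vanishes in degree d − i + 1 for every i > 0, then N is weakly d-regular. -/
theorem result (k : Type u) [Field k] (r : ℕ)
    (M : Type u) [AddCommGroup M] [Module k M] [Module (MvPolynomial (Fin (r + 1)) k) M]
    [IsScalarTower k (MvPolynomial (Fin (r + 1)) k) M] [Module.Finite (MvPolynomial (Fin (r + 1)) k) M]
    (ℳ : ℤ → Submodule k M) [DirectSum.Decomposition ℳ] [SetLike.GradedSMul (GrSyz.stdGr k (Fin (r + 1))) ℳ]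
    (x : MvPolynomial (Fin (r + 1)) k) (hx : x ∈ GrSyz.stdGr k (Fin (r + 1)) 1)
    (hq : IsFiniteLength (MvPolynomial (Fin (r + 1)) k) ↥(Submodule.torsionBy (MvPolynomial (Fin (r + 1)) k) M x))
    (N : Type u) [AddCommGroup N] [Module k N] [Module (MvPolynomial (Fin (r + 1)) k) N]
    [IsScalarTower k (MvPolynomial (Fin (r + 1)) k) N] [Module.Finite (MvPolynomial (Fin (r + 1)) k) N]
    (𝒩 : ℤ → Submodule k N) [DirectSum.Decomposition 𝒩] [SetLike.GradedSMul (GrSyz.stdGr k (Fin (r + 1))) 𝒩]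
    (π : M →ₗ[MvPolynomial (Fin (r + 1)) k] N) (hπ : Function.Surjective π) (hπg : GrLC.IsGrHom ℳ 𝒩 π)
    (hker : LinearMap.ker π = LinearMap.range (x • (LinearMap.id : M →ₗ[MvPolynomial (Fin (r + 1)) k] M)))
    (E : GrLC.StarInjRes (GrSyz.stdGr k (Fin (r + 1))) ℳ) (E' : GrLC.StarInjRes (GrSyz.stdGr k (Fin (r + 1))) 𝒩) (d : ℤ)
    (hM : ∀ i : ℕ, 0 < i → E.Hcomp (GrSyz.irrel (GrSyz.stdGr k (Fin (r + 1)))) i (d - (i : ℤ) + 1) = ⊥) (i : ℕ) (hi : 0 < i) :
    E'.Hcomp (GrSyz.irrel (GrSyz.stdGr k (Fin (r + 1)))) i (d - (i : ℤ) + 1) = ⊥ := by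
  classical
  open Groth.Agent.Lib.Helper39 Groth.Agent.Lib.Helper39.GrLes Groth.Agent.Lib.Helper39.GrBridge
    Groth.Agent.Lib.Helper39.GrQuasi in
  letI iR := toSubGradedRing (GrSyz.stdGr k (Fin (r + 1)))
  letI iM := toSubDecomposition ℳ
  letI iN := toSubDecomposition 𝒩
  haveI sM := toSubGradedSMul (GrSyz.stdGr k (Fin (r + 1))) ℳ
  haveI sN := toSubGradedSMul (GrSyz.stdGr k (Fin (r + 1))) 𝒩
  -- positivity of the grading
  have hpos : ∀ n : ℤ, n < 0 → toSub (GrSyz.stdGr k (Fin (r + 1))) n = ⊥ := by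
    intro n hn
    rw [eq_bot_iff]
    intro p hp
    have hp' : p.IsWeightedHomogeneous (fun _ : Fin (r + 1) => (1 : ℤ)) n := hp
    rw [AddSubgroup.mem_bot]
    by_contra hne
    obtain ⟨e, he⟩ := MvPolynomial.ne_zero_iff.mp hne
    have hw := hp' he
    have hnn : (0 : ℤ) ≤ Finsupp.weight (fun _ : Fin (r + 1) => (1 : ℤ)) e := by
      rw [Finsupp.weight_apply]
      apply Finsupp.sum_nonneg
      intro j _
      positivity
    omega
  have ha : (GrSyz.irrel (GrSyz.stdGr k (Fin (r + 1)))).toIdeal =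
      Ideal.span (⋃ n ∈ Set.Ioi (0 : ℤ), (toSub (GrSyz.stdGr k (Fin (r + 1))) n : Set _)) := by
    show Ideal.span _ = _
    congr 1
    ext p
    simp only [Set.mem_setOf_eq, Set.mem_iUnion, Set.mem_Ioi, SetLike.mem_coe, exists_prop]
    exact Iff.rfl
  -- the kernel of x is torsion
  have hK : ∀ z : M, x • z = 0 →
      z ∈ GrLC.gam (convIdeal (GrSyz.irrel (GrSyz.stdGr k (Fin (r + 1))))).toIdeal M := by
    intro z hz
    have hKh : (LinearMap.ker (x • (LinearMap.id :
        M →ₗ[MvPolynomial (Fin (r + 1)) k] M))).IsHomogeneous (toSub ℳ) :=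
      ker_smul_isHomogeneous (𝒜 := toSub (GrSyz.stdGr k (Fin (r + 1)))) (d := 1) hx
    have hKeq : LinearMap.ker (x • (LinearMap.id : M →ₗ[MvPolynomial (Fin (r + 1)) k] M)) =
        Submodule.torsionBy (MvPolynomial (Fin (r + 1)) k) M x := by
      ext w
      simp [Submodule.mem_torsionBy_iff]
    rw [hKeq] at hKh
    haveI : IsArtinian (MvPolynomial (Fin (r + 1)) k)
        (Submodule.torsionBy (MvPolynomial (Fin (r + 1)) k) M x) :=
      (isFiniteLength_iff_isNoetherian_isArtinian.mp hq).2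
    exact torsion_of_isArtinian_sub (toSub (GrSyz.stdGr k (Fin (r + 1)))) (toSub ℳ) hpos _ ha _ hKh z
      ((Submodule.mem_torsionBy_iff _ _).mpr hz)
  rw [← convRes_Hcomp_eq_bot_iff]
  refine quasi_step (𝒜 := toSub (GrSyz.stdGr k (Fin (r + 1)))) (ℳ := toSub ℳ) (𝒩 := toSub 𝒩)
    (d := 1) hx π hπ (fun j m hm => hπg j m hm) hker
    (convIdeal (GrSyz.irrel (GrSyz.stdGr k (Fin (r + 1))))) hK (convRes E) (convRes E') i
    (d - (i : ℤ) + 1) ?_ ?_
  · rw [convRes_Hcomp_eq_bot_iff]
    exact hM i hi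
  · rw [convRes_Hcomp_eq_bot_iff]
    have := hM (i + 1) (by omega)
    have e : d - (i : ℤ) + 1 + -1 = d - ((i + 1 : ℕ) : ℤ) + 1 := by push_cast; ring
    rw [e]
    exact this

end Groth.Agent.S15419
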