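import Groth.Statements.S1542
import Mathlib
import Groth.Agent.Lib.Helper50.GeomReducedAt
import Groth.Agent.Lib.Helper50.StalkSpecializes

set_option autoImplicit false
universe u
open CategoryTheory CategoryTheory.Limits AlgebraicGeometry
open Variety

namespace Groth.Agent.S1542

/-- Geometric reducedness at a point passes to every generisation of that point. -/
theorem result (k : Type u) [Field k] (X : Scheme.{u}) [X.Over (Spec (CommRingCat.of k))] (x x' : X) (h : x' ⤳ x)
    (hx : Curv2.IsGeomReducedAt k X x) : Curv2.IsGeomReducedAt k X x' := by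
    have h1 := (Groth.Agent.Lib.Helper50.isGeomReducedAt_iff (X ↘ Spec (CommRingCat.of k)) x
      (Curv2.stalkMap k X x) (Groth.Agent.Lib.Helper50.specMap_stalkMap_eq k x)).mp hx
    have hcompat : Curv2.stalkMap k X x' =
        (X.presheaf.stalkSpecializes h).hom.comp (Curv2.stalkMap k X x) := by
      have := X.presheaf.germ_stalkSpecializes (U := ⊤) (y := x) trivial h
      ext a
      simp only [Curv2.stalkMap, RingHom.comp_apply]
      exact (congrArg (fun t => t.hom (Coh.toGlobal (X ↘ Spec (CommRingCat.of k)) a)) this).symm
    have h2 := Groth.Agent.Lib.Helper50.isGeometricallyReduced_stalk_of_specializes h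
      (Curv2.stalkMap k X x) (Curv2.stalkMap k X x') hcompat h1
    exact (Groth.Agent.Lib.Helper50.isGeomReducedAt_iff (X ↘ Spec (CommRingCat.of k)) x'
      (Curv2.stalkMap k X x') (Groth.Agent.Lib.Helper50.specMap_stalkMap_eq k x')).mpr h2

end Groth.Agent.S1542
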