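import Groth.Statements.S15420
import Mathlib.RingTheory.MvPolynomial.Ideal
import Groth.Agent.Lib.Helper39.GrQuasi2
import Groth.Agent.Lib.Helper39.GrBridge
import Groth.Agent.Lib.Helper66.StdGr

set_option autoImplicit false
universe u
open GrLC

namespace Groth.Agent.S15420

/-- Let k be a field, S = k[x_0, …, x_r] graded by degree, 𝔪 = (x_0, …, x_r), M a finitely generated
ℤ-graded S-module, x ∈ S_1 a linear form quasi-regular on M (the elements of M killed by x form a
submodule of finite length), and N = M/xM, given as a graded module with a surjective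
degree-preserving S-linear map π : M → N with kernel xM; graded local cohomology is computed from
*injective resolutions in the graded category. Call a module d-regular when H^0_𝔪 of it has no
nonzero piece in degrees above d and H^i_𝔪 of it vanishes in degree d − i + 1 for every i > 0. Then
M is d-regular if and only if N is d-regular and H^0_𝔪(M) has no nonzero piece in degrees above d. -/
theorem result (k : Type u) [Field k] (r : ℕ)
    (M : Type u) [AddCommGroup M] [Module k M] [Module (MvPolynomial (Fin (r + 1)) k) M]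
    [IsScalarTower k (MvPolynomial (Fin (r + 1)) k) M] [Module.Finite (MvPolynomial (Fin (r + 1)) k) M]
    (ℳ : ℤ → Submodule k M) [DirectSum.Decomposition ℳ] [SetLike.GradedSMul (GrSyz.stdGr k (Fin (r + 1))) ℳ]
    (x : MvPolynomial (Fin (r + 1)) k) (hx : x ∈ GrSyz.stdGr k (Fin (r + 1)) 1)
    (hq : IsFiniteLength (MvPolynomial (Fin (r + 1)) k) ↥(Submodule.torsionBy (MvPolynomial (Fin (r + 1)) k) M x))
    (N : Type u) [AddCommGroup N] [Module k N] [Module (MvPolynomial (Fin (r + 1)) k) N]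
    [IsScalarTower k (MvPolynomial (Fin (r + 1)) k) N] [Module.Finite (MvPolynomial (Fin (r + 1)) k) N]
    (𝒩 : ℤ → Submodule k N) [DirectSum.Decomposition 𝒩] [SetLike.GradedSMul (GrSyz.stdGr k (Fin (r + 1))) 𝒩]
    (π : M →ₗ[MvPolynomial (Fin (r + 1)) k] N) (hπ : Function.Surjective π) (hπg : GrLC.IsGrHom ℳ 𝒩 π)
    (hker : LinearMap.ker π = LinearMap.range (x • (LinearMap.id : M →ₗ[MvPolynomial (Fin (r + 1)) k] M)))
    (E : GrLC.StarInjRes (GrSyz.stdGr k (Fin (r + 1))) ℳ) (E' : GrLC.StarInjRes (GrSyz.stdGr k (Fin (r + 1))) 𝒩) (d : ℤ) :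
    (GrLC.endDeg (E.Hgr (GrSyz.irrel (GrSyz.stdGr k (Fin (r + 1)))) 0) ≤ ((d : WithTop ℤ) : WithBot (WithTop ℤ)) ∧ ∀ i : ℕ, 0 < i → E.Hcomp (GrSyz.irrel (GrSyz.stdGr k (Fin (r + 1)))) i (d - (i : ℤ) + 1) = ⊥) ↔
      ((GrLC.endDeg (E'.Hgr (GrSyz.irrel (GrSyz.stdGr k (Fin (r + 1)))) 0) ≤ ((d : WithTop ℤ) : WithBot (WithTop ℤ)) ∧ ∀ i : ℕ, 0 < i → E'.Hcomp (GrSyz.irrel (GrSyz.stdGr k (Fin (r + 1)))) i (d - (i : ℤ) + 1) = ⊥) ∧
        GrLC.endDeg (E.Hgr (GrSyz.irrel (GrSyz.stdGr k (Fin (r + 1)))) 0) ≤ ((d : WithTop ℤ) : WithBot (WithTop ℤ))) := by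
  classical
  open Groth.Agent.Lib.Helper39 Groth.Agent.Lib.Helper39.GrLes Groth.Agent.Lib.Helper39.GrBridge
    Groth.Agent.Lib.Helper39.GrQuasi in
  letI iR := toSubGradedRing (GrSyz.stdGr k (Fin (r + 1)))
  letI iM := toSubDecomposition ℳ
  letI iN := toSubDecomposition 𝒩
  haveI sM := toSubGradedSMul (GrSyz.stdGr k (Fin (r + 1))) ℳ
  haveI sN := toSubGradedSMul (GrSyz.stdGr k (Fin (r + 1))) 𝒩
  -- positivity of the grading
  have hpos : ∀ n : ℤ, n < 0 → toSub (GrSyz.stdGr k (Fin (r + 1))) n = ⊥ := by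
    intro n hn
    rw [eq_bot_iff]
    intro p hp
    have hp' : p.IsWeightedHomogeneous (fun _ : Fin (r + 1) => (1 : ℤ)) n := hp
    rw [AddSubgroup.mem_bot]
    by_contra hne
    obtain ⟨e, he⟩ := MvPolynomial.ne_zero_iff.mp hne
    have hw := hp' he
    have hnn : (0 : ℤ) ≤ Finsupp.weight (fun _ : Fin (r + 1) => (1 : ℤ)) e := by
      rw [Finsupp.weight_apply]
      apply Finsupp.sum_nonneg
      intro j _
      positivity
    omega
  have ha : (GrSyz.irrel (GrSyz.stdGr k (Fin (r + 1)))).toIdeal =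
      Ideal.span (⋃ n ∈ Set.Ioi (0 : ℤ), (toSub (GrSyz.stdGr k (Fin (r + 1))) n : Set _)) := by
    show Ideal.span _ = _
    congr 1
    ext p
    simp only [Set.mem_setOf_eq, Set.mem_iUnion, Set.mem_Ioi, SetLike.mem_coe, exists_prop]
    exact Iff.rfl
  have hstd : (GrSyz.irrel (GrSyz.stdGr k (Fin (r + 1)))).toIdeal =
      Ideal.span ((toSub (GrSyz.stdGr k (Fin (r + 1))) 1 : AddSubgroup _) : Set _) := by
    apply le_antisymm
    · intro p hp
      have h0 := Groth.Agent.Lib.Helper66.constantCoeff_eq_zero_of_mem_irrel k (Fin (r + 1)) p hp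
      have hle : Ideal.span (MvPolynomial.X '' (Set.univ : Set (Fin (r + 1)))) ≤
          Ideal.span ((toSub (GrSyz.stdGr k (Fin (r + 1))) 1 : AddSubgroup _) :
            Set (MvPolynomial (Fin (r + 1)) k)) := by
        apply Ideal.span_mono
        rintro _ ⟨j, -, rfl⟩
        exact MvPolynomial.isWeightedHomogeneous_X k (fun _ => (1 : ℤ)) j
      apply hle
      rw [MvPolynomial.mem_ideal_span_X_image]
      intro m hm
      have hm0 : m ≠ 0 := by
        rintro rfl
        rw [MvPolynomial.mem_support_iff, ← MvPolynomial.constantCoeff_eq] at hm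
        exact hm h0
      obtain ⟨j, hj⟩ : ∃ j, m j ≠ 0 := by
        by_contra hcon
        push Not at hcon
        exact hm0 (Finsupp.ext hcon)
      exact ⟨j, Set.mem_univ _, hj⟩
    · show _ ≤ Ideal.span _
      apply Ideal.span_mono
      intro p hp
      exact ⟨1, one_pos, hp⟩
  -- the kernel of x is torsion
  have hK : ∀ z : M, x • z = 0 →
      z ∈ GrLC.gam (convIdeal (GrSyz.irrel (GrSyz.stdGr k (Fin (r + 1))))).toIdeal M := by
    intro z hz
    have hKh : (LinearMap.ker (x • (LinearMap.id :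
        M →ₗ[MvPolynomial (Fin (r + 1)) k] M))).IsHomogeneous (toSub ℳ) :=
      ker_smul_isHomogeneous (𝒜 := toSub (GrSyz.stdGr k (Fin (r + 1)))) (d := 1) hx
    have hKeq : LinearMap.ker (x • (LinearMap.id : M →ₗ[MvPolynomial (Fin (r + 1)) k] M)) =
        Submodule.torsionBy (MvPolynomial (Fin (r + 1)) k) M x := by
      ext w
      simp [Submodule.mem_torsionBy_iff]
    rw [hKeq] at hKh
    haveI : IsArtinian (MvPolynomial (Fin (r + 1)) k)
        (Submodule.torsionBy (MvPolynomial (Fin (r + 1)) k) M x) :=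
      (isFiniteLength_iff_isNoetherian_isArtinian.mp hq).2
    exact torsion_of_isArtinian_sub (toSub (GrSyz.stdGr k (Fin (r + 1)))) (toSub ℳ) hpos _ ha _ hKh z
      ((Submodule.mem_torsionBy_iff _ _).mpr hz)
  have key := reg_quot_iff (𝒜 := toSub (GrSyz.stdGr k (Fin (r + 1)))) (ℳ := toSub ℳ)
    (𝒩 := toSub 𝒩) hpos (convIdeal (GrSyz.irrel (GrSyz.stdGr k (Fin (r + 1))))) ha hstd hx π hπ
    (fun j m hm => hπg j m hm) hker hK (convRes E) (convRes E') d
  have hE0 : GrLC.endDeg (E.Hgr (GrSyz.irrel (GrSyz.stdGr k (Fin (r + 1)))) 0) ≤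
      ((d : WithTop ℤ) : WithBot (WithTop ℤ)) ↔ ∀ n : ℤ, d < n →
        (convRes E).Hcomp (convIdeal (GrSyz.irrel (GrSyz.stdGr k (Fin (r + 1))))) 0 n = ⊥ := by
    rw [endDeg_le_iff]
    refine forall_congr' fun n => imp_congr_right fun _ => ?_
    rw [convRes_Hcomp_eq_bot_iff]
    constructor
    · intro h
      rw [eq_bot_iff]
      intro y hy
      have hy' : y ∈ E.Hgr (GrSyz.irrel (GrSyz.stdGr k (Fin (r + 1)))) 0 n := hy
      rw [h] at hy'
      exact hy'
    · intro h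
      rw [eq_bot_iff]
      intro y hy
      have hy' : y ∈ E.Hcomp (GrSyz.irrel (GrSyz.stdGr k (Fin (r + 1)))) 0 n := hy
      rw [h] at hy'
      exact hy'
  have hF0 : GrLC.endDeg (E'.Hgr (GrSyz.irrel (GrSyz.stdGr k (Fin (r + 1)))) 0) ≤
      ((d : WithTop ℤ) : WithBot (WithTop ℤ)) ↔ ∀ n : ℤ, d < n →
        (convRes E').Hcomp (convIdeal (GrSyz.irrel (GrSyz.stdGr k (Fin (r + 1))))) 0 n = ⊥ := by
    rw [endDeg_le_iff]
    refine forall_congr' fun n => imp_congr_right fun _ => ?_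
    rw [convRes_Hcomp_eq_bot_iff]
    constructor
    · intro h
      rw [eq_bot_iff]
      intro y hy
      have hy' : y ∈ E'.Hgr (GrSyz.irrel (GrSyz.stdGr k (Fin (r + 1)))) 0 n := hy
      rw [h] at hy'
      exact hy'
    · intro h
      rw [eq_bot_iff]
      intro y hy
      have hy' : y ∈ E'.Hcomp (GrSyz.irrel (GrSyz.stdGr k (Fin (r + 1)))) 0 n := hy
      rw [h] at hy'
      exact hy'
  have hEi : (∀ i : ℕ, 0 < i → E.Hcomp (GrSyz.irrel (GrSyz.stdGr k (Fin (r + 1)))) i (d - (i : ℤ) + 1) = ⊥) ↔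
      ∀ i : ℕ, 0 < i → (convRes E).Hcomp (convIdeal (GrSyz.irrel (GrSyz.stdGr k (Fin (r + 1))))) i
        (d - (i : ℤ) + 1) = ⊥ :=
    forall_congr' fun i => imp_congr_right fun _ => (convRes_Hcomp_eq_bot_iff _ _ _ _).symm
  have hFi : (∀ i : ℕ, 0 < i → E'.Hcomp (GrSyz.irrel (GrSyz.stdGr k (Fin (r + 1)))) i (d - (i : ℤ) + 1) = ⊥) ↔
      ∀ i : ℕ, 0 < i → (convRes E').Hcomp (convIdeal (GrSyz.irrel (GrSyz.stdGr k (Fin (r + 1))))) i
        (d - (i : ℤ) + 1) = ⊥ :=
    forall_congr' fun i => imp_congr_right fun _ => (convRes_Hcomp_eq_bot_iff _ _ _ _).symm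
  rw [hE0, hF0, hEi, hFi]
  exact key

end Groth.Agent.S15420
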