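import Groth.Statements.S15421
import Groth.Agent.Lib.Helper39.GrEGPoly

set_option autoImplicit false
universe u
open GrSyz

namespace Groth.Agent.S15421

/-- Let k be a field, S = k[x_0, …, x_r] graded by degree, 𝔪 = (x_0, …, x_r), M a finitely generated
ℤ-graded S-module, x ∈ S_1 a linear form quasi-regular on M (the elements of M killed by x form a
submodule of finite length) and N = M/xM, given as a graded module with a surjective
degree-preserving S-linear map π : M → N with kernel xM. Then reg M = max(end H^0_𝔪(M), reg N),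
where reg is the Castelnuovo–Mumford regularity in the sense of minimal graded free resolutions (as
an extended integer, −∞ for the zero module) and end H^0_𝔪(M) is the largest degree of a nonzero
piece of the graded local cohomology H^0_𝔪(M), computed from any *injective resolution of M in the
graded category. (The published statement takes x quasi-regular without repeating that it is a
linear form; a linear form is meant, as in the proposition it rests on.) -/
theorem result (k : Type u) [Field k] (r : ℕ)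
    (M : Type u) [AddCommGroup M] [Module k M] [Module (MvPolynomial (Fin (r + 1)) k) M]
    [IsScalarTower k (MvPolynomial (Fin (r + 1)) k) M] [Module.Finite (MvPolynomial (Fin (r + 1)) k) M]
    (ℳ : ℤ → Submodule k M) [DirectSum.Decomposition ℳ] [SetLike.GradedSMul (GrSyz.stdGr k (Fin (r + 1))) ℳ]
    (x : MvPolynomial (Fin (r + 1)) k) (hx : x ∈ GrSyz.stdGr k (Fin (r + 1)) 1)
    (hq : IsFiniteLength (MvPolynomial (Fin (r + 1)) k) ↥(Submodule.torsionBy (MvPolynomial (Fin (r + 1)) k) M x))
    (N : Type u) [AddCommGroup N] [Module k N] [Module (MvPolynomial (Fin (r + 1)) k) N]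
    [IsScalarTower k (MvPolynomial (Fin (r + 1)) k) N] [Module.Finite (MvPolynomial (Fin (r + 1)) k) N]
    (𝒩 : ℤ → Submodule k N) [DirectSum.Decomposition 𝒩] [SetLike.GradedSMul (GrSyz.stdGr k (Fin (r + 1))) 𝒩]
    (π : M →ₗ[MvPolynomial (Fin (r + 1)) k] N) (hπ : Function.Surjective π) (hπg : GrLC.IsGrHom ℳ 𝒩 π)
    (hker : LinearMap.ker π = LinearMap.range (x • (LinearMap.id : M →ₗ[MvPolynomial (Fin (r + 1)) k] M)))
    (E : GrLC.StarInjRes (GrSyz.stdGr k (Fin (r + 1))) ℳ) :
    GrSyz.reg (GrSyz.stdGr k (Fin (r + 1))) ℳ (GrSyz.irrel (GrSyz.stdGr k (Fin (r + 1)))).toIdeal =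
      GrLC.endDeg (E.Hgr (GrSyz.irrel (GrSyz.stdGr k (Fin (r + 1)))) 0) ⊔ GrSyz.reg (GrSyz.stdGr k (Fin (r + 1))) 𝒩 (GrSyz.irrel (GrSyz.stdGr k (Fin (r + 1)))).toIdeal := by
  classical
  open Groth.Agent.Lib.Helper39 Groth.Agent.Lib.Helper39.GrBridge Groth.Agent.Lib.Helper39.GrQuasi
    Groth.Agent.Lib.Helper39.GrReg Groth.Agent.Lib.Helper39.GrEGPoly in
  letI iR := toSubGradedRing (GrSyz.stdGr k (Fin (r + 1)))
  letI iM := toSubDecomposition ℳ
  letI iN := toSubDecomposition 𝒩
  haveI sM := toSubGradedSMul (GrSyz.stdGr k (Fin (r + 1))) ℳ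
  haveI sN := toSubGradedSMul (GrSyz.stdGr k (Fin (r + 1))) 𝒩
  -- the kernel of x is torsion
  have hK : ∀ z : M, x • z = 0 →
      z ∈ GrLC.gam (convIdeal (GrSyz.irrel (GrSyz.stdGr k (Fin (r + 1))))).toIdeal M := by
    intro z hz
    have hKh : (LinearMap.ker (x • (LinearMap.id :
        M →ₗ[MvPolynomial (Fin (r + 1)) k] M))).IsHomogeneous (toSub ℳ) :=
      ker_smul_isHomogeneous (𝒜 := toSub (GrSyz.stdGr k (Fin (r + 1)))) (d := 1) hx
    have hKeq : LinearMap.ker (x • (LinearMap.id : M →ₗ[MvPolynomial (Fin (r + 1)) k] M)) =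
        Submodule.torsionBy (MvPolynomial (Fin (r + 1)) k) M x := by
      ext w
      simp [Submodule.mem_torsionBy_iff]
    rw [hKeq] at hKh
    haveI : IsArtinian (MvPolynomial (Fin (r + 1)) k)
        (Submodule.torsionBy (MvPolynomial (Fin (r + 1)) k) M x) :=
      (isFiniteLength_iff_isNoetherian_isArtinian.mp hq).2
    exact torsion_of_isArtinian_sub (toSub (GrSyz.stdGr k (Fin (r + 1)))) (toSub ℳ) (hpos k r) _
      (ha k r) _ hKh z ((Submodule.mem_torsionBy_iff _ _).mpr hz)
  apply Groth.Agent.Lib.Helper39.GrEGPoly.eq_of_forall_le_iff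
  intro t
  rw [sup_le_iff, reg_le_iff ℳ t, reg_le_iff 𝒩 t, endDeg_le_iff]
  haveI : Module.Finite (MvPolynomial (Fin (r + 1)) k)
      (GrLC.GMod.of (toSub (GrSyz.stdGr k (Fin (r + 1)))) M (toSub ℳ)).carrier :=
    inferInstanceAs (Module.Finite (MvPolynomial (Fin (r + 1)) k) M)
  have key := regLE_quot_iff (hpos k r) (ha k r) (hstd k r)
    (X := GrLC.GMod.of (toSub (GrSyz.stdGr k (Fin (r + 1)))) M (toSub ℳ))
    (Y := GrLC.GMod.of (toSub (GrSyz.stdGr k (Fin (r + 1)))) N (toSub 𝒩)) hx π hπ
    (fun j m hm => hπg j m hm) hker hK t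
  rw [key, and_comm]
  refine and_congr_left' ?_
  refine forall_congr' fun n => imp_congr_right fun _ => ?_
  exact (hvan_iff_hcomp ℳ E 0 n).trans (Hgr_eq_bot_iff ℳ E _ 0 n).symm

end Groth.Agent.S15421
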