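import Groth.Statements.S15422
import Groth.Agent.Lib.Helper39.GrEGPoly

set_option autoImplicit false
universe u
open GrSyz

namespace Groth.Agent.S15422

/-- Let k be a field, S = k[x_0, …, x_r] graded by degree, 𝔪 = (x_0, …, x_r) and M a finitely generated
ℤ-graded S-module of finite length. Then the Castelnuovo–Mumford regularity of M, in the sense of
minimal graded free resolutions (an extended integer, −∞ for the zero module), equals the largest
degree d with M_d ≠ 0. -/
theorem result (k : Type u) [Field k] (r : ℕ)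
    (M : Type u) [AddCommGroup M] [Module k M] [Module (MvPolynomial (Fin (r + 1)) k) M]
    [IsScalarTower k (MvPolynomial (Fin (r + 1)) k) M] [Module.Finite (MvPolynomial (Fin (r + 1)) k) M]
    (ℳ : ℤ → Submodule k M) [DirectSum.Decomposition ℳ] [SetLike.GradedSMul (GrSyz.stdGr k (Fin (r + 1))) ℳ]
    (hM : IsFiniteLength (MvPolynomial (Fin (r + 1)) k) M) :
    GrSyz.reg (GrSyz.stdGr k (Fin (r + 1))) ℳ (GrSyz.irrel (GrSyz.stdGr k (Fin (r + 1)))).toIdeal = GrLC.endDeg (fun n => (ℳ n).toAddSubgroup) := by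
  classical
  open Groth.Agent.Lib.Helper39 Groth.Agent.Lib.Helper39.GrBridge Groth.Agent.Lib.Helper39.GrQuasi
    Groth.Agent.Lib.Helper39.GrReg Groth.Agent.Lib.Helper39.GrEGPoly in
  letI iR := toSubGradedRing (GrSyz.stdGr k (Fin (r + 1)))
  letI iM := toSubDecomposition ℳ
  haveI sM := toSubGradedSMul (GrSyz.stdGr k (Fin (r + 1))) ℳ
  apply Groth.Agent.Lib.Helper39.GrEGPoly.eq_of_forall_le_iff
  intro t
  rw [reg_le_iff ℳ t, endDeg_le_iff]
  haveI : IsArtinian (MvPolynomial (Fin (r + 1)) k) M :=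
    (isFiniteLength_iff_isNoetherian_isArtinian.mp hM).2
  have htor : ∀ x : M, ∃ j : ℕ, ∀ s ∈ (convIdeal (GrSyz.irrel (GrSyz.stdGr k (Fin (r + 1))))).toIdeal ^ j,
      s • x = 0 := by
    intro x
    exact torsion_of_isArtinian_sub (toSub (GrSyz.stdGr k (Fin (r + 1)))) (toSub ℳ) (hpos k r) _
      (ha k r) ⊤ (fun _ _ _ => Submodule.mem_top) x Submodule.mem_top
  rw [regLE_of_torsion (X := GrLC.GMod.of (toSub (GrSyz.stdGr k (Fin (r + 1)))) M (toSub ℳ)) htor]
  refine forall_congr' fun n => imp_congr_right fun _ => ?_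
  constructor
  · intro h
    rw [eq_bot_iff]
    intro y hy
    have hy' : y ∈ toSub ℳ n := hy
    have h' : toSub ℳ n = ⊥ := h
    rw [h'] at hy'
    exact hy'
  · intro h
    show toSub ℳ n = ⊥
    rw [eq_bot_iff]
    intro y hy
    have hy' : y ∈ (ℳ n).toAddSubgroup := hy
    rw [h] at hy'
    exact hy'

end Groth.Agent.S15422
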