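import Groth.Statements.S15425
import Groth.Agent.Lib.Helper39.GrEGPoly

set_option autoImplicit false
universe u
open GrSyz

namespace Groth.Agent.S15425

/-- Let k be a field, S = k[x_0, …, x_r] graded by degree, 𝔪 = (x_0, …, x_r), M a finitely generated
ℤ-graded S-module and y_1, …, y_t linear forms that form a weakly regular sequence on M (each y_j is
a non-zerodivisor on M/(y_1, …, y_{j−1})M) with N = M/(y_1, …, y_t)M of finite length; N is given as
a graded module with a surjective degree-preserving S-linear map π : M → N whose kernel is (y_1, …,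
y_t)M. Then the Castelnuovo–Mumford regularity of M in the sense of minimal graded free resolutions
equals the largest degree d with N_d ≠ 0 (−∞ when N = 0). (The published statement assumes M
Cohen–Macaulay and the regular sequence maximal; for a regular sequence of linear forms this is the
same as the quotient having finite length, the form used here.) -/
theorem result (k : Type u) [Field k] (r : ℕ)
    (M : Type u) [AddCommGroup M] [Module k M] [Module (MvPolynomial (Fin (r + 1)) k) M]
    [IsScalarTower k (MvPolynomial (Fin (r + 1)) k) M] [Module.Finite (MvPolynomial (Fin (r + 1)) k) M]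
    (ℳ : ℤ → Submodule k M) [DirectSum.Decomposition ℳ] [SetLike.GradedSMul (GrSyz.stdGr k (Fin (r + 1))) ℳ]
    (ys : List (MvPolynomial (Fin (r + 1)) k)) (hys : ∀ y ∈ ys, y ∈ GrSyz.stdGr k (Fin (r + 1)) 1)
    (hreg : RingTheory.Sequence.IsWeaklyRegular M ys)
    (N : Type u) [AddCommGroup N] [Module k N] [Module (MvPolynomial (Fin (r + 1)) k) N]
    [IsScalarTower k (MvPolynomial (Fin (r + 1)) k) N] [Module.Finite (MvPolynomial (Fin (r + 1)) k) N]
    (𝒩 : ℤ → Submodule k N) [DirectSum.Decomposition 𝒩] [SetLike.GradedSMul (GrSyz.stdGr k (Fin (r + 1))) 𝒩]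
    (π : M →ₗ[MvPolynomial (Fin (r + 1)) k] N) (hπ : Function.Surjective π) (hπg : GrLC.IsGrHom ℳ 𝒩 π)
    (hker : LinearMap.ker π = Ideal.ofList ys • (⊤ : Submodule (MvPolynomial (Fin (r + 1)) k) M))
    (hN : IsFiniteLength (MvPolynomial (Fin (r + 1)) k) N) :
    GrSyz.reg (GrSyz.stdGr k (Fin (r + 1))) ℳ (GrSyz.irrel (GrSyz.stdGr k (Fin (r + 1)))).toIdeal = GrLC.endDeg (fun n => (𝒩 n).toAddSubgroup) := by
  classical
  open Groth.Agent.Lib.Helper39 Groth.Agent.Lib.Helper39.GrBridge Groth.Agent.Lib.Helper39.GrQuasi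
    Groth.Agent.Lib.Helper39.GrReg Groth.Agent.Lib.Helper39.GrEGPoly in
  letI iR := toSubGradedRing (GrSyz.stdGr k (Fin (r + 1)))
  letI iM := toSubDecomposition ℳ
  letI iN := toSubDecomposition 𝒩
  haveI sM := toSubGradedSMul (GrSyz.stdGr k (Fin (r + 1))) ℳ
  haveI sN := toSubGradedSMul (GrSyz.stdGr k (Fin (r + 1))) 𝒩
  apply Groth.Agent.Lib.Helper39.GrEGPoly.eq_of_forall_le_iff
  intro t
  rw [reg_le_iff ℳ t, endDeg_le_iff]
  haveI : Module.Finite (MvPolynomial (Fin (r + 1)) k)
      (GrLC.GMod.of (toSub (GrSyz.stdGr k (Fin (r + 1)))) M (toSub ℳ)).carrier :=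
    inferInstanceAs (Module.Finite (MvPolynomial (Fin (r + 1)) k) M)
  have key := regLE_regseq_iff (hpos k r) (ha k r) (hstd k r) ys hys
    (GrLC.GMod.of (toSub (GrSyz.stdGr k (Fin (r + 1)))) M (toSub ℳ))
    (GrLC.GMod.of (toSub (GrSyz.stdGr k (Fin (r + 1)))) N (toSub 𝒩)) π hπ
    (fun j m hm => hπg j m hm) hker hreg t
  rw [key]
  haveI : IsArtinian (MvPolynomial (Fin (r + 1)) k) N :=
    (isFiniteLength_iff_isNoetherian_isArtinian.mp hN).2
  have htor : ∀ x : N, ∃ j : ℕ, ∀ s ∈ (convIdeal (GrSyz.irrel (GrSyz.stdGr k (Fin (r + 1))))).toIdeal ^ j,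
      s • x = 0 := by
    intro x
    exact torsion_of_isArtinian_sub (toSub (GrSyz.stdGr k (Fin (r + 1)))) (toSub 𝒩) (hpos k r) _
      (ha k r) ⊤ (fun _ _ _ => Submodule.mem_top) x Submodule.mem_top
  rw [regLE_of_torsion (X := GrLC.GMod.of (toSub (GrSyz.stdGr k (Fin (r + 1)))) N (toSub 𝒩)) htor]
  refine forall_congr' fun n => imp_congr_right fun _ => ?_
  constructor
  · intro h
    rw [eq_bot_iff]
    intro y hy
    have hy' : y ∈ toSub 𝒩 n := hy
    have h' : toSub 𝒩 n = ⊥ := h
    rw [h'] at hy'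
    exact hy'
  · intro h
    show toSub 𝒩 n = ⊥
    rw [eq_bot_iff]
    intro y hy
    have hy' : y ∈ (𝒩 n).toAddSubgroup := hy
    rw [h] at hy'
    exact hy'

end Groth.Agent.S15425
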