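import Groth.Statements.S15427
import Groth.Agent.Lib.Helper66.StdGr
import Groth.Agent.Lib.Helper66.Irredundant

set_option autoImplicit false
universe u
open GrSyz

namespace Groth.Agent.S15427

/-- Let k be a field, S = k[x_0, …, x_r] graded by degree, 𝔪 = (x_0, …, x_r), M a finitely generated
ℤ-graded S-module and F a graded free resolution of M by free modules of finite rank with chosen
homogeneous bases, written as matrices d_i : F_{i+1} → F_i together with the images aug b ∈ M of the
basis of F_0. Then F is a minimal complex (every matrix entry lies in 𝔪) if and only if every map of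
the resolution carries its basis to an irredundant (minimal) family of generators of its image: for
each b, aug b is not in the S-span of the remaining aug b', and for each i and each column of d_i,
that column is not in the S-span of the remaining columns. -/
theorem result (k : Type u) [Field k] (r : ℕ)
    (M : Type u) [AddCommGroup M] [Module k M] [Module (MvPolynomial (Fin (r + 1)) k) M]
    [IsScalarTower k (MvPolynomial (Fin (r + 1)) k) M] [Module.Finite (MvPolynomial (Fin (r + 1)) k) M]
    (ℳ : ℤ → Submodule k M) [DirectSum.Decomposition ℳ] [SetLike.GradedSMul (GrSyz.stdGr k (Fin (r + 1))) ℳ]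
    (F : GrSyz.FreeRes (GrSyz.stdGr k (Fin (r + 1))) ℳ) :
    F.IsMinimal (GrSyz.irrel (GrSyz.stdGr k (Fin (r + 1)))).toIdeal ↔
      ((∀ b : Fin (F.rk 0), F.aug b ∉ Submodule.span (MvPolynomial (Fin (r + 1)) k) (F.aug '' {b' | b' ≠ b})) ∧
        ∀ (i : ℕ) (b : Fin (F.rk (i + 1))),
          (fun a => F.d i a b) ∉ Submodule.span (MvPolynomial (Fin (r + 1)) k) ((fun b' a => F.d i a b') '' {b' | b' ≠ b})) := by
  open Groth.Agent.Lib.Helper66 in
  constructor
  · intro hF
    constructor
    · intro b
      apply notMem_span_of_ker_le F.aug _ (one_notMem_irrel k (Fin (r + 1)))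
      intro w hw a
      rw [F.exact_zero] at hw
      obtain ⟨v, rfl⟩ := hw
      rw [Matrix.mulVecLin_apply, Matrix.mulVec, dotProduct]
      exact Ideal.sum_mem _ fun c _ => Ideal.mul_mem_right _ _ (hF 0 a c)
    · intro i b
      apply notMem_span_of_ker_le (fun b' a => F.d i a b') _ (one_notMem_irrel k (Fin (r + 1)))
      intro w hw a
      rw [← mulVecLin_eq_linearCombination, F.exact_succ i] at hw
      obtain ⟨v, rfl⟩ := hw
      rw [Matrix.mulVecLin_apply, Matrix.mulVec, dotProduct]
      exact Ideal.sum_mem _ fun c _ => Ideal.mul_mem_right _ _ (hF (i + 1) a c)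
  · rintro ⟨h0, h1⟩ i a b
    by_contra hnot
    have hu : IsUnit (F.d i a b) :=
      isUnit_of_mem_stdGr_of_notMem_irrel k (Fin (r + 1)) _ _ (F.d_mem i a b) hnot
    have hcol : (fun a' => F.d i a' b) = Matrix.mulVecLin (F.d i) (Pi.single b 1) := by
      rw [Matrix.mulVecLin_apply, Matrix.mulVec_single_one]
      rfl
    cases i with
    | zero =>
      have hw : (fun a' => F.d 0 a' b) ∈ LinearMap.ker (Fintype.linearCombination (MvPolynomial (Fin (r + 1)) k) F.aug) := by
        rw [F.exact_zero, hcol]
        exact LinearMap.mem_range_self _ _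
      exact h0 a (mem_span_of_ker_unit F.aug _ hw a hu)
    | succ j =>
      have hw : (fun a' => F.d (j + 1) a' b) ∈
          LinearMap.ker (Fintype.linearCombination (MvPolynomial (Fin (r + 1)) k) (fun b' a => F.d j a b')) := by
        rw [← mulVecLin_eq_linearCombination, F.exact_succ j, hcol]
        exact LinearMap.mem_range_self _ _
      exact h1 j a (mem_span_of_ker_unit (fun b' a => F.d j a b') _ hw a hu)

end Groth.Agent.S15427
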