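import Groth.Statements.S1543
import Mathlib
import Groth.Agent.Lib.Helper50.GeomReducedGeneric

set_option autoImplicit false
universe u
open CategoryTheory CategoryTheory.Limits AlgebraicGeometry
open Variety

namespace Groth.Agent.S1543

/-- A reduced scheme over k which is geometrically reduced at every generic point of an irreducible
component is geometrically reduced over k. -/
theorem result (k : Type u) [Field k] (X : Scheme.{u}) [X.Over (Spec (CommRingCat.of k))] [IsReduced X]
    (h : ∀ Z ∈ irreducibleComponents (X : Type u), ∀ η : X, IsGenericPoint η Z → Curv2.IsGeomReducedAt k X η) :
    GeometricallyReduced (X ↘ (Spec (CommRingCat.of k))) := by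
    apply Groth.Agent.Lib.Helper50.geometricallyReduced_of_forall_generic
    intro η hη
    exact h _ hη η (isGenericPoint_def.mpr rfl)

end Groth.Agent.S1543
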