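import Groth.Statements.S15431
import Groth.Agent.Lib.Helper66.StdGr

set_option autoImplicit false
universe u
open GrSyz

namespace Groth.Agent.S15431

/-- Let k be a field, S = k[x_0, …, x_r] graded by degree, 𝔪 = (x_0, …, x_r), M a finitely generated
ℤ-graded S-module and F a minimal graded free resolution of M by free modules of finite rank with
homogeneous bases (all matrix entries in 𝔪), so that its basis degrees give the graded Betti
numbers. If for some i the graded Betti numbers β_{i,j} vanish for all j < d, that is every basis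
vector of F_i has degree at least d, then β_{i+1,j+1} = 0 for all j < d: every basis vector of
F_{i+1} has degree at least d + 1. -/
theorem result (k : Type u) [Field k] (r : ℕ)
    (M : Type u) [AddCommGroup M] [Module k M] [Module (MvPolynomial (Fin (r + 1)) k) M]
    [IsScalarTower k (MvPolynomial (Fin (r + 1)) k) M] [Module.Finite (MvPolynomial (Fin (r + 1)) k) M]
    (ℳ : ℤ → Submodule k M) [DirectSum.Decomposition ℳ] [SetLike.GradedSMul (GrSyz.stdGr k (Fin (r + 1))) ℳ]
    (F : GrSyz.FreeRes (GrSyz.stdGr k (Fin (r + 1))) ℳ) (hF : F.IsMinimal (GrSyz.irrel (GrSyz.stdGr k (Fin (r + 1)))).toIdeal) (i : ℕ) (d : ℤ)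
    (h : ∀ a : Fin (F.rk i), d ≤ F.deg i a) (b : Fin (F.rk (i + 1))) :
    d + 1 ≤ F.deg (i + 1) b := by
  open Groth.Agent.Lib.Helper66 in
  -- some entry of column `b` of `d i` is nonzero
  have hex : ∃ a, F.d i a b ≠ 0 := by
    by_contra hcon
    push_neg at hcon
    have hker : (Pi.single b 1 : Fin (F.rk (i + 1)) → MvPolynomial (Fin (r + 1)) k) ∈
        LinearMap.ker (Matrix.mulVecLin (F.d i)) := by
      rw [LinearMap.mem_ker, Matrix.mulVecLin_apply, Matrix.mulVec_single_one]
      ext a
      simp [hcon a]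
    rw [F.exact_succ i] at hker
    obtain ⟨v, hv⟩ := hker
    have hb := congrFun hv b
    rw [Matrix.mulVecLin_apply, Matrix.mulVec, dotProduct, Pi.single_eq_same] at hb
    have hmem : (∑ c, F.d (i + 1) b c * v c) ∈ (GrSyz.irrel (GrSyz.stdGr k (Fin (r + 1)))).toIdeal :=
      Ideal.sum_mem _ fun c _ => Ideal.mul_mem_right _ _ (hF (i + 1) b c)
    rw [hb] at hmem
    exact one_notMem_irrel k (Fin (r + 1)) hmem
  obtain ⟨a, ha⟩ := hex
  have h1 := one_le_of_mem_stdGr k (Fin (r + 1)) _ _ (F.d_mem i a b)
    (constantCoeff_eq_zero_of_mem_irrel k (Fin (r + 1)) _ (hF i a b)) ha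
  have h2 := h a
  omega

end Groth.Agent.S15431
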