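import Groth.Statements.S15433
import Groth.Agent.S15425
import Groth.Agent.Lib.Helper39.GrLenPoly

set_option autoImplicit false
universe u
open GrSyz

namespace Groth.Agent.S15433

/-- Let k be a field, S = k[x_0, …, x_r] graded by degree, 𝔪 = (x_0, …, x_r), and M = S/I a graded
quotient of S, given with a surjective degree-preserving S-linear map π : S → M whose kernel I
contains no nonzero linear form. Let y_0, …, y_t be linear forms forming a weakly regular sequence
on M (each a non-zerodivisor modulo the previous ones) and N = M/(y_0, …, y_t)M, given as a graded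
module with a surjective degree-preserving S-linear map σ : M → N with kernel (y_0, …, y_t)M, and
suppose N has finite length ℓ. Then reg M + (r − t) ≤ ℓ, reg being the Castelnuovo–Mumford
regularity of M in the sense of minimal graded free resolutions. (The published statement is reg S_X
≤ deg X − codim X for an arithmetically Cohen–Macaulay subvariety X of P^r not contained in a
hyperplane; this row is the algebraic statement its proof establishes, with S_X any graded quotient
of S by an ideal without linear forms, the maximal regular sequence of linear forms given, deg X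
replaced by the length of S_X/(y_0, …, y_t)S_X and codim X by r − t, which agree with the degree and
the codimension in that situation.) -/
theorem result (k : Type u) [Field k] (r : ℕ)
    (M : Type u) [AddCommGroup M] [Module k M] [Module (MvPolynomial (Fin (r + 1)) k) M]
    [IsScalarTower k (MvPolynomial (Fin (r + 1)) k) M] [Module.Finite (MvPolynomial (Fin (r + 1)) k) M]
    (ℳ : ℤ → Submodule k M) [DirectSum.Decomposition ℳ] [SetLike.GradedSMul (GrSyz.stdGr k (Fin (r + 1))) ℳ]
    (π : MvPolynomial (Fin (r + 1)) k →ₗ[MvPolynomial (Fin (r + 1)) k] M) (hπ : Function.Surjective π)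
    (hπg : GrLC.IsGrHom (GrSyz.stdGr k (Fin (r + 1))) ℳ π)
    (hlin : ∀ x : MvPolynomial (Fin (r + 1)) k, x ∈ GrSyz.stdGr k (Fin (r + 1)) 1 → π x = 0 → x = 0)
    (ys : List (MvPolynomial (Fin (r + 1)) k)) (hys : ∀ y ∈ ys, y ∈ GrSyz.stdGr k (Fin (r + 1)) 1)
    (hreg : RingTheory.Sequence.IsWeaklyRegular M ys)
    (N : Type u) [AddCommGroup N] [Module k N] [Module (MvPolynomial (Fin (r + 1)) k) N]
    [IsScalarTower k (MvPolynomial (Fin (r + 1)) k) N]
    (𝒩 : ℤ → Submodule k N) [DirectSum.Decomposition 𝒩] [SetLike.GradedSMul (GrSyz.stdGr k (Fin (r + 1))) 𝒩]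
    (σ : M →ₗ[MvPolynomial (Fin (r + 1)) k] N) (hσ : Function.Surjective σ) (hσg : GrLC.IsGrHom ℳ 𝒩 σ)
    (hker : LinearMap.ker σ = Ideal.ofList ys • (⊤ : Submodule (MvPolynomial (Fin (r + 1)) k) M))
    (ℓ : ℕ) (hℓ : Module.length (MvPolynomial (Fin (r + 1)) k) N = (ℓ : ℕ∞)) :
    GrSyz.reg (GrSyz.stdGr k (Fin (r + 1))) ℳ (GrSyz.irrel (GrSyz.stdGr k (Fin (r + 1)))).toIdeal + ((((r : ℤ) + 1 - (ys.length : ℤ) : ℤ) : WithTop ℤ) : WithBot (WithTop ℤ)) ≤
      (((ℓ : ℤ) : WithTop ℤ) : WithBot (WithTop ℤ)) := by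
  classical
  open Groth.Agent.Lib.Helper39 Groth.Agent.Lib.Helper39.GrBridge Groth.Agent.Lib.Helper39.GrQuasi
    Groth.Agent.Lib.Helper39.GrEGPoly Groth.Agent.Lib.Helper39.GrLenPoly in
  letI iR := toSubGradedRing (GrSyz.stdGr k (Fin (r + 1)))
  letI iM := toSubDecomposition ℳ
  letI iN := toSubDecomposition 𝒩
  haveI sM := toSubGradedSMul (GrSyz.stdGr k (Fin (r + 1))) ℳ
  haveI sN := toSubGradedSMul (GrSyz.stdGr k (Fin (r + 1))) 𝒩
  haveI : Module.Finite (MvPolynomial (Fin (r + 1)) k) N := Module.Finite.of_surjective σ hσ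
  have hN : IsFiniteLength (MvPolynomial (Fin (r + 1)) k) N := by
    rw [← Module.length_ne_top_iff, hℓ]
    exact ENat.coe_ne_top ℓ
  rw [Groth.Agent.S15425.result k r M ℳ ys hys hreg N 𝒩 σ hσ hσg hker hN]
  rw [add_coe_le_iff, endDeg_le_iff]
  -- the composite presentation of `N`
  set φ : MvPolynomial (Fin (r + 1)) k →ₗ[MvPolynomial (Fin (r + 1)) k] N := σ ∘ₗ π with hφdef
  have hφ : Function.Surjective φ := hσ.comp hπ
  have hφg : GrLC.IsGrHom (GrSyz.stdGr k (Fin (r + 1))) 𝒩 φ := fun i m hm => hσg i _ (hπg i m hm)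
  -- degree one part of the kernel
  have hspan1 : Submodule.span k {y | y ∈ ys} ≤ GrSyz.stdGr k (Fin (r + 1)) 1 :=
    Submodule.span_le.mpr fun y hy => hys y hy
  have hclaim : ∀ z ∈ Ideal.ofList ys • (⊤ : Submodule (MvPolynomial (Fin (r + 1)) k) M),
      ∃ w ∈ Submodule.span k {y | y ∈ ys}, π w = (DirectSum.decompose (toSub ℳ) z 1 : M) := by
    intro z hz
    refine Submodule.smul_induction_on hz ?_ ?_
    · intro s hs m hm
      have hs' : s ∈ Ideal.span {y | y ∈ ys} := hs
      clear hs hm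
      induction hs' using Submodule.span_induction generalizing m with
      | mem y hy =>
        have hy1 : y ∈ toSub (GrSyz.stdGr k (Fin (r + 1))) 1 := hys y hy
        have h1 := Groth.Agent.Lib.Helper39.decompose_smul_of_mem
          (toSub (GrSyz.stdGr k (Fin (r + 1)))) (toSub ℳ) hy1 m 0
        have h0 : (DirectSum.decompose (toSub ℳ) m 0 : M) ∈ ℳ 0 := SetLike.coe_mem _
        obtain ⟨p, hp, hpm⟩ := exists_piece ℳ π hπ hπg 0 _ h0
        have hC := Groth.Agent.Lib.Helper66.BettiUniq.eq_C_of_mem_stdGr_zero p hp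
        refine ⟨(MvPolynomial.constantCoeff p) • y,
          Submodule.smul_mem _ _ (Submodule.subset_span hy), ?_⟩
        have e1 : (1 : ℤ) + 0 = 1 := by norm_num
        rw [e1] at h1
        rw [h1, ← hpm, ← map_smul, smul_eq_mul]
        congr 1
        rw [MvPolynomial.smul_eq_C_mul, mul_comm]
        conv_rhs => rw [hC]
      | zero =>
        refine ⟨0, zero_mem _, ?_⟩
        rw [zero_smul, DirectSum.decompose_zero, map_zero]
        rfl
      | add s₁ s₂ _ _ h₁ h₂ =>
        obtain ⟨w₁, hw₁, e₁⟩ := h₁ m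
        obtain ⟨w₂, hw₂, e₂⟩ := h₂ m
        refine ⟨w₁ + w₂, add_mem hw₁ hw₂, ?_⟩
        rw [add_smul, DirectSum.decompose_add, DirectSum.add_apply, AddSubgroup.coe_add, map_add,
          e₁, e₂]
      | smul a s' _ h' =>
        obtain ⟨w, hw, e⟩ := h' (a • m)
        refine ⟨w, hw, ?_⟩
        rw [e, smul_eq_mul, mul_comm, mul_smul]
    · rintro z₁ z₂ ⟨w₁, hw₁, e₁⟩ ⟨w₂, hw₂, e₂⟩
      refine ⟨w₁ + w₂, add_mem hw₁ hw₂, ?_⟩
      rw [DirectSum.decompose_add, DirectSum.add_apply, AddSubgroup.coe_add, map_add, e₁, e₂]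
  have hK : ∀ x ∈ GrSyz.stdGr k (Fin (r + 1)) 1, φ x = 0 →
      x ∈ Submodule.span k {y | y ∈ ys} := by
    intro x hx hx0
    have hmem : π x ∈ LinearMap.ker σ := hx0
    rw [hker] at hmem
    obtain ⟨w, hw, e⟩ := hclaim _ hmem
    have hπx : π x ∈ toSub ℳ 1 := hπg 1 x hx
    rw [DirectSum.decompose_of_mem_same (toSub ℳ) hπx] at e
    have hsub : x - w ∈ GrSyz.stdGr k (Fin (r + 1)) 1 := sub_mem hx (hspan1 hw)
    have h0 := hlin (x - w) hsub (by rw [map_sub, e, sub_self])
    rw [sub_eq_zero] at h0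
    rw [h0]
    exact hw
  -- the main estimate
  intro n hn
  by_contra hne
  have hne' : 𝒩 n ≠ ⊥ := by
    intro h
    apply hne
    rw [h]
    rfl
  have hn0 : 0 ≤ n := by
    by_contra hlt
    exact hne' (piece_eq_bot_of_neg 𝒩 φ hφ hφg n (by omega))
  rcases eq_or_lt_of_le hn0 with h0 | hpos'
  · subst h0
    by_cases h1 : 𝒩 1 = ⊥
    · obtain ⟨hfin, hdim⟩ := finrank_piece_one 𝒩 φ hφ hφg ys hK
      rw [h1] at hdim
      rw [finrank_bot] at hdim
      omega
    · have hb := Groth.Agent.Lib.Helper39.GrLenPoly.length_ge 𝒩 φ hφ hφg ys hK 1 le_rfl (by exact_mod_cast h1)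
      rw [hℓ] at hb
      have hb' : 1 + (r + 1 - ys.length) ≤ ℓ := by exact_mod_cast hb
      omega
  · have hb := Groth.Agent.Lib.Helper39.GrLenPoly.length_ge 𝒩 φ hφ hφg ys hK n.toNat (by omega) (by
      rw [Int.toNat_of_nonneg hn0]
      exact hne')
    rw [hℓ] at hb
    have hb' : n.toNat + (r + 1 - ys.length) ≤ ℓ := by exact_mod_cast hb
    omega

end Groth.Agent.S15433
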