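import Groth.Statements.S15434
import Groth.Agent.Lib.Helper94.PnFreeSheaf
import Groth.Agent.Lib.Helper94.GrTildeExact
import Groth.Agent.Lib.Helper38.HHChase
import Groth.Agent.Lib.Helper38.SerreVanishPn
import Groth.Agent.Lib.Helper49.QCohLocal
import Groth.Agent.Lib.Helper11.TensorQCoh
import Groth.Agent.S0022

set_option autoImplicit false
universe u
open GrSyz

namespace Groth.Agent.S15434

open CategoryTheory CategoryTheory.Limits AlgebraicGeometry
open Groth.Agent.Lib.Helper94.GrTildeMap Groth.Agent.Lib.Helper94.GrTildeExact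
  Groth.Agent.Lib.Helper94.PnFreeGr Groth.Agent.Lib.Helper94.PnFreeSheaf
  Groth.Agent.Lib.Helper38.SerreVanishPn Groth.Agent.Lib.Helper17

section General

variable {X : Scheme.{u}}

/-- from an exact pair `X₁ ⟶ X₂ ⟶ X₃` the short exact sequence `0 → ker f → X₁ → ker g → 0`. -/
theorem shortExact_kernel_lift (S : ShortComplex X.Modules) (hS : S.Exact) :
    (ShortComplex.mk (kernel.ι S.f) (kernel.lift S.g S.f S.zero)
      (by rw [← cancel_mono (kernel.ι S.g), Category.assoc, kernel.lift_ι, kernel.condition,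
        zero_comp])).ShortExact := by
  have hepi : Epi (kernel.lift S.g S.f S.zero) := hS.epi_kernelLift
  refine ShortComplex.ShortExact.mk' ?_ (inferInstanceAs (Mono (kernel.ι S.f))) hepi
  exact ShortComplex.exact_of_f_is_kernel _
    (isKernelOfComp (kernel.ι S.g) S.f (kernelIsKernel S.f) _ (kernel.lift_ι _ _ _))

/-- the short exact sequence `0 → ker p → F → G → 0` of an epimorphism. -/
theorem shortExact_kernel_of_epi {F G : X.Modules} (p : F ⟶ G) [Epi p] :
    (ShortComplex.mk (kernel.ι p) p (kernel.condition p)).ShortExact :=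
  { exact := ShortComplex.exact_of_f_is_kernel _ (kernelIsKernel p)
    mono_f := inferInstanceAs (Mono (kernel.ι p))
    epi_g := inferInstanceAs (Epi p) }

end General

section Chain

variable (k : Type u) [Field k] (r : ℕ)

/-- `H^i(P^r_k, F(m)) = 0`. -/
def V (F : (CohB1.ProjSpace r k).Modules) (m : ℤ) (i : ℕ) : Prop :=
  Subsingleton (Coh.HH (CohB1.ProjSpace r k) (CohB1.tensorMod F (Twist.twistProjSpace r k m)) i)

variable {k r}

theorem V_right {S : ShortComplex (CohB1.ProjSpace r k).Modules} (hS : S.ShortExact) (m : ℤ)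
    (i : ℕ) (h2 : V k r S.X₂ m i) (h1 : V k r S.X₁ m (i + 1)) : V k r S.X₃ m i :=
  Groth.Agent.Lib.Helper38.HHChase.subsingleton_HH_right (shortExact_tw r k m hS) i h2 h1

theorem V_of_qcoh (F : (CohB1.ProjSpace r k).Modules) (hF : F.IsQuasicoherent) (m : ℤ) (i : ℕ)
    (hi : r < i) : V k r F m i := by
  haveI := hF
  haveI : Coh.IsQCoh (CohB1.tensorMod F (Twist.twistProjSpace r k m)) :=
    (Groth.Agent.Lib.Helper11.TildeTensor.isQuasicoherent_tensorMod F
      (Twist.twistProjSpace r k m)).1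
  exact Groth.Agent.S0022.result r k (CohB1.tensorMod F (Twist.twistProjSpace r k m)) i hi

/-- the abstract chain argument. -/
theorem chain (P K : ℕ → (CohB1.ProjSpace r k).Modules) (d : ℤ)
    (f : ∀ j, K (j + 1) ⟶ P j) (g : ∀ j, P j ⟶ K j) (w : ∀ j, f j ≫ g j = 0)
    (hS : ∀ j, (ShortComplex.mk (f j) (g j) (w j)).ShortExact)
    (hK : ∀ j, 2 ≤ j → (K j).IsQuasicoherent)
    (hP : ∀ j i : ℕ, 1 ≤ i → V k r (P j) (d + j - i) i) :
    ∀ (s j i : ℕ), 1 ≤ i → 2 ≤ j + s → r < i + s → V k r (K j) (d + j - i) i := by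
  intro s
  induction s with
  | zero =>
    intro j i _ hj hi'
    exact V_of_qcoh (K j) (hK j (by omega)) _ i (by omega)
  | succ s ih =>
    intro j i hi hj hi'
    have h1 := ih (j + 1) (i + 1) (by omega) (by omega) (by omega)
    have e : d + ((j + 1 : ℕ) : ℤ) - ((i + 1 : ℕ) : ℤ) = d + j - i := by push_cast; ring
    rw [e] at h1
    exact V_right (hS j) (d + j - i) i (hP j i hi) h1

end Chain

section Main

variable (k : Type u) [Field k] (r : ℕ)
  {M : Type u} [AddCommGroup M] [Module k M] [Module (MvPolynomial (Fin (r + 1)) k) M]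
  (ℳ : ℤ → Submodule k M) [DirectSum.Decomposition ℳ]
  [SetLike.GradedSMul (GrSyz.stdGr k (Fin (r + 1))) ℳ]
  [SetLike.GradedSMul (CohB1.polyGrading r k) (fun n : ℕ => ℳ (n : ℤ))]
  (F : GrSyz.FreeRes (GrSyz.stdGr k (Fin (r + 1))) ℳ)

/-- `M~`. -/
noncomputable def Mt : (CohB1.ProjSpace r k).Modules :=
  GrTilde.tilde (CohB1.polyGrading r k) (fun n : ℕ => ℳ (n : ℤ)) 0

/-- `F_j~`. -/
noncomputable def Pt (j : ℕ) : (CohB1.ProjSpace r k).Modules := freeSh k r (F.deg j)

/-- the differentials. -/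
noncomputable def dlt (j : ℕ) : Pt k r ℳ F (j + 1) ⟶ Pt k r ℳ F j :=
  tildeMap (CohB1.polyGrading r k)
    (isGr_mulVecLin k r (F.deg j) (F.deg (j + 1)) (F.d_mem j)) 0

/-- the augmentation. -/
noncomputable def eps : Pt k r ℳ F 0 ⟶ Mt k r ℳ :=
  tildeMap (CohB1.polyGrading r k) (isGr_aug k r (F.deg 0) ℳ F.aug F.aug_mem) 0

theorem comp_d_zero (j : ℕ) :
    (Matrix.mulVecLin (F.d j)).comp (Matrix.mulVecLin (F.d (j + 1))) = 0 := by
  apply LinearMap.range_le_ker_iff.mp
  rw [F.exact_succ j]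

theorem comp_aug_zero :
    (Fintype.linearCombination (MvPolynomial (Fin (r + 1)) k) F.aug).comp
      (Matrix.mulVecLin (F.d 0)) = 0 := by
  apply LinearMap.range_le_ker_iff.mp
  rw [F.exact_zero]

theorem dlt_comp_dlt (j : ℕ) : dlt k r ℳ F (j + 1) ≫ dlt k r ℳ F j = 0 :=
  tildeMap_comp_eq_zero (CohB1.polyGrading r k) _ _ (comp_d_zero k r ℳ F j) 0

theorem dlt_comp_eps : dlt k r ℳ F 0 ≫ eps k r ℳ F = 0 :=
  tildeMap_comp_eq_zero (CohB1.polyGrading r k) _ _ (comp_aug_zero k r ℳ F) 0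

theorem exact_dlt (j : ℕ) :
    (ShortComplex.mk (dlt k r ℳ F (j + 1)) (dlt k r ℳ F j) (dlt_comp_dlt k r ℳ F j)).Exact := by
  refine exact_tildeMap (CohB1.polyGrading r k)
    (isGr_mulVecLin k r (F.deg (j + 1)) (F.deg (j + 2)) (F.d_mem (j + 1)))
    (isGr_mulVecLin k r (F.deg j) (F.deg (j + 1)) (F.d_mem j))
    (comp_d_zero k r ℳ F j) ?_ (hann_free k r (F.deg j)) 0
  intro i y hy h0
  have hmem : y ∈ LinearMap.range (Matrix.mulVecLin (F.d (j + 1))) := by
    rw [← F.exact_succ j]; exact h0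
  exact exists_homog_preimage k r (F.deg (j + 1)) (F.deg (j + 2)) (F.d_mem (j + 1)) hy hmem

theorem exact_eps :
    (ShortComplex.mk (dlt k r ℳ F 0) (eps k r ℳ F) (dlt_comp_eps k r ℳ F)).Exact := by
  refine exact_tildeMap (CohB1.polyGrading r k)
    (isGr_mulVecLin k r (F.deg 0) (F.deg 1) (F.d_mem 0))
    (isGr_aug k r (F.deg 0) ℳ F.aug F.aug_mem)
    (comp_aug_zero k r ℳ F) ?_ (fun x i p hp u hu h => hann_module k r ℳ x i p hp u hu h) 0
  intro i y hy h0
  have hmem : y ∈ LinearMap.range (Matrix.mulVecLin (F.d 0)) := by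
    rw [← F.exact_zero]; exact h0
  exact exists_homog_preimage k r (F.deg 0) (F.deg 1) (F.d_mem 0) hy hmem

instance epi_eps : Epi (eps k r ℳ F) := by
  refine epi_tildeMap (CohB1.polyGrading r k) (isGr_aug k r (F.deg 0) ℳ F.aug F.aug_mem) ?_ 0
  intro i y hy
  exact exists_homog_preimage_aug k r (F.deg 0) ℳ F.aug F.aug_mem hy
    (LinearMap.range_eq_top.mpr F.aug_surjective ▸ Submodule.mem_top)

/-- targets of the differentials. -/
noncomputable def Q : ℕ → (CohB1.ProjSpace r k).Modules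
  | 0 => Mt k r ℳ
  | (j + 1) => Pt k r ℳ F j

/-- all differentials, including the augmentation. -/
noncomputable def δ : ∀ j : ℕ, Pt k r ℳ F j ⟶ Q k r ℳ F j
  | 0 => eps k r ℳ F
  | (j + 1) => dlt k r ℳ F j

theorem w : ∀ j : ℕ, dlt k r ℳ F j ≫ δ k r ℳ F j = 0
  | 0 => dlt_comp_eps k r ℳ F
  | (j + 1) => dlt_comp_dlt k r ℳ F j

theorem hexact : ∀ j : ℕ,
    (ShortComplex.mk (dlt k r ℳ F j) (δ k r ℳ F j) (w k r ℳ F j)).Exact
  | 0 => exact_eps k r ℳ F
  | (j + 1) => exact_dlt k r ℳ F j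

/-- the syzygy sheaves. -/
noncomputable def K : ℕ → (CohB1.ProjSpace r k).Modules
  | 0 => Mt k r ℳ
  | (j + 1) => kernel (δ k r ℳ F j)

noncomputable def ff (j : ℕ) : K k r ℳ F (j + 1) ⟶ Pt k r ℳ F j := kernel.ι (δ k r ℳ F j)

noncomputable def gg : ∀ j : ℕ, Pt k r ℳ F j ⟶ K k r ℳ F j
  | 0 => eps k r ℳ F
  | (j + 1) => kernel.lift (δ k r ℳ F j) (dlt k r ℳ F j) (w k r ℳ F j)

theorem ww : ∀ j : ℕ, ff k r ℳ F j ≫ gg k r ℳ F j = 0
  | 0 => kernel.condition (eps k r ℳ F)
  | (j + 1) => by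
    show kernel.ι (dlt k r ℳ F j) ≫ kernel.lift (δ k r ℳ F j) (dlt k r ℳ F j) (w k r ℳ F j) = 0
    rw [← cancel_mono (kernel.ι (δ k r ℳ F j)), Category.assoc, kernel.lift_ι, kernel.condition,
      zero_comp]

theorem ses : ∀ j : ℕ,
    (ShortComplex.mk (ff k r ℳ F j) (gg k r ℳ F j) (ww k r ℳ F j)).ShortExact
  | 0 => shortExact_kernel_of_epi (eps k r ℳ F)
  | (j + 1) => shortExact_kernel_lift
      (ShortComplex.mk (dlt k r ℳ F j) (δ k r ℳ F j) (w k r ℳ F j)) (hexact k r ℳ F j)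

theorem isQuasicoherent_Pt (j : ℕ) : (Pt k r ℳ F j).IsQuasicoherent :=
  (isCoh_freeSh k r (F.deg j)).1

theorem isQuasicoherent_K : ∀ j : ℕ, 2 ≤ j → (K k r ℳ F j).IsQuasicoherent
  | 0, h => absurd h (by omega)
  | 1, h => absurd h (by omega)
  | (j + 2), _ => Groth.Agent.Lib.Helper49.isQuasicoherent_kernel (dlt k r ℳ F j)
      (isQuasicoherent_Pt k r ℳ F (j + 1)) (isQuasicoherent_Pt k r ℳ F j)

end Main


/-- Let k be a field, S = k[x_0, …, x_r] graded by degree, 𝔪 = (x_0, …, x_r), and M a finitely generated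
ℤ-graded S-module; M̃ denotes the O-module on P^r_k associated with the pieces of M of non-negative
degree (it depends only on the pieces of large degree). If the Castelnuovo–Mumford regularity of M
in the sense of minimal graded free resolutions is at most d, then the sheaf M̃ is d-regular:
H^i(P^r_k, M̃(d − i)) = 0 for 1 ≤ i ≤ r. In words, reg M̃ ≤ reg M. (The published statement also
asserts that equality holds exactly when M is the module of twisted global sections of M̃; that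
characterisation fails in the 'only if' direction, for instance for M = S ⊕ k, and only the
inequality is stated here.) -/
theorem result (k : Type u) [Field k] (r : ℕ)
    (M : Type u) [AddCommGroup M] [Module k M] [Module (MvPolynomial (Fin (r + 1)) k) M]
    [IsScalarTower k (MvPolynomial (Fin (r + 1)) k) M] [Module.Finite (MvPolynomial (Fin (r + 1)) k) M]
    (ℳ : ℤ → Submodule k M) [DirectSum.Decomposition ℳ] [SetLike.GradedSMul (GrSyz.stdGr k (Fin (r + 1))) ℳ]
    [SetLike.GradedSMul (CohB1.polyGrading r k) (fun n : ℕ => ℳ (n : ℤ))] (d : ℤ)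
    (hd : GrSyz.IsRegLE (GrSyz.stdGr k (Fin (r + 1))) ℳ (GrSyz.irrel (GrSyz.stdGr k (Fin (r + 1)))).toIdeal d) :
    Curv2.IsMRegular k r (GrTilde.tilde (CohB1.polyGrading r k) (fun n : ℕ => ℳ (n : ℤ)) 0) d := by
  obtain ⟨F, -, hgen⟩ := hd
  intro i hi _
  have hP : ∀ j i : ℕ, 1 ≤ i → V k r (Pt k r ℳ F j) (d + j - i) i := by
    intro j i hi
    refine subsingleton_HH_freeSh k r (F.deg j) (d + j - i) i hi ?_
    intro b
    have := hgen j b
    omega
  have h := chain (Pt k r ℳ F) (K k r ℳ F) d (ff k r ℳ F) (gg k r ℳ F) (ww k r ℳ F)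
    (ses k r ℳ F) (isQuasicoherent_K k r ℳ F) hP (r + 2) 0 i hi (by omega) (by omega)
  have e : d + ((0 : ℕ) : ℤ) - (i : ℤ) = d - i := by push_cast; ring
  rw [e] at h
  exact h

end Groth.Agent.S15434
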