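import Groth.Statements.S1544
import Mathlib
import Groth.Agent.Lib.Helper50.GeomReducedScheme

set_option autoImplicit false
universe u
open CategoryTheory CategoryTheory.Limits AlgebraicGeometry
attribute [local instance] Curv2.resAlgebra Curv2.stalkAlgebra
open Variety

namespace Groth.Agent.S1544

/-- For an integral scheme over k, geometric reducedness of the scheme is equivalent to geometric
reducedness over k of the function field (the local ring at the generic point), i.e. a separable
extension of k in the sense of commutative algebra. The source states this for varieties;
integrality is what the proof uses. -/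
theorem result (k : Type u) [Field k] (X : Scheme.{u}) [X.Over (Spec (CommRingCat.of k))] [IsIntegral X] :
    GeometricallyReduced (X ↘ (Spec (CommRingCat.of k))) ↔ Algebra.IsGeometricallyReduced k X.functionField := by
    constructor
    · intro h
      exact Groth.Agent.Lib.Helper50.isGeometricallyReduced_stalk_of_geometricallyReduced
        (X ↘ Spec (CommRingCat.of k)) (genericPoint X) (Curv2.stalkMap k X (genericPoint X))
        (Groth.Agent.Lib.Helper50.specMap_stalkMap_eq k (genericPoint X))
    · intro h
      apply Groth.Agent.Lib.Helper50.geometricallyReduced_of_forall_stalk
      intro x
      refine ⟨Curv2.stalkMap k X x, Groth.Agent.Lib.Helper50.specMap_stalkMap_eq k x, ?_⟩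
      have hsp : genericPoint X ⤳ x := (genericPoint_spec X).specializes trivial
      have hcompat : Curv2.stalkMap k X (genericPoint X) =
          (X.presheaf.stalkSpecializes hsp).hom.comp (Curv2.stalkMap k X x) := by
        have := X.presheaf.germ_stalkSpecializes (U := ⊤) (y := x) trivial hsp
        ext a
        simp only [Curv2.stalkMap, RingHom.comp_apply]
        exact (congrArg (fun t => t.hom (Coh.toGlobal (X ↘ Spec (CommRingCat.of k)) a)) this).symm
      let ψ : X.presheaf.stalk x →ₐ[k] X.functionField :=
        { (X.presheaf.stalkSpecializes hsp).hom with
          commutes' := fun a => (congrArg (fun t => t a) hcompat).symm }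
      have hinj : Function.Injective ψ :=
        IsFractionRing.injective (X.presheaf.stalk x) X.functionField
      exact Algebra.IsGeometricallyReduced.of_injective ψ hinj

end Groth.Agent.S1544
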