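import Groth.Statements.S15459
import Mathlib
import Groth.Agent.Lib.Helper97.VarTrdeg

set_option autoImplicit false
universe u v
open CategoryTheory AlgebraicGeometry
open WeilCoh

namespace Groth.Agent.S15459

open Groth.Agent.Lib.Helper97.VarDim Groth.Agent.Lib.Helper97.VarPt
  Groth.Agent.Lib.Helper97.VarTrdeg in
/-- The degree of a zero-cycle is the sum of its coefficients, and so is the trace of its class. -/
theorem deg_and_tr (k : Type u) [Field k] [IsAlgClosed k] (K : Type v) [Field K] [CharZero K]
    (T : WeilCoh.Theory k K) (X : WeilCoh.Var k) [QuasiCompact X.obj.hom]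
    (δ : ↥X.obj.left → ℤ) (hδ : Cyc.DeltaCompat X.obj.hom δ (fun _ => 0))
    (α : AlgebraicCycle X.obj.left ℤ) (hα : α ∈ Cyc.Zk X.obj.left δ 0) :
    ChowOps.deg X.obj.hom δ α = ∑ᶠ x : X.obj.left, α x ∧
      T.tr X (T.clCyc X α) = ∑ᶠ x : X.obj.left, ((α x : ℤ) : K) ∧
      (Function.support (fun x : X.obj.left => α x)).Finite := by
  classical
  have hcpt : CompactSpace X.obj.left := var_compactSpace k X
  have hfin : (Function.support (fun x : X.obj.left => α x)).Finite := by
    have := α.locallyFiniteSupport.finite_inter_support_of_isCompact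
      (isCompact_univ (X := X.obj.left))
    simpa using this
  have hzero : ∀ x : X.obj.left, α x ≠ 0 → δ x = 0 := by
    intro x hx
    by_contra h
    exact hx (hα x h)
  refine ⟨?_, ?_, hfin⟩
  · show (∑ᶠ x ∈ X.obj.hom ⁻¹' {IsLocalRing.closedPoint k},
      α x * ((AlgebraicCycle.mapCoeff X.obj.hom δ (fun _ => (0 : ℤ)) x : ℕ) : ℤ)) = _
    have hset : (X.obj.hom ⁻¹' {IsLocalRing.closedPoint k} : Set X.obj.left) = Set.univ := by
      rw [Set.eq_univ_iff_forall]
      intro x
      show X.obj.hom x = IsLocalRing.closedPoint k
      have hsub : Subsingleton (PrimeSpectrum k) := inferInstance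
      exact Subsingleton.elim (α := PrimeSpectrum k) _ _
    rw [hset, finsum_mem_univ]
    apply finsum_congr
    intro x
    by_cases hx : α x = 0
    · rw [hx, zero_mul]
    · have h0 := hzero x hx
      have hd := (var_of_delta_eq_zero k X δ hδ x h0).1
      unfold AlgebraicCycle.mapCoeff
      rw [if_pos (by simpa using h0), hd]
      simp
  · unfold WeilCoh.TheoryOn.clCyc
    have hsupp : (Function.support (fun ξ : X.obj.left => ((α ξ : ℤ) : K) • T.cl X ξ)).Finite := by
      refine hfin.subset ?_
      intro ξ hξ
      simp only [Function.mem_support, ne_eq] at hξ ⊢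
      intro h
      apply hξ
      rw [h, Int.cast_zero, zero_smul]
    rw [map_finsum (T.tr X) hsupp]
    apply finsum_congr
    intro ξ
    by_cases hx : α ξ = 0
    · rw [hx, Int.cast_zero, zero_smul, map_zero]
    · have h0 := hzero ξ hx
      obtain ⟨hd, hp⟩ := var_of_delta_eq_zero k X δ hδ ξ h0
      rw [map_smul, tr_cl_of_pdim_eq_zero T X ξ hp hd, smul_eq_mul, mul_one]


/-- In the case r = 1, to which the general case reduces once the cycle class map is known to be a ring
homomorphism: for a Weil cohomology theory H^* (coefficients in K of characteristic zero, on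
nonsingular connected projective varieties over an algebraically closed field k), such a variety X
and a 0-cycle α on X, the intersection number (α) = deg(α) equals Tr_X(cl(α)). The dimension
function δ on X is the one induced from weight 0 on Spec k and deg is the degree of 0-cycles over k. -/
theorem result (k : Type u) [Field k] [IsAlgClosed k] (K : Type v) [Field K] [CharZero K]
    (T : WeilCoh.Theory k K) (X : WeilCoh.Var k) [QuasiCompact X.obj.hom]
    (δ : ↥X.obj.left → ℤ) (hδ : Cyc.DeltaCompat X.obj.hom δ (fun _ => 0))
    (α : AlgebraicCycle X.obj.left ℤ) (hα : α ∈ Cyc.Zk X.obj.left δ 0) :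
    (ChowOps.deg X.obj.hom δ α : K) = T.tr X (T.clCyc X α) := by
  obtain ⟨h1, h2, hfin⟩ := deg_and_tr k K T X δ hδ α hα
  rw [h1, h2]
  exact map_finsum (Int.castRingHom K) hfin

end Groth.Agent.S15459
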