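import Groth.Statements.S15441
import Mathlib
import Groth.Agent.Lib.Helper97.VarTrdeg
import Groth.Agent.S15459

set_option autoImplicit false
universe u v
open WeilCoh

namespace Groth.Agent.S15441

open AlgebraicGeometry CategoryTheory in
/-- Let k be an algebraically closed field of characteristic zero, K a field of characteristic zero and
T a Weil cohomology theory over k with coefficients in K, defined on connected smooth projective
varieties over k; let X be such a variety, δ the weight function on X induced from weight 0 on the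
point Spec k, and α a zero-cycle on X for δ. Then α is homologically equivalent to zero for T, i.e.
its cycle class in the cohomology of X vanishes, if and only if the degree of α over k is zero. -/
theorem result (k : Type u) [Field k] [IsAlgClosed k]
    [CharZero k] (K : Type v) [Field K] [CharZero K] (T : WeilCoh.Theory k K) (X : WeilCoh.Var k)
    [QuasiCompact X.obj.hom] (δ : ↥X.obj.left → ℤ) (hδ : Cyc.DeltaCompat X.obj.hom δ (fun _ => 0))
    (α : AlgebraicCycle X.obj.left ℤ) (hα : α ∈ Cyc.Zk X.obj.left δ 0) :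
    T.IsHomEquivZero X α ↔ ChowOps.deg X.obj.hom δ α = 0 := by
  classical
  obtain ⟨h1, h2, hfin⟩ := Groth.Agent.S15459.deg_and_tr k K T X δ hδ α hα
  have hcast : ((∑ᶠ x : X.obj.left, α x : ℤ) : K) = ∑ᶠ x : X.obj.left, ((α x : ℤ) : K) :=
    map_finsum (Int.castRingHom K) hfin
  have hzero : ∀ x : X.obj.left, α x ≠ 0 → δ x = 0 := by
    intro x hx
    by_contra h
    exact hx (hα x h)
  unfold WeilCoh.TheoryOn.IsHomEquivZero
  constructor
  · intro h
    rw [h, map_zero, ← hcast] at h2
    rw [h1]
    exact_mod_cast h2.symm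
  · intro h
    rw [h1] at h
    unfold WeilCoh.TheoryOn.clCyc
    by_cases hne : ∃ ξ₀ : X.obj.left, α ξ₀ ≠ 0
    · obtain ⟨ξ₀, hξ₀⟩ := hne
      have hfinX : topologicalKrullDim X.obj.left < ⊤ :=
        Groth.Agent.Lib.Helper97.VarDim.var_dim_lt_top k X
      have hcl : ∀ ξ : X.obj.left, α ξ ≠ 0 → T.cl X ξ = T.cl X ξ₀ := by
        intro ξ hξ
        have key : ∀ ζ : X.obj.left, α ζ ≠ 0 →
            T.cl X ζ ∈ T.gr X (2 * (WeilCoh.dim X.obj.left : ℤ)) ∧ T.tr X (T.cl X ζ) = 1 := by
          intro ζ hζ
          obtain ⟨hd, hp⟩ :=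
            Groth.Agent.Lib.Helper97.VarTrdeg.var_of_delta_eq_zero k X δ hδ ζ (hzero ζ hζ)
          refine ⟨?_, Groth.Agent.Lib.Helper97.VarTrdeg.tr_cl_of_pdim_eq_zero T X ζ hp hd⟩
          have hc : (WeilCoh.codim X.obj.left ζ : ℤ) = (WeilCoh.dim X.obj.left : ℤ) := by
            unfold WeilCoh.codim
            rw [hp]; simp
          rw [← hc]
          exact T.cl_mem X ζ
        obtain ⟨m1, t1⟩ := key ξ hξ
        obtain ⟨m2, t2⟩ := key ξ₀ hξ₀
        have hinj := (T.tr_bijective X).1
        have : (⟨T.cl X ξ, m1⟩ : T.gr X (2 * (WeilCoh.dim X.obj.left : ℤ))) =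
            ⟨T.cl X ξ₀, m2⟩ := by
          apply hinj
          show T.tr X (T.cl X ξ) = T.tr X (T.cl X ξ₀)
          rw [t1, t2]
        exact congrArg Subtype.val this
      have hrew : (fun ξ : X.obj.left => ((α ξ : ℤ) : K) • T.cl X ξ) =
          fun ξ : X.obj.left => ((α ξ : ℤ) : K) • T.cl X ξ₀ := by
        funext ξ
        by_cases hx : α ξ = 0
        · rw [hx, Int.cast_zero, zero_smul, zero_smul]
        · rw [hcl ξ hx]
      rw [hrew, ← finsum_smul, ← hcast, h, Int.cast_zero, zero_smul]
    · have hall : ∀ ξ : X.obj.left, α ξ = 0 := by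
        intro ξ
        by_contra hξ
        exact hne ⟨ξ, hξ⟩
      have hrew : (fun ξ : X.obj.left => ((α ξ : ℤ) : K) • T.cl X ξ) = fun _ => 0 := by
        funext ξ
        rw [hall ξ, Int.cast_zero, zero_smul]
      rw [hrew, finsum_zero]

end Groth.Agent.S15441
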