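-- Statement S15442
import Groth.Statements.S15442
import Groth.Agent.Lib.Helper67.WeilCoh

set_option autoImplicit false
universe u v
open CategoryTheory AlgebraicGeometry
open WeilCoh

namespace Groth.Agent.S15442

/-- Let H^* be a Weil cohomology theory, with coefficient field K of characteristic zero, on nonsingular
connected projective varieties over the algebraically closed field k, and X such a variety. Then the
structure morphism K → H^0(X) is an isomorphism: c ↦ c · 1 is a bijection from K onto the degree-0
part of the cohomology ring. -/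
theorem result (k : Type u) [Field k] [IsAlgClosed k] (K : Type v) [Field K] [CharZero K]
    (T : WeilCoh.Theory k K) (X : WeilCoh.Var k) :
    Function.Bijective (fun c : K =>
      (⟨c • (1 : T.H X), (T.gr X 0).smul_mem c (SetLike.one_mem_graded (T.gr X))⟩ : ↥(T.gr X 0))) := by
  obtain ⟨e, he⟩ := (T.tr_bijective X).2 1
  have he' : T.tr X (e : T.H X) = 1 := he
  have hb : ∀ b : T.H X, b ∈ T.gr X (2 * (WeilCoh.dim X.obj.left : ℤ)) →
      b = T.tr X b • (e : T.H X) := by
    intro b hb
    have : (⟨b, hb⟩ : T.gr X (2 * (WeilCoh.dim X.obj.left : ℤ))) = T.tr X b • e := by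
      apply (T.tr_bijective X).1
      simp only [LinearMap.domRestrict_apply, map_smul, he', smul_eq_mul, mul_one]
    exact congrArg Subtype.val this
  constructor
  · intro c c' h
    have h1 := congrArg (fun a : T.gr X 0 => T.tr X ((a : T.H X) * e)) h
    simpa [he'] using h1
  · intro a
    refine ⟨T.tr X ((a : T.H X) * e), ?_⟩
    apply Subtype.ext
    refine Groth.Agent.Lib.Helper67.eq_of_forall_tr_mul_eq T X 0 (2 * (WeilCoh.dim X.obj.left : ℤ))
      (by ring) _ _ ((T.gr X 0).smul_mem _ (SetLike.one_mem_graded (T.gr X))) a.2 ?_
    intro b hb'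
    rw [hb b hb']
    simp only [smul_mul_assoc, one_mul, mul_smul_comm, map_smul, smul_eq_mul, he', mul_one]

end Groth.Agent.S15442
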