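-- Statement S15446
import Groth.Statements.S15446
import Groth.Agent.Lib.Helper67.WeilCoh

set_option autoImplicit false
universe u v
open CategoryTheory AlgebraicGeometry
open WeilCoh

namespace Groth.Agent.S15446

/-- For a Weil cohomology theory H^* (coefficients in K of characteristic zero, on nonsingular connected
projective varieties over an algebraically closed field k), a morphism f : X → Y of such varieties,
α ∈ H^i(X) and γ ∈ H^j(Y), one has f_*(α ∪ f^*(γ)) = f_*(α) ∪ γ, where f_* is the push-forward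
defined by Tr_Y(f_*(α) ∪ β) = Tr_X(α ∪ f^*(β)). -/
theorem result (k : Type u) [Field k] [IsAlgClosed k] (K : Type v) [Field K] [CharZero K]
    (T : WeilCoh.Theory k K) (X Y : WeilCoh.Var k) (f : X ⟶ Y) (i j : ℤ)
    (a : ↥(T.gr X i)) (c : ↥(T.gr Y j)) :
    (T.push f (i + j) ⟨(a : T.H X) * T.pull f c, SetLike.mul_mem_graded a.2 (T.pull_mem f j c c.2)⟩ : T.H Y) =
      (T.push f i a : T.H Y) * c := by
  refine Groth.Agent.Lib.Helper67.eq_of_forall_tr_mul_eq T Y
    (i + j + 2 * (WeilCoh.dim Y.obj.left : ℤ) - 2 * (WeilCoh.dim X.obj.left : ℤ))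
    (2 * (WeilCoh.dim X.obj.left : ℤ) - (i + j)) (by ring) _ _ (Subtype.property _) ?_ ?_
  · have h := SetLike.mul_mem_graded (T.push f i a).2 c.2
    have hdeg : i + 2 * (WeilCoh.dim Y.obj.left : ℤ) - 2 * (WeilCoh.dim X.obj.left : ℤ) + j =
        i + j + 2 * (WeilCoh.dim Y.obj.left : ℤ) - 2 * (WeilCoh.dim X.obj.left : ℤ) := by ring
    rw [hdeg] at h
    exact h
  · intro b hb
    rw [Groth.Agent.Lib.Helper67.tr_push_mul T f (i + j) _ b hb]
    have hcb : (c : T.H Y) * b ∈ T.gr Y (2 * (WeilCoh.dim X.obj.left : ℤ) - i) := by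
      have h := SetLike.mul_mem_graded c.2 hb
      have hdeg : j + (2 * (WeilCoh.dim X.obj.left : ℤ) - (i + j)) =
          2 * (WeilCoh.dim X.obj.left : ℤ) - i := by ring
      rw [hdeg] at h
      exact h
    rw [mul_assoc, mul_assoc, Groth.Agent.Lib.Helper67.tr_push_mul T f i a _ hcb,
      map_mul (T.pull f)]

end Groth.Agent.S15446
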