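import Groth.Statements.S15448
import Mathlib
import Groth.Agent.Lib.Helper97.VarTrdeg
import Groth.Agent.Lib.Helper67.WeilCoh

set_option autoImplicit false
universe u v
open CategoryTheory AlgebraicGeometry
open WeilCoh

namespace Groth.Agent.S15448

/-- For a Weil cohomology theory H^* (coefficients in K of characteristic zero, on nonsingular connected
projective varieties over an algebraically closed field k), a morphism f : X → Y of such varieties
and an irreducible closed subvariety Z ⊆ X, f_*(cl(Z)) = deg(Z/f(Z)) · cl(f(Z)). Here Z is given by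
its generic point ξ, f(Z) is the closed irreducible subset with generic point f(ξ), and deg(Z/f(Z))
is the degree of κ(ξ) over κ(f(ξ)), equal to 0 when this extension is infinite, i.e. when dim f(Z) <
dim Z; both sides are read in the total cohomology ring of Y. -/
theorem result (k : Type u) [Field k] [IsAlgClosed k] (K : Type v) [Field K] [CharZero K]
    (T : WeilCoh.Theory k K) (X Y : WeilCoh.Var k) (f : X ⟶ Y)
    (ξ : ↥X.obj.left) :
    (T.push f (2 * (WeilCoh.codim X.obj.left ξ : ℤ)) ⟨T.cl X ξ, T.cl_mem X ξ⟩ : T.H Y) =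
      ((WeilCoh.sm f).residueDegree ξ : K) • T.cl Y (WeilCoh.sm f ξ) := by
  classical
  have hfinX : topologicalKrullDim X.obj.left < ⊤ :=
    Groth.Agent.Lib.Helper97.VarDim.var_dim_lt_top k X
  have hfinY : topologicalKrullDim Y.obj.left < ⊤ :=
    Groth.Agent.Lib.Helper97.VarDim.var_dim_lt_top k Y
  have hπX : WeilCoh.pdim X.obj.left ξ ≤ WeilCoh.dim X.obj.left :=
    Groth.Agent.Lib.Helper97.VarDim.pdim_le_dim _ hfinX _
  have hπY : WeilCoh.pdim Y.obj.left (WeilCoh.sm f ξ) ≤ WeilCoh.dim Y.obj.left :=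
    Groth.Agent.Lib.Helper97.VarDim.pdim_le_dim _ hfinY _
  have hcX : (WeilCoh.codim X.obj.left ξ : ℤ) =
      (WeilCoh.dim X.obj.left : ℤ) - (WeilCoh.pdim X.obj.left ξ : ℤ) := by
    unfold WeilCoh.codim
    omega
  have hcY : (WeilCoh.codim Y.obj.left (WeilCoh.sm f ξ) : ℤ) =
      (WeilCoh.dim Y.obj.left : ℤ) - (WeilCoh.pdim Y.obj.left (WeilCoh.sm f ξ) : ℤ) := by
    unfold WeilCoh.codim
    omega
  set m : ℤ := 2 * (WeilCoh.codim X.obj.left ξ : ℤ) with hm
  set x : T.gr X m := ⟨T.cl X ξ, T.cl_mem X ξ⟩ with hx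
  set d : ℕ := (WeilCoh.sm f).residueDegree ξ with hd
  have hRHS : ((d : K) • T.cl Y (WeilCoh.sm f ξ)) ∈
      T.gr Y (m + 2 * (WeilCoh.dim Y.obj.left : ℤ) - 2 * (WeilCoh.dim X.obj.left : ℤ)) := by
    by_cases h0 : d = 0
    · rw [h0, Nat.cast_zero, zero_smul]
      exact Submodule.zero_mem _
    · have hπ := Groth.Agent.Lib.Helper97.VarTrdeg.var_pdim_eq_of_residueDegree_ne_zero k f ξ h0
      apply Submodule.smul_mem
      have h2 : m + 2 * (WeilCoh.dim Y.obj.left : ℤ) - 2 * (WeilCoh.dim X.obj.left : ℤ) =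
          2 * (WeilCoh.codim Y.obj.left (WeilCoh.sm f ξ) : ℤ) := by
        rw [hm, hcX, hcY, hπ]
        ring
      rw [h2]
      exact T.cl_mem Y (WeilCoh.sm f ξ)
  refine Groth.Agent.Lib.Helper67.eq_of_forall_tr_mul_eq T Y
    (m + 2 * (WeilCoh.dim Y.obj.left : ℤ) - 2 * (WeilCoh.dim X.obj.left : ℤ))
    (2 * (WeilCoh.dim X.obj.left : ℤ) - m) (by ring) _ _ (T.push f m x).2 hRHS ?_
  intro b hb
  rw [Groth.Agent.Lib.Helper67.tr_push_mul T f m x b hb]
  have hb' : b ∈ T.gr Y (2 * (WeilCoh.pdim X.obj.left ξ : ℤ)) := by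
    have h2 : 2 * (WeilCoh.dim X.obj.left : ℤ) - m = 2 * (WeilCoh.pdim X.obj.left ξ : ℤ) := by
      rw [hm, hcX]; ring
    rw [← h2]
    exact hb
  have hpush := T.cl_push f ξ b hb'
  have hx' : (x : T.H X) = T.cl X ξ := rfl
  rw [hx', hpush, smul_mul_assoc, map_smul, smul_eq_mul]

end Groth.Agent.S15448
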