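-- Statement S15449
import Groth.Statements.S15449
import Groth.Agent.Lib.Helper67.WeilCoh

set_option autoImplicit false
universe u v
open CategoryTheory AlgebraicGeometry
open WeilCoh

namespace Groth.Agent.S15449

theorem mem_gr_of_eq {k : Type u} [Field k] [IsAlgClosed k] {K : Type v} [Field K] [CharZero K]
    (T : WeilCoh.Theory k K) (X : WeilCoh.Var k) (m m' : ℤ) (y : T.H X) (hy : y ∈ T.gr X m)
    (h : m = m') : y ∈ T.gr X m' := h ▸ hy

/-- the dimension of a product is the sum of the dimensions (a formal consequence of the trace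
condition on products) -/
theorem dim_prod {k : Type u} [Field k] [IsAlgClosed k] {K : Type v} [Field K] [CharZero K]
    (T : WeilCoh.Theory k K) (X Y Q : WeilCoh.Var k) (p : Q ⟶ X) (q : Q ⟶ Y)
    (hQ : WeilCoh.IsProd p q) :
    2 * (WeilCoh.dim X.obj.left : ℤ) + 2 * (WeilCoh.dim Y.obj.left : ℤ) =
      2 * (WeilCoh.dim Q.obj.left : ℤ) := by
  obtain ⟨eX, heX⟩ := (T.tr_bijective X).2 1
  obtain ⟨eY, heY⟩ := (T.tr_bijective Y).2 1
  have heX' : T.tr X (eX : T.H X) = 1 := heX
  have heY' : T.tr Y (eY : T.H Y) = 1 := heY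
  have h1 := T.tr_prod p q hQ eX eY eX.2 eY.2
  rw [heX', heY', mul_one] at h1
  by_contra hne
  have hmem : T.pull p (eX : T.H X) * T.pull q (eY : T.H Y) ∈
      T.gr Q (2 * (WeilCoh.dim X.obj.left : ℤ) + 2 * (WeilCoh.dim Y.obj.left : ℤ)) :=
    SetLike.mul_mem_graded (T.pull_mem p _ _ eX.2) (T.pull_mem q _ _ eY.2)
  have h2 := T.tr_vanish Q _ _ hmem hne
  rw [h1] at h2
  exact one_ne_zero h2

/-- For a Weil cohomology theory H^* (coefficients in K of characteristic zero, on nonsingular connected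
projective varieties over an algebraically closed field k), such varieties X and Y with product X ×
Y and projections p, q, and α ∈ H^i(Y): p_*(q^*(α)) = Tr_Y(α) (as a multiple of 1 ∈ H^0(X)) if i = 2
dim Y, and p_*(q^*(α)) = 0 otherwise. The product is any object Q with morphisms p : Q → X, q : Q →
Y forming a cartesian square over Spec k; both sides are read in the total cohomology ring of X. -/
theorem result (k : Type u) [Field k] [IsAlgClosed k] (K : Type v) [Field K] [CharZero K]
    (T : WeilCoh.Theory k K) (X Y Q : WeilCoh.Var k) (p : Q ⟶ X) (q : Q ⟶ Y)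
    (hQ : WeilCoh.IsProd p q) (i : ℤ) (a : ↥(T.gr Y i)) :
    (i = 2 * (WeilCoh.dim Y.obj.left : ℤ) →
      (T.push p i ⟨T.pull q a, T.pull_mem q i a a.2⟩ : T.H X) = algebraMap K (T.H X) (T.tr Y a)) ∧
    (i ≠ 2 * (WeilCoh.dim Y.obj.left : ℤ) →
      (T.push p i ⟨T.pull q a, T.pull_mem q i a a.2⟩ : T.H X) = 0) := by
  have hdim := dim_prod T X Y Q p q hQ
  constructor
  · intro hi
    refine Groth.Agent.Lib.Helper67.eq_of_forall_tr_mul_eq T X
      (i + 2 * (WeilCoh.dim X.obj.left : ℤ) - 2 * (WeilCoh.dim Q.obj.left : ℤ))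
      (2 * (WeilCoh.dim Q.obj.left : ℤ) - i) (by ring) _ _ (Subtype.property _) ?_ ?_
    · rw [Algebra.algebraMap_eq_smul_one]
      exact mem_gr_of_eq T X 0 _ _ ((T.gr X 0).smul_mem _ (SetLike.one_mem_graded (T.gr X)))
        (by omega)
    · intro b hb
      rw [Groth.Agent.Lib.Helper67.tr_push_mul T p i _ b hb]
      change T.tr Q (T.pull q (a : T.H Y) * T.pull p b) = _
      have hb' : b ∈ T.gr X (2 * (WeilCoh.dim X.obj.left : ℤ)) :=
        mem_gr_of_eq T X _ _ _ hb (by omega)
      have ha' : (a : T.H Y) ∈ T.gr Y (2 * (WeilCoh.dim Y.obj.left : ℤ)) :=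
        mem_gr_of_eq T Y _ _ _ a.2 hi
      have hcomm := T.gradedComm Q _ _ _ _ (T.pull_mem q _ _ ha') (T.pull_mem p _ _ hb')
      have hsign : ((-1 : K) ^ ((2 * (WeilCoh.dim Y.obj.left : ℤ)).natAbs *
          (2 * (WeilCoh.dim X.obj.left : ℤ)).natAbs)) = 1 := by
        apply Even.neg_one_pow
        have h2 : ∀ d : ℕ, Even ((2 * (d : ℤ)).natAbs) := fun d => by
          rw [Int.natAbs_mul]
          exact even_two.mul_right _
        exact (h2 _).mul_right _
      rw [hcomm, hsign, one_smul, T.tr_prod p q hQ b a hb' ha', Algebra.algebraMap_eq_smul_one,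
        smul_mul_assoc, one_mul, map_smul, smul_eq_mul, mul_comm]
  · intro hi
    refine Groth.Agent.Lib.Helper67.eq_of_forall_tr_mul_eq T X
      (i + 2 * (WeilCoh.dim X.obj.left : ℤ) - 2 * (WeilCoh.dim Q.obj.left : ℤ))
      (2 * (WeilCoh.dim Q.obj.left : ℤ) - i) (by ring) _ _ (Subtype.property _)
      (Submodule.zero_mem _) ?_
    intro b hb
    rw [Groth.Agent.Lib.Helper67.tr_push_mul T p i _ b hb, zero_mul, map_zero]
    change T.tr Q (T.pull q (a : T.H Y) * T.pull p b) = 0
    rcases lt_or_gt_of_ne hi with hlt | hgt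
    · -- then b = 0
      have hbot := T.vanish X (2 * (WeilCoh.dim Q.obj.left : ℤ) - i) (Or.inr (by omega))
      rw [hbot, Submodule.mem_bot] at hb
      rw [hb, map_zero, mul_zero, map_zero]
    · -- then a = 0
      have hbot := T.vanish Y i (Or.inr hgt)
      have h3 : ∀ (S : Submodule K (T.H Y)), S = ⊥ → ∀ y ∈ S, y = 0 := by
        rintro _ rfl y hy
        exact (Submodule.mem_bot K).mp hy
      have ha0 : (a : T.H Y) = 0 := h3 _ hbot a a.2
      rw [ha0, map_zero, zero_mul, map_zero]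

end Groth.Agent.S15449
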