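import Groth.Statements.S15456
import Mathlib
import Groth.Agent.Lib.Helper97.FrobWeil
import Groth.Agent.Lib.Helper97.FrobFE
import Groth.Agent.Lib.Helper67.WeilCoh
import Groth.Agent.S15454
import Groth.Agent.S15455

set_option autoImplicit false
universe u v
open CategoryTheory AlgebraicGeometry
open WeilCoh

namespace Groth.Agent.S15456

section helpers

open Module in
/-- a space with a skew-symmetric perfect pairing has even dimension -/
theorem even_finrank_of_skew {K : Type*} [Field K] [CharZero K] {V : Type*} [AddCommGroup V]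
    [Module K V] [FiniteDimensional K V] (B : V →ₗ[K] V →ₗ[K] K) [B.IsPerfPair]
    (hskew : ∀ v w, B v w = - B w v) : Even (finrank K V) := by
  classical
  let b : Module.Basis (Fin (finrank K V)) K V := Module.finBasis K V
  have hsep : B.SeparatingLeft := by
    rw [LinearMap.separatingLeft_iff_ker_eq_bot]
    exact LinearMap.ker_eq_bot.mpr (LinearMap.IsPerfPair.bijective_left B).1
  have hdet := (LinearMap.separatingLeft_iff_det_ne_zero b).mp hsep
  have hT : (LinearMap.toMatrix₂ b b B).transpose = - LinearMap.toMatrix₂ b b B := by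
    ext i j
    rw [Matrix.transpose_apply, Matrix.neg_apply, LinearMap.toMatrix₂_apply,
      LinearMap.toMatrix₂_apply, hskew]
  have h1 : (LinearMap.toMatrix₂ b b B).det =
      (-1 : K) ^ (finrank K V) * (LinearMap.toMatrix₂ b b B).det := by
    conv_lhs => rw [← Matrix.det_transpose, hT, Matrix.det_neg, Fintype.card_fin]
  have h2 : (-1 : K) ^ (finrank K V) = 1 := by
    have h3 : ((-1 : K) ^ (finrank K V) - 1) * (LinearMap.toMatrix₂ b b B).det = 0 := by
      rw [sub_mul, one_mul, ← h1, sub_self]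
    rcases mul_eq_zero.mp h3 with h | h
    · exact sub_eq_zero.mp h
    · exact absurd h hdet
  have hne : (-1 : K) ≠ 1 := by
    intro h
    have : (2 : K) = 0 := by
      have := congrArg (fun x => 1 - x) h
      simp only [sub_neg_eq_add, sub_self] at this
      rw [← this]; norm_num
    exact two_ne_zero this
  exact (neg_one_pow_eq_one_iff_even hne).mp h2

/-- a symmetric sum over `0..2n` -/
theorem sum_symm (n : ℕ) (g : ℕ → ℤ) (hg : ∀ i, i ≤ 2 * n → g (2 * n - i) = g i) :
    ∑ i ∈ Finset.range (2 * n + 1), g i = 2 * ∑ i ∈ Finset.range n, g i + g n := by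
  have e : 2 * n + 1 = n + (n + 1) := by ring
  rw [e, Finset.sum_range_add, Finset.sum_range_succ' (fun x => g (n + x)) n]
  have h1 : ∑ x ∈ Finset.range n, g (n + (x + 1)) = ∑ x ∈ Finset.range n, g x := by
    rw [← Finset.sum_range_reflect]
    refine Finset.sum_congr rfl (fun j hj => ?_)
    have hj' := Finset.mem_range.mp hj
    have e2 : n + (n - 1 - j + 1) = 2 * n - j := by omega
    rw [e2]
    exact hg j (by omega)
  rw [h1]
  simp only [add_zero]
  ring

variable (k₀ : Type u) [Field k₀] [Finite k₀] (k : Type u) [Field k] [IsAlgClosed k] [Algebra k₀ k]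
  {K : Type v} [Field K] [CharZero K] (T : WeilCoh.Theory k K)

/-- Betti numbers are symmetric. -/
theorem finrank_symm (Xb : WeilCoh.Var k) (j : ℤ) :
    Module.finrank K ↥(T.gr Xb (2 * (WeilCoh.dim Xb.obj.left : ℤ) - j)) =
      Module.finrank K ↥(T.gr Xb j) := by
  haveI := T.duality Xb j (2 * (WeilCoh.dim Xb.obj.left : ℤ) - j) (by ring)
  obtain ⟨-, -, -, -, -, -, -, h⟩ := Groth.Agent.Lib.Helper97.FrobWeil.exists_matrices
    (WeilCoh.pairing K (T.gr Xb j) (T.gr Xb (2 * (WeilCoh.dim Xb.obj.left : ℤ) - j)) (T.tr Xb))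
    (LinearMap.id) (LinearMap.id) 1 (fun v w => by simp)
  exact h

/-- the middle Betti number is even in odd dimension -/
theorem even_middle (Xb : WeilCoh.Var k) (hodd : Odd (WeilCoh.dim Xb.obj.left)) :
    Even (Module.finrank K ↥(T.gr Xb ((WeilCoh.dim Xb.obj.left : ℕ) : ℤ))) := by
  haveI := T.duality Xb ((WeilCoh.dim Xb.obj.left : ℕ) : ℤ) ((WeilCoh.dim Xb.obj.left : ℕ) : ℤ)
    (by ring)
  refine even_finrank_of_skew (WeilCoh.pairing K (T.gr Xb ((WeilCoh.dim Xb.obj.left : ℕ) : ℤ))
    (T.gr Xb ((WeilCoh.dim Xb.obj.left : ℕ) : ℤ)) (T.tr Xb)) ?_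
  intro v w
  rw [Groth.Agent.Lib.Helper67.pairing_apply, Groth.Agent.Lib.Helper67.pairing_apply,
    T.gradedComm Xb _ _ _ _ v.2 w.2, map_smul, smul_eq_mul]
  have h1 : (((WeilCoh.dim Xb.obj.left : ℕ) : ℤ)).natAbs = WeilCoh.dim Xb.obj.left := by simp
  rw [h1, (hodd.mul hodd).neg_one_pow, neg_one_mul]

/-- parity of `n E` -/
theorem parity_nE (Xb : WeilCoh.Var k) :
    Even ((WeilCoh.dim Xb.obj.left : ℤ) * ∑ i ∈ Finset.range (2 * WeilCoh.dim Xb.obj.left + 1),
      (-1 : ℤ) ^ i * (Module.finrank K ↥(T.gr Xb (i : ℤ)) : ℤ)) := by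
  set n := WeilCoh.dim Xb.obj.left with hn
  have hsym : ∀ i, i ≤ 2 * n →
      (fun i : ℕ => (-1 : ℤ) ^ i * (Module.finrank K ↥(T.gr Xb (i : ℤ)) : ℤ)) (2 * n - i) =
      (fun i : ℕ => (-1 : ℤ) ^ i * (Module.finrank K ↥(T.gr Xb (i : ℤ)) : ℤ)) i := by
    intro i hi
    show (-1 : ℤ) ^ (2 * n - i) * (Module.finrank K ↥(T.gr Xb ((2 * n - i : ℕ) : ℤ)) : ℤ) =
      (-1 : ℤ) ^ i * (Module.finrank K ↥(T.gr Xb (i : ℤ)) : ℤ)
    have e1 : ((2 * n - i : ℕ) : ℤ) = 2 * (n : ℤ) - (i : ℤ) := by
      push_cast [Nat.cast_sub hi]; ring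
    have e2 : (-1 : ℤ) ^ (2 * n - i) = (-1 : ℤ) ^ i := by
      have h3 : (-1 : ℤ) ^ (2 * n - i) * (-1 : ℤ) ^ i = 1 := by
        rw [← pow_add, Nat.sub_add_cancel hi, pow_mul]; simp
      have h4 : (-1 : ℤ) ^ i * (-1 : ℤ) ^ i = 1 := by
        rw [← pow_add, ← two_mul, pow_mul]; simp
      calc (-1 : ℤ) ^ (2 * n - i) = (-1 : ℤ) ^ (2 * n - i) * ((-1 : ℤ) ^ i * (-1 : ℤ) ^ i) := by
            rw [h4, mul_one]
        _ = ((-1 : ℤ) ^ (2 * n - i) * (-1 : ℤ) ^ i) * (-1 : ℤ) ^ i := by ring
        _ = (-1 : ℤ) ^ i := by rw [h3, one_mul]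
    rw [e1, e2, hn, finrank_symm k T Xb (i : ℤ)]
  rw [sum_symm n _ hsym]
  rcases Nat.even_or_odd n with he | ho
  · exact Even.mul_right (by exact_mod_cast he) _
  · have hm := even_middle k T Xb (hn ▸ ho)
    rw [← hn] at hm
    apply Even.mul_left
    apply Even.add
    · exact even_two_mul _
    · apply Even.mul_left
      exact_mod_cast hm

end helpers


/-- Let k₀ be a finite field with q elements, k an algebraically closed field containing k₀, H^* a Weil
cohomology theory, with coefficient field K of characteristic zero, on nonsingular connected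
projective varieties over k, X a scheme of finite type over k₀ whose base change X̄ = X ×_{k₀} k is
such a variety (as it is when X is nonsingular, projective and geometrically connected), and F =
Frob_{X,q} × id the k-endomorphism of X̄ induced by the q-Frobenius of X; let n = dim X̄ and E =
(Δ²) the self-intersection of the diagonal of X̄, which equals Σ_i (−1)^i dim_K H^i(X̄). Then Z(X,
1/(q^n t)) = ± q^{nE/2} t^E Z(X, t). Stated in the field K(t) of rational functions for Z(t) = P_1
P_3 ⋯ P_{2n−1} / (P_0 P_2 ⋯ P_{2n}), P_i(t) = det(Id − t F^* | H^i(X̄)) (the reverse of the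
characteristic polynomial), which is the zeta function of X by its cohomological factorisation; E is
written as the alternating sum of the dimensions, nE is even, and the sign is left unspecified as in
the published statement. The q-Frobenius of X is pinned as the endomorphism that is the identity on
points and the q-th power on sections, X̄ as a cartesian square over Spec k → Spec k₀, and F by its
compatibility with the projection to X. -/
theorem result (k₀ : Type u) [Field k₀] [Finite k₀] (k : Type u) [Field k] [IsAlgClosed k] [Algebra k₀ k]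
    (K : Type v) [Field K] [CharZero K] (T : WeilCoh.Theory k K)
    {X : Scheme.{u}} (f : X ⟶ Spec (CommRingCat.of k₀)) [LocallyOfFiniteType f] [QuasiCompact f]
    (FX : X ⟶ X) (hFb : FX.base = 𝟙 _) (hle : ∀ U : X.Opens, U ≤ FX ⁻¹ᵁ U)
    (hFapp : ∀ (U : X.Opens) (s : Γ(X, U)), (FX.appLE U U (hle U)).hom s = s ^ Nat.card k₀)
    (Xb : WeilCoh.Var k) (π : Xb.obj.left ⟶ X)
    (hπ : IsPullback π Xb.obj.hom f (Spec.map (CommRingCat.ofHom (algebraMap k₀ k))))
    (F : Xb ⟶ Xb) (hF : WeilCoh.sm F ≫ π = π ≫ FX) :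
    ∃ ε : K, (ε = 1 ∨ ε = -1) ∧
      Polynomial.aeval ((RatFunc.X : RatFunc K)⁻¹ * RatFunc.C ((Nat.card k₀ : K) ^ WeilCoh.dim Xb.obj.left)⁻¹)
          (∏ i ∈ Finset.range (WeilCoh.dim Xb.obj.left),
            (LinearMap.charpoly (T.pullDeg F ((2 * i + 1 : ℕ) : ℤ))).reverse) /
        Polynomial.aeval ((RatFunc.X : RatFunc K)⁻¹ * RatFunc.C ((Nat.card k₀ : K) ^ WeilCoh.dim Xb.obj.left)⁻¹)
          (∏ i ∈ Finset.range (WeilCoh.dim Xb.obj.left + 1),
            (LinearMap.charpoly (T.pullDeg F ((2 * i : ℕ) : ℤ))).reverse) =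
      RatFunc.C ε * RatFunc.C (Nat.card k₀ : K) ^ ((WeilCoh.dim Xb.obj.left : ℤ) * (∑ i ∈ Finset.range (2 * WeilCoh.dim Xb.obj.left + 1), (-1 : ℤ) ^ i * (Module.finrank K ↥(T.gr Xb (i : ℤ)) : ℤ)) / 2) *
        (RatFunc.X : RatFunc K) ^ (∑ i ∈ Finset.range (2 * WeilCoh.dim Xb.obj.left + 1), (-1 : ℤ) ^ i * (Module.finrank K ↥(T.gr Xb (i : ℤ)) : ℤ)) *
        (algebraMap (Polynomial K) (RatFunc K)
          (∏ i ∈ Finset.range (WeilCoh.dim Xb.obj.left),
            (LinearMap.charpoly (T.pullDeg F ((2 * i + 1 : ℕ) : ℤ))).reverse) /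
         algebraMap (Polynomial K) (RatFunc K)
          (∏ i ∈ Finset.range (WeilCoh.dim Xb.obj.left + 1),
            (LinearMap.charpoly (T.pullDeg F ((2 * i : ℕ) : ℤ))).reverse)) := by
  exact Groth.Agent.Lib.Helper97.FrobFE.fe_algebra (Nat.card k₀ : K)
    (by have : Nat.card k₀ ≠ 0 := Nat.card_pos.ne'
        exact_mod_cast this)
    (WeilCoh.dim Xb.obj.left)
    (fun j => LinearMap.charpoly (T.pullDeg F j))
    (fun j => LinearMap.det (T.pullDeg F j))
    (fun j => Module.finrank K ↥(T.gr Xb j))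
    (fun j => LinearMap.charpoly_natDegree _)
    (fun j => (LinearMap.charpoly_monic _).ne_zero)
    (fun j => Groth.Agent.S15455.result k₀ k K T f FX hFb hle hFapp Xb π hπ F hF j)
    (fun j => by
      rw [Groth.Agent.S15454.result k₀ k K T f FX hFb hle hFapp Xb π hπ F hF j, pow_mul])
    (fun j => finrank_symm k T Xb j)
    (parity_nE k T Xb)

end Groth.Agent.S15456
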