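import Groth.Statements.S15458
import Mathlib
import Groth.Agent.Lib.Helper97.VarTrdeg

set_option autoImplicit false
universe u v
open CategoryTheory AlgebraicGeometry
open WeilCoh

namespace Groth.Agent.S15458

/-- The cycle class map is compatible with push-forward: for a Weil cohomology theory H^* (coefficients
in K of characteristic zero, on nonsingular connected projective varieties over an algebraically
closed field k), a morphism f : X → Y of such varieties and a cycle α on X, f_*(cl(α)) = cl(f_*(α)).
Stated through the identity characterising the cohomological push-forward: Tr_Y(cl(f_* α) ∪ β) =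
Tr_X(cl(α) ∪ f^*(β)) for every β ∈ H^*(Y), where f_* α is the proper push-forward of cycles (the
coefficient of [V] goes to deg(V/f(V)) [f(V)], and to 0 when f(V) has smaller dimension) for the
dimension functions δ_X, δ_Y induced from weight 0 on Spec k. -/
theorem result (k : Type u) [Field k] [IsAlgClosed k] (K : Type v) [Field K] [CharZero K]
    (T : WeilCoh.Theory k K) (X Y : WeilCoh.Var k) (f : X ⟶ Y)
    [QuasiCompact (WeilCoh.sm f)]
    (δX : ↥X.obj.left → ℤ) (hδX : Cyc.DeltaCompat X.obj.hom δX (fun _ => 0))
    (δY : ↥Y.obj.left → ℤ) (hδY : Cyc.DeltaCompat Y.obj.hom δY (fun _ => 0))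
    (α : AlgebraicCycle X.obj.left ℤ) (b : T.H Y) :
    T.tr Y (T.clCyc Y (AlgebraicCycle.map (WeilCoh.sm f) δX δY α) * b) =
      T.tr X (T.clCyc X α * T.pull f b) := by
  classical
  have hcptX : CompactSpace X.obj.left := Groth.Agent.Lib.Helper97.VarDim.var_compactSpace k X
  have hfin : (Function.support (fun x : X.obj.left => α x)).Finite := by
    have := α.locallyFiniteSupport.finite_inter_support_of_isCompact
      (isCompact_univ (X := X.obj.left))
    simpa using this
  set S : Finset X.obj.left := hfin.toFinset with hS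
  have hSmem : ∀ x : X.obj.left, x ∉ S → α x = 0 := by
    intro x hx
    by_contra h
    exact hx (hfin.mem_toFinset.mpr h)
  set φ := WeilCoh.sm f with hφ
  set c : X.obj.left → ℕ := fun x => AlgebraicCycle.mapCoeff φ δX δY x with hc
  have hcd : ∀ x, c x = φ.residueDegree x := fun x =>
    Groth.Agent.Lib.Helper97.VarTrdeg.mapCoeff_eq_residueDegree k f δX hδX δY hδY x
  set β := AlgebraicCycle.map φ δX δY α with hβ
  -- the coefficients of the push-forward as finite sums
  have hβy : ∀ y : Y.obj.left, β y = ∑ x ∈ S with φ x = y, α x * (c x : ℤ) := by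
    intro y
    show (∑ᶠ x ∈ φ ⁻¹' {y}, α x * ((AlgebraicCycle.mapCoeff φ δX δY x : ℕ) : ℤ)) = _
    rw [finsum_mem_def, finsum_eq_sum_of_support_subset (s := S), Finset.sum_filter]
    · apply Finset.sum_congr rfl
      intro x _
      by_cases hx : φ x = y
      · rw [if_pos hx, Set.indicator_of_mem (by exact hx)]
      · rw [if_neg hx, Set.indicator_of_notMem (by exact hx)]
    · intro x hx
      rw [Function.mem_support] at hx
      by_contra hxS
      apply hx
      by_cases hm : x ∈ φ ⁻¹' {y}
      · rw [Set.indicator_of_mem hm, hSmem x (by simpa using hxS), zero_mul]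
      · rw [Set.indicator_of_notMem hm]
  -- the two linear functionals
  let L : T.H Y →ₗ[K] K := (T.tr Y) ∘ₗ (LinearMap.mulRight K b)
  let L' : T.H X →ₗ[K] K := (T.tr X) ∘ₗ (LinearMap.mulRight K (T.pull f b))
  have hL : ∀ a, L a = T.tr Y (a * b) := fun a => rfl
  have hL' : ∀ a, L' a = T.tr X (a * T.pull f b) := fun a => rfl
  rw [← hL, ← hL']
  unfold WeilCoh.TheoryOn.clCyc
  -- right-hand side
  have hsuppX : (Function.support (fun ξ : X.obj.left => ((α ξ : ℤ) : K) • T.cl X ξ)) ⊆ ↑S := by
    intro ξ hξ
    rw [Function.mem_support] at hξ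
    by_contra hS'
    apply hξ
    rw [hSmem ξ (by simpa using hS'), Int.cast_zero, zero_smul]
  have hR : L' (∑ᶠ ξ : X.obj.left, ((α ξ : ℤ) : K) • T.cl X ξ) =
      ∑ x ∈ S, ((α x : ℤ) : K) * T.tr X (T.cl X x * T.pull f b) := by
    rw [finsum_eq_sum_of_support_subset _ hsuppX, map_sum]
    apply Finset.sum_congr rfl
    intro x _
    rw [map_smul, hL', smul_eq_mul]
  -- left-hand side
  have hsuppY : (Function.support (fun y : Y.obj.left => ((β y : ℤ) : K) • T.cl Y y)) ⊆
      ↑(S.image φ) := by
    intro y hy
    rw [Function.mem_support] at hy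
    by_contra hy'
    apply hy
    have : β y = 0 := by
      rw [hβy]
      apply Finset.sum_eq_zero
      intro x hx
      rw [Finset.mem_filter] at hx
      exfalso
      apply hy'
      rw [Finset.mem_coe, Finset.mem_image]
      exact ⟨x, hx.1, hx.2⟩
    rw [this, Int.cast_zero, zero_smul]
  have hLsum : L (∑ᶠ y : Y.obj.left, ((β y : ℤ) : K) • T.cl Y y) =
      ∑ᶠ y : Y.obj.left, ∑ x ∈ S with φ x = y,
        ((α x : ℤ) : K) * (c x : K) * T.tr Y (T.cl Y (φ x) * b) := by
    rw [map_finsum L ((S.image φ).finite_toSet.subset hsuppY)]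
    apply finsum_congr
    intro y
    rw [map_smul, hL, smul_eq_mul, hβy, Int.cast_sum, Finset.sum_mul]
    apply Finset.sum_congr rfl
    intro x hx
    rw [Finset.mem_filter] at hx
    rw [hx.2]
    push_cast
    ring
  rw [hLsum, hR]
  have hreg := finsum_sum_filter (fun x : X.obj.left => φ x) S
    (fun x => ((α x : ℤ) : K) * (c x : K) * T.tr Y (T.cl Y (φ x) * b))
  refine Eq.trans ?_ (hreg.trans ?_)
  · apply finsum_congr
    intro y
    apply Finset.sum_congr ?_ (fun _ _ => rfl)
    ext x
    simp only [Finset.mem_filter]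
  apply Finset.sum_congr rfl
  intro x _
  rw [Groth.Agent.Lib.Helper97.VarTrdeg.tr_cl_mul_pull k T f x b, hcd x]
  ring

end Groth.Agent.S15458
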