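import Groth.Statements.S15464
import Mathlib
import Groth.Agent.Lib.Helper97.VarPt
import Groth.Agent.Lib.Helper67.WeilCoh

set_option autoImplicit false
universe u v
open CategoryTheory AlgebraicGeometry
open WeilCoh

namespace Groth.Agent.S15464

/-- Let H be a Weil cohomology theory with coefficients in a field K of characteristic zero on
nonsingular connected projective varieties over an algebraically closed field k, f : X → Y a
morphism of such varieties, P = X × Y with its projections p to X and q to Y, and j : X → P the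
graph of f (the section of p with q ∘ j = f). Then for every cohomology class β on Y, homogeneous of
degree i, one has f^*(β) = p_*(cl(Γ_f) · q^*(β)) in H(X), where cl(Γ_f) is the class of the graph,
the closed irreducible subset of P with generic point j(η_X), and p_* is the push-forward (Gysin
map) along p. Push-forward is taken degree by degree, on the homogeneous component of degree 2
codim_P(Γ_f) + i containing cl(Γ_f) · q^*(β); the identity is stated in the total cohomology ring of
X, and the case of an inhomogeneous β follows by additivity. -/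
theorem result (k : Type u) [Field k] [IsAlgClosed k]
    (K : Type v) [Field K] [CharZero K] (T : WeilCoh.Theory k K) (X Y P : WeilCoh.Var k)
    [IrreducibleSpace ↥X.obj.left] (f : X ⟶ Y) (p : P ⟶ X) (q : P ⟶ Y)
    (hP : WeilCoh.IsProd p q) (j : X ⟶ P) (hjp : j ≫ p = 𝟙 X) (hjq : j ≫ q = f)
    (i : ℤ) (β : ↥(T.gr Y i)) :
    (T.push p (2 * (WeilCoh.codim P.obj.left (WeilCoh.sm j (genericPoint ↥X.obj.left)) : ℤ) + i)
        ⟨T.cl P (WeilCoh.sm j (genericPoint ↥X.obj.left)) * T.pull q (β : T.H Y),
          SetLike.mul_mem_graded (T.cl_mem P (WeilCoh.sm j (genericPoint ↥X.obj.left)))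
            (T.pull_mem q i β β.2)⟩ : T.H X) = T.pull f (β : T.H Y) := by
  classical
  set η := genericPoint ↥X.obj.left with hη
  have hsepP : IsSeparated P.obj.hom := Groth.Agent.Lib.Helper97.VarDim.var_isSeparated k P
  have hsepp : IsSeparated (WeilCoh.sm p) := by
    have h1 : WeilCoh.sm p ≫ X.obj.hom = P.obj.hom := Over.w p.hom
    have : IsSeparated (WeilCoh.sm p ≫ X.obj.hom) := by rw [h1]; exact hsepP
    exact IsSeparated.of_comp (WeilCoh.sm p) X.obj.hom
  have hjp' : WeilCoh.sm j ≫ WeilCoh.sm p = 𝟙 X.obj.left := by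
    have := congrArg (fun φ => WeilCoh.sm φ) hjp
    exact this
  have hci : IsClosedImmersion (WeilCoh.sm j) := by
    have : IsClosedImmersion (WeilCoh.sm j ≫ WeilCoh.sm p) := by rw [hjp']; infer_instance
    exact IsClosedImmersion.of_comp (WeilCoh.sm j) (WeilCoh.sm p)
  have hfinP : topologicalKrullDim P.obj.left < ⊤ :=
    Groth.Agent.Lib.Helper97.VarDim.var_dim_lt_top k P
  have hπ : WeilCoh.pdim P.obj.left (WeilCoh.sm j η) = WeilCoh.dim X.obj.left := by
    rw [Groth.Agent.Lib.Helper97.VarDim.pdim_map_of_isClosedImmersion (WeilCoh.sm j) η,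
      Groth.Agent.Lib.Helper97.VarPt.pdim_genericPoint]
  have hπP : WeilCoh.pdim P.obj.left (WeilCoh.sm j η) ≤ WeilCoh.dim P.obj.left :=
    Groth.Agent.Lib.Helper97.VarDim.pdim_le_dim _ hfinP _
  have hdeg : (WeilCoh.sm j).residueDegree η = 1 :=
    Groth.Agent.Lib.Helper97.VarDim.residueDegree_of_isClosedImmersion (WeilCoh.sm j) η
  have hcP : (WeilCoh.codim P.obj.left (WeilCoh.sm j η) : ℤ) =
      (WeilCoh.dim P.obj.left : ℤ) - (WeilCoh.dim X.obj.left : ℤ) := by
    unfold WeilCoh.codim
    rw [hπ] at hπP ⊢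
    omega
  have hclX : T.cl X η = 1 := Groth.Agent.Lib.Helper97.VarPt.cl_genericPoint k T X
  set m : ℤ := 2 * (WeilCoh.codim P.obj.left (WeilCoh.sm j η) : ℤ) + i with hm
  set x : T.gr P m := ⟨T.cl P (WeilCoh.sm j η) * T.pull q (β : T.H Y),
          SetLike.mul_mem_graded (T.cl_mem P (WeilCoh.sm j η))
            (T.pull_mem q i β β.2)⟩ with hx
  have hmi : m + 2 * (WeilCoh.dim X.obj.left : ℤ) - 2 * (WeilCoh.dim P.obj.left : ℤ) = i := by
    rw [hm, hcP]; ring
  have hRHS : T.pull f (β : T.H Y) ∈
      T.gr X (m + 2 * (WeilCoh.dim X.obj.left : ℤ) - 2 * (WeilCoh.dim P.obj.left : ℤ)) := by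
    rw [hmi]
    exact T.pull_mem f i β β.2
  refine Groth.Agent.Lib.Helper67.eq_of_forall_tr_mul_eq T X
    (m + 2 * (WeilCoh.dim X.obj.left : ℤ) - 2 * (WeilCoh.dim P.obj.left : ℤ))
    (2 * (WeilCoh.dim P.obj.left : ℤ) - m) (by ring) _ _ (T.push p m x).2 hRHS ?_
  intro b hb
  rw [Groth.Agent.Lib.Helper67.tr_push_mul T p m x b hb]
  have hqβ : T.pull q (β : T.H Y) ∈ T.gr P i := T.pull_mem q i β β.2
  have hpb : T.pull p b ∈ T.gr P (2 * (WeilCoh.dim P.obj.left : ℤ) - m) := T.pull_mem p _ b hb
  have hab : T.pull q (β : T.H Y) * T.pull p b ∈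
      T.gr P (2 * (WeilCoh.pdim X.obj.left η : ℤ)) := by
    have h1 := SetLike.mul_mem_graded hqβ hpb
    have h2 : i + (2 * (WeilCoh.dim P.obj.left : ℤ) - m) =
        2 * (WeilCoh.pdim X.obj.left η : ℤ) := by
      rw [Groth.Agent.Lib.Helper97.VarPt.pdim_genericPoint, hm, hcP]
      ring
    rw [← h2]
    exact h1
  have hpush := T.cl_push j η (T.pull q (β : T.H Y) * T.pull p b) hab
  rw [hdeg, Nat.cast_one, one_mul, hclX, one_mul] at hpush
  have hpj : T.pull j (T.pull p b) = b := by
    have h1 := T.pull_comp j p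
    rw [hjp, T.pull_id] at h1
    have h2 := congrArg (fun φ => φ b) h1
    exact h2.symm
  have hqj : T.pull j (T.pull q (β : T.H Y)) = T.pull f (β : T.H Y) := by
    have h1 := T.pull_comp j q
    rw [hjq] at h1
    have h2 := congrArg (fun φ => φ (β : T.H Y)) h1
    exact h2.symm
  rw [map_mul (T.pull j), hpj, hqj] at hpush
  have hx' : (x : T.H P) = T.cl P (WeilCoh.sm j η) * T.pull q (β : T.H Y) := rfl
  rw [hx', mul_assoc, ← hpush]

end Groth.Agent.S15464
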