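import Groth.Statements.S15465
import Mathlib.CategoryTheory.Abelian.Refinements

set_option autoImplicit false
universe v u
open HomAlg

namespace Groth.Agent.S15465

open CategoryTheory CategoryTheory.Limits in
private lemma core {C : Type u} [Category.{v} C] [Abelian C] (S : ShortComplex C)
    {A₂ A₃ C₁ C₂ : C}
    (i₁ : S.X₁ ⟶ A₂) (p₁ : A₂ ⟶ A₃) (wA : i₁ ≫ p₁ = 0) (hA : (ShortComplex.mk i₁ p₁ wA).ShortExact)
    (i₂ : A₂ ⟶ S.X₂) (π₂ : S.X₂ ⟶ C₂) (wB : i₂ ≫ π₂ = 0) (hB : (ShortComplex.mk i₂ π₂ wB).ShortExact)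
    (j : C₁ ⟶ C₂) (q : C₂ ⟶ S.X₃) (wC : j ≫ q = 0) (hC : (ShortComplex.mk j q wC).ShortExact)
    (hSf : S.f = i₁ ≫ i₂) (hSg : S.g = π₂ ≫ q)
    (h₂ : i₂ ≫ S.g = 0) (h₃ : S.f ≫ π₂ = 0)
    (f : A₃ ⟶ S.homology) (g : S.homology ⟶ C₁)
    (hf : p₁ ≫ f = S.liftCycles i₂ h₂ ≫ S.homologyπ)
    (hg : g ≫ j = S.homologyι ≫ S.descOpcycles π₂ h₃) :
    ∃ wfg : f ≫ g = 0, (ShortComplex.mk f g wfg).ShortExact := by
  have mono_i₂ : Mono i₂ := hB.mono_f
  have mono_j : Mono j := hC.mono_f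
  have epi_p₁ : Epi p₁ := hA.epi_g
  have epi_π₂ : Epi π₂ := hB.epi_g
  -- a basic identity: a cycle followed by `g ≫ j`
  have hcyc : ∀ {T : C} (b : T ⟶ S.X₂) (hb : b ≫ S.g = 0),
      S.liftCycles b hb ≫ S.homologyπ ≫ g ≫ j = b ≫ π₂ := by
    intro T b hb
    rw [hg, S.homology_π_ι_assoc, S.p_descOpcycles, S.liftCycles_i_assoc]
  -- f ≫ g = 0
  have wfg : f ≫ g = 0 := by
    rw [← cancel_epi p₁, ← cancel_mono j, Category.assoc, Category.assoc, reassoc_of% hf,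
      hcyc, wB, comp_zero, zero_comp]
  refine ⟨wfg, ?_⟩
  -- mono f
  have mono_f : Mono f := by
    apply Preadditive.mono_of_cancel_zero
    intro T x hx
    obtain ⟨T', π, hπ, x', hx'⟩ := surjective_up_to_refinements_of_epi p₁ x
    have h1 : S.liftCycles (x' ≫ i₂) (by rw [Category.assoc, h₂, comp_zero]) ≫ S.homologyπ = 0 := by
      have : S.liftCycles (x' ≫ i₂) (by rw [Category.assoc, h₂, comp_zero]) =
          x' ≫ S.liftCycles i₂ h₂ := by
        rw [← cancel_mono S.iCycles, S.liftCycles_i, Category.assoc, S.liftCycles_i]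
      rw [this, Category.assoc, ← hf, ← reassoc_of% hx', hx, comp_zero]
    rw [S.liftCycles_comp_homologyπ_eq_zero_iff_up_to_refinements] at h1
    obtain ⟨T'', π', hπ', y, hy⟩ := h1
    have h2 : π' ≫ x' = y ≫ i₁ := by
      rw [← cancel_mono i₂, Category.assoc, Category.assoc, ← hSf]
      exact hy
    rw [← cancel_epi π, ← cancel_epi π', comp_zero, comp_zero, hx', reassoc_of% h2, wA, comp_zero]
  -- epi g
  have epi_g : Epi g := by
    rw [epi_iff_surjective_up_to_refinements]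
    intro T c
    obtain ⟨T', π, hπ, b, hb⟩ := surjective_up_to_refinements_of_epi π₂ (c ≫ j)
    have hb0 : b ≫ S.g = 0 := by
      rw [hSg, ← reassoc_of% hb, wC, comp_zero, comp_zero]
    refine ⟨T', π, hπ, S.liftCycles b hb0 ≫ S.homologyπ, ?_⟩
    rw [← cancel_mono j, Category.assoc, Category.assoc, Category.assoc, hcyc, hb]
  -- exactness
  have hex : (ShortComplex.mk f g wfg).Exact := by
    rw [ShortComplex.exact_iff_exact_up_to_refinements]
    intro T k hk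
    obtain ⟨T', π, hπ, b, hb, hk'⟩ := S.eq_liftCycles_homologyπ_up_to_refinements k
    have hbπ : b ≫ π₂ = 0 := by
      rw [← hcyc b hb, ← reassoc_of% hk']
      have : k ≫ g = 0 := hk
      rw [reassoc_of% this, zero_comp, comp_zero]
    -- lift `b` through `i₂`
    have ha : hB.exact.lift b hbπ ≫ i₂ = b := hB.exact.lift_f b hbπ
    refine ⟨T', π, hπ, hB.exact.lift b hbπ ≫ p₁, ?_⟩
    show π ≫ k = (hB.exact.lift b hbπ ≫ p₁) ≫ f
    rw [hk', Category.assoc, hf, ← Category.assoc]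
    congr 1
    rw [← cancel_mono S.iCycles, S.liftCycles_i, Category.assoc, S.liftCycles_i, ha]
  exact ⟨hex⟩

open CategoryTheory CategoryTheory.Limits in
/-- In an abelian category let 0 → A₂ → B₂ → C₂ → 0 (maps i₂, π₂), 0 → A₁ → A₂ → A₃ → 0 (maps i₁, p₁)
and 0 → C₁ → C₂ → C₃ → 0 (maps j, q) be short exact sequences, let α = i₁ ≫ i₂ : A₁ → B₂ and β = π₂
≫ q : B₂ → C₃, and let K = ker β / im α be the homology object of the complex A₁ → B₂ → C₃. Let f :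
A₃ → K be the map induced by i₂ (the unique map whose composite with p₁ is the homology class of the
cycle i₂) and g : K → C₁ the map induced by π₂ (the unique map whose composite with j is the map K →
C₂ induced by π₂). Then 0 → A₃ → K → C₁ → 0, with maps f and g, is a short exact sequence. (The
hypotheses w, h₂, h₃ are consequences of i₂ ≫ π₂ = 0, carried so that the maps can be named; the
published statement assumes in addition that the category has enough injective objects, which plays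
no role in this assertion.) -/
theorem result
    {C : Type u} [Category.{v} C] [Abelian C] {A₁ A₂ A₃ B₂ C₁ C₂ C₃ : C}
    (i₁ : A₁ ⟶ A₂) (p₁ : A₂ ⟶ A₃) (wA : i₁ ≫ p₁ = 0) (hA : (ShortComplex.mk i₁ p₁ wA).ShortExact)
    (i₂ : A₂ ⟶ B₂) (π₂ : B₂ ⟶ C₂) (wB : i₂ ≫ π₂ = 0) (hB : (ShortComplex.mk i₂ π₂ wB).ShortExact)
    (j : C₁ ⟶ C₂) (q : C₂ ⟶ C₃) (wC : j ≫ q = 0) (hC : (ShortComplex.mk j q wC).ShortExact)
    (w : (i₁ ≫ i₂) ≫ (π₂ ≫ q) = 0) (h₂ : i₂ ≫ (π₂ ≫ q) = 0) (h₃ : (i₁ ≫ i₂) ≫ π₂ = 0)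
    (f : A₃ ⟶ (CategoryTheory.ShortComplex.mk (i₁ ≫ i₂) (π₂ ≫ q) w).homology)
    (g : (CategoryTheory.ShortComplex.mk (i₁ ≫ i₂) (π₂ ≫ q) w).homology ⟶ C₁)
    (hf : p₁ ≫ f = (CategoryTheory.ShortComplex.mk (i₁ ≫ i₂) (π₂ ≫ q) w).liftCycles i₂ h₂ ≫ (CategoryTheory.ShortComplex.mk (i₁ ≫ i₂) (π₂ ≫ q) w).homologyπ)
    (hg : g ≫ j = (CategoryTheory.ShortComplex.mk (i₁ ≫ i₂) (π₂ ≫ q) w).homologyι ≫ (CategoryTheory.ShortComplex.mk (i₁ ≫ i₂) (π₂ ≫ q) w).descOpcycles π₂ h₃) :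
    ∃ wfg : f ≫ g = 0, (ShortComplex.mk f g wfg).ShortExact :=
  core (CategoryTheory.ShortComplex.mk (i₁ ≫ i₂) (π₂ ≫ q) w) i₁ p₁ wA hA i₂ π₂ wB hB j q wC hC
    rfl rfl h₂ h₃ f g hf hg

end Groth.Agent.S15465
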