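import Groth.Statements.S1547
import Mathlib
import Groth.Agent.Lib.Helper50.GeomScheme

set_option autoImplicit false
universe u
open CategoryTheory CategoryTheory.Limits AlgebraicGeometry
open Variety

namespace Groth.Agent.S1547

/-- Let k be a separably closed field, X a scheme over k and K any field extension of k. Then taking
images along the projection X_K → X is injective on irreducible components: two irreducible
components of X_K with the same image in X are equal. (Together with surjectivity on irreducible
components, stated separately, this gives a bijection of irreducible components.) -/
theorem result (k : Type u) [Field k] (X : Scheme.{u}) [X.Over (Spec (CommRingCat.of k))] [IsSepClosed k] (K : Type u) [Field K] [Algebra k K]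
    (T T' : Set (Curv2.bc k X K : Type u)) (hT : T ∈ irreducibleComponents (Curv2.bc k X K : Type u))
    (hT' : T' ∈ irreducibleComponents (Curv2.bc k X K : Type u))
    (h : (Curv2.bcFst k X K).base '' T = (Curv2.bcFst k X K).base '' T') : T = T' := by
    have hK : GeometricallyIrreducible (Spec.map (CommRingCat.ofHom (algebraMap k K))) :=
      Groth.Agent.Lib.Helper50.geometricallyIrreducible_specMap_of_isSepClosed k K
    have hg : GeometricallyIrreducible (Curv2.bcFst k X K) := inferInstance
    have ho : IsOpenMap (Curv2.bcFst k X K) := (Curv2.bcFst k X K).isOpenMap
    have := (Scheme.Hom.irreducibleComponentsEquiv (Curv2.bcFst k X K) ho).injective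
      (a₁ := ⟨T, hT⟩) (a₂ := ⟨T', hT'⟩) (Subtype.ext h)
    exact congrArg Subtype.val this

end Groth.Agent.S1547
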