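import Groth.Statements.S15488
import Mathlib
-- import your own Groth.Agent.* helpers here

set_option autoImplicit false
universe u
open IsoNat

namespace Groth.Agent.S15488

/-- Let A be a nontrivial commutative ring, G a finite group, g an element of G of order ν and l an
element of A with l ^ ν = 1. In the free A-module of functions G → A (the regular representation, g
acting by translation v ↦ v(g·)), the submodule of v with v(g h) = l v(h) for all h is a direct
summand, free of rank |G| / ν (stated as: free, rank · ν = |G|, and a complementary submodule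
exists). (The published statement is over an arbitrary ring and also covers Hom(A^N, −) of the
regular representation, which follows; nontriviality of A is needed for the rank to be meaningful.) -/
theorem result
    (A : Type u) [CommRing A] [Nontrivial A] (G : Type u) [Group G] [Finite G]
    (g : G) (l : A) (hl : l ^ orderOf g = 1) :
    Module.Free A (LinearMap.ker (LinearMap.funLeft A A (fun h : G => g * h) - l • LinearMap.id)) ∧
      Module.finrank A (LinearMap.ker (LinearMap.funLeft A A (fun h : G => g * h) - l • LinearMap.id)) * orderOf g = Nat.card G ∧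
      ∃ E' : Submodule A (G → A), IsCompl (LinearMap.ker (LinearMap.funLeft A A (fun h : G => g * h) - l • LinearMap.id)) E' := by
  classical
  set K := LinearMap.ker (LinearMap.funLeft A A (fun h : G => g * h) - l • LinearMap.id) with hK
  have hmemK : ∀ v : G → A, v ∈ K ↔ ∀ h, v (g * h) = l * v h := by
    intro v
    rw [hK, LinearMap.mem_ker, LinearMap.sub_apply, sub_eq_zero, funext_iff]
    simp [LinearMap.funLeft_apply]
  have hν : 0 < orderOf g := orderOf_pos g
  -- key: exponents of `g` control exponents of `l`
  have hpow : ∀ a b : ℕ, g ^ a = g ^ b → l ^ a = l ^ b := fun a b hab =>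
    pow_eq_pow_of_modEq (pow_eq_pow_iff_modEq.mp hab) hl
  let H : Subgroup G := Subgroup.zpowers g
  let Q := Quotient (QuotientGroup.rightRel H)
  let σ : Q → G := Quotient.out
  let cls : G → Q := fun h => Quotient.mk (QuotientGroup.rightRel H) h
  have hn : ∀ h : G, ∃ n : ℕ, g ^ n * σ (cls h) = h := by
    intro h
    have h1 : (QuotientGroup.rightRel H) (σ (cls h)) h := Quotient.mk_out h
    rw [QuotientGroup.rightRel_apply] at h1
    have h2 : h * (σ (cls h))⁻¹ ∈ Submonoid.powers g := mem_powers_iff_mem_zpowers.mpr h1
    obtain ⟨n, hn⟩ := h2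
    exact ⟨n, by change g ^ n = _ at hn; rw [hn, inv_mul_cancel_right]⟩
  choose n hn using hn
  have hcls : ∀ h : G, cls (g * h) = cls h := by
    intro h
    apply Quotient.sound
    change (QuotientGroup.rightRel H) (g * h) h
    rw [QuotientGroup.rightRel_apply]
    have : h * (g * h)⁻¹ = g⁻¹ := by group
    rw [this]
    exact H.inv_mem (Subgroup.mem_zpowers g)
  have hclsσ : ∀ q : Q, cls (σ q) = q := fun q => Quotient.out_eq q
  -- extension map
  let ext : (Q → A) →ₗ[A] (G → A) :=
    { toFun := fun w h => l ^ n h * w (cls h)
      map_add' := fun w w' => by funext h; simp [mul_add]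
      map_smul' := fun c w => by funext h; simp [mul_left_comm] }
  have hext_apply : ∀ w h, ext w h = l ^ n h * w (cls h) := fun _ _ => rfl
  have hextK : ∀ w, ext w ∈ K := by
    intro w
    rw [hmemK]
    intro h
    rw [hext_apply, hext_apply, hcls h, ← mul_assoc, ← pow_succ']
    congr 1
    apply hpow
    have h1 := hn (g * h)
    rw [hcls h] at h1
    have h2 : g ^ (n h + 1) * σ (cls h) = g * h := by
      rw [pow_succ', mul_assoc, hn h]
    exact mul_right_cancel (h1.trans h2.symm)
  have hextσ : ∀ w q, ext w (σ q) = w q := by
    intro w q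
    rw [hext_apply, hclsσ]
    have h1 := hn (σ q)
    rw [hclsσ] at h1
    have : g ^ n (σ q) = g ^ 0 := by
      rw [pow_zero]
      exact mul_right_cancel (h1.trans (one_mul _).symm)
    rw [hpow _ _ this, pow_zero, one_mul]
  have hKpow : ∀ v ∈ K, ∀ (k : ℕ) (x : G), v (g ^ k * x) = l ^ k * v x := by
    intro v hv k
    induction k with
    | zero => intro x; simp
    | succ k ih =>
      intro x
      rw [pow_succ', mul_assoc, (hmemK v).mp hv, ih, ← mul_assoc, ← pow_succ']
  have hextres : ∀ v ∈ K, ext (fun q => v (σ q)) = v := by
    intro v hv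
    funext h
    rw [hext_apply, ← hKpow v hv, hn h]
  -- restriction map
  let res : (G → A) →ₗ[A] (Q → A) := LinearMap.funLeft A A σ
  have hres_apply : ∀ v q, res v q = v (σ q) := fun _ _ => rfl
  -- the equivalence `K ≃ (Q → A)`
  let e : K ≃ₗ[A] (Q → A) :=
    { toLinearMap := res.comp K.subtype
      invFun := fun w => ⟨ext w, hextK w⟩
      left_inv := fun v => Subtype.ext (hextres v.1 v.2)
      right_inv := fun w => by funext q; exact hextσ w q }
  haveI : Finite Q := Quotient.finite _
  haveI : Fintype Q := Fintype.ofFinite Q
  refine ⟨Module.Free.of_equiv e.symm, ?_, ?_⟩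
  · rw [e.finrank_eq, Module.finrank_fintype_fun_eq_card, ← Nat.card_eq_fintype_card,
      Nat.card_congr (QuotientGroup.quotientRightRelEquivQuotientLeftRel H),
      ← Nat.card_zpowers g]
    exact (Subgroup.card_eq_card_quotient_mul_card_subgroup H).symm
  · let f : (G → A) →ₗ[A] K := (ext.comp res).codRestrict K (fun v => hextK _)
    refine ⟨LinearMap.ker f, LinearMap.isCompl_of_proj (f := f) ?_⟩
    intro x
    apply Subtype.ext
    exact hextres x.1 x.2

end Groth.Agent.S15488
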