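import Groth.Statements.S15491

set_option autoImplicit false
universe v u
open CategoryTheory CategoryTheory.Functor
open IsoNat

namespace Groth.Agent.S15491

open CategoryTheory.Limits CategoryTheory.Limits.CategoricalPullback

section
variable {B A' B' A'' B'' : Type u} [Category.{v} B] [Category.{v} A'] [Category.{v} B']
    [Category.{v} A''] [Category.{v} B'']
    (r : B ⥤ B') (t' : A' ⥤ B') (l' : A' ⥤ A'') (r' : B' ⥤ B'') (t'' : A'' ⥤ B'')
    (e₂ : t' ⋙ r' ≅ l' ⋙ t'')

/-- the comparison functor of the lower square -/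
private abbrev phi₂ : A' ⥤ r' ⊡ t'' :=
  (CatCommSqOver.toFunctorToCategoricalPullback r' t'' A').obj ⟨t', l', e₂⟩

/-- the functor between 2-fibre products induced by the lower square -/
private def psi : r ⊡ t' ⥤ (r ⋙ r') ⊡ t'' where
  obj x :=
    { fst := x.fst
      snd := l'.obj x.snd
      iso := r'.mapIso x.iso ≪≫ e₂.app x.snd }
  map {x y} f :=
    { fst := f.fst
      snd := l'.map f.snd
      w := by
        dsimp
        rw [← Category.assoc, ← r'.map_comp, f.w, r'.map_comp, Category.assoc, Category.assoc]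
        congr 1
        exact e₂.hom.naturality f.snd }
  map_id x := by ext <;> simp
  map_comp f g := by ext <;> simp

private lemma psi_faithful [(phi₂ t' l' r' t'' e₂).Faithful] : (psi r t' l' r' t'' e₂).Faithful where
  map_injective {x y} f g h := by
    have h1 : f.fst = g.fst :=
      congrArg (fun m : (psi r t' l' r' t'' e₂).obj x ⟶ (psi r t' l' r' t'' e₂).obj y => m.fst) h
    have h2 : l'.map f.snd = l'.map g.snd :=
      congrArg (fun m : (psi r t' l' r' t'' e₂).obj x ⟶ (psi r t' l' r' t'' e₂).obj y => m.snd) h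
    have h3 : t'.map f.snd = t'.map g.snd := by
      have hf := f.w
      have hg := g.w
      rw [h1] at hf
      have : x.iso.hom ≫ t'.map f.snd = x.iso.hom ≫ t'.map g.snd := by rw [← hf, ← hg]
      exact (cancel_epi _).mp this
    have h4 : (phi₂ t' l' r' t'' e₂).map f.snd = (phi₂ t' l' r' t'' e₂).map g.snd := by
      ext
      · exact h3
      · exact h2
    ext
    · exact h1
    · exact (phi₂ t' l' r' t'' e₂).map_injective h4

private lemma psi_full [(phi₂ t' l' r' t'' e₂).Full] : (psi r t' l' r' t'' e₂).Full where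
  map_surjective {x y} f := by
    -- the components of `f`, with clean types
    let f1 : x.fst ⟶ y.fst := f.fst
    let f2 : l'.obj x.snd ⟶ l'.obj y.snd := f.snd
    have hfw : r'.map (r.map f1) ≫ r'.map y.iso.hom ≫ e₂.hom.app y.snd =
        (r'.map x.iso.hom ≫ e₂.hom.app x.snd) ≫ t''.map f2 := f.w
    -- the morphism `Φ₂ x.snd ⟶ Φ₂ y.snd`
    have hw : r'.map (x.iso.inv ≫ r.map f1 ≫ y.iso.hom) ≫ e₂.hom.app y.snd =
        e₂.hom.app x.snd ≫ t''.map f2 := by
      rw [r'.map_comp, r'.map_comp, Category.assoc, Category.assoc, hfw, ← Category.assoc,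
        ← Category.assoc, ← r'.map_comp, Iso.inv_hom_id, r'.map_id, Category.id_comp]
    let g : (phi₂ t' l' r' t'' e₂).obj x.snd ⟶ (phi₂ t' l' r' t'' e₂).obj y.snd :=
      { fst := x.iso.inv ≫ r.map f1 ≫ y.iso.hom, snd := f2, w := hw }
    obtain ⟨α, hα⟩ := (phi₂ t' l' r' t'' e₂).map_surjective g
    have h1 : t'.map α = x.iso.inv ≫ r.map f1 ≫ y.iso.hom :=
      congrArg (fun m : (phi₂ t' l' r' t'' e₂).obj x.snd ⟶ (phi₂ t' l' r' t'' e₂).obj y.snd =>
        m.fst) hα
    have h2 : l'.map α = f2 :=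
      congrArg (fun m : (phi₂ t' l' r' t'' e₂).obj x.snd ⟶ (phi₂ t' l' r' t'' e₂).obj y.snd =>
        m.snd) hα
    refine ⟨{ fst := f1, snd := α, w := ?_ }, ?_⟩
    · rw [h1, Iso.hom_inv_id_assoc]
    · ext
      · rfl
      · exact h2

private lemma psi_essSurj [(phi₂ t' l' r' t'' e₂).EssSurj] : (psi r t' l' r' t'' e₂).EssSurj where
  mem_essImage z := by
    let w : r' ⊡ t'' := { fst := r.obj z.fst, snd := z.snd, iso := z.iso }
    let a' : A' := (phi₂ t' l' r' t'' e₂).objPreimage w
    let φ : (phi₂ t' l' r' t'' e₂).obj a' ≅ w := (phi₂ t' l' r' t'' e₂).objObjPreimageIso w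
    -- components of `φ`
    let u : t'.obj a' ≅ r.obj z.fst := (π₁ r' t'').mapIso φ
    let v : l'.obj a' ≅ z.snd := (π₂ r' t'').mapIso φ
    have hφ : r'.map u.hom ≫ z.iso.hom = e₂.hom.app a' ≫ t''.map v.hom := φ.hom.w
    refine ⟨{ fst := z.fst, snd := a', iso := u.symm }, ⟨?_⟩⟩
    refine CategoricalPullback.mkIso (Iso.refl _) v ?_
    show (r ⋙ r').map (𝟙 z.fst) ≫ z.iso.hom =
      (r'.map u.inv ≫ e₂.hom.app a') ≫ t''.map v.hom
    rw [Category.assoc, ← hφ, ← Category.assoc, ← r'.map_comp, Iso.inv_hom_id, r'.map_id,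
      (r ⋙ r').map_id]
    rfl

private lemma psi_isEquivalence (h : (phi₂ t' l' r' t'' e₂).IsEquivalence) :
    (psi r t' l' r' t'' e₂).IsEquivalence := by
  have := h.faithful
  have := h.full
  have := h.essSurj
  exact { faithful := psi_faithful r t' l' r' t'' e₂
          full := psi_full r t' l' r' t'' e₂
          essSurj := psi_essSurj r t' l' r' t'' e₂ }

end

/-- Pasting of 2-cartesian squares, stated in the 2-category of categories. Consider functors t : A → B,
t' : A' → B', t'' : A'' → B'' and l : A → A', r : B → B', l' : A' → A'', r' : B' → B'' with natural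
isomorphisms e₁ : t ⋙ r ≅ l ⋙ t' and e₂ : t' ⋙ r' ≅ l' ⋙ t''. If the lower square (t', l', r', t'',
e₂) is 2-cartesian (its comparison functor to the 2-fibre product is an equivalence), then the upper
square (t, l, r, t', e₁) is 2-cartesian if and only if the outer rectangle (t, l ⋙ l', r ⋙ r', t'')
with the pasted isomorphism is. (The published statement is for an arbitrary 2-category whose
2-morphisms are invertible; this row is the case of categories, functors and natural isomorphisms.) -/
theorem result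
    {A B A' B' A'' B'' : Type u} [Category.{v} A] [Category.{v} B] [Category.{v} A'] [Category.{v} B']
    [Category.{v} A''] [Category.{v} B'']
    (t : A ⥤ B) (l : A ⥤ A') (r : B ⥤ B') (t' : A' ⥤ B') (l' : A' ⥤ A'') (r' : B' ⥤ B'') (t'' : A'' ⥤ B'')
    (e₁ : t ⋙ r ≅ l ⋙ t') (e₂ : t' ⋙ r' ≅ l' ⋙ t'')
    (h₂ : FibCat.IsTwoCart t' l' r' t'' e₂) :
    FibCat.IsTwoCart t l r t' e₁ ↔
      FibCat.IsTwoCart t (l ⋙ l') (r ⋙ r') t''
        ((Functor.associator t r r').symm ≪≫ isoWhiskerRight e₁ r' ≪≫ Functor.associator l t' r' ≪≫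
          isoWhiskerLeft l e₂ ≪≫ (Functor.associator l l' t'').symm) := by
  have hΨ : (psi r t' l' r' t'' e₂).IsEquivalence := psi_isEquivalence r t' l' r' t'' e₂ h₂
  unfold FibCat.IsTwoCart
  -- the outer comparison functor is the composite of the upper one with `Ψ`
  let iso : (CatCommSqOver.toFunctorToCategoricalPullback r t' A).obj ⟨t, l, e₁⟩ ⋙
        psi r t' l' r' t'' e₂ ≅
      (CatCommSqOver.toFunctorToCategoricalPullback (r ⋙ r') t'' A).obj
        ⟨t, l ⋙ l', (Functor.associator t r r').symm ≪≫ isoWhiskerRight e₁ r' ≪≫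
          Functor.associator l t' r' ≪≫ isoWhiskerLeft l e₂ ≪≫ (Functor.associator l l' t'').symm⟩ :=
    NatIso.ofComponents
      (fun a => CategoricalPullback.mkIso (Iso.refl _) (Iso.refl _) (by
        show (r ⋙ r').map (𝟙 (t.obj a)) ≫ (𝟙 _ ≫ r'.map (e₁.hom.app a) ≫ 𝟙 _ ≫
          e₂.hom.app (l.obj a) ≫ 𝟙 _) = (r'.map (e₁.hom.app a) ≫ e₂.hom.app (l.obj a)) ≫
            t''.map (𝟙 _)
        simp))
      (fun f => by
        ext
        · show t.map f ≫ 𝟙 _ = 𝟙 _ ≫ t.map f
          simp
        · show l'.map (l.map f) ≫ 𝟙 _ = 𝟙 _ ≫ l'.map (l.map f)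
          simp)
  constructor
  · intro h
    have : ((CatCommSqOver.toFunctorToCategoricalPullback r t' A).obj ⟨t, l, e₁⟩).IsEquivalence := h
    exact Functor.isEquivalence_of_iso iso
  · intro h
    have : ((CatCommSqOver.toFunctorToCategoricalPullback r t' A).obj ⟨t, l, e₁⟩ ⋙
        psi r t' l' r' t'' e₂).IsEquivalence := Functor.isEquivalence_of_iso iso.symm
    exact Functor.isEquivalence_of_comp_right _ (psi r t' l' r' t'' e₂)

end Groth.Agent.S15491
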