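import Groth.Statements.S15494
import Mathlib.Tactic

set_option autoImplicit false
universe u v
open Dieud

namespace Groth.Agent.S15494

section
variable {W : Type u} [CommRing W] (σ : W →+* W) (p : ℕ)
    {M : Type v} [AddCommGroup M] [Module W M]
    (F : M →+ M) (hF : ∀ (w : W) (m : M), F (w • m) = σ w • F m)
    (d : ℕ) (a : ℕ → ℕ → W) (e : ℕ → M)

/-- the partial sum appearing in the formula -/
private def tSum (m : ℕ) : M :=
  ∑ i ∈ Finset.Icc 1 d, ∑ j ∈ Finset.Icc d m,
    ((p : W) ^ (j - d) * (⇑σ)^[m - j] (a i j)) • (⇑F)^[m + i - j - 1] (e 1)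

include hF in
private lemma step (he : ∀ i, 1 ≤ i → i ≤ d → e i = (⇑F)^[i - 1] (e 1))
    (m : ℕ) (hm : d ≤ m) (R : M)
    (h1 : (⇑F)^[m] (e 1) = tSum σ p F d a e m + (p : W) ^ (m - d) • e (m + 1))
    (h2 : F (e (m + 1)) = (∑ i ∈ Finset.Icc 1 d, ((p : W) * a i (m + 1)) • e i) + R) :
    (⇑F)^[m + 1] (e 1) = tSum σ p F d a e (m + 1) + (p : W) ^ (m - d) • R := by
  rw [Function.iterate_succ_apply', h1, map_add, hF, map_pow, map_natCast, h2, smul_add,
    ← add_assoc]
  congr 1
  unfold tSum
  rw [map_sum, Finset.smul_sum, ← Finset.sum_add_distrib]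
  apply Finset.sum_congr rfl
  intro i hi
  rw [Finset.mem_Icc] at hi
  rw [Finset.sum_Icc_succ_top (by omega : d ≤ m + 1), map_sum]
  congr 1
  · apply Finset.sum_congr rfl
    intro j hj
    rw [Finset.mem_Icc] at hj
    rw [hF, map_mul, map_pow, map_natCast, ← Function.iterate_succ_apply' (⇑σ),
      ← Function.iterate_succ_apply' (⇑F)]
    have e1 : (m - j).succ = m + 1 - j := by omega
    have e2 : (m + i - j - 1).succ = m + 1 + i - j - 1 := by omega
    rw [e1, e2]
  · have e3 : m + 1 + i - (m + 1) - 1 = i - 1 := by omega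
    have e4 : m + 1 - (m + 1) = 0 := by omega
    have e5 : m + 1 - d = (m - d) + 1 := by omega
    rw [e3, e4, Function.iterate_zero, id, ← he i hi.1 hi.2, smul_smul, e5, pow_succ, mul_assoc]

end

/-- Let W be a commutative ring with a ring endomorphism σ, p a natural number, M a W-module and F an
additive self-map of M with F (w • m) = σ w • F m. Let d ≥ 1, c ≥ 1, h = d + c, and let e_1, …, e_h,
… be vectors of M on which F acts through a display matrix in normal form: F e_i = e_{i+1} for 1 ≤ i
< d; F e_d = Σ_{i=1}^{d} a_{i,d} e_i + e_{d+1}; F e_j = Σ_{i=1}^{d} p a_{i,j} e_i + p e_{j+1} for d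
< j < h; F e_h = Σ_{i=1}^{d} p a_{i,h} e_i. Then F^h e_1 = Σ_{i=1}^{d} Σ_{j=d}^{h} p^{j-d}
σ^{h-j}(a_{i,j}) F^{h+i-j-1} e_1. (The published statement is for the Dieudonné module of a
p-divisible group of dimension d and height h over the Witt ring of a field of characteristic p,
with σ the Frobenius and e_1, …, e_h a basis; this row keeps only the relations which the printed
computation uses, so W, σ, p and the vectors are arbitrary.) -/
theorem result
    (W : Type u) [CommRing W] (σ : W →+* W) (p : ℕ)
    (M : Type v) [AddCommGroup M] [Module W M]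
    (F : M →+ M) (hF : ∀ (w : W) (m : M), F (w • m) = σ w • F m)
    (d c : ℕ) (hd : 0 < d) (hc : 0 < c)
    (a : ℕ → ℕ → W) (e : ℕ → M)
    (h1 : ∀ i : ℕ, 1 ≤ i → i < d → F (e i) = e (i + 1))
    (h2 : F (e d) = (∑ i ∈ Finset.Icc 1 d, a i d • e i) + e (d + 1))
    (h3 : ∀ j : ℕ, d < j → j < d + c →
      F (e j) = (∑ i ∈ Finset.Icc 1 d, ((p : W) * a i j) • e i) + (p : W) • e (j + 1))
    (h4 : F (e (d + c)) = ∑ i ∈ Finset.Icc 1 d, ((p : W) * a i (d + c)) • e i) :
    (⇑F)^[d + c] (e 1) = ∑ i ∈ Finset.Icc 1 d, ∑ j ∈ Finset.Icc d (d + c),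
      ((p : W) ^ (j - d) * (⇑σ)^[d + c - j] (a i j)) • (⇑F)^[d + c + i - j - 1] (e 1) := by
  -- `e i = F^{i-1} e 1` for `1 ≤ i ≤ d`
  have he : ∀ i, 1 ≤ i → i ≤ d → e i = (⇑F)^[i - 1] (e 1) := by
    intro i hi
    induction i, hi using Nat.le_induction with
    | base => intro _; rfl
    | succ i hi ih =>
      intro hid
      rw [← h1 i hi (by omega), ih (by omega)]
      have : i + 1 - 1 = (i - 1) + 1 := by omega
      rw [this, Function.iterate_succ_apply']
  -- the inductive claim
  have key : ∀ m, d ≤ m → m < d + c →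
      (⇑F)^[m] (e 1) = tSum σ p F d a e m + (p : W) ^ (m - d) • e (m + 1) := by
    intro m hm
    induction m, hm using Nat.le_induction with
    | base =>
      intro _
      have hd1 : d = (d - 1) + 1 := by omega
      conv_lhs => rw [hd1, Function.iterate_succ_apply', ← he d hd le_rfl, h2]
      rw [Nat.sub_self, pow_zero, one_smul]
      congr 1
      unfold tSum
      apply Finset.sum_congr rfl
      intro i hi
      rw [Finset.mem_Icc] at hi
      rw [Finset.Icc_self, Finset.sum_singleton, Nat.sub_self, pow_zero, one_mul,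
        Function.iterate_zero, id]
      have : d + i - d - 1 = i - 1 := by omega
      rw [this, ← he i hi.1 hi.2]
    | succ m hm ih =>
      intro hlt
      have := step σ p F hF d a e he m hm ((p : W) • e (m + 1 + 1)) (ih (by omega))
        (h3 (m + 1) (by omega) hlt)
      rw [this, smul_smul]
      have e5 : m + 1 - d = (m - d) + 1 := by omega
      rw [e5, pow_succ]
  have hfin := step σ p F hF d a e he (d + c - 1) (by omega) 0 (key (d + c - 1) (by omega) (by omega))
    (by
      have : d + c - 1 + 1 = d + c := by omega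
      rw [this, add_zero]
      exact h4)
  have e6 : d + c - 1 + 1 = d + c := by omega
  rw [e6, smul_zero, add_zero] at hfin
  exact hfin

end Groth.Agent.S15494
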