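import Groth.Statements.S15495
import Mathlib.Tactic
import Mathlib.RingTheory.Ideal.Quotient.Operations
import Mathlib.RingTheory.Jacobson.Ideal

set_option autoImplicit false
universe u
open CAlg

namespace Groth.Agent.S15495

private lemma step {R : Type u} [CommRing R] (I : Ideal R) (p : ℕ) (hp : (p : R) ∈ I)
    (k : ℕ) (y : R) (hyI : y ∈ I) (hy : y ∈ I ^ k) : (1 + y) ^ p - 1 ∈ I ^ (k + 1) := by
  have h1 : (1 + y) ^ p - 1 = y * ∑ i ∈ Finset.range p, (1 + y) ^ i := by
    have := mul_geom_sum (1 + y) p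
    rw [← this]; ring
  rw [h1, pow_succ]
  refine Ideal.mul_mem_mul hy ?_
  rw [← Ideal.Quotient.eq_zero_iff_mem]
  have hy0 : Ideal.Quotient.mk I y = 0 := Ideal.Quotient.eq_zero_iff_mem.mpr hyI
  have hp0 : (p : R ⧸ I) = 0 := by
    have := Ideal.Quotient.eq_zero_iff_mem.mpr hp
    simpa using this
  simp [map_sum, hy0, hp0]

private lemma main {R : Type u} [CommRing R] (I : Ideal R) (p : ℕ) (hp : (p : R) ∈ I)
    (n : ℕ) (x : R) (hx : x ∈ I) : (1 + x) ^ (p ^ n) - 1 ∈ I ^ (n + 1) := by
  induction n with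
  | zero => simpa using hx
  | succ n ih =>
    have hyI : (1 + x) ^ (p ^ n) - 1 ∈ I := Ideal.pow_le_self (by omega) ih
    have := step I p hp (n + 1) _ hyI ih
    have e : (1 + x) ^ p ^ (n + 1) = (1 + ((1 + x) ^ p ^ n - 1)) ^ p := by
      rw [pow_succ p n, pow_mul]; congr 1; ring
    rw [e]
    exact this

/-- In an Artinian local ring R whose maximal ideal m contains the prime number p, the multiplicative
group 1 + m is annihilated under some power of p: there is n with (1 + x)^(p^n) = 1 for every x in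
m. (The published text makes this assertion inside a proof, for Artinian local algebras over the
Witt ring of a perfect field of characteristic p; only p ∈ m and the nilpotence of m are used.) -/
theorem result
    (R : Type u) [CommRing R] [IsLocalRing R] [IsArtinianRing R]
    (p : ℕ) (hp : p.Prime) (hpm : (p : R) ∈ IsLocalRing.maximalIdeal R) :
    ∃ n : ℕ, ∀ x ∈ IsLocalRing.maximalIdeal R, (1 + x) ^ (p ^ n) = 1 := by
  have hnil : IsNilpotent (IsLocalRing.maximalIdeal R) := by
    have := IsArtinianRing.isNilpotent_jacobson_bot (R := R)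
    rwa [IsLocalRing.jacobson_eq_maximalIdeal ⊥ bot_ne_top] at this
  obtain ⟨N, hN⟩ := hnil
  refine ⟨N, fun x hx => ?_⟩
  have h := main (IsLocalRing.maximalIdeal R) p hpm N x hx
  have h2 : (IsLocalRing.maximalIdeal R) ^ (N + 1) ≤ (IsLocalRing.maximalIdeal R) ^ N :=
    Ideal.pow_le_pow_right (Nat.le_succ N)
  have h3 := h2 h
  rw [hN] at h3
  have h4 : (1 + x) ^ (p ^ N) - 1 = 0 := by simpa using h3
  exact sub_eq_zero.mp h4

end Groth.Agent.S15495
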