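import Groth.Statements.S15496
import Mathlib
-- import your own Groth.Agent.* helpers here

set_option autoImplicit false
universe u
open CAlg

namespace Groth.Agent.S15496

theorem charP_of_prime_cast_eq_zero (k : Type*) [Field k] (p : ℕ) (hp : p.Prime) (h : (p : k) = 0) :
    CharP k p := by
  obtain ⟨q, hq⟩ := CharP.exists k
  have hdvd : q ∣ p := (CharP.cast_eq_zero_iff k q p).mp h
  rcases (Nat.dvd_prime hp).mp hdvd with h1 | h1
  · exact absurd h1 (CharP.char_ne_one k q)
  · rwa [h1] at hq

theorem exists_pow_pow_eq {k : Type*} [Monoid k] (p : ℕ) (hperf : ∀ a : k, ∃ b : k, b ^ p = a) (n : ℕ) :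
    ∀ a : k, ∃ b : k, b ^ (p ^ n) = a := by
  induction n with
  | zero => intro a; exact ⟨a, by simp⟩
  | succ n ih =>
    intro a
    obtain ⟨c, hc⟩ := ih a
    obtain ⟨b, hb⟩ := hperf c
    exact ⟨b, by rw [pow_succ, mul_comm, pow_mul, hb, hc]⟩

/-- Let R be a local ring with maximal ideal m, p a prime number lying in m, and suppose the residue
field of R is perfect, i.e. every element is a p-th power; let n ≥ 0. Then every unit of R is the
product of a p^n-th power of a unit and an element of 1 + m, and an element of 1 + m which is a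
p^n-th power of a unit is a p^n-th power of an element of 1 + m; so the inclusion of 1 + m in the
unit group induces a bijection between (1 + m)/(1 + m)^(p^n) and Rˣ/(Rˣ)^(p^n). (The published text
derives this equality of quotients, inside a proof, from perfectness of the base field K for all
Artinian local algebras over its Witt ring, whose residue fields need not be perfect; this row
assumes the residue field of R perfect of characteristic p, which the equality needs, and does not
assume R Artinian.) -/
theorem result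
    (R : Type u) [CommRing R] [IsLocalRing R] (p : ℕ) (hp : p.Prime)
    (hpm : (p : R) ∈ IsLocalRing.maximalIdeal R)
    (hperf : ∀ a : IsLocalRing.ResidueField R, ∃ b : IsLocalRing.ResidueField R, b ^ p = a)
    (n : ℕ) :
    (∀ u : Rˣ, ∃ v : Rˣ, ∃ x ∈ IsLocalRing.maximalIdeal R, (u : R) = (v : R) ^ (p ^ n) * (1 + x)) ∧
    (∀ x ∈ IsLocalRing.maximalIdeal R, (∃ v : Rˣ, (v : R) ^ (p ^ n) = 1 + x) →
      ∃ y ∈ IsLocalRing.maximalIdeal R, (1 + y) ^ (p ^ n) = 1 + x) := by
  have hp0 : ((p : ℕ) : IsLocalRing.ResidueField R) = 0 := by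
    have : IsLocalRing.residue R (p : R) = 0 := (IsLocalRing.residue_eq_zero_iff _).mpr hpm
    simpa using this
  have : CharP (IsLocalRing.ResidueField R) p := charP_of_prime_cast_eq_zero _ p hp hp0
  have : Fact p.Prime := ⟨hp⟩
  constructor
  · intro u
    obtain ⟨b, hb⟩ := exists_pow_pow_eq p hperf n (IsLocalRing.residue R (u : R))
    obtain ⟨w, hw⟩ := IsLocalRing.residue_surjective b
    have hu : IsLocalRing.residue R (u : R) ≠ 0 := by
      rw [Ne, IsLocalRing.residue_eq_zero_iff]
      exact fun h => (IsLocalRing.mem_maximalIdeal _).mp h u.isUnit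
    have hb0 : b ≠ 0 := by
      rintro rfl
      rw [zero_pow (pow_ne_zero _ hp.ne_zero)] at hb
      exact hu hb.symm
    have hwu : IsUnit w := by
      by_contra hw'
      have : w ∈ IsLocalRing.maximalIdeal R := (IsLocalRing.mem_maximalIdeal _).mpr hw'
      rw [← IsLocalRing.residue_eq_zero_iff, hw] at this
      exact hb0 this
    obtain ⟨v, rfl⟩ := hwu
    refine ⟨v, (u : R) * ((v ^ (p ^ n))⁻¹ : Rˣ) - 1, ?_, ?_⟩
    · have h1 : ((v : R) ^ (p ^ n)) * (((v ^ (p ^ n))⁻¹ : Rˣ) : R) = 1 := by
        rw [← Units.val_pow_eq_pow_val, Units.mul_inv]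
      rw [← IsLocalRing.residue_eq_zero_iff, map_sub, map_mul, map_one, sub_eq_zero, ← hb, ← hw,
        ← map_pow, ← map_mul, h1, map_one]
    · have : ((v : R) ^ (p ^ n)) * (((v ^ (p ^ n))⁻¹ : Rˣ) : R) = 1 := by
        rw [← Units.val_pow_eq_pow_val, Units.mul_inv]
      calc (u : R) = (u : R) * ((v : R) ^ (p ^ n) * (((v ^ (p ^ n))⁻¹ : Rˣ) : R)) := by
            rw [this, mul_one]
        _ = (v : R) ^ (p ^ n) * (1 + ((u : R) * ((v ^ (p ^ n))⁻¹ : Rˣ) - 1)) := by ring
  · rintro x hx ⟨v, hv⟩
    refine ⟨(v : R) - 1, ?_, by rw [add_sub_cancel, hv]⟩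
    rw [← IsLocalRing.residue_eq_zero_iff, map_sub, map_one]
    have h1 : (IsLocalRing.residue R (v : R) - 1) ^ (p ^ n) = 0 := by
      rw [sub_pow_char_pow, one_pow, ← map_pow, hv, map_add, map_one,
        (IsLocalRing.residue_eq_zero_iff x).mpr hx, add_zero, sub_self]
    exact pow_eq_zero_iff (pow_ne_zero _ hp.ne_zero) |>.mp h1

end Groth.Agent.S15496
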