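import Groth.Statements.S15498
import Mathlib
-- import your own Groth.Agent.* helpers here

set_option autoImplicit false
open NewtonPoly

namespace Groth.Agent.S15498

open Finset in
theorem key_pair (m n : ℕ) (hmn : Nat.Coprime m n) (j : ℕ) (hj1 : 1 ≤ j) (hjm : j < m) :
    j * n / m + (m - j) * n / m = n - 1 := by
  have hm : 0 < m := by omega
  set q := j * n / m with hq
  set r := j * n % m with hr
  have hdm : m * q + r = j * n := Nat.div_add_mod (j * n) m
  have hrlt : r < m := Nat.mod_lt _ hm
  have hr0 : r ≠ 0 := by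
    intro h0
    have hdvd : m ∣ j * n := Nat.dvd_of_mod_eq_zero h0
    have : m ∣ j := hmn.dvd_of_dvd_mul_right hdvd
    have := Nat.le_of_dvd (by omega) this
    omega
  have hsum : j * n + (m - j) * n = m * n := by
    rw [← Nat.add_mul]; congr 1; omega
  have hqn : q < n := by
    by_contra hnot
    rw [not_lt] at hnot
    have h1 : m * n ≤ m * q := Nat.mul_le_mul_left m hnot
    have h2 : j * n < m * n := by
      rcases Nat.eq_zero_or_pos n with h0 | hpos
      · subst h0; omega
      · exact Nat.mul_lt_mul_of_pos_right hjm hpos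
    omega
  obtain ⟨c, hc⟩ : ∃ c, n = c + 1 + q := ⟨n - 1 - q, by omega⟩
  have hexp : m * n = m * c + m + m * q := by rw [hc]; ring
  have hr0' : 0 < r := Nat.pos_of_ne_zero hr0
  have hB : (m - j) * n / m = c := by
    apply Nat.div_eq_of_lt_le
    · rw [mul_comm c m]
      generalize (m - j) * n = B at *
      generalize j * n = A at *
      generalize m * n = MN at *
      generalize m * c = MC at *
      generalize m * q = MQ at *
      omega
    · rw [add_mul, one_mul, mul_comm c m]
      generalize (m - j) * n = B at *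
      generalize j * n = A at *
      generalize m * n = MN at *
      generalize m * c = MC at *
      generalize m * q = MQ at *
      omega
  rw [hB]
  clear_value q r
  omega

open Finset in
theorem two_T (m n : ℕ) (hm : 0 < m) (_hn : 0 < n) (hmn : Nat.Coprime m n) :
    2 * ∑ j ∈ range m, j * n / m = (m - 1) * (n - 1) := by
  have h0 : ∑ j ∈ range m, j * n / m = ∑ j ∈ Ico 1 m, j * n / m := by
    rw [range_eq_Ico, Finset.sum_eq_sum_Ico_succ_bot hm]
    simp
  have hrefl : ∑ j ∈ Ico 1 m, (m - j) * n / m = ∑ j ∈ Ico 1 m, j * n / m := by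
    have := Finset.sum_Ico_reflect (fun j => j * n / m) 1 (m := m) (n := m) (by omega)
    simpa using this
  rw [h0, two_mul]
  nth_rewrite 2 [← hrefl]
  rw [← Finset.sum_add_distrib]
  rw [Finset.sum_congr rfl (fun j hj => key_pair m n hmn j (Finset.mem_Ico.mp hj).1 (Finset.mem_Ico.mp hj).2)]
  simp


open Finset in
/-- Let m, n ≥ 1 be coprime, h = m + n, δ the segment from (0,0) to (h,m) (the isoclinic Newton polygon
of slope m/h) and ρ the ordinary polygon with n slopes 0 followed with m slopes 1, so ρ(i) = max(0,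
i − n). The integer points (i,j), 0 ≤ i ≤ h, on or above ρ and strictly below δ — that is max(0, i −
n) ≤ j and j·h < i·m — are (m−1)(n−1)/2 + (m+n−1) in number (which equals mn − r for r =
(m−1)(n−1)/2). (The published text works under m ≥ n > 0 coprime; the inequality m ≥ n is not used
and not assumed.) -/
theorem result
    (m n : ℕ) (hm : 0 < m) (hn : 0 < n) (hmn : Nat.Coprime m n) :
    ((Finset.range (m + n + 1) ×ˢ Finset.range (m + 1)).filter
      (fun ij : ℕ × ℕ => ij.1 ≤ ij.2 + n ∧ ij.2 * (m + n) < ij.1 * m)).card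
      = (m - 1) * (n - 1) / 2 + (m + n - 1) := by
  have hT := two_T m n hm hn hmn
  set T := ∑ j ∈ range m, j * n / m with hTdef
  -- the card as a double sum
  have h1 : ((Finset.range (m + n + 1) ×ˢ Finset.range (m + 1)).filter
      (fun ij : ℕ × ℕ => ij.1 ≤ ij.2 + n ∧ ij.2 * (m + n) < ij.1 * m)).card
      = ∑ j ∈ range (m + 1), (n - j * n / m) := by
    rw [Finset.card_filter, Finset.sum_product_right]
    refine Finset.sum_congr rfl fun j hj => ?_
    have hjm : j ≤ m := Nat.lt_succ_iff.mp (Finset.mem_range.mp hj)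
    rw [← Finset.card_filter]
    have hset : (Finset.range (m + n + 1)).filter
        (fun i => i ≤ j + n ∧ j * (m + n) < i * m) = Finset.Ioc (j * (m + n) / m) (j + n) := by
      ext i
      simp only [Finset.mem_filter, Finset.mem_range, Finset.mem_Ioc]
      rw [Nat.div_lt_iff_lt_mul hm]
      constructor
      · rintro ⟨-, h2, h3⟩; exact ⟨h3, h2⟩
      · rintro ⟨h3, h2⟩; exact ⟨by omega, h2, h3⟩
    rw [hset, Nat.card_Ioc]
    have : j * (m + n) / m = j + j * n / m := by
      rw [mul_add, mul_comm j m, Nat.mul_add_div hm]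
    rw [this]
    omega
  rw [h1, Finset.sum_range_succ]
  have hlast : n - m * n / m = 0 := by
    rw [Nat.mul_div_cancel_left n hm]; omega
  rw [hlast, add_zero]
  -- Σ (n - jn/m) + T = m n
  have h2 : ∑ j ∈ range m, (n - j * n / m) + T = m * n := by
    rw [hTdef, ← Finset.sum_add_distrib]
    rw [Finset.sum_congr rfl (g := fun _ => n)]
    · simp
    · intro j hj
      have hjm : j < m := Finset.mem_range.mp hj
      have : j * n / m ≤ n := by
        apply Nat.div_le_of_le_mul
        exact Nat.mul_le_mul_right n hjm.le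
      omega
  have h3 : (m - 1) * (n - 1) / 2 = T := by
    rw [← hT]; simp
  rw [h3]
  obtain ⟨a, rfl⟩ : ∃ a, m = a + 1 := ⟨m - 1, by omega⟩
  obtain ⟨b, rfl⟩ : ∃ b, n = b + 1 := ⟨n - 1, by omega⟩
  simp only [Nat.add_sub_cancel] at hT
  have h4 : (a + 1) * (b + 1) = a * b + a + b + 1 := by ring
  omega

end Groth.Agent.S15498
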