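import Groth.Statements.S15499
-- import your own Groth.Agent.* helpers here
import Groth.Agent.Lib.Helper89.HorrocksCover

set_option autoImplicit false
open Polynomial LaurentPolynomial
open scoped TensorProduct
universe u
open CAlg

namespace Groth.Agent.S15499

/-- Let S = Spec R be a smooth connected affine complex variety, so that R is a finitely generated
smooth ℂ-algebra and an integral domain, and let F be a locally free sheaf of finite rank on the
projective line over S, presented by its two standard charts: a finitely generated projective
R[X]-module P on the affine line over S, a finitely generated projective R[X]-module P' on the chart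
at infinity, and an identification of their base changes to R[X, X⁻¹] that is additive, bijective
and semilinear over the R-algebra involution X ↦ X⁻¹. Then S is covered by basic open sets D(g_1),
…, D(g_n) such that F restricted to the affine line over each D(g_i) is free: the localisation of P
at g_i is a free module over the localisation of R[X] at g_i. -/
theorem result
    (R : Type u) [CommRing R] [IsDomain R] [Algebra ℂ R] [Algebra.FiniteType ℂ R]
    [Algebra.Smooth ℂ R]
    (P : Type u) [AddCommGroup P] [Module R[X] P] [Module.Finite R[X] P]
    [Module.Projective R[X] P]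
    (P' : Type u) [AddCommGroup P'] [Module R[X] P'] [Module.Finite R[X] P']
    [Module.Projective R[X] P']
    (e : R[T;T⁻¹] ⊗[R[X]] P ≃+ R[T;T⁻¹] ⊗[R[X]] P')
    (he : ∀ (a : R[T;T⁻¹]) (m : R[T;T⁻¹] ⊗[R[X]] P),
      e (a • m) = LaurentPolynomial.invert a • e m) :
    ∃ (n : ℕ) (g : Fin n → R), Ideal.span (Set.range g) = ⊤ ∧
      ∀ i, Module.Free (Localization.Away (Polynomial.C (g i) : R[X]))
        (LocalizedModule (Submonoid.powers (Polynomial.C (g i) : R[X])) P) := by
  obtain ⟨n, p, ⟨hP⟩⟩ := Groth.Agent.Lib.Helper89.Horrocks.exists_pres R[X] P
  obtain ⟨k, q, ⟨hP'⟩⟩ := Groth.Agent.Lib.Helper89.Horrocks.exists_pres R[X] P'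
  have hext : Groth.Agent.Lib.Helper89.QPatch.IsExt p :=
    Groth.Agent.Lib.Helper89.Horrocks.isExt_of_semilinear hP hP' e e.symm
      (fun x y => map_add e x y) he
      (fun x => e.symm_apply_apply x) (fun y => e.apply_symm_apply y)
  exact Groth.Agent.Lib.Helper89.Horrocks.exists_cover_free hP hext

end Groth.Agent.S15499
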