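import Groth.Statements.S15501
import Groth.Agent.Lib.Helper61.ElemFibBC

set_option autoImplicit false
open CategoryTheory CategoryTheory.Limits AlgebraicGeometry
open An

namespace Groth.Agent.S15501

/-- The base change of an elementary fibration f : X → S of smooth complex varieties along any morphism
u : S' → S of smooth complex varieties is an elementary fibration X ×_S S' → S', elementary
fibration being taken in the following sense: f factors as an open immersion j : X → X̄ followed by
f̄ : X̄ → S, where f̄ is smooth and is a closed subscheme of some projective space over S with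
geometrically irreducible fibres of dimension one, the complement of j(X) is the image of a closed
immersion Y → X̄ with Y finite, etale and surjective over S, and j(X) is dense in every fibre of f̄
(for smooth complex varieties the last clause is automatic, and this is the usual notion: a smooth
projective family of irreducible curves minus a finite etale multisection). (The published statement
also treats rational and coordinatised elementary fibrations; this row states only the plain case.) -/
theorem result (X S S' : Scheme.{0})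
    [X.Over An.SC] [Smooth (X ↘ An.SC)] [IsSeparated (X ↘ An.SC)] [QuasiCompact (X ↘ An.SC)]
    [S.Over An.SC] [Smooth (S ↘ An.SC)] [IsSeparated (S ↘ An.SC)] [QuasiCompact (S ↘ An.SC)]
    [S'.Over An.SC] [Smooth (S' ↘ An.SC)] [IsSeparated (S' ↘ An.SC)] [QuasiCompact (S' ↘ An.SC)]
    (f : X ⟶ S) [f.IsOver An.SC] (u : S' ⟶ S) [u.IsOver An.SC]
    (hf : An.IsElementaryFibration f) :
    An.IsElementaryFibration (pullback.snd f u) := by
  obtain ⟨Xb, Y, j, fb, i, hjf, hj, hi, hrange, hdense, hsm, hproj, hgeom, hfin, het, hsurj⟩ := hf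
  have hjf' : j ≫ fb = f := hjf
  have hifb : i ≫ fb = i ≫ fb := rfl
  refine ⟨pullback fb u, pullback (i ≫ fb) u,
    Groth.Agent.Lib.Helper61.ElemFibBC.jmap f j fb u hjf', pullback.snd fb u,
    Groth.Agent.Lib.Helper61.ElemFibBC.jmap (i ≫ fb) i fb u hifb, ?_, ?_, ?_, ?_, ?_, ?_, ?_, ?_,
    ?_, ?_, ?_⟩
  · exact Groth.Agent.Lib.Helper61.ElemFibBC.jmap_snd f j fb u hjf'
  · exact MorphismProperty.of_isPullback (P := @IsOpenImmersion)
      (Groth.Agent.Lib.Helper61.ElemFibBC.jmap_isPullback f j fb u hjf').flip hj
  · exact MorphismProperty.of_isPullback (P := @IsClosedImmersion)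
      (Groth.Agent.Lib.Helper61.ElemFibBC.jmap_isPullback (i ≫ fb) i fb u hifb).flip hi
  · have h1 := Groth.Agent.Lib.Helper61.ElemFibBC.range_jmap f j fb u hjf'
    have h2 := Groth.Agent.Lib.Helper61.ElemFibBC.range_jmap (i ≫ fb) i fb u hifb
    show Set.range (Groth.Agent.Lib.Helper61.ElemFibBC.jmap f j fb u hjf') =
      (Set.range (Groth.Agent.Lib.Helper61.ElemFibBC.jmap (i ≫ fb) i fb u hifb))ᶜ
    rw [h1, h2]
    have h3 : Set.range j = (Set.range i)ᶜ := hrange
    rw [h3, Set.preimage_compl]
  · intro s'
    have h1 := Groth.Agent.Lib.Helper61.ElemFibBC.range_jmap f j fb u hjf'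
    have := Groth.Agent.Lib.Helper61.ElemFibBC.fibrewise_dense_baseChange fb u (Set.range j)
      (fun s => hdense s) s'
    show (pullback.snd fb u) ⁻¹' {s'} ⊆
      closure (Set.range (Groth.Agent.Lib.Helper61.ElemFibBC.jmap f j fb u hjf') ∩
        (pullback.snd fb u) ⁻¹' {s'})
    rw [h1]
    exact this
  · have := hsm
    infer_instance
  · obtain ⟨n, c, hc, hcf⟩ := Groth.Agent.S9693.result fb hproj u
    exact ⟨n, c, hc, hcf⟩
  · intro Ω _ _ σ
    obtain ⟨h1, h2⟩ := hgeom Ω (σ ≫ u)
    let e := pullbackLeftPullbackSndIso fb u σ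
    let he : ↥(pullback (pullback.snd fb u) σ) ≃ₜ ↥(pullback fb (σ ≫ u)) := e.hom.homeomorph
    refine ⟨?_, ?_⟩
    · have := h1
      exact Function.Surjective.irreducibleSpace he.symm.continuous he.symm.surjective
    · rw [← h2]
      exact IsHomeomorph.topologicalKrullDim_eq he he.isHomeomorph
  · rw [Groth.Agent.Lib.Helper61.ElemFibBC.jmap_snd]
    have := hfin
    infer_instance
  · rw [Groth.Agent.Lib.Helper61.ElemFibBC.jmap_snd]
    have := het
    infer_instance
  · rw [Groth.Agent.Lib.Helper61.ElemFibBC.jmap_snd]
    have : Surjective (i ≫ fb) := ⟨hsurj⟩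
    exact (inferInstance : Surjective (pullback.snd (i ≫ fb) u)).surj

end Groth.Agent.S15501
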