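import Groth.Statements.S15505
import Mathlib
-- import your own Groth.Agent.* helpers here

set_option autoImplicit false
universe u v w
open FrobAlg

namespace Groth.Agent.S15505

open Polynomial in
theorem pow_eq_self_iff_mem_range (p : ℕ) [Fact p.Prime] (k : Type*) [Field k] [CharP k p] (a : k) :
    a ^ p = a ↔ ∃ c : ZMod p, a = ZMod.castHom (dvd_refl p) k c := by
  constructor
  · intro h
    have hroots := FiniteField.roots_X_pow_card_sub_X (ZMod p)
    rw [ZMod.card] at hroots
    have hdeg : (X ^ p - X : (ZMod p)[X]).natDegree = p :=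
      FiniteField.X_pow_card_sub_X_natDegree_eq (ZMod p) (Fact.out : p.Prime).one_lt
    have hcard : Multiset.card (X ^ p - X : (ZMod p)[X]).roots = (X ^ p - X : (ZMod p)[X]).natDegree := by
      rw [hroots, hdeg]; simp
    have hmap := roots_map_of_injective_of_card_eq_natDegree
      (f := ZMod.castHom (dvd_refl p) k) (RingHom.injective _) hcard
    have hpoly : (X ^ p - X : (ZMod p)[X]).map (ZMod.castHom (dvd_refl p) k) = (X ^ p - X : k[X]) := by
      simp
    rw [hpoly] at hmap
    have hne : (X ^ p - X : k[X]) ≠ 0 :=
      FiniteField.X_pow_card_sub_X_ne_zero k (Fact.out : p.Prime).one_lt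
    have ha : a ∈ (X ^ p - X : k[X]).roots := by
      rw [mem_roots hne]
      simp [h]
    rw [← hmap, hroots, Multiset.mem_map] at ha
    obtain ⟨c, -, hc⟩ := ha
    exact ⟨c, hc.symm⟩
  · rintro ⟨c, rfl⟩
    rw [← map_pow, ZMod.pow_card]

/-- Let k be an algebraically closed field of characteristic p, V a k-vector space, φ a p⁻¹-linear
endomorphism of V (additive, φ(a·v) = a^{1/p}·φ(v)) and b a finite basis of V consisting of vectors
fixed by φ. Then the vectors fixed by φ are exactly the combinations of the b_i with coefficients in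
the prime field: v is fixed if and only if v = Σ c_i·b_i with all c_i in the image of ℤ/p. -/
theorem result (p : ℕ) [Fact p.Prime]
    (k : Type u) [Field k] [CharP k p] [IsAlgClosed k]
    (V : Type v) [AddCommGroup V] [Module k V]
    (φ : V →ₛₗ[((frobeniusEquiv k p).symm : k →+* k)] V)
    {ι : Type w} [Fintype ι] (b : Module.Basis ι k V) (hb : ∀ i, φ (b i) = b i) (v : V) :
    φ v = v ↔ ∃ c : ι → ZMod p, v = ∑ i, (ZMod.castHom (dvd_refl p) k (c i)) • b i := by
  have hφ : ∀ w : V, φ w = ∑ i, ((frobeniusEquiv k p).symm (b.repr w i)) • b i := by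
    intro w
    conv_lhs => rw [← b.sum_repr w]
    rw [map_sum]
    refine Finset.sum_congr rfl fun i _ => ?_
    rw [LinearMap.map_smulₛₗ, hb]
    rfl
  have hfix : φ v = v ↔ ∀ i, (b.repr v i) ^ p = b.repr v i := by
    rw [hφ]
    constructor
    · intro h i
      have h2 := congrArg (fun w => b.repr w i) h
      simp only [map_sum, map_smul, Finsupp.coe_finsetSum, Finset.sum_apply,
        Finsupp.smul_apply, Module.Basis.repr_self, smul_eq_mul] at h2
      rw [Finset.sum_eq_single i] at h2
      · simp only [Finsupp.single_eq_same, mul_one] at h2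
        conv_lhs => rw [← h2]
        exact frobeniusEquiv_symm_pow_p k p _
      · intro j _ hji
        simp [Finsupp.single_apply, hji]
      · intro hi; exact absurd (Finset.mem_univ i) hi
    · intro h
      conv_rhs => rw [← b.sum_repr v]
      refine Finset.sum_congr rfl fun i _ => ?_
      congr 1
      conv_lhs => rw [← h i]
      exact frobeniusEquiv_symm_pow k p _
  rw [hfix]
  constructor
  · intro h
    have : ∀ i, ∃ c : ZMod p, b.repr v i = ZMod.castHom (dvd_refl p) k c :=
      fun i => (pow_eq_self_iff_mem_range p k _).mp (h i)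
    choose c hc using this
    refine ⟨c, ?_⟩
    conv_lhs => rw [← b.sum_repr v]
    exact Finset.sum_congr rfl fun i _ => by rw [hc i]
  · rintro ⟨c, rfl⟩ i
    have : b.repr (∑ i, (ZMod.castHom (dvd_refl p) k (c i)) • b i) i
        = ZMod.castHom (dvd_refl p) k (c i) := by
      simp only [map_sum, map_smul, Finsupp.coe_finsetSum, Finset.sum_apply,
        Finsupp.smul_apply, Module.Basis.repr_self, smul_eq_mul]
      rw [Finset.sum_eq_single i]
      · simp
      · intro j _ hji
        simp [Finsupp.single_apply, hji]
      · intro hi; exact absurd (Finset.mem_univ i) hi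
    rw [this]
    exact (pow_eq_self_iff_mem_range p k _).mpr ⟨c i, rfl⟩

end Groth.Agent.S15505
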