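import Groth.Statements.S15506
import Mathlib
-- import your own Groth.Agent.* helpers here

set_option autoImplicit false
universe u
open CategoryTheory AlgebraicGeometry
open EtBase

namespace Groth.Agent.S15506

/-- Let k be a field, K an algebraic closure of k (an algebraically closed field algebraic over k), Ω a
field containing K, and Z a scheme étale over Spec k. Composition with Spec Ω → Spec K is a
bijection from the k-morphisms Spec K → Z onto the k-morphisms Spec Ω → Z: two k-morphisms Spec K →
Z that agree on Spec Ω are equal, and every k-morphism Spec Ω → Z factors through Spec K. (The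
published statement is the case where k has characteristic zero with a chosen embedding of its
algebraic closure into the complex numbers, Ω = ℂ, and Z is the scheme of isomorphisms between two
K3 surfaces over k, known there to be étale over k; this row states the fact about an arbitrary
étale k-scheme that the argument establishes.) -/
theorem result
    (k K Ω : Type u) [Field k] [Field K] [Field Ω] [Algebra k K] [IsAlgClosed K] [Algebra.IsAlgebraic k K]
    [Algebra K Ω] [Algebra k Ω] [IsScalarTower k K Ω]
    (Z : Scheme.{u}) (f : Z ⟶ Spec (CommRingCat.of k)) [AlgebraicGeometry.Etale f] :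
    (∀ g₁ g₂ : Spec (CommRingCat.of K) ⟶ Z,
        g₁ ≫ f = Spec.map (CommRingCat.ofHom (algebraMap k K)) →
        g₂ ≫ f = Spec.map (CommRingCat.ofHom (algebraMap k K)) →
        Spec.map (CommRingCat.ofHom (algebraMap K Ω)) ≫ g₁ = Spec.map (CommRingCat.ofHom (algebraMap K Ω)) ≫ g₂ →
        g₁ = g₂) ∧
    (∀ h : Spec (CommRingCat.of Ω) ⟶ Z, h ≫ f = Spec.map (CommRingCat.ofHom (algebraMap k Ω)) →
        ∃ g : Spec (CommRingCat.of K) ⟶ Z, g ≫ f = Spec.map (CommRingCat.ofHom (algebraMap k K)) ∧
          Spec.map (CommRingCat.ofHom (algebraMap K Ω)) ≫ g = h) := by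
  constructor
  · intro g₁ g₂ _ _ h
    have : Flat (Spec.map (CommRingCat.ofHom (algebraMap K Ω))) := by
      rw [HasRingHomProperty.Spec_iff (P := @Flat)]
      simp only [CommRingCat.hom_ofHom]
      exact RingHom.flat_algebraMap_iff.mpr inferInstance
    have : Surjective (Spec.map (CommRingCat.ofHom (algebraMap K Ω))) := by
      rw [surjective_iff]
      intro y
      have : Subsingleton (Spec (CommRingCat.of K)) :=
        inferInstanceAs (Subsingleton (PrimeSpectrum K))
      exact ⟨(⟨⊥, Ideal.isPrime_bot⟩ : PrimeSpectrum Ω), Subsingleton.elim _ _⟩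
    have := Flat.epi_of_flat_of_surjective (Spec.map (CommRingCat.ofHom (algebraMap K Ω)))
    exact (cancel_epi _).mp h
  · intro h hh
    let 𝒰 := Z.affineOpenCover
    let pt : Spec (CommRingCat.of Ω) := (⟨⊥, Ideal.isPrime_bot⟩ : PrimeSpectrum Ω)
    have : Subsingleton (Spec (CommRingCat.of Ω)) :=
      inferInstanceAs (Subsingleton (PrimeSpectrum Ω))
    let i := 𝒰.idx (h pt)
    have hrange : Set.range h ⊆ Set.range (𝒰.f i) := by
      rintro _ ⟨x, rfl⟩
      have : x = pt := Subsingleton.elim _ _
      rw [this]
      exact 𝒰.covers (h pt)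
    let h' : Spec (CommRingCat.of Ω) ⟶ Spec (𝒰.X i) := IsOpenImmersion.lift (𝒰.f i) h hrange
    have hh' : h' ≫ 𝒰.f i = h := IsOpenImmersion.lift_fac _ _ _
    obtain ⟨φ, hφ⟩ := Spec.map_surjective h'
    obtain ⟨α, hα⟩ := Spec.map_surjective (𝒰.f i ≫ f)
    have hα_et : α.hom.Etale := by
      have : Etale (𝒰.f i ≫ f) := inferInstance
      rw [← hα] at this
      exact (HasRingHomProperty.Spec_iff (P := @Etale)).mp this
    have hcomp : α ≫ φ = CommRingCat.ofHom (algebraMap k Ω) := by
      apply Spec.map_injective
      rw [Spec.map_comp, hφ, hα, ← Category.assoc, hh', hh]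
    algebraize [α.hom]
    have : Module.Finite k (𝒰.X i) := Algebra.FormallyUnramified.finite_of_free k (𝒰.X i)
    have hcomm : ∀ c : k, φ.hom (algebraMap k (𝒰.X i) c) = algebraMap k Ω c := by
      intro c
      have := congr($hcomp c)
      change φ.hom (α.hom c) = algebraMap k Ω c
      simpa using this
    let φₐ : (𝒰.X i) →ₐ[k] Ω := { φ.hom with commutes' := hcomm }
    have hmem : ∀ b : 𝒰.X i, φ.hom b ∈ (algebraMap K Ω).range := by
      intro b
      have hb : IsIntegral k b := Algebra.IsIntegral.isIntegral b
      have hb2 : IsIntegral k (φₐ b) := hb.map φₐ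
      have hb3 : IsIntegral K (φₐ b) := hb2.tower_top
      have hdeg : (minpoly K (φₐ b)).degree = 1 :=
        IsAlgClosed.degree_eq_one_of_irreducible K (minpoly.irreducible hb3)
      exact minpoly.mem_range_of_degree_eq_one K _ hdeg
    let e : K ≃+* (algebraMap K Ω).range :=
      RingEquiv.ofBijective (algebraMap K Ω).rangeRestrict
        ⟨by
          intro a b hab
          apply (algebraMap K Ω).injective
          exact congrArg Subtype.val hab, (algebraMap K Ω).rangeRestrict_surjective⟩
    let φ' : (𝒰.X i) →+* K := e.symm.toRingHom.comp (φ.hom.codRestrict (algebraMap K Ω).range hmem)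
    have hφ' : ∀ b, algebraMap K Ω (φ' b) = φ.hom b := by
      intro b
      have : e (φ' b) = (φ.hom.codRestrict (algebraMap K Ω).range hmem) b := by
        simp [φ']
      exact congrArg Subtype.val this
    have hφ'c : CommRingCat.ofHom φ' ≫ CommRingCat.ofHom (algebraMap K Ω) = φ := by
      ext b
      exact hφ' b
    refine ⟨Spec.map (CommRingCat.ofHom φ') ≫ 𝒰.f i, ?_, ?_⟩
    · rw [Category.assoc, ← hα, ← Spec.map_comp]
      congr 1
      ext c
      apply (algebraMap K Ω).injective
      change algebraMap K Ω (φ' (α.hom c)) = algebraMap K Ω (algebraMap k K c)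
      rw [hφ', ← IsScalarTower.algebraMap_apply]
      exact hcomm c
    · rw [← Category.assoc, ← Spec.map_comp, hφ'c, hφ, hh']

end Groth.Agent.S15506
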