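import Groth.Statements.S15510
import Groth.Agent.Lib.Helper75.PnRatPts
-- import your own Groth.Agent.* helpers here

set_option autoImplicit false
universe u
open CategoryTheory CategoryTheory.Limits MonoidalCategory CartesianMonoidalCategory MonObj AlgebraicGeometry
open AbVar

namespace Groth.Agent.S15510

/-- Let F be a field and A a principally polarized abelian variety over F: a commutative group scheme
over Spec F, smooth and proper with geometrically connected fibres of dimension g, given together
with a commutative group scheme At, data φ presenting At as the dual of A for the fppf topology, and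
a polarization lam : A ⟶ At which is an isomorphism. Let Q = F(t_1, …, t_n) be the field of rational
functions in n variables over F. Then base change from F to Q is a bijection from the F-rational
points of A onto the Q-valued points of A over Spec F: every Q-point of A comes from exactly one
F-point. -/
theorem result
    (F : Type u) [Field F]
    (A At : Over (Spec (CommRingCat.of F))) [GrpObj A] [IsCommMonObj A] [GrpObj At] [IsCommMonObj At]
    (g : ℕ) (hA : AgPol.IsAbSch A g)
    (φ : AgPol.DualMap A At) (hdual : AbDual.IsDualAV Scheme.fppfPrecoverage A At φ)
    (lam : A ⟶ At) (hpol : AgPol.IsPolarization A At φ lam) (hiso : IsIso lam) (n : ℕ) :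
    Function.Bijective (fun x : (Over.mk (𝟙 (Spec (CommRingCat.of F))) ⟶ A) =>
      (Over.homMk (Spec.map (CommRingCat.ofHom (algebraMap F (FractionRing (MvPolynomial (Fin n) F)))))
          (Category.comp_id _) :
        Over.mk (Spec.map (CommRingCat.ofHom (algebraMap F (FractionRing (MvPolynomial (Fin n) F))))) ⟶
          Over.mk (𝟙 (Spec (CommRingCat.of F)))) ≫ x) := by
  haveI : IsProper A.hom := hA.proper
  haveI : IsSeparated A.hom := inferInstance
  constructor
  · intro x₁ x₂ h
    have hl := congrArg (fun t : Over.mk (Spec.map (CommRingCat.ofHom
      (algebraMap F (FractionRing (MvPolynomial (Fin n) F))))) ⟶ A => t.left) h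
    simp only [Over.comp_left, Over.homMk_left] at hl
    haveI : Surjective (Spec.map (CommRingCat.ofHom
        (algebraMap F (FractionRing (MvPolynomial (Fin n) F))))) := by
      constructor
      intro s
      haveI : Subsingleton ↥(Spec (CommRingCat.of F)) :=
        inferInstanceAs (Subsingleton (PrimeSpectrum F))
      obtain ⟨q⟩ : Nonempty ↥(Spec (CommRingCat.of (FractionRing (MvPolynomial (Fin n) F)))) :=
        inferInstance
      exact ⟨q, Subsingleton.elim _ _⟩
    apply Over.OverMorphism.ext
    haveI : IsReduced (Over.mk (𝟙 (Spec (CommRingCat.of F)))).left :=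
      inferInstanceAs (IsReduced (Spec (CommRingCat.of F)))
    refine ext_of_isDominant_of_isSeparated A.hom ?_ _ hl
    rw [Over.w x₁, Over.w x₂]
  · intro y
    obtain ⟨g', hg1, hg2⟩ := Groth.Agent.Lib.Helper75.PnRatPts.exists_const_of_ratFunc F n A
      y.left (Over.w y)
    refine ⟨Over.homMk g' hg1, ?_⟩
    apply Over.OverMorphism.ext
    simp only [Over.comp_left, Over.homMk_left]
    exact hg2.symm

end Groth.Agent.S15510
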