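import Mathlib
import Groth.Statements.S15512
import Groth.Agent.S11495

set_option autoImplicit false
universe u
open CategoryTheory
open CAlg

namespace Groth.Agent.S15512

open Abelian IsLocalRing

variable {A : Type u} [CommRing A]

/-- descending induction with an a priori bound `D` on the projective dimension -/
lemma ext_vanish [IsNoetherianRing A] (X : ModuleCat.{u} A) (q D : ℕ)
    (hD : HasProjectiveDimensionLT X (D + 1))
    (h : ∀ i : ℕ, q < i → Subsingleton (Ext X (ModuleCat.of A A) i)) :
    ∀ (k i : ℕ), q < i → D + 1 ≤ i + k →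
      ∀ (L : Type u) [AddCommGroup L] [Module A L] [Module.Finite A L],
        Subsingleton (Ext X (ModuleCat.of A L) i) := by
  intro k
  induction k with
  | zero =>
    intro i _ hi L _ _ _
    exact HasProjectiveDimensionLT.subsingleton X (D + 1) i (by omega) _
  | succ k ih =>
    intro i hqi hi L _ _ hL
    obtain ⟨j, rfl⟩ : ∃ j, i = j + 1 := ⟨i - 1, by omega⟩
    exact Groth.Agent.S11495.step X j (h _ hqi)
      (fun L' _ _ _ => ih (j + 2) (by omega) (by omega) L') L hL

/-- a priori bound: finite Krull dimension + regular at maximal ideals -/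
lemma pd_bound [IsNoetherianRing A]
    (hreg : ∀ m : MaximalSpectrum A, IsRegularLocalRing (Localization.AtPrime m.asIdeal))
    (D : ℕ) (hD : ringKrullDim A ≤ D) (M : Type u) [AddCommGroup M] [Module A M]
    [Module.Finite A M] : HasProjectiveDimensionLT (ModuleCat.of A M) (D + 1) := by
  have h := (ModuleCat.of A M).hasProjectiveDimensionLE_iff_forall_maximalSpectrum D
  refine h.mpr (fun m => ?_)
  have := hreg m
  obtain ⟨d, hd⟩ : ∃ d : ℕ, ringKrullDim (Localization.AtPrime m.asIdeal) = d :=
    ⟨_, (IsRegularLocalRing.spanFinrank_maximalIdeal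
      (R := Localization.AtPrime m.asIdeal)).symm⟩
  have hdD : d ≤ D := by
    have h1 : ringKrullDim (Localization.AtPrime m.asIdeal) ≤ ringKrullDim A := by
      rw [IsLocalization.AtPrime.ringKrullDim_eq_height m.asIdeal]
      exact Ideal.height_le_ringKrullDim_of_ne_top m.isMaximal.ne_top
    rw [hd] at h1
    exact_mod_cast h1.trans hD
  have h2 : HasProjectiveDimensionLT
      ((ModuleCat.of A M).localizedModule m.asIdeal.primeCompl) (d + 1) :=
    Groth.Agent.S0563.result (Localization.AtPrime m.asIdeal) d hd _
  exact hasProjectiveDimensionLT_of_ge _ (d + 1) (D + 1) (by omega)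

theorem result (A : Type u) [CommRing A]
    [IsNoetherianRing A] (hreg : ∀ m : MaximalSpectrum A, IsRegularLocalRing (Localization.AtPrime m.asIdeal))
    (hdim : ringKrullDim A < ⊤) (M : Type u) [AddCommGroup M] [Module A M] [Module.Finite A M] (d : ℕ)
    (h : ∀ i : ℕ, d < i → Subsingleton (Abelian.Ext (ModuleCat.of A M) (ModuleCat.of A A) i)) :
    HasProjectiveDimensionLT (ModuleCat.of A M) (d + 1) := by
  obtain ⟨D, hD⟩ : ∃ D : ℕ, ringKrullDim A ≤ D := by
    cases hA : ringKrullDim A with
    | bot => exact ⟨0, bot_le⟩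
    | coe n =>
      cases n with
      | top => rw [hA] at hdim; exact absurd hdim (lt_irrefl _)
      | coe n => exact ⟨n, le_rfl⟩
  have hpd := pd_bound hreg D hD M
  apply ModuleCat.hasProjectiveDimensionLT_of_forall_finite
  intro L hL
  exact ext_vanish (ModuleCat.of A M) d D hpd h (D + 1) (d + 1) (Nat.lt_succ_self d) (by omega) L

end Groth.Agent.S15512
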