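import Groth.Statements.S15514
import Mathlib
import Groth.Agent.Lib.Helper11.ExtFinLocFree
import Groth.Agent.Lib.Helper11.ExtShDual

set_option autoImplicit false
universe u
open CategoryTheory CategoryTheory.Limits AlgebraicGeometry
open Coherent

namespace Groth.Agent.S15514

/-- Let X be a scheme, E a finite locally free O_X-module with dual E^∨ = Hom_{O_X}(E, O_X), and F, G
arbitrary O_X-modules. Then for every i the group Ext^i_{O_X}(F ⊗ E, G), computed in the category of
all O_X-modules, is isomorphic to Ext^i_{O_X}(F, G ⊗ E^∨). (Existence of an additive isomorphism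
only; the published identification is the natural one, and the published statement is for an
arbitrary ringed space. The published statement says only that E is locally free; finite rank, which
its proof uses, is assumed here. The internal Hom functor of E and the Ext groups of O_X-modules are
the stated instance hypotheses, both true.) -/
theorem result (X : Scheme.{u}) (E : X.Modules)
    (hE : FlatMod.IsFinLocFree E) (F G : X.Modules) [ModSite.HasSheafHom (O := X.sheaf) E]
    [HasExt.{u} X.Modules] (i : ℕ) :
    Nonempty (Abelian.Ext (CohB1.tensorMod F E) G i ≃+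
      Abelian.Ext F (CohB1.tensorMod G ((ModSite.sheafHom (O := X.sheaf) E).obj (Coh.structureModule X))) i) := by
  open Groth.Agent.Lib.Helper11.FinFreeAdj Groth.Agent.Lib.Helper11.ProjFormulaRq
    Groth.Agent.Lib.Helper11.ExtShDual Groth.Agent.Lib.Helper11.ExtFinLocFree
    Groth.Agent.Lib.Helper11.GenLocus in
  let D := dualPairOfFinLocFree hE
  haveI := preservesLimits_tensR D
  haveI := preservesColimits_tensR D
  haveI := additive_tensR D
  haveI := preservesLimits_tensR D.symm
  haveI := preservesColimits_tensR D.symm
  haveI := additive_tensR D.symm
  let e2 : Abelian.Ext ((tensR E).obj F) G i ≃+ Abelian.Ext F ((tensR (RefHull.dual E)).obj G) i :=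
    Groth.Agent.Lib.Helper5.extAdjAddEquiv D.symm.adj F G i
  let i3 : (ModSite.sheafHom (O := X.sheaf) E).obj (Coh.structureModule X) ≅ RefHull.dual E :=
    (sheafHomIsoTensR hE).app (Coh.structureModule X) ≪≫ unitTensorIso (RefHull.dual E)
  exact ⟨e2.trans (extAddEquivOfIsoRight F (tensorModCongr (Iso.refl G) i3.symm) i)⟩

end Groth.Agent.S15514
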