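import Groth.Statements.S15524
import Mathlib
import Groth.Agent.Lib.Helper79.PowerSumBound
-- import your own Groth.Agent.* helpers here

set_option autoImplicit false
open Finset
open Zeta

namespace Groth.Agent.S15524

/-- Let q ≥ 1 and let α_1, …, α_{2g} be complex numbers permuted by α ↦ q/α, i.e. α_{σ(i)} α_i = q for a
permutation σ of the indices; these play the role of the inverse roots of the numerator of the zeta
function of a curve over a field with q elements, for which #X(F_{q^N}) = q^N + 1 − Σ_i α_i^N. If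
for some d ≥ 1 and real C one has |Σ_i α_i^{dN}| ≤ C q^{dN/2} for every N ≥ 1, then |α_i|^2 = q for
every i (the Riemann hypothesis for the curve). -/
theorem result {g : ℕ} (q : ℕ) (hq : 0 < q)
    (α : Fin (2 * g) → ℂ) (σ : Equiv.Perm (Fin (2 * g))) (hσ : ∀ i, α (σ i) * α i = q)
    (d : ℕ) (hd : 0 < d) (C : ℝ)
    (hC : ∀ N : ℕ, 1 ≤ N → ‖∑ i, α i ^ (d * N)‖ ≤ C * (q : ℝ) ^ ((d : ℝ) * N / 2))
    (i : Fin (2 * g)) : ‖α i‖ ^ 2 = q := by
  have hqpos : (0 : ℝ) < (q : ℝ) := by exact_mod_cast hq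
  set R : ℝ := (q : ℝ) ^ ((d : ℝ) / 2) with hR
  have hRpos : 0 < R := Real.rpow_pos_of_pos hqpos _
  have hbound : ∀ j, ‖α j‖ ^ d ≤ R := by
    intro j
    have := Groth.Agent.Lib.Helper79.PowerSum.norm_le_of_powerSum_le (fun j => α j ^ d) C R hRpos
      (fun N hN => by
        have h1 := hC N hN
        have h2 : ∑ i, (α i ^ d) ^ N = ∑ i, α i ^ (d * N) :=
          Finset.sum_congr rfl fun i _ => (pow_mul (α i) d N).symm
        have h3 : (q : ℝ) ^ ((d : ℝ) * N / 2) = R ^ N := by
          rw [hR, ← Real.rpow_natCast, ← Real.rpow_mul hqpos.le]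
          congr 1
          ring
        rw [h2, ← h3]
        exact h1) j
    rwa [norm_pow] at this
  have hsqrt : R = (Real.sqrt q) ^ d := by
    rw [hR, Real.sqrt_eq_rpow, ← Real.rpow_natCast, ← Real.rpow_mul hqpos.le]
    congr 1
    ring
  have hle : ∀ j, ‖α j‖ ≤ Real.sqrt q := by
    intro j
    have := hbound j
    rw [hsqrt] at this
    exact (pow_le_pow_iff_left₀ (norm_nonneg _) (Real.sqrt_nonneg _) (by omega)).1 this
  have hprod : ‖α (σ i)‖ * ‖α i‖ = q := by
    rw [← norm_mul, hσ i]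
    simp
  have hsq : Real.sqrt q * Real.sqrt q = q := Real.mul_self_sqrt hqpos.le
  have hspos : 0 < Real.sqrt q := Real.sqrt_pos.2 hqpos
  have hge : Real.sqrt q ≤ ‖α i‖ := by
    by_contra hlt
    rw [not_le] at hlt
    have h1 : ‖α (σ i)‖ * ‖α i‖ < Real.sqrt q * Real.sqrt q := by
      calc ‖α (σ i)‖ * ‖α i‖ ≤ Real.sqrt q * ‖α i‖ :=
            mul_le_mul_of_nonneg_right (hle (σ i)) (norm_nonneg _)
        _ < Real.sqrt q * Real.sqrt q := mul_lt_mul_of_pos_left hlt hspos
    rw [hprod, hsq] at h1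
    exact lt_irrefl _ h1
  have heq : ‖α i‖ = Real.sqrt q := le_antisymm (hle i) hge
  rw [heq, sq, hsq]

end Groth.Agent.S15524
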