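import Groth.Statements.S15525
import Mathlib
-- import your own Groth.Agent.* helpers here

set_option autoImplicit false
universe u
open Zeta

namespace Groth.Agent.S15525

open Polynomial

theorem reverse_X_sub_C' {R : Type*} [Ring R] [Nontrivial R] (z : R) :
    (X - C z : R[X]).reverse = 1 - C z * X := by
  rw [reverse, natDegree_X_sub_C, reflect_sub, reflect_C]
  have : reflect 1 (X : R[X]) = 1 := by
    have := reflect_monomial (R := R) 1 1
    simpa using this
  rw [this, pow_one]

open Complex in
theorem reverse_prod (s : Multiset ℂ) (hs : ∀ z ∈ s, ‖z‖ = 1) :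
    ((s.map (fun z => X - C z)).prod : ℂ[X]).reverse =
      C ((s.map (fun z => -z)).prod) * ((s.map (fun z => X - C z)).prod : ℂ[X]).map (starRingEnd ℂ) := by
  induction s using Multiset.induction_on with
  | empty =>
    have : (1 : ℂ[X]).reverse = 1 := by
      rw [← C_1, reverse_C]
    simp [this]
  | cons z s ih =>
    have hz : ‖z‖ = 1 := hs z (Multiset.mem_cons_self z s)
    have ih' := ih (fun w hw => hs w (Multiset.mem_cons_of_mem hw))
    rw [Multiset.map_cons, Multiset.prod_cons, reverse_mul_of_domain, ih', reverse_X_sub_C',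
      Multiset.map_cons, Multiset.prod_cons, Polynomial.map_mul, C_mul]
    have hzz : z * (starRingEnd ℂ) z = 1 := by
      rw [Complex.mul_conj, Complex.normSq_eq_norm_sq, hz]; simp
    have h1 : (1 - C z * X : ℂ[X]) = C (-z) * (X - C ((starRingEnd ℂ) z)) := by
      rw [mul_sub, ← C_mul, neg_mul, hzz]
      simp
      ring
    rw [h1]
    simp only [Polynomial.map_sub, Polynomial.map_X, Polynomial.map_C]
    ring


/-- Let L be a field with a ring embedding ι into ℂ and M an r × r matrix over L all of whose
eigenvalues, the complex roots of its characteristic polynomial mapped along ι, have absolute value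
1. Then every coefficient of the characteristic polynomial of the block-diagonal matrix with blocks
M and the inverse transpose of M is mapped by ι into ℝ. This is the pointwise content of the
assertion that for a lisse sheaf F pure of weight 0 the sum of F and its dual is real, the Frobenius
of the dual acting by the inverse transpose. -/
theorem result (L : Type u) [Field L] (ι : L →+* ℂ)
    {r : ℕ} (M : Matrix (Fin r) (Fin r) L)
    (hM : ∀ z ∈ ((Matrix.charpoly M).map ι).roots, ‖z‖ = 1) (n : ℕ) :
    (ι ((Matrix.fromBlocks M 0 0 (M⁻¹).transpose).charpoly.coeff n)).im = 0 := by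
  -- reduce to ℂ
  set N : Matrix (Fin r) (Fin r) ℂ := M.map ι with hN
  have hp : N.charpoly = M.charpoly.map ι := Matrix.charpoly_map M ι
  rw [← hp] at hM
  -- invertibility
  have hdet : M.det ≠ 0 := by
    intro h0
    have h1 : N.det = 0 := by
      rw [hN, ← RingHom.mapMatrix_apply, ← RingHom.map_det, h0, map_zero]
    have h2 : (0 : ℂ) ∈ N.charpoly.roots := by
      rw [mem_roots (Matrix.charpoly_monic N).ne_zero, IsRoot, Matrix.eval_charpoly]
      simp [Matrix.det_neg, h1]
    have := hM 0 h2
    simp at this
  have hMunit : IsUnit M.det := isUnit_iff_ne_zero.mpr hdet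
  have hNinv : (M⁻¹).map ι = N⁻¹ := by
    symm
    apply Matrix.inv_eq_right_inv
    rw [hN, ← Matrix.map_mul, Matrix.mul_nonsing_inv M hMunit]
    simp
  have hNunit : IsUnit N := by
    rw [Matrix.isUnit_iff_isUnit_det, hN, ← RingHom.mapMatrix_apply, ← RingHom.map_det]
    exact hMunit.map ι
  -- the coefficient
  have hcoeff : ι ((Matrix.fromBlocks M 0 0 (M⁻¹).transpose).charpoly.coeff n)
      = (N.charpoly * N⁻¹.charpoly).coeff n := by
    rw [← Polynomial.coeff_map, ← Matrix.charpoly_map, Matrix.fromBlocks_map]
    simp only [Matrix.map_zero _ (map_zero ι)]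
    rw [Matrix.charpoly_fromBlocks_zero₁₂, Matrix.transpose_map, Matrix.charpoly_transpose, hNinv]
  rw [hcoeff]
  -- structure of N⁻¹.charpoly
  set p := N.charpoly with hpdef
  have hpmonic : p.Monic := Matrix.charpoly_monic N
  have hsplit : p.Splits := IsAlgClosed.splits p
  have hpprod : p = (p.roots.map (fun z => X - C z)).prod := hsplit.eq_prod_roots_of_monic hpmonic
  have hrev : p.reverse = C ((p.roots.map (fun z => -z)).prod) * p.map (starRingEnd ℂ) := by
    conv_lhs => rw [hpprod]
    rw [reverse_prod _ hM, ← hpprod]
  have hq : N⁻¹.charpoly = C ((-1) ^ Fintype.card (Fin r) * Ring.inverse N.det *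
      (p.roots.map (fun z => -z)).prod) * p.map (starRingEnd ℂ) := by
    rw [Matrix.charpoly_inv N hNunit, ← Matrix.reverse_charpoly, ← hpdef, hrev]
    simp only [C_mul, C_pow, C_neg, C_1]
    ring
  set c := (-1) ^ Fintype.card (Fin r) * Ring.inverse N.det * (p.roots.map (fun z => -z)).prod
  have hqmonic : N⁻¹.charpoly.Monic := Matrix.charpoly_monic _
  have hpcmonic : (p.map (starRingEnd ℂ)).Monic := hpmonic.map _
  have hc : c = 1 := by
    have h1 := hqmonic.leadingCoeff
    rw [hq, leadingCoeff_mul, leadingCoeff_C, hpcmonic.leadingCoeff, mul_one] at h1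
    exact h1
  rw [hq, hc, C_1, one_mul]
  -- now p * conj p has real coefficients
  rw [← Complex.conj_eq_iff_im, ← Polynomial.coeff_map, Polynomial.map_mul, Polynomial.map_map]
  have : (starRingEnd ℂ).comp (starRingEnd ℂ) = RingHom.id ℂ := by
    ext z; simp
  rw [this, Polynomial.map_id, mul_comm]

end Groth.Agent.S15525
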