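import Groth.Statements.S15526
import Mathlib
-- import your own Groth.Agent.* helpers here

set_option autoImplicit false
universe u
open MvPolynomial
open CAlg

namespace Groth.Agent.S15526

/-- Let R be a commutative ring, P ∈ R[x] a monic polynomial of degree 2g + 1, and A = R[x, y, z]/(y^2 −
P(x), yz − 1). Then every element of A is a finite sum Σ_n Q_n(x) y^n over integers n, negative
powers of y meaning powers of z, with each Q_n ∈ R[x] of degree at most 2g: the R-submodule of A
spanned by the classes of x^i y^n and x^i z^n with i ≤ 2g and n ≥ 0 is all of A. (The published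
statement takes for R the ring of Witt vectors of a finite field and for P a lift of a separable
polynomial; the argument uses only that P is monic of degree 2g + 1.) -/
theorem result (R : Type u) [CommRing R] (g : ℕ)
    (P : Polynomial R) (hP : P.Monic) (hdeg : P.natDegree = 2 * g + 1) :
    Submodule.span R {a : MvPolynomial (Fin 3) R ⧸
        Ideal.span ({X 1 ^ 2 - Polynomial.aeval (X 0 : MvPolynomial (Fin 3) R) P, X 1 * X 2 - 1} :
          Set (MvPolynomial (Fin 3) R)) |
        ∃ i n : ℕ, i ≤ 2 * g ∧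
          (a = Ideal.Quotient.mk _ (X 0 ^ i * X 1 ^ n) ∨ a = Ideal.Quotient.mk _ (X 0 ^ i * X 2 ^ n))} =
      ⊤ := by
  classical
  set I : Ideal (MvPolynomial (Fin 3) R) :=
    Ideal.span ({X 1 ^ 2 - Polynomial.aeval (X 0 : MvPolynomial (Fin 3) R) P, X 1 * X 2 - 1} :
          Set (MvPolynomial (Fin 3) R)) with hI
  set W := Submodule.span R {a : MvPolynomial (Fin 3) R ⧸ I |
        ∃ i n : ℕ, i ≤ 2 * g ∧
          (a = Ideal.Quotient.mk _ (X 0 ^ i * X 1 ^ n) ∨ a = Ideal.Quotient.mk _ (X 0 ^ i * X 2 ^ n))}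
    with hW
  let mk := Ideal.Quotient.mk I
  let x : MvPolynomial (Fin 3) R ⧸ I := mk (X 0)
  let y : MvPolynomial (Fin 3) R ⧸ I := mk (X 1)
  let z : MvPolynomial (Fin 3) R ⧸ I := mk (X 2)
  have hyz : y * z = 1 := by
    have : mk (X 1 * X 2 - 1) = 0 :=
      Ideal.Quotient.eq_zero_iff_mem.mpr (Ideal.subset_span (by simp))
    rw [map_sub, map_mul, map_one, sub_eq_zero] at this
    exact this
  have hy2 : y ^ 2 = Polynomial.aeval x P := by
    have : mk (X 1 ^ 2 - Polynomial.aeval (X 0 : MvPolynomial (Fin 3) R) P) = 0 :=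
      Ideal.Quotient.eq_zero_iff_mem.mpr (Ideal.subset_span (by simp))
    rw [map_sub, map_pow, sub_eq_zero] at this
    rw [this]
    exact (Polynomial.aeval_algHom_apply (Ideal.Quotient.mkₐ R I) (X 0) P).symm
  let u : (MvPolynomial (Fin 3) R ⧸ I)ˣ := ⟨y, z, hyz, by rw [mul_comm]; exact hyz⟩
  -- generators
  have hgen : ∀ (i : ℕ) (e : ℤ), i ≤ 2 * g → x ^ i * ((u ^ e : (MvPolynomial (Fin 3) R ⧸ I)ˣ) : _) ∈ W := by
    intro i e hi
    apply Submodule.subset_span
    rcases Int.eq_nat_or_neg e with ⟨n, rfl | rfl⟩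
    · refine ⟨i, n, hi, Or.inl ?_⟩
      rw [zpow_natCast, Units.val_pow_eq_pow_val]
      simp [x, y, u, mk]
    · refine ⟨i, n, hi, Or.inr ?_⟩
      rw [zpow_neg, zpow_natCast, ← inv_pow, Units.val_pow_eq_pow_val]
      simp [x, z, u, mk]
  -- x^(2g+1) relation
  have hrel : x ^ (2 * g + 1) = y ^ 2 - ∑ j ∈ Finset.range (2 * g + 1), P.coeff j • x ^ j := by
    rw [hy2, Polynomial.aeval_eq_sum_range, hdeg, Finset.sum_range_succ, ← hdeg,
      hP.coeff_natDegree, one_smul]
    ring
  -- main claim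
  have hall : ∀ (a : ℕ) (e : ℤ), x ^ a * ((u ^ e : (MvPolynomial (Fin 3) R ⧸ I)ˣ) : _) ∈ W := by
    intro a
    induction a using Nat.strong_induction_on with
    | _ a ih =>
      intro e
      by_cases ha : a ≤ 2 * g
      · exact hgen a e ha
      · obtain ⟨a', rfl⟩ : ∃ a', a = a' + (2 * g + 1) := ⟨a - (2 * g + 1), by omega⟩
        have hu2 : y ^ 2 * ((u ^ e : (MvPolynomial (Fin 3) R ⧸ I)ˣ) : _) =
            ((u ^ (e + 2) : (MvPolynomial (Fin 3) R ⧸ I)ˣ) : _) := by
          rw [zpow_add, Units.val_mul, mul_comm]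
          congr 1
        have : x ^ (a' + (2 * g + 1)) * ((u ^ e : (MvPolynomial (Fin 3) R ⧸ I)ˣ) : _) =
            x ^ a' * ((u ^ (e + 2) : (MvPolynomial (Fin 3) R ⧸ I)ˣ) : _) -
            ∑ j ∈ Finset.range (2 * g + 1), P.coeff j • (x ^ (a' + j) *
              ((u ^ e : (MvPolynomial (Fin 3) R ⧸ I)ˣ) : _)) := by
          rw [pow_add, hrel, ← hu2]
          simp only [mul_sub, sub_mul, Finset.mul_sum, Finset.sum_mul, pow_add]
          congr 1
          · ring
          · refine Finset.sum_congr rfl fun j _ => ?_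
            rw [mul_smul_comm, smul_mul_assoc]
        rw [this]
        refine Submodule.sub_mem _ (ih a' (by omega) _) (Submodule.sum_mem _ fun j hj => ?_)
        exact Submodule.smul_mem _ _ (ih (a' + j) (by have := Finset.mem_range.mp hj; omega) _)
  -- conclude
  rw [eq_top_iff]
  rintro a -
  obtain ⟨p, rfl⟩ := Ideal.Quotient.mk_surjective a
  induction p using MvPolynomial.induction_on' with
  | monomial m c =>
    have hm : (Ideal.Quotient.mk I) (monomial m c) = c • (x ^ (m 0) * ((u ^ ((m 1 : ℤ) - (m 2 : ℤ)) : (MvPolynomial (Fin 3) R ⧸ I)ˣ) : _)) := by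
      have h1 : (monomial m c : MvPolynomial (Fin 3) R) = c • (X 0 ^ (m 0) * X 1 ^ (m 1) * X 2 ^ (m 2)) := by
        rw [MvPolynomial.monomial_eq, MvPolynomial.smul_eq_C_mul]
        congr 1
        rw [Finsupp.prod_fintype _ _ (fun _ => pow_zero _)]
        simp [Fin.prod_univ_three]
      rw [h1]
      have h2 : (Ideal.Quotient.mk I) (c • (X 0 ^ (m 0) * X 1 ^ (m 1) * X 2 ^ (m 2)))
          = c • (x ^ (m 0) * y ^ (m 1) * z ^ (m 2)) := by
        rw [← Ideal.Quotient.mkₐ_eq_mk R, map_smul]
        simp [x, y, z, mk]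
      rw [h2]
      congr 1
      rw [zpow_sub, zpow_natCast, zpow_natCast, Units.val_mul, ← inv_pow, Units.val_pow_eq_pow_val,
        Units.val_pow_eq_pow_val]
      simp only [u, Units.inv_mk, Units.val_mk]
      ring
    rw [hm]
    exact Submodule.smul_mem _ _ (hall _ _)
  | add p q hp hq =>
    rw [map_add]
    exact Submodule.add_mem _ hp hq

end Groth.Agent.S15526
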