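import Groth.Statements.S1553
-- import your own Groth.Agent.* helpers here
import Groth.Agent.Lib.Helper55.NoethStalkReduce

set_option autoImplicit false
universe u
open CategoryTheory CategoryTheory.Limits AlgebraicGeometry
open Variety

namespace Groth.Agent.S1553

/-- Let f : X → Y be locally of finite type, x a point with image y such that the local ring of Y at y
is Noetherian, and d a natural number such that at the generic points η of the irreducible
components of X passing through x we have f(η) ≠ y and local fibre dimension d. Then the local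
dimension at x of the fibre over y is at most d + dim O_{Y,y} - 1 (written additively). -/
theorem result {X Y : Scheme.{u}} (f : X ⟶ Y) [LocallyOfFiniteType f]
    (x : X) [IsNoetherianRing (Y.presheaf.stalk (f.base x))] (d : ℕ)
    (hgen : ∀ Z ∈ irreducibleComponents (X : Type u), x ∈ Z → ∀ η : X, IsGenericPoint η Z →
      f.base η ≠ f.base x ∧ FlatMor.fibreDimAt f η = d) :
    FlatMor.fibreDimAt f x + 1 ≤ (d : WithBot ℕ∞) + ringKrullDim (Y.presheaf.stalk (f.base x)) := by
  obtain ⟨P, B, hB, p₁, p₂, hlft, x₀, hx₀, hfd, hdim, hmaxpts⟩ :=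
    Lib.Helper55.exists_noetherian_base_change f x
  have key := Lib.Helper55.fibreDimAt_add_one_le_of_locallyNoetherian p₂ x₀ d (by
    intro ξ' hξ'max hξ'x₀
    obtain ⟨h1, h2, h3⟩ := hmaxpts ξ' hξ'max hξ'x₀
    have hZ := Lib.Helper55.closure_mem_irreducibleComponents_of_maximal (p₁ ξ') h1
    obtain ⟨h4, h5⟩ := hgen _ hZ (specializes_iff_mem_closure.mp h2) (p₁ ξ') rfl
    exact ⟨fun h => h4 (h3 h), (hfd ξ').trans h5⟩)
  have hfx : FlatMor.fibreDimAt p₂ x₀ = FlatMor.fibreDimAt f x := by
    rw [hfd x₀, hx₀]
  rw [hfx] at key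
  exact key.trans (add_le_add_right hdim _)

end Groth.Agent.S1553
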