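import Groth.Statements.S15533
import Groth.Agent.Lib.Helper61.SepIntegral

set_option autoImplicit false
universe u
open OmegaSh

namespace Groth.Agent.S15533

open CategoryTheory AlgebraicGeometry Opposite TopologicalSpace in
/-- Local vanishing: on an affine open `U`, a `k`-derivation kills the restriction of a global function
(which is integral over `k`, `X` being proper, while `Γ(X, U)` is smooth over `k`). -/
theorem der_app_affine_eq_zero (k : Type u) [Field k] (X : Scheme.{u})
    (f : X ⟶ Spec (CommRingCat.of k)) [IsProper f] [Smooth f] (F : X.Modules) (D : OmegaSh.Der f F)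
    (s : Γ(X, ⊤)) (U : X.Opens) (hU : IsAffineOpen U) :
    D.app U (X.presheaf.map (homOfLE (le_top : U ≤ ⊤)).op s) = 0 := by
  have e : U ≤ f ⁻¹ᵁ ⊤ := le_top
  let φ : k →+* Γ(X, U) := (f.appLE ⊤ U e).hom.comp (Scheme.ΓSpecIso (CommRingCat.of k)).inv.hom
  have hφ : φ.Smooth := by
    refine RingHom.Smooth.comp (RingHom.Smooth.of_bijective ?_) ?_
    · exact (ConcreteCategory.bijective_of_isIso (Scheme.ΓSpecIso (CommRingCat.of k)).inv)
    · exact HasRingHomProperty.appLE (P := @Smooth) f ‹_› ⟨⊤, isAffineOpen_top _⟩ ⟨U, hU⟩ e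
  algebraize [φ]
  set b : Γ(X, U) := X.presheaf.map (homOfLE (le_top : U ≤ ⊤)).op s with hb
  -- integrality of b over k
  have hint : IsIntegral k b := by
    obtain ⟨P, hP, hPs⟩ := isIntegral_appTop_of_universallyClosed f s
    refine ⟨P.map (Scheme.ΓSpecIso (CommRingCat.of k)).hom.hom, hP.map _, ?_⟩
    rw [Polynomial.eval₂_map]
    have h1 : (algebraMap k Γ(X, U)).comp (Scheme.ΓSpecIso (CommRingCat.of k)).hom.hom =
        (X.presheaf.map (homOfLE (le_top : U ≤ ⊤)).op).hom.comp f.appTop.hom := by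
      ext x
      change (f.appLE ⊤ U e).hom ((Scheme.ΓSpecIso (CommRingCat.of k)).inv.hom
        ((Scheme.ΓSpecIso (CommRingCat.of k)).hom.hom x)) = _
      rw [show (Scheme.ΓSpecIso (CommRingCat.of k)).inv.hom
        ((Scheme.ΓSpecIso (CommRingCat.of k)).hom.hom x) = x from by
          simp]
      rfl
    rw [h1, hb, ← Polynomial.hom_eval₂, hPs, map_zero]
  -- the derivation on sections over U
  refine Groth.Agent.Lib.Helper61.SepIntegral.d_eq_zero_of_smooth_of_isIntegral (k := k)
    (B := Γ(X, U)) (M := Γ(F, U)) (D.app U) (fun a c => D.d_mul (X := op U) a c) ?_ b hint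
  intro c
  change D.app U ((f.appLE ⊤ U e).hom ((Scheme.ΓSpecIso (CommRingCat.of k)).inv.hom c)) = 0
  have h2 : (f.appLE ⊤ U e).hom ((Scheme.ΓSpecIso (CommRingCat.of k)).inv.hom c) =
      X.presheaf.map (homOfLE (le_top : U ≤ ⊤)).op
        (f.app ⊤ ((Scheme.ΓSpecIso (CommRingCat.of k)).inv.hom c)) := rfl
  rw [h2, OmegaSh.Der.app_apply]
  have h3 := D.d_map (X := op (⊤ : X.Opens)) (Y := op U) (homOfLE (le_top : U ≤ ⊤)).op
    (f.app ⊤ ((Scheme.ΓSpecIso (CommRingCat.of k)).inv.hom c))
  have h4 := D.d_app (X := op (⊤ : (Spec (CommRingCat.of k)).Opens))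
    ((Scheme.ΓSpecIso (CommRingCat.of k)).inv.hom c)
  erw [h3]
  erw [h4]
  exact map_zero _

open CategoryTheory AlgebraicGeometry in
/-- For a field k and a smooth proper k-scheme X with structure morphism f, the derivation d : O_X →
Ω_{X/k} of f vanishes on global functions: d(s) = 0 in Γ(X, Ω_{X/k}) for every s ∈ Γ(X, O_X). -/
theorem result (k : Type u) [Field k] (X : Scheme.{u})
    (f : X ⟶ Spec (CommRingCat.of k)) [IsProper f] [Smooth f] (s : Γ(X, ⊤)) :
    (OmegaSh.dOmega f).app ⊤ s = 0 := by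
  refine TopCat.Sheaf.eq_of_locally_eq' ⟨(Omega.sheaf f).presheaf, (Omega.sheaf f).isSheaf⟩
    (fun U : X.affineOpens => U.1) ⊤ (fun U => homOfLE le_top) ?_ _ _ ?_
  · rw [AlgebraicGeometry.iSup_affineOpens_eq_top]
  · intro U
    have h1 := der_app_affine_eq_zero k X f (Omega.sheaf f) (OmegaSh.dOmega f) s U.1 U.2
    have h3 := (OmegaSh.dOmega f).d_map (X := Opposite.op (⊤ : X.Opens)) (Y := Opposite.op U.1)
      (homOfLE (le_top : U.1 ≤ ⊤)).op s
    rw [OmegaSh.Der.app_apply] at h1
    erw [h3] at h1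
    rw [map_zero]
    exact h1

end Groth.Agent.S15533
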