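import Groth.Statements.S1554
-- import your own Groth.Agent.* helpers here
import Groth.Agent.Lib.Helper55.NoethStalkReduce

set_option autoImplicit false
universe u
open CategoryTheory CategoryTheory.Limits AlgebraicGeometry
open Variety

namespace Groth.Agent.S1554

/-- Let f : X → Y be locally of finite type, x a point with image y such that the local ring of Y at y
is Noetherian of dimension at most one, and d a natural number such that the local fibre dimension
is d at the generic points of the irreducible components of X passing through x. Then the local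
dimension at x of the fibre over y equals d. -/
theorem result {X Y : Scheme.{u}} (f : X ⟶ Y) [LocallyOfFiniteType f]
    (x : X) [IsNoetherianRing (Y.presheaf.stalk (f.base x))] (hdimY : ringKrullDim (Y.presheaf.stalk (f.base x)) ≤ 1) (d : ℕ)
    (hgen : ∀ Z ∈ irreducibleComponents (X : Type u), x ∈ Z → ∀ η : X, IsGenericPoint η Z → FlatMor.fibreDimAt f η = d) :
    FlatMor.fibreDimAt f x = d := by
  obtain ⟨P, B, hB, p₁, p₂, hlft, x₀, hx₀, hfd, hdim, hmaxpts⟩ :=
    Lib.Helper55.exists_noetherian_base_change f x
  have key := Lib.Helper55.fibreDimAt_eq_of_locallyNoetherian_of_dim_le_one p₂ x₀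
    (hdim.trans hdimY) d (by
    intro ξ' hξ'max hξ'x₀
    obtain ⟨h1, h2, -⟩ := hmaxpts ξ' hξ'max hξ'x₀
    have hZ := Lib.Helper55.closure_mem_irreducibleComponents_of_maximal (p₁ ξ') h1
    have h5 := hgen _ hZ (specializes_iff_mem_closure.mp h2) (p₁ ξ') rfl
    exact (hfd ξ').trans h5)
  have hfx : FlatMor.fibreDimAt p₂ x₀ = FlatMor.fibreDimAt f x := by
    rw [hfd x₀, hx₀]
  rw [hfx] at key
  exact key

end Groth.Agent.S1554
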