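import Groth.Statements.S15546
import Mathlib
-- import your own Groth.Agent.* helpers here

set_option autoImplicit false
open scoped TensorProduct
universe u
open Unram

namespace Groth.Agent.S15546

open Polynomial in
/-- a functional picking out the top power -/
theorem exists_functional (k E : Type u) [Field k] [Field E] [Algebra k E] (α : E)
    (d : ℕ) (hd : (minpoly k α).natDegree = d + 1) :
    ∃ φ : E →ₗ[k] k, φ (α ^ d) = 1 ∧ ∀ i < d, φ (α ^ i) = 0 := by
  classical
  have hli := linearIndependent_pow (K := k) α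
  let v : Fin (minpoly k α).natDegree → E := fun i => α ^ (i : ℕ)
  let top : Fin (minpoly k α).natDegree := ⟨d, by omega⟩
  let φ₀ : Submodule.span k (Set.range v) →ₗ[k] k := (Finsupp.lapply top).comp hli.repr
  obtain ⟨φ, hφ⟩ := LinearMap.exists_extend φ₀
  have key : ∀ i : Fin (minpoly k α).natDegree, φ (α ^ (i : ℕ)) = if i = top then 1 else 0 := by
    intro i
    have hmem : v i ∈ Submodule.span k (Set.range v) := Submodule.subset_span ⟨i, rfl⟩
    have h1 : φ (v i) = φ₀ ⟨v i, hmem⟩ := by
      rw [← hφ]; rfl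
    have h2 : hli.repr ⟨v i, hmem⟩ = Finsupp.single i 1 := hli.repr_eq_single i _ rfl
    show φ (v i) = _
    rw [h1]
    simp only [φ₀, LinearMap.coe_comp, Function.comp_apply, h2, Finsupp.lapply_apply]
    rw [Finsupp.single_apply]
  refine ⟨φ, ?_, ?_⟩
  · have := key top
    simpa [top] using this
  · intro i hi
    have := key ⟨i, by omega⟩
    rw [if_neg] at this
    · exact this
    · intro h
      have := congrArg Fin.val h
      simp [top] at this
      omega


open Polynomial in

/-- Let E be a finite extension of a field k which is not separable over k, and K an algebraic closure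
of k. Then E ⊗_k K has a nonzero nilpotent element. -/
theorem result (k E K : Type u) [Field k] [Field E]
    [Algebra k E] [FiniteDimensional k E] [Field K] [Algebra k K] [IsAlgClosure k K]
    (h : ¬ Algebra.IsSeparable k E) : ∃ x : E ⊗[k] K, x ≠ 0 ∧ IsNilpotent x := by
  classical
  rw [Algebra.isSeparable_def] at h
  push Not at h
  obtain ⟨α, hα⟩ := h
  have hint : IsIntegral k α := Algebra.IsIntegral.isIntegral α
  set f := minpoly k α with hf
  have hfmonic : f.Monic := minpoly.monic hint
  have hfnsep : ¬ f.Separable := hα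
  have : IsAlgClosed K := IsAlgClosure.isAlgClosed k
  set fK := f.map (algebraMap k K) with hfK
  have hfKmonic : fK.Monic := hfmonic.map _
  have hfKnsep : ¬ fK.Separable := by rwa [Polynomial.separable_map]
  have hsplit : fK.Splits := IsAlgClosed.splits fK
  have hnodup : ¬ fK.roots.Nodup := by rwa [nodup_roots_iff_of_splits hfKmonic.ne_zero hsplit]
  rw [Multiset.nodup_iff_count_le_one] at hnodup
  push Not at hnodup
  obtain ⟨r, hr⟩ := hnodup
  rw [count_roots] at hr
  have hdvd : (X - C r) ^ 2 ∣ fK := (pow_dvd_pow _ hr).trans (pow_rootMultiplicity_dvd fK r)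
  obtain ⟨g, hg⟩ := hdvd
  set hh := (X - C r) * g with hhdef
  have hfK_eq : fK = (X - C r) * hh := by rw [hg, hhdef]; ring
  have hhmonic : hh.Monic := (monic_X_sub_C r).of_mul_monic_left (hfK_eq ▸ hfKmonic)
  have hdeg : fK.natDegree = hh.natDegree + 1 := by
    rw [hfK_eq, (monic_X_sub_C r).natDegree_mul hhmonic, natDegree_X_sub_C, add_comm]
  have hdegf : f.natDegree = hh.natDegree + 1 := by rw [← hdeg, natDegree_map]
  obtain ⟨φ, hφtop, hφlow⟩ := exists_functional k E α hh.natDegree hdegf
  let ι : K →+* E ⊗[k] K := (Algebra.TensorProduct.includeRight : K →ₐ[k] E ⊗[k] K).toRingHom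
  let β : E ⊗[k] K := α ⊗ₜ 1
  let ψ : K[X] →+* E ⊗[k] K := Polynomial.eval₂RingHom ι β
  have hψf : ψ fK = 0 := by
    show eval₂ ι β (f.map (algebraMap k K)) = 0
    rw [eval₂_map]
    have hc : ι.comp (algebraMap k K) = algebraMap k (E ⊗[k] K) := by
      ext c
      exact (Algebra.TensorProduct.includeRight : K →ₐ[k] E ⊗[k] K).commutes c
    rw [hc, ← aeval_def]
    have : β = (Algebra.TensorProduct.includeLeft : E →ₐ[k] E ⊗[k] K) α := rfl
    rw [this, aeval_algHom_apply, hf, minpoly.aeval, map_zero]
  refine ⟨ψ hh, ?_, 2, ?_⟩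
  · intro h0
    let Φ : E ⊗[k] K →ₗ[k] K := (TensorProduct.lid k K).toLinearMap.comp (LinearMap.rTensor K φ)
    have hΦ : ∀ (e : E) (c : K), Φ (e ⊗ₜ c) = φ e • c := by
      intro e c; simp [Φ]
    have h1 : ψ hh = ∑ i ∈ Finset.range (hh.natDegree + 1), (α ^ i) ⊗ₜ[k] (hh.coeff i) := by
      show eval₂ ι β hh = _
      rw [eval₂_eq_sum_range]
      refine Finset.sum_congr rfl fun i _ => ?_
      show (1 : E) ⊗ₜ[k] (hh.coeff i) * (α ⊗ₜ[k] (1 : K)) ^ i = _
      rw [Algebra.TensorProduct.tmul_pow, Algebra.TensorProduct.tmul_mul_tmul, one_mul, one_pow,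
        mul_one]
    have h2 : Φ (ψ hh) = 1 := by
      rw [h1, map_sum, Finset.sum_range_succ]
      rw [Finset.sum_eq_zero, zero_add, hΦ, hφtop, hhmonic.coeff_natDegree, one_smul]
      intro i hi
      rw [hΦ, hφlow i (Finset.mem_range.mp hi), zero_smul]
    rw [h0, map_zero] at h2
    exact zero_ne_one h2
  · rw [← map_pow]
    have : hh ^ 2 = fK * g := by rw [hg, hhdef]; ring
    rw [this, map_mul, hψf, zero_mul]

end Groth.Agent.S15546
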