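import Mathlib
import Groth.Statements.S15548
import Groth.Agent.Lib.Helper73.ProjRes

set_option autoImplicit false
universe u
open CategoryTheory
open CAlg

namespace Groth.Agent.S15548


open TensorProduct

section algebra

variable (R : Type u) [CommRing R]

lemma rid_natural {F M : Type u} [AddCommGroup F] [Module R F] [AddCommGroup M] [Module R M]
    (q : F →ₗ[R] M) (t : F ⊗[R] R) :
    q (TensorProduct.rid R F t) = TensorProduct.rid R M (LinearMap.rTensor R q t) := by
  induction t using TensorProduct.induction_on with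
  | zero => simp
  | tmul x y => simp
  | add x y hx hy => simp only [map_add, hx, hy]

lemma rid_lTensor_mem {F : Type u} [AddCommGroup F] [Module R F] (J : Ideal R)
    (t : F ⊗[R] ↥J) :
    TensorProduct.rid R F (LinearMap.lTensor F (Submodule.subtype J) t) ∈
      (J • ⊤ : Submodule R F) := by
  induction t using TensorProduct.induction_on with
  | zero => simp
  | tmul x y =>
    simp only [LinearMap.lTensor_tmul, Submodule.subtype_apply, TensorProduct.rid_tmul]
    exact Submodule.smul_mem_smul y.2 Submodule.mem_top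
  | add x y hx hy =>
    simp only [map_add]
    exact Submodule.add_mem _ hx hy

variable [IsNoetherianRing R] (I : Ideal R)
  (M : Type u) [AddCommGroup M] [Module R M] [Module.Finite R M]

theorem ar_basic (n : ℕ) :
    ∃ m : ℕ, n ≤ m ∧ ∀ (h : I ^ m ≤ I ^ n) (ζ : M ⊗[R] ↥(I ^ m)),
      LinearMap.lTensor M (Submodule.subtype (I ^ m)) ζ = 0 →
      LinearMap.lTensor M (Submodule.inclusion h) ζ = 0 := by
  obtain ⟨r, q, hq⟩ := Module.Finite.exists_fin' R M
  obtain ⟨c, hc⟩ := Ideal.exists_pow_inf_eq_pow_smul I (LinearMap.ker q)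
  refine ⟨n + c, Nat.le_add_right n c, fun h ζ hζ => ?_⟩
  obtain ⟨ξ, rfl⟩ := LinearMap.rTensor_surjective (↥(I ^ (n + c))) hq ζ
  set y : Fin r → R := TensorProduct.rid R (Fin r → R)
    (LinearMap.lTensor (Fin r → R) (Submodule.subtype (I ^ (n + c))) ξ) with hy
  have hy1 : y ∈ (I ^ (n + c) • ⊤ : Submodule R (Fin r → R)) := rid_lTensor_mem R _ ξ
  have hy2 : y ∈ LinearMap.ker q := by
    rw [LinearMap.mem_ker, hy, rid_natural]
    have h1 : LinearMap.rTensor R q (LinearMap.lTensor (Fin r → R) (Submodule.subtype (I ^ (n + c))) ξ) =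
        LinearMap.lTensor M (Submodule.subtype (I ^ (n + c))) (LinearMap.rTensor (↥(I ^ (n + c))) q ξ) := by
      rw [← LinearMap.comp_apply, ← LinearMap.comp_apply, LinearMap.rTensor_comp_lTensor,
        LinearMap.lTensor_comp_rTensor]
    rw [h1, hζ, map_zero]
  have hy3 : y ∈ (I ^ n • LinearMap.ker q : Submodule R (Fin r → R)) := by
    have h1 : y ∈ (I ^ (n + c) • ⊤ ⊓ LinearMap.ker q : Submodule R (Fin r → R)) := ⟨hy1, hy2⟩
    rw [hc (n + c) (Nat.le_add_left c n), Nat.add_sub_cancel] at h1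
    exact Submodule.smul_mono le_rfl inf_le_right h1
  -- realize `y` by a tensor in `K ⊗ I^n`
  have hrange : (I ^ n • LinearMap.ker q : Submodule R (Fin r → R)) ≤
      LinearMap.range ((TensorProduct.rid R (Fin r → R)).toLinearMap ∘ₗ
        LinearMap.lTensor (Fin r → R) (Submodule.subtype (I ^ n)) ∘ₗ
        LinearMap.rTensor (↥(I ^ n)) (Submodule.subtype (LinearMap.ker q))) := by
    rw [Submodule.smul_le]
    intro a ha k hk
    refine ⟨(⟨k, hk⟩ : LinearMap.ker q) ⊗ₜ[R] (⟨a, ha⟩ : ↥(I ^ n)), ?_⟩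
    simp
  obtain ⟨ξ'', hξ''⟩ := hrange hy3
  simp only [LinearMap.comp_apply, LinearEquiv.coe_coe] at hξ''
  have hinj : Function.Injective (LinearMap.lTensor (Fin r → R) (Submodule.subtype (I ^ n))) :=
    Module.Flat.lTensor_preserves_injective_linearMap _ (Submodule.injective_subtype _)
  have hkey : LinearMap.lTensor (Fin r → R) (Submodule.inclusion h) ξ =
      LinearMap.rTensor (↥(I ^ n)) (Submodule.subtype (LinearMap.ker q)) ξ'' := by
    apply hinj
    apply (TensorProduct.rid R (Fin r → R)).injective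
    rw [hξ'', hy, ← LinearMap.comp_apply (LinearMap.lTensor (Fin r → R) (Submodule.subtype (I ^ n))),
      ← LinearMap.lTensor_comp]
    rfl
  have h2 : LinearMap.lTensor M (Submodule.inclusion h) (LinearMap.rTensor (↥(I ^ (n + c))) q ξ) =
      LinearMap.rTensor (↥(I ^ n)) q (LinearMap.lTensor (Fin r → R) (Submodule.inclusion h) ξ) := by
    rw [← LinearMap.comp_apply, ← LinearMap.comp_apply, LinearMap.rTensor_comp_lTensor,
      LinearMap.lTensor_comp_rTensor]
  rw [h2, hkey, ← LinearMap.comp_apply, ← LinearMap.rTensor_comp, LinearMap.comp_ker_subtype,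
    LinearMap.rTensor_zero, LinearMap.zero_apply]

theorem ar_core (n : ℕ) :
    ∃ m : ℕ, n ≤ m ∧ ∀ (A A' : Type u) [AddCommGroup A] [Module R A] [AddCommGroup A'] [Module R A']
      (a : A →ₗ[R] R) (a' : A' →ₗ[R] R) (_ : Function.Injective a) (_ : Function.Injective a')
      (_ : LinearMap.range a = I ^ m) (_ : LinearMap.range a' = I ^ n)
      (κ : A →ₗ[R] A') (g₀ : R →ₗ[R] R) (_ : ∀ x, a' (κ x) = g₀ (a x)) (ζ : M ⊗[R] A),
      LinearMap.lTensor M a ζ = 0 → LinearMap.lTensor M κ ζ = 0 := by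
  obtain ⟨m, hnm, hm⟩ := ar_basic R I M n
  refine ⟨m, hnm, ?_⟩
  intro A A' _ _ _ _ a a' ha ha' hra hra' κ g₀ hκ ζ hζ
  have hle : I ^ m ≤ I ^ n := Ideal.pow_le_pow_right hnm
  let e : A ≃ₗ[R] ↥(I ^ m) := (LinearEquiv.ofInjective a ha).trans (LinearEquiv.ofEq _ _ hra)
  let e' : A' ≃ₗ[R] ↥(I ^ n) := (LinearEquiv.ofInjective a' ha').trans (LinearEquiv.ofEq _ _ hra')
  have he : ∀ x, ((e x : ↥(I ^ m)) : R) = a x := fun x => rfl
  have he' : ∀ x, ((e' x : ↥(I ^ n)) : R) = a' x := fun x => rfl
  have hκ' : κ = (g₀ 1) • (e'.symm.toLinearMap ∘ₗ Submodule.inclusion hle ∘ₗ e.toLinearMap) := by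
    apply LinearMap.ext
    intro x
    apply ha'
    rw [hκ, LinearMap.smul_apply, map_smul, LinearMap.comp_apply, LinearMap.comp_apply,
      LinearEquiv.coe_coe, LinearEquiv.coe_coe, ← he' (e'.symm _), LinearEquiv.apply_symm_apply,
      Submodule.coe_inclusion, he]
    have : a x = a x • (1 : R) := by rw [smul_eq_mul, mul_one]
    conv_lhs => rw [this, map_smul]
    rw [smul_eq_mul, smul_eq_mul, mul_comm]
  have h1 : LinearMap.lTensor M (Submodule.subtype (I ^ m)) (LinearMap.lTensor M e.toLinearMap ζ) = 0 := by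
    rw [← LinearMap.comp_apply, ← LinearMap.lTensor_comp]
    have : Submodule.subtype (I ^ m) ∘ₗ e.toLinearMap = a := LinearMap.ext fun x => he x
    rw [this, hζ]
  have h2 := hm hle _ h1
  rw [hκ', LinearMap.lTensor_smul, LinearMap.smul_apply, LinearMap.lTensor_comp, LinearMap.lTensor_comp,
    LinearMap.comp_apply, LinearMap.comp_apply, h2, map_zero, smul_zero]

end algebra

section homology

open CategoryTheory CategoryTheory.Limits MonoidalCategory

variable (R : Type u) [CommRing R]

lemma homologyMap_eq_zero_of {S₁ S₂ : ShortComplex (ModuleCat.{u} R)} (φ : S₁ ⟶ S₂)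
    (h : ∀ z : S₁.X₂, S₁.g.hom z = 0 → ∃ w : S₂.X₁, S₂.f.hom w = φ.τ₂.hom z) :
    ShortComplex.homologyMap φ = 0 := by
  rw [← cancel_epi S₁.homologyπ, ShortComplex.homologyπ_naturality, comp_zero]
  ext x
  have hx : S₁.g.hom (S₁.iCycles.hom x) = 0 :=
    congrArg (fun t : S₁.cycles ⟶ S₁.X₃ => t.hom x) S₁.iCycles_g
  obtain ⟨w, hw⟩ := h (S₁.iCycles.hom x) hx
  have h1 : (ShortComplex.cyclesMap φ).hom x = S₂.toCycles.hom w := by
    have hinj : Function.Injective S₂.iCycles.hom :=
      (ModuleCat.mono_iff_injective _).mp inferInstance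
    apply hinj
    have e1 : S₂.iCycles.hom ((ShortComplex.cyclesMap φ).hom x) = φ.τ₂.hom (S₁.iCycles.hom x) :=
      congrArg (fun t : S₁.cycles ⟶ S₂.X₂ => t.hom x) (ShortComplex.cyclesMap_i φ)
    have e2 : S₂.iCycles.hom (S₂.toCycles.hom w) = S₂.f.hom w :=
      congrArg (fun t : S₂.X₁ ⟶ S₂.X₂ => t.hom w) S₂.toCycles_i
    rw [e1, e2, hw]
  show S₂.homologyπ.hom ((ShortComplex.cyclesMap φ).hom x) = 0
  rw [h1]
  exact congrArg (fun t : S₂.X₁ ⟶ S₂.homology => t.hom w) S₂.toCycles_comp_homologyπ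

lemma hc_homologyMap_eq_zero_of {ι : Type*} {c : ComplexShape ι}
    {K L : HomologicalComplex (ModuleCat.{u} R) c} (φ : K ⟶ L) (i j k : ι)
    (hi : c.prev j = i) (hk : c.next j = k)
    (h : ∀ z : K.X j, (K.d j k).hom z = 0 → ∃ w : L.X i, (L.d i j).hom w = (φ.f j).hom z) :
    HomologicalComplex.homologyMap φ j = 0 := by
  subst hi hk
  exact homologyMap_eq_zero_of R ((HomologicalComplex.shortComplexFunctor _ c j).map φ) h

end homology

open CategoryTheory CategoryTheory.Limits MonoidalCategory TensorProduct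

set_option backward.isDefEq.respectTransparency false

/-- Let R be a Noetherian commutative ring, I an ideal of R and M a finitely generated R-module. Then
for every natural number n there is m ≥ n such that the map Tor_1^R(M, R/I^m) → Tor_1^R(M, R/I^n)
induced by the projection R/I^m → R/I^n is the zero map. Here Tor_1^R(M, -) is the first left
derived functor of M ⊗_R - (derived in the second variable). -/
theorem result (R : Type u) [CommRing R] [IsNoetherianRing R] (I : Ideal R)
    (M : Type u) [AddCommGroup M] [Module R M] [Module.Finite R M] (n : ℕ) :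
    ∃ m : ℕ, n ≤ m ∧ ∀ h : I ^ m ≤ I ^ n,
      ((CategoryTheory.Tor (ModuleCat.{u} R) 1).obj (ModuleCat.of R M)).map
        (ModuleCat.ofHom (Submodule.factor h)) = 0 := by
  obtain ⟨m, hnm, hcore⟩ := ar_core R I M n
  refine ⟨m, hnm, fun h => ?_⟩
  -- the two quotient maps
  let pm : ModuleCat.of R R ⟶ ModuleCat.of R (R ⧸ I ^ m) := ModuleCat.ofHom (Submodule.mkQ (I ^ m))
  let pn : ModuleCat.of R R ⟶ ModuleCat.of R (R ⧸ I ^ n) := ModuleCat.ofHom (Submodule.mkQ (I ^ n))
  haveI : Epi pm := (ModuleCat.epi_iff_surjective _).mpr (Submodule.mkQ_surjective _)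
  haveI : Epi pn := (ModuleCat.epi_iff_surjective _).mpr (Submodule.mkQ_surjective _)
  let Qm := ProjectiveResolution.of (kernel pm)
  let Qn := ProjectiveResolution.of (kernel pn)
  let Pm : ProjectiveResolution (ModuleCat.of R (R ⧸ I ^ m)) := Groth.Agent.Lib.Helper73.splice pm Qm
  let Pn : ProjectiveResolution (ModuleCat.of R (R ⧸ I ^ n)) := Groth.Agent.Lib.Helper73.splice pn Qn
  let f : ModuleCat.of R (R ⧸ I ^ m) ⟶ ModuleCat.of R (R ⧸ I ^ n) := ModuleCat.ofHom (Submodule.factor h)
  let g : Pm.complex ⟶ Pn.complex := ProjectiveResolution.lift f Pm Pn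
  have w : g ≫ Pn.π = Pm.π ≫ (ChainComplex.single₀ _).map f := ProjectiveResolution.lift_commutes f Pm Pn
  let F : ModuleCat.{u} R ⥤ ModuleCat.{u} R := (tensoringLeft (ModuleCat.{u} R)).obj (ModuleCat.of R M)
  show (F.leftDerived 1).map f = 0
  rw [Functor.leftDerived_map_eq F 1 f g w]
  have hmid : (F.mapHomologicalComplex _ ⋙ HomologicalComplex.homologyFunctor _ _ 1).map g = 0 := by
    show HomologicalComplex.homologyMap ((F.mapHomologicalComplex _).map g) 1 = 0
    apply hc_homologyMap_eq_zero_of R _ 2 1 0 (by simp) (by simp)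
    intro z hz
    -- basic identities
    have hd10 : Pm.complex.d 1 0 = Qm.π.f 0 ≫ kernel.ι pm := rfl
    have hd10' : Pn.complex.d 1 0 = Qn.π.f 0 ≫ kernel.ι pn := rfl
    have hd21' : Pn.complex.d 2 1 = Qn.complex.d 1 0 := rfl
    have hπm : Pm.π.f 0 = pm := rfl
    have hπn : Pn.π.f 0 = pn := rfl
    have hcomm : pm ≫ f = g.f 0 ≫ pn := by
      have := ProjectiveResolution.lift_commutes_zero f Pm Pn
      rw [hπm, hπn] at this
      exact this.symm
    let κ : kernel pm ⟶ kernel pn := kernel.map pm pn (g.f 0) f hcomm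
    have hκι : κ ≫ kernel.ι pn = kernel.ι pm ≫ g.f 0 := kernel.lift_ι _ _ _
    have hsq : Qm.π.f 0 ≫ κ = g.f 1 ≫ Qn.π.f 0 := by
      rw [← cancel_mono (kernel.ι pn), Category.assoc, Category.assoc, hκι, ← Category.assoc, ← hd10,
        ← hd10']
      exact (g.comm 1 0).symm
    -- the tensor `ζ`
    have hz' : (LinearMap.lTensor M (kernel.ι pm).hom) (LinearMap.lTensor M (Qm.π.f 0).hom z) = 0 := by
      have h1 : (F.map (Pm.complex.d 1 0)).hom z = 0 := hz
      rw [hd10, F.map_comp] at h1
      exact h1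
    -- hypotheses of the core lemma
    have hinj : ∀ {X Y : ModuleCat.{u} R} (q : X ⟶ Y), Function.Injective (kernel.ι q).hom :=
      fun q => (ModuleCat.mono_iff_injective _).mp inferInstance
    have hrange : ∀ {X Y : ModuleCat.{u} R} (q : X ⟶ Y),
        LinearMap.range (kernel.ι q).hom = LinearMap.ker q.hom := by
      intro X Y q
      have h1 : (ShortComplex.mk (kernel.ι q) q (kernel.condition q)).Exact :=
        ShortComplex.exact_of_f_is_kernel _ (kernelIsKernel q)
      exact h1.moduleCat_range_eq_ker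
    have hkm : LinearMap.ker pm.hom = I ^ m := Submodule.ker_mkQ _
    have hkn : LinearMap.ker pn.hom = I ^ n := Submodule.ker_mkQ _
    have hκ : ∀ x, (kernel.ι pn).hom (κ.hom x) = (g.f 0).hom ((kernel.ι pm).hom x) := fun x =>
      congrArg (fun t : kernel pm ⟶ ModuleCat.of R R => t.hom x) hκι
    have hζ := hcore _ _ (kernel.ι pm).hom (kernel.ι pn).hom (hinj pm) (hinj pn)
      ((hrange pm).trans hkm) ((hrange pn).trans hkn) κ.hom (g.f 0).hom hκ
      (LinearMap.lTensor M (Qm.π.f 0).hom z) hz'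
    -- transfer along the square
    have h4 : LinearMap.lTensor M (Qn.π.f 0).hom (LinearMap.lTensor M (g.f 1).hom z) = 0 := by
      have e1 := (LinearMap.lTensor_comp_apply M (Qn.π.f 0).hom (g.f 1).hom z).symm
      have e2 := (LinearMap.lTensor_comp_apply M κ.hom (Qm.π.f 0).hom z).symm
      have e3 : (Qn.π.f 0).hom ∘ₗ (g.f 1).hom = κ.hom ∘ₗ (Qm.π.f 0).hom := by
        have := congrArg ModuleCat.Hom.hom hsq
        rw [ModuleCat.hom_comp, ModuleCat.hom_comp] at this
        exact this.symm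
      exact e1.trans ((congrArg (fun φ => LinearMap.lTensor M φ z) e3).trans (e2.symm.trans hζ))
    -- right exactness
    have hex : Function.Exact (Qn.complex.d 1 0).hom (Qn.π.f 0).hom := by
      have h1 := Qn.exact₀
      rw [ShortComplex.ShortExact.moduleCat_exact_iff_function_exact] at h1
      exact h1
    have hsurj : Function.Surjective (Qn.π.f 0).hom :=
      (ModuleCat.epi_iff_surjective _).mp inferInstance
    have hex' := lTensor_exact M hex hsurj
    obtain ⟨w', hw'⟩ := (hex' _).mp h4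
    exact ⟨w', hw'⟩
  rw [hmid, zero_comp, comp_zero]

end Groth.Agent.S15548
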