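import Groth.Statements.S15553
import Groth.Agent.Lib.Helper65.ConeDescent
import Groth.Agent.Lib.Helper65.ContractibleNerve
import Groth.Agent.Lib.Helper65.FibComma

set_option autoImplicit false
universe v₁ v₂ v₃ u₁ u₂ u₃
open CategoryTheory
open FibCat

namespace Groth.Agent.S15553

/-- Let f : C ⥤ D be a fibred category such that every fibre of f is non-empty and has trivial
fundamental groupoid in the sense that for every groupoid G the constant-functor functor G ⥤ (f⁻¹(Y)
⥤ G) is an equivalence; let p : F ⥤ D be a category fibred in groupoids over D. Then restriction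
along f, from sections of F over D (functors D ⥤ F over D, with natural transformations over
identities) to sections of F over the diagram f (functors C ⥤ F over D), is an equivalence of
categories. (The published statement allows any fibred category F with its cartesian sections; this
row takes F fibred in groupoids, where every arrow is cartesian and every section is a cartesian
section. The test groupoids G are taken with objects and morphisms in a universe level containing
all the categories involved.) -/
theorem result
    {C : Type u₁} [Category.{v₁} C] {D : Type u₂} [Category.{v₂} D] {F : Type u₃} [Category.{v₃} F]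
    (f : C ⥤ D) [f.IsFibered] (p : F ⥤ D) [FibCat.IsFibGrpd p]
    (hf : ∀ Y : D, W4c2modmodulilect.HasContractibleNerve.{max u₁ u₂ u₃ v₁ v₂ v₃, max u₁ u₂ u₃ v₁ v₂ v₃} (f.Fiber Y)) :
    (Stk.restr (FibCat.toSelf (BasedCategory.ofFunctor f)) (BasedCategory.ofFunctor p)).IsEquivalence := by
  have hp : FibCat.IsFibGrpd (BasedCategory.ofFunctor p).p := ‹FibCat.IsFibGrpd p›
  have hconn : ∀ b : (FibCat.selfOver D).obj, IsConnected (StructuredArrow b f) := fun Y => by
    have : IsConnected (f.Fiber Y) :=
      Groth.Agent.Lib.Helper65.ContractibleNerve.isConnected.{max u₁ u₂ u₃ v₁ v₂ v₃} (hf Y)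
    exact Groth.Agent.Lib.Helper65.FibComma.isConnected_structuredArrow f Y
  have hsc : ∀ (b : (FibCat.selfOver D).obj)
      (T : StructuredArrow b f ⥤ (BasedCategory.ofFunctor p).p.Fiber ((FibCat.selfOver D).p.obj b)),
      ∃ g : (BasedCategory.ofFunctor p).p.Fiber ((FibCat.selfOver D).p.obj b),
        Nonempty (T ≅ (Functor.const _).obj g) := by
    intro Y T
    have hG := Groth.Agent.Lib.Helper31.isGroupoid_fiber_of_isFibGrpd p ‹FibCat.IsFibGrpd p› Y
    apply Groth.Agent.Lib.Helper65.FibComma.exists_const_iso f Y (fun m => hG.all_isIso m) T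
    exact Groth.Agent.Lib.Helper65.ContractibleNerve.exists_const_iso.{max u₁ u₂ u₃ v₁ v₂ v₃} (hf Y)
      (fun m => hG.all_isIso m) (Groth.Agent.Lib.Helper65.FibComma.incl f Y ⋙ T)
  exact Groth.Agent.Lib.Helper65.ConeDescent.restr_isEquivalence (ℬ := FibCat.selfOver D)
    (𝒮 := BasedCategory.ofFunctor p) (φ₀ := f) (hconn := hconn) hp hsc

end Groth.Agent.S15553
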