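import Groth.Statements.S1556
import Groth.Agent.Lib.Helper24.SmoothRegularPoint
import Groth.Agent.Lib.Helper38.NormSch
import Groth.Agent.Lib.Helper14.StalkGenPt

set_option autoImplicit false
universe u
open CategoryTheory CategoryTheory.Limits AlgebraicGeometry
attribute [local instance] Curv2.resAlgebra
open Variety

namespace Groth.Agent.S1556

open IsLocalRing in
/-- if the local ring at `x` is a field, `x` has no proper generization. -/
theorem eq_of_specializes_of_isField {X : Scheme.{u}} (x y : X) (h : y ⤳ x)
    (hF : IsField (X.presheaf.stalk x)) : y = x := by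
  have hm : maximalIdeal (X.presheaf.stalk x) = ⊥ := isField_iff_maximalIdeal_eq.mp hF
  have hw : Groth.Agent.Lib.Helper14.genPt h = closedPoint (X.presheaf.stalk x) := by
    apply PrimeSpectrum.ext
    have h1 : (Groth.Agent.Lib.Helper14.genPt h).asIdeal ≤ maximalIdeal (X.presheaf.stalk x) :=
      le_maximalIdeal (Groth.Agent.Lib.Helper14.genPt h).2.ne_top
    rw [hm, le_bot_iff] at h1
    rw [h1]
    exact hm.symm
  have h2 := Groth.Agent.Lib.Helper14.fromSpecStalk_genPt h
  rw [hw, Scheme.fromSpecStalk_closedPoint] at h2
  exact h2.symm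

theorem not_isField_stalk_of_isClosed {X : Scheme.{u}} [IsIntegral X]
    (hdim : topologicalKrullDim X = 1) (x : X) (hx : IsClosed ({x} : Set X)) :
    ¬ IsField (X.presheaf.stalk x) := by
  intro hF
  have hη : genericPoint X = x :=
    eq_of_specializes_of_isField x _ (genericPoint_specializes x) hF
  have huniv : ({x} : Set X) = Set.univ := by
    rw [← hx.closure_eq, ← hη]
    exact genericPoint_closure X
  have hsub : Subsingleton X := by
    refine ⟨fun a b => ?_⟩
    have ha : a ∈ ({x} : Set X) := huniv ▸ Set.mem_univ a
    have hb : b ∈ ({x} : Set X) := huniv ▸ Set.mem_univ b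
    rw [Set.mem_singleton_iff] at ha hb
    rw [ha, hb]
  have hsub' : Subsingleton (TopologicalSpace.IrreducibleCloseds X) := by
    refine ⟨fun Z₁ Z₂ => ?_⟩
    apply TopologicalSpace.IrreducibleCloseds.ext
    ext a
    obtain ⟨a₁, ha₁⟩ := Z₁.isIrreducible.nonempty
    obtain ⟨a₂, ha₂⟩ := Z₂.isIrreducible.nonempty
    rw [Subsingleton.elim a a₁] at *
    constructor
    · intro _; rw [Subsingleton.elim a₁ a₂]; exact ha₂
    · intro _; exact ha₁
  have h0 : topologicalKrullDim X ≤ 0 := Order.krullDim_nonpos_of_subsingleton
  rw [hdim] at h0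
  exact absurd h0 (by decide)


/-- Let X be a curve over k (integral, separated, of finite type, of dimension one) and x a closed point
whose residue field is separable over k. Then the local ring at x is a discrete valuation ring if
and only if x lies in the smooth locus of X → Spec k. -/
theorem result (k : Type u) [Field k] (X : Scheme.{u}) [X.Over (Spec (CommRingCat.of k))] [IsIntegral X]
    [IsSeparated (X ↘ (Spec (CommRingCat.of k)))] [LocallyOfFinitePresentation (X ↘ (Spec (CommRingCat.of k)))] [QuasiCompact (X ↘ (Spec (CommRingCat.of k)))]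
    (hdim : topologicalKrullDim X = 1) (x : X) (hx : IsClosed ({x} : Set X))
    [Algebra.IsSeparable k (X.residueField x)] :
    IsDiscreteValuationRing (X.presheaf.stalk x) ↔ x ∈ (X ↘ (Spec (CommRingCat.of k))).smoothLocus := by
  open Groth.Agent.Lib.Helper24 in
  have hfs : (Curv2.resMap k X x).FormallySmooth := by
    have h1 : Algebra.FormallyEtale k (X.residueField x) := Algebra.FormallyEtale.of_isSeparable k _
    have h2 : Algebra.FormallySmooth k (X.residueField x) := inferInstance
    exact RingHom.formallySmooth_algebraMap.mpr h2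
  have hN0 : IsLocallyNoetherian (Spec (CommRingCat.of k)) := inferInstance
  have hNoeth : IsLocallyNoetherian X :=
    LocallyOfFiniteType.isLocallyNoetherian (X ↘ Spec (CommRingCat.of k))
  have hle : Ring.KrullDimLE 1 (X.presheaf.stalk x) :=
    Groth.Agent.Lib.Helper38.NormSch.krullDimLE_one_stalk X hdim x
  constructor
  · intro hdvr
    have hreg : IsRegularLocalRing (X.presheaf.stalk x) := inferInstance
    exact Groth.Agent.Lib.Helper24.mem_smoothLocus_of_isRegularLocalRing_of_formallySmooth_residueField
      k _ x hreg hfs
  · intro hsm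
    have hreg := Groth.Agent.Lib.Helper24.isRegularLocalRing_stalk_of_mem_smoothLocus k _ x hsm
    have hnf := not_isField_stalk_of_isClosed hdim x hx
    have hd1 : ringKrullDim (X.presheaf.stalk x) = 1 := by
      refine le_antisymm (Ring.krullDimLE_iff.mp hle) ?_
      by_contra hlt
      have h0 : Ring.KrullDimLE 0 (X.presheaf.stalk x) := by
        have : ringKrullDim (X.presheaf.stalk x) < 1 := lt_of_not_ge hlt
        exact Ring.krullDimLE_iff.mpr (ENat.WithBot.lt_add_one_iff.mp this)
      exact hnf Ring.KrullDimLE.isField_of_isDomain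
    have h3 := (IsRegularLocalRing.iff_finrank_cotangentSpace _).mp hreg
    rw [hd1] at h3
    exact IsLocalRing.finrank_CotangentSpace_eq_one_iff.mp (by exact_mod_cast h3)

end Groth.Agent.S1556
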