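import Groth.Statements.S15560
import Groth.Agent.Lib.Helper79.Kron
-- import your own Groth.Agent.* helpers here

set_option autoImplicit false
universe u v w
open KronMod

namespace Groth.Agent.S15560

open Groth.Agent.Lib.Helper79 Module in
/-- Let f be a Kronecker module with n arrows over a field K, from a space V of dimension d₋₁ > 0 to a
space W of dimension d₀ > 0. If n·d₋₁ < d₀ or n·d₀ < d₋₁, then f is not semistable; that is, there
are no semistable Kronecker modules of dimension vector (d₋₁, d₀). (The published statement assumes
K algebraically closed of characteristic zero and n ≥ 2; this row allows any field K and any number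
n of arrows.) -/
theorem result (K : Type u) [Field K] (V : Type v) (W : Type w)
    [AddCommGroup V] [Module K V] [FiniteDimensional K V]
    [AddCommGroup W] [Module K W] [FiniteDimensional K W]
    (n : ℕ) (f : Fin n → (V →ₗ[K] W))
    (hV : 0 < Module.finrank K V) (hW : 0 < Module.finrank K W)
    (h : n * Module.finrank K V < Module.finrank K W ∨ n * Module.finrank K W < Module.finrank K V) :
    ¬ KronMod.IsSemistable f := by
  rintro ⟨-, hs⟩
  rcases h with h | h
  · -- take (⊤, range kSum)
    have hle := finrank_range_kSum_le f
    have h1 := hs ⊤ (LinearMap.range (kSum f)) (isSubrep_top_range f)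
      (by
        rintro ⟨h1, -⟩
        have : finrank K (⊤ : Submodule K V) = 0 := by rw [h1]; simp
        rw [finrank_top] at this
        omega)
      (by
        rintro ⟨-, h2⟩
        rw [h2, finrank_top] at hle
        omega)
    rw [finrank_top] at h1
    have : finrank K W ≤ finrank K (LinearMap.range (kSum f)) := by
      rw [mul_comm] at h1
      exact Nat.le_of_mul_le_mul_left h1 hV
    omega
  · -- take (ker kPi, ⊥)
    have hge := finrank_ker_kPi_ge f
    have h1 := hs (LinearMap.ker (kPi f)) ⊥ (isSubrep_ker_bot f)
      (by
        rintro ⟨h1, -⟩
        rw [h1] at hge
        simp at hge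
        omega)
      (by
        rintro ⟨-, h2⟩
        have : finrank K (⊥ : Submodule K W) = finrank K W := by rw [h2, finrank_top]
        simp at this
        omega)
    simp at h1
    rcases h1 with h1 | h1
    · omega
    · rw [h1] at hge
      simp at hge
      omega

end Groth.Agent.S15560
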