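import Groth.Statements.S15561
import Groth.Agent.Lib.Helper79.Kron
-- import your own Groth.Agent.* helpers here

set_option autoImplicit false
universe u v w
open KronMod

namespace Groth.Agent.S15561

open Groth.Agent.Lib.Helper79 Module in
/-- Let f be a Kronecker module with n arrows over a field K, from V of dimension d₋₁ > 0 to W of
dimension n·d₋₁. Then f is semistable if and only if the sum map Vⁿ → W sending (v_j)_j to Σ_j
f_j(v_j) is bijective, i.e. every arrow f_j is injective and W is the direct sum of the images
f_j(V). (The published statement assumes K algebraically closed of characteristic zero and n ≥ 2;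
this row allows any field K and any number n of arrows.) -/
theorem result (K : Type u) [Field K] (V : Type v) (W : Type w)
    [AddCommGroup V] [Module K V] [FiniteDimensional K V]
    [AddCommGroup W] [Module K W] [FiniteDimensional K W]
    (n : ℕ) (f : Fin n → (V →ₗ[K] W))
    (hV : 0 < Module.finrank K V) (hW : Module.finrank K W = n * Module.finrank K V) :
    KronMod.IsSemistable f ↔ Function.Bijective (fun v : Fin n → V => ∑ j, f j (v j)) := by
  have hfun : (fun v : Fin n → V => ∑ j, f j (v j)) = ⇑(kSum f) := by
    funext v; rw [kSum_apply]
  rw [hfun]
  have hdim : finrank K (Fin n → V) = finrank K W := by rw [finrank_fun_eq, hW]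
  constructor
  · rintro ⟨-, hs⟩
    -- surjective suffices
    rw [Function.Bijective, LinearMap.injective_iff_surjective_of_finrank_eq_finrank hdim, and_self]
    rw [← LinearMap.range_eq_top]
    by_contra hne
    have hle := finrank_range_kSum_le f
    have h1 := hs ⊤ (LinearMap.range (kSum f)) (isSubrep_top_range f)
      (by
        rintro ⟨h1, -⟩
        have : finrank K (⊤ : Submodule K V) = 0 := by rw [h1]; simp
        rw [finrank_top] at this
        omega)
      (by
        rintro ⟨-, h2⟩
        exact hne h2)
    rw [finrank_top] at h1
    have h2 : finrank K W ≤ finrank K (LinearMap.range (kSum f)) := by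
      rw [mul_comm] at h1
      exact Nat.le_of_mul_le_mul_left h1 hV
    exact hne (Submodule.eq_top_of_finrank_eq (le_antisymm (Submodule.finrank_le _) h2))
  · rintro ⟨hinj, -⟩
    refine ⟨by omega, ?_⟩
    intro V' W' hsub _ _
    have := mul_finrank_le_of_kSum_injective hinj hsub
    rw [hW]
    calc n * finrank K V * finrank K V' = finrank K V * (n * finrank K V') := by ring
      _ ≤ finrank K V * finrank K W' := Nat.mul_le_mul_left _ this

end Groth.Agent.S15561
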