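import Groth.Statements.S15562
import Groth.Agent.Lib.Helper79.Kron
import Groth.Agent.S15561
-- import your own Groth.Agent.* helpers here

set_option autoImplicit false
universe u v w
open KronMod

namespace Groth.Agent.S15562

open Groth.Agent.Lib.Helper79 Module in
/-- Over a field K, for V of dimension d₋₁ > 0 and W of dimension n·d₋₁, semistable Kronecker modules
with n arrows from V to W exist, and any two of them are isomorphic as Kronecker modules; in other
words the moduli space K(n; d₋₁, n·d₋₁) of semistable Kronecker modules is a single point. (The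
published statement assumes K algebraically closed of characteristic zero and n ≥ 2; this row allows
any field K and any number n of arrows.) -/
theorem result (K : Type u) [Field K] (V : Type v) (W : Type w)
    [AddCommGroup V] [Module K V] [FiniteDimensional K V]
    [AddCommGroup W] [Module K W] [FiniteDimensional K W]
    (n : ℕ) (hV : 0 < Module.finrank K V) (hW : Module.finrank K W = n * Module.finrank K V) :
    (∃ f : Fin n → (V →ₗ[K] W), KronMod.IsSemistable f) ∧
    ∀ f f' : Fin n → (V →ₗ[K] W), KronMod.IsSemistable f → KronMod.IsSemistable f' →
      KronMod.AreIso f f' := by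
  have key : ∀ f : Fin n → (V →ₗ[K] W), KronMod.IsSemistable f ↔ Function.Bijective (kSum f) := by
    intro f
    rw [Groth.Agent.S15561.result K V W n f hV hW]
    have hfun : (fun v : Fin n → V => ∑ j, f j (v j)) = ⇑(kSum f) := by
      funext v; rw [kSum_apply]
    rw [hfun]
  constructor
  · have hdim : finrank K (Fin n → V) = finrank K W := by rw [finrank_fun_eq, hW]
    let e : (Fin n → V) ≃ₗ[K] W := LinearEquiv.ofFinrankEq _ _ hdim
    refine ⟨fun j => (e : (Fin n → V) →ₗ[K] W).comp (LinearMap.single K (fun _ => V) j), ?_⟩
    rw [key]
    have : kSum (fun j => (e : (Fin n → V) →ₗ[K] W).comp (LinearMap.single K (fun _ => V) j))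
        = (e : (Fin n → V) →ₗ[K] W) := by
      apply LinearMap.pi_ext
      intro j x
      rw [kSum_single]
      rfl
    rw [this]
    exact e.bijective
  · intro f f' hf hf'
    rw [key] at hf hf'
    let s : (Fin n → V) ≃ₗ[K] W := LinearEquiv.ofBijective (kSum f) hf
    let s' : (Fin n → V) ≃ₗ[K] W := LinearEquiv.ofBijective (kSum f') hf'
    refine ⟨LinearEquiv.refl K V, s.symm.trans s', ?_⟩
    intro j
    ext v
    simp only [LinearMap.coe_comp, LinearEquiv.coe_coe, Function.comp_apply,
      LinearEquiv.trans_apply, LinearEquiv.refl_apply]
    have h1 : f j v = s (Pi.single j v) := by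
      simp [s, kSum_single]
    rw [h1, LinearEquiv.symm_apply_apply]
    simp [s', kSum_single]

end Groth.Agent.S15562
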