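import Groth.Statements.S15563
import Groth.Agent.Lib.Helper79.Kron
-- import your own Groth.Agent.* helpers here

set_option autoImplicit false
universe u v w
open KronMod

namespace Groth.Agent.S15563

open Groth.Agent.Lib.Helper79 Module in
/-- Let f be a Kronecker module with n arrows over a field K, from V of dimension d₋₁ > 0 to W of
dimension n·d₋₁. Then f is stable if and only if f is semistable and d₋₁ = 1: for d₋₁ = 1 every
semistable module is stable (so the stable locus of K(n; 1, n) is the one point), while for d₋₁ > 1
no module is stable. (The published statement assumes K algebraically closed of characteristic zero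
and n ≥ 2; this row allows any field K and any number n of arrows.) -/
theorem result (K : Type u) [Field K] (V : Type v) (W : Type w)
    [AddCommGroup V] [Module K V] [FiniteDimensional K V]
    [AddCommGroup W] [Module K W] [FiniteDimensional K W]
    (n : ℕ) (f : Fin n → (V →ₗ[K] W))
    (hV : 0 < Module.finrank K V) (hW : Module.finrank K W = n * Module.finrank K V) :
    KronMod.IsStable f ↔ (KronMod.IsSemistable f ∧ Module.finrank K V = 1) := by
  constructor
  · intro hst
    refine ⟨⟨hst.1, fun V' W' a b c => le_of_lt (hst.2 V' W' a b c)⟩, ?_⟩
    by_contra hne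
    have h2 : 2 ≤ finrank K V := by omega
    -- pick a nonzero vector
    obtain ⟨v, hv⟩ : ∃ v : V, v ≠ 0 := by
      have : Nontrivial V := Module.nontrivial_of_finrank_pos hV
      exact exists_ne 0
    -- V' = span v, W' = image of (Fin n → V') under kSum
    let V' : Submodule K V := K ∙ v
    have hV'1 : finrank K V' = 1 := finrank_span_singleton hv
    let W' : Submodule K W := (Submodule.pi Set.univ (fun _ : Fin n => V')).map (kSum f)
    have hsub : IsSubrep f V' W' := by
      intro j
      rintro _ ⟨x, hx, rfl⟩
      refine ⟨Pi.single j x, ?_, kSum_single f j x⟩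
      intro i _
      by_cases hij : i = j
      · subst hij; simpa using hx
      · simp [Pi.single_eq_of_ne hij]
    have hW'le : finrank K W' ≤ n := by
      have h1 : finrank K W' ≤ finrank K (Submodule.pi Set.univ (fun _ : Fin n => V')) :=
        Submodule.finrank_map_le _ _
      have h3 : finrank K (Submodule.pi Set.univ (fun _ : Fin n => V')) = n * 1 := by
        have e : (Submodule.pi Set.univ (fun _ : Fin n => V')) ≃ₗ[K] (Fin n → V') :=
          { toFun := fun x j => ⟨x.1 j, x.2 j (Set.mem_univ j)⟩
            invFun := fun y => ⟨fun j => (y j : V), fun j _ => (y j).2⟩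
            map_add' := fun _ _ => rfl
            map_smul' := fun _ _ => rfl
            left_inv := fun _ => rfl
            right_inv := fun _ => rfl }
        rw [e.finrank_eq, finrank_fun_eq, hV'1]
      omega
    have := hst.2 V' W' hsub
      (by
        rintro ⟨h1, -⟩
        rw [h1] at hV'1
        simp at hV'1)
      (by
        rintro ⟨h1, -⟩
        rw [h1, finrank_top] at hV'1
        omega)
    rw [hV'1, hW, mul_one] at this
    have h4 : finrank K V * finrank K W' ≤ finrank K V * n := Nat.mul_le_mul_left _ hW'le
    have h5 : finrank K V * n = n * finrank K V := Nat.mul_comm _ _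
    omega
  · rintro ⟨hss, h1⟩
    refine ⟨hss.1, ?_⟩
    intro V' W' hsub hbot htop
    have hle := hss.2 V' W' hsub hbot htop
    rw [hW, h1, mul_one, one_mul] at hle ⊢
    rw [h1, mul_one] at hW
    rcases Nat.lt_or_ge (n * finrank K V') (finrank K W') with hlt | hge
    · exact hlt
    · exfalso
      have heq : n * finrank K V' = finrank K W' := le_antisymm hle hge
      have hV' : finrank K V' ≤ 1 := h1 ▸ Submodule.finrank_le V'
      rcases Nat.eq_zero_or_pos (finrank K V') with h0 | hpos
      · rw [h0, mul_zero] at heq
        exact hbot ⟨Submodule.finrank_eq_zero.mp h0, Submodule.finrank_eq_zero.mp heq.symm⟩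
      · have h1' : finrank K V' = 1 := by omega
        rw [h1', mul_one] at heq
        exact htop ⟨Submodule.eq_top_of_finrank_eq (by omega),
          Submodule.eq_top_of_finrank_eq (by omega)⟩

end Groth.Agent.S15563
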