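import Groth.Statements.S15564
import Groth.Agent.Lib.Helper79.Kron
-- import your own Groth.Agent.* helpers here

set_option autoImplicit false
universe u v w
open KronMod

namespace Groth.Agent.S15564

open Groth.Agent.Lib.Helper79 Module

theorem aux (K : Type u) [Field K] (V : Type v) (W : Type w)
    [AddCommGroup V] [Module K V] [FiniteDimensional K V]
    [AddCommGroup W] [Module K W] [FiniteDimensional K W]
    (n : ℕ) (f : Fin n → (V →ₗ[K] W))
    (hV : Module.finrank K V = 1) (hW : Module.finrank K W = 1) (hf : f ≠ 0) :
    KronMod.IsStable f := by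
  refine ⟨by omega, ?_⟩
  intro V' W' hsub hbot htop
  rw [hV, hW, one_mul, one_mul]
  have hV' : finrank K V' ≤ 1 := hV ▸ Submodule.finrank_le V'
  have hW' : finrank K W' ≤ 1 := hW ▸ Submodule.finrank_le W'
  by_contra hlt
  rw [not_lt] at hlt
  -- cases: dim W' = 0 or 1
  rcases Nat.eq_zero_or_pos (finrank K W') with h0 | h1
  · have hWbot : W' = ⊥ := Submodule.finrank_eq_zero.mp h0
    rcases Nat.eq_zero_or_pos (finrank K V') with h0' | h1'
    · exact hbot ⟨Submodule.finrank_eq_zero.mp h0', hWbot⟩
    · have hVtop : V' = ⊤ := Submodule.eq_top_of_finrank_eq (by omega)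
      apply hf
      funext j
      ext v
      have := hsub j ⟨v, by rw [hVtop]; trivial, rfl⟩
      rw [hWbot] at this
      simpa using this
  · have hWtop : W' = ⊤ := Submodule.eq_top_of_finrank_eq (by omega)
    have hVtop : V' = ⊤ := Submodule.eq_top_of_finrank_eq (by omega)
    exact htop ⟨hVtop, hWtop⟩

theorem aux2 (K : Type u) [Field K] (V : Type v) (W : Type w)
    [AddCommGroup V] [Module K V] [FiniteDimensional K V]
    [AddCommGroup W] [Module K W] [FiniteDimensional K W]
    (n : ℕ) (f : Fin n → (V →ₗ[K] W))
    (hV : Module.finrank K V = 1) (hW : Module.finrank K W = 1) (hs : KronMod.IsSemistable f) :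
    f ≠ 0 := by
  rintro rfl
  have := hs.2 ⊤ ⊥ (by intro j; simp)
    (by
      rintro ⟨h1, -⟩
      have : finrank K (⊤ : Submodule K V) = 0 := by rw [h1]; simp
      rw [finrank_top] at this
      omega)
    (by
      rintro ⟨-, h2⟩
      have : finrank K (⊥ : Submodule K W) = finrank K W := by rw [h2, finrank_top]
      simp at this
      omega)
  rw [finrank_top, hV, hW] at this
  simp at this

/-- For a Kronecker module f with n arrows over a field K between one-dimensional spaces V and W,
semistability, stability and f ≠ 0 are equivalent: the semistable locus and the stable locus of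
dimension vector (1, 1) are both the complement of the zero module. (The published statement assumes
K algebraically closed of characteristic zero and n ≥ 2; this row allows any field K and any n.) -/
theorem result (K : Type u) [Field K] (V : Type v) (W : Type w)
    [AddCommGroup V] [Module K V] [FiniteDimensional K V]
    [AddCommGroup W] [Module K W] [FiniteDimensional K W]
    (n : ℕ) (f : Fin n → (V →ₗ[K] W))
    (hV : Module.finrank K V = 1) (hW : Module.finrank K W = 1) :
    (KronMod.IsSemistable f ↔ f ≠ 0) ∧ (KronMod.IsStable f ↔ f ≠ 0) := by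
  have hstab : KronMod.IsStable f → KronMod.IsSemistable f := fun h =>
    ⟨h.1, fun V' W' a b c => le_of_lt (h.2 V' W' a b c)⟩
  refine ⟨⟨aux2 K V W n f hV hW, fun h => hstab (aux K V W n f hV hW h)⟩,
    ⟨fun h => aux2 K V W n f hV hW (hstab h), aux K V W n f hV hW⟩⟩

end Groth.Agent.S15564
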