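import Groth.Statements.S15565
import Groth.Agent.Lib.Helper79.Kron
-- import your own Groth.Agent.* helpers here

set_option autoImplicit false
universe u v w
open KronMod

namespace Groth.Agent.S15565

open Groth.Agent.Lib.Helper79 Module

theorem not_stable_of_line (K : Type u) [Field K] (V : Type v) (W : Type w)
    [AddCommGroup V] [Module K V] [FiniteDimensional K V]
    [AddCommGroup W] [Module K W] [FiniteDimensional K W]
    (n : ℕ) (f : Fin n → (V →ₗ[K] W)) (k : ℕ) (hk : 2 ≤ k)
    (hV : Module.finrank K V = k) (hW : Module.finrank K W = k)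
    (v : V) (hv : v ≠ 0) (w : W) (h : ∀ j, f j v ∈ K ∙ w) :
    ¬ KronMod.IsStable f := by
  intro hst
  have hV'1 : finrank K (K ∙ v) = 1 := finrank_span_singleton hv
  have hW'1 : finrank K (K ∙ w) ≤ 1 := by
    have := finrank_span_le_card (R := K) ({w} : Set W)
    simpa using this
  have hsub : IsSubrep f (K ∙ v) (K ∙ w) := by
    intro j
    rintro _ ⟨x, hx, rfl⟩
    obtain ⟨c, rfl⟩ := Submodule.mem_span_singleton.mp hx
    rw [map_smul]
    exact Submodule.smul_mem _ _ (h j)
  have := hst.2 (K ∙ v) (K ∙ w) hsub
    (by
      rintro ⟨h1, -⟩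
      rw [h1] at hV'1
      simp at hV'1)
    (by
      rintro ⟨h1, -⟩
      rw [h1, finrank_top] at hV'1
      omega)
  rw [hV'1, hV, hW, mul_one] at this
  have h2 : k * finrank K (K ∙ w) ≤ k * 1 := Nat.mul_le_mul_left _ hW'1
  omega

/-- Over an algebraically closed field K, a Kronecker module with two arrows between spaces V and W of
the same dimension k ≥ 2 is never stable: the stable locus of dimension vector (k, k) for the
Kronecker quiver with two arrows is empty. (The published statement also assumes characteristic
zero; this row does not.) -/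
theorem result (K : Type u) [Field K] [IsAlgClosed K] (V : Type v) (W : Type w)
    [AddCommGroup V] [Module K V] [FiniteDimensional K V]
    [AddCommGroup W] [Module K W] [FiniteDimensional K W]
    (f : Fin 2 → (V →ₗ[K] W)) (k : ℕ) (hk : 2 ≤ k)
    (hV : Module.finrank K V = k) (hW : Module.finrank K W = k) :
    ¬ KronMod.IsStable f := by
  by_cases hinj : Function.Injective (f 0)
  · -- f 0 bijective
    have hsurj : Function.Surjective (f 0) :=
      (LinearMap.injective_iff_surjective_of_finrank_eq_finrank (hV.trans hW.symm)).mp hinj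
    let e : V ≃ₗ[K] W := LinearEquiv.ofBijective (f 0) ⟨hinj, hsurj⟩
    let T : Module.End K V := (e.symm : W →ₗ[K] V).comp (f 1)
    have hVpos : 0 < finrank K V := by omega
    have : Nontrivial V := Module.nontrivial_of_finrank_pos hVpos
    obtain ⟨μ, hμ⟩ := Module.End.exists_eigenvalue T
    obtain ⟨v, hv⟩ := hμ.exists_hasEigenvector
    have h1 : T v = μ • v := hv.apply_eq_smul
    have h2 : f 1 v = μ • f 0 v := by
      have := congrArg e h1
      simp only [T, LinearMap.coe_comp, LinearEquiv.coe_coe, Function.comp_apply,
        LinearEquiv.apply_symm_apply, map_smul] at this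
      rw [this]
      rfl
    refine not_stable_of_line K V W 2 f k hk hV hW v hv.2 (f 0 v) ?_
    intro j
    fin_cases j
    · exact Submodule.mem_span_singleton_self _
    · show f 1 v ∈ _
      rw [h2]
      exact Submodule.smul_mem _ _ (Submodule.mem_span_singleton_self _)
  · -- f 0 has a kernel vector
    have hker : LinearMap.ker (f 0) ≠ ⊥ := by
      rwa [Ne, LinearMap.ker_eq_bot]
    obtain ⟨v, hvmem, hv⟩ := Submodule.exists_mem_ne_zero_of_ne_bot hker
    refine not_stable_of_line K V W 2 f k hk hV hW v hv (f 1 v) ?_
    intro j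
    fin_cases j
    · show f 0 v ∈ _
      rw [LinearMap.mem_ker.mp hvmem]
      exact Submodule.zero_mem _
    · exact Submodule.mem_span_singleton_self _

end Groth.Agent.S15565
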