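import Groth.Statements.S15566
import Groth.Agent.Lib.Helper79.Kron
-- import your own Groth.Agent.* helpers here

set_option autoImplicit false
universe u v w
open KronMod

namespace Groth.Agent.S15566

open Groth.Agent.Lib.Helper79 Module

section
variable {K : Type u} [Field K] {V : Type v} {W : Type w}
    [AddCommGroup V] [Module K V] [FiniteDimensional K V]
    [AddCommGroup W] [Module K W] [FiniteDimensional K W]

/-- a submodule of dimension `≤ 1` containing a nonzero vector is its span -/
theorem eq_span_of_finrank_le_one {M : Type*} [AddCommGroup M] [Module K M] [FiniteDimensional K M]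
    (S : Submodule K M) (hS : finrank K S ≤ 1) (x : M) (hx : x ∈ S) (hx0 : x ≠ 0) :
    S = K ∙ x := by
  symm
  apply Submodule.eq_of_le_of_finrank_le
  · rwa [Submodule.span_singleton_le_iff_mem]
  · rw [finrank_span_singleton hx0]; exact hS

theorem exists_ker_of_not_bijective (hV : finrank K V = 2) (hW : finrank K W = 2)
    (h : V →ₗ[K] W) (hh : ¬ Function.Bijective h) : ∃ v, v ≠ 0 ∧ h v = 0 := by
  have hinj : ¬ Function.Injective h := by
    intro hi
    exact hh ⟨hi, (LinearMap.injective_iff_surjective_of_finrank_eq_finrank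
      (hV.trans hW.symm)).mp hi⟩
  have hker : LinearMap.ker h ≠ ⊥ := by rwa [Ne, LinearMap.ker_eq_bot]
  obtain ⟨v, hvmem, hv⟩ := Submodule.exists_mem_ne_zero_of_ne_bot hker
  exact ⟨v, hv, LinearMap.mem_ker.mp hvmem⟩

theorem finrank_range_le_one (hV : finrank K V = 2) (hW : finrank K W = 2)
    (h : V →ₗ[K] W) (hh : ¬ Function.Bijective h) : finrank K (LinearMap.range h) ≤ 1 := by
  obtain ⟨v, hv, hv0⟩ := exists_ker_of_not_bijective hV hW h hh
  have h1 := LinearMap.finrank_range_add_finrank_ker h
  have h2 : 0 < finrank K (LinearMap.ker h) := by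
    rw [Nat.pos_iff_ne_zero, Ne, Submodule.finrank_eq_zero]
    intro hbot
    have : v ∈ LinearMap.ker h := LinearMap.mem_ker.mpr hv0
    rw [hbot] at this
    exact hv ((Submodule.mem_bot K).mp this)
  omega

theorem exists_line (hV : finrank K V = 2) (hW : finrank K W = 2)
    (S : Submodule K (V →ₗ[K] W)) (hsing : ∀ h ∈ S, ¬ Function.Bijective h)
    (ha : ∀ v : V, v ≠ 0 → ∃ h ∈ S, h v ≠ 0) :
    ∃ ℓ : Submodule K W, finrank K ℓ ≤ 1 ∧ ∀ h ∈ S, LinearMap.range h ≤ ℓ := by
  by_cases hS : ∃ g ∈ S, g ≠ 0
  swap
  · refine ⟨⊥, by simp, ?_⟩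
    intro h hh
    have : h = 0 := by
      by_contra hne
      exact hS ⟨h, hh, hne⟩
    rw [this, LinearMap.range_zero]
  obtain ⟨g, hgS, hg0⟩ := hS
  obtain ⟨v₀, hv₀, hgv₀⟩ := exists_ker_of_not_bijective hV hW g (hsing g hgS)
  have hℓ1 : finrank K (LinearMap.range g) ≤ 1 := finrank_range_le_one hV hW g (hsing g hgS)
  have hℓpos : 0 < finrank K (LinearMap.range g) := by
    rw [Nat.pos_iff_ne_zero, Ne, Submodule.finrank_eq_zero, LinearMap.range_eq_bot]
    exact hg0
  have hkerg : LinearMap.ker g = K ∙ v₀ := by
    apply eq_span_of_finrank_le_one _ _ v₀ (LinearMap.mem_ker.mpr hgv₀) hv₀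
    have h1 := LinearMap.finrank_range_add_finrank_ker g
    omega
  refine ⟨LinearMap.range g, hℓ1, ?_⟩
  -- Claim 1
  have claim1 : ∀ h ∈ S, h v₀ ∈ LinearMap.range g := by
    intro h hhS
    by_contra hnot
    have hhv₀ : h v₀ ≠ 0 := by
      intro h0
      rw [h0] at hnot
      exact hnot (Submodule.zero_mem _)
    have hrange : LinearMap.range h = K ∙ (h v₀) :=
      eq_span_of_finrank_le_one _ (finrank_range_le_one hV hW h (hsing h hhS)) _
        (LinearMap.mem_range_self h v₀) hhv₀
    obtain ⟨u, hu, hgu⟩ := exists_ker_of_not_bijective hV hW (g + h)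
      (hsing _ (S.add_mem hgS hhS))
    rw [LinearMap.add_apply] at hgu
    have hhu : h u = - g u := by
      rw [eq_neg_iff_add_eq_zero, add_comm]; exact hgu
    have hhu_mem : h u ∈ LinearMap.range g := by
      rw [hhu]
      exact Submodule.neg_mem _ (LinearMap.mem_range_self g u)
    have : h u ∈ K ∙ (h v₀) := hrange ▸ LinearMap.mem_range_self h u
    obtain ⟨c, hc⟩ := Submodule.mem_span_singleton.mp this
    by_cases hc0 : c = 0
    · rw [hc0, zero_smul] at hc
      have hgu0 : g u = 0 := by
        rw [← hc] at hhu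
        have := hhu.symm
        rwa [neg_eq_zero] at this
      have : u ∈ K ∙ v₀ := hkerg ▸ LinearMap.mem_ker.mpr hgu0
      obtain ⟨c', hc'⟩ := Submodule.mem_span_singleton.mp this
      have hc'0 : c' ≠ 0 := by
        rintro rfl
        rw [zero_smul] at hc'
        exact hu hc'.symm
      have : c' • h v₀ = 0 := by
        rw [← map_smul, hc', ← hc]
      rcases smul_eq_zero.mp this with h1 | h1
      · exact hc'0 h1
      · exact hhv₀ h1
    · apply hnot
      have : h v₀ = c⁻¹ • h u := by
        rw [← hc, smul_smul, inv_mul_cancel₀ hc0, one_smul]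
      rw [this]
      exact Submodule.smul_mem _ _ hhu_mem
  -- Claim 2
  have claim2 : ∀ h ∈ S, h v₀ ≠ 0 → LinearMap.range h ≤ LinearMap.range g := by
    intro h hhS hhv₀
    have h1 : LinearMap.range g = K ∙ (h v₀) :=
      eq_span_of_finrank_le_one _ hℓ1 _ (claim1 h hhS) hhv₀
    have h2 : LinearMap.range h = K ∙ (h v₀) :=
      eq_span_of_finrank_le_one _ (finrank_range_le_one hV hW h (hsing h hhS)) _
        (LinearMap.mem_range_self h v₀) hhv₀
    rw [h1, h2]
  -- Claim 3
  intro h hhS
  by_cases hhv₀ : h v₀ = 0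
  · obtain ⟨h₂, h₂S, h₂v₀⟩ := ha v₀ hv₀
    have r2 := claim2 h₂ h₂S h₂v₀
    have r3 := claim2 (h + h₂) (S.add_mem hhS h₂S) (by
      rw [LinearMap.add_apply, hhv₀, zero_add]; exact h₂v₀)
    rintro _ ⟨x, rfl⟩
    have e : h x = (h + h₂) x - h₂ x := by
      rw [LinearMap.add_apply]; abel
    rw [e]
    exact Submodule.sub_mem _ (r3 (LinearMap.mem_range_self _ x)) (r2 (LinearMap.mem_range_self _ x))
  · exact claim2 h hhS hhv₀

end

/-- Case of dimension vector (2, 2). Over an algebraically closed field K, if a Kronecker module f with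
n arrows between two-dimensional spaces V and W is semistable, then some linear combination Σ_j z_j
f_j of its arrows is a linear isomorphism V → W (equivalently, the determinant of the generic
combination is not identically zero): the semistable locus of dimension vector (2, 2) lies in the
open set of modules whose generic combination is invertible. (The published statement, over an
algebraically closed field of characteristic zero, covers dimension vectors (1, 1) and (2, 2) for
every n ≥ 2 and (k, k) for two arrows; this row states the (2, 2) case, for any n and without the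
characteristic assumption.) -/
theorem result (K : Type u) [Field K] [IsAlgClosed K] (V : Type v) (W : Type w)
    [AddCommGroup V] [Module K V] [FiniteDimensional K V]
    [AddCommGroup W] [Module K W] [FiniteDimensional K W]
    (n : ℕ) (f : Fin n → (V →ₗ[K] W))
    (hV : Module.finrank K V = 2) (hW : Module.finrank K W = 2)
    (hf : KronMod.IsSemistable f) :
    ∃ z : Fin n → K, Function.Bijective ((∑ j, z j • f j : V →ₗ[K] W) : V → W) := by
  by_contra hcon
  rw [not_exists] at hcon
  let S : Submodule K (V →ₗ[K] W) := Submodule.span K (Set.range f)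
  have hfS : ∀ j, f j ∈ S := fun j => Submodule.subset_span ⟨j, rfl⟩
  have hsing : ∀ h ∈ S, ¬ Function.Bijective h := by
    intro h hh
    obtain ⟨z, rfl⟩ := (Submodule.mem_span_range_iff_exists_fun K).mp hh
    exact hcon z
  have ha : ∀ v : V, v ≠ 0 → ∃ h ∈ S, h v ≠ 0 := by
    intro v hv
    by_contra hno
    rw [not_exists] at hno
    have hsub : IsSubrep f (K ∙ v) ⊥ := by
      intro j
      rintro _ ⟨x, hx, rfl⟩
      obtain ⟨c, rfl⟩ := Submodule.mem_span_singleton.mp hx
      have : f j v = 0 := by
        by_contra hne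
        exact hno (f j) ⟨hfS j, hne⟩
      rw [map_smul, this, smul_zero]
      exact Submodule.zero_mem _
    have hV'1 : finrank K (K ∙ v) = 1 := finrank_span_singleton hv
    have := hf.2 (K ∙ v) ⊥ hsub
      (by
        rintro ⟨h1, -⟩
        rw [h1] at hV'1
        simp at hV'1)
      (by
        rintro ⟨h1, -⟩
        rw [h1, finrank_top] at hV'1
        omega)
    rw [hV'1, hW, hV] at this
    simp at this
  obtain ⟨ℓ, hℓ, hall⟩ := exists_line hV hW S hsing ha
  have hsub : IsSubrep f ⊤ ℓ := by
    intro j
    rintro _ ⟨x, -, rfl⟩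
    exact hall (f j) (hfS j) (LinearMap.mem_range_self _ x)
  have := hf.2 ⊤ ℓ hsub
    (by
      rintro ⟨h1, -⟩
      have : finrank K (⊤ : Submodule K V) = 0 := by rw [h1]; simp
      rw [finrank_top] at this
      omega)
    (by
      rintro ⟨-, h2⟩
      rw [h2, finrank_top] at hℓ
      omega)
  rw [finrank_top, hV, hW] at this
  omega

end Groth.Agent.S15566
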