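import Groth.Statements.S15567
import Groth.Agent.Lib.Helper79.Kron
-- import your own Groth.Agent.* helpers here

set_option autoImplicit false
universe u v w
open KronMod

namespace Groth.Agent.S15567

open Groth.Agent.Lib.Helper79 Module

/-- common generalization of (semi)stability -/
def IsRStable (R : ℕ → ℕ → Prop) {K : Type u} [Field K] {V : Type v} {W : Type w}
    [AddCommGroup V] [Module K V] [AddCommGroup W] [Module K W] {n : ℕ}
    (f : Fin n → (V →ₗ[K] W)) : Prop :=
  0 < Module.finrank K V + Module.finrank K W ∧
  ∀ (V' : Submodule K V) (W' : Submodule K W), IsSubrep f V' W' →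
    ¬ (V' = ⊥ ∧ W' = ⊥) → ¬ (V' = ⊤ ∧ W' = ⊤) →
    R (Module.finrank K W * Module.finrank K V') (Module.finrank K V * Module.finrank K W')

/-- the arithmetic property of `R` we need -/
def GoodRel (R : ℕ → ℕ → Prop) : Prop :=
  ∀ a b c d : ℕ, R ((a + d) * c) ((b + c) * d) ↔ R ((b + c) * a) ((a + d) * b)

theorem goodRel_le : GoodRel (· ≤ ·) := by
  intro a b c d
  constructor <;> intro h <;> nlinarith

theorem goodRel_lt : GoodRel (· < ·) := by
  intro a b c d
  constructor <;> intro h <;> nlinarith

variable {K : Type u} [Field K] {V : Type v} {W : Type w}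
    [AddCommGroup V] [Module K V] [FiniteDimensional K V]
    [AddCommGroup W] [Module K W] [FiniteDimensional K W]
    {n : ℕ} (f : Fin n → (V →ₗ[K] W))

theorem dual_of {R : ℕ → ℕ → Prop} (hR : GoodRel R) (h : IsRStable R f) :
    IsRStable R (fun j => (f j).dualMap) := by
  refine ⟨by rw [Subspace.dual_finrank_eq, Subspace.dual_finrank_eq]; have := h.1; omega, ?_⟩
  intro A B hsub hbot htop
  rw [Subspace.dual_finrank_eq, Subspace.dual_finrank_eq]
  have hA := Subspace.finrank_add_finrank_dualCoannihilator_eq A
  have hB := Subspace.finrank_add_finrank_dualCoannihilator_eq B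
  have hsub' : IsSubrep f B.dualCoannihilator A.dualCoannihilator := by
    intro j
    rintro _ ⟨x, hx, rfl⟩
    rw [SetLike.mem_coe, Submodule.mem_dualCoannihilator] at hx
    rw [Submodule.mem_dualCoannihilator]
    intro ψ hψ
    have : (f j).dualMap ψ ∈ B := hsub j ⟨ψ, hψ, rfl⟩
    have := hx _ this
    simpa using this
  have key := h.2 B.dualCoannihilator A.dualCoannihilator hsub'
    (by
      rintro ⟨h1, h2⟩
      apply htop
      rw [h1] at hB
      rw [h2] at hA
      simp only [finrank_bot, add_zero] at hA hB
      exact ⟨Submodule.eq_top_of_finrank_eq (by rw [hA, Subspace.dual_finrank_eq]),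
        Submodule.eq_top_of_finrank_eq (by rw [hB, Subspace.dual_finrank_eq])⟩)
    (by
      rintro ⟨h1, h2⟩
      apply hbot
      rw [h1, finrank_top] at hB
      rw [h2, finrank_top] at hA
      exact ⟨Submodule.finrank_eq_zero.mp (by omega), Submodule.finrank_eq_zero.mp (by omega)⟩)
  -- arithmetic
  rw [← hA, ← hB] at key ⊢
  exact (hR _ _ _ _).mp key

theorem of_dual {R : ℕ → ℕ → Prop} (hR : GoodRel R) (h : IsRStable R (fun j => (f j).dualMap)) :
    IsRStable R f := by
  refine ⟨by have := h.1; rw [Subspace.dual_finrank_eq, Subspace.dual_finrank_eq] at this; omega, ?_⟩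
  intro V' W' hsub hbot htop
  have hA := Subspace.finrank_add_finrank_dualAnnihilator_eq W'
  have hB := Subspace.finrank_add_finrank_dualAnnihilator_eq V'
  have hsub' : IsSubrep (fun j => (f j).dualMap) W'.dualAnnihilator V'.dualAnnihilator := by
    intro j
    rintro _ ⟨ψ, hψ, rfl⟩
    rw [SetLike.mem_coe, Submodule.mem_dualAnnihilator] at hψ
    rw [Submodule.mem_dualAnnihilator]
    intro x hx
    have := hψ (f j x) (hsub j ⟨x, hx, rfl⟩)
    simpa using this
  have key := h.2 W'.dualAnnihilator V'.dualAnnihilator hsub'
    (by
      rintro ⟨h1, h2⟩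
      apply htop
      rw [h1] at hA
      rw [h2] at hB
      simp only [finrank_bot, add_zero] at hA hB
      exact ⟨Submodule.eq_top_of_finrank_eq hB, Submodule.eq_top_of_finrank_eq hA⟩)
    (by
      rintro ⟨h1, h2⟩
      apply hbot
      rw [h1, finrank_top, Subspace.dual_finrank_eq] at hA
      rw [h2, finrank_top, Subspace.dual_finrank_eq] at hB
      exact ⟨Submodule.finrank_eq_zero.mp (by omega), Submodule.finrank_eq_zero.mp (by omega)⟩)
  rw [Subspace.dual_finrank_eq, Subspace.dual_finrank_eq] at key
  rw [← hA, ← hB] at key ⊢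
  have := (hR (finrank K W'.dualAnnihilator) (finrank K V'.dualAnnihilator) (finrank K V')
    (finrank K W')).mpr
  rw [add_comm (finrank K W'), add_comm (finrank K V')]
  apply this
  rw [add_comm _ (finrank K W'), add_comm _ (finrank K V')]
  exact key

/-- Duality of Kronecker modules. Let f be a Kronecker module with n arrows over a field K, from V to W,
both finite-dimensional. The dual module has arrows the transposes f_j^∨ : W^∨ → V^∨, so its
dimension vector is (d₀, d₋₁). Then f is semistable if and only if its dual is, and f is stable if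
and only if its dual is. This is the module-level content of the isomorphism K(n; d₋₁, d₀) ≅ K(n;
d₀, d₋₁) of moduli spaces, stated here without the moduli spaces. (The published statement assumes K
algebraically closed of characteristic zero and n ≥ 2; this row allows any field K and any number n
of arrows.) -/
theorem result (K : Type u) [Field K] (V : Type v) (W : Type w)
    [AddCommGroup V] [Module K V] [FiniteDimensional K V]
    [AddCommGroup W] [Module K W] [FiniteDimensional K W]
    (n : ℕ) (f : Fin n → (V →ₗ[K] W)) :
    (KronMod.IsSemistable f ↔ KronMod.IsSemistable (fun j => (f j).dualMap)) ∧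
    (KronMod.IsStable f ↔ KronMod.IsStable (fun j => (f j).dualMap)) :=
  ⟨⟨dual_of f goodRel_le, of_dual f goodRel_le⟩, ⟨dual_of f goodRel_lt, of_dual f goodRel_lt⟩⟩

end Groth.Agent.S15567
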