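import Groth.Statements.S15568
import Mathlib
-- import your own Groth.Agent.* helpers here

set_option autoImplicit false
universe u
open QuiverStab

namespace Groth.Agent.S15568

section
variable {I : Type u} [Fintype I]

/-- pairing -/
def pr (θ : I → ℝ) (d : I → ℕ) : ℝ := ∑ i, θ i * (d i : ℝ)

theorem pr_comb (θ θ' : I → ℝ) (a b : ℝ) (d' : I → ℕ) :
    pr (a • θ + b • θ') d' = a * pr θ d' + b * pr θ' d' := by
  simp only [pr, Pi.add_apply, Pi.smul_apply, smul_eq_mul, add_mul, Finset.sum_add_distrib,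
    Finset.mul_sum, mul_assoc]

theorem continuous_pr (d' : I → ℕ) : Continuous (fun θ : I → ℝ => pr θ d') := by
  unfold pr
  fun_prop

theorem pr_nsmul (θ : I → ℝ) (m : ℕ) (d' : I → ℕ) : pr θ (m • d') = m * pr θ d' := by
  simp only [pr, Pi.smul_apply, smul_eq_mul, Nat.cast_mul, Finset.mul_sum]
  refine Finset.sum_congr rfl fun i _ => by ring

theorem sign_comb {x y a b : ℝ} (ha : 0 ≤ a) (hb : 0 ≤ b) (hab : a + b = 1)
    (h : SignType.sign x = SignType.sign y) : SignType.sign (a * x + b * y) = SignType.sign x := by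
  rcases lt_trichotomy x 0 with hx | hx | hx
  · have hy : y < 0 := by
      rw [sign_neg hx] at h
      exact sign_eq_neg_one_iff.mp h.symm
    rw [sign_neg hx, sign_eq_neg_one_iff]
    rcases eq_or_lt_of_le ha with h0 | h0
    · have : b = 1 := by linarith
      subst this; rw [← h0]; linarith
    · nlinarith
  · have hy : y = 0 := by
      rw [hx, sign_zero] at h
      exact sign_eq_zero_iff.mp h.symm
    rw [hx, hy]; simp
  · have hy : 0 < y := by
      rw [sign_pos hx] at h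
      exact sign_eq_one_iff.mp h.symm
    rw [sign_pos hx, sign_eq_one_iff]
    rcases eq_or_lt_of_le ha with h0 | h0
    · have : b = 1 := by linarith
      subst this; rw [← h0]; linarith
    · nlinarith

theorem main
    (d : I → ℕ) (θ₁ θ₂ : I → ℝ)
    (h₁ : pr θ₁ d = 0) (h₂ : pr θ₂ d = 0) :
    (∀ d' : I → ℕ, d' ≤ d →
        SignType.sign (pr θ₁ d') = SignType.sign (pr θ₂ d')) ↔
    ∃ J₁ : Set (I → ℕ), J₁ ⊆ {d' | d' ≤ d ∧ ¬ ∃ m : ℕ, d = m • d'} ∧
      θ₂ ∈ connectedComponentIn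
        {θ : I → ℝ | pr θ d = 0 ∧ (∀ d₁ ∈ J₁, pr θ d₁ = 0) ∧
          ∀ d₂ : I → ℕ, d₂ ≤ d → (¬ ∃ m : ℕ, d = m • d₂) → d₂ ∉ J₁ →
            pr θ d₂ ≠ 0} θ₁ := by
  constructor
  · intro h
    refine ⟨{d' | (d' ≤ d ∧ ¬ ∃ m : ℕ, d = m • d') ∧ pr θ₁ d' = 0}, fun d' hd' => hd'.1, ?_⟩
    set F := {θ : I → ℝ | pr θ d = 0 ∧
      (∀ d₁ ∈ {d' | (d' ≤ d ∧ ¬ ∃ m : ℕ, d = m • d') ∧ pr θ₁ d' = 0}, pr θ d₁ = 0) ∧
          ∀ d₂ : I → ℕ, d₂ ≤ d → (¬ ∃ m : ℕ, d = m • d₂) →
            d₂ ∉ {d' | (d' ≤ d ∧ ¬ ∃ m : ℕ, d = m • d') ∧ pr θ₁ d' = 0} → pr θ d₂ ≠ 0} with hF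
    have hseg : segment ℝ θ₁ θ₂ ⊆ F := by
      rintro θ ⟨a, b, ha, hb, hab, rfl⟩
      refine ⟨?_, ?_, ?_⟩
      · rw [pr_comb, h₁, h₂]; simp
      · rintro d₁ ⟨⟨hle, hw⟩, h0⟩
        have := sign_comb ha hb hab (h d₁ hle)
        rw [pr_comb]
        rw [h0, sign_zero, sign_eq_zero_iff] at this
        rw [h0]; exact this
      · intro d₂ hle hw hnot
        have hne : pr θ₁ d₂ ≠ 0 := fun h0 => hnot ⟨⟨hle, hw⟩, h0⟩
        have := sign_comb ha hb hab (h d₂ hle)
        rw [pr_comb]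
        intro h0
        rw [h0, sign_zero] at this
        exact hne (sign_eq_zero_iff.mp this.symm)
    have hpre : IsPreconnected (segment ℝ θ₁ θ₂) := (convex_segment θ₁ θ₂).isPreconnected
    exact hpre.subset_connectedComponentIn (left_mem_segment ℝ θ₁ θ₂) hseg
      (right_mem_segment ℝ θ₁ θ₂)
  · rintro ⟨J₁, hJ₁, hmem⟩ d' hle
    set F := {θ : I → ℝ | pr θ d = 0 ∧ (∀ d₁ ∈ J₁, pr θ d₁ = 0) ∧
          ∀ d₂ : I → ℕ, d₂ ≤ d → (¬ ∃ m : ℕ, d = m • d₂) → d₂ ∉ J₁ → pr θ d₂ ≠ 0} with hF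
    have hθ₁F : θ₁ ∈ F := by
      by_contra hnot
      rw [connectedComponentIn_eq_empty hnot] at hmem
      exact hmem
    have hθ₂F : θ₂ ∈ F := connectedComponentIn_subset F θ₁ hmem
    by_cases hw : ∃ m : ℕ, d = m • d'
    · obtain ⟨m, hm⟩ := hw
      rcases Nat.eq_zero_or_pos m with rfl | hmpos
      · have hd0 : d = 0 := by rw [hm, zero_smul]
        have hd'0 : d' = 0 := by
          funext i
          have := hle i
          rw [hd0] at this
          exact Nat.le_zero.mp this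
        rw [hd'0]
        simp [pr]
      · have e1 : pr θ₁ d' = 0 := by
          have := h₁
          rw [hm, pr_nsmul] at this
          rcases mul_eq_zero.mp this with h0 | h0
          · exact absurd (Nat.cast_eq_zero.mp h0) hmpos.ne'
          · exact h0
        have e2 : pr θ₂ d' = 0 := by
          have := h₂
          rw [hm, pr_nsmul] at this
          rcases mul_eq_zero.mp this with h0 | h0
          · exact absurd (Nat.cast_eq_zero.mp h0) hmpos.ne'
          · exact h0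
        rw [e1, e2]
    · by_cases hJ : d' ∈ J₁
      · rw [hθ₁F.2.1 d' hJ, hθ₂F.2.1 d' hJ]
      · -- continuity argument
        set C := connectedComponentIn F θ₁ with hC
        have hCpre : IsPreconnected C := isPreconnected_connectedComponentIn
        have hCF : C ⊆ F := connectedComponentIn_subset F θ₁
        have hθ₁C : θ₁ ∈ C := mem_connectedComponentIn hθ₁F
        have hne : ∀ θ ∈ C, pr θ d' ≠ 0 := fun θ hθ => (hCF hθ).2.2 d' hle hw hJ
        have hcont : ContinuousOn (fun θ : I → ℝ => pr θ d') C := (continuous_pr d').continuousOn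
        have hivt := hCpre.intermediate_value hθ₁C hmem hcont
        have hivt' := hCpre.intermediate_value hmem hθ₁C hcont
        have hn1 := hne θ₁ hθ₁C
        have hn2 := hne θ₂ hmem
        rcases lt_or_gt_of_ne hn1 with hx | hx <;> rcases lt_or_gt_of_ne hn2 with hy | hy
        · rw [sign_neg hx, sign_neg hy]
        · exfalso
          obtain ⟨θ, hθ, h0⟩ := hivt ⟨hx.le, hy.le⟩
          exact hne θ hθ h0
        · exfalso
          obtain ⟨θ, hθ, h0⟩ := hivt' ⟨hy.le, hx.le⟩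
          exact hne θ hθ h0
        · rw [sign_pos hx, sign_pos hy]
end


/-- Walls and chambers for stability weights of a quiver. Let I be the finite vertex set, d ∈ ℕ^I a
dimension vector, and call two weights θ₁, θ₂ ∈ ℝ^I orthogonal to d numerically equivalent when, for
every d′ ≤ d in ℕ^I, the numbers θ₁·d′ and θ₂·d′ are both positive, both negative or both zero. The
walls are the hyperplanes W(d′) = {θ ⊥ d : θ·d′ = 0} of d^⊥ for d′ ≤ d such that d is not a multiple
of d′. Then θ₁ and θ₂ are numerically equivalent if and only if there is a set J₁ of such d′ for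
which θ₁ and θ₂ lie in the same connected component of the locally closed subset of d^⊥ consisting
of the weights lying on W(d₁) for every d₁ ∈ J₁ and off W(d₂) for every other wall W(d₂). (Only the
quiver's vertex set enters; multiples are taken with natural-number factors.) -/
theorem result
    (I : Type u) [Fintype I] (d : I → ℕ) (θ₁ θ₂ : I → ℝ)
    (h₁ : ∑ i, θ₁ i * (d i : ℝ) = 0) (h₂ : ∑ i, θ₂ i * (d i : ℝ) = 0) :
    (∀ d' : I → ℕ, d' ≤ d →
        SignType.sign (∑ i, θ₁ i * (d' i : ℝ)) = SignType.sign (∑ i, θ₂ i * (d' i : ℝ))) ↔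
    ∃ J₁ : Set (I → ℕ), J₁ ⊆ {d' | d' ≤ d ∧ ¬ ∃ m : ℕ, d = m • d'} ∧
      θ₂ ∈ connectedComponentIn
        {θ : I → ℝ | ∑ i, θ i * (d i : ℝ) = 0 ∧ (∀ d₁ ∈ J₁, ∑ i, θ i * (d₁ i : ℝ) = 0) ∧
          ∀ d₂ : I → ℕ, d₂ ≤ d → (¬ ∃ m : ℕ, d = m • d₂) → d₂ ∉ J₁ →
            ∑ i, θ i * (d₂ i : ℝ) ≠ 0} θ₁ :=
  main d θ₁ θ₂ h₁ h₂

end Groth.Agent.S15568
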