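import Groth.Statements.S15572
import Groth.Agent.Lib.Helper79.Kron
-- import your own Groth.Agent.* helpers here

set_option autoImplicit false
universe u v w
open KronMod

namespace Groth.Agent.S15572

open Groth.Agent.Lib.Helper79 Module in
/-- Let f be a Kronecker module with n arrows over a field K, from V of dimension n·d₀ to W of dimension
d₀ > 0. Then f is semistable if and only if the map V → Wⁿ sending v to (f_j(v))_j is bijective,
i.e. the arrows have zero common kernel. This is the characterisation dual to the one for dimension
vector (d₋₁, n·d₋₁), where the sum map Vⁿ → W is bijective. (The published statement assumes K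
algebraically closed of characteristic zero and n ≥ 2; this row allows any field K and any number n
of arrows.) -/
theorem result (K : Type u) [Field K] (V : Type v) (W : Type w)
    [AddCommGroup V] [Module K V] [FiniteDimensional K V]
    [AddCommGroup W] [Module K W] [FiniteDimensional K W]
    (n : ℕ) (f : Fin n → (V →ₗ[K] W))
    (hW : 0 < Module.finrank K W) (hV : Module.finrank K V = n * Module.finrank K W) :
    KronMod.IsSemistable f ↔ Function.Bijective (fun v : V => fun j : Fin n => f j v) := by
  have hfun : (fun v : V => fun j : Fin n => f j v) = ⇑(kPi f) := by
    funext v j; rw [kPi_apply]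
  rw [hfun]
  have hdim : finrank K V = finrank K (Fin n → W) := by rw [finrank_fun_eq, hV]
  constructor
  · rintro ⟨-, hs⟩
    rw [Function.Bijective, ← LinearMap.injective_iff_surjective_of_finrank_eq_finrank hdim, and_self]
    rw [← LinearMap.ker_eq_bot]
    by_contra hne
    have h1 := hs (LinearMap.ker (kPi f)) ⊥ (isSubrep_ker_bot f)
      (by
        rintro ⟨h1, -⟩
        exact hne h1)
      (by
        rintro ⟨-, h2⟩
        have : finrank K (⊥ : Submodule K W) = finrank K W := by rw [h2, finrank_top]
        simp at this
        omega)
    simp at h1
    rcases h1 with h1 | h1
    · omega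
    · exact hne h1
  · rintro ⟨hinj, -⟩
    refine ⟨by omega, ?_⟩
    intro V' W' hsub _ _
    have := finrank_le_mul_of_kPi_injective hinj hsub
    rw [hV]
    calc finrank K W * finrank K V' ≤ finrank K W * (n * finrank K W') := Nat.mul_le_mul_left _ this
      _ = n * finrank K W * finrank K W' := by ring

end Groth.Agent.S15572
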