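import Groth.Statements.S15570
import Groth.Agent.Lib.Helper79.Kron
-- import your own Groth.Agent.* helpers here

set_option autoImplicit false
universe u v w
open KronMod

namespace Groth.Agent.S15570

open Groth.Agent.Lib.Helper79 Module in
/-- Let f be a Kronecker module with n arrows over a field K, from V of dimension n·d₀ to W of dimension
d₀ > 0. Then f is stable if and only if f is semistable and d₀ = 1: for d₀ = 1 every semistable
module is stable (the stable locus of K(n; n, 1) is the one point), while for d₀ > 1 no module is
stable. This is the case dual to dimension vector (d₋₁, n·d₋₁). (The published statement assumes K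
algebraically closed of characteristic zero and n ≥ 2; this row allows any field K and any number n
of arrows.) -/
theorem result (K : Type u) [Field K] (V : Type v) (W : Type w)
    [AddCommGroup V] [Module K V] [FiniteDimensional K V]
    [AddCommGroup W] [Module K W] [FiniteDimensional K W]
    (n : ℕ) (f : Fin n → (V →ₗ[K] W))
    (hW : 0 < Module.finrank K W) (hV : Module.finrank K V = n * Module.finrank K W) :
    KronMod.IsStable f ↔ (KronMod.IsSemistable f ∧ Module.finrank K W = 1) := by
  constructor
  · intro hst
    refine ⟨⟨hst.1, fun V' W' a b c => le_of_lt (hst.2 V' W' a b c)⟩, ?_⟩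
    by_contra hne
    have h2 : 2 ≤ finrank K W := by omega
    obtain ⟨w, hw⟩ : ∃ w : W, w ≠ 0 := by
      have : Nontrivial W := Module.nontrivial_of_finrank_pos hW
      exact exists_ne 0
    obtain ⟨W', hW'⟩ := Submodule.exists_isCompl (K ∙ w)
    have hdimW' : 1 + finrank K W' = finrank K W := by
      have := Submodule.finrank_add_eq_of_isCompl hW'
      rwa [finrank_span_singleton hw] at this
    have hquot : finrank K (W ⧸ W') = 1 := by
      have := Submodule.finrank_quotient_add_finrank W'
      omega
    let f' : Fin n → (V →ₗ[K] (W ⧸ W')) := fun j => W'.mkQ.comp (f j)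
    let V' : Submodule K V := LinearMap.ker (kPi f')
    have hV'ge : finrank K V ≤ finrank K V' + n * 1 := by
      have := finrank_ker_kPi_ge f'
      rwa [hquot] at this
    have hsub : IsSubrep f V' W' := by
      intro j
      rintro _ ⟨v, hv, rfl⟩
      have h1 : kPi f' v = 0 := hv
      have h2 := congrFun h1 j
      rw [kPi_apply] at h2
      simpa [f'] using h2
    have := hst.2 V' W' hsub
      (by
        rintro ⟨-, h1⟩
        rw [h1] at hdimW'
        simp at hdimW'
        omega)
      (by
        rintro ⟨-, h1⟩
        rw [h1, finrank_top] at hdimW'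
        omega)
    rw [hV] at this hV'ge
    -- arithmetic
    obtain ⟨a, ha⟩ : ∃ a, finrank K W = a + 2 := ⟨finrank K W - 2, by omega⟩
    have hW'eq : finrank K W' = a + 1 := by omega
    rw [ha, hW'eq] at this
    rw [ha] at hV'ge
    have h5 : n * (a + 1) ≤ finrank K V' := by
      have : n * (a + 2) = n * (a + 1) + n := by ring
      omega
    have h6 : (a + 2) * (n * (a + 1)) ≤ (a + 2) * finrank K V' := Nat.mul_le_mul_left _ h5
    have h7 : (a + 2) * (n * (a + 1)) = n * (a + 2) * (a + 1) := by ring
    omega
  · rintro ⟨hss, h1⟩
    refine ⟨hss.1, ?_⟩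
    intro V' W' hsub hbot htop
    have hle := hss.2 V' W' hsub hbot htop
    rw [hV, h1, mul_one, one_mul] at hle ⊢
    rw [h1, mul_one] at hV
    rcases Nat.lt_or_ge (finrank K V') (n * finrank K W') with hlt | hge
    · exact hlt
    · exfalso
      have heq : finrank K V' = n * finrank K W' := le_antisymm hle hge
      have hW' : finrank K W' ≤ 1 := h1 ▸ Submodule.finrank_le W'
      rcases Nat.eq_zero_or_pos (finrank K W') with h0 | hpos
      · rw [h0, mul_zero] at heq
        exact hbot ⟨Submodule.finrank_eq_zero.mp heq, Submodule.finrank_eq_zero.mp h0⟩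
      · have h1' : finrank K W' = 1 := by omega
        rw [h1', mul_one] at heq
        exact htop ⟨Submodule.eq_top_of_finrank_eq (by omega),
          Submodule.eq_top_of_finrank_eq (by omega)⟩

end Groth.Agent.S15570
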