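import Groth.Statements.S15578
import Groth.Agent.Lib.Helper3.IntegralHensSplit

set_option autoImplicit false
universe u v
open RInv

namespace Groth.Agent.S15578

/-- Let `R` be a commutative ring with an involution `lam` whose fixed ring `S` is strictly henselian
(henselian local with separably closed residue field). Then `R` is isomorphic to a product of
finitely many strictly henselian local rings (existence of a ring isomorphism with such a product). -/
theorem result (S : Type u) (R : Type v) [CommRing S] [CommRing R]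
    [Algebra S R] (lam : R ≃+* R) (hlam : Function.Involutive lam) (hS : RInv.IsFixedRing S R lam)
    [HenselianLocalRing S] [IsSepClosed (IsLocalRing.ResidueField S)] :
    ∃ (ι : Type) (_ : Fintype ι) (T : ι → Type v) (_ : ∀ i, CommRing (T i))
      (_ : ∀ i, HenselianLocalRing (T i)),
      (∀ i, IsSepClosed (IsLocalRing.ResidueField (T i))) ∧ Nonempty (R ≃+* (∀ i, T i)) := by
  classical
  obtain ⟨hinj, hfix⟩ := hS
  -- `R` is integral over `S`
  have hint : Algebra.IsIntegral S R := by
    refine ⟨fun r => ?_⟩
    have h1 : lam (r + lam r) = r + lam r := by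
      rw [map_add, hlam r, add_comm]
    have h2 : lam (r * lam r) = r * lam r := by
      rw [map_mul, hlam r, mul_comm]
    obtain ⟨s, hs⟩ := (hfix _).mp h1
    obtain ⟨t, ht⟩ := (hfix _).mp h2
    refine ⟨Polynomial.X ^ 2 - Polynomial.C s * Polynomial.X + Polynomial.C t, ?_, ?_⟩
    · have : (Polynomial.X ^ 2 - Polynomial.C s * Polynomial.X + Polynomial.C t : Polynomial S) =
          Polynomial.X ^ 2 + (-(Polynomial.C s * Polynomial.X) + Polynomial.C t) := by ring
      rw [this]
      apply Polynomial.monic_X_pow_add
      refine lt_of_le_of_lt (Polynomial.degree_add_le _ _) ?_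
      rw [max_lt_iff]
      refine ⟨?_, lt_of_le_of_lt Polynomial.degree_C_le (by norm_num)⟩
      rw [Polynomial.degree_neg]
      exact lt_of_le_of_lt (Polynomial.degree_C_mul_X_le s) (by norm_num)
    · simp only [Polynomial.eval₂_add, Polynomial.eval₂_sub, Polynomial.eval₂_mul,
        Polynomial.eval₂_pow, Polynomial.eval₂_X, Polynomial.eval₂_C, hs, ht]
      ring
  -- at most two maximal ideals
  have hmax : ∀ m n : Ideal R, m.IsMaximal → n.IsMaximal →
      n = m ∨ n = m.comap (lam : R →+* R) := by
    intro m n hm hn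
    by_contra hcon
    push_neg at hcon
    obtain ⟨h1, h2⟩ := hcon
    have hm' : m.comap (lam : R →+* R) ≠ ⊤ := (Ideal.comap_ne_top _ hm.ne_top)
    have hnm : ¬ n ≤ m := fun h => h1 (hn.eq_of_le hm.ne_top h)
    have hnm' : ¬ n ≤ m.comap (lam : R →+* R) := fun h => h2 (hn.eq_of_le hm' h)
    have hsub : ¬ ((n : Set R) ⊆ (m : Set R) ∪ (m.comap (lam : R →+* R) : Set R)) := by
      rw [Ideal.subset_union]
      push_neg
      exact ⟨hnm, hnm'⟩
    rw [Set.not_subset] at hsub
    obtain ⟨r, hrn, hr⟩ := hsub
    rw [Set.mem_union, not_or] at hr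
    obtain ⟨hr1, hr2⟩ := hr
    have hfixed : lam (r * lam r) = r * lam r := by
      rw [map_mul, hlam r, mul_comm]
    obtain ⟨t, ht⟩ := (hfix _).mp hfixed
    have htn : t ∈ n.comap (algebraMap S R) := by
      rw [Ideal.mem_comap, ht]
      exact Ideal.mul_mem_right _ _ hrn
    have := hn
    have := hm
    have hcm : (n.comap (algebraMap S R)).IsMaximal :=
      Ideal.isMaximal_comap_of_isIntegral_of_isMaximal n
    rw [IsLocalRing.eq_maximalIdeal hcm] at htn
    have htm : algebraMap S R t ∈ m :=
      Groth.Agent.Lib.Helper3.IntegralHensSplit.map_maximalIdeal_le_of_isMaximal m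
        (Ideal.mem_map_of_mem _ htn)
    rw [ht] at htm
    rcases hm.isPrime.mem_or_mem htm with h | h
    · exact hr1 h
    · exact hr2 h
  have hfin : {m : Ideal R | m.IsMaximal}.Finite := by
    by_cases hex : ∃ m : Ideal R, m.IsMaximal
    · obtain ⟨m, hm⟩ := hex
      refine Set.Finite.subset (Set.toFinite {m, m.comap (lam : R →+* R)}) ?_
      intro n hn
      rcases hmax m n hm hn with h | h
      · exact Or.inl h
      · exact Or.inr h
    · push_neg at hex
      have : {m : Ideal R | m.IsMaximal} = ∅ := by
        ext m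
        simp [hex m]
      rw [this]
      exact Set.finite_empty
  obtain ⟨n, I, hI, ⟨e⟩⟩ :=
    Groth.Agent.Lib.Helper3.IntegralHensSplit.exists_ringEquiv_pi_henselian_of_isIntegral S R hfin
  refine ⟨Fin n, inferInstance, fun i => R ⧸ I i, fun _ => inferInstance, hI, fun i => ?_, ⟨e⟩⟩
  have := hI i
  exact Groth.Agent.Lib.Helper3.IntegralHensSplit.isSepClosed_residueField_of_isIntegral S (R ⧸ I i)

end Groth.Agent.S15578
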