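import Groth.Statements.S15582
import Mathlib
-- import your own Groth.Agent.* helpers here

set_option autoImplicit false
universe u
open CategoryTheory TopologicalSpace
open CohTop

namespace Groth.Agent.S15582

/-- Let `π : X → Y` be a continuous map such that every open set containing a fibre `π⁻¹(y)` contains
the preimage of an open neighbourhood of `y`, and such that every fibre is finite with its points
separated by pairwise disjoint open sets of `X`. Then the direct image of sheaves of sets along `π`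
preserves epimorphisms. -/
theorem result
    {X Y : TopCat.{u}} (π : X ⟶ Y)
    (h1 : ∀ (y : Y) (U : Set X), IsOpen U → π ⁻¹' {y} ⊆ U →
      ∃ V : Set Y, IsOpen V ∧ y ∈ V ∧ π ⁻¹' V ⊆ U)
    (h2 : ∀ y : Y, (π ⁻¹' {y}).Finite ∧ ∃ U : X → Set X,
      (∀ x ∈ π ⁻¹' {y}, IsOpen (U x) ∧ x ∈ U x) ∧ (π ⁻¹' {y}).PairwiseDisjoint U) :
    (TopCat.Sheaf.pushforward (Type u) π).PreservesEpimorphisms := by
  constructor
  intro F G f hf
  rw [← TopCat.Sheaf.isLocallySurjective_iff_epi] at hf ⊢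
  rw [TopCat.Presheaf.isLocallySurjective_iff] at hf ⊢
  intro V t y hy
  obtain ⟨-, U, hU, hdisj⟩ := h2 y
  let ι := {x : X // x ∈ π ⁻¹' {y}}
  let PV : Opens X := (Opens.map π).obj V
  have hxPV : ∀ i : ι, i.1 ∈ PV := fun i => by
    show π i.1 ∈ V
    have : π i.1 = y := i.2
    rw [this]
    exact hy
  have hloc : ∀ i : ι, ∃ (W : Opens X) (hW : W ≤ PV),
      (∃ s : F.1.obj (Opposite.op W), f.1.app (Opposite.op W) s = G.1.map (homOfLE hW).op t) ∧ i.1 ∈ W :=
    fun i => hf PV t i.1 (hxPV i)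
  choose W hW hs hiW using hloc
  choose s hs using hs
  let W' : ι → Opens X := fun i => W i ⊓ ⟨U i.1, (hU i.1 i.2).1⟩
  have hW'le : ∀ i, W' i ≤ W i := fun i => inf_le_left
  let s' : ∀ i, F.1.obj (Opposite.op (W' i)) := fun i => F.1.map (homOfLE (hW'le i)).op (s i)
  have hdisj' : ∀ i j, i ≠ j → W' i ⊓ W' j = ⊥ := by
    intro i j hij
    ext x
    simp only [Opens.coe_inf, Opens.coe_bot, Set.mem_inter_iff, Set.mem_empty_iff_false, iff_false]
    rintro ⟨⟨-, hxi⟩, ⟨-, hxj⟩⟩
    have hne : i.1 ≠ j.1 := fun h => hij (Subtype.ext h)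
    have := hdisj i.2 j.2 hne
    exact Set.disjoint_left.mp this hxi hxj
  have hcompat : TopCat.Presheaf.IsCompatible F.1 W' s' := by
    intro i j
    by_cases hij : i = j
    · subst hij
      rfl
    · have : Subsingleton (F.1.obj (Opposite.op (W' i ⊓ W' j))) := by
        have := CategoryTheory.Limits.Types.isTerminalEquivUnique _ (F.isTerminalOfEqEmpty (hdisj' i j hij))
        infer_instance
      exact Subsingleton.elim _ _
  obtain ⟨gl, hgl, -⟩ := F.existsUnique_gluing W' s' hcompat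
  have hfib : π ⁻¹' {y} ⊆ ((iSup W' : Opens X) : Set X) := fun x hx => by
    rw [Opens.coe_iSup]
    exact Set.mem_iUnion.mpr ⟨⟨x, hx⟩, ⟨hiW ⟨x, hx⟩, (hU x hx).2⟩⟩
  obtain ⟨V'', hV''o, hyV'', hV''⟩ := h1 y (iSup W' : Opens X) (iSup W').2 hfib
  let V' : Opens Y := V ⊓ ⟨V'', hV''o⟩
  have hle : (Opens.map π).obj V' ≤ iSup W' := fun x hx => hV'' hx.2
  have hW'PV : ∀ i, W' i ≤ PV := fun i => (hW'le i).trans (hW i)
  have hkey := TopCat.Sheaf.eq_app_of_locally_eq (f := f) (t := t) hgl hW'PV (by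
    intro i
    show f.1.app (Opposite.op (W' i)) (F.1.map (homOfLE (hW'le i)).op (s i)) = _
    rw [NatTrans.naturality_apply, hs i, ← ConcreteCategory.comp_apply, ← G.1.map_comp]
    rfl)
  refine ⟨V', inf_le_left, ⟨F.1.map (homOfLE hle).op gl, ?_⟩, ⟨hy, hyV''⟩⟩
  have hle2 : (Opens.map π).obj V' ≤ PV := fun x hx => hx.1
  show f.1.app (Opposite.op ((Opens.map π).obj V')) (F.1.map (homOfLE hle).op gl) =
    G.1.map (homOfLE hle2).op t
  rw [NatTrans.naturality_apply, hkey, ← ConcreteCategory.comp_apply, ← G.1.map_comp]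
  rfl

end Groth.Agent.S15582
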