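import Groth.Statements.S1559
import Mathlib
import Groth.Agent.Lib.Helper50.GeomScheme

set_option autoImplicit false
universe u
open CategoryTheory CategoryTheory.Limits AlgebraicGeometry
open Variety

namespace Groth.Agent.S1559

/-- A scheme X over a field k is geometrically connected as soon as its base change to a separable
algebraic closure of k is connected. -/
theorem result (k : Type u) [Field k] (X : Scheme.{u}) [X.Over (Spec (CommRingCat.of k))]
    [ConnectedSpace (Curv2.bc k X (SeparableClosure k))] :
    GeometricallyConnected (X ↘ (Spec (CommRingCat.of k))) := by
    refine ⟨geometrically_iff_of_commRing_of_isClosedUnderIsomorphisms.mpr fun K _ _ => ?_⟩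
    let Ω := AlgebraicClosure K
    let d : K →+* Ω := algebraMap K Ω
    let c : k →+* K := algebraMap k K
    letI : Algebra k Ω := (d.comp c).toAlgebra
    let b : SeparableClosure k →ₐ[k] Ω := IsAlgClosed.lift
    exact Groth.Agent.Lib.Helper50.connectedSpace_pullback_of_square
      (X ↘ (Spec (CommRingCat.of k))) (algebraMap k (SeparableClosure k)) b.toRingHom c d
      (by ext x; exact b.commutes x)

end Groth.Agent.S1559
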