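import Groth.Statements.S15590
import Mathlib
-- import your own Groth.Agent.* helpers here

set_option autoImplicit false
universe u v
open CAlg

namespace Groth.Agent.S15590

/-- Let A → B be an injective homomorphism of commutative rings which makes B a finite flat A-module,
and suppose B is a Dedekind domain (Noetherian, integrally closed, of Krull dimension at most one; a
field is allowed). Then A is a Dedekind domain. -/
theorem result (A : Type u) (B : Type v)
    [CommRing A] [CommRing B] [Algebra A B] [IsDedekindDomain B]
    (hinj : Function.Injective (algebraMap A B)) [Module.Finite A B] [Module.Flat A B] :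
    IsDedekindDomain A := by
  have hdom : IsDomain A := hinj.isDomain (algebraMap A B)
  have hfs : FaithfulSMul A B := (faithfulSMul_iff_algebraMap_injective A B).mpr hinj
  have hint : Algebra.IsIntegral A B := Algebra.IsIntegral.of_finite A B
  have hff : Module.FaithfullyFlat A B := inferInstance
  -- Noetherian
  have hN : IsNoetherianRing A := by
    rw [isNoetherianRing_iff, isNoetherian_iff']
    let e : Ideal A ↪o Ideal B := OrderEmbedding.ofMapLEIff (Ideal.map (algebraMap A B))
      (fun I J => ⟨fun h => by
        rw [← Ideal.comap_map_eq_self_of_faithfullyFlat (B := B) I,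
          ← Ideal.comap_map_eq_self_of_faithfullyFlat (B := B) J]
        exact Ideal.comap_mono h, fun h => Ideal.map_mono h⟩)
    exact e.wellFoundedGT
  -- dimension ≤ 1
  have hD : Ring.DimensionLEOne A := by
    refine ⟨fun {p} hp hprime => ?_⟩
    obtain ⟨q, hq, hqp⟩ := Ideal.exists_isPrime_liesOver_of_faithfullyFlat (B := B) p
    have hq0 : q ≠ ⊥ := by
      rintro rfl
      apply hp
      rw [hqp.over]
      rw [Ideal.under_def, Ideal.comap_bot_of_injective _ hinj]
    have hqmax : q.IsMaximal := hq.isMaximal hq0
    rw [hqp.over]
    exact Ideal.isMaximal_comap_of_isIntegral_of_isMaximal q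
  -- integrally closed
  have hIC : IsIntegrallyClosed A := by
    let K := FractionRing A
    let L := FractionRing B
    rw [isIntegrallyClosed_iff K]
    intro x hx
    have hAL : Function.Injective (algebraMap A L) := by
      rw [IsScalarTower.algebraMap_eq A B L]
      exact (IsFractionRing.injective B L).comp hinj
    let φ : K →ₐ[A] L := IsFractionRing.liftAlgHom (g := Algebra.ofId A L) hAL
    have hφx : IsIntegral B (φ x) := (hx.map φ).tower_top
    obtain ⟨b, hb⟩ := (isIntegrallyClosed_iff L).mp inferInstance hφx
    obtain ⟨a, s, hs, rfl⟩ := IsFractionRing.div_surjective (A := A) x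
    have hs0 : s ≠ 0 := nonZeroDivisors.ne_zero hs
    have hφs : φ (algebraMap A K s) = algebraMap B L (algebraMap A B s) := by
      rw [AlgHom.commutes, IsScalarTower.algebraMap_apply A B L]
    have hφa : φ (algebraMap A K a) = algebraMap B L (algebraMap A B a) := by
      rw [AlgHom.commutes, IsScalarTower.algebraMap_apply A B L]
    have hsB : algebraMap A B s ≠ 0 := by
      rw [Ne, ← map_zero (algebraMap A B)]
      exact fun h => hs0 (hinj h)
    have hsL : algebraMap B L (algebraMap A B s) ≠ 0 := by
      rw [Ne, ← map_zero (algebraMap B L)]
      exact fun h => hsB (IsFractionRing.injective B L h)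
    have heq : algebraMap A B s * b = algebraMap A B a := by
      apply IsFractionRing.injective B L
      rw [map_mul, hb, map_div₀, hφs, hφa, mul_div_cancel₀ _ hsL]
    have hmem : a ∈ (Ideal.span {s} : Ideal A) := by
      rw [← Ideal.comap_map_eq_self_of_faithfullyFlat (B := B) (Ideal.span {s}), Ideal.mem_comap,
        Ideal.map_span, Set.image_singleton, Ideal.mem_span_singleton']
      exact ⟨b, by rw [mul_comm]; exact heq⟩
    obtain ⟨a', ha'⟩ := Ideal.mem_span_singleton'.mp hmem
    refine ⟨a', ?_⟩
    have hsK : algebraMap A K s ≠ 0 := by
      rw [Ne, ← map_zero (algebraMap A K)]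
      exact fun h => hs0 (IsFractionRing.injective A K h)
    rw [eq_div_iff hsK, ← map_mul, ha']
  exact { hdom, hN, hD, hIC with }

end Groth.Agent.S15590
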