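import Groth.Statements.S15596
import Mathlib

set_option autoImplicit false
universe u
open CategoryTheory MonoidalCategory CartesianMonoidalCategory MonObj GrpObj AlgebraicGeometry
open AlgGrp

namespace Groth.Agent.S15596

/-- Let k be an algebraically closed field, H a smooth k-group scheme of finite type, and U a dense open
subset of H. Then every k-rational point h of H is of the form u₂ · u₁⁻¹ for k-rational points u₁,
u₂ of H whose underlying points lie in U. -/
theorem result (k : Type u) [Field k] [IsAlgClosed k]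
    (H : Over (Spec (CommRingCat.of k))) [GrpObj H] [Smooth H.hom] [QuasiCompact H.hom]
    (U : H.left.Opens) (hU : Dense (U : Set ↥H.left)) (h : 𝟙_ (Over (Spec (CommRingCat.of k))) ⟶ H) :
    ∃ u₁ u₂ : 𝟙_ (Over (Spec (CommRingCat.of k))) ⟶ H,
      u₁.left.base (IsLocalRing.closedPoint k) ∈ U ∧ u₂.left.base (IsLocalRing.closedPoint k) ∈ U ∧
        h = u₂ * u₁⁻¹ := by
  have hsub : Subsingleton (Spec (CommRingCat.of k)) :=
    inferInstanceAs (Subsingleton (PrimeSpectrum k))
  -- left translation by `h`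
  let L : (𝟙_ (Over (Spec (CommRingCat.of k))) ⟶ H) → (H ⟶ H) := fun g => (toUnit H ≫ g) * (𝟙 H)
  have hLL : ∀ g g', L g ≫ L g' = L (g' * g) := by
    intro g g'
    change L g ≫ ((toUnit H ≫ g') * (𝟙 H)) = (toUnit H ≫ (g' * g)) * (𝟙 H)
    rw [MonObj.comp_mul, Category.comp_id, ← Category.assoc, toUnit_unique (L g ≫ toUnit H) (toUnit H),
      MonObj.comp_mul, _root_.mul_assoc]
  have hL1 : L 1 = 𝟙 H := by
    change (toUnit H ≫ 1) * (𝟙 H) = 𝟙 H
    rw [MonObj.comp_one, _root_.one_mul]
  have hpt : ∀ g u : 𝟙_ (Over (Spec (CommRingCat.of k))) ⟶ H, u ≫ L g = g * u := by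
    intro g u
    change u ≫ ((toUnit H ≫ g) * (𝟙 H)) = g * u
    rw [MonObj.comp_mul, Category.comp_id, ← Category.assoc, toUnit_unique (u ≫ toUnit H) (𝟙 _),
      Category.id_comp]
  have hiso : IsIso (L h) := ⟨L h⁻¹, by rw [hLL, inv_mul_cancel, hL1], by rw [hLL, mul_inv_cancel, hL1]⟩
  have hisol : IsIso (L h).left := (Over.forget _).map_isIso (L h)
  have hopen : IsOpenMap (L h).left.base := (L h).left.isOpenEmbedding.isOpenMap
  have hd2 : Dense ((L h).left.base ⁻¹' (U : Set H.left)) := hU.preimage hopen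
  have hV : Dense ((U : Set H.left) ∩ (L h).left.base ⁻¹' (U : Set H.left)) :=
    hU.inter_of_isOpen_left hd2 U.isOpen
  have hVopen : IsOpen ((U : Set H.left) ∩ (L h).left.base ⁻¹' (U : Set H.left)) :=
    U.isOpen.inter (U.isOpen.preimage (L h).left.continuous)
  have hne : Nonempty H.left := ⟨h.left.base (IsLocalRing.closedPoint k)⟩
  have hVne : ((U : Set H.left) ∩ (L h).left.base ⁻¹' (U : Set H.left)).Nonempty := hV.nonempty
  have hlft : LocallyOfFiniteType H.hom := inferInstance
  have hJ : JacobsonSpace H.left := LocallyOfFiniteType.jacobsonSpace (Y := Spec _) H.hom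
  obtain ⟨x, ⟨hxU, hxL⟩, hxc⟩ := nonempty_inter_closedPoints hVne hVopen.isLocallyClosed
  let u₁ : 𝟙_ (Over (Spec (CommRingCat.of k))) ⟶ H :=
    Over.homMk (pointOfClosedPoint H.hom x hxc) (pointOfClosedPoint_comp H.hom x hxc)
  have hu₁ : u₁.left.base (IsLocalRing.closedPoint k) = x := pointOfClosedPoint_apply H.hom x hxc _
  refine ⟨u₁, h * u₁, ?_, ?_, ?_⟩
  · rw [hu₁]
    exact hxU
  · rw [← hpt]
    change (L h).left.base (u₁.left.base (IsLocalRing.closedPoint k)) ∈ U
    rw [hu₁]
    exact hxL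
  · rw [mul_inv_cancel_right]

end Groth.Agent.S15596
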