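import Groth.Statements.S15598
import Groth.Agent.Lib.Helper41.OrbitFlat
import Groth.Agent.Lib.Helper41.GeomConnGroup
import Groth.Agent.Lib.Helper54.Reduced

set_option autoImplicit false
universe u
open CategoryTheory MonoidalCategory CartesianMonoidalCategory MonObj GrpObj AlgebraicGeometry
open AlgGrp

namespace Groth.Agent.S15598

/-- Let k be an algebraically closed field, G a k-group scheme of finite type, and X a smooth connected
k-scheme with an action of G. Suppose that for some k-point x₀ of X the orbit map g ↦ g · x₀ from G
to X is surjective, and that the stabilizer of x₀, a subgroup scheme H ⟶ G whose points are exactly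
the points g of G with g · x₀ = x₀, is connected. Then G is connected. (Stated over an algebraically
closed field, to which the general case reduces since a k-group scheme of finite type is connected
exactly when it is geometrically connected.) -/
theorem result (k : Type u) [Field k] [IsAlgClosed k]
    (G X : Over (Spec (CommRingCat.of k))) [GrpObj G] [LocallyOfFiniteType G.hom] [QuasiCompact G.hom]
    [Smooth X.hom] [ConnectedSpace ↥X.left] (a : AlgGrp.Action G X) (x₀ : 𝟙_ (Over (Spec (CommRingCat.of k))) ⟶ X)
    (hsurj : Surjective (a.orbitMap x₀).left)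
    (H : Over (Spec (CommRingCat.of k))) [GrpObj H] (i : H ⟶ G) [IsMonHom i] [Mono i]
    (hH : ∀ (T : Over (Spec (CommRingCat.of k))) (g : T ⟶ G), (∃ h : T ⟶ H, h ≫ i = g) ↔ g ≫ a.orbitMap x₀ = toUnit T ≫ x₀)
    [ConnectedSpace ↥H.left] : ConnectedSpace ↥G.left := by
  have hsub : Subsingleton (Spec (CommRingCat.of k)) :=
    inferInstanceAs (Subsingleton (PrimeSpectrum k))
  have hXred : IsReduced X.left := Groth.Agent.Lib.Helper54.isReduced_of_smooth_scheme X.hom
  have hXlft : LocallyOfFiniteType X.hom := inferInstance
  have hflat : Flat (a.orbitMap x₀).left :=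
    Groth.Agent.Lib.Helper41.OrbitFlat.flat_orbitMap_of_surjective a x₀ hsurj
  have hpb := Groth.Agent.Lib.Helper41.OrbitFlat.isPullback_of_stabilizer i a x₀ hH
  -- geometric connectedness of the orbit map
  have hHgc : GeometricallyConnected H.hom :=
    Groth.Agent.Lib.Helper41.GeomConnGroup.geometricallyConnected_hom
  have hfst : GeometricallyConnected (fst G H).left := by
    rw [Over.fst_left]
    infer_instance
  have hpb' : IsPullback ((G ◁ i) ≫ μ[G]).left (fst G H).left (a.orbitMap x₀).left
      (a.orbitMap x₀).left := (hpb.map (Over.forget _)).flip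
  have key := Groth.Agent.S9765.result (a.orbitMap x₀).left (a.orbitMap x₀).left (fst G H).left
    ((G ◁ i) ≫ μ[G]).left hpb'
  have hgc : GeometricallyConnected (a.orbitMap x₀).left := by
    rw [GeometricallyConnected.iff_geometricallyConnected_fiber]
    intro y
    obtain ⟨y', rfl⟩ := (a.orbitMap x₀).left.surjective y
    have h1 : y' ∈ {y' : ↑G.left |
        GeometricallyConnected ((fst G H).left.fiberToSpecResidueField y')} :=
      (GeometricallyConnected.iff_geometricallyConnected_fiber _).mp hfst y'
    rw [key] at h1
    exact h1
  have h1 : LocallyOfFiniteType ((a.orbitMap x₀).left ≫ X.hom) := by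
    rw [Over.w (a.orbitMap x₀)]
    infer_instance
  have h2 : LocallyOfFiniteType (a.orbitMap x₀).left :=
    locallyOfFiniteType_of_comp (a.orbitMap x₀).left X.hom
  have h3 : IsLocallyNoetherian X.left := LocallyOfFiniteType.isLocallyNoetherian X.hom
  have h4 : LocallyOfFinitePresentation (a.orbitMap x₀).left := inferInstance
  have h5 : UniversallyOpen (a.orbitMap x₀).left := inferInstance
  exact GeometricallyConnected.connectedSpace (a.orbitMap x₀).left (a.orbitMap x₀).left.isOpenMap

end Groth.Agent.S15598
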