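import Groth.Statements.S15601
import Groth.Agent.S3266
import Groth.Agent.S3267
import Groth.Agent.Lib.Helper84.LieKolchin.FlagUnip
-- import your own Groth.Agent.* helpers here

set_option autoImplicit false
universe u v
open HopfRep

namespace Groth.Agent.S15601

/-- Let k be an algebraically closed field and G = Spec A a smooth connected affine k-group: A is a
finitely generated commutative Hopf algebra over k which is reduced and has no idempotents other
than 0 and 1. Suppose G is solvable, i.e. the group G(k) of k-algebra maps A → k under convolution
is solvable. Then the derived group of G is unipotent: every element of the commutator subgroup of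
G(k) acts in every finite-dimensional A-comodule by an operator u with u − 1 nilpotent. (Stated over
an algebraically closed field, where the derived group is determined by the commutators of k-points;
the case of a general field reduces to this one.) -/
theorem result (k : Type u) [Field k] [IsAlgClosed k]
    (A : Type v) [CommRing A] [HopfAlgebra k A] [Algebra.FiniteType k A] [IsReduced A]
    (hconn : ∀ e : A, IsIdempotentElem e → e = 0 ∨ e = 1)
    [Group.IsSolvable (WithConv (A →ₐ[k] k))]
    (g : WithConv (A →ₐ[k] k)) (hg : g ∈ commutator (WithConv (A →ₐ[k] k)))
    (V : Type v) [AddCommGroup V] [Module k V] [HopfRep.Comod k A V] [Module.Finite k V] :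
    IsNilpotent (HopfRep.Comod.act k A V g.ofConv - 1) := by
  have hT : HopfRep.IsTrigonalizable k A := Groth.Agent.S3266.result k A hconn
  obtain ⟨F, hmono, hsub, hrank⟩ :=
    Groth.Agent.Lib.Helper16.ComodFlag.exists_flag hT (Module.finrank k V) V inferInstance rfl
  refine Groth.Agent.Lib.Helper84.LieKolchin.isNilpotent_sub_one_of_mem_commutator
    (Groth.Agent.S7986.rep (k := k) (A := A) V) (Module.finrank k V) F hmono ?_ ?_ ?_ ?_ g hg
  · exact Submodule.finrank_eq_zero.1 (hrank 0 (Nat.zero_le _))
  · exact Submodule.eq_top_of_finrank_eq (hrank _ le_rfl)
  · intro g i v hv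
    rw [Groth.Agent.S7986.rep_apply]
    exact Groth.Agent.H40.slice_mem_of_mem_range (F i) _ (hsub i v hv) _
  · intro i hi
    exact Groth.Agent.S3267.flag_step (F i) (F (i + 1)) (hmono (Nat.le_succ i)) i
      (hrank i hi.le) (hrank (i + 1) hi)

end Groth.Agent.S15601
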