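import Groth.Statements.S15602
import Groth.Agent.Lib.Helper19.GaUnique

set_option autoImplicit false
universe u
open CategoryTheory MonoidalCategory CartesianMonoidalCategory MonObj GrpObj AlgebraicGeometry
open AlgGrp

namespace Groth.Agent.S15602

/-- Additive case. Let k be a field and consider the affine line over k, taken here as the underlying
k-scheme of the additive group. Any two structures of k-group scheme on it with the same unit
section have the same multiplication; in particular a group law on the affine line whose identity is
the origin is the usual addition. -/
theorem result (k : Type u) [Field k]
    (h₁ h₂ : GrpObj (Red.Ga (Spec (CommRingCat.of k)))) (e : h₁.one = h₂.one) : h₁.mul = h₂.mul := by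
  obtain ⟨e0, he0⟩ := Groth.Agent.Helper19.GaUnique.exists_iso k
  exact Groth.Agent.Helper19.GaUnique.mul_eq_of_one_eq e0 he0 h₁ h₂ e

end Groth.Agent.S15602
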