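import Groth.Statements.S15603
import Groth.Agent.Lib.Helper19.GmUnique2

set_option autoImplicit false
universe u
open CategoryTheory MonoidalCategory CartesianMonoidalCategory MonObj GrpObj AlgebraicGeometry
open AlgGrp

namespace Groth.Agent.S15603

/-- Multiplicative case. Let k be a field and consider the affine line minus the origin over k, taken
here as the underlying k-scheme of the multiplicative group. Any two structures of k-group scheme on
it with the same unit section have the same multiplication; in particular a group law on the
punctured line whose identity is the point 1 is the usual multiplication. -/
theorem result (k : Type u) [Field k]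
    (h₁ h₂ : GrpObj (Red.Gm (Spec (CommRingCat.of k)))) (e : h₁.one = h₂.one) : h₁.mul = h₂.mul := by
  obtain ⟨e0, he0⟩ := Groth.Agent.Helper19.GmUnique2.exists_iso k
  exact Groth.Agent.Helper19.GmUnique2.mul_eq_of_one_eq e0 he0 h₁ h₂ e

end Groth.Agent.S15603
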