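import Groth.Statements.S15605
import Mathlib
import Groth.Agent.Lib.Helper79.TensorSeparate
-- import your own Groth.Agent.* helpers here

set_option autoImplicit false
universe u
open TensorProduct
open AGF

namespace Groth.Agent.S15605

/-- Affine form. Let k be a field, A and A' finitely generated commutative k-algebras and S, S' sets of
k-algebra homomorphisms A → k, A' → k. The closure of a set of rational points of Spec A is cut out
by the intersection of their kernels. Compatibility of these closures with products: in A ⊗_k A',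
the intersection over (σ, σ') ∈ S × S' of the kernels of σ ⊗ σ' : A ⊗_k A' → k equals the ideal
generated by the images of ⋂_{σ} ker σ and of ⋂_{σ'} ker σ'. -/
theorem result (k A A' : Type u) [Field k] [CommRing A] [Algebra k A]
    [Algebra.FiniteType k A] [CommRing A'] [Algebra k A'] [Algebra.FiniteType k A']
    (S : Set (A →ₐ[k] k)) (S' : Set (A' →ₐ[k] k)) :
    (⨅ σ ∈ S, ⨅ σ' ∈ S', RingHom.ker ((Algebra.TensorProduct.lmul' (S := k) k).comp
        (Algebra.TensorProduct.map σ σ'))) =
      Ideal.map (Algebra.TensorProduct.includeLeft : A →ₐ[k] A ⊗[k] A') (⨅ σ ∈ S, RingHom.ker σ) ⊔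
        Ideal.map (Algebra.TensorProduct.includeRight : A' →ₐ[k] A ⊗[k] A') (⨅ σ' ∈ S', RingHom.ker σ') := by
  classical
  set I : Ideal A := ⨅ σ ∈ S, RingHom.ker σ with hI
  set I' : Ideal A' := ⨅ σ' ∈ S', RingHom.ker σ' with hI'
  -- quotient maps
  let π : A →ₐ[k] A ⧸ I := Ideal.Quotient.mkₐ k I
  let π' : A' →ₐ[k] A' ⧸ I' := Ideal.Quotient.mkₐ k I'
  have hπ : Function.Surjective π := Ideal.Quotient.mkₐ_surjective k I
  have hπ' : Function.Surjective π' := Ideal.Quotient.mkₐ_surjective k I'
  have hker : RingHom.ker (Algebra.TensorProduct.map π π') =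
      Ideal.map (Algebra.TensorProduct.includeLeft : A →ₐ[k] A ⊗[k] A') I ⊔
        Ideal.map (Algebra.TensorProduct.includeRight : A' →ₐ[k] A ⊗[k] A') I' := by
    rw [Algebra.TensorProduct.map_ker π π' hπ hπ']
    have h1 : RingHom.ker π = I := Ideal.Quotient.mkₐ_ker k I
    have h2 : RingHom.ker π' = I' := Ideal.Quotient.mkₐ_ker k I'
    rw [h1, h2]
  rw [← hker]
  -- induced functionals on the quotients
  have hσI : ∀ σ ∈ S, ∀ a ∈ I, σ a = 0 := by
    intro σ hσ a ha
    have : a ∈ RingHom.ker σ := by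
      have := ha
      rw [hI, Ideal.mem_iInf] at this
      have h2 := this σ
      rw [Ideal.mem_iInf] at h2
      exact h2 hσ
    exact this
  have hσI' : ∀ σ' ∈ S', ∀ a ∈ I', σ' a = 0 := by
    intro σ hσ a ha
    have : a ∈ RingHom.ker σ := by
      have := ha
      rw [hI', Ideal.mem_iInf] at this
      have h2 := this σ
      rw [Ideal.mem_iInf] at h2
      exact h2 hσ
    exact this
  -- key formula
  have key : ∀ (σ : A →ₐ[k] k) (hσ : σ ∈ S) (σ' : A' →ₐ[k] k) (hσ' : σ' ∈ S') (x : A ⊗[k] A'),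
      ((Algebra.TensorProduct.lmul' (S := k) k).comp (Algebra.TensorProduct.map σ σ')) x =
        Groth.Agent.Lib.Helper79.TensorSeparate.tmulFun
          (Ideal.Quotient.liftₐ I σ (hσI σ hσ)).toLinearMap
          (Ideal.Quotient.liftₐ I' σ' (hσI' σ' hσ')).toLinearMap
          (Algebra.TensorProduct.map π π' x) := by
    intro σ hσ σ' hσ' x
    induction x using TensorProduct.induction_on with
    | zero => simp
    | tmul a a' =>
      simp only [AlgHom.comp_apply, Algebra.TensorProduct.map_tmul,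
        Algebra.TensorProduct.lmul'_apply_tmul,
        Groth.Agent.Lib.Helper79.TensorSeparate.tmulFun_tmul, AlgHom.toLinearMap_apply]
      have e1 : (Ideal.Quotient.liftₐ I σ (hσI σ hσ)) (π a) = σ a := by
        simp [π]
      have e2 : (Ideal.Quotient.liftₐ I' σ' (hσI' σ' hσ')) (π' a') = σ' a' := by
        simp [π']
      rw [e1, e2]
    | add a b ha hb => simp only [map_add, ha, hb]
  ext x
  simp only [Ideal.mem_iInf, RingHom.mem_ker]
  constructor
  · intro hx
    -- separation
    have hx' : ∀ σ (hσ : σ ∈ S) σ' (hσ' : σ' ∈ S'),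
        Groth.Agent.Lib.Helper79.TensorSeparate.tmulFun
          (Ideal.Quotient.liftₐ I σ (hσI σ hσ)).toLinearMap
          (Ideal.Quotient.liftₐ I' σ' (hσI' σ' hσ')).toLinearMap
          (Algebra.TensorProduct.map π π' x) = 0 := by
      intro σ hσ σ' hσ'
      rw [← key σ hσ σ' hσ' x]
      exact hx σ hσ σ' hσ'
    refine Groth.Agent.Lib.Helper79.TensorSeparate.eq_zero_of_forall_tmulFun_eq_zero
      {φ | ∃ σ, ∃ hσ : σ ∈ S, φ = (Ideal.Quotient.liftₐ I σ (hσI σ hσ)).toLinearMap}
      {ψ | ∃ σ', ∃ hσ' : σ' ∈ S', ψ = (Ideal.Quotient.liftₐ I' σ' (hσI' σ' hσ')).toLinearMap}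
      ?_ ?_ _ ?_
    · intro v hv
      obtain ⟨a, rfl⟩ := hπ v
      have : a ∈ I := by
        rw [hI, Ideal.mem_iInf]
        intro σ
        rw [Ideal.mem_iInf]
        intro hσ
        have := hv _ ⟨σ, hσ, rfl⟩
        simpa [π] using this
      simpa [π] using (Ideal.Quotient.eq_zero_iff_mem.mpr this)
    · intro v hv
      obtain ⟨a, rfl⟩ := hπ' v
      have : a ∈ I' := by
        rw [hI', Ideal.mem_iInf]
        intro σ
        rw [Ideal.mem_iInf]
        intro hσ
        have := hv _ ⟨σ, hσ, rfl⟩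
        simpa [π'] using this
      simpa [π'] using (Ideal.Quotient.eq_zero_iff_mem.mpr this)
    · rintro φ ⟨σ, hσ, rfl⟩ ψ ⟨σ', hσ', rfl⟩
      exact hx' σ hσ σ' hσ'
  · intro hx σ hσ σ' hσ'
    rw [key σ hσ σ' hσ' x, hx, map_zero]

end Groth.Agent.S15605
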