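import Groth.Statements.S15608
import Groth.Agent.Lib.Helper41.RatPointsDense
import Groth.Agent.Lib.Helper41.OrbitSubscheme
import Groth.Agent.Lib.Helper41.SubgroupOfMono

set_option autoImplicit false
universe u
open CategoryTheory MonoidalCategory CartesianMonoidalCategory MonObj GrpObj AlgebraicGeometry
open AlgGrp

namespace Groth.Agent.S15608

/-- Let k be a field, G a smooth k-group scheme of finite type and Σ a subgroup of the abstract group
G(k) of k-rational points. Then the Zariski closure of Σ in G, with its reduced structure, is a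
smooth closed k-subgroup: there are a smooth k-group scheme H and a homomorphism H ⟶ G which is a
closed immersion whose image is the closure of the set of points of G underlying the elements of Σ.
(The published statement also asserts that forming this closure commutes with extension of the
ground field; that clause is not stated here, its affine form being stated separately.) -/
theorem result (k : Type u) [Field k]
    (G : Over (Spec (CommRingCat.of k))) [GrpObj G] [Smooth G.hom] [QuasiCompact G.hom]
    (S : Subgroup (𝟙_ (Over (Spec (CommRingCat.of k))) ⟶ G)) :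
    ∃ (H : Over (Spec (CommRingCat.of k))) (_ : GrpObj H) (i : H ⟶ G), IsMonHom i ∧ IsClosedImmersion i.left ∧ Smooth H.hom ∧
      Set.range i.left.base =
        closure ((fun s : (𝟙_ (Over (Spec (CommRingCat.of k))) ⟶ G) => s.left.base (IsLocalRing.closedPoint k)) '' (S : Set _)) := by
  classical
  have hsub : Subsingleton (Spec (CommRingCat.of k)) :=
    inferInstanceAs (Subsingleton (PrimeSpectrum k))
  let U1 : Over (Spec (CommRingCat.of k)) := 𝟙_ (Over (Spec (CommRingCat.of k)))
  let pt : (U1).left := IsLocalRing.closedPoint k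
  let Sg' : Set G.left := (fun s : U1 ⟶ G => s.left.base pt) '' (S : Set _)
  let C : TopologicalSpace.Closeds G.left := ⟨closure Sg', isClosed_closure⟩
  let I := Scheme.IdealSheafData.vanishingIdeal C
  let H0 : Scheme.{u} := I.subscheme
  let jH : H0 ⟶ G.left := I.subschemeι
  have hrange : Set.range jH.base = closure Sg' := by
    change Set.range I.subschemeι = _
    rw [I.range_subschemeι, Scheme.IdealSheafData.coe_support_vanishingIdeal]
    rfl
  have hH0red : IsReduced H0 := Groth.Agent.Lib.Helper19.isReduced_subscheme_vanishingIdeal C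
  let H : Over (Spec (CommRingCat.of k)) := Over.mk (jH ≫ G.hom)
  let i : H ⟶ G := Over.homMk jH rfl
  have hil : i.left = jH := rfl
  have hmono : Mono i := by
    have : Mono ((Over.forget _).map i) := by
      change Mono jH
      infer_instance
    exact (Over.forget _).mono_of_mono_map this
  have hU1red : IsReduced U1.left := by
    change IsReduced (Spec (CommRingCat.of k))
    infer_instance
  -- a general lifting principle
  have hlift : ∀ (T : Over (Spec (CommRingCat.of k))) [IsReduced T.left] (φ : T ⟶ G),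
      Set.range φ.left.base ⊆ closure Sg' → ∃ φ' : T ⟶ H, φ' ≫ i = φ := by
    intro T _ φ hφ
    obtain ⟨g, hg⟩ := Groth.Agent.Lib.Helper19.exists_lift_of_isReduced_of_range_subset φ.left jH
      (by rw [hrange]; exact hφ)
    have hw : g ≫ H.hom = T.hom := by
      change g ≫ jH ≫ G.hom = _
      rw [← Category.assoc, hg]
      exact Over.w φ
    refine ⟨Over.homMk g hw, ?_⟩
    ext1
    exact hg
  -- rational points of `H`
  have hpts : ∀ s ∈ S, ∃ s' : U1 ⟶ H, s' ≫ i = s := by
    intro s hs
    apply hlift U1 s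
    rintro _ ⟨y, rfl⟩
    have : y = pt := hsub.elim _ _
    rw [this]
    exact subset_closure ⟨s, hs, rfl⟩
  let Sg : Set (Spec (CommRingCat.of k) ⟶ H0) := {t | ∃ s' : U1 ⟶ H, s' ≫ i ∈ S ∧ s'.left = t}
  have hsec : ∀ t ∈ Sg, t ≫ H.hom = 𝟙 _ := by
    rintro _ ⟨s', -, rfl⟩
    exact Over.w s'
  have hdense : Dense {x : H0 | ∃ t ∈ Sg, t.base (IsLocalRing.closedPoint k) = x} := by
    rw [dense_iff_closure_eq]
    have hce : Topology.IsClosedEmbedding jH.base := jH.isClosedEmbedding
    apply Set.eq_univ_of_forall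
    intro x
    have hx : jH.base x ∈ closure Sg' := by
      rw [← hrange]
      exact ⟨x, rfl⟩
    have himg : jH.base '' {x : H0 | ∃ t ∈ Sg, t.base (IsLocalRing.closedPoint k) = x} = Sg' := by
      ext y
      constructor
      · rintro ⟨_, ⟨_, ⟨s', hs', rfl⟩, rfl⟩, rfl⟩
        exact ⟨s' ≫ i, hs', rfl⟩
      · rintro ⟨s, hs, rfl⟩
        obtain ⟨s', rfl⟩ := hpts s hs
        exact ⟨s'.left.base pt, ⟨s'.left, ⟨s', hs, rfl⟩, rfl⟩, rfl⟩
    rw [← himg, hce.closure_image_eq] at hx
    obtain ⟨x', hx', hxx'⟩ := hx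
    rw [← hce.injective hxx']
    exact hx'
  have hHred : IsReduced H.left := hH0red
  have hgr : GeometricallyReduced H.hom :=
    Groth.Agent.Lib.Helper41.RatPointsDense.geometricallyReduced_of_dense_rational H.hom Sg hsec
      hdense
  have hGlft : LocallyOfFiniteType G.hom := inferInstance
  have hHlft : LocallyOfFiniteType H.hom := by
    change LocallyOfFiniteType (jH ≫ G.hom)
    infer_instance
  have hHln : IsLocallyNoetherian H.left := LocallyOfFiniteType.isLocallyNoetherian H.hom
  have hHflat : Flat H.hom := inferInstance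
  have hHHred : IsReduced (H ⊗ H).left := by
    change IsReduced (Limits.pullback H.hom H.hom)
    infer_instance
  have hHuo : UniversallyOpen H.hom :=
    Groth.Agent.Lib.Helper93.ActionOpen.universallyOpen_of_field H.hom
  -- maps preserving `S` preserve the closure
  have hpres : ∀ (ρ : G ⟶ G), (∀ t ∈ S, t ≫ ρ ∈ S) →
      ∀ y ∈ closure Sg', ρ.left.base y ∈ closure Sg' := by
    intro ρ hρ y hy
    refine map_mem_closure ρ.left.continuous hy ?_
    rintro _ ⟨t, ht, rfl⟩
    exact ⟨t ≫ ρ, hρ t ht, rfl⟩
  -- the unit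
  obtain ⟨e', he'⟩ := hpts 1 S.one_mem
  have he'' : e' ≫ i = η[G] := by
    rw [he', Hom.one_def, toUnit_unique (toUnit _) (𝟙 _), Category.id_comp]
  -- the inverse
  have hinv : ∃ iv : H ⟶ H, iv ≫ i = i⁻¹ := by
    apply hlift H i⁻¹
    rintro _ ⟨x, rfl⟩
    have h1 : (i⁻¹ : H ⟶ G) = i ≫ (𝟙 G)⁻¹ := by
      rw [GrpObj.comp_inv, Category.comp_id]
    rw [h1]
    change ((𝟙 G)⁻¹ : G ⟶ G).left.base (jH.base x) ∈ _
    apply hpres
    · intro t ht
      rw [GrpObj.comp_inv, Category.comp_id]
      exact S.inv_mem ht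
    · rw [← hrange]
      exact ⟨x, rfl⟩
  obtain ⟨iv, hiv⟩ := hinv
  -- the multiplication
  let m0 : H ⊗ H ⟶ G := (fst H H ≫ i) * (snd H H ≫ i)
  have hmul : ∃ m : H ⊗ H ⟶ H, m ≫ i = m0 := by
    apply hlift (H ⊗ H) m0
    let D : Set (H ⊗ H).left := m0.left.base ⁻¹' (closure Sg')
    have hDclosed : IsClosed D := isClosed_closure.preimage m0.left.continuous
    -- slices over rational points lie in `D`
    have hslice : ∀ s' : U1 ⟶ H, s' ≫ i ∈ S → Set.range (H ◁ s').left.base ⊆ D := by
      intro s' hs'
      rintro _ ⟨w, rfl⟩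
      change m0.left.base ((H ◁ s').left.base w) ∈ closure Sg'
      have h1 : m0.left.base ((H ◁ s').left.base w) = ((H ◁ s') ≫ m0).left.base w := rfl
      have h2 : (H ◁ s') ≫ m0 = (fst H U1 ≫ i) ≫ ((𝟙 G) * (toUnit G ≫ s' ≫ i)) := by
        change (H ◁ s') ≫ ((fst H H ≫ i) * (snd H H ≫ i)) = _
        rw [MonObj.comp_mul, MonObj.comp_mul, whiskerLeft_fst_assoc, whiskerLeft_snd_assoc,
          Category.comp_id]
        congr 1
        rw [← Category.assoc, ← Category.assoc, ← Category.assoc]
        congr 2
        exact toUnit_unique _ _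
      rw [h1, h2]
      change ((𝟙 G) * (toUnit G ≫ s' ≫ i)).left.base (jH.base ((fst H U1).left.base w)) ∈ _
      apply hpres
      · intro t ht
        rw [MonObj.comp_mul, Category.comp_id, ← Category.assoc,
          toUnit_unique (t ≫ toUnit G) (𝟙 _), Category.id_comp]
        exact S.mul_mem ht hs'
      · rw [← hrange]
        exact ⟨_, rfl⟩
    have hDuniv : D = Set.univ := by
      rw [← hDclosed.closure_eq]
      apply Set.eq_univ_of_forall
      intro w
      rw [mem_closure_iff]
      intro N hN hwN
      have huo : UniversallyOpen (snd H H).left := by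
        rw [Over.snd_left]
        infer_instance
      have hopen : IsOpen ((snd H H).left.base '' N) := (snd H H).left.isOpenMap _ hN
      obtain ⟨x, ⟨w', hw'N, hw'x⟩, t, ⟨s', hs', hs't⟩, htx⟩ :=
        hdense.inter_open_nonempty _ hopen ⟨_, w, hwN, rfl⟩
      refine ⟨w', hw'N, hslice s' hs' ?_⟩
      have hpb := Groth.Agent.Lib.Helper93.ActionOpen.isPullback_whiskerLeft_snd H s'
      have h1 := Scheme.image_preimage_eq_of_isPullback hpb.flip Set.univ
      rw [Set.preimage_univ, Set.image_univ, Set.image_univ] at h1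
      rw [h1]
      refine ⟨IsLocalRing.closedPoint k, ?_⟩
      rw [hw'x, ← htx, ← hs't]
    rintro _ ⟨w, rfl⟩
    have : w ∈ D := by
      rw [hDuniv]
      trivial
    exact this
  obtain ⟨m, hm⟩ := hmul
  have hm' : m ≫ i = (fst H H ≫ i) * (snd H H ≫ i) := hm
  let hGrp : GrpObj H := Groth.Agent.Lib.Helper41.SubgroupOfMono.grpObjOfMono i e' he'' m hm' iv hiv
  refine ⟨H, hGrp, i, ?_, ?_, ?_, hrange⟩
  · exact Groth.Agent.Lib.Helper41.SubgroupOfMono.isMonHom_of_mono i e' he'' m hm' iv hiv
  · change IsClosedImmersion jH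
    infer_instance
  · have hG' : GrpObj (Over.mk (jH ≫ G.hom)) := hGrp
    have h1 : LocallyOfFiniteType (jH ≫ G.hom) := hHlft
    have h2 : GeometricallyReduced (jH ≫ G.hom) := hgr
    exact smooth_of_grpObj (jH ≫ G.hom)

end Groth.Agent.S15608
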