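import Groth.Statements.S1561
import Groth.Agent.S2116
import Groth.Agent.Lib.Helper24.SmoothNormalStalk
import Mathlib

set_option autoImplicit false
universe u
open CategoryTheory CategoryTheory.Limits AlgebraicGeometry
open Variety

namespace Groth.Agent.S1561

theorem mem_smoothLocus_iff (k : Type u) [Field k] [PerfectField k] (X : Scheme.{u})
    (f : X ⟶ Spec (CommRingCat.of k)) [LocallyOfFinitePresentation f] (x : X) :
    x ∈ f.smoothLocus ↔ IsRegularLocalRing (X.presheaf.stalk x) := by
  obtain ⟨_, ⟨V, hV, rfl⟩, hxV, -⟩ := X.isBasis_affineOpens.exists_subset_of_mem_open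
    (Set.mem_univ x) isOpen_univ
  have hU : IsAffineOpen (⊤ : (Spec (CommRingCat.of k)).Opens) := isAffineOpen_top _
  have hVU : V ≤ f ⁻¹ᵁ ⊤ := le_top
  rw [Scheme.Hom.mem_smoothLocus, formallySmooth_stalkMap_iff ⊤ hU V hV hVU hxV]
  have Hfp := f.finitePresentation_appLE hU hV hVU
  let R₀ := Γ(Spec (CommRingCat.of k), ⊤)
  let A := Γ(X, V)
  let _ : Algebra R₀ A := (f.appLE ⊤ V hVU).hom.toAlgebra
  have hfpA : Algebra.FinitePresentation R₀ A := Hfp
  let e₀ : k ≃+* R₀ := (Scheme.ΓSpecIso (CommRingCat.of k)).commRingCatIsoToRingEquiv.symm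
  let _ : Algebra k R₀ := e₀.toRingHom.toAlgebra
  let _ : Algebra k A := ((algebraMap R₀ A).comp (algebraMap k R₀)).toAlgebra
  have : IsScalarTower k R₀ A := IsScalarTower.of_algebraMap_eq (fun _ => rfl)
  have hbij : Function.Bijective (algebraMap k R₀) := e₀.bijective
  have het : Algebra.FormallyEtale k R₀ :=
    Algebra.FormallyEtale.of_equiv (AlgEquiv.ofBijective (Algebra.ofId k R₀) hbij)
  have hftk : Algebra.FiniteType k A := by
    have h1 : Algebra.FiniteType k R₀ :=
      Algebra.FiniteType.of_surjective (Algebra.ofId k R₀) hbij.2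
    have h2 : Algebra.FiniteType R₀ A := inferInstance
    exact Algebra.FiniteType.trans h1 h2
  let q := (hV.primeIdealOf ⟨x, hxV⟩).asIdeal
  obtain ⟨e2⟩ := Groth.Agent.Lib.Helper24.stalk_ringEquiv_atPrime hV x hxV
  show Algebra.FormallySmooth R₀ (Localization.AtPrime q) ↔ _
  rw [← Algebra.FormallySmooth.iff_restrictScalars (R := k) (A := R₀)]
  constructor
  · intro h
    have := Groth.Agent.S2116.isRegularLocalRing_of_isSmoothAt k A q h
    exact IsRegularLocalRing.of_ringEquiv e2.symm
  · intro h
    have : IsRegularLocalRing (Localization.AtPrime q) := IsRegularLocalRing.of_ringEquiv e2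
    have : Algebra.EssFiniteType k q.ResidueField := by
      have h1 : Algebra.EssFiniteType A (Localization.AtPrime q) :=
        Algebra.EssFiniteType.of_isLocalization _ q.primeCompl
      have h2 : Algebra.EssFiniteType k (Localization.AtPrime q) :=
        Algebra.EssFiniteType.comp k A _
      have h3 : Algebra.FiniteType (Localization.AtPrime q) q.ResidueField :=
        Algebra.FiniteType.of_surjective (Algebra.ofId _ _) IsLocalRing.residue_surjective
      exact Algebra.EssFiniteType.comp k (Localization.AtPrime q) _
    have : Algebra.FormallySmooth k q.ResidueField := Algebra.FormallySmooth.of_perfectField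
    exact Groth.Agent.S2116.formallySmooth_of_isRegularLocalRing k A q

/-- Let X be reduced and locally of finite type over a perfect field k. Then a point lies in the smooth
locus of X → Spec k exactly when its local ring is regular, and this locus is dense in X. -/
theorem result (k : Type u) [Field k] (X : Scheme.{u}) [X.Over (Spec (CommRingCat.of k))] [PerfectField k] [IsReduced X]
    [LocallyOfFinitePresentation (X ↘ (Spec (CommRingCat.of k)))] :
    (∀ x : X, x ∈ (X ↘ (Spec (CommRingCat.of k))).smoothLocus ↔ IsRegularLocalRing (X.presheaf.stalk x)) ∧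
      Dense ((X ↘ (Spec (CommRingCat.of k))).smoothLocus : Set X) := by
  exact ⟨fun x => mem_smoothLocus_iff k X _ x,
    Scheme.Hom.dense_smoothLocus_of_perfectField _⟩

end Groth.Agent.S1561
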