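import Groth.Statements.S1568
import Groth.Agent.Lib.Helper7.AffinePrime

set_option autoImplicit false
universe u
open CategoryTheory CategoryTheory.Limits AlgebraicGeometry
open Divisors

namespace Groth.Agent.S1568

/-- Let X be locally Noetherian and D an effective Cartier divisor. At a point ξ of D that is maximal in
D under generisation (a generic point of a component of D), the local ring of X has dimension
exactly one. -/
theorem result (X : Scheme.{u}) [IsLocallyNoetherian X]
    (D : X.IdealSheafData) (hD : BlowUp.IsEffCartierIdeal D) (ξ : X)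
    (hξ : ξ ∈ (D.support : Set X)) (hgen : ∀ y ∈ (D.support : Set X), y ⤳ ξ → y = ξ) :
    ringKrullDim (X.presheaf.stalk ξ) = 1 := by
  obtain ⟨U, hξU, f, hfnzd, hf⟩ := hD ξ
  have hmin := Groth.Agent.Lib.Helper7.primeIdealOf_mem_minimalPrimes D ξ hξ hgen U hξU
  have hN : IsNoetherianRing Γ(X, U.1) := IsLocallyNoetherian.component_noetherian U
  rw [hf] at hmin
  have hpr : (Ideal.span {f}).IsPrincipal := ⟨⟨f, rfl⟩⟩
  have hht := Ideal.height_le_one_of_isPrincipal_of_mem_minimalPrimes _ _ hmin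
  rw [Groth.Agent.Lib.Helper7.ringKrullDim_stalk_eq_height U ξ hξU]
  have hp : (U.2.primeIdealOf ⟨ξ, hξU⟩).asIdeal.IsPrime := (U.2.primeIdealOf ⟨ξ, hξU⟩).2
  have hfp : f ∈ (U.2.primeIdealOf ⟨ξ, hξU⟩).asIdeal :=
    hmin.1.2 (Ideal.subset_span (Set.mem_singleton f))
  have hne : (U.2.primeIdealOf ⟨ξ, hξU⟩).asIdeal.height ≠ 0 := by
    intro h0
    rw [Ideal.height_eq_zero_iff] at h0
    have := Ideal.disjoint_nonZeroDivisors_of_mem_minimalPrimes h0
    exact Set.disjoint_left.mp this hfp hfnzd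
  have h1 : (1 : ℕ∞) ≤ (U.2.primeIdealOf ⟨ξ, hξU⟩).asIdeal.height :=
    Order.one_le_iff_pos.mpr (pos_iff_ne_zero.mpr hne)
  have := le_antisymm hht h1
  rw [this]
  rfl

end Groth.Agent.S1568
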