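import Groth.Statements.S1569
import Groth.Agent.Lib.Helper7.AffinePrime
import Groth.Agent.Lib.Helper7.DVRLocal
import Mathlib.AlgebraicGeometry.IdealSheaf.Subscheme
import Mathlib.RingTheory.Ideal.Quotient.Nilpotent
import Mathlib.RingTheory.Ideal.MinimalPrime.Localization

set_option autoImplicit false
universe u
open CategoryTheory CategoryTheory.Limits AlgebraicGeometry
open Divisors

namespace Groth.Agent.S1569

/-- On a Noetherian scheme, an effective Cartier divisor which is integral as a closed subscheme has a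
discrete valuation ring as the local ring of the ambient scheme at its generic point. -/
theorem result (X : Scheme.{u}) [IsNoetherian X]
    (D : X.IdealSheafData) (hD : BlowUp.IsEffCartierIdeal D) [IsIntegral D.subscheme]
    (ξ : X) (hξ : IsGenericPoint ξ (D.support : Set X)) :
    ∃ _ : IsDomain (X.presheaf.stalk ξ), IsDiscreteValuationRing (X.presheaf.stalk ξ) := by
  obtain ⟨U, hξU, f, hfnzd, hf⟩ := hD ξ
  have hξ' : ξ ∈ (D.support : Set X) := hξ.mem
  have hgen : ∀ y ∈ (D.support : Set X), y ⤳ ξ → y = ξ := by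
    intro y hy hyξ
    have h1 : ξ ⤳ y := by
      rw [specializes_iff_mem_closure, hξ.def]
      exact hy
    exact (hyξ.antisymm h1).eq
  have hmin := Groth.Agent.Lib.Helper7.primeIdealOf_mem_minimalPrimes D ξ hξ' hgen U hξU
  have hN : IsNoetherianRing Γ(X, U.1) := IsLocallyNoetherian.component_noetherian U
  -- the quotient `Γ(X, U) ⧸ D.ideal U` is reduced
  have hred : IsReduced (Spec (.of (Γ(X, U.1) ⧸ D.ideal U))) := by
    have h0 : IsOpenImmersion (D.subschemeCover.openCover.f U) := inferInstance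
    have h00 : IsReduced D.subscheme := inferInstance
    exact @isReduced_of_isOpenImmersion _ _ (D.subschemeCover.openCover.f U) h0 h00
  have hred' : _root_.IsReduced (Γ(X, U.1) ⧸ D.ideal U) := (affine_isReduced_iff _).mp hred
  have hrad : (D.ideal U).IsRadical := (Ideal.isRadical_iff_quotient_reduced _).mpr hred'
  -- pass to the stalk
  letI : Algebra Γ(X, U.1) (X.presheaf.stalk ξ) :=
    TopCat.Presheaf.algebra_section_stalk X.presheaf (⟨ξ, hξU⟩ : U.1)
  have hloc : IsLocalization.AtPrime (X.presheaf.stalk ξ) (U.2.primeIdealOf ⟨ξ, hξU⟩).asIdeal :=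
    U.2.isLocalization_stalk ⟨ξ, hξU⟩
  have hNs : IsNoetherianRing (X.presheaf.stalk ξ) :=
    IsLocalization.isNoetherianRing (U.2.primeIdealOf ⟨ξ, hξU⟩).asIdeal.primeCompl _ hN
  have h1 := IsLocalization.AtPrime.radical_map_of_mem_minimalPrimes
    (A := X.presheaf.stalk ξ) (U.2.primeIdealOf ⟨ξ, hξU⟩).asIdeal (D.ideal U) hmin
  have h2 := IsLocalization.map_radical (U.2.primeIdealOf ⟨ξ, hξU⟩).asIdeal.primeCompl
    (X.presheaf.stalk ξ) (D.ideal U)
  rw [hrad.radical] at h2
  have h3 := IsLocalization.AtPrime.map_eq_maximalIdeal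
    (U.2.primeIdealOf ⟨ξ, hξU⟩).asIdeal (X.presheaf.stalk ξ)
  rw [← h2, h3, hf, Ideal.map_span, Set.image_singleton] at h1
  refine Groth.Agent.Lib.Helper7.isDiscreteValuationRing_of_maximalIdeal_eq_span_nonZeroDivisor
    (algebraMap Γ(X, U.1) (X.presheaf.stalk ξ) f) ?_ h1.symm
  exact IsLocalization.map_nonZeroDivisors_le (U.2.primeIdealOf ⟨ξ, hξU⟩).asIdeal.primeCompl
    (X.presheaf.stalk ξ) (Submonoid.mem_map_of_mem _ hfnzd)

end Groth.Agent.S1569
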