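import Mathlib
import Groth.Statements.S15697

set_option autoImplicit false
universe u
open InvFld

namespace Groth.Agent.S15697


open Polynomial

section generic

variable {k L : Type*} [Field k] [Field L] [Algebra k L] {G : Type*} [Group G] [Fintype G]
  [DecidableEq G] [MulSemiringAction G L]
  (K : IntermediateField k L)

/-- Dedekind data: finitely many `c ∈ K` and coefficients `a c ∈ K` with
`∑ a c * σ(c) = δ_{σ,1}`. -/
theorem exists_dedekind (hK : ∀ (σ : G), ∀ c ∈ K, σ • c ∈ K)
    (hfaith : ∀ σ : G, (∀ c ∈ K, σ • c = c) → σ = 1) :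
    ∃ (s : Finset K) (a : K → K), ∀ σ : G,
      ∑ c ∈ s, (a c : L) * (σ • (c : L)) = if σ = 1 then 1 else 0 := by
  classical
  let χ : G → (K →* K) := fun σ =>
    { toFun := fun c => ⟨σ • (c : L), hK σ c c.2⟩
      map_one' := Subtype.ext (smul_one σ)
      map_mul' := fun a b => Subtype.ext (smul_mul' σ (a : L) (b : L)) }
  have hχ : ∀ (σ : G) (c : K), ((χ σ c : K) : L) = σ • (c : L) := fun σ c => rfl
  have hinj : Function.Injective χ := by
    intro σ τ h
    have h1 : τ⁻¹ * σ = 1 := by
      apply hfaith
      intro c hc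
      have h2 := congrArg Subtype.val (DFunLike.congr_fun h ⟨c, hc⟩)
      rw [hχ, hχ] at h2
      rw [mul_smul, h2, inv_smul_smul]
    rw [inv_mul_eq_one] at h1
    exact h1.symm
  have hli : LinearIndependent K (fun σ : G => (χ σ : K → K)) :=
    (linearIndependent_monoidHom K K).comp χ hinj
  let T : Submodule K (G → K) :=
    Submodule.span K (Set.range (fun c : K => (fun σ : G => χ σ c)))
  have hT : T = ⊤ := by
    by_contra hne
    obtain ⟨f, hf0, hf⟩ := Submodule.exists_le_ker_of_lt_top T (lt_top_iff_ne_top.2 hne)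
    apply hf0
    have hfv : ∀ v : G → K, f v = ∑ σ : G, v σ * f (Pi.single σ 1) := by
      intro v
      rw [LinearMap.pi_apply_eq_sum_univ f v]
      refine Finset.sum_congr rfl fun σ _ => ?_
      rw [smul_eq_mul]
      have : (fun j => if σ = j then (1 : K) else 0) = Pi.single σ 1 := by
        funext τ
        rw [Pi.single_apply]
        by_cases h : σ = τ
        · rw [if_pos h, if_pos h.symm]
        · rw [if_neg h, if_neg (fun h' => h h'.symm)]
      rw [this]
    have hzero : ∑ σ : G, f (Pi.single σ 1) • (χ σ : K → K) = 0 := by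
      ext c
      have h1 : (fun σ : G => χ σ c) ∈ T := Submodule.subset_span ⟨c, rfl⟩
      have h2 := hf h1
      rw [LinearMap.mem_ker, hfv] at h2
      rw [Finset.sum_apply, Pi.zero_apply]
      simp only [Pi.smul_apply, smul_eq_mul]
      have h3 : ∑ σ : G, f (Pi.single σ 1) * χ σ c = ∑ σ : G, χ σ c * f (Pi.single σ 1) :=
        Finset.sum_congr rfl fun σ _ => mul_comm (f (Pi.single σ 1)) (χ σ c)
      exact congrArg Subtype.val (h3.trans h2)
    have hall := Fintype.linearIndependent_iff.1 hli (fun σ => f (Pi.single σ 1)) hzero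
    refine LinearMap.ext fun v => ?_
    rw [hfv]
    simp [hall]
  have hδ : (Pi.single (1 : G) (1 : K) : G → K) ∈ T := by rw [hT]; trivial
  obtain ⟨a, ha⟩ := (Finsupp.mem_span_range_iff_exists_finsupp).1 hδ
  refine ⟨a.support, fun c => a c, fun σ => ?_⟩
  have h1 := congrFun ha σ
  rw [Finsupp.sum, Finset.sum_apply] at h1
  simp only [Pi.smul_apply, smul_eq_mul, Pi.single_apply] at h1
  have h2 := congrArg (Subtype.val : K → L) h1
  rw [AddSubmonoidClass.coe_finsetSum] at h2
  simp only [MulMemClass.coe_mul, hχ] at h2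
  rw [h2]
  split_ifs <;> simp


/-- Speiser's lemma, concrete form: a `G`-stable `K`-subspace of `L` is spanned by its invariants. -/
theorem speiser (hK : ∀ (σ : G), ∀ c ∈ K, σ • c ∈ K)
    (hfaith : ∀ σ : G, (∀ c ∈ K, σ • c = c) → σ = 1)
    (V : Submodule K L) (hV : ∀ (σ : G), ∀ v ∈ V, σ • v ∈ V) :
    V ≤ Submodule.span K {w : L | w ∈ V ∧ ∀ σ : G, σ • w = w} := by
  intro v hv
  obtain ⟨s, a, ha⟩ := exists_dedekind K hK hfaith
  have key : v = ∑ c ∈ s, a c • (∑ σ : G, σ • ((c : L) * v)) := by
    have h1 : ∀ c ∈ s, a c • (∑ σ : G, σ • ((c : L) * v)) =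
        ∑ σ : G, ((a c : L) * (σ • (c : L))) * (σ • v) := by
      intro c _
      rw [IntermediateField.smul_def, smul_eq_mul, Finset.mul_sum]
      refine Finset.sum_congr rfl fun σ _ => ?_
      rw [smul_mul', mul_assoc]
    rw [Finset.sum_congr rfl h1, Finset.sum_comm]
    simp only [← Finset.sum_mul, ha]
    simp
  rw [key]
  refine Submodule.sum_mem _ fun c _ => Submodule.smul_mem _ _ (Submodule.subset_span ⟨?_, ?_⟩)
  · refine Submodule.sum_mem _ fun σ _ => hV σ _ ?_
    have : (c : L) * v = c • v := by rw [IntermediateField.smul_def, smul_eq_mul]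
    rw [this]
    exact V.smul_mem c hv
  · intro τ
    rw [Finset.smul_sum]
    simp only [smul_smul]
    exact Fintype.sum_equiv (Equiv.mulLeft τ) _ _ (fun σ => rfl)

/-- An invariant basis of a stable subspace spanned by a linearly independent family. -/
theorem exists_invariant_basis (hK : ∀ (σ : G), ∀ c ∈ K, σ • c ∈ K)
    (hfaith : ∀ σ : G, (∀ c ∈ K, σ • c = c) → σ = 1) {m : ℕ} (y : Fin m → L)
    (hy : LinearIndependent K y)
    (hyG : ∀ (σ : G) (j : Fin m), σ • y j ∈ Submodule.span K (Set.range y)) :
    ∃ t : Fin m → L, (∀ (l : Fin m) (σ : G), σ • t l = t l) ∧ LinearIndependent K t ∧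
      Submodule.span K (Set.range t) = Submodule.span K (Set.range y) := by
  set V : Submodule K L := Submodule.span K (Set.range y) with hVdef
  have hV : ∀ (σ : G), ∀ v ∈ V, σ • v ∈ V := by
    intro σ v hv
    induction hv using Submodule.span_induction with
    | mem x hx => obtain ⟨j, rfl⟩ := hx; exact hyG σ j
    | zero => rw [smul_zero]; exact V.zero_mem
    | add u w _ _ hu hw => rw [smul_add]; exact V.add_mem hu hw
    | smul c u _ hu =>
      have : σ • (c • u) = (⟨σ • (c : L), hK σ c c.2⟩ : K) • (σ • u) := by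
        rw [IntermediateField.smul_def, IntermediateField.smul_def, smul_eq_mul, smul_eq_mul,
          smul_mul']
      rw [this]
      exact V.smul_mem _ hu
  set S : Set L := {w : L | w ∈ V ∧ ∀ σ : G, σ • w = w} with hSdef
  have hspan : Submodule.span K S = V :=
    le_antisymm (Submodule.span_le.2 fun w hw => hw.1) (speiser K hK hfaith V hV)
  have : Module.Finite K V := Module.Finite.span_of_finite K (Set.finite_range y)
  have : Module.Finite K (Submodule.span K S) := by rw [hspan]; infer_instance
  obtain ⟨f, hfS, hfspan, hfli⟩ := Submodule.exists_fun_fin_finrank_span_eq K S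
  have hm : Module.finrank K (Submodule.span K S) = m := by
    rw [hspan, hVdef, finrank_span_eq_card hy, Fintype.card_fin]
  have key : ∀ (n : ℕ), n = m → ∀ f : Fin n → L, (∀ i, f i ∈ S) →
      Submodule.span K (Set.range f) = Submodule.span K S → LinearIndependent K f →
      ∃ t : Fin m → L, (∀ (l : Fin m) (σ : G), σ • t l = t l) ∧ LinearIndependent K t ∧
        Submodule.span K (Set.range t) = V := by
    rintro n rfl f hfS hfspan hfli
    exact ⟨f, fun l σ => (hfS l).2 σ, hfli, hfspan.trans hspan⟩
  exact key _ hm f hfS hfspan hfli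

end generic


section linalg

variable {K L : Type*} [Field K] [Field L] [Algebra K L]

/-- A linearly independent family spanning the same space as an algebraically independent family
is algebraically independent. -/
theorem algebraicIndependent_of_span_eq {m : ℕ} (y t : Fin m → L)
    (hy : AlgebraicIndependent K y) (ht : LinearIndependent K t)
    (hspan : Submodule.span K (Set.range t) = Submodule.span K (Set.range y)) :
    AlgebraicIndependent K t := by
  classical
  have h1 : ∀ l, ∃ b : Fin m → K, ∑ j, b j • y j = t l := fun l =>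
    (Submodule.mem_span_range_iff_exists_fun K).1
      (hspan ▸ Submodule.subset_span (Set.mem_range_self l))
  have h2 : ∀ j, ∃ a : Fin m → K, ∑ l, a l • t l = y j := fun j =>
    (Submodule.mem_span_range_iff_exists_fun K).1
      (hspan.symm ▸ Submodule.subset_span (Set.mem_range_self j))
  choose B hB using h1
  choose A hA using h2
  have hBA : ∀ l l', ∑ j, B l j * A j l' = if l = l' then 1 else 0 := by
    intro l
    have h3 : ∑ l', (∑ j, B l j * A j l' - if l = l' then 1 else 0) • t l' = 0 := by
      simp only [sub_smul, Finset.sum_sub_distrib, ite_smul, one_smul, zero_smul,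
        Finset.sum_ite_eq, Finset.mem_univ, if_true]
      rw [sub_eq_zero]
      conv_rhs => rw [← hB l]
      simp only [Finset.sum_smul, mul_smul]
      rw [Finset.sum_comm]
      refine Finset.sum_congr rfl fun j _ => ?_
      rw [← Finset.smul_sum, hA]
    intro l'
    have := Fintype.linearIndependent_iff.1 ht _ h3 l'
    exact sub_eq_zero.1 this
  let φ : MvPolynomial (Fin m) K →ₐ[K] MvPolynomial (Fin m) K :=
    MvPolynomial.aeval (fun l => ∑ j, MvPolynomial.C (B l j) * MvPolynomial.X j)
  let ψ : MvPolynomial (Fin m) K →ₐ[K] MvPolynomial (Fin m) K :=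
    MvPolynomial.aeval (fun j => ∑ l, MvPolynomial.C (A j l) * MvPolynomial.X l)
  have hψφ : ψ.comp φ = AlgHom.id K _ := by
    refine MvPolynomial.algHom_ext fun l => ?_
    simp only [AlgHom.comp_apply, φ, ψ, MvPolynomial.aeval_X, map_sum, map_mul,
      MvPolynomial.aeval_C, MvPolynomial.algebraMap_eq, AlgHom.id_apply]
    simp only [Finset.mul_sum]
    rw [Finset.sum_comm]
    simp only [← mul_assoc, ← map_mul, ← Finset.sum_mul, ← map_sum, hBA]
    simp
  have hφinj : Function.Injective φ := by
    intro p q h
    have := congrArg ψ h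
    rwa [← AlgHom.comp_apply, ← AlgHom.comp_apply, hψφ] at this
  have haeval : MvPolynomial.aeval t = (MvPolynomial.aeval y).comp φ := by
    refine MvPolynomial.algHom_ext fun l => ?_
    simp only [AlgHom.comp_apply, φ, MvPolynomial.aeval_X, map_sum, map_mul,
      MvPolynomial.aeval_C]
    rw [← hB l]
    refine Finset.sum_congr rfl fun j _ => ?_
    rw [Algebra.smul_def]
  rw [algebraicIndependent_iff_injective_aeval, haeval]
  exact (algebraicIndependent_iff_injective_aeval.1 hy).comp hφinj

/-- Same span, same generated field. -/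
theorem adjoin_eq_top_of_span_eq {m : ℕ} (y t : Fin m → L)
    (hy : IntermediateField.adjoin K (Set.range y) = ⊤)
    (hspan : Submodule.span K (Set.range t) = Submodule.span K (Set.range y)) :
    IntermediateField.adjoin K (Set.range t) = ⊤ := by
  rw [eq_top_iff, ← hy, IntermediateField.adjoin_le_iff]
  rintro _ ⟨j, rfl⟩
  have h1 : y j ∈ Submodule.span K (Set.range t) :=
    hspan ▸ Submodule.subset_span (Set.mem_range_self j)
  have h2 : Submodule.span K (Set.range t) ≤
      (IntermediateField.adjoin K (Set.range t)).toSubalgebra.toSubmodule :=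
    Submodule.span_le.2 (IntermediateField.subset_adjoin K _)
  exact h2 h1

end linalg

section fraction

variable {A K L : Type*} [CommRing A] [IsDomain A] [Field K] [Field L] [Algebra A K]
  [IsFractionRing A K] [Algebra K L] [Algebra A L] [IsScalarTower A K L]

/-- Algebraic independence over a domain implies algebraic independence over its fraction
field. -/
theorem algebraicIndependent_fraction {ι : Type*} (y : ι → L) (hy : AlgebraicIndependent A y) :
    AlgebraicIndependent K y := by
  classical
  rw [algebraicIndependent_iff]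
  intro P hP
  obtain ⟨b, hb⟩ := IsLocalization.exist_integer_multiples_of_finset (nonZeroDivisors A)
    (P.support.image fun d => P.coeff d)
  have hb' : ∀ d, ∃ a : A, algebraMap A K a = (b : A) • P.coeff d := by
    intro d
    by_cases hd : d ∈ P.support
    · exact hb _ (Finset.mem_image_of_mem _ hd)
    · refine ⟨0, ?_⟩
      rw [MvPolynomial.notMem_support_iff.1 hd, smul_zero, map_zero]
  choose c hc using hb'
  let Q : MvPolynomial ι A := ∑ d ∈ P.support, MvPolynomial.monomial d (c d)
  have hQ : MvPolynomial.map (algebraMap A K) Q = (b : A) • P := by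
    simp only [Q, map_sum, MvPolynomial.map_monomial, hc]
    conv_rhs => rw [P.as_sum, Finset.smul_sum]
    refine Finset.sum_congr rfl fun d _ => ?_
    rw [MvPolynomial.smul_monomial]
  have hQ0 : MvPolynomial.aeval y Q = 0 := by
    have := MvPolynomial.aeval_map_algebraMap K y Q
    rw [← this, hQ, ← algebraMap_smul K (b : A) P, map_smul, hP, smul_zero]
  have hQz : Q = 0 := (algebraicIndependent_iff.1 hy) Q hQ0
  rw [hQz, map_zero] at hQ
  have hbne : (algebraMap A K (b : A)) ≠ 0 :=
    IsFractionRing.to_map_ne_zero_of_mem_nonZeroDivisors b.2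
  have : algebraMap A K (b : A) • P = 0 := by
    rw [algebraMap_smul]; exact hQ.symm
  exact (smul_eq_zero.1 this).resolve_left hbne

end fraction


section fixed

variable {k L : Type*} [Field k] [Field L] [Algebra k L] {G : Type*} [Group G] [Fintype G]
  [MulSemiringAction G L] [SMulCommClass G k L] (K : IntermediateField k L)

/-- Elements of a stable subfield `K` are integral over `K ∩ L^G`. -/
theorem isIntegral_inf_fixed (hK : ∀ (σ : G), ∀ c ∈ K, σ • c ∈ K) (κ : L) (hκ : κ ∈ K) :
    IsIntegral ↥(K ⊓ FixedPoints.intermediateField G) κ := by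
  classical
  let qK : K[X] := ∏ σ : G, (Polynomial.X - Polynomial.C (⟨σ • κ, hK σ κ hκ⟩ : K))
  let p : L[X] := ∏ σ : G, (Polynomial.X - Polynomial.C (σ • κ))
  have hqp : qK.map (algebraMap K L) = p := by
    simp only [qK, p, Polynomial.map_prod, Polynomial.map_sub, Polynomial.map_X, Polynomial.map_C]
    rfl
  have hmonic : p.Monic := monic_prod_of_monic _ _ fun σ _ => monic_X_sub_C _
  have hroot : p.eval κ = 0 := by
    rw [eval_prod]
    exact Finset.prod_eq_zero (Finset.mem_univ (1 : G)) (by simp)
  have hcoefK : ∀ n, p.coeff n ∈ K := by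
    intro n
    rw [← hqp, coeff_map]
    exact (qK.coeff n).2
  have hinv : ∀ (τ : G) (n : ℕ), τ • p.coeff n = p.coeff n := by
    intro τ n
    have h1 : p.map (MulSemiringAction.toRingHom G L τ) = p := by
      simp only [p, Polynomial.map_prod, Polynomial.map_sub, Polynomial.map_X, Polynomial.map_C,
        MulSemiringAction.toRingHom_apply, smul_smul]
      exact Fintype.prod_equiv (Equiv.mulLeft τ) _ _ (fun σ => rfl)
    have h2 := congrArg (fun q => q.coeff n) h1
    simp only [coeff_map, MulSemiringAction.toRingHom_apply] at h2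
    exact h2
  have hlifts : p ∈ Polynomial.lifts (algebraMap ↥(K ⊓ FixedPoints.intermediateField G) L) := by
    rw [lifts_iff_coeff_lifts]
    intro n
    exact ⟨⟨p.coeff n, hcoefK n, fun τ => hinv τ n⟩, rfl⟩
  obtain ⟨q, hq, -, hqm⟩ := lifts_and_natDegree_eq_and_monic hlifts hmonic
  refine ⟨q, hqm, ?_⟩
  rw [eval₂_eq_eval_map, hq, hroot]

/-- The fixed field is generated over `K ∩ L^G` by an invariant generating family. -/
theorem fixed_eq_adjoin [CharZero L] (hK : ∀ (σ : G), ∀ c ∈ K, σ • c ∈ K) {m : ℕ}
    (t : Fin m → L) (ht : ∀ (l : Fin m) (σ : G), σ • t l = t l)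
    (htop : IntermediateField.adjoin ↥K (Set.range t) = ⊤) :
    IntermediateField.restrictScalars k
      (IntermediateField.adjoin ↥(K ⊓ FixedPoints.intermediateField G) (Set.range t)) =
      FixedPoints.intermediateField G := by
  classical
  set F' : IntermediateField k L := K ⊓ FixedPoints.intermediateField G with hF'
  set E' : IntermediateField ↥F' L := IntermediateField.adjoin ↥F' (Set.range t) with hE'
  have hE'inv : ∀ e ∈ E', ∀ σ : G, σ • e = e := by
    have hle : E' ≤ IntermediateField.extendScalars
        (inf_le_right : F' ≤ FixedPoints.intermediateField G) := by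
      rw [hE', IntermediateField.adjoin_le_iff]
      rintro _ ⟨l, rfl⟩
      exact fun σ => ht l σ
    intro e he σ
    exact hle he σ
  have htE' : ∀ l, t l ∈ E' := fun l => IntermediateField.subset_adjoin _ _ (Set.mem_range_self l)
  ext z
  rw [IntermediateField.mem_restrictScalars, FixedPoints.mem_intermediateField_iff]
  refine ⟨fun hz σ => hE'inv z hz σ, fun hz => ?_⟩
  -- every element of L is in the E'-span of K
  have hspan_top : ∀ z : L, z ∈ Submodule.span ↥E' (K : Set L) := by
    intro z
    set M : IntermediateField ↥E' L := IntermediateField.adjoin ↥E' (K : Set L) with hM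
    have hzM : z ∈ M := by
      let M' : IntermediateField ↥K L := Subfield.toIntermediateField M.toSubfield
        (fun c => IntermediateField.subset_adjoin _ _ c.2)
      have hle : IntermediateField.adjoin ↥K (Set.range t) ≤ M' := by
        rw [IntermediateField.adjoin_le_iff]
        rintro _ ⟨l, rfl⟩
        exact M.algebraMap_mem ⟨t l, htE' l⟩
      rw [htop] at hle
      exact hle (IntermediateField.mem_top)
    have halg : ∀ x ∈ (K : Set L), IsAlgebraic ↥E' x := fun x hx =>
      ((isIntegral_inf_fixed K hK x hx).tower_top).isAlgebraic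
    have h1 : M.toSubalgebra = Algebra.adjoin ↥E' (K : Set L) :=
      IntermediateField.adjoin_toSubalgebra_of_isAlgebraic halg
    have h2 : z ∈ Algebra.adjoin ↥E' (K : Set L) := by rw [← h1]; exact hzM
    have h3 : z ∈ Subalgebra.toSubmodule (Algebra.adjoin ↥E' (K : Set L)) := h2
    rw [Algebra.adjoin_eq_span] at h3
    have h4 : Submonoid.closure (K : Set L) = K.toSubalgebra.toSubsemiring.toSubmonoid :=
      Submonoid.closure_eq K.toSubalgebra.toSubsemiring.toSubmonoid
    rw [h4] at h3
    exact h3
  have hN : (Fintype.card G : L) ≠ 0 := by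
    exact_mod_cast Fintype.card_ne_zero
  have htrace : ∀ z ∈ Submodule.span ↥E' (K : Set L),
      (Fintype.card G : L)⁻¹ * ∑ σ : G, σ • z ∈ E' := by
    intro z hz
    induction hz using Submodule.span_induction with
    | mem κ hκ =>
      refine E'.mul_mem (E'.inv_mem (natCast_mem E' _)) ?_
      have hmem : ∑ σ : G, σ • κ ∈ F' := by
        refine ⟨K.sum_mem fun σ _ => hK σ κ hκ, fun τ => ?_⟩
        rw [Finset.smul_sum]
        simp only [smul_smul]
        exact Fintype.sum_equiv (Equiv.mulLeft τ) _ _ (fun σ => rfl)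
      exact E'.algebraMap_mem ⟨_, hmem⟩
    | zero => simp
    | add u w _ _ hu hw =>
      simp only [smul_add, Finset.sum_add_distrib, mul_add]
      exact E'.add_mem hu hw
    | smul e u _ hu =>
      have h1 : ∀ σ : G, σ • (e • u) = (e : L) * σ • u := by
        intro σ
        rw [IntermediateField.smul_def, smul_eq_mul, smul_mul', hE'inv e e.2 σ]
      simp only [h1, ← Finset.mul_sum]
      rw [mul_left_comm]
      exact E'.mul_mem e.2 hu
  have := htrace z (hspan_top z)
  simp only [hz, Finset.sum_const, Finset.card_univ, nsmul_eq_mul] at this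
  rwa [inv_mul_cancel_left₀ hN] at this

end fixed


section main

open scoped IntermediateField.algebraAdjoinAdjoin

theorem main (k : Type u) [Field k] [CharZero k] (n m : ℕ)
    (G : Subgroup (InvFld.Fld (Fin n ⊕ Fin m) k ≃ₐ[k] InvFld.Fld (Fin n ⊕ Fin m) k)) [Finite G]
    (hx : ∀ σ ∈ G, ∀ i : Fin n, σ (InvFld.X (Sum.inl i)) ∈ Submodule.span k (Set.range fun j : Fin n => (InvFld.X (Sum.inl j) : InvFld.Fld (Fin n ⊕ Fin m) k)))
    (hy : ∀ σ ∈ G, ∀ i : Fin m, σ (InvFld.X (Sum.inr i)) ∈ Submodule.span k (Set.range fun j : Fin m => (InvFld.X (Sum.inr j) : InvFld.Fld (Fin n ⊕ Fin m) k)))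
    (hfaith : ∀ σ ∈ G, (∀ i : Fin n, σ (InvFld.X (Sum.inl i)) = InvFld.X (Sum.inl i)) → σ = 1) :
    ∃ t : Fin m → InvFld.Fld (Fin n ⊕ Fin m) k,
      AlgebraicIndependent (↥(IntermediateField.adjoin k (Set.range fun j : Fin n => (InvFld.X (Sum.inl j) : InvFld.Fld (Fin n ⊕ Fin m) k)) ⊓ IntermediateField.fixedField G)) t ∧
      IntermediateField.restrictScalars k (IntermediateField.adjoin (↥(IntermediateField.adjoin k (Set.range fun j : Fin n => (InvFld.X (Sum.inl j) : InvFld.Fld (Fin n ⊕ Fin m) k)) ⊓ IntermediateField.fixedField G)) (Set.range t)) =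
        IntermediateField.fixedField G := by
  classical
  haveI : Fintype G := Fintype.ofFinite G
  set L := InvFld.Fld (Fin n ⊕ Fin m) k with hL
  set xs : Fin n → L := fun i => InvFld.X (Sum.inl i) with hxs
  set ys : Fin m → L := fun j => InvFld.X (Sum.inr j) with hys
  set Kx : IntermediateField k L := IntermediateField.adjoin k (Set.range xs) with hKx
  haveI : CharZero L := charZero_of_injective_algebraMap (algebraMap k L).injective
  have hsmul : ∀ (σ : G) (z : L), σ • z = (σ : L ≃ₐ[k] L) z := fun σ z => rfl
  have hspanK : Submodule.span k (Set.range xs) ≤ Kx.toSubalgebra.toSubmodule :=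
    Submodule.span_le.2 (IntermediateField.subset_adjoin k _)
  have hK : ∀ (σ : G), ∀ c ∈ Kx, σ • c ∈ Kx := by
    intro σ c hc
    have h1 : Kx.map ((σ : L ≃ₐ[k] L) : L →ₐ[k] L) ≤ Kx := by
      rw [hKx, IntermediateField.adjoin_map, IntermediateField.adjoin_le_iff]
      rintro _ ⟨_, ⟨i, rfl⟩, rfl⟩
      exact hspanK (hx σ σ.2 i)
    exact h1 ⟨c, hc, rfl⟩
  have hfaith' : ∀ σ : G, (∀ c ∈ Kx, σ • c = c) → σ = 1 := by
    intro σ h
    have := hfaith σ σ.2 (fun i => h _ (IntermediateField.subset_adjoin k _ ⟨i, rfl⟩))
    exact Subtype.ext this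
  -- algebraic independence
  have hX : AlgebraicIndependent k (fun v : Fin n ⊕ Fin m => (InvFld.X v : L)) :=
    (MvPolynomial.algebraicIndependent_X (Fin n ⊕ Fin m) k).map'
      (f := IsScalarTower.toAlgHom k (MvPolynomial (Fin n ⊕ Fin m) k) L)
      (IsFractionRing.injective _ _)
  have hsum : AlgebraicIndependent k (Sum.elim ys xs) := by
    have h1 : Sum.elim ys xs = (fun v : Fin n ⊕ Fin m => (InvFld.X v : L)) ∘ Sum.swap := by
      funext v
      cases v <;> rfl
    rw [h1]
    exact hX.comp _ Sum.swap_leftInverse.injective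
  have hyA : AlgebraicIndependent (Algebra.adjoin k (Set.range xs)) ys :=
    (AlgebraicIndependent.sumElim_iff.1 hsum).2
  have hyK : AlgebraicIndependent ↥Kx ys :=
    algebraicIndependent_fraction (A := Algebra.adjoin k (Set.range xs)) (K := ↥Kx) ys hyA
  -- generation
  have hgen : IntermediateField.adjoin ↥Kx (Set.range ys) = ⊤ := by
    rw [eq_top_iff]
    intro z _
    set M : IntermediateField ↥Kx L := IntermediateField.adjoin ↥Kx (Set.range ys) with hM
    have hpoly : ∀ p : MvPolynomial (Fin n ⊕ Fin m) k, algebraMap _ L p ∈ M := by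
      intro p
      induction p using MvPolynomial.induction_on with
      | C a =>
        have : algebraMap (MvPolynomial (Fin n ⊕ Fin m) k) L (MvPolynomial.C a) = algebraMap k L a := by
          rw [← MvPolynomial.algebraMap_eq, ← IsScalarTower.algebraMap_apply]
        rw [this]
        exact M.algebraMap_mem ⟨algebraMap k L a, Kx.algebraMap_mem a⟩
      | add p q hp hq => rw [map_add]; exact M.add_mem hp hq
      | mul_X p v hp =>
        rw [map_mul]
        refine M.mul_mem hp ?_
        cases v with
        | inl i =>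
          exact M.algebraMap_mem ⟨xs i, IntermediateField.subset_adjoin k _ ⟨i, rfl⟩⟩
        | inr j =>
          exact IntermediateField.subset_adjoin _ _ ⟨j, rfl⟩
    obtain ⟨a, b, hb, rfl⟩ := IsFractionRing.div_surjective (A := MvPolynomial (Fin n ⊕ Fin m) k) z
    exact M.div_mem (hpoly a) (hpoly b)
  -- stability of the span of the ys
  have hyG : ∀ (σ : G) (j : Fin m), σ • ys j ∈ Submodule.span ↥Kx (Set.range ys) := by
    intro σ j
    exact Submodule.span_subset_span k ↥Kx _ (hy σ σ.2 j)
  obtain ⟨t, htinv, htli, htspan⟩ :=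
    exists_invariant_basis Kx hK hfaith' ys hyK.linearIndependent hyG
  have htK : AlgebraicIndependent ↥Kx t := algebraicIndependent_of_span_eq ys t hyK htli htspan
  have httop : IntermediateField.adjoin ↥Kx (Set.range t) = ⊤ :=
    adjoin_eq_top_of_span_eq ys t hgen htspan
  refine ⟨t, ?_, ?_⟩
  · letI : Algebra ↥(Kx ⊓ IntermediateField.fixedField G) ↥Kx :=
      (IntermediateField.inclusion (inf_le_left : Kx ⊓ IntermediateField.fixedField G ≤ Kx)).toRingHom.toAlgebra
    haveI : IsScalarTower ↥(Kx ⊓ IntermediateField.fixedField G) ↥Kx L :=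
      IsScalarTower.of_algebraMap_eq (fun _ => rfl)
    exact htK.restrictScalars (K := ↥Kx)
      (IntermediateField.inclusion (inf_le_left : Kx ⊓ IntermediateField.fixedField G ≤ Kx)).injective
  · exact fixed_eq_adjoin Kx hK t htinv httop

end main


/-- Let k be a characteristic-zero field and suppose a finite group acts k-linearly on
finite-dimensional k-vector spaces V and W, faithfully on V. Then k(V ⊕ W)^G is purely
transcendental over k(V)^G, of transcendence degree dim W. Stated with V = k^n, W = k^m inside L =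
k(x_1, ..., x_n, y_1, ..., y_m): G is a finite group of k-algebra automorphisms of L sending each
x_i into the k-span of the x's and each y_j into the k-span of the y's, such that an element of G
fixing every x_i is trivial; F is the intersection of k(x_1, ..., x_n) with the fixed field of G;
then there are y'_1, ..., y'_m in L, algebraically independent over F, with F(y'_1, ..., y'_m) equal
to the fixed field of G. -/
theorem result (k : Type u) [Field k] [CharZero k] (n m : ℕ)
    (G : Subgroup (InvFld.Fld (Fin n ⊕ Fin m) k ≃ₐ[k] InvFld.Fld (Fin n ⊕ Fin m) k)) [Finite G]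
    (hx : ∀ σ ∈ G, ∀ i : Fin n, σ (InvFld.X (Sum.inl i)) ∈ Submodule.span k (Set.range fun j : Fin n => (InvFld.X (Sum.inl j) : InvFld.Fld (Fin n ⊕ Fin m) k)))
    (hy : ∀ σ ∈ G, ∀ i : Fin m, σ (InvFld.X (Sum.inr i)) ∈ Submodule.span k (Set.range fun j : Fin m => (InvFld.X (Sum.inr j) : InvFld.Fld (Fin n ⊕ Fin m) k)))
    (hfaith : ∀ σ ∈ G, (∀ i : Fin n, σ (InvFld.X (Sum.inl i)) = InvFld.X (Sum.inl i)) → σ = 1) :
    ∃ t : Fin m → InvFld.Fld (Fin n ⊕ Fin m) k,
      AlgebraicIndependent (↥(IntermediateField.adjoin k (Set.range fun j : Fin n => (InvFld.X (Sum.inl j) : InvFld.Fld (Fin n ⊕ Fin m) k)) ⊓ IntermediateField.fixedField G)) t ∧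
      IntermediateField.restrictScalars k (IntermediateField.adjoin (↥(IntermediateField.adjoin k (Set.range fun j : Fin n => (InvFld.X (Sum.inl j) : InvFld.Fld (Fin n ⊕ Fin m) k)) ⊓ IntermediateField.fixedField G)) (Set.range t)) =
        IntermediateField.fixedField G := by
  exact main k n m G hx hy hfaith

end Groth.Agent.S15697
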