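import Mathlib
import Groth.Statements.S15696
import Groth.Agent.S15697

set_option autoImplicit false
universe u
open InvFld

namespace Groth.Agent.S15696


open Groth.Agent.S15697


section generic

theorem main_generic {k L : Type*} [Field k] [Field L] [Algebra k L] [CharZero L]
    {Γ : Type*} [Group Γ] [Fintype Γ] [DecidableEq Γ]
    [MulSemiringAction Γ L] [SMulCommClass Γ k L] (K : IntermediateField k L)
    (hK : ∀ (σ : Γ), ∀ c ∈ K, σ • c ∈ K) (hfaith : ∀ σ : Γ, (∀ c ∈ K, σ • c = c) → σ = 1)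
    {m : ℕ} (ys : Fin m → L) (hyK : AlgebraicIndependent ↥K ys)
    (hgen : IntermediateField.adjoin ↥K (Set.range ys) = ⊤)
    (hyG : ∀ (σ : Γ) (j : Fin m), σ • ys j ∈ Submodule.span ↥K (Set.range ys)) :
    ∃ t : Fin m → L, AlgebraicIndependent ↥(K ⊓ FixedPoints.intermediateField Γ) t ∧
      IntermediateField.restrictScalars k
        (IntermediateField.adjoin ↥(K ⊓ FixedPoints.intermediateField Γ) (Set.range t)) =
        FixedPoints.intermediateField Γ := by
  obtain ⟨t, htinv, htli, htspan⟩ :=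
    exists_invariant_basis K hK hfaith ys hyK.linearIndependent hyG
  have htK : AlgebraicIndependent ↥K t := algebraicIndependent_of_span_eq ys t hyK htli htspan
  have httop : IntermediateField.adjoin ↥K (Set.range t) = ⊤ :=
    adjoin_eq_top_of_span_eq ys t hgen htspan
  refine ⟨t, ?_, fixed_eq_adjoin K hK t htinv httop⟩
  letI : Algebra ↥(K ⊓ FixedPoints.intermediateField Γ) ↥K :=
    (IntermediateField.inclusion
      (inf_le_left : K ⊓ FixedPoints.intermediateField Γ ≤ K)).toRingHom.toAlgebra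
  haveI : IsScalarTower ↥(K ⊓ FixedPoints.intermediateField Γ) ↥K L :=
    IsScalarTower.of_algebraMap_eq (fun _ => rfl)
  exact htK.restrictScalars (K := ↥K)
    (IntermediateField.inclusion
      (inf_le_left : K ⊓ FixedPoints.intermediateField Γ ≤ K)).injective

end generic

section emb

variable (k : Type u) [Field k] {σ τ : Type} (f : σ → τ) (hf : Function.Injective f)

include hf in
theorem emb_inj_aux : Function.Injective
    ((IsScalarTower.toAlgHom k (MvPolynomial τ k) (InvFld.Fld τ k)).comp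
      (MvPolynomial.rename f)) := by
  intro a b h
  apply MvPolynomial.rename_injective f hf
  apply IsFractionRing.injective (MvPolynomial τ k) (InvFld.Fld τ k)
  exact h

/-- The embedding `k(x_i : i ∈ σ) → k(x_j : j ∈ τ)` induced by an injection of index types. -/
noncomputable def emb : InvFld.Fld σ k →ₐ[k] InvFld.Fld τ k :=
  IsFractionRing.liftAlgHom (emb_inj_aux k f hf)

theorem emb_algebraMap (p : MvPolynomial σ k) :
    emb k f hf (algebraMap _ _ p) = algebraMap _ _ (MvPolynomial.rename f p) := by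
  rw [emb, IsFractionRing.liftAlgHom_apply, IsFractionRing.lift_algebraMap]
  rfl

theorem emb_X (i : σ) : emb k f hf (InvFld.X i) = InvFld.X (f i) := by
  rw [InvFld.X, emb_algebraMap, MvPolynomial.rename_X]

end emb

section lift

variable {k : Type u} [Field k] {ι : Type}

/-- A linear automorphism of `k(x)` has polynomial values on the variables. -/
theorem exists_poly_lift (s : InvFld.Fld ι k ≃ₐ[k] InvFld.Fld ι k)
    (hs : ∀ i, s (InvFld.X i) ∈ Submodule.span k (Set.range fun j : ι => (InvFld.X j : InvFld.Fld ι k))) :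
    ∃ p : ι → MvPolynomial ι k, ∀ i, algebraMap _ (InvFld.Fld ι k) (p i) = s (InvFld.X i) := by
  have hle : Submodule.span k (Set.range fun j : ι => (InvFld.X j : InvFld.Fld ι k)) ≤
      LinearMap.range (Algebra.linearMap (MvPolynomial ι k) (InvFld.Fld ι k) |>.restrictScalars k) := by
    rw [Submodule.span_le]
    rintro _ ⟨j, rfl⟩
    exact ⟨MvPolynomial.X j, rfl⟩
  choose p hp using fun i => hle (hs i)
  exact ⟨p, hp⟩

/-- Compatibility of a polynomial lift with evaluation. -/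
theorem algebraMap_aeval_lift (s : InvFld.Fld ι k ≃ₐ[k] InvFld.Fld ι k)
    (p : ι → MvPolynomial ι k) (hp : ∀ i, algebraMap _ (InvFld.Fld ι k) (p i) = s (InvFld.X i))
    (f : MvPolynomial ι k) :
    algebraMap _ (InvFld.Fld ι k) (MvPolynomial.aeval p f) = s (algebraMap _ _ f) := by
  have h : (IsScalarTower.toAlgHom k (MvPolynomial ι k) (InvFld.Fld ι k)).comp (MvPolynomial.aeval p) =
      (s : InvFld.Fld ι k →ₐ[k] InvFld.Fld ι k).comp
        (IsScalarTower.toAlgHom k (MvPolynomial ι k) (InvFld.Fld ι k)) := by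
    refine MvPolynomial.algHom_ext fun i => ?_
    simp only [AlgHom.comp_apply, MvPolynomial.aeval_X, IsScalarTower.coe_toAlgHom']
    exact hp i
  exact AlgHom.congr_fun h f

theorem aeval_lift_inv (s : InvFld.Fld ι k ≃ₐ[k] InvFld.Fld ι k)
    (p p' : ι → MvPolynomial ι k) (hp : ∀ i, algebraMap _ (InvFld.Fld ι k) (p i) = s (InvFld.X i))
    (hp' : ∀ i, algebraMap _ (InvFld.Fld ι k) (p' i) = s.symm (InvFld.X i)) (i : ι) :
    MvPolynomial.aeval p' (p i) = MvPolynomial.X i := by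
  apply IsFractionRing.injective (MvPolynomial ι k) (InvFld.Fld ι k)
  rw [algebraMap_aeval_lift s.symm p' hp', hp]
  exact s.symm_apply_apply _

end lift


section extend

variable {k : Type u} [Field k] {ι₁ ι₂ : Type}

/-- Extending a pair of linear automorphisms of `k(x)` and `k(y)` to `k(x, y)`. -/
theorem exists_extension (s : InvFld.Fld ι₁ k ≃ₐ[k] InvFld.Fld ι₁ k)
    (r : InvFld.Fld ι₂ k ≃ₐ[k] InvFld.Fld ι₂ k)
    (p p' : ι₁ → MvPolynomial ι₁ k) (hp : ∀ i, algebraMap _ (InvFld.Fld ι₁ k) (p i) = s (InvFld.X i))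
    (hp' : ∀ i, algebraMap _ (InvFld.Fld ι₁ k) (p' i) = s.symm (InvFld.X i))
    (q q' : ι₂ → MvPolynomial ι₂ k) (hq : ∀ i, algebraMap _ (InvFld.Fld ι₂ k) (q i) = r (InvFld.X i))
    (hq' : ∀ i, algebraMap _ (InvFld.Fld ι₂ k) (q' i) = r.symm (InvFld.X i)) :
    ∃ Φ : InvFld.Fld (ι₁ ⊕ ι₂) k ≃ₐ[k] InvFld.Fld (ι₁ ⊕ ι₂) k,
      (∀ z, Φ (emb k Sum.inl Sum.inl_injective z) = emb k Sum.inl Sum.inl_injective (s z)) ∧
      (∀ z, Φ (emb k Sum.inr Sum.inr_injective z) = emb k Sum.inr Sum.inr_injective (r z)) := by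
  let u : ι₁ ⊕ ι₂ → MvPolynomial (ι₁ ⊕ ι₂) k :=
    Sum.elim (fun i => MvPolynomial.rename Sum.inl (p i)) (fun j => MvPolynomial.rename Sum.inr (q j))
  let u' : ι₁ ⊕ ι₂ → MvPolynomial (ι₁ ⊕ ι₂) k :=
    Sum.elim (fun i => MvPolynomial.rename Sum.inl (p' i)) (fun j => MvPolynomial.rename Sum.inr (q' j))
  let φ : MvPolynomial (ι₁ ⊕ ι₂) k →ₐ[k] MvPolynomial (ι₁ ⊕ ι₂) k := MvPolynomial.aeval u
  let φ' : MvPolynomial (ι₁ ⊕ ι₂) k →ₐ[k] MvPolynomial (ι₁ ⊕ ι₂) k := MvPolynomial.aeval u'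
  have K1 : ∀ f : MvPolynomial ι₁ k, φ (MvPolynomial.rename Sum.inl f) =
      MvPolynomial.rename Sum.inl (MvPolynomial.aeval p f) := by
    intro f
    have h : φ.comp (MvPolynomial.rename Sum.inl) =
        (MvPolynomial.rename Sum.inl : MvPolynomial ι₁ k →ₐ[k] MvPolynomial (ι₁ ⊕ ι₂) k).comp
          (MvPolynomial.aeval p) := by
      refine MvPolynomial.algHom_ext fun i => ?_
      simp only [AlgHom.comp_apply, MvPolynomial.rename_X, MvPolynomial.aeval_X, φ, u, Sum.elim_inl]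
    exact AlgHom.congr_fun h f
  have K1' : ∀ f : MvPolynomial ι₁ k, φ' (MvPolynomial.rename Sum.inl f) =
      MvPolynomial.rename Sum.inl (MvPolynomial.aeval p' f) := by
    intro f
    have h : φ'.comp (MvPolynomial.rename Sum.inl) =
        (MvPolynomial.rename Sum.inl : MvPolynomial ι₁ k →ₐ[k] MvPolynomial (ι₁ ⊕ ι₂) k).comp
          (MvPolynomial.aeval p') := by
      refine MvPolynomial.algHom_ext fun i => ?_
      simp only [AlgHom.comp_apply, MvPolynomial.rename_X, MvPolynomial.aeval_X, φ', u', Sum.elim_inl]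
    exact AlgHom.congr_fun h f
  have K2 : ∀ f : MvPolynomial ι₂ k, φ (MvPolynomial.rename Sum.inr f) =
      MvPolynomial.rename Sum.inr (MvPolynomial.aeval q f) := by
    intro f
    have h : φ.comp (MvPolynomial.rename Sum.inr) =
        (MvPolynomial.rename Sum.inr : MvPolynomial ι₂ k →ₐ[k] MvPolynomial (ι₁ ⊕ ι₂) k).comp
          (MvPolynomial.aeval q) := by
      refine MvPolynomial.algHom_ext fun i => ?_
      simp only [AlgHom.comp_apply, MvPolynomial.rename_X, MvPolynomial.aeval_X, φ, u, Sum.elim_inr]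
    exact AlgHom.congr_fun h f
  have K2' : ∀ f : MvPolynomial ι₂ k, φ' (MvPolynomial.rename Sum.inr f) =
      MvPolynomial.rename Sum.inr (MvPolynomial.aeval q' f) := by
    intro f
    have h : φ'.comp (MvPolynomial.rename Sum.inr) =
        (MvPolynomial.rename Sum.inr : MvPolynomial ι₂ k →ₐ[k] MvPolynomial (ι₁ ⊕ ι₂) k).comp
          (MvPolynomial.aeval q') := by
      refine MvPolynomial.algHom_ext fun i => ?_
      simp only [AlgHom.comp_apply, MvPolynomial.rename_X, MvPolynomial.aeval_X, φ', u', Sum.elim_inr]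
    exact AlgHom.congr_fun h f
  have h1 : φ'.comp φ = AlgHom.id k _ := by
    refine MvPolynomial.algHom_ext fun v => ?_
    cases v with
    | inl i =>
      simp only [AlgHom.comp_apply, AlgHom.id_apply]
      have : φ (MvPolynomial.X (Sum.inl i)) = MvPolynomial.rename Sum.inl (p i) := by
        simp only [φ, u, MvPolynomial.aeval_X, Sum.elim_inl]
      rw [this, K1', aeval_lift_inv s p p' hp hp', MvPolynomial.rename_X]
    | inr j =>
      simp only [AlgHom.comp_apply, AlgHom.id_apply]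
      have : φ (MvPolynomial.X (Sum.inr j)) = MvPolynomial.rename Sum.inr (q j) := by
        simp only [φ, u, MvPolynomial.aeval_X, Sum.elim_inr]
      rw [this, K2', aeval_lift_inv r q q' hq hq', MvPolynomial.rename_X]
  have h2 : φ.comp φ' = AlgHom.id k _ := by
    refine MvPolynomial.algHom_ext fun v => ?_
    cases v with
    | inl i =>
      simp only [AlgHom.comp_apply, AlgHom.id_apply]
      have : φ' (MvPolynomial.X (Sum.inl i)) = MvPolynomial.rename Sum.inl (p' i) := by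
        simp only [φ', u', MvPolynomial.aeval_X, Sum.elim_inl]
      have hs : ∀ i, algebraMap _ (InvFld.Fld ι₁ k) (p i) = s.symm.symm (InvFld.X i) := hp
      rw [this, K1, aeval_lift_inv s.symm p' p hp' hs, MvPolynomial.rename_X]
    | inr j =>
      simp only [AlgHom.comp_apply, AlgHom.id_apply]
      have : φ' (MvPolynomial.X (Sum.inr j)) = MvPolynomial.rename Sum.inr (q' j) := by
        simp only [φ', u', MvPolynomial.aeval_X, Sum.elim_inr]
      have hr : ∀ i, algebraMap _ (InvFld.Fld ι₂ k) (q i) = r.symm.symm (InvFld.X i) := hq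
      rw [this, K2, aeval_lift_inv r.symm q' q hq' hr, MvPolynomial.rename_X]
  let φe : MvPolynomial (ι₁ ⊕ ι₂) k ≃ₐ[k] MvPolynomial (ι₁ ⊕ ι₂) k := AlgEquiv.ofAlgHom φ φ' h2 h1
  let Φ : InvFld.Fld (ι₁ ⊕ ι₂) k ≃ₐ[k] InvFld.Fld (ι₁ ⊕ ι₂) k :=
    IsFractionRing.algEquivOfAlgEquiv φe
  have hΦ : ∀ f : MvPolynomial (ι₁ ⊕ ι₂) k, Φ (algebraMap _ _ f) = algebraMap _ _ (φ f) :=
    fun f => IsFractionRing.algEquivOfAlgEquiv_algebraMap φe f
  refine ⟨Φ, fun z => ?_, fun z => ?_⟩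
  · have h : ((Φ : InvFld.Fld (ι₁ ⊕ ι₂) k →ₐ[k] InvFld.Fld (ι₁ ⊕ ι₂) k).comp
        (emb k Sum.inl Sum.inl_injective)).toRingHom =
        ((emb k Sum.inl Sum.inl_injective).comp
          (s : InvFld.Fld ι₁ k →ₐ[k] InvFld.Fld ι₁ k)).toRingHom := by
      refine IsFractionRing.ringHom_ext (A := MvPolynomial ι₁ k) fun f => ?_
      show Φ (emb k Sum.inl Sum.inl_injective (algebraMap _ _ f)) =
        emb k Sum.inl Sum.inl_injective (s (algebraMap _ _ f))
      rw [emb_algebraMap, hΦ, K1, ← algebraMap_aeval_lift s p hp, emb_algebraMap]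
    exact RingHom.congr_fun h z
  · have h : ((Φ : InvFld.Fld (ι₁ ⊕ ι₂) k →ₐ[k] InvFld.Fld (ι₁ ⊕ ι₂) k).comp
        (emb k Sum.inr Sum.inr_injective)).toRingHom =
        ((emb k Sum.inr Sum.inr_injective).comp
          (r : InvFld.Fld ι₂ k →ₐ[k] InvFld.Fld ι₂ k)).toRingHom := by
      refine IsFractionRing.ringHom_ext (A := MvPolynomial ι₂ k) fun f => ?_
      show Φ (emb k Sum.inr Sum.inr_injective (algebraMap _ _ f)) =
        emb k Sum.inr Sum.inr_injective (r (algebraMap _ _ f))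
      rw [emb_algebraMap, hΦ, K2, ← algebraMap_aeval_lift r q hq, emb_algebraMap]
    exact RingHom.congr_fun h z

end extend


section isos

variable {k : Type u} [Field k]

/-- `F(t) ≅ Frac F[T]` for an algebraically independent family. -/
theorem iso_a {L : Type u} [Field L] [Algebra k L] (F E : IntermediateField k L) {m : ℕ}
    (t : Fin m → L) (ht : AlgebraicIndependent ↥F t)
    (h : IntermediateField.restrictScalars k (IntermediateField.adjoin ↥F (Set.range t)) = E) :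
    Nonempty (InvFld.Fld (Fin m) ↥F ≃ₐ[k] ↥E) := by
  let e1 : InvFld.Fld (Fin m) ↥F ≃ₐ[k] ↥(IntermediateField.adjoin ↥F (Set.range t)) :=
    (ht.aevalEquivField).restrictScalars k
  let e2 : ↥(IntermediateField.adjoin ↥F (Set.range t)) ≃ₐ[k] ↥E :=
    { toFun := fun x => ⟨x.1, h ▸ (show x.1 ∈ IntermediateField.restrictScalars k
        (IntermediateField.adjoin ↥F (Set.range t)) from x.2)⟩
      invFun := fun x => ⟨x.1, by
        have h3 : (x : L) ∈ IntermediateField.restrictScalars k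
            (IntermediateField.adjoin ↥F (Set.range t)) := by rw [h]; exact x.2
        exact h3⟩
      left_inv := fun _ => rfl
      right_inv := fun _ => rfl
      map_mul' := fun _ _ => rfl
      map_add' := fun _ _ => rfl
      commutes' := fun _ => rfl }
  exact ⟨e1.trans e2⟩

/-- Functoriality of `Fld (Fin m) -` in the coefficient field. -/
theorem iso_c {F F' : Type u} [Field F] [Field F'] [Algebra k F] [Algebra k F'] (e : F ≃ₐ[k] F')
    (m : ℕ) : Nonempty (InvFld.Fld (Fin m) F ≃ₐ[k] InvFld.Fld (Fin m) F') :=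
  ⟨IsFractionRing.algEquivOfAlgEquiv (MvPolynomial.mapAlgEquiv (Fin m) e)⟩

/-- Transport of fixed fields along an equivariant embedding. -/
theorem iso_b {L₀ L : Type u} [Field L₀] [Field L] [Algebra k L₀] [Algebra k L]
    (ι : L₀ →ₐ[k] L) (G₀ : Subgroup (L₀ ≃ₐ[k] L₀)) (Γ : Subgroup (L ≃ₐ[k] L))
    (K : IntermediateField k L) (hK : K = ι.fieldRange)
    (h1 : ∀ Φ ∈ Γ, ∃ g ∈ G₀, ∀ z, Φ (ι z) = ι (g z))
    (h2 : ∀ g ∈ G₀, ∃ Φ ∈ Γ, ∀ z, Φ (ι z) = ι (g z)) :
    Nonempty (↥(IntermediateField.fixedField G₀) ≃ₐ[k] ↥(K ⊓ IntermediateField.fixedField Γ)) := by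
  have hmem : ∀ z : ↥(IntermediateField.fixedField G₀),
      ι (z : L₀) ∈ (K ⊓ IntermediateField.fixedField Γ).toSubalgebra := by
    intro z
    refine ⟨hK ▸ ⟨z, rfl⟩, ?_⟩
    rw [SetLike.mem_coe, IntermediateField.mem_fixedField_iff]
    intro Φ hΦ
    obtain ⟨g, hg, hgΦ⟩ := h1 Φ hΦ
    rw [hgΦ, (IntermediateField.mem_fixedField_iff G₀ _).1 z.2 g hg]
  let f : ↥(IntermediateField.fixedField G₀) →ₐ[k] ↥(K ⊓ IntermediateField.fixedField Γ) :=
    (ι.comp (IntermediateField.fixedField G₀).val).codRestrict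
      (K ⊓ IntermediateField.fixedField Γ).toSubalgebra hmem
  have hf : ∀ z, ((f z : ↥(K ⊓ IntermediateField.fixedField Γ)) : L) = ι (z : L₀) := fun z => rfl
  refine ⟨AlgEquiv.ofBijective f ⟨?_, ?_⟩⟩
  · intro a b hab
    have := congrArg Subtype.val hab
    rw [hf, hf] at this
    exact Subtype.ext (ι.toRingHom.injective this)
  · rintro ⟨w, hwK, hwΓ⟩
    rw [hK] at hwK
    obtain ⟨z, rfl⟩ := hwK
    have hz : z ∈ IntermediateField.fixedField G₀ := by
      rw [IntermediateField.mem_fixedField_iff]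
      intro g hg
      obtain ⟨Φ, hΦ, hgΦ⟩ := h2 g hg
      apply ι.toRingHom.injective
      show ι (g z) = ι z
      rw [← hgΦ]
      exact (IntermediateField.mem_fixedField_iff Γ _).1 hwΓ Φ hΦ
    exact ⟨⟨z, hz⟩, Subtype.ext rfl⟩

end isos

section big

open scoped IntermediateField.algebraAdjoinAdjoin

variable (k : Type u) [Field k] {σ ρ τ : Type} (f : σ → τ) (g : ρ → τ)

theorem indep_gen (hfg : Function.Bijective (Sum.elim g f)) :
    AlgebraicIndependent
      ↥(IntermediateField.adjoin k (Set.range fun i : σ => (InvFld.X (f i) : InvFld.Fld τ k)))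
      (fun j : ρ => (InvFld.X (g j) : InvFld.Fld τ k)) ∧
    IntermediateField.adjoin
      ↥(IntermediateField.adjoin k (Set.range fun i : σ => (InvFld.X (f i) : InvFld.Fld τ k)))
      (Set.range fun j : ρ => (InvFld.X (g j) : InvFld.Fld τ k)) = ⊤ := by
  set L := InvFld.Fld τ k with hL
  set xs : σ → L := fun i => InvFld.X (f i) with hxs
  set ys : ρ → L := fun j => InvFld.X (g j) with hys
  set Kx : IntermediateField k L := IntermediateField.adjoin k (Set.range xs) with hKx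
  have hX : AlgebraicIndependent k (fun v : τ => (InvFld.X v : L)) :=
    (MvPolynomial.algebraicIndependent_X τ k).map'
      (f := IsScalarTower.toAlgHom k (MvPolynomial τ k) L)
      (IsFractionRing.injective _ _)
  have hsum : AlgebraicIndependent k (Sum.elim ys xs) := by
    have h1 : Sum.elim ys xs = (fun v : τ => (InvFld.X v : L)) ∘ Sum.elim g f := by
      funext v
      cases v <;> rfl
    rw [h1]
    exact hX.comp _ hfg.1
  have hyA : AlgebraicIndependent (Algebra.adjoin k (Set.range xs)) ys :=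
    (AlgebraicIndependent.sumElim_iff.1 hsum).2
  refine ⟨algebraicIndependent_fraction (A := Algebra.adjoin k (Set.range xs)) (K := ↥Kx) ys hyA, ?_⟩
  rw [eq_top_iff]
  intro z _
  set M : IntermediateField ↥Kx L := IntermediateField.adjoin ↥Kx (Set.range ys) with hM
  have hpoly : ∀ p : MvPolynomial τ k, algebraMap _ L p ∈ M := by
    intro p
    induction p using MvPolynomial.induction_on with
    | C a =>
      have : algebraMap (MvPolynomial τ k) L (MvPolynomial.C a) = algebraMap k L a := by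
        rw [← MvPolynomial.algebraMap_eq, ← IsScalarTower.algebraMap_apply]
      rw [this]
      exact M.algebraMap_mem ⟨algebraMap k L a, Kx.algebraMap_mem a⟩
    | add p q hp hq => rw [map_add]; exact M.add_mem hp hq
    | mul_X p v hp =>
      rw [map_mul]
      refine M.mul_mem hp ?_
      obtain ⟨w, rfl⟩ := hfg.2 v
      cases w with
      | inl j => exact IntermediateField.subset_adjoin _ _ ⟨j, rfl⟩
      | inr i => exact M.algebraMap_mem ⟨xs i, IntermediateField.subset_adjoin k _ ⟨i, rfl⟩⟩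
  obtain ⟨a, b, hb, rfl⟩ := IsFractionRing.div_surjective (A := MvPolynomial τ k) z
  exact M.div_mem (hpoly a) (hpoly b)

theorem fieldRange_emb (hf : Function.Injective f) :
    (emb k f hf).fieldRange =
      IntermediateField.adjoin k (Set.range fun i : σ => (InvFld.X (f i) : InvFld.Fld τ k)) := by
  apply le_antisymm
  · rintro _ ⟨z, rfl⟩
    set M := IntermediateField.adjoin k
      (Set.range fun i : σ => (InvFld.X (f i) : InvFld.Fld τ k)) with hM
    have hpoly : ∀ p : MvPolynomial σ k, emb k f hf (algebraMap _ _ p) ∈ M := by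
      intro p
      induction p using MvPolynomial.induction_on with
      | C a =>
        have : algebraMap (MvPolynomial σ k) (InvFld.Fld σ k) (MvPolynomial.C a) =
            algebraMap k _ a := by
          rw [← MvPolynomial.algebraMap_eq, ← IsScalarTower.algebraMap_apply]
        rw [this, AlgHom.commutes]
        exact M.algebraMap_mem a
      | add p q hp hq => rw [map_add, map_add]; exact M.add_mem hp hq
      | mul_X p v hp =>
        rw [map_mul, map_mul]
        refine M.mul_mem hp ?_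
        show emb k f hf (InvFld.X v) ∈ M
        rw [emb_X]
        exact IntermediateField.subset_adjoin k _ ⟨v, rfl⟩
    obtain ⟨a, b, hb, rfl⟩ := IsFractionRing.div_surjective (A := MvPolynomial σ k) z
    show emb k f hf (_ / _) ∈ M
    rw [map_div₀]
    exact M.div_mem (hpoly a) (hpoly b)
  · rw [IntermediateField.adjoin_le_iff]
    rintro _ ⟨i, rfl⟩
    exact ⟨InvFld.X i, emb_X k f hf i⟩

theorem emb_span (hf : Function.Injective f) (z : InvFld.Fld σ k)
    (hz : z ∈ Submodule.span k (Set.range fun j : σ => (InvFld.X j : InvFld.Fld σ k))) :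
    emb k f hf z ∈ Submodule.span k (Set.range fun j : σ => (InvFld.X (f j) : InvFld.Fld τ k)) := by
  have h : Submodule.map (emb k f hf).toLinearMap
      (Submodule.span k (Set.range fun j : σ => (InvFld.X j : InvFld.Fld σ k))) =
      Submodule.span k (Set.range fun j : σ => (InvFld.X (f j) : InvFld.Fld τ k)) := by
    rw [Submodule.map_span, ← Set.range_comp]
    congr 2
    funext i
    exact emb_X k f hf i
  rw [← h]
  exact Submodule.mem_map_of_mem hz

end big

section gam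

variable (k : Type u) [Field k] (ι₁ ι₂ : Type)

/-- The embedding `k(x) → k(x, y)`. -/
noncomputable abbrev i1 : InvFld.Fld ι₁ k →ₐ[k] InvFld.Fld (ι₁ ⊕ ι₂) k :=
  emb k Sum.inl Sum.inl_injective

/-- The embedding `k(y) → k(x, y)`. -/
noncomputable abbrev i2 : InvFld.Fld ι₂ k →ₐ[k] InvFld.Fld (ι₁ ⊕ ι₂) k :=
  emb k Sum.inr Sum.inr_injective

variable {k ι₁ ι₂}

theorem aut_ext (Φ Φ' : InvFld.Fld (ι₁ ⊕ ι₂) k ≃ₐ[k] InvFld.Fld (ι₁ ⊕ ι₂) k)
    (h1 : ∀ z, Φ (i1 k ι₁ ι₂ z) = Φ' (i1 k ι₁ ι₂ z))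
    (h2 : ∀ z, Φ (i2 k ι₁ ι₂ z) = Φ' (i2 k ι₁ ι₂ z)) : Φ = Φ' := by
  have h : ((Φ : InvFld.Fld (ι₁ ⊕ ι₂) k →ₐ[k] InvFld.Fld (ι₁ ⊕ ι₂) k)).toRingHom =
      ((Φ' : InvFld.Fld (ι₁ ⊕ ι₂) k →ₐ[k] InvFld.Fld (ι₁ ⊕ ι₂) k)).toRingHom := by
    refine IsFractionRing.ringHom_ext (A := MvPolynomial (ι₁ ⊕ ι₂) k) fun p => ?_
    have h3 : (Φ : InvFld.Fld (ι₁ ⊕ ι₂) k →ₐ[k] InvFld.Fld (ι₁ ⊕ ι₂) k).comp
        (IsScalarTower.toAlgHom k (MvPolynomial (ι₁ ⊕ ι₂) k) (InvFld.Fld (ι₁ ⊕ ι₂) k)) =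
        (Φ' : InvFld.Fld (ι₁ ⊕ ι₂) k →ₐ[k] InvFld.Fld (ι₁ ⊕ ι₂) k).comp
        (IsScalarTower.toAlgHom k (MvPolynomial (ι₁ ⊕ ι₂) k) (InvFld.Fld (ι₁ ⊕ ι₂) k)) := by
      refine MvPolynomial.algHom_ext fun v => ?_
      cases v with
      | inl i =>
        have := h1 (InvFld.X i)
        rw [emb_X] at this
        exact this
      | inr j =>
        have := h2 (InvFld.X j)
        rw [emb_X] at this
        exact this
    exact AlgHom.congr_fun h3 p
  ext z
  exact RingHom.congr_fun h z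

variable (G : Subgroup (InvFld.Fld ι₁ k ≃ₐ[k] InvFld.Fld ι₁ k))
  (H : Subgroup (InvFld.Fld ι₂ k ≃ₐ[k] InvFld.Fld ι₂ k)) (e : G ≃* H)

/-- The diagonal group acting on `k(x, y)`. -/
noncomputable def Gam : Subgroup (InvFld.Fld (ι₁ ⊕ ι₂) k ≃ₐ[k] InvFld.Fld (ι₁ ⊕ ι₂) k) where
  carrier := {Φ | ∃ g : G,
    (∀ z, Φ (i1 k ι₁ ι₂ z) =
      i1 k ι₁ ι₂ ((g : InvFld.Fld ι₁ k ≃ₐ[k] InvFld.Fld ι₁ k) z)) ∧
    (∀ z, Φ (i2 k ι₁ ι₂ z) =
      i2 k ι₁ ι₂ (((e g : H) : InvFld.Fld ι₂ k ≃ₐ[k] InvFld.Fld ι₂ k) z))}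
  mul_mem' := by
    rintro a b ⟨g, hg1, hg2⟩ ⟨h, hh1, hh2⟩
    refine ⟨g * h, fun z => ?_, fun z => ?_⟩
    · rw [AlgEquiv.mul_apply, hh1, hg1, Subgroup.coe_mul, AlgEquiv.mul_apply]
    · rw [AlgEquiv.mul_apply, hh2, hg2, map_mul, Subgroup.coe_mul, AlgEquiv.mul_apply]
  one_mem' := ⟨1, fun z => by rw [Subgroup.coe_one]; rfl,
    fun z => by rw [map_one, Subgroup.coe_one]; rfl⟩
  inv_mem' := by
    rintro a ⟨g, hg1, hg2⟩
    refine ⟨g⁻¹, fun z => ?_, fun z => ?_⟩
    · apply a.injective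
      rw [hg1, Subgroup.coe_inv]
      have e1 : a (a⁻¹ (i1 k ι₁ ι₂ z)) = i1 k ι₁ ι₂ z := by
        rw [AlgEquiv.aut_inv]; exact a.apply_symm_apply _
      have e2 : (g : InvFld.Fld ι₁ k ≃ₐ[k] InvFld.Fld ι₁ k)
          ((g : InvFld.Fld ι₁ k ≃ₐ[k] InvFld.Fld ι₁ k)⁻¹ z) = z := by
        rw [AlgEquiv.aut_inv]; exact AlgEquiv.apply_symm_apply _ _
      rw [e1, e2]
    · apply a.injective
      rw [hg2, map_inv, Subgroup.coe_inv]
      have e1 : a (a⁻¹ (i2 k ι₁ ι₂ z)) = i2 k ι₁ ι₂ z := by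
        rw [AlgEquiv.aut_inv]; exact a.apply_symm_apply _
      have e2 : ((e g : H) : InvFld.Fld ι₂ k ≃ₐ[k] InvFld.Fld ι₂ k)
          (((e g : H) : InvFld.Fld ι₂ k ≃ₐ[k] InvFld.Fld ι₂ k)⁻¹ z) = z := by
        rw [AlgEquiv.aut_inv]; exact AlgEquiv.apply_symm_apply _ _
      rw [e1, e2]

variable (hG : ∀ σ ∈ G, ∀ i : ι₁, σ (InvFld.X i) ∈
    Submodule.span k (Set.range fun j : ι₁ => (InvFld.X j : InvFld.Fld ι₁ k)))
  (hH : ∀ τ ∈ H, ∀ i : ι₂, τ (InvFld.X i) ∈
    Submodule.span k (Set.range fun j : ι₂ => (InvFld.X j : InvFld.Fld ι₂ k)))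

include hG hH in
theorem exists_mem_Gam (g : G) :
    ∃ Φ : InvFld.Fld (ι₁ ⊕ ι₂) k ≃ₐ[k] InvFld.Fld (ι₁ ⊕ ι₂) k,
      (∀ z, Φ (i1 k ι₁ ι₂ z) =
        i1 k ι₁ ι₂ ((g : InvFld.Fld ι₁ k ≃ₐ[k] InvFld.Fld ι₁ k) z)) ∧
      (∀ z, Φ (i2 k ι₁ ι₂ z) =
        i2 k ι₁ ι₂ (((e g : H) : InvFld.Fld ι₂ k ≃ₐ[k] InvFld.Fld ι₂ k) z)) := by
  obtain ⟨p, hp⟩ := exists_poly_lift (g : InvFld.Fld ι₁ k ≃ₐ[k] InvFld.Fld ι₁ k) (hG g g.2)
  obtain ⟨p', hp'⟩ := exists_poly_lift (g : InvFld.Fld ι₁ k ≃ₐ[k] InvFld.Fld ι₁ k).symm (by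
    have := hG (g⁻¹ : G) (g⁻¹).2
    rwa [Subgroup.coe_inv, AlgEquiv.aut_inv] at this)
  obtain ⟨q, hq⟩ := exists_poly_lift ((e g : H) : InvFld.Fld ι₂ k ≃ₐ[k] InvFld.Fld ι₂ k)
    (hH _ (e g).2)
  obtain ⟨q', hq'⟩ := exists_poly_lift
    ((e g : H) : InvFld.Fld ι₂ k ≃ₐ[k] InvFld.Fld ι₂ k).symm (by
    have := hH ((e g)⁻¹ : H) ((e g)⁻¹).2
    rwa [Subgroup.coe_inv, AlgEquiv.aut_inv] at this)
  exact exists_extension _ _ p p' hp hp' q q' hq hq'

include hG hH in
theorem finite_Gam [Finite G] : Finite ↥(Gam G H e) := by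
  choose ψ hψ1 hψ2 using exists_mem_Gam G H e hG hH
  have hsub : ((Gam G H e : Subgroup _) : Set _) ⊆ Set.range ψ := by
    rintro Φ ⟨g, hg1, hg2⟩
    refine ⟨g, aut_ext _ _ (fun z => ?_) (fun z => ?_)⟩
    · rw [hψ1, hg1]
    · rw [hψ2, hg2]
  exact Set.finite_coe_iff.2 ((Set.finite_range ψ).subset hsub)

end gam

section side

variable {k : Type u} [Field k]

theorem side {L₀ L : Type u} [Field L₀] [Field L] [Algebra k L₀] [Algebra k L] [CharZero L]
    (ι : L₀ →ₐ[k] L) (G₀ : Subgroup (L₀ ≃ₐ[k] L₀)) (Γ : Subgroup (L ≃ₐ[k] L)) [Finite Γ]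
    (K : IntermediateField k L) (hK : K = ι.fieldRange)
    (h1 : ∀ Φ ∈ Γ, ∃ g ∈ G₀, ∀ z, Φ (ι z) = ι (g z))
    (h2 : ∀ g ∈ G₀, ∃ Φ ∈ Γ, ∀ z, Φ (ι z) = ι (g z))
    (hfaith : ∀ Φ ∈ Γ, (∀ z, Φ (ι z) = ι z) → Φ = 1)
    {m : ℕ} (ys : Fin m → L) (hyK : AlgebraicIndependent ↥K ys)
    (hgen : IntermediateField.adjoin ↥K (Set.range ys) = ⊤)
    (hyG : ∀ Φ ∈ Γ, ∀ j, Φ (ys j) ∈ Submodule.span ↥K (Set.range ys)) :
    Nonempty (InvFld.Fld (Fin m) ↥(IntermediateField.fixedField G₀) ≃ₐ[k]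
      ↥(IntermediateField.fixedField Γ)) := by
  classical
  haveI : Fintype Γ := Fintype.ofFinite Γ
  have hKst : ∀ (σ : Γ), ∀ c ∈ K, σ • c ∈ K := by
    intro σ c hc
    rw [hK] at hc ⊢
    obtain ⟨z, rfl⟩ := hc
    obtain ⟨g, _, hg⟩ := h1 σ σ.2
    exact ⟨g z, (hg z).symm⟩
  have hf' : ∀ σ : Γ, (∀ c ∈ K, σ • c = c) → σ = 1 := by
    intro σ h
    apply Subtype.ext
    apply hfaith σ σ.2
    intro z
    exact h _ (hK ▸ ⟨z, rfl⟩)
  obtain ⟨t, ht, hspan⟩ :=
    main_generic (Γ := ↥Γ) K hKst hf' ys hyK hgen (fun σ j => hyG σ σ.2 j)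
  obtain ⟨eb⟩ := iso_b ι G₀ Γ K hK h1 h2
  obtain ⟨ec⟩ := iso_c eb m
  obtain ⟨ea⟩ := iso_a (K ⊓ IntermediateField.fixedField Γ) (IntermediateField.fixedField Γ)
    t ht hspan
  exact ⟨ec.trans ea⟩

end side

section final

variable (k : Type u) [Field k] [CharZero k] (n m : ℕ)
  (G : Subgroup (InvFld.Fld (Fin n) k ≃ₐ[k] InvFld.Fld (Fin n) k)) [Finite G]
  (H : Subgroup (InvFld.Fld (Fin m) k ≃ₐ[k] InvFld.Fld (Fin m) k)) [Finite H] (e : G ≃* H)
  (hG : ∀ σ ∈ G, ∀ i : Fin n, σ (InvFld.X i) ∈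
    Submodule.span k (Set.range fun j : Fin n => (InvFld.X j : InvFld.Fld (Fin n) k)))
  (hH : ∀ τ ∈ H, ∀ i : Fin m, τ (InvFld.X i) ∈
    Submodule.span k (Set.range fun j : Fin m => (InvFld.X j : InvFld.Fld (Fin m) k)))

include hG hH in
theorem side1 :
    haveI : Finite ↥(Gam G H e) := finite_Gam G H e hG hH
    Nonempty (InvFld.Fld (Fin m) ↥(IntermediateField.fixedField G) ≃ₐ[k]
      ↥(IntermediateField.fixedField (Gam G H e))) := by
  haveI : Finite ↥(Gam G H e) := finite_Gam G H e hG hH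
  haveI : CharZero (InvFld.Fld (Fin n ⊕ Fin m) k) :=
    charZero_of_injective_algebraMap (algebraMap k (InvFld.Fld (Fin n ⊕ Fin m) k)).injective
  have hbij : Function.Bijective
      (Sum.elim (Sum.inr : Fin m → Fin n ⊕ Fin m) (Sum.inl : Fin n → Fin n ⊕ Fin m)) := by
    refine ⟨fun a b h => ?_, fun v => ?_⟩
    · cases a <;> cases b <;> simp_all
    · cases v with
      | inl i => exact ⟨Sum.inr i, rfl⟩
      | inr j => exact ⟨Sum.inl j, rfl⟩
  obtain ⟨hind, hgen⟩ := indep_gen k (Sum.inl : Fin n → Fin n ⊕ Fin m)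
    (Sum.inr : Fin m → Fin n ⊕ Fin m) hbij
  refine side (i1 k (Fin n) (Fin m)) G (Gam G H e) _
    (fieldRange_emb k Sum.inl Sum.inl_injective).symm ?_ ?_ ?_ _ hind hgen ?_
  · rintro Φ ⟨g, hg1, hg2⟩
    exact ⟨g, g.2, hg1⟩
  · intro g hg
    obtain ⟨Φ, hΦ1, hΦ2⟩ := exists_mem_Gam G H e hG hH ⟨g, hg⟩
    exact ⟨Φ, ⟨⟨g, hg⟩, hΦ1, hΦ2⟩, hΦ1⟩
  · rintro Φ ⟨g, hg1, hg2⟩ hfix
    have hg : g = 1 := by
      apply Subtype.ext
      ext z
      apply (i1 k (Fin n) (Fin m)).toRingHom.injective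
      show i1 k (Fin n) (Fin m) ((g : InvFld.Fld (Fin n) k ≃ₐ[k] InvFld.Fld (Fin n) k) z) =
        i1 k (Fin n) (Fin m) z
      rw [← hg1, hfix]
    refine aut_ext _ _ (fun z => ?_) (fun z => ?_)
    · rw [hfix]; rfl
    · rw [hg2, hg, map_one]; rfl
  · rintro Φ ⟨g, hg1, hg2⟩ j
    have h3 := hg2 (InvFld.X j)
    rw [emb_X] at h3
    show Φ (InvFld.X (Sum.inr j)) ∈ _
    rw [h3]
    exact Submodule.span_subset_span k _ _
      (emb_span k Sum.inr Sum.inr_injective _ (hH _ (e g).2 j))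

include hG hH in
theorem side2 :
    haveI : Finite ↥(Gam G H e) := finite_Gam G H e hG hH
    Nonempty (InvFld.Fld (Fin n) ↥(IntermediateField.fixedField H) ≃ₐ[k]
      ↥(IntermediateField.fixedField (Gam G H e))) := by
  haveI : Finite ↥(Gam G H e) := finite_Gam G H e hG hH
  haveI : CharZero (InvFld.Fld (Fin n ⊕ Fin m) k) :=
    charZero_of_injective_algebraMap (algebraMap k (InvFld.Fld (Fin n ⊕ Fin m) k)).injective
  have hbij : Function.Bijective
      (Sum.elim (Sum.inl : Fin n → Fin n ⊕ Fin m) (Sum.inr : Fin m → Fin n ⊕ Fin m)) := by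
    refine ⟨fun a b h => ?_, fun v => ?_⟩
    · cases a <;> cases b <;> simp_all
    · cases v with
      | inl i => exact ⟨Sum.inl i, rfl⟩
      | inr j => exact ⟨Sum.inr j, rfl⟩
  obtain ⟨hind, hgen⟩ := indep_gen k (Sum.inr : Fin m → Fin n ⊕ Fin m)
    (Sum.inl : Fin n → Fin n ⊕ Fin m) hbij
  refine side (i2 k (Fin n) (Fin m)) H (Gam G H e) _
    (fieldRange_emb k Sum.inr Sum.inr_injective).symm ?_ ?_ ?_ _ hind hgen ?_
  · rintro Φ ⟨g, hg1, hg2⟩
    exact ⟨(e g : H), (e g).2, hg2⟩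
  · intro h hh
    obtain ⟨Φ, hΦ1, hΦ2⟩ := exists_mem_Gam G H e hG hH (e.symm ⟨h, hh⟩)
    refine ⟨Φ, ⟨e.symm ⟨h, hh⟩, hΦ1, hΦ2⟩, fun z => ?_⟩
    rw [hΦ2, e.apply_symm_apply]
  · rintro Φ ⟨g, hg1, hg2⟩ hfix
    have heg : e g = 1 := by
      apply Subtype.ext
      ext z
      apply (i2 k (Fin n) (Fin m)).toRingHom.injective
      show i2 k (Fin n) (Fin m) (((e g : H) : InvFld.Fld (Fin m) k ≃ₐ[k] InvFld.Fld (Fin m) k) z) =
        i2 k (Fin n) (Fin m) z
      rw [← hg2, hfix]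
    have hg : g = 1 := e.injective (by rw [heg, map_one])
    refine aut_ext _ _ (fun z => ?_) (fun z => ?_)
    · rw [hg1, hg]; rfl
    · rw [hfix]; rfl
  · rintro Φ ⟨g, hg1, hg2⟩ j
    have h3 := hg1 (InvFld.X j)
    rw [emb_X] at h3
    show Φ (InvFld.X (Sum.inl j)) ∈ _
    rw [h3]
    exact Submodule.span_subset_span k _ _
      (emb_span k Sum.inl Sum.inl_injective _ (hG _ g.2 j))

include e hG hH in
theorem final : Nonempty (InvFld.Fld (Fin m) ↥(IntermediateField.fixedField G) ≃ₐ[k]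
    InvFld.Fld (Fin n) ↥(IntermediateField.fixedField H)) := by
  obtain ⟨e1⟩ := side1 k n m G H e hG hH
  obtain ⟨e2⟩ := side2 k n m G H e hG hH
  exact ⟨e1.trans e2.symm⟩

end final


/-- Let k be a characteristic-zero field and suppose a finite group has two faithful finite-dimensional
linear representations V and W over k. Then the fields of invariants k(V)^G and k(W)^G are stably
equivalent. Stated with V = k^n, W = k^m: G and H are finite groups of k-algebra automorphisms of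
k(x_1, ..., x_n) and of k(y_1, ..., y_m), each element sending every variable to a k-linear
combination of the variables, and G, H are isomorphic as abstract groups; then for some r, s the
purely transcendental extension in r variables of the fixed field of G is k-isomorphic to the purely
transcendental extension in s variables of the fixed field of H (existence of an isomorphism only). -/
theorem result (k : Type u) [Field k] [CharZero k] (n m : ℕ)
    (G : Subgroup (InvFld.Fld (Fin n) k ≃ₐ[k] InvFld.Fld (Fin n) k)) [Finite G]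
    (H : Subgroup (InvFld.Fld (Fin m) k ≃ₐ[k] InvFld.Fld (Fin m) k)) [Finite H] (e : G ≃* H)
    (hG : ∀ σ ∈ G, ∀ i : Fin n, σ (InvFld.X i) ∈ Submodule.span k (Set.range fun j : Fin n => (InvFld.X j : InvFld.Fld (Fin n) k)))
    (hH : ∀ τ ∈ H, ∀ i : Fin m, τ (InvFld.X i) ∈ Submodule.span k (Set.range fun j : Fin m => (InvFld.X j : InvFld.Fld (Fin m) k))) :
    ∃ r s : ℕ, Nonempty (InvFld.Fld (Fin r) (IntermediateField.fixedField G) ≃ₐ[k]
      InvFld.Fld (Fin s) (IntermediateField.fixedField H)) := by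
  exact ⟨m, n, final k n m G H e hG hH⟩

end Groth.Agent.S15696
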