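import Mathlib
import Groth.Statements.S15698
import Groth.Agent.S15696

set_option autoImplicit false
universe u
open InvFld

namespace Groth.Agent.S15698


open Groth.Agent.S15697 Groth.Agent.S15696


section perm

variable {k : Type u} [Field k] {ι : Type}

/-- The automorphism of `k(x)` permuting the variables. -/
noncomputable def permAut (π : Equiv.Perm ι) : InvFld.Fld ι k ≃ₐ[k] InvFld.Fld ι k :=
  IsFractionRing.algEquivOfAlgEquiv (MvPolynomial.renameEquiv k π)

theorem permAut_algebraMap (π : Equiv.Perm ι) (p : MvPolynomial ι k) :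
    permAut π (algebraMap _ (InvFld.Fld ι k) p) = algebraMap _ _ (MvPolynomial.rename π p) := by
  rw [permAut, IsFractionRing.algEquivOfAlgEquiv_algebraMap]
  rfl

theorem permAut_X (π : Equiv.Perm ι) (i : ι) :
    permAut (k := k) π (InvFld.X i) = InvFld.X (π i) := by
  rw [InvFld.X, permAut_algebraMap, MvPolynomial.rename_X]

theorem aut_ext1 (Φ Φ' : InvFld.Fld ι k ≃ₐ[k] InvFld.Fld ι k)
    (h1 : ∀ i, Φ (InvFld.X i) = Φ' (InvFld.X i)) : Φ = Φ' := by
  have h : ((Φ : InvFld.Fld ι k →ₐ[k] InvFld.Fld ι k)).toRingHom =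
      ((Φ' : InvFld.Fld ι k →ₐ[k] InvFld.Fld ι k)).toRingHom := by
    refine IsFractionRing.ringHom_ext (A := MvPolynomial ι k) fun p => ?_
    have h3 : (Φ : InvFld.Fld ι k →ₐ[k] InvFld.Fld ι k).comp
        (IsScalarTower.toAlgHom k (MvPolynomial ι k) (InvFld.Fld ι k)) =
        (Φ' : InvFld.Fld ι k →ₐ[k] InvFld.Fld ι k).comp
        (IsScalarTower.toAlgHom k (MvPolynomial ι k) (InvFld.Fld ι k)) := by
      refine MvPolynomial.algHom_ext fun v => ?_
      exact h1 v
    exact AlgHom.congr_fun h3 p
  ext z
  exact RingHom.congr_fun h z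

/-- The permutation representation on `k(x)`. -/
noncomputable def permHom : Equiv.Perm ι →* (InvFld.Fld ι k ≃ₐ[k] InvFld.Fld ι k) where
  toFun := permAut
  map_one' := aut_ext1 _ _ fun i => by rw [permAut_X]; rfl
  map_mul' π π' := aut_ext1 _ _ fun i => by
    rw [permAut_X, AlgEquiv.mul_apply, permAut_X, permAut_X]; rfl

theorem X_injective : Function.Injective (fun i : ι => (InvFld.X i : InvFld.Fld ι k)) := by
  intro i j h
  exact MvPolynomial.X_injective
    (IsFractionRing.injective (MvPolynomial ι k) (InvFld.Fld ι k) h)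

theorem permHom_injective : Function.Injective (permHom (k := k) (ι := ι)) := by
  intro π π' h
  ext i
  have h1 : permAut (k := k) π (InvFld.X i) = permAut π' (InvFld.X i) := by
    have := congrArg (fun Φ : InvFld.Fld ι k ≃ₐ[k] InvFld.Fld ι k => Φ (InvFld.X i)) h
    exact this
  rw [permAut_X, permAut_X] at h1
  exact X_injective h1

end perm

section sym

variable (k : Type u) [Field k] (n : ℕ)

/-- The elementary symmetric functions in `k(x_1, …, x_n)`. -/
noncomputable def esy (i : Fin n) : InvFld.Fld (Fin n) k :=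
  algebraMap (MvPolynomial (Fin n) k) (InvFld.Fld (Fin n) k) (MvPolynomial.esymm (Fin n) k (i + 1))

theorem esy_algInd : AlgebraicIndependent k (esy k n) := by
  have h0 : AlgebraicIndependent k (fun i : Fin n => MvPolynomial.esymm (Fin n) k (i + 1)) := by
    rw [algebraicIndependent_iff_injective_aeval]
    intro p q h
    apply MvPolynomial.esymmAlgHom_fin_injective k (le_refl n)
    apply Subtype.ext
    rw [MvPolynomial.esymmAlgHom_apply, MvPolynomial.esymmAlgHom_apply]
    exact h
  exact h0.map' (f := IsScalarTower.toAlgHom k (MvPolynomial (Fin n) k) (InvFld.Fld (Fin n) k))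
    (IsFractionRing.injective _ _)

theorem fixed_perm :
    IntermediateField.adjoin k (Set.range (esy k n)) =
      IntermediateField.fixedField (permHom (k := k) (ι := Fin n)).range := by
  classical
  set M := IntermediateField.adjoin k (Set.range (esy k n)) with hM
  apply le_antisymm
  · rw [IntermediateField.adjoin_le_iff]
    rintro _ ⟨i, rfl⟩
    rw [SetLike.mem_coe, IntermediateField.mem_fixedField_iff]
    rintro _ ⟨π, rfl⟩
    show permAut π (algebraMap _ _ _) = _
    rw [permAut_algebraMap, MvPolynomial.esymm_isSymmetric (Fin n) k (i + 1) π]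
    rfl
  · intro z hz
    rw [IntermediateField.mem_fixedField_iff] at hz
    have hfix : ∀ π : Equiv.Perm (Fin n), permAut π z = z := fun π => hz _ ⟨π, rfl⟩
    have hsym : ∀ p : MvPolynomial (Fin n) k, p.IsSymmetric →
        algebraMap _ (InvFld.Fld (Fin n) k) p ∈ M := by
      intro p hp
      obtain ⟨q, hq⟩ := (MvPolynomial.esymmAlgHom_fin_bijective k n).2 ⟨p, hp⟩
      have h1 : p = MvPolynomial.aeval
          (fun i : Fin n => MvPolynomial.esymm (Fin n) k (i + 1)) q := by
        rw [← MvPolynomial.esymmAlgHom_apply, hq]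
      have h2 : algebraMap _ (InvFld.Fld (Fin n) k) p = MvPolynomial.aeval (esy k n) q := by
        rw [h1, ← MvPolynomial.aeval_algebraMap_apply]
        rfl
      rw [h2]
      have : MvPolynomial.aeval (esy k n) q ∈ Algebra.adjoin k (Set.range (esy k n)) := by
        rw [Algebra.adjoin_range_eq_range_aeval]; exact ⟨q, rfl⟩
      exact IntermediateField.algebra_adjoin_le_adjoin k _ this
    obtain ⟨a, b, hb, hzab⟩ := IsFractionRing.div_surjective (A := MvPolynomial (Fin n) k) z
    have hb0 : b ≠ 0 := nonZeroDivisors.ne_zero hb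
    set Nb : MvPolynomial (Fin n) k :=
      ∏ π : Equiv.Perm (Fin n), MvPolynomial.rename π b with hNb
    set c : MvPolynomial (Fin n) k :=
      ∏ π ∈ (Finset.univ.erase (1 : Equiv.Perm (Fin n))), MvPolynomial.rename π b with hc
    have hbc : b * c = Nb := by
      rw [hNb, hc, ← Finset.mul_prod_erase Finset.univ _
        (Finset.mem_univ (1 : Equiv.Perm (Fin n)))]
      congr 1
      rw [Equiv.Perm.coe_one, MvPolynomial.rename_id_apply]
    have hNsym : Nb.IsSymmetric := by
      intro π'
      rw [hNb, map_prod]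
      simp only [MvPolynomial.rename_rename]
      exact Fintype.prod_equiv (Equiv.mulLeft π') _ _ (fun π => rfl)
    have hNb0 : Nb ≠ 0 := Finset.prod_ne_zero_iff.2 (fun π _ =>
      (map_ne_zero_iff _ (MvPolynomial.rename_injective _ π.injective)).2 hb0)
    have hc0 : c ≠ 0 := by
      intro h
      apply hNb0
      rw [← hbc, h, mul_zero]
    have hinj := IsFractionRing.injective (MvPolynomial (Fin n) k) (InvFld.Fld (Fin n) k)
    have hb' : algebraMap _ (InvFld.Fld (Fin n) k) b ≠ 0 := (map_ne_zero_iff _ hinj).2 hb0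
    have hc' : algebraMap _ (InvFld.Fld (Fin n) k) c ≠ 0 := (map_ne_zero_iff _ hinj).2 hc0
    have hN' : algebraMap _ (InvFld.Fld (Fin n) k) Nb ≠ 0 := (map_ne_zero_iff _ hinj).2 hNb0
    have hz' : z = algebraMap _ _ (a * c) / algebraMap _ _ Nb := by
      rw [← hzab, ← hbc, map_mul, map_mul, mul_div_mul_right _ _ hc']
    have hdsym : (a * c).IsSymmetric := by
      intro π
      apply hinj
      have h3 : algebraMap _ (InvFld.Fld (Fin n) k) (a * c) = z * algebraMap _ _ Nb := by
        rw [hz', div_mul_cancel₀ _ hN']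
      rw [← permAut_algebraMap, h3, map_mul, hfix π, permAut_algebraMap, hNsym π]
    rw [hz']
    exact M.div_mem (hsym _ hdsym) (hsym Nb hNsym)

/-- The invariant field of the symmetric group is purely transcendental. -/
theorem iso_perm : Nonempty (InvFld.Fld (Fin n) k ≃ₐ[k]
    ↥(IntermediateField.fixedField (permHom (k := k) (ι := Fin n)).range)) :=
  ⟨(esy_algInd k n).aevalEquivField.trans (IntermediateField.equivOfEq (fixed_perm k n))⟩

end sym

section pure

variable {k : Type u} [Field k]

theorem pure_of_iso {E : Type*} [Field E] [Algebra k E] {τ : Type} {N : ℕ} (eqv : τ ≃ Fin N)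
    (φ : InvFld.Fld τ k ≃ₐ[k] E) :
    ∃ t : Fin N → E, AlgebraicIndependent k t ∧ IntermediateField.adjoin k (Set.range t) = ⊤ := by
  have hX : AlgebraicIndependent k (fun v : τ => (InvFld.X v : InvFld.Fld τ k)) :=
    (MvPolynomial.algebraicIndependent_X τ k).map'
      (f := IsScalarTower.toAlgHom k (MvPolynomial τ k) (InvFld.Fld τ k))
      (IsFractionRing.injective _ _)
  have htop : IntermediateField.adjoin k
      (Set.range fun v : τ => (InvFld.X v : InvFld.Fld τ k)) = ⊤ := by
    rw [eq_top_iff]
    intro z _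
    set M := IntermediateField.adjoin k
      (Set.range fun v : τ => (InvFld.X v : InvFld.Fld τ k)) with hM
    have hpoly : ∀ p : MvPolynomial τ k, algebraMap _ (InvFld.Fld τ k) p ∈ M := by
      intro p
      induction p using MvPolynomial.induction_on with
      | C a =>
        have : algebraMap (MvPolynomial τ k) (InvFld.Fld τ k) (MvPolynomial.C a) =
            algebraMap k _ a := by
          rw [← MvPolynomial.algebraMap_eq, ← IsScalarTower.algebraMap_apply]
        rw [this]
        exact M.algebraMap_mem a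
      | add p q hp hq => rw [map_add]; exact M.add_mem hp hq
      | mul_X p v hp =>
        rw [map_mul]
        exact M.mul_mem hp (IntermediateField.subset_adjoin k _ ⟨v, rfl⟩)
    obtain ⟨a, b, hb, rfl⟩ := IsFractionRing.div_surjective (A := MvPolynomial τ k) z
    exact M.div_mem (hpoly a) (hpoly b)
  refine ⟨fun i => φ (InvFld.X (eqv.symm i)), ?_, ?_⟩
  · have h1 := (hX.comp eqv.symm eqv.symm.injective).map'
      (f := (φ : InvFld.Fld τ k →ₐ[k] E)) φ.injective
    exact h1
  · have h2 : Set.range (fun i => φ (InvFld.X (eqv.symm i))) =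
        (φ : InvFld.Fld τ k →ₐ[k] E) ''
          (Set.range fun v : τ => (InvFld.X v : InvFld.Fld τ k)) := by
      ext y
      constructor
      · rintro ⟨i, rfl⟩
        exact ⟨_, ⟨eqv.symm i, rfl⟩, rfl⟩
      · rintro ⟨_, ⟨v, rfl⟩, rfl⟩
        exact ⟨eqv v, by simp⟩
    rw [h2, ← IntermediateField.adjoin_map, htop, ← AlgHom.fieldRange_eq_map]
    exact AlgEquiv.fieldRange_eq_top φ

theorem pure_extend {F : Type u} [Field F] [Algebra k F] (N m : ℕ)
    (φ : InvFld.Fld (Fin N) k ≃ₐ[k] F) :
    Nonempty (InvFld.Fld (Fin N ⊕ Fin m) k ≃ₐ[k] InvFld.Fld (Fin m) F) := by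
  obtain ⟨c1⟩ := iso_c φ m
  have hbij : Function.Bijective
      (Sum.elim (Sum.inr : Fin m → Fin N ⊕ Fin m) (Sum.inl : Fin N → Fin N ⊕ Fin m)) := by
    refine ⟨fun a b h => ?_, fun v => ?_⟩
    · cases a <;> cases b <;> simp_all
    · cases v with
      | inl i => exact ⟨Sum.inr i, rfl⟩
      | inr j => exact ⟨Sum.inl j, rfl⟩
  obtain ⟨hind, hgen⟩ := indep_gen k (Sum.inl : Fin N → Fin N ⊕ Fin m)
    (Sum.inr : Fin m → Fin N ⊕ Fin m) hbij
  have hX : AlgebraicIndependent k
      (fun v : Fin N ⊕ Fin m => (InvFld.X v : InvFld.Fld (Fin N ⊕ Fin m) k)) :=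
    (MvPolynomial.algebraicIndependent_X (Fin N ⊕ Fin m) k).map'
      (f := IsScalarTower.toAlgHom k (MvPolynomial (Fin N ⊕ Fin m) k)
        (InvFld.Fld (Fin N ⊕ Fin m) k))
      (IsFractionRing.injective _ _)
  have hxs : AlgebraicIndependent k
      (fun i : Fin N => (InvFld.X (Sum.inl i) : InvFld.Fld (Fin N ⊕ Fin m) k)) :=
    hX.comp Sum.inl Sum.inl_injective
  obtain ⟨c2⟩ := iso_c hxs.aevalEquivField m
  obtain ⟨c3⟩ := iso_a _ (⊤ : IntermediateField k (InvFld.Fld (Fin N ⊕ Fin m) k)) _ hind
    (by rw [hgen]; exact IntermediateField.restrictScalars_top)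
  exact ⟨IntermediateField.topEquiv.symm.trans (c3.symm.trans (c2.symm.trans c1))⟩

end pure

section final

variable (k : Type u) [Field k] [CharZero k] (n m : ℕ)
  (G : Subgroup (InvFld.Fld (Fin m) k ≃ₐ[k] InvFld.Fld (Fin m) k)) [Finite G]
  (e : G ≃* Equiv.Perm (Fin n))
  (hG : ∀ σ ∈ G, ∀ i : Fin m, σ (InvFld.X i) ∈
    Submodule.span k (Set.range fun j : Fin m => (InvFld.X j : InvFld.Fld (Fin m) k)))

include e hG in
theorem final' : ∃ (r N : ℕ) (t : Fin N → InvFld.Fld (Fin r) (IntermediateField.fixedField G)),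
    AlgebraicIndependent k t ∧ IntermediateField.adjoin k (Set.range t) = ⊤ := by
  set H : Subgroup (InvFld.Fld (Fin n) k ≃ₐ[k] InvFld.Fld (Fin n) k) :=
    (permHom (k := k) (ι := Fin n)).range with hH
  haveI : Finite H := Finite.of_equiv _ (MonoidHom.ofInjective (permHom_injective (k := k) (ι := Fin n))).toEquiv
  have hHlin : ∀ τ ∈ H, ∀ i : Fin n, τ (InvFld.X i) ∈
      Submodule.span k (Set.range fun j : Fin n => (InvFld.X j : InvFld.Fld (Fin n) k)) := by
    rintro _ ⟨π, rfl⟩ i
    show permAut π (InvFld.X i) ∈ _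
    rw [permAut_X]
    exact Submodule.subset_span ⟨π i, rfl⟩
  obtain ⟨e1⟩ := final k m n G H
    (e.trans (MonoidHom.ofInjective (permHom_injective (k := k) (ι := Fin n)))) hG hHlin
  obtain ⟨e2⟩ := iso_perm k n
  obtain ⟨e3⟩ := pure_extend n m e2
  exact ⟨n, n + m, pure_of_iso finSumFinEquiv (e3.trans e1.symm)⟩

end final


/-- Let k be a characteristic-zero field; for each faithful finite-dimensional linear representation V
of the symmetric group S_n over k, the field of invariants k(V)^{S_n} is stably pure over k. Stated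
with V = k^m: G is a finite group of k-algebra automorphisms of k(x_1, ..., x_m), each sending every
variable to a k-linear combination of the variables, isomorphic as an abstract group to the
symmetric group on n letters; then for some r the rational function field in r variables over the
fixed field of G is generated over k by finitely many algebraically independent elements. -/
theorem result (k : Type u) [Field k] [CharZero k] (n m : ℕ)
    (G : Subgroup (InvFld.Fld (Fin m) k ≃ₐ[k] InvFld.Fld (Fin m) k)) [Finite G] (e : G ≃* Equiv.Perm (Fin n))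
    (hG : ∀ σ ∈ G, ∀ i : Fin m, σ (InvFld.X i) ∈ Submodule.span k (Set.range fun j : Fin m => (InvFld.X j : InvFld.Fld (Fin m) k))) :
    ∃ (r N : ℕ) (t : Fin N → InvFld.Fld (Fin r) (IntermediateField.fixedField G)),
      AlgebraicIndependent k t ∧ IntermediateField.adjoin k (Set.range t) = ⊤ := by
  exact final' k n m G e hG

end Groth.Agent.S15698
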