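import Groth.Statements.S1570
import Groth.Agent.Lib.Helper7.AffinePrime
import Groth.Agent.Lib.Helper7.LocalPrincipal

set_option autoImplicit false
universe u
open CategoryTheory CategoryTheory.Limits AlgebraicGeometry
open Divisors

namespace Groth.Agent.S1570

/-- Let X be locally Noetherian and D a closed subscheme with ideal sheaf I. If for every point x of D
the ideal generated by I in the local ring at x is generated by one nonzerodivisor, then D is an
effective Cartier divisor. -/
theorem result (X : Scheme.{u}) [IsLocallyNoetherian X]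
    (D : X.IdealSheafData)
    (h : ∀ x ∈ D.support, ∀ (U : X.affineOpens) (hx : x ∈ (U : X.Opens)),
      ∃ g : X.presheaf.stalk x, g ∈ nonZeroDivisors (X.presheaf.stalk x) ∧
        (D.ideal U).map (X.presheaf.germ U x hx).hom = Ideal.span {g}) :
    BlowUp.IsEffCartierIdeal D := by
  intro x
  obtain ⟨_, ⟨U₀, hU₀, rfl⟩, hxU₀, -⟩ :=
    X.isBasis_affineOpens.exists_subset_of_mem_open (Set.mem_univ x) isOpen_univ
  let U : X.affineOpens := ⟨U₀, hU₀⟩
  have hN : IsNoetherianRing Γ(X, U.1) := IsLocallyNoetherian.component_noetherian U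
  by_cases hx : x ∈ D.support
  · -- the point lies on the divisor
    obtain ⟨g, hg, hIg⟩ := h x hx U hxU₀
    letI : Algebra Γ(X, U.1) (X.presheaf.stalk x) :=
      TopCat.Presheaf.algebra_section_stalk X.presheaf (⟨x, hxU₀⟩ : U.1)
    have hloc : IsLocalization.AtPrime (X.presheaf.stalk x) (U.2.primeIdealOf ⟨x, hxU₀⟩).asIdeal :=
      U.2.isLocalization_stalk ⟨x, hxU₀⟩
    obtain ⟨a, ha, τ, hτ, h1, h2⟩ := Groth.Agent.Lib.Helper7.exists_spread_out_principal
      (U.2.primeIdealOf ⟨x, hxU₀⟩).asIdeal (X.presheaf.stalk x) (D.ideal U) g hg hIg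
    have hloc' : IsLocalization.Away τ Γ(X, X.basicOpen τ) := U.2.isLocalization_basicOpen τ
    obtain ⟨h3, h4⟩ := Groth.Agent.Lib.Helper7.map_eq_span_of_multiplier
      Γ(X, X.basicOpen τ) τ (D.ideal U) a ha h1 h2
    refine ⟨X.affineBasicOpen τ, ?_, algebraMap Γ(X, U.1) Γ(X, X.basicOpen τ) a, h3, ?_⟩
    · show x ∈ X.basicOpen τ
      by_contra hcon
      have : x ∈ X.zeroLocus {τ} := by
        rw [Scheme.zeroLocus_singleton]
        exact hcon
      rw [Groth.Agent.Lib.Helper7.mem_zeroLocus_iff_le_primeIdealOf U.2 _ x hxU₀] at this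
      exact hτ (this (Set.mem_singleton τ))
    · rw [← D.map_ideal_basicOpen U τ]
      exact h4
  · -- the point is away from the divisor
    rw [Scheme.IdealSheafData.mem_support_iff_of_mem (U := U) hxU₀,
      Scheme.mem_zeroLocus_iff] at hx
    push Not at hx
    obtain ⟨s, hs, hxs⟩ := hx
    have hloc' : IsLocalization.Away s Γ(X, X.basicOpen s) := U.2.isLocalization_basicOpen s
    refine ⟨X.affineBasicOpen s, hxs, 1, one_mem _, ?_⟩
    have hu : IsUnit (algebraMap Γ(X, U.1) Γ(X, X.basicOpen s) s) :=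
      IsLocalization.Away.algebraMap_isUnit s
    have hmem : algebraMap Γ(X, U.1) Γ(X, X.basicOpen s) s ∈
        (D.ideal U).map (algebraMap Γ(X, U.1) Γ(X, X.basicOpen s)) :=
      Ideal.mem_map_of_mem _ hs
    have key : (D.ideal U).map (algebraMap Γ(X, U.1) Γ(X, X.basicOpen s)) = ⊤ :=
      Ideal.eq_top_of_isUnit_mem _ hmem hu
    rw [← D.map_ideal_basicOpen U s]
    exact key.trans Ideal.span_singleton_one.symm

end Groth.Agent.S1570
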