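import Mathlib
import Groth.Statements.S15701

set_option autoImplicit false
universe u
open CategoryTheory AlgebraicGeometry
open RatVar

namespace Groth.Agent.S15701

open CategoryTheory.Limits


variable {X : Scheme.{u}} {G : Type u} [Group G] (ρ : G →* Aut X)

theorem hom_mul (a b : G) : (ρ (a * b)).hom = (ρ b).hom ≫ (ρ a).hom := by
  rw [map_mul]; rfl

theorem hom_one : (ρ 1).hom = 𝟙 X := by
  rw [map_one]; rfl

/-- the fixed locus of `g`, as a set. -/
def Z (g : G) : Set X := Set.range (equalizer.ι (𝟙 X) (ρ g).hom)

theorem mem_Z_of_fac {g : G} {W : Scheme.{u}} (x : W ⟶ X) (hx : x ≫ (ρ g).hom = x) (w : W) :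
    x w ∈ Z ρ g := by
  refine ⟨(equalizer.lift x (by rw [Category.comp_id, hx])) w, ?_⟩
  rw [← Scheme.Hom.comp_apply, equalizer.lift_ι]

theorem map_mem_Z (g h : G) (x : X) (hx : x ∈ Z ρ g) : (ρ h).hom x ∈ Z ρ (h * g * h⁻¹) := by
  obtain ⟨e, rfl⟩ := hx
  rw [← Scheme.Hom.comp_apply]
  apply mem_Z_of_fac
  rw [Category.assoc, ← hom_mul, inv_mul_cancel_right, hom_mul, ← Category.assoc,
    ← equalizer.condition, Category.comp_id]


theorem main (k : Type u) [Field k]
    (X : Scheme.{u}) (f : X ⟶ Spec (CommRingCat.of k)) [IsIntegral X] [IsSeparated f]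
    (G : Type u) [Group G] [Finite G] (ρ : G →* Aut X)
    (hfaith : Function.Injective ρ) :
    ∃ U : X.Opens, (U : Set X).Nonempty ∧ (∀ g : G, (ρ g).hom ⁻¹ᵁ U = U) ∧
      ∀ (K : Type u) [Field K] (x : Spec (CommRingCat.of K) ⟶ X),
        Set.range x.base ⊆ (U : Set X) → ∀ g : G, x ≫ (ρ g).hom = x → g = 1 := by
  classical
  haveI : X.IsSeparated := by
    rw [Scheme.isSeparated_iff, ← terminal.comp_from f]
    infer_instance
  have hclosed : ∀ g : G, IsClosed (Z ρ g) := fun g =>
    (Scheme.Hom.isClosedEmbedding (equalizer.ι (𝟙 X) (ρ g).hom)).isClosed_range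
  have hne : ∀ g : G, g ≠ 1 → Z ρ g ≠ Set.univ := by
    intro g hg hZ
    apply hg
    apply hfaith
    rw [map_one]
    haveI : IsDominant (equalizer.ι (𝟙 X) (ρ g).hom) := by
      refine ⟨?_⟩
      have : Set.range (equalizer.ι (𝟙 X) (ρ g).hom) = Set.univ := hZ
      rw [DenseRange, this]
      exact dense_univ
    have h1 : 𝟙 X = (ρ g).hom :=
      ext_of_isDominant (equalizer.ι (𝟙 X) (ρ g).hom) (equalizer.condition _ _)
    ext
    exact h1.symm
  -- the open set
  have hfin : (Set.univ : Set G).Finite := Set.toFinite _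
  let Us : Set X := ⋂ g ∈ {g : G | g ≠ 1}, (Z ρ g)ᶜ
  have hUopen : IsOpen Us := by
    apply Set.Finite.isOpen_biInter (Set.toFinite _)
    intro g _
    exact (hclosed g).isOpen_compl
  have hUne : Us.Nonempty := by
    have hirr : IsIrreducible (Set.univ : Set X) := (irreducibleSpace_def X).mp inferInstance
    have := (isIrreducible_iff_sInter.mp hirr)
      ((Set.toFinite {g : G | g ≠ 1}).toFinset.image (fun g => (Z ρ g)ᶜ))
      (by
        intro u hu
        rw [Finset.mem_image] at hu
        obtain ⟨g, _, rfl⟩ := hu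
        exact (hclosed g).isOpen_compl)
      (by
        intro u hu
        rw [Finset.mem_image] at hu
        obtain ⟨g, hg, rfl⟩ := hu
        rw [Set.univ_inter]
        rw [Set.Finite.mem_toFinset] at hg
        exact Set.nonempty_compl.mpr (hne g hg))
    obtain ⟨x, -, hx⟩ := this
    refine ⟨x, ?_⟩
    rw [Set.mem_iInter₂]
    intro g hg
    apply Set.mem_sInter.mp hx
    rw [Finset.mem_coe, Finset.mem_image]
    exact ⟨g, (Set.Finite.mem_toFinset _).mpr hg, rfl⟩
  have hmemU : ∀ x : X, x ∈ Us ↔ ∀ g : G, g ≠ 1 → x ∉ Z ρ g := by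
    intro x
    rw [Set.mem_iInter₂]
    exact Iff.rfl
  refine ⟨⟨Us, hUopen⟩, hUne, ?_, ?_⟩
  · intro h
    ext x
    change (ρ h).hom x ∈ Us ↔ x ∈ Us
    rw [hmemU, hmemU]
    constructor
    · intro hx g hg hxg
      refine hx (h * g * h⁻¹) ?_ (map_mem_Z ρ g h x hxg)
      intro h1
      apply hg
      have := congrArg (fun t => h⁻¹ * t * h) h1
      simpa [mul_assoc] using this
    · intro hx g hg hxg
      have h2 := map_mem_Z ρ g h⁻¹ _ hxg
      rw [← Scheme.Hom.comp_apply, ← hom_mul, inv_mul_cancel, hom_one] at h2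
      refine hx (h⁻¹ * g * h⁻¹⁻¹) ?_ h2
      intro h1
      apply hg
      have := congrArg (fun t => h * t * h⁻¹) h1
      simpa [mul_assoc] using this
  · intro K _ x hxU g hxg
    by_contra hg
    have hx0 : x (default : Spec (CommRingCat.of K)) ∈ Us := hxU ⟨default, rfl⟩
    exact (hmemU _).mp hx0 g hg (mem_Z_of_fac ρ x hxg default)


/-- A faithful action of a finite group on a geometrically integral variety is almost free. Here k is a
field of characteristic zero, X is an integral separated scheme of finite type over k, and the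
finite group G acts on X by k-automorphisms through an injective homomorphism to Aut X; the
conclusion is a non-empty G-stable open subscheme U of X such that for every field K and every
morphism Spec K → X whose image lies in U, an element of G fixing that K-point is the identity. (X
is taken separated: for the affine line with a doubled origin and the involution exchanging the two
origins the action is faithful while every point off the origins is fixed, so no such U exists;
integrality replaces geometric integrality, which is all the codimension argument uses.) -/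
theorem result (k : Type u) [Field k] [CharZero k]
    (X : Scheme.{u}) (f : X ⟶ Spec (CommRingCat.of k)) [IsIntegral X] [LocallyOfFiniteType f]
    [QuasiCompact f] [IsSeparated f]
    (G : Type u) [Group G] [Finite G] (ρ : G →* Aut X)
    (hρ : ∀ g : G, (ρ g).hom ≫ f = f) (hfaith : Function.Injective ρ) :
    ∃ U : X.Opens, (U : Set X).Nonempty ∧ (∀ g : G, (ρ g).hom ⁻¹ᵁ U = U) ∧
      ∀ (K : Type u) [Field K] (x : Spec (CommRingCat.of K) ⟶ X),
        Set.range x.base ⊆ (U : Set X) → ∀ g : G, x ≫ (ρ g).hom = x → g = 1 := by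
  exact main k X f G ρ hfaith

end Groth.Agent.S15701
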