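import Groth.Statements.S15706
import Mathlib
-- import your own Groth.Agent.* helpers here

set_option autoImplicit false
universe u
open CAlg

namespace Groth.Agent.S15706

/-- Let A be a Noetherian ring with Serre's property (S_1), stated here in the equivalent form that
every associated prime of A is a minimal prime of A. Let I be an ideal of A and b an element of A/I
which is regular (a non-zero-divisor) in A/I. Then b is the image of a regular element of A. -/
theorem result (A : Type u) [CommRing A]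
    [IsNoetherianRing A] (hS1 : ∀ p ∈ associatedPrimes A A, p ∈ minimalPrimes A) (I : Ideal A)
    (b : A ⧸ I) (hb : b ∈ nonZeroDivisors (A ⧸ I)) :
    ∃ a : A, a ∈ nonZeroDivisors A ∧ Ideal.Quotient.mk I a = b := by
  classical
  obtain ⟨a₀, rfl⟩ := Ideal.Quotient.mk_surjective b
  have hfin := associatedPrimes.finite A A
  have hprime : ∀ p ∈ associatedPrimes A A, p.IsPrime := fun p hp => hp.1
  -- key1: an associated prime containing a₀ does not contain I
  have key1 : ∀ p ∈ associatedPrimes A A, a₀ ∈ p → ¬ I ≤ p := by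
    intro p hp ha hI
    have hmin : p ∈ minimalPrimes A := hS1 p hp
    have hpI : p ∈ I.minimalPrimes :=
      ⟨⟨hmin.1.1, hI⟩, fun q hq hqp => hmin.2 ⟨hq.1, bot_le⟩ hqp⟩
    obtain ⟨y, hy, hxy⟩ := Ideal.exists_mul_mem_of_mem_minimalPrimes hpI ha
    have h0 : Ideal.Quotient.mk I y * Ideal.Quotient.mk I a₀ = 0 := by
      rw [← map_mul, mul_comm]; exact Ideal.Quotient.eq_zero_iff_mem.mpr hxy
    have := (mem_nonZeroDivisors_iff_right.mp hb) _ h0
    exact hy (Ideal.Quotient.eq_zero_iff_mem.mp this)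
  let Pf : Finset (Ideal A) := hfin.toFinset
  let P₁ : Finset (Ideal A) := Pf.filter (fun p => a₀ ∈ p)
  let P₂ : Finset (Ideal A) := Pf.filter (fun p => a₀ ∉ p)
  let J : Ideal A := I ⊓ P₂.inf id
  have hJ : ¬ ((J : Set A) ⊆ ⋃ q ∈ (P₁ : Set (Ideal A)), (id q : Ideal A)) := by
    rw [Ideal.subset_union_prime (f := id) ⊥ ⊥ (fun q hq _ _ => hprime q (by
      have := (Finset.mem_filter.mp hq).1
      exact hfin.mem_toFinset.mp this))]
    rintro ⟨q, hq, hJq⟩
    obtain ⟨hqP, haq⟩ := Finset.mem_filter.mp hq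
    have hqP' : q ∈ associatedPrimes A A := hfin.mem_toFinset.mp hqP
    have hqprime := hprime q hqP'
    rcases hqprime.inf_le.mp hJq with h1 | h1
    · exact key1 q hqP' haq h1
    · obtain ⟨p, hp, hpq⟩ := hqprime.inf_le'.mp h1
      obtain ⟨hpP, hap⟩ := Finset.mem_filter.mp hp
      have hpP' : p ∈ associatedPrimes A A := hfin.mem_toFinset.mp hpP
      have hqmin := hS1 q hqP'
      have : q ≤ p := hqmin.2 ⟨hprime p hpP', bot_le⟩ hpq
      exact hap (this haq)
  rw [Set.not_subset] at hJ
  obtain ⟨x, hxJ, hxn⟩ := hJ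
  have hxI : x ∈ I := (Submodule.mem_inf.mp hxJ).1
  have hxP₂ : ∀ p ∈ P₂, x ∈ p := by
    intro p hp
    have h2 := (Submodule.mem_inf.mp hxJ).2
    exact (Finset.inf_le hp : P₂.inf id ≤ id p) h2
  refine ⟨a₀ + x, ?_, ?_⟩
  · by_contra hnz
    have hmem : a₀ + x ∈ ((nonZeroDivisors A : Set A))ᶜ := hnz
    rw [← biUnion_associatedPrimes_eq_compl_nonZeroDivisors] at hmem
    simp only [Set.mem_iUnion, SetLike.mem_coe, exists_prop] at hmem
    obtain ⟨p, hp, hmem⟩ := hmem
    have hpf : p ∈ Pf := hfin.mem_toFinset.mpr hp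
    by_cases ha : a₀ ∈ p
    · apply hxn
      simp only [Set.mem_iUnion, SetLike.mem_coe, exists_prop, id]
      refine ⟨p, Finset.mem_filter.mpr ⟨hpf, ha⟩, ?_⟩
      have := p.sub_mem hmem ha
      simpa using this
    · have hx := hxP₂ p (Finset.mem_filter.mpr ⟨hpf, ha⟩)
      apply ha
      have := p.sub_mem hmem hx
      simpa using this
  · rw [map_add, Ideal.Quotient.eq_zero_iff_mem.mpr hxI, add_zero]

end Groth.Agent.S15706
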