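import Groth.Statements.S15707
import Mathlib

set_option autoImplicit false
universe u
open CAlg

namespace Groth.Agent.S15707

/-- Let A be a Noetherian ring with Serre's property (S_1), stated here as: every associated prime of A
is a minimal prime. Let I be an ideal and B = A/I. Then the B-module Hom_A(B, A), with B acting
through the source, is torsion-free: an A-linear map φ : B → A which is killed by a regular element
b of B, in the sense that φ(b x) = 0 for all x, is zero. -/
theorem result (A : Type u) [CommRing A]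
    [IsNoetherianRing A] (hS1 : ∀ p ∈ associatedPrimes A A, p ∈ minimalPrimes A) (I : Ideal A)
    (φ : (A ⧸ I) →ₗ[A] A) (b : A ⧸ I) (hb : b ∈ nonZeroDivisors (A ⧸ I))
    (h : ∀ x : A ⧸ I, φ (b * x) = 0) : φ = 0 := by
  set a : A := φ 1 with ha
  have hφ : ∀ x : A, φ (Ideal.Quotient.mk I x) = x * a := by
    intro x
    have : (Ideal.Quotient.mk I x) = x • (1 : A ⧸ I) := by
      rw [Algebra.smul_def, mul_one]; rfl
    rw [this, map_smul, smul_eq_mul]
  suffices ha0 : a = 0 by
    apply LinearMap.ext
    intro x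
    obtain ⟨x, rfl⟩ := Ideal.Quotient.mk_surjective x
    simp [hφ, ha0]
  by_contra hane
  obtain ⟨p, hp, hle⟩ := exists_le_isAssociatedPrime_of_isNoetherianRing A a hane
  have hpmin : p ∈ minimalPrimes A := hS1 p hp
  have hpprime : p.IsPrime := hp.isPrime
  have hmem : ∀ x : A, x * a = 0 → x ∈ p := by
    intro x hx
    apply hle
    rw [Submodule.mem_colon_singleton]
    simpa using hx
  have hIp : I ≤ p := by
    intro i hi
    apply hmem
    rw [← hφ, Ideal.Quotient.eq_zero_iff_mem.2 hi, map_zero]
  obtain ⟨b', rfl⟩ := Ideal.Quotient.mk_surjective b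
  have hb'p : b' ∈ p := by
    apply hmem
    rw [← hφ]
    simpa using h 1
  have hpI : p ∈ I.minimalPrimes := by
    refine ⟨⟨hpprime, hIp⟩, ?_⟩
    rintro q ⟨hq, _⟩ hqp
    exact hpmin.2 ⟨hq, bot_le⟩ hqp
  rw [Ideal.minimalPrimes_eq_comap] at hpI
  obtain ⟨P', hP', rfl⟩ := hpI
  have hdisj := Ideal.disjoint_nonZeroDivisors_of_mem_minimalPrimes hP'
  exact Set.disjoint_left.1 hdisj hb'p hb

end Groth.Agent.S15707
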