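import Groth.Statements.S1571
-- import your own Groth.Agent.* helpers here

set_option autoImplicit false
universe u
open CategoryTheory CategoryTheory.Limits AlgebraicGeometry
open Divisors

namespace Groth.Agent.S1571

theorem compl_support_inf_eq_basicOpen {S : Scheme.{u}} (D : S.IdealSheafData) (U : S.affineOpens)
    (f : Γ(S, U.1)) (hf : D.ideal U = Ideal.span {f}) :
    D.support.compl ⊓ U.1 = S.basicOpen f := by
  ext x
  simp only [TopologicalSpace.Opens.coe_inf, Set.mem_inter_iff, SetLike.mem_coe]
  constructor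
  · rintro ⟨h1, h2⟩
    have h3 : x ∉ D.support := h1
    rw [Scheme.IdealSheafData.mem_support_iff_of_mem h2, hf, Scheme.zeroLocus_span,
      Scheme.zeroLocus_singleton] at h3
    simpa using h3
  · intro hx
    have h2 : x ∈ U.1 := S.basicOpen_le f hx
    refine ⟨?_, h2⟩
    show x ∉ D.support
    rw [Scheme.IdealSheafData.mem_support_iff_of_mem h2, hf, Scheme.zeroLocus_span,
      Scheme.zeroLocus_singleton]
    simpa using hx

/-- The open complement of an effective Cartier divisor is an affine open immersion and is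
scheme-theoretically dense. -/
theorem result (S : Scheme.{u}) (D : S.IdealSheafData) (hD : BlowUp.IsEffCartierIdeal D) :
    IsAffineHom (Scheme.Opens.ι (X := S) D.support.compl) ∧ IsSchemeTheoreticallyDominant (Scheme.Opens.ι (X := S) D.support.compl) := by
  constructor
  · apply isAffineHom_of_forall_exists_isAffineOpen
    intro x
    obtain ⟨U, hxU, f, hfnzd, hf⟩ := hD x
    refine ⟨U.1, hxU, U.2, ?_⟩
    have h1 := compl_support_inf_eq_basicOpen D U f hf
    have h2 : IsAffineOpen (S.basicOpen f) := U.2.basicOpen f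
    rw [← h1] at h2
    have h3 : (Scheme.Opens.ι (X := S) D.support.compl) ''ᵁ
        ((Scheme.Opens.ι (X := S) D.support.compl) ⁻¹ᵁ U.1) = D.support.compl ⊓ U.1 := by
      simp [Scheme.Hom.image_preimage_eq_opensRange_inf]
    rw [← h3] at h2
    exact (Scheme.Hom.isAffineOpen_iff_of_isOpenImmersion _).mp h2
  · rw [isSchemeTheoreticallyDominant_iff]
    choose U hxU f hfnzd hf using hD
    refine Scheme.IdealSheafData.ext_of_iSup_eq_top U ?_ ?_
    · exact top_le_iff.mp (fun x _ ↦ by simpa using ⟨x, hxU x⟩)
    · intro x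
      simp only [Scheme.IdealSheafData.ideal_bot, Pi.bot_apply, ← le_bot_iff]
      refine (Scheme.Hom.ideal_ker_le _ (U x)).trans ?_
      rw [le_bot_iff, ← RingHom.injective_iff_ker_eq_bot, Scheme.Opens.ι_app]
      have h1 := compl_support_inf_eq_basicOpen D (U x) (f x) (hf x)
      have h3 : (Scheme.Opens.ι (X := S) D.support.compl) ''ᵁ
          ((Scheme.Opens.ι (X := S) D.support.compl) ⁻¹ᵁ (U x).1) = S.basicOpen (f x) := by
        rw [← h1]
        simp [Scheme.Hom.image_preimage_eq_opensRange_inf]
      have hloc := (U x).2.isLocalization_of_eq_basicOpen (f x) (homOfLE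
        (x := (Scheme.Opens.ι (X := S) D.support.compl) ''ᵁ
          ((Scheme.Opens.ι (X := S) D.support.compl) ⁻¹ᵁ (U x).1))
        (Set.image_preimage_subset _ _)) h3
      exact @IsLocalization.injective _ _ (Submonoid.powers (f x)) _ _ (S.presheaf.map (homOfLE
        (x := (Scheme.Opens.ι (X := S) D.support.compl) ''ᵁ
          ((Scheme.Opens.ι (X := S) D.support.compl) ⁻¹ᵁ (U x).1))
        (Set.image_preimage_subset _ _)).op).hom.toAlgebra hloc
        (Submonoid.powers_le.mpr (hfnzd x))

end Groth.Agent.S1571
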