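import Groth.Statements.S5091
import Groth.Agent.S2506
import Groth.Agent.Lib.Helper29.Depth
import Groth.Agent.Lib.Helper45.AssStructure

set_option autoImplicit false
universe u
open CategoryTheory CategoryTheory.Limits AlgebraicGeometry TopologicalSpace
open Div21

namespace Groth.Agent.S5091

/-- Let X be a locally Noetherian scheme, Y a closed subset and U = X − Y, with j : U → X the inclusion.
Then O_X → j_*O_U is injective — restriction of functions from every open V to V ∩ U is injective,
i.e. U is schematically dense in X — if and only if the local ring of X at every point of Y has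
depth at least 1. -/
theorem result (X : Scheme.{u}) [IsLocallyNoetherian X] (U : X.Opens) :
    CInt.IsSchematicallyDense U ↔
      ∀ x : ↥X, x ∉ U → (1 : ℕ∞) ≤ LocCoh.depth ↑(X.presheaf.stalk x) ↑(X.presheaf.stalk x) := by
  have hS := Groth.Agent.S2506.result (Coh.structureModule X)
    (Groth.Agent.Lib.Helper45.isQuasicoherent_structureModule X) U
  have hR : (∀ x : ↥X, x ∉ U →
      (1 : ℕ∞) ≤ LocCoh.depth ↑(X.presheaf.stalk x) ↑(X.presheaf.stalk x)) ↔
      AssSch.Ass (Coh.structureModule X) ⊆ (U : Set X) := by
    have key : ∀ x : X, LocCoh.depth ↑(X.presheaf.stalk x) ↑(X.presheaf.stalk x) = 0 ↔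
        x ∈ AssSch.Ass (Coh.structureModule X) := by
      intro x
      have : IsNoetherianRing (X.presheaf.stalk x) := inferInstance
      rw [Groth.Agent.Lib.Helper29.depth_eq_zero_iff]
      change IsAssociatedPrime _ _ ↔ Curv2.IsAssPoint _ _
      rw [Groth.Agent.Lib.Helper45.isAssPoint_iff_isWeakAssPoint,
        Groth.Agent.Lib.Helper45.isAssociatedPrime_stalk_iff_isWeakAssPoint]
    constructor
    · intro h x hx
      by_contra hxU
      have h1 := h x hxU
      rw [(key x).mpr hx] at h1
      exact absurd h1 (by simp)
    · intro h x hxU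
      rw [Order.one_le_iff_ne_zero]
      intro h0
      exact hxU (h ((key x).mp h0))
  rw [hR, hS]
  constructor
  · intro hd V _ s hs
    have h1 : (show Γ(X, V) from s) = 0 := by
      apply hd V
      exact Eq.trans hs (map_zero (X.presheaf.map (homOfLE (inf_le_left : V ⊓ U ≤ V)).op).hom).symm
    exact h1
  · intro h V s t hst
    apply TopCat.Presheaf.section_ext X.sheaf V s t
    intro x hx
    obtain ⟨_, ⟨W, hW : IsAffineOpen W, rfl⟩, hxW, hWV⟩ :=
      X.isBasis_affineOpens.exists_subset_of_mem_open hx V.2
    have hWV' : W ≤ V := hWV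
    have h0 : X.presheaf.map (homOfLE hWV').op (s - t) = 0 := by
      apply h W hW
      change X.presheaf.map (homOfLE (inf_le_left : W ⊓ U ≤ W)).op
        (X.presheaf.map (homOfLE hWV').op (s - t)) = 0
      rw [← CommRingCat.comp_apply, ← Functor.map_comp]
      have h1 : X.presheaf.map (homOfLE (inf_le_left : V ⊓ U ≤ V)).op (s - t) = 0 := by
        rw [map_sub, hst, sub_self]
      have hle : W ⊓ U ≤ V ⊓ U := inf_le_inf_right U hWV'
      have h2 := congrArg (X.presheaf.map (homOfLE hle).op) h1
      rw [← CommRingCat.comp_apply, ← Functor.map_comp, map_zero] at h2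
      exact h2
    have h3 : X.presheaf.germ V x hx (s - t) = 0 := by
      rw [← X.presheaf.germ_res_apply (homOfLE hWV') x hxW, h0, map_zero]
    rw [map_sub, sub_eq_zero] at h3
    exact h3

end Groth.Agent.S5091
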