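import Groth.Statements.S15712
import Mathlib
import Groth.Agent.S5091
import Groth.Agent.Lib.Helper45.QCohStalk

set_option autoImplicit false
universe u
open CategoryTheory AlgebraicGeometry TopologicalSpace
open RatSing

namespace Groth.Agent.S15712

open Opposite

/-- a dense open of a locally Noetherian scheme contains every point without proper generizations -/
theorem mem_of_isMax_of_dense (X : Scheme.{u}) [IsLocallyNoetherian X] (U : X.Opens)
    (hd : Dense (U : Set X)) (x : X) (hx : ∀ y : X, y ⤳ x → x ⤳ y) : x ∈ U := by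
  classical
  obtain ⟨_, ⟨W, hW : IsAffineOpen W, rfl⟩, hxW, -⟩ :=
    X.isBasis_affineOpens.exists_subset_of_mem_open (Set.mem_univ x) isOpen_univ
  haveI : IsNoetherianRing Γ(X, W) := IsLocallyNoetherian.component_noetherian ⟨W, hW⟩
  let P : W → Ideal Γ(X, W) := fun z => (hW.primeIdealOf z).asIdeal
  have hPprime : ∀ z, (P z).IsPrime := fun z => (hW.primeIdealOf z).isPrime
  have hmem : ∀ (z : W) (f : Γ(X, W)), (z : X) ∈ X.basicOpen f ↔ f ∉ P z := fun z f =>
    Groth.Agent.Lib.Helper45.mem_basicOpen_iff_not_mem_primeIdealOf hW z f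
  have hspec : ∀ z z' : W, P z ≤ P z' → (z : X) ⤳ (z' : X) := by
    intro z z' hle
    rw [specializes_iff_forall_open]
    intro O hO hz'
    obtain ⟨f, hfle, hz'f⟩ := hW.exists_basicOpen_le (V := ⟨O, hO⟩) ⟨z', hz'⟩ z'.2
    have h1 : f ∉ P z' := (hmem z' f).mp hz'f
    have h2 : f ∉ P z := fun h => h1 (hle h)
    exact hfle ((hmem z f).mpr h2)
  obtain ⟨q, hqmin, hqle⟩ := Ideal.exists_minimalPrimes_le (bot_le : ⊥ ≤ P ⟨x, hxW⟩)
  have hqprime : q.IsPrime := hqmin.1.1
  obtain ⟨y, hPy⟩ : ∃ y : W, P y = q := by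
    refine ⟨hW.isoSpec.inv (⟨q, hqprime⟩ : PrimeSpectrum Γ(X, W)), ?_⟩
    change (hW.isoSpec.hom (hW.isoSpec.inv (⟨q, hqprime⟩ : PrimeSpectrum Γ(X, W)))).asIdeal = q
    rw [← Scheme.Hom.comp_apply, Iso.inv_hom_id]
    rfl
  have hyx : (y : X) ⤳ x := hspec y ⟨x, hxW⟩ (hPy ▸ hqle)
  have hxy : x ⤳ (y : X) := hx y hyx
  suffices hyU : (y : X) ∈ U from hxy.mem_open U.2 hyU
  have hfin : (minimalPrimes Γ(X, W)).Finite := minimalPrimes.finite_of_isNoetherianRing _
  have hnot : ¬ ((hfin.toFinset.erase q).inf id ≤ q) := by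
    rw [Ideal.IsPrime.inf_le' hqprime]
    rintro ⟨q', hq'S, hq'le⟩
    have hq'min : q' ∈ minimalPrimes Γ(X, W) :=
      hfin.mem_toFinset.mp (Finset.mem_of_mem_erase hq'S)
    have : q' = q := le_antisymm hq'le (hqmin.2 ⟨hq'min.1.1, bot_le⟩ hq'le)
    exact (Finset.ne_of_mem_erase hq'S) this
  obtain ⟨g, hgS, hgq⟩ := SetLike.not_le_iff_exists.mp hnot
  have hyg : (y : X) ∈ X.basicOpen g := (hmem y g).mpr (hPy ▸ hgq)
  obtain ⟨z, hzg, hzU⟩ := hd.inter_open_nonempty (X.basicOpen g) (X.basicOpen g).2 ⟨y, hyg⟩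
  have hzW : z ∈ W := X.basicOpen_le g hzg
  have hgz : g ∉ P ⟨z, hzW⟩ := (hmem ⟨z, hzW⟩ g).mp hzg
  obtain ⟨q', hq'min, hq'le⟩ := Ideal.exists_minimalPrimes_le (bot_le : ⊥ ≤ P ⟨z, hzW⟩)
  have hq'q : q' = q := by
    by_contra hne
    have h1 : q' ∈ hfin.toFinset.erase q := Finset.mem_erase.mpr ⟨hne, hfin.mem_toFinset.mpr hq'min⟩
    have h2 : g ∈ q' := (Submodule.mem_finsetInf.mp hgS) q' h1
    exact hgz (hq'le h2)
  have hyz : (y : X) ⤳ z := hspec y ⟨z, hzW⟩ (by rw [hPy, ← hq'q]; exact hq'le)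
  exact hyz.mem_open U.2 hzU

theorem dense_of_isSchematicallyDense (X : Scheme.{u}) (U : X.Opens)
    (hU : CInt.IsSchematicallyDense U) : Dense (U : Set X) := by
  rw [dense_iff_inter_open]
  intro V hV hVne
  by_contra hcon
  rw [Set.not_nonempty_iff_eq_empty] at hcon
  obtain ⟨x, hxV⟩ := hVne
  have hbot : (⟨V, hV⟩ : X.Opens) ⊓ U = ⊥ := by
    ext z
    simp only [Opens.coe_inf, Opens.coe_mk, Opens.coe_bot]
    rw [hcon]
  have hinj := hU ⟨V, hV⟩
  have h10 : (1 : Γ(X, (⟨V, hV⟩ : X.Opens))) = 0 := by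
    apply hinj
    haveI : Subsingleton Γ(X, (⟨V, hV⟩ : X.Opens) ⊓ U) := by rw [hbot]; infer_instance
    exact Subsingleton.elim _ _
  have h := congrArg (X.presheaf.germ (⟨V, hV⟩ : X.Opens) x hxV) h10
  rw [map_one, map_zero] at h
  exact one_ne_zero h

/-- Let X be a locally Noetherian scheme with Serre's property (S_1), i.e. every local ring O_{X,x} has
depth at least min(1, dim O_{X,x}) (for instance X Cohen–Macaulay), and let U ⊆ X be open. Then
scheme-theoretic density of U in X is equivalent to U being dense as a subset. (The published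
statement assumes every scheme excellent, in particular locally Noetherian.) -/
theorem result (X : Scheme.{u}) [IsLocallyNoetherian X]
    (hS1 : ∀ x : X, min (1 : WithBot ℕ∞) (ringKrullDim (X.presheaf.stalk x)) ≤
      ((LocCoh.depth (X.presheaf.stalk x) (X.presheaf.stalk x) : ℕ∞) : WithBot ℕ∞))
    (U : X.Opens) : CInt.IsSchematicallyDense U ↔ Dense (U : Set X) := by
  constructor
  · exact dense_of_isSchematicallyDense X U
  · intro hd
    rw [Groth.Agent.S5091.result X U]
    intro x hxU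
    have hdim : (1 : WithBot ℕ∞) ≤ ringKrullDim (X.presheaf.stalk x) := by
      by_contra hlt
      apply hxU
      apply mem_of_isMax_of_dense X U hd x
      rw [ringKrullDim_stalk_eq_coheight] at hlt
      have h0 : Order.coheight x = 0 := by
        have h1 : ¬ ((1 : ℕ∞) ≤ Order.coheight x) := fun h => hlt (by exact_mod_cast h)
        rw [Order.one_le_iff_pos, not_lt, nonpos_iff_eq_zero] at h1
        exact h1
      rw [Order.coheight_eq_zero] at h0
      intro y hy
      exact h0 hy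
    have h1 := hS1 x
    rw [min_eq_left hdim] at h1
    exact_mod_cast h1

end Groth.Agent.S15712
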