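import Groth.Statements.S15715
import Mathlib
import Groth.Agent.Lib.Helper45.QCohStalk
import Groth.Agent.Lib.Helper45.ModulesBasic

set_option autoImplicit false
universe u
open CategoryTheory AlgebraicGeometry TopologicalSpace
open RatSing

namespace Groth.Agent.S15715

open Opposite

theorem exists_nonZeroDivisor_mem {R : Type*} [CommRing R] [IsNoetherianRing R] (I : Ideal R)
    (hI : ∀ y : R, (∀ r ∈ I, r * y = 0) → y = 0) : ∃ r ∈ I, r ∈ nonZeroDivisors R := by
  by_contra hcon
  push_neg at hcon
  have hsub : (I : Set R) ⊆ ⋃ p ∈ associatedPrimes R R, (id p : Ideal R) := by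
    simp only [id]
    rw [biUnion_associatedPrimes_eq_compl_nonZeroDivisors]
    intro r hr; exact hcon r hr
  have hfin := associatedPrimes.finite R R
  obtain ⟨p, hp, hIp⟩ := (Ideal.subset_union_prime_finite hfin ⊤ ⊤
    (fun i hi _ _ => (AssociatedPrimes.mem_iff.mp hi).isPrime)).mp hsub
  obtain ⟨hprime, y, hy⟩ := isAssociatedPrime_iff.mp (AssociatedPrimes.mem_iff.mp hp)
  have hy0 : y = 0 := by
    apply hI
    intro r hr
    have : r ∈ (⊥ : Submodule R R).colon {y} := hy ▸ hIp hr
    rw [Submodule.mem_colon_singleton] at this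
    simpa using this
  apply hprime.ne_top
  rw [hy, hy0]
  rw [Ideal.eq_top_iff_one, Submodule.mem_colon_singleton]
  simp

theorem affine_case (X : Scheme.{u}) [IsLocallyNoetherian X] (F G : X.Modules) [F.IsQuasicoherent]
    (htf : ∀ V : X.affineOpens, Submodule.torsion Γ(X, V.1) (F.val.obj (op V.1)) = ⊥)
    (φ : F ⟶ G) (U : X.Opens) (hU : CInt.IsSchematicallyDense U)
    (hφU : ∀ V : X.Opens, V ≤ U →
      Function.Injective ⇑(ConcreteCategory.hom (φ.val.app (op V))))
    (W : X.Opens) (hW : IsAffineOpen W) (t : F.val.obj (op W))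
    (ht : (ConcreteCategory.hom (φ.val.app (op W))) t = 0) : t = 0 := by
  haveI : IsNoetherianRing Γ(X, W) := IsLocallyNoetherian.component_noetherian ⟨W, hW⟩
  have ha : ∀ f : Γ(X, W), X.basicOpen f ≤ U → ∃ n : ℕ, f ^ n • t = 0 := by
    intro f hf
    apply Groth.Agent.Lib.Helper45.exists_pow_smul_eq_zero_of_restrict_eq_zero hW F f t
    apply hφU (X.basicOpen f) hf
    have hnat := PresheafOfModules.naturality_apply φ.val (homOfLE (X.basicOpen_le f)).op t
    rw [ht, map_zero] at hnat
    exact hnat.trans (map_zero _).symm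
  have key : ∀ y : Γ(X, W),
      (∀ r ∈ Ideal.torsionOf Γ(X, W) (F.val.obj (op W)) t, r * y = 0) → y = 0 := by
    intro y hy
    apply hU W
    rw [map_zero]
    apply TopCat.Presheaf.section_ext X.sheaf (W ⊓ U)
    intro x hx
    obtain ⟨f, hfle, hxf⟩ := hW.exists_basicOpen_le (V := W ⊓ U) ⟨x, hx⟩ hx.1
    obtain ⟨n, hn⟩ := ha f (hfle.trans inf_le_right)
    have hfy : f ^ n * y = 0 := hy _ ((Ideal.mem_torsionOf_iff _ _).mpr hn)
    change X.presheaf.germ (W ⊓ U) x hx
        (X.presheaf.map (homOfLE (inf_le_left : W ⊓ U ≤ W)).op y) =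
      X.presheaf.germ (W ⊓ U) x hx 0
    rw [map_zero, TopCat.Presheaf.germ_res_apply]
    have hunit : IsUnit (X.presheaf.germ W x hx.1 f) := (X.mem_basicOpen f x hx.1).mp hxf
    have h0 := congrArg (X.presheaf.germ W x hx.1) hfy
    rw [map_mul, map_pow, map_zero] at h0
    exact (hunit.pow n).mul_right_eq_zero.mp h0
  obtain ⟨r, hrI, hr⟩ := exists_nonZeroDivisor_mem
    (Ideal.torsionOf Γ(X, W) (F.val.obj (op W)) t) key
  have hmem : t ∈ Submodule.torsion Γ(X, W) (F.val.obj (op W)) := by
    rw [Submodule.mem_torsion_iff]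
    exact ⟨⟨r, hr⟩, (Ideal.mem_torsionOf_iff _ _).mp hrI⟩
  rw [htf ⟨W, hW⟩] at hmem
  exact hmem

/-- Let X be a locally Noetherian scheme, φ : F → G a homomorphism of O_X-modules with F quasi-coherent
and torsion-free (over every affine open V, no nonzero section of F is killed by a regular element
of O_X(V)), and U a scheme-theoretically dense open subset of X such that the restriction of φ to U
is injective. Then φ is injective. (The published statement allows an arbitrary O_X-module F; for
the skyscraper sheaf on the affine line over a field, placed at a closed point with value the local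
ring at that point, which is torsion-free in this sense, the zero map to the zero module is
injective over the dense open complement of the point but not injective. This row takes F
quasi-coherent.) -/
theorem result (X : Scheme.{u})
    [IsLocallyNoetherian X] (F G : X.Modules) (hF : Coh.IsQCoh F)
    (htf : ∀ V : X.affineOpens, Submodule.torsion Γ(X, V.1) (F.val.obj (Opposite.op V.1)) = ⊥)
    (φ : F ⟶ G) (U : X.Opens) (hU : CInt.IsSchematicallyDense U)
    (hφU : ∀ V : X.Opens, V ≤ U → Function.Injective ⇑(ConcreteCategory.hom (φ.val.app (Opposite.op V)))) (V : X.Opens) :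
    Function.Injective ⇑(ConcreteCategory.hom (φ.val.app (Opposite.op V))) := by
  haveI : F.IsQuasicoherent := hF
  rw [injective_iff_map_eq_zero]
  intro s hs
  apply Groth.Agent.Lib.Helper45.section_ext_germ F V s 0
  intro x hx
  obtain ⟨_, ⟨W, hW : IsAffineOpen W, rfl⟩, hxW, hWV⟩ :=
    X.isBasis_affineOpens.exists_subset_of_mem_open hx V.2
  have hWV' : W ≤ V := hWV
  have h0 : F.val.map (homOfLE hWV').op s = 0 := by
    apply affine_case X F G htf φ U hU hφU W hW
    have hnat := PresheafOfModules.naturality_apply φ.val (homOfLE hWV').op s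
    rw [hs, map_zero] at hnat
    exact hnat
  rw [map_zero, ← F.presheaf.germ_res_apply (homOfLE hWV') x hxW]
  have h0' : F.presheaf.map (homOfLE hWV').op s = 0 := h0
  rw [h0', map_zero]

end Groth.Agent.S15715
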