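import Groth.Statements.S15717
import Groth.Agent.Lib.Helper29.DepthGrade
import Groth.Agent.Lib.Helper29.DepthLoc3

set_option autoImplicit false
universe u
open CAlg

namespace Groth.Agent.S15717

/-- Let R be a Cohen–Macaulay local ring and I an ideal of R with R/I equidimensional (all minimal
primes p over I have the same dim R/p). Then there is a regular sequence r_1, ..., r_n in I such
that the closed subscheme V(r_1, ..., r_n) of Spec R, a local complete intersection, contains V(I),
has the same dimension as V(I), and has the irreducible components of V(I) among its irreducible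
components: dim R/(r_1, ..., r_n) = dim R/I and every minimal prime over I is a minimal prime over
(r_1, ..., r_n). The sequence is asked to be weakly regular (each r_i a non-zero-divisor modulo the
previous ones), which for I proper is the same as regular and which also covers I = R with the
sequence (1). -/
theorem result (R : Type u) [CommRing R]
    [LocCoh.IsCohenMacaulayLocalRing R] (I : Ideal R)
    (hI : ∀ p ∈ I.minimalPrimes, ringKrullDim (R ⧸ p) = ringKrullDim (R ⧸ I)) :
    ∃ rs : List R, RingTheory.Sequence.IsWeaklyRegular R rs ∧ Ideal.ofList rs ≤ I ∧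
      ringKrullDim (R ⧸ Ideal.ofList rs) = ringKrullDim (R ⧸ I) ∧
      I.minimalPrimes ⊆ (Ideal.ofList rs).minimalPrimes := by
  open Groth.Agent.Lib.Helper29 in
  have hCM : LocCoh.IsCohenMacaulayModule R R :=
    LocCoh.IsCohenMacaulayLocalRing.supportDim_eq_depth
  by_cases hItop : I = ⊤
  · subst hItop
    refine ⟨[1], ?_, le_top, ?_, ?_⟩
    · rw [RingTheory.Sequence.isWeaklyRegular_cons_iff]
      exact ⟨IsSMulRegular.one R, RingTheory.Sequence.IsWeaklyRegular.nil R _⟩
    · have : Ideal.ofList ([1] : List R) = ⊤ := by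
        rw [Ideal.eq_top_iff_one]
        exact Ideal.subset_span (by simp)
      rw [this]
    · rw [Ideal.minimalPrimes_top]
      exact Set.empty_subset _
  · have hsmul : ∀ J : Ideal R, J • (⊤ : Submodule R R) = J := fun J => by
      rw [smul_eq_mul, Ideal.mul_top]
    have hIM : I • (⊤ : Submodule R R) ≠ ⊤ := by rw [hsmul]; exact hItop
    have hne := idealDepth_ne_top R I R hIM
    obtain ⟨n, hn⟩ := ENat.ne_top_iff_exists.mp hne
    have h1 := supportDim_eq_add_idealDepth_of_isCohenMacaulayModule R I hItop R hCM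
    rw [← hn] at h1
    obtain ⟨rs, hlen, hmem, hreg⟩ :=
      ((le_idealDepth_iff I R n).mp hn.le).resolve_left hIM
    have hrsI : Ideal.ofList rs ≤ I := Ideal.span_le.mpr fun r hr => hmem r hr
    have hrsm : ∀ r ∈ rs, r ∈ IsLocalRing.maximalIdeal R := fun r hr =>
      IsLocalRing.le_maximalIdeal hItop (hmem r hr)
    have h2 := (isWeaklyRegular_iff_supportDim_of_isCohenMacaulayModule R R hCM rs hrsm).mp hreg
    rw [hlen] at h2
    have hdim : ringKrullDim (R ⧸ Ideal.ofList rs) = ringKrullDim (R ⧸ I) := by
      have h3 : Module.supportDim R (R ⧸ Ideal.ofList rs • (⊤ : Submodule R R)) + (n : WithBot ℕ∞) =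
          Module.supportDim R (R ⧸ (I • (⊤ : Submodule R R))) + (n : WithBot ℕ∞) := by
        rw [h2, h1]; rfl
      have h4 := withBot_enat_add_nat_cancel n (supportDim_ne_top R _) h3
      rw [hsmul, hsmul] at h4
      rw [← Module.supportDim_quotient_eq_ringKrullDim, ← Module.supportDim_quotient_eq_ringKrullDim]
      exact h4
    refine ⟨rs, hreg, hrsI, hdim, ?_⟩
    intro p hp
    have hpp : p.IsPrime := hp.1.1
    refine ⟨⟨hpp, hrsI.trans hp.1.2⟩, ?_⟩
    rintro q ⟨hqp, hq⟩ hqle
    by_contra hnle
    have hlt : (⟨q, hqp⟩ : PrimeSpectrum R) < ⟨p, hpp⟩ := lt_of_le_of_ne hqle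
      (fun h => hnle (by rw [PrimeSpectrum.ext_iff] at h; exact h.ge))
    have h5 := ringKrullDim_quotient_add_one_le_of_lt R hlt
    have h6 : ringKrullDim (R ⧸ q) ≤ ringKrullDim (R ⧸ Ideal.ofList rs) :=
      ringKrullDim_le_of_surjective (Ideal.Quotient.factor hq) (Ideal.Quotient.factor_surjective hq)
    change ringKrullDim (R ⧸ p) + 1 ≤ ringKrullDim (R ⧸ q) at h5
    rw [hI p hp, ← hdim] at h5
    have h7 := h5.trans h6
    obtain ⟨e, he⟩ := exists_nat_ringKrullDim_quotient_eq R (⟨p, hpp⟩ : PrimeSpectrum R)
    change ringKrullDim (R ⧸ p) = _ at he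
    rw [hI p hp, ← hdim] at he
    rw [he] at h7
    have : ((e + 1 : ℕ) : WithBot ℕ∞) ≤ (e : WithBot ℕ∞) := by
      push_cast
      exact h7
    have h8 : e + 1 ≤ e := by exact_mod_cast this
    omega

end Groth.Agent.S15717
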