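import Groth.Statements.S15724
import Groth.Agent.Lib.Helper80.WeightCover
import Mathlib

set_option autoImplicit false
universe u
open W4c2invhilbsl2

namespace Groth.Agent.S15724

theorem weight_wt5 (p q m : ℕ) (d : Fin 5 →₀ ℕ) :
    Finsupp.weight (wt5 p q m) d =
      ((d 0 : ℤ) - p * (d 1 + d 2) + q * (d 3 + d 4), ((d 3 : ZMod m) + d 4) - (d 1 + d 2)) := by
  rw [Finsupp.weight_apply, Finsupp.sum_fintype _ _ (by simp), Fin.sum_univ_five]
  simp only [wt5]
  ext
  · simp; ring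
  · simp; ring

theorem result (k : Type u) [Field k] (p q m : ℕ) (hp : 0 < p) (hpq : p < q) (hcop : Nat.Coprime p q) (hm : 0 < m) (f : MvPolynomial (Fin 5) k) :
    (f ∈ MvPolynomial.weightedHomogeneousSubmodule k (W4c2invhilbsl2.wt5 p q m) (W4c2invhilbsl2.wt5 p q m 1) →
      ∃ a b : MvPolynomial (Fin 5) k, a ∈ MvPolynomial.weightedHomogeneousSubmodule k (W4c2invhilbsl2.wt5 p q m) 0 ∧ b ∈ MvPolynomial.weightedHomogeneousSubmodule k (W4c2invhilbsl2.wt5 p q m) 0 ∧
        f - (a * MvPolynomial.X (1 : Fin 5) + b * MvPolynomial.X (2 : Fin 5)) ∈ Ideal.span {MvPolynomial.X (0 : Fin 5) ^ (q - p) - MvPolynomial.X 1 * MvPolynomial.X 4 + MvPolynomial.X 2 * MvPolynomial.X 3}) ∧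
    (f ∈ MvPolynomial.weightedHomogeneousSubmodule k (W4c2invhilbsl2.wt5 p q m) (W4c2invhilbsl2.wt5 p q m 3) →
      ∃ a b : MvPolynomial (Fin 5) k, a ∈ MvPolynomial.weightedHomogeneousSubmodule k (W4c2invhilbsl2.wt5 p q m) 0 ∧ b ∈ MvPolynomial.weightedHomogeneousSubmodule k (W4c2invhilbsl2.wt5 p q m) 0 ∧
        f - (a * MvPolynomial.X (3 : Fin 5) + b * MvPolynomial.X (4 : Fin 5)) ∈ Ideal.span {MvPolynomial.X (0 : Fin 5) ^ (q - p) - MvPolynomial.X 1 * MvPolynomial.X 4 + MvPolynomial.X 2 * MvPolynomial.X 3}) := by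
  classical
  have hpq' : (p : ℤ) < q := by exact_mod_cast hpq
  have hp' : (0 : ℤ) < p := by exact_mod_cast hp
  have hw1 : wt5 p q m 1 = (-(p : ℤ), (-1 : ZMod m)) := by simp [wt5]
  have hw2 : wt5 p q m 2 = (-(p : ℤ), (-1 : ZMod m)) := by simp [wt5]
  have hw3 : wt5 p q m 3 = ((q : ℤ), (1 : ZMod m)) := by simp [wt5]
  constructor
  · intro hf
    let γ : Fin 2 → (Fin 5 →₀ ℕ) := ![Finsupp.single 1 1, Finsupp.single 2 1]
    have hcover : ∀ d : Fin 5 →₀ ℕ, Finsupp.weight (wt5 p q m) d = wt5 p q m 1 →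
        ∃ i, γ i ≤ d := by
      intro d hd
      rw [weight_wt5, hw1, Prod.mk.injEq] at hd
      obtain ⟨hd1, hd2⟩ := hd
      by_cases h1 : d 1 = 0
      · have h2 : d 2 ≠ 0 := by
          intro h2
          rw [h1, h2] at hd1
          push_cast at hd1
          have h0 : (0 : ℤ) ≤ d 0 := Int.natCast_nonneg _
          have h3 : (0 : ℤ) ≤ (q : ℤ) * (d 3 + d 4) := by positivity
          linarith
        refine ⟨1, ?_⟩
        intro i
        fin_cases i <;> simp [γ] <;> omega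
      · refine ⟨0, ?_⟩
        intro i
        fin_cases i <;> simp [γ] <;> omega
    obtain ⟨a, ha, hfa⟩ := Groth.Agent.Lib.Helper80.exists_decomp_of_cover (wt5 p q m)
      (wt5 p q m 1) f hf γ hcover
    have hw : ∀ i, Finsupp.weight (wt5 p q m) (γ i) = wt5 p q m 1 := by
      intro i
      rw [weight_wt5, hw1]
      fin_cases i <;> simp [γ]
    have ha0 : ∀ i, a i ∈ MvPolynomial.weightedHomogeneousSubmodule k (wt5 p q m) 0 := by
      intro i
      have := ha i
      rwa [hw, sub_self] at this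
    refine ⟨a 0, a 1, ha0 0, ha0 1, ?_⟩
    have h0 : (MvPolynomial.monomial (γ 0) (1 : k)) = MvPolynomial.X (1 : Fin 5) := by
      simp [γ, MvPolynomial.X]
    have h1 : (MvPolynomial.monomial (γ 1) (1 : k)) = MvPolynomial.X (2 : Fin 5) := by
      simp [γ, MvPolynomial.X]
    rw [hfa, Fin.sum_univ_two, h0, h1, sub_self]
    exact zero_mem _
  · intro hf
    let γ : Fin 3 → (Fin 5 →₀ ℕ) := ![Finsupp.single 3 1, Finsupp.single 4 1, Finsupp.single 0 (q - p)]
    have hcover : ∀ d : Fin 5 →₀ ℕ, Finsupp.weight (wt5 p q m) d = wt5 p q m 3 →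
        ∃ i, γ i ≤ d := by
      intro d hd
      rw [weight_wt5, hw3, Prod.mk.injEq] at hd
      obtain ⟨hd1, hd2⟩ := hd
      by_cases h3 : d 3 = 0
      · by_cases h4 : d 4 = 0
        · refine ⟨2, ?_⟩
          have h0 : q - p ≤ d 0 := by
            rw [h3, h4] at hd1
            push_cast at hd1
            have : ((q - p : ℕ) : ℤ) ≤ (d 0 : ℤ) := by
              rw [Nat.cast_sub hpq.le]
              have : (0 : ℤ) ≤ (p : ℤ) * (d 1 + d 2) := by positivity
              simp at hd1; linarith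
            exact_mod_cast this
          intro i
          fin_cases i <;> simp [γ, h0]
        · refine ⟨1, ?_⟩
          intro i
          fin_cases i <;> simp [γ] <;> omega
      · refine ⟨0, ?_⟩
        intro i
        fin_cases i <;> simp [γ] <;> omega
    obtain ⟨a, ha, hfa⟩ := Groth.Agent.Lib.Helper80.exists_decomp_of_cover (wt5 p q m)
      (wt5 p q m 3) f hf γ hcover
    have hwa : Finsupp.weight (wt5 p q m) (γ 0) = wt5 p q m 3 := by
      rw [weight_wt5, hw3]; simp [γ]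
    have hwb : Finsupp.weight (wt5 p q m) (γ 1) = wt5 p q m 3 := by
      rw [weight_wt5, hw3]; simp [γ]
    have hwc : wt5 p q m 3 - Finsupp.weight (wt5 p q m) (γ 2) = ((p : ℤ), (1 : ZMod m)) := by
      rw [weight_wt5, hw3]; simp [γ, Nat.cast_sub hpq.le]
    have ha0 : a 0 ∈ MvPolynomial.weightedHomogeneousSubmodule k (wt5 p q m) 0 := by
      have := ha 0
      rwa [hwa, sub_self] at this
    have ha1 : a 1 ∈ MvPolynomial.weightedHomogeneousSubmodule k (wt5 p q m) 0 := by
      have := ha 1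
      rwa [hwb, sub_self] at this
    have ha2 : (a 2).IsWeightedHomogeneous (wt5 p q m) ((p : ℤ), (1 : ZMod m)) := by
      have := ha 2
      rwa [hwc] at this
    have hc1 : (a 2 * MvPolynomial.X (1 : Fin 5)) ∈
        MvPolynomial.weightedHomogeneousSubmodule k (wt5 p q m) 0 := by
      have := ha2.mul (MvPolynomial.isWeightedHomogeneous_X k (wt5 p q m) (1 : Fin 5))
      rw [hw1] at this
      have h0 : (((p : ℤ), (1 : ZMod m)) + (-(p : ℤ), (-1 : ZMod m))) = 0 := by
        ext <;> simp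
      rwa [h0] at this
    have hc2 : (a 2 * MvPolynomial.X (2 : Fin 5)) ∈
        MvPolynomial.weightedHomogeneousSubmodule k (wt5 p q m) 0 := by
      have := ha2.mul (MvPolynomial.isWeightedHomogeneous_X k (wt5 p q m) (2 : Fin 5))
      rw [hw2] at this
      have h0 : (((p : ℤ), (1 : ZMod m)) + (-(p : ℤ), (-1 : ZMod m))) = 0 := by
        ext <;> simp
      rwa [h0] at this
    refine ⟨a 0 - a 2 * MvPolynomial.X 2, a 1 + a 2 * MvPolynomial.X 1,
      Submodule.sub_mem _ ha0 hc2, Submodule.add_mem _ ha1 hc1, ?_⟩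
    have h0 : (MvPolynomial.monomial (γ 0) (1 : k)) = MvPolynomial.X (3 : Fin 5) := by
      simp [γ, MvPolynomial.X]
    have h1 : (MvPolynomial.monomial (γ 1) (1 : k)) = MvPolynomial.X (4 : Fin 5) := by
      simp [γ, MvPolynomial.X]
    have h2 : (MvPolynomial.monomial (γ 2) (1 : k)) = MvPolynomial.X (0 : Fin 5) ^ (q - p) := by
      simp [γ, MvPolynomial.X_pow_eq_monomial]
    rw [hfa, Fin.sum_univ_three, h0, h1, h2, Ideal.mem_span_singleton]
    refine ⟨a 2, ?_⟩
    ring

end Groth.Agent.S15724
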