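import Groth.Statements.S15726
import Groth.Agent.Lib.Helper80.WeightCover
import Mathlib

set_option autoImplicit false
universe u
open W4c2invhilbsl2

namespace Groth.Agent.S15726

theorem weight_wt5 (p q m : ℕ) (d : Fin 5 →₀ ℕ) :
    Finsupp.weight (wt5 p q m) d =
      ((d 0 : ℤ) - p * (d 1 + d 2) + q * (d 3 + d 4), ((d 3 : ZMod m) + d 4) - (d 1 + d 2)) := by
  rw [Finsupp.weight_apply, Finsupp.sum_fintype _ _ (by simp), Fin.sum_univ_five]
  simp only [wt5]
  ext
  · simp; ring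
  · simp; ring

theorem result (k : Type u) [Field k] (p q m : ℕ) (hp : 0 < p) (hpq : p < q) (hcop : Nat.Coprime p q) (hm : 0 < m) (f : MvPolynomial (Fin 5) k)
    (hf : f ∈ MvPolynomial.weightedHomogeneousSubmodule k (W4c2invhilbsl2.wt5 p q m) ((q : ℤ) - (p : ℤ), (0 : ZMod m))) :
    ∃ a₁₃ a₁₄ a₂₃ a₂₄ : MvPolynomial (Fin 5) k,
      a₁₃ ∈ MvPolynomial.weightedHomogeneousSubmodule k (W4c2invhilbsl2.wt5 p q m) 0 ∧ a₁₄ ∈ MvPolynomial.weightedHomogeneousSubmodule k (W4c2invhilbsl2.wt5 p q m) 0 ∧ a₂₃ ∈ MvPolynomial.weightedHomogeneousSubmodule k (W4c2invhilbsl2.wt5 p q m) 0 ∧ a₂₄ ∈ MvPolynomial.weightedHomogeneousSubmodule k (W4c2invhilbsl2.wt5 p q m) 0 ∧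
      f - (a₁₃ * (MvPolynomial.X (1 : Fin 5) * MvPolynomial.X 3) + a₁₄ * (MvPolynomial.X (1 : Fin 5) * MvPolynomial.X 4) +
          a₂₃ * (MvPolynomial.X (2 : Fin 5) * MvPolynomial.X 3) + a₂₄ * (MvPolynomial.X (2 : Fin 5) * MvPolynomial.X 4)) ∈
        Ideal.span {MvPolynomial.X (0 : Fin 5) ^ (q - p) - MvPolynomial.X 1 * MvPolynomial.X 4 + MvPolynomial.X 2 * MvPolynomial.X 3} := by
  classical
  have hpq' : (p : ℤ) < q := by exact_mod_cast hpq
  have hp' : (0 : ℤ) < p := by exact_mod_cast hp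
  let γ : Fin 5 → (Fin 5 →₀ ℕ) := ![Finsupp.single 1 1 + Finsupp.single 3 1,
    Finsupp.single 1 1 + Finsupp.single 4 1, Finsupp.single 2 1 + Finsupp.single 3 1,
    Finsupp.single 2 1 + Finsupp.single 4 1, Finsupp.single 0 (q - p)]
  have hcover : ∀ d : Fin 5 →₀ ℕ, Finsupp.weight (wt5 p q m) d = ((q : ℤ) - (p : ℤ), (0 : ZMod m)) →
      ∃ i, γ i ≤ d := by
    intro d hd
    rw [weight_wt5, Prod.mk.injEq] at hd
    obtain ⟨hd1, hd2⟩ := hd
    by_cases h12 : d 1 = 0 ∧ d 2 = 0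
    · -- then d 3 = d 4 = 0 and d 0 = q - p
      obtain ⟨h1, h2⟩ := h12
      refine ⟨4, ?_⟩
      rw [h1, h2] at hd1
      push_cast at hd1
      have h34 : (d 3 : ℤ) + d 4 = 0 := by
        by_contra h34
        have h3 : (0 : ℤ) ≤ d 3 := Int.natCast_nonneg _
        have h4 : (0 : ℤ) ≤ d 4 := Int.natCast_nonneg _
        have : (1 : ℤ) ≤ (d 3 : ℤ) + d 4 := by omega
        have h0 : (0 : ℤ) ≤ d 0 := Int.natCast_nonneg _
        have hq0 : (0 : ℤ) ≤ q := Int.natCast_nonneg _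
        nlinarith [mul_le_mul_of_nonneg_left this hq0]
      have h0 : d 0 = q - p := by
        have : (d 0 : ℤ) = ((q - p : ℕ) : ℤ) := by
          rw [Nat.cast_sub hpq.le]; rw [h34] at hd1; simpa using hd1
        exact_mod_cast this
      intro i
      fin_cases i <;> simp [γ, h0]
    · by_cases h34 : d 3 = 0 ∧ d 4 = 0
      · obtain ⟨h3, h4⟩ := h34
        refine ⟨4, ?_⟩
        have h0 : q - p ≤ d 0 := by
          rw [h3, h4] at hd1
          push_cast at hd1
          have : ((q - p : ℕ) : ℤ) ≤ (d 0 : ℤ) := by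
            rw [Nat.cast_sub hpq.le]
            have : (0 : ℤ) ≤ (p : ℤ) * (d 1 + d 2) := by positivity
            simp at hd1; linarith
          exact_mod_cast this
        intro i
        fin_cases i <;> simp [γ, h0]
      · by_cases h1 : d 1 = 0
        · have h2 : d 2 ≠ 0 := fun h => h12 ⟨h1, h⟩
          by_cases h3 : d 3 = 0
          · have h4 : d 4 ≠ 0 := fun h => h34 ⟨h3, h⟩
            refine ⟨3, ?_⟩
            intro i
            fin_cases i <;> simp [γ] <;> omega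
          · refine ⟨2, ?_⟩
            intro i
            fin_cases i <;> simp [γ] <;> omega
        · by_cases h3 : d 3 = 0
          · have h4 : d 4 ≠ 0 := fun h => h34 ⟨h3, h⟩
            refine ⟨1, ?_⟩
            intro i
            fin_cases i <;> simp [γ] <;> omega
          · refine ⟨0, ?_⟩
            intro i
            fin_cases i <;> simp [γ] <;> omega
  obtain ⟨a, ha, hfa⟩ := Groth.Agent.Lib.Helper80.exists_decomp_of_cover (wt5 p q m)
    ((q : ℤ) - (p : ℤ), (0 : ZMod m)) f hf γ hcover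
  have hw : ∀ i, Finsupp.weight (wt5 p q m) (γ i) = ((q : ℤ) - (p : ℤ), (0 : ZMod m)) := by
    intro i
    rw [weight_wt5]
    fin_cases i <;> simp [γ, Nat.cast_sub hpq.le] <;> ring
  have ha0 : ∀ i, a i ∈ MvPolynomial.weightedHomogeneousSubmodule k (wt5 p q m) 0 := by
    intro i
    have := ha i
    rwa [hw, sub_self] at this
  refine ⟨a 0, a 1 + a 4, a 2 - a 4, a 3, ha0 0, Submodule.add_mem _ (ha0 1) (ha0 4),
    Submodule.sub_mem _ (ha0 2) (ha0 4), ha0 3, ?_⟩
  have h0 : (MvPolynomial.monomial (γ 0) (1 : k)) = MvPolynomial.X (1 : Fin 5) * MvPolynomial.X (3 : Fin 5) := by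
    simp [γ, MvPolynomial.X, MvPolynomial.monomial_mul]
  have h1 : (MvPolynomial.monomial (γ 1) (1 : k)) = MvPolynomial.X (1 : Fin 5) * MvPolynomial.X (4 : Fin 5) := by
    simp [γ, MvPolynomial.X, MvPolynomial.monomial_mul]
  have h2 : (MvPolynomial.monomial (γ 2) (1 : k)) = MvPolynomial.X (2 : Fin 5) * MvPolynomial.X (3 : Fin 5) := by
    simp [γ, MvPolynomial.X, MvPolynomial.monomial_mul]
  have h3 : (MvPolynomial.monomial (γ 3) (1 : k)) = MvPolynomial.X (2 : Fin 5) * MvPolynomial.X (4 : Fin 5) := by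
    simp [γ, MvPolynomial.X, MvPolynomial.monomial_mul]
  have h4 : (MvPolynomial.monomial (γ 4) (1 : k)) = MvPolynomial.X (0 : Fin 5) ^ (q - p) := by
    simp [γ, MvPolynomial.X_pow_eq_monomial]
  rw [hfa, Fin.sum_univ_five, h0, h1, h2, h3, h4, Ideal.mem_span_singleton]
  refine ⟨a 4, ?_⟩
  ring

end Groth.Agent.S15726
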