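import Groth.Statements.S15728
import Groth.Agent.S15727
import Mathlib

set_option autoImplicit false
universe u
open W4c2invhilbsl2

namespace Groth.Agent.S15728

open MvPolynomial

/-- core arithmetic (variant of `Groth.Agent.S15739.core` with only the difference divisible) -/
theorem core' (p q m : ℕ) (hp : 0 < p) (hpq : p < q) (hcop : Nat.Coprime p q) (hm : 0 < m)
    (d0 d1 d2 e0 e1 e2 : ℕ) (hn : (e0 : ℤ) - (p : ℤ) * e1 + (q : ℤ) * e2 = (d0 : ℤ) - (p : ℤ) * d1 + (q : ℤ) * d2)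
    (hc : (m : ℤ) ∣ ((e1 : ℤ) - e2) - ((d1 : ℤ) - d2))
    (hd0 : d0 < Nat.gcd m (q - p)) (he0 : e0 < Nat.gcd m (q - p)) :
    d0 = e0 ∧ ∃ j : ℤ, (e1 : ℤ) - d1 = ((m / Nat.gcd m (q - p) * q : ℕ) : ℤ) * j ∧
      (e2 : ℤ) - d2 = ((m / Nat.gcd m (q - p) * p : ℕ) : ℤ) * j := by
  set g := Nat.gcd m (q - p) with hg
  set a := m / g with ha
  set b := (q - p) / g with hb
  have hgpos : 0 < g := Nat.gcd_pos_of_pos_left _ hm
  have hma : m = a * g := (Nat.div_mul_cancel (Nat.gcd_dvd_left m (q - p))).symm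
  have hsb : q - p = b * g := (Nat.div_mul_cancel (Nat.gcd_dvd_right m (q - p))).symm
  have hs : ((q - p : ℕ) : ℤ) = (q : ℤ) - p := Nat.cast_sub hpq.le
  have hsZ : (q : ℤ) - p = (b : ℤ) * g := by rw [← hs, hsb]; push_cast; ring
  have hmZ : (m : ℤ) = (a : ℤ) * g := by rw [hma]; push_cast; ring
  have hgZ : (0 : ℤ) < g := by exact_mod_cast hgpos
  have hbpos : 0 < b := by
    rcases Nat.eq_zero_or_pos b with h | h
    · rw [h, zero_mul] at hsb; omega
    · exact h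
  have hbZ : (0 : ℤ) < b := by exact_mod_cast hbpos
  obtain ⟨z, hz⟩ := hc
  -- key identity
  have key : (d0 : ℤ) - e0 = -((p : ℤ) * (((e1 : ℤ) - e2) - ((d1 : ℤ) - d2))) - ((q : ℤ) - p) * ((d2 : ℤ) - e2) := by
    linear_combination (-1 : ℤ) * hn
  have hdvd : (g : ℤ) ∣ (d0 : ℤ) - e0 := by
    rw [key, hz, hsZ, hmZ]
    exact ⟨-(p * (a * z)) - b * (d2 - e2), by ring⟩
  have h0 : (d0 : ℤ) - e0 = 0 := by
    apply Int.eq_zero_of_abs_lt_dvd hdvd
    rw [abs_lt]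
    constructor <;> omega
  have hde : d0 = e0 := by omega
  refine ⟨hde, ?_⟩
  have h1 : (p : ℤ) * (m * z) = ((q : ℤ) - p) * ((e2 : ℤ) - d2) := by
    have := key
    rw [h0, hz] at this
    linear_combination this
  have h2 : (p : ℤ) * a * z = b * ((e2 : ℤ) - d2) := by
    rw [hmZ, hsZ] at h1
    have : (g : ℤ) * ((p : ℤ) * a * z) = g * (b * ((e2 : ℤ) - d2)) := by linear_combination h1
    exact mul_left_cancel₀ hgZ.ne' this
  have hcopab : Nat.Coprime a b := Nat.coprime_div_gcd_div_gcd hgpos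
  have hcoppb : Nat.Coprime p b := by
    have h3 : Nat.Coprime p (q - p) := by
      have : Nat.Coprime p (q - p + p) := by rw [Nat.sub_add_cancel hpq.le]; exact hcop
      exact (Nat.coprime_add_self_right).1 this
    exact Nat.Coprime.coprime_dvd_right ⟨g, hsb⟩ h3
  have hcop2 : IsCoprime (b : ℤ) ((p : ℤ) * a) := by
    have : Nat.Coprime b (p * a) := Nat.Coprime.mul_right hcoppb.symm hcopab.symm
    exact_mod_cast Nat.isCoprime_iff_coprime.2 this
  have hbdvd : (b : ℤ) ∣ z := by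
    apply hcop2.dvd_of_dvd_mul_left
    exact ⟨(e2 : ℤ) - d2, h2⟩
  obtain ⟨j, hj⟩ := hbdvd
  have h3 : (e2 : ℤ) - d2 = (a : ℤ) * p * j := by
    rw [hj] at h2
    have : (b : ℤ) * ((p : ℤ) * a * j) = b * ((e2 : ℤ) - d2) := by linear_combination h2
    have := mul_left_cancel₀ hbZ.ne' this
    linear_combination -this
  have h4 : ((e1 : ℤ) - e2) - ((d1 : ℤ) - d2) = (m : ℤ) * b * j := by
    rw [hz, hj]; ring
  refine ⟨j, ?_, ?_⟩
  · push_cast
    have hq : (q : ℤ) = p + b * g := by linarith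
    have : (e1 : ℤ) - d1 = (((e1 : ℤ) - e2) - ((d1 : ℤ) - d2)) + ((e2 : ℤ) - d2) := by ring
    rw [this, h4, h3, hmZ, hq]; ring
  · push_cast; exact h3

theorem key (k : Type u) [Field k] (p q m : ℕ) (hp : 0 < p) (hpq : p < q) (hcop : Nat.Coprime p q)
    (hm : 0 < m) (s : k)
    (d e : Fin 5 →₀ ℕ) (hd2 : d 2 = 0) (hd4 : d 4 = 0) (he2 : e 2 = 0) (he4 : e 4 = 0)
    (hd0 : d 0 < Nat.gcd m (q - p)) (he0 : e 0 < Nat.gcd m (q - p))
    (hw : Finsupp.weight (wt5 p q m) d = Finsupp.weight (wt5 p q m) e) :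
    ∃ c : k, Ideal.Quotient.mk (idealJ k p q m s) (monomial d 1) =
      c • Ideal.Quotient.mk (idealJ k p q m s) (monomial e 1) ∨
      Ideal.Quotient.mk (idealJ k p q m s) (monomial e 1) =
      c • Ideal.Quotient.mk (idealJ k p q m s) (monomial d 1) := by
  rw [Groth.Agent.S15727.weight_wt5, Groth.Agent.S15727.weight_wt5, Prod.mk.injEq,
    hd2, hd4, he2, he4] at hw
  obtain ⟨hw1, hw2⟩ := hw
  push_cast at hw1 hw2
  simp only [add_zero, zero_add] at hw1 hw2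
  have hdvd : (m : ℤ) ∣ ((e 1 : ℤ) - e 3) - ((d 1 : ℤ) - d 3) := by
    rw [← ZMod.intCast_zmod_eq_zero_iff_dvd]
    push_cast
    linear_combination hw2
  obtain ⟨h0, j, hj1, hj3⟩ := core' p q m hp hpq hcop hm (d 0) (d 1) (d 3) (e 0) (e 1) (e 3)
    hw1.symm hdvd hd0 he0
  set g := Nat.gcd m (q - p) with hg
  set aq := m / g * q with haq
  set ap := m / g * p with hap
  have hu : Ideal.Quotient.mk (idealJ k p q m s) ((X 1 : MvPolynomial (Fin 5) k) ^ aq * X 3 ^ ap) =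
      Ideal.Quotient.mk (idealJ k p q m s) (C s) := by
    symm
    rw [Ideal.Quotient.eq]
    apply Ideal.subset_span
    simp [haq, hap, hg]
  -- generic: if e = d + j'(aq, ap) then mk M_e = s^j' • mk M_d
  have gen : ∀ (d e : Fin 5 →₀ ℕ) (j' : ℕ), d 2 = 0 → d 4 = 0 → e 2 = 0 → e 4 = 0 → d 0 = e 0 →
      (e 1 : ℤ) - d 1 = (aq : ℤ) * j' → (e 3 : ℤ) - d 3 = (ap : ℤ) * j' →
      Ideal.Quotient.mk (idealJ k p q m s) (monomial e 1) =
        (s ^ j') • Ideal.Quotient.mk (idealJ k p q m s) (monomial d 1) := by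
    intro d e j' hd2 hd4 he2 he4 h0 h1 h3
    have h1' : e 1 = d 1 + aq * j' := by
      have : (e 1 : ℤ) = ((d 1 + aq * j' : ℕ) : ℤ) := by push_cast; linarith
      exact_mod_cast this
    have h3' : e 3 = d 3 + ap * j' := by
      have : (e 3 : ℤ) = ((d 3 + ap * j' : ℕ) : ℤ) := by push_cast; linarith
      exact_mod_cast this
    rw [Groth.Agent.S15727.monomial_eq5 d, Groth.Agent.S15727.monomial_eq5 e, hd2, hd4, he2, he4,
      ← h0, h1', h3']
    simp only [pow_zero, mul_one]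
    have : (X 0 : MvPolynomial (Fin 5) k) ^ d 0 * X 1 ^ (d 1 + aq * j') * X 3 ^ (d 3 + ap * j') =
        (X 0 ^ d 0 * X 1 ^ d 1 * X 3 ^ d 3) * (X 1 ^ aq * X 3 ^ ap) ^ j' := by
      rw [mul_pow, ← pow_mul, ← pow_mul, pow_add, pow_add]; ring
    rw [this, map_mul, map_pow, hu, ← map_pow, ← map_mul, ← C_pow, mul_comm, C_mul']
    exact map_smul (Ideal.Quotient.mkₐ k (idealJ k p q m s)) (s ^ j') _
  rcases le_total 0 j with hj0 | hj0
  · obtain ⟨j', rfl⟩ := Int.eq_ofNat_of_zero_le hj0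
    exact ⟨s ^ j', Or.inr (gen d e j' hd2 hd4 he2 he4 h0 hj1 hj3)⟩
  · obtain ⟨j', hj'⟩ := Int.eq_ofNat_of_zero_le (neg_nonneg.2 hj0)
    have hjj : j = -(j' : ℤ) := by linarith
    refine ⟨s ^ j', Or.inl (gen e d j' he2 he4 hd2 hd4 h0.symm ?_ ?_)⟩
    · rw [hjj] at hj1; linarith
    · rw [hjj] at hj3; linarith

theorem result (k : Type u) [Field k] [IsAlgClosed k] (p q m : ℕ) (hp : 0 < p) (hpq : p < q) (hcop : Nat.Coprime p q) (hm : 0 < m) (s : k) (ν : ℤ × ZMod m) :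
    Module.rank k (W4c2invhilbsl2.piece k (W4c2invhilbsl2.wt5 p q m) (W4c2invhilbsl2.idealJ k p q m s) ν) ≤ 1 := by
  classical
  set I := idealJ k p q m s with hI
  set S : Set (MvPolynomial (Fin 5) k ⧸ I) :=
    {v | ∃ d : Fin 5 →₀ ℕ, Finsupp.weight (wt5 p q m) d = ν ∧
      v = Ideal.Quotient.mk I (monomial d 1)} with hS
  have hpiece : piece k (wt5 p q m) I ν ≤ Submodule.span k S := by
    rintro _ ⟨f, hf, rfl⟩
    have hfsum := (support_sum_monomial_coeff f).symm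
    rw [hfsum, map_sum]
    apply Submodule.sum_mem
    intro d hd
    have h1 : monomial d (coeff d f) = coeff d f • (monomial d 1 : MvPolynomial (Fin 5) k) := by
      rw [smul_monomial, smul_eq_mul, mul_one]
    rw [h1, map_smul]
    apply Submodule.smul_mem
    apply Submodule.subset_span
    exact ⟨d, hf (mem_support_iff.1 hd), rfl⟩
  have hzero : ∀ d : Fin 5 →₀ ℕ, (d 2 ≠ 0 ∨ d 4 ≠ 0 ∨ Nat.gcd m (q - p) ≤ d 0) →
      Ideal.Quotient.mk I (monomial d (1 : k)) = 0 := by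
    intro d hd
    rw [Ideal.Quotient.eq_zero_iff_mem, Groth.Agent.S15727.monomial_eq5]
    rcases hd with h | h | h
    · obtain ⟨n, hn⟩ := Nat.exists_eq_succ_of_ne_zero h
      have : (X 0 : MvPolynomial (Fin 5) k) ^ d 0 * X 1 ^ d 1 * X 2 ^ d 2 * X 3 ^ d 3 * X 4 ^ d 4 =
          (X 0 ^ d 0 * X 1 ^ d 1 * X 2 ^ n * X 3 ^ d 3 * X 4 ^ d 4) * X 2 := by
        rw [hn, pow_succ]; ring
      rw [this]
      apply Ideal.mul_mem_left
      apply Ideal.subset_span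
      simp
    · obtain ⟨n, hn⟩ := Nat.exists_eq_succ_of_ne_zero h
      have : (X 0 : MvPolynomial (Fin 5) k) ^ d 0 * X 1 ^ d 1 * X 2 ^ d 2 * X 3 ^ d 3 * X 4 ^ d 4 =
          (X 0 ^ d 0 * X 1 ^ d 1 * X 2 ^ d 2 * X 3 ^ d 3 * X 4 ^ n) * X 4 := by
        rw [hn, pow_succ]; ring
      rw [this]
      apply Ideal.mul_mem_left
      apply Ideal.subset_span
      simp
    · obtain ⟨n, hn⟩ := Nat.exists_eq_add_of_le h
      have : (X 0 : MvPolynomial (Fin 5) k) ^ d 0 * X 1 ^ d 1 * X 2 ^ d 2 * X 3 ^ d 3 * X 4 ^ d 4 =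
          (X 0 ^ n * X 1 ^ d 1 * X 2 ^ d 2 * X 3 ^ d 3 * X 4 ^ d 4) * X 0 ^ Nat.gcd m (q - p) := by
        rw [hn, pow_add]; ring
      rw [this]
      apply Ideal.mul_mem_left
      apply Ideal.subset_span
      simp
  obtain ⟨v₀, hv₀⟩ := Groth.Agent.S15727.span_le_of_pairwise (k := k) S (by
    rintro v ⟨d, hd, rfl⟩ w ⟨e, he, rfl⟩
    by_cases hdz : d 2 ≠ 0 ∨ d 4 ≠ 0 ∨ Nat.gcd m (q - p) ≤ d 0
    · exact ⟨0, Or.inl (by rw [hzero d hdz, zero_smul])⟩
    by_cases hez : e 2 ≠ 0 ∨ e 4 ≠ 0 ∨ Nat.gcd m (q - p) ≤ e 0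
    · exact ⟨0, Or.inr (by rw [hzero e hez, zero_smul])⟩
    push_neg at hdz hez
    exact key k p q m hp hpq hcop hm s d e hdz.1 hdz.2.1 hez.1 hez.2.1 hdz.2.2 hez.2.2
      (hd.trans he.symm))
  rw [rank_submodule_le_one_iff']
  exact ⟨v₀, hpiece.trans hv₀⟩

end Groth.Agent.S15728
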