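import Groth.Statements.S15729
import Mathlib
import Groth.Agent.Lib.Helper80.HJCover
import Groth.Agent.Lib.Helper80.WeightCover
import Groth.Agent.S15725

set_option autoImplicit false
universe u
open W4c2invhilbsl2
open Groth.Agent.Lib.Helper80

namespace Groth.Agent.S15729

/-- Let 0 < p < q be coprime integers and m ≥ 1 such that q − p does not divide m; put g = gcd(m, q−p),
b = (q−p)/g, α = ⌊mp/(q−p)⌋, β = the remainder of mp modulo q−p and t = (q−p−β)/g, so that 1 ≤ t <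
b, and let b/t = c₁ − 1/(c₂ − 1/(⋯ − 1/c_r)) be the negative-regular (Hirzebruch–Jung) continued
fraction expansion with every cᵢ ≥ 2; set P₀ = 0, P₁ = 1, Q₀ = −1, Q₁ = 0, Pᵢ = cᵢ₋₁Pᵢ₋₁ − Pᵢ₋₂, Qᵢ
= cᵢ₋₁Qᵢ₋₁ − Qᵢ₋₂ for 2 ≤ i ≤ r+1, and eᵢ = (α+1+m)Pᵢ − Qᵢ, lᵢ = (α+1)Pᵢ − Qᵢ, nᵢ = q·lᵢ − p·eᵢ,
which are non-negative integers for 0 ≤ i ≤ r+1. Grade the polynomial ring k[X₀,X₁,X₂] over a field
k by ℤ × ℤ/m with weights (1,0), (−p,−1), (q,1) (it stands for k[X₀,X₁,Xⱼ], j = 3 or 4, inside the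
five-variable ring). Then for every 1 ≤ i ≤ r, every polynomial homogeneous of weight (nᵢ, 0) can be
written a·X₀^(nᵢ) + b·X₁^(eᵢ)X₂^(lᵢ) with a and b homogeneous of weight zero; that is, the
weight-(nᵢ,0) piece is generated over the weight-zero subring by X₀^(nᵢ) and X₁^(eᵢ)X₂^(lᵢ). -/
theorem result (k : Type u) [Field k] (p q m : ℕ) (hp : 0 < p) (hpq : p < q) (hcop : Nat.Coprime p q) (hm : 0 < m) (hnt : ¬ (q - p ∣ m)) (c : List ℤ) (hc : W4c2invhilbsl2.IsHJDigits p q m c) (i : ℕ) (hi : 1 ≤ i) (hir : i ≤ c.length)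
    (f : MvPolynomial (Fin 3) k) (hf : f ∈ MvPolynomial.weightedHomogeneousSubmodule k (W4c2invhilbsl2.wt3 p q m) (W4c2invhilbsl2.nN p q m c i, (0 : ZMod m))) :
    ∃ a b : MvPolynomial (Fin 3) k, a ∈ MvPolynomial.weightedHomogeneousSubmodule k (W4c2invhilbsl2.wt3 p q m) 0 ∧ b ∈ MvPolynomial.weightedHomogeneousSubmodule k (W4c2invhilbsl2.wt3 p q m) 0 ∧
      f = a * MvPolynomial.X (0 : Fin 3) ^ (W4c2invhilbsl2.nN p q m c i).toNat +
        b * (MvPolynomial.X (1 : Fin 3) ^ (W4c2invhilbsl2.eE p q m c i).toNat * MvPolynomial.X (2 : Fin 3) ^ (W4c2invhilbsl2.lL p q m c i).toNat) := by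
  classical
  have hn0 := HJ.nN_nonneg p q m hpq c hc i (by omega)
  have he0 := HJ.eE_nonneg p q m hpq c hc i hi hir
  have hl0 := HJ.lL_nonneg p q m hpq c hc i hi hir
  have hnc : ((nN p q m c i).toNat : ℤ) = nN p q m c i := Int.toNat_of_nonneg hn0
  have hec : ((eE p q m c i).toNat : ℤ) = eE p q m c i := Int.toNat_of_nonneg he0
  have hlc : ((lL p q m c i).toNat : ℤ) = lL p q m c i := Int.toNat_of_nonneg hl0
  let γ : Fin 2 → (Fin 3 →₀ ℕ) := ![Finsupp.single 0 (nN p q m c i).toNat,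
    Finsupp.single 1 (eE p q m c i).toNat + Finsupp.single 2 (lL p q m c i).toNat]
  have hcover : ∀ d : Fin 3 →₀ ℕ, Finsupp.weight (wt3 p q m) d = (nN p q m c i, (0 : ZMod m)) →
      ∃ j, γ j ≤ d := by
    intro d hd
    rw [Groth.Agent.S15725.weight_wt3, Prod.mk.injEq] at hd
    obtain ⟨hd1, hd2⟩ := hd
    rcases HJ.cover_pqm p q m hp hpq hm c hc i hi hir (d 0) (d 1) (d 2) hd1 hd2 with h | ⟨h1, h2⟩
    · refine ⟨0, ?_⟩
      have : (nN p q m c i).toNat ≤ d 0 := Int.toNat_le.2 h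
      intro j
      fin_cases j <;> simp [γ, this]
    · refine ⟨1, ?_⟩
      have h1' : (eE p q m c i).toNat ≤ d 1 := Int.toNat_le.2 h1
      have h2' : (lL p q m c i).toNat ≤ d 2 := Int.toNat_le.2 h2
      intro j
      fin_cases j <;> simp [γ, h1', h2']
  obtain ⟨a, ha, hfa⟩ := Groth.Agent.Lib.Helper80.exists_decomp_of_cover (wt3 p q m)
    (nN p q m c i, (0 : ZMod m)) f hf γ hcover
  refine ⟨a 0, a 1, ?_, ?_, ?_⟩
  · have := ha 0
    have hw : Finsupp.weight (wt3 p q m) (γ 0) = (nN p q m c i, (0 : ZMod m)) := by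
      rw [Groth.Agent.S15725.weight_wt3]; simp [γ, hnc]
    rwa [hw, sub_self] at this
  · have := ha 1
    have hw : Finsupp.weight (wt3 p q m) (γ 1) = (nN p q m c i, (0 : ZMod m)) := by
      rw [Groth.Agent.S15725.weight_wt3]
      have e1 : (γ 1) 0 = 0 := by simp [γ]
      have e2 : (γ 1) 1 = (eE p q m c i).toNat := by simp [γ]
      have e3 : (γ 1) 2 = (lL p q m c i).toNat := by simp [γ]
      rw [e1, e2, e3, hec, hlc]
      ext
      · simp only [nN]; push_cast; ring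
      · show (((lL p q m c i).toNat : ℕ) : ZMod m) - (((eE p q m c i).toNat : ℕ) : ZMod m) = 0
        have h1 : (((lL p q m c i).toNat : ℕ) : ZMod m) = ((lL p q m c i : ℤ) : ZMod m) := by
          rw [← hlc]; simp
        have h2 : (((eE p q m c i).toNat : ℕ) : ZMod m) = ((eE p q m c i : ℤ) : ZMod m) := by
          rw [← hec]; simp
        rw [h1, h2, ← Int.cast_sub, ZMod.intCast_zmod_eq_zero_iff_dvd]
        refine ⟨-hjP c i, ?_⟩
        unfold lL eE; push_cast; ring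
    rwa [hw, sub_self] at this
  · rw [hfa, Fin.sum_univ_two]
    have h0 : (MvPolynomial.monomial (γ 0) (1 : k))
        = MvPolynomial.X (0 : Fin 3) ^ (nN p q m c i).toNat := by
      simp [γ, MvPolynomial.X_pow_eq_monomial]
    have h1 : (MvPolynomial.monomial (γ 1) (1 : k))
        = MvPolynomial.X (1 : Fin 3) ^ (eE p q m c i).toNat
          * MvPolynomial.X (2 : Fin 3) ^ (lL p q m c i).toNat := by
      simp [γ, MvPolynomial.X_pow_eq_monomial, MvPolynomial.monomial_mul]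
    rw [h0, h1]

end Groth.Agent.S15729
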