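import Groth.Statements.S15732
import Mathlib
import Groth.Agent.Lib.Helper80.HJCover
import Groth.Agent.Lib.Helper80.WeightCover
import Groth.Agent.S15727

set_option autoImplicit false
universe u
open W4c2invhilbsl2
open Groth.Agent.Lib.Helper80

namespace Groth.Agent.S15732

/-- Let 0 < p < q be coprime integers and m ≥ 1 such that q − p does not divide m; put g = gcd(m, q−p),
b = (q−p)/g, α = ⌊mp/(q−p)⌋, β = the remainder of mp modulo q−p and t = (q−p−β)/g, so that 1 ≤ t <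
b, and let b/t = c₁ − 1/(c₂ − 1/(⋯ − 1/c_r)) be the negative-regular (Hirzebruch–Jung) continued
fraction expansion with every cᵢ ≥ 2; set P₀ = 0, P₁ = 1, Q₀ = −1, Q₁ = 0, Pᵢ = cᵢ₋₁Pᵢ₋₁ − Pᵢ₋₂, Qᵢ
= cᵢ₋₁Qᵢ₋₁ − Qᵢ₋₂ for 2 ≤ i ≤ r+1, and eᵢ = (α+1+m)Pᵢ − Qᵢ, lᵢ = (α+1)Pᵢ − Qᵢ, nᵢ = q·lᵢ − p·eᵢ,
which are non-negative integers for 0 ≤ i ≤ r+1. Grade the polynomial ring k[X₀,…,X₄] over a field k
by ℤ × ℤ/m, giving X₀ weight (1,0), X₁ and X₂ weight (−p,−1), and X₃ and X₄ weight (q,1). Then for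
every 1 ≤ i ≤ r, modulo the principal ideal generated by the weight-zero element X₀^(q−p) − X₁X₄ +
X₂X₃, every polynomial homogeneous of weight (nᵢ, 0) is congruent to a combination a₀·X₀^(nᵢ) + Σ
a_{e,l}·X₁^(eᵢ−e)X₂^e X₃^(lᵢ−l)X₄^l (sum over 0 ≤ e ≤ eᵢ, 0 ≤ l ≤ lᵢ) whose coefficients a₀, a_{e,l}
are homogeneous of weight zero. Equivalently, in the coordinate ring of the hypersurface the
weight-(nᵢ,0) piece is generated over the weight-zero subring (the invariant ring) by X₀^(nᵢ)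
together with the products of a degree-eᵢ monomial in X₁, X₂ and a degree-lᵢ monomial in X₃, X₄.
(The published statement is over the complex numbers; this row takes any field.) -/
theorem result (k : Type u) [Field k] (p q m : ℕ) (hp : 0 < p) (hpq : p < q) (hcop : Nat.Coprime p q) (hm : 0 < m) (hnt : ¬ (q - p ∣ m)) (c : List ℤ) (hc : W4c2invhilbsl2.IsHJDigits p q m c) (i : ℕ) (hi : 1 ≤ i) (hir : i ≤ c.length)
    (f : MvPolynomial (Fin 5) k) (hf : f ∈ MvPolynomial.weightedHomogeneousSubmodule k (W4c2invhilbsl2.wt5 p q m) (W4c2invhilbsl2.nN p q m c i, (0 : ZMod m))) :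
    ∃ (a₀ : MvPolynomial (Fin 5) k) (a : ℕ → ℕ → MvPolynomial (Fin 5) k),
      a₀ ∈ MvPolynomial.weightedHomogeneousSubmodule k (W4c2invhilbsl2.wt5 p q m) 0 ∧ (∀ e l : ℕ, a e l ∈ MvPolynomial.weightedHomogeneousSubmodule k (W4c2invhilbsl2.wt5 p q m) 0) ∧
      f - (a₀ * MvPolynomial.X (0 : Fin 5) ^ (W4c2invhilbsl2.nN p q m c i).toNat +
          ∑ e ∈ Finset.range ((W4c2invhilbsl2.eE p q m c i).toNat + 1), ∑ l ∈ Finset.range ((W4c2invhilbsl2.lL p q m c i).toNat + 1),
            a e l * (MvPolynomial.X (1 : Fin 5) ^ ((W4c2invhilbsl2.eE p q m c i).toNat - e) * MvPolynomial.X (2 : Fin 5) ^ e *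
              MvPolynomial.X (3 : Fin 5) ^ ((W4c2invhilbsl2.lL p q m c i).toNat - l) * MvPolynomial.X (4 : Fin 5) ^ l)) ∈
        Ideal.span {MvPolynomial.X (0 : Fin 5) ^ (q - p) - MvPolynomial.X 1 * MvPolynomial.X 4 + MvPolynomial.X 2 * MvPolynomial.X 3} := by
  classical
  have hn0 := HJ.nN_nonneg p q m hpq c hc i (by omega)
  have he0 := HJ.eE_nonneg p q m hpq c hc i hi hir
  have hl0 := HJ.lL_nonneg p q m hpq c hc i hi hir
  have hnc : ((nN p q m c i).toNat : ℤ) = nN p q m c i := Int.toNat_of_nonneg hn0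
  have hec : ((eE p q m c i).toNat : ℤ) = eE p q m c i := Int.toNat_of_nonneg he0
  have hlc : ((lL p q m c i).toNat : ℤ) = lL p q m c i := Int.toNat_of_nonneg hl0
  set n := (nN p q m c i).toNat with hn
  set E := (eE p q m c i).toNat with hE
  set L := (lL p q m c i).toNat with hL
  let γ : Option (Fin (E + 1) × Fin (L + 1)) → (Fin 5 →₀ ℕ) := fun x =>
    match x with
    | none => Finsupp.single 0 n
    | some (e, l) => Finsupp.single 1 (E - e) + Finsupp.single 2 (e : ℕ) + Finsupp.single 3 (L - l)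
        + Finsupp.single 4 (l : ℕ)
  have hcover : ∀ d : Fin 5 →₀ ℕ, Finsupp.weight (wt5 p q m) d = (nN p q m c i, (0 : ZMod m)) →
      ∃ x, γ x ≤ d := by
    intro d hd
    rw [Groth.Agent.S15727.weight_wt5, Prod.mk.injEq] at hd
    obtain ⟨hd1, hd2⟩ := hd
    rcases HJ.cover_pqm p q m hp hpq hm c hc i hi hir (d 0) (d 1 + d 2) (d 3 + d 4)
      (by push_cast; exact hd1) (by push_cast; exact hd2) with h | ⟨h1, h2⟩
    · refine ⟨none, ?_⟩
      have : n ≤ d 0 := Int.toNat_le.2 h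
      intro j
      fin_cases j <;> simp [γ, this]
    · have h1' : E ≤ d 1 + d 2 := Int.toNat_le.2 h1
      have h2' : L ≤ d 3 + d 4 := Int.toNat_le.2 h2
      refine ⟨some (⟨min (d 2) E, by omega⟩, ⟨min (d 4) L, by omega⟩), ?_⟩
      intro j
      fin_cases j <;> simp [γ] <;> omega
  obtain ⟨a, ha, hfa⟩ := Groth.Agent.Lib.Helper80.exists_decomp_of_cover' (wt5 p q m)
    (nN p q m c i, (0 : ZMod m)) f hf γ hcover
  have hel : ((L : ℕ) : ZMod m) - ((E : ℕ) : ZMod m) = 0 := by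
    have h1 : ((L : ℕ) : ZMod m) = ((lL p q m c i : ℤ) : ZMod m) := by
      rw [← hlc]; simp
    have h2 : ((E : ℕ) : ZMod m) = ((eE p q m c i : ℤ) : ZMod m) := by
      rw [← hec]; simp
    rw [h1, h2, ← Int.cast_sub, ZMod.intCast_zmod_eq_zero_iff_dvd]
    refine ⟨-hjP c i, ?_⟩
    unfold lL eE; push_cast; ring
  have hw : ∀ x, Finsupp.weight (wt5 p q m) (γ x) = (nN p q m c i, (0 : ZMod m)) := by
    intro x
    rw [Groth.Agent.S15727.weight_wt5]
    rcases x with _ | ⟨e, l⟩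
    · simp [γ, hnc]
    · have he : (e : ℕ) ≤ E := Nat.lt_succ_iff.1 e.2
      have hl : (l : ℕ) ≤ L := Nat.lt_succ_iff.1 l.2
      have e0 : (γ (some (e, l))) 0 = 0 := by simp [γ]
      have e1 : (γ (some (e, l))) 1 = E - e := by simp [γ]
      have e2 : (γ (some (e, l))) 2 = e := by simp [γ]
      have e3 : (γ (some (e, l))) 3 = L - l := by simp [γ]
      have e4 : (γ (some (e, l))) 4 = l := by simp [γ]
      rw [e0, e1, e2, e3, e4]
      ext
      · simp only
        rw [Nat.cast_sub he, Nat.cast_sub hl, hec, hlc]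
        simp only [nN]; push_cast; ring
      · simp only
        rw [Nat.cast_sub he, Nat.cast_sub hl]
        linear_combination hel
  have ha0 : ∀ x, a x ∈ MvPolynomial.weightedHomogeneousSubmodule k (wt5 p q m) 0 := by
    intro x
    have := ha x
    rwa [hw x, sub_self] at this
  refine ⟨a none, fun e l => if h : e < E + 1 ∧ l < L + 1 then a (some (⟨e, h.1⟩, ⟨l, h.2⟩)) else 0,
    ha0 none, ?_, ?_⟩
  · intro e l
    by_cases h : e < E + 1 ∧ l < L + 1
    · simp only [dif_pos h]; exact ha0 _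
    · simp only [dif_neg h]; exact zero_mem _
  · have : f - (a none * MvPolynomial.X (0 : Fin 5) ^ n +
          ∑ e ∈ Finset.range (E + 1), ∑ l ∈ Finset.range (L + 1),
            (if h : e < E + 1 ∧ l < L + 1 then a (some (⟨e, h.1⟩, ⟨l, h.2⟩)) else 0) *
              (MvPolynomial.X (1 : Fin 5) ^ (E - e) * MvPolynomial.X (2 : Fin 5) ^ e *
              MvPolynomial.X (3 : Fin 5) ^ (L - l) * MvPolynomial.X (4 : Fin 5) ^ l)) = 0 := by
      rw [sub_eq_zero]
      conv_lhs => rw [hfa]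
      rw [Fintype.sum_option, Fintype.sum_prod_type]
      congr 1
      · simp [γ, MvPolynomial.X_pow_eq_monomial]
      · rw [← Fin.sum_univ_eq_sum_range (fun e => ∑ l ∈ Finset.range (L + 1),
            (if h : e < E + 1 ∧ l < L + 1 then a (some (⟨e, h.1⟩, ⟨l, h.2⟩)) else 0) *
              (MvPolynomial.X (1 : Fin 5) ^ (E - e) * MvPolynomial.X (2 : Fin 5) ^ e *
              MvPolynomial.X (3 : Fin 5) ^ (L - l) * MvPolynomial.X (4 : Fin 5) ^ l)) (E + 1)]
        apply Finset.sum_congr rfl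
        intro e _
        rw [← Fin.sum_univ_eq_sum_range (fun l =>
            (if h : (e : ℕ) < E + 1 ∧ l < L + 1 then a (some (⟨e, h.1⟩, ⟨l, h.2⟩)) else 0) *
              (MvPolynomial.X (1 : Fin 5) ^ (E - e) * MvPolynomial.X (2 : Fin 5) ^ (e : ℕ) *
              MvPolynomial.X (3 : Fin 5) ^ (L - l) * MvPolynomial.X (4 : Fin 5) ^ l)) (L + 1)]
        apply Finset.sum_congr rfl
        intro l _
        rw [dif_pos ⟨e.2, l.2⟩]
        congr 1
        simp [γ, MvPolynomial.X_pow_eq_monomial, MvPolynomial.monomial_mul]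
    rw [this]
    exact zero_mem _

end Groth.Agent.S15732
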