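import Groth.Statements.S15733
import Mathlib
import Groth.Agent.Lib.Helper80.HJLattice

set_option autoImplicit false
open W4c2invhilbsl2
open Groth.Agent.Lib.Helper80

namespace Groth.Agent.S15733

/-- Let 0 < p < q be coprime integers and m ≥ 1 such that q − p does not divide m; put g = gcd(m, q−p),
b = (q−p)/g, α = ⌊mp/(q−p)⌋, β = the remainder of mp modulo q−p and t = (q−p−β)/g, so that 1 ≤ t <
b, and let b/t = c₁ − 1/(c₂ − 1/(⋯ − 1/c_r)) be the negative-regular (Hirzebruch–Jung) continued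
fraction expansion with every cᵢ ≥ 2; set P₀ = 0, P₁ = 1, Q₀ = −1, Q₁ = 0, Pᵢ = cᵢ₋₁Pᵢ₋₁ − Pᵢ₋₂, Qᵢ
= cᵢ₋₁Qᵢ₋₁ − Qᵢ₋₂ for 2 ≤ i ≤ r+1, and eᵢ = (α+1+m)Pᵢ − Qᵢ, lᵢ = (α+1)Pᵢ − Qᵢ, nᵢ = q·lᵢ − p·eᵢ,
which are non-negative integers for 0 ≤ i ≤ r+1. Then for every 1 < i ≤ r and every integer x with 0
< x < Pᵢ, the remainder of pmx + nᵢ on division by q − p equals nᵢ plus the remainder of pmx on
division by q − p (in particular nᵢ + (pmx mod (q−p)) < q − p). -/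
theorem result (p q m : ℕ) (hp : 0 < p) (hpq : p < q) (hcop : Nat.Coprime p q) (hm : 0 < m) (hnt : ¬ (q - p ∣ m)) (c : List ℤ) (hc : W4c2invhilbsl2.IsHJDigits p q m c) (i : ℕ) (hi : 1 < i) (hir : i ≤ c.length)
    (x : ℤ) (hx0 : 0 < x) (hx : x < W4c2invhilbsl2.hjP c i) :
    Int.emod ((p : ℤ) * m * x + W4c2invhilbsl2.nN p q m c i) ((q : ℤ) - p) = W4c2invhilbsl2.nN p q m c i + Int.emod ((p : ℤ) * m * x) ((q : ℤ) - p) := by
  obtain ⟨h2, hv⟩ := hc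
  have hb : (0 : ℤ) < (bB p q m : ℤ) := by exact_mod_cast HJ.bB_pos p q m hpq
  have hg : (0 : ℤ) < (gcdK p q m : ℤ) := by exact_mod_cast HJ.gcdK_pos p q m hpq
  have hv' : HJFrac.hjVal c = (((bB p q m : ℕ) : ℤ) : ℚ) / (((tT p q m : ℕ) : ℤ) : ℚ) := by
    rw [hv]; push_cast; rfl
  obtain ⟨j, rfl⟩ : ∃ j, i = j + 1 := ⟨i - 1, by omega⟩
  have hlow := HJ.emod_lower c h2 _ _ hb hv' j (by omega) x hx0 hx
  have hTT := HJ.tseq_lt c h2 _ _ hb hv' j (by omega)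
  have hT1 := HJ.tseq_nonneg c h2 _ _ hb hv' (j + 1) (by omega)
  have hdiv : (bB p q m : ℤ) * (((tT p q m : ℤ) * x) / (bB p q m : ℤ)) + ((tT p q m : ℤ) * x) % (bB p q m : ℤ)
      = (tT p q m : ℤ) * x := Int.mul_ediv_add_emod _ _
  have hyb : ((tT p q m : ℤ) * x) % (bB p q m : ℤ) < (bB p q m : ℤ) := Int.emod_lt_of_pos _ hb
  generalize ((tT p q m : ℤ) * x) % (bB p q m : ℤ) = y at hlow hdiv hyb
  generalize ((tT p q m : ℤ) * x) / (bB p q m : ℤ) = k at hdiv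
  have h1 := HJ.g_mul_t_int p q m hpq
  have h3 := HJ.g_mul_b_int p q m hpq
  have hn := HJ.nN_eq p q m hpq c (j + 1)
  generalize HJ.tseq c (bB p q m) (tT p q m) (j + 1) = T1 at *
  generalize HJ.tseq c (bB p q m) (tT p q m) j = T0 at *
  have e1 : (p : ℤ) * m * x = (gcdK p q m : ℤ) * ((bB p q m : ℤ) - y)
      + ((q : ℤ) - p) * (((alpha p q m : ℤ) + 1) * x - k - 1) := by
    linear_combination x * h1 + (gcdK p q m : ℤ) * hdiv - (k + 1) * h3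
  have e2 : (p : ℤ) * m * x + nN p q m c (j + 1) = (gcdK p q m : ℤ) * ((bB p q m : ℤ) - y + T1)
      + ((q : ℤ) - p) * (((alpha p q m : ℤ) + 1) * x - k - 1) := by
    rw [hn, e1]; ring
  have r1 : ((p : ℤ) * m * x) % ((q : ℤ) - p) = (gcdK p q m : ℤ) * ((bB p q m : ℤ) - y) := by
    rw [e1, Int.add_mul_emod_self_left]
    apply Int.emod_eq_of_lt
    · exact mul_nonneg hg.le (by linarith)
    · rw [← h3]; exact mul_lt_mul_of_pos_left (by linarith) hg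
  have r2 : ((p : ℤ) * m * x + nN p q m c (j + 1)) % ((q : ℤ) - p)
      = (gcdK p q m : ℤ) * ((bB p q m : ℤ) - y + T1) := by
    rw [e2, Int.add_mul_emod_self_left]
    apply Int.emod_eq_of_lt
    · exact mul_nonneg hg.le (by linarith)
    · rw [← h3]; exact mul_lt_mul_of_pos_left (by linarith) hg
  show ((p : ℤ) * m * x + nN p q m c (j + 1)) % ((q : ℤ) - p)
    = nN p q m c (j + 1) + ((p : ℤ) * m * x) % ((q : ℤ) - p)
  rw [r2, r1, hn]; ring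

end Groth.Agent.S15733
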