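import Groth.Statements.S15739
import Mathlib

set_option autoImplicit false
universe u
open W4c2invhilbsl2

namespace Groth.Agent.S15739

/-- core arithmetic: -/
theorem core (p q m : ℕ) (hp : 0 < p) (hpq : p < q) (hcop : Nat.Coprime p q) (hm : 0 < m)
    (d0 d1 d2 e0 e1 e2 : ℕ) (hn : (e0 : ℤ) - (p : ℤ) * e1 + (q : ℤ) * e2 = (d0 : ℤ) - (p : ℤ) * d1 + (q : ℤ) * d2)
    (hcd : (m : ℤ) ∣ (d1 : ℤ) - d2) (hce : (m : ℤ) ∣ (e1 : ℤ) - e2)
    (hd0 : d0 < Nat.gcd m (q - p)) (he0 : e0 < Nat.gcd m (q - p)) :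
    d0 = e0 ∧ ∃ j : ℤ, (e1 : ℤ) - d1 = ((m / Nat.gcd m (q - p) * q : ℕ) : ℤ) * j ∧
      (e2 : ℤ) - d2 = ((m / Nat.gcd m (q - p) * p : ℕ) : ℤ) * j ∧
      ((e1 : ℤ) - e2) - ((d1 : ℤ) - d2) = ((m : ℤ) * ((q - p) / Nat.gcd m (q - p) : ℕ)) * j := by
  set g := Nat.gcd m (q - p) with hg
  set a := m / g with ha
  set b := (q - p) / g with hb
  have hgpos : 0 < g := Nat.gcd_pos_of_pos_left _ hm
  have hma : m = a * g := (Nat.div_mul_cancel (Nat.gcd_dvd_left m (q - p))).symm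
  have hsb : q - p = b * g := (Nat.div_mul_cancel (Nat.gcd_dvd_right m (q - p))).symm
  have hs : ((q - p : ℕ) : ℤ) = (q : ℤ) - p := Nat.cast_sub hpq.le
  have hsZ : (q : ℤ) - p = (b : ℤ) * g := by rw [← hs, hsb]; push_cast; ring
  have hmZ : (m : ℤ) = (a : ℤ) * g := by rw [hma]; push_cast; ring
  have hgZ : (0 : ℤ) < g := by exact_mod_cast hgpos
  have hbpos : 0 < b := by
    rcases Nat.eq_zero_or_pos b with h | h
    · rw [h, zero_mul] at hsb; omega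
    · exact h
  have hbZ : (0 : ℤ) < b := by exact_mod_cast hbpos
  obtain ⟨x, hx⟩ := hcd
  obtain ⟨y, hy⟩ := hce
  -- key identity
  have key : (d0 : ℤ) - e0 = (p : ℤ) * (((d1 : ℤ) - d2) - ((e1 : ℤ) - e2)) - ((q : ℤ) - p) * ((d2 : ℤ) - e2) := by
    linear_combination (-1 : ℤ) * hn
  have hdvd : (g : ℤ) ∣ (d0 : ℤ) - e0 := by
    rw [key, hx, hy, hsZ, hmZ]
    exact ⟨p * (a * x - a * y) - b * (d2 - e2), by ring⟩
  have h0 : (d0 : ℤ) - e0 = 0 := by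
    apply Int.eq_zero_of_abs_lt_dvd hdvd
    rw [abs_lt]
    constructor <;> [skip; skip] <;> omega
  have hde : d0 = e0 := by omega
  refine ⟨hde, ?_⟩
  -- p * (c' - c) = s * (e2 - d2)
  have h1 : (p : ℤ) * (m * (y - x)) = ((q : ℤ) - p) * ((e2 : ℤ) - d2) := by
    have := key
    rw [h0, hx, hy] at this
    linear_combination this
  -- cancel g
  have h2 : (p : ℤ) * a * (y - x) = b * ((e2 : ℤ) - d2) := by
    rw [hmZ, hsZ] at h1
    have : (g : ℤ) * ((p : ℤ) * a * (y - x)) = g * (b * ((e2 : ℤ) - d2)) := by linear_combination h1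
    exact mul_left_cancel₀ hgZ.ne' this
  -- b coprime to p * a
  have hcopab : Nat.Coprime a b := Nat.coprime_div_gcd_div_gcd hgpos
  have hcoppb : Nat.Coprime p b := by
    have h3 : Nat.Coprime p (q - p) := by
      have : Nat.Coprime p (q - p + p) := by rw [Nat.sub_add_cancel hpq.le]; exact hcop
      exact (Nat.coprime_add_self_right).1 this
    exact Nat.Coprime.coprime_dvd_right ⟨g, hsb⟩ h3
  have hcop2 : IsCoprime (b : ℤ) ((p : ℤ) * a) := by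
    have : Nat.Coprime b (p * a) := Nat.Coprime.mul_right hcoppb.symm hcopab.symm
    exact_mod_cast Nat.isCoprime_iff_coprime.2 this
  have hbdvd : (b : ℤ) ∣ (y - x) := by
    apply hcop2.dvd_of_dvd_mul_left
    exact ⟨(e2 : ℤ) - d2, h2⟩
  obtain ⟨j, hj⟩ := hbdvd
  have h3 : (e2 : ℤ) - d2 = (a : ℤ) * p * j := by
    rw [hj] at h2
    have : (b : ℤ) * ((p : ℤ) * a * j) = b * ((e2 : ℤ) - d2) := by linear_combination h2
    have := mul_left_cancel₀ hbZ.ne' this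
    linear_combination -this
  have h4 : ((e1 : ℤ) - e2) - ((d1 : ℤ) - d2) = (m : ℤ) * b * j := by
    rw [hx, hy]; linear_combination (m : ℤ) * hj
  refine ⟨j, ?_, ?_, ?_⟩
  · push_cast
    have hq : (q : ℤ) = p + b * g := by linarith
    have : (e1 : ℤ) - d1 = (((e1 : ℤ) - e2) - ((d1 : ℤ) - d2)) + ((e2 : ℤ) - d2) := by ring
    rw [this, h4, h3, hmZ, hq]; ring
  · push_cast; exact h3
  · exact h4

theorem result (k : Type u) [Field k] (p q m : ℕ) (hp : 0 < p) (hpq : p < q) (hcop : Nat.Coprime p q) (hm : 0 < m)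
    (d0 d1 d2 e0 e1 e2 : ℕ) (hn : (e0 : ℤ) - (p : ℤ) * e1 + (q : ℤ) * e2 = (d0 : ℤ) - (p : ℤ) * d1 + (q : ℤ) * d2)
    (hn0 : 0 ≤ (d0 : ℤ) - (p : ℤ) * d1 + (q : ℤ) * d2) (hnq : (d0 : ℤ) - (p : ℤ) * d1 + (q : ℤ) * d2 < (q : ℤ) - p)
    (hcd : (m : ℤ) ∣ (d1 : ℤ) - d2) (hce : (m : ℤ) ∣ (e1 : ℤ) - e2)
    (hd0 : d0 < Nat.gcd m (q - p)) (he0 : e0 < Nat.gcd m (q - p)) :
    (d0 = e0 ∧ ((m : ℤ) * ((q - p) / Nat.gcd m (q - p) : ℕ)) ∣ ((d1 : ℤ) - d2) - ((e1 : ℤ) - e2)) ∧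
    ((d1 : ℤ) - d2 < (e1 : ℤ) - e2 →
      (MvPolynomial.X (0 : Fin 3) ^ d0 * MvPolynomial.X (1 : Fin 3) ^ d1 * MvPolynomial.X (2 : Fin 3) ^ d2 * (MvPolynomial.X (1 : Fin 3) ^ (m / Nat.gcd m (q - p) * q) * MvPolynomial.X (2 : Fin 3) ^ (m / Nat.gcd m (q - p) * p)) : MvPolynomial (Fin 3) k) ∣ MvPolynomial.X (0 : Fin 3) ^ e0 * MvPolynomial.X (1 : Fin 3) ^ e1 * MvPolynomial.X (2 : Fin 3) ^ e2) ∧
    ((MvPolynomial.X (0 : Fin 3) ^ e0 * MvPolynomial.X (1 : Fin 3) ^ e1 * MvPolynomial.X (2 : Fin 3) ^ e2 - MvPolynomial.X (0 : Fin 3) ^ d0 * MvPolynomial.X (1 : Fin 3) ^ d1 * MvPolynomial.X (2 : Fin 3) ^ d2 : MvPolynomial (Fin 3) k) ∈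
      Ideal.span {(1 : MvPolynomial (Fin 3) k) - MvPolynomial.X (1 : Fin 3) ^ (m / Nat.gcd m (q - p) * q) * MvPolynomial.X (2 : Fin 3) ^ (m / Nat.gcd m (q - p) * p)}) := by
  set A : MvPolynomial (Fin 3) k := MvPolynomial.X 0 with hA
  set B : MvPolynomial (Fin 3) k := MvPolynomial.X 1 with hB
  set C : MvPolynomial (Fin 3) k := MvPolynomial.X 2 with hC
  obtain ⟨hde, j, hj1, hj2, hj3⟩ := core p q m hp hpq hcop hm d0 d1 d2 e0 e1 e2 hn hcd hce hd0 he0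
  set g := Nat.gcd m (q - p) with hg
  set aq := m / g * q with haq
  set ap := m / g * p with hap
  have hgpos : 0 < g := Nat.gcd_pos_of_pos_left _ hm
  have hbpos : 0 < (q - p) / g := by
    apply Nat.div_pos
    · exact Nat.le_of_dvd (by omega) (Nat.gcd_dvd_right m (q - p))
    · exact hgpos
  have hmb : (0 : ℤ) < (m : ℤ) * ((q - p) / g : ℕ) := by
    have h1 : (0 : ℤ) < m := by exact_mod_cast hm
    have h2 : (0 : ℤ) < ((q - p) / g : ℕ) := by exact_mod_cast hbpos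
    exact mul_pos h1 h2
  -- the generic consequence for nonnegative j
  have gen : ∀ (d0 d1 d2 e0 e1 e2 : ℕ) (j : ℕ), d0 = e0 → (e1 : ℤ) - d1 = (aq : ℤ) * j →
      (e2 : ℤ) - d2 = (ap : ℤ) * j →
      A ^ e0 * B ^ e1 * C ^ e2 = A ^ d0 * B ^ d1 * C ^ d2 * (B ^ aq * C ^ ap) ^ j := by
    intro d0 d1 d2 e0 e1 e2 j h0 h1 h2
    have h1' : e1 = d1 + aq * j := by
      have : (e1 : ℤ) = ((d1 + aq * j : ℕ) : ℤ) := by push_cast; linarith
      exact_mod_cast this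
    have h2' : e2 = d2 + ap * j := by
      have : (e2 : ℤ) = ((d2 + ap * j : ℕ) : ℤ) := by push_cast; linarith
      exact_mod_cast this
    rw [h0, h1', h2', mul_pow, ← pow_mul, ← pow_mul, pow_add, pow_add]; ring
  have hv : ∀ j : ℕ, (B ^ aq * C ^ ap) ^ j - 1 ∈ Ideal.span {(1 : MvPolynomial (Fin 3) k) - B ^ aq * C ^ ap} := by
    intro j
    have h2 : (B ^ aq * C ^ ap - 1) ∣ (B ^ aq * C ^ ap) ^ j - 1 := by
      simpa using sub_dvd_pow_sub_pow (B ^ aq * C ^ ap) 1 j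
    obtain ⟨w, hw⟩ := h2
    rw [hw]
    apply Ideal.mul_mem_right
    have hneg : B ^ aq * C ^ ap - 1 = -(1 - B ^ aq * C ^ ap) := (neg_sub _ _).symm
    rw [hneg]
    exact neg_mem (Ideal.subset_span rfl)
  refine ⟨⟨hde, ?_⟩, ?_, ?_⟩
  · refine ⟨-j, ?_⟩
    have : ((d1 : ℤ) - d2) - ((e1 : ℤ) - e2) = -(((e1 : ℤ) - e2) - ((d1 : ℤ) - d2)) := by ring
    rw [this, hj3]; ring
  · intro hlt
    have hjpos : 0 < j := by
      have : 0 < ((m : ℤ) * ((q - p) / g : ℕ)) * j := by rw [← hj3]; linarith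
      exact (mul_pos_iff_of_pos_left hmb).1 this
    obtain ⟨j', rfl⟩ := Int.eq_ofNat_of_zero_le hjpos.le
    have hj'pos : 0 < j' := by exact_mod_cast hjpos
    obtain ⟨j'', rfl⟩ := Nat.exists_eq_succ_of_ne_zero hj'pos.ne'
    rw [gen d0 d1 d2 e0 e1 e2 (j'' + 1) hde hj1 hj2, pow_succ]
    exact ⟨(B ^ aq * C ^ ap) ^ j'', by ring⟩
  · rcases le_total 0 j with hj0 | hj0
    · obtain ⟨j', rfl⟩ := Int.eq_ofNat_of_zero_le hj0
      rw [gen d0 d1 d2 e0 e1 e2 j' hde hj1 hj2]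
      have : A ^ d0 * B ^ d1 * C ^ d2 * (B ^ aq * C ^ ap) ^ j' - A ^ d0 * B ^ d1 * C ^ d2 =
          A ^ d0 * B ^ d1 * C ^ d2 * ((B ^ aq * C ^ ap) ^ j' - 1) := by ring
      rw [this]
      exact Ideal.mul_mem_left _ _ (hv j')
    · obtain ⟨j', hj'⟩ := Int.eq_ofNat_of_zero_le (neg_nonneg.2 hj0)
      have hjj : j = -(j' : ℤ) := by linarith
      rw [gen e0 e1 e2 d0 d1 d2 j' hde.symm (by rw [hjj] at hj1; linarith) (by rw [hjj] at hj2; linarith)]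
      have : A ^ e0 * B ^ e1 * C ^ e2 - A ^ e0 * B ^ e1 * C ^ e2 * (B ^ aq * C ^ ap) ^ j' =
          -(A ^ e0 * B ^ e1 * C ^ e2 * ((B ^ aq * C ^ ap) ^ j' - 1)) := by ring
      rw [this]
      exact neg_mem (Ideal.mul_mem_left _ _ (hv j'))

end Groth.Agent.S15739
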