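import Groth.Statements.S1574
import Groth.Agent.Lib.Helper64.PuncturedAffine
import Mathlib

set_option autoImplicit false
universe u
open CategoryTheory CategoryTheory.Limits AlgebraicGeometry
open Divisors

namespace Groth.Agent.S1574

open Groth.Agent.Lib.Helper64.PuncturedAffine

/-- For a Noetherian local ring A, the punctured spectrum (Spec A minus the closed point, as an open
subscheme) is affine if and only if dim A ≤ 1. -/
theorem result (A : Type u) [CommRing A] [IsLocalRing A] [IsNoetherianRing A] :
    IsAffine (FEt.puncturedSpec A : Scheme.{u}) ↔ ringKrullDim A ≤ 1 := by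
  constructor
  · intro h
    exact ringKrullDim_le_one_of_isAffineOpen (A := A) h
  · intro h
    exact isAffineOpen_puncturedSpec_of_ringKrullDim_le_one h

end Groth.Agent.S1574
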