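import Groth.Statements.S15740
import Mathlib

set_option autoImplicit false
open W4c2invhilbsl2

namespace Groth.Agent.S15740

/-- For a monomial X₀^d₀X₁^d₁X₂^d₂ of the polynomial ring in X₀, X₁, X₂ (X₂ standing for Xⱼ, j = 3 or 4,
of the five-variable ring) put n = d₀ − p·d₁ + q·d₂ (its weight for the torus diag(t, t^(−p), t^q)),
c = d₁ − d₂ and ω = p·d₁ − q·d₂, so that d₀ = n + ω; here 0 < p < q are coprime integers. Suppose n
≥ 0, c > 0 and d₀ < q − p (the last condition says that ω is the least value of ω for the pair (n,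
c)). Then ω ≥ 0 if and only if the remainder of p·c on division by q − p, plus n, is less than q −
p. -/
theorem result (p q : ℕ) (hp : 0 < p) (hpq : p < q) (hcop : Nat.Coprime p q) (d0 d1 d2 : ℕ)
    (hn : 0 ≤ (d0 : ℤ) - (p : ℤ) * d1 + (q : ℤ) * d2) (hc : (d2 : ℤ) < d1) (hd0 : d0 < q - p) :
    0 ≤ (p : ℤ) * d1 - (q : ℤ) * d2 ↔
      Int.emod ((p : ℤ) * ((d1 : ℤ) - d2)) ((q : ℤ) - p) + ((d0 : ℤ) - (p : ℤ) * d1 + (q : ℤ) * d2) < (q : ℤ) - p := by
  have hpq' : (p : ℤ) < q := by exact_mod_cast hpq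
  have hm : (0 : ℤ) < (q : ℤ) - p := by linarith
  have hd' : (d0 : ℤ) < q - p := by omega
  have hd0' : (0 : ℤ) ≤ d0 := Int.natCast_nonneg _
  have h1 := Int.emod_add_mul_ediv ((p : ℤ) * ((d1 : ℤ) - d2)) ((q : ℤ) - p)
  have h2 := Int.emod_nonneg ((p : ℤ) * ((d1 : ℤ) - d2)) hm.ne'
  have h3 := Int.emod_lt_of_pos ((p : ℤ) * ((d1 : ℤ) - d2)) hm
  show _ ↔ ((p : ℤ) * ((d1 : ℤ) - d2)) % ((q : ℤ) - p) + _ < _
  set r := ((p : ℤ) * ((d1 : ℤ) - d2)) % ((q : ℤ) - p) with hr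
  set k := ((p : ℤ) * ((d1 : ℤ) - d2)) / ((q : ℤ) - p) with hk
  set m := (q : ℤ) - p with hmdef
  -- ω = m * (k - d2) + r
  have hω : (p : ℤ) * d1 - (q : ℤ) * d2 = m * (k - d2) + r := by
    have : (p : ℤ) * d1 - (q : ℤ) * d2 = (p : ℤ) * ((d1 : ℤ) - d2) - m * d2 := by rw [hmdef]; ring
    rw [this, ← h1]; ring
  rw [hω]
  have hn' : 0 ≤ (d0 : ℤ) - (m * (k - d2) + r) := by rw [← hω]; linarith
  constructor
  · intro h
    have hk0 : k - d2 = 0 := by
      rcases lt_trichotomy (k - (d2 : ℤ)) 0 with h4 | h4 | h4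
      · have : k - (d2 : ℤ) ≤ -1 := by omega
        nlinarith
      · exact h4
      · have : 1 ≤ k - (d2 : ℤ) := by omega
        nlinarith
    have : (d0 : ℤ) - (p : ℤ) * d1 + (q : ℤ) * d2 = d0 - (m * (k - d2) + r) := by rw [← hω]; ring
    rw [this, hk0]
    linarith
  · intro h
    have : (d0 : ℤ) - (p : ℤ) * d1 + (q : ℤ) * d2 = d0 - (m * (k - d2) + r) := by rw [← hω]; ring
    rw [this] at h
    have hk0 : 0 ≤ k - d2 := by
      by_contra h4
      push_neg at h4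
      have : k - (d2 : ℤ) ≤ -1 := by omega
      nlinarith
    nlinarith

end Groth.Agent.S15740
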