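import Groth.Statements.S15742
import Groth.Agent.Lib.Helper80.OmegaAffine
import Groth.Agent.Lib.Helper80.KaehlerTransport

set_option autoImplicit false
universe u
open CategoryTheory AlgebraicGeometry
open Mor

namespace Groth.Agent.S15742


/-- For a commutative ring `A` and a commutative `A`-algebra `B`, the canonical map from the module of
Kähler differentials `Ω[B⁄A]` to the global sections of the sheaf of relative differentials of `Spec
B ⟶ Spec A`, semilinear along the identification of `B` with the ring of global functions on `Spec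
B` and sending `D b` to `d_{X/Y}` of the global function `b`, is bijective. -/
theorem result (A B : Type u) [CommRing A] [CommRing B] [Algebra A B] :
    Function.Bijective (OmAff.toSpec A B) := by
  have hU : IsAffineOpen (⊤ : (Spec (CommRingCat.of B)).Opens) := isAffineOpen_top _
  have hV : IsAffineOpen (⊤ : (Spec (CommRingCat.of A)).Opens) := isAffineOpen_top _
  have h : (⊤ : (Spec (CommRingCat.of B)).Opens) ≤
      Spec.map (CommRingCat.ofHom (algebraMap A B)) ⁻¹ᵁ ⊤ := le_refl _
  have hb := Groth.Agent.Lib.Helper80.OmegaAffine.bijective_toSect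
    (Spec.map (CommRingCat.ofHom (algebraMap A B))) hU hV h
  letI : Algebra Γ(Spec (CommRingCat.of A), ⊤) Γ(Spec (CommRingCat.of B), ⊤) :=
    ((Spec.map (CommRingCat.ofHom (algebraMap A B))).appLE ⊤ ⊤ h).hom.toAlgebra
  have happ : (Spec.map (CommRingCat.ofHom (algebraMap A B))).appLE ⊤ ⊤ h =
      (Spec.map (CommRingCat.ofHom (algebraMap A B))).appTop :=
    Scheme.Hom.appLE_eq_app (f := Spec.map (CommRingCat.ofHom (algebraMap A B))) (U := ⊤)
  refine Groth.Agent.Lib.Helper80.KaehlerTransport.bijective_of_ringEquiv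
    (A := A) (B := B) (A' := Γ(Spec (CommRingCat.of A), ⊤)) (B' := Γ(Spec (CommRingCat.of B), ⊤))
    (Scheme.ΓSpecIso (CommRingCat.of B)).hom.hom (OmAff.toΓ B) ?_ ?_ ?_
    (OmAff.toSect (Spec.map (CommRingCat.ofHom (algebraMap A B))) ⊤ ⊤ h).hom hb
    (OmAff.toSpec A B).toAddMonoidHom ?_ ?_
  · intro b
    exact congr($((Scheme.ΓSpecIso (CommRingCat.of B)).inv_hom_id) b)
  · intro s
    exact congr($((Scheme.ΓSpecIso (CommRingCat.of B)).hom_inv_id) s)
  · intro a'
    refine ⟨(Scheme.ΓSpecIso (CommRingCat.of A)).hom.hom a', ?_⟩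
    have hnat := Scheme.ΓSpecIso_naturality (CommRingCat.ofHom (algebraMap A B))
    have h1 := congr($hnat a')
    change (Scheme.ΓSpecIso (CommRingCat.of B)).hom.hom
      (((Spec.map (CommRingCat.ofHom (algebraMap A B))).appLE ⊤ ⊤ h).hom a') = _
    rw [happ]
    exact h1
  · intro b x
    exact (OmAff.toSpec A B).map_smulₛₗ b x
  · intro b
    change OmAff.toSpec A B (KaehlerDifferential.D A B b) = _
    rw [OmAff.toSpec_D]
    exact (OmAff.toSect_d (Spec.map (CommRingCat.ofHom (algebraMap A B))) ⊤ ⊤ h
      (OmAff.toΓ B b)).symm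

end Groth.Agent.S15742
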