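import Groth.Statements.S19871
import Mathlib
import Groth.Agent.Lib.Helper67.WeilCoh

set_option autoImplicit false
universe u v
open CategoryTheory AlgebraicGeometry
open WeilCoh

namespace Groth.Agent.S19871

section helpers

variable {k : Type u} [Field k] [IsAlgClosed k] {K : Type v} [Field K] [CharZero K]
  (T : WeilCoh.Theory k K)

theorem mem_of_eq {X : WeilCoh.Var k} {x : T.H X} {i j : ℤ} (h : x ∈ T.gr X i) (hij : i = j) :
    x ∈ T.gr X j := hij ▸ h

/-- the defining property of the action of a class -/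
theorem tr_act {X Y P : WeilCoh.Var k} (p : P ⟶ X) (q : P ⟶ Y) (m : ℤ) (φ : ↥(T.gr P m)) (i : ℤ)
    (x : ↥(T.gr X i)) (y : T.H Y) (hy : y ∈ T.gr Y (2 * (WeilCoh.dim P.obj.left : ℤ) - (i + m))) :
    T.tr Y ((((T.push q (i + m)) ∘ₗ
        ((LinearMap.mulRight K (φ : T.H P)).restrict (p := T.gr P i) (q := T.gr P (i + m))
          (fun x hx => SetLike.mul_mem_graded hx φ.2)) ∘ₗ
        (T.pullDeg p i)) x : T.H Y) * y) =
      T.tr P (T.pull p (x : T.H X) * (φ : T.H P) * T.pull q y) := by
  rw [LinearMap.comp_apply, LinearMap.comp_apply,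
    Groth.Agent.Lib.Helper67.tr_push_mul T q (i + m) _ y hy]
  rfl

/-- dual family (on the right) to a basis under Poincaré duality -/
theorem exists_dual (X : WeilCoh.Var k) (a : ℕ) (ι : Type) [Fintype ι] [DecidableEq ι]
    (e : Module.Basis ι K ↥(T.gr X (a : ℤ))) :
    ∃ f : ι → ↥(T.gr X (2 * (WeilCoh.dim X.obj.left : ℤ) - a)), ∀ b l : ι,
      T.tr X ((e b : T.H X) * (f l : T.H X)) = if b = l then 1 else 0 := by
  classical
  have hperf := T.duality X (a : ℤ) (2 * (WeilCoh.dim X.obj.left : ℤ) - a) (by ring)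
  have hsurj := (LinearMap.IsPerfPair.bijective_right
    (WeilCoh.pairing K (T.gr X (a : ℤ)) (T.gr X (2 * (WeilCoh.dim X.obj.left : ℤ) - a)) (T.tr X))).2
  choose f hf using fun l : ι => hsurj (e.coord l)
  refine ⟨f, fun b l => ?_⟩
  have h1 := congrArg (fun ψ => ψ (e b)) (hf l)
  simp only [LinearMap.flip_apply, Groth.Agent.Lib.Helper67.pairing_apply] at h1
  rw [h1, Module.Basis.coord_apply, Module.Basis.repr_self, Finsupp.single_apply]

/-- a class of degree `m` pairing trivially against all `p^*x · _ · q^*y` is determined -/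
theorem inj_aux {X Y P : WeilCoh.Var k} (p : P ⟶ X) (q : P ⟶ Y) (hP : WeilCoh.IsProd p q)
    (m : ℤ) (φ φ' : T.H P) (hφ : φ ∈ T.gr P m) (hφ' : φ' ∈ T.gr P m)
    (h : ∀ (i : ℤ) (x : T.H X) (y : T.H Y), x ∈ T.gr X i →
      y ∈ T.gr Y (2 * (WeilCoh.dim P.obj.left : ℤ) - (i + m)) →
      T.tr P (T.pull p x * φ * T.pull q y) = T.tr P (T.pull p x * φ' * T.pull q y)) :
    φ = φ' := by
  classical
  -- homogeneous x y
  have h1 : ∀ (i l : ℤ) (x : T.H X) (y : T.H Y), x ∈ T.gr X i → y ∈ T.gr Y l →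
      T.tr P (φ * (T.pull p x * T.pull q y)) = T.tr P (φ' * (T.pull p x * T.pull q y)) := by
    intro i l x y hx hy
    by_cases hl : l = 2 * (WeilCoh.dim P.obj.left : ℤ) - (i + m)
    · subst hl
      have hc := T.gradedComm P m i φ (T.pull p x) hφ (T.pull_mem p i x hx)
      have hc' := T.gradedComm P m i φ' (T.pull p x) hφ' (T.pull_mem p i x hx)
      rw [← mul_assoc, ← mul_assoc, hc, hc', smul_mul_assoc, smul_mul_assoc, map_smul, map_smul,
        h i x y hx hy]
    · have hm1 : φ * (T.pull p x * T.pull q y) ∈ T.gr P (m + (i + l)) :=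
        SetLike.mul_mem_graded hφ
          (SetLike.mul_mem_graded (T.pull_mem p i x hx) (T.pull_mem q l y hy))
      have hm2 : φ' * (T.pull p x * T.pull q y) ∈ T.gr P (m + (i + l)) :=
        SetLike.mul_mem_graded hφ'
          (SetLike.mul_mem_graded (T.pull_mem p i x hx) (T.pull_mem q l y hy))
      rw [T.tr_vanish P _ _ hm1 (by omega), T.tr_vanish P _ _ hm2 (by omega)]
  -- arbitrary y
  have h2 : ∀ (i : ℤ) (x : T.H X) (y : T.H Y), x ∈ T.gr X i →
      T.tr P (φ * (T.pull p x * T.pull q y)) = T.tr P (φ' * (T.pull p x * T.pull q y)) := by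
    intro i x y hx
    let A : T.H Y →ₗ[K] K :=
      (T.tr P) ∘ₗ (LinearMap.mulLeft K (φ * T.pull p x)) ∘ₗ (T.pull q).toLinearMap
    let B : T.H Y →ₗ[K] K :=
      (T.tr P) ∘ₗ (LinearMap.mulLeft K (φ' * T.pull p x)) ∘ₗ (T.pull q).toLinearMap
    have hA : ∀ y, A y = T.tr P (φ * (T.pull p x * T.pull q y)) := by
      intro y
      show T.tr P ((φ * T.pull p x) * T.pull q y) = _
      rw [mul_assoc]
    have hB : ∀ y, B y = T.tr P (φ' * (T.pull p x * T.pull q y)) := by
      intro y
      show T.tr P ((φ' * T.pull p x) * T.pull q y) = _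
      rw [mul_assoc]
    rw [← hA, ← hB]
    have hy : y ∈ ⨆ i, T.gr Y i := by
      rw [(T.decomp Y).submodule_iSup_eq_top]; trivial
    refine Submodule.iSup_induction (T.gr Y) (motive := fun y => A y = B y) hy ?_ ?_ ?_
    · intro l z hz
      rw [hA, hB]
      exact h1 i l x z hx hz
    · rw [map_zero, map_zero]
    · intro y₁ y₂ e₁ e₂
      rw [map_add, map_add, e₁, e₂]
  -- arbitrary x
  have h3 : ∀ (x : T.H X) (y : T.H Y),
      T.tr P (φ * (T.pull p x * T.pull q y)) = T.tr P (φ' * (T.pull p x * T.pull q y)) := by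
    intro x y
    let A : T.H X →ₗ[K] K :=
      (T.tr P) ∘ₗ (LinearMap.mulLeft K φ) ∘ₗ (LinearMap.mulRight K (T.pull q y)) ∘ₗ
        (T.pull p).toLinearMap
    let B : T.H X →ₗ[K] K :=
      (T.tr P) ∘ₗ (LinearMap.mulLeft K φ') ∘ₗ (LinearMap.mulRight K (T.pull q y)) ∘ₗ
        (T.pull p).toLinearMap
    have hA : ∀ x, A x = T.tr P (φ * (T.pull p x * T.pull q y)) := fun x => rfl
    have hB : ∀ x, B x = T.tr P (φ' * (T.pull p x * T.pull q y)) := fun x => rfl
    rw [← hA, ← hB]
    have hx : x ∈ ⨆ i, T.gr X i := by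
      rw [(T.decomp X).submodule_iSup_eq_top]; trivial
    refine Submodule.iSup_induction (T.gr X) (motive := fun x => A x = B x) hx ?_ ?_ ?_
    · intro i z hz
      rw [hA, hB]
      exact h2 i z y hz
    · rw [map_zero, map_zero]
    · intro x₁ x₂ e₁ e₂
      rw [map_add, map_add, e₁, e₂]
  -- arbitrary class on P
  have h4 : ∀ c : T.H P, T.tr P (φ * c) = T.tr P (φ' * c) := by
    intro c
    obtain ⟨t, rfl⟩ := (T.kunneth p q hP).2 c
    induction t using TensorProduct.induction_on with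
    | zero => simp
    | tmul x y => exact h3 x y
    | add t₁ t₂ e₁ e₂ => rw [map_add, mul_add, mul_add, map_add, map_add, e₁, e₂]
  exact Groth.Agent.Lib.Helper67.eq_of_forall_tr_mul_eq T P m
    (2 * (WeilCoh.dim P.obj.left : ℤ) - m) (by ring) _ _ hφ hφ' (fun c _ => h4 c)

/-- the core computation for surjectivity -/
theorem surj_core {X Y P : WeilCoh.Var k} (p : P ⟶ X) (q : P ⟶ Y) (hP : WeilCoh.IsProd p q)
    (hdim : WeilCoh.dim P.obj.left = WeilCoh.dim X.obj.left + WeilCoh.dim Y.obj.left) (m : ℤ)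
    (L : (i : ℤ) → ↥(T.gr X i) →ₗ[K]
      ↥(T.gr Y (i + m + 2 * (WeilCoh.dim Y.obj.left : ℤ) - 2 * (WeilCoh.dim P.obj.left : ℤ))))
    (ι : ℕ → Type) [∀ a, Fintype (ι a)] [∀ a, DecidableEq (ι a)]
    (e : (a : ℕ) → Module.Basis (ι a) K ↥(T.gr X (a : ℤ)))
    (f : (a : ℕ) → ι a → ↥(T.gr X (2 * (WeilCoh.dim X.obj.left : ℤ) - a)))
    (hef : ∀ a (b l : ι a),
      T.tr X ((e a b : T.H X) * (f a l : T.H X)) = if b = l then 1 else 0)
    (s : ℕ) (hs : s ≤ 2 * WeilCoh.dim X.obj.left) (b : ι s) (y : T.H Y)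
    (hy : y ∈ T.gr Y (2 * (WeilCoh.dim P.obj.left : ℤ) - ((s : ℤ) + m))) :
    T.tr P (T.pull p (e s b : T.H X) *
      (∑ a ∈ Finset.range (2 * WeilCoh.dim X.obj.left + 1), ∑ l : ι a,
        T.pull p (f a l : T.H X) * T.pull q (L (a : ℤ) (e a l) : T.H Y)) * T.pull q y) =
      T.tr Y ((L (s : ℤ) (e s b) : T.H Y) * y) := by
  classical
  have hN : (WeilCoh.dim P.obj.left : ℤ) =
      (WeilCoh.dim X.obj.left : ℤ) + (WeilCoh.dim Y.obj.left : ℤ) := by
    rw [hdim]; push_cast; ring
  rw [Finset.mul_sum, Finset.sum_mul, map_sum]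
  have hterm : ∀ (a : ℕ) (l : ι a),
      T.pull p (e s b : T.H X) * (T.pull p (f a l : T.H X) *
          T.pull q (L (a : ℤ) (e a l) : T.H Y)) * T.pull q y =
        T.pull p ((e s b : T.H X) * (f a l : T.H X)) *
          T.pull q ((L (a : ℤ) (e a l) : T.H Y) * y) := by
    intro a l
    rw [map_mul, map_mul]
    simp only [mul_assoc]
  rw [Finset.sum_eq_single s]
  · rw [Finset.mul_sum, Finset.sum_mul, map_sum]
    have hmain : ∀ l : ι s,
        T.tr P (T.pull p (e s b : T.H X) * (T.pull p (f s l : T.H X) *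
          T.pull q (L (s : ℤ) (e s l) : T.H Y)) * T.pull q y) =
        (if b = l then 1 else 0) * T.tr Y ((L (s : ℤ) (e s l) : T.H Y) * y) := by
      intro l
      rw [hterm s l]
      have hu : (e s b : T.H X) * (f s l : T.H X) ∈ T.gr X (2 * (WeilCoh.dim X.obj.left : ℤ)) :=
        mem_of_eq T (SetLike.mul_mem_graded (e s b).2 (f s l).2) (by ring)
      have hv : (L (s : ℤ) (e s l) : T.H Y) * y ∈ T.gr Y (2 * (WeilCoh.dim Y.obj.left : ℤ)) :=
        mem_of_eq T (SetLike.mul_mem_graded (L (s : ℤ) (e s l)).2 hy) (by ring)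
      rw [T.tr_prod p q hP _ _ hu hv, hef s b l]
    rw [Finset.sum_congr rfl (fun l _ => hmain l)]
    simp only [ite_mul, one_mul, zero_mul, Finset.sum_ite_eq, Finset.mem_univ, if_true]
  · intro a ha has
    rw [Finset.mul_sum, Finset.sum_mul, map_sum]
    apply Finset.sum_eq_zero
    intro l _
    rw [hterm a l]
    rw [Finset.mem_range] at ha
    rcases lt_or_gt_of_ne has with hlt | hgt
    · -- a < s : first factor vanishes
      have hu : (e s b : T.H X) * (f a l : T.H X) ∈
          T.gr X ((s : ℤ) + (2 * (WeilCoh.dim X.obj.left : ℤ) - a)) :=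
        SetLike.mul_mem_graded (e s b).2 (f a l).2
      rw [T.vanish X _ (Or.inr (by omega))] at hu
      rw [(Submodule.mem_bot K).mp hu, map_zero, zero_mul, map_zero]
    · -- a > s : second factor vanishes
      have hv : (L (a : ℤ) (e a l) : T.H Y) * y ∈
          T.gr Y (((a : ℤ) + m + 2 * (WeilCoh.dim Y.obj.left : ℤ) -
            2 * (WeilCoh.dim P.obj.left : ℤ)) +
            (2 * (WeilCoh.dim P.obj.left : ℤ) - ((s : ℤ) + m))) :=
        SetLike.mul_mem_graded (L (a : ℤ) (e a l)).2 hy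
      rw [T.vanish Y _ (Or.inr (by omega))] at hv
      rw [(Submodule.mem_bot K).mp hv, map_zero, mul_zero, map_zero]
  · intro h
    exfalso
    apply h
    rw [Finset.mem_range]
    omega

end helpers


/-- Let `H` be a Weil cohomology theory with coefficients in a field `K` of characteristic zero on
nonsingular connected projective varieties over an algebraically closed field `k`; let `X`, `Y` be
such varieties and `P` a product `X × Y` with projections `p`, `q`, of dimension `dim X + dim Y`.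
For an integer `r`, sending a class `φ ∈ H^{2 dim X + r}(P)` to the family, indexed by all integers
`i`, of the `K`-linear maps `H^i(X) → H^{i+r}(Y)`, `x ↦ q_*(p^* x ∪ φ)`, is a bijection from `H^{2
dim X + r}(P)` onto the families of linear maps `(H^i(X) → H^{i+r}(Y))_i`, i.e. onto the degree-`r`
homomorphisms of graded vector spaces from `H•(X)` to `H•(Y)` (the factors with `i` outside `[0, 2
dim X]` are zero). The target degree is written `i + (2 dim X + r) + 2 dim Y − 2 dim P`, the
indexing of the push-forward; it equals `i + r` by the dimension hypothesis. (The published lemma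
states a canonical isomorphism `Hom^r(H•X, H•Y) ≅ H^{2 dim X + r}(X × Y)(dim X)` obtained from
Poincaré duality on `X` and the Künneth formula, for smooth projective varieties over an arbitrary
field with Tate twists; this row is its case of connected varieties over an algebraically closed
field, without twists, with the isomorphism written as the action of a class by pull-back, cup
product and push-forward.) -/
theorem result (k : Type u) [Field k] [IsAlgClosed k] (K : Type v) [Field K] [CharZero K]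
    (T : WeilCoh.Theory k K) (X Y P : WeilCoh.Var k) (p : P ⟶ X) (q : P ⟶ Y) (hP : WeilCoh.IsProd p q)
    (hdim : WeilCoh.dim P.obj.left = WeilCoh.dim X.obj.left + WeilCoh.dim Y.obj.left) (r : ℤ) :
    Function.Bijective (fun φ : ↥(T.gr P (2 * (WeilCoh.dim X.obj.left : ℤ) + r)) => fun i : ℤ =>
      (T.push q (i + (2 * (WeilCoh.dim X.obj.left : ℤ) + r))) ∘ₗ
        ((LinearMap.mulRight K (φ : T.H P)).restrict (p := T.gr P i) (q := T.gr P (i + (2 * (WeilCoh.dim X.obj.left : ℤ) + r)))
          (fun x hx => SetLike.mul_mem_graded hx φ.2)) ∘ₗ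
        (T.pullDeg p i)) := by
  classical
  set m : ℤ := 2 * (WeilCoh.dim X.obj.left : ℤ) + r with hm
  constructor
  · -- injectivity
    intro φ φ' h
    apply Subtype.ext
    refine inj_aux T p q hP m _ _ φ.2 φ'.2 ?_
    intro i x y hx hy
    have h1 := LinearMap.congr_fun (congrFun h i) ⟨x, hx⟩
    have h2 := congrArg (fun z : ↥(T.gr Y (i + m + 2 * (WeilCoh.dim Y.obj.left : ℤ) -
      2 * (WeilCoh.dim P.obj.left : ℤ))) => T.tr Y ((z : T.H Y) * y)) h1
    simp only [] at h2
    rw [tr_act T p q m φ i ⟨x, hx⟩ y hy, tr_act T p q m φ' i ⟨x, hx⟩ y hy] at h2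
    exact h2
  · -- surjectivity
    intro L
    let ι : ℕ → Type := fun a => Fin (Module.finrank K ↥(T.gr X (a : ℤ)))
    let e : (a : ℕ) → Module.Basis (ι a) K ↥(T.gr X (a : ℤ)) := fun a =>
      Module.finBasis K ↥(T.gr X (a : ℤ))
    choose f hf using fun a : ℕ => exists_dual T X a (ι a) (e a)
    have hN : (WeilCoh.dim P.obj.left : ℤ) =
        (WeilCoh.dim X.obj.left : ℤ) + (WeilCoh.dim Y.obj.left : ℤ) := by
      rw [hdim]; push_cast; ring
    have hφ : (∑ a ∈ Finset.range (2 * WeilCoh.dim X.obj.left + 1), ∑ l : ι a,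
        T.pull p (f a l : T.H X) * T.pull q (L (a : ℤ) (e a l) : T.H Y)) ∈ T.gr P m := by
      refine Submodule.sum_mem _ (fun a _ => Submodule.sum_mem _ (fun l _ => ?_))
      exact mem_of_eq T (SetLike.mul_mem_graded (T.pull_mem p _ _ (f a l).2)
        (T.pull_mem q _ _ (L (a : ℤ) (e a l)).2)) (by rw [hN]; ring)
    refine ⟨⟨_, hφ⟩, ?_⟩
    funext i
    by_cases hi : i < 0 ∨ 2 * (WeilCoh.dim X.obj.left : ℤ) < i
    · -- trivial domain
      have hbot := T.vanish X i hi
      apply LinearMap.ext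
      intro x
      have h0 : ∀ z ∈ T.gr X i, z = 0 := by
        rw [hbot]
        intro z hz
        exact (Submodule.mem_bot K).mp hz
      have hx0 : x = 0 := Subtype.ext (h0 _ x.2)
      rw [hx0, map_zero, map_zero]
    · have hi' : 0 ≤ i ∧ i ≤ 2 * (WeilCoh.dim X.obj.left : ℤ) := by omega
      obtain ⟨s, rfl⟩ := Int.eq_ofNat_of_zero_le hi'.1
      have hs : s ≤ 2 * WeilCoh.dim X.obj.left := by omega
      apply (e s).ext
      intro b
      apply Subtype.ext
      refine Groth.Agent.Lib.Helper67.eq_of_forall_tr_mul_eq T Y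
        ((s : ℤ) + m + 2 * (WeilCoh.dim Y.obj.left : ℤ) - 2 * (WeilCoh.dim P.obj.left : ℤ))
        (2 * (WeilCoh.dim P.obj.left : ℤ) - ((s : ℤ) + m)) (by ring) _ _
        (Subtype.property _) (Subtype.property _) ?_
      intro y hy
      rw [tr_act T p q m ⟨_, hφ⟩ (s : ℤ) (e s b) y hy]
      exact surj_core T p q hP hdim m L ι e f hf s hs b y hy

end Groth.Agent.S19871
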