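import Groth.Statements.S15748
import Mathlib
import Groth.Agent.Lib.Helper97.VarProd
import Groth.Agent.Lib.Helper67.WeilCoh
import Groth.Agent.S19871

set_option autoImplicit false
universe u v
open CategoryTheory AlgebraicGeometry
open WeilCoh

namespace Groth.Agent.S15748

section helpers

variable {k : Type u} [Field k] [IsAlgClosed k] {K : Type v} [Field K] [CharZero K]
  (T : WeilCoh.Theory k K)

open Groth.Agent.S19871 in
/-- the action of a class as a correspondence -/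
noncomputable abbrev act {X Y P : WeilCoh.Var k} (p : P ⟶ X) (q : P ⟶ Y) (m : ℤ)
    (φ : ↥(T.gr P m)) (i : ℤ) : ↥(T.gr X i) →ₗ[K]
      ↥(T.gr Y (i + m + 2 * (WeilCoh.dim Y.obj.left : ℤ) - 2 * (WeilCoh.dim P.obj.left : ℤ))) :=
  (T.push q (i + m)) ∘ₗ
    ((LinearMap.mulRight K (φ : T.H P)).restrict (p := T.gr P i) (q := T.gr P (i + m))
      (fun x hx => SetLike.mul_mem_graded hx φ.2)) ∘ₗ
    (T.pullDeg p i)

/-- Lemma 1: the Künneth decomposition of a class through its action -/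
theorem decomp_class {X Y P : WeilCoh.Var k} (p : P ⟶ X) (q : P ⟶ Y) (hP : WeilCoh.IsProd p q)
    (hdim : WeilCoh.dim P.obj.left = WeilCoh.dim X.obj.left + WeilCoh.dim Y.obj.left) (m : ℤ)
    (φ : ↥(T.gr P m))
    (ι : ℕ → Type) [∀ a, Fintype (ι a)] [∀ a, DecidableEq (ι a)]
    (e : (a : ℕ) → Module.Basis (ι a) K ↥(T.gr X (a : ℤ)))
    (f : (a : ℕ) → ι a → ↥(T.gr X (2 * (WeilCoh.dim X.obj.left : ℤ) - a)))
    (hef : ∀ a (b l : ι a),
      T.tr X ((e a b : T.H X) * (f a l : T.H X)) = if b = l then 1 else 0) :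
    (φ : T.H P) = ∑ a ∈ Finset.range (2 * WeilCoh.dim X.obj.left + 1), ∑ l : ι a,
        T.pull p (f a l : T.H X) * T.pull q (act T p q m φ (a : ℤ) (e a l) : T.H Y) := by
  classical
  have hN : (WeilCoh.dim P.obj.left : ℤ) =
      (WeilCoh.dim X.obj.left : ℤ) + (WeilCoh.dim Y.obj.left : ℤ) := by
    rw [hdim]; push_cast; ring
  have hR : (∑ a ∈ Finset.range (2 * WeilCoh.dim X.obj.left + 1), ∑ l : ι a,
        T.pull p (f a l : T.H X) * T.pull q (act T p q m φ (a : ℤ) (e a l) : T.H Y)) ∈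
      T.gr P m := by
    refine Submodule.sum_mem _ (fun a _ => Submodule.sum_mem _ (fun l _ => ?_))
    exact Groth.Agent.S19871.mem_of_eq T (SetLike.mul_mem_graded (T.pull_mem p _ _ (f a l).2)
      (T.pull_mem q _ _ (act T p q m φ (a : ℤ) (e a l)).2)) (by rw [hN]; ring)
  refine Groth.Agent.S19871.inj_aux T p q hP m _ _ φ.2 hR ?_
  intro i x y hx hy
  by_cases hi : i < 0 ∨ 2 * (WeilCoh.dim X.obj.left : ℤ) < i
  · have hbot := T.vanish X i hi
    rw [hbot] at hx
    rw [(Submodule.mem_bot K).mp hx, map_zero, zero_mul, zero_mul, zero_mul, zero_mul]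
  · have hi' : 0 ≤ i ∧ i ≤ 2 * (WeilCoh.dim X.obj.left : ℤ) := by omega
    obtain ⟨s, rfl⟩ := Int.eq_ofNat_of_zero_le hi'.1
    have hs : s ≤ 2 * WeilCoh.dim X.obj.left := by omega
    have hrepr := (e s).sum_repr ⟨x, hx⟩
    have hx' : x = ∑ b : ι s, ((e s).repr ⟨x, hx⟩ b) • ((e s b : T.gr X (s : ℤ)) : T.H X) := by
      have := congrArg (Subtype.val) hrepr
      simp only [Submodule.coe_sum, Submodule.coe_smul] at this
      exact this.symm
    rw [hx', map_sum, Finset.sum_mul, Finset.sum_mul, map_sum, Finset.sum_mul, Finset.sum_mul,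
      map_sum]
    apply Finset.sum_congr rfl
    intro b _
    rw [map_smul, smul_mul_assoc, smul_mul_assoc, map_smul, smul_mul_assoc, smul_mul_assoc,
      map_smul]
    congr 1
    rw [Groth.Agent.S19871.surj_core T p q hP hdim m (fun i => act T p q m φ i) ι e f hef s hs b
      y hy]
    exact (Groth.Agent.S19871.tr_act T p q m φ (s : ℤ) (e s b) y hy).symm

/-- two bilinear forms agreeing on homogeneous classes agree -/
theorem bilin_ext {X Y : WeilCoh.Var k} (A B : T.H Y →ₗ[K] T.H X →ₗ[K] K)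
    (h : ∀ (a b : ℤ) (y : T.H Y) (x : T.H X), y ∈ T.gr Y a → x ∈ T.gr X b → A y x = B y x)
    (y : T.H Y) (x : T.H X) : A y x = B y x := by
  have hy : y ∈ ⨆ i, T.gr Y i := by
    rw [(T.decomp Y).submodule_iSup_eq_top]; trivial
  have hx : x ∈ ⨆ i, T.gr X i := by
    rw [(T.decomp X).submodule_iSup_eq_top]; trivial
  refine Submodule.iSup_induction (T.gr Y) (motive := fun y => A y x = B y x) hy ?_ ?_ ?_
  · intro a y hy
    refine Submodule.iSup_induction (T.gr X) (motive := fun x => A y x = B y x) hx ?_ ?_ ?_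
    · intro b x hx
      exact h a b y x hy hx
    · rw [map_zero, map_zero]
    · intro x₁ x₂ e₁ e₂
      rw [map_add, map_add, e₁, e₂]
  · rw [map_zero, map_zero]
  · intro y₁ y₂ e₁ e₂
    rw [map_add, map_add, LinearMap.add_apply, LinearMap.add_apply, e₁, e₂]

/-- a class of even degree commutes with every homogeneous class -/
theorem comm_of_even (X : WeilCoh.Var k)
    (i : ℤ) (c : ℕ) (a b : T.H X) (ha : a ∈ T.gr X i) (hb : b ∈ T.gr X (2 * (c : ℤ))) :
    a * b = b * a := by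
  have h := T.gradedComm X i (2 * (c : ℤ)) a b ha hb
  have h2 : (2 * (c : ℤ)).natAbs = 2 * c := by
    rw [Int.natAbs_mul]
    simp
  rw [h2, ← mul_assoc, mul_comm _ 2, mul_assoc, pow_mul] at h
  simpa using h

/-- Lemma 2: the trace is compatible with the swap -/
theorem tr_swap {X Y P P' : WeilCoh.Var k} (p : P ⟶ X) (q : P ⟶ Y) (hP : WeilCoh.IsProd p q)
    (p' : P' ⟶ Y) (q' : P' ⟶ X) (hP' : WeilCoh.IsProd p' q')
    (σ : P ⟶ P') (hσ₁ : σ ≫ p' = q) (hσ₂ : σ ≫ q' = p)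
    (hdP : WeilCoh.dim P.obj.left = WeilCoh.dim X.obj.left + WeilCoh.dim Y.obj.left)
    (hdP' : WeilCoh.dim P'.obj.left = WeilCoh.dim Y.obj.left + WeilCoh.dim X.obj.left)
    (c : T.H P') : T.tr P (T.pull σ c) = T.tr P' c := by
  classical
  have hp' : ∀ y : T.H Y, T.pull σ (T.pull p' y) = T.pull q y := by
    intro y
    have h1 := T.pull_comp σ p'
    rw [hσ₁] at h1
    exact (congrArg (fun ψ => ψ y) h1).symm
  have hq' : ∀ x : T.H X, T.pull σ (T.pull q' x) = T.pull p x := by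
    intro x
    have h1 := T.pull_comp σ q'
    rw [hσ₂] at h1
    exact (congrArg (fun ψ => ψ x) h1).symm
  let A : T.H Y →ₗ[K] T.H X →ₗ[K] K :=
    ((LinearMap.mul K (T.H P)).compl₁₂ (T.pull q).toLinearMap (T.pull p).toLinearMap).compr₂
      (T.tr P)
  let B : T.H Y →ₗ[K] T.H X →ₗ[K] K :=
    ((LinearMap.mul K (T.H P')).compl₁₂ (T.pull p').toLinearMap (T.pull q').toLinearMap).compr₂
      (T.tr P')
  have hA : ∀ y x, A y x = T.tr P (T.pull q y * T.pull p x) := fun y x => rfl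
  have hB : ∀ y x, B y x = T.tr P' (T.pull p' y * T.pull q' x) := fun y x => rfl
  have hAB : ∀ y x, A y x = B y x := by
    refine bilin_ext T A B ?_
    intro a b y x hy hx
    rw [hA, hB]
    by_cases htop : a = 2 * (WeilCoh.dim Y.obj.left : ℤ) ∧ b = 2 * (WeilCoh.dim X.obj.left : ℤ)
    · obtain ⟨rfl, rfl⟩ := htop
      rw [← comm_of_even T P _ (WeilCoh.dim Y.obj.left) (T.pull p x) (T.pull q y)
        (T.pull_mem p _ x hx) (T.pull_mem q _ y hy), T.tr_prod p q hP x y hx hy,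
        T.tr_prod p' q' hP' y x hy hx, mul_comm]
    · by_cases hsum : a + b = 2 * (WeilCoh.dim P.obj.left : ℤ)
      · have hcase : 2 * (WeilCoh.dim Y.obj.left : ℤ) < a ∨ 2 * (WeilCoh.dim X.obj.left : ℤ) < b := by
          rw [hdP] at hsum
          push_cast at hsum
          omega
        rcases hcase with h1 | h1
        · rw [T.vanish Y a (Or.inr h1)] at hy
          rw [(Submodule.mem_bot K).mp hy, map_zero, map_zero, zero_mul, zero_mul, map_zero,
            map_zero]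
        · rw [T.vanish X b (Or.inr h1)] at hx
          rw [(Submodule.mem_bot K).mp hx, map_zero, map_zero, mul_zero, mul_zero, map_zero,
            map_zero]
      · have hm1 : T.pull q y * T.pull p x ∈ T.gr P (a + b) :=
          SetLike.mul_mem_graded (T.pull_mem q a y hy) (T.pull_mem p b x hx)
        have hm2 : T.pull p' y * T.pull q' x ∈ T.gr P' (a + b) :=
          SetLike.mul_mem_graded (T.pull_mem p' a y hy) (T.pull_mem q' b x hx)
        rw [T.tr_vanish P _ _ hm1 hsum, T.tr_vanish P' _ _ hm2 (by rw [hdP']; rw [hdP] at hsum; push_cast at hsum ⊢; omega)]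
  obtain ⟨t, rfl⟩ := (T.kunneth p' q' hP').2 c
  induction t using TensorProduct.induction_on with
  | zero => simp
  | tmul y x =>
    have hk : WeilCoh.kunnethMap K (T.pull p') (T.pull q') (y ⊗ₜ[K] x) =
        T.pull p' y * T.pull q' x := rfl
    rw [hk, map_mul, hp', hq', ← hA, ← hB]
    exact hAB y x
  | add t₁ t₂ e₁ e₂ => rw [map_add, map_add, map_add, map_add, e₁, e₂]

/-- Lemma 3: the trace of an endomorphism through a basis and a dual family -/
theorem trace_eq' (X : WeilCoh.Var k) (a : ℕ) (ι : Type) [Fintype ι] [DecidableEq ι]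
    (e : Module.Basis ι K ↥(T.gr X (a : ℤ)))
    (f : ι → ↥(T.gr X (2 * (WeilCoh.dim X.obj.left : ℤ) - a)))
    (hef : ∀ b l : ι, T.tr X ((e b : T.H X) * (f l : T.H X)) = if b = l then 1 else 0)
    (A : ↥(T.gr X (a : ℤ)) →ₗ[K] ↥(T.gr X (a : ℤ))) :
    LinearMap.trace K ↥(T.gr X (a : ℤ)) A = ∑ l, T.tr X ((A (e l) : T.H X) * (f l : T.H X)) := by
  classical
  rw [LinearMap.trace_eq_matrix_trace K e, Matrix.trace]
  apply Finset.sum_congr rfl
  intro l _
  rw [Matrix.diag_apply, LinearMap.toMatrix_apply]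
  have hrepr := e.sum_repr (A (e l))
  have h1 : (A (e l) : T.H X) =
      ∑ b, (e.repr (A (e l)) b) • ((e b : ↥(T.gr X (a : ℤ))) : T.H X) := by
    have := congrArg Subtype.val hrepr
    simp only [Submodule.coe_sum, Submodule.coe_smul] at this
    exact this.symm
  rw [h1, Finset.sum_mul, map_sum]
  simp only [smul_mul_assoc, map_smul, smul_eq_mul, hef]
  simp

theorem parity'' (a dX dY : ℕ) (h : a ≤ 2 * dX) :
    (-1 : K) ^ ((a + 2 * dY) * (2 * dX - a)) = (-1 : K) ^ a := by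
  rw [neg_one_pow_eq_pow_mod_two (n := (a + 2 * dY) * (2 * dX - a)),
    neg_one_pow_eq_pow_mod_two (n := a)]
  congr 1
  have h2 : (2 * dX - a) % 2 = a % 2 := by omega
  have h3 : (a + 2 * dY) % 2 = a % 2 := by omega
  rw [Nat.mul_mod, h2, h3]
  rcases Nat.mod_two_eq_zero_or_one a with h0 | h1
  · rw [h0]
  · rw [h1]

end helpers


/-- Let `H` be a Weil cohomology theory with coefficients in a field `K` of characteristic zero on
nonsingular connected projective varieties over an algebraically closed field `k`; let `X`, `Y` be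
such varieties, `P` a product `X × Y` with projections `p`, `q`, `P'` a product `Y × X` with
projections `p'`, `q'`, and `σ : P ⟶ P'` the swap (`σ p' = q`, `σ q' = p`). For an integer `r`, a
class `φ ∈ H^{2 dim X + r}(P)` acts as the degree-`r` correspondence `x ↦ q_*(p^* x ∪ φ)` from
`H•(X)` to `H•(Y)`, and `ψ ∈ H^{2 dim Y − r}(P')` as the degree-`(−r)` correspondence `y ↦ q'_*(p'^*
y ∪ ψ)` back. Then `Tr_P(φ ∪ σ^* ψ) = Σ_{i=0}^{2 dim X} (−1)^i tr(ψ ∘ φ | H^i(X))`. The hypothesis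
`hdim` is the arithmetic identity expressing `dim P = dim P' = dim X + dim Y` in the form needed to
read the composite `ψ ∘ φ` as an endomorphism of each `H^i(X)` (the push-forward maps are indexed by
the dimensions of the underlying spaces). (The published lemma defines the action of a
correspondence through the Künneth and Poincaré duality identifications `Hom^r(H•X, H•Y) = H^{2 dim
X + r}(X × Y)` and the transpose through the same identifications; here the action is written as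
pull-back, cup product and push-forward, and the transpose as pull-back along the swap, which the
published text identifies with it.) (The published lemma is stated for smooth projective varieties
over an arbitrary base field, pure of their dimensions, with Tate twists; this row is its case of
connected varieties over an algebraically closed field, without twists.) -/
theorem result (k : Type u) [Field k] [IsAlgClosed k] (K : Type v) [Field K] [CharZero K]
    (T : WeilCoh.Theory k K) (X Y P P' : WeilCoh.Var k)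
    (p : P ⟶ X) (q : P ⟶ Y) (hP : WeilCoh.IsProd p q)
    (p' : P' ⟶ Y) (q' : P' ⟶ X) (hP' : WeilCoh.IsProd p' q')
    (σ : P ⟶ P') (hσ₁ : σ ≫ p' = q) (hσ₂ : σ ≫ q' = p) (r : ℤ)
    (hdim : ∀ i : ℤ, ((i + (2 * (WeilCoh.dim X.obj.left : ℤ) + r) + 2 * (WeilCoh.dim Y.obj.left : ℤ) - 2 * (WeilCoh.dim P.obj.left : ℤ)) + (2 * (WeilCoh.dim Y.obj.left : ℤ) - r) + 2 * (WeilCoh.dim X.obj.left : ℤ) - 2 * (WeilCoh.dim P'.obj.left : ℤ)) = i)
    (φ : ↥(T.gr P (2 * (WeilCoh.dim X.obj.left : ℤ) + r))) (ψ : ↥(T.gr P' (2 * (WeilCoh.dim Y.obj.left : ℤ) - r))) :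
    T.tr P ((φ : T.H P) * T.pull σ (ψ : T.H P')) =
      ∑ i ∈ Finset.range (2 * WeilCoh.dim X.obj.left + 1),
        (-1 : K) ^ i * LinearMap.trace K ↥(T.gr X (i : ℤ))
          ((LinearEquiv.ofEq (T.gr X (((i : ℤ) + (2 * (WeilCoh.dim X.obj.left : ℤ) + r) + 2 * (WeilCoh.dim Y.obj.left : ℤ) - 2 * (WeilCoh.dim P.obj.left : ℤ)) + (2 * (WeilCoh.dim Y.obj.left : ℤ) - r) + 2 * (WeilCoh.dim X.obj.left : ℤ) - 2 * (WeilCoh.dim P'.obj.left : ℤ))) (T.gr X (i : ℤ)) (congrArg (T.gr X) (hdim (i : ℤ)))).toLinearMap ∘ₗ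
            ((T.push q' (((i : ℤ) + (2 * (WeilCoh.dim X.obj.left : ℤ) + r) + 2 * (WeilCoh.dim Y.obj.left : ℤ) - 2 * (WeilCoh.dim P.obj.left : ℤ)) + (2 * (WeilCoh.dim Y.obj.left : ℤ) - r))) ∘ₗ ((LinearMap.mulRight K (ψ : T.H P')).restrict (p := T.gr P' ((i : ℤ) + (2 * (WeilCoh.dim X.obj.left : ℤ) + r) + 2 * (WeilCoh.dim Y.obj.left : ℤ) - 2 * (WeilCoh.dim P.obj.left : ℤ))) (q := T.gr P' (((i : ℤ) + (2 * (WeilCoh.dim X.obj.left : ℤ) + r) + 2 * (WeilCoh.dim Y.obj.left : ℤ) - 2 * (WeilCoh.dim P.obj.left : ℤ)) + (2 * (WeilCoh.dim Y.obj.left : ℤ) - r))) (fun y hy => SetLike.mul_mem_graded hy ψ.2)) ∘ₗ (T.pullDeg p' ((i : ℤ) + (2 * (WeilCoh.dim X.obj.left : ℤ) + r) + 2 * (WeilCoh.dim Y.obj.left : ℤ) - 2 * (WeilCoh.dim P.obj.left : ℤ)))) ∘ₗ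
            ((T.push q ((i : ℤ) + (2 * (WeilCoh.dim X.obj.left : ℤ) + r))) ∘ₗ ((LinearMap.mulRight K (φ : T.H P)).restrict (p := T.gr P (i : ℤ)) (q := T.gr P ((i : ℤ) + (2 * (WeilCoh.dim X.obj.left : ℤ) + r))) (fun x hx => SetLike.mul_mem_graded hx φ.2)) ∘ₗ (T.pullDeg p (i : ℤ)))) := by
  classical
  have hdP : WeilCoh.dim P.obj.left = WeilCoh.dim X.obj.left + WeilCoh.dim Y.obj.left :=
    Groth.Agent.Lib.Helper97.VarProd.var_dim_prod k p q hP
  have hdP' : WeilCoh.dim P'.obj.left = WeilCoh.dim Y.obj.left + WeilCoh.dim X.obj.left :=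
    Groth.Agent.Lib.Helper97.VarProd.var_dim_prod k p' q' hP'
  have hNP : (WeilCoh.dim P.obj.left : ℤ) =
      (WeilCoh.dim X.obj.left : ℤ) + (WeilCoh.dim Y.obj.left : ℤ) := by
    rw [hdP]; push_cast; ring
  have hNP' : (WeilCoh.dim P'.obj.left : ℤ) =
      (WeilCoh.dim X.obj.left : ℤ) + (WeilCoh.dim Y.obj.left : ℤ) := by
    rw [hdP']; push_cast; ring
  -- bases and dual families
  let ι : ℕ → Type := fun a => Fin (Module.finrank K ↥(T.gr X (a : ℤ)))
  let e : (a : ℕ) → Module.Basis (ι a) K ↥(T.gr X (a : ℤ)) := fun a =>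
    Module.finBasis K ↥(T.gr X (a : ℤ))
  choose f hf using fun a : ℕ => Groth.Agent.S19871.exists_dual T X a (ι a) (e a)
  have hdec := decomp_class T p q hP hdP (2 * (WeilCoh.dim X.obj.left : ℤ) + r) φ ι e f hf
  have hp' : ∀ y : T.H Y, T.pull σ (T.pull p' y) = T.pull q y := by
    intro y
    have h1 := T.pull_comp σ p'
    rw [hσ₁] at h1
    exact (congrArg (fun ψ => ψ y) h1).symm
  have hq' : ∀ x : T.H X, T.pull σ (T.pull q' x) = T.pull p x := by
    intro x
    have h1 := T.pull_comp σ q'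
    rw [hσ₂] at h1
    exact (congrArg (fun ψ => ψ x) h1).symm
  conv_lhs => rw [hdec]
  rw [Finset.sum_mul, map_sum]
  apply Finset.sum_congr rfl
  intro a ha
  rw [Finset.mem_range] at ha
  have ha' : a ≤ 2 * WeilCoh.dim X.obj.left := by omega
  rw [trace_eq' T X a (ι a) (e a) (f a) (hf a), Finset.sum_mul, map_sum, Finset.mul_sum]
  apply Finset.sum_congr rfl
  intro l _
  -- the term on the right
  have hfl : (f a l : T.H X) ∈ T.gr X (2 * (WeilCoh.dim P'.obj.left : ℤ) - (((a : ℤ) + (2 * (WeilCoh.dim X.obj.left : ℤ) + r) + 2 * (WeilCoh.dim Y.obj.left : ℤ) - 2 * (WeilCoh.dim P.obj.left : ℤ)) + (2 * (WeilCoh.dim Y.obj.left : ℤ) - r))) :=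
    Groth.Agent.S19871.mem_of_eq T (f a l).2 (by rw [hNP, hNP']; ring)
  have hR := Groth.Agent.S19871.tr_act T p' q' (2 * (WeilCoh.dim Y.obj.left : ℤ) - r) ψ ((a : ℤ) + (2 * (WeilCoh.dim X.obj.left : ℤ) + r) + 2 * (WeilCoh.dim Y.obj.left : ℤ) - 2 * (WeilCoh.dim P.obj.left : ℤ)) (act T p q (2 * (WeilCoh.dim X.obj.left : ℤ) + r) φ (a : ℤ) (e a l))
    (f a l : T.H X) hfl
  have hstep : T.tr X (((((LinearEquiv.ofEq (T.gr X (((a : ℤ) + (2 * (WeilCoh.dim X.obj.left : ℤ) + r) + 2 * (WeilCoh.dim Y.obj.left : ℤ) - 2 * (WeilCoh.dim P.obj.left : ℤ)) + (2 * (WeilCoh.dim Y.obj.left : ℤ) - r) + 2 * (WeilCoh.dim X.obj.left : ℤ) -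
        2 * (WeilCoh.dim P'.obj.left : ℤ))) (T.gr X (a : ℤ))
        (congrArg (T.gr X) (hdim (a : ℤ)))).toLinearMap ∘ₗ
      (act T p' q' (2 * (WeilCoh.dim Y.obj.left : ℤ) - r) ψ ((a : ℤ) + (2 * (WeilCoh.dim X.obj.left : ℤ) + r) + 2 * (WeilCoh.dim Y.obj.left : ℤ) - 2 * (WeilCoh.dim P.obj.left : ℤ))) ∘ₗ (act T p q (2 * (WeilCoh.dim X.obj.left : ℤ) + r) φ (a : ℤ))) (e a l) : ↥(T.gr X (a : ℤ))) : T.H X) *
        (f a l : T.H X)) =
      T.tr P' (T.pull p' (act T p q (2 * (WeilCoh.dim X.obj.left : ℤ) + r) φ (a : ℤ) (e a l) : T.H Y) * (ψ : T.H P') *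
        T.pull q' (f a l : T.H X)) := by
    rw [← hR]
    rfl
  refine Eq.trans ?_ (congrArg (fun t => (-1 : K) ^ a * t) hstep).symm
  rw [← tr_swap T p q hP p' q' hP' σ hσ₁ hσ₂ hdP hdP', map_mul (T.pull σ), map_mul (T.pull σ),
    hp', hq']
  have hzq : T.pull q (act T p q (2 * (WeilCoh.dim X.obj.left : ℤ) + r) φ (a : ℤ) (e a l) : T.H Y) * T.pull σ (ψ : T.H P') ∈
      T.gr P (((a : ℤ) + (2 * (WeilCoh.dim X.obj.left : ℤ) + r) + 2 * (WeilCoh.dim Y.obj.left : ℤ) - 2 * (WeilCoh.dim P.obj.left : ℤ)) + (2 * (WeilCoh.dim Y.obj.left : ℤ) - r)) :=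
    SetLike.mul_mem_graded (T.pull_mem q _ _ (act T p q (2 * (WeilCoh.dim X.obj.left : ℤ) + r) φ (a : ℤ) (e a l)).2)
      (T.pull_mem σ _ _ ψ.2)
  have hc := T.gradedComm P (((a : ℤ) + (2 * (WeilCoh.dim X.obj.left : ℤ) + r) + 2 * (WeilCoh.dim Y.obj.left : ℤ) - 2 * (WeilCoh.dim P.obj.left : ℤ)) + (2 * (WeilCoh.dim Y.obj.left : ℤ) - r)) (2 * (WeilCoh.dim X.obj.left : ℤ) - a) _ _ hzq
    (T.pull_mem p _ _ (f a l).2)
  have hJm : (((a : ℤ) + (2 * (WeilCoh.dim X.obj.left : ℤ) + r) + 2 * (WeilCoh.dim Y.obj.left : ℤ) - 2 * (WeilCoh.dim P.obj.left : ℤ)) + (2 * (WeilCoh.dim Y.obj.left : ℤ) - r)).natAbs = a + 2 * WeilCoh.dim Y.obj.left := by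
    rw [hNP]; omega
  have h2 : (2 * (WeilCoh.dim X.obj.left : ℤ) - a).natAbs = 2 * WeilCoh.dim X.obj.left - a := by
    omega
  rw [hc, map_smul, smul_eq_mul, hJm, h2, parity'' a _ _ ha', ← mul_assoc ((-1 : K) ^ a),
    ← pow_add, ← two_mul, pow_mul]
  simp [mul_assoc]

end Groth.Agent.S15748
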