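import Groth.Statements.S15749
import Mathlib

set_option autoImplicit false
universe u

namespace Groth.Agent.S15749

open HahnSeries

theorem coeff_C' {S : Type*} [CommRing S] (r : S) (n : ℤ) :
    (C r : HahnSeries ℤ S).coeff n = if n = 0 then r else 0 := by
  by_cases h : n = 0
  · subst h; simp
  · rw [if_neg h, C_apply, coeff_single_of_ne h]

/-- An idempotent Laurent series without negative terms is constant. -/
theorem const_of_nonneg {S : Type*} [CommRing S] (f : HahnSeries ℤ S) (hf : IsIdempotentElem f)
    (hneg : ∀ n < 0, f.coeff n = 0) : f = C (f.coeff 0) := by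
  set a := f.coeff 0 with ha
  set h := f - C a with hh
  have hcoeff : ∀ n, h.coeff n = if n = 0 then 0 else f.coeff n := by
    intro n
    rw [hh, coeff_sub, coeff_C']
    split_ifs with hn
    · rw [hn, ← ha, sub_self]
    · rw [sub_zero]
  by_contra hcon
  have hne : h ≠ 0 := by
    intro h0
    apply hcon
    rw [hh, sub_eq_zero] at h0
    exact h0
  set d := h.order with hd
  have hdc : h.coeff d ≠ 0 := coeff_order_eq_zero.not.2 hne
  have hdpos : 0 < d := by
    by_contra hd0
    push Not at hd0
    apply hdc
    rw [hcoeff]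
    split_ifs with h1
    · rfl
    · exact hneg d (lt_of_le_of_ne hd0 h1)
  have hhh : ∀ n, n < 2 * d → (h * h).coeff n = 0 := by
    intro n hn
    apply coeff_eq_zero_of_lt_orderTop
    have h1 : h.orderTop + h.orderTop ≤ (h * h).orderTop := orderTop_add_le_mul
    have h2 : ((d : ℤ) : WithTop ℤ) = h.orderTop := order_eq_orderTop_of_ne_zero hne
    rw [← h2] at h1
    refine lt_of_lt_of_le ?_ h1
    rw [← WithTop.coe_add]
    exact_mod_cast (by omega : n < d + d)
  have hf' : f = C a + h := by rw [hh]; ring
  have hexp : C (a * a) + (2 * a) • h + h * h = C a + h := by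
    have : f * f = f := hf
    rw [hf'] at this
    rw [← this, map_mul, ← C_mul_eq_smul, map_mul]
    have h2 : (C (2 : S) : HahnSeries ℤ S) = 2 := by
      rw [show (2 : S) = 1 + 1 by norm_num, map_add, map_one]; norm_num
    rw [h2]; ring
  have E1 : a * a = a := by
    have := congrArg (fun x => x.coeff 0) hexp
    simp only [coeff_add, coeff_C', if_true, HahnSeries.coeff_smul] at this
    rw [hhh 0 (by omega), hcoeff 0] at this
    simpa using this
  have E2 : 2 * (a * h.coeff d) = h.coeff d := by
    have := congrArg (fun x => x.coeff d) hexp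
    simp only [coeff_add, coeff_C', HahnSeries.coeff_smul] at this
    rw [hhh d (by omega)] at this
    simp only [if_neg hdpos.ne', smul_eq_mul, zero_add, add_zero] at this
    linear_combination this
  apply hdc
  linear_combination (2 * a - 1) * E2 - 4 * h.coeff d * E1

/-- coefficients of powers lie in powers of the ideal. -/
theorem coeff_pow_mem {R : Type*} [CommRing R] (I : Ideal R) (y : HahnSeries ℤ R)
    (hy : ∀ n, y.coeff n ∈ I) (K : ℕ) : ∀ n, (y ^ K).coeff n ∈ I ^ K := by
  induction K with
  | zero => intro n; simp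
  | succ K ih =>
    intro n
    rw [pow_succ y, coeff_mul, pow_succ]
    apply Ideal.sum_mem
    intro ij _
    exact Ideal.mul_mem_mul (ih _) (hy _)

theorem result (R : Type u) [CommRing R]
    (e : LaurentSeries R) (he : IsIdempotentElem e) :
    ∃! r : R, IsIdempotentElem r ∧ HahnSeries.C r = e := by
  classical
  -- (1) coefficients off zero are nilpotent
  have hnil : ∀ n : ℤ, n ≠ 0 → IsNilpotent (e.coeff n) := by
    intro n hn
    rw [nilpotent_iff_mem_prime]
    intro P hP
    let π : R →ₙ+* R ⧸ P := (Ideal.Quotient.mk P : R →+* R ⧸ P)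
    have hidem : IsIdempotentElem (e.map π) := by
      show e.map π * e.map π = e.map π
      rw [← HahnSeries.map_mul π, he.eq]
    have h01 := (IsIdempotentElem.iff_eq_zero_or_one).1 hidem
    have hc : (e.map π).coeff n = 0 := by
      rcases h01 with h | h
      · rw [h]; rfl
      · rw [h, coeff_one, if_neg hn]
    rw [map_coeff] at hc
    exact Ideal.Quotient.eq_zero_iff_mem.1 hc
  -- (2) the ideal of negative coefficients
  set I : Ideal R := Ideal.span ((Finset.Ico e.order 0).image e.coeff : Set R) with hI
  have hnegI : ∀ n < 0, e.coeff n ∈ I := by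
    intro n hn
    by_cases hle : e.order ≤ n
    · apply Ideal.subset_span
      rw [Finset.coe_image]
      exact ⟨n, Finset.mem_coe.2 (Finset.mem_Ico.2 ⟨hle, hn⟩), rfl⟩
    · push Not at hle
      rw [coeff_eq_zero_of_lt_order hle]; exact zero_mem _
  have hInil : I ≤ nilradical R := by
    rw [hI, Ideal.span_le]
    intro x hx
    rw [Finset.coe_image] at hx
    obtain ⟨n, hn, rfl⟩ := hx
    rw [Finset.mem_coe, Finset.mem_Ico] at hn
    exact (mem_nilradical).2 (hnil n (by omega))
  have hIfg : I.FG := ⟨(Finset.Ico e.order 0).image e.coeff, rfl⟩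
  obtain ⟨K, hK⟩ : ∃ K : ℕ, I ^ K ≤ ⊥ :=
    Ideal.exists_pow_le_of_le_radical_of_fg (J := ⊥) (by
      rw [show (⊥ : Ideal R).radical = nilradical R from rfl]; exact hInil) hIfg
  -- (3) modulo I
  let π : R →ₙ+* R ⧸ I := (Ideal.Quotient.mk I : R →+* R ⧸ I)
  have hidem : IsIdempotentElem (e.map π) := by
    show e.map π * e.map π = e.map π
    rw [← HahnSeries.map_mul π, he.eq]
  have hconst := const_of_nonneg (e.map π) hidem (by
    intro n hn
    rw [map_coeff]
    exact Ideal.Quotient.eq_zero_iff_mem.2 (hnegI n hn))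
  have hposI : ∀ n, 0 < n → e.coeff n ∈ I := by
    intro n hn
    have := congrArg (fun x => x.coeff n) hconst
    simp only [coeff_C', if_neg hn.ne'] at this
    rw [map_coeff] at this
    exact Ideal.Quotient.eq_zero_iff_mem.1 this
  have ha : IsIdempotentElem ((e.map π).coeff 0) := by
    have h1 : C ((e.map π).coeff 0) * C ((e.map π).coeff 0) = (C ((e.map π).coeff 0) : HahnSeries ℤ (R ⧸ I)) := by
      rw [← hconst]; exact hidem
    rw [← map_mul] at h1
    exact C_injective h1
  -- (4) lift
  obtain ⟨r, hr, hr'⟩ := exists_isIdempotentElem_eq_of_ker_isNilpotent (Ideal.Quotient.mk I)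
    (by
      intro x hx
      rw [Ideal.mk_ker] at hx
      exact mem_nilradical.1 (hInil hx))
    ((e.map π).coeff 0) ⟨e.coeff 0, by rw [map_coeff]; rfl⟩ ha
  have hr0 : e.coeff 0 - r ∈ I := by
    rw [map_coeff] at hr'
    rw [← Ideal.Quotient.eq]
    exact hr'.symm
  -- (5)
  have hx : ∀ n, (e - C r).coeff n ∈ I := by
    intro n
    rw [coeff_sub, coeff_C']
    split_ifs with hn
    · rw [hn]; exact hr0
    · rw [sub_zero]
      rcases lt_or_gt_of_ne hn with h | h
      · exact hnegI n h
      · exact hposI n h
  have hnilx : IsNilpotent (e - C r) := by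
    refine ⟨K, ?_⟩
    ext n
    have := hK (coeff_pow_mem I (e - C r) hx K n)
    simpa using this
  have hCr : IsIdempotentElem (C r : HahnSeries ℤ R) := by
    show C r * C r = C r
    rw [← map_mul, hr.eq]
  have heq : e = C r := eq_of_isNilpotent_sub_of_isIdempotentElem he hCr hnilx
  refine ⟨r, ⟨hr, heq.symm⟩, ?_⟩
  rintro r' ⟨_, hr'e⟩
  exact C_injective (hr'e.trans heq)

end Groth.Agent.S15749
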