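import Groth.Statements.S15750
import Mathlib

set_option autoImplicit false
universe u

namespace Groth.Agent.S15750

open HahnSeries

/-- local data of a unit Laurent series at a prime. -/
theorem prime_data {R : Type*} [CommRing R] (F G : HahnSeries ℤ R) (hFG : F * G = 1)
    (P : Ideal R) [P.IsPrime] :
    ∃ n : ℤ, (∀ i < n, F.coeff i ∈ P) ∧ (∀ j, j < -n → G.coeff j ∈ P) ∧
      F.coeff n * G.coeff (-n) - 1 ∈ P := by
  let π : R →ₙ+* R ⧸ P := (Ideal.Quotient.mk P : R →+* R ⧸ P)
  have hπ : ∀ x, π x = Ideal.Quotient.mk P x := fun _ => rfl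
  have h1 : F.map π * G.map π = 1 := by
    rw [← HahnSeries.map_mul π, hFG]
    ext n
    rw [map_coeff, coeff_one, coeff_one]
    split_ifs
    · rw [hπ, map_one]
    · rw [map_zero]
  have hF : F.map π ≠ 0 := left_ne_zero_of_mul_eq_one h1
  have hG : G.map π ≠ 0 := right_ne_zero_of_mul_eq_one h1
  have hord : (F.map π).order + (G.map π).order = 0 := by
    rw [← order_mul hF hG, h1, order_one]
  have hlead : (F.map π).leadingCoeff * (G.map π).leadingCoeff = 1 := by
    rw [← leadingCoeff_mul, h1, leadingCoeff_one]
  refine ⟨(F.map π).order, ?_, ?_, ?_⟩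
  · intro i hi
    have := coeff_eq_zero_of_lt_order hi
    rw [map_coeff] at this
    exact Ideal.Quotient.eq_zero_iff_mem.1 this
  · intro j hj
    have hj' : j < (G.map π).order := by omega
    have := coeff_eq_zero_of_lt_order hj'
    rw [map_coeff] at this
    exact Ideal.Quotient.eq_zero_iff_mem.1 this
  · rw [leadingCoeff_eq, leadingCoeff_eq, map_coeff, map_coeff] at hlead
    have : (G.map π).order = -(F.map π).order := by omega
    rw [this, hπ, hπ] at hlead
    rw [← Ideal.Quotient.eq_zero_iff_mem, map_sub, map_mul, map_one]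
    exact sub_eq_zero.2 hlead

theorem result (R : Type u) [CommRing R]
    [IsReduced R] [Nontrivial R] (hconn : ∀ e : R, IsIdempotentElem e → e = 0 ∨ e = 1)
    (f : (LaurentSeries R)ˣ) :
    ∃! p : ℤ × (PowerSeries R)ˣ,
      (f : LaurentSeries R) = HahnSeries.single p.1 (1 : R) * HahnSeries.ofPowerSeries ℤ R (p.2 : PowerSeries R) := by
  classical
  set F : LaurentSeries R := (f : LaurentSeries R) with hF
  set G : LaurentSeries R := ((f⁻¹ : (LaurentSeries R)ˣ) : LaurentSeries R) with hG
  have hFG : F * G = 1 := f.mul_inv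
  -- the elements e_n are idempotent
  have hidem : ∀ n : ℤ, IsIdempotentElem (F.coeff n * G.coeff (-n)) := by
    intro n
    have hnil : IsNilpotent ((F.coeff n * G.coeff (-n)) * (F.coeff n * G.coeff (-n))
        - F.coeff n * G.coeff (-n)) := by
      rw [nilpotent_iff_mem_prime]
      intro P hP
      obtain ⟨nP, h1, h2, h3⟩ := prime_data F G hFG P
      rcases lt_trichotomy n nP with h | h | h
      · have : F.coeff n * G.coeff (-n) ∈ P := P.mul_mem_right _ (h1 n h)
        exact P.sub_mem (P.mul_mem_left _ this) this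
      · subst h
        have : (F.coeff n * G.coeff (-n)) * (F.coeff n * G.coeff (-n)) - F.coeff n * G.coeff (-n)
            = (F.coeff n * G.coeff (-n)) * (F.coeff n * G.coeff (-n) - 1) := by ring
        rw [this]; exact P.mul_mem_left _ h3
      · have : F.coeff n * G.coeff (-n) ∈ P := P.mul_mem_left _ (h2 (-n) (by omega))
        exact P.sub_mem (P.mul_mem_left _ this) this
    exact sub_eq_zero.1 hnil.eq_zero
  obtain ⟨P₀, hP₀⟩ := Ideal.exists_maximal R
  haveI : P₀.IsPrime := hP₀.isPrime
  obtain ⟨n₀, h1, h2, h3⟩ := prime_data F G hFG P₀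
  have he1 : F.coeff n₀ * G.coeff (-n₀) = 1 := by
    rcases hconn _ (hidem n₀) with h | h
    · exfalso
      rw [h] at h3
      have : (1 : R) ∈ P₀ := by
        have := P₀.neg_mem h3
        simpa using this
      exact hP₀.ne_top ((Ideal.eq_top_iff_one _).2 this)
    · exact h
  have hlow : ∀ i < n₀, F.coeff i = 0 := by
    intro i hi
    apply IsNilpotent.eq_zero
    rw [nilpotent_iff_mem_prime]
    intro P hP
    obtain ⟨nP, g1, g2, g3⟩ := prime_data F G hFG P
    have hFu : F.coeff n₀ ∉ P := fun h =>
      hP.ne_top ((Ideal.eq_top_iff_one _).2 (he1 ▸ P.mul_mem_right _ h))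
    have hGu : G.coeff (-n₀) ∉ P := fun h =>
      hP.ne_top ((Ideal.eq_top_iff_one _).2 (he1 ▸ P.mul_mem_left _ h))
    have hle : nP ≤ n₀ := by
      by_contra h; push Not at h; exact hFu (g1 n₀ h)
    have hge : n₀ ≤ nP := by
      by_contra h; push Not at h; exact hGu (g2 (-n₀) (by omega))
    exact g1 i (by omega)
  have hunit0 : IsUnit (F.coeff n₀) := IsUnit.of_mul_eq_one _ he1
  -- the power series part
  let u : PowerSeries R := PowerSeries.mk (fun k => F.coeff (n₀ + k))
  have hu : IsUnit u := by
    rw [PowerSeries.isUnit_iff_constantCoeff]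
    simpa [u] using hunit0
  have hFu : F = single n₀ (1 : R) * ofPowerSeries ℤ R u := by
    ext m
    rw [coeff_single_mul, one_mul, PowerSeries.coeff_coe]
    split_ifs with h
    · exact hlow m (by omega)
    · rw [PowerSeries.coeff_mk]
      congr 1
      omega
  refine ⟨(n₀, hu.unit), hFu, ?_⟩
  rintro ⟨a, v⟩ hav
  simp only at hav
  have hva : F.coeff a = PowerSeries.constantCoeff (v : PowerSeries R) := by
    rw [hav, coeff_single_mul, one_mul, sub_self, PowerSeries.coeff_coe]
    simp
  have hvunit : IsUnit (F.coeff a) := by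
    rw [hva]; exact (PowerSeries.isUnit_iff_constantCoeff.1 v.isUnit)
  have hlowa : ∀ i < a, F.coeff i = 0 := by
    intro i hi
    rw [hav, coeff_single_mul, one_mul, PowerSeries.coeff_coe, if_pos (by omega)]
  have han : a = n₀ := by
    rcases lt_trichotomy a n₀ with h | h | h
    · exfalso
      have := hlow a h
      rw [this] at hvunit
      exact not_isUnit_zero hvunit
    · exact h
    · exfalso
      have := hlowa n₀ h
      rw [this] at hunit0
      exact not_isUnit_zero hunit0
  subst han
  have hvu : (v : PowerSeries R) = u := by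
    have h4 : single a (1 : R) * ofPowerSeries ℤ R (v : PowerSeries R)
        = single a (1 : R) * ofPowerSeries ℤ R u := by rw [← hav, ← hFu]
    have h5 := congrArg (fun x => single (-a) (1 : R) * x) h4
    simp only [← mul_assoc, single_mul_single, neg_add_cancel, mul_one] at h5
    rw [show (single (0 : ℤ) (1 : R)) = 1 from rfl, one_mul, one_mul] at h5
    exact ofPowerSeries_injective h5
  congr 1
  exact Units.ext hvu

end Groth.Agent.S15750
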