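import Groth.Statements.S15765
import Mathlib

set_option autoImplicit false
universe u
open CategoryTheory AlgebraicGeometry
open CAlg

namespace Groth.Agent.S15765

/-- Approximating a partition of unity by elements of a dense subring, keeping the sum a unit. -/
lemma exists_unit_approx {B B₀ : Type*} [CommRing B] [TopologicalSpace B] [IsTopologicalRing B]
    (hB : IsOpen {b : B | IsUnit b}) [CommRing B₀] (φ : B₀ →+* B) (hφ : DenseRange φ)
    {ι : Type*} [Fintype ι] (a b : ι → B) (h : ∑ i, b i * a i = 1) :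
    ∃ c : ι → B₀, IsUnit (∑ i, φ (c i) * a i) := by
  let F : (ι → B) → B := fun b' => ∑ i, b' i * a i
  have hF : Continuous F := by
    apply continuous_finset_sum
    intro i _
    exact (continuous_apply i).mul continuous_const
  have hopen : IsOpen (F ⁻¹' {b | IsUnit b}) := hB.preimage hF
  have hne : (F ⁻¹' {b | IsUnit b}).Nonempty := ⟨b, by simp [F, h]⟩
  have hd : DenseRange (Pi.map (fun _ : ι => (φ : B₀ → B))) := DenseRange.piMap (fun _ => hφ)
  obtain ⟨c, hc⟩ := hd.exists_mem_open hopen hne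
  exact ⟨c, hc⟩

/-- In a quasi-affine scheme, a basic open `X_r` is affine as soon as `r` is a combination of
global sections with affine basic opens. -/
lemma isAffineOpen_basicOpen_of_sum {X : Scheme.{u}} {ι : Type*} [Fintype ι]
    (r : ι → Γ(X, ⊤)) (hr : ∀ i, IsAffineOpen (X.basicOpen (r i))) (c : ι → Γ(X, ⊤)) :
    IsAffineOpen (X.basicOpen (∑ i, c i * r i)) := by
  set r₀ := ∑ i, c i * r i with hr₀
  set U := X.basicOpen r₀ with hU
  let res : Γ(X, ⊤) ⟶ Γ(X, U) := X.presheaf.map (homOfLE le_top).op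
  refine isAffineOpen_of_isAffineOpen_basicOpen U (Set.range fun i => res (r i)) ?_ ?_
  · have hunit : IsUnit (res r₀) := X.toRingedSpace.isUnit_res_basicOpen r₀
    refine Ideal.eq_top_of_isUnit_mem _ ?_ hunit
    rw [hr₀, map_sum]
    refine Ideal.sum_mem _ fun i _ => ?_
    rw [map_mul]
    exact Ideal.mul_mem_left _ _ (Ideal.subset_span ⟨i, rfl⟩)
  · rintro _ ⟨i, rfl⟩
    rw [Scheme.basicOpen_res]
    have : U ⊓ X.basicOpen (r i) =
        X.basicOpen (X.presheaf.map (homOfLE (le_top : X.basicOpen (r i) ≤ ⊤)).op r₀) := by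
      rw [Scheme.basicOpen_res, inf_comm]
    rw [this]
    exact (hr i).basicOpen _

/-- Let B be a topological ring in which the units form an open subset, B₀ → B a ring map with dense
image and X a quasi-affine scheme over B₀. Then the image of any B-point Spec B → X over B₀ is
contained in an affine open of X. (The published statement allows X ind-quasi-affine, i.e. with all
quasi-compact opens quasi-affine; since a B-point lands in a quasi-compact open, this row's
quasi-affine case carries the content.) -/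
theorem result (B : Type u) [CommRing B] [TopologicalSpace B]
    [IsTopologicalRing B] (hB : IsOpen {b : B | IsUnit b})
    (B₀ : Type u) [CommRing B₀] (φ : B₀ →+* B) (hφ : DenseRange φ)
    (X : Scheme.{u}) [X.IsQuasiAffine] (p : X ⟶ Spec (CommRingCat.of B₀))
    (f : Spec (CommRingCat.of B) ⟶ X) (hf : f ≫ p = Spec.map (CommRingCat.ofHom φ)) :
    ∃ U : X.Opens, IsAffineOpen U ∧ Set.range f.base ⊆ (U : Set X) := by
  classical
  -- choose, for every point, an affine basic open containing it
  have hbasis := Scheme.IsQuasiAffine.isBasis_basicOpen X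
  have hex : ∀ x : X, ∃ r : Γ(X, ⊤), IsAffineOpen (X.basicOpen r) ∧ x ∈ X.basicOpen r := by
    intro x
    obtain ⟨_, ⟨_, ⟨r, hr, rfl⟩, rfl⟩, hxr, -⟩ :=
      hbasis.exists_subset_of_mem_open (Set.mem_univ x) isOpen_univ
    exact ⟨r, hr, hxr⟩
  choose r hr hxr using hex
  obtain ⟨t, -, ht⟩ := isCompact_univ.elim_nhds_subcover (fun x => (X.basicOpen (r x) : Set X))
    (fun x _ => (X.basicOpen (r x)).isOpen.mem_nhds (hxr x))
  -- the pulled-back sections generate the unit ideal of `Γ(Spec B, ⊤)`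
  let ι := {x // x ∈ t}
  have hspan : Ideal.span (Set.range fun i : ι => f.appTop (r i.1)) = ⊤ := by
    rw [← (isAffineOpen_top (Spec (CommRingCat.of B))).self_le_iSup_basicOpen_iff]
    intro y _
    have : f.base y ∈ ⋃ x ∈ t, (X.basicOpen (r x) : Set X) := ht (Set.mem_univ _)
    simp only [Set.mem_iUnion] at this
    obtain ⟨x, hx, hy⟩ := this
    rw [TopologicalSpace.Opens.mem_iSup]
    refine ⟨⟨f.appTop (r x), ⟨⟨x, hx⟩, rfl⟩⟩, ?_⟩
    change y ∈ (Spec (CommRingCat.of B)).basicOpen (f.appTop (r x))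
    rw [← Scheme.preimage_basicOpen_top]
    exact hy
  have h1 : (1 : Γ(Spec (CommRingCat.of B), ⊤)) ∈
      Ideal.span (Set.range fun i : ι => f.appTop (r i.1)) := by
    rw [hspan]; exact Submodule.mem_top
  obtain ⟨c, hc⟩ := Ideal.mem_span_range_iff_exists_fun.mp h1
  -- transport to `B`
  let e := Scheme.ΓSpecIso (CommRingCat.of B)
  let e₀ := Scheme.ΓSpecIso (CommRingCat.of B₀)
  have hsum : ∑ i : ι, e.hom.hom (c i) * e.hom.hom (f.appTop (r i.1)) = 1 := by
    have := congrArg e.hom.hom hc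
    simpa [map_sum, map_mul] using this
  obtain ⟨c₀, hc₀⟩ := exists_unit_approx hB φ hφ
    (fun i : ι => e.hom.hom (f.appTop (r i.1))) (fun i => e.hom.hom (c i)) hsum
  -- the coefficients as global sections of `X`
  let s : ι → Γ(X, ⊤) := fun i => p.appTop (e₀.inv (c₀ i))
  have hs : ∀ i, e.hom.hom (f.appTop (s i)) = φ (c₀ i) := by
    intro i
    have h2 : f.appTop (p.appTop (e₀.inv (c₀ i))) =
        (Spec.map (CommRingCat.ofHom φ)).appTop (e₀.inv (c₀ i)) := by
      rw [← hf, Scheme.Hom.comp_appTop]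
      rfl
    have h3 := Scheme.ΓSpecIso_naturality (CommRingCat.ofHom φ)
    have h4 := congrArg (fun g => g.hom (e₀.inv (c₀ i))) h3
    simp only [CommRingCat.hom_comp, RingHom.coe_comp, Function.comp_apply] at h4
    change e.hom.hom (f.appTop (p.appTop (e₀.inv (c₀ i)))) = φ (c₀ i)
    rw [h2]
    refine h4.trans ?_
    change φ (e₀.hom.hom (e₀.inv.hom (c₀ i))) = φ (c₀ i)
    congr 1
    exact congrArg (fun g => g.hom (c₀ i)) e₀.inv_hom_id
  set r₀ : Γ(X, ⊤) := ∑ i, s i * r i.1 with hr₀
  have hunit : IsUnit (f.appTop r₀) := by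
    have h5 : e.hom.hom (f.appTop r₀) = ∑ i : ι, φ (c₀ i) * e.hom.hom (f.appTop (r i.1)) := by
      rw [hr₀, map_sum, map_sum]
      refine Finset.sum_congr rfl fun i _ => ?_
      rw [map_mul, map_mul, hs]
    rw [← h5] at hc₀
    have h6 := hc₀.map e.inv.hom
    have h7 : e.inv.hom (e.hom.hom (f.appTop r₀)) = f.appTop r₀ :=
      congrArg (fun g => g.hom (f.appTop r₀)) e.hom_inv_id
    rwa [h7] at h6
  refine ⟨X.basicOpen r₀, isAffineOpen_basicOpen_of_sum (fun i : ι => r i.1) (fun i => hr i.1) s, ?_⟩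
  rintro _ ⟨y, rfl⟩
  have h8 : f ⁻¹ᵁ X.basicOpen r₀ = ⊤ := by
    rw [Scheme.preimage_basicOpen_top, Scheme.basicOpen_of_isUnit _ hunit]
  have : y ∈ f ⁻¹ᵁ X.basicOpen r₀ := by rw [h8]; trivial
  exact this

end Groth.Agent.S15765
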