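import Groth.Statements.S15768
-- import your own Groth.Agent.* helpers here
import Groth.Agent.Lib.Helper89.HensIdem2

set_option autoImplicit false
universe u
open Polynomial
open CAlg

namespace Groth.Agent.S15768

/-- For any ring R and a henselization B of R[t] along (t), every idempotent of B[1/t] comes from a
unique idempotent of R under R → R[t] → B → B[1/t]. -/
theorem result (R : Type u) [CommRing R]
    (B : Type u) [CommRing B] [Algebra R[X] B] (hB : Hens2.IsPairHenselization R[X] (Ideal.span {(X : R[X])}) B)
    (e : Localization.Away (algebraMap R[X] B X)) (he : IsIdempotentElem e) :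
    ∃! r : R, IsIdempotentElem r ∧
      algebraMap B (Localization.Away (algebraMap R[X] B X)) (algebraMap R[X] B (Polynomial.C r)) = e := by
  obtain ⟨r, ⟨h1, h2⟩, h3⟩ :=
    Groth.Agent.Lib.Helper89.Approx.existsUnique_idem_henselization R B hB e he
  exact ⟨r, ⟨h1, h2⟩, fun r' ⟨h4, h5⟩ => h3 r' ⟨h4, h5⟩⟩

end Groth.Agent.S15768
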