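import Groth.Statements.S15769
import Mathlib

set_option autoImplicit false
universe u
open CategoryTheory AlgebraicGeometry
open CAlg

namespace Groth.Agent.S15769
open CategoryTheory AlgebraicGeometry

section algebra

variable {A A' : Type u} [CommRing A] [CommRing A'] (φ : A →+* A') (t : A)

theorem bl_unique
    (htor : ∀ a' : A', (∃ m : ℕ, φ t ^ m * a' = 0) → ∃! a : A, (∃ m : ℕ, t ^ m * a = 0) ∧ φ a = a')
    (a : A) (h1 : φ a = 0) (h2 : algebraMap A (Localization.Away t) a = 0) : a = 0 := by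
  obtain ⟨⟨_, m, rfl⟩, hm⟩ := (IsLocalization.map_eq_zero_iff (Submonoid.powers t) _ a).mp h2
  obtain ⟨a₀, -, huniq⟩ := htor 0 ⟨0, by simp⟩
  rw [huniq a ⟨⟨m, hm⟩, h1⟩, huniq 0 ⟨⟨0, by simp⟩, map_zero φ⟩]

theorem bl_inj
    (htor : ∀ a' : A', (∃ m : ℕ, φ t ^ m * a' = 0) → ∃! a : A, (∃ m : ℕ, t ^ m * a = 0) ∧ φ a = a')
    (a b : A) (h1 : φ a = φ b)
    (h2 : algebraMap A (Localization.Away t) a = algebraMap A (Localization.Away t) b) : a = b := by
  rw [← sub_eq_zero]
  apply bl_unique φ t htor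
  · rw [map_sub, h1, sub_self]
  · rw [map_sub, h2, sub_self]

theorem bl_exists
    (hq : ∀ m : ℕ, Function.Injective (Ideal.quotientMap (Ideal.map φ (Ideal.span {t} ^ m)) φ Ideal.le_comap_map))
    (htor : ∀ a' : A', (∃ m : ℕ, φ t ^ m * a' = 0) → ∃! a : A, (∃ m : ℕ, t ^ m * a = 0) ∧ φ a = a')
    (a' : A') (b : Localization.Away t)
    (h : algebraMap A' (Localization.Away (φ t)) a' = Localization.awayMap φ t b) :
    ∃ a : A, φ a = a' ∧ algebraMap A (Localization.Away t) a = b := by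
  have htor0 : ∀ τ : A, (∃ m : ℕ, t ^ m * τ = 0) → algebraMap A (Localization.Away t) τ = 0 := by
    rintro τ ⟨m, hm⟩
    exact (IsLocalization.map_eq_zero_iff (Submonoid.powers t) _ τ).mpr ⟨⟨_, m, rfl⟩, hm⟩
  obtain ⟨c, ⟨_, n, rfl⟩, rfl⟩ := IsLocalization.exists_mk'_eq (Submonoid.powers t) b
  have hmap : Localization.awayMap φ t (IsLocalization.mk' (Localization.Away t) c
      (⟨t ^ n, n, rfl⟩ : Submonoid.powers t)) =
      IsLocalization.mk' (Localization.Away (φ t)) (φ c)
        (⟨φ t ^ n, n, rfl⟩ : Submonoid.powers (φ t)) := by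
    unfold Localization.awayMap IsLocalization.Away.map
    rw [IsLocalization.map_mk']
    congr 1
    ext
    simp
  rw [hmap, IsLocalization.eq_mk'_iff_mul_eq, ← map_mul] at h
  obtain ⟨⟨_, m, rfl⟩, hm⟩ := (IsLocalization.eq_iff_exists (Submonoid.powers (φ t)) _).mp h
  simp only at hm
  -- d := a' * φ t ^ n - φ c is torsion
  obtain ⟨τ, ⟨hτtor, hτ⟩, -⟩ := htor (a' * φ t ^ n - φ c) ⟨m, by rw [mul_sub, hm, sub_self]⟩
  have hc1 : φ (c + τ) = a' * φ t ^ n := by rw [map_add, hτ]; ring
  have hmem : c + τ ∈ Ideal.span {t} ^ n := by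
    rw [← Ideal.Quotient.eq_zero_iff_mem]
    apply hq n
    rw [Ideal.quotientMap_mk, map_zero, Ideal.Quotient.eq_zero_iff_mem, hc1]
    have : φ t ^ n ∈ Ideal.map φ (Ideal.span {t} ^ n) := by
      rw [← map_pow]
      exact Ideal.mem_map_of_mem φ (Ideal.pow_mem_pow (Ideal.mem_span_singleton_self t) n)
    exact Ideal.mul_mem_left _ _ this
  rw [Ideal.span_singleton_pow, Ideal.mem_span_singleton'] at hmem
  obtain ⟨a₀, ha₀⟩ := hmem
  obtain ⟨τ', ⟨hτ'tor, hτ'⟩, -⟩ := htor (φ a₀ - a') ⟨n, by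
    rw [mul_sub, ← map_pow, ← map_mul, mul_comm, ha₀, hc1, map_pow]; ring⟩
  refine ⟨a₀ - τ', by rw [map_sub, hτ']; ring, ?_⟩
  rw [map_sub, htor0 τ' hτ'tor, sub_zero, IsLocalization.eq_mk'_iff_mul_eq, ← map_mul]
  simp only
  rw [ha₀, map_add, htor0 τ hτtor, add_zero]

theorem bl_lift
    (hq : ∀ m : ℕ, Function.Injective (Ideal.quotientMap (Ideal.map φ (Ideal.span {t} ^ m)) φ Ideal.le_comap_map))
    (htor : ∀ a' : A', (∃ m : ℕ, φ t ^ m * a' = 0) → ∃! a : A, (∃ m : ℕ, t ^ m * a = 0) ∧ φ a = a')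
    {B : Type u} [CommRing B] (ψ' : B →+* A') (ψt : B →+* Localization.Away t)
    (hcompat : (algebraMap A' (Localization.Away (φ t))).comp ψ' =
      (Localization.awayMap φ t).comp ψt) :
    ∃ ψ : B →+* A, φ.comp ψ = ψ' ∧ (algebraMap A (Localization.Away t)).comp ψ = ψt := by
  have key : ∀ b : B, ∃ a : A, φ a = ψ' b ∧ algebraMap A (Localization.Away t) a = ψt b :=
    fun b => bl_exists φ t hq htor (ψ' b) (ψt b) congr($hcompat b)
  choose ψ h1 h2 using key
  have inj := bl_inj φ t htor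
  refine ⟨{ toFun := ψ
            map_one' := inj _ _ (by rw [h1, map_one, map_one]) (by rw [h2, map_one, map_one])
            map_mul' := fun x y => inj _ _ (by rw [h1, map_mul, map_mul, h1, h1])
              (by rw [h2, map_mul, map_mul, h2, h2])
            map_zero' := inj _ _ (by rw [h1, map_zero, map_zero]) (by rw [h2, map_zero, map_zero])
            map_add' := fun x y => inj _ _ (by rw [h1, map_add, map_add, h1, h1])
              (by rw [h2, map_add, map_add, h2, h2]) }, RingHom.ext h1, RingHom.ext h2⟩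

/-- every prime of `A` lies in the image of `Spec A'` or of `Spec A_t`. -/
theorem bl_cover
    (hq : Function.Bijective (Ideal.quotientMap (Ideal.map φ (Ideal.span {t} ^ 1)) φ Ideal.le_comap_map))
    (P : PrimeSpectrum A) :
    P ∈ Set.range (PrimeSpectrum.comap φ) ∨
      P ∈ Set.range (PrimeSpectrum.comap (algebraMap A (Localization.Away t))) := by
  by_cases ht : t ∈ P.asIdeal
  · left
    have hP : P ∈ Set.range (PrimeSpectrum.comap (Ideal.Quotient.mk (Ideal.span {t} ^ 1))) := by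
      rw [range_comap_of_surjective _ _ Ideal.Quotient.mk_surjective, Ideal.mk_ker, pow_one]
      show (Ideal.span {t} : Set A) ⊆ P.asIdeal
      exact (Ideal.span_singleton_le_iff_mem _).mpr ht
    obtain ⟨Q, rfl⟩ := hP
    let e := RingEquiv.ofBijective _ hq
    have he : (e : _ →+* _).comp (Ideal.Quotient.mk (Ideal.span {t} ^ 1)) =
        (Ideal.Quotient.mk (Ideal.map φ (Ideal.span {t} ^ 1))).comp φ := by
      ext a
      simp [e]
    refine ⟨PrimeSpectrum.comap (Ideal.Quotient.mk (Ideal.map φ (Ideal.span {t} ^ 1)))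
      (PrimeSpectrum.comap (e.symm : _ →+* _) Q), ?_⟩
    rw [← PrimeSpectrum.comap_comp_apply, ← he, PrimeSpectrum.comap_comp_apply]
    congr 1
    apply PrimeSpectrum.ext
    ext x
    show e.symm (e x) ∈ Q.asIdeal ↔ x ∈ Q.asIdeal
    rw [RingEquiv.symm_apply_apply]
  · right
    rw [PrimeSpectrum.localization_away_comap_range (Localization.Away t) t]
    exact ht

end algebra

/-- Case of a quasi-affine X over U = Spec A: let φ : A → A' and t ∈ A be such that A/t^m → A'/t^m is
bijective for every m and φ restricts to a bijection between the t-power-torsion submodules; let X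
be a quasi-affine scheme over Spec A. Then sections of X over Spec A correspond bijectively to pairs
of an A'-point and an A[1/t]-point of X over A that agree over A'[1/t]. (The published statement
allows a flat A-scheme U as base and X either ind-quasi-affine or subprojective over U; this row is
U = Spec A with X quasi-affine.) -/
theorem result (A A' : Type u) [CommRing A] [CommRing A']
    (φ : A →+* A') (t : A)
    (hq : ∀ m : ℕ, Function.Bijective (Ideal.quotientMap (Ideal.map φ (Ideal.span {t} ^ m)) φ Ideal.le_comap_map))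
    (htor : ∀ a' : A', (∃ m : ℕ, φ t ^ m * a' = 0) → ∃! a : A, (∃ m : ℕ, t ^ m * a = 0) ∧ φ a = a')
    (X : Scheme.{u}) [X.IsQuasiAffine] (p : X ⟶ Spec (CommRingCat.of A)) :
    (∀ s₁ s₂ : Spec (CommRingCat.of A) ⟶ X, s₁ ≫ p = 𝟙 _ → s₂ ≫ p = 𝟙 _ →
        Spec.map (CommRingCat.ofHom φ) ≫ s₁ = Spec.map (CommRingCat.ofHom φ) ≫ s₂ →
        Spec.map (CommRingCat.ofHom (algebraMap A (Localization.Away t))) ≫ s₁ =
          Spec.map (CommRingCat.ofHom (algebraMap A (Localization.Away t))) ≫ s₂ →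
        s₁ = s₂) ∧
    (∀ (x' : Spec (CommRingCat.of A') ⟶ X) (xt : Spec (CommRingCat.of (Localization.Away t)) ⟶ X),
        x' ≫ p = Spec.map (CommRingCat.ofHom φ) →
        xt ≫ p = Spec.map (CommRingCat.ofHom (algebraMap A (Localization.Away t))) →
        Spec.map (CommRingCat.ofHom (algebraMap A' (Localization.Away (φ t)))) ≫ x' =
          Spec.map (CommRingCat.ofHom (Localization.awayMap φ t)) ≫ xt →
        ∃ s : Spec (CommRingCat.of A) ⟶ X, s ≫ p = 𝟙 _ ∧
          Spec.map (CommRingCat.ofHom φ) ≫ s = x' ∧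
          Spec.map (CommRingCat.ofHom (algebraMap A (Localization.Away t))) ≫ s = xt) := by
  have hj : IsOpenImmersion X.toSpecΓ := inferInstance
  -- general uniqueness for maps Spec A ⟶ Spec B
  have huniq : ∀ {B : CommRingCat.{u}} (ψ₁ ψ₂ : B ⟶ CommRingCat.of A),
      ψ₁ ≫ CommRingCat.ofHom φ = ψ₂ ≫ CommRingCat.ofHom φ →
      ψ₁ ≫ CommRingCat.ofHom (algebraMap A (Localization.Away t)) =
        ψ₂ ≫ CommRingCat.ofHom (algebraMap A (Localization.Away t)) → ψ₁ = ψ₂ := by
    intro B ψ₁ ψ₂ h1 h2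
    ext b
    apply bl_inj φ t htor
    · exact congr($(h1).hom b)
    · exact congr($(h2).hom b)
  constructor
  · intro s₁ s₂ _ _ h1 h2
    rw [← cancel_mono X.toSpecΓ]
    have hψ₁ : Spec.map (Spec.preimage (s₁ ≫ X.toSpecΓ)) = s₁ ≫ X.toSpecΓ := Spec.map_preimage _
    have hψ₂ : Spec.map (Spec.preimage (s₂ ≫ X.toSpecΓ)) = s₂ ≫ X.toSpecΓ := Spec.map_preimage _
    rw [← hψ₁, ← hψ₂]
    congr 1
    apply huniq
    · apply Spec.map_injective
      rw [Spec.map_comp, Spec.map_comp, hψ₁, hψ₂, ← Category.assoc, ← Category.assoc, h1]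
    · apply Spec.map_injective
      rw [Spec.map_comp, Spec.map_comp, hψ₁, hψ₂, ← Category.assoc, ← Category.assoc, h2]
  · intro x' xt hx' hxt hcompat
    let ψ' : Γ(X, ⊤) ⟶ CommRingCat.of A' := Spec.preimage (x' ≫ X.toSpecΓ)
    let ψt : Γ(X, ⊤) ⟶ CommRingCat.of (Localization.Away t) := Spec.preimage (xt ≫ X.toSpecΓ)
    have hψ' : Spec.map ψ' = x' ≫ X.toSpecΓ := Spec.map_preimage _
    have hψt : Spec.map ψt = xt ≫ X.toSpecΓ := Spec.map_preimage _
    have hc : ψ' ≫ CommRingCat.ofHom (algebraMap A' (Localization.Away (φ t))) =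
        ψt ≫ CommRingCat.ofHom (Localization.awayMap φ t) := by
      apply Spec.map_injective
      rw [Spec.map_comp, Spec.map_comp, hψ', hψt, ← Category.assoc, ← Category.assoc, hcompat]
    obtain ⟨ψ, hψ1, hψ2⟩ := bl_lift φ t (fun m => (hq m).1) htor ψ'.hom ψt.hom
      (by simpa using congr($(hc).hom))
    let F : Spec (CommRingCat.of A) ⟶ Spec Γ(X, ⊤) := Spec.map (CommRingCat.ofHom ψ)
    have hF1 : Spec.map (CommRingCat.ofHom φ) ≫ F = x' ≫ X.toSpecΓ := by
      rw [← hψ', ← Spec.map_comp]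
      congr 1
      ext b
      exact congr($hψ1 b)
    have hF2 : Spec.map (CommRingCat.ofHom (algebraMap A (Localization.Away t))) ≫ F =
        xt ≫ X.toSpecΓ := by
      rw [← hψt, ← Spec.map_comp]
      congr 1
      ext b
      exact congr($hψ2 b)
    have hrange : Set.range F.base ⊆ Set.range X.toSpecΓ.base := by
      rintro _ ⟨P, rfl⟩
      rcases bl_cover φ t (hq 1) P with ⟨P', rfl⟩ | ⟨Q, rfl⟩
      · have h1 : F.base (PrimeSpectrum.comap φ P') =
            (Spec.map (CommRingCat.ofHom φ) ≫ F).base P' := rfl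
        rw [h1, hF1]
        exact ⟨x'.base P', rfl⟩
      · have h1 : F.base (PrimeSpectrum.comap (algebraMap A (Localization.Away t)) Q) =
            (Spec.map (CommRingCat.ofHom (algebraMap A (Localization.Away t))) ≫ F).base Q := rfl
        rw [h1, hF2]
        exact ⟨xt.base Q, rfl⟩
    let s : Spec (CommRingCat.of A) ⟶ X := IsOpenImmersion.lift X.toSpecΓ F hrange
    have hs : s ≫ X.toSpecΓ = F := IsOpenImmersion.lift_fac _ _ _
    have hs1 : Spec.map (CommRingCat.ofHom φ) ≫ s = x' := by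
      rw [← cancel_mono X.toSpecΓ, Category.assoc, hs, hF1]
    have hs2 : Spec.map (CommRingCat.ofHom (algebraMap A (Localization.Away t))) ≫ s = xt := by
      rw [← cancel_mono X.toSpecΓ, Category.assoc, hs, hF2]
    refine ⟨s, ?_, hs1, hs2⟩
    have hθ : Spec.map (Spec.preimage (s ≫ p)) = s ≫ p := Spec.map_preimage _
    rw [← hθ, ← Spec.map_id]
    congr 1
    apply huniq
    · apply Spec.map_injective
      rw [Spec.map_comp, hθ, ← Category.assoc, hs1, hx', Category.id_comp]
    · apply Spec.map_injective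
      rw [Spec.map_comp, hθ, ← Category.assoc, hs2, hxt, Category.id_comp]

end Groth.Agent.S15769
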