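import Groth.Statements.S15770
import Mathlib

set_option autoImplicit false
universe u

namespace Groth.Agent.S15770

theorem result (B : Type u) [CommRing B] [TopologicalSpace B]
    [IsTopologicalRing B] (hB : IsOpen {b : B | IsUnit b})
    (M M' : Type u) [AddCommGroup M] [Module B M] [Module.Finite B M] [Module.Projective B M]
    [AddCommGroup M'] [Module B M'] [Module.Finite B M'] [Module.Projective B M']
    [TopologicalSpace (M →ₗ[B] M')] [IsModuleTopology B (M →ₗ[B] M')] :
    IsOpen {f : M →ₗ[B] M' | Function.Surjective f} := by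
  classical
  rw [isOpen_iff_forall_mem_open]
  intro f₀ hf₀
  obtain ⟨s, hs⟩ := Module.projective_lifting_property f₀ LinearMap.id hf₀
  obtain ⟨n, π', ι', -, -, hπι⟩ := Module.Finite.exists_comp_eq_id_of_projective B M'
  have hπι' : ∀ z, π' (ι' z) = z := fun z => LinearMap.congr_fun hπι z
  have hs' : ∀ z, f₀ (s z) = z := fun z => LinearMap.congr_fun hs z
  let Φ : (M →ₗ[B] M') → ((Fin n → B) →ₗ[B] (Fin n → B)) :=
    fun f => ι' ∘ₗ f ∘ₗ s ∘ₗ π' + (LinearMap.id - ι' ∘ₗ π')
  let D : (M →ₗ[B] M') → B := fun f => (LinearMap.toMatrix' (Φ f)).det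
  have hcont : Continuous D := by
    apply Continuous.matrix_det
    apply continuous_matrix
    intro i j
    let ℓ : (M →ₗ[B] M') →ₗ[B] B :=
      (LinearMap.proj i) ∘ₗ ι' ∘ₗ (LinearMap.applyₗ (s (π' (Pi.single j 1))))
    have : (fun f : M →ₗ[B] M' => LinearMap.toMatrix' (Φ f) i j)
        = fun f => ℓ f + ((Pi.single j (1 : B) : Fin n → B) - ι' (π' (Pi.single j 1))) i := by
      funext f
      simp [Φ, ℓ, LinearMap.toMatrix'_apply]
    rw [this]
    exact (IsModuleTopology.continuous_of_linearMap ℓ).add continuous_const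
  refine ⟨D ⁻¹' {b | IsUnit b}, ?_, hB.preimage hcont, ?_⟩
  · intro f hf
    have hunit : IsUnit (LinearMap.toMatrix' (Φ f)) := (Matrix.isUnit_iff_isUnit_det _).2 hf
    have hsurj : Function.Surjective (LinearMap.toMatrix' (Φ f)).mulVec :=
      Matrix.mulVec_surjective_iff_isUnit.2 hunit
    intro y
    obtain ⟨v, hv⟩ := hsurj (ι' y)
    rw [LinearMap.toMatrix'_mulVec] at hv
    refine ⟨s (π' v), ?_⟩
    have := congrArg π' hv
    simp only [Φ, LinearMap.add_apply, LinearMap.comp_apply, LinearMap.sub_apply,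
      LinearMap.id_apply, map_add, map_sub, hπι'] at this
    simpa using this
  · show IsUnit (D f₀)
    have : Φ f₀ = LinearMap.id := by
      apply LinearMap.ext
      intro v
      simp only [Φ, LinearMap.add_apply, LinearMap.comp_apply, LinearMap.sub_apply,
        LinearMap.id_apply, hs']
      abel
    simp only [D, this, LinearMap.toMatrix'_id, Matrix.det_one, isUnit_one]

end Groth.Agent.S15770
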