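import Groth.Statements.S15771
import Mathlib

set_option autoImplicit false
universe u
open TensorProduct
open CAlg

namespace Groth.Agent.S15771

theorem result (B₀ B : Type u) [CommRing B₀] [CommRing B] [Algebra B₀ B]
    [TopologicalSpace B] [IsTopologicalRing B] (hφ : DenseRange (algebraMap B₀ B))
    (M₀ : Type u) [AddCommGroup M₀] [Module B₀ M₀] [Module.Finite B₀ M₀]
    [TopologicalSpace (B ⊗[B₀] M₀)] [IsTopologicalAddGroup (B ⊗[B₀] M₀)] [ContinuousSMul B (B ⊗[B₀] M₀)] :
    DenseRange (fun m : M₀ => (1 : B) ⊗ₜ[B₀] m) := by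
  classical
  obtain ⟨n, s, hs⟩ := Module.Finite.exists_fin (R := B₀) (M := M₀)
  -- the continuous surjection B^n → M
  set g : (Fin n → B) → B ⊗[B₀] M₀ := fun b => ∑ i, b i • ((1 : B) ⊗ₜ[B₀] s i) with hg
  have hgcont : Continuous g := by
    apply continuous_finsetSum
    intro i _
    exact (continuous_apply (A := fun _ : Fin n => B) i).smul
      (continuous_const (y := (1 : B) ⊗ₜ[B₀] s i))
  have hspan : Submodule.span B (Set.range fun i => (1 : B) ⊗ₜ[B₀] s i) = ⊤ := by
    have h1 := Submodule.baseChange_span (R := B₀) (A := B) (Set.range s)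
    rw [hs, Submodule.baseChange_top] at h1
    rw [h1, ← Set.range_comp]
    rfl
  have hgsurj : Function.Surjective g := by
    intro x
    have hx : x ∈ Submodule.span B (Set.range fun i => (1 : B) ⊗ₜ[B₀] s i) := by
      rw [hspan]; trivial
    rw [Submodule.mem_span_range_iff_exists_fun] at hx
    obtain ⟨c, hc⟩ := hx
    exact ⟨c, hc⟩
  have hdense : DenseRange (g ∘ Pi.map (fun (_ : Fin n) => algebraMap B₀ B)) :=
    hgsurj.denseRange.comp (DenseRange.piMap fun _ => hφ) hgcont
  refine hdense.mono ?_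
  rintro _ ⟨c, rfl⟩
  refine ⟨∑ i, c i • s i, ?_⟩
  simp only [Function.comp_apply, hg, Pi.map_apply]
  rw [TensorProduct.tmul_sum]
  apply Finset.sum_congr rfl
  intro i _
  rw [TensorProduct.tmul_smul, algebraMap_smul]

end Groth.Agent.S15771
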