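import Groth.Statements.S15773
-- import your own Groth.Agent.* helpers here
import Groth.Agent.Lib.Helper89.HensWeier5

set_option autoImplicit false
universe u
open Polynomial
open CAlg

namespace Groth.Agent.S15773

/-- For a Henselian local ring (R, m), a henselization B of R[t] along (t), L = B[1/t] and the R-algebra
map ψ : R[s] → L sending s to t⁻¹, extension and contraction along ψ are mutually inverse bijections
between the ideals of R[s] comaximal with mR[s] and the ideals of L comaximal with mL, and R[s]/I →
L/IL is bijective for every such I. (The published statement is phrased with closed subschemes of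
Spec R[t⁻¹] and of Spec L not meeting the residue fibre, matched by base change and schematic image,
and treats the localisation (R[t]_{1+tR[t]})[1/t] alongside R{t}[1/t]; this row states it with
ideals and includes the bijection of the corresponding quotient rings.) -/
theorem result (R : Type u) [CommRing R]
    [HenselianLocalRing R] (B : Type u) [CommRing B] [Algebra R B] [Algebra R[X] B] [IsScalarTower R R[X] B]
    (hB : Hens2.IsPairHenselization R[X] (Ideal.span {(X : R[X])}) B)
    (ψ : R[X] →ₐ[R] Localization.Away (algebraMap R[X] B X))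
    (hψ : ψ X * algebraMap B (Localization.Away (algebraMap R[X] B X)) (algebraMap R[X] B X) = 1) :
    (∀ I : Ideal R[X], I ⊔ (IsLocalRing.maximalIdeal R).map (algebraMap R R[X]) = ⊤ →
        (I.map ψ.toRingHom).comap ψ.toRingHom = I ∧
        I.map ψ.toRingHom ⊔ (IsLocalRing.maximalIdeal R).map
          (algebraMap R (Localization.Away (algebraMap R[X] B X))) = ⊤ ∧
        Function.Bijective (Ideal.quotientMap (I.map ψ.toRingHom) ψ.toRingHom Ideal.le_comap_map)) ∧
    (∀ J : Ideal (Localization.Away (algebraMap R[X] B X)),
        J ⊔ (IsLocalRing.maximalIdeal R).map (algebraMap R (Localization.Away (algebraMap R[X] B X))) = ⊤ →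
        (J.comap ψ.toRingHom).map ψ.toRingHom = J ∧
        J.comap ψ.toRingHom ⊔ (IsLocalRing.maximalIdeal R).map (algebraMap R R[X]) = ⊤) := by
  have hψ' : ψ X * algebraMap R[X] (Localization.Away (algebraMap R[X] B X)) X = 1 := by
    rw [IsScalarTower.algebraMap_apply R[X] B (Localization.Away (algebraMap R[X] B X))]
    exact hψ
  refine ⟨fun I hI => ?_, fun J hJ => Groth.Agent.Lib.Helper89.HensWeier.partB hB ψ hψ' J hJ⟩
  obtain ⟨hsurj, hinj⟩ := Groth.Agent.Lib.Helper89.HensWeier.partA hB ψ hψ' I hI
  refine ⟨?_, ?_, ?_, ?_⟩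
  · exact le_antisymm (fun p hp => hinj p hp) Ideal.le_comap_map
  · rw [Ideal.eq_top_iff_one]
    have h1 : (1 : R[X]) ∈ I ⊔ (IsLocalRing.maximalIdeal R).map (algebraMap R R[X]) := by
      rw [hI]; trivial
    have h2 := Ideal.mem_map_of_mem ψ.toRingHom h1
    rw [Ideal.map_sup, Ideal.map_map, map_one] at h2
    have h3 : ψ.toRingHom.comp (algebraMap R R[X]) =
        algebraMap R (Localization.Away (algebraMap R[X] B X)) := by
      ext r; exact ψ.commutes r
    rw [h3] at h2
    exact h2
  · rw [injective_iff_map_eq_zero]
    intro x hx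
    obtain ⟨p, rfl⟩ := Ideal.Quotient.mk_surjective x
    rw [Ideal.quotientMap_mk, Ideal.Quotient.eq_zero_iff_mem] at hx
    exact Ideal.Quotient.eq_zero_iff_mem.mpr (hinj p hx)
  · intro y
    obtain ⟨ℓ, rfl⟩ := Ideal.Quotient.mk_surjective y
    obtain ⟨p, hp⟩ := hsurj ℓ
    refine ⟨Ideal.Quotient.mk I p, ?_⟩
    rw [Ideal.quotientMap_mk]
    exact (Ideal.Quotient.eq.mpr hp).symm

end Groth.Agent.S15773
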