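import Groth.Statements.S15784
import Mathlib.Tactic.FieldSimp
import Mathlib.Tactic.Ring
import Mathlib.Tactic.LinearCombination

set_option autoImplicit false
universe u
open Neron

namespace Groth.Agent.S15784

/-- In a local ring, `1 + x` is a unit for `x` in the maximal ideal. -/
theorem isUnit_one_add {O : Type u} [CommRing O] [IsLocalRing O] {x : O}
    (hx : x ∈ IsLocalRing.maximalIdeal O) : IsUnit (1 + x) := by
  by_contra h
  have h1 : 1 + x ∈ IsLocalRing.maximalIdeal O := (IsLocalRing.mem_maximalIdeal _).mpr h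
  have h2 : (1 : O) ∈ IsLocalRing.maximalIdeal O := by
    have := (IsLocalRing.maximalIdeal O).sub_mem h1 hx
    simpa using this
  exact (IsLocalRing.maximalIdeal O).ne_top_iff_one.mp (IsLocalRing.maximalIdeal.isMaximal O).ne_top h2

/-- A unit times an integer power of a uniformizer is a unit only for the zeroth power. -/
theorem zpow_eq_zero_of_unit {O : Type u} [CommRing O] [IsDomain O]
    (L : Type u) [Field L] [Algebra O L] [IsFractionRing O L]
    (ϖ' : O) (hϖ' : Irreducible ϖ') (v v' : Oˣ) (k : ℤ)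
    (h : algebraMap O L v * algebraMap O L ϖ' ^ k = algebraMap O L v') : k = 0 := by
  have hinj : Function.Injective (algebraMap O L) := IsFractionRing.injective O L
  have hP : algebraMap O L ϖ' ≠ 0 := by
    intro h0
    exact hϖ'.ne_zero (hinj (by rw [h0, map_zero]))
  have key : ∀ (a b : Oˣ) (N : ℕ), (a : O) * ϖ' ^ N = b → N = 0 := by
    intro a b N hab
    by_contra hN
    obtain ⟨N', rfl⟩ := Nat.exists_eq_succ_of_ne_zero hN
    have : IsUnit ϖ' := by
      have hb : IsUnit ((a : O) * ϖ' ^ (N' + 1)) := hab ▸ b.isUnit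
      have := (IsUnit.mul_iff.mp hb).2
      exact (isUnit_pow_iff (Nat.succ_ne_zero N')).mp this
    exact hϖ'.not_isUnit this
  rcases Int.eq_nat_or_neg k with ⟨N, rfl | rfl⟩
  · rw [zpow_natCast, ← map_pow, ← map_mul] at h
    have := key v v' N (hinj h)
    simp [this]
  · rw [zpow_neg, zpow_natCast, ← map_pow] at h
    have h' : algebraMap O L ((v' : O) * ϖ' ^ N) = algebraMap O L v := by
      rw [map_mul, ← h]
      have : algebraMap O L (ϖ' ^ N) ≠ 0 := by rw [map_pow]; exact pow_ne_zero _ hP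
      field_simp
    have := key v' v N (hinj h')
    simp [this]

theorem result
    (O : Type u) [CommRing O] [IsDomain O] [IsDiscreteValuationRing O]
    (L : Type u) [Field L] [Algebra O L] [IsFractionRing O L]
    (ϖ' : O) (hϖ' : Irreducible ϖ') (ϖ : O) (hϖ : ϖ ∈ IsLocalRing.maximalIdeal O)
    (n : ℕ) (hn : 1 ≤ n) (u : Oˣ) (q : O) (hq : q = u * ϖ' ^ n)
    (m : ℕ) (hm : 1 ≤ m) (hmn : m ∣ n) :
    (∃ (w : Oˣ) (a j t : ℤ) (r : O), a = (n / m : ℕ) + t * n ∧
        (algebraMap O L w * algebraMap O L ϖ' ^ a) ^ m * algebraMap O L q ^ j = algebraMap O L (1 + ϖ * r)) ↔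
      ∃ y r : O, (u : O) * (y ^ m + ϖ * r) = 1 := by
  have hinj : Function.Injective (algebraMap O L) := IsFractionRing.injective O L
  have hP : algebraMap O L ϖ' ≠ 0 := by
    intro h0
    exact hϖ'.ne_zero (hinj (by rw [h0, map_zero]))
  have hKu : ∀ x : Oˣ, algebraMap O L x ≠ 0 := by
    intro x h0
    exact x.ne_zero (hinj (by rw [h0, map_zero]))
  obtain ⟨d, hd⟩ := hmn
  have hdiv : n / m = d := by rw [hd]; exact Nat.mul_div_cancel_left d (by omega)
  constructor
  · rintro ⟨w, a, j, t, r, ha, heq⟩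
    -- the unit 1 + ϖ r
    obtain ⟨e, he⟩ := isUnit_one_add (x := ϖ * r) ((IsLocalRing.maximalIdeal O).mul_mem_right r hϖ)
    -- rewrite the left-hand side
    have hzu : ∀ (x : Oˣ) (i : ℤ), algebraMap O L ((x ^ i : Oˣ) : O) = algebraMap O L x ^ i := by
      intro x i
      have h1 : Units.map (algebraMap O L : O →* L) (x ^ i) =
          (Units.map (algebraMap O L : O →* L) x) ^ i := map_zpow _ x i
      have h2 := congrArg Units.val h1
      rw [Units.val_zpow_eq_zpow_val] at h2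
      exact h2
    have hlhs : (algebraMap O L w * algebraMap O L ϖ' ^ a) ^ m * algebraMap O L q ^ j =
        algebraMap O L ((w ^ m * u ^ j : Oˣ) : O) * algebraMap O L ϖ' ^ (a * m + n * j) := by
      have hr : algebraMap O L ((w ^ m * u ^ j : Oˣ) : O) =
          algebraMap O L w ^ m * algebraMap O L u ^ j := by
        rw [Units.val_mul, map_mul, Units.val_pow_eq_pow_val, map_pow, hzu]
      rw [hr, hq, map_mul, map_pow, mul_pow, mul_zpow, ← zpow_natCast (algebraMap O L ϖ' ^ a) m,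
        ← zpow_mul, ← zpow_natCast (algebraMap O L ϖ') n, ← zpow_mul, zpow_add₀ hP]
      ring
    rw [hlhs, ← he] at heq
    have hk := zpow_eq_zero_of_unit L ϖ' hϖ' _ _ _ heq
    rw [hk, zpow_zero, mul_one] at heq
    have hve : w ^ m * u ^ j = e := Units.ext (hinj heq)
    -- solve for j
    have hj : j = -1 - t * m := by
      rw [ha, hdiv, hd] at hk
      push_cast at hk
      have hmpos : (m : ℤ) ≠ 0 := by exact_mod_cast (by omega : m ≠ 0)
      have hdpos : (d : ℤ) ≠ 0 := by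
        intro h0
        have : d = 0 := by exact_mod_cast h0
        rw [this, mul_zero] at hd
        omega
      have : (m : ℤ) * d * (1 + t * m + j) = 0 := by linear_combination hk
      rcases mul_eq_zero.mp this with h1 | h1
      · exact absurd h1 (mul_ne_zero hmpos hdpos)
      · linarith
    -- the element y
    have hy : (w⁻¹ * u ^ t) ^ m = u⁻¹ * e⁻¹ := by
      rw [← hve, mul_pow, inv_pow, ← zpow_natCast (u ^ t), ← zpow_mul, mul_inv,
        ← zpow_neg u j, ← zpow_neg_one u, mul_left_comm, ← zpow_add]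
      congr 2
      rw [hj]; ring
    refine ⟨((w⁻¹ * u ^ t : Oˣ) : O), ((u⁻¹ * e⁻¹ : Oˣ) : O) * r, ?_⟩
    rw [← Units.val_pow_eq_pow_val, hy]
    have h1 : ((u⁻¹ * e⁻¹ : Oˣ) : O) + ϖ * (((u⁻¹ * e⁻¹ : Oˣ) : O) * r)
        = ((u⁻¹ * e⁻¹ : Oˣ) : O) * (e : O) := by
      rw [he]; ring
    rw [h1, ← Units.val_mul, ← Units.val_mul]
    simp
  · rintro ⟨y, r, hyr⟩
    -- y ^ m + ϖ r is a unit, hence so is y
    have hsum : IsUnit (y ^ m + ϖ * r) := IsUnit.of_mul_eq_one_right _ hyr
    have hym : IsUnit (y ^ m) := by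
      by_contra h
      have h1 : y ^ m ∈ IsLocalRing.maximalIdeal O := (IsLocalRing.mem_maximalIdeal _).mpr h
      have h2 : y ^ m + ϖ * r ∈ IsLocalRing.maximalIdeal O :=
        (IsLocalRing.maximalIdeal O).add_mem h1 ((IsLocalRing.maximalIdeal O).mul_mem_right r hϖ)
      exact ((IsLocalRing.mem_maximalIdeal _).mp h2) hsum
    have hyu : IsUnit y := (isUnit_pow_iff (by omega : m ≠ 0)).mp hym
    obtain ⟨yu, rfl⟩ := hyu
    -- g = u y^m = 1 - u ϖ r
    have hg : ((u * yu ^ m : Oˣ) : O) = 1 - u * ϖ * r := by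
      rw [Units.val_mul, Units.val_pow_eq_pow_val]
      linear_combination hyr
    refine ⟨yu⁻¹, ((n / m : ℕ) : ℤ), -1, 0, (u : O) * r * ((u * yu ^ m : Oˣ)⁻¹ : Oˣ), by simp, ?_⟩
    have hrhs : (1 : O) + ϖ * ((u : O) * r * ((u * yu ^ m : Oˣ)⁻¹ : Oˣ)) =
        ((u * yu ^ m : Oˣ)⁻¹ : Oˣ) := by
      have h1 : ((u * yu ^ m : Oˣ) : O) * (1 + ϖ * ((u : O) * r * ((u * yu ^ m : Oˣ)⁻¹ : Oˣ))) = 1 := by
        have h2 : ((u * yu ^ m : Oˣ) : O) * (((u * yu ^ m : Oˣ)⁻¹ : Oˣ) : O) = 1 := by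
          rw [← Units.val_mul, mul_inv_cancel, Units.val_one]
        have h3 : ((u * yu ^ m : Oˣ) : O) * (1 + ϖ * ((u : O) * r * ((u * yu ^ m : Oˣ)⁻¹ : Oˣ)))
            = ((u * yu ^ m : Oˣ) : O) + ϖ * u * r *
              (((u * yu ^ m : Oˣ) : O) * (((u * yu ^ m : Oˣ)⁻¹ : Oˣ) : O)) := by ring
        rw [h3, h2, hg]; ring
      have h4 := (Units.eq_inv_of_mul_eq_one_left h1)
      rw [h4]
    rw [hrhs, hq, hdiv]
    have hprod : algebraMap O L ((u * yu ^ m : Oˣ) : O) *
        algebraMap O L (((u * yu ^ m : Oˣ)⁻¹ : Oˣ) : O) = 1 := by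
      rw [← map_mul, ← Units.val_mul, mul_inv_cancel, Units.val_one, map_one]
    have hyinv : algebraMap O L ((yu⁻¹ : Oˣ) : O) * algebraMap O L (yu : O) = 1 := by
      rw [← map_mul, ← Units.val_mul, inv_mul_cancel, Units.val_one, map_one]
    rw [Units.val_mul, Units.val_pow_eq_pow_val, map_mul, map_pow] at hprod
    rw [zpow_natCast, zpow_neg_one, map_mul, map_pow, mul_pow, ← pow_mul, mul_comm d m, ← hd]
    have hPn : algebraMap O L ϖ' ^ n ≠ 0 := pow_ne_zero _ hP
    have hu0 := hKu u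
    have hy0 := hKu yu
    -- both sides are inverse to K u * K yu ^ m
    have hA : algebraMap O L ((yu⁻¹ : Oˣ) : O) ^ m * algebraMap O L (yu : O) ^ m = 1 := by
      rw [← mul_pow, hyinv, one_pow]
    have hB : (algebraMap O L u * algebraMap O L (yu : O) ^ m) ≠ 0 :=
      mul_ne_zero hu0 (pow_ne_zero _ hy0)
    apply mul_left_cancel₀ hB
    rw [hprod]
    field_simp
    linear_combination hA
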