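import Groth.Statements.S15789
import Mathlib
import Groth.Agent.Lib.Helper99.ASFamily
-- import your own Groth.Agent.* helpers here

set_option autoImplicit false
universe u
open WildQuot

namespace Groth.Agent.S15789

set_option linter.style.haveILetI false
set_option linter.unusedSectionVars false

open MvPolynomial Groth.Agent.Lib.Helper99.ASFamily Groth.Agent.Lib.Helper61

section Abstract

variable {A : Type*} [CommRing A] (p : ℕ) [hp : Fact p.Prime] [CharP A p]

theorem abs_natCast_pow (c : ℕ) : ((c : A)) ^ p = c := by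
  induction c with
  | zero => simp [hp.out.ne_zero]
  | succ c ih => rw [Nat.cast_succ, add_pow_char, ih, one_pow]

theorem abs_pow_pred (α : A) : α ^ p = α ^ (p - 1) * α := by
  rw [← pow_succ, Nat.sub_add_cancel hp.out.one_le]

theorem abs_tv_rel (u α x : A) (c : ℕ) (hrel : u ^ p = α ^ (p - 1) * u + x) :
    (u + (c : A) * α) ^ p - α ^ (p - 1) * (u + (c : A) * α) - x = 0 := by
  rw [add_pow_char, mul_pow, abs_natCast_pow, hrel, abs_pow_pred p α]
  ring

theorem abs_diff (u v β x : A) (hu : u ^ p = β * u + x) (hv : v ^ p = β * v + x) :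
    (v - u) ^ p = β * (v - u) := by
  rw [sub_pow_char, hu, hv]
  ring

theorem abs_cast_cancel (c : ℕ) : ((c + (p - 1) * c : ℕ) : A) = 0 := by
  rw [Nat.cast_add, Nat.cast_mul, Nat.cast_pred hp.out.pos, CharP.cast_eq_zero A p]
  ring

theorem abs_roots_classify [IsDomain A] (α w : A) (hα : α ≠ 0) (hw : w ^ p = α ^ (p - 1) * w) :
    ∃ c : Fin p, w = ((c : ℕ) : A) * α := by
  classical
  obtain ⟨G, hG⟩ : ∃ G : Polynomial A, G = asPoly p (fun _ : Unit => α ^ (p - 1))
    (fun _ => 0) () := ⟨_, rfl⟩
  have hGm : G.Monic := by rw [hG]; exact asPoly_monic p _ _ hp.out.two_le ()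
  have hGd : G.natDegree = p := by rw [hG]; exact asPoly_natDegree p _ _ hp.out.two_le ()
  have hGev : ∀ x : A, G.eval x = x ^ p - α ^ (p - 1) * x := by
    intro x
    rw [hG]
    simp [asPoly]
  have hinj : Function.Injective (fun c : Fin p => ((c : ℕ) : A) * α) := by
    intro c d h
    have h1 : ((c : ℕ) : A) = ((d : ℕ) : A) := mul_right_cancel₀ hα h
    have h2 := (CharP.natCast_eq_natCast A p).1 h1
    exact Fin.ext (Nat.ModEq.eq_of_lt_of_lt h2 c.2 d.2)
  have hScard : (Finset.univ.image (fun c : Fin p => ((c : ℕ) : A) * α)).card = p := by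
    rw [Finset.card_image_of_injective _ hinj, Finset.card_univ, Fintype.card_fin]
  have hSsub : Finset.univ.image (fun c : Fin p => ((c : ℕ) : A) * α) ⊆ G.roots.toFinset := by
    intro x hx
    obtain ⟨c, -, rfl⟩ := Finset.mem_image.mp hx
    rw [Multiset.mem_toFinset, Polynomial.mem_roots hGm.ne_zero, Polynomial.IsRoot.def, hGev,
      mul_pow, abs_natCast_pow, abs_pow_pred p α]
    ring
  have h1 : G.roots.toFinset.card ≤ Multiset.card G.roots := Multiset.toFinset_card_le _
  have h2 : Multiset.card G.roots ≤ G.natDegree := Polynomial.card_roots' G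
  have hcard : G.roots.toFinset.card ≤ p := by omega
  have hSeq := Finset.eq_of_subset_of_card_le hSsub (hcard.trans hScard.ge)
  have hwmem : w ∈ G.roots.toFinset := by
    rw [Multiset.mem_toFinset, Polynomial.mem_roots hGm.ne_zero, Polynomial.IsRoot.def, hGev, hw,
      sub_self]
  rw [← hSeq] at hwmem
  obtain ⟨c, -, hc⟩ := Finset.mem_image.mp hwmem
  exact ⟨c, hc.symm⟩

theorem abs_expand {A : Type*} [CommRing A] (u α rest : A) (d q : ℕ) (hd : d < q) :
    (u + α) ^ d * rest =
      ∑ l : Fin q, ((d.choose (l : ℕ) : ℕ) : A) * α ^ (d - (l : ℕ)) * (u ^ (l : ℕ) * rest) := by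
  rw [add_pow, Finset.sum_mul,
    Fin.sum_univ_eq_sum_range
      (fun l => ((d.choose l : ℕ) : A) * α ^ (d - l) * (u ^ l * rest)) q]
  rw [← Finset.sum_subset (Finset.range_mono (Nat.succ_le_of_lt hd))]
  · refine Finset.sum_congr rfl fun l _ => ?_
    ring
  · intro l _ hl
    have hlt : d < l := by
      simp only [Finset.mem_range, not_lt] at hl
      omega
    rw [Nat.choose_eq_zero_of_lt hlt, Nat.cast_zero, zero_mul, zero_mul]

end Abstract

section Aux

variable (p : ℕ) [hp : Fact p.Prime] {k : Type u} [Field k] [CharP k p] {n : ℕ}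
  (a : Fin n → MvPowerSeries (Fin n) k)

instance charP_R : CharP (MvPowerSeries (Fin n) k) p :=
  charP_of_injective_algebraMap (algebraMap k (MvPowerSeries (Fin n) k)).injective p

instance charP_A : CharP (AS p a) p :=
  charP_of_injective_algebraMap (algebraMap_injective p a) p

/-- the translated variables -/
noncomputable def tv (c : Fin n → ℕ) (i : Fin n) : AS p a :=
  uu p a i + (c i : AS p a) * algebraMap (MvPowerSeries (Fin n) k) (AS p a) (a i)

theorem rel' (i : Fin n) : uu p a i ^ p =
    algebraMap (MvPowerSeries (Fin n) k) (AS p a) (a i) ^ (p - 1) * uu p a i +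
      algebraMap (MvPowerSeries (Fin n) k) (AS p a) (MvPowerSeries.X i) := by
  rw [rel p a i, map_pow]

theorem tv_rel (c : Fin n → ℕ) (i : Fin n) :
    tv p a c i ^ p - algebraMap (MvPowerSeries (Fin n) k) (AS p a) (a i) ^ (p - 1) * tv p a c i -
      algebraMap (MvPowerSeries (Fin n) k) (AS p a) (MvPowerSeries.X i) = 0 :=
  abs_tv_rel p (uu p a i) (algebraMap (MvPowerSeries (Fin n) k) (AS p a) (a i))
    (algebraMap (MvPowerSeries (Fin n) k) (AS p a) (MvPowerSeries.X i)) (c i) (rel' p a i)

/-- the translation homomorphisms -/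
noncomputable def tau (c : Fin n → ℕ) : AS p a →ₐ[MvPowerSeries (Fin n) k] AS p a :=
  Ideal.Quotient.liftₐ (asI p a) (aeval (R := MvPowerSeries (Fin n) k) (tv p a c)) (by
    have hle : asI p a ≤ RingHom.ker (aeval (R := MvPowerSeries (Fin n) k) (tv p a c)) := by
      rw [Ideal.span_le]
      rintro _ ⟨i, rfl⟩
      rw [SetLike.mem_coe, RingHom.mem_ker]
      simp only [map_sub, map_mul, map_pow, aeval_X, aeval_C]
      exact tv_rel p a c i
    intro x hx
    exact RingHom.mem_ker.mp (hle hx))

theorem tau_uu (c : Fin n → ℕ) (i : Fin n) : tau p a c (uu p a i) = tv p a c i := by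
  show aeval (R := MvPowerSeries (Fin n) k) (tv p a c) (X i) = _
  exact aeval_X _ _

theorem algHom_ext_u {φ ψ : AS p a →ₐ[MvPowerSeries (Fin n) k] AS p a}
    (h : ∀ i, φ (uu p a i) = ψ (uu p a i)) : φ = ψ := by
  apply Ideal.Quotient.algHom_ext
  apply MvPolynomial.algHom_ext
  intro i
  exact h i

theorem tau_comp (c d : Fin n → ℕ) : (tau p a c).comp (tau p a d) = tau p a (c + d) := by
  apply algHom_ext_u
  intro i
  show tau p a c (tau p a d (uu p a i)) = tau p a (c + d) (uu p a i)
  rw [tau_uu, tau_uu]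
  unfold tv
  rw [map_add, map_mul, map_natCast, tau_uu, AlgHom.commutes]
  unfold tv
  rw [Pi.add_apply, Nat.cast_add]
  ring

theorem tau_eq_id (c : Fin n → ℕ) (h : ∀ i, (c i : AS p a) = 0) :
    tau p a c = AlgHom.id (MvPowerSeries (Fin n) k) (AS p a) := by
  apply algHom_ext_u
  intro i
  rw [tau_uu]
  unfold tv
  rw [h i, zero_mul, add_zero]
  rfl

theorem cast_cancel (c : ℕ) : ((c + (p - 1) * c : ℕ) : AS p a) = 0 :=
  abs_cast_cancel (A := AS p a) p c

/-- the translation automorphisms -/
noncomputable def Psi (c : Fin n → ℕ) : AS p a ≃ₐ[MvPowerSeries (Fin n) k] AS p a :=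
  AlgEquiv.ofAlgHom (tau p a c) (tau p a (fun i => (p - 1) * c i))
    (by
      rw [tau_comp]
      apply tau_eq_id
      intro i
      exact cast_cancel p a (c i))
    (by
      rw [tau_comp]
      apply tau_eq_id
      intro i
      rw [Pi.add_apply, add_comm]
      exact cast_cancel p a (c i))

theorem Psi_uu (c : Fin n → ℕ) (i : Fin n) : Psi p a c (uu p a i) =
    uu p a i + (c i : AS p a) * algebraMap (MvPowerSeries (Fin n) k) (AS p a) (a i) :=
  tau_uu p a c i

variable (ham : ∀ i, MvPowerSeries.constantCoeff (a i) = 0)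

include ham in
theorem exists_translate (i : Fin n) (ha0 : a i ≠ 0)
    (φ : AS p a →ₐ[MvPowerSeries (Fin n) k] AS p a) :
    ∃ c : Fin p, φ (uu p a i) =
      uu p a i + ((c : ℕ) : AS p a) * algebraMap (MvPowerSeries (Fin n) k) (AS p a) (a i) := by
  haveI := isDomain_AS p a ham
  have hα0 : algebraMap (MvPowerSeries (Fin n) k) (AS p a) (a i) ≠ 0 := fun h =>
    ha0 (algebraMap_injective p a (h.trans (map_zero _).symm))
  have hφ : φ (uu p a i) ^ p =
      algebraMap (MvPowerSeries (Fin n) k) (AS p a) (a i) ^ (p - 1) * φ (uu p a i) +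
        algebraMap (MvPowerSeries (Fin n) k) (AS p a) (MvPowerSeries.X i) := by
    rw [← map_pow, rel' p a i, map_add, map_mul, AlgHom.commutes, map_pow, AlgHom.commutes]
  have hw := abs_diff p (uu p a i) (φ (uu p a i)) _ _ (rel' p a i) hφ
  obtain ⟨c, hc⟩ := abs_roots_classify p _ _ hα0 hw
  refine ⟨c, ?_⟩
  rw [← hc]
  ring

variable (ha0 : ∀ i, a i ≠ 0)

include ham ha0 in
theorem exists_c (σ : AS p a ≃ₐ[MvPowerSeries (Fin n) k] AS p a) :
    ∃ c : Fin n → Fin p, ∀ i, σ (uu p a i) =
      uu p a i + ((c i : ℕ) : AS p a) * algebraMap (MvPowerSeries (Fin n) k) (AS p a) (a i) := by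
  have h := fun i => exists_translate p a ham i (ha0 i)
    (σ : AS p a →ₐ[MvPowerSeries (Fin n) k] AS p a)
  choose c hc using h
  exact ⟨c, hc⟩

include ham ha0 in
theorem card_aut : Nat.card (AS p a ≃ₐ[MvPowerSeries (Fin n) k] AS p a) = p ^ n := by
  haveI := isDomain_AS p a ham
  let F : (Fin n → Fin p) → (AS p a ≃ₐ[MvPowerSeries (Fin n) k] AS p a) :=
    fun c => Psi p a (fun i => (c i : ℕ))
  have hF : Function.Bijective F := by
    constructor
    · intro c d h
      funext i
      have h1 : F c (uu p a i) = F d (uu p a i) := by rw [h]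
      have h2 : ((c i : ℕ) : AS p a) * algebraMap (MvPowerSeries (Fin n) k) (AS p a) (a i) =
          ((d i : ℕ) : AS p a) * algebraMap (MvPowerSeries (Fin n) k) (AS p a) (a i) := by
        have h3 : uu p a i + ((c i : ℕ) : AS p a) *
            algebraMap (MvPowerSeries (Fin n) k) (AS p a) (a i) =
            uu p a i + ((d i : ℕ) : AS p a) *
              algebraMap (MvPowerSeries (Fin n) k) (AS p a) (a i) := by
          rw [← Psi_uu p a (fun i => (c i : ℕ)) i, ← Psi_uu p a (fun i => (d i : ℕ)) i]
          exact h1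
        exact add_left_cancel h3
      have hα0 : algebraMap (MvPowerSeries (Fin n) k) (AS p a) (a i) ≠ 0 := fun h =>
        ha0 i (algebraMap_injective p a (h.trans (map_zero _).symm))
      have h4 := (CharP.natCast_eq_natCast (AS p a) p).1 (mul_right_cancel₀ hα0 h2)
      exact Fin.ext (Nat.ModEq.eq_of_lt_of_lt h4 (c i).2 (d i).2)
    · intro σ
      obtain ⟨c, hc⟩ := exists_c p a ham ha0 σ
      refine ⟨c, ?_⟩
      have h1 : (F c : AS p a →ₐ[MvPowerSeries (Fin n) k] AS p a) =
          (σ : AS p a →ₐ[MvPowerSeries (Fin n) k] AS p a) :=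
        algHom_ext_u p a (fun i => by
          show F c (uu p a i) = σ (uu p a i)
          rw [hc i]
          exact Psi_uu p a _ i)
      exact AlgEquiv.ext fun x => DFunLike.congr_fun h1 x
  rw [← Nat.card_congr (Equiv.ofBijective F hF)]
  simp

include ham ha0 in
theorem comm_aut (σ τ : AS p a ≃ₐ[MvPowerSeries (Fin n) k] AS p a) : σ * τ = τ * σ := by
  obtain ⟨c, hc⟩ := exists_c p a ham ha0 σ
  obtain ⟨d, hd⟩ := exists_c p a ham ha0 τ
  have h1 : ((σ * τ : AS p a ≃ₐ[MvPowerSeries (Fin n) k] AS p a) :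
      AS p a →ₐ[MvPowerSeries (Fin n) k] AS p a) =
      ((τ * σ : AS p a ≃ₐ[MvPowerSeries (Fin n) k] AS p a) :
        AS p a →ₐ[MvPowerSeries (Fin n) k] AS p a) :=
    algHom_ext_u p a (fun i => by
      show σ (τ (uu p a i)) = τ (σ (uu p a i))
      rw [hd i, hc i, map_add, map_add, map_mul, map_mul, map_natCast, map_natCast,
        AlgEquiv.commutes, AlgEquiv.commutes, hc i, hd i]
      ring)
  exact AlgEquiv.ext fun x => DFunLike.congr_fun h1 x

include ham ha0 in
theorem pow_aut (σ : AS p a ≃ₐ[MvPowerSeries (Fin n) k] AS p a) : σ ^ p = 1 := by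
  obtain ⟨c, hc⟩ := exists_c p a ham ha0 σ
  have hpow : ∀ j : ℕ, ∀ i, (σ ^ j) (uu p a i) = uu p a i +
      ((j * (c i : ℕ) : ℕ) : AS p a) * algebraMap (MvPowerSeries (Fin n) k) (AS p a) (a i) := by
    intro j
    induction j with
    | zero => intro i; simp
    | succ j ih =>
      intro i
      rw [pow_succ, AlgEquiv.mul_apply, hc i, map_add, map_mul, map_natCast, AlgEquiv.commutes,
        ih i]
      push_cast
      ring
  have h1 : ((σ ^ p : AS p a ≃ₐ[MvPowerSeries (Fin n) k] AS p a) :
      AS p a →ₐ[MvPowerSeries (Fin n) k] AS p a) =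
      ((1 : AS p a ≃ₐ[MvPowerSeries (Fin n) k] AS p a) :
        AS p a →ₐ[MvPowerSeries (Fin n) k] AS p a) :=
    algHom_ext_u p a (fun i => by
      show (σ ^ p) (uu p a i) = uu p a i
      have h0 : ((p * (c i : ℕ) : ℕ) : AS p a) = 0 := by
        rw [Nat.cast_mul, CharP.cast_eq_zero (AS p a) p, zero_mul]
      rw [hpow p i, h0, zero_mul, add_zero])
  exact AlgEquiv.ext fun x => DFunLike.congr_fun h1 x

/-- the monomial in the variables other than `i` -/
noncomputable def rest (i : Fin n) (m : Fin n → Fin p) : AS p a :=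
  ∏ j ∈ Finset.univ.erase i, uu p a j ^ ((m j : Fin p) : ℕ)

theorem basis_eq_rest (i : Fin n) (m : Fin n → Fin p) :
    psBasis p a m = uu p a i ^ ((m i : Fin p) : ℕ) * rest p a i m := by
  unfold rest
  rw [psBasis_apply,
    Finset.mul_prod_erase Finset.univ (fun j => uu p a j ^ ((m j : Fin p) : ℕ)) (Finset.mem_univ i)]

theorem rest_update (i : Fin n) (m : Fin n → Fin p) (l : Fin p) :
    rest p a i (Function.update m i l) = rest p a i m := by
  unfold rest
  refine Finset.prod_congr rfl fun j hj => ?_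
  rw [Function.update_of_ne (Finset.ne_of_mem_erase hj)]

theorem sigma_rest (σ : AS p a ≃ₐ[MvPowerSeries (Fin n) k] AS p a) (i : Fin n)
    (h2 : ∀ j, j ≠ i → σ (uu p a j) = uu p a j) (m : Fin n → Fin p) :
    σ (rest p a i m) = rest p a i m := by
  unfold rest
  rw [map_prod]
  refine Finset.prod_congr rfl fun j hj => ?_
  rw [map_pow, h2 j (Finset.ne_of_mem_erase hj)]

/-- the binomial coefficients of the translation -/
noncomputable def cf (i : Fin n) (d l : ℕ) : MvPowerSeries (Fin n) k :=
  ((d.choose l : ℕ) : MvPowerSeries (Fin n) k) * a i ^ (d - l)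

theorem sigma_basis (σ : AS p a ≃ₐ[MvPowerSeries (Fin n) k] AS p a) (i : Fin n)
    (h1 : σ (uu p a i) = uu p a i + algebraMap (MvPowerSeries (Fin n) k) (AS p a) (a i))
    (h2 : ∀ j, j ≠ i → σ (uu p a j) = uu p a j) (m : Fin n → Fin p) :
    σ (psBasis p a m) = ∑ l : Fin p,
      algebraMap (MvPowerSeries (Fin n) k) (AS p a) (cf a i ((m i : Fin p) : ℕ) (l : ℕ)) *
        psBasis p a (Function.update m i l) := by
  rw [basis_eq_rest p a i m, map_mul, map_pow, h1, sigma_rest p a σ i h2 m,
    abs_expand (uu p a i) (algebraMap (MvPowerSeries (Fin n) k) (AS p a) (a i)) (rest p a i m)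
      ((m i : Fin p) : ℕ) p (m i).2]
  refine Finset.sum_congr rfl fun l _ => ?_
  rw [basis_eq_rest p a i (Function.update m i l), Function.update_self, rest_update]
  unfold cf
  rw [map_mul, map_natCast, map_pow]

theorem repr_algebraMap_mul (r : MvPowerSeries (Fin n) k) (x y : Fin n → Fin p) :
    (psBasis p a).repr (algebraMap (MvPowerSeries (Fin n) k) (AS p a) r * psBasis p a x) y =
      if x = y then r else 0 := by
  rw [← Algebra.smul_def, map_smul, Finsupp.smul_apply, Module.Basis.repr_self,
    Finsupp.single_apply, smul_eq_mul]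
  split_ifs <;> simp

include ham ha0 in
theorem fixed_mem_range (b : AS p a)
    (hb : ∀ σ : AS p a ≃ₐ[MvPowerSeries (Fin n) k] AS p a, σ b = b) :
    b ∈ Set.range (algebraMap (MvPowerSeries (Fin n) k) (AS p a)) := by
  classical
  have hpp := hp.out
  have hclaim : ∀ m : Fin n → Fin p, m ≠ (fun _ => ⟨0, hpp.pos⟩) →
      (psBasis p a).repr b m = 0 := by
    by_contra hcon
    push Not at hcon
    obtain ⟨m₁, hm₁, hrm₁⟩ := hcon
    obtain ⟨i, hi⟩ : ∃ i, ((m₁ i : Fin p) : ℕ) ≠ 0 := by
      by_contra h
      push Not at h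
      exact hm₁ (funext fun j => Fin.ext (h j))
    have hne : ((psBasis p a).repr b).support.Nonempty :=
      ⟨m₁, Finsupp.mem_support_iff.mpr hrm₁⟩
    obtain ⟨ms, hms, hmax⟩ := Finset.exists_max_image ((psBasis p a).repr b).support
      (fun m => ((m i : Fin p) : ℕ)) hne
    have hrms : (psBasis p a).repr b ms ≠ 0 := Finsupp.mem_support_iff.mp hms
    have hmax' : ∀ m : Fin n → Fin p, (psBasis p a).repr b m ≠ 0 →
        ((m i : Fin p) : ℕ) ≤ ((ms i : Fin p) : ℕ) := fun m hm =>
      hmax m (Finsupp.mem_support_iff.mpr hm)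
    have hd1 : 1 ≤ ((ms i : Fin p) : ℕ) := by
      have h1 := hmax' m₁ hrm₁
      omega
    have hdp : ((ms i : Fin p) : ℕ) < p := (ms i).2
    obtain ⟨e, he⟩ : ∃ e : ℕ, ((ms i : Fin p) : ℕ) = e + 1 := ⟨((ms i : Fin p) : ℕ) - 1, by omega⟩
    obtain ⟨σ, hσ⟩ : ∃ σ : AS p a ≃ₐ[MvPowerSeries (Fin n) k] AS p a,
        σ = Psi p a (fun j => if j = i then 1 else 0) := ⟨_, rfl⟩
    have hσi : σ (uu p a i) = uu p a i +
        algebraMap (MvPowerSeries (Fin n) k) (AS p a) (a i) := by
      rw [hσ, Psi_uu, if_pos rfl, Nat.cast_one, one_mul]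
    have hσj : ∀ j, j ≠ i → σ (uu p a j) = uu p a j := by
      intro j hj
      rw [hσ, Psi_uu, if_neg hj, Nat.cast_zero, zero_mul, add_zero]
    have hep : e < p := by omega
    obtain ⟨m', hm'⟩ : ∃ m' : Fin n → Fin p, m' = Function.update ms i ⟨e, hep⟩ := ⟨_, rfl⟩
    have hm'i : ((m' i : Fin p) : ℕ) = e := by rw [hm', Function.update_self]
    have hm'j : ∀ j, j ≠ i → m' j = ms j := fun j hj => by
      rw [hm', Function.update_of_ne hj]
    have hcoef : ∀ m : Fin n → Fin p, (psBasis p a).repr (σ (psBasis p a m)) m' =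
        if (∀ j, j ≠ i → m j = ms j) then cf a i ((m i : Fin p) : ℕ) e else 0 := by
      intro m
      rw [sigma_basis p a σ i hσi hσj m, map_sum, Finsupp.finsetSum_apply]
      simp_rw [repr_algebraMap_mul]
      by_cases hagree : ∀ j, j ≠ i → m j = ms j
      · rw [if_pos hagree, Finset.sum_eq_single (⟨e, hep⟩ : Fin p)]
        · rw [if_pos]
          rw [hm']
          funext j
          by_cases hj : j = i
          · subst hj
            rw [Function.update_self, Function.update_self]
          · rw [Function.update_of_ne hj, Function.update_of_ne hj, hagree j hj]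
        · intro l _ hl
          rw [if_neg]
          intro h
          apply hl
          have h3 := congrFun h i
          rw [Function.update_self, hm', Function.update_self] at h3
          exact h3
        · intro h
          exact absurd (Finset.mem_univ _) h
      · rw [if_neg hagree]
        apply Finset.sum_eq_zero
        intro l _
        rw [if_neg]
        intro h
        apply hagree
        intro j hj
        have h3 := congrFun h j
        rw [Function.update_of_ne hj, hm'j j hj] at h3
        exact h3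
    have hmain : (psBasis p a).repr (σ b) m' = ∑ m : Fin n → Fin p, (psBasis p a).repr b m *
        (if (∀ j, j ≠ i → m j = ms j) then cf a i ((m i : Fin p) : ℕ) e else 0) := by
      conv_lhs => rw [← (psBasis p a).sum_repr b]
      rw [map_sum, map_sum, Finsupp.finsetSum_apply]
      refine Finset.sum_congr rfl fun m _ => ?_
      rw [map_smul, map_smul, Finsupp.smul_apply, hcoef m, smul_eq_mul]
    have hne' : m' ≠ ms := by
      intro h
      have h3 := congrArg (fun x : Fin p => (x : ℕ)) (congrFun h i)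
      simp only [hm'i] at h3
      omega
    have hsum := Finset.sum_eq_add (s := Finset.univ)
      (f := fun m : Fin n → Fin p => (psBasis p a).repr b m *
        (if (∀ j, j ≠ i → m j = ms j) then cf a i ((m i : Fin p) : ℕ) e else 0)) m' ms hne'
      (fun m _ hm => by
        by_cases hagree : ∀ j, j ≠ i → m j = ms j
        · simp only [if_pos hagree]
          have h1 : ((m i : Fin p) : ℕ) ≠ e := by
            intro h
            apply hm.1
            funext j
            by_cases hj : j = i
            · subst hj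
              exact Fin.ext (h.trans hm'i.symm)
            · rw [hagree j hj, hm'j j hj]
          have h2 : ((m i : Fin p) : ℕ) ≠ e + 1 := by
            intro h
            apply hm.2
            funext j
            by_cases hj : j = i
            · subst hj
              exact Fin.ext (h.trans he.symm)
            · exact hagree j hj
          rcases Nat.lt_or_ge ((m i : Fin p) : ℕ) e with h3 | h3
          · unfold cf
            rw [Nat.choose_eq_zero_of_lt h3, Nat.cast_zero, zero_mul, mul_zero]
          · have h4 : (psBasis p a).repr b m = 0 := by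
              by_contra hr
              have := hmax' m hr
              omega
            rw [h4, zero_mul]
        · simp only [if_neg hagree, mul_zero])
      (fun h => absurd (Finset.mem_univ _) h) (fun h => absurd (Finset.mem_univ _) h)
    have hF1 : (if (∀ j, j ≠ i → m' j = ms j) then cf a i ((m' i : Fin p) : ℕ) e else 0) =
        (1 : MvPowerSeries (Fin n) k) := by
      rw [if_pos hm'j, hm'i]
      unfold cf
      rw [Nat.choose_self, Nat.sub_self, pow_zero, Nat.cast_one, mul_one]
    have hF2 : (if (∀ j, j ≠ i → ms j = ms j) then cf a i ((ms i : Fin p) : ℕ) e else 0) =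
        ((e + 1 : ℕ) : MvPowerSeries (Fin n) k) * a i := by
      rw [if_pos (fun _ _ => rfl), he]
      unfold cf
      rw [Nat.choose_succ_self_right, Nat.add_sub_cancel_left, pow_one]
    beta_reduce at hsum
    rw [hF1, hF2] at hsum
    rw [hsum, hb σ, mul_one] at hmain
    have hzero : (psBasis p a).repr b ms * (((e + 1 : ℕ) : MvPowerSeries (Fin n) k) * a i) = 0 := by
      have := hmain
      exact (add_eq_left.mp this.symm)
    have hcast : ((e + 1 : ℕ) : MvPowerSeries (Fin n) k) ≠ 0 := by
      intro h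
      rw [CharP.cast_eq_zero_iff (MvPowerSeries (Fin n) k) p] at h
      exact Nat.not_dvd_of_pos_of_lt (Nat.succ_pos e) (by omega) h
    rcases mul_eq_zero.mp hzero with h | h
    · exact hrms h
    · rcases mul_eq_zero.mp h with h | h
      · exact hcast h
      · exact ha0 i h
  refine ⟨(psBasis p a).repr b (fun _ => ⟨0, hpp.pos⟩), ?_⟩
  conv_rhs => rw [← (psBasis p a).sum_repr b]
  rw [Finset.sum_eq_single (fun _ => (⟨0, hpp.pos⟩ : Fin p))
    (fun m _ hm => by rw [hclaim m hm, zero_smul]) (fun h => absurd (Finset.mem_univ _) h)]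
  have h1 : ∏ i, uu p a i ^ ((⟨0, hpp.pos⟩ : Fin p) : ℕ) = 1 := by simp
  rw [psBasis_apply, h1, Algebra.algebraMap_eq_smul_one]

include ham ha0 in
theorem aux :
    Nat.card (AS p a ≃ₐ[MvPowerSeries (Fin n) k] AS p a) = p ^ n ∧
      (∀ σ τ : AS p a ≃ₐ[MvPowerSeries (Fin n) k] AS p a, σ * τ = τ * σ) ∧
      (∀ σ : AS p a ≃ₐ[MvPowerSeries (Fin n) k] AS p a, σ ^ p = 1) ∧
      (∀ b : AS p a, (∀ σ : AS p a ≃ₐ[MvPowerSeries (Fin n) k] AS p a, σ b = b) ↔
        b ∈ Set.range (algebraMap (MvPowerSeries (Fin n) k) (AS p a))) := by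
  refine ⟨card_aut p a ham ha0, comm_aut p a ham ha0, pow_aut p a ham ha0, fun b => ⟨?_, ?_⟩⟩
  · exact fixed_mem_range p a ham ha0 b
  · rintro ⟨r, rfl⟩ σ
    exact σ.commutes r

end Aux

end Groth.Agent.S15789

namespace Groth.Agent.S15789

open MvPolynomial in
/-- Let `k` be a field of characteristic `p > 0`, `n ≥ 2`, `R = k[[x_1, …, x_n]]`, `a_1, …, a_n ∈ R`
nonzero with zero constant term, and `A = R[u_1, …, u_n] / (u_i ^ p - a_i ^ (p-1) u_i - x_i : i =
1..n)`. Then the group of `R`-algebra automorphisms of `A` has exactly `p ^ n` elements, is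
commutative and every element has `p`-th power the identity (it is the elementary abelian group
generated by the substitutions `u_i ↦ u_i + a_i`), and an element of `A` is fixed by every
`R`-algebra automorphism if and only if it comes from `R`. (The published statement says that
`Frac(A)/Frac(R)` is Galois with group `(ℤ/pℤ)^n` and `R = A^H`; this row states it through the
`R`-algebra automorphisms of `A`.) -/
theorem result
    (p : ℕ) [Fact p.Prime] (k : Type u) [Field k] [CharP k p] (n : ℕ) (hn : 2 ≤ n)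
    (a : Fin n → MvPowerSeries (Fin n) k)
    (ha0 : ∀ i, a i ≠ 0) (ham : ∀ i, MvPowerSeries.constantCoeff (a i) = 0) :
    let R := MvPowerSeries (Fin n) k
    let I : Ideal (MvPolynomial (Fin n) R) :=
      Ideal.span (Set.range fun i : Fin n =>
        X i ^ p - C (a i ^ (p - 1)) * X i - C (MvPowerSeries.X i))
    Nat.card ((MvPolynomial (Fin n) R ⧸ I) ≃ₐ[R] (MvPolynomial (Fin n) R ⧸ I)) = p ^ n ∧
      (∀ σ τ : (MvPolynomial (Fin n) R ⧸ I) ≃ₐ[R] (MvPolynomial (Fin n) R ⧸ I), σ * τ = τ * σ) ∧
      (∀ σ : (MvPolynomial (Fin n) R ⧸ I) ≃ₐ[R] (MvPolynomial (Fin n) R ⧸ I), σ ^ p = 1) ∧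
      (∀ b : MvPolynomial (Fin n) R ⧸ I,
        (∀ σ : (MvPolynomial (Fin n) R ⧸ I) ≃ₐ[R] (MvPolynomial (Fin n) R ⧸ I), σ b = b) ↔
          b ∈ Set.range (algebraMap R (MvPolynomial (Fin n) R ⧸ I))) := by
  intro R I
  exact aux p a ham ha0

end Groth.Agent.S15789
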