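import Groth.Statements.S1579
import Groth.Agent.S1708
import Groth.Agent.Lib.Helper45.WeakAssFinite
import Groth.Agent.Lib.Helper45.LocalizingOn

set_option autoImplicit false
universe u
open CategoryTheory CategoryTheory.Limits AlgebraicGeometry
open Divisors

namespace Groth.Agent.S1579

open Groth.Agent.Lib.Helper45

noncomputable section

/-- The image of a weakly associated point under a finite morphism is weakly associated to the
pushforward. -/
theorem isWeakAssPoint_pushforward_of_isWeakAssPoint {X S : Scheme.{u}} (f : X ⟶ S)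
    [IsFinite f] (F : X.Modules) [F.IsQuasicoherent] (x : X)
    (hx : Curv2.IsWeakAssPoint F x) :
    Curv2.IsWeakAssPoint ((Scheme.Modules.pushforward f).obj F) (f x) := by
  obtain ⟨_, ⟨V, hV : IsAffineOpen V, rfl⟩, hsV, -⟩ :=
    S.isBasis_affineOpens.exists_subset_of_mem_open (Set.mem_univ (f x)) isOpen_univ
  have hU : IsAffineOpen (f ⁻¹ᵁ V) := hV.preimage f
  have hxU : x ∈ f ⁻¹ᵁ V := hsV
  rw [isWeakAssPoint_iff_of_isAffineOpen hU F ⟨x, hxU⟩] at hx
  rw [isWeakAssPoint_iff_of_isLocalizingOn hV _ ⟨f x, hsV⟩ (isLocalizingOn_pushforward f F hV)]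
  have hfin : (f.app V).hom.Finite := IsFinite.finite_app f V hV
  let _ : Algebra Γ(S, V) Γ(X, f ⁻¹ᵁ V) := (f.app V).hom.toAlgebra
  have : Module.Finite Γ(S, V) Γ(X, f ⁻¹ᵁ V) := hfin
  let _ : Module Γ(S, V) Γ(F, f ⁻¹ᵁ V) :=
    inferInstanceAs (Module Γ(S, V) Γ((Scheme.Modules.pushforward f).obj F, V))
  have : IsScalarTower Γ(S, V) Γ(X, f ⁻¹ᵁ V) Γ(F, f ⁻¹ᵁ V) :=
    IsScalarTower.of_algebraMap_smul (fun r m => rfl)
  have key := under_mem_weakAss_of_finite (A := Γ(S, V)) hx
  have h1 := IsAffineOpen.comap_primeIdealOf_appLE (f := f) V hV (f ⁻¹ᵁ V) hU le_rfl hxU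
  rw [Scheme.Hom.appLE_eq_app] at h1
  have h2 : (hV.primeIdealOf ⟨f x, hsV⟩).asIdeal =
      (hU.primeIdealOf ⟨x, hxU⟩).asIdeal.comap (algebraMap Γ(S, V) Γ(X, f ⁻¹ᵁ V)) := by
    rw [← h1]
    rfl
  rw [h2]
  exact key

end

/-- Let f : X → S be finite and F quasi-coherent on X. Then the weakly associated points of f_* F are
precisely the images under f of the weakly associated points of F. -/
theorem result {X S : Scheme.{u}} (f : X ⟶ S) [IsFinite f] (F : X.Modules) (hF : Coh.IsQCoh F) :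
    {s : S | Curv2.IsWeakAssPoint ((Coh.push f).obj F) s} = f.base '' {x : X | Curv2.IsWeakAssPoint F x} := by
  have : F.IsQuasicoherent := hF
  ext s
  constructor
  · intro hs
    obtain ⟨x, hx, hw⟩ := Groth.Agent.S1708.result f F hF s hs
    exact ⟨x, hw, hx⟩
  · rintro ⟨x, hx, rfl⟩
    exact isWeakAssPoint_pushforward_of_isWeakAssPoint f F x hx

end Groth.Agent.S1579
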