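import Groth.Statements.S15791
import Mathlib

set_option autoImplicit false
universe u v
open WildQuot

namespace Groth.Agent.S15791

lemma length_congr {A : Type*} [CommRing A] {I I' : Ideal A} (h : I = I') :
    Module.length A (A ⧸ I) = Module.length A (A ⧸ I') := by
  subst h; rfl

/-- Sub-additivity of length along a (right-)exact sequence. -/
lemma length_le_add_of_exact {R M N P : Type*} [Ring R] [AddCommGroup M] [AddCommGroup N]
    [AddCommGroup P] [Module R M] [Module R N] [Module R P]
    (f : N →ₗ[R] M) (g : M →ₗ[R] P) (hg : Function.Surjective g) (H : Function.Exact f g) :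
    Module.length R M ≤ Module.length R N + Module.length R P := by
  rw [Module.length_eq_add_of_exact (LinearMap.ker g).subtype g (Submodule.subtype_injective _) hg
    (LinearMap.exact_subtype_ker_map g)]
  gcongr
  rw [LinearMap.exact_iff.mp H]
  exact Module.length_le_of_surjective f.rangeRestrict f.surjective_rangeRestrict

/-- `ℓ(A/(J + (ab))) ≤ ℓ(A/(J + (a))) + ℓ(A/(J + (b)))`. -/
lemma length_mul_le {A : Type*} [CommRing A] (J : Ideal A) (a b : A) :
    Module.length A (A ⧸ (J ⊔ Ideal.span {a * b})) ≤
      Module.length A (A ⧸ (J ⊔ Ideal.span {a})) + Module.length A (A ⧸ (J ⊔ Ideal.span {b})) := by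
  have h12 : J ⊔ Ideal.span {a * b} ≤ J ⊔ Ideal.span {a} := by
    refine sup_le le_sup_left (le_sup_of_le_right ?_)
    rw [Ideal.span_singleton_le_iff_mem]
    exact Ideal.mul_mem_right _ _ (Ideal.mem_span_singleton_self a)
  have h31 : J ⊔ Ideal.span {b} ≤
      Submodule.comap (LinearMap.mulLeft A a) (J ⊔ Ideal.span {a * b}) := by
    refine sup_le ?_ ?_
    · intro x hx
      simp only [Submodule.mem_comap, LinearMap.mulLeft_apply]
      exact Ideal.mem_sup_left (Ideal.mul_mem_left _ _ hx)
    · rw [Ideal.span_singleton_le_iff_mem]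
      simp only [Submodule.mem_comap, LinearMap.mulLeft_apply]
      exact Ideal.mem_sup_right (Ideal.mem_span_singleton_self _)
  let g : (A ⧸ (J ⊔ Ideal.span {a * b})) →ₗ[A] (A ⧸ (J ⊔ Ideal.span {a})) := Submodule.factor h12
  let f : (A ⧸ (J ⊔ Ideal.span {b})) →ₗ[A] (A ⧸ (J ⊔ Ideal.span {a * b})) :=
    Submodule.mapQ _ _ (LinearMap.mulLeft A a) h31
  have hg : Function.Surjective g := Submodule.factor_surjective h12
  have H : Function.Exact f g := by
    intro y
    constructor
    · intro hy
      obtain ⟨y, rfl⟩ := Submodule.mkQ_surjective _ y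
      have hy' : y ∈ J ⊔ Ideal.span {a} := by
        have : (Submodule.mkQ (J ⊔ Ideal.span {a})) y = 0 := by
          simpa [g, Submodule.factor_mk] using hy
        exact (Submodule.Quotient.mk_eq_zero _).mp this
      obtain ⟨j, hj, z, hz, rfl⟩ := Submodule.mem_sup.mp hy'
      obtain ⟨c, rfl⟩ := Ideal.mem_span_singleton'.mp hz
      refine ⟨Submodule.mkQ _ c, ?_⟩
      simp only [f, Submodule.mkQ_apply, Submodule.mapQ_apply, LinearMap.mulLeft_apply]
      rw [eq_comm, ← sub_eq_zero, ← Submodule.Quotient.mk_sub, Submodule.Quotient.mk_eq_zero]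
      have : j + c * a - a * c = j := by ring
      rw [this]
      exact Ideal.mem_sup_left hj
    · rintro ⟨x, rfl⟩
      obtain ⟨x, rfl⟩ := Submodule.mkQ_surjective _ x
      simp only [f, g, Submodule.mkQ_apply, Submodule.mapQ_apply, LinearMap.mulLeft_apply]
      change Submodule.factor h12 (Submodule.mkQ _ (a * x)) = 0
      rw [Submodule.factor_mk]
      simp only [Submodule.mkQ_apply, Submodule.Quotient.mk_eq_zero]
      exact Ideal.mem_sup_right (Ideal.mul_mem_right _ _ (Ideal.mem_span_singleton_self a))
  rw [add_comm]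
  exact length_le_add_of_exact f g hg H

/-- Finite-product version of `length_mul_le`. -/
lemma length_prod_le {A : Type*} [CommRing A] {ι : Type*} (s : Finset ι) (J : Ideal A) (v : ι → A) :
    Module.length A (A ⧸ (J ⊔ Ideal.span {∏ i ∈ s, v i})) ≤
      ∑ i ∈ s, Module.length A (A ⧸ (J ⊔ Ideal.span {v i})) := by
  classical
  induction s using Finset.induction_on with
  | empty =>
    have e : J ⊔ Ideal.span {∏ i ∈ (∅ : Finset ι), v i} = ⊤ := by
      rw [Finset.prod_empty, Ideal.span_singleton_one, sup_top_eq]
    rw [length_congr e, Finset.sum_empty, nonpos_iff_eq_zero, Module.length_eq_zero_iff]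
    exact Ideal.Quotient.subsingleton_iff.mpr rfl
  | insert i s hi ih =>
    rw [Finset.prod_insert hi, Finset.sum_insert hi]
    refine (length_mul_le J _ _).trans ?_
    gcongr

/-- The inductive step: bounding the length of `A/(J + (x_1,…,x_k))`, `x_i` the norms, by
`g^k` times a uniform bound for the lengths of `A/(J + (τ_1 u_1,…,τ_k u_k))`. -/
lemma length_norm_le {A : Type*} [CommRing A] {G : Type*} [Group G] [Fintype G]
    [MulSemiringAction G A] (c : ℕ∞) :
    ∀ (k : ℕ) (J : Ideal A) (u : Fin k → A),
      (∀ τ : Fin k → G,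
        Module.length A (A ⧸ (J ⊔ Ideal.span (Set.range fun i => τ i • u i))) ≤ c) →
      Module.length A (A ⧸ (J ⊔ Ideal.span (Set.range fun i => ∏ σ : G, σ • u i))) ≤
        (Fintype.card G) ^ k * c := by
  intro k
  induction k with
  | zero =>
    intro J u h
    have h0 := h (fun i => i.elim0)
    have e : J ⊔ Ideal.span (Set.range fun i : Fin 0 => ∏ σ : G, σ • u i) =
        J ⊔ Ideal.span (Set.range fun i : Fin 0 => (fun i : Fin 0 => (i.elim0 : G)) i • u i) := by
      rw [Set.range_eq_empty, Set.range_eq_empty]
    rw [length_congr e]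
    simpa using h0
  | succ k ih =>
    intro J u h
    have hsplit : ∀ w : Fin (k + 1) → A, Ideal.span (Set.range w) =
        Ideal.span (Set.range fun i : Fin k => w i.succ) ⊔ Ideal.span {w 0} := by
      intro w
      rw [← Ideal.span_union]
      congr 1
      ext a
      simp only [Set.mem_range, Set.union_singleton, Set.mem_insert_iff]
      constructor
      · rintro ⟨i, rfl⟩
        refine Fin.cases (Or.inl rfl) (fun j => Or.inr ⟨j, rfl⟩) i
      · rintro (rfl | ⟨j, rfl⟩)
        · exact ⟨0, rfl⟩
        · exact ⟨j.succ, rfl⟩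
    rw [length_congr (congrArg (J ⊔ ·) (hsplit _)), length_congr (sup_assoc _ _ _).symm]
    refine (length_prod_le Finset.univ _ (fun σ : G => σ • u 0)).trans ?_
    have hterm : ∀ σ : G, Module.length A (A ⧸ ((J ⊔ Ideal.span
        (Set.range fun i : Fin k => ∏ σ : G, σ • u i.succ)) ⊔ Ideal.span {σ • u 0})) ≤
        (Fintype.card G) ^ k * c := by
      intro σ
      have e1 : (J ⊔ Ideal.span (Set.range fun i : Fin k => ∏ σ : G, σ • u i.succ)) ⊔
          Ideal.span {σ • u 0} = (J ⊔ Ideal.span {σ • u 0}) ⊔
          Ideal.span (Set.range fun i : Fin k => ∏ σ : G, σ • u i.succ) := by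
        rw [sup_assoc, sup_assoc, sup_comm (Ideal.span {σ • u 0})]
      rw [length_congr e1]
      refine ih (J ⊔ Ideal.span {σ • u 0}) (fun i => u i.succ) ?_
      intro τ'
      have := h (Fin.cons σ τ')
      have e2 : J ⊔ Ideal.span (Set.range fun i => (Fin.cons σ τ' : Fin (k + 1) → G) i • u i) =
          (J ⊔ Ideal.span {σ • u 0}) ⊔
            Ideal.span (Set.range fun i : Fin k => τ' i • u i.succ) := by
        rw [hsplit]
        simp only [Fin.cons_succ, Fin.cons_zero]
        rw [sup_assoc, sup_comm (Ideal.span {σ • u 0})]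
      rw [length_congr e2] at this
      exact this
    calc ∑ σ : G, Module.length A (A ⧸ ((J ⊔ Ideal.span
          (Set.range fun i : Fin k => ∏ σ : G, σ • u i.succ)) ⊔ Ideal.span {σ • u 0}))
        ≤ ∑ _σ : G, (Fintype.card G : ℕ∞) ^ k * c := Finset.sum_le_sum (fun σ _ => hterm σ)
      _ = (Fintype.card G : ℕ∞) ^ (k + 1) * c := by
        rw [Finset.sum_const, Finset.card_univ, nsmul_eq_mul, pow_succ, mul_assoc]
        ring

/-- Let `A` be a regular local ring of Krull dimension `n` with maximal ideal `m`, let a finite group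
`G` of order `g` act on `A` by ring automorphisms, and let `u_1, …, u_n` be an admissible regular
system of parameters: for every choice `σ_1, …, σ_n ∈ G`, the elements `σ_1 u_1, …, σ_n u_n`
generate `m`. With `x_i = ∏_{σ ∈ G} σ u_i` the norms, the length of `A / (x_1, …, x_n)` is at most
`g ^ n`. (The published statement is for a complete regular local ring containing a `G`-fixed field
of representatives and asserts that the length equals `g ^ n`; this row states the upper bound for
any regular local ring.) -/
theorem result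
    (A : Type u) [CommRing A] [IsRegularLocalRing A]
    (G : Type v) [Group G] [Fintype G] [MulSemiringAction G A]
    (n : ℕ) (hn : ringKrullDim A = n) (u : Fin n → A)
    (hu : ∀ τ : Fin n → G,
      Ideal.span (Set.range fun i => τ i • u i) = IsLocalRing.maximalIdeal A) :
    Module.length A (A ⧸ Ideal.span (Set.range fun i => ∏ σ : G, σ • u i)) ≤
      (Fintype.card G ^ n : ℕ) := by
  have key := length_norm_le (A := A) (G := G) 1 n ⊥ u ?_
  · rw [length_congr (bot_sup_eq _)] at key
    simpa using key
  · intro τ
    rw [length_congr (bot_sup_eq _), length_congr (hu τ)]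
    have : IsSimpleModule A (A ⧸ IsLocalRing.maximalIdeal A) := by
      rw [isSimpleModule_iff_isCoatom, ← Ideal.isMaximal_def]
      infer_instance
    rw [Module.length_eq_one]

end Groth.Agent.S15791
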