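import Groth.Statements.S15793
import Mathlib
import Groth.Agent.Lib.Helper85.RegularLocal
-- import your own Groth.Agent.* helpers here

set_option autoImplicit false
universe u v w
open WildQuot

namespace Groth.Agent.S15793

/-- Let `A` be a complete regular local ring of Krull dimension at least `2` and prime characteristic
`p`, with maximal ideal `m`; let `k` be a field with a ring map `k → A` whose composite with `A →
A/m` is onto (a field of representatives); let `G` be a group of order `p` acting on `A` by ring
automorphisms that fix the image of `k`, ramified precisely at the origin: for every prime `P ≠ m`,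
the inertia subgroup of `P` (the elements of `G` fixing every element of `A` modulo `P`) is trivial.
Then no element of `m` outside `m ^ 2` is fixed by every element of `G`; in particular the action is
not linear in any regular system of parameters. -/
theorem result
    (p : ℕ) [Fact p.Prime] (A : Type u) [CommRing A] [IsRegularLocalRing A] [CharP A p]
    [IsAdicComplete (IsLocalRing.maximalIdeal A) A] (hdim : 2 ≤ ringKrullDim A)
    (k : Type v) [Field k] [Algebra k A]
    (hk : Function.Surjective (IsLocalRing.residue A ∘ algebraMap k A))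
    (G : Type w) [Group G] [Finite G] [MulSemiringAction G A] (hcard : Nat.card G = p)
    (hGk : ∀ (σ : G) (c : k), σ • algebraMap k A c = algebraMap k A c)
    (hram : ∀ P : Ideal A, P.IsPrime → P ≠ IsLocalRing.maximalIdeal A → P.inertia G = ⊥)
    (v : A) (hv : v ∈ IsLocalRing.maximalIdeal A) (hv2 : v ∉ IsLocalRing.maximalIdeal A ^ 2) :
    ∃ σ : G, σ • v ≠ v := by
  classical
  by_contra hcon
  push Not at hcon
  have hp2 : 2 ≤ p := (Fact.out : p.Prime).two_le
  obtain ⟨σ, hσ1⟩ : ∃ σ : G, σ ≠ 1 := by
    have : Nontrivial G := by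
      rw [← Finite.one_lt_card_iff_nontrivial, hcard]
      omega
    exact exists_ne 1
  have hσm : ∀ x ∈ IsLocalRing.maximalIdeal A, σ • x ∈ IsLocalRing.maximalIdeal A := by
    intro x hx
    rw [IsLocalRing.mem_maximalIdeal, mem_nonunits_iff] at hx ⊢
    intro hu
    have h := hu.map (MulSemiringAction.toRingHom G A σ⁻¹)
    rw [MulSemiringAction.toRingHom_apply, inv_smul_smul] at h
    exact hx h
  have hdec : ∀ b : A, ∃ c : k, b - algebraMap k A c ∈ IsLocalRing.maximalIdeal A := by
    intro b
    obtain ⟨c, hc⟩ := hk (IsLocalRing.residue A b)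
    refine ⟨c, ?_⟩
    rw [← IsLocalRing.residue_eq_zero_iff, map_sub, sub_eq_zero]
    exact hc.symm
  obtain ⟨s, hscard, hs⟩ := Submodule.FG.exists_span_finset_card_eq_spanFinrank
    (IsLocalRing.maximalIdeal A).fg_of_isNoetherianRing
  obtain ⟨t, htcard, ht⟩ :=
    Groth.Agent.Lib.Helper85.exists_finset_insert_span_eq s hs v hv hv2
  obtain ⟨d, hd⟩ : ∃ d : A → A, d = fun b => σ • b - b := ⟨_, rfl⟩
  have hd_apply : ∀ b, d b = σ • b - b := fun b => by rw [hd]
  have hd_add : ∀ x y, d (x + y) = d x + d y := by
    intro x y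
    rw [hd_apply, hd_apply, hd_apply, smul_add]
    ring
  have hd_mul : ∀ x y, d (x * y) = (σ • x) * d y + d x * y := by
    intro x y
    rw [hd_apply, hd_apply, hd_apply, smul_mul']
    ring
  have hd_zero : d 0 = 0 := by rw [hd_apply, smul_zero, sub_zero]
  have hd_v : d v = 0 := by rw [hd_apply, hcon σ, sub_self]
  have hd_k : ∀ c : k, d (algebraMap k A c) = 0 := by
    intro c
    rw [hd_apply, hGk σ c, sub_self]
  have hd_m : ∀ x ∈ IsLocalRing.maximalIdeal A, d x ∈ IsLocalRing.maximalIdeal A := by
    intro x hx
    rw [hd_apply]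
    exact Ideal.sub_mem _ (hσm x hx) hx
  have hd_red : ∀ b : A, ∃ x ∈ IsLocalRing.maximalIdeal A, d b = d x := by
    intro b
    obtain ⟨c, hc⟩ := hdec b
    refine ⟨b - algebraMap k A c, hc, ?_⟩
    have : b = (b - algebraMap k A c) + algebraMap k A c := by ring
    conv_lhs => rw [this]
    rw [hd_add, hd_k, add_zero]
  obtain ⟨J, hJ⟩ : ∃ J : Ideal A, J = Ideal.span (Set.range d) := ⟨_, rfl⟩
  obtain ⟨I, hI⟩ : ∃ I : Ideal A, I = Ideal.span ((t.image d : Finset A) : Set A) := ⟨_, rfl⟩
  have hdJ : ∀ b, d b ∈ J := fun b => by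
    rw [hJ]
    exact Ideal.subset_span ⟨b, rfl⟩
  have hIJ : I ≤ J := by
    rw [hI, Ideal.span_le]
    intro x hx
    rw [Finset.coe_image] at hx
    obtain ⟨y, -, rfl⟩ := hx
    exact hdJ y
  have hJm : J ≤ IsLocalRing.maximalIdeal A := by
    rw [hJ, Ideal.span_le]
    rintro _ ⟨b, rfl⟩
    obtain ⟨x, hx, hbx⟩ := hd_red b
    rw [SetLike.mem_coe, hbx]
    exact hd_m x hx
  have hclaim : ∀ x ∈ IsLocalRing.maximalIdeal A,
      d x ∈ I ⊔ IsLocalRing.maximalIdeal A • J := by
    intro x hx
    rw [← ht] at hx
    induction hx using Submodule.span_induction with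
    | mem y hy =>
      rcases hy with rfl | hy
      · rw [hd_v]
        exact zero_mem _
      · apply Submodule.mem_sup_left
        rw [hI]
        apply Ideal.subset_span
        rw [Finset.coe_image]
        exact ⟨y, hy, rfl⟩
    | zero =>
      rw [hd_zero]
      exact zero_mem _
    | add y z _ _ hy hz =>
      rw [hd_add]
      exact add_mem hy hz
    | smul r y hy hy' =>
      have hry : r • y = r * y := smul_eq_mul r y
      rw [hry, hd_mul]
      apply add_mem
      · exact Ideal.mul_mem_left _ _ hy'
      · apply Submodule.mem_sup_right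
        have hym : y ∈ IsLocalRing.maximalIdeal A := by
          rw [← ht]
          exact hy
        rw [mul_comm]
        exact Submodule.smul_mem_smul hym (hdJ r)
  have hJle : J ≤ I ⊔ IsLocalRing.maximalIdeal A • J := by
    rw [hJ, Ideal.span_le]
    rintro _ ⟨b, rfl⟩
    obtain ⟨x, hx, hbx⟩ := hd_red b
    rw [SetLike.mem_coe, hbx, ← hJ]
    exact hclaim x hx
  have hJI : J ≤ I := by
    apply Submodule.le_of_le_smul_of_le_jacobson_bot (IsNoetherian.noetherian J) _ hJle
    exact (IsLocalRing.jacobson_eq_maximalIdeal ⊥ bot_ne_top).ge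
  have hIm : I ≤ IsLocalRing.maximalIdeal A := hIJ.trans hJm
  obtain ⟨P, hP, hPm⟩ := Ideal.exists_minimalPrimes_le hIm
  have hPprime : P.IsPrime := hP.1.1
  have hht : P.height ≤ ((t.image d).card : ℕ∞) := by
    rw [hI] at hP
    exact Ideal.height_le_card_of_mem_minimalPrimes_span_finset hP
  have hne : P ≠ IsLocalRing.maximalIdeal A := by
    intro hPeq
    have h1 : ((IsLocalRing.maximalIdeal A).height : WithBot ℕ∞) = ringKrullDim A :=
      IsLocalRing.maximalIdeal_height_eq_ringKrullDim
    have h2 := IsRegularLocalRing.spanFinrank_maximalIdeal (R := A)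
    rw [← h1, ← hscard] at h2
    have h3 : ((s.card : ℕ∞)) = (IsLocalRing.maximalIdeal A).height := by
      exact_mod_cast h2
    rw [hPeq, ← h3] at hht
    have h4 : s.card ≤ (t.image d).card := by exact_mod_cast hht
    have h5 := Finset.card_image_le (s := t) (f := d)
    omega
  have hin := hram P hPprime hne
  have hσin : σ ∈ P.inertia G := by
    intro x
    have : d x ∈ P := hP.1.2 (hJI (hdJ x))
    rw [hd_apply] at this
    exact this
  rw [hin, Subgroup.mem_bot] at hσin
  exact hσ1 hσin

end Groth.Agent.S15793
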