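import Groth.Statements.S15794
import Mathlib
import Groth.Agent.Lib.Helper99.WildFixed
import Groth.Agent.Lib.Helper55.KrullDimIntegral
import Groth.Agent.Lib.Helper85.RegularLocal
-- import your own Groth.Agent.* helpers here

set_option autoImplicit false
universe u v w
open WildQuot

namespace Groth.Agent.S15794

open Groth.Agent.Lib.Helper99

section Dedekind

variable {A : Type u} [CommRing A] {G : Type w} [Group G] [Fintype G] [DecidableEq G]
  [MulSemiringAction G A]

/-- Dedekind independence of characters: if `e` spans `A` over `A^G` and the determinant of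
`(σ • e τ)` lies in the prime `P`, then some `τ ≠ 1` acts trivially modulo `P`. -/
theorem exists_inertia_of_det_mem (e : G → A)
    (hspan : ∀ a : A, ∃ b : G → FixedPoints.subring A G, a = ∑ τ, (b τ : A) * e τ)
    (P : Ideal A) [P.IsPrime]
    (hdet : (Matrix.of fun σ τ : G => σ • e τ).det ∈ P) :
    ∃ τ : G, τ ≠ 1 ∧ ∀ a : A, τ • a - a ∈ P := by
  classical
  by_contra hcon
  push Not at hcon
  let χ : G → (A →* A ⧸ P) := fun σ =>
    ((Ideal.Quotient.mk P).comp (MulSemiringAction.toRingHom G A σ) : A →+* A ⧸ P)
  have hχ : ∀ σ a, χ σ a = Ideal.Quotient.mk P (σ • a) := fun σ a => rfl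
  have hinj : Function.Injective χ := by
    intro σ σ' h
    by_contra hne
    have hτ : σ * σ'⁻¹ ≠ 1 := by
      intro h1
      exact hne (mul_inv_eq_one.mp h1)
    obtain ⟨c, hc⟩ := hcon _ hτ
    apply hc
    have h2 := DFunLike.congr_fun h (σ'⁻¹ • c)
    rw [hχ, hχ, smul_inv_smul] at h2
    rw [mul_smul, ← Ideal.Quotient.eq]
    exact h2
  have hli : LinearIndependent (A ⧸ P) (fun σ : G => (χ σ : A → A ⧸ P)) :=
    (linearIndependent_monoidHom A (A ⧸ P)).comp χ hinj
  have hdet' : (Matrix.of fun σ τ : G => Ideal.Quotient.mk P (σ • e τ)).det = 0 := by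
    have h1 : (Matrix.of fun σ τ : G => Ideal.Quotient.mk P (σ • e τ)) =
        (Ideal.Quotient.mk P).mapMatrix (Matrix.of fun σ τ : G => σ • e τ) := by
      ext σ τ
      rfl
    rw [h1, ← RingHom.map_det]
    exact Ideal.Quotient.eq_zero_iff_mem.mpr hdet
  obtain ⟨w, hw0, hw⟩ := Matrix.exists_vecMul_eq_zero_iff.mpr hdet'
  apply hw0
  have h2 : ∀ τ, ∑ σ, w σ * Ideal.Quotient.mk P (σ • e τ) = 0 := by
    intro τ
    have := congrFun hw τ
    simpa [Matrix.vecMul, dotProduct] using this
  have hsum : ∑ σ, w σ • (χ σ : A → A ⧸ P) = 0 := by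
    funext a
    obtain ⟨b, rfl⟩ := hspan a
    simp only [Finset.sum_apply, Pi.smul_apply, smul_eq_mul, Pi.zero_apply]
    have h1 : ∀ σ, χ σ (∑ τ, (b τ : A) * e τ) =
        ∑ τ, Ideal.Quotient.mk P (b τ : A) * Ideal.Quotient.mk P (σ • e τ) := by
      intro σ
      rw [hχ, Finset.smul_sum, map_sum]
      refine Finset.sum_congr rfl fun τ _ => ?_
      rw [smul_mul', (b τ).2 σ, map_mul]
    calc ∑ σ, w σ * χ σ (∑ τ, (b τ : A) * e τ)
        = ∑ σ, w σ * ∑ τ, Ideal.Quotient.mk P (b τ : A) * Ideal.Quotient.mk P (σ • e τ) :=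
          Finset.sum_congr rfl fun σ _ => by rw [h1]
      _ = ∑ τ, Ideal.Quotient.mk P (b τ : A) * ∑ σ, w σ * Ideal.Quotient.mk P (σ • e τ) := by
          simp only [Finset.mul_sum]
          rw [Finset.sum_comm]
          refine Finset.sum_congr rfl fun τ _ => Finset.sum_congr rfl fun σ _ => by ring
      _ = 0 := by simp only [h2, mul_zero, Finset.sum_const_zero]
  funext σ
  exact Fintype.linearIndependent_iff.mp hli w hsum σ

end Dedekind

theorem trace_mem {A : Type u} [CommRing A] [IsLocalRing A] {G : Type w} [Group G] [Fintype G]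
    [MulSemiringAction G A] (p : ℕ) [CharP A p] (hcard : Fintype.card G = p)
    (hsub : ∀ (σ : G) (a : A), σ • a - a ∈ IsLocalRing.maximalIdeal A) (a : A) :
    ∑ σ : G, σ • a ∈ IsLocalRing.maximalIdeal A := by
  have h1 : ∑ σ : G, σ • a = ∑ σ : G, (σ • a - a) + (Fintype.card G : A) * a := by
    rw [Finset.sum_sub_distrib, Finset.sum_const, Finset.card_univ, nsmul_eq_mul]; ring
  rw [h1, hcard, CharP.cast_eq_zero A p, zero_mul, add_zero]
  exact Ideal.sum_mem _ fun σ _ => hsub σ a

/-- Let `A` be a complete regular local ring of Krull dimension at least `2` and prime characteristic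
`p`, with maximal ideal `m`; let `k` be a field with a ring map `k → A` whose composite with `A →
A/m` is onto; let `G` be a group of order `p` acting on `A` by ring automorphisms fixing the image
of `k` and ramified precisely at the origin (for every prime `P ≠ m`, the inertia subgroup of `P`
(the elements of `G` fixing every element modulo `P`) is trivial). Then `A` is not a flat module
over the ring of invariants `A^G`. (The published statement also asserts that `A^G ⊂ A` is local and
finite of degree `p` with trivial residue field extension; this row omits those clauses.) -/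
theorem result
    (p : ℕ) [Fact p.Prime] (A : Type u) [CommRing A] [IsRegularLocalRing A] [CharP A p]
    [IsAdicComplete (IsLocalRing.maximalIdeal A) A] (hdim : 2 ≤ ringKrullDim A)
    (k : Type v) [Field k] [Algebra k A]
    (hk : Function.Surjective (IsLocalRing.residue A ∘ algebraMap k A))
    (G : Type w) [Group G] [Finite G] [MulSemiringAction G A] (hcard : Nat.card G = p)
    (hGk : ∀ (σ : G) (c : k), σ • algebraMap k A c = algebraMap k A c)
    (hram : ∀ P : Ideal A, P.IsPrime → P ≠ IsLocalRing.maximalIdeal A → P.inertia G = ⊥) :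
    ¬ Module.Flat (FixedPoints.subring A G) A := by
  classical
  intro hflat
  haveI hdomA : IsDomain A := Groth.Agent.Lib.Helper85.isDomain_of_isRegularLocalRing A
  have hG : IsPGroup p G := IsPGroup.of_card (n := 1) (by rw [hcard, pow_one])
  letI := Fintype.ofFinite G
  have hcard' : Fintype.card G = p := by rw [← Nat.card_eq_fintype_card]; exact hcard
  have hn : ringKrullDim A = ((IsLocalRing.maximalIdeal A).spanFinrank : ℕ) :=
    (IsRegularLocalRing.spanFinrank_maximalIdeal (R := A)).symm
  obtain ⟨hnoeth, hfin⟩ := WildFixed.noetherian_and_finite p A k hk G hG hGk _ hn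
  haveI := hnoeth
  haveI := hfin
  haveI hloc : IsLocalRing (FixedPoints.subring A G) := WildFixed.isLocalRing_fixed A G
  haveI : Module.Free (FixedPoints.subring A G) A := Module.free_of_flat_of_isLocalRing
  -- the action is faithful
  have hm_ne_bot : (⊥ : Ideal A) ≠ IsLocalRing.maximalIdeal A := by
    intro h
    have hF : IsField A := IsLocalRing.isField_iff_maximalIdeal_eq.mpr h.symm
    have h0 : ringKrullDim A = 0 := ringKrullDim_eq_zero_of_isField hF
    rw [h0] at hdim
    exact absurd hdim (by norm_num)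
  haveI hfaith : FaithfulSMul G A := by
    constructor
    intro σ σ' h
    have hin := hram ⊥ Ideal.isPrime_bot hm_ne_bot
    have hmem : σ'⁻¹ * σ ∈ (⊥ : Ideal A).inertia G := by
      intro a
      show (σ'⁻¹ * σ) • a - a ∈ (⊥ : Ideal A)
      rw [Ideal.mem_bot, sub_eq_zero, mul_smul, h a, inv_smul_smul]
    rw [hin, Subgroup.mem_bot] at hmem
    exact (inv_mul_eq_one.mp hmem).symm
  haveI hgal : IsGaloisGroup G (FixedPoints.subring A G) A :=
    { faithful := hfaith
      commutes := ⟨fun σ b a => by
        rw [Subring.smul_def, Subring.smul_def, smul_eq_mul, smul_eq_mul, smul_mul', b.2 σ]⟩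
      isInvariant := ⟨fun a ha => ⟨⟨a, ha⟩, rfl⟩⟩ }
  have hrank : Nat.card G = Module.finrank (FixedPoints.subring A G) A :=
    IsGaloisGroup.card_eq_finrank' G (FixedPoints.subring A G) A
  -- a basis indexed by `G`
  let bas0 := Module.finBasis (FixedPoints.subring A G) A
  have hc : Fintype.card G = Fintype.card (Fin (Module.finrank (FixedPoints.subring A G) A)) := by
    rw [Fintype.card_fin, ← hrank, Nat.card_eq_fintype_card]
  let eqv : G ≃ Fin (Module.finrank (FixedPoints.subring A G) A) := Fintype.equivOfCardEq hc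
  let bas := bas0.reindex eqv.symm
  let e : G → A := fun τ => bas τ
  have hspan : ∀ a : A, ∃ b : G → FixedPoints.subring A G, a = ∑ τ, (b τ : A) * e τ := by
    intro a
    refine ⟨fun τ => bas.repr a τ, ?_⟩
    have := bas.sum_repr a
    conv_lhs => rw [← this]
    refine Finset.sum_congr rfl fun τ _ => ?_
    rw [Subring.smul_def, smul_eq_mul]
  have hsub := WildFixed.smul_sub_mem hk hGk (G := G)
  have htr_inv : ∀ a : A, ∀ ρ : G, ρ • (∑ σ : G, σ • a) = ∑ σ : G, σ • a := by
    intro a ρ
    rw [Finset.smul_sum]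
    simp only [smul_smul]
    exact Fintype.sum_equiv (Equiv.mulLeft ρ) _ _ (fun σ => rfl)
  let M : Matrix G G A := Matrix.of fun σ τ => σ • e τ
  let NB : Matrix G G (FixedPoints.subring A G) :=
    Matrix.of fun τ τ' => ⟨∑ σ : G, σ • (e τ * e τ'), htr_inv _⟩
  have hN : (FixedPoints.subring A G).subtype.mapMatrix NB = M.transpose * M := by
    ext τ τ'
    simp only [RingHom.mapMatrix_apply, Matrix.map_apply, Matrix.mul_apply, Matrix.transpose_apply,
      M, NB, Matrix.of_apply, Subring.coe_subtype]
    refine Finset.sum_congr rfl fun σ _ => ?_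
    rw [smul_mul']
  have hdetcoe : ((NB.det : FixedPoints.subring A G) : A) =
      ((FixedPoints.subring A G).subtype.mapMatrix NB).det := by
    rw [← RingHom.map_det]; rfl
  have hDA : ((NB.det : FixedPoints.subring A G) : A) = M.det ^ 2 := by
    rw [hdetcoe, hN, Matrix.det_mul, Matrix.det_transpose, sq]
  have hDm : ((NB.det : FixedPoints.subring A G) : A) ∈ IsLocalRing.maximalIdeal A := by
    rw [← IsLocalRing.residue_eq_zero_iff, hdetcoe, RingHom.map_det]
    have h2 : (IsLocalRing.residue A).mapMatrix
        ((FixedPoints.subring A G).subtype.mapMatrix NB) = 0 := by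
      ext τ τ'
      simp only [RingHom.mapMatrix_apply, Matrix.map_apply, Matrix.zero_apply, NB, Matrix.of_apply,
        Subring.coe_subtype]
      rw [IsLocalRing.residue_eq_zero_iff]
      exact trace_mem p hcard' hsub _
    rw [h2]
    haveI : Nonempty G := ⟨1⟩
    exact Matrix.det_zero
  have hDmB : NB.det ∈ IsLocalRing.maximalIdeal (FixedPoints.subring A G) :=
    (WildFixed.mem_maximalIdeal_fixed_iff A G NB.det).mpr hDm
  have hne_top : Ideal.span ({NB.det} : Set (FixedPoints.subring A G)) ≠ ⊤ := by
    intro h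
    have h1 : Ideal.span ({NB.det} : Set (FixedPoints.subring A G)) ≤
        IsLocalRing.maximalIdeal _ := by
      rw [Ideal.span_singleton_le_iff_mem]; exact hDmB
    rw [h, top_le_iff] at h1
    exact (IsLocalRing.maximalIdeal.isMaximal _).ne_top h1
  obtain ⟨⟨q, hq⟩⟩ := Ideal.nonempty_minimalPrimes hne_top
  haveI hqprime : q.IsPrime := hq.1.1
  have hqht : q.height ≤ 1 := Ideal.height_le_one_of_isPrincipal_of_mem_minimalPrimes _ q hq
  haveI : Algebra.IsIntegral (FixedPoints.subring A G) A := Algebra.IsIntegral.of_finite _ _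
  have hdimB : ringKrullDim A = ringKrullDim (FixedPoints.subring A G) :=
    Groth.Agent.Lib.Helper55.ringKrullDim_eq_of_isIntegral_of_injective
      (FixedPoints.subring A G) A Subtype.val_injective
  have hq_ne : q ≠ IsLocalRing.maximalIdeal (FixedPoints.subring A G) := by
    intro h
    rw [h] at hqht
    have h1 := IsLocalRing.maximalIdeal_height_eq_ringKrullDim (R := FixedPoints.subring A G)
    rw [← hdimB] at h1
    have h2 : ((2 : ℕ∞) : WithBot ℕ∞) ≤
        ((IsLocalRing.maximalIdeal (FixedPoints.subring A G)).height : WithBot ℕ∞) := by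
      rw [h1]; exact hdim
    have h3 : (2 : ℕ∞) ≤ (IsLocalRing.maximalIdeal (FixedPoints.subring A G)).height :=
      WithBot.coe_le_coe.mp h2
    have := le_trans h3 hqht
    exact absurd this (by norm_num)
  obtain ⟨P, -, hPprime, hPq⟩ := Ideal.exists_ideal_over_prime_of_isIntegral (S := A) q
    (⊥ : Ideal A) (by
      intro x hx
      have h0 : algebraMap (FixedPoints.subring A G) A x = 0 := hx
      have : x = 0 := Subtype.ext h0
      rw [this]; exact q.zero_mem)
  haveI := hPprime
  have hP_ne : P ≠ IsLocalRing.maximalIdeal A := by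
    intro h
    apply hq_ne
    rw [← hPq, h]
    ext b
    rw [Ideal.mem_comap, WildFixed.mem_maximalIdeal_fixed_iff]
    rfl
  have hDP : ((NB.det : FixedPoints.subring A G) : A) ∈ P := by
    have h1 : NB.det ∈ q := hq.1.2 (Ideal.mem_span_singleton_self _)
    rw [← hPq] at h1
    exact h1
  have hdetP : M.det ∈ P := by
    rw [hDA] at hDP
    exact hPprime.mem_of_pow_mem 2 hDP
  obtain ⟨τ, hτ1, hτ⟩ := exists_inertia_of_det_mem e hspan P hdetP
  have hτin : τ ∈ P.inertia G := hτ
  rw [hram P hPprime hP_ne, Subgroup.mem_bot] at hτin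
  exact hτ1 hτin

end Groth.Agent.S15794
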