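import Groth.Statements.S15796
import Mathlib

set_option autoImplicit false
universe u v
open WildQuot

namespace Groth.Agent.S15796

theorem result
    (A : Type u) [CommRing A] [IsLocalRing A] [IsNoetherianRing A]
    (G : Type v) [Group G] [Finite G] [MulSemiringAction G A]
    (n : ℕ) (hn : ringKrullDim A = n) (u : Fin n → A)
    (hu : Ideal.span (Set.range u) = IsLocalRing.maximalIdeal A)
    (σ : G) (i : Fin n) (hσ : σ • u i ∈ Ideal.span (u '' {j | j ≠ i})) :
    ∃ τ : Fin n → G,
      ¬ IsLocalRing.maximalIdeal A ≤ (Ideal.span (Set.range fun j => τ j • u j)).radical := by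
  classical
  refine ⟨fun j => if j = i then σ else 1, ?_⟩
  intro hle
  set S : Finset A := (Finset.univ.erase i).image u with hS
  have hScoe : (S : Set A) = u '' {j | j ≠ i} := by
    ext a; simp [hS]
  have hK : Ideal.span (Set.range fun j => (if j = i then σ else 1) • u j) ≤ Ideal.span (S : Set A) := by
    rw [Ideal.span_le]
    rintro _ ⟨j, rfl⟩
    by_cases hj : j = i
    · subst hj
      simp only [if_true]
      rw [hScoe]; exact hσ
    · simp only [if_neg hj, one_smul]
      apply Ideal.subset_span
      rw [hScoe]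
      exact ⟨j, hj, rfl⟩
  have hle' : IsLocalRing.maximalIdeal A ≤ (Ideal.span (S : Set A)).radical :=
    hle.trans (Ideal.radical_mono hK)
  have hSm : Ideal.span (S : Set A) ≤ IsLocalRing.maximalIdeal A := by
    rw [← hu]
    apply Ideal.span_mono
    rw [hScoe]
    rintro _ ⟨j, _, rfl⟩
    exact ⟨j, rfl⟩
  have hmin : IsLocalRing.maximalIdeal A ∈ (Ideal.span (S : Set A)).minimalPrimes := by
    refine ⟨⟨inferInstance, hSm⟩, ?_⟩
    rintro q ⟨hq, hSq⟩ _
    exact hle'.trans (hq.radical_le_iff.2 hSq)
  have hht := Ideal.height_le_card_of_mem_minimalPrimes_span_finset hmin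
  have hcard : S.card ≤ n - 1 := by
    calc S.card ≤ (Finset.univ.erase i).card := Finset.card_image_le
      _ = n - 1 := by rw [Finset.card_erase_of_mem (Finset.mem_univ i), Finset.card_univ, Fintype.card_fin]
  have hdim : ((IsLocalRing.maximalIdeal A).height : WithBot ℕ∞) = (n : WithBot ℕ∞) := by
    rw [IsLocalRing.maximalIdeal_height_eq_ringKrullDim, hn]
  have hht' : (IsLocalRing.maximalIdeal A).height = (n : ℕ∞) := by
    exact_mod_cast hdim
  rw [hht'] at hht
  have : n ≤ S.card := by exact_mod_cast hht
  have hnpos : 0 < n := i.pos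
  omega

end Groth.Agent.S15796
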