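import Groth.Statements.S15797
import Mathlib
import Groth.Agent.Lib.Helper28.RegularCM

set_option autoImplicit false
universe u v
open WildQuot

namespace Groth.Agent.S15797

lemma length_congr {A : Type*} [CommRing A] {I I' : Ideal A} (h : I = I') :
    Module.length A (A ⧸ I) = Module.length A (A ⧸ I') := by
  subst h; rfl

/-- `ℓ(A/(J + (ab))) = ℓ(A/(J + (a))) + ℓ(A/(J + (b)))` when `a` is a non-zero-divisor modulo `J`. -/
lemma length_mul_eq {A : Type*} [CommRing A] (J : Ideal A) (a b : A)
    (ha : ∀ y, a * y ∈ J → y ∈ J) :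
    Module.length A (A ⧸ (J ⊔ Ideal.span {a * b})) =
      Module.length A (A ⧸ (J ⊔ Ideal.span {b})) + Module.length A (A ⧸ (J ⊔ Ideal.span {a})) := by
  have h12 : J ⊔ Ideal.span {a * b} ≤ J ⊔ Ideal.span {a} := by
    refine sup_le le_sup_left (le_sup_of_le_right ?_)
    rw [Ideal.span_singleton_le_iff_mem]
    exact Ideal.mul_mem_right _ _ (Ideal.mem_span_singleton_self a)
  have h31 : J ⊔ Ideal.span {b} ≤
      Submodule.comap (LinearMap.mulLeft A a) (J ⊔ Ideal.span {a * b}) := by
    refine sup_le ?_ ?_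
    · intro x hx
      simp only [Submodule.mem_comap, LinearMap.mulLeft_apply]
      exact Ideal.mem_sup_left (Ideal.mul_mem_left _ _ hx)
    · rw [Ideal.span_singleton_le_iff_mem]
      simp only [Submodule.mem_comap, LinearMap.mulLeft_apply]
      exact Ideal.mem_sup_right (Ideal.mem_span_singleton_self _)
  let g : (A ⧸ (J ⊔ Ideal.span {a * b})) →ₗ[A] (A ⧸ (J ⊔ Ideal.span {a})) := Submodule.factor h12
  let f : (A ⧸ (J ⊔ Ideal.span {b})) →ₗ[A] (A ⧸ (J ⊔ Ideal.span {a * b})) :=
    Submodule.mapQ _ _ (LinearMap.mulLeft A a) h31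
  have hg : Function.Surjective g := Submodule.factor_surjective h12
  have hf : Function.Injective f := by
    rw [← LinearMap.ker_eq_bot, LinearMap.ker_eq_bot']
    intro y hy
    obtain ⟨y, rfl⟩ := Submodule.mkQ_surjective _ y
    simp only [f, Submodule.mkQ_apply, Submodule.mapQ_apply, LinearMap.mulLeft_apply,
      Submodule.Quotient.mk_eq_zero] at hy ⊢
    obtain ⟨j, hj, z, hz, hjz⟩ := Submodule.mem_sup.mp hy
    obtain ⟨c, rfl⟩ := Ideal.mem_span_singleton'.mp hz
    have h1 : a * (y - c * b) ∈ J := by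
      have : a * (y - c * b) = j := by linear_combination -hjz
      rw [this]; exact hj
    have h2 := ha _ h1
    have : y = (y - c * b) + c * b := by ring
    rw [this]
    exact Ideal.add_mem _ (Ideal.mem_sup_left h2)
      (Ideal.mem_sup_right (Ideal.mul_mem_left _ _ (Ideal.mem_span_singleton_self b)))
  have H : Function.Exact f g := by
    intro y
    constructor
    · intro hy
      obtain ⟨y, rfl⟩ := Submodule.mkQ_surjective _ y
      have hy' : y ∈ J ⊔ Ideal.span {a} := by
        have : (Submodule.mkQ (J ⊔ Ideal.span {a})) y = 0 := by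
          simpa [g, Submodule.factor_mk] using hy
        exact (Submodule.Quotient.mk_eq_zero _).mp this
      obtain ⟨j, hj, z, hz, rfl⟩ := Submodule.mem_sup.mp hy'
      obtain ⟨c, rfl⟩ := Ideal.mem_span_singleton'.mp hz
      refine ⟨Submodule.mkQ _ c, ?_⟩
      simp only [f, Submodule.mkQ_apply, Submodule.mapQ_apply, LinearMap.mulLeft_apply]
      rw [eq_comm, ← sub_eq_zero, ← Submodule.Quotient.mk_sub, Submodule.Quotient.mk_eq_zero]
      have : j + c * a - a * c = j := by ring
      rw [this]
      exact Ideal.mem_sup_left hj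
    · rintro ⟨x, rfl⟩
      obtain ⟨x, rfl⟩ := Submodule.mkQ_surjective _ x
      simp only [f, g, Submodule.mkQ_apply, Submodule.mapQ_apply, LinearMap.mulLeft_apply]
      change Submodule.factor h12 (Submodule.mkQ _ (a * x)) = 0
      rw [Submodule.factor_mk]
      simp only [Submodule.mkQ_apply, Submodule.Quotient.mk_eq_zero]
      exact Ideal.mem_sup_right (Ideal.mul_mem_right _ _ (Ideal.mem_span_singleton_self a))
  exact Module.length_eq_add_of_exact f g hf hg H

/-- Finite-product version of `length_mul_eq` (as an inequality). -/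
lemma length_prod_ge {A : Type*} [CommRing A] {ι : Type*} (s : Finset ι) (J : Ideal A) (v : ι → A)
    (hv : ∀ i ∈ s, ∀ y, v i * y ∈ J → y ∈ J) :
    ∑ i ∈ s, Module.length A (A ⧸ (J ⊔ Ideal.span {v i})) ≤
      Module.length A (A ⧸ (J ⊔ Ideal.span {∏ i ∈ s, v i})) := by
  classical
  induction s using Finset.induction_on with
  | empty => simp
  | insert i s hi ih =>
    rw [Finset.prod_insert hi, Finset.sum_insert hi,
      length_mul_eq J (v i) _ (hv i (Finset.mem_insert_self i s)), add_comm]
    gcongr
    exact ih (fun j hj => hv j (Finset.mem_insert_of_mem hj))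

section Main

variable {A : Type*} [CommRing A] {G : Type*} [Group G] [Fintype G] [MulSemiringAction G A]

/-- The norm of an element. -/
def nrm (G : Type*) [Group G] [Fintype G] {A : Type*} [CommRing A] [MulSemiringAction G A]
    (a : A) : A := ∏ σ : G, σ • a

/-- The regularity conditions used along the induction. -/
def Good (G : Type*) [Group G] [Fintype G] {A : Type*} [CommRing A] [MulSemiringAction G A] :
    Ideal A → List A → Prop
  | _, [] => True
  | J, a :: l => (∀ σ : G, ∀ y, (σ • a) * y ∈ J ⊔ Ideal.ofList (l.map (nrm G)) →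
        y ∈ J ⊔ Ideal.ofList (l.map (nrm G))) ∧
      ∀ σ : G, Good G (J ⊔ Ideal.span {σ • a}) l

/-- The uniform lower bound for all choices of conjugates. -/
def LB (G : Type*) [Group G] [Fintype G] {A : Type*} [CommRing A] [MulSemiringAction G A]
    (c : ℕ∞) : Ideal A → List A → Prop
  | J, [] => c ≤ Module.length A (A ⧸ J)
  | J, a :: l => ∀ σ : G, LB G c (J ⊔ Ideal.span {σ • a}) l

lemma main_ind (c : ℕ∞) : ∀ (l : List A) (J : Ideal A), Good G J l → LB G c J l →
    (Fintype.card G : ℕ∞) ^ l.length * c ≤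
      Module.length A (A ⧸ (J ⊔ Ideal.ofList (l.map (nrm G)))) := by
  intro l
  induction l with
  | nil =>
    intro J _ h
    have e : J ⊔ Ideal.ofList (([] : List A).map (nrm G)) = J := by simp
    rw [length_congr e]
    have h' : c ≤ Module.length A (A ⧸ J) := h
    simpa using h'
  | cons a l ih =>
    intro J hgood hlb
    obtain ⟨hg1, hg2⟩ := hgood
    have e : J ⊔ Ideal.ofList ((a :: l).map (nrm G)) =
        (J ⊔ Ideal.ofList (l.map (nrm G))) ⊔ Ideal.span {∏ σ : G, σ • a} := by
      rw [List.map_cons, Ideal.ofList_cons, sup_comm (Ideal.span _), sup_assoc]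
      rfl
    rw [length_congr e]
    refine le_trans ?_ (length_prod_ge Finset.univ _ (fun σ : G => σ • a)
      (fun σ _ => hg1 σ))
    have hterm : ∀ σ : G, (Fintype.card G : ℕ∞) ^ l.length * c ≤
        Module.length A (A ⧸ ((J ⊔ Ideal.ofList (l.map (nrm G))) ⊔ Ideal.span {σ • a})) := by
      intro σ
      have e1 : (J ⊔ Ideal.ofList (l.map (nrm G))) ⊔ Ideal.span {σ • a} =
          (J ⊔ Ideal.span {σ • a}) ⊔ Ideal.ofList (l.map (nrm G)) := by
        rw [sup_assoc, sup_assoc, sup_comm (Ideal.span {σ • a})]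
      rw [length_congr e1]
      exact ih _ (hg2 σ) (hlb σ)
    calc (Fintype.card G : ℕ∞) ^ (a :: l).length * c
        = ∑ _σ : G, (Fintype.card G : ℕ∞) ^ l.length * c := by
          rw [Finset.sum_const, Finset.card_univ, nsmul_eq_mul, List.length_cons, pow_succ]
          ring
      _ ≤ _ := Finset.sum_le_sum (fun σ _ => hterm σ)

/-- The relation "`b` is a conjugate of `a` or the norm of `a`". -/
def Rel (G : Type*) [Group G] [Fintype G] {A : Type*} [CommRing A] [MulSemiringAction G A]
    (a b : A) : Prop := (∃ σ : G, b = σ • a) ∨ b = nrm G a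

/-- The relation "`b` is a conjugate of `a`". -/
def Rel' (G : Type*) [Group G] [Fintype G] {A : Type*} [CommRing A] [MulSemiringAction G A]
    (a b : A) : Prop := ∃ σ : G, b = σ • a

lemma forall₂_map_nrm (l : List A) : List.Forall₂ (Rel G) l (l.map (nrm G)) := by
  induction l with
  | nil => exact List.Forall₂.nil
  | cons a l ih => exact List.Forall₂.cons (Or.inr rfl) ih

lemma good_of (S : List A → Prop) (hperm : ∀ l₁ l₂ : List A, l₁.Perm l₂ → S l₁ → S l₂)
    (hS : ∀ (rs : List A) (a : A), S (rs ++ [a]) →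
      ∀ y, a * y ∈ Ideal.ofList rs → y ∈ Ideal.ofList rs) :
    ∀ (l js : List A), (∀ m, List.Forall₂ (Rel G) l m → S (js ++ m)) →
      Good G (Ideal.ofList js) l := by
  intro l
  induction l with
  | nil => intro js _; trivial
  | cons a l ih =>
    intro js h
    refine ⟨?_, ?_⟩
    · intro σ y hy
      have hm : List.Forall₂ (Rel G) (a :: l) ((σ • a) :: l.map (nrm G)) :=
        List.Forall₂.cons (Or.inl ⟨σ, rfl⟩) (forall₂_map_nrm l)
      have h1 := h _ hm
      have hp : (js ++ (σ • a) :: l.map (nrm G)).Perm ((js ++ l.map (nrm G)) ++ [σ • a]) :=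
        List.perm_middle.trans (List.perm_append_singleton _ _).symm
      have h2 := hS _ _ (hperm _ _ hp h1) y
      rw [Ideal.ofList_append] at h2
      exact h2 hy
    · intro σ
      have e : Ideal.ofList js ⊔ Ideal.span {σ • a} = Ideal.ofList (js ++ [σ • a]) := by
        rw [Ideal.ofList_append, Ideal.ofList_singleton]
      rw [e]
      refine ih (js ++ [σ • a]) (fun m hm => ?_)
      have := h ((σ • a) :: m) (List.Forall₂.cons (Or.inl ⟨σ, rfl⟩) hm)
      rwa [List.append_assoc, List.singleton_append]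

lemma lb_of (c : ℕ∞) : ∀ (l js : List A),
    (∀ m, List.Forall₂ (Rel' G) l m → c ≤ Module.length A (A ⧸ Ideal.ofList (js ++ m))) →
      LB G c (Ideal.ofList js) l := by
  intro l
  induction l with
  | nil =>
    intro js h
    have := h [] List.Forall₂.nil
    rw [List.append_nil] at this
    exact this
  | cons a l ih =>
    intro js h σ
    have e : Ideal.ofList js ⊔ Ideal.span {σ • a} = Ideal.ofList (js ++ [σ • a]) := by
      rw [Ideal.ofList_append, Ideal.ofList_singleton]
    rw [e]
    refine ih (js ++ [σ • a]) (fun m hm => ?_)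
    have := h ((σ • a) :: m) (List.Forall₂.cons ⟨σ, rfl⟩ hm)
    rwa [List.append_assoc, List.singleton_append]

lemma forall₂_exists_right {R : A → A → Prop} : ∀ {l m : List A}, List.Forall₂ R l m →
    ∀ b ∈ m, ∃ a ∈ l, R a b := by
  intro l m h
  induction h with
  | nil => intro b hb; simp at hb
  | cons hab _ ih =>
    intro b hb
    rcases List.mem_cons.mp hb with rfl | hb
    · exact ⟨_, List.mem_cons_self, hab⟩
    · obtain ⟨a, ha, hr⟩ := ih b hb
      exact ⟨a, List.mem_cons_of_mem _ ha, hr⟩

lemma forall₂_exists_left {R : A → A → Prop} : ∀ {l m : List A}, List.Forall₂ R l m →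
    ∀ a ∈ l, ∃ b ∈ m, R a b := by
  intro l m h
  induction h with
  | nil => intro b hb; simp at hb
  | cons hab _ ih =>
    intro a ha
    rcases List.mem_cons.mp ha with rfl | ha
    · exact ⟨_, List.mem_cons_self, hab⟩
    · obtain ⟨b, hb, hr⟩ := ih a ha
      exact ⟨b, List.mem_cons_of_mem _ hb, hr⟩

end Main

section CM

variable {A : Type u} [CommRing A] [IsRegularLocalRing A]

lemma supportDim_congr {I I' : Submodule A A} (h : I = I') :
    Module.supportDim A (A ⧸ I) = Module.supportDim A (A ⧸ I') := by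
  subst h; rfl

/-- In a regular local ring a system of parameters is a (weakly) regular sequence. -/
lemma isWeaklyRegular_of_sop (n : ℕ) (hn : ringKrullDim A = n) (rs : List A)
    (hlen : rs.length = n) (hmem : ∀ r ∈ rs, r ∈ IsLocalRing.maximalIdeal A)
    (hrad : IsLocalRing.maximalIdeal A ≤ (Ideal.ofList rs).radical) :
    RingTheory.Sequence.IsWeaklyRegular A rs := by
  have hCM := Groth.Agent.Lib.Helper28.isCohenMacaulayModule_self_of_isRegularLocalRing A
  rw [Groth.Agent.Lib.Helper29.isWeaklyRegular_iff_supportDim_of_isCohenMacaulayModule A A hCM rs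
    hmem]
  rw [Module.supportDim_self_eq_ringKrullDim, hn, hlen]
  have e : (Ideal.ofList rs • (⊤ : Submodule A A)) = Ideal.ofList rs := by
    rw [smul_eq_mul, Ideal.mul_top]
  rw [supportDim_congr e, Module.supportDim_quotient_eq_ringKrullDim, ringKrullDim_quotient]
  have hle : Ideal.ofList rs ≤ IsLocalRing.maximalIdeal A := by
    rw [Ideal.ofList, Ideal.span_le]
    exact fun r hr => hmem r hr
  have : Order.krullDim (PrimeSpectrum.zeroLocus (R := A) (Ideal.ofList rs : Ideal A)) = 0 := by
    haveI : Nonempty (PrimeSpectrum.zeroLocus (R := A) (Ideal.ofList rs : Ideal A)) :=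
      ⟨⟨IsLocalRing.closedPoint A, hle⟩⟩
    haveI : Subsingleton (PrimeSpectrum.zeroLocus (R := A) (Ideal.ofList rs : Ideal A)) := by
      have hall : ∀ P : PrimeSpectrum.zeroLocus (R := A) (Ideal.ofList rs : Ideal A),
          P.1 = IsLocalRing.closedPoint A := by
        rintro ⟨P, hP⟩
        have h1 : IsLocalRing.maximalIdeal A ≤ P.asIdeal :=
          hrad.trans ((Ideal.IsPrime.radical_le_iff P.2).mpr hP)
        have h2 : P.asIdeal ≤ IsLocalRing.maximalIdeal A := IsLocalRing.le_maximalIdeal P.2.ne_top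
        exact PrimeSpectrum.ext (le_antisymm h2 h1)
      exact ⟨fun P Q => Subtype.ext ((hall P).trans (hall Q).symm)⟩
    exact Order.krullDim_eq_zero
  rw [this]
  simp

end CM

/-- Let `A` be a regular local ring of Krull dimension `n` with maximal ideal `m` generated by `u_1, …,
u_n`, let a finite group `G` of order `g` act on `A` by ring automorphisms, and suppose `u` is
weakly admissible: for every choice `σ_1, …, σ_n ∈ G` the radical of `(σ_1 u_1, …, σ_n u_n)`
contains `m`. With `x_i = ∏_{σ ∈ G} σ u_i` the norms, the length of `A / (x_1, …, x_n)` is at least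
`g ^ n` (so the finite flat map from `k[[x_1, …, x_n]]` has degree at least `g ^ n`). (The published
statement is for a complete regular local ring containing a `G`-fixed field of representatives; this
row does not assume those.) -/
theorem result
    (A : Type u) [CommRing A] [IsRegularLocalRing A]
    (G : Type v) [Group G] [Fintype G] [MulSemiringAction G A]
    (n : ℕ) (hn : ringKrullDim A = n) (u : Fin n → A)
    (hu : Ideal.span (Set.range u) = IsLocalRing.maximalIdeal A)
    (hwa : ∀ τ : Fin n → G,
      IsLocalRing.maximalIdeal A ≤ (Ideal.span (Set.range fun i => τ i • u i)).radical) :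
    ((Fintype.card G ^ n : ℕ) : ℕ∞) ≤
      Module.length A (A ⧸ Ideal.span (Set.range fun i => ∏ σ : G, σ • u i)) := by
  classical
  have hu_mem : ∀ i, u i ∈ IsLocalRing.maximalIdeal A := fun i => by
    rw [← hu]; exact Ideal.subset_span ⟨i, rfl⟩
  have hsmul_mem : ∀ (σ : G) (a : A), a ∈ IsLocalRing.maximalIdeal A →
      σ • a ∈ IsLocalRing.maximalIdeal A := by
    intro σ a ha
    rw [IsLocalRing.mem_maximalIdeal, mem_nonunits_iff] at ha ⊢
    intro h
    apply ha
    have := h.map (MulSemiringAction.toRingHom G A σ⁻¹)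
    simpa using this
  have hnrm_mem : ∀ a, a ∈ IsLocalRing.maximalIdeal A → nrm G a ∈ IsLocalRing.maximalIdeal A := by
    intro a ha
    have h1 : (1 : G) • a ∣ nrm G a :=
      Finset.dvd_prod_of_mem (fun σ : G => σ • a) (Finset.mem_univ 1)
    rw [one_smul] at h1
    obtain ⟨c, hc⟩ := h1
    rw [hc]
    exact Ideal.mul_mem_right _ _ ha
  have hofFn_mem : ∀ a ∈ List.ofFn u, a ∈ IsLocalRing.maximalIdeal A := by
    intro a ha
    obtain ⟨i, rfl⟩ := (List.mem_ofFn' u a).mp ha
    exact hu_mem i
  have hRel_mem : ∀ a b, a ∈ IsLocalRing.maximalIdeal A → Rel G a b →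
      b ∈ IsLocalRing.maximalIdeal A := by
    rintro a b ha (⟨σ, rfl⟩ | rfl)
    · exact hsmul_mem σ a ha
    · exact hnrm_mem a ha
  -- systems of parameters
  let S : List A → Prop := fun rs => rs.length = n ∧
    (∀ r ∈ rs, r ∈ IsLocalRing.maximalIdeal A) ∧
    IsLocalRing.maximalIdeal A ≤ (Ideal.ofList rs).radical
  have hperm : ∀ l₁ l₂ : List A, l₁.Perm l₂ → S l₁ → S l₂ := by
    rintro l₁ l₂ hp ⟨h1, h2, h3⟩
    refine ⟨hp.length_eq ▸ h1, fun r hr => h2 r (hp.mem_iff.mpr hr), ?_⟩
    have : Ideal.ofList l₂ = Ideal.ofList l₁ := by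
      unfold Ideal.ofList
      congr 1
      ext x
      exact hp.mem_iff.symm
    rw [this]; exact h3
  have key : ∀ (N : Submodule A A) (b : A), IsSMulRegular (A ⧸ N) b →
      ∀ y, b * y ∈ N → y ∈ N := by
    intro N b hreg y hy
    have h1 : b • (Submodule.Quotient.mk y : A ⧸ N) = b • (0 : A ⧸ N) := by
      rw [smul_zero, ← Submodule.Quotient.mk_smul, Submodule.Quotient.mk_eq_zero]
      exact hy
    exact (Submodule.Quotient.mk_eq_zero N).mp (hreg h1)
  have hS : ∀ (rs : List A) (a : A), S (rs ++ [a]) →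
      ∀ y, a * y ∈ Ideal.ofList rs → y ∈ Ideal.ofList rs := by
    rintro rs a ⟨h1, h2, h3⟩ y hy
    have hwr := isWeaklyRegular_of_sop n hn (rs ++ [a]) h1 h2 h3
    have hreg := hwr.regular_mod_prev rs.length (by simp)
    have h4 := key _ _ hreg y
    have eN : (Ideal.ofList ((rs ++ [a]).take rs.length) • (⊤ : Submodule A A)) =
        Ideal.ofList rs := by
      rw [List.take_left' rfl, smul_eq_mul, Ideal.mul_top]
    have eb : (rs ++ [a])[rs.length]'(by simp) = a := by simp
    rw [eN, eb] at h4
    exact h4 hy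
  have hSm : ∀ m, List.Forall₂ (Rel G) (List.ofFn u) m → S m := by
    intro m hm
    refine ⟨?_, ?_, ?_⟩
    · rw [← hm.length_eq, List.length_ofFn]
    · intro b hb
      obtain ⟨a, ha, hab⟩ := forall₂_exists_right hm b hb
      exact hRel_mem a b (hofFn_mem a ha) hab
    · rw [Ideal.radical_eq_sInf]
      refine le_sInf ?_
      rintro P ⟨hP, hPprime⟩
      have hex : ∀ i, ∃ σ : G, σ • u i ∈ P := by
        intro i
        obtain ⟨b, hb, hab⟩ := forall₂_exists_left hm (u i) ((List.mem_ofFn' u _).mpr ⟨i, rfl⟩)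
        have hbP : b ∈ P := hP (Ideal.subset_span hb)
        rcases hab with ⟨σ, rfl⟩ | rfl
        · exact ⟨σ, hbP⟩
        · obtain ⟨σ, -, hσ⟩ := hPprime.prod_mem_iff.mp hbP
          exact ⟨σ, hσ⟩
      choose τ hτ using hex
      refine (hwa τ).trans ((Ideal.IsPrime.radical_le_iff hPprime).mpr ?_)
      rw [Ideal.span_le]
      rintro _ ⟨i, rfl⟩
      exact hτ i
  have hgood : Good G (Ideal.ofList ([] : List A)) (List.ofFn u) :=
    good_of S hperm hS (List.ofFn u) [] (fun m hm => by simpa using hSm m hm)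
  have hlb : LB G 1 (Ideal.ofList ([] : List A)) (List.ofFn u) := by
    refine lb_of 1 (List.ofFn u) [] (fun m hm => ?_)
    rw [List.nil_append, ENat.one_le_iff_ne_zero, Ne, Module.length_eq_zero_iff,
      Ideal.Quotient.subsingleton_iff]
    intro htop
    have hle : Ideal.ofList m ≤ IsLocalRing.maximalIdeal A := by
      rw [Ideal.ofList, Ideal.span_le]
      intro b hb
      obtain ⟨a, ha, σ, rfl⟩ := forall₂_exists_right hm b hb
      exact hsmul_mem σ a (hofFn_mem a ha)
    rw [htop] at hle
    exact (IsLocalRing.maximalIdeal.isMaximal A).ne_top (top_le_iff.mp hle)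
  have hmain := main_ind (G := G) 1 (List.ofFn u) (Ideal.ofList []) hgood hlb
  have e : Ideal.ofList ([] : List A) ⊔ Ideal.ofList ((List.ofFn u).map (nrm G)) =
      Ideal.span (Set.range fun i => ∏ σ : G, σ • u i) := by
    rw [Ideal.ofList_nil, bot_sup_eq]
    unfold Ideal.ofList
    congr 1
    ext x
    simp only [List.map_ofFn, Set.mem_setOf_eq, Set.mem_range]
    rw [List.mem_ofFn']
    rfl
  rw [length_congr e, List.length_ofFn, mul_one] at hmain
  push_cast
  exact hmain

end Groth.Agent.S15797
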