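import Groth.Statements.S15798
import Mathlib
import Groth.Agent.S15794
import Groth.Agent.Lib.Helper99.WildFixed
import Groth.Agent.Lib.Helper55.KrullDimIntegral
import Groth.Agent.Lib.Helper85.RegularLocal
import Groth.Agent.Lib.Helper73.RegularNormal
import Groth.Agent.Lib.Helper75.CompletedModules
import Groth.Agent.Lib.Helper44.RigPoint
import Groth.Agent.Lib.Helper61.PSLocal
-- import your own Groth.Agent.* helpers here

set_option autoImplicit false
universe u v w
open WildQuot

namespace Groth.Agent.S15798

open Groth.Agent.Lib.Helper99

set_option linter.style.haveILetI false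

/-- the ring of invariants of a group acting on an integrally closed domain is integrally closed -/
theorem fixedPoints_ic {A : Type*} [CommRing A] [IsDomain A] [IsIntegrallyClosed A]
    {G : Type*} [Group G] [MulSemiringAction G A] :
    IsIntegrallyClosed (FixedPoints.subring A G) := by
  obtain ⟨S, hS⟩ : ∃ S : Subring A, S = FixedPoints.subring A G := ⟨_, rfl⟩
  rw [← hS]
  have hmem : ∀ x : A, x ∈ S ↔ ∀ σ : G, σ • x = x := by
    intro x
    rw [hS]
    exact Iff.rfl
  rw [isIntegrallyClosed_iff (FractionRing S)]
  intro x hx
  have hinj : Function.Injective ((algebraMap A (FractionRing A)).comp S.subtype) :=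
    (IsFractionRing.injective A (FractionRing A)).comp Subtype.val_injective
  have hj : ∀ s : S, IsFractionRing.lift hinj (algebraMap S (FractionRing S) s) =
      algebraMap A (FractionRing A) (s : A) :=
    fun s => IsFractionRing.lift_algebraMap hinj s
  have hint : IsIntegral A (IsFractionRing.lift hinj x) :=
    IsIntegral.map_of_comp_eq S.subtype (IsFractionRing.lift hinj)
      (by ext s; exact (hj s).symm) hx
  obtain ⟨t, ht⟩ := (isIntegrallyClosed_iff (FractionRing A)).mp inferInstance hint
  obtain ⟨s₁, s₂, hs₂, rfl⟩ := IsFractionRing.div_surjective (A := S) x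
  have hs₂0 : s₂ ≠ 0 := nonZeroDivisors.ne_zero hs₂
  have hs₂A : (s₂ : A) ≠ 0 := fun h => hs₂0 (Subtype.ext h)
  rw [map_div₀, hj, hj] at ht
  have hne : algebraMap A (FractionRing A) (s₂ : A) ≠ 0 := by
    intro h
    exact hs₂A ((map_eq_zero_iff _ (IsFractionRing.injective A (FractionRing A))).mp h)
  have h1 : t * (s₂ : A) = s₁ := by
    apply IsFractionRing.injective A (FractionRing A)
    rw [map_mul, ht, div_mul_cancel₀ _ hne]
  have h3 : ∀ σ : G, σ • t = t := by
    intro σ
    apply mul_right_cancel₀ hs₂A
    have h2 : σ • (t * (s₂ : A)) = σ • (s₁ : A) := congrArg (fun z => σ • z) h1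
    rw [smul_mul', (hmem _).mp s₂.2 σ, (hmem _).mp s₁.2 σ] at h2
    rw [h2, h1]
  refine ⟨⟨t, (hmem t).mpr h3⟩, ?_⟩
  have hne' : algebraMap S (FractionRing S) s₂ ≠ 0 := by
    intro h
    exact hs₂0 ((map_eq_zero_iff _ (IsFractionRing.injective S (FractionRing S))).mp h)
  rw [eq_div_iff hne', ← map_mul]
  congr 1
  exact Subtype.ext h1

/-- Let `A` be a complete regular local ring of Krull dimension at least `2` and prime characteristic
`p`, with maximal ideal `m`; let `k` be a field with a ring map `k → A` whose composite with `A →
A/m` is onto; let `G` be a group of order `p` acting on `A` by ring automorphisms fixing the image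
of `k` and ramified precisely at the origin (for every prime `P ≠ m`, the inertia subgroup of `P`
(the elements of `G` fixing every element modulo `P`) is trivial). Then the invariant ring `A^G` is
Noetherian, `A` is a finite `A^G`-module, `A^G` is an integrally closed domain of the same Krull
dimension as `A`, `A^G` is complete and separated for the adic topology of `m ∩ A^G`, and `A^G` is
not a regular local ring. (The published statement also asserts that `A^G` has depth `2`, that the
extension has degree `p`, and that the singular locus of `Spec A^G` is the closed point; this row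
omits those clauses.) -/
theorem result
    (p : ℕ) [Fact p.Prime] (A : Type u) [CommRing A] [IsRegularLocalRing A] [CharP A p]
    [IsAdicComplete (IsLocalRing.maximalIdeal A) A] (hdim : 2 ≤ ringKrullDim A)
    (k : Type v) [Field k] [Algebra k A]
    (hk : Function.Surjective (IsLocalRing.residue A ∘ algebraMap k A))
    (G : Type w) [Group G] [Finite G] [MulSemiringAction G A] (hcard : Nat.card G = p)
    (hGk : ∀ (σ : G) (c : k), σ • algebraMap k A c = algebraMap k A c)
    (hram : ∀ P : Ideal A, P.IsPrime → P ≠ IsLocalRing.maximalIdeal A → P.inertia G = ⊥) :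
    IsNoetherianRing (FixedPoints.subring A G) ∧ Module.Finite (FixedPoints.subring A G) A ∧
      IsIntegrallyClosed (FixedPoints.subring A G) ∧
      ringKrullDim (FixedPoints.subring A G) = ringKrullDim A ∧
      IsAdicComplete (Ideal.comap (FixedPoints.subring A G).subtype (IsLocalRing.maximalIdeal A))
        (FixedPoints.subring A G) ∧
      ¬ IsRegularLocalRing (FixedPoints.subring A G) := by
  classical
  haveI hdomA : IsDomain A := Groth.Agent.Lib.Helper85.isDomain_of_isRegularLocalRing A
  haveI hicA : IsIntegrallyClosed A :=
    (Groth.Agent.Lib.Helper73.RegularNormal.isIntegrallyClosed_of_isRegularLocalRing A).2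
  have hG : IsPGroup p G := IsPGroup.of_card (n := 1) (by rw [hcard, pow_one])
  have hn : ringKrullDim A = ((IsLocalRing.maximalIdeal A).spanFinrank : ℕ) :=
    (IsRegularLocalRing.spanFinrank_maximalIdeal (R := A)).symm
  obtain ⟨hnoeth, hfin⟩ := WildFixed.noetherian_and_finite p A k hk G hG hGk _ hn
  haveI := hnoeth
  haveI := hfin
  haveI hloc : IsLocalRing (FixedPoints.subring A G) := WildFixed.isLocalRing_fixed A G
  haveI : Algebra.IsIntegral (FixedPoints.subring A G) A := Algebra.IsIntegral.of_finite _ _
  have hdimB : ringKrullDim A = ringKrullDim (FixedPoints.subring A G) :=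
    Groth.Agent.Lib.Helper55.ringKrullDim_eq_of_isIntegral_of_injective
      (FixedPoints.subring A G) A Subtype.val_injective
  refine ⟨hnoeth, hfin, fixedPoints_ic, hdimB.symm, ?_, ?_⟩
  · -- completeness
    obtain ⟨φB, hφm, hfinB, -⟩ := WildFixed.exists_ringHom_finite p A k hk G hG hGk _ hn
    letI algRB : Algebra (MvPowerSeries (Fin (IsLocalRing.maximalIdeal A).spanFinrank) k)
      (FixedPoints.subring A G) := φB.toAlgebra
    haveI : Module.Finite (MvPowerSeries (Fin (IsLocalRing.maximalIdeal A).spanFinrank) k)
      (FixedPoints.subring A G) := hfinB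
    haveI hcompR : IsAdicComplete
        (IsLocalRing.maximalIdeal (MvPowerSeries (Fin (IsLocalRing.maximalIdeal A).spanFinrank) k))
        (MvPowerSeries (Fin (IsLocalRing.maximalIdeal A).spanFinrank) k) := by
      rw [Groth.Agent.Lib.Helper61.PSLocal.maximalIdeal_eq_span_X]
      infer_instance
    haveI h1 : IsAdicComplete
        (IsLocalRing.maximalIdeal (MvPowerSeries (Fin (IsLocalRing.maximalIdeal A).spanFinrank) k))
        (FixedPoints.subring A G) :=
      Groth.Agent.Lib.Helper75.CompletedModules.isAdicComplete_of_finite _
    haveI h2 : IsAdicComplete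
        ((IsLocalRing.maximalIdeal
          (MvPowerSeries (Fin (IsLocalRing.maximalIdeal A).spanFinrank) k)).map
          (algebraMap (MvPowerSeries (Fin (IsLocalRing.maximalIdeal A).spanFinrank) k)
            (FixedPoints.subring A G))) (FixedPoints.subring A G) :=
      (IsAdicComplete.map_algebraMap_iff _ _).mpr h1
    have hNmax : Ideal.comap (FixedPoints.subring A G).subtype (IsLocalRing.maximalIdeal A) =
        IsLocalRing.maximalIdeal (FixedPoints.subring A G) := by
      ext b
      rw [Ideal.mem_comap, WildFixed.mem_maximalIdeal_fixed_iff]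
      rfl
    have hJN : (IsLocalRing.maximalIdeal
          (MvPowerSeries (Fin (IsLocalRing.maximalIdeal A).spanFinrank) k)).map
          (algebraMap (MvPowerSeries (Fin (IsLocalRing.maximalIdeal A).spanFinrank) k)
            (FixedPoints.subring A G)) ≤
        Ideal.comap (FixedPoints.subring A G).subtype (IsLocalRing.maximalIdeal A) := by
      rw [Ideal.map_le_iff_le_comap]
      intro f hf
      exact hφm f hf
    have hrad : ((IsLocalRing.maximalIdeal
          (MvPowerSeries (Fin (IsLocalRing.maximalIdeal A).spanFinrank) k)).map
          (algebraMap (MvPowerSeries (Fin (IsLocalRing.maximalIdeal A).spanFinrank) k)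
            (FixedPoints.subring A G))).radical =
        Ideal.comap (FixedPoints.subring A G).subtype (IsLocalRing.maximalIdeal A) := by
      apply le_antisymm
      · have hpr : (Ideal.comap (FixedPoints.subring A G).subtype
            (IsLocalRing.maximalIdeal A)).IsPrime := by
          rw [hNmax]; infer_instance
        exact hpr.radical_le_iff.mpr hJN
      · rw [Ideal.radical_eq_sInf]
        apply le_sInf
        rintro P ⟨hJP, hPprime⟩
        haveI := hPprime
        haveI : Algebra.IsIntegral
            (MvPowerSeries (Fin (IsLocalRing.maximalIdeal A).spanFinrank) k)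
            (FixedPoints.subring A G) := Algebra.IsIntegral.of_finite _ _
        have hcomap := Ideal.map_le_iff_le_comap.mp hJP
        have hmaxc : (P.comap (algebraMap
            (MvPowerSeries (Fin (IsLocalRing.maximalIdeal A).spanFinrank) k)
            (FixedPoints.subring A G))).IsMaximal := by
          have hne : P.comap (algebraMap
              (MvPowerSeries (Fin (IsLocalRing.maximalIdeal A).spanFinrank) k)
              (FixedPoints.subring A G)) ≠ ⊤ := (Ideal.comap_isPrime _ P).ne_top
          have := (IsLocalRing.maximalIdeal.isMaximal _).eq_of_le hne hcomap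
          rw [← this]
          infer_instance
        have hPmax : P.IsMaximal := Ideal.isMaximal_of_isIntegral_of_isMaximal_comap P hmaxc
        rw [hNmax, IsLocalRing.eq_maximalIdeal hPmax]
    obtain ⟨r, hr⟩ := Ideal.exists_radical_pow_le_of_fg
      ((IsLocalRing.maximalIdeal
          (MvPowerSeries (Fin (IsLocalRing.maximalIdeal A).spanFinrank) k)).map
          (algebraMap (MvPowerSeries (Fin (IsLocalRing.maximalIdeal A).spanFinrank) k)
            (FixedPoints.subring A G))) (IsNoetherian.noetherian _)
    rw [hrad] at hr
    exact Groth.Agent.Lib.Helper44.isAdicComplete_of_le_of_pow_le _ _ hJN r hr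
  · intro hreg
    haveI := hreg
    have hres : Function.Surjective
        (IsLocalRing.residue A ∘ algebraMap (FixedPoints.subring A G) A) := by
      intro y
      obtain ⟨c, hc⟩ := hk y
      exact ⟨⟨algebraMap k A c, fun σ => hGk σ c⟩, hc⟩
    haveI : Module.Free (FixedPoints.subring A G) A :=
      Groth.Agent.S15801.free_of_dim_eq (FixedPoints.subring A G) A hdimB hres
    exact Groth.Agent.S15794.result p A hdim k hk G hcard hGk hram inferInstance

end Groth.Agent.S15798
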