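import Groth.Statements.S15799
import Groth.Agent.Lib.Helper29.WildSep.Main
import Groth.Agent.Lib.Helper29.WildSep.PSExt
import Groth.Agent.S15790
import Groth.Agent.S15801
import Groth.Agent.S2453
import Groth.Agent.S11741

set_option autoImplicit false
universe u v w
open WildQuot

namespace Groth.Agent.S15799

/-- Let `A` be a complete regular local ring of Krull dimension `n ≥ 2` and prime characteristic `p`,
`k` a field with `k → A` mapping onto the residue field, and `G` a group of order `p` acting on `A`
by `k`-algebra automorphisms, ramified precisely at the origin (for every non-maximal prime `P`, the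
inertia subgroup of `P` (the elements of `G` fixing every element modulo `P`) is trivial). Let `u_1,
…, u_n` be an admissible regular system of parameters (for every choice `σ_1, …, σ_n ∈ G`, the
elements `σ_i u_i` generate the maximal ideal) and let `φ : k[[X_1, …, X_n]] → A` be the `k`-algebra
map with `φ X_i = x_i = ∏_{σ} σ u_i`, whose image is the norm subring `R`. Then `Frac(A^G)` is not
purely inseparable over `Frac(R)`; equivalently (as `A` is integral over the integrally closed `R`),
some `G`-invariant `y ∈ A` has no iterated `p`-th power `y ^ (p ^ e)` in `R`. -/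
theorem result
    (p : ℕ) [Fact p.Prime] (A : Type u) [CommRing A] [IsRegularLocalRing A] [CharP A p]
    [IsAdicComplete (IsLocalRing.maximalIdeal A) A] (n : ℕ) (hn : ringKrullDim A = n) (h2 : 2 ≤ n)
    (k : Type v) [Field k] [Algebra k A]
    (hk : Function.Surjective (IsLocalRing.residue A ∘ algebraMap k A))
    (G : Type w) [Group G] [Fintype G] [MulSemiringAction G A] (hcard : Fintype.card G = p)
    [SMulCommClass G k A]
    (hram : ∀ P : Ideal A, P.IsPrime → P ≠ IsLocalRing.maximalIdeal A → P.inertia G = ⊥)
    (u : Fin n → A)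
    (hu : ∀ τ : Fin n → G,
      Ideal.span (Set.range fun i => τ i • u i) = IsLocalRing.maximalIdeal A)
    (φ : MvPowerSeries (Fin n) k →ₐ[k] A) (hφ : ∀ i, φ (MvPowerSeries.X i) = ∏ σ : G, σ • u i) :
    ∃ y : A, (∀ σ : G, σ • y = y) ∧ ∀ e : ℕ, y ^ p ^ e ∉ Set.range φ := by
  classical
  by_contra hcon
  push Not at hcon
  obtain ⟨hdomA, hicA⟩ :=
    Groth.Agent.Lib.Helper73.RegularNormal.isIntegrallyClosed_of_isRegularLocalRing A
  -- the norms form a system of parameters
  have hu1 : Ideal.span (Set.range u) = IsLocalRing.maximalIdeal A := by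
    have := hu (fun _ => 1)
    simpa using this
  have hui : ∀ i, u i ∈ IsLocalRing.maximalIdeal A := fun i => by
    rw [← hu1]; exact Ideal.subset_span ⟨i, rfl⟩
  have hxm : ∀ i, (∏ σ : G, σ • u i) ∈ IsLocalRing.maximalIdeal A := fun i =>
    Ideal.prod_mem _ (Finset.mem_univ (1 : G)) (by rw [one_smul]; exact hui i)
  have hxrad : (Ideal.span (Set.range fun i => ∏ σ : G, σ • u i)).radical =
      IsLocalRing.maximalIdeal A := by
    apply le_antisymm
    · have hle : Ideal.span (Set.range fun i => ∏ σ : G, σ • u i) ≤
          IsLocalRing.maximalIdeal A := by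
        rw [Ideal.span_le]
        rintro _ ⟨i, rfl⟩
        exact hxm i
      calc _ ≤ (IsLocalRing.maximalIdeal A).radical := Ideal.radical_mono hle
        _ = IsLocalRing.maximalIdeal A :=
          (IsLocalRing.maximalIdeal.isMaximal A).isPrime.radical
    · rw [Groth.Agent.S15790.result A G n u hu1]
      intro τ
      rw [hu τ]
      exact Ideal.le_radical
  have hxinv : ∀ i (τ : G), τ • (∏ σ : G, σ • u i) = ∏ σ : G, σ • u i := by
    intro i τ
    rw [Finset.smul_prod']
    simp only [smul_smul]
    exact Fintype.prod_equiv (Equiv.mulLeft τ) _ _ (fun σ => rfl)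
  obtain ⟨d, b, -, hbij⟩ := Groth.Agent.S15801.result A n hn k hk
    (fun i => ∏ σ : G, σ • u i) hxrad φ hφ
  have hd0 : 0 < d := by
    rcases Nat.eq_zero_or_pos d with h0 | h0
    · exfalso
      subst h0
      have hsub : Subsingleton A := by
        refine ⟨fun a a' => ?_⟩
        obtain ⟨r, rfl⟩ := hbij.2 a
        obtain ⟨r', rfl⟩ := hbij.2 a'
        simp
      exact not_subsingleton A hsub
    · exact h0
  have hφinj : Function.Injective φ := by
    rw [injective_iff_map_eq_zero]
    intro f hf
    let i₀ : Fin d := ⟨0, hd0⟩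
    have h1 : (Pi.single i₀ f : Fin d → MvPowerSeries (Fin n) k) = 0 := by
      apply hbij.1
      change ∑ i, φ ((Pi.single i₀ f : Fin d → MvPowerSeries (Fin n) k) i) * b i =
        ∑ i, φ ((0 : Fin d → MvPowerSeries (Fin n) k) i) * b i
      rw [Finset.sum_eq_zero, Finset.sum_eq_zero]
      · intro i _
        simp
      · intro i _
        by_cases h : i = i₀
        · subst h
          rw [Pi.single_eq_same, hf, zero_mul]
        · rw [Pi.single_eq_of_ne h, map_zero, zero_mul]
    have h2 := congrFun h1 i₀
    rwa [Pi.single_eq_same] at h2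
  -- the norm subring
  let Rg : Subalgebra k A := φ.range
  have hfin : Module.Finite Rg A := by
    refine Module.Finite.of_surjective (Fintype.linearCombination Rg b) ?_
    intro a
    obtain ⟨r, hr⟩ := hbij.2 a
    refine ⟨fun i => ⟨φ (r i), r i, rfl⟩, ?_⟩
    rw [Fintype.linearCombination_apply, ← hr]
    refine Finset.sum_congr rfl fun i _ => ?_
    rw [Algebra.smul_def]
    rfl
  have := hfin
  have hregP : IsRegularLocalRing (MvPowerSeries (Fin n) k) :=
    Groth.Agent.S2453.Aux.isRegularLocalRing_mvPowerSeries k n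
  let e : MvPowerSeries (Fin n) k ≃ₐ[k] Rg := AlgEquiv.ofInjective φ hφinj
  have hregR : IsRegularLocalRing Rg := IsRegularLocalRing.of_ringEquiv e.toRingEquiv
  have hdimR : (2 : WithBot ℕ∞) ≤ ringKrullDim Rg := by
    rw [← ringKrullDim_eq_of_ringEquiv e.toRingEquiv,
      Groth.Agent.S11741.ringKrullDim_mvPowerSeries]
    exact_mod_cast h2
  -- the norm subring is pointwise invariant
  have hinvφ : ∀ (σ : G) (f : MvPowerSeries (Fin n) k), σ • φ f = φ f := by
    intro σ f
    have h1 : φ = (MulSemiringAction.toAlgHom k A σ).comp φ := by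
      apply Groth.Agent.Lib.Helper29.WildSep.algHom_ext_of_iInf_pow_eq_bot
        (IsLocalRing.maximalIdeal A)
        (Ideal.iInf_pow_eq_bot_of_isLocalRing _ (IsLocalRing.maximalIdeal.isMaximal A).ne_top)
      · intro i
        rw [hφ]
        exact hxm i
      · intro i
        rw [AlgHom.comp_apply, hφ]
        exact (hxinv i σ).symm
    exact (DFunLike.congr_fun h1 f).symm
  have : SMulCommClass G Rg A := ⟨fun σ r a => by
    rw [Algebra.smul_def, Algebra.smul_def, smul_mul']
    congr 1
    obtain ⟨f, hf⟩ := r.2
    change σ • (r : A) = (r : A)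
    rw [← hf]
    exact hinvφ σ f⟩
  refine Groth.Agent.Lib.Helper29.WildSep.false_of_forall_pow_mem (R := Rg) (A := A) (G := G) p
    hdimR Subtype.val_injective ?_ hram ?_ ?_
  · intro z
    obtain ⟨c, hc⟩ := hk z
    exact ⟨algebraMap k Rg c, hc⟩
  · have hlt : 1 < Fintype.card G := by
      rw [hcard]
      exact (Fact.out : p.Prime).one_lt
    obtain ⟨σ, hσ⟩ := Fintype.exists_ne_of_one_lt_card hlt 1
    exact ⟨σ, hσ⟩
  · intro y hy
    obtain ⟨e', f, hf⟩ := hcon y hy
    exact ⟨e', ⟨φ f, f, rfl⟩, hf⟩

end Groth.Agent.S15799
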