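import Groth.Statements.S15802
import Groth.Agent.Lib.Helper29.Inertia.Generated

set_option autoImplicit false
universe u v w
open WildQuot

namespace Groth.Agent.S15802

/-- Let `R` be a regular local ring and `A` a normal local domain, finite over `R` (with `R → A`
injective) and with the same residue field; let a finite group `H` act faithfully on `A` by
`R`-algebra automorphisms with ring of invariants exactly `R` (so `Frac(A)/Frac(R)` is Galois with
group `H`). Then `H` is generated by the inertia subgroups of the height-one prime ideals `P` of `A`
(the elements acting trivially on `A/P`). (The published statement is for `A` a complete regular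
local ring with an action ramified precisely at the origin, `R = k[[x_1, …, x_n]]` a norm subring
and `H` the Galois group of `Frac(A)/Frac(R)`, when that extension is Galois; this row assumes only
the hypotheses listed above.) -/
theorem result
    (R : Type u) [CommRing R] [IsRegularLocalRing R]
    (A : Type v) [CommRing A] [IsDomain A] [IsIntegrallyClosed A] [IsLocalRing A]
    [Algebra R A] [Module.Finite R A] (hinj : Function.Injective (algebraMap R A))
    (hres : Function.Surjective (IsLocalRing.residue A ∘ algebraMap R A))
    (H : Type w) [Group H] [Finite H] [MulSemiringAction H A] [SMulCommClass H R A] [FaithfulSMul H A]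
    (hfix : ∀ a : A, (∀ h : H, h • a = a) → a ∈ Set.range (algebraMap R A)) :
    (⨆ P : {P : Ideal A // P.IsPrime ∧ P.height = 1}, P.1.inertia H) = ⊤ := by
  classical
  have hmem : ∀ r : R, algebraMap R A r ∈ FixedPoints.subring A H := by
    intro r σ
    rw [Algebra.algebraMap_eq_smul_one, smul_comm, smul_one]
  let f : R →+* FixedPoints.subring A H := (algebraMap R A).codRestrict _ hmem
  have hfbij : Function.Bijective f := by
    constructor
    · intro x y h
      exact hinj (congrArg (fun z : FixedPoints.subring A H => (z : A)) h)
    · intro b
      obtain ⟨r, hr⟩ := hfix (b : A) b.2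
      exact ⟨r, Subtype.ext hr⟩
  let e : R ≃+* FixedPoints.subring A H := RingEquiv.ofBijective f hfbij
  have : IsRegularLocalRing (FixedPoints.subring A H) := IsRegularLocalRing.of_ringEquiv e
  let : Algebra R (FixedPoints.subring A H) := f.toAlgebra
  have : IsScalarTower R (FixedPoints.subring A H) A := IsScalarTower.of_algebraMap_eq (fun _ => rfl)
  have : Module.Finite (FixedPoints.subring A H) A :=
    Module.Finite.of_restrictScalars_finite R (FixedPoints.subring A H) A
  apply Groth.Agent.Lib.Helper29.InertiaGen.iSup_inertia_eq_top
  intro a
  obtain ⟨r, hr⟩ := hres (IsLocalRing.residue A a)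
  refine ⟨f r, ?_⟩
  change a - algebraMap R A r ∈ IsLocalRing.maximalIdeal A
  rw [← IsLocalRing.residue_eq_zero_iff, map_sub, sub_eq_zero]
  exact hr.symm

end Groth.Agent.S15802
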