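import Groth.Statements.S15803
import Groth.Agent.S15802
import Mathlib

set_option autoImplicit false
universe u v w
open WildQuot

namespace Groth.Agent.S15803

/-- Let `R` be a regular local ring and `A` a normal local domain, finite over `R` (with `R → A`
injective) and with the same residue field; let a finite group `H` act faithfully on `A` by
`R`-algebra automorphisms with ring of invariants exactly `R` (so `Frac(A)/Frac(R)` is Galois with
group `H`); let `p` be a prime and suppose that every nontrivial inertia subgroup of a height-one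
prime of `A` has order `p` and is normal in `H`. Then `H` is commutative and every element satisfies
`h ^ p = 1`: `H` is an elementary abelian `p`-group (of order the degree of `Frac(A)` over
`Frac(R)`). (The published statement is for `A` a complete regular local ring with an action
ramified precisely at the origin, `R = k[[x_1, …, x_n]]` a norm subring and `H` the Galois group of
`Frac(A)/Frac(R)`, when that extension is Galois; this row assumes only the hypotheses listed
above.) -/
theorem result
    (p : ℕ) [Fact p.Prime] (R : Type u) [CommRing R] [IsRegularLocalRing R]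
    (A : Type v) [CommRing A] [IsDomain A] [IsIntegrallyClosed A] [IsLocalRing A]
    [Algebra R A] [Module.Finite R A] (hinj : Function.Injective (algebraMap R A))
    (hres : Function.Surjective (IsLocalRing.residue A ∘ algebraMap R A))
    (H : Type w) [Group H] [Finite H] [MulSemiringAction H A] [SMulCommClass H R A] [FaithfulSMul H A]
    (hfix : ∀ a : A, (∀ h : H, h • a = a) → a ∈ Set.range (algebraMap R A))
    (hMR2 : ∀ P : Ideal A, P.IsPrime → P.height = 1 → P.inertia H ≠ ⊥ →
      Nat.card (P.inertia H) = p ∧ (P.inertia H).Normal) :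
    (∀ g h : H, g * h = h * g) ∧ ∀ h : H, h ^ p = 1 := by
  classical
  have hgen := Groth.Agent.S15802.result R A hinj hres H hfix
  let S : Set H := ⋃ P : {P : Ideal A // P.IsPrime ∧ P.height = 1}, ((P.1.inertia H : Subgroup H) : Set H)
  have hcl : Subgroup.closure S = ⊤ := by
    rw [← hgen, Subgroup.iSup_eq_closure]
  have hSmem : ∀ a ∈ S, ∃ P : Ideal A, P.IsPrime ∧ P.height = 1 ∧ a ∈ P.inertia H := by
    intro a ha
    obtain ⟨P, hP⟩ := Set.mem_iUnion.mp ha
    exact ⟨P.1, P.2.1, P.2.2, hP⟩
  -- generators have order dividing `p`
  have hSp : ∀ a ∈ S, a ^ p = 1 := by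
    intro a ha
    obtain ⟨P, hPp, hP1, haP⟩ := hSmem a ha
    by_cases hbot : P.inertia H = ⊥
    · rw [hbot, Subgroup.mem_bot] at haP
      rw [haP, one_pow]
    · obtain ⟨hcard, -⟩ := hMR2 P hPp hP1 hbot
      have h1 : (⟨a, haP⟩ : P.inertia H) ^ Nat.card (P.inertia H) = 1 := pow_card_eq_one'
      rw [hcard] at h1
      exact congrArg Subtype.val h1
  -- generators commute
  have hSc : ∀ a ∈ S, ∀ b ∈ S, a * b = b * a := by
    intro a ha b hb
    obtain ⟨P, hPp, hP1, haP⟩ := hSmem a ha
    obtain ⟨Q, hQp, hQ1, hbQ⟩ := hSmem b hb
    by_cases hbotP : P.inertia H = ⊥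
    · rw [hbotP, Subgroup.mem_bot] at haP
      rw [haP, one_mul, mul_one]
    by_cases hbotQ : Q.inertia H = ⊥
    · rw [hbotQ, Subgroup.mem_bot] at hbQ
      rw [hbQ, one_mul, mul_one]
    obtain ⟨hcardP, hnP⟩ := hMR2 P hPp hP1 hbotP
    obtain ⟨hcardQ, hnQ⟩ := hMR2 Q hQp hQ1 hbotQ
    by_cases heq : P.inertia H = Q.inertia H
    · rw [← heq] at hbQ
      have : IsCyclic (P.inertia H) := isCyclic_of_prime_card hcardP
      have h1 := (IsCyclic.isMulCommutative (α := P.inertia H)).is_comm.comm ⟨a, haP⟩ ⟨b, hbQ⟩
      exact congrArg Subtype.val h1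
    · have hdisj : Disjoint (P.inertia H) (Q.inertia H) := by
        rw [disjoint_iff]
        have hle : P.inertia H ⊓ Q.inertia H ≤ P.inertia H := inf_le_left
        have hdvd : Nat.card ↥(P.inertia H ⊓ Q.inertia H) ∣ p := by
          rw [← hcardP]
          exact Subgroup.card_dvd_of_le hle
        rcases (Nat.dvd_prime (Fact.out : p.Prime)).mp hdvd with h1 | h1
        · exact Subgroup.eq_bot_of_card_eq _ h1
        · exfalso
          apply heq
          have h2 : P.inertia H ⊓ Q.inertia H = P.inertia H :=
            Subgroup.eq_of_le_of_card_ge hle (by rw [h1, hcardP])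
          have h3 : P.inertia H ≤ Q.inertia H := by
            rw [← h2]
            exact inf_le_right
          exact Subgroup.eq_of_le_of_card_ge h3 (by rw [hcardP, hcardQ])
      exact Subgroup.commute_of_normal_of_disjoint _ _ hnP hnQ hdisj a b haP hbQ
  -- everything commutes with the generators
  have hcent : ∀ g : H, ∀ s ∈ S, s * g = g * s := by
    intro g
    have h1 : Subgroup.closure S ≤ Subgroup.centralizer S := by
      rw [Subgroup.closure_le]
      intro a ha
      rw [SetLike.mem_coe, Subgroup.mem_centralizer_iff]
      intro b hb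
      exact hSc b hb a ha
    have h2 : g ∈ Subgroup.centralizer S := h1 (hcl ▸ Subgroup.mem_top g)
    exact Subgroup.mem_centralizer_iff.mp h2
  have hcenter : ∀ h : H, h ∈ Subgroup.center H := by
    intro h
    have h1 : Subgroup.closure S ≤ Subgroup.center H := by
      rw [Subgroup.closure_le]
      intro s hs
      rw [SetLike.mem_coe, Subgroup.mem_center_iff]
      intro g
      exact (hcent g s hs).symm
    exact h1 (hcl ▸ Subgroup.mem_top h)
  have hcomm : ∀ g h : H, g * h = h * g := by
    intro g h
    exact Subgroup.mem_center_iff.mp (hcenter h) g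
  refine ⟨hcomm, ?_⟩
  let K : Subgroup H :=
    { carrier := {h | h ^ p = 1}
      mul_mem' := by
        intro a b ha hb
        change (a * b) ^ p = 1
        rw [(show Commute a b from hcomm a b).mul_pow, ha, hb, one_mul]
      one_mem' := one_pow p
      inv_mem' := by
        intro a ha
        change a⁻¹ ^ p = 1
        rw [inv_pow, ha, inv_one] }
  have hK : Subgroup.closure S ≤ K := by
    rw [Subgroup.closure_le]
    intro s hs
    exact hSp s hs
  intro h
  exact hK (hcl ▸ Subgroup.mem_top h)

end Groth.Agent.S15803
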