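import Groth.Statements.S15804
import Mathlib
import Groth.Agent.S15794
import Groth.Agent.S15801
import Groth.Agent.Lib.Helper73.NoEmb5
-- import your own Groth.Agent.* helpers here

set_option autoImplicit false
universe u v w
open WildQuot

namespace Groth.Agent.S15804

set_option linter.style.haveILetI false
set_option linter.unusedSectionVars false

theorem height_maximalIdeal_eq_two (B : Type*) [CommRing B] [IsLocalRing B]
    (h : ringKrullDim B = 2) : (IsLocalRing.maximalIdeal B).height = 2 := by
  have h1 := IsLocalRing.maximalIdeal_height_eq_ringKrullDim (R := B)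
  rw [h] at h1
  have h2 : ((IsLocalRing.maximalIdeal B).height : WithBot ℕ∞) = ((2 : ℕ∞) : WithBot ℕ∞) := h1
  exact WithBot.coe_injective h2

/-- In a normal Noetherian local domain whose maximal ideal has height two, a nonzero `a` and a `b`
such that the maximal ideal is the only prime containing both form a regular sequence. -/
theorem isWeaklyRegular_pair (A : Type v) [CommRing A] [IsDomain A] [IsIntegrallyClosed A]
    [IsLocalRing A] [IsNoetherianRing A]
    (hht : (IsLocalRing.maximalIdeal A).height = 2) (a b : A) (ha : a ≠ 0)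
    (hab : ∀ 𝔭 : Ideal A, 𝔭.IsPrime → a ∈ 𝔭 → b ∈ 𝔭 → 𝔭 = IsLocalRing.maximalIdeal A) :
    RingTheory.Sequence.IsWeaklyRegular A [a, b] := by
  have hregA : IsSMulRegular A a := (IsRegular.of_ne_zero ha).left.isSMulRegular
  have hregB : IsSMulRegular (QuotSMulTop a A) b := by
    by_contra hnot
    have hmemU : b ∈ ({r : A | IsSMulRegular (QuotSMulTop a A) r}ᶜ : Set A) := hnot
    rw [← biUnion_associatedPrimes_eq_compl_regular A (QuotSMulTop a A)] at hmemU
    obtain ⟨𝔭, h𝔭, hb𝔭⟩ := Set.mem_iUnion₂.mp hmemU
    haveI h𝔭prime : 𝔭.IsPrime := (AssociatedPrimes.mem_iff.mp h𝔭).isPrime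
    have ha𝔭 : a ∈ 𝔭 := by
      apply (AssociatedPrimes.mem_iff.mp h𝔭).annihilator_le
      rw [Submodule.annihilator_top]
      exact QuotSMulTop.mem_annihilator (M := A) a
    have hht𝔭 := Groth.Agent.Lib.Helper73.NoEmb.height_le_one_of_mem_associatedPrimes A a ha 𝔭
      h𝔭 ha𝔭
    rw [hab 𝔭 h𝔭prime ha𝔭 hb𝔭, hht] at hht𝔭
    exact absurd hht𝔭 (by norm_num)
  exact RingTheory.Sequence.IsWeaklyRegular.cons hregA
    (RingTheory.Sequence.IsWeaklyRegular.cons hregB (RingTheory.Sequence.IsWeaklyRegular.nil A _))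

/-- A two-dimensional normal local domain finite over a regular local ring is free over it. -/
theorem free_of_normal_dim_two (R : Type u) [CommRing R] [IsRegularLocalRing R]
    (A : Type v) [CommRing A] [IsDomain A] [IsIntegrallyClosed A] [IsLocalRing A]
    [Algebra R A] [Module.Finite R A] (hinj : Function.Injective (algebraMap R A))
    (hdim : ringKrullDim A = 2) : Module.Free R A := by
  classical
  haveI : Algebra.IsIntegral R A := Algebra.IsIntegral.of_finite R A
  haveI : IsNoetherianRing A := IsNoetherianRing.of_finite R A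
  have hdimR : ringKrullDim R = 2 := by
    rw [← Groth.Agent.Lib.Helper55.ringKrullDim_eq_of_isIntegral_of_injective R A hinj]
    exact hdim
  have hd : (IsLocalRing.maximalIdeal R).spanFinrank = 2 := by
    have h1 := IsRegularLocalRing.spanFinrank_maximalIdeal (R := R)
    rw [hdimR] at h1
    exact_mod_cast h1
  obtain ⟨x, hx⟩ := Groth.Agent.Lib.Helper85.exists_fin_span_range_eq (IsLocalRing.maximalIdeal R)
    (IsLocalRing.maximalIdeal R).fg_of_isNoetherianRing hd
  have hxmem : ∀ i, x i ∈ IsLocalRing.maximalIdeal R := by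
    intro i
    rw [← hx]
    exact Ideal.subset_span ⟨i, rfl⟩
  have hhtR : (IsLocalRing.maximalIdeal R).height = 2 := height_maximalIdeal_eq_two R hdimR
  have hhtA : (IsLocalRing.maximalIdeal A).height = 2 := height_maximalIdeal_eq_two A hdim
  have hx0 : x 0 ≠ 0 := by
    intro h0
    have hle : IsLocalRing.maximalIdeal R ≤ Ideal.span {x 1} := by
      rw [← hx, Ideal.span_le, Set.range_subset_iff, Fin.forall_fin_two]
      refine ⟨?_, Ideal.mem_span_singleton_self (x 1)⟩
      rw [h0]
      exact Ideal.zero_mem _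
    have heq : Ideal.span {x 1} = IsLocalRing.maximalIdeal R :=
      le_antisymm ((Ideal.span_singleton_le_iff_mem _).mpr (hxmem 1)) hle
    haveI : (Ideal.span {x 1}).IsPrincipal := ⟨⟨x 1, rfl⟩⟩
    have hmin : IsLocalRing.maximalIdeal R ∈ (Ideal.span {x 1}).minimalPrimes := by
      rw [heq, Ideal.minimalPrimes_eq_subsingleton_self]
      exact Set.mem_singleton _
    have hht := Ideal.height_le_one_of_isPrincipal_of_mem_minimalPrimes _ _ hmin
    rw [hhtR] at hht
    exact absurd hht (by norm_num)
  have ha0 : algebraMap R A (x 0) ≠ 0 := fun h => hx0 (hinj (h.trans (map_zero _).symm))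
  have hab : ∀ 𝔭 : Ideal A, 𝔭.IsPrime → algebraMap R A (x 0) ∈ 𝔭 → algebraMap R A (x 1) ∈ 𝔭 →
      𝔭 = IsLocalRing.maximalIdeal A := by
    intro 𝔭 h𝔭prime ha𝔭 hb𝔭
    haveI := h𝔭prime
    have hle : IsLocalRing.maximalIdeal R ≤ 𝔭.comap (algebraMap R A) := by
      rw [← hx, Ideal.span_le, Set.range_subset_iff, Fin.forall_fin_two]
      exact ⟨ha𝔭, hb𝔭⟩
    have hne : 𝔭.comap (algebraMap R A) ≠ ⊤ := (Ideal.comap_isPrime _ _).ne_top
    have hcomap : 𝔭.comap (algebraMap R A) = IsLocalRing.maximalIdeal R :=
      ((IsLocalRing.maximalIdeal.isMaximal R).eq_of_le hne hle).symm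
    have hmax : 𝔭.IsMaximal := Ideal.isMaximal_of_isIntegral_of_isMaximal_comap (R := R) 𝔭
      (by rw [hcomap]; exact IsLocalRing.maximalIdeal.isMaximal R)
    exact IsLocalRing.eq_maximalIdeal hmax
  have hreg : RingTheory.Sequence.IsWeaklyRegular A ([x 0, x 1].map (algebraMap R A)) := by
    simp only [List.map_cons, List.map_nil]
    exact isWeaklyRegular_pair A hhtA _ _ ha0 hab
  have hreg' : RingTheory.Sequence.IsWeaklyRegular A [x 0, x 1] :=
    (RingTheory.Sequence.isWeaklyRegular_map_algebraMap_iff (S := A) (M := A) [x 0, x 1]).mp hreg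
  obtain ⟨m, s, hs⟩ := Module.Finite.exists_fin (R := R) (M := A)
  let π : (Fin m → R) →ₗ[R] A := Fintype.linearCombination R s
  have hπ : Function.Surjective π :=
    (span_range_eq_top_iff_surjective_fintypeLinearCombination R s).1 hs
  let e : ((Fin m → R) ⧸ LinearMap.ker π) ≃ₗ[R] A := π.quotKerEquivOfSurjective hπ
  have hreg'' : RingTheory.Sequence.IsWeaklyRegular ((Fin m → R) ⧸ LinearMap.ker π)
      [x 0, x 1] := (e.isWeaklyRegular_congr [x 0, x 1]).mpr hreg'
  have hmem : ∀ r ∈ [x 0, x 1], r ∈ IsLocalRing.maximalIdeal R := by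
    intro r hr
    simp only [List.mem_cons, List.not_mem_nil, or_false] at hr
    rcases hr with rfl | rfl
    · exact hxmem 0
    · exact hxmem 1
  have hdepth : ((IsLocalRing.maximalIdeal R).spanFinrank : ℕ∞) ≤
      LocCoh.depth R ((Fin m → R) ⧸ LinearMap.ker π) := by
    have h := Groth.Agent.Lib.Helper29.length_le_idealDepth (IsLocalRing.maximalIdeal R)
      ((Fin m → R) ⧸ LinearMap.ker π) [x 0, x 1] hreg'' hmem
    have hlen : [x 0, x 1].length = 2 := rfl
    rw [hlen] at h
    rw [hd]
    exact h
  haveI := Groth.Agent.Lib.Helper73.MCM.free_of_le_depth R ((Fin m → R) ⧸ LinearMap.ker π) hdepth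
  exact Module.Free.of_equiv e

/-- Some nontrivial element of `H` lies in the inertia group of a non-maximal prime. -/
theorem exists_inertia_ne_bot
    (R : Type u) [CommRing R] [IsRegularLocalRing R]
    (A : Type v) [CommRing A] [IsDomain A] [IsIntegrallyClosed A] [IsLocalRing A]
    [Algebra R A] [Module.Finite R A] (hinj : Function.Injective (algebraMap R A))
    (hres : Function.Surjective (IsLocalRing.residue A ∘ algebraMap R A))
    (H : Type w) [Group H] [Finite H] [MulSemiringAction H A] [SMulCommClass H R A]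
    [FaithfulSMul H A]
    (hfix : ∀ a : A, (∀ h : H, h • a = a) → a ∈ Set.range (algebraMap R A))
    (hdim : ringKrullDim A = 2) (hnt : ∃ σ : H, σ ≠ 1) :
    ∃ P : Ideal A, P.IsPrime ∧ P ≠ IsLocalRing.maximalIdeal A ∧
      ∃ τ : H, τ ≠ 1 ∧ τ ∈ P.inertia H := by
  classical
  haveI : Module.Free R A := free_of_normal_dim_two R A hinj hdim
  haveI : IsNoetherianRing A := IsNoetherianRing.of_finite R A
  letI := Fintype.ofFinite H
  haveI : FaithfulSMul R A := (faithfulSMul_iff_algebraMap_injective R A).mpr hinj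
  haveI hgal : IsGaloisGroup H R A :=
    { faithful := inferInstance
      commutes := inferInstance
      isInvariant := ⟨fun a ha => hfix a ha⟩ }
  have hrank : Nat.card H = Module.finrank R A := IsGaloisGroup.card_eq_finrank' H R A
  let bas0 := Module.finBasis R A
  have hcd : Fintype.card H = Fintype.card (Fin (Module.finrank R A)) := by
    rw [Fintype.card_fin, ← hrank, Nat.card_eq_fintype_card]
  let eqv : H ≃ Fin (Module.finrank R A) := Fintype.equivOfCardEq hcd
  let bas := bas0.reindex eqv.symm
  let e : H → A := fun τ => bas τ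
  have hspan : ∀ a : A, ∃ b : H → FixedPoints.subring A H, a = ∑ τ, (b τ : A) * e τ := by
    intro a
    refine ⟨fun τ => ⟨algebraMap R A (bas.repr a τ), fun σ => smul_algebraMap σ _⟩, ?_⟩
    have := bas.sum_repr a
    conv_lhs => rw [← this]
    refine Finset.sum_congr rfl fun τ _ => ?_
    rw [Algebra.smul_def]
  have hsub : ∀ (σ : H) (a : A), σ • a - a ∈ IsLocalRing.maximalIdeal A := by
    intro σ a
    obtain ⟨c, hc⟩ := hres (IsLocalRing.residue A a)
    have hy : a - algebraMap R A c ∈ IsLocalRing.maximalIdeal A := by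
      rw [← IsLocalRing.residue_eq_zero_iff, map_sub, sub_eq_zero]
      exact hc.symm
    have h1 := Groth.Agent.Lib.Helper99.WildFixed.smul_mem_maximalIdeal σ hy
    have h2 : σ • a - a = σ • (a - algebraMap R A c) - (a - algebraMap R A c) := by
      rw [smul_sub, smul_algebraMap]; ring
    rw [h2]
    exact Ideal.sub_mem _ h1 hy
  let M : Matrix H H A := Matrix.of fun σ τ => σ • e τ
  have hdetm : M.det ∈ IsLocalRing.maximalIdeal A := by
    obtain ⟨σ0, hσ0⟩ := hnt
    rw [← IsLocalRing.residue_eq_zero_iff, RingHom.map_det]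
    apply Matrix.det_zero_of_row_eq hσ0
    funext τ
    show IsLocalRing.residue A (σ0 • e τ) = IsLocalRing.residue A ((1 : H) • e τ)
    rw [one_smul, ← sub_eq_zero, ← map_sub, IsLocalRing.residue_eq_zero_iff]
    exact hsub σ0 (e τ)
  have hne_top : Ideal.span ({M.det} : Set A) ≠ ⊤ := by
    intro h
    have h1 : Ideal.span ({M.det} : Set A) ≤ IsLocalRing.maximalIdeal A := by
      rw [Ideal.span_singleton_le_iff_mem]; exact hdetm
    rw [h, top_le_iff] at h1
    exact (IsLocalRing.maximalIdeal.isMaximal A).ne_top h1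
  obtain ⟨⟨P, hP⟩⟩ := Ideal.nonempty_minimalPrimes hne_top
  haveI hPprime : P.IsPrime := hP.1.1
  have hPht : P.height ≤ 1 := Ideal.height_le_one_of_isPrincipal_of_mem_minimalPrimes _ P hP
  have hhtA := height_maximalIdeal_eq_two A hdim
  have hP_ne : P ≠ IsLocalRing.maximalIdeal A := by
    intro h
    rw [h, hhtA] at hPht
    exact absurd hPht (by norm_num)
  have hdetP : M.det ∈ P := hP.1.2 (Ideal.mem_span_singleton_self _)
  obtain ⟨τ, hτ1, hτ⟩ := Groth.Agent.S15794.exists_inertia_of_det_mem e hspan P hdetP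
  exact ⟨P, hPprime, hP_ne, τ, hτ1, hτ⟩

/-- Let `R` be a regular local ring and `A` a normal local domain, finite over `R` (with `R → A`
injective) and with the same residue field; let a finite group `H` act faithfully on `A` by
`R`-algebra automorphisms with ring of invariants exactly `R` (so `Frac(A)/Frac(R)` is Galois with
group `H`); assume `A` has Krull dimension `2`, `H` has order `p ^ 2` for a prime `p`, and `Γ ≤ H`
is a subgroup of order `p` whose intersection with the inertia subgroup of every non-maximal prime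
of `A` is trivial (the action of `Γ` is ramified precisely at the origin). Then every nontrivial
inertia subgroup of a height-one prime of `A` has order `p`, and `H` is commutative with every
element satisfying `h ^ p = 1`, i.e. elementary abelian of order `p ^ 2`. (The published statement
is for `A` a complete regular local ring with an action ramified precisely at the origin, `R =
k[[x_1, …, x_n]]` a norm subring and `H` the Galois group of `Frac(A)/Frac(R)`, when that extension
is Galois; this row assumes only the hypotheses listed above.) -/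
theorem result
    (p : ℕ) [Fact p.Prime] (R : Type u) [CommRing R] [IsRegularLocalRing R]
    (A : Type v) [CommRing A] [IsDomain A] [IsIntegrallyClosed A] [IsLocalRing A]
    [Algebra R A] [Module.Finite R A] (hinj : Function.Injective (algebraMap R A))
    (hres : Function.Surjective (IsLocalRing.residue A ∘ algebraMap R A))
    (H : Type w) [Group H] [Finite H] [MulSemiringAction H A] [SMulCommClass H R A] [FaithfulSMul H A]
    (hfix : ∀ a : A, (∀ h : H, h • a = a) → a ∈ Set.range (algebraMap R A))
    (hdim : ringKrullDim A = 2) (hcard : Nat.card H = p ^ 2)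
    (Γ : Subgroup H) (hΓ : Nat.card Γ = p)
    (hram : ∀ P : Ideal A, P.IsPrime → P ≠ IsLocalRing.maximalIdeal A → P.inertia H ⊓ Γ = ⊥) :
    (∀ P : Ideal A, P.IsPrime → P.height = 1 → P.inertia H ≠ ⊥ → Nat.card (P.inertia H) = p) ∧
      (∀ g h : H, g * h = h * g) ∧ ∀ h : H, h ^ p = 1 := by
  classical
  have hp : p.Prime := Fact.out
  have hhtA : (IsLocalRing.maximalIdeal A).height = 2 := height_maximalIdeal_eq_two A hdim
  have hcomm : ∀ g h : H, g * h = h * g := (IsPGroup.isMulCommutative_of_card_eq_prime_sq hcard).is_comm.comm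
  have hΓne : Γ ≠ ⊥ := by
    intro h
    rw [h, Subgroup.card_bot] at hΓ
    exact hp.one_lt.ne hΓ
  have hcardI : ∀ P : Ideal A, P.IsPrime → P ≠ IsLocalRing.maximalIdeal A → P.inertia H ≠ ⊥ →
      Nat.card (P.inertia H) = p := by
    intro P hP hPne hI
    have hdvd : Nat.card (P.inertia H) ∣ p ^ 2 := by
      rw [← hcard]; exact Subgroup.card_subgroup_dvd_card _
    obtain ⟨j, hj, hjc⟩ := (Nat.dvd_prime_pow hp).mp hdvd
    interval_cases j
    · exfalso
      apply hI
      rw [pow_zero] at hjc
      exact Subgroup.card_eq_one.mp hjc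
    · rw [hjc, pow_one]
    · exfalso
      have htop : P.inertia H = ⊤ := Subgroup.eq_top_of_card_eq _ (by rw [hjc, hcard])
      have hb := hram P hP hPne
      rw [htop, top_inf_eq] at hb
      exact hΓne hb
  refine ⟨?_, hcomm, ?_⟩
  · intro P hP hht hI
    apply hcardI P hP _ hI
    intro h
    rw [h, hhtA] at hht
    exact absurd hht (by norm_num)
  · by_contra hcon
    push Not at hcon
    obtain ⟨h0, hh0⟩ := hcon
    let K : Subgroup H :=
      { carrier := {h | h ^ p = 1}
        mul_mem' := fun {a b} ha hb => by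
          show (a * b) ^ p = 1
          have hc : Commute a b := hcomm a b
          rw [hc.mul_pow, show a ^ p = 1 from ha, show b ^ p = 1 from hb, one_mul]
        one_mem' := one_pow p
        inv_mem' := fun {a} ha => by
          show (a⁻¹) ^ p = 1
          rw [inv_pow, show a ^ p = 1 from ha, inv_one] }
    have hKmem : ∀ h : H, h ∈ K ↔ h ^ p = 1 := fun h => Iff.rfl
    have hΓK : Γ ≤ K := by
      intro γ hγ
      rw [hKmem]
      have h1 : (⟨γ, hγ⟩ : Γ) ^ Nat.card Γ = 1 := pow_card_eq_one'
      rw [hΓ] at h1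
      have h2 := congrArg Subtype.val h1
      simpa using h2
    have hKcard : Nat.card K ≤ p := by
      have hdvd : Nat.card K ∣ p ^ 2 := by
        rw [← hcard]; exact Subgroup.card_subgroup_dvd_card _
      obtain ⟨j, hj, hjc⟩ := (Nat.dvd_prime_pow hp).mp hdvd
      interval_cases j
      · rw [hjc, pow_zero]; exact hp.one_lt.le
      · rw [hjc, pow_one]
      · exfalso
        have htop : K = ⊤ := Subgroup.eq_top_of_card_eq _ (by rw [hjc, hcard])
        apply hh0
        rw [← hKmem, htop]
        exact Subgroup.mem_top _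
    have hKΓ : Γ = K := Subgroup.eq_of_le_of_card_ge hΓK (by rw [hΓ]; exact hKcard)
    have hpow2 : ∀ τ : H, (τ ^ p) ^ p = 1 := by
      intro τ
      rw [← pow_mul, ← sq, ← hcard]
      exact pow_card_eq_one'
    have hnt : ∃ σ : H, σ ≠ 1 := ⟨h0, fun h => hh0 (by rw [h, one_pow])⟩
    obtain ⟨P, hP, hPne, τ, hτ1, hτ⟩ := exists_inertia_ne_bot R A hinj hres H hfix hdim hnt
    have hbot := hram P hP hPne
    have hΓmem : ∀ h : H, h ^ p = 1 → h ∈ Γ := by
      intro h hh
      rw [hKΓ]
      exact (hKmem h).mpr hh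
    have hτp : τ ^ p = 1 := by
      have h1 : τ ^ p ∈ P.inertia H ⊓ Γ :=
        Subgroup.mem_inf.mpr ⟨Subgroup.pow_mem _ hτ p, hΓmem _ (hpow2 τ)⟩
      rw [hbot, Subgroup.mem_bot] at h1
      exact h1
    have h2 : τ ∈ P.inertia H ⊓ Γ := Subgroup.mem_inf.mpr ⟨hτ, hΓmem _ hτp⟩
    rw [hbot, Subgroup.mem_bot] at h2
    exact hτ1 h2

end Groth.Agent.S15804
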