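import Groth.Statements.S15805
import Mathlib
import Groth.Agent.Lib.Helper99.ASTrace
-- import your own Groth.Agent.* helpers here

set_option autoImplicit false
universe u v
open WildQuot

namespace Groth.Agent.S15805

set_option linter.style.haveILetI false
set_option linter.unusedSectionVars false

open MvPolynomial Groth.Agent.Lib.Helper99.ASFamily Groth.Agent.Lib.Helper99.ASTrace

/-- invariance of a functional under a cyclic group acting by translations of the generators -/
theorem inv_abstract {R B : Type*} [CommRing R] [CommRing B] [Algebra R B] {ι : Type*} [Fintype ι]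
    {p : ℕ} (bas : Module.Basis (ι → Fin p) R B) (U : ι → B)
    (hbas : ∀ m : ι → Fin p, bas m = ∏ i, U i ^ ((m i : Fin p) : ℕ)) (t : ι → R)
    (lm : B →ₗ[R] R)
    (htr : ∀ m : ι → Fin p, lm (∏ i, (U i + algebraMap R B (t i)) ^ ((m i : Fin p) : ℕ)) =
      lm (∏ i, U i ^ ((m i : Fin p) : ℕ)))
    (G : Type*) [Group G] [MulSemiringAction G B] [SMulCommClass G R B]
    (g : G) (hgen : ∀ h : G, h ∈ Subgroup.zpowers g)
    (hg : ∀ i, g • U i = U i + algebraMap R B (t i)) :
    ∀ (h : G) (x : B), lm (h • x) = lm x := by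
  have hinv_g : ∀ x, lm (g • x) = lm x := by
    have hcomp : lm.comp (DistribSMul.toLinearMap R B g) = lm := by
      apply bas.ext
      intro m
      rw [LinearMap.comp_apply, DistribSMul.toLinearMap_apply, hbas m]
      have h1 : g • ∏ i, U i ^ ((m i : Fin p) : ℕ) =
          ∏ i, (U i + algebraMap R B (t i)) ^ ((m i : Fin p) : ℕ) := by
        rw [Finset.smul_prod']
        refine Finset.prod_congr rfl fun i _ => ?_
        rw [smul_pow', hg i]
      rw [h1]
      exact htr m
    intro x
    exact DFunLike.congr_fun hcomp x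
  let H : Subgroup G :=
    { carrier := {h | ∀ x, lm (h • x) = lm x}
      one_mem' := fun x => by rw [one_smul]
      mul_mem' := fun {h₁ h₂} hh₁ hh₂ x => by rw [mul_smul, hh₁, hh₂]
      inv_mem' := fun {h} hh x => by
        have := hh (h⁻¹ • x)
        rw [smul_inv_smul] at this
        exact this.symm }
  have hle : Subgroup.zpowers g ≤ H := by
    rw [Subgroup.zpowers_le]
    exact hinv_g
  intro h
  exact hle (hgen h)

/-- the skew group ring over a Frobenius algebra with invariant form is symmetric -/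
theorem main_abstract {R B : Type*} [CommRing R] [CommRing B] [Algebra R B]
    (G : Type*) [Group G] [Finite G] [MulSemiringAction G B] [SMulCommClass G R B]
    (lm : B →ₗ[R] R) (hinv : ∀ (h : G) (x : B), lm (h • x) = lm x)
    (hsurj : ∀ ψ : B →ₗ[R] R, ∃ cc : B, ∀ b, ψ b = lm (b * cc))
    (hinj : ∀ cc : B, (∀ b, lm (b * cc) = 0) → cc = 0) :
    ∃ φ : SkewMonoidAlgebra B G →ₗ[R] R,
      (∀ x y : SkewMonoidAlgebra B G, φ (x * y) = φ (y * x)) ∧
      Function.Injective (fun y : SkewMonoidAlgebra B G =>
        fun x : SkewMonoidAlgebra B G => φ (x * y)) ∧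
      ∀ ψ : SkewMonoidAlgebra B G →ₗ[R] R,
        ∃ y : SkewMonoidAlgebra B G, ∀ x, ψ x = φ (x * y) := by
  classical
  haveI : Fintype G := Fintype.ofFinite G
  obtain ⟨φ, hφ⟩ : ∃ φ : SkewMonoidAlgebra B G →ₗ[R] R,
      ∀ x, φ x = lm (x.coeff 1) :=
    ⟨{ toFun := fun x => lm (x.coeff 1)
       map_add' := fun x y => by
        rw [SkewMonoidAlgebra.coeff_add, Finsupp.add_apply, map_add]
       map_smul' := fun r x => by
        rw [SkewMonoidAlgebra.coeff_smul, Finsupp.smul_apply, map_smul]
        rfl }, fun x => rfl⟩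
  have hkey : ∀ (h : G) (b : B) (y : SkewMonoidAlgebra B G),
      φ (SkewMonoidAlgebra.single h b * y) = lm (b * h • y.coeff h⁻¹) := by
    intro h b y
    rw [hφ, SkewMonoidAlgebra.coeff_single_mul, mul_one]
  refine ⟨φ, ?_, ?_, ?_⟩
  · -- symmetry
    intro x y
    induction x using SkewMonoidAlgebra.induction_on with
    | zero => rw [zero_mul, mul_zero]
    | single h₁ b₁ =>
      induction y using SkewMonoidAlgebra.induction_on with
      | zero => rw [zero_mul, mul_zero]
      | single h₂ b₂ =>
        rw [hφ, hφ, SkewMonoidAlgebra.single_mul_single, SkewMonoidAlgebra.single_mul_single,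
          SkewMonoidAlgebra.coeff_single_apply, SkewMonoidAlgebra.coeff_single_apply]
        by_cases h : h₁ * h₂ = 1
        · have h' : h₂ * h₁ = 1 := mul_eq_one_comm.mp h
          rw [if_pos h, if_pos h']
          have h2 : h₂ = h₁⁻¹ := (inv_eq_of_mul_eq_one_right h).symm
          rw [h2]
          calc lm (b₁ * h₁ • b₂) = lm (h₁ • b₂ * b₁) := by rw [mul_comm]
            _ = lm (h₁ • (b₂ * h₁⁻¹ • b₁)) := by rw [smul_mul', smul_inv_smul]
            _ = lm (b₂ * h₁⁻¹ • b₁) := hinv h₁ _
        · have h' : ¬ h₂ * h₁ = 1 := fun h'' => h (mul_eq_one_comm.mp h'')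
          rw [if_neg h, if_neg h']
      | add y₁ y₂ h1 h2 => rw [mul_add, add_mul, map_add, map_add, h1, h2]
    | add x₁ x₂ h1 h2 => rw [add_mul, mul_add, map_add, map_add, h1, h2]
  · -- injectivity
    intro y y' hyy'
    have h0 : ∀ x, φ (x * (y - y')) = 0 := by
      intro x
      rw [mul_sub, map_sub, sub_eq_zero]
      exact congrFun hyy' x
    have hz : y - y' = 0 := by
      apply SkewMonoidAlgebra.ext
      intro h
      have h2 : h⁻¹ • (y - y').coeff h = 0 := by
        apply hinj
        intro b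
        have := hkey h⁻¹ b (y - y')
        rw [inv_inv, h0] at this
        exact this.symm
      rw [smul_eq_zero_iff_eq] at h2
      rw [h2, SkewMonoidAlgebra.coeff_zero, Finsupp.zero_apply]
    exact sub_eq_zero.mp hz
  · -- surjectivity
    intro ψ
    have hψh : ∀ h : G, ∃ cc : B, ∀ b, ψ (SkewMonoidAlgebra.single h b) = lm (b * cc) := by
      intro h
      exact hsurj
        { toFun := fun b => ψ (SkewMonoidAlgebra.single h b)
          map_add' := fun b b' => by rw [SkewMonoidAlgebra.single_add, map_add]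
          map_smul' := fun r b => by
            rw [← SkewMonoidAlgebra.smul_single, map_smul]
            rfl }
    choose cc hcc using hψh
    refine ⟨SkewMonoidAlgebra.ofCoeff (Finsupp.equivFunOnFinite.symm fun h' => h' • cc h'⁻¹), ?_⟩
    intro x
    induction x using SkewMonoidAlgebra.induction_on with
    | zero => rw [zero_mul, map_zero, map_zero]
    | single h b =>
      rw [hkey, hcc]
      congr 2
      show cc h = h • (Finsupp.equivFunOnFinite.symm fun h' => h' • cc h'⁻¹) h⁻¹
      rw [Finsupp.equivFunOnFinite_symm_apply_apply, inv_inv, smul_inv_smul]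
    | add x₁ x₂ h1 h2 => rw [add_mul, map_add, map_add, h1, h2]

end Groth.Agent.S15805

namespace Groth.Agent.S15805

set_option maxHeartbeats 4000000 in
open MvPolynomial in
/-- Let `k` be a field of characteristic `p > 0`, `R = k[[x_1, …, x_n]]`, `a_1, …, a_n ∈ R` with zero
constant term and not all zero, and `A = R[u_1, …, u_n] / (u_i ^ p - a_i ^ (p-1) u_i - x_i : i =
1..n)`. Let `G` be a group of order `p` acting on `A` by `R`-algebra automorphisms, generated by an
element `g` acting by `u_i ↦ u_i + a_i`. Then the skew group ring `A∗G` (free `A`-module on `G` with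
`(a g)(b h) = a g(b) gh`) is a symmetric `R`-algebra: there is an `R`-linear form `φ : A∗G → R` with
`φ(xy) = φ(yx)` for all `x, y`, such that `y ↦ (x ↦ φ(x y))` is injective and reaches every
`R`-linear form on `A∗G` (so `Hom_R(A∗G, R) ≅ A∗G` as bimodules). -/
theorem result
    (p : ℕ) [Fact p.Prime] (k : Type u) [Field k] [CharP k p] (n : ℕ)
    (a : Fin n → MvPowerSeries (Fin n) k)
    (ham : ∀ i, MvPowerSeries.constantCoeff (a i) = 0) (hne : ∃ i, a i ≠ 0) :
    let R := MvPowerSeries (Fin n) k
    let I : Ideal (MvPolynomial (Fin n) R) :=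
      Ideal.span (Set.range fun i : Fin n =>
        X i ^ p - C (a i ^ (p - 1)) * X i - C (MvPowerSeries.X i))
    let A := MvPolynomial (Fin n) R ⧸ I
    ∀ (G : Type v) [Group G] [Finite G] [MulSemiringAction G A] [SMulCommClass G R A]
      (g : G), Nat.card G = p → (∀ h : G, h ∈ Subgroup.zpowers g) →
      (∀ i, g • (Ideal.Quotient.mk I (X i)) = Ideal.Quotient.mk I (X i) + algebraMap R A (a i)) →
      ∃ φ : SkewMonoidAlgebra A G →ₗ[R] R,
        (∀ x y : SkewMonoidAlgebra A G, φ (x * y) = φ (y * x)) ∧
        Function.Injective (fun y : SkewMonoidAlgebra A G => fun x : SkewMonoidAlgebra A G => φ (x * y)) ∧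
        ∀ ψ : SkewMonoidAlgebra A G →ₗ[R] R, ∃ y : SkewMonoidAlgebra A G, ∀ x, ψ x = φ (x * y) := by
  intro R I A G _ _ iact icomm g _ hgen hg
  have hp2 : 2 ≤ p := (Fact.out : p.Prime).two_le
  have hinv := inv_abstract (R := R) (B := A)
    (Groth.Agent.Lib.Helper99.ASFamily.asBasis p (fun i => a i ^ (p - 1)) (fun i => MvPowerSeries.X i) hp2)
    (fun i => Groth.Agent.Lib.Helper99.ASTrace.UU p (fun i => a i ^ (p - 1)) (fun i => MvPowerSeries.X i) i)
    (Groth.Agent.Lib.Helper99.ASFamily.asBasis_apply p (fun i => a i ^ (p - 1)) (fun i => MvPowerSeries.X i) hp2) a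
    (Groth.Agent.Lib.Helper99.ASTrace.lam p (fun i => a i ^ (p - 1)) (fun i => MvPowerSeries.X i) hp2)
    (Groth.Agent.Lib.Helper99.ASTrace.lam_translate p (fun i => a i ^ (p - 1)) (fun i => MvPowerSeries.X i) hp2 a)
    G g hgen hg
  refine main_abstract (R := R) (B := A) G
    (Groth.Agent.Lib.Helper99.ASTrace.lam p (fun i => a i ^ (p - 1)) (fun i => MvPowerSeries.X i) hp2) hinv ?_ ?_
  · intro ψ
    obtain ⟨cc, hcc⟩ := Groth.Agent.Lib.Helper99.ASTrace.Theta_surjective p (fun i => a i ^ (p - 1))
      (fun i => MvPowerSeries.X i) hp2 ψ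
    refine ⟨cc, fun b => ?_⟩
    rw [← hcc, Groth.Agent.Lib.Helper99.ASTrace.Theta_apply, mul_comm]
  · intro cc hcc
    apply Groth.Agent.Lib.Helper99.ASTrace.Theta_injective p (fun i => a i ^ (p - 1)) (fun i => MvPowerSeries.X i) hp2
    rw [map_zero]
    apply LinearMap.ext
    intro b
    rw [Groth.Agent.Lib.Helper99.ASTrace.Theta_apply, LinearMap.zero_apply, mul_comm]
    exact hcc b

end Groth.Agent.S15805
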