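import Groth.Statements.S15807
import Mathlib
import Groth.Agent.Lib.Helper99.ASFamily
-- import your own Groth.Agent.* helpers here

set_option autoImplicit false
universe u
open WildQuot

namespace Groth.Agent.S15807

set_option linter.style.haveILetI false
set_option linter.unusedSectionVars false

open MvPolynomial Groth.Agent.Lib.Helper99.ASFamily

section Abstract

theorem abs_minor {A : Type*} [CommRing A] (q : ℕ)
    (hsub : ∀ x y : A, (x - y) ^ (q + 1) = x ^ (q + 1) - y ^ (q + 1))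
    (a aj μ uj u0 xj x0 : A) (hj : uj ^ (q + 1) = (μ * aj) ^ q * uj + xj)
    (h0 : u0 ^ (q + 1) = (μ * a) ^ q * u0 + x0) :
    (a * uj - aj * u0) ^ (q + 1) =
      (μ * a * aj) ^ q * (a * uj - aj * u0) + (a ^ (q + 1) * xj - aj ^ (q + 1) * x0) := by
  rw [hsub]
  linear_combination a ^ (q + 1) * hj - aj ^ (q + 1) * h0

theorem abs_inv_rel {S : Type*} [CommRing S] (q : ℕ)
    (hadd : ∀ x y : S, (x + y) ^ (q + 1) = x ^ (q + 1) + y ^ (q + 1))
    (a aj μ xj x0 W U t : S) (ht : a * t = 1)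
    (h1 : W ^ (q + 1) = (μ * a * aj) ^ q * W + (a ^ (q + 1) * xj - aj ^ (q + 1) * x0))
    (h2 : U ^ (q + 1) = (μ * a) ^ q * U + x0) :
    ((W + aj * U) * t) ^ (q + 1) = (μ * aj) ^ q * ((W + aj * U) * t) + xj := by
  have A1 : a ^ q * t ^ q = 1 := by rw [← mul_pow, ht, one_pow]
  have A2 : a ^ (q + 1) * t ^ (q + 1) = 1 := by rw [← mul_pow, ht, one_pow]
  have E0 := hadd W (aj * U)
  rw [mul_pow]
  linear_combination (t ^ (q + 1)) * E0 + t ^ (q + 1) * h1 + (aj ^ (q + 1) * t ^ (q + 1)) * h2 +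
    (μ ^ q * aj ^ q * (W + aj * U) * t) * A1 + xj * A2

theorem rel_gen {R : Type*} [CommRing R] {ι : Type*} (p : ℕ) (c e : ι → R) (i : ι) :
    (Ideal.Quotient.mk (Ideal.span (Set.range (asRel p c e))) (X i)) ^ p =
      algebraMap R (MvPolynomial ι R ⧸ Ideal.span (Set.range (asRel p c e))) (c i) *
        Ideal.Quotient.mk (Ideal.span (Set.range (asRel p c e))) (X i) +
      algebraMap R (MvPolynomial ι R ⧸ Ideal.span (Set.range (asRel p c e))) (e i) := by
  have h : Ideal.Quotient.mk (Ideal.span (Set.range (asRel p c e)))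
      (X i ^ p - C (c i) * X i - C (e i)) = 0 :=
    Ideal.Quotient.eq_zero_iff_mem.mpr (Ideal.subset_span ⟨i, rfl⟩)
  rw [map_sub, map_sub, map_mul, map_pow] at h
  have e1 : ∀ r, algebraMap R (MvPolynomial ι R ⧸ Ideal.span (Set.range (asRel p c e))) r =
      Ideal.Quotient.mk (Ideal.span (Set.range (asRel p c e))) (C r) := fun r => rfl
  rw [e1, e1]
  linear_combination h

end Abstract

section Main

variable (p : ℕ) [hp : Fact p.Prime] {k : Type u} [Field k] [CharP k p] {n : ℕ}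
  (a : Fin n → MvPowerSeries (Fin n) k) (μ : MvPowerSeries (Fin n) k) (i₀ : Fin n)

/-- the index type of the minors -/
abbrev JJ := {j : Fin n // j ≠ i₀}

/-- the coefficients `μ a_i` -/
noncomputable abbrev aa (i : Fin n) : MvPowerSeries (Fin n) k := μ * a i

instance charP_R : CharP (MvPowerSeries (Fin n) k) p :=
  charP_of_injective_algebraMap (algebraMap k (MvPowerSeries (Fin n) k)).injective p

instance charP_A : CharP (AS p (aa a μ)) p :=
  charP_of_injective_algebraMap (algebraMap_injective p (aa a μ)) p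

/-- the minor elements -/
noncomputable def zz (j : JJ i₀) : AS p (aa a μ) :=
  algebraMap (MvPowerSeries (Fin n) k) (AS p (aa a μ)) (a i₀) * uu p (aa a μ) j.1 -
    algebraMap (MvPowerSeries (Fin n) k) (AS p (aa a μ)) (a j.1) * uu p (aa a μ) i₀

/-- coefficients of the relations of the minors -/
noncomputable def cJ (j : JJ i₀) : MvPowerSeries (Fin n) k := (μ * a i₀ * a j.1) ^ (p - 1)

/-- constant terms of the relations of the minors -/
noncomputable def eJ (j : JJ i₀) : MvPowerSeries (Fin n) k :=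
  a i₀ ^ p * MvPowerSeries.X j.1 - a j.1 ^ p * MvPowerSeries.X i₀

/-- coefficients for the enlarged algebra -/
noncomputable def cO (o : Option (JJ i₀)) : MvPowerSeries (Fin n) k :=
  o.elim ((μ * a i₀) ^ (p - 1)) (cJ p a μ i₀)

/-- constant terms for the enlarged algebra -/
noncomputable def eO (o : Option (JJ i₀)) : MvPowerSeries (Fin n) k :=
  o.elim (MvPowerSeries.X i₀) (eJ p a i₀)

/-- the enlarged algebra -/
abbrev CC' := MvPolynomial (Option (JJ i₀)) (MvPowerSeries (Fin n) k) ⧸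
  Ideal.span (Set.range (asRel p (cO p a μ i₀) (eO p a i₀)))

/-- its generators -/
noncomputable abbrev WW (o : Option (JJ i₀)) : CC' p a μ i₀ :=
  Ideal.Quotient.mk (Ideal.span (Set.range (asRel p (cO p a μ i₀) (eO p a i₀)))) (X o)

theorem zz_rel (j : JJ i₀) : zz p a μ i₀ j ^ p =
    algebraMap (MvPowerSeries (Fin n) k) (AS p (aa a μ)) (cJ p a μ i₀ j) * zz p a μ i₀ j +
      algebraMap (MvPowerSeries (Fin n) k) (AS p (aa a μ)) (eJ p a i₀ j) := by
  have hq : p - 1 + 1 = p := Nat.sub_add_cancel hp.out.one_le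
  have hsub : ∀ x y : AS p (aa a μ), (x - y) ^ (p - 1 + 1) =
      x ^ (p - 1 + 1) - y ^ (p - 1 + 1) := by
    intro x y
    rw [hq]
    exact sub_pow_char x y
  have hrel : ∀ i, uu p (aa a μ) i ^ (p - 1 + 1) =
      (algebraMap (MvPowerSeries (Fin n) k) (AS p (aa a μ)) μ *
        algebraMap (MvPowerSeries (Fin n) k) (AS p (aa a μ)) (a i)) ^ (p - 1) * uu p (aa a μ) i +
        algebraMap (MvPowerSeries (Fin n) k) (AS p (aa a μ)) (MvPowerSeries.X i) := by
    intro i
    rw [hq, rel p (aa a μ) i, map_pow, map_mul]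
  have h := abs_minor (p - 1) hsub
    (algebraMap (MvPowerSeries (Fin n) k) (AS p (aa a μ)) (a i₀))
    (algebraMap (MvPowerSeries (Fin n) k) (AS p (aa a μ)) (a j.1))
    (algebraMap (MvPowerSeries (Fin n) k) (AS p (aa a μ)) μ)
    (uu p (aa a μ) j.1) (uu p (aa a μ) i₀) _ _ (hrel j.1) (hrel i₀)
  rw [hq] at h
  unfold zz cJ eJ
  rw [h]
  simp only [map_sub, map_mul, map_pow]

/-- images of the generators of the enlarged algebra -/
noncomputable def phiGen (o : Option (JJ i₀)) : AS p (aa a μ) :=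
  o.elim (uu p (aa a μ) i₀) (zz p a μ i₀)

/-- the map from the enlarged algebra -/
noncomputable def Phi : CC' p a μ i₀ →ₐ[MvPowerSeries (Fin n) k] AS p (aa a μ) :=
  Ideal.Quotient.liftₐ _ (aeval (R := MvPowerSeries (Fin n) k) (phiGen p a μ i₀)) (by
    have hle : Ideal.span (Set.range (asRel p (cO p a μ i₀) (eO p a i₀))) ≤
        RingHom.ker (aeval (R := MvPowerSeries (Fin n) k) (phiGen p a μ i₀)) := by
      rw [Ideal.span_le]
      rintro _ ⟨o, rfl⟩
      rw [SetLike.mem_coe, RingHom.mem_ker]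
      show aeval (R := MvPowerSeries (Fin n) k) (phiGen p a μ i₀)
        (X o ^ p - C (cO p a μ i₀ o) * X o - C (eO p a i₀ o)) = 0
      rw [map_sub, map_sub, map_mul, map_pow, aeval_X, aeval_C, aeval_C]
      cases o with
      | none =>
        show uu p (aa a μ) i₀ ^ p -
          algebraMap (MvPowerSeries (Fin n) k) (AS p (aa a μ)) ((μ * a i₀) ^ (p - 1)) *
            uu p (aa a μ) i₀ -
          algebraMap (MvPowerSeries (Fin n) k) (AS p (aa a μ)) (MvPowerSeries.X i₀) = 0
        rw [rel p (aa a μ) i₀]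
        ring
      | some j =>
        show zz p a μ i₀ j ^ p -
          algebraMap (MvPowerSeries (Fin n) k) (AS p (aa a μ)) (cJ p a μ i₀ j) * zz p a μ i₀ j -
          algebraMap (MvPowerSeries (Fin n) k) (AS p (aa a μ)) (eJ p a i₀ j) = 0
        rw [zz_rel]
        ring
    intro x hx
    exact RingHom.mem_ker.mp (hle hx))

theorem Phi_W (o : Option (JJ i₀)) : Phi p a μ i₀ (WW p a μ i₀ o) = phiGen p a μ i₀ o := by
  show aeval (R := MvPowerSeries (Fin n) k) (phiGen p a μ i₀) (X o) = _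
  exact aeval_X _ _

instance : Module.Free (MvPowerSeries (Fin n) k) (CC' p a μ i₀) :=
  Module.Free.of_basis (asBasis p (cO p a μ i₀) (eO p a i₀) hp.out.two_le)

instance : Nontrivial (CC' p a μ i₀) :=
  RingHom.domain_nontrivial (Phi p a μ i₀).toRingHom

/-- the localization of the enlarged algebra -/
abbrev SS := Localization.Away (algebraMap (MvPowerSeries (Fin n) k) (CC' p a μ i₀) (a i₀))

/-- the inverse of `a i₀` -/
noncomputable def tt : SS p a μ i₀ :=
  IsLocalization.Away.invSelf (algebraMap (MvPowerSeries (Fin n) k) (CC' p a μ i₀) (a i₀))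

theorem a_mul_tt :
    algebraMap (MvPowerSeries (Fin n) k) (SS p a μ i₀) (a i₀) * tt p a μ i₀ = 1 := by
  rw [IsScalarTower.algebraMap_apply (MvPowerSeries (Fin n) k) (CC' p a μ i₀) (SS p a μ i₀)]
  exact IsLocalization.Away.mul_invSelf _

variable (ha0 : a i₀ ≠ 0)

include ha0 in
theorem algebraMap_CS_injective :
    Function.Injective (algebraMap (CC' p a μ i₀) (SS p a μ i₀)) := by
  apply IsLocalization.injective (SS p a μ i₀)
    (M := Submonoid.powers (algebraMap (MvPowerSeries (Fin n) k) (CC' p a μ i₀) (a i₀)))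
  rw [Submonoid.powers_le, mem_nonZeroDivisors_iff_right]
  intro x hx
  have h0 : a i₀ • x = 0 := (Algebra.smul_def (a i₀) x).trans ((mul_comm _ _).trans hx)
  exact (smul_eq_zero.mp h0).resolve_left ha0

include ha0 in
theorem charP_S : CharP (SS p a μ i₀) p :=
  charP_of_injective_ringHom (f := algebraMap (MvPowerSeries (Fin n) k) (SS p a μ i₀)) (by
    rw [IsScalarTower.algebraMap_eq (MvPowerSeries (Fin n) k) (CC' p a μ i₀) (SS p a μ i₀),
      RingHom.coe_comp]
    exact (algebraMap_CS_injective p a μ i₀ ha0).comp (FaithfulSMul.algebraMap_injective _ _)) p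

theorem W_rel_S (o : Option (JJ i₀)) :
    algebraMap (CC' p a μ i₀) (SS p a μ i₀) (WW p a μ i₀ o) ^ p =
      algebraMap (MvPowerSeries (Fin n) k) (SS p a μ i₀) (cO p a μ i₀ o) *
        algebraMap (CC' p a μ i₀) (SS p a μ i₀) (WW p a μ i₀ o) +
      algebraMap (MvPowerSeries (Fin n) k) (SS p a μ i₀) (eO p a i₀ o) := by
  have h := congrArg (algebraMap (CC' p a μ i₀) (SS p a μ i₀))
    (rel_gen p (cO p a μ i₀) (eO p a i₀) o)
  rw [map_pow, map_add, map_mul, ← IsScalarTower.algebraMap_apply,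
    ← IsScalarTower.algebraMap_apply] at h
  exact h

/-- the images of the variables in the localization -/
noncomputable def vv (i : Fin n) : SS p a μ i₀ :=
  if h : i = i₀ then algebraMap (CC' p a μ i₀) (SS p a μ i₀) (WW p a μ i₀ none)
  else (algebraMap (CC' p a μ i₀) (SS p a μ i₀) (WW p a μ i₀ (some ⟨i, h⟩)) +
    algebraMap (MvPowerSeries (Fin n) k) (SS p a μ i₀) (a i) *
      algebraMap (CC' p a μ i₀) (SS p a μ i₀) (WW p a μ i₀ none)) * tt p a μ i₀

include ha0 in
theorem vv_rel (i : Fin n) : vv p a μ i₀ i ^ p =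
    (algebraMap (MvPowerSeries (Fin n) k) (SS p a μ i₀) μ *
      algebraMap (MvPowerSeries (Fin n) k) (SS p a μ i₀) (a i)) ^ (p - 1) * vv p a μ i₀ i +
      algebraMap (MvPowerSeries (Fin n) k) (SS p a μ i₀) (MvPowerSeries.X i) := by
  haveI := charP_S p a μ i₀ ha0
  have hq : p - 1 + 1 = p := Nat.sub_add_cancel hp.out.one_le
  have h2' : algebraMap (CC' p a μ i₀) (SS p a μ i₀) (WW p a μ i₀ none) ^ p =
      (algebraMap (MvPowerSeries (Fin n) k) (SS p a μ i₀) μ *
        algebraMap (MvPowerSeries (Fin n) k) (SS p a μ i₀) (a i₀)) ^ (p - 1) *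
        algebraMap (CC' p a μ i₀) (SS p a μ i₀) (WW p a μ i₀ none) +
      algebraMap (MvPowerSeries (Fin n) k) (SS p a μ i₀) (MvPowerSeries.X i₀) := by
    rw [W_rel_S p a μ i₀ none]
    show algebraMap (MvPowerSeries (Fin n) k) (SS p a μ i₀) ((μ * a i₀) ^ (p - 1)) * _ +
      algebraMap (MvPowerSeries (Fin n) k) (SS p a μ i₀) (MvPowerSeries.X i₀) = _
    rw [map_pow, map_mul]
  by_cases h : i = i₀
  · unfold vv
    rw [dif_pos h, h]
    exact h2'
  · unfold vv
    rw [dif_neg h]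
    have hadd : ∀ x y : SS p a μ i₀, (x + y) ^ (p - 1 + 1) =
        x ^ (p - 1 + 1) + y ^ (p - 1 + 1) := by
      intro x y
      rw [hq]
      exact add_pow_char x y p
    have h1 : algebraMap (CC' p a μ i₀) (SS p a μ i₀) (WW p a μ i₀ (some ⟨i, h⟩)) ^ (p - 1 + 1) =
        (algebraMap (MvPowerSeries (Fin n) k) (SS p a μ i₀) μ *
          algebraMap (MvPowerSeries (Fin n) k) (SS p a μ i₀) (a i₀) *
          algebraMap (MvPowerSeries (Fin n) k) (SS p a μ i₀) (a i)) ^ (p - 1) *
          algebraMap (CC' p a μ i₀) (SS p a μ i₀) (WW p a μ i₀ (some ⟨i, h⟩)) +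
        (algebraMap (MvPowerSeries (Fin n) k) (SS p a μ i₀) (a i₀) ^ (p - 1 + 1) *
            algebraMap (MvPowerSeries (Fin n) k) (SS p a μ i₀) (MvPowerSeries.X i) -
          algebraMap (MvPowerSeries (Fin n) k) (SS p a μ i₀) (a i) ^ (p - 1 + 1) *
            algebraMap (MvPowerSeries (Fin n) k) (SS p a μ i₀) (MvPowerSeries.X i₀)) := by
      rw [hq, W_rel_S p a μ i₀ (some ⟨i, h⟩)]
      show algebraMap (MvPowerSeries (Fin n) k) (SS p a μ i₀) (cJ p a μ i₀ ⟨i, h⟩) * _ +
        algebraMap (MvPowerSeries (Fin n) k) (SS p a μ i₀) (eJ p a i₀ ⟨i, h⟩) = _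
      unfold cJ eJ
      simp only [map_sub, map_mul, map_pow]
    have h2 : algebraMap (CC' p a μ i₀) (SS p a μ i₀) (WW p a μ i₀ none) ^ (p - 1 + 1) =
        (algebraMap (MvPowerSeries (Fin n) k) (SS p a μ i₀) μ *
          algebraMap (MvPowerSeries (Fin n) k) (SS p a μ i₀) (a i₀)) ^ (p - 1) *
          algebraMap (CC' p a μ i₀) (SS p a μ i₀) (WW p a μ i₀ none) +
        algebraMap (MvPowerSeries (Fin n) k) (SS p a μ i₀) (MvPowerSeries.X i₀) := by
      rw [hq]
      exact h2'
    have h3 := abs_inv_rel (p - 1) hadd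
      (algebraMap (MvPowerSeries (Fin n) k) (SS p a μ i₀) (a i₀))
      (algebraMap (MvPowerSeries (Fin n) k) (SS p a μ i₀) (a i))
      (algebraMap (MvPowerSeries (Fin n) k) (SS p a μ i₀) μ)
      (algebraMap (MvPowerSeries (Fin n) k) (SS p a μ i₀) (MvPowerSeries.X i))
      (algebraMap (MvPowerSeries (Fin n) k) (SS p a μ i₀) (MvPowerSeries.X i₀))
      (algebraMap (CC' p a μ i₀) (SS p a μ i₀) (WW p a μ i₀ (some ⟨i, h⟩)))
      (algebraMap (CC' p a μ i₀) (SS p a μ i₀) (WW p a μ i₀ none))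
      (tt p a μ i₀) (a_mul_tt p a μ i₀) h1 h2
    rw [hq] at h3
    exact h3

/-- the map to the localization -/
noncomputable def Psi : AS p (aa a μ) →ₐ[MvPowerSeries (Fin n) k] SS p a μ i₀ :=
  Ideal.Quotient.liftₐ (asI p (aa a μ)) (aeval (R := MvPowerSeries (Fin n) k) (vv p a μ i₀)) (by
    have hle : asI p (aa a μ) ≤
        RingHom.ker (aeval (R := MvPowerSeries (Fin n) k) (vv p a μ i₀)) := by
      rw [Ideal.span_le]
      rintro _ ⟨i, rfl⟩
      rw [SetLike.mem_coe, RingHom.mem_ker]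
      show aeval (R := MvPowerSeries (Fin n) k) (vv p a μ i₀)
        (X i ^ p - C ((μ * a i) ^ (p - 1)) * X i - C (MvPowerSeries.X i)) = 0
      rw [map_sub, map_sub, map_mul, map_pow, aeval_X, aeval_C, aeval_C,
        vv_rel p a μ i₀ ha0 i, map_pow, map_mul]
      ring
    intro x hx
    exact RingHom.mem_ker.mp (hle hx))

theorem Psi_uu (i : Fin n) : Psi p a μ i₀ ha0 (uu p (aa a μ) i) = vv p a μ i₀ i := by
  show aeval (R := MvPowerSeries (Fin n) k) (vv p a μ i₀) (X i) = _
  exact aeval_X _ _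

theorem Psi_Phi (c : CC' p a μ i₀) :
    Psi p a μ i₀ ha0 (Phi p a μ i₀ c) = algebraMap (CC' p a μ i₀) (SS p a μ i₀) c := by
  have h : (Psi p a μ i₀ ha0).comp (Phi p a μ i₀) =
      IsScalarTower.toAlgHom (MvPowerSeries (Fin n) k) (CC' p a μ i₀) (SS p a μ i₀) := by
    apply Ideal.Quotient.algHom_ext
    apply MvPolynomial.algHom_ext
    intro o
    show Psi p a μ i₀ ha0 (Phi p a μ i₀ (WW p a μ i₀ o)) =
      algebraMap (CC' p a μ i₀) (SS p a μ i₀) (WW p a μ i₀ o)
    rw [Phi_W]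
    cases o with
    | none =>
      show Psi p a μ i₀ ha0 (uu p (aa a μ) i₀) = _
      rw [Psi_uu]
      unfold vv
      rw [dif_pos rfl]
    | some j =>
      show Psi p a μ i₀ ha0 (zz p a μ i₀ j) = _
      unfold zz
      rw [map_sub, map_mul, map_mul, AlgHom.commutes, AlgHom.commutes, Psi_uu, Psi_uu]
      unfold vv
      rw [dif_neg j.2, dif_pos rfl]
      have ht := a_mul_tt p a μ i₀
      linear_combination (algebraMap (CC' p a μ i₀) (SS p a μ i₀) (WW p a μ i₀ (some j)) +
        algebraMap (MvPowerSeries (Fin n) k) (SS p a μ i₀) (a j.1) *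
          algebraMap (CC' p a μ i₀) (SS p a μ i₀) (WW p a μ i₀ none)) * ht
  exact DFunLike.congr_fun h c

theorem span_le_ker : Ideal.span (Set.range (asRel p (cJ p a μ i₀) (eJ p a i₀))) ≤
    RingHom.ker (aeval (R := MvPowerSeries (Fin n) k) (zz p a μ i₀)) := by
  rw [Ideal.span_le]
  rintro _ ⟨j, rfl⟩
  rw [SetLike.mem_coe, RingHom.mem_ker]
  show aeval (R := MvPowerSeries (Fin n) k) (zz p a μ i₀)
    (X j ^ p - C (cJ p a μ i₀ j) * X j - C (eJ p a i₀ j)) = 0
  rw [map_sub, map_sub, map_mul, map_pow, aeval_X, aeval_C, aeval_C, zz_rel]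
  ring

/-- the map from the complete intersection -/
noncomputable def phi : (MvPolynomial (JJ i₀) (MvPowerSeries (Fin n) k) ⧸
    Ideal.span (Set.range (asRel p (cJ p a μ i₀) (eJ p a i₀)))) →ₐ[MvPowerSeries (Fin n) k]
    AS p (aa a μ) :=
  Ideal.Quotient.liftₐ _ (aeval (R := MvPowerSeries (Fin n) k) (zz p a μ i₀))
    (fun _ hx => RingHom.mem_ker.mp (span_le_ker p a μ i₀ hx))

include ha0 in
theorem aux : RingHom.ker (aeval (R := MvPowerSeries (Fin n) k) (zz p a μ i₀)) =
    Ideal.span (Set.range (asRel p (cJ p a μ i₀) (eJ p a i₀))) := by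
  classical
  apply le_antisymm _ (span_le_ker p a μ i₀)
  intro P hP
  rw [RingHom.mem_ker] at hP
  have hPhi_inj : Function.Injective (Phi p a μ i₀) := by
    apply Function.Injective.of_comp (f := Psi p a μ i₀ ha0)
    intro c₁ c₂ h
    simp only [Function.comp_apply, Psi_Phi] at h
    exact algebraMap_CS_injective p a μ i₀ ha0 h
  obtain ⟨BC, hBC⟩ : ∃ BC, BC = asBasis p (cJ p a μ i₀) (eJ p a i₀) hp.out.two_le := ⟨_, rfl⟩
  obtain ⟨BO, hBO⟩ : ∃ BO, BO = asBasis p (cO p a μ i₀) (eO p a i₀) hp.out.two_le := ⟨_, rfl⟩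
  obtain ⟨ext, hext_def⟩ : ∃ ext : (JJ i₀ → Fin p) → (Option (JJ i₀) → Fin p),
      ext = fun m o => o.elim ⟨0, hp.out.pos⟩ m := ⟨_, rfl⟩
  have hext : Function.Injective ext := by
    intro m m' h
    funext j
    have := congrFun h (some j)
    rw [hext_def] at this
    exact this
  have hL : ∀ m : JJ i₀ → Fin p, phi p a μ i₀ (BC m) =
      ∏ j, zz p a μ i₀ j ^ ((m j : Fin p) : ℕ) := by
    intro m
    rw [hBC, asBasis_apply, map_prod]
    refine Finset.prod_congr rfl fun j _ => ?_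
    rw [map_pow]
    congr 1
    exact aeval_X _ _
  have hR : ∀ m : JJ i₀ → Fin p, Phi p a μ i₀ (BO (ext m)) =
      ∏ j, zz p a μ i₀ j ^ ((m j : Fin p) : ℕ) := by
    intro m
    rw [hBO, asBasis_apply, map_prod, Fintype.prod_option]
    have h0 : Phi p a μ i₀ (WW p a μ i₀ none ^ ((ext m none : Fin p) : ℕ)) = 1 := by
      rw [hext_def]
      show Phi p a μ i₀ (WW p a μ i₀ none ^ 0) = 1
      rw [pow_zero, map_one]
    rw [h0, one_mul]
    refine Finset.prod_congr rfl fun j _ => ?_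
    rw [map_pow, Phi_W, hext_def]
    rfl
  have hsum := BC.sum_repr (Ideal.Quotient.mk _ P)
  have h2 : phi p a μ i₀ (∑ m, BC.repr (Ideal.Quotient.mk _ P) m • BC m) = 0 := by
    rw [hsum]
    exact hP
  rw [map_sum] at h2
  have h3 : Phi p a μ i₀ (∑ m, BC.repr (Ideal.Quotient.mk _ P) m • BO (ext m)) = 0 := by
    rw [map_sum, ← h2]
    refine Finset.sum_congr rfl fun m _ => ?_
    rw [map_smul, map_smul, hL m, hR m]
  have h4 : ∑ m, BC.repr (Ideal.Quotient.mk _ P) m • BO (ext m) = 0 :=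
    hPhi_inj (h3.trans (map_zero _).symm)
  have hli := BO.linearIndependent.comp ext hext
  have h5 := Fintype.linearIndependent_iff.mp hli
    (fun m => BC.repr (Ideal.Quotient.mk _ P) m) h4
  have h6 : Ideal.Quotient.mk (Ideal.span (Set.range (asRel p (cJ p a μ i₀) (eJ p a i₀)))) P =
      0 := by
    rw [← hsum]
    apply Finset.sum_eq_zero
    intro m _
    rw [h5 m, zero_smul]
  exact Ideal.Quotient.eq_zero_iff_mem.mp h6

end Main

end Groth.Agent.S15807

namespace Groth.Agent.S15807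

open MvPolynomial in
/-- Let `k` be a field of characteristic `p > 0`, `n ≥ 3`, `R = k[[x_1, …, x_n]]`, `a_1, …, a_n ∈ R`
with zero constant term and pairwise coprime, `μ ∈ R` nonzero and coprime to each `a_i`, and `A =
R[u_1, …, u_n] / (u_i ^ p - (μ a_i) ^ (p-1) u_i - x_i : i = 1..n)`. Fix an index `i₀`. Then the
`R`-algebra map `R[Z_j : j ≠ i₀] → A` sending `Z_j` to the minor element `z_j = a_{i₀} u_j - a_j
u_{i₀}` has kernel generated by the polynomials `Z_j ^ p - (μ a_{i₀} a_j) ^ (p-1) Z_j - (a_{i₀} ^ p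
x_j - a_j ^ p x_{i₀})`; i.e. the complete intersection `R[Z_j] /` (these relations) maps
isomorphically onto the subring of `A` generated over `R` by the minor elements through `u_{i₀}`.
(The published statement uses the first index for `i₀` and allows `n ≥ 2`; this row allows any index
`i₀` and takes `n ≥ 3`.) -/
theorem result
    (p : ℕ) [Fact p.Prime] (k : Type u) [Field k] [CharP k p] (n : ℕ) (hn : 3 ≤ n)
    (a : Fin n → MvPowerSeries (Fin n) k) (μ : MvPowerSeries (Fin n) k)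
    (ham : ∀ i, MvPowerSeries.constantCoeff (a i) = 0) (hcop : ∀ i j, i ≠ j → IsRelPrime (a i) (a j))
    (hμ : μ ≠ 0) (hμa : ∀ i, IsRelPrime μ (a i)) (i₀ : Fin n) :
    let R := MvPowerSeries (Fin n) k
    let I : Ideal (MvPolynomial (Fin n) R) :=
      Ideal.span (Set.range fun i : Fin n =>
        X i ^ p - C ((μ * a i) ^ (p - 1)) * X i - C (MvPowerSeries.X i))
    let A := MvPolynomial (Fin n) R ⧸ I
    let u : Fin n → A := fun i => Ideal.Quotient.mk I (X i)
    let z : {j : Fin n // j ≠ i₀} → A := fun j =>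
      algebraMap R A (a i₀) * u j.1 - algebraMap R A (a j.1) * u i₀
    let r : {j : Fin n // j ≠ i₀} → MvPolynomial {j : Fin n // j ≠ i₀} R := fun j =>
      X j ^ p - C ((μ * a i₀ * a j.1) ^ (p - 1)) * X j
        - C (a i₀ ^ p * MvPowerSeries.X j.1 - a j.1 ^ p * MvPowerSeries.X i₀)
    RingHom.ker (MvPolynomial.aeval z : MvPolynomial {j : Fin n // j ≠ i₀} R →ₐ[R] A) =
      Ideal.span (Set.range r) := by
  intro R I A u z r
  have ha0 : a i₀ ≠ 0 := by
    obtain ⟨j, hj⟩ : ∃ j : Fin n, j ≠ i₀ := by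
      by_cases h : i₀ = ⟨0, by omega⟩
      · refine ⟨⟨1, by omega⟩, ?_⟩
        rw [h]
        intro h'
        simp [Fin.ext_iff] at h'
      · exact ⟨⟨0, by omega⟩, fun h' => h h'.symm⟩
    intro h0
    have h1 := hcop i₀ j hj.symm
    rw [h0] at h1
    have h2 : IsUnit (a j) := isRelPrime_zero_left.mp h1
    rw [MvPowerSeries.isUnit_iff_constantCoeff, ham j] at h2
    exact not_isUnit_zero h2
  exact aux p a μ i₀ ha0

end Groth.Agent.S15807
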