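import Groth.Statements.S19997
import Mathlib
-- import your own Groth.Agent.* helpers here

set_option autoImplicit false
universe u
open WildQuot

namespace Groth.Agent.S19997

section Abstract

variable {R : Type*} [CommRing R] {A : Type*} [CommRing A] [Algebra R A]

/-- Coefficients of `∑ b i (u + c)^i` as a polynomial in `u`. -/
def asT (c : A) (m : ℕ) (b : ℕ → A) (j : ℕ) : A :=
  ∑ i ∈ Finset.range (m + 1), b i * ((i.choose j : ℕ) : A) * c ^ (i - j)

/-- `∑_{i ≤ m} b i u^i`. -/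
def asEv (u : A) (m : ℕ) (b : ℕ → A) : A := ∑ i ∈ Finset.range (m + 1), b i * u ^ i

theorem asEv_succ (u : A) (m : ℕ) (b : ℕ → A) :
    asEv u (m + 1) b = asEv u m b + b (m + 1) * u ^ (m + 1) := by
  unfold asEv
  rw [Finset.sum_range_succ]

theorem asEv_sub (u : A) (m : ℕ) (b b' : ℕ → A) :
    asEv u m (fun i => b i - b' i) = asEv u m b - asEv u m b' := by
  unfold asEv
  rw [← Finset.sum_sub_distrib]
  exact Finset.sum_congr rfl fun i _ => sub_mul _ _ _

theorem asEv_smul (u : A) (m : ℕ) (a : A) (b : ℕ → A) :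
    asEv u m (fun i => a * b i) = a * asEv u m b := by
  unfold asEv
  rw [Finset.mul_sum]
  exact Finset.sum_congr rfl fun i _ => mul_assoc _ _ _

theorem sigma_asEv (σ : A →ₐ[R] A) (u c : A) (hu : σ u = u + c) (m : ℕ) (b : ℕ → A)
    (hb : ∀ i, σ (b i) = b i) :
    σ (asEv u m b) = asEv u m (asT c m b) := by
  unfold asEv asT
  rw [map_sum]
  have h1 : ∀ i ∈ Finset.range (m + 1), σ (b i * u ^ i) =
      ∑ j ∈ Finset.range (m + 1), b i * ((i.choose j : ℕ) : A) * c ^ (i - j) * u ^ j := by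
    intro i hi
    rw [map_mul, map_pow, hb, hu, add_pow, Finset.mul_sum]
    have hsub : Finset.range (i + 1) ⊆ Finset.range (m + 1) := by
      intro j hj
      simp only [Finset.mem_range] at hj hi ⊢
      omega
    refine (Finset.sum_congr rfl ?_).trans (Finset.sum_subset hsub ?_)
    · intro j _
      ring
    · intro j _ hj
      simp only [Finset.mem_range, not_lt] at hj
      rw [Nat.choose_eq_zero_of_lt (by omega)]
      simp
  rw [Finset.sum_congr rfl h1, Finset.sum_comm]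
  apply Finset.sum_congr rfl
  intro j _
  rw [Finset.sum_mul]

theorem asT_top (c : A) (m : ℕ) (b : ℕ → A) : asT c (m + 1) b (m + 1) = b (m + 1) := by
  unfold asT
  rw [Finset.sum_eq_single (m + 1)]
  · simp
  · intro i hi hne
    simp only [Finset.mem_range] at hi
    rw [Nat.choose_eq_zero_of_lt (by omega)]
    simp
  · intro h
    simp at h

theorem asT_second (c : A) (m : ℕ) (b : ℕ → A) :
    asT c (m + 1) b m = b m + b (m + 1) * ((m + 1 : ℕ) : A) * c := by
  unfold asT
  rw [Finset.sum_range_succ, Finset.sum_range_succ, Finset.sum_eq_zero]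
  · simp [Nat.choose_succ_self_right]
  · intro i hi
    simp only [Finset.mem_range] at hi
    rw [Nat.choose_eq_zero_of_lt hi]
    simp

theorem asT_mem (S : Subalgebra R A) {c : A} (hc : c ∈ S) {b : ℕ → A} (hb : ∀ i, b i ∈ S)
    (m j : ℕ) : asT c m b j ∈ S := by
  unfold asT
  exact sum_mem fun i _ => S.mul_mem (S.mul_mem (hb i) (natCast_mem S _)) (S.pow_mem hc _)

/-- A vanishing combination has `c`-power-torsion top coefficient. -/
theorem asQ (σ : A →ₐ[R] A) (S : Subalgebra R A) (hS : ∀ s ∈ S, σ s = s) (u c : A) (hc : c ∈ S)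
    (hu : σ u = u + c) (p : ℕ) (hunit : ∀ m, m + 1 < p → IsUnit ((m + 1 : ℕ) : A)) :
    ∀ m, m < p → ∀ d : ℕ → A, (∀ i, d i ∈ S) → asEv u m d = 0 → ∃ N : ℕ, c ^ N * d m = 0 := by
  intro m
  induction m with
  | zero =>
    intro _ d _ h0
    refine ⟨0, ?_⟩
    simpa [asEv] using h0
  | succ m ih =>
    intro hm d hd h0
    have h1 : asEv u (m + 1) (asT c (m + 1) d) = 0 := by
      rw [← sigma_asEv σ u c hu (m + 1) d (fun i => hS _ (hd i)), h0, map_zero]
    have h2 : asEv u m (fun i => asT c (m + 1) d i - d i) = 0 := by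
      have h3 : asEv u (m + 1) (fun i => asT c (m + 1) d i - d i) = 0 := by
        rw [asEv_sub u (m + 1) (asT c (m + 1) d) d, h1, h0, sub_zero]
      rw [asEv_succ] at h3
      simpa [asT_top] using h3
    obtain ⟨N, hN⟩ := ih (by omega) (fun i => asT c (m + 1) d i - d i)
      (fun i => S.sub_mem (asT_mem S hc hd _ _) (hd i)) h2
    have hN' : c ^ N * (asT c (m + 1) d m - d m) = 0 := hN
    rw [asT_second] at hN'
    have hunit' := hunit m hm
    generalize ((m + 1 : ℕ) : A) = q at hN' hunit'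
    obtain ⟨w, hw⟩ := hunit'.exists_left_inv
    refine ⟨N + 1, ?_⟩
    linear_combination w * hN' - (c ^ (N + 1) * d (m + 1)) * hw

/-- Artin–Schreier style descent: an invariant combination of `1, u, …, u^m` (`m < p`) with
coefficients in the fixed subalgebra `S` lies in `S` after multiplying by a power of `c`. -/
theorem AS_main (σ : A →ₐ[R] A) (S : Subalgebra R A) (hS : ∀ s ∈ S, σ s = s) (u c : A)
    (hc : c ∈ S) (hu : σ u = u + c) (p : ℕ)
    (hunit : ∀ m, m + 1 < p → IsUnit ((m + 1 : ℕ) : A)) :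
    ∀ m, m < p → ∀ b : ℕ → A, (∀ i, b i ∈ S) → σ (asEv u m b) = asEv u m b →
      ∃ N : ℕ, c ^ N * asEv u m b ∈ S := by
  intro m
  induction m with
  | zero =>
    intro _ b hb _
    refine ⟨0, ?_⟩
    simpa [asEv] using hb 0
  | succ m ih =>
    intro hm b hb hinv
    have h1 : asEv u (m + 1) (asT c (m + 1) b) = asEv u (m + 1) b :=
      (sigma_asEv σ u c hu (m + 1) b (fun i => hS _ (hb i))).symm.trans hinv
    have h2 : asEv u m (fun i => asT c (m + 1) b i - b i) = 0 := by
      have h3 : asEv u (m + 1) (fun i => asT c (m + 1) b i - b i) = 0 := by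
        rw [asEv_sub u (m + 1) (asT c (m + 1) b) b, h1, sub_self]
      rw [asEv_succ] at h3
      simpa [asT_top] using h3
    obtain ⟨N, hN⟩ := asQ σ S hS u c hc hu p hunit m (by omega)
      (fun i => asT c (m + 1) b i - b i)
      (fun i => S.sub_mem (asT_mem S hc hb _ _) (hb i)) h2
    have hN' : c ^ N * (asT c (m + 1) b m - b m) = 0 := hN
    rw [asT_second] at hN'
    have hunit' := hunit m hm
    generalize ((m + 1 : ℕ) : A) = q at hN' hunit'
    obtain ⟨w, hw⟩ := hunit'.exists_left_inv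
    have hkill : c ^ (N + 1) * b (m + 1) = 0 := by
      linear_combination w * hN' - (c ^ (N + 1) * b (m + 1)) * hw
    have hev : c ^ (N + 1) * asEv u (m + 1) b = asEv u m (fun i => c ^ (N + 1) * b i) := by
      rw [asEv_succ, mul_add, ← mul_assoc, hkill, zero_mul, add_zero, asEv_smul]
    have hinv' : σ (asEv u m (fun i => c ^ (N + 1) * b i)) =
        asEv u m (fun i => c ^ (N + 1) * b i) := by
      rw [← hev, map_mul, hinv, hS _ (S.pow_mem hc _)]
    obtain ⟨M, hM⟩ := ih (by omega) (fun i => c ^ (N + 1) * b i)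
      (fun i => S.mul_mem (S.pow_mem hc _) (hb i)) hinv'
    refine ⟨M + (N + 1), ?_⟩
    rw [pow_add, mul_assoc, hev]
    exact hM

theorem abstract_main {ι : Type*} (u : ι → A) (hgen : Algebra.adjoin R (Set.range u) = ⊤)
    (i₀ : ι) (p : ℕ) (hp : 2 ≤ p) (r₁ r₀ : R)
    (hrel : u i₀ ^ p = algebraMap R A r₁ * u i₀ + algebraMap R A r₀)
    (hunit : ∀ m, m + 1 < p → IsUnit ((m + 1 : ℕ) : A))
    (α : ι → R) (μ : R) (σ : A →ₐ[R] A)
    (hσ : ∀ i, σ (u i) = u i + algebraMap R A (μ * α i)) (t : A) (ht : σ t = t) :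
    ∃ N : ℕ, algebraMap R A (μ * α i₀) ^ N * t ∈
      Algebra.adjoin R (Set.range fun j : {j : ι // j ≠ i₀} =>
        algebraMap R A (α i₀) * u j.1 - algebraMap R A (α j.1) * u i₀) := by
  classical
  set S : Subalgebra R A := Algebra.adjoin R (Set.range fun j : {j : ι // j ≠ i₀} =>
        algebraMap R A (α i₀) * u j.1 - algebraMap R A (α j.1) * u i₀) with hSdef
  have hS : ∀ s ∈ S, σ s = s := by
    intro s hs
    induction hs using Algebra.adjoin_induction with
    | mem x hx =>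
      obtain ⟨j, rfl⟩ := hx
      simp only [map_sub, map_mul, AlgHom.commutes, hσ]
      ring
    | algebraMap r => exact σ.commutes r
    | add x y _ _ hx hy => rw [map_add, hx, hy]
    | mul x y _ _ hx hy => rw [map_mul, hx, hy]
  have hz : ∀ j : ι, j ≠ i₀ →
      algebraMap R A (α i₀) * u j - algebraMap R A (α j) * u i₀ ∈ S :=
    fun j hj => Algebra.subset_adjoin ⟨⟨j, hj⟩, rfl⟩
  have hmap : ∀ r : R, algebraMap R A r ∈ S := fun r => S.algebraMap_mem r
  obtain ⟨W, hWdef⟩ : ∃ W : Submodule S A,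
      W = Submodule.span S (Set.range fun i : Fin p => u i₀ ^ (i : ℕ)) := ⟨_, rfl⟩
  have hgenW : ∀ i, i < p → u i₀ ^ i ∈ W := by
    intro i hi
    rw [hWdef]
    exact Submodule.subset_span ⟨⟨i, hi⟩, rfl⟩
  have hWmul : ∀ s ∈ S, ∀ w ∈ W, s * w ∈ W := by
    intro s hs w hw
    have h := W.smul_mem (⟨s, hs⟩ : S) hw
    rwa [Subalgebra.smul_def, smul_eq_mul] at h
  have hW3 : ∀ w ∈ W, u i₀ * w ∈ W := by
    intro w hw
    rw [hWdef] at hw
    refine Submodule.span_induction (p := fun w _ => u i₀ * w ∈ W) ?_ ?_ ?_ ?_ hw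
    · rintro _ ⟨i, rfl⟩
      show u i₀ * u i₀ ^ (i : ℕ) ∈ W
      rw [← pow_succ']
      by_cases hi : (i : ℕ) + 1 < p
      · exact hgenW _ hi
      · have hip : (i : ℕ) + 1 = p := by have := i.2; omega
        rw [hip, hrel]
        refine W.add_mem (hWmul _ (hmap r₁) _ ?_) ?_
        · simpa using hgenW 1 (by omega)
        · have := hWmul _ (hmap r₀) _ (hgenW 0 (by omega))
          simpa using this
    · show u i₀ * 0 ∈ W
      rw [mul_zero]; exact W.zero_mem
    · intro x y _ _ hx hy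
      show u i₀ * (x + y) ∈ W
      rw [mul_add]; exact W.add_mem hx hy
    · intro s x _ hx
      show u i₀ * (s • x) ∈ W
      rw [Subalgebra.smul_def, smul_eq_mul, mul_left_comm]
      exact hWmul _ s.2 _ hx
  have hW3' : ∀ i : ℕ, ∀ w ∈ W, u i₀ ^ i * w ∈ W := by
    intro i
    induction i with
    | zero => intro w hw; rwa [pow_zero, one_mul]
    | succ i ih =>
      intro w hw
      rw [pow_succ, mul_assoc]
      exact ih _ (hW3 _ hw)
  have hW4 : ∀ w₁ ∈ W, ∀ w₂ ∈ W, w₁ * w₂ ∈ W := by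
    intro w₁ hw₁ w₂ hw₂
    rw [hWdef] at hw₁
    refine Submodule.span_induction (p := fun w _ => w * w₂ ∈ W) ?_ ?_ ?_ ?_ hw₁
    · rintro _ ⟨i, rfl⟩
      exact hW3' _ _ hw₂
    · show 0 * w₂ ∈ W
      rw [zero_mul]; exact W.zero_mem
    · intro x y _ _ hx hy
      show (x + y) * w₂ ∈ W
      rw [add_mul]; exact W.add_mem hx hy
    · intro s x _ hx
      show (s • x) * w₂ ∈ W
      rw [Subalgebra.smul_def, smul_eq_mul, mul_assoc]
      exact hWmul _ s.2 _ hx
  have hmain : ∀ t : A, ∃ N : ℕ, algebraMap R A (α i₀) ^ N * t ∈ W := by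
    intro t
    have ht : t ∈ Algebra.adjoin R (Set.range u) := by rw [hgen]; trivial
    induction ht using Algebra.adjoin_induction with
    | mem x hx =>
      obtain ⟨j, rfl⟩ := hx
      by_cases hj : j = i₀
      · refine ⟨0, ?_⟩
        rw [hj, pow_zero, one_mul]
        simpa using hgenW 1 (by omega)
      · refine ⟨1, ?_⟩
        have e : algebraMap R A (α i₀) ^ 1 * u j =
            (algebraMap R A (α i₀) * u j - algebraMap R A (α j) * u i₀) * u i₀ ^ 0 +
              algebraMap R A (α j) * u i₀ ^ 1 := by ring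
        rw [e]
        exact W.add_mem (hWmul _ (hz j hj) _ (hgenW 0 (by omega)))
          (hWmul _ (hmap _) _ (hgenW 1 (by omega)))
    | algebraMap r =>
      refine ⟨0, ?_⟩
      have := hWmul _ (hmap r) _ (hgenW 0 (by omega))
      simpa using this
    | add x y _ _ hx hy =>
      obtain ⟨Nx, hx⟩ := hx
      obtain ⟨Ny, hy⟩ := hy
      refine ⟨Nx + Ny, ?_⟩
      have e : algebraMap R A (α i₀) ^ (Nx + Ny) * (x + y) =
          algebraMap R A (α i₀) ^ Ny * (algebraMap R A (α i₀) ^ Nx * x) +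
          algebraMap R A (α i₀) ^ Nx * (algebraMap R A (α i₀) ^ Ny * y) := by ring
      rw [e]
      exact W.add_mem (hWmul _ (S.pow_mem (hmap _) _) _ hx)
        (hWmul _ (S.pow_mem (hmap _) _) _ hy)
    | mul x y _ _ hx hy =>
      obtain ⟨Nx, hx⟩ := hx
      obtain ⟨Ny, hy⟩ := hy
      refine ⟨Nx + Ny, ?_⟩
      have e : algebraMap R A (α i₀) ^ (Nx + Ny) * (x * y) =
          (algebraMap R A (α i₀) ^ Nx * x) * (algebraMap R A (α i₀) ^ Ny * y) := by ring
      rw [e]
      exact hW4 _ hx _ hy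
  obtain ⟨N₁, hN₁⟩ := hmain t
  obtain ⟨t', ht'⟩ : ∃ t' : A, t' = algebraMap R A (α i₀) ^ N₁ * t := ⟨_, rfl⟩
  rw [← ht'] at hN₁
  have hinv : σ t' = t' := by rw [ht', map_mul, map_pow, σ.commutes, ht]
  rw [hWdef] at hN₁
  obtain ⟨cf, hcf⟩ := (Submodule.mem_span_range_iff_exists_fun S).1 hN₁
  let b : ℕ → A := fun i => if h : i < p then (cf ⟨i, h⟩ : A) else 0
  have hb : ∀ i, b i ∈ S := by
    intro i
    by_cases h : i < p
    · simp only [b, dif_pos h]; exact (cf ⟨i, h⟩).2
    · simp only [b, dif_neg h]; exact S.zero_mem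
  have hev : asEv (u i₀) (p - 1) b = t' := by
    rw [← hcf]
    unfold asEv
    rw [Nat.sub_add_cancel (by omega : 1 ≤ p),
      ← Fin.sum_univ_eq_sum_range (fun i => b i * u i₀ ^ i) p]
    apply Finset.sum_congr rfl
    intro i _
    simp only [b, dif_pos i.2, Fin.eta, Subalgebra.smul_def, smul_eq_mul]
  obtain ⟨N₂, hN₂⟩ := AS_main σ S hS (u i₀) (algebraMap R A (μ * α i₀)) (hmap _) (hσ i₀) p hunit
    (p - 1) (by omega) b hb (by rw [hev]; exact hinv)
  refine ⟨N₁ + N₂, ?_⟩
  rw [hev] at hN₂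
  have e : algebraMap R A (μ * α i₀) ^ (N₁ + N₂) * t =
      algebraMap R A μ ^ N₁ * (algebraMap R A (μ * α i₀) ^ N₂ * t') := by
    rw [ht', map_mul]; ring
  rw [e]
  exact S.mul_mem (S.pow_mem (hmap _) _) hN₂

end Abstract

open MvPolynomial in
/-- Let `k` be a field of characteristic `p > 0`, `n ≥ 2`, `R = k[[x_1, …, x_n]]`, `a_1, …, a_n ∈ R`
with zero constant term and pairwise coprime, `μ ∈ R` nonzero and coprime to each `a_i`, `A = R[u_1,
…, u_n] / (u_i ^ p - (μ a_i) ^ (p-1) u_i - x_i : i = 1..n)`, and `σ` the `R`-algebra automorphism of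
`A` with `σ u_i = u_i + μ a_i` for every `i` (it generates a group `G` of order `p`). Fix an index
`i₀` and let `A_ci ⊆ A` be the `R`-subalgebra generated by the minor elements `z_j = a_{i₀} u_j -
a_j u_{i₀}`, `j ≠ i₀` (these are `σ`-invariant). Then `A_ci[1/(μ a_{i₀})] = A^G[1/(μ a_{i₀})]`: for
every `σ`-invariant `t ∈ A` some power `(μ a_{i₀}) ^ N t` lies in `A_ci`. (The published statement
uses the first index for `i₀`.) -/
theorem result
    (p : ℕ) [Fact p.Prime] (k : Type u) [Field k] [CharP k p] (n : ℕ) (hn : 2 ≤ n)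
    (a : Fin n → MvPowerSeries (Fin n) k) (μ : MvPowerSeries (Fin n) k)
    (ham : ∀ i, MvPowerSeries.constantCoeff (a i) = 0) (hcop : ∀ i j, i ≠ j → IsRelPrime (a i) (a j))
    (hμ : μ ≠ 0) (hμa : ∀ i, IsRelPrime μ (a i)) (i₀ : Fin n) :
    let R := MvPowerSeries (Fin n) k
    let I : Ideal (MvPolynomial (Fin n) R) :=
      Ideal.span (Set.range fun i : Fin n =>
        X i ^ p - C ((μ * a i) ^ (p - 1)) * X i - C (MvPowerSeries.X i))
    let A := MvPolynomial (Fin n) R ⧸ I
    let u : Fin n → A := fun i => Ideal.Quotient.mk I (X i)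
    let z : {j : Fin n // j ≠ i₀} → A := fun j =>
      algebraMap R A (a i₀) * u j.1 - algebraMap R A (a j.1) * u i₀
    ∀ σ : A ≃ₐ[R] A, (∀ i, σ (u i) = u i + algebraMap R A (μ * a i)) →
      ∀ t : A, σ t = t →
        ∃ N : ℕ, algebraMap R A (μ * a i₀) ^ N * t ∈ Algebra.adjoin R (Set.range z) := by
  intro R I A u z σ hσ t ht
  have hp : 2 ≤ p := (Fact.out : p.Prime).two_le
  have hgen : Algebra.adjoin R (Set.range u) = ⊤ := by
    have h1 : Algebra.adjoin R (Set.range (X : Fin n → MvPolynomial (Fin n) R)) = ⊤ :=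
      MvPolynomial.adjoin_range_X
    have h3 : Set.range u = (Ideal.Quotient.mkₐ R I) '' (Set.range X) := by
      rw [← Set.range_comp]; rfl
    rw [h3, ← AlgHom.map_adjoin, h1, Algebra.map_top, AlgHom.range_eq_top]
    exact Ideal.Quotient.mkₐ_surjective R I
  have hrel : u i₀ ^ p = algebraMap R A ((μ * a i₀) ^ (p - 1)) * u i₀ +
      algebraMap R A (MvPowerSeries.X i₀) := by
    have hmem : (X i₀ ^ p - C ((μ * a i₀) ^ (p - 1)) * X i₀ - C (MvPowerSeries.X i₀) :
        MvPolynomial (Fin n) R) ∈ I := Ideal.subset_span ⟨i₀, rfl⟩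
    have h0 := (Ideal.Quotient.eq_zero_iff_mem).2 hmem
    simp only [map_sub, map_mul, map_pow] at h0
    have hC : ∀ r : R, algebraMap R A r = Ideal.Quotient.mk I (C r) := fun r => rfl
    rw [hC, hC]
    simp only [map_mul, map_pow]
    linear_combination h0
  have hunit : ∀ m, m + 1 < p → IsUnit ((m + 1 : ℕ) : A) := by
    intro m hm
    have h1 : ((m + 1 : ℕ) : k) ≠ 0 := by
      intro h0
      rw [CharP.cast_eq_zero_iff k p] at h0
      exact Nat.not_dvd_of_pos_of_lt (Nat.succ_pos m) hm h0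
    have h2 : IsUnit ((m + 1 : ℕ) : k) := isUnit_iff_ne_zero.2 h1
    have h3 := (h2.map (algebraMap k (MvPowerSeries (Fin n) k))).map (algebraMap R A)
    simpa using h3
  exact abstract_main u hgen i₀ p hp ((μ * a i₀) ^ (p - 1)) (MvPowerSeries.X i₀) hrel hunit a μ
    (σ : A →ₐ[R] A) hσ t ht

end Groth.Agent.S19997
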