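import Groth.Statements.S15808
import Mathlib
import Groth.Agent.Lib.Helper99.ASFamily
import Groth.Agent.Lib.Helper73.RegularNormal
import Groth.Agent.S15807
import Groth.Agent.S15789
import Groth.Agent.S19997
-- import your own Groth.Agent.* helpers here

set_option autoImplicit false
universe u
open WildQuot

namespace Groth.Agent.S15808

set_option linter.style.haveILetI false
set_option linter.unusedSectionVars false

open MvPolynomial Groth.Agent.Lib.Helper99.ASFamily Groth.Agent.S15807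

section Abstract

/-- the fixed subalgebra of an endomorphism of an integrally closed domain is integrally closed -/
theorem fixed_ic {R A : Type*} [CommRing R] [CommRing A] [IsDomain A] [IsIntegrallyClosed A]
    [Algebra R A] (σ : A →ₐ[R] A) :
    IsIntegrallyClosed (AlgHom.equalizer σ (AlgHom.id R A)) := by
  obtain ⟨S, hS⟩ : ∃ S, S = AlgHom.equalizer σ (AlgHom.id R A) := ⟨_, rfl⟩
  rw [← hS]
  have hmem : ∀ x : A, x ∈ S ↔ σ x = x := by
    intro x
    rw [hS]
    exact AlgHom.mem_equalizer σ (AlgHom.id R A) x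
  rw [isIntegrallyClosed_iff (FractionRing S)]
  intro x hx
  have hinj : Function.Injective ((algebraMap A (FractionRing A)).comp S.val.toRingHom) :=
    (IsFractionRing.injective A (FractionRing A)).comp Subtype.val_injective
  have hj : ∀ s : S, IsFractionRing.lift hinj (algebraMap S (FractionRing S) s) =
      algebraMap A (FractionRing A) (s : A) :=
    fun s => IsFractionRing.lift_algebraMap hinj s
  have hint : IsIntegral A (IsFractionRing.lift hinj x) :=
    IsIntegral.map_of_comp_eq S.val.toRingHom (IsFractionRing.lift hinj)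
      (by ext s; exact (hj s).symm) hx
  obtain ⟨t, ht⟩ := (isIntegrallyClosed_iff (FractionRing A)).mp inferInstance hint
  obtain ⟨s₁, s₂, hs₂, rfl⟩ := IsFractionRing.div_surjective (A := S) x
  have hs₂0 : s₂ ≠ 0 := nonZeroDivisors.ne_zero hs₂
  have hs₂A : (s₂ : A) ≠ 0 := fun h => hs₂0 (Subtype.ext h)
  rw [map_div₀, hj, hj] at ht
  have hne : algebraMap A (FractionRing A) (s₂ : A) ≠ 0 := by
    intro h
    exact hs₂A ((map_eq_zero_iff _ (IsFractionRing.injective A (FractionRing A))).mp h)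
  have h1 : t * (s₂ : A) = s₁ := by
    apply IsFractionRing.injective A (FractionRing A)
    rw [map_mul, ht, div_mul_cancel₀ _ hne]
  have h2 : σ t * (s₂ : A) = s₁ := by
    have := congrArg σ h1
    rwa [map_mul, (hmem _).mp s₂.2, (hmem _).mp s₁.2] at this
  have h3 : σ t = t := by
    apply mul_right_cancel₀ hs₂A
    rw [h2, h1]
  refine ⟨⟨t, (hmem t).mpr h3⟩, ?_⟩
  have hne' : algebraMap S (FractionRing S) s₂ ≠ 0 := by
    intro h
    exact hs₂0 ((map_eq_zero_iff _ (IsFractionRing.injective S (FractionRing S))).mp h)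
  rw [eq_div_iff hne', ← map_mul]
  congr 1
  exact Subtype.ext h1

/-- transfer of integral closedness to a localisation of a subring which becomes everything after
inverting `f` -/
theorem away_ic {B S : Type*} [CommRing B] [CommRing S] [IsDomain S] [IsIntegrallyClosed S]
    (ψ : B →+* S) (hψ : Function.Injective ψ) (f : B) (hf : ψ f ≠ 0)
    (hsurj : ∀ s : S, ∃ (N : ℕ) (b : B), ψ b = ψ f ^ N * s) :
    IsIntegrallyClosed (Localization.Away f) := by
  have hle : Submonoid.powers (ψ f) ≤ nonZeroDivisors S :=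
    powers_le_nonZeroDivisors_of_noZeroDivisors hf
  haveI hSf : IsIntegrallyClosed (Localization.Away (ψ f)) :=
    isIntegrallyClosed_of_isLocalization (Localization.Away (ψ f)) (Submonoid.powers (ψ f)) hle
  letI algBS : Algebra B (Localization.Away (ψ f)) :=
    ((algebraMap S (Localization.Away (ψ f))).comp ψ).toAlgebra
  have halg : ∀ b : B, algebraMap B (Localization.Away (ψ f)) b =
      algebraMap S (Localization.Away (ψ f)) (ψ b) := fun b => rfl
  have hinjS : Function.Injective (algebraMap S (Localization.Away (ψ f))) :=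
    IsLocalization.injective (Localization.Away (ψ f)) hle
  have hunit : IsUnit (algebraMap S (Localization.Away (ψ f)) (ψ f)) :=
    IsLocalization.map_units (Localization.Away (ψ f))
      (⟨ψ f, Submonoid.mem_powers _⟩ : Submonoid.powers (ψ f))
  haveI : IsLocalization (Submonoid.powers f) (Localization.Away (ψ f)) := by
    rw [isLocalization_iff]
    refine ⟨?_, ?_, ?_⟩
    · rintro ⟨y, hy⟩
      obtain ⟨m, hm⟩ := (Submonoid.mem_powers_iff _ _).mp hy
      show IsUnit (algebraMap B (Localization.Away (ψ f)) y)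
      rw [← hm, halg, map_pow, map_pow]
      exact hunit.pow m
    · intro z
      obtain ⟨⟨s, t⟩, hz⟩ := IsLocalization.surj (Submonoid.powers (ψ f)) z
      obtain ⟨m, hm⟩ := (Submonoid.mem_powers_iff _ _).mp t.2
      obtain ⟨N, b, hb⟩ := hsurj s
      refine ⟨(b, ⟨f ^ (N + m), ⟨N + m, rfl⟩⟩), ?_⟩
      show z * algebraMap B (Localization.Away (ψ f)) (f ^ (N + m)) =
        algebraMap B (Localization.Away (ψ f)) b
      have hz' : z * algebraMap S (Localization.Away (ψ f)) (ψ f ^ m) =
          algebraMap S (Localization.Away (ψ f)) s := by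
        rw [hm]
        exact hz
      rw [halg, halg, hb, map_pow, map_mul, ← hz', map_pow, map_pow, map_pow, pow_add]
      ring
    · intro x y hxy
      rw [halg, halg] at hxy
      exact ⟨1, by rw [hψ (hinjS hxy)]⟩
  exact IsIntegrallyClosed.of_equiv
    (IsLocalization.algEquiv (Submonoid.powers f) (Localization.Away (ψ f))
      (Localization.Away f)).toRingEquiv

end Abstract

section Main

variable (p : ℕ) [hp : Fact p.Prime] {k : Type u} [Field k] [CharP k p] {n : ℕ}
  (a : Fin n → MvPowerSeries (Fin n) k) (μ : MvPowerSeries (Fin n) k) (i₀ : Fin n)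

/-- the complete intersection ring -/
abbrev BB := MvPolynomial (JJ i₀) (MvPowerSeries (Fin n) k) ⧸
  Ideal.span (Set.range (asRel p (cJ p a μ i₀) (eJ p a i₀)))

theorem main (hn : 2 ≤ n) (ham : ∀ i, MvPowerSeries.constantCoeff (a i) = 0)
    (hcop : ∀ i j, i ≠ j → IsRelPrime (a i) (a j)) (hμ : μ ≠ 0)
    (hμa : ∀ i, IsRelPrime μ (a i)) :
    Module.Free (MvPowerSeries (Fin n) k) (BB p a μ i₀) ∧
    Module.finrank (MvPowerSeries (Fin n) k) (BB p a μ i₀) = p ^ (n - 1) ∧
    IsDomain (BB p a μ i₀) ∧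
    IsIntegrallyClosed (Localization.Away
      (algebraMap (MvPowerSeries (Fin n) k) (BB p a μ i₀) (μ * a i₀))) := by
  classical
  have hp2 : 2 ≤ p := hp.out.two_le
  have ha0 : a i₀ ≠ 0 := by
    obtain ⟨j, hj⟩ : ∃ j : Fin n, j ≠ i₀ := by
      by_cases h : i₀ = ⟨0, by omega⟩
      · refine ⟨⟨1, by omega⟩, ?_⟩
        rw [h]
        intro h'
        simp [Fin.ext_iff] at h'
      · exact ⟨⟨0, by omega⟩, fun h' => h h'.symm⟩
    intro h0
    have h1 := hcop i₀ j hj.symm
    rw [h0] at h1
    have h2 : IsUnit (a j) := isRelPrime_zero_left.mp h1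
    rw [MvPowerSeries.isUnit_iff_constantCoeff, ham j] at h2
    exact not_isUnit_zero h2
  have ham' : ∀ i, MvPowerSeries.constantCoeff (aa a μ i) = 0 := by
    intro i
    rw [map_mul, ham i, mul_zero]
  have hf0 : μ * a i₀ ≠ 0 := mul_ne_zero hμ ha0
  haveI hdomA : IsDomain (AS p (aa a μ)) := isDomain_AS p (aa a μ) ham'
  haveI hregA : IsRegularLocalRing (AS p (aa a μ)) := isRegularLocalRing_AS p (aa a μ) ham'
  haveI hicA : IsIntegrallyClosed (AS p (aa a μ)) :=
    (Groth.Agent.Lib.Helper73.RegularNormal.isIntegrallyClosed_of_isRegularLocalRing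
      (AS p (aa a μ))).2
  obtain ⟨bas, hbas⟩ : ∃ bas, bas = asBasis p (cJ p a μ i₀) (eJ p a i₀) hp2 := ⟨_, rfl⟩
  have hphi_inj : Function.Injective (phi p a μ i₀) := by
    rw [injective_iff_map_eq_zero]
    intro x hx
    obtain ⟨P, rfl⟩ := Ideal.Quotient.mk_surjective x
    have hP : aeval (R := MvPowerSeries (Fin n) k) (zz p a μ i₀) P = 0 := hx
    have hP' : P ∈ RingHom.ker (aeval (R := MvPowerSeries (Fin n) k) (zz p a μ i₀)) :=
      RingHom.mem_ker.mpr hP
    rw [aux p a μ i₀ ha0] at hP'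
    exact Ideal.Quotient.eq_zero_iff_mem.mpr hP'
  have hcard : Fintype.card (JJ i₀) = n - 1 := by
    rw [Fintype.card_subtype, Finset.filter_ne' Finset.univ i₀,
      Finset.card_erase_of_mem (Finset.mem_univ _), Finset.card_univ, Fintype.card_fin]
  refine ⟨Module.Free.of_basis bas, ?_, Function.Injective.isDomain (phi p a μ i₀).toRingHom
    hphi_inj, ?_⟩
  · rw [Module.finrank_eq_card_basis bas, Fintype.card_fun, Fintype.card_fin, hcard]
  -- the automorphism
  obtain ⟨σ, hσdef⟩ : ∃ σ : AS p (aa a μ) ≃ₐ[MvPowerSeries (Fin n) k] AS p (aa a μ),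
      σ = Groth.Agent.S15789.Psi p (aa a μ) (fun _ => 1) := ⟨_, rfl⟩
  have hσ : ∀ i, σ (uu p (aa a μ) i) = uu p (aa a μ) i +
      algebraMap (MvPowerSeries (Fin n) k) (AS p (aa a μ)) (μ * a i) := by
    intro i
    rw [hσdef, Groth.Agent.S15789.Psi_uu, Nat.cast_one, one_mul]
  have h97 : ∀ t : AS p (aa a μ), σ t = t → ∃ N : ℕ,
      algebraMap (MvPowerSeries (Fin n) k) (AS p (aa a μ)) (μ * a i₀) ^ N * t ∈
        (aeval (R := MvPowerSeries (Fin n) k) (zz p a μ i₀)).range := by
    intro t ht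
    obtain ⟨N, hN⟩ := Groth.Agent.S19997.result p k n hn a μ ham hcop hμ hμa i₀ σ hσ t ht
    refine ⟨N, ?_⟩
    have e := Algebra.adjoin_range_eq_range_aeval (MvPowerSeries (Fin n) k) (zz p a μ i₀)
    exact (SetLike.ext_iff.mp e _).mp hN
  have hσphi : (σ.toAlgHom).comp (phi p a μ i₀) = phi p a μ i₀ := by
    apply Ideal.Quotient.algHom_ext
    apply MvPolynomial.algHom_ext
    intro j
    show σ (aeval (R := MvPowerSeries (Fin n) k) (zz p a μ i₀) (X j)) =
      aeval (R := MvPowerSeries (Fin n) k) (zz p a μ i₀) (X j)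
    rw [aeval_X]
    unfold zz
    rw [map_sub, map_mul, map_mul, AlgEquiv.commutes, AlgEquiv.commutes, hσ, hσ, map_mul, map_mul]
    ring
  obtain ⟨S, hS⟩ : ∃ S, S = AlgHom.equalizer σ.toAlgHom
      (AlgHom.id (MvPowerSeries (Fin n) k) (AS p (aa a μ))) := ⟨_, rfl⟩
  have hmem : ∀ x : AS p (aa a μ), x ∈ S ↔ σ x = x := by
    intro x
    rw [hS]
    exact AlgHom.mem_equalizer σ.toAlgHom (AlgHom.id _ _) x
  haveI hicS : IsIntegrallyClosed S := by
    rw [hS]
    exact fixed_ic (R := MvPowerSeries (Fin n) k) (A := AS p (aa a μ)) σ.toAlgHom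
  have hphiS : ∀ b, phi p a μ i₀ b ∈ S := by
    intro b
    rw [hmem]
    exact DFunLike.congr_fun hσphi b
  obtain ⟨ψ, hψdef⟩ : ∃ ψ, ψ = (phi p a μ i₀).codRestrict S hphiS := ⟨_, rfl⟩
  have hψval : ∀ b, ((ψ b : S) : AS p (aa a μ)) = phi p a μ i₀ b := by
    intro b
    rw [hψdef]
    rfl
  have hψf : ((ψ (algebraMap (MvPowerSeries (Fin n) k) (BB p a μ i₀) (μ * a i₀)) : S) :
      AS p (aa a μ)) = algebraMap (MvPowerSeries (Fin n) k) (AS p (aa a μ)) (μ * a i₀) := by
    rw [hψval, AlgHom.commutes]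
  apply away_ic (B := BB p a μ i₀) (S := S) ψ.toRingHom
  · intro x y hxy
    apply hphi_inj
    rw [← hψval, ← hψval]
    exact congrArg Subtype.val hxy
  · intro h
    have h1 : ((ψ (algebraMap (MvPowerSeries (Fin n) k) (BB p a μ i₀) (μ * a i₀)) : S) :
        AS p (aa a μ)) = 0 := congrArg Subtype.val h
    rw [hψf] at h1
    exact hf0 ((map_eq_zero_iff _ (algebraMap_injective p (aa a μ))).mp h1)
  · intro s
    obtain ⟨N, P, hP⟩ := h97 (s : AS p (aa a μ)) ((hmem _).mp s.2)
    refine ⟨N, Ideal.Quotient.mk _ P, ?_⟩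
    apply Subtype.ext
    show ((ψ (Ideal.Quotient.mk _ P) : S) : AS p (aa a μ)) =
      ((ψ (algebraMap (MvPowerSeries (Fin n) k) (BB p a μ i₀) (μ * a i₀)) : S) :
        AS p (aa a μ)) ^ N * (s : AS p (aa a μ))
    rw [hψf, hψval]
    exact hP

end Main

end Groth.Agent.S15808

namespace Groth.Agent.S15808

open MvPolynomial in
/-- Let `k` be a field of characteristic `p > 0`, `n ≥ 2`, `R = k[[x_1, …, x_n]]`, `a_1, …, a_n ∈ R`
with zero constant term and pairwise coprime, `μ ∈ R` nonzero and coprime to each `a_i`; fix an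
index `i₀` and let `B = R[Z_j : j ≠ i₀] / (Z_j ^ p - (μ a_{i₀} a_j) ^ (p-1) Z_j - (a_{i₀} ^ p x_j -
a_j ^ p x_{i₀}) : j ≠ i₀)`, the complete-intersection ring of the minor elements through `u_{i₀}`.
Then `B` is a free `R`-module of rank `p ^ (n-1)`, `B` is an integral domain, and the localisation
`B[1/(μ a_{i₀})]` is integrally closed. (The published statement uses the first index for `i₀`; this
row allows any index.) -/
theorem result
    (p : ℕ) [Fact p.Prime] (k : Type u) [Field k] [CharP k p] (n : ℕ) (hn : 2 ≤ n)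
    (a : Fin n → MvPowerSeries (Fin n) k) (μ : MvPowerSeries (Fin n) k)
    (ham : ∀ i, MvPowerSeries.constantCoeff (a i) = 0) (hcop : ∀ i j, i ≠ j → IsRelPrime (a i) (a j))
    (hμ : μ ≠ 0) (hμa : ∀ i, IsRelPrime μ (a i)) (i₀ : Fin n) :
    let R := MvPowerSeries (Fin n) k
    let r : {j : Fin n // j ≠ i₀} → MvPolynomial {j : Fin n // j ≠ i₀} R := fun j =>
      X j ^ p - C ((μ * a i₀ * a j.1) ^ (p - 1)) * X j
        - C (a i₀ ^ p * MvPowerSeries.X j.1 - a j.1 ^ p * MvPowerSeries.X i₀)
    let B := MvPolynomial {j : Fin n // j ≠ i₀} R ⧸ Ideal.span (Set.range r)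
    Module.Free R B ∧ Module.finrank R B = p ^ (n - 1) ∧ IsDomain B ∧
      IsIntegrallyClosed (Localization.Away (algebraMap R B (μ * a i₀))) := by
  intro R r B
  exact main p a μ i₀ hn ham hcop hμ hμa

end Groth.Agent.S15808
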