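import Groth.Statements.S15810
import Mathlib
import Groth.Agent.Lib.Helper99.ASFamily
import Groth.Agent.S15789
import Groth.Agent.Lib.Helper98.AuslanderBuchsbaum
import Groth.Agent.S11741
import Groth.Agent.Lib.Helper61.PSLocal

set_option autoImplicit false
universe u
open WildQuot

namespace Groth.Agent.S15810

theorem dvd_of_dvd_mul_relPrime {R : Type*} [CommRing R] [IsDomain R] [UniqueFactorizationMonoid R]
    {x y : R} (hxy : IsRelPrime x y) : ∀ (d r : R), d ∣ r * x → d ∣ r * y → d ∣ r := by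
  intro d
  induction d using UniqueFactorizationMonoid.induction_on_prime with
  | h₁ =>
    intro r h1 h2
    rw [zero_dvd_iff] at h1 h2 ⊢
    by_contra hr
    have hx : x = 0 := (mul_eq_zero.mp h1).resolve_left hr
    have hy : y = 0 := (mul_eq_zero.mp h2).resolve_left hr
    subst hx hy
    exact not_isUnit_zero (hxy (dvd_refl 0) (dvd_refl 0))
  | h₂ d hd =>
    intro r _ _
    exact hd.dvd
  | h₃ d π hd hπ ih =>
    intro r h1 h2
    by_cases hπr : π ∣ r
    · obtain ⟨r', rfl⟩ := hπr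
      rw [mul_assoc] at h1 h2
      have h1' := (mul_dvd_mul_iff_left hπ.ne_zero).mp h1
      have h2' := (mul_dvd_mul_iff_left hπ.ne_zero).mp h2
      exact mul_dvd_mul_left π (ih r' h1' h2')
    · exfalso
      have h1' : π ∣ x := (hπ.dvd_or_dvd ((dvd_mul_right π d).trans h1)).resolve_left hπr
      have h2' : π ∣ y := (hπ.dvd_or_dvd ((dvd_mul_right π d).trans h2)).resolve_left hπr
      exact hπ.not_isUnit (hxy h1' h2')

theorem dvd_of_forall_dvd_mul_prod_erase {R : Type*} [CommRing R] [IsDomain R]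
    [UniqueFactorizationMonoid R] {ι : Type*} [DecidableEq ι] (a : ι → R) (j : ℕ) (d : R) :
    ∀ (T : Finset ι), (∀ i ∈ T, ∀ l ∈ T, i ≠ l → IsRelPrime (a i) (a l)) → T.Nonempty →
      ∀ r : R, (∀ i ∈ T, d ∣ r * (∏ l ∈ T.erase i, a l) ^ j) → d ∣ r := by
  intro T
  induction T using Finset.induction_on with
  | empty => intro _ h; exact absurd h Finset.not_nonempty_empty
  | insert x T' hx ih =>
    intro hrel _ r h
    rcases T'.eq_empty_or_nonempty with hT' | hT'
    · subst hT'
      have := h x (Finset.mem_insert_self x _)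
      simpa using this
    · have hrel' : ∀ i ∈ T', ∀ l ∈ T', i ≠ l → IsRelPrime (a i) (a l) := fun i hi l hl hil =>
        hrel i (Finset.mem_insert_of_mem hi) l (Finset.mem_insert_of_mem hl) hil
      have h1 : d ∣ r * a x ^ j := by
        apply ih hrel' hT' (r * a x ^ j)
        intro i hi
        have hxi : x ≠ i := fun e => hx (e ▸ hi)
        have := h i (Finset.mem_insert_of_mem hi)
        rw [Finset.erase_insert_of_ne hxi, Finset.prod_insert (fun hm => hx (Finset.mem_of_mem_erase hm)),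
          mul_pow, ← mul_assoc] at this
        exact this
      have h2 : d ∣ r * (∏ l ∈ T', a l) ^ j := by
        have := h x (Finset.mem_insert_self x _)
        rwa [Finset.erase_insert hx] at this
      have hrp : IsRelPrime (a x ^ j) ((∏ l ∈ T', a l) ^ j) := by
        apply IsRelPrime.pow
        apply IsRelPrime.prod_right
        intro l hl
        exact hrel x (Finset.mem_insert_self x _) l (Finset.mem_insert_of_mem hl)
          (fun e => hx (e ▸ hl))
      exact dvd_of_dvd_mul_relPrime hrp d r h1 h2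

open Polynomial in
/-- Lagrange-type polynomial -/
noncomputable def lagQ {A : Type*} [CommRing A] (p : ℕ) [NeZero p] (w ζ : ZMod p → A) : Polynomial A :=
  ∑ m : ZMod p, C (w m) * ∏ m' ∈ Finset.univ.erase m, (X - C (ζ m'))

open Polynomial in
theorem lagQ_map {A : Type*} [CommRing A] (p : ℕ) [NeZero p] (w ζ : ZMod p → A)
    (ψ : A →+* A) (d : ZMod p) (hw : ∀ m, ψ (w m) = w (m + d)) (hζ : ∀ m, ψ (ζ m) = ζ (m + d)) :
    (lagQ p w ζ).map ψ = lagQ p w ζ := by
  unfold lagQ
  rw [Polynomial.map_sum]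
  simp only [Polynomial.map_mul, Polynomial.map_C, Polynomial.map_prod, Polynomial.map_sub,
    Polynomial.map_X, hw, hζ]
  refine Fintype.sum_equiv (Equiv.addRight d) _ _ (fun m => ?_)
  rw [Equiv.coe_addRight]
  congr 1
  refine Finset.prod_equiv (Equiv.addRight d) (fun i => ?_) (fun i _ => ?_)
  · simp [Finset.mem_erase]
  · rw [Equiv.coe_addRight]

open Polynomial in
theorem lagQ_eval {A : Type*} [CommRing A] (p : ℕ) [NeZero p] (w ζ : ZMod p → A) :
    (lagQ p w ζ).eval (ζ 0) = w 0 * ∏ m' ∈ Finset.univ.erase (0 : ZMod p), (ζ 0 - ζ m') := by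
  unfold lagQ
  rw [Polynomial.eval_finsetSum]
  simp only [Polynomial.eval_mul, Polynomial.eval_C, Polynomial.eval_prod, Polynomial.eval_sub,
    Polynomial.eval_X]
  rw [Finset.sum_eq_single 0]
  · intro m _ hm
    have h0 : ∏ x ∈ Finset.univ.erase m, (ζ 0 - ζ x) = 0 :=
      Finset.prod_eq_zero (i := 0) (Finset.mem_erase.mpr ⟨Ne.symm hm, Finset.mem_univ _⟩)
        (sub_self _)
    rw [h0, mul_zero]
  · intro h; exact absurd (Finset.mem_univ _) h


section Aux

open MvPolynomial Groth.Agent.Lib.Helper99.ASFamily Groth.Agent.S15789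

variable (p : ℕ) [hp : Fact p.Prime] {k : Type u} [Field k] [CharP k p] {n : ℕ}
  (b : Fin n → MvPowerSeries (Fin n) k)

/-- the canonical map `ZMod p → R` -/
noncomputable def cR : ZMod p →+* MvPowerSeries (Fin n) k :=
  (algebraMap k (MvPowerSeries (Fin n) k)).comp (ZMod.castHom (dvd_refl p) k)

theorem cR_eq_natCast (x : ZMod p) :
    (cR p x : MvPowerSeries (Fin n) k) = ((x.val : ℕ) : MvPowerSeries (Fin n) k) := by
  conv_lhs => rw [← ZMod.natCast_zmod_val x]
  rw [map_natCast]

theorem cR_injective : Function.Injective (cR p : ZMod p →+* MvPowerSeries (Fin n) k) :=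
  RingHom.injective _

/-- the translation automorphism attached to `ν ∈ (ℤ/p)^n` -/
noncomputable def g (ν : Fin n → ZMod p) : AS p b ≃ₐ[MvPowerSeries (Fin n) k] AS p b :=
  Psi p b (fun i => (ν i).val)

theorem g_uu (ν : Fin n → ZMod p) (i : Fin n) :
    g p b ν (uu p b i) =
      uu p b i + algebraMap (MvPowerSeries (Fin n) k) (AS p b) (cR p (ν i) * b i) := by
  unfold g
  rw [Psi_uu, map_mul, cR_eq_natCast, map_natCast]

theorem algEquiv_ext_u {φ ψ : AS p b ≃ₐ[MvPowerSeries (Fin n) k] AS p b}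
    (h : ∀ i, φ (uu p b i) = ψ (uu p b i)) : φ = ψ := by
  have : (φ : AS p b →ₐ[MvPowerSeries (Fin n) k] AS p b) = ψ := algHom_ext_u p b h
  ext x
  exact DFunLike.congr_fun this x

theorem g_add (ν ν' : Fin n → ZMod p) : g p b (ν + ν') = g p b ν * g p b ν' := by
  apply algEquiv_ext_u
  intro i
  rw [AlgEquiv.mul_apply, g_uu, g_uu, map_add, g_uu, AlgEquiv.commutes, Pi.add_apply, map_add,
    add_mul, map_add]
  ring

theorem g_zero : g p b 0 = 1 := by
  apply algEquiv_ext_u
  intro i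
  rw [g_uu, Pi.zero_apply, map_zero, zero_mul, map_zero, add_zero]
  rfl

theorem g_list (L : List (Fin n → ZMod p)) : (L.map (g p b)).prod = g p b L.sum := by
  induction L with
  | nil => simp [g_zero]
  | cons x L ih => rw [List.map_cons, List.prod_cons, List.sum_cons, g_add, ih]

theorem g_single_of_sigma (σ : AS p b ≃ₐ[MvPowerSeries (Fin n) k] AS p b) (i : Fin n)
    (hσ : ∀ j, σ (uu p b j) = uu p b j +
      (if i = j then algebraMap (MvPowerSeries (Fin n) k) (AS p b) (b i) else 0)) :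
    σ = g p b (Pi.single i 1) := by
  apply algEquiv_ext_u
  intro j
  rw [hσ, g_uu]
  by_cases hij : i = j
  · subst hij
    rw [if_pos rfl, Pi.single_eq_same, map_one, one_mul]
  · rw [if_neg hij, Pi.single_eq_of_ne (Ne.symm hij), map_zero, zero_mul, map_zero]

theorem g_single_pow (i : Fin n) (m : ℕ) :
    g p b (Pi.single i 1) ^ m = g p b (Pi.single i (m : ZMod p)) := by
  induction m with
  | zero => rw [pow_zero, Nat.cast_zero, Pi.single_zero, g_zero]
  | succ m ih =>
    rw [pow_succ, ih, ← g_add, ← Pi.single_add, Nat.cast_succ]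

theorem prod_eq_g (σ : Fin n → (AS p b ≃ₐ[MvPowerSeries (Fin n) k] AS p b))
    (hσ : ∀ i j, σ i (uu p b j) = uu p b j +
      (if i = j then algebraMap (MvPowerSeries (Fin n) k) (AS p b) (b i) else 0))
    (ν : Fin n → ZMod p) :
    (List.ofFn (fun i : Fin n => σ i ^ (ν i).val)).prod = g p b ν := by
  have h1 : (fun i : Fin n => σ i ^ (ν i).val) =
      (g p b) ∘ (fun i : Fin n => (Pi.single i (ν i) : Fin n → ZMod p)) := by
    funext i
    rw [Function.comp_apply, g_single_of_sigma p b (σ i) i (hσ i), g_single_pow,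
      ZMod.natCast_zmod_val]
  rw [h1, ← List.map_ofFn, g_list, List.sum_ofFn, Finset.univ_sum_single]

variable (ham : ∀ i, MvPowerSeries.constantCoeff (b i) = 0) (hb0 : ∀ i, b i ≠ 0)

include ham hb0 in
theorem exists_g (σ : AS p b ≃ₐ[MvPowerSeries (Fin n) k] AS p b) : ∃ ν, σ = g p b ν := by
  obtain ⟨c, hc⟩ := exists_c p b ham hb0 σ
  refine ⟨fun i => ((c i : ℕ) : ZMod p), ?_⟩
  apply algEquiv_ext_u
  intro i
  unfold g
  rw [hc i, Psi_uu, ZMod.val_cast_of_lt (c i).2]

include ham hb0 in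
theorem mem_range_of_fixed (x : AS p b) (hx : ∀ ν, g p b ν x = x) :
    x ∈ Set.range (algebraMap (MvPowerSeries (Fin n) k) (AS p b)) := by
  apply fixed_mem_range p b ham hb0 x
  intro σ
  obtain ⟨ν, rfl⟩ := exists_g p b ham hb0 σ
  exact hx ν

end Aux

section Z

open MvPolynomial Groth.Agent.Lib.Helper99.ASFamily Groth.Agent.S15789

variable (p : ℕ) [hp : Fact p.Prime] {k : Type u} [Field k] [CharP k p] {n : ℕ}
  (b : Fin n → MvPowerSeries (Fin n) k) (s : Fin n → ZMod p) (S : Finset (Fin n))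
  (γ : Fin n → MvPowerSeries (Fin n) k) (β : MvPowerSeries (Fin n) k)

/-- the pairing with `s` -/
def pair (ν : Fin n → ZMod p) : ZMod p := ∑ i, ν i * s i

theorem pair_add (ν ν' : Fin n → ZMod p) : pair p s (ν + ν') = pair p s ν + pair p s ν' := by
  unfold pair
  rw [← Finset.sum_add_distrib]
  refine Finset.sum_congr rfl fun i _ => ?_
  rw [Pi.add_apply, add_mul]

theorem pair_smul (m : ZMod p) (ν : Fin n → ZMod p) : pair p s (m • ν) = m * pair p s ν := by
  unfold pair
  rw [Finset.mul_sum]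
  refine Finset.sum_congr rfl fun i _ => ?_
  rw [Pi.smul_apply, smul_eq_mul, mul_assoc]

theorem pair_single (i : Fin n) (x : ZMod p) : pair p s (Pi.single i x) = x * s i := by
  unfold pair
  rw [Finset.sum_eq_single i]
  · rw [Pi.single_eq_same]
  · intro j _ hj
    rw [Pi.single_eq_of_ne hj, zero_mul]
  · intro h
    exact absurd (Finset.mem_univ _) h

/-- the element `z` -/
noncomputable def zz : AS p b :=
  ∑ i ∈ S, algebraMap (MvPowerSeries (Fin n) k) (AS p b) (γ i) * uu p b i

variable (hγ : ∀ i ∈ S, γ i * b i = cR p (s i) * β) (hS : ∀ i, i ∉ S → s i = 0)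

include hγ hS in
theorem sum_aux (ν : Fin n → ZMod p) :
    ∑ i ∈ S, γ i * (cR p (ν i) * b i) = β * cR p (pair p s ν) := by
  unfold pair
  rw [map_sum, Finset.mul_sum, ← Finset.sum_subset (Finset.subset_univ S)]
  · refine Finset.sum_congr rfl fun i hi => ?_
    rw [map_mul]
    have := hγ i hi
    linear_combination (cR p (ν i)) * this
  · intro i _ hi
    rw [hS i hi, mul_zero, map_zero, mul_zero]

include hγ hS in
theorem g_zz (ν : Fin n → ZMod p) :
    g p b ν (zz p b S γ) = zz p b S γ +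
      algebraMap (MvPowerSeries (Fin n) k) (AS p b) (β * cR p (pair p s ν)) := by
  rw [← sum_aux p b s S γ β hγ hS ν, map_sum]
  unfold zz
  rw [map_sum, ← Finset.sum_add_distrib]
  refine Finset.sum_congr rfl fun i _ => ?_
  rw [map_mul, AlgEquiv.commutes, g_uu, mul_add]
  simp only [map_mul]

include hγ hS in
theorem fixed_of_mem_range (t : AS p b)
    (ht : t ∈ (Polynomial.aeval (zz p b S γ) :
      Polynomial (MvPowerSeries (Fin n) k) →ₐ[MvPowerSeries (Fin n) k] AS p b).range)
    (ν : Fin n → ZMod p) (hν : pair p s ν = 0) : g p b ν t = t := by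
  obtain ⟨P, rfl⟩ := (AlgHom.mem_range _).mp ht
  have h1 : g p b ν (Polynomial.aeval (zz p b S γ) P) =
      Polynomial.aeval (g p b ν (zz p b S γ)) P :=
    (Polynomial.aeval_algHom_apply (g p b ν : AS p b →ₐ[MvPowerSeries (Fin n) k] AS p b)
      (zz p b S γ) P).symm
  rw [h1, g_zz p b s S γ β hγ hS, hν, map_zero, mul_zero, map_zero, add_zero]

variable (ham : ∀ i, MvPowerSeries.constantCoeff (b i) = 0) (hb0 : ∀ i, b i ≠ 0)

include hγ hS ham hb0 in
theorem exists_poly_of_fixed (hβ : β ≠ 0) (i₀ : Fin n) (hi₀ : s i₀ ≠ 0) (t : AS p b)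
    (ht : ∀ ν, pair p s ν = 0 → g p b ν t = t) :
    ∃ (δ : MvPowerSeries (Fin n) k) (P : Polynomial (MvPowerSeries (Fin n) k)), δ ≠ 0 ∧
      Polynomial.aeval (zz p b S γ) P =
        algebraMap (MvPowerSeries (Fin n) k) (AS p b) δ * t := by
  classical
  set ν₀ : Fin n → ZMod p := Pi.single i₀ (s i₀)⁻¹ with hν₀def
  have hν₀ : pair p s ν₀ = 1 := by rw [pair_single, inv_mul_cancel₀ hi₀]
  set w : ZMod p → AS p b := fun m => g p b (m • ν₀) t with hwdef
  set ζ : ZMod p → AS p b := fun m => zz p b S γ +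
    algebraMap (MvPowerSeries (Fin n) k) (AS p b) (β * cR p m) with hζdef
  have hkey : ∀ ν', g p b ν' t = w (pair p s ν') := by
    intro ν'
    have e : ν' = pair p s ν' • ν₀ + (ν' - pair p s ν' • ν₀) := by abel
    have h0 : pair p s (ν' - pair p s ν' • ν₀) = 0 := by
      have h1 := pair_add p s (pair p s ν' • ν₀) (ν' - pair p s ν' • ν₀)
      rw [← e, pair_smul, hν₀, mul_one] at h1
      exact left_eq_add.mp h1
    calc g p b ν' t = g p b (pair p s ν' • ν₀ + (ν' - pair p s ν' • ν₀)) t := by rw [← e]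
      _ = g p b (pair p s ν' • ν₀) (g p b (ν' - pair p s ν' • ν₀) t) := by
          rw [g_add, AlgEquiv.mul_apply]
      _ = w (pair p s ν') := by rw [ht _ h0]
  have hw : ∀ ν m, g p b ν (w m) = w (m + pair p s ν) := by
    intro ν m
    show g p b ν (g p b (m • ν₀) t) = _
    rw [← AlgEquiv.mul_apply, ← g_add, hkey, pair_add, pair_smul, hν₀, mul_one, add_comm]
  have hζ : ∀ ν m, g p b ν (ζ m) = ζ (m + pair p s ν) := by
    intro ν m
    show g p b ν (zz p b S γ + _) = zz p b S γ + _
    rw [map_add, AlgEquiv.commutes, g_zz p b s S γ β hγ hS, map_add, mul_add, map_add]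
    abel
  have hQ : ∀ ν, (lagQ p w ζ).map
      ((g p b ν : AS p b →ₐ[MvPowerSeries (Fin n) k] AS p b) : AS p b →+* AS p b) =
      lagQ p w ζ := fun ν => lagQ_map p w ζ _ (pair p s ν) (hw ν) (hζ ν)
  have hcoeff : ∀ j, (lagQ p w ζ).coeff j ∈
      Set.range (algebraMap (MvPowerSeries (Fin n) k) (AS p b)) := by
    intro j
    apply mem_range_of_fixed p b ham hb0
    intro ν
    have := congrArg (fun q => Polynomial.coeff q j) (hQ ν)
    simpa [Polynomial.coeff_map] using this
  obtain ⟨P, hP⟩ := (Polynomial.mem_lifts (lagQ p w ζ)).mp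
    ((Polynomial.lifts_iff_coeff_lifts (lagQ p w ζ)).mpr hcoeff)
  refine ⟨∏ m' ∈ Finset.univ.erase (0 : ZMod p), (-(β * cR p m')), P, ?_, ?_⟩
  · rw [Finset.prod_ne_zero_iff]
    intro m' hm'
    rw [neg_ne_zero]
    exact mul_ne_zero hβ ((map_ne_zero_iff _ (cR_injective p)).mpr (Finset.ne_of_mem_erase hm'))
  · have hζ0 : ζ 0 = zz p b S γ := by
      show zz p b S γ + _ = _
      rw [map_zero, mul_zero, map_zero, add_zero]
    have hw0 : w 0 = t := by
      show g p b ((0 : ZMod p) • ν₀) t = t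
      rw [zero_smul, g_zero, AlgEquiv.one_apply]
    have hprod : ∏ m' ∈ Finset.univ.erase (0 : ZMod p), (ζ 0 - ζ m') =
        ∏ m' ∈ Finset.univ.erase (0 : ZMod p),
          algebraMap (MvPowerSeries (Fin n) k) (AS p b) (-(β * cR p m')) := by
      refine Finset.prod_congr rfl fun m' _ => ?_
      rw [hζ0]
      show zz p b S γ - (zz p b S γ + _) = _
      rw [sub_add_cancel_left, map_neg]
    rw [Polynomial.aeval_def, ← Polynomial.eval_map, hP, ← hζ0, lagQ_eval, hw0, hprod, map_prod]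
    ring

end Z

section Coord

open MvPolynomial Groth.Agent.Lib.Helper99.ASFamily Groth.Agent.S15789

variable (p : ℕ) [hp : Fact p.Prime] {k : Type u} [Field k] [CharP k p] {n : ℕ}
  (b : Fin n → MvPowerSeries (Fin n) k) (S : Finset (Fin n))
  (γ : Fin n → MvPowerSeries (Fin n) k)

/-- the polynomial lift of `z` -/
noncomputable def ZZ : MvPolynomial (Fin n) (MvPowerSeries (Fin n) k) :=
  ∑ i ∈ S, C (γ i) * X i

theorem mk_ZZ : Ideal.Quotient.mk (asI p b) (ZZ S γ) = zz p b S γ := by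
  unfold ZZ zz
  rw [map_sum]
  refine Finset.sum_congr rfl fun i _ => ?_
  rw [map_mul]
  rfl

theorem coeff_ZZ_pow (i : Fin n) (hi : i ∈ S) : ∀ (j j₀ : ℕ),
    (ZZ S γ ^ j).coeff (Finsupp.single i j₀) = if j = j₀ then γ i ^ j else 0 := by
  classical
  intro j
  induction j with
  | zero =>
    intro j₀
    rw [pow_zero, MvPolynomial.coeff_one, pow_zero]
    by_cases h : j₀ = 0
    · subst h
      simp
    · rw [if_neg (fun e => h (Finsupp.single_eq_zero.mp e.symm)), if_neg (Ne.symm h)]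
  | succ j ih =>
    intro j₀
    have hexp : ZZ S γ ^ (j + 1) = ∑ l ∈ S, C (γ l) * (ZZ S γ ^ j * X l) := by
      calc ZZ S γ ^ (j + 1) = ZZ S γ ^ j * ∑ l ∈ S, C (γ l) * X l := by rw [pow_succ]; rfl
        _ = ∑ l ∈ S, C (γ l) * (ZZ S γ ^ j * X l) := by
          rw [Finset.mul_sum]
          refine Finset.sum_congr rfl fun l _ => ?_
          ring
    rw [hexp, MvPolynomial.coeff_sum]
    simp only [MvPolynomial.coeff_C_mul, MvPolynomial.coeff_mul_X']
    rcases Nat.eq_zero_or_pos j₀ with h0 | h0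
    · subst h0
      rw [if_neg (Nat.succ_ne_zero j)]
      apply Finset.sum_eq_zero
      intro l _
      rw [Finsupp.single_zero, Finsupp.support_zero, if_neg (Finset.notMem_empty l), mul_zero]
    · obtain ⟨j₁, rfl⟩ : ∃ j₁, j₀ = j₁ + 1 := ⟨j₀ - 1, by omega⟩
      have hsupp : (Finsupp.single i (j₁ + 1) : Fin n →₀ ℕ).support = {i} :=
        Finsupp.support_single_ne_zero _ (Nat.succ_ne_zero j₁)
      rw [Finset.sum_eq_single i]
      · rw [hsupp, if_pos (Finset.mem_singleton_self i), ← Finsupp.single_tsub,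
          Nat.add_sub_cancel, ih j₁]
        by_cases h : j = j₁
        · subst h
          rw [if_pos rfl, if_pos rfl, pow_succ, mul_comm]
        · rw [if_neg h, if_neg (fun e => h (Nat.succ_injective e)), mul_zero]
      · intro l _ hl
        rw [hsupp, if_neg (fun hm => hl (Finset.mem_singleton.mp hm)), mul_zero]
      · intro h
        exact absurd hi h

theorem support_ZZ_pow_le (j : ℕ) (e : Fin n →₀ ℕ) (he : e ∈ (ZZ S γ ^ j).support) (l : Fin n) :
    e l ≤ j := by
  have h1 : (ZZ S γ).totalDegree ≤ 1 := by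
    unfold ZZ
    apply MvPolynomial.totalDegree_finsetSum_le
    intro i _
    refine (MvPolynomial.totalDegree_mul _ _).trans ?_
    rw [MvPolynomial.totalDegree_C, MvPolynomial.totalDegree_X, zero_add]
  have h2 : (ZZ S γ ^ j).totalDegree ≤ j := by
    refine (MvPolynomial.totalDegree_pow _ _).trans ?_
    calc j * (ZZ S γ).totalDegree ≤ j * 1 := Nat.mul_le_mul_left j h1
      _ = j := mul_one j
  have h3 := MvPolynomial.le_totalDegree he
  rw [Finsupp.sum_fintype _ _ (fun _ => rfl)] at h3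
  have h4 : e l ≤ ∑ i, e i := Finset.single_le_sum (fun _ _ => Nat.zero_le _) (Finset.mem_univ l)
  omega

/-- reduction of an exponent vector -/
def red (e : Fin n →₀ ℕ) : Fin n → Fin p := fun l => ⟨e l % p, Nat.mod_lt _ hp.out.pos⟩

/-- exponent vector of an index -/
noncomputable def toF (m : Fin n → Fin p) : Fin n →₀ ℕ :=
  Finsupp.equivFunOnFinite.symm (fun l => (m l : ℕ))

theorem toF_apply (m : Fin n → Fin p) (l : Fin n) : toF p m l = (m l : ℕ) := rfl

theorem red_eq_iff (e : Fin n →₀ ℕ) (he : ∀ l, e l < p) (m : Fin n → Fin p) :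
    red p e = m ↔ e = toF p m := by
  constructor
  · intro h
    ext l
    rw [toF_apply, ← h]
    show e l = e l % p
    rw [Nat.mod_eq_of_lt (he l)]
  · intro h
    funext l
    apply Fin.ext
    show e l % p = (m l : ℕ)
    rw [h, toF_apply, Nat.mod_eq_of_lt (m l).2]

theorem mk_monomial (e : Fin n →₀ ℕ) (he : ∀ l, e l < p) (r : MvPowerSeries (Fin n) k) :
    Ideal.Quotient.mk (asI p b) (monomial e r) =
      algebraMap (MvPowerSeries (Fin n) k) (AS p b) r * psBasis p b (red p e) := by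
  rw [psBasis_apply, MvPolynomial.monomial_eq, map_mul,
    Finsupp.prod_fintype _ _ (fun i => pow_zero _), map_prod]
  congr 1
  refine Finset.prod_congr rfl fun l _ => ?_
  rw [map_pow]
  show uu p b l ^ e l = uu p b l ^ (e l % p)
  rw [Nat.mod_eq_of_lt (he l)]

theorem repr_mk_of_bounded (F : MvPolynomial (Fin n) (MvPowerSeries (Fin n) k))
    (hF : ∀ e ∈ F.support, ∀ l, e l < p) (m : Fin n → Fin p) :
    (psBasis p b).repr (Ideal.Quotient.mk (asI p b) F) m = F.coeff (toF p m) := by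
  classical
  conv_lhs => rw [F.as_sum]
  rw [map_sum, map_sum, Finsupp.coe_finsetSum, Finset.sum_apply]
  have h1 : ∀ e ∈ F.support,
      (psBasis p b).repr (Ideal.Quotient.mk (asI p b) (monomial e (F.coeff e))) m =
        if e = toF p m then F.coeff e else 0 := by
    intro e he
    rw [mk_monomial p b e (hF e he), ← Algebra.smul_def, map_smul, Module.Basis.repr_self, Finsupp.smul_apply,
      Finsupp.single_apply, smul_eq_mul]
    by_cases h : red p e = m
    · rw [if_pos h, if_pos ((red_eq_iff p e (hF e he) m).mp h), mul_one]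
    · rw [if_neg h, if_neg (fun h' => h ((red_eq_iff p e (hF e he) m).mpr h')), mul_zero]
  rw [Finset.sum_congr rfl h1, Finset.sum_ite_eq']
  split_ifs with h
  · rfl
  · exact (MvPolynomial.notMem_support_iff.mp h).symm

/-- the index `j₀ · e_i` -/
def EE (i : Fin n) (x : Fin p) : Fin n → Fin p := fun l => if l = i then x else ⟨0, hp.out.pos⟩

theorem toF_EE (i : Fin n) (x : Fin p) : toF p (EE p i x) = Finsupp.single i (x : ℕ) := by
  ext l
  rw [toF_apply, Finsupp.single_apply]
  unfold EE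
  by_cases h : l = i
  · rw [if_pos h, if_pos h.symm]
  · rw [if_neg h, if_neg (fun e => h e.symm)]

theorem coord_zz_pow (i : Fin n) (hi : i ∈ S) (j : ℕ) (hj : j < p) (x : Fin p) :
    (psBasis p b).repr (zz p b S γ ^ j) (EE p i x) = if j = (x : ℕ) then γ i ^ j else 0 := by
  rw [← mk_ZZ, ← map_pow, repr_mk_of_bounded p b _ _ _, toF_EE, coeff_ZZ_pow S γ i hi]
  intro e he l
  exact lt_of_le_of_lt (support_ZZ_pow_le S γ j e he l) hj

theorem coord_aeval (i : Fin n) (hi : i ∈ S) (P : Polynomial (MvPowerSeries (Fin n) k))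
    (hP : P.natDegree < p) (x : Fin p) :
    (psBasis p b).repr (Polynomial.aeval (zz p b S γ) P) (EE p i x) =
      P.coeff (x : ℕ) * γ i ^ (x : ℕ) := by
  classical
  rw [Polynomial.aeval_eq_sum_range' hP, map_sum, Finsupp.coe_finsetSum, Finset.sum_apply]
  have h1 : ∀ j ∈ Finset.range p,
      (psBasis p b).repr (P.coeff j • zz p b S γ ^ j) (EE p i x) =
        if j = (x : ℕ) then P.coeff j * γ i ^ j else 0 := by
    intro j hj
    rw [map_smul, Finsupp.smul_apply, coord_zz_pow p b S γ i hi j (Finset.mem_range.mp hj),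
      smul_eq_mul, mul_ite, mul_zero]
  rw [Finset.sum_congr rfl h1, Finset.sum_ite_eq' (Finset.range p) (x : ℕ), if_pos (Finset.mem_range.mpr x.2)]

end Coord

section Main

open MvPolynomial Groth.Agent.Lib.Helper99.ASFamily Groth.Agent.S15789

variable (p : ℕ) [hp : Fact p.Prime] {k : Type u} [Field k] [CharP k p] {n : ℕ}

/-- the polynomial `f` -/
noncomputable def ff (β c₀ : MvPowerSeries (Fin n) k) : Polynomial (MvPowerSeries (Fin n) k) :=
  Polynomial.X ^ p - Polynomial.C (β ^ (p - 1)) * Polynomial.X - Polynomial.C c₀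

theorem ff_monic (β c₀ : MvPowerSeries (Fin n) k) : (ff p β c₀).Monic :=
  asPoly_monic p (fun _ : Unit => β ^ (p - 1)) (fun _ => c₀) hp.out.two_le ()

theorem ff_natDegree (β c₀ : MvPowerSeries (Fin n) k) : (ff p β c₀).natDegree = p :=
  asPoly_natDegree p (fun _ : Unit => β ^ (p - 1)) (fun _ => c₀) hp.out.two_le ()

variable (b : Fin n → MvPowerSeries (Fin n) k) (s : Fin n → ZMod p) (S : Finset (Fin n))
  (γ : Fin n → MvPowerSeries (Fin n) k) (β : MvPowerSeries (Fin n) k)

theorem aeval_zz_ff (hγ : ∀ i ∈ S, γ i * b i = cR p (s i) * β) (hs : ∀ i ∈ S, s i ≠ 0) :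
    Polynomial.aeval (zz p b S γ) (ff p β (∑ i ∈ S, γ i ^ p * MvPowerSeries.X i)) = 0 := by
  unfold ff
  simp only [map_sub, map_mul, map_pow, Polynomial.aeval_X, Polynomial.aeval_C]
  have h1 : zz p b S γ ^ p = ∑ i ∈ S,
      (algebraMap (MvPowerSeries (Fin n) k) (AS p b) (γ i) * uu p b i) ^ p := by
    unfold zz
    exact sum_pow_char (R := AS p b) p S _
  rw [h1]
  unfold zz
  rw [Finset.mul_sum, map_sum, ← Finset.sum_sub_distrib, ← Finset.sum_sub_distrib]
  apply Finset.sum_eq_zero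
  intro i hi
  have key : γ i ^ p * b i ^ (p - 1) = β ^ (p - 1) * γ i := by
    have e1 : (cR p (s i) : MvPowerSeries (Fin n) k) ^ (p - 1) = 1 := by
      rw [← map_pow, ZMod.pow_card_sub_one_eq_one (hs i hi), map_one]
    calc γ i ^ p * b i ^ (p - 1) = γ i * (γ i * b i) ^ (p - 1) := by
          rw [abs_pow_pred p (γ i), mul_pow]; ring
      _ = β ^ (p - 1) * γ i := by rw [hγ i hi, mul_pow, e1, one_mul, mul_comm]
  have key' := congrArg (algebraMap (MvPowerSeries (Fin n) k) (AS p b)) key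
  simp only [map_mul, map_pow] at key' ⊢
  have e2 : (algebraMap (MvPowerSeries (Fin n) k) (AS p b) (γ i) * uu p b i) ^ p =
      algebraMap (MvPowerSeries (Fin n) k) (AS p b) (γ i) ^ p * uu p b i ^ p := by ring
  rw [e2, rel' p b i]
  linear_combination (uu p b i) * key'

end Main

section Final

open MvPolynomial Groth.Agent.Lib.Helper99.ASFamily Groth.Agent.S15789

variable (p : ℕ) [hp : Fact p.Prime] {k : Type u} [Field k] [CharP k p] {n : ℕ}

theorem isRegularLocalRing_ps : IsRegularLocalRing (MvPowerSeries (Fin n) k) := by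
  apply IsRegularLocalRing.of_spanFinrank_maximalIdeal_le
  rw [Groth.Agent.S11741.ringKrullDim_mvPowerSeries,
    Groth.Agent.Lib.Helper61.PSLocal.maximalIdeal_eq_span_X]
  have h1 := Submodule.spanFinrank_span_le_ncard_of_finite (R := MvPowerSeries (Fin n) k)
    (Set.finite_range (MvPowerSeries.X : Fin n → MvPowerSeries (Fin n) k))
  have h2 : (Set.range (MvPowerSeries.X : Fin n → MvPowerSeries (Fin n) k)).ncard ≤ n := by
    have := Set.ncard_image_le (f := (MvPowerSeries.X : Fin n → MvPowerSeries (Fin n) k))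
      (s := Set.univ) Set.finite_univ
    rw [Set.image_univ] at this
    simpa using this
  have h3 : (Ideal.span (Set.range
      (MvPowerSeries.X : Fin n → MvPowerSeries (Fin n) k))).spanFinrank ≤ n := le_trans h1 h2
  exact_mod_cast h3

theorem main (hn : 2 ≤ n) (a : Fin n → MvPowerSeries (Fin n) k) (μ : MvPowerSeries (Fin n) k)
    (ham : ∀ i, MvPowerSeries.constantCoeff (a i) = 0)
    (hcop : ∀ i j, i ≠ j → IsRelPrime (a i) (a j)) (hμ : μ ≠ 0)
    (s : Fin n → ZMod p) (hs : s ≠ 0)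
    (b : Fin n → MvPowerSeries (Fin n) k) (S : Finset (Fin n))
    (γ : Fin n → MvPowerSeries (Fin n) k) (β c₀ : MvPowerSeries (Fin n) k)
    (hb : ∀ i, b i = μ * a i) (hSmem : ∀ i, i ∈ S ↔ s i ≠ 0)
    (hγdef : ∀ i, γ i = cR p (s i) * ∏ j ∈ S.erase i, a j)
    (hβdef : β = μ * ∏ i ∈ S, a i)
    (hc₀def : c₀ = ∑ i ∈ S, cR p (s i) * (∏ j ∈ S.erase i, a j) ^ p * MvPowerSeries.X i)
    (σ : Fin n → (AS p b ≃ₐ[MvPowerSeries (Fin n) k] AS p b))
    (hσ : ∀ i j, σ i (uu p b j) = uu p b j +
      (if i = j then algebraMap (MvPowerSeries (Fin n) k) (AS p b) (b i) else 0)) :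
    (∀ t : AS p b,
      (∀ ν : Fin n → ZMod p, ∑ i, ν i * s i = 0 →
          (List.ofFn (fun i : Fin n => σ i ^ (ν i).val)).prod t = t) ↔
        t ∈ (Polynomial.aeval (zz p b S γ) :
          Polynomial (MvPowerSeries (Fin n) k) →ₐ[MvPowerSeries (Fin n) k] AS p b).range) ∧
      RingHom.ker (Polynomial.aeval (zz p b S γ) :
          Polynomial (MvPowerSeries (Fin n) k) →ₐ[MvPowerSeries (Fin n) k] AS p b) =
        Ideal.span {ff p β c₀} := by
  classical
  -- basic facts
  have hne : ∀ i, a i ≠ 0 := by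
    intro i h
    obtain ⟨j, hj⟩ : ∃ j : Fin n, j ≠ i := by
      by_cases h0 : i = ⟨0, by omega⟩
      · refine ⟨⟨1, by omega⟩, ?_⟩
        rw [h0]
        intro e
        have := congrArg Fin.val e
        simp at this
      · exact ⟨⟨0, by omega⟩, fun e => h0 e.symm⟩
    have h1 := hcop i j (Ne.symm hj)
    rw [h] at h1
    have hu : IsUnit (a j) := h1 (dvd_zero _) (dvd_refl _)
    have hu' := hu.map (MvPowerSeries.constantCoeff (σ := Fin n) (R := k))
    rw [ham j] at hu'
    exact not_isUnit_zero hu'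
  have hb0 : ∀ i, b i ≠ 0 := fun i => by rw [hb i]; exact mul_ne_zero hμ (hne i)
  have hamb : ∀ i, MvPowerSeries.constantCoeff (b i) = 0 := by
    intro i
    rw [hb i, map_mul, ham i, mul_zero]
  haveI := isDomain_AS p b hamb
  haveI hreg : IsRegularLocalRing (MvPowerSeries (Fin n) k) := isRegularLocalRing_ps
  haveI hdomR : IsDomain (MvPowerSeries (Fin n) k) := NoZeroDivisors.to_isDomain _
  haveI : UniqueFactorizationMonoid (MvPowerSeries (Fin n) k) :=
    Groth.Agent.Lib.Helper98.ufm_of_isRegularLocalRing _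
  have hS' : ∀ i, i ∉ S → s i = 0 := fun i hi => by
    by_contra h
    exact hi ((hSmem i).mpr h)
  have hsS : ∀ i ∈ S, s i ≠ 0 := fun i hi => (hSmem i).mp hi
  have hγ : ∀ i ∈ S, γ i * b i = cR p (s i) * β := by
    intro i hi
    rw [hγdef i, hb i, hβdef, ← Finset.mul_prod_erase S a hi]
    ring
  obtain ⟨i₀, hi₀⟩ : ∃ i, s i ≠ 0 := by
    by_contra h
    push Not at h
    exact hs (funext h)
  have hi₀S : i₀ ∈ S := (hSmem i₀).mpr hi₀
  have hβ : β ≠ 0 := by
    rw [hβdef]
    exact mul_ne_zero hμ (Finset.prod_ne_zero_iff.mpr fun i _ => hne i)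
  have hcu : ∀ i ∈ S, IsUnit (cR p (s i) : MvPowerSeries (Fin n) k) := fun i hi =>
    (IsUnit.mk0 _ (hsS i hi)).map (cR p)
  have hγne : ∀ i ∈ S, γ i ≠ 0 := fun i hi => by
    rw [hγdef i]
    exact mul_ne_zero (hcu i hi).ne_zero (Finset.prod_ne_zero_iff.mpr fun j _ => hne j)
  have hc₀ : c₀ = ∑ i ∈ S, γ i ^ p * MvPowerSeries.X i := by
    rw [hc₀def]
    refine Finset.sum_congr rfl fun i _ => ?_
    rw [hγdef i, mul_pow, ← map_pow, ZMod.pow_card]
  rw [hc₀]
  set f := ff p β (∑ i ∈ S, γ i ^ p * MvPowerSeries.X i) with hfdef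
  have hf0 : Polynomial.aeval (zz p b S γ) f = 0 := aeval_zz_ff p b s S γ β hγ hsS
  have hmonic : f.Monic := ff_monic p _ _
  have hdegf : f.natDegree = p := ff_natDegree p _ _
  have hf1 : f ≠ 1 := by
    intro h
    have := hdegf
    rw [h, Polynomial.natDegree_one] at this
    exact hp.out.ne_zero this.symm
  have hmod : ∀ P : Polynomial (MvPowerSeries (Fin n) k),
      Polynomial.aeval (zz p b S γ) (P %ₘ f) = Polynomial.aeval (zz p b S γ) P := by
    intro P
    have h1 := Polynomial.modByMonic_add_div P f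
    conv_rhs => rw [← h1]
    rw [map_add, map_mul, hf0, zero_mul, add_zero]
  have hdeg : ∀ P : Polynomial (MvPowerSeries (Fin n) k), (P %ₘ f).natDegree < p := by
    intro P
    have := Polynomial.natDegree_modByMonic_lt P hmonic hf1
    rwa [hdegf] at this
  have hfix : ∀ ν : Fin n → ZMod p, (List.ofFn (fun i : Fin n => σ i ^ (ν i).val)).prod =
      g p b ν := fun ν => prod_eq_g p b σ hσ ν
  refine ⟨fun t => ⟨fun ht => ?_, fun ht ν hν => ?_⟩, ?_⟩
  · -- fixed ⟹ polynomial in z
    have ht' : ∀ ν, pair p s ν = 0 → g p b ν t = t := by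
      intro ν hν
      rw [← hfix ν]
      exact ht ν hν
    obtain ⟨δ, P, hδ, hP⟩ := exists_poly_of_fixed p b s S γ β hγ hS' hamb hb0 hβ i₀ hi₀ t ht'
    have hP' : Polynomial.aeval (zz p b S γ) (P %ₘ f) =
        algebraMap (MvPowerSeries (Fin n) k) (AS p b) δ * t := by rw [hmod, hP]
    have hdvd : ∀ j, δ ∣ (P %ₘ f).coeff j := by
      intro j
      by_cases hj : j < p
      · apply dvd_of_forall_dvd_mul_prod_erase a j δ S
          (fun i _ l _ hil => hcop i l hil) ⟨i₀, hi₀S⟩ ((P %ₘ f).coeff j)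
        intro i hi
        have h1 := coord_aeval p b S γ i hi (P %ₘ f) (hdeg P) ⟨j, hj⟩
        rw [hP', ← Algebra.smul_def, map_smul, Finsupp.smul_apply, smul_eq_mul] at h1
        have h2 : δ ∣ (P %ₘ f).coeff j * (∏ l ∈ S.erase i, a l) ^ j * (cR p (s i)) ^ j := by
          refine Dvd.intro ((psBasis p b).repr t (EE p i ⟨j, hj⟩)) ?_
          rw [h1, hγdef i, mul_pow]
          ring
        exact (IsUnit.dvd_mul_right ((hcu i hi).pow j)).mp h2
      · rw [Polynomial.coeff_eq_zero_of_natDegree_lt (lt_of_lt_of_le (hdeg P) (not_lt.mp hj))]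
        exact dvd_zero _
    obtain ⟨P'', hP''⟩ := (Polynomial.C_dvd_iff_dvd_coeff δ (P %ₘ f)).mpr hdvd
    rw [AlgHom.mem_range]
    refine ⟨P'', ?_⟩
    have hδ' : algebraMap (MvPowerSeries (Fin n) k) (AS p b) δ ≠ 0 := fun h =>
      hδ (algebraMap_injective p b (h.trans (map_zero _).symm))
    apply mul_left_cancel₀ hδ'
    rw [← hP', hP'', map_mul, Polynomial.aeval_C]
  · rw [hfix ν]
    exact fixed_of_mem_range p b s S γ β hγ hS' t ht ν hν
  · ext P
    rw [RingHom.mem_ker, Ideal.mem_span_singleton]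
    constructor
    · intro hP
      rw [← Polynomial.modByMonic_eq_zero_iff_dvd hmonic]
      have h0 : Polynomial.aeval (zz p b S γ) (P %ₘ f) = 0 := by rw [hmod, hP]
      apply Polynomial.ext
      intro j
      rw [Polynomial.coeff_zero]
      by_cases hj : j < p
      · have h1 := coord_aeval p b S γ i₀ hi₀S (P %ₘ f) (hdeg P) ⟨j, hj⟩
        rw [h0, map_zero, Finsupp.zero_apply] at h1
        exact (mul_eq_zero.mp h1.symm).resolve_right (pow_ne_zero _ (hγne i₀ hi₀S))
      · exact Polynomial.coeff_eq_zero_of_natDegree_lt (lt_of_lt_of_le (hdeg P) (not_lt.mp hj))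
    · rintro ⟨q, rfl⟩
      rw [map_mul, hf0, zero_mul]

end Final

open MvPolynomial in
/-- Let `k` be a field of characteristic `p > 0`, `n ≥ 2`, `R = k[[x_1, …, x_n]]`, `a_1, …, a_n ∈ R`
with zero constant term and pairwise coprime, `μ ∈ R` nonzero and coprime to each `a_i`, `A = R[u_1,
…, u_n] / (u_i ^ p - (μ a_i) ^ (p-1) u_i - x_i : i = 1..n)`, and `σ_1, …, σ_n` the `R`-algebra
automorphisms of `A` with `σ_i u_j = u_j + δ_{ij} μ a_i` (they generate an elementary abelian group
`H` of order `p ^ n`). For a nonzero vector `s ∈ (ℤ/p)^n` let `H_s = {ν : Σ ν_i s_i = 0}`, `α =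
∏_{s_i ≠ 0} a_i`, `α_i = ∏_{j ≠ i, s_j ≠ 0} a_j`, `z_s = Σ_{s_i ≠ 0} s_i α_i u_i` and `f_s(T) = T ^
p - (μ α) ^ (p-1) T - Σ_{s_i ≠ 0} s_i α_i ^ p x_i`. Then an element of `A` is fixed by `∏_i σ_i ^
{ν_i}` for every `ν ∈ H_s` if and only if it is a polynomial over `R` in `z_s`, and the kernel of
`R[T] → A`, `T ↦ z_s`, is generated by `f_s`: the ring of invariants of `H_s` is `R[T]/(f_s)`, in
particular free of rank `p` over `R`. -/
theorem result
    (p : ℕ) [Fact p.Prime] (k : Type u) [Field k] [CharP k p] (n : ℕ) (hn : 2 ≤ n)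
    (a : Fin n → MvPowerSeries (Fin n) k) (μ : MvPowerSeries (Fin n) k)
    (ham : ∀ i, MvPowerSeries.constantCoeff (a i) = 0) (hcop : ∀ i j, i ≠ j → IsRelPrime (a i) (a j))
    (hμ : μ ≠ 0) (hμa : ∀ i, IsRelPrime μ (a i))
    (s : Fin n → ZMod p) (hs : s ≠ 0) :
    let R := MvPowerSeries (Fin n) k
    let I : Ideal (MvPolynomial (Fin n) R) :=
      Ideal.span (Set.range fun i : Fin n =>
        X i ^ p - C ((μ * a i) ^ (p - 1)) * X i - C (MvPowerSeries.X i))
    let A := MvPolynomial (Fin n) R ⧸ I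
    let u : Fin n → A := fun i => Ideal.Quotient.mk I (X i)
    let c : Fin n → R := fun i => algebraMap k R (ZMod.castHom (dvd_refl p) k (s i))
    let α : R := ∏ i ∈ Finset.univ.filter (fun i => s i ≠ 0), a i
    let αi : Fin n → R := fun i => ∏ j ∈ (Finset.univ.filter (fun j => s j ≠ 0)).erase i, a j
    let z : A := ∑ i ∈ Finset.univ.filter (fun i => s i ≠ 0), algebraMap R A (c i * αi i) * u i
    let f : Polynomial R := Polynomial.X ^ p - Polynomial.C ((μ * α) ^ (p - 1)) * Polynomial.X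
      - Polynomial.C (∑ i ∈ Finset.univ.filter (fun i => s i ≠ 0), c i * αi i ^ p * MvPowerSeries.X i)
    ∀ σ : Fin n → (A ≃ₐ[R] A),
      (∀ i j, σ i (u j) = u j + (if i = j then algebraMap R A (μ * a i) else 0)) →
      (∀ t : A, (∀ ν : Fin n → ZMod p, ∑ i, ν i * s i = 0 →
          (List.ofFn (fun i : Fin n => σ i ^ (ν i).val)).prod t = t) ↔
        t ∈ (Polynomial.aeval z : Polynomial R →ₐ[R] A).range) ∧
      RingHom.ker (Polynomial.aeval z : Polynomial R →ₐ[R] A) = Ideal.span {f} := by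
  intro R I A u c α αi z f σ hσ
  exact main p hn a μ ham hcop hμ s hs (fun i => μ * a i)
    (Finset.univ.filter (fun i => s i ≠ 0)) (fun i => c i * αi i) (μ * α)
    (∑ i ∈ Finset.univ.filter (fun i => s i ≠ 0), c i * αi i ^ p * MvPowerSeries.X i)
    (fun _ => rfl) (fun i => by simp) (fun _ => rfl) rfl rfl σ hσ

end Groth.Agent.S15810
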