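import Groth.Statements.S15811
import Mathlib

set_option autoImplicit false
universe u
open WildQuot

namespace Groth.Agent.S15811

open Polynomial in
theorem result
    (p : ℕ) [Fact p.Prime] (R : Type u) [CommRing R] [IsDomain R] [IsIntegrallyClosed R]
    [CharP R p] (α : R) :
    (α ≠ 0 ∧ (Polynomial.map (algebraMap R (FractionRing R))
        (Polynomial.X ^ p - Polynomial.C α * Polynomial.X)).Splits) ↔
      ∃ a : R, a ≠ 0 ∧ α = a ^ (p - 1) := by
  classical
  have hp : p.Prime := Fact.out
  have hp1 : p - 1 ≠ 0 := by have := hp.two_le; omega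
  have hpp : p = (p - 1) + 1 := by have := hp.two_le; omega
  set K := FractionRing R with hK
  have hinj : Function.Injective (algebraMap R K) := IsFractionRing.injective R K
  haveI : CharP K p := charP_of_injective_algebraMap hinj p
  have hmap : Polynomial.map (algebraMap R K) (X ^ p - C α * X) =
      X ^ p - C (algebraMap R K α) * X := by simp
  rw [hmap]
  constructor
  · rintro ⟨hα, hs⟩
    have hfac : (X ^ p - C (algebraMap R K α) * X : K[X]) =
        X * (X ^ (p - 1) - C (algebraMap R K α)) := by
      conv_lhs => rw [hpp]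
      ring
    have hgmonic : (X ^ (p - 1) - C (algebraMap R K α) : K[X]).Monic :=
      monic_X_pow_sub_C _ hp1
    have hg0 : (X ^ (p - 1) - C (algebraMap R K α) : K[X]) ≠ 0 := hgmonic.ne_zero
    have hf0 : (X ^ p - C (algebraMap R K α) * X : K[X]) ≠ 0 := by
      rw [hfac]; exact mul_ne_zero X_ne_zero hg0
    have hgs : (X ^ (p - 1) - C (algebraMap R K α) : K[X]).Splits :=
      hs.of_dvd hf0 ⟨X, by rw [hfac]; ring⟩
    have hgdeg : (X ^ (p - 1) - C (algebraMap R K α) : K[X]).degree ≠ 0 := by
      rw [degree_X_pow_sub_C (Nat.pos_of_ne_zero hp1)]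
      exact_mod_cast hp1
    obtain ⟨a', ha'⟩ := hgs.exists_eval_eq_zero hgdeg
    have ha'pow : a' ^ (p - 1) = algebraMap R K α := by
      simpa [sub_eq_zero] using ha'
    have hint : IsIntegral R a' := by
      refine ⟨X ^ (p - 1) - C α, monic_X_pow_sub_C _ hp1, ?_⟩
      simp [ha'pow]
    obtain ⟨a, rfl⟩ := IsIntegrallyClosed.algebraMap_eq_of_integral hint
    refine ⟨a, ?_, ?_⟩
    · rintro rfl
      apply hα
      apply hinj
      rw [← ha'pow]; simp [hp1]
    · apply hinj
      rw [← ha'pow, map_pow]
  · rintro ⟨a, ha, rfl⟩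
    refine ⟨pow_ne_zero _ ha, ?_⟩
    set a' := algebraMap R K a with ha'def
    have ha'0 : a' ≠ 0 := by
      intro h; apply ha; apply hinj; rw [map_zero]; exact h
    set F : K[X] := X ^ p - C (algebraMap R K (a ^ (p - 1))) * X with hF
    have hFdeg : F.natDegree = p := by
      rw [hF]
      apply natDegree_eq_of_degree_eq_some
      rw [degree_sub_eq_left_of_degree_lt, degree_X_pow]
      rw [degree_X_pow]
      calc (C (algebraMap R K (a ^ (p - 1))) * X : K[X]).degree ≤ 1 := by
            refine (degree_C_mul_X_le _).trans le_rfl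
        _ < (p : WithBot ℕ) := by exact_mod_cast hp.one_lt
    have hF0 : F ≠ 0 := by
      intro h
      rw [h, natDegree_zero] at hFdeg
      exact hp.ne_zero hFdeg.symm
    rw [splits_iff_card_roots, hFdeg]
    set S : Finset K := Finset.image (fun n : ℕ => (n : K) * a') (Finset.range p) with hS
    have hScard : S.card = p := by
      rw [hS, Finset.card_image_of_injOn, Finset.card_range]
      intro n hn m hm hnm
      simp only [Finset.coe_range, Set.mem_Iio] at hn hm
      have h1 : (n : K) = (m : K) := mul_right_cancel₀ ha'0 hnm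
      have h2 := (CharP.natCast_eq_natCast K p).1 h1
      exact Nat.ModEq.eq_of_lt_of_lt h2 hn hm
    have hSroots : S.val ≤ F.roots := by
      rw [Multiset.le_iff_subset S.nodup]
      intro x hx
      rw [Finset.mem_val, hS, Finset.mem_image] at hx
      obtain ⟨n, _, rfl⟩ := hx
      rw [mem_roots hF0, IsRoot.def, hF]
      have hfrob : ((n : K)) ^ p = n := by
        have h3 := congrArg (ZMod.castHom (dvd_refl p) K) (ZMod.pow_card (n : ZMod p))
        rwa [map_pow, map_natCast] at h3
      simp only [eval_sub, eval_pow, eval_X, eval_mul, eval_C, map_pow]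
      rw [mul_pow, hfrob]
      have : a' ^ p = a' ^ (p - 1) * a' := by conv_lhs => rw [hpp, pow_succ]
      rw [this]; ring
    have h1 : p ≤ F.roots.card := by
      rw [← hScard]
      exact Multiset.card_le_card hSroots
    have h2 : F.roots.card ≤ p := by
      rw [← hFdeg]; exact card_roots' F
    omega

end Groth.Agent.S15811
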