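import Groth.Statements.S15813
import Groth.Agent.Lib.Helper99.PSAut2
-- import your own Groth.Agent.* helpers here

set_option autoImplicit false
universe u
open WildQuot

namespace Groth.Agent.S15813

/-- Let `k` be a field of characteristic `p > 0`, `A = k[[u]]`, and `σ` a `k`-algebra automorphism of
`A` of order exactly `p`, with ramification break `m`: `σ u - u` has order `m + 1`. Let `x = ∏_{i <
p} σ^i u` be the norm of `u`, let `f ∈ A` be `σ`-invariant with nonzero constant term (a unit of the
invariant ring `k[[x]]`), let `μ > 0` be prime to `p`, and let `z ∈ Frac(A)` satisfy the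
Artin–Schreier equation `z ^ p - z = f / x ^ μ`. Then `μ = m`. (The published statement also records
that `Frac(A) = Frac(A^σ)(z)`; that follows from the equation since `p` does not divide `μ`, so it
is not repeated as a hypothesis.) -/
theorem result
    (p : ℕ) [Fact p.Prime] (k : Type u) [Field k] [CharP k p]
    (σ : PowerSeries k ≃ₐ[k] PowerSeries k) (hσp : σ ^ p = 1) (hσ1 : σ ≠ 1)
    (m : ℕ) (hm : (σ PowerSeries.X - PowerSeries.X).order = ((m + 1 : ℕ) : ℕ∞))
    (f : PowerSeries k) (hfσ : σ f = f) (hf0 : PowerSeries.constantCoeff f ≠ 0)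
    (μ : ℕ) (hμ : 0 < μ) (hpμ : ¬ p ∣ μ)
    (z : FractionRing (PowerSeries k))
    (hz : z ^ p - z = algebraMap (PowerSeries k) (FractionRing (PowerSeries k)) f /
      algebraMap (PowerSeries k) (FractionRing (PowerSeries k))
        (∏ i ∈ Finset.range p, (σ ^ i) PowerSeries.X) ^ μ) :
    μ = m := by
  open Groth.Agent.Lib.Helper99 in
  open PowerSeries in
  classical
  have hιinj : Function.Injective (algebraMap (PowerSeries k) (FractionRing (PowerSeries k))) :=
    IsFractionRing.injective (PowerSeries k) (FractionRing (PowerSeries k))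
  set ι := algebraMap (PowerSeries k) (FractionRing (PowerSeries k)) with hι
  haveI : CharP (FractionRing (PowerSeries k)) p :=
    charP_of_injective_ringHom (f := ι.comp (algebraMap k (PowerSeries k)))
      (hιinj.comp (algebraMap k (PowerSeries k)).injective) p
  have hp2 : 2 ≤ p := (Fact.out : p.Prime).two_le
  set x : PowerSeries k := ∏ i ∈ Finset.range p, (σ ^ i) X with hx
  have hxfix : σ x = x := norm_X_fixed σ p hσp
  have hxord : x.order = (p : ℕ∞) := order_norm_X σ p
  have hxne : x ≠ 0 := by
    intro h0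
    rw [h0, order_zero] at hxord
    exact ENat.top_ne_natCast _ hxord
  obtain ⟨a, b, hb, hab⟩ := IsFractionRing.div_surjective (A := PowerSeries k) z
  have hbne : b ≠ 0 := nonZeroDivisors.ne_zero hb
  have hne : ∀ y : PowerSeries k, y ≠ 0 → ι y ≠ 0 := fun y hy h =>
    hy (hιinj (by rw [h, map_zero]))
  have hιb : ι b ≠ 0 := hne b hbne
  have hιx : ι x ≠ 0 := hne x hxne
  have hfne : f ≠ 0 := by
    intro h0
    rw [h0, map_zero] at hf0
    exact hf0 rfl
  -- the Artin–Schreier equation inside `k⟦X⟧`
  have E1 : (a ^ p * b - b ^ p * a) * x ^ μ = f * (b ^ p * b) := by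
    apply hιinj
    rw [← hab, div_pow, div_sub_div _ _ (pow_ne_zero p hιb) hιb,
      div_eq_div_iff (mul_ne_zero (pow_ne_zero p hιb) hιb) (pow_ne_zero μ hιx)] at hz
    simp only [map_mul, map_sub, map_pow]
    exact hz
  have hane : a ≠ 0 := by
    intro h0
    rw [h0, zero_pow (by omega : p ≠ 0), zero_mul, mul_zero, sub_zero, zero_mul] at E1
    exact mul_ne_zero hfne (mul_ne_zero (pow_ne_zero p hbne) hbne) E1.symm
  obtain ⟨α, ga, hga0, hag, hαord⟩ := exists_eq_X_pow_mul a hane
  obtain ⟨β, gb, hgb0, hbg, hβord⟩ := exists_eq_X_pow_mul b hbne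
  have hford : f.order = 0 := order_eq_zero_of_constantCoeff_ne_zero f hf0
  -- orders of the two terms
  have ho1 : (a ^ p * b).order = ((p * α + β : ℕ) : ℕ∞) := by
    rw [order_mul, order_pow, hαord, hβord, nsmul_eq_mul]
    push_cast
    ring
  have ho2 : (b ^ p * a).order = ((p * β + α : ℕ) : ℕ∞) := by
    rw [order_mul, order_pow, hαord, hβord, nsmul_eq_mul]
    push_cast
    ring
  have hoR : (f * (b ^ p * b)).order = ((p * β + β : ℕ) : ℕ∞) := by
    rw [order_mul, order_mul, order_pow, hford, hβord, nsmul_eq_mul]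
    push_cast
    ring
  have hoL : ((a ^ p * b - b ^ p * a) * x ^ μ).order =
      (a ^ p * b - b ^ p * a).order + ((μ * p : ℕ) : ℕ∞) := by
    rw [order_mul, order_pow, hxord, nsmul_eq_mul]
    push_cast
    ring
  have hβα : β = α + μ := by
    rcases lt_or_ge α β with hlt | hge
    · have hne12 : (a ^ p * b).order ≠ (-(b ^ p * a)).order := by
        rw [order_neg, ho1, ho2]
        intro h
        have h' : p * α + β = p * β + α := by exact_mod_cast h
        obtain ⟨δ, rfl⟩ := Nat.exists_eq_add_of_lt hlt
        nlinarith [Nat.mul_le_mul_right (δ + 1) hp2]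
      have hsub : (a ^ p * b - b ^ p * a).order = ((p * α + β : ℕ) : ℕ∞) := by
        rw [sub_eq_add_neg, order_add_of_order_ne _ _ hne12, order_neg, ho1, ho2]
        apply min_eq_left
        have : p * α + β ≤ p * β + α := by
          obtain ⟨δ, rfl⟩ := Nat.exists_eq_add_of_lt hlt
          nlinarith [Nat.mul_le_mul_right (δ + 1) hp2]
        exact_mod_cast this
      have h1 := hoL
      rw [E1, hoR, hsub] at h1
      have h2 : p * β + β = p * α + β + μ * p := by exact_mod_cast h1
      have h3 : p * β = p * (α + μ) := by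
        rw [mul_add]
        nlinarith
      exact Nat.eq_of_mul_eq_mul_left (by omega) h3
    · exfalso
      have h1 : min (a ^ p * b).order (-(b ^ p * a)).order ≤ (a ^ p * b - b ^ p * a).order := by
        rw [sub_eq_add_neg]
        exact min_order_le_order_add _ _
      rw [order_neg, ho1, ho2] at h1
      have h2 := hoL
      rw [E1, hoR] at h2
      have hle1 : p * β ≤ p * α := Nat.mul_le_mul_left p hge
      have h3 : ((p * β + β : ℕ) : ℕ∞) ≤ min ((p * α + β : ℕ) : ℕ∞) ((p * β + α : ℕ) : ℕ∞) := by
        apply le_min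
        · exact_mod_cast (by omega : p * β + β ≤ p * α + β)
        · exact_mod_cast (by omega : p * β + β ≤ p * β + α)
      have h4 : ((p * β + β : ℕ) : ℕ∞) + ((μ * p : ℕ) : ℕ∞) ≤ ((p * β + β : ℕ) : ℕ∞) := by
        calc ((p * β + β : ℕ) : ℕ∞) + ((μ * p : ℕ) : ℕ∞)
            ≤ (a ^ p * b - b ^ p * a).order + ((μ * p : ℕ) : ℕ∞) :=
              add_le_add_left (le_trans h3 h1) _
          _ = _ := h2.symm
      have h5 : p * β + β + μ * p ≤ p * β + β := by exact_mod_cast h4
      have h6 : 0 < μ * p := Nat.mul_pos hμ (by omega)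
      omega
  -- apply `σ`
  have E2 : (σ a ^ p * σ b - σ b ^ p * σ a) * x ^ μ = f * (σ b ^ p * σ b) := by
    have := congrArg σ E1
    simpa only [map_mul, map_sub, map_pow, hxfix, hfσ] using this
  have hσbne : σ b ≠ 0 := fun h => hbne (σ.injective (by rw [h, map_zero]))
  have hισb : ι (σ b) ≠ 0 := hne _ hσbne
  have hz' : (ι (σ a) / ι (σ b)) ^ p - ι (σ a) / ι (σ b) = ι f / ι x ^ μ := by
    rw [div_pow, div_sub_div _ _ (pow_ne_zero p hισb) hισb,
      div_eq_div_iff (mul_ne_zero (pow_ne_zero p hισb) hισb) (pow_ne_zero μ hιx)]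
    have := congrArg ι E2
    simpa only [map_mul, map_sub, map_pow] using this
  have hw : (ι (σ a) / ι (σ b) - z) ^ p = ι (σ a) / ι (σ b) - z := by
    rw [sub_pow_char]
    linear_combination hz' - hz
  obtain ⟨n, hn⟩ := exists_natCast_eq_of_pow_eq p _ hw
  have E3 : σ a * b - σ b * a = (n : PowerSeries k) * (σ b * b) := by
    apply hιinj
    rw [← hab, div_sub_div _ _ hισb hιb, div_eq_iff (mul_ne_zero hισb hιb)] at hn
    simp only [map_mul, map_sub, map_natCast]
    exact hn
  -- normal forms
  obtain ⟨c, hc, hnf⟩ := exists_sub_eq_normal_form σ m p hσp hm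
  obtain ⟨wa, hwa⟩ := hnf α ga
  obtain ⟨wb, hwb⟩ := hnf β gb
  rw [← hag] at hwa
  rw [← hbg] at hwb
  have hμk : (μ : k) ≠ 0 := fun h0 => hpμ ((CharP.cast_eq_zero_iff k p μ).mp h0)
  have hL : σ a * b - σ b * a = X ^ (α + β + m) *
      ((C ((α : k) * c * constantCoeff ga) + X * wa) * gb -
        ga * (C ((β : k) * c * constantCoeff gb) + X * wb)) := by
    have e1 : σ a * b - σ b * a = (σ a - a) * b - a * (σ b - b) := by ring
    rw [e1, hwa, hwb]
    conv_lhs => rw [hag, hbg]
    ring
  have hN0 : constantCoeff ((C ((α : k) * c * constantCoeff ga) + X * wa) * gb -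
      ga * (C ((β : k) * c * constantCoeff gb) + X * wb)) ≠ 0 := by
    have : constantCoeff ((C ((α : k) * c * constantCoeff ga) + X * wa) * gb -
        ga * (C ((β : k) * c * constantCoeff gb) + X * wb)) =
        -((μ : k) * c * constantCoeff ga * constantCoeff gb) := by
      simp only [map_sub, map_mul, map_add, constantCoeff_C, constantCoeff_X, zero_mul, add_zero]
      rw [hβα]
      push_cast
      ring
    rw [this]
    exact neg_ne_zero.mpr (mul_ne_zero (mul_ne_zero (mul_ne_zero hμk hc) hga0) hgb0)
  have hLord : (σ a * b - σ b * a).order = ((α + β + m : ℕ) : ℕ∞) := by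
    rw [hL, order_mul, order_X_pow, order_eq_zero_of_constantCoeff_ne_zero _ hN0, add_zero]
  have hnC : (n : PowerSeries k) = C (n : k) := (map_natCast C n).symm
  by_cases hn0 : (n : k) = 0
  · exfalso
    rw [E3, hnC, hn0, map_zero, zero_mul, order_zero] at hLord
    exact ENat.top_ne_natCast _ hLord
  · have hRord : ((n : PowerSeries k) * (σ b * b)).order = ((β + β : ℕ) : ℕ∞) := by
      rw [hnC, order_mul, order_mul, order_algEquiv, hβord,
        order_eq_zero_of_constantCoeff_ne_zero _ (by rwa [constantCoeff_C]), zero_add]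
      push_cast
      ring
    rw [E3, hRord] at hLord
    have : β + β = α + β + m := by exact_mod_cast hLord
    omega

end Groth.Agent.S15813
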