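import Groth.Statements.S15814
import Mathlib
import Groth.Agent.Lib.Helper73.MCM
import Groth.Agent.S0565
import Groth.Agent.Lib.Helper55.KrullDimIntegral
import Groth.Agent.Lib.Helper28.RegularCM
import Groth.Agent.Lib.Helper29.DepthCM
import Groth.Agent.Lib.Helper85.RegularGens
-- import your own Groth.Agent.* helpers here

set_option autoImplicit false
universe u v w
open WildQuot

namespace Groth.Agent.S15814

open scoped TensorProduct

/-- Minimal generators over a local ring: as many as the dimension of the fibre. -/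
theorem exists_gens {R : Type*} [CommRing R] [IsLocalRing R] (P : Type*) [AddCommGroup P]
    [Module R P] [Module.Finite R P] :
    ∃ (a : ℕ) (f : Fin a → P),
      a = Module.finrank (IsLocalRing.ResidueField R) (IsLocalRing.ResidueField R ⊗[R] P) ∧
      Submodule.span R (Set.range f) = ⊤ := by
  classical
  have hk : Function.Surjective (algebraMap R (IsLocalRing.ResidueField R)) :=
    IsLocalRing.residue_surjective
  let bP := Module.finBasis (IsLocalRing.ResidueField R) (IsLocalRing.ResidueField R ⊗[R] P)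
  have hex : ∀ i, ∃ m : P, (1 : IsLocalRing.ResidueField R) ⊗ₜ[R] m = bP i := fun i =>
    TensorProduct.mk_surjective R P (IsLocalRing.ResidueField R) hk (bP i)
  choose f hf using hex
  exact ⟨_, f, rfl, IsLocalRing.span_eq_top_of_tmul_eq_basis f bP hf⟩

/-- Over a local ring, if `M ⊗ N` is free with `M`, `N` finite and `N ≠ 0`, then `M` is free. -/
theorem free_left_of_tensor_free {R : Type*} [CommRing R] [IsLocalRing R]
    {M : Type*} {N : Type*} [AddCommGroup M] [Module R M] [AddCommGroup N] [Module R N]
    [Module.Finite R M] [Module.Finite R N] [Nontrivial N] [Module.Free R (M ⊗[R] N)] :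
    Module.Free R M := by
  classical
  obtain ⟨a, f, ha, hf⟩ := exists_gens (R := R) M
  obtain ⟨b, g, hb, hg⟩ := exists_gens (R := R) N
  have hb0 : 0 < b := by
    by_contra h0
    have hb' : b = 0 := by omega
    subst hb'
    rw [Set.range_eq_empty, Submodule.span_empty] at hg
    exact not_subsingleton N ((Submodule.subsingleton_iff R).mp (subsingleton_of_bot_eq_top hg))
  let π : (Fin a → R) →ₗ[R] M := Fintype.linearCombination R f
  let ρ : (Fin b → R) →ₗ[R] N := Fintype.linearCombination R g
  have hπ : Function.Surjective π :=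
    (span_range_eq_top_iff_surjective_fintypeLinearCombination R f).1 hf
  have hρ : Function.Surjective ρ :=
    (span_range_eq_top_iff_surjective_fintypeLinearCombination R g).1 hg
  let τ : (Fin a → R) ⊗[R] (Fin b → R) →ₗ[R] M ⊗[R] N := TensorProduct.map π ρ
  have hτ : Function.Surjective τ := TensorProduct.map_surjective hπ hρ
  have hrank : Module.finrank R (M ⊗[R] N) = a * b := by
    rw [← Module.finrank_baseChange (R := IsLocalRing.ResidueField R) (S := R) (M' := M ⊗[R] N),
      LinearEquiv.finrank_eq (TensorProduct.AlgebraTensorModule.distribBaseChange R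
        (IsLocalRing.ResidueField R) M N),
      Module.finrank_tensorProduct, ← ha, ← hb]
  have hrank' : Module.finrank R ((Fin a → R) ⊗[R] (Fin b → R)) = a * b := by
    rw [Module.finrank_tensorProduct, Module.finrank_fin_fun, Module.finrank_fin_fun]
  have hτinj : Function.Injective τ := by
    let e : (M ⊗[R] N) ≃ₗ[R] ((Fin a → R) ⊗[R] (Fin b → R)) :=
      LinearEquiv.ofFinrankEq _ _ (hrank.trans hrank'.symm)
    have h1 : Function.Surjective (e.toLinearMap ∘ₗ τ) := e.surjective.comp hτ
    have h2 := OrzechProperty.injective_of_surjective_endomorphism _ h1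
    intro x y hxy
    exact h2 (show (e.toLinearMap ∘ₗ τ) x = (e.toLinearMap ∘ₗ τ) y by
      simp only [LinearMap.comp_apply, hxy])
  have hπinj : Function.Injective π := by
    rw [injective_iff_map_eq_zero]
    intro x hx
    have h1 : τ (x ⊗ₜ[R] (Pi.single (⟨0, hb0⟩ : Fin b) (1 : R))) = 0 := by
      show TensorProduct.map π ρ (x ⊗ₜ[R] (Pi.single (⟨0, hb0⟩ : Fin b) (1 : R))) = 0
      rw [TensorProduct.map_tmul, hx, TensorProduct.zero_tmul]
    have h2 : x ⊗ₜ[R] (Pi.single (⟨0, hb0⟩ : Fin b) (1 : R)) =
        (0 : (Fin a → R) ⊗[R] (Fin b → R)) := hτinj (by rw [h1, map_zero])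
    have h3 := congrArg (fun t => TensorProduct.rid R (Fin a → R)
      (TensorProduct.map (LinearMap.id : (Fin a → R) →ₗ[R] (Fin a → R))
        (LinearMap.proj (⟨0, hb0⟩ : Fin b) : (Fin b → R) →ₗ[R] R) t)) h2
    simpa using h3
  exact Module.Free.of_equiv (LinearEquiv.ofBijective π ⟨hπinj, hπ⟩)

/-- A regular local ring finite and injective over a regular local ring (same residue field) is
free over it. -/
theorem free_of_regular_finite (R : Type u) [CommRing R] [IsRegularLocalRing R]
    (A : Type v) [CommRing A] [IsRegularLocalRing A] [Algebra R A] [Module.Finite R A]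
    (hinj : Function.Injective (algebraMap R A))
    (hres : Function.Surjective (IsLocalRing.residue A ∘ algebraMap R A)) :
    Module.Free R A := by
  classical
  have hloc : ∀ r ∈ IsLocalRing.maximalIdeal R,
      algebraMap R A r ∈ IsLocalRing.maximalIdeal A := by
    intro r hr
    let f : R →+* IsLocalRing.ResidueField A := (IsLocalRing.residue A).comp (algebraMap R A)
    have hf : Function.Surjective f := hres
    have hmax : (RingHom.ker f).IsMaximal := RingHom.ker_isMaximal_of_surjective f hf
    have hker : RingHom.ker f = IsLocalRing.maximalIdeal R := IsLocalRing.eq_maximalIdeal hmax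
    have h1 : r ∈ RingHom.ker f := by rw [hker]; exact hr
    have h2 : IsLocalRing.residue A (algebraMap R A r) = 0 := h1
    exact (IsLocalRing.residue_eq_zero_iff _).1 h2
  haveI : Algebra.IsIntegral R A := Algebra.IsIntegral.of_finite R A
  have hdimA : ringKrullDim A = ringKrullDim R :=
    Groth.Agent.Lib.Helper55.ringKrullDim_eq_of_isIntegral_of_injective R A hinj
  obtain ⟨d, hd⟩ : ∃ d : ℕ, (IsLocalRing.maximalIdeal R).spanFinrank = d := ⟨_, rfl⟩
  have hdR : ringKrullDim R = (d : ℕ) := by
    rw [← hd]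
    exact (IsRegularLocalRing.spanFinrank_maximalIdeal (R := R)).symm
  obtain ⟨x, hx⟩ := Groth.Agent.Lib.Helper85.exists_fin_span_range_eq (IsLocalRing.maximalIdeal R)
    (IsLocalRing.maximalIdeal R).fg_of_isNoetherianRing hd
  have hxs : Ideal.ofList (List.ofFn x) = IsLocalRing.maximalIdeal R := by
    refine Eq.trans ?_ hx
    unfold Ideal.ofList
    congr 1
    ext r
    simp [List.mem_ofFn]
  obtain ⟨J, hJ⟩ : ∃ J : Ideal A, J = (IsLocalRing.maximalIdeal R).map (algebraMap R A) :=
    ⟨_, rfl⟩
  have hJle : J ≤ IsLocalRing.maximalIdeal A := by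
    rw [hJ, Ideal.map_le_iff_le_comap]
    intro r hr
    exact hloc r hr
  have hys_mem : ∀ y ∈ (List.ofFn x).map (algebraMap R A), y ∈ IsLocalRing.maximalIdeal A := by
    intro y hy
    obtain ⟨r, hr, rfl⟩ := List.mem_map.mp hy
    have hr' : r ∈ IsLocalRing.maximalIdeal R := by
      rw [← hxs]
      exact Ideal.subset_span hr
    exact hloc r hr'
  have hys : Ideal.ofList ((List.ofFn x).map (algebraMap R A)) = J := by
    rw [← Ideal.map_ofList, hxs, hJ]
  have hJtop : J ≠ ⊤ := fun h =>
    (IsLocalRing.maximalIdeal.isMaximal A).ne_top (top_le_iff.mp (h ▸ hJle))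
  haveI : Nontrivial (A ⧸ J) := Ideal.Quotient.nontrivial_iff.mpr hJtop
  have hK0 : Ring.KrullDimLE 0 (A ⧸ J) := by
    apply Ring.KrullDimLE.mk₀
    intro Q' hQ'
    haveI := hQ'
    have hsurj : Function.Surjective (Ideal.Quotient.mk J) := Ideal.Quotient.mk_surjective
    haveI hQ : (Q'.comap (Ideal.Quotient.mk J)).IsPrime := Ideal.comap_isPrime _ _
    have hJQ : J ≤ Q'.comap (Ideal.Quotient.mk J) := by
      intro a ha
      show Ideal.Quotient.mk J a ∈ Q'
      rw [Ideal.Quotient.eq_zero_iff_mem.mpr ha]; exact Q'.zero_mem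
    have hcomap : (Q'.comap (Ideal.Quotient.mk J)).comap (algebraMap R A) =
        IsLocalRing.maximalIdeal R := by
      have hle : IsLocalRing.maximalIdeal R ≤
          (Q'.comap (Ideal.Quotient.mk J)).comap (algebraMap R A) := by
        rw [← Ideal.map_le_iff_le_comap, ← hJ]; exact hJQ
      have hne : (Q'.comap (Ideal.Quotient.mk J)).comap (algebraMap R A) ≠ ⊤ :=
        (Ideal.comap_isPrime _ _).ne_top
      exact ((IsLocalRing.maximalIdeal.isMaximal R).eq_of_le hne hle).symm
    have hQmax : (Q'.comap (Ideal.Quotient.mk J)).IsMaximal :=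
      Ideal.isMaximal_of_isIntegral_of_isMaximal_comap (R := R) _
        (by rw [hcomap]; exact IsLocalRing.maximalIdeal.isMaximal R)
    rcases Ideal.map_eq_top_or_isMaximal_of_surjective (Ideal.Quotient.mk J) hsurj hQmax with h | h
    · rw [Ideal.map_comap_of_surjective _ hsurj] at h
      exact absurd h hQ'.ne_top
    · rwa [Ideal.map_comap_of_surjective _ hsurj] at h
  have h0 : ringKrullDim (A ⧸ J) = 0 := ringKrullDimZero_iff_ringKrullDim_eq_zero.mp hK0
  have hCM : LocCoh.IsCohenMacaulayModule A A :=
    Groth.Agent.Lib.Helper28.isCohenMacaulayModule_self_of_isRegularLocalRing A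
  have hreg : RingTheory.Sequence.IsWeaklyRegular A ((List.ofFn x).map (algebraMap R A)) := by
    rw [Groth.Agent.Lib.Helper29.isWeaklyRegular_iff_supportDim_of_isCohenMacaulayModule A A hCM _
      hys_mem]
    have h1 : (Ideal.ofList ((List.ofFn x).map (algebraMap R A)) • (⊤ : Submodule A A)) = J := by
      rw [hys, smul_eq_mul, Ideal.mul_top]
    rw [h1, Module.supportDim_self_eq_ringKrullDim, hdimA, hdR, List.length_map, List.length_ofFn]
    have h2 : Module.supportDim A (A ⧸ J) = 0 := by
      rw [← h0]; exact Module.supportDim_quotient_eq_ringKrullDim _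
    rw [h2, zero_add]
  have hreg' : RingTheory.Sequence.IsWeaklyRegular A (List.ofFn x) :=
    (RingTheory.Sequence.isWeaklyRegular_map_algebraMap_iff (S := A) (M := A) (List.ofFn x)).mp hreg
  obtain ⟨m, s, hs⟩ := Module.Finite.exists_fin (R := R) (M := A)
  let π : (Fin m → R) →ₗ[R] A := Fintype.linearCombination R s
  have hπ : Function.Surjective π :=
    (span_range_eq_top_iff_surjective_fintypeLinearCombination R s).1 hs
  let e : ((Fin m → R) ⧸ LinearMap.ker π) ≃ₗ[R] A := π.quotKerEquivOfSurjective hπ
  have hreg'' : RingTheory.Sequence.IsWeaklyRegular ((Fin m → R) ⧸ LinearMap.ker π)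
      (List.ofFn x) := (e.isWeaklyRegular_congr (List.ofFn x)).mpr hreg'
  have hmem : ∀ r ∈ List.ofFn x, r ∈ IsLocalRing.maximalIdeal R := by
    intro r hr
    rw [← hxs]; exact Ideal.subset_span hr
  have hdepth : ((IsLocalRing.maximalIdeal R).spanFinrank : ℕ∞) ≤
      LocCoh.depth R ((Fin m → R) ⧸ LinearMap.ker π) := by
    have h := Groth.Agent.Lib.Helper29.length_le_idealDepth (IsLocalRing.maximalIdeal R)
      ((Fin m → R) ⧸ LinearMap.ker π) (List.ofFn x) hreg'' hmem
    rw [List.length_ofFn] at h
    rw [hd]; exact h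
  haveI := Groth.Agent.Lib.Helper73.MCM.free_of_le_depth R ((Fin m → R) ⧸ LinearMap.ker π) hdepth
  exact Module.Free.of_equiv e

/-- The tensor product of the subalgebras `B j`, `j ≠ i`. -/
abbrev Cp {R : Type u} [CommRing R] {A : Type v} [CommRing A] [Algebra R A] {n : ℕ}
    (B : Fin n → Subalgebra R A) (i : Fin n) : Type (max u v) :=
  PiTensorProduct R (fun j : {j : Fin n // j ≠ i} => ↥(B j.1))


theorem main_aux {R : Type u} [CommRing R] [IsRegularLocalRing R] {A : Type v} [CommRing A]
    [IsRegularLocalRing A] [Algebra R A] [Module.Finite R A]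
    (hinj : Function.Injective (algebraMap R A))
    (hres : Function.Surjective (IsLocalRing.residue A ∘ algebraMap R A))
    {n : ℕ} (B : Fin n → Subalgebra R A)
    (hunit : ∀ i (b : B i), IsUnit (b : A) → IsUnit b)
    (hcoprod : ∀ (C : Type (max u v)) [CommRing C] [Algebra R C]
      (φ : ∀ i : Fin n, B i →ₐ[R] C), ∃! ψ : A →ₐ[R] C, ∀ i (x : B i), ψ x = φ i x)
    (i : Fin n) :
    Module.Free R (B i) ∧ IsRegularLocalRing (B i) := by
  classical
  have hAfree : Module.Free R A := free_of_regular_finite R A hinj hres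
  haveI hNoeth : IsNoetherian R A := isNoetherian_of_isNoetherianRing_of_finite R A
  haveI hBfin : ∀ j, Module.Finite R (B j) := fun j =>
    Module.Finite.of_injective (B j).val.toLinearMap Subtype.val_injective
  -- the multiplication map out of `Cp B i`
  let F : MultilinearMap R (fun j : {j : Fin n // j ≠ i} => ↥(B j.1)) A :=
    (MultilinearMap.mkPiAlgebra R {j : Fin n // j ≠ i} A).compLinearMap
      (fun j => (B j.1).val.toLinearMap)
  have hF : ∀ x, F x = ∏ l, (x l : A) := fun x => rfl
  let mC : Cp B i →ₐ[R] A := PiTensorProduct.liftAlgHom F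
    (by rw [hF]; simp)
    (by intro x y; rw [hF, hF, hF, ← Finset.prod_mul_distrib]; rfl)
  have hmC_tprod : ∀ x : (∀ j : {j : Fin n // j ≠ i}, B j.1),
      mC (PiTensorProduct.tprod R x) = ∏ l, (x l : A) := by
    intro x
    show PiTensorProduct.lift F (PiTensorProduct.tprod R x) = _
    rw [PiTensorProduct.lift.tprod, hF]
  have hmC : ∀ (j : {j : Fin n // j ≠ i}) (b : B j.1),
      mC (PiTensorProduct.singleAlgHom j b) = (b : A) := by
    intro j b
    rw [PiTensorProduct.singleAlgHom_apply, hmC_tprod, Finset.prod_eq_single j]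
    · rw [MonoidHom.mulSingle_apply, Pi.mulSingle_eq_same]
    · intro l _ hl
      rw [MonoidHom.mulSingle_apply, Pi.mulSingle_eq_of_ne hl]; rfl
    · intro h; exact absurd (Finset.mem_univ j) h
  haveI : Nontrivial (Cp B i) := RingHom.domain_nontrivial (mC : Cp B i →+* A)
  -- maps between `A` and `B i ⊗ Cp B i`
  let m₂ : (↥(B i) ⊗[R] Cp B i) →ₐ[R] A := Algebra.TensorProduct.productMap (B i).val mC
  let φ : ∀ j : Fin n, B j →ₐ[R] (↥(B i) ⊗[R] Cp B i) := fun j =>
    if h : j = i then
      (Algebra.TensorProduct.includeLeft : ↥(B i) →ₐ[R] ↥(B i) ⊗[R] Cp B i).comp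
        (Subalgebra.inclusion (le_of_eq (congrArg B h)))
    else
      (Algebra.TensorProduct.includeRight : Cp B i →ₐ[R] ↥(B i) ⊗[R] Cp B i).comp
        (PiTensorProduct.singleAlgHom (R := R) (A := fun l : {l : Fin n // l ≠ i} => ↥(B l.1))
          (⟨j, h⟩ : {j : Fin n // j ≠ i}))
  have hφ_pos : ∀ (j : Fin n) (h : j = i) (x : B j),
      φ j x = (Subalgebra.inclusion (le_of_eq (congrArg B h)) x) ⊗ₜ[R] (1 : Cp B i) := by
    intro j h x
    simp only [φ, dif_pos h]
    rfl
  have hφ_neg : ∀ (j : Fin n) (h : j ≠ i) (x : B j),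
      φ j x = (1 : ↥(B i)) ⊗ₜ[R]
        (PiTensorProduct.singleAlgHom (R := R) (A := fun l : {l : Fin n // l ≠ i} => ↥(B l.1))
          (⟨j, h⟩ : {j : Fin n // j ≠ i}) x : Cp B i) := by
    intro j h x
    simp only [φ, dif_neg h]
    rfl
  have hm₂φ : ∀ (j : Fin n) (x : B j), m₂ (φ j x) = (x : A) := by
    intro j x
    by_cases h : j = i
    · rw [hφ_pos j h x]
      show (B i).val (Subalgebra.inclusion (le_of_eq (congrArg B h)) x) * mC 1 = (x : A)
      rw [map_one, mul_one]
      rfl
    · rw [hφ_neg j h x]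
      show (B i).val 1 * mC (PiTensorProduct.singleAlgHom (R := R) (A := fun l : {l : Fin n // l ≠ i} => ↥(B l.1))
          (⟨j, h⟩ : {j : Fin n // j ≠ i}) x) =
        (x : A)
      rw [map_one, one_mul, hmC]
  obtain ⟨ψ, hψ, -⟩ := hcoprod (↥(B i) ⊗[R] Cp B i) φ
  have h1 : ψ.comp m₂ = AlgHom.id R (↥(B i) ⊗[R] Cp B i) := by
    apply Algebra.TensorProduct.ext
    · apply AlgHom.ext
      intro b
      show ψ (m₂ (b ⊗ₜ[R] (1 : Cp B i))) = b ⊗ₜ[R] (1 : Cp B i)
      have e1 : m₂ (b ⊗ₜ[R] (1 : Cp B i)) = (b : A) := by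
        show (B i).val b * mC 1 = (b : A)
        rw [map_one, mul_one]; rfl
      rw [e1, hψ i b, hφ_pos i rfl b]
      rfl
    · apply PiTensorProduct.algHom_ext
      intro j
      apply AlgHom.ext
      intro b
      show ψ (m₂ ((1 : ↥(B i)) ⊗ₜ[R] (PiTensorProduct.singleAlgHom j b : Cp B i))) =
        (1 : ↥(B i)) ⊗ₜ[R] (PiTensorProduct.singleAlgHom j b : Cp B i)
      have e1 : m₂ ((1 : ↥(B i)) ⊗ₜ[R] (PiTensorProduct.singleAlgHom j b : Cp B i)) = (b : A) := by
        show (B i).val 1 * mC (PiTensorProduct.singleAlgHom j b) = (b : A)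
        rw [map_one, one_mul, hmC]
      rw [e1, hψ j.1 b, hφ_neg j.1 j.2 b]
  have h2 : m₂.comp ψ = AlgHom.id R A := by
    let ι : A →ₐ[R] ULift.{u} A :=
      ((ULift.algEquiv (R := R) (A := A) : ULift.{u} A ≃ₐ[R] A).symm : A →ₐ[R] ULift.{u} A)
    obtain ⟨ψ', -, huniq⟩ := hcoprod (ULift.{u} A) (fun j => ι.comp (B j).val)
    have e1 : ι.comp (m₂.comp ψ) = ψ' := huniq _ (fun j x => by
      show ι (m₂ (ψ x)) = ι (x : A)
      rw [hψ j x, hm₂φ j x])
    have e2 : ι = ψ' := huniq _ (fun j x => rfl)
    apply AlgHom.ext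
    intro a
    have e3 : ι (m₂ (ψ a)) = ι a := by
      have := congrArg (fun g : A →ₐ[R] ULift.{u} A => g a) (e1.trans e2.symm)
      exact this
    exact (ULift.algEquiv (R := R) (A := A) : ULift.{u} A ≃ₐ[R] A).symm.injective e3
  let e : A ≃ₐ[R] (↥(B i) ⊗[R] Cp B i) := AlgEquiv.ofAlgHom ψ m₂ h1 h2
  haveI hTfree : Module.Free R (↥(B i) ⊗[R] Cp B i) := Module.Free.of_equiv e.toLinearEquiv
  have hBfree : Module.Free R (B i) := free_left_of_tensor_free (N := Cp B i)
  haveI hTfree' : Module.Free R (Cp B i ⊗[R] ↥(B i)) :=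
    Module.Free.of_equiv (TensorProduct.comm R (↥(B i)) (Cp B i))
  haveI hCfree : Module.Free R (Cp B i) := free_left_of_tensor_free (N := ↥(B i))
  refine ⟨hBfree, ?_⟩
  -- `A` is flat over `B i`
  have hsm : ∀ (b : B i) (t : ↥(B i) ⊗[R] Cp B i), b • t = (b ⊗ₜ[R] (1 : Cp B i)) * t :=
    fun b t => (Algebra.smul_def b t).trans rfl
  let eB : A ≃ₗ[B i] (↥(B i) ⊗[R] Cp B i) :=
    { toFun := e
      invFun := e.symm
      map_add' := map_add e
      left_inv := e.left_inv
      right_inv := e.right_inv
      map_smul' := by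
        intro b a
        show e (b • a) = b • e a
        rw [hsm, Subalgebra.smul_def, smul_eq_mul, map_mul]
        congr 1
        show ψ (b : A) = _
        rw [hψ i b, hφ_pos i rfl b]
        rfl }
  haveI : Module.Flat (B i) A := Module.Flat.of_linearEquiv eB
  haveI : IsNoetherian R (B i) :=
    isNoetherian_of_injective (B i).val.toLinearMap Subtype.val_injective
  haveI : IsNoetherianRing (B i) := isNoetherian_of_tower R (inferInstance : IsNoetherian R (B i))
  haveI : IsLocalRing (B i) := IsLocalRing.of_nonunits_add (by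
    intro a b ha hb
    have ha' : (a : A) ∈ nonunits A := fun h => ha (hunit i a h)
    have hb' : (b : A) ∈ nonunits A := fun h => hb (hunit i b h)
    have hab : ((a + b : B i) : A) ∈ nonunits A := by
      push_cast
      exact IsLocalRing.nonunits_add ha' hb'
    intro h
    exact hab (h.map (B i).val))
  haveI : IsLocalHom (algebraMap (B i) A) := ⟨fun b hb => hunit i b hb⟩
  exact Groth.Agent.S0565.result (B i) A


/-- Let `R` be a regular local ring and `A` a regular local ring, finite over `R` (with `R → A`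
injective) and with the same residue field; let a finite commutative group `H` of order `p ^ n` (`p`
prime) act faithfully on `A` by `R`-algebra automorphisms with ring of invariants exactly `R`, and
let `G_1, …, G_n ≤ H` be subgroups of order `p` generating `H`, each the inertia subgroup of some
height-one prime of `A`. Put `G_i^⊥ =` the subgroup generated by the `G_j` with `j ≠ i` and `B_i =
A^{G_i^⊥}`. Suppose `A` is the coproduct of the `R`-algebras `B_1, …, B_n`: every family of
`R`-algebra maps `B_i → C` into a commutative `R`-algebra `C` is the restriction of a unique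
`R`-algebra map `A → C` (that is, the product map `B_1 ⊗_R ⋯ ⊗_R B_n → A` is an isomorphism). Then
every `B_i` is a free `R`-module and a regular local ring. (The published statement is for `A`
complete regular with an action ramified precisely at the origin, `R` a norm subring and `H` the
Galois group of `Frac(A)/Frac(R)`, when that extension is Galois, and adds that the branch-locus
equations `a_1, …, a_n` of the `B_i` over `R` form a system of parameters of `R`; that last clause
is not included, and the test algebras `C` are taken in one universe large enough to contain the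
tensor product.) -/
theorem result
    (p : ℕ) [Fact p.Prime] (R : Type u) [CommRing R] [IsRegularLocalRing R]
    (A : Type v) [CommRing A] [IsRegularLocalRing A]
    [Algebra R A] [Module.Finite R A] (hinj : Function.Injective (algebraMap R A))
    (hres : Function.Surjective (IsLocalRing.residue A ∘ algebraMap R A))
    (H : Type w) [Group H] [Finite H] [MulSemiringAction H A] [SMulCommClass H R A] [FaithfulSMul H A]
    (hfix : ∀ a : A, (∀ h : H, h • a = a) → a ∈ Set.range (algebraMap R A))
    (hcomm : ∀ g h : H, g * h = h * g)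
    (n : ℕ) (hcard : Nat.card H = p ^ n) (Gi : Fin n → Subgroup H)
    (hGi : ∀ i, Nat.card (Gi i) = p) (hsup : (⨆ i, Gi i) = ⊤)
    (hinert : ∀ i, ∃ P : Ideal A, P.IsPrime ∧ P.height = 1 ∧ P.inertia H = Gi i)
    (hcoprod : ∀ (C : Type (max u v)) [CommRing C] [Algebra R C]
      (φ : ∀ i : Fin n,
        FixedPoints.subalgebra R A ↥(⨆ j ∈ (Finset.univ.erase i : Finset (Fin n)), Gi j : Subgroup H) →ₐ[R] C),
      ∃! ψ : A →ₐ[R] C, ∀ i
        (x : FixedPoints.subalgebra R A ↥(⨆ j ∈ (Finset.univ.erase i : Finset (Fin n)), Gi j : Subgroup H)),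
        ψ x = φ i x) :
    ∀ i, Module.Free R
        (FixedPoints.subalgebra R A ↥(⨆ j ∈ (Finset.univ.erase i : Finset (Fin n)), Gi j : Subgroup H)) ∧
      IsRegularLocalRing
        (FixedPoints.subalgebra R A ↥(⨆ j ∈ (Finset.univ.erase i : Finset (Fin n)), Gi j : Subgroup H)) := by
  intro i
  refine main_aux hinj hres
    (fun i => FixedPoints.subalgebra R A
      ↥(⨆ j ∈ (Finset.univ.erase i : Finset (Fin n)), Gi j : Subgroup H)) ?_ hcoprod i
  intro i b hb
  obtain ⟨c, hc⟩ := hb.exists_right_inv
  have hcfix : c ∈ FixedPoints.subalgebra R A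
      ↥(⨆ j ∈ (Finset.univ.erase i : Finset (Fin n)), Gi j : Subgroup H) := by
    intro g
    have hbg : g • (b : A) = b := b.2 g
    calc g • c = (g • c) * ((b : A) * c) := by rw [hc, mul_one]
      _ = ((g • c) * (g • (b : A))) * c := by rw [hbg, mul_assoc]
      _ = g • (c * b) * c := by rw [smul_mul']
      _ = c := by rw [mul_comm c, hc, smul_one, one_mul]
  exact isUnit_iff_exists_inv.mpr ⟨⟨c, hcfix⟩, Subtype.ext hc⟩

end Groth.Agent.S15814
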