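import Groth.Statements.S15815
import Groth.Agent.Lib.Helper12.KoszulScale

set_option autoImplicit false
universe u
open CategoryTheory
open Koszul

namespace Groth.Agent.S15815

/-- Let A be a commutative ring, f = (f_1, …, f_n) a finite sequence in A with Koszul complex K(f)
(cohomological, in degrees -n, …, 0) and differentials ∂^q : K(f)^q → K(f)^{q+1}, and let x be a
non-zero-divisor of A. Then for every integer q the q-th cohomology module of the Koszul complex of
the sequence (x f_1, …, x f_n) is isomorphic as an A-module to Ker(∂^q) / (x · Im(∂^{q-1})), the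
q-cocycles of K(f) modulo x times the q-coboundaries (existence of an A-linear isomorphism; the
Koszul complex is the iterated mapping-cone model). -/
theorem result (A : Type u) [CommRing A] (l : List A) (x : A)
    (hx : x ∈ nonZeroDivisors A) (q : ℤ) :
    Nonempty ((Koszul.koszul A (l.map (fun f => x * f))).homology q ≅
      ModuleCat.of A (↥(LinearMap.ker ((Koszul.koszul A l).d q (q + 1)).hom) ⧸
        Submodule.comap (LinearMap.ker ((Koszul.koszul A l).d q (q + 1)).hom).subtype
          (Ideal.span {x} • LinearMap.range ((Koszul.koszul A l).d (q - 1) q).hom))) := by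
  have key : ∀ (K1 K2 K1' K2' : CochainComplex (ModuleCat.{u} A) ℤ), K1 = K1' → K2 = K2' →
      Nonempty (K1'.homology q ≅
        ModuleCat.of A (↥(LinearMap.ker (K2'.d q (q + 1)).hom) ⧸
          Submodule.comap (LinearMap.ker (K2'.d q (q + 1)).hom).subtype
            (Ideal.span {x} • LinearMap.range (K2'.d (q - 1) q).hom))) →
      Nonempty (K1.homology q ≅
        ModuleCat.of A (↥(LinearMap.ker (K2.d q (q + 1)).hom) ⧸
          Submodule.comap (LinearMap.ker (K2.d q (q + 1)).hom).subtype
            (Ideal.span {x} • LinearMap.range (K2.d (q - 1) q).hom))) := by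
    rintro _ _ _ _ rfl rfl h
    exact h
  refine key _ _ _ _ (Groth.Agent.Lib.Helper94.koszul_eq A _) (Groth.Agent.Lib.Helper94.koszul_eq A l) ?_
  obtain ⟨e⟩ := Groth.Agent.Lib.Helper12.KoszulScale.nonempty_koszul_scale_iso x
    (ModuleCat.of A A) l
  have hflat : Module.Flat A ((CohIII.koszulCx (ModuleCat.of A A) l).X (q + 1)) :=
    Groth.Agent.Lib.Helper12.KoszulNilp.flat_koszulCx_X (ModuleCat.of A A)
      (inferInstanceAs (Module.Flat A A)) l (q + 1)
  have hreg : IsSMulRegular ((CohIII.koszulCx (ModuleCat.of A A) l).X (q + 1)) x :=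
    Module.Flat.isSMulRegular_of_nonZeroDivisors hx
  obtain ⟨e'⟩ := Groth.Agent.Lib.Helper12.KoszulScale.nonempty_homology_scaleD x
    (CohIII.koszulCx (ModuleCat.of A A) l) q hreg
  exact ⟨(HomologicalComplex.homologyFunctor _ _ q).mapIso e ≪≫ e'⟩

end Groth.Agent.S15815
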