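import Groth.Statements.S15816
import Groth.Agent.S15815

set_option autoImplicit false
universe u
open CategoryTheory
open scoped TensorProduct
open Koszul

namespace Groth.Agent.S15816

/-- Let A be a commutative ring, f = (f_1, …, f_n) a sequence in A that is regular in the weak sense
(f_1 is a non-zero-divisor of A and each f_i is a non-zero-divisor modulo (f_1, …, f_{i-1})), with
Koszul complex K(f) and differentials ∂^q, and let x be a non-zero-divisor of A. Then for every
integer q < 0 the q-th cohomology module of the Koszul complex of (x f_1, …, x f_n) is isomorphic as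
an A-module to Ker(∂^q) ⊗_A A/(x) (existence of an A-linear isomorphism; mapping-cone model of the
Koszul complex). -/
theorem result (A : Type u) [CommRing A] (l : List A)
    (hl : RingTheory.Sequence.IsWeaklyRegular A l) (x : A) (hx : x ∈ nonZeroDivisors A) (q : ℤ) (hq : q < 0) :
    Nonempty ((Koszul.koszul A (l.map (fun f => x * f))).homology q ≅
      ModuleCat.of A (↥(LinearMap.ker ((Koszul.koszul A l).d q (q + 1)).hom) ⊗[A] (A ⧸ Ideal.span {x}))) := by
  obtain ⟨e⟩ := Groth.Agent.S15815.result A l x hx q
  have hK : LCI.IsKoszulRegularSeq A l :=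
    Groth.Agent.Lib.Helper94.isKoszulRegularSeq_of_isWeaklyRegular A l hl
  have hex : ((Koszul.koszul A l).sc' (q - 1) q (q + 1)).Exact := by
    rw [← HomologicalComplex.exactAt_iff' (Koszul.koszul A l) (q - 1) q (q + 1) (by simp) (by simp),
      HomologicalComplex.exactAt_iff_isZero_homology]
    exact hK q (by omega)
  rw [ShortComplex.moduleCat_exact_iff_range_eq_ker] at hex
  have hrange : LinearMap.range ((Koszul.koszul A l).d (q - 1) q).hom =
      LinearMap.ker ((Koszul.koszul A l).d q (q + 1)).hom := hex
  set Z := LinearMap.ker ((Koszul.koszul A l).d q (q + 1)).hom with hZ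
  have hcomap : Submodule.comap Z.subtype
      (Ideal.span {x} • LinearMap.range ((Koszul.koszul A l).d (q - 1) q).hom) =
      (Ideal.span {x} • (⊤ : Submodule A Z)) := by
    rw [hrange]
    apply Submodule.map_injective_of_injective Z.injective_subtype
    rw [Submodule.map_comap_subtype, Submodule.map_smul'', Submodule.map_subtype_top]
    exact inf_eq_right.mpr Submodule.smul_le_right
  let e2 : (↥Z ⧸ Submodule.comap Z.subtype
      (Ideal.span {x} • LinearMap.range ((Koszul.koszul A l).d (q - 1) q).hom)) ≃ₗ[A]
      (↥Z ⊗[A] (A ⧸ Ideal.span {x})) :=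
    Submodule.quotEquivOfEq _ _ hcomap ≪≫ₗ
      (TensorProduct.tensorQuotEquivQuotSMul Z (Ideal.span {x})).symm
  exact ⟨e ≪≫ e2.toModuleIso⟩

end Groth.Agent.S15816
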