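import Groth.Statements.S15818
import Mathlib

set_option autoImplicit false
universe u
open CategoryTheory
open Koszul

namespace Groth.Agent.S15818

theorem gen {A : Type u} [CommRing A] {M : Type u} [AddCommGroup M] [Module A M]
    {P0 P Q S : Submodule A M} {h1 : P0 ≤ P} {h2 : P0 ≤ Q} {h3 : P ≤ S} {h4 : Q ≤ S}
    (hinf : P ⊓ Q ≤ P0) (hsup : S ≤ P ⊔ Q) :
    IsPullback (ModuleCat.ofHom (Submodule.factor h1))
      (ModuleCat.ofHom (Submodule.factor h2))
      (ModuleCat.ofHom (Submodule.factor h3))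
      (ModuleCat.ofHom (Submodule.factor h4)) := by
  have hw : (ModuleCat.ofHom (Submodule.factor h1)) ≫ (ModuleCat.ofHom (Submodule.factor h3)) =
      (ModuleCat.ofHom (Submodule.factor h2)) ≫ (ModuleCat.ofHom (Submodule.factor h4)) := by
    ext x
    simp
  apply IsPullback.of_map (forget (ModuleCat.{u} A)) hw
  rw [CategoryTheory.Limits.Types.isPullback_iff]
  refine ⟨?_, ?_, ?_⟩
  · rw [← Functor.map_comp, ← Functor.map_comp, hw]
  · rintro x y ⟨h1', h2'⟩
    obtain ⟨x, rfl⟩ := Submodule.Quotient.mk_surjective _ x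
    obtain ⟨y, rfl⟩ := Submodule.Quotient.mk_surjective _ y
    have h1'' : (Submodule.Quotient.mk x : M ⧸ P) = Submodule.Quotient.mk y := h1'
    have h2'' : (Submodule.Quotient.mk x : M ⧸ Q) = Submodule.Quotient.mk y := h2'
    rw [Submodule.Quotient.eq] at h1'' h2'' ⊢
    exact hinf ⟨h1'', h2''⟩
  · intro a b hab
    obtain ⟨m, rfl⟩ := Submodule.Quotient.mk_surjective _ a
    obtain ⟨m', rfl⟩ := Submodule.Quotient.mk_surjective _ b
    have hab' : (Submodule.Quotient.mk m : M ⧸ S) = Submodule.Quotient.mk m' := hab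
    rw [Submodule.Quotient.eq] at hab'
    obtain ⟨p, hp, q, hq, hpq⟩ := Submodule.mem_sup.1 (hsup hab')
    refine ⟨Submodule.Quotient.mk (m - p), ?_, ?_⟩
    · show (Submodule.Quotient.mk (m - p) : M ⧸ P) = Submodule.Quotient.mk m
      rw [Submodule.Quotient.eq]
      simpa using P.neg_mem hp
    · show (Submodule.Quotient.mk (m - p) : M ⧸ Q) = Submodule.Quotient.mk m'
      rw [Submodule.Quotient.eq]
      have : m - p - m' = q := by
        have h3 : m - p - m' = (m - m') - p := by abel
        rw [h3, ← hpq]; abel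
      rw [this]; exact hq

theorem result (A : Type u) [CommRing A] (l : List A) (q : ℤ)
    (K : CochainComplex (ModuleCat.{u} A) ℤ) (hK : K = Koszul.koszul A l)
    (hBZ : LinearMap.range (K.d (q - 1) q).hom ≤ LinearMap.ker (K.d q (q + 1)).hom)
    (x : A) (hx : x ∈ nonZeroDivisors A)
    (hxH : IsSMulRegular (↥(LinearMap.ker (K.d q (q + 1)).hom) ⧸ Submodule.comap (LinearMap.ker (K.d q (q + 1)).hom).subtype (LinearMap.range (K.d (q - 1) q).hom)) x) :
    IsPullback
      (ModuleCat.ofHom (Submodule.factor (Submodule.comap_mono (Submodule.smul_mono le_rfl hBZ) :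
        Submodule.comap (LinearMap.ker (K.d q (q + 1)).hom).subtype (Ideal.span {x} • LinearMap.range (K.d (q - 1) q).hom) ≤
          Submodule.comap (LinearMap.ker (K.d q (q + 1)).hom).subtype (Ideal.span {x} • LinearMap.ker (K.d q (q + 1)).hom))))
      (ModuleCat.ofHom (Submodule.factor (Submodule.comap_mono (Submodule.smul_le_right) :
        Submodule.comap (LinearMap.ker (K.d q (q + 1)).hom).subtype (Ideal.span {x} • LinearMap.range (K.d (q - 1) q).hom) ≤
          Submodule.comap (LinearMap.ker (K.d q (q + 1)).hom).subtype (LinearMap.range (K.d (q - 1) q).hom))))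
      (ModuleCat.ofHom (Submodule.factor (Submodule.comap_mono le_sup_right :
        Submodule.comap (LinearMap.ker (K.d q (q + 1)).hom).subtype (Ideal.span {x} • LinearMap.ker (K.d q (q + 1)).hom) ≤
          Submodule.comap (LinearMap.ker (K.d q (q + 1)).hom).subtype (LinearMap.range (K.d (q - 1) q).hom ⊔ Ideal.span {x} • LinearMap.ker (K.d q (q + 1)).hom))))
      (ModuleCat.ofHom (Submodule.factor (Submodule.comap_mono le_sup_left :
        Submodule.comap (LinearMap.ker (K.d q (q + 1)).hom).subtype (LinearMap.range (K.d (q - 1) q).hom) ≤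
          Submodule.comap (LinearMap.ker (K.d q (q + 1)).hom).subtype (LinearMap.range (K.d (q - 1) q).hom ⊔ Ideal.span {x} • LinearMap.ker (K.d q (q + 1)).hom)))) := by
  subst hK
  apply gen
  · -- inf
    intro z hz
    obtain ⟨hz1, hz2⟩ := Submodule.mem_inf.1 hz
    rw [Submodule.mem_comap] at hz1 hz2 ⊢
    rw [Submodule.ideal_span_singleton_smul] at hz1 ⊢
    obtain ⟨z', hz', hzz'⟩ := (Submodule.mem_smul_pointwise_iff_exists _ _ _).1 hz1
    refine (Submodule.mem_smul_pointwise_iff_exists _ _ _).2 ⟨z', ?_, hzz'⟩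
    -- regularity
    have h0 : x • (Submodule.Quotient.mk ⟨z', hz'⟩ : (↥(LinearMap.ker ((Koszul.koszul A l).d q (q + 1)).hom) ⧸ Submodule.comap (LinearMap.ker ((Koszul.koszul A l).d q (q + 1)).hom).subtype (LinearMap.range ((Koszul.koszul A l).d (q - 1) q).hom))) =
        x • 0 := by
      rw [smul_zero, ← Submodule.Quotient.mk_smul, Submodule.Quotient.mk_eq_zero, Submodule.mem_comap]
      show x • z' ∈ _
      rw [hzz']; exact hz2
    have h1 := hxH h0
    rw [Submodule.Quotient.mk_eq_zero, Submodule.mem_comap] at h1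
    exact h1
  · -- sup
    intro z hz
    rw [Submodule.mem_comap] at hz
    obtain ⟨b, hb, w, hw, hbw⟩ := Submodule.mem_sup.1 hz
    have hbZ : b ∈ LinearMap.ker ((Koszul.koszul A l).d q (q + 1)).hom := hBZ hb
    have hwZ : w ∈ LinearMap.ker ((Koszul.koszul A l).d q (q + 1)).hom := Submodule.smul_le_right hw
    rw [Submodule.mem_sup]
    refine ⟨⟨w, hwZ⟩, hw, ⟨b, hbZ⟩, hb, ?_⟩
    apply Subtype.ext
    show w + b = _
    rw [add_comm]; exact hbw

end Groth.Agent.S15818
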