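import Groth.Statements.S15822
import Groth.Agent.Lib.Helper47.KoszulSplit

set_option autoImplicit false
universe u
open CategoryTheory
open Koszul

namespace Groth.Agent.S15822

/-- Let A be a commutative ring, M an A-module, x = (x_1, …, x_s) a sequence in A and y_1, …, y_r
elements of the ideal (x_1, …, x_s). Then for every integer m, the m-th cohomology module of the
complex K(x_1, …, x_s, y_1, …, y_r) ⊗_A M (Koszul complex of the concatenated sequence in the
iterated mapping-cone model, tensored termwise with M) is isomorphic as an A-module to the direct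
sum over j = 0, …, r of (r choose j) copies of the (m + j)-th cohomology module of K(x_1, …, x_s)
⊗_A M (existence of an A-linear isomorphism). In the published indexing: H^{-q}(K(x, y) ⊗ M) ≅
⊕_{i+j=q} H^{-i}(K(x) ⊗ M) ⊗ ∧^j A^r. -/
theorem result (A : Type u) [CommRing A] (M : ModuleCat.{u} A)
    (xs ys : List A) (hy : ∀ y ∈ ys, y ∈ Ideal.span {a | a ∈ xs}) (m : ℤ) :
    Nonempty ((DRing.tensorCx (Koszul.koszul A (xs ++ ys)) M).homology m ≅
      ModuleCat.of A ((j : Fin (ys.length + 1)) → Fin (ys.length.choose j) →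
        (DRing.tensorCx (Koszul.koszul A xs) M).homology (m + j))) := by
  open Groth.Agent.Lib.Helper47.KoszulSplit Groth.Agent.Lib.Helper10.KoszulComp in
  classical
  obtain ⟨e₁⟩ := Groth.Agent.Lib.Helper10.KoszulPerm.nonempty_iso_of_perm
    (List.perm_append_comm : (xs ++ ys).Perm (ys ++ xs))
  have e₂ : Koszul.koszul A (ys ++ xs) ≅ CC ys (Koszul.koszul A xs) :=
    eqToIso (koszul_append ys xs)
  let W := (T M).obj (Koszul.koszul A xs)
  have e₃ : (T M).obj (Koszul.koszul A (xs ++ ys)) ≅ CC ys W :=
    (T M).mapIso (e₁ ≪≫ e₂) ≪≫ tensorCCIso M _ ys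
  have hNull : ∀ y ∈ ys, NullH y W := by
    intro y hy'
    refine nullH_T M _ ?_
    have h0 : Koszul.koszul A xs = CC xs (Koszul.koszul A []) := by
      simpa using koszul_append xs []
    rw [h0]
    exact nullH_CC_of_mem_span _ xs y (hy y hy')
  obtain ⟨e₄⟩ := nonempty_homology_CC_iso W ys hNull m
  exact ⟨(HomologicalComplex.homologyFunctor _ _ m).mapIso e₃ ≪≫ e₄⟩

end Groth.Agent.S15822
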