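import Groth.Statements.S15825
import Groth.Agent.Lib.Helper10.InterRegGeom
import Groth.Agent.Lib.Helper10.InterRegTor

set_option autoImplicit false
universe u
open CategoryTheory CategoryTheory.Limits AlgebraicGeometry
open RegImm

namespace Groth.Agent.S15825

/-- Let X be a locally Noetherian scheme all of whose local rings are Cohen–Macaulay, and let iY : Y → X
and iZ : Z → X be closed immersions which are regular of constant codimension a and b respectively
(around every point, on some affine open of X the ideal is generated by a regular sequence of length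
a, resp. b). Let W = Y ×_X Z be the scheme-theoretic intersection, with closed immersion w = pr_1 ≫
iY : W → X, and suppose W has the expected codimension: at every point of W the local ring of X has
Krull dimension at least a + b. Then w is a regular immersion of codimension a + b (so W is again a
local complete intersection in X), and the fibre square formed by W, Y, Z, X is Tor-independent: for
every affine open U of X and every i > 0 the module Tor_i over Γ(X, U) of Γ(Y, iY⁻¹U) and Γ(Z,
iZ⁻¹U) (module structures through iY and iZ; Tor computed by resolving the second argument) is zero.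
(The published statement is phrased with local complete intersections in a Cohen–Macaulay scheme and
the global codimension of Y ∩ Z; regular sequences of the stated lengths and the pointwise dimension
bound express the same hypotheses, and the vanishing of these Tor modules on affine opens is
equivalent to the vanishing of the stalkwise Tor groups at the points of W.) -/
theorem result {X Y Z : Scheme.{u}}
    [IsLocallyNoetherian X] (hCM : ∀ x : X, LocCoh.IsCohenMacaulayLocalRing (X.presheaf.stalk x))
    (iY : Y ⟶ X) (iZ : Z ⟶ X) [IsClosedImmersion iY] [IsClosedImmersion iZ] (a b : ℕ)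
    (hY : RegImm.IsRegularImmersionOfCodim RegImm.Kind.regular a iY)
    (hZ : RegImm.IsRegularImmersionOfCodim RegImm.Kind.regular b iZ)
    (hcodim : ∀ w : ↥(pullback iY iZ), ((a + b : ℕ) : WithBot ℕ∞) ≤
      ringKrullDim (X.presheaf.stalk ((pullback.fst iY iZ ≫ iY).base w))) :
    RegImm.IsRegularImmersionOfCodim RegImm.Kind.regular (a + b) (pullback.fst iY iZ ≫ iY) ∧
      ∀ (U : X.Opens), IsAffineOpen U → ∀ (i : ℕ), 0 < i →
        Subsingleton (@DRing.Tor Γ(X, U) _ i Γ(Y, iY ⁻¹ᵁ U) Γ(Z, iZ ⁻¹ᵁ U) _ (iY.app U).hom.toModule _ (iZ.app U).hom.toModule) := by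
  have hcodim' : ∀ x : X, x ∈ Set.range iY → x ∈ Set.range iZ →
      ((a + b : ℕ) : WithBot ℕ∞) ≤ ringKrullDim (X.presheaf.stalk x) := by
    rintro x ⟨y, hy⟩ ⟨z, hz⟩
    obtain ⟨w, hw1, hw2⟩ := Scheme.Pullback.exists_preimage_pullback (f := iY) (g := iZ) y z
      (hy.trans hz.symm)
    have h1 := hcodim w
    have hx : (pullback.fst iY iZ ≫ iY).base w = x := by
      rw [← hy, ← hw1]
      rfl
    rw [hx] at h1
    exact h1
  have HL : ∀ x : X, x ∈ Set.range iY → x ∈ Set.range iZ →
      ∃ V : X.Opens, IsAffineOpen V ∧ x ∈ V ∧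
        Groth.Agent.Lib.Helper10.InterRegGeom.HasInterData iY iZ a b V := by
    rintro x ⟨y, hy⟩ ⟨z, hz⟩
    exact Groth.Agent.Lib.Helper10.InterRegGeom.exists_hasInterData hCM iY iZ a b hY hZ hcodim'
      x y z hy hz
  refine ⟨?_, ?_⟩
  · apply Groth.Agent.Lib.Helper10.InterRegGeom.isRegularImmersionOfCodim_inter iY iZ a b
    intro w
    apply HL
    · exact ⟨pullback.fst iY iZ w, rfl⟩
    · refine ⟨pullback.snd iY iZ w, ?_⟩
      rw [← Scheme.Hom.comp_apply, ← pullback.condition]
  · intro U hU n hn
    haveI : IsNoetherianRing Γ(X, U) := IsLocallyNoetherian.component_noetherian ⟨U, hU⟩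
    have hclY : IsClosedImmersion (iY ∣_ U) :=
      IsZariskiLocalAtTarget.restrict (P := @IsClosedImmersion) inferInstance U
    have hclZ : IsClosedImmersion (iZ ∣_ U) :=
      IsZariskiLocalAtTarget.restrict (P := @IsClosedImmersion) inferInstance U
    obtain ⟨-, hsY⟩ := Groth.Agent.Lib.Helper10.RegImmBaseChange.app_surjective_of_restrict
      iY U hU hclY
    obtain ⟨-, hsZ⟩ := Groth.Agent.Lib.Helper10.RegImmBaseChange.app_surjective_of_restrict
      iZ U hU hclZ
    apply Groth.Agent.Lib.Helper10.InterRegTor.subsingleton_tor_of_ringHom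
      (iY.app U).hom (iZ.app U).hom hsY hsZ _ n hn
    intro 𝔪 hmax hI hJ
    obtain ⟨y, hy⟩ := Groth.Agent.Lib.Helper10.InterRegGeom.exists_apply_eq_fromSpec iY hU hclY
      ⟨𝔪, hmax.isPrime⟩ hI
    obtain ⟨z, hz⟩ := Groth.Agent.Lib.Helper10.InterRegGeom.exists_apply_eq_fromSpec iZ hU hclZ
      ⟨𝔪, hmax.isPrime⟩ hJ
    obtain ⟨V, hV, hxV, hdata⟩ := HL (hU.fromSpec ⟨𝔪, hmax.isPrime⟩) ⟨y, hy⟩ ⟨z, hz⟩
    have hxU := Groth.Agent.Lib.Helper10.RegImmDescent.fromSpec_mem hU ⟨𝔪, hmax.isPrime⟩
    obtain ⟨h, hle, hxh⟩ := hU.exists_basicOpen_le (V := V)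
      ⟨hU.fromSpec ⟨𝔪, hmax.isPrime⟩, hxV⟩ hxU
    have hD : IsAffineOpen (X.basicOpen h) := hU.basicOpen h
    obtain ⟨-, -, f, g, -, -, hkY, hkZ, wf, wg, wfg⟩ := hdata.of_le hV hD hle
    obtain ⟨-, hkY', -⟩ := Groth.Agent.Lib.Helper10.RegImmDescent.restrictData iY hU hD
      (X.basicOpen_le h) hclY
    obtain ⟨-, hkZ', -⟩ := Groth.Agent.Lib.Helper10.RegImmDescent.restrictData iZ hU hD
      (X.basicOpen_le h) hclZ
    refine ⟨h, ?_, Γ(X, X.basicOpen h), inferInstance, inferInstance,
      hU.isLocalization_basicOpen h, f, g, ?_, ?_, wf, wg, wfg⟩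
    · have h1 := (Groth.Agent.Lib.Helper10.RegImmDescent.mem_basicOpen_iff_notMem_primeIdealOf
        hU _ hxU h).mp hxh
      rwa [Groth.Agent.Lib.Helper10.RegImmDescent.primeIdealOf_fromSpec hU ⟨𝔪, hmax.isPrime⟩ hxU]
        at h1
    · rw [← hkY, hkY']
      rfl
    · rw [← hkZ, hkZ']
      rfl

end Groth.Agent.S15825
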