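import Groth.Statements.S15826
import Mathlib
import Groth.Agent.Lib.Helper80.RegSeqBC
import Groth.Agent.Lib.Helper49.UnitChart
import Groth.Agent.Lib.Helper42.QCohAffineSections
import Groth.Agent.Lib.Helper45.IdealModSections
import Groth.Agent.Lib.Helper49.FreeMod

set_option autoImplicit false
universe u
open CategoryTheory AlgebraicGeometry Opposite
open RegImm

namespace Groth.Agent.S15826
set_option linter.style.haveILetI false


/-- Let X be a scheme, E a finite locally free O_X-module of rank n and s : E → O_X a regular section,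
meaning that around every point of X there is an affine open U and a basis e_1, …, e_n of E(U) over
Γ(X, U) such that s(e_1), …, s(e_n) is a weakly regular sequence in Γ(X, U) (each a non-zero-divisor
modulo the previous ones). Let i : Y → X be a closed immersion whose ideal sheaf I_Y is the image of
s: t : E → I_Y is an epimorphism of O_X-modules with t followed by the inclusion I_Y → O_X equal to
s. Then the pulled-back map i^*t : i^*E → i^*I_Y is an isomorphism of O_Y-modules; its target is the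
conormal sheaf C_{Y/X} = I_Y/I_Y², so E|_Y ≅ C_{Y/X} via s and, dually, N_{Y/X} ≅ E^∨|_Y. (The
published statement calls s regular when its image is a regular ideal sheaf locally generated by
rank-many sections; the local bases mapping to regular sequences used here are how the published
proofs read that condition.) -/
theorem result {X Y : Scheme.{u}} (n : ℕ) (E : X.Modules)
    (hE : FlatMod.IsFinLocFreeOfRank n E) (s : E ⟶ Coh.structureModule X)
    (hs : ∀ x : X, ∃ U : X.affineOpens, x ∈ U.1 ∧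
      ∃ b : Module.Basis (Fin n) Γ(X, U.1) (E.val.obj (op U.1)),
        @RingTheory.Sequence.IsWeaklyRegular Γ(X, U.1) Γ(X, U.1) _ _ _ (List.ofFn fun k => (s.val.app (op U.1)).hom (b k)))
    (i : Y ⟶ X) [IsClosedImmersion i] (t : E ⟶ ClSub.idealMod i.ker) [Epi t]
    (hts : t ≫ ClSub.idealModι i.ker = s) :
    IsIso ((Scheme.Modules.pullback i).map t) := by
  haveI hEq : E.IsQuasicoherent :=
    Groth.Agent.Lib.Helper49.isQuasicoherent_of_isFinLocFree E fun x => by
      obtain ⟨U, hx, e⟩ := hE x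
      exact ⟨U, n, hx, e⟩
  haveI hIq : (ClSub.idealMod i.ker).IsQuasicoherent :=
    Groth.Agent.Lib.Helper45.isQuasicoherent_idealMod _
  haveI : ((Scheme.Modules.pullback i).obj E).IsQuasicoherent :=
    Groth.Agent.Lib.Helper16.FlatPull.isQuasicoherent_pullback i E
  haveI : ((Scheme.Modules.pullback i).obj (ClSub.idealMod i.ker)).IsQuasicoherent :=
    Groth.Agent.Lib.Helper16.FlatPull.isQuasicoherent_pullback i _
  apply Groth.Agent.Lib.Helper42.isIso_of_app_bijective_of_cover
  intro y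
  obtain ⟨U, hxU, b, hreg⟩ := hs (i.base y)
  have hU : IsAffineOpen U.1 := U.2
  have hW : IsAffineOpen (i ⁻¹ᵁ U.1) := hU.preimage i
  refine ⟨i ⁻¹ᵁ U.1, hW, hxU, ?_⟩
  letI := (i.appLE U.1 (i ⁻¹ᵁ U.1) le_rfl).hom.toAlgebra
  letI : Module Γ(X, U.1) Γ((Scheme.Modules.pullback i).obj E, i ⁻¹ᵁ U.1) :=
    Module.compHom _ (i.appLE U.1 (i ⁻¹ᵁ U.1) le_rfl).hom
  haveI : IsScalarTower Γ(X, U.1) Γ(Y, i ⁻¹ᵁ U.1)
      Γ((Scheme.Modules.pullback i).obj E, i ⁻¹ᵁ U.1) := IsScalarTower.of_compHom _ _ _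
  letI : Module Γ(X, U.1) Γ((Scheme.Modules.pullback i).obj (ClSub.idealMod i.ker), i ⁻¹ᵁ U.1) :=
    Module.compHom _ (i.appLE U.1 (i ⁻¹ᵁ U.1) le_rfl).hom
  haveI : IsScalarTower Γ(X, U.1) Γ(Y, i ⁻¹ᵁ U.1)
      Γ((Scheme.Modules.pullback i).obj (ClSub.idealMod i.ker), i ⁻¹ᵁ U.1) :=
    IsScalarTower.of_compHom _ _ _
  obtain ⟨gM, hgM, hbM⟩ :=
    Groth.Agent.Lib.Helper49.UnitChart.exists_isBaseChange_pullSLE i hU hW le_rfl E
  obtain ⟨gN, hgN, hbN⟩ :=
    Groth.Agent.Lib.Helper49.UnitChart.exists_isBaseChange_pullSLE i hU hW le_rfl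
      (ClSub.idealMod i.ker)
  have happ : i.appLE U.1 (i ⁻¹ᵁ U.1) le_rfl = i.app U.1 := i.appLE_eq_app
  have hsurj : Function.Surjective (algebraMap Γ(X, U.1) Γ(Y, i ⁻¹ᵁ U.1)) := by
    show Function.Surjective (i.appLE U.1 (i ⁻¹ᵁ U.1) le_rfl).hom
    rw [happ]
    exact i.app_surjective U.1 hU
  let τ : Γ(E, U.1) →ₗ[Γ(X, U.1)] Γ(ClSub.idealMod i.ker, U.1) :=
    Groth.Agent.Lib.Helper45.appₗ t U.1
  let ι : Γ(ClSub.idealMod i.ker, U.1) →ₗ[Γ(X, U.1)] Γ(X, U.1) :=
    { toFun := fun z => (show Γ(X, U.1) from (ClSub.idealModι i.ker).app U.1 z)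
      map_add' := fun a b => map_add _ a b
      map_smul' := fun r z => Groth.Agent.Lib.Helper45.idealModι_app_smul i.ker U.1 r z }
  have hτ : Function.Surjective τ := Groth.Agent.Lib.Helper42.app_surjective_of_epi t hU
  have hI : ∀ a : Γ(X, U.1), a ∈ LinearMap.range ι ↔
      algebraMap Γ(X, U.1) Γ(Y, i ⁻¹ᵁ U.1) a = 0 := by
    intro a
    have h1 := Groth.Agent.Lib.Helper45.mem_ideal_iff_exists_section i.ker U a
    have h2 : a ∈ i.ker.ideal U ↔ (i.app U.1).hom a = 0 := by
      rw [Scheme.Hom.ker_apply, RingHom.mem_ker]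
    have h3 : algebraMap Γ(X, U.1) Γ(Y, i ⁻¹ᵁ U.1) a = (i.app U.1).hom a := by
      show (i.appLE U.1 (i ⁻¹ᵁ U.1) le_rfl).hom a = _
      rw [happ]
    rw [h3, ← h2, h1]
    rfl
  have hreg' : RingTheory.Sequence.IsWeaklyRegular Γ(X, U.1)
      (List.ofFn fun k => ι (τ (b k))) := by
    have : (fun k => ι (τ (b k))) = fun k => (s.val.app (op U.1)).hom (b k) := by
      funext k
      subst hts
      rfl
    rw [this]
    exact hreg
  have hcomm : ∀ m, ((Scheme.Modules.pullback i).map t).app (i ⁻¹ᵁ U.1) (gM m) = gN (τ m) := by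
    intro m
    rw [hgM, hgN]
    exact Groth.Agent.Lib.Helper49.UnitChart.pullSLE_naturality i t U.1 (i ⁻¹ᵁ U.1) le_rfl m
  exact Groth.Agent.Lib.Helper80.RegSeqRel.bijective_of_isBaseChange hsurj b τ hτ ι hI hreg'
    gM hbM gN hbN _ (map_add _) hcomm

end Groth.Agent.S15826
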