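import Groth.Statements.S15827
import Mathlib
import Groth.Agent.Lib.Helper11.TensorBasis
import Groth.Agent.Lib.Helper42.ModGlue

set_option autoImplicit false
universe u
open CategoryTheory AlgebraicGeometry

namespace Groth.Agent.S15827

section Aux15827
open CategoryTheory.Limits TopologicalSpace Opposite TensorProduct
open Groth.Agent.Lib.Helper45 Groth.Agent.Lib.Helper49 Groth.Agent.Lib.Helper11.GenLocus
open Groth.Agent.Lib.Helper42.ModLocal

variable {X : Scheme.{u}}

/-- an isomorphism of modules from compatible linear bijections on a basis of opens. -/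
theorem nonempty_iso_of_basis {F G : X.Modules} {ι : Type u} (B : ι → X.Opens)
    (hB : Opens.IsBasis (Set.range B))
    (δ : ∀ i, Γ(F, B i) →+ Γ(G, B i))
    (hres : ∀ i j (h : B j ≤ B i) (s : Γ(F, B i)),
      δ j (F.presheaf.map (homOfLE h).op s) = G.presheaf.map (homOfLE h).op (δ i s))
    (hsmul : ∀ i (r : Γ(X, B i)) (s : Γ(F, B i)), δ i (r • s) = r • δ i s)
    (hbij : ∀ i, Function.Bijective (δ i)) : Nonempty (F ≅ G) := by
  let ε : ∀ i, Γ(G, B i) →+ Γ(F, B i) := fun i =>
    (AddEquiv.ofBijective (δ i) (hbij i)).symm.toAddMonoidHom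
  have hε1 : ∀ i t, δ i (ε i t) = t := fun i t =>
    (AddEquiv.ofBijective (δ i) (hbij i)).apply_symm_apply t
  have hε2 : ∀ i s, ε i (δ i s) = s := fun i s =>
    (AddEquiv.ofBijective (δ i) (hbij i)).symm_apply_apply s
  have hres' : ∀ i j (h : B j ≤ B i) (t : Γ(G, B i)),
      ε j (G.presheaf.map (homOfLE h).op t) = F.presheaf.map (homOfLE h).op (ε i t) := by
    intro i j h t
    apply (hbij j).1
    rw [hε1, hres, hε1]
  have hsmul' : ∀ i (r : Γ(X, B i)) (t : Γ(G, B i)), ε i (r • t) = r • ε i t := by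
    intro i r t
    apply (hbij i).1
    rw [hε1, hsmul, hε1]
  refine ⟨⟨homOfBasis B hB δ hres hsmul, homOfBasis B hB ε hres' hsmul', ?_, ?_⟩⟩
  · apply hom_ext_of_basis B hB
    intro i s
    change (homOfBasis B hB ε hres' hsmul').app (B i)
      ((homOfBasis B hB δ hres hsmul).app (B i) s) = s
    rw [homOfBasis_app, homOfBasis_app, hε2]
  · apply hom_ext_of_basis B hB
    intro i t
    change (homOfBasis B hB δ hres hsmul).app (B i)
      ((homOfBasis B hB ε hres' hsmul').app (B i) t) = t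
    rw [homOfBasis_app, homOfBasis_app, hε1]

end Aux15827

section Twist
open CategoryTheory.Limits TopologicalSpace Opposite TensorProduct
open Groth.Agent.Lib.Helper45 Groth.Agent.Lib.Helper49 Groth.Agent.Lib.Helper11.GenLocus
open Groth.Agent.Lib.Helper42.ModLocal

variable {X : Scheme.{u}}

/-- `e ↦ e ⊗ ℓ` as a linear map. -/
noncomputable def twistLin (E L : X.Modules) (U : X.Opens) (ℓ : Γ(L, U)) :
    (E.val.obj (op U)) →ₗ[Γ(X, U)] ((CohB1.tensorMod E L).val.obj (op U)) where
  toFun := fun e => SecTwist.tmul E L U e ℓ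
  map_add' := fun a b => tmul_add_left E L U a b ℓ
  map_smul' := fun r a => tmul_smul_left E L U r a ℓ

theorem twistLin_bijective (E L : X.Modules) (U : X.Opens) (ℓ : Γ(L, U)) (hℓ : IsBasisOn L U ℓ) :
    Function.Bijective (twistLin E L U ℓ) := by
  have := tm_basis_bijective E L U ℓ hℓ U le_rfl
  rw [mres_self] at this
  exact this

/-- `e ↦ e ⊗ ℓ` for a basis `ℓ` of `L` over `U`, as a linear equivalence. -/
noncomputable def twistEquiv (E L : X.Modules) (U : X.Opens) (ℓ : Γ(L, U)) (hℓ : IsBasisOn L U ℓ) :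
    (E.val.obj (op U)) ≃ₗ[Γ(X, U)] ((CohB1.tensorMod E L).val.obj (op U)) :=
  LinearEquiv.ofBijective (twistLin E L U ℓ) (twistLin_bijective E L U ℓ hℓ)

theorem twistEquiv_apply (E L : X.Modules) (U : X.Opens) (ℓ : Γ(L, U)) (hℓ : IsBasisOn L U ℓ)
    (e : E.val.obj (op U)) : twistEquiv E L U ℓ hℓ e = SecTwist.tmul E L U e ℓ := rfl

/-- the exterior power of a linear equivalence. -/
noncomputable def extEquiv {R : Type*} [CommRing R] {A B : Type*} [AddCommGroup A] [Module R A]
    [AddCommGroup B] [Module R B] (k : ℕ) (α : A ≃ₗ[R] B) : ⋀[R]^k A ≃ₗ[R] ⋀[R]^k B :=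
  LinearEquiv.ofLinearMap (exteriorPower.map k α.toLinearMap) (exteriorPower.map k α.symm.toLinearMap)
    (by rw [← exteriorPower.map_comp, LinearEquiv.comp_symm, exteriorPower.map_id])
    (by rw [← exteriorPower.map_comp, LinearEquiv.symm_comp, exteriorPower.map_id])

theorem extEquiv_ιMulti {R : Type*} [CommRing R] {A B : Type*} [AddCommGroup A] [Module R A]
    [AddCommGroup B] [Module R B] (k : ℕ) (α : A ≃ₗ[R] B) (a : Fin k → A) :
    extEquiv k α (exteriorPower.ιMulti R k a) = exteriorPower.ιMulti R k (fun j => α (a j)) :=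
  exteriorPower.map_apply_ιMulti _ _

theorem ιMulti_smul_const {R : Type*} [CommRing R] {A : Type*} [AddCommGroup A] [Module R A]
    (k : ℕ) (u : R) (a : Fin k → A) :
    exteriorPower.ιMulti R k (fun j => u • a j) = u ^ k • exteriorPower.ιMulti R k a := by
  have := (exteriorPower.ιMulti R k (M := A)).map_smul_univ (fun _ => u) a
  rw [this, Finset.prod_const, Finset.card_fin]

end Twist

section Main
open CategoryTheory.Limits TopologicalSpace Opposite TensorProduct
open Groth.Agent.Lib.Helper45 Groth.Agent.Lib.Helper49 Groth.Agent.Lib.Helper11.GenLocus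
open Groth.Agent.Lib.Helper42.ModLocal

variable {X : Scheme.{u}}

/-- affine opens over which `L` has a basis. -/
def Idx (L : X.Modules) : Type u :=
  {U : X.Opens // IsAffineOpen U ∧ ∃ ℓ : Γ(L, U), IsBasisOn L U ℓ}

abbrev Idx.aff {L : X.Modules} (U : Idx L) : X.affineOpens := ⟨U.1, U.2.1⟩

noncomputable def Idx.ℓ {L : X.Modules} (U : Idx L) : Γ(L, U.1) := U.2.2.choose

theorem Idx.hℓ {L : X.Modules} (U : Idx L) : IsBasisOn L U.1 U.ℓ := U.2.2.choose_spec

theorem isBasis_Idx {L : X.Modules} (hL : PicF.IsInvertible L) :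
    Opens.IsBasis (Set.range (fun U : Idx L => U.1)) := by
  rw [Opens.isBasis_iff_nbhd]
  intro W x hx
  obtain ⟨V, hxV, t, ht⟩ := exists_isBasisOn_of_isInvertible hL x
  obtain ⟨_, ⟨A, hA, rfl⟩, hxA, hAle⟩ :=
    X.isBasis_affineOpens.exists_subset_of_mem_open (show x ∈ (W ⊓ V : X.Opens) from ⟨hx, hxV⟩)
      (W ⊓ V).2
  have hAW : A ≤ W := fun y hy => (hAle hy).1
  have hAV : A ≤ V := fun y hy => (hAle hy).2
  exact ⟨A, ⟨⟨A, hA, mres L hAV t, ht.mono hAV⟩, rfl⟩, hxA, hAW⟩

variable (E L : X.Modules) (k : ℕ) (M N : X.Modules)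
  (φM : ∀ U : X.affineOpens, (M.val.obj (op U.1)) ≃ₗ[Γ(X, U.1)]
    ↥(⋀[Γ(X, U.1)]^k ((CohB1.tensorMod E L).val.obj (op U.1))))
  (φN : ∀ U : X.affineOpens, (N.val.obj (op U.1)) ≃ₗ[Γ(X, U.1)]
    ↥(⋀[Γ(X, U.1)]^k (E.val.obj (op U.1))))

/-- the local isomorphism `Λ^k(E ⊗ L) ≅ Λ^k E ⊗ L^k` over a trivialising affine open. -/
noncomputable def deltaEquiv (U : Idx L) : (M.val.obj (op U.1)) ≃ₗ[Γ(X, U.1)]
    ((CohB1.tensorMod N (CohB1.tensorPow L k)).val.obj (op U.1)) :=
  (φM U.aff).trans ((extEquiv k (twistEquiv E L U.1 U.ℓ U.hℓ)).symm.trans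
    ((φN U.aff).symm.trans (twistEquiv N (CohB1.tensorPow L k) U.1 (powSec L U.1 U.ℓ k)
      (isBasisOn_powSec U.hℓ k))))

theorem deltaEquiv_apply (U : Idx L) (x : M.val.obj (op U.1)) :
    deltaEquiv E L k M N φM φN U x =
      twistEquiv N (CohB1.tensorPow L k) U.1 (powSec L U.1 U.ℓ k) (isBasisOn_powSec U.hℓ k)
        ((φN U.aff).symm ((extEquiv k (twistEquiv E L U.1 U.ℓ U.hℓ)).symm (φM U.aff x))) := rfl

theorem extEquiv_symm_twist (U : Idx L) (u : Γ(X, U.1)) (e : Fin k → E.val.obj (op U.1)) :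
    (extEquiv k (twistEquiv E L U.1 U.ℓ U.hℓ)).symm
      (exteriorPower.ιMulti _ k (fun j => twistEquiv E L U.1 U.ℓ U.hℓ (u • e j))) =
      u ^ k • exteriorPower.ιMulti _ k e := by
  have h := extEquiv_ιMulti k (twistEquiv E L U.1 U.ℓ U.hℓ) (fun j => u • e j)
  rw [← h, LinearEquiv.symm_apply_apply, ιMulti_smul_const]

theorem deltaEquiv_gen (U : Idx L) (ℓ' : Γ(L, U.1)) (e : Fin k → E.val.obj (op U.1)) :
    deltaEquiv E L k M N φM φN U ((φM U.aff).symm
        (exteriorPower.ιMulti _ k (fun j => SecTwist.tmul E L U.1 (e j) ℓ'))) =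
      SecTwist.tmul N (CohB1.tensorPow L k) U.1 ((φN U.aff).symm (exteriorPower.ιMulti _ k e))
        (powSec L U.1 ℓ' k) := by
  obtain ⟨u, hu⟩ := U.hℓ.exists_eq_smul ℓ'
  have h1 : (fun j => SecTwist.tmul E L U.1 (e j) ℓ') =
      fun j => twistEquiv E L U.1 U.ℓ U.hℓ (u • e j) := by
    funext j
    rw [twistEquiv_apply, ← hu]
    exact tmul_smul_swap E L U.1 u (e j) U.ℓ
  have h2 : (extEquiv k (twistEquiv E L U.1 U.ℓ U.hℓ)).symm
      (exteriorPower.ιMulti _ k (fun j => SecTwist.tmul E L U.1 (e j) ℓ')) =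
      u ^ k • exteriorPower.ιMulti _ k e :=
    (congrArg (fun f => (extEquiv k (twistEquiv E L U.1 U.ℓ U.hℓ)).symm
      (exteriorPower.ιMulti _ k f)) h1).trans (extEquiv_symm_twist E L k U u e)
  have h3 : deltaEquiv E L k M N φM φN U ((φM U.aff).symm
        (exteriorPower.ιMulti _ k (fun j => SecTwist.tmul E L U.1 (e j) ℓ'))) =
      twistEquiv N (CohB1.tensorPow L k) U.1 (powSec L U.1 U.ℓ k) (isBasisOn_powSec U.hℓ k)
        ((φN U.aff).symm (u ^ k • exteriorPower.ιMulti _ k e)) :=
    ((deltaEquiv_apply E L k M N φM φN U _).trans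
      (congrArg (fun z => twistEquiv N (CohB1.tensorPow L k) U.1 (powSec L U.1 U.ℓ k)
        (isBasisOn_powSec U.hℓ k) ((φN U.aff).symm
          ((extEquiv k (twistEquiv E L U.1 U.ℓ U.hℓ)).symm z)))
        (LinearEquiv.apply_symm_apply (φM U.aff) _))).trans
      (congrArg (fun z => twistEquiv N (CohB1.tensorPow L k) U.1 (powSec L U.1 U.ℓ k)
        (isBasisOn_powSec U.hℓ k) ((φN U.aff).symm z)) h2)
  rw [h3, map_smul, map_smul, twistEquiv_apply, ← hu, powSec_smul]
  exact (tm_smul_right N (CohB1.tensorPow L k) U.1 (u ^ k) _ _).symm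


variable (hM : ∀ (U V : X.affineOpens) (h : V.1 ≤ U.1)
    (e : Fin k → (CohB1.tensorMod E L).val.obj (op U.1)),
    mres M h ((φM U).symm (exteriorPower.ιMulti _ k e)) =
      (φM V).symm (exteriorPower.ιMulti _ k (fun j => mres (CohB1.tensorMod E L) h (e j))))
  (hN : ∀ (U V : X.affineOpens) (h : V.1 ≤ U.1) (e : Fin k → E.val.obj (op U.1)),
    mres N h ((φN U).symm (exteriorPower.ιMulti _ k e)) =
      (φN V).symm (exteriorPower.ιMulti _ k (fun j => mres E h (e j))))

include hM hN in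
theorem deltaEquiv_res_gen (U V : Idx L) (h : V.1 ≤ U.1) (e : Fin k → E.val.obj (op U.1)) :
    deltaEquiv E L k M N φM φN V (mres M h ((φM U.aff).symm
        (exteriorPower.ιMulti _ k (fun j => SecTwist.tmul E L U.1 (e j) U.ℓ)))) =
      mres (CohB1.tensorMod N (CohB1.tensorPow L k)) h (deltaEquiv E L k M N φM φN U
        ((φM U.aff).symm (exteriorPower.ιMulti _ k (fun j => SecTwist.tmul E L U.1 (e j) U.ℓ)))) := by
  have e1 := hM U.aff V.aff h (fun j => SecTwist.tmul E L U.1 (e j) U.ℓ)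
  have e2 : (fun j => mres (CohB1.tensorMod E L) h (SecTwist.tmul E L U.1 (e j) U.ℓ)) =
      fun j => SecTwist.tmul E L V.1 (mres E h (e j)) (mres L h U.ℓ) := by
    funext j
    exact tm_res E L h (e j) U.ℓ
  have e3 := deltaEquiv_gen E L k M N φM φN V (mres L h U.ℓ) (fun j => mres E h (e j))
  have e4 := deltaEquiv_gen E L k M N φM φN U U.ℓ e
  have e5 := hN U.aff V.aff h e
  have lhs : deltaEquiv E L k M N φM φN V (mres M h ((φM U.aff).symm
        (exteriorPower.ιMulti _ k (fun j => SecTwist.tmul E L U.1 (e j) U.ℓ)))) =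
      SecTwist.tmul N (CohB1.tensorPow L k) V.1
        ((φN V.aff).symm (exteriorPower.ιMulti _ k (fun j => mres E h (e j))))
        (powSec L V.1 (mres L h U.ℓ) k) :=
    ((congrArg (fun z => deltaEquiv E L k M N φM φN V z) e1).trans
      (congrArg (fun f => deltaEquiv E L k M N φM φN V ((φM V.aff).symm
        (exteriorPower.ιMulti _ k f))) e2)).trans e3
  have rhs : mres (CohB1.tensorMod N (CohB1.tensorPow L k)) h (deltaEquiv E L k M N φM φN U
        ((φM U.aff).symm (exteriorPower.ιMulti _ k (fun j => SecTwist.tmul E L U.1 (e j) U.ℓ)))) =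
      SecTwist.tmul N (CohB1.tensorPow L k) V.1
        ((φN V.aff).symm (exteriorPower.ιMulti _ k (fun j => mres E h (e j))))
        (powSec L V.1 (mres L h U.ℓ) k) := by
    refine (congrArg (fun z => mres (CohB1.tensorMod N (CohB1.tensorPow L k)) h z) e4).trans ?_
    refine (tm_res N (CohB1.tensorPow L k) h _ _).trans ?_
    rw [powSec_res]
    exact congrArg (fun z => SecTwist.tmul N (CohB1.tensorPow L k) V.1 z
      (powSec L V.1 (mres L h U.ℓ) k)) e5
  exact lhs.trans rhs.symm


/-- the identity, from the module-flavoured sections to the abelian-group-flavoured ones. -/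
def castΓ (F : X.Modules) (U : X.Opens) : (F.val.obj (op U)) →+ Γ(F, U) where
  toFun x := x
  map_zero' := rfl
  map_add' _ _ := rfl

/-- the identity, the other way. -/
def castV (F : X.Modules) (U : X.Opens) : Γ(F, U) →+ (F.val.obj (op U)) where
  toFun x := x
  map_zero' := rfl
  map_add' _ _ := rfl

include hM hN in
theorem deltaEquiv_res (U V : Idx L) (h : V.1 ≤ U.1) (m : M.val.obj (op U.1)) :
    deltaEquiv E L k M N φM φN V (mres M h m) =
      mres (CohB1.tensorMod N (CohB1.tensorPow L k)) h (deltaEquiv E L k M N φM φN U m) := by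
  let T := CohB1.tensorMod N (CohB1.tensorPow L k)
  let F₁ : ↥(⋀[Γ(X, U.1)]^k ((CohB1.tensorMod E L).val.obj (op U.1))) →+ Γ(T, V.1) :=
    (castΓ T V.1).comp ((deltaEquiv E L k M N φM φN V).toLinearMap.toAddMonoidHom.comp
      ((castV M V.1).comp ((mres M h).comp ((castΓ M U.1).comp
        (φM U.aff).symm.toLinearMap.toAddMonoidHom))))
  let F₂ : ↥(⋀[Γ(X, U.1)]^k ((CohB1.tensorMod E L).val.obj (op U.1))) →+ Γ(T, V.1) :=
    (mres T h).comp ((castΓ T U.1).comp
      ((deltaEquiv E L k M N φM φN U).toLinearMap.toAddMonoidHom.comp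
        (φM U.aff).symm.toLinearMap.toAddMonoidHom))
  have F₁_smul : ∀ (r : Γ(X, U.1)) a, F₁ (r • a) = fres h r • F₁ a := by
    intro r a
    have s1 : (φM U.aff).symm (r • a) = r • (φM U.aff).symm a := map_smul _ r a
    have s2 := mres_smul M h r ((φM U.aff).symm a)
    have s3 : deltaEquiv E L k M N φM φN V (fres h r • mres M h ((φM U.aff).symm a)) =
        fres h r • deltaEquiv E L k M N φM φN V (mres M h ((φM U.aff).symm a)) := map_smul _ _ _
    exact ((congrArg (fun z => deltaEquiv E L k M N φM φN V (mres M h z)) s1).trans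
      (congrArg (fun z => deltaEquiv E L k M N φM φN V z) s2)).trans s3
  have F₂_smul : ∀ (r : Γ(X, U.1)) a, F₂ (r • a) = fres h r • F₂ a := by
    intro r a
    have s1 : (φM U.aff).symm (r • a) = r • (φM U.aff).symm a := map_smul _ r a
    have s2 : deltaEquiv E L k M N φM φN U (r • (φM U.aff).symm a) =
        r • deltaEquiv E L k M N φM φN U ((φM U.aff).symm a) := map_smul _ _ _
    have s3 := mres_smul T h r (deltaEquiv E L k M N φM φN U ((φM U.aff).symm a))
    exact ((congrArg (fun z => mres T h (deltaEquiv E L k M N φM φN U z)) s1).trans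
      (congrArg (fun z => mres T h z) s2)).trans s3
  have H : ∀ y, F₁ y = F₂ y := by
    intro y
    have hy : y ∈ Submodule.span Γ(X, U.1)
        (Set.range (exteriorPower.ιMulti Γ(X, U.1) k
          (M := (CohB1.tensorMod E L).val.obj (op U.1)))) := by
      rw [exteriorPower.ιMulti_span]
      trivial
    induction hy using Submodule.span_induction with
    | mem y hy =>
      obtain ⟨x, rfl⟩ := hy
      have hx : x = fun j => SecTwist.tmul E L U.1
          ((twistEquiv E L U.1 U.ℓ U.hℓ).symm (x j)) U.ℓ := by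
        funext j
        exact ((twistEquiv E L U.1 U.ℓ U.hℓ).apply_symm_apply (x j)).symm
      rw [hx]
      exact deltaEquiv_res_gen E L k M N φM φN hM hN U V h _
    | zero => exact (map_zero F₁).trans (map_zero F₂).symm
    | add a b _ _ ha hb =>
      exact (map_add F₁ a b).trans ((congrArg₂ (· + ·) ha hb).trans (map_add F₂ a b).symm)
    | smul r a _ ha =>
      exact (F₁_smul r a).trans ((congrArg (fun z => fres h r • z) ha).trans (F₂_smul r a).symm)
  have h0 := H (φM U.aff m)
  have e0 : (φM U.aff).symm (φM U.aff m) = m := LinearEquiv.symm_apply_apply _ _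
  have l1 : F₁ (φM U.aff m) = deltaEquiv E L k M N φM φN V (mres M h m) :=
    congrArg (fun z => deltaEquiv E L k M N φM φN V (mres M h z)) e0
  have l2 : F₂ (φM U.aff m) = mres T h (deltaEquiv E L k M N φM φN U m) :=
    congrArg (fun z => mres T h (deltaEquiv E L k M N φM φN U z)) e0
  exact l1.symm.trans (h0.trans l2)

end Main

/-- Let X be a scheme, E a finite locally free O_X-module and L a finite locally free O_X-module of rank
1 (an invertible module), and k a natural number. If M is a k-th exterior power of E ⊗ L and N is a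
k-th exterior power of E (affine-local characterisation of exterior powers), then M is isomorphic to
N ⊗ L^{⊗k} as an O_X-module (existence of an isomorphism; the published isomorphism is induced by
(e_1 ⊗ l_1) ∧ ⋯ ∧ (e_k ⊗ l_k) ↦ (e_1 ∧ ⋯ ∧ e_k) ⊗ l_1 ⋯ l_k). -/
theorem result {X : Scheme.{u}} (E L : X.Modules)
    (hE : FlatMod.IsFinLocFree E) (hL : FlatMod.IsFinLocFreeOfRank 1 L) (k : ℕ) (M N : X.Modules)
    (hM : ExtPow.IsExtPow k (CohB1.tensorMod E L) M) (hN : ExtPow.IsExtPow k E N) :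
    Nonempty (M ≅ CohB1.tensorMod N (CohB1.tensorPow L k)) := by
  obtain ⟨φM, hM'⟩ := hM
  obtain ⟨φN, hN'⟩ := hN
  have hLinv : PicF.IsInvertible L := fun x => by
    obtain ⟨U, hxU, ⟨φ⟩⟩ := hL x
    exact ⟨U, hxU, ⟨φ ≪≫ Limits.coproductUniqueIso
      (fun _ : Fin 1 => Coh.structureModule (U : Scheme.{u}))⟩⟩
  have hM'' : ∀ (U V : X.affineOpens) (h : V.1 ≤ U.1)
      (e : Fin k → (CohB1.tensorMod E L).val.obj (Opposite.op U.1)),
      Groth.Agent.Lib.Helper49.mres M h ((φM U).symm (exteriorPower.ιMulti _ k e)) =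
        (φM V).symm (exteriorPower.ιMulti _ k
          (fun j => Groth.Agent.Lib.Helper49.mres (CohB1.tensorMod E L) h (e j))) :=
    fun U V h e => hM' U V h e
  have hN'' : ∀ (U V : X.affineOpens) (h : V.1 ≤ U.1) (e : Fin k → E.val.obj (Opposite.op U.1)),
      Groth.Agent.Lib.Helper49.mres N h ((φN U).symm (exteriorPower.ιMulti _ k e)) =
        (φN V).symm (exteriorPower.ιMulti _ k
          (fun j => Groth.Agent.Lib.Helper49.mres E h (e j))) :=
    fun U V h e => hN' U V h e
  refine nonempty_iso_of_basis (fun U : Idx L => U.1) (isBasis_Idx hLinv)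
    (fun U => (castΓ _ U.1).comp
      ((deltaEquiv E L k M N φM φN U).toLinearMap.toAddMonoidHom.comp (castV M U.1))) ?_ ?_ ?_
  · intro U V h s
    exact deltaEquiv_res E L k M N φM φN hM'' hN'' U V h s
  · intro U r s
    exact map_smul (deltaEquiv E L k M N φM φN U) r s
  · intro U
    exact (deltaEquiv E L k M N φM φN U).bijective

end Groth.Agent.S15827
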