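import Groth.Statements.S15832
import Mathlib

set_option autoImplicit false
universe u
open TopGrp

namespace Groth.Agent.S15832

theorem mem_gen {T : Type u} [Group T] (H : Subgroup T) (x y t : T) :
    t ∈ (fun g : T => x * g * y) '' (H : Set T) ↔ x⁻¹ * t * y⁻¹ ∈ H := by
  constructor
  · rintro ⟨h, hh, rfl⟩
    have : x⁻¹ * (x * h * y) * y⁻¹ = h := by group
    rw [this]; exact hh
  · intro h
    exact ⟨x⁻¹ * t * y⁻¹, h, by group⟩

theorem aux (T : Type u) [Group T] (𝒢 : Set (Subgroup T)) :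
    @NonarchimedeanGroup T _ (TopologicalSpace.generateFrom
      {S : Set T | ∃ H ∈ 𝒢, ∃ (x y : T), S = (fun g : T => x * g * y) '' (H : Set T)}) := by
  classical
  set g : Set (Set T) :=
    {S : Set T | ∃ H ∈ 𝒢, ∃ (x y : T), S = (fun g : T => x * g * y) '' (H : Set T)} with hg
  letI τ : TopologicalSpace T := TopologicalSpace.generateFrom g
  have hopen : ∀ H ∈ 𝒢, ∀ x y : T, IsOpen ((fun g : T => x * g * y) '' (H : Set T)) := by
    intro H hH x y
    exact TopologicalSpace.isOpen_generateFrom_of_mem ⟨H, hH, x, y, rfl⟩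
  have hinv : ContinuousInv T := by
    refine ⟨continuous_generateFrom_iff.2 ?_⟩
    rintro S ⟨H, hH, x, y, rfl⟩
    have : (Inv.inv ⁻¹' ((fun g : T => x * g * y) '' (H : Set T))) =
        (fun g : T => y⁻¹ * g * x⁻¹) '' (H : Set T) := by
      ext t
      rw [Set.mem_preimage, mem_gen, mem_gen]
      have : y⁻¹⁻¹ * t * x⁻¹⁻¹ = (x⁻¹ * t⁻¹ * y⁻¹)⁻¹ := by group
      rw [this, H.inv_mem_iff]
    rw [this]
    exact hopen H hH _ _
  have hmul : ContinuousMul T := by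
    refine ⟨continuous_generateFrom_iff.2 ?_⟩
    rintro S ⟨H, hH, x, y, rfl⟩
    rw [isOpen_prod_iff]
    intro a b hab
    rw [Set.mem_preimage, mem_gen] at hab
    refine ⟨(fun g : T => (a * b * y⁻¹) * g * (y * b⁻¹)) '' (H : Set T),
      (fun g : T => (b * y⁻¹) * g * y) '' (H : Set T), hopen H hH _ _, hopen H hH _ _, ?_, ?_, ?_⟩
    · rw [mem_gen]
      have : (a * b * y⁻¹)⁻¹ * a * (y * b⁻¹)⁻¹ = 1 := by group
      rw [this]; exact H.one_mem
    · rw [mem_gen]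
      have : (b * y⁻¹)⁻¹ * b * y⁻¹ = 1 := by group
      rw [this]; exact H.one_mem
    · rintro ⟨t₁, t₂⟩ ⟨h₁, h₂⟩
      simp only at h₁ h₂
      rw [mem_gen] at h₁ h₂
      rw [Set.mem_preimage, mem_gen]
      have : x⁻¹ * (t₁ * t₂) * y⁻¹ = (x⁻¹ * (a * b) * y⁻¹) *
          ((a * b * y⁻¹)⁻¹ * t₁ * (y * b⁻¹)⁻¹) * ((b * y⁻¹)⁻¹ * t₂ * y⁻¹) := by group
      rw [this]
      exact H.mul_mem (H.mul_mem hab h₁) h₂
  refine @NonarchimedeanGroup.mk T _ τ (@IsTopologicalGroup.mk T τ _ hmul hinv) ?_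
  intro U hU
  have hbasis := TopologicalSpace.isTopologicalBasis_of_subbasis (s := g) rfl
  obtain ⟨B, ⟨f, ⟨hffin, hfg⟩, rfl⟩, h1B, hBU⟩ := hbasis.mem_nhds_iff.1 hU
  -- each member of f containing 1 is (the carrier of) a subgroup
  have hsub : ∀ S ∈ f, ∃ K : Subgroup T, (K : Set T) = S := by
    intro S hS
    obtain ⟨H, hH, x, y, rfl⟩ := hfg hS
    have h1 : (1 : T) ∈ (fun g : T => x * g * y) '' (H : Set T) := h1B _ hS
    rw [mem_gen] at h1
    refine ⟨H.map (MulAut.conj y⁻¹).toMonoidHom, ?_⟩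
    ext t
    rw [mem_gen]
    simp only [Subgroup.coe_map, MulEquiv.coe_toMonoidHom, MulAut.conj_apply, Set.mem_image,
      SetLike.mem_coe, inv_inv]
    constructor
    · rintro ⟨h, hh, rfl⟩
      have : x⁻¹ * (y⁻¹ * h * y) * y⁻¹ = (x⁻¹ * 1 * y⁻¹) * h := by group
      rw [this]; exact H.mul_mem h1 hh
    · intro ht
      refine ⟨(x⁻¹ * 1 * y⁻¹)⁻¹ * (x⁻¹ * t * y⁻¹), H.mul_mem (H.inv_mem h1) ht, by group⟩
  choose! K hK using hsub
  have hcoe : ((⨅ S : f, K S.1 : Subgroup T) : Set T) = ⋂₀ f := by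
    rw [Subgroup.coe_iInf]
    ext t
    simp only [Set.mem_iInter, Set.mem_sInter, Subtype.forall]
    constructor
    · intro h S hS; rw [← hK S hS]; exact h S hS
    · intro h S hS; rw [hK S hS]; exact h S hS
  have hopenN : IsOpen ((⨅ S : f, K S.1 : Subgroup T) : Set T) := by
    rw [hcoe]
    exact hffin.isOpen_sInter (fun S hS => TopologicalSpace.isOpen_generateFrom_of_mem (hfg hS))
  refine ⟨⟨(⨅ S : f, K S.1 : Subgroup T), hopenN⟩, ?_⟩
  intro t ht
  apply hBU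
  have : t ∈ ((⨅ S : f, K S.1 : Subgroup T) : Set T) := ht
  rwa [hcoe] at this

theorem result (T : Type u) [Group T]
    [TopologicalSpace T] :
    @NonarchimedeanGroup T _ (TopologicalSpace.generateFrom
      {S : Set T | ∃ (Γ : OpenSubgroup T) (x y : T), S = (fun g : T => x * g * y) '' (Γ : Set T)}) := by
  have h := aux T (Set.range (fun Γ : OpenSubgroup T => (Γ : Subgroup T)))
  have hset : {S : Set T | ∃ H ∈ (Set.range (fun Γ : OpenSubgroup T => (Γ : Subgroup T))),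
      ∃ (x y : T), S = (fun g : T => x * g * y) '' (H : Set T)} =
      {S : Set T | ∃ (Γ : OpenSubgroup T) (x y : T), S = (fun g : T => x * g * y) '' (Γ : Set T)} := by
    ext S
    constructor
    · rintro ⟨H, ⟨Γ, rfl⟩, x, y, rfl⟩
      exact ⟨Γ, x, y, rfl⟩
    · rintro ⟨Γ, x, y, rfl⟩
      exact ⟨Γ, ⟨Γ, rfl⟩, x, y, rfl⟩
  rw [hset] at h
  exact h

end Groth.Agent.S15832
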