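import Groth.Statements.S15833
import Mathlib

set_option autoImplicit false
universe u
open EtBase

namespace Groth.Agent.S15833

open CategoryTheory CategoryTheory.Limits AlgebraicGeometry

theorem unique_lift_iff {C : Type*} [Category C] {A B X Y : C} {f : A ⟶ X} {i : A ⟶ B} {p : X ⟶ Y}
    {g : B ⟶ Y} (sq : CommSq f i p g) :
    Nonempty (Unique sq.LiftStruct) ↔
      ∃ l : B ⟶ X, (i ≫ l = f ∧ l ≫ p = g) ∧ ∀ l' : B ⟶ X, i ≫ l' = f → l' ≫ p = g → l' = l := by
  constructor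
  · rintro ⟨hU⟩
    refine ⟨hU.default.l, ⟨hU.default.fac_left, hU.default.fac_right⟩, ?_⟩
    intro l' h1 h2
    have := hU.uniq ⟨l', h1, h2⟩
    exact congrArg CommSq.LiftStruct.l this
  · rintro ⟨l, ⟨h1, h2⟩, huniq⟩
    refine ⟨⟨⟨⟨l, h1, h2⟩⟩, ?_⟩⟩
    intro a
    apply CommSq.LiftStruct.ext
    exact huniq a.l a.fac_left a.fac_right

/-- valuative criterion is stable under base change -/
theorem vc_baseChange {P X X₀ Y : Scheme.{u}} {fst : P ⟶ Y} {snd : P ⟶ X₀} {f : Y ⟶ X} {i : X₀ ⟶ X}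
    (hP : IsPullback fst snd f i) (hf : ValuativeCriterion f) : ValuativeCriterion snd := by
  intro S
  let S' : ValuativeCommSq f :=
  { R := S.R
    K := S.K
    i₁ := S.i₁ ≫ fst
    i₂ := S.i₂ ≫ i
    commSq := ⟨by simp only [Category.assoc, hP.w, reassoc_of% S.commSq.w]⟩ }
  obtain ⟨l₀, ⟨hl₁, hl₂⟩, huniq⟩ := (unique_lift_iff S'.commSq).1 (hf S')
  rw [unique_lift_iff]
  refine ⟨hP.lift l₀ S.i₂ hl₂, ⟨?_, hP.lift_snd _ _ _⟩, ?_⟩
  · apply hP.hom_ext
    · simpa using hl₁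
    · simp only [Category.assoc, hP.lift_snd]
      exact S.commSq.w.symm
  · intro m hm1 hm2
    apply hP.hom_ext
    · rw [hP.lift_fst]
      apply huniq
      · show _ ≫ m ≫ fst = S.i₁ ≫ fst
        rw [← Category.assoc, hm1]
      · show (m ≫ fst) ≫ f = S.i₂ ≫ i
        rw [Category.assoc, hP.w, ← Category.assoc, hm2]
    · rw [hP.lift_snd, hm2]

theorem vc_of_baseChange {P X X₀ Y : Scheme.{u}} {fst : P ⟶ Y} {snd : P ⟶ X₀} {f : Y ⟶ X} {i : X₀ ⟶ X}
    (hP : IsPullback fst snd f i)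
    (hlift : ∀ (S : ValuativeCommSq f), ∃ j : Spec (.of S.R) ⟶ X₀, j ≫ i = S.i₂)
    (hs : ValuativeCriterion snd) : ValuativeCriterion f := by
  intro S
  obtain ⟨j, hj⟩ := hlift S
  have hw : S.i₁ ≫ f = (Spec.map (CommRingCat.ofHom (algebraMap S.R S.K)) ≫ j) ≫ i := by
    rw [Category.assoc, hj]; exact S.commSq.w
  let S' : ValuativeCommSq snd :=
  { R := S.R
    K := S.K
    i₁ := hP.lift S.i₁ (Spec.map (CommRingCat.ofHom (algebraMap S.R S.K)) ≫ j) hw
    i₂ := j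
    commSq := ⟨hP.lift_snd _ _ _⟩ }
  obtain ⟨l', ⟨hl₁, hl₂⟩, huniq⟩ := (unique_lift_iff S'.commSq).1 (hs S')
  rw [unique_lift_iff]
  refine ⟨l' ≫ fst, ⟨?_, ?_⟩, ?_⟩
  · rw [← Category.assoc, hl₁]
    exact hP.lift_fst _ _ _
  · rw [Category.assoc, hP.w, ← Category.assoc, hl₂, hj]
  · intro m hm1 hm2
    have hmw : m ≫ f = j ≫ i := by rw [hm2, hj]
    have := huniq (hP.lift m j hmw) ?_ (hP.lift_snd _ _ _)
    · rw [← this, hP.lift_fst]
    · apply hP.hom_ext
      · rw [Category.assoc, hP.lift_fst, hm1]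
        exact (hP.lift_fst _ _ _).symm
      · rw [Category.assoc, hP.lift_snd]
        exact (hP.lift_snd _ _ _).symm

theorem result {X X₀ Y : Scheme.{u}} (i : X₀ ⟶ X)
    [IsClosedImmersion i] [Surjective i] (f : Y ⟶ X) :
    ValuativeCriterion f ↔ ValuativeCriterion (pullback.snd f i) := by
  have hP : IsPullback (pullback.fst f i) (pullback.snd f i) f i := IsPullback.of_hasPullback f i
  constructor
  · exact vc_baseChange hP
  · apply vc_of_baseChange hP
    intro S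
    haveI : IsIso (pullback.snd i S.i₂) :=
      isIso_of_isClosedImmersion_of_surjective (pullback.snd i S.i₂)
    refine ⟨inv (pullback.snd i S.i₂) ≫ pullback.fst i S.i₂, ?_⟩
    rw [Category.assoc, pullback.condition, IsIso.inv_hom_id_assoc]

end Groth.Agent.S15833
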