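import Groth.Statements.S15835
import Mathlib

set_option autoImplicit false
universe u
open SprIso

namespace Groth.Agent.S15835

open Polynomial in
theorem key (p : ℕ) [Fact p.Prime] (R : Type u) [CommRing R]
    [CharP R p] (n : ℕ) (hn : 0 < n) (a : R) :
    ((X - C a : R[X]) ^ n = X ^ n) ↔ a ^ (p ^ padicValNat p n) = 0 := by
  classical
  have hp : p.Prime := Fact.out
  obtain ⟨k, hk⟩ : p ^ padicValNat p n ∣ n := pow_padicValNat_dvd
  set e := padicValNat p n with he
  have hpe : 0 < p ^ e := pow_pos hp.pos e
  have hk0 : 0 < k := by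
    rcases Nat.eq_zero_or_pos k with h | h
    · rw [h, mul_zero] at hk; omega
    · exact h
  have hpk : ¬ p ∣ k := by
    intro hdvd
    have h1 : p ^ (e + 1) ∣ n := by
      rw [pow_succ, hk]
      exact Nat.mul_dvd_mul_left _ hdvd
    have := (padicValNat_dvd_iff_le (p := p) (hn.ne')).1 h1
    omega
  have h1 : ((X - C a : R[X]) ^ n) = expand R (p ^ e) ((X - C (a ^ (p ^ e))) ^ k) := by
    conv_lhs => rw [hk, pow_mul, sub_pow_char_pow]
    simp [Polynomial.expand_X]
  have h2 : (X : R[X]) ^ n = expand R (p ^ e) (X ^ k) := by
    conv_lhs => rw [hk, pow_mul]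
    simp [Polynomial.expand_X]
  rw [h1, h2, (expand_injective hpe).eq_iff]
  constructor
  · intro h
    have h3 := congrArg (fun f => Polynomial.coeff f (k - 1)) h
    simp only [sub_eq_add_neg, ← C_neg, coeff_X_add_C_pow, coeff_X_pow] at h3
    have hk1 : k - (k - 1) = 1 := by omega
    have hk2 : k - 1 ≠ k := by omega
    have hk3 : k.choose (k - 1) = k := by
      rw [Nat.choose_symm (by omega : 1 ≤ k), Nat.choose_one_right]
    rw [hk1, if_neg hk2, pow_one, hk3] at h3
    have hu : IsUnit (k : R) := (CharP.isUnit_natCast_iff hp).2 hpk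
    have := hu.mul_left_eq_zero.1 h3
    simpa using this
  · intro h
    rw [h]
    simp

/-- Over a commutative ring R of prime characteristic p, let n ≥ 1 and let p^m be the largest power of p
dividing n. The locus of n × n matrices with characteristic polynomial t^n is stable under adding a
scalar matrix a·1 with n·a = 0 exactly when a^(p^m) = 0: for X with characteristic polynomial t^n
and such an a, the matrix X + a·1 has characteristic polynomial t^n if and only if a^(p^m) = 0.
(Stated on points with values in an arbitrary ring of characteristic p; the scheme-theoretic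
assertion about the nilpotent scheme of SL_n is this statement for all such rings.) -/
theorem result (p : ℕ) [Fact p.Prime] (R : Type u) [CommRing R]
    [CharP R p] (n : ℕ) (hn : 0 < n) (X : Matrix (Fin n) (Fin n) R) (hX : X.charpoly = Polynomial.X ^ n)
    (a : R) (ha : (n : R) * a = 0) :
    (X + Matrix.scalar (Fin n) a).charpoly = Polynomial.X ^ n ↔ a ^ (p ^ padicValNat p n) = 0 := by
  have h1 : X + Matrix.scalar (Fin n) a = X - Matrix.scalar (Fin n) (-a) := by
    rw [map_neg, sub_neg_eq_add]
  rw [h1, Matrix.charpoly_sub_scalar, hX, ← key p R n hn a]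
  simp [sub_eq_add_neg]

end Groth.Agent.S15835
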