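import Mathlib
import Groth.Statements.S15836
import Groth.Agent.Lib.Helper96.ConePic

set_option autoImplicit false
universe u
open SprIso

namespace Groth.Agent.S15836

section helpers

open Groth.Agent.Lib.Helper96.ConePic Polynomial

/-- scaling of the evaluation of a homogeneous polynomial. -/
theorem eval₂_scale {R : Type*} [CommSemiring R] {σ : Type*} {S : Type*} [CommSemiring S] (c : R →+* S)
    (g : σ → S) (u : S) {d : ℕ} {a : MvPolynomial σ R} (ha : a.IsHomogeneous d) :
    MvPolynomial.eval₂ c (fun i => g i * u) a = MvPolynomial.eval₂ c g a * u ^ d := by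
  rw [MvPolynomial.eval₂_eq, MvPolynomial.eval₂_eq, Finset.sum_mul]
  refine Finset.sum_congr rfl fun e he => ?_
  have hdeg : ∑ i ∈ e.support, e i = d := by
    have := ha (MvPolynomial.mem_support_iff.mp he)
    rw [← this, Finsupp.weight_apply]
    simp [Finsupp.sum]
  simp only [mul_pow]
  rw [Finset.prod_mul_distrib, Finset.prod_pow_eq_pow_sum, hdeg]
  ring

variable {k : Type u} [Field k] {n : ℕ}

/-- `x_j ↦ x_j T` on the polynomial ring. -/
noncomputable def Phi' : MvPolynomial (Fin n) k →ₐ[k] (MvPolynomial (Fin n) k)[X] :=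
  MvPolynomial.aeval (fun j => C (MvPolynomial.X j) * X)

lemma Phi'_X (j : Fin n) : (Phi' (MvPolynomial.X j : MvPolynomial (Fin n) k)) =
    C (MvPolynomial.X j) * X := by
  unfold Phi'
  rw [MvPolynomial.aeval_X]

lemma Phi'_C (c : k) : (Phi' (MvPolynomial.C c : MvPolynomial (Fin n) k)) =
    C (MvPolynomial.C c) := by
  rw [← MvPolynomial.algebraMap_eq, AlgHom.commutes, Polynomial.algebraMap_apply]

lemma Phi'_homogeneous {p : MvPolynomial (Fin n) k} {d : ℕ} (hp : p.IsHomogeneous d) :
    Phi' p = C p * X ^ d := by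
  have key : (MvPolynomial.eval₂Hom (algebraMap k (MvPolynomial (Fin n) k)[X])
      (fun j => C (MvPolynomial.X j : MvPolynomial (Fin n) k))) =
      (C : (MvPolynomial (Fin n) k) →+* (MvPolynomial (Fin n) k)[X]) := by
    apply MvPolynomial.ringHom_ext
    · intro c
      rw [MvPolynomial.coe_eval₂Hom, MvPolynomial.eval₂_C, Polynomial.algebraMap_apply,
        MvPolynomial.algebraMap_eq]
    · intro j
      rw [MvPolynomial.coe_eval₂Hom, MvPolynomial.eval₂_X]
  have h1 : Phi' p = MvPolynomial.eval₂ (algebraMap k (MvPolynomial (Fin n) k)[X])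
      (fun j => C (MvPolynomial.X j : MvPolynomial (Fin n) k) * X) p := by
    unfold Phi'
    rw [MvPolynomial.aeval_def]
  have h2 : MvPolynomial.eval₂ (algebraMap k (MvPolynomial (Fin n) k)[X])
      (fun j => C (MvPolynomial.X j : MvPolynomial (Fin n) k) * X) p =
      MvPolynomial.eval₂ (algebraMap k (MvPolynomial (Fin n) k)[X])
        (fun j => C (MvPolynomial.X j : MvPolynomial (Fin n) k)) p * X ^ d :=
    eval₂_scale (algebraMap k (MvPolynomial (Fin n) k)[X])
      (fun j => C (MvPolynomial.X j : MvPolynomial (Fin n) k)) X hp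
  have h3 : MvPolynomial.eval₂ (algebraMap k (MvPolynomial (Fin n) k)[X])
      (fun j => C (MvPolynomial.X j : MvPolynomial (Fin n) k)) p = C p :=
    congrArg (fun F => F p) key
  rw [h1, h2, h3]

variable (I : Ideal (MvPolynomial (Fin n) k))

/-- `x_j ↦ x_j T` into the quotient. -/
noncomputable def Phi : MvPolynomial (Fin n) k →+* (MvPolynomial (Fin n) k ⧸ I)[X] :=
  (Polynomial.mapRingHom (Ideal.Quotient.mk I)).comp (Phi' (k := k) (n := n)).toRingHom

lemma Phi_apply (p : MvPolynomial (Fin n) k) :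
    Phi I p = (Phi' p).map (Ideal.Quotient.mk I) := rfl

lemma Phi_homogeneous {p : MvPolynomial (Fin n) k} {d : ℕ} (hp : p.IsHomogeneous d) :
    Phi I p = C (Ideal.Quotient.mk I p) * X ^ d := by
  rw [Phi_apply, Phi'_homogeneous hp, Polynomial.map_mul, Polynomial.map_C, Polynomial.map_pow,
    Polynomial.map_X]

lemma Phi_coeff_zero (p : MvPolynomial (Fin n) k) :
    ∃ c : k, (Phi I p).coeff 0 = algebraMap k (MvPolynomial (Fin n) k ⧸ I) c := by
  induction p using MvPolynomial.induction_on with
  | C c =>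
    refine ⟨c, ?_⟩
    rw [Phi_apply, Phi'_C, Polynomial.map_C, coeff_C_zero]
    rfl
  | add p q hp hq =>
    obtain ⟨c, hc⟩ := hp
    obtain ⟨c', hc'⟩ := hq
    exact ⟨c + c', by rw [map_add, coeff_add, hc, hc', map_add]⟩
  | mul_X p j _ =>
    refine ⟨0, ?_⟩
    rw [map_mul, Phi_apply I (MvPolynomial.X j), Phi'_X, Polynomial.map_mul, Polynomial.map_C,
      Polynomial.map_X, mul_coeff_zero, coeff_C_mul, coeff_X_zero, mul_zero, mul_zero, map_zero]

lemma Phi_eval_one (p : MvPolynomial (Fin n) k) : (Phi I p).eval 1 = Ideal.Quotient.mk I p := by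
  have key : (Polynomial.evalRingHom (1 : MvPolynomial (Fin n) k ⧸ I)).comp (Phi I) =
      Ideal.Quotient.mk I := by
    apply MvPolynomial.ringHom_ext
    · intro c
      rw [RingHom.comp_apply, Phi_apply, Phi'_C, Polynomial.map_C, coe_evalRingHom, eval_C]
    · intro j
      rw [RingHom.comp_apply, Phi_apply, Phi'_X, Polynomial.map_mul, Polynomial.map_C,
        Polynomial.map_X, coe_evalRingHom, eval_mul, eval_C, eval_X, mul_one]
  exact congrArg (fun F => F p) key

theorem main (k : Type u) [Field k] (n : ℕ)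
    (I : Ideal (MvPolynomial (Fin n) k))
    (hI : ∃ s : Set (MvPolynomial (Fin n) k), (∀ f ∈ s, ∃ d : ℕ, f.IsHomogeneous d) ∧ I = Ideal.span s)
    [IsDomain (MvPolynomial (Fin n) k ⧸ I)] [IsIntegrallyClosed (MvPolynomial (Fin n) k ⧸ I)]
    (M : Type u) [AddCommGroup M] [Module (MvPolynomial (Fin n) k ⧸ I) M]
    [Module.Invertible (MvPolynomial (Fin n) k ⧸ I) M] :
    Module.Free (MvPolynomial (Fin n) k ⧸ I) M := by
  obtain ⟨s, hs, hIs⟩ := hI
  have hker : ∀ a ∈ I, (Phi I) a = 0 := by
    intro a ha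
    have hle : I ≤ RingHom.ker (Phi I) := by
      conv_lhs => rw [hIs]
      rw [Ideal.span_le]
      intro f hf
      obtain ⟨d, hd⟩ := hs f hf
      have hfI : f ∈ I := by
        rw [hIs]
        exact Ideal.subset_span hf
      show (Phi I) f = 0
      rw [Phi_homogeneous I hd, Ideal.Quotient.eq_zero_iff_mem.mpr hfI, C_0, zero_mul]
    exact hle ha
  let φ : (MvPolynomial (Fin n) k ⧸ I) →+* (MvPolynomial (Fin n) k ⧸ I)[X] :=
    Ideal.Quotient.lift I (Phi I) hker
  have hφmk : ∀ p, φ (Ideal.Quotient.mk I p) = Phi I p := fun p => Ideal.Quotient.lift_mk I _ hker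
  refine free_of_homotopy (MvPolynomial (Fin n) k ⧸ I) φ ?_ ?_ M
  · intro a
    obtain ⟨p, rfl⟩ := Ideal.Quotient.mk_surjective a
    rw [hφmk, Phi_eval_one]
  · intro a
    obtain ⟨p, rfl⟩ := Ideal.Quotient.mk_surjective a
    rw [hφmk]
    obtain ⟨c, hc⟩ := Phi_coeff_zero I p
    rw [hc]
    by_cases h0 : c = 0
    · left
      rw [h0, map_zero]
    · right
      exact (IsUnit.mk0 c h0).map (algebraMap k (MvPolynomial (Fin n) k ⧸ I))

end helpers


/-- Let k be a field and C a closed subscheme of affine n-space over k which is stable under the scaling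
action of the affine line, i.e. C = Spec A with A = k[x_1, …, x_n]/I for an ideal I generated by
homogeneous polynomials, and assume C is normal (A is an integrally closed domain). Then Pic(C) = 0:
every invertible A-module is free. -/
theorem result (k : Type u) [Field k] (n : ℕ)
    (I : Ideal (MvPolynomial (Fin n) k))
    (hI : ∃ s : Set (MvPolynomial (Fin n) k), (∀ f ∈ s, ∃ d : ℕ, f.IsHomogeneous d) ∧ I = Ideal.span s)
    [IsDomain (MvPolynomial (Fin n) k ⧸ I)] [IsIntegrallyClosed (MvPolynomial (Fin n) k ⧸ I)]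
    (M : Type u) [AddCommGroup M] [Module (MvPolynomial (Fin n) k ⧸ I) M]
    [Module.Invertible (MvPolynomial (Fin n) k ⧸ I) M] :
    Module.Free (MvPolynomial (Fin n) k ⧸ I) M := by
  exact main k n I hI M

end Groth.Agent.S15836
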