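import Groth.Statements.S15838
import Mathlib

set_option autoImplicit false
universe u
open scoped TensorProduct
open SprIso

namespace Groth.Agent.S15838

/-- If `Y` semisimple, `N` nilpotent, commuting, then `Y` lies in the subalgebra generated by `Y+N`. -/
theorem mem_adjoin (k : Type u) [Field k] [PerfectField k]
    (V : Type u) [AddCommGroup V] [Module k V] [FiniteDimensional k V]
    (X Y N : Module.End k V) (hY : Y.IsSemisimple) (hN : IsNilpotent N) (hc : Commute Y N)
    (hX : X = Y + N) : Y ∈ Algebra.adjoin k {X} ∧ N ∈ Algebra.adjoin k {X} := by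
  obtain ⟨n₀, hn₀, s₀, hs₀, hn₀_nil, hs₀_ss, h₀⟩ := X.exists_isNilpotent_isSemisimple
  have hcomm : Commute n₀ s₀ :=
    (Algebra.commute_of_mem_adjoin_singleton_of_commute hn₀
      (Algebra.commute_of_mem_adjoin_self hs₀).symm).symm
  have := Module.End.isNilpotent_isSemisimple_unique hN hY hn₀_nil hs₀_ss hc.symm hcomm
    (by rw [← h₀, hX, add_comm])
  rw [this.1, this.2]
  exact ⟨hs₀, hn₀⟩

theorem commute_of_mem_adjoin (k : Type u) [Field k]
    (V : Type u) [AddCommGroup V] [Module k V]
    (R : Type u) [CommRing R] [Algebra k R] (h : Module.End R (R ⊗[k] V))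
    (X Y : Module.End k V) (hY : Y ∈ Algebra.adjoin k {X})
    (hh : Commute h (X.baseChange R)) : Commute h (Y.baseChange R) := by
  have h1 : (Module.End.baseChangeHom k R V) Y ∈
      Algebra.adjoin k {(Module.End.baseChangeHom k R V) X} := by
    have := Algebra.adjoin_image k (Module.End.baseChangeHom k R V) ({X} : Set (Module.End k V))
    rw [Set.image_singleton] at this
    rw [this]
    exact ⟨Y, hY, rfl⟩
  exact Algebra.commute_of_mem_adjoin_singleton_of_commute h1 hh

theorem result (k : Type u) [Field k] [PerfectField k]
    (V : Type u) [AddCommGroup V] [Module k V] [FiniteDimensional k V]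
    (R : Type u) [CommRing R] [Algebra k R] (h : Module.End R (R ⊗[k] V)) :
    (∀ (g t u : Module.End k V), IsUnit g → t.IsSemisimple → IsNilpotent (u - 1) → Commute t u → g = t * u →
      (Commute h (g.baseChange R) ↔ Commute h (t.baseChange R) ∧ Commute h (u.baseChange R))) ∧
    (∀ (X Y N : Module.End k V), Y.IsSemisimple → IsNilpotent N → Commute Y N → X = Y + N →
      (Commute h (X.baseChange R) ↔ Commute h (Y.baseChange R) ∧ Commute h (N.baseChange R))) := by
  constructor
  · intro g t u hg ht hu htu hgtu
    constructor
    · intro hh
      have hNil : IsNilpotent (t * (u - 1)) := by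
        have hc : Commute t (u - 1) := htu.sub_right (Commute.one_right t)
        exact hc.isNilpotent_mul_left hu
      have hc' : Commute t (t * (u - 1)) :=
        (Commute.refl t).mul_right (htu.sub_right (Commute.one_right t))
      have hgsum : g = t + t * (u - 1) := by rw [hgtu, mul_sub, mul_one]; abel
      have hmem := (mem_adjoin k V g t (t * (u - 1)) ht hNil hc' hgsum).1
      have hht : Commute h (t.baseChange R) := commute_of_mem_adjoin k V R h g t hmem hh
      refine ⟨hht, ?_⟩
      have htunit : IsUnit t := by
        rw [hgtu] at hg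
        exact (htu.isUnit_mul_iff.1 hg).1
      have htRunit : IsUnit (t.baseChange R) := by
        have := htunit.map (Module.End.baseChangeHom k R V)
        exact this
      have hgR : g.baseChange R = t.baseChange R * u.baseChange R := by
        rw [hgtu, LinearMap.baseChange_mul]
      rw [hgR] at hh
      -- h * (tR * uR) = (tR * uR) * h
      have h1 : t.baseChange R * (h * u.baseChange R) = t.baseChange R * (u.baseChange R * h) := by
        calc t.baseChange R * (h * u.baseChange R) = (t.baseChange R * h) * u.baseChange R := by
              rw [mul_assoc]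
          _ = (h * t.baseChange R) * u.baseChange R := by rw [hht.eq]
          _ = h * (t.baseChange R * u.baseChange R) := by rw [mul_assoc]
          _ = (t.baseChange R * u.baseChange R) * h := hh.eq
          _ = t.baseChange R * (u.baseChange R * h) := by rw [mul_assoc]
      exact htRunit.mul_left_cancel h1
    · rintro ⟨h1, h2⟩
      rw [hgtu, LinearMap.baseChange_mul]
      exact h1.mul_right h2
  · intro X Y N hY hN hc hX
    constructor
    · intro hh
      obtain ⟨h1, h2⟩ := mem_adjoin k V X Y N hY hN hc hX
      exact ⟨commute_of_mem_adjoin k V R h X Y h1 hh, commute_of_mem_adjoin k V R h X N h2 hh⟩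
    · rintro ⟨h1, h2⟩
      rw [hX, LinearMap.baseChange_add]
      exact h1.add_right h2

end Groth.Agent.S15838
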