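import Groth.Statements.S15839
import Mathlib
import Groth.Agent.S4599

set_option autoImplicit false
universe u
open CategoryTheory MonoidalCategory CartesianMonoidalCategory MonObj GrpObj AlgebraicGeometry
open SprIso

namespace Groth.Agent.S15839

open CategoryTheory.Limits in
/-- The equalizer of two endomorphisms `A B` of `X` over `S`, when `X → S` is separated and locally
of finite type, is a closed subscheme of finite presentation. -/
theorem equalizer_closed {X S : Scheme.{u}} (p : X ⟶ S) [IsSeparated p] [LocallyOfFiniteType p]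
    (A B : X ⟶ X) (hA : A ≫ p = p) (hB : B ≫ p = p) :
    ∃ (Z : Scheme.{u}) (j : Z ⟶ X), IsClosedImmersion j ∧ LocallyOfFinitePresentation j ∧
      ∀ (T : Scheme.{u}) (x : T ⟶ X), (∃ z : T ⟶ Z, z ≫ j = x) ↔ x ≫ A = x ≫ B := by
  have : IsClosedImmersion (pullback.diagonal p) := IsSeparated.isClosedImmersion_diagonal
  have : LocallyOfFinitePresentation (pullback.diagonal p) := Groth.Agent.S4599.result p
  have hAB : A ≫ p = B ≫ p := by rw [hA, hB]
  refine ⟨pullback (pullback.lift A B hAB) (pullback.diagonal p),
    pullback.fst (pullback.lift A B hAB) (pullback.diagonal p), inferInstance, inferInstance, ?_⟩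
  intro T x
  constructor
  · rintro ⟨z, rfl⟩
    have h := pullback.condition (f := pullback.lift A B hAB) (g := pullback.diagonal p)
    have h1 := congrArg (fun t => z ≫ t ≫ pullback.fst p p) h
    have h2 := congrArg (fun t => z ≫ t ≫ pullback.snd p p) h
    simp only [Category.assoc, pullback.lift_fst, pullback.lift_snd, pullback.diagonal_fst,
      pullback.diagonal_snd] at h1 h2
    rw [Category.assoc, Category.assoc, h1, h2]
  · intro h
    refine ⟨pullback.lift x (x ≫ A) ?_, pullback.lift_fst _ _ _⟩
    apply pullback.hom_ext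
    · simp only [Category.assoc, pullback.lift_fst, pullback.diagonal_fst, Category.comp_id]
    · simp only [Category.assoc, pullback.lift_snd, pullback.diagonal_snd, Category.comp_id]
      exact h.symm

/-- Let S be a scheme, G an S-group scheme which is affine and of finite presentation over S, and g a
section of G over S. Then the centralizer of g — the subfunctor of G whose points with values in an
S-scheme T are the points x of G with x g_T = g_T x — is represented by a closed subscheme of G
whose inclusion is of finite presentation. -/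
theorem result (S : Scheme.{u}) (G : Over S) [GrpObj G]
    [IsAffineHom G.hom] [LocallyOfFinitePresentation G.hom] (g : 𝟙_ (Over S) ⟶ G) :
    ∃ (Z : Over S) (j : Z ⟶ G), IsClosedImmersion j.left ∧ LocallyOfFinitePresentation j.left ∧
      ∀ (T : Over S) (x : T ⟶ G), (∃ z : T ⟶ Z, z ≫ j = x) ↔
        x * (toUnit T ≫ g) = (toUnit T ≫ g) * x := by
  set a : G ⟶ G := 𝟙 G * (toUnit G ≫ g) with ha
  set b : G ⟶ G := (toUnit G ≫ g) * 𝟙 G with hb
  have hxa : ∀ (T : Over S) (x : T ⟶ G), x ≫ a = x * (toUnit T ≫ g) := by
    intro T x
    rw [ha, MonObj.comp_mul, Category.comp_id, ← Category.assoc]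
    congr 2
    exact toUnit_unique _ _
  have hxb : ∀ (T : Over S) (x : T ⟶ G), x ≫ b = (toUnit T ≫ g) * x := by
    intro T x
    rw [hb, MonObj.comp_mul, Category.comp_id, ← Category.assoc]
    congr 2
    exact toUnit_unique _ _
  obtain ⟨Z₀, j₀, hcl, hfp, huniv⟩ := equalizer_closed G.hom a.left b.left (Over.w a) (Over.w b)
  refine ⟨Over.mk (j₀ ≫ G.hom), Over.homMk j₀ rfl, hcl, hfp, ?_⟩
  intro T x
  rw [← hxa, ← hxb]
  constructor
  · rintro ⟨z, rfl⟩
    have h := (huniv T.left (z.left ≫ j₀)).mp ⟨z.left, rfl⟩
    apply Over.OverMorphism.ext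
    simpa using h
  · intro h
    have h' : x.left ≫ a.left = x.left ≫ b.left := by
      have := congrArg (fun t => t.left) h
      simpa using this
    obtain ⟨z₀, hz₀⟩ := (huniv T.left x.left).mpr h'
    refine ⟨Over.homMk z₀ ?_, ?_⟩
    · simp only [Over.mk_hom]
      rw [← Category.assoc, hz₀]
      exact Over.w x
    · apply Over.OverMorphism.ext
      simpa using hz₀

end Groth.Agent.S15839
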