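import Groth.Statements.S15840
import Mathlib

set_option autoImplicit false
universe u
open SprIso

namespace Groth.Agent.S15840

theorem choose_cast_eq_zero_of_not_dvd (p : ℕ) [Fact p.Prime] (R : Type u) [CommRing R]
    [CharP R p] (n : ℕ) (hn : 0 < n) (i : ℕ) (hi : ¬ p ^ padicValNat p n ∣ i) :
    (n.choose i : R) = 0 := by
  classical
  obtain ⟨m, hm⟩ : p ^ padicValNat p n ∣ n := pow_padicValNat_dvd
  set e := padicValNat p n with he
  have h1 : ((1 + Polynomial.X : Polynomial R) ^ n) =
      Polynomial.expand R (p ^ e) ((1 + Polynomial.X) ^ m) := by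
    conv_lhs => rw [hm, pow_mul, add_pow_char_pow]
    simp [Polynomial.expand_X]
  have h2 := congrArg (fun f => Polynomial.coeff f i) h1
  simp only [Polynomial.coeff_one_add_X_pow, Polynomial.coeff_expand (pow_pos (Fact.out : p.Prime).pos e)] at h2
  rw [h2, if_neg hi]

/-- For G = SL_n (n = r + 1) over a field of characteristic p > 0, write n = m p^e with m prime to p, so
that the identity component of the centre of G is μ_{p^e} embedded diagonally. The character of the
i-th exterior power of the standard representation takes the value C(n, i) α^i at a point α of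
μ_{p^e}, and this is constant: for every commutative ring R of characteristic p and every α in R
with α^(p^e) = 1 one has C(n, i) α^i = C(n, i) in R, for all i. -/
theorem result (p : ℕ) [Fact p.Prime] (R : Type u) [CommRing R]
    [CharP R p] (n : ℕ) (hn : 0 < n) (α : R) (hα : α ^ (p ^ padicValNat p n) = 1) (i : ℕ) :
    (n.choose i : R) * α ^ i = (n.choose i : R) := by
  by_cases hi : p ^ padicValNat p n ∣ i
  · obtain ⟨k, rfl⟩ := hi
    rw [pow_mul, hα, one_pow, mul_one]
  · rw [choose_cast_eq_zero_of_not_dvd p R n hn i hi, zero_mul]

end Groth.Agent.S15840
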