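import Groth.Statements.S15841
import Mathlib

set_option autoImplicit false
universe u
open TensorProduct

namespace Groth.Agent.S15841

variable {ι M N : Type u} [AddCommGroup M] [AddCommGroup N]

/-- the `k`-valued functional attached to a `ℤ`-valued one. -/
noncomputable def kfun (k : Type u) [Field k] (φ : N →ₗ[ℤ] ℤ) : k ⊗[ℤ] N →ₗ[k] k :=
  (TensorProduct.AlgebraTensorModule.rid ℤ k k).toLinearMap ∘ₗ φ.baseChange k

theorem kfun_tmul (k : Type u) [Field k] (φ : N →ₗ[ℤ] ℤ) (a : k) (y : N) :
    kfun k φ (a ⊗ₜ[ℤ] y) = (φ y) • a := by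
  simp [kfun]

theorem kfun_eq_zero_iff (k : Type u) [Field k] (φ : N →ₗ[ℤ] ℤ) (H : k ⊗[ℤ] N) :
    kfun k φ H = 0 ↔ φ.baseChange k H = 0 := by
  unfold kfun
  rw [LinearMap.comp_apply, LinearEquiv.coe_coe, LinearEquiv.map_eq_zero_iff]

theorem coreflection_baseChange (P : RootPairing ι ℤ M N) (k : Type u) [Field k] (i : ι)
    (H : k ⊗[ℤ] N) :
    ((P.coreflection i : N ≃ₗ[ℤ] N) : N →ₗ[ℤ] N).baseChange k H
      = H - kfun k (P.root' i) H • ((1 : k) ⊗ₜ[ℤ] P.coroot i) := by
  have : ((P.coreflection i : N ≃ₗ[ℤ] N) : N →ₗ[ℤ] N).baseChange k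
      = LinearMap.id - (kfun k (P.root' i)).smulRight ((1 : k) ⊗ₜ[ℤ] P.coroot i) := by
    apply TensorProduct.AlgebraTensorModule.ext
    intro a y
    rw [LinearMap.baseChange_tmul, LinearMap.sub_apply, LinearMap.id_apply,
      LinearMap.smulRight_apply, kfun_tmul, LinearEquiv.coe_coe, RootPairing.coreflection_apply,
      TensorProduct.tmul_sub, TensorProduct.smul_tmul', smul_eq_mul, mul_one,
      TensorProduct.tmul_smul, TensorProduct.smul_tmul']
  rw [this]; rfl

theorem step (P : RootPairing ι ℤ M N) (k : Type u) [Field k] (l : List ι) (hnd : l.Nodup) :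
    ∀ H : k ⊗[ℤ] N, ∃ a : ι → k,
      ((l.map (fun i => ((P.coreflection i : N ≃ₗ[ℤ] N) : N →ₗ[ℤ] N))).prod).baseChange k H
        = H - (l.map (fun j => a j • ((1 : k) ⊗ₜ[ℤ] P.coroot j))).sum ∧
      ((∀ j ∈ l, a j = 0) → ∀ j ∈ l, kfun k (P.root' j) H = 0) := by
  classical
  induction l with
  | nil =>
    intro H
    refine ⟨fun _ => 0, ?_, ?_⟩
    · simp [Module.End.one_eq_id]
    · intro _ j hj; simp at hj
  | cons i l' ih =>
    intro H
    rw [List.nodup_cons] at hnd
    obtain ⟨a', h1, h2⟩ := ih hnd.2 H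
    set W' := ((l'.map (fun i => ((P.coreflection i : N ≃ₗ[ℤ] N) : N →ₗ[ℤ] N))).prod) with hW'
    set H' := W'.baseChange k H with hH'
    refine ⟨Function.update a' i (kfun k (P.root' i) H'), ?_, ?_⟩
    · have hcongr : l'.map (fun j => Function.update a' i (kfun k (P.root' i) H') j •
          ((1 : k) ⊗ₜ[ℤ] P.coroot j)) = l'.map (fun j => a' j • ((1 : k) ⊗ₜ[ℤ] P.coroot j)) := by
        apply List.map_congr_left
        intro j hj
        have : j ≠ i := fun h => hnd.1 (h ▸ hj)
        rw [Function.update_of_ne this]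
      rw [List.map_cons, List.prod_cons, Module.End.mul_eq_comp, LinearMap.baseChange_comp,
        LinearMap.comp_apply, ← hW', ← hH', coreflection_baseChange, List.map_cons, List.sum_cons,
        hcongr, Function.update_self, h1]
      abel
    · intro hall j hj
      have hall' : ∀ j ∈ l', a' j = 0 := by
        intro j hj
        have : j ≠ i := fun h => hnd.1 (h ▸ hj)
        have := hall j (List.mem_cons_of_mem _ hj)
        rwa [Function.update_of_ne ‹j ≠ i›] at this
      have hsum : (l'.map (fun j => a' j • ((1 : k) ⊗ₜ[ℤ] P.coroot j))).sum = 0 := by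
        apply List.sum_eq_zero
        intro x hx
        rw [List.mem_map] at hx
        obtain ⟨j, hj, rfl⟩ := hx
        rw [hall' j hj, zero_smul]
      have hHH : H' = H := by rw [h1, hsum, sub_zero]
      rcases List.mem_cons.1 hj with rfl | hj'
      · have := hall j (List.mem_cons_self)
        rwa [Function.update_self, hHH] at this
      · exact h2 hall' j hj'

theorem result {ι M N : Type u} [AddCommGroup M] [AddCommGroup N]
    (P : RootPairing ι ℤ M N) (b : P.Base)
    (hsc : ∀ i ∈ b.support, ∃ ω : M, P.coroot' i ω = 1 ∧ ∀ j ∈ b.support, j ≠ i → P.coroot' j ω = 0)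
    (l : List ι) (hl : l.Nodup) (hlb : ∀ i : ι, i ∈ l ↔ i ∈ b.support)
    (k : Type u) [Field k] (H : k ⊗[ℤ] N)
    (hH : ((l.map (fun i => ((P.coreflection i : N ≃ₗ[ℤ] N) : N →ₗ[ℤ] N))).prod).baseChange k H = H) :
    ∀ i ∈ b.support, LinearMap.baseChange k (P.root' i) H = 0 := by
  classical
  obtain ⟨a, h1, h2⟩ := step P k l hl H
  rw [hH] at h1
  have hsum : (l.map (fun j => a j • ((1 : k) ⊗ₜ[ℤ] P.coroot j))).sum = 0 := by
    have := h1
    rw [eq_sub_iff_add_eq, add_eq_left] at this
    exact this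
  have hall : ∀ j ∈ l, a j = 0 := by
    intro j hj
    obtain ⟨ω, hω1, hω2⟩ := hsc j ((hlb j).1 hj)
    have := congrArg (kfun k (P.toLinearMap ω)) hsum
    rw [map_zero, map_list_sum, List.map_map, ← List.sum_toFinset _ hl,
      Finset.sum_eq_single j] at this
    · simp only [Function.comp_apply, map_smul, kfun_tmul] at this
      have h3 : (P.toLinearMap ω) (P.coroot j) = 1 := hω1
      rw [h3] at this
      simpa using this
    · intro j' hj' hne
      simp only [Function.comp_apply, map_smul, kfun_tmul]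
      have h3 : (P.toLinearMap ω) (P.coroot j') = 0 :=
        hω2 j' ((hlb j').1 (List.mem_toFinset.1 hj')) hne
      rw [h3]; simp
    · intro hj'
      exact absurd (List.mem_toFinset.2 hj) hj'
  intro i hi
  -- NB: with all of Mathlib imported, the template's `(P.root' i).baseChange k` would elaborate to
  -- `Module.Dual.baseChange`; the frozen statement (elaborated without that module) has
  -- `LinearMap.baseChange`, which is what is written out above.
  rw [← kfun_eq_zero_iff]
  exact h2 hall i ((hlb i).2 hi)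

end Groth.Agent.S15841
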