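import Groth.Statements.S15842
import Mathlib
import Groth.Agent.Lib.Helper80.CyclicField

set_option autoImplicit false
universe u
open SprIso

namespace Groth.Agent.S15842

open Groth.Agent.Lib.Helper80.CyclicVec

/-- Fiberwise regularity gives a cyclic vector after localising at any maximal ideal. -/
lemma exists_isCyclic_localization (A : Type u) [CommRing A] (n : ℕ)
    (g : Matrix (Fin n) (Fin n) A)
    (hreg : ∀ (K : Type u) [Field K] (φ : A →+* K),
      Module.finrank K (Subalgebra.centralizer K ({g.map φ} : Set (Matrix (Fin n) (Fin n) K))) = n)
    (B : Type u) [CommRing B] [Algebra A B] (J : Ideal B) [J.IsMaximal] :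
    ∃ v : Fin n → Localization.AtPrime J,
      IsCyclic ((g.map (algebraMap A B)).map (algebraMap B (Localization.AtPrime J))) v := by
  set L := Localization.AtPrime J
  set ψ : B →+* L := algebraMap B L
  set ρ := IsLocalRing.residue L
  set φ : A →+* IsLocalRing.ResidueField L := ρ.comp (ψ.comp (algebraMap A B)) with hφ
  obtain ⟨w, hw⟩ := exists_isCyclic_of_finrank_centralizer (g.map φ)
    (hreg (IsLocalRing.ResidueField L) φ)
  have e : g.map φ = ((g.map (algebraMap A B)).map ψ).map ρ := by
    ext i j
    simp [hφ, Matrix.map_apply]
  rw [e] at hw
  exact IsCyclic.of_residue hw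

/-- General linear group case: this is the case G = GL_n (its derived group SL_n is simply connected and
every prime is good for it, so the hypotheses on the fundamental group and on the characteristic
that the general statement needs hold over every base, and strong regularity is regularity). Let A
be a commutative ring and g an n × n matrix over A — a section of GL_n when invertible, or of its
Lie algebra gl_n = M_n in general, the centralizer being in both cases the invertible matrices
commuting with g — which is fiberwise regular, i.e. at every field-valued point A → K the commutant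
of g_K in M_n(K) has dimension n, the rank of GL_n. Then the centralizer of g in GL_n is
commutative: for every commutative A-algebra B and all invertible x, y ∈ M_n(B) commuting with g_B,
x y = y x. -/
theorem result (A : Type u) [CommRing A] (n : ℕ)
    (g : Matrix (Fin n) (Fin n) A)
    (hreg : ∀ (K : Type u) [Field K] (φ : A →+* K),
      Module.finrank K (Subalgebra.centralizer K ({g.map φ} : Set (Matrix (Fin n) (Fin n) K))) = n)
    (B : Type u) [CommRing B] [Algebra A B] (x y : Matrix (Fin n) (Fin n) B) (hx : IsUnit x) (hy : IsUnit y)
    (hxg : x * g.map (algebraMap A B) = g.map (algebraMap A B) * x)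
    (hyg : y * g.map (algebraMap A B) = g.map (algebraMap A B) * y) :
    x * y = y * x := by
  ext i j
  rw [← sub_eq_zero]
  apply eq_zero_of_localization
  intro J hJ
  obtain ⟨v, hv⟩ := exists_isCyclic_localization A n g hreg B J
  set ψ : B →+* Localization.AtPrime J := algebraMap B (Localization.AtPrime J)
  have hxL : x.map ψ * (g.map (algebraMap A B)).map ψ = (g.map (algebraMap A B)).map ψ * x.map ψ := by
    rw [← Matrix.map_mul, ← Matrix.map_mul, hxg]
  have hyL : y.map ψ * (g.map (algebraMap A B)).map ψ = (g.map (algebraMap A B)).map ψ * y.map ψ := by
    rw [← Matrix.map_mul, ← Matrix.map_mul, hyg]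
  have hcomm := commute_of_isCyclic hv (x.map ψ) (y.map ψ) hxL hyL
  rw [← Matrix.map_mul, ← Matrix.map_mul] at hcomm
  have := congrFun (congrFun hcomm i) j
  simp only [Matrix.map_apply] at this
  rw [map_sub, this, sub_self]

end Groth.Agent.S15842
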