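import Groth.Statements.S15843
import Mathlib
import Groth.Agent.S15842
import Groth.Agent.Lib.Helper80.CyclicFlat

set_option autoImplicit false
universe u
open SprIso

namespace Groth.Agent.S15843

open Groth.Agent.Lib.Helper80.CyclicVec

section Setup

variable (A : Type u) [CommRing A] (n : ℕ) (g : Matrix (Fin n) (Fin n) A)

/-- The ideal of the commutation relations. -/
noncomputable def relIdeal : Ideal (MvPolynomial (Fin n × Fin n) A) :=
  Ideal.span (Set.range fun ij : Fin n × Fin n =>
    (Matrix.mvPolynomialX (Fin n) (Fin n) A * g.map MvPolynomial.C -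
      g.map MvPolynomial.C * Matrix.mvPolynomialX (Fin n) (Fin n) A :
        Matrix (Fin n) (Fin n) (MvPolynomial (Fin n × Fin n) A)) ij.1 ij.2)

/-- The coordinate ring of the centralizer in `GL_n`. -/
abbrev OCent : Type u :=
  Localization.Away (Ideal.Quotient.mk (relIdeal A n g) (Matrix.mvPolynomialX (Fin n) (Fin n) A).det)

end Setup

lemma map_comm_sub {R S : Type*} [CommRing R] [CommRing S] {n : ℕ} (f : R →+* S)
    (X G : Matrix (Fin n) (Fin n) R) :
    (X * G - G * X).map f = X.map f * G.map f - G.map f * X.map f := by
  rw [← RingHom.mapMatrix_apply, map_sub, map_mul, map_mul]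
  rfl

section Local

variable (A : Type u) [CommRing A] (n : ℕ) (g : Matrix (Fin n) (Fin n) A)

/-- The localisation of the coordinate ring at a maximal ideal of the base is flat. -/
theorem flat_localization
    (hreg : ∀ (K : Type u) [Field K] (φ : A →+* K),
      Module.finrank K (Subalgebra.centralizer K ({g.map φ} : Set (Matrix (Fin n) (Fin n) K))) = n)
    (P : Ideal A) [P.IsMaximal] :
    Module.Flat A (Localization (Algebra.algebraMapSubmonoid (OCent A n g) P.primeCompl)) := by
  classical
  obtain ⟨v, hv⟩ := Groth.Agent.S15842.exists_isCyclic_localization A n g hreg A P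
  have hv' : IsCyclic (g.map (algebraMap A (Localization.AtPrime P))) v := by
    have e : g.map (algebraMap A A) = g := by
      ext i j; simp
    rwa [e] at hv
  set I := relIdeal A n g with hI
  set Xg := Matrix.mvPolynomialX (Fin n) (Fin n) A with hXg
  set O := OCent A n g with hO
  set O' := Localization (Algebra.algebraMapSubmonoid O P.primeCompl) with hO'
  let q : MvPolynomial (Fin n × Fin n) A →+* (MvPolynomial (Fin n × Fin n) A ⧸ I) :=
    Ideal.Quotient.mk I
  let γ : MvPolynomial (Fin n × Fin n) A →+* O' :=
    (algebraMap O O').comp ((algebraMap (MvPolynomial (Fin n × Fin n) A ⧸ I) O).comp q)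
  have hγC : ∀ a : A, γ (MvPolynomial.C a) = algebraMap A O' a := by
    intro a
    simp only [γ, q, RingHom.comp_apply]
    rw [IsScalarTower.algebraMap_apply A O O',
      IsScalarTower.algebraMap_apply A (MvPolynomial (Fin n × Fin n) A ⧸ I) O]
    rfl
  have hγI : ∀ z ∈ I, γ z = 0 := by
    intro z hz
    simp only [γ, q, RingHom.comp_apply]
    rw [Ideal.Quotient.eq_zero_iff_mem.mpr hz, map_zero, map_zero]
  set Xb : Matrix (Fin n) (Fin n) O' := Xg.map γ with hXb
  have hgO' : (g.map MvPolynomial.C).map γ = g.map (algebraMap A O') := by
    ext i j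
    simp only [Matrix.map_apply, hγC]
  refine flat_of_univ g v hv' P.primeCompl ?_ O' (algebraMap (Localization.AtPrime P) O') ?_ Xb
    ?_ ?_ ?_ ?_
  · -- elements outside `P` are units in `A_P`
    intro s hs
    exact IsLocalization.map_units (Localization.AtPrime P) ⟨s, hs⟩
  · intro a
    exact (IsScalarTower.algebraMap_apply A (Localization.AtPrime P) O' a).symm
  · -- the universal matrix commutes with `g`
    rw [← hgO', hXb, ← sub_eq_zero, ← map_comm_sub]
    ext i j
    simp only [Matrix.map_apply, Matrix.zero_apply]
    apply hγI
    exact Ideal.subset_span ⟨(i, j), rfl⟩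
  · -- its determinant is a unit
    have h1 : Xb.det = γ Xg.det := (RingHom.map_det γ Xg).symm
    rw [h1]
    simp only [γ, q, RingHom.comp_apply]
    exact (IsLocalization.Away.algebraMap_isUnit (Ideal.Quotient.mk I Xg.det)).map _
  · -- the universal property
    intro T _ _ Y hST hYg hYu
    let α₁ : MvPolynomial (Fin n × Fin n) A →ₐ[A] T := MvPolynomial.aeval (fun ij => Y ij.1 ij.2)
    have hα₁X : Xg.map α₁ = Y := by
      ext i j
      simp [hXg, α₁, Matrix.mvPolynomialX_apply]
    have hα₁g : (g.map MvPolynomial.C).map α₁ = g.map (algebraMap A T) := by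
      ext i j
      simp [α₁, Matrix.map_apply]
    have hα₁I : ∀ z ∈ I, α₁ z = 0 := by
      intro z hz
      have : I ≤ RingHom.ker α₁.toRingHom := by
        rw [hI, relIdeal, Ideal.span_le]
        rintro _ ⟨ij, rfl⟩
        change α₁ _ = 0
        have h2 := sub_eq_zero.mpr hYg
        rw [← hα₁X, ← hα₁g] at h2
        have h3 := map_comm_sub α₁.toRingHom Xg (g.map MvPolynomial.C)
        have h4 : (Xg * g.map MvPolynomial.C - g.map MvPolynomial.C * Xg).map α₁ = 0 :=
          h3.trans h2
        have h5 := congrFun (congrFun h4 ij.1) ij.2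
        simpa [Matrix.map_apply] using h5
      exact this hz
    let α₂ : (MvPolynomial (Fin n × Fin n) A ⧸ I) →ₐ[A] T := Ideal.Quotient.liftₐ I α₁ hα₁I
    have hα₂ : ∀ z, α₂ (q z) = α₁ z := fun z => Ideal.Quotient.liftₐ_apply I α₁ hα₁I (q z)
    have hu₃ : ∀ y : Submonoid.powers (Ideal.Quotient.mk I Xg.det), IsUnit (α₂ y) := by
      rintro ⟨_, k, rfl⟩
      rw [map_pow]
      refine IsUnit.pow k ?_
      rw [hα₂]
      have : α₁ Xg.det = (Xg.map α₁).det := by
        have := RingHom.map_det α₁.toRingHom Xg
        exact this
      rw [this, hα₁X]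
      exact hYu
    let α₃ : O →ₐ[A] T := IsLocalization.liftAlgHom (M := Submonoid.powers (Ideal.Quotient.mk I Xg.det))
      (f := α₂) hu₃
    have hα₃ : ∀ z, α₃ (algebraMap _ O z) = α₂ z := fun z => IsLocalization.lift_eq hu₃ z
    have hu₄ : ∀ y : Algebra.algebraMapSubmonoid O P.primeCompl, IsUnit (α₃ y) := by
      rintro ⟨_, s, hs, rfl⟩
      rw [AlgHom.commutes]
      exact hST s hs
    let α₄ : O' →ₐ[A] T := IsLocalization.liftAlgHom
      (M := Algebra.algebraMapSubmonoid O P.primeCompl) (f := α₃) hu₄
    have hα₄ : ∀ z, α₄ (algebraMap O O' z) = α₃ z := fun z => IsLocalization.lift_eq hu₄ z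
    refine ⟨α₄, ?_⟩
    rw [← hα₁X, hXb]
    ext i j
    simp only [Matrix.map_apply, γ, RingHom.comp_apply]
    rw [hα₄, hα₃, hα₂]
  · -- uniqueness
    intro φ hφ
    apply AlgHom.coe_ringHom_injective
    apply IsLocalization.ringHom_ext (Algebra.algebraMapSubmonoid O P.primeCompl)
    apply IsLocalization.ringHom_ext (Submonoid.powers (Ideal.Quotient.mk I Xg.det))
    apply Ideal.Quotient.ringHom_ext
    apply MvPolynomial.ringHom_ext
    · intro a
      simp only [RingHom.comp_apply, AlgHom.coe_toRingHom, AlgHom.id_apply, RingHom.id_apply]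
      have := hγC a
      simp only [γ, q, RingHom.comp_apply] at this
      rw [this, AlgHom.commutes]
    · intro ij
      simp only [RingHom.comp_apply, AlgHom.coe_toRingHom, AlgHom.id_apply, RingHom.id_apply]
      have := congrFun (congrFun hφ ij.1) ij.2
      simpa [hXb, hXg, Matrix.map_apply, Matrix.mvPolynomialX_apply, γ, q] using this

end Local

/-- The flatness assertion, for a section of the group and equally for a section of its Lie algebra, in
the case G = GL_n (its derived group SL_n is simply connected and every prime is good for it, so the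
hypotheses on the fundamental group and on the characteristic that the general statement needs hold
over every base, and strong regularity is regularity). Let A be a commutative ring and g an n × n
matrix over A — a section of GL_n when invertible, of its Lie algebra gl_n in general; in both cases
the centralizer in GL_n is the scheme of invertible matrices commuting with g — which is fiberwise
regular (at every field-valued point A → K the commutant of g_K in M_n(K) has dimension n). Then the
centralizer Z_{GL_n}(g) is flat over A; concretely, with X the generic n × n matrix over A[x_ij],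
the ring obtained from A[x_ij] by dividing by the entries of X g − g X and inverting det X is a flat
A-module. -/
theorem result (A : Type u) [CommRing A] (n : ℕ)
    (g : Matrix (Fin n) (Fin n) A)
    (hreg : ∀ (K : Type u) [Field K] (φ : A →+* K),
      Module.finrank K (Subalgebra.centralizer K ({g.map φ} : Set (Matrix (Fin n) (Fin n) K))) = n) :
    Module.Flat A (Localization.Away
      (Ideal.Quotient.mk (Ideal.span (Set.range fun ij : Fin n × Fin n =>
        (Matrix.mvPolynomialX (Fin n) (Fin n) A * g.map MvPolynomial.C -
          g.map MvPolynomial.C * Matrix.mvPolynomialX (Fin n) (Fin n) A :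
            Matrix (Fin n) (Fin n) (MvPolynomial (Fin n × Fin n) A)) ij.1 ij.2))
        (Matrix.mvPolynomialX (Fin n) (Fin n) A).det)) := by
  change Module.Flat A (OCent A n g)
  haveI : ∀ (P : Ideal A) [P.IsMaximal], IsLocalizedModule.AtPrime P
      ((IsScalarTower.toAlgHom A (OCent A n g)
        (Localization (Algebra.algebraMapSubmonoid (OCent A n g) P.primeCompl))).toLinearMap) :=
    fun P _ => isLocalizedModule_iff_isLocalization.mpr inferInstance
  refine Module.flat_of_isLocalized_maximal A (OCent A n g)
    (fun P _ => Localization (Algebra.algebraMapSubmonoid (OCent A n g) P.primeCompl))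
    (fun P _ => (IsScalarTower.toAlgHom A (OCent A n g) _).toLinearMap) ?_
  intro P hP
  exact flat_localization A n g hreg P

end Groth.Agent.S15843
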