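import Groth.Statements.S15844
import Mathlib
import Groth.Agent.S15842

set_option autoImplicit false
universe u
open SprIso

namespace Groth.Agent.S15844

open Groth.Agent.Lib.Helper80.CyclicVec

/-- If `g` is fiberwise regular and `z` (over `A`) commutes with `g`, then over any `A`-algebra
every matrix commuting with `g` commutes with `z`. -/
lemma commute_of_regular (A : Type u) [CommRing A] (n : ℕ)
    (g z : Matrix (Fin n) (Fin n) A)
    (hreg : ∀ (K : Type u) [Field K] (φ : A →+* K),
      Module.finrank K (Subalgebra.centralizer K ({g.map φ} : Set (Matrix (Fin n) (Fin n) K))) = n)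
    (hzg : z * g = g * z)
    (B : Type u) [CommRing B] [Algebra A B] (x : Matrix (Fin n) (Fin n) B)
    (hxg : x * g.map (algebraMap A B) = g.map (algebraMap A B) * x) :
    x * z.map (algebraMap A B) = z.map (algebraMap A B) * x := by
  ext i j
  rw [← sub_eq_zero]
  apply eq_zero_of_localization
  intro J hJ
  obtain ⟨v, hv⟩ := Groth.Agent.S15842.exists_isCyclic_localization A n g hreg B J
  set ψ : B →+* Localization.AtPrime J := algebraMap B (Localization.AtPrime J)
  have hxL : x.map ψ * (g.map (algebraMap A B)).map ψ =
      (g.map (algebraMap A B)).map ψ * x.map ψ := by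
    rw [← Matrix.map_mul, ← Matrix.map_mul, hxg]
  have hzL : (z.map (algebraMap A B)).map ψ * (g.map (algebraMap A B)).map ψ =
      (g.map (algebraMap A B)).map ψ * (z.map (algebraMap A B)).map ψ := by
    rw [← Matrix.map_mul, ← Matrix.map_mul, ← Matrix.map_mul, ← Matrix.map_mul, hzg]
  have hcomm := commute_of_isCyclic hv (x.map ψ) ((z.map (algebraMap A B)).map ψ) hxL hzL
  rw [← Matrix.map_mul, ← Matrix.map_mul] at hcomm
  have := congrFun (congrFun hcomm i) j
  simp only [Matrix.map_apply] at this
  rw [map_sub, this, sub_self]

/-- General linear group case: this is the case G = GL_n (derived group SL_n simply connected, all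
primes good). Let A be a commutative ring, u an n × n matrix over A with characteristic polynomial
(t − 1)^n (a section of the unipotent scheme) and X one with characteristic polynomial t^n (a
section of the nilpotent scheme), both fiberwise regular — at every field-valued point A → K the
commutant in M_n(K) has dimension n — and suppose X commutes with u (X lies in the Lie algebra of
the centralizer of u). Then Z(u) = Z(X) inside GL_n: for every commutative A-algebra B and every
invertible x ∈ M_n(B), x commutes with u_B if and only if x commutes with X_B. -/
theorem result (A : Type u) [CommRing A] (n : ℕ)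
    (u X : Matrix (Fin n) (Fin n) A)
    (hu : u.charpoly = (Polynomial.X - 1) ^ n) (hX : X.charpoly = Polynomial.X ^ n)
    (hureg : ∀ (K : Type u) [Field K] (φ : A →+* K),
      Module.finrank K (Subalgebra.centralizer K ({u.map φ} : Set (Matrix (Fin n) (Fin n) K))) = n)
    (hXreg : ∀ (K : Type u) [Field K] (φ : A →+* K),
      Module.finrank K (Subalgebra.centralizer K ({X.map φ} : Set (Matrix (Fin n) (Fin n) K))) = n)
    (hXu : X * u = u * X)
    (B : Type u) [CommRing B] [Algebra A B] (x : Matrix (Fin n) (Fin n) B) (hx : IsUnit x) :
    x * u.map (algebraMap A B) = u.map (algebraMap A B) * x ↔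
      x * X.map (algebraMap A B) = X.map (algebraMap A B) * x := by
  constructor
  · intro h
    exact commute_of_regular A n u X hureg hXu B x h
  · intro h
    exact commute_of_regular A n X u hXreg hXu.symm B x h

end Groth.Agent.S15844
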