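import Groth.Statements.S15845
import Mathlib

set_option autoImplicit false
universe u
open SprIso

namespace Groth.Agent.S15845

/-- Core: a matrix commuting with a strictly upper triangular matrix with invertible superdiagonal
is upper triangular with constant diagonal. -/
theorem core {R : Type*} [CommRing R] (n : ℕ) (N x : Matrix (Fin n) (Fin n) R)
    (hN : ∀ l j : Fin n, j ≤ l → N l j = 0)
    (hNu : ∀ i a : Fin n, a.val = i.val + 1 → IsUnit (N i a))
    (hcomm : x * N = N * x) :
    (∀ i j : Fin n, j < i → x i j = 0) ∧ (∀ i j : Fin n, x i i = x j j) := by
  have heq : ∀ i j : Fin n, ∑ l, x i l * N l j = ∑ l, N i l * x l j := by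
    intro i j
    have := congrFun (congrFun hcomm i) j
    simpa [Matrix.mul_apply] using this
  -- Claim A
  have claimA : ∀ (j : ℕ) (a b : Fin n), b.val = j → b < a → x a b = 0 := by
    intro j
    induction j using Nat.strong_induction_on with
    | _ j IHj =>
      intro a b hb hba
      -- inner downward induction
      have inner : ∀ (m : ℕ) (a : Fin n), b < a → n - 1 - a.val = m → x a b = 0 := by
        intro m
        induction m using Nat.strong_induction_on with
        | _ m IHm =>
          intro a hba hm
          have hapos : 0 < a.val := lt_of_le_of_lt (Nat.zero_le _) hba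
          set i : Fin n := ⟨a.val - 1, by omega⟩ with hi
          have hia : a.val = i.val + 1 := by simp [hi]; omega
          have hbi : b ≤ i := by
            rw [Fin.le_def]; have : b.val < a.val := hba; simp [hi]; omega
          have hL : ∑ l, x i l * N l b = 0 := by
            apply Finset.sum_eq_zero
            intro l _
            by_cases hlb : l < b
            · have : x i l = 0 := IHj l.val (by rw [← hb]; exact hlb) i l rfl (lt_of_lt_of_le hlb hbi)
              rw [this, zero_mul]
            · rw [hN l b (not_lt.1 hlb), mul_zero]
          have hR : ∑ l, N i l * x l b = N i a * x a b := by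
            apply Finset.sum_eq_single a
            · intro l _ hla
              by_cases hli : l ≤ i
              · rw [hN i l hli, zero_mul]
              · have hil : i < l := not_le.1 hli
                have hal : a < l := by
                  rw [Fin.lt_def] at hil ⊢
                  have : l.val ≠ a.val := fun h => hla (Fin.ext h)
                  omega
                have : x l b = 0 := IHm (n - 1 - l.val) (by
                  have := l.isLt
                  rw [Fin.lt_def] at hal
                  omega) l (lt_trans hba hal) rfl
                rw [this, mul_zero]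
            · intro h; exact absurd (Finset.mem_univ a) h
          have := heq i b
          rw [hL, hR] at this
          exact ((hNu i a hia).mul_right_eq_zero).1 this.symm
      exact inner _ a hba rfl
  have hA : ∀ i j : Fin n, j < i → x i j = 0 := fun i j hji => claimA j.val i j rfl hji
  refine ⟨hA, ?_⟩
  -- Claim B
  have step : ∀ i a : Fin n, a.val = i.val + 1 → x i i = x a a := by
    intro i a hia
    have hL : ∑ l, x i l * N l a = x i i * N i a := by
      apply Finset.sum_eq_single i
      · intro l _ hli
        by_cases h1 : l < i
        · rw [hA i l h1, zero_mul]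
        · have hil : i < l := lt_of_le_of_ne (not_lt.1 h1) (Ne.symm hli)
          have : a ≤ l := by rw [Fin.le_def, hia]; exact hil
          rw [hN l a this, mul_zero]
      · intro h; exact absurd (Finset.mem_univ i) h
    have hR : ∑ l, N i l * x l a = N i a * x a a := by
      apply Finset.sum_eq_single a
      · intro l _ hla
        by_cases h1 : l ≤ i
        · rw [hN i l h1, zero_mul]
        · have hil : i < l := not_le.1 h1
          have hal : a < l := by
            rw [Fin.lt_def] at hil ⊢
            have : l.val ≠ a.val := fun h => hla (Fin.ext h)
            omega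
          rw [hA l a hal, mul_zero]
      · intro h; exact absurd (Finset.mem_univ a) h
    have := heq i a
    rw [hL, hR, mul_comm] at this
    exact (hNu i a hia).mul_left_cancel this
  have all0 : ∀ (m : ℕ) (i j : Fin n), i.val = m → j.val = 0 → x i i = x j j := by
    intro m
    induction m with
    | zero =>
      intro i j hi hj
      have : i = j := Fin.ext (by omega)
      rw [this]
    | succ m IH =>
      intro i j hi hj
      set i' : Fin n := ⟨m, by have := i.isLt; omega⟩ with hi'
      rw [← step i' i (by simp [hi', hi])]
      exact IH i' j rfl hj
  intro i j
  by_cases hn : n = 0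
  · subst hn; exact i.elim0
  · set z : Fin n := ⟨0, Nat.pos_of_ne_zero hn⟩
    rw [all0 i.val i z rfl rfl, all0 j.val j z rfl rfl]

theorem result (k : Type u) [Field k] (n : ℕ)
    (u : Matrix (Fin n) (Fin n) k) (htri : ∀ i j : Fin n, j < i → u i j = 0) (hdiag : ∀ i j : Fin n, u i i = u j j)
    (hreg : ∀ (i j : Fin n), j.val = i.val + 1 → u i j ≠ 0)
    (R : Type u) [CommRing R] [Algebra k R] (x : Matrix (Fin n) (Fin n) R) (hx : IsUnit x)
    (hxu : x * u.map (algebraMap k R) = u.map (algebraMap k R) * x) :
    (∀ i j : Fin n, j < i → x i j = 0) ∧ (∀ i j : Fin n, x i i = x j j) := by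
  set U := u.map (algebraMap k R) with hU
  set D : Matrix (Fin n) (Fin n) R := Matrix.diagonal (fun i => U i i) with hD
  have hxD : x * D = D * x := by
    ext i j
    rw [hD, Matrix.mul_diagonal, Matrix.diagonal_mul, mul_comm]
    congr 1
    simp only [hU, Matrix.map_apply]
    rw [hdiag j i]
  apply core n (U - D) x
  · intro l j hjl
    rcases lt_or_eq_of_le hjl with h | h
    · simp [hD, hU, htri l j h, Matrix.diagonal_apply_ne _ (ne_of_gt h)]
    · subst h; simp [hD]
  · intro i a hia
    have hne : i ≠ a := fun h => by rw [h] at hia; omega
    simp only [Matrix.sub_apply, hD, Matrix.diagonal_apply_ne _ hne, sub_zero, hU, Matrix.map_apply]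
    exact (IsUnit.mk0 _ (hreg i a hia)).map (algebraMap k R)
  · rw [mul_sub, sub_mul, hxu, hxD]

end Groth.Agent.S15845
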