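import Groth.Statements.S16489
import Groth.Agent.Lib.Helper80.NormalSheaf
import Groth.Agent.Lib.Helper80.ModHartogsConv
import Groth.Agent.Lib.Helper45.RefHullStalk
import Groth.Agent.Lib.Helper45.RefHullRegular
import Groth.Agent.Lib.Helper73.MCM
import Groth.Agent.S8891

set_option autoImplicit false
universe u
open CategoryTheory CategoryTheory.Limits AlgebraicGeometry TopologicalSpace
open VBPn

namespace Groth.Agent.S16489
open Groth.Agent.Lib.Helper80 in
theorem ringKrullDim_stalk_le_of_specializes {X : Scheme.{u}} {x y : X} (h : x ⤳ y) :
    ringKrullDim (X.presheaf.stalk x) ≤ ringKrullDim (X.presheaf.stalk y) := by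
  rw [ringKrullDim_stalk_eq_coheight, ringKrullDim_stalk_eq_coheight]
  exact WithBot.coe_le_coe.mpr (Order.coheight_anti (show y ≤ x from h))

/-- finite torsion-free modules over a regular local domain of dimension ≤ 1 are free -/
theorem free_of_isTorsionFree_of_dim_le_one (R : Type u) [CommRing R] [IsRegularLocalRing R]
    [IsDomain R] (hdim : ringKrullDim R ≤ 1) (M : Type u) [AddCommGroup M] [Module R M]
    [Module.Finite R M] [Module.IsTorsionFree R M] : Module.Free R M := by
  apply Groth.Agent.Lib.Helper73.MCM.free_of_le_depth
  have hs : ((IsLocalRing.maximalIdeal R).spanFinrank : WithBot ℕ∞) = ringKrullDim R :=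
    IsRegularLocalRing.spanFinrank_maximalIdeal
  have hle : (IsLocalRing.maximalIdeal R).spanFinrank ≤ 1 := by
    rw [← hs] at hdim
    have : (((IsLocalRing.maximalIdeal R).spanFinrank : ℕ∞) : WithBot ℕ∞) ≤
        ((1 : ℕ∞) : WithBot ℕ∞) := hdim
    have := WithBot.coe_le_coe.mp this
    exact_mod_cast this
  generalize (IsLocalRing.maximalIdeal R).spanFinrank = d at *
  interval_cases d
  · exact bot_le
  · exact Groth.Agent.Lib.Helper80.NormalSheaf.one_le_depth_of_isTorsionFree R
      (by rw [← hs]; rfl) M

theorem withBot_enat_two_le_of_not_le_one {d : WithBot ℕ∞} (h : ¬ d ≤ 1) : (2 : WithBot ℕ∞) ≤ d := by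
  induction d using WithBot.recBotCoe with
  | bot => exact absurd bot_le h
  | coe d =>
    have h' : ¬ d ≤ 1 := fun h1 => h (WithBot.coe_le_coe.mpr h1)
    have : (2 : ℕ∞) ≤ d := by
      induction d using ENat.recTopCoe with
      | top => exact le_top
      | coe n =>
        have : ¬ n ≤ 1 := fun h1 => h' (by exact_mod_cast h1)
        have : 2 ≤ n := by omega
        exact_mod_cast this
    exact WithBot.coe_le_coe.mpr this



/-- Let X be an integral locally Noetherian scheme all of whose local rings are regular, and F a
coherent O_X-module. Call F normal when for all open subsets V ⊆ U of X such that every point of U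
not in V has local ring O_{X,x} of dimension at least 2, the restriction map F(U) → F(V) is
bijective. Then F is reflexive (the canonical map F → F^** is an isomorphism) if and only if F is
torsion-free (each stalk F_x is a torsion-free O_{X,x}-module) and normal. The published statement
is for coherent analytic sheaves on a complex manifold, a sheaf being called normal when for every
open U and every analytic subset A ⊆ U of codimension at least 2 the restriction F(U) → F(U ∖ A) is
bijective; this row is its statement for coherent sheaves on a regular integral locally Noetherian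
scheme, with normality phrased through open subsets V ⊆ U whose complement in U consists of points
with local ring of dimension at least 2, where the same argument applies. -/
theorem result (X : Scheme.{u}) [IsIntegral X] [IsLocallyNoetherian X]
    (hreg : ∀ x : X, IsRegularLocalRing (X.presheaf.stalk x)) (F : X.Modules) (hF : Coh.IsCoh F) :
    RefHull.IsReflexive F ↔
      TorSh.IsTorsionFree F ∧
      (∀ (U V : X.Opens) (hVU : V ≤ U), (∀ x : X, x ∈ U → x ∉ V → (2 : WithBot ℕ∞) ≤ ringKrullDim (X.presheaf.stalk x)) →
        Function.Bijective (F.presheaf.map (homOfLE hVU).op)) := by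
  constructor
  · intro hr
    refine ⟨fun x => ?_, fun U V hVU h =>
      Groth.Agent.Lib.Helper45.RefHullRegular.res_bijective_of_isReflexive hreg F hF hr hVU h⟩
    have : Module.IsReflexive (X.presheaf.stalk x) (F.presheaf.stalk x) :=
      (Groth.Agent.Lib.Helper45.RefHullStalk.isReflexive_iff_forall_isReflexiveAt F hF).mp hr x
    exact Function.Injective.moduleIsTorsionFree
      (Module.Dual.eval (X.presheaf.stalk x) (F.presheaf.stalk x))
      (Module.evalEquiv (X.presheaf.stalk x) (F.presheaf.stalk x)).injective (fun r m => map_smul _ r m)
  · rintro ⟨htf, hnorm⟩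
    have hGc := Groth.Agent.Lib.Helper45.RefHullStalk.isCoh_ddual F hF
    have hDc := Groth.Agent.Lib.Helper45.RefHullStalk.isCoh_dual F hF
    refine Groth.Agent.S8891.result X (RefHull.bidualMap F) hF hGc.1 ?_ ?_
    · intro x
      let e := Groth.Agent.Lib.Helper45.RefHullStalk.dualStalkEquiv (RefHull.dual F) hDc x
      refine ⟨fun {c m} hcm => ?_⟩
      by_cases hc : c = 0
      · exact Or.inl hc
      · right
        have h1 : c • e m = 0 := by rw [← map_smul, hcm, map_zero]
        have h2 : e m = 0 := (smul_eq_zero.mp h1).resolve_left hc
        exact e.map_eq_zero_iff.mp h2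
    · intro x
      haveI := hreg x
      haveI : Module.IsTorsionFree (X.presheaf.stalk x) (F.presheaf.stalk x) := htf x
      haveI : Module.Finite (X.presheaf.stalk x) (F.presheaf.stalk x) :=
        Groth.Agent.Lib.Helper12.QuasiFlat.finite_stalk_of_isCoh F hF x
      by_cases hx : ringKrullDim (X.presheaf.stalk x) ≤ 1
      · left
        haveI : Module.Free (X.presheaf.stalk x) (F.presheaf.stalk x) :=
          free_of_isTorsionFree_of_dim_le_one _ hx _
        have hrx : RefHull.IsReflexiveAt F x := by
          unfold RefHull.IsReflexiveAt
          infer_instance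
        exact (Groth.Agent.Lib.Helper45.RefHullStalk.stalkMap_bidualMap_bijective_iff F hF x).mpr hrx
      · right
        have h2 : (2 : WithBot ℕ∞) ≤ ringKrullDim (X.presheaf.stalk x) :=
          withBot_enat_two_le_of_not_le_one hx
        constructor
        · let U : X.Opens := ⟨(closure {x})ᶜ, isClosed_closure.isOpen_compl⟩
          refine Groth.Agent.Lib.Helper80.two_le_depth_of_res_bijective F hF U ?_ x ?_
          · intro V
            refine hnorm V (V ⊓ U) inf_le_left ?_
            intro y hyV hyVU
            have hy : y ∈ closure {x} := by
              by_contra hcon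
              exact hyVU ⟨hyV, hcon⟩
            exact h2.trans (ringKrullDim_stalk_le_of_specializes
              (specializes_iff_mem_closure.mpr hy))
          · intro hxU
            exact hxU (subset_closure rfl)
        · intro hgen
          apply hx
          rw [hgen, ringKrullDim_stalk_eq_coheight]
          have : Order.coheight (genericPoint ↥X) = 0 := by
            change Order.coheight (⊤ : ↥X) = 0
            exact Order.coheight_top _
          rw [this]
          exact zero_le_one

end Groth.Agent.S16489
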