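import Groth.Statements.S15848
import Groth.Agent.Lib.Helper80.PushStalk
import Groth.Agent.Lib.Helper80.NormalSheaf
import Groth.Agent.S16489
import Groth.Agent.S0220
import Groth.Agent.S1535
import Groth.Agent.S9514
import Groth.Agent.Lib.Helper49.PushforwardFinite
import Groth.Agent.Lib.Helper49.FinLocFree
import Groth.Agent.Lib.Helper49.FibreRank
import Groth.Agent.Lib.Helper49.ProperSupport
import Groth.Agent.Lib.Helper45.RefHullDepth
import Groth.Agent.Lib.Helper93.DepthHom
import Groth.Agent.Lib.Helper73.MCM

set_option autoImplicit false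
universe u
open CategoryTheory CategoryTheory.Limits AlgebraicGeometry
open Surf

namespace Groth.Agent.S15848

/-- A point of an integral scheme `C` of dimension one whose image under a closed immersion into a
scheme of dimension two has a local ring of dimension ≥ 2 is not the generic point; so its local
ring has dimension ≥ 1. -/
theorem one_le_dim_stalk_of_two_le {S C : Scheme.{u}} (j : C ⟶ S) [IsClosedImmersion j]
    [IsIntegral C] (hdim : topologicalKrullDim S = 2) (hC : topologicalKrullDim C = 1) (y : C)
    (h2 : (2 : WithBot ℕ∞) ≤ ringKrullDim (S.presheaf.stalk (j y))) :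
    (1 : WithBot ℕ∞) ≤ ringKrullDim (C.presheaf.stalk y) := by
  rw [ringKrullDim_stalk_eq_coheight] at h2 ⊢
  have h2' : (2 : ℕ∞) ≤ Order.coheight (j y) := WithBot.coe_le_coe.mp h2
  suffices h : (1 : ℕ∞) ≤ Order.coheight y from WithBot.coe_le_coe.mpr h
  -- `j y` is minimal
  have hmin : ∀ z : S, z ≤ j y → z = j y := by
    intro z hz
    by_contra hne
    have hlt : z < j y := by
      refine lt_iff_le_not_ge.mpr ⟨hz, fun h => hne ?_⟩
      exact ((Scheme.le_iff_specializes.mp h).antisymm (Scheme.le_iff_specializes.mp hz)).eq
    have h3 : Order.coheight (j y) + 1 ≤ Order.coheight z := Order.coheight_add_one_le hlt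
    have h4 : ringKrullDim (S.presheaf.stalk z) ≤ 2 :=
      (Groth.Agent.S0220.ringKrullDim_stalk_le_topologicalKrullDim S z).trans hdim.le
    rw [ringKrullDim_stalk_eq_coheight] at h4
    have h5 : Order.coheight z ≤ 2 := WithBot.coe_le_coe.mp h4
    have h6 : (3 : ℕ∞) ≤ Order.coheight z := by
      calc (3 : ℕ∞) = 2 + 1 := by norm_num
        _ ≤ Order.coheight (j y) + 1 := by gcongr
        _ ≤ Order.coheight z := h3
    exact absurd (h6.trans h5) (by norm_num)
  by_contra hlt
  -- then `y` is the generic point
  have hy : y = genericPoint C := by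
    by_contra hne
    apply hlt
    have hηy : genericPoint C ⤳ y := genericPoint_specializes y
    have h2 : y < genericPoint C := by
      refine lt_iff_le_not_ge.mpr ⟨Scheme.le_iff_specializes.mpr hηy, fun h => hne ?_⟩
      exact ((Scheme.le_iff_specializes.mp h).antisymm hηy).eq
    have h4 : Order.coheight (genericPoint C) + 1 ≤ Order.coheight y :=
      Order.coheight_add_one_le h2
    exact le_trans (by simp) h4
  -- all points of `C` equal `y`
  have hall : ∀ c : C, c = y := by
    intro c
    have hηc : y ⤳ c := hy ▸ genericPoint_specializes c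
    have h1 : j y ⤳ j c := hηc.map j.continuous
    have h2 : j c = j y := hmin _ (Scheme.le_iff_specializes.mpr h1)
    exact j.isEmbedding.injective h2
  have hsub : Subsingleton C := ⟨fun a b => (hall a).trans (hall b).symm⟩
  -- contradiction with `dim C = 1`
  have hsub' : Subsingleton (TopologicalSpace.IrreducibleCloseds C) := by
    refine ⟨fun Z₁ Z₂ => TopologicalSpace.IrreducibleCloseds.ext ?_⟩
    exact (Z₁.isIrreducible'.nonempty.eq_univ).trans (Z₂.isIrreducible'.nonempty.eq_univ).symm
  have hle : topologicalKrullDim C ≤ 0 := by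
    unfold topologicalKrullDim
    exact Order.krullDim_nonpos_of_subsingleton
  rw [hC] at hle
  exact absurd hle (by decide)


/-- Let k be an algebraically closed field of characteristic zero and S a smooth surface over k (an
integral k-scheme, smooth over k, of dimension two). Let j : C → S be a closed immersion with C
integral of dimension one, M a coherent O_C-module whose stalks are torsion-free modules over the
local rings of C, F a finite locally free O_S-module and f : F → j_*M an epimorphism of O_S-modules.
Then the kernel of f, the elementary transformation of F along f, is a finite locally free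
O_S-module. (The published setting takes S projective; the argument is local on S and projectivity
is not assumed here.) -/
theorem result
    (k : Type u) [Field k] [IsAlgClosed k] [CharZero k]
    (S : Scheme.{u}) [S.Over (Spec (CommRingCat.of k))] [IsIntegral S]
    [Smooth (S ↘ Spec (CommRingCat.of k))] (hdim : topologicalKrullDim S = 2)
    (C : Scheme.{u}) (j : C ⟶ S) [IsClosedImmersion j] [IsIntegral C]
    (hC : topologicalKrullDim C = 1)
    (M : C.Modules) (hM : Coh.IsCoh M) (hMtf : TorSh.IsTorsionFree M)
    (F : S.Modules) (hF : FlatMod.IsFinLocFree F)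
    (f : F ⟶ (Coh.push j).obj M) [Epi f] :
    FlatMod.IsFinLocFree (kernel f) := by
  have hNS : IsLocallyNoetherian S :=
    LocallyOfFiniteType.isLocallyNoetherian (S ↘ Spec (CommRingCat.of k))
  have hNC : IsLocallyNoetherian C := LocallyOfFiniteType.isLocallyNoetherian j
  have hMq : M.IsQuasicoherent := hM.1
  have hFq : F.IsQuasicoherent := Groth.Agent.Lib.Helper49.isQuasicoherent_of_isFinLocFree F hF
  have hFc : Coh.IsCoh F := ⟨hFq, Groth.Agent.Lib.Helper49.isFiniteType_of_isFinLocFree F hF⟩
  have hQq : ((Coh.push j).obj M).IsQuasicoherent :=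
    Groth.Agent.Lib.Helper49.isQuasicoherent_pushforward M j
  have hQc : Coh.IsCoh ((Coh.push j).obj M) :=
    ⟨hQq, Groth.Agent.Lib.Helper49.isFiniteType_pushforward_of_isFinite j M hM.2⟩
  have hKc : Coh.IsCoh (kernel f) := (Groth.Agent.S9514.result S hFc hQc f).1
  have hKq : (kernel f).IsQuasicoherent := hKc.1
  have hKfp : SheafOfModules.IsFinitePresentation (R := S.ringCatSheaf) (kernel f) :=
    Groth.Agent.Lib.Helper49.isFinitePresentation_of_isFiniteType_of_noetherian (kernel f) hKc.2
  rw [Groth.Agent.Lib.Helper49.isFinLocFree_iff_isFinitePresentation_and_free_stalk]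
  refine ⟨hKfp, fun x => ?_⟩
  have hreg : IsRegularLocalRing (S.presheaf.stalk x) := Groth.Agent.S1535.result k S x
  have hfinK : Module.Finite (S.presheaf.stalk x) ((kernel f).presheaf.stalk x) :=
    Groth.Agent.Lib.Helper12.QuasiFlat.finite_stalk_of_isCoh _ hKc x
  have hfinF : Module.Finite (S.presheaf.stalk x) (F.presheaf.stalk x) :=
    Groth.Agent.Lib.Helper12.QuasiFlat.finite_stalk_of_isCoh _ hFc x
  have hfreeF : Module.Free (S.presheaf.stalk x) (F.presheaf.stalk x) :=
    Groth.Agent.Lib.Helper49.free_stalk_of_isFinLocFree F hF x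
  let SC : ShortComplex S.Modules := ShortComplex.mk (kernel.ι f) f (kernel.condition f)
  have hSC : SC.ShortExact :=
    { exact := ShortComplex.exact_kernel f
      mono_f := inferInstanceAs (Mono (kernel.ι f))
      epi_g := inferInstanceAs (Epi f) }
  by_cases h1 : ringKrullDim (S.presheaf.stalk x) ≤ 1
  · have htf : Module.IsTorsionFree (S.presheaf.stalk x) ((kernel f).presheaf.stalk x) :=
      Function.Injective.moduleIsTorsionFree
        (Groth.Agent.Lib.Helper49.stalkMapLinear (kernel.ι f) x)
        (Groth.Agent.Lib.Helper49.stalkMap_injective_of_mono (kernel.ι f) x)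
        (fun r m => map_smul _ r m)
    exact Groth.Agent.S16489.free_of_isTorsionFree_of_dim_le_one _ h1 _
  · have h2 : (2 : WithBot ℕ∞) ≤ ringKrullDim (S.presheaf.stalk x) :=
      Groth.Agent.S16489.withBot_enat_two_le_of_not_le_one h1
    apply Groth.Agent.Lib.Helper73.MCM.free_of_le_depth
    have hs : ((IsLocalRing.maximalIdeal (S.presheaf.stalk x)).spanFinrank : WithBot ℕ∞) =
        ringKrullDim (S.presheaf.stalk x) := IsRegularLocalRing.spanFinrank_maximalIdeal
    have hle2 : ringKrullDim (S.presheaf.stalk x) ≤ 2 :=
      (Groth.Agent.S0220.ringKrullDim_stalk_le_topologicalKrullDim S x).trans hdim.le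
    have hle : ((IsLocalRing.maximalIdeal (S.presheaf.stalk x)).spanFinrank : ℕ∞) ≤ 2 := by
      rw [← hs] at hle2
      have : (((IsLocalRing.maximalIdeal (S.presheaf.stalk x)).spanFinrank : ℕ∞) : WithBot ℕ∞) ≤
          ((2 : ℕ∞) : WithBot ℕ∞) := hle2
      exact WithBot.coe_le_coe.mp this
    refine hle.trans ?_
    refine Groth.Agent.Lib.Helper45.RefHullDepth.two_le_depth_of_shortExact SC hSC hKc hFc hQc x
      ?_ ?_
    · refine (Groth.Agent.Lib.Helper80.NormalSheaf.two_le_depth_self_of_regular _ h2).trans ?_
      have e : (F.presheaf.stalk x) ≃ₗ[S.presheaf.stalk x]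
          (Fin (Module.finrank (S.presheaf.stalk x) (F.presheaf.stalk x)) → S.presheaf.stalk x) :=
        (Module.finBasis (S.presheaf.stalk x) (F.presheaf.stalk x)).equivFun
      change LocCoh.depth _ _ ≤ LocCoh.depth _ (F.presheaf.stalk x)
      rw [LocCoh.depth, LocCoh.depth, Groth.Agent.Lib.Helper29.idealDepth_congr _ e]
      exact Groth.Agent.Lib.Helper93.Depth.idealDepth_le_pi_fin _ _ _
    · change (1 : ℕ∞) ≤ LocCoh.depth _ (((Coh.push j).obj M).presheaf.stalk x)
      by_cases hx : x ∈ Set.range j
      · obtain ⟨y, rfl⟩ := hx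
        have := hMtf y
        exact Groth.Agent.Lib.Helper80.PushStalk.one_le_depth_push_of_isTorsionFree j M y
          (one_le_dim_stalk_of_two_le j hdim hC y h2)
      · have := Groth.Agent.Lib.Helper49.ProperSupport.subsingleton_stalk_pushforward j M x hx
        unfold LocCoh.depth
        rw [Groth.Agent.Lib.Helper93.Depth.one_le_idealDepth_iff]
        left
        exact Subsingleton.elim _ _

end Groth.Agent.S15848
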