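import Groth.Statements.S1585
import Groth.Agent.Lib.Helper38.FieldNagata
import Groth.Agent.Lib.Helper38.NormOpenIso
import Groth.Agent.Lib.Helper38.NormSch3

set_option autoImplicit false
universe u
open CategoryTheory CategoryTheory.Limits AlgebraicGeometry
open Variety

namespace Groth.Agent.S1585

/-- Part (1): and (4), for an integral scheme locally of finite type over a field: the normalization
morphism ν (normalization of X in its function field) is finite, dominant and an isomorphism over a
nonempty open, and the normalization is an integral scheme all of whose local rings are integrally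
closed domains. (The quasi-compactness/quasi-separatedness binders on Spec K(X) → X always hold;
they are needed only to form Mathlib's relative normalization.) -/
theorem result (k : Type u) [Field k] (X : Scheme.{u}) [X.Over (Spec (CommRingCat.of k))] [IsIntegral X] [LocallyOfFiniteType (X ↘ (Spec (CommRingCat.of k)))]
    [QuasiCompact (X.fromSpecStalk (genericPoint X))] [QuasiSeparated (X.fromSpecStalk (genericPoint X))] :
    IsFinite (Curv2.normalizationι X) ∧ IsDominant (Curv2.normalizationι X) ∧
      (∃ V : X.Opens, (V : Set X).Nonempty ∧ IsIso (Curv2.normalizationι X ∣_ V)) ∧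
      IsIntegral (Curv2.normalization X) ∧ Pi1.IsNormalScheme (Curv2.normalization X) := by
  have hfin : IsFinite (Curv2.normalizationι X) :=
    Groth.Agent.Lib.Helper38.NormSch.isFinite_of_isN2 X (fun U hU hne =>
      Groth.Agent.Lib.Helper38.FieldNagata.isN2_affineOpens k (X ↘ (Spec (CommRingCat.of k))) U hU hne)
  refine ⟨hfin, ⟨(Groth.Agent.Lib.Helper38.NormSch.surjective X).denseRange⟩, ?_, inferInstance,
    Groth.Agent.Lib.Helper38.NormSch.isNormalScheme X⟩
  obtain ⟨U, hU, hxU⟩ := Groth.Agent.Lib.Helper38.NormSch.exists_affine X (genericPoint X)
  haveI : Nonempty U := ⟨⟨_, hxU⟩⟩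
  exact Groth.Agent.Lib.Helper38.NormSch.exists_isIso_morphismRestrict_of_finite X hU
    (hfin.finite_app U hU)

end Groth.Agent.S1585
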