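import Groth.Statements.S15892
import Groth.Agent.Lib.Helper77.CartExact1
import Groth.Agent.Lib.Helper77.CartExact3

set_option autoImplicit false
universe u
open CartDual

namespace Groth.Agent.S15892

/-- Let R be a Noetherian ring and A', A, A'' commutative and cocommutative Hopf algebras over R, each
finitely generated and projective as an R-module (finite flat commutative R-groups G' = Spec A', G =
Spec A, G'' = Spec A''). Let f : A'' → A be a bialgebra homomorphism which is faithfully flat as a
ring map (the comorphism of a faithfully flat homomorphism π : G → G'') and g : A → A' a surjective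
bialgebra homomorphism whose kernel is the ideal of A generated by the image under f of the
augmentation ideal of A'' (the comorphism of a closed immersion ι : G' → G identifying G' with the
kernel of π), so that 1 → G' → G → G'' → 1 is a short exact sequence of finite flat R-groups. Then
the Cartier dual sequence 1 → G''^D → G^D → G'^D → 1 is again short exact: the transpose Hom_R(A',
R) → Hom_R(A, R) of g is a faithfully flat ring map between the dual Hopf algebras, and the
transpose Hom_R(A, R) → Hom_R(A'', R) of f is surjective with kernel the ideal generated by the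
image, under the transpose of g, of the augmentation ideal of Hom_R(A', R). -/
theorem result (R : Type u) [CommRing R] [IsNoetherianRing R]
    (A' A A'' : Type u) [CommRing A'] [HopfAlgebra R A'] [Coalgebra.IsCocomm R A'] [Module.Finite R A']
    [Module.Projective R A'] [CommRing A] [HopfAlgebra R A] [Coalgebra.IsCocomm R A] [Module.Finite R A]
    [Module.Projective R A] [CommRing A''] [HopfAlgebra R A''] [Coalgebra.IsCocomm R A''] [Module.Finite R A'']
    [Module.Projective R A''] (f : A'' →ₐc[R] A) (hf : (f : A'' →ₐ[R] A).toRingHom.FaithfullyFlat)
    (g : A →ₐc[R] A') (hg : Function.Surjective g)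
    (hker : RingHom.ker (g : A →ₐ[R] A') = Ideal.map (f : A'' →ₐ[R] A) (RingHom.ker (Bialgebra.counitAlgHom R A''))) :
    (CartDual.transpose R g : CartDual.D R A' →ₐ[R] CartDual.D R A).toRingHom.FaithfullyFlat ∧
      Function.Surjective (CartDual.transpose R f) ∧
      RingHom.ker (CartDual.transpose R f : CartDual.D R A →ₐ[R] CartDual.D R A'') =
        Ideal.map (CartDual.transpose R g : CartDual.D R A' →ₐ[R] CartDual.D R A)
          (RingHom.ker (Bialgebra.counitAlgHom R (CartDual.D R A'))) := by
  classical
  obtain ⟨σ, hσ0, hσ1⟩ := Groth.Agent.Lib.Helper77.CartExact.exists_retraction (f : A'' →ₐ[R] A) hf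
  have hσ : ∀ (c : A'') (a : A), σ (f c * a) = c * σ a := hσ0
  have hgf : ∀ c, g (f c) = algebraMap R A' (Coalgebra.counit (R := R) c) := by
    intro c
    have h1 : f c - algebraMap R A (Coalgebra.counit (R := R) c) ∈
        RingHom.ker (g : A →ₐ[R] A') := by
      rw [hker]
      have h2 : f c - algebraMap R A (Coalgebra.counit (R := R) c) =
          (f : A'' →ₐ[R] A) (c - algebraMap R A'' (Coalgebra.counit (R := R) c)) := by
        rw [map_sub, AlgHom.commutes]
        rfl
      rw [h2]
      apply Ideal.mem_map_of_mem
      rw [RingHom.mem_ker, map_sub, Bialgebra.counitAlgHom_apply, Bialgebra.counitAlgHom_apply,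
        Bialgebra.counit_algebraMap, sub_self]
    rw [RingHom.mem_ker, map_sub, AlgHom.commutes, sub_eq_zero] at h1
    exact h1
  obtain ⟨π, hπ⟩ := Groth.Agent.Lib.Helper77.CartExact.exists_pi f g σ hσ hg hker
  have hπ0 : ∀ z, π (LinearMap.rTensor A (g : A →ₐ[R] A').toLinearMap z) =
      Groth.Agent.Lib.Helper77.CartExact.pi0 f σ z := by
    intro z
    induction z using TensorProduct.induction_on with
    | zero => simp
    | add x y hx hy => simp only [map_add, hx, hy]
    | tmul b a => exact hπ b a
  let i : D R A →ₗ[R] TensorProduct R (D R A') (D R A) :=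
    (Groth.Agent.Lib.Helper77.CartExact.E R A' A).symm.toLinearMap ∘ₗ π.dualMap ∘ₗ
      (toDual R A).toLinearMap
  have hEi : ∀ t : D R A, Groth.Agent.Lib.Helper77.CartExact.E R A' A (i t) = t.ofConv ∘ₗ π := by
    intro t
    simp only [i, LinearMap.coe_comp, LinearEquiv.coe_coe, Function.comp_apply,
      LinearEquiv.apply_symm_apply]
    rfl
  have hri : ∀ t : D R A, Groth.Agent.Lib.Helper77.CartExact.mulMap g (i t) = t := by
    intro t
    apply WithConv.ext
    apply LinearMap.ext
    intro a
    show Groth.Agent.Lib.Helper77.CartExact.mulMap g (i t) a = t a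
    rw [Groth.Agent.Lib.Helper77.CartExact.mulMap_apply, hEi,
      Groth.Agent.Lib.Helper77.CartExact.lam_apply, LinearMap.comp_apply, hπ0,
      Groth.Agent.Lib.Helper77.CartExact.pi0_comul f σ hσ1]
  have hismul : ∀ (s : D R A') (t : D R A), i (CartDual.transpose R g s * t) = s • i t := by
    intro s t
    apply (Groth.Agent.Lib.Helper77.CartExact.E R A' A).injective
    apply TensorProduct.ext'
    intro x a
    rw [hEi, Groth.Agent.Lib.Helper77.CartExact.E_smul, hEi, LinearMap.comp_apply]
    have h1 : (CartDual.transpose R g s * t) (π (TensorProduct.tmul R x a)) =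
        Groth.Agent.Lib.Helper77.CartExact.E R A' A (TensorProduct.tmul R s t)
          (Groth.Agent.Lib.Helper77.CartExact.lam g (π (TensorProduct.tmul R x a))) := by
      rw [← Groth.Agent.Lib.Helper77.CartExact.mulMap_apply,
        Groth.Agent.Lib.Helper77.CartExact.mulMap_tmul]
    show (CartDual.transpose R g s * t) (π (TensorProduct.tmul R x a)) = _
    rw [h1, Groth.Agent.Lib.Helper77.CartExact.lam_pi f g σ hgf hg π hπ]
    generalize (TensorProduct.assoc R A' A' A (TensorProduct.tmul R (Coalgebra.comul x) a)) = z
    induction z using TensorProduct.induction_on with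
    | zero => simp
    | add p q hp hq => simp only [map_add, hp, hq]
    | tmul p q =>
      simp only [LinearMap.lTensor_tmul, Groth.Agent.Lib.Helper77.CartExact.E_tmul,
        TensorProduct.map_tmul, TensorProduct.lid_tmul, smul_eq_mul, LinearMap.comp_apply]
  refine ⟨?_, ?_, ?_⟩
  · rw [RingHom.FaithfullyFlat.iff_flat_and_comap_surjective]
    constructor
    · let _ : Algebra (D R A') (D R A) :=
        (CartDual.transpose R g : D R A' →ₐ[R] D R A).toRingHom.toAlgebra
      show Module.Flat (D R A') (D R A)
      let iS : D R A →ₗ[D R A'] TensorProduct R (D R A') (D R A) :=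
        { toFun := i
          map_add' := i.map_add
          map_smul' := fun s t => hismul s t }
      let rS : TensorProduct R (D R A') (D R A) →ₗ[D R A'] D R A :=
        { toFun := Groth.Agent.Lib.Helper77.CartExact.mulMap g
          map_add' := (Groth.Agent.Lib.Helper77.CartExact.mulMap g).map_add
          map_smul' := by
            intro s w
            induction w using TensorProduct.induction_on with
            | zero => simp
            | add p q hp hq =>
              rw [smul_add, map_add, hp, hq, map_add, smul_add]
            | tmul s' t' =>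
              rw [TensorProduct.smul_tmul', Groth.Agent.Lib.Helper77.CartExact.mulMap_tmul,
                Groth.Agent.Lib.Helper77.CartExact.mulMap_tmul, smul_eq_mul, map_mul, mul_assoc]
              rfl }
      exact Module.Flat.of_retract iS rS (LinearMap.ext (fun t => hri t))
    · apply RingHom.IsIntegral.comap_surjective
      · apply RingHom.Finite.to_isIntegral
        let _ : Algebra (D R A') (D R A) :=
          (CartDual.transpose R g : D R A' →ₐ[R] D R A).toRingHom.toAlgebra
        have : IsScalarTower R (D R A') (D R A) := IsScalarTower.of_algebraMap_eq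
          (fun r => ((CartDual.transpose R g : D R A' →ₐ[R] D R A).commutes r).symm)
        show Module.Finite (D R A') (D R A)
        exact Module.Finite.of_restrictScalars_finite R _ _
      · intro s s' h
        apply WithConv.ext
        apply LinearMap.ext
        intro x
        obtain ⟨b, rfl⟩ := hg x
        exact congrArg (fun t : D R A => t b) h
  · intro u
    refine ⟨WithConv.toConv (u.ofConv ∘ₗ σ), ?_⟩
    apply WithConv.ext
    apply LinearMap.ext
    intro c
    show u.ofConv (σ (f c)) = u.ofConv c
    have h1 := hσ c 1
    rw [mul_one, hσ1, mul_one] at h1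
    rw [h1]
  · apply le_antisymm
    · intro t ht
      have ht' : ∀ c, t (f c) = 0 := fun c => congrArg (fun v : D R A'' => v c) ht
      have h0 : Groth.Agent.Lib.Helper77.CartExact.lidMap (A' := A') (i t) = 0 := by
        apply WithConv.ext
        apply LinearMap.ext
        intro a
        show Groth.Agent.Lib.Helper77.CartExact.lidMap (A' := A') (i t) a = 0
        rw [Groth.Agent.Lib.Helper77.CartExact.lidMap_apply, hEi, LinearMap.comp_apply,
          ← map_one g, hπ, Groth.Agent.Lib.Helper77.CartExact.pi0_one_tmul]
        exact ht' (σ a)
      have h1 := Groth.Agent.Lib.Helper77.CartExact.mulMap_sub_lidMap_mem g (i t)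
      rwa [h0, sub_zero, hri] at h1
    · rw [Ideal.map_le_iff_le_comap]
      intro s hs
      rw [Ideal.mem_comap, RingHom.mem_ker]
      have hs' : s.ofConv 1 = 0 := hs
      apply WithConv.ext
      apply LinearMap.ext
      intro c
      show s.ofConv (g (f c)) = 0
      rw [hgf, Algebra.algebraMap_eq_smul_one, map_smul, hs', smul_zero]

end Groth.Agent.S15892
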