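import Groth.Statements.S15895
import Mathlib
import Groth.Agent.Lib.Helper77.CartDualEval

set_option autoImplicit false
universe u
open scoped TensorProduct
open Versch

namespace Groth.Agent.S15895

section helpers
open TensorProduct
set_option linter.unusedSectionVars false
set_option linter.unusedSimpArgs false
variable (p : ℕ) [hp : Fact p.Prime] (R : Type u) [CommRing R] [CharP R p]

theorem zmod_pow_p (g : Multiplicative (ZMod p)) : g ^ p = 1 := by
  have : (p : ℕ) • (Multiplicative.toAdd g) = 0 := by
    rw [nsmul_eq_mul, CharP.cast_eq_zero, zero_mul]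
  calc g ^ p = Multiplicative.ofAdd ((p : ℕ) • Multiplicative.toAdd g) := rfl
    _ = 1 := by rw [this]; rfl

theorem monoidAlg_pow_p (u : MonoidAlgebra R (Multiplicative (ZMod p))) :
    u ^ p = algebraMap R (MonoidAlgebra R (Multiplicative (ZMod p))) ((Coalgebra.counit (R := R) u) ^ p) := by
  have hp0 : p ≠ 0 := (Fact.out : p.Prime).ne_zero
  have : CharP (MonoidAlgebra R (Multiplicative (ZMod p))) p :=
    charP_of_injective_algebraMap
      (Bialgebra.algebraMap_injective (R := R) (MonoidAlgebra R (Multiplicative (ZMod p)))) p
  have h : (frobenius (MonoidAlgebra R (Multiplicative (ZMod p))) p) =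
      (frobenius (MonoidAlgebra R (Multiplicative (ZMod p))) p).comp
        ((algebraMap R (MonoidAlgebra R (Multiplicative (ZMod p)))).comp
          (Bialgebra.counitAlgHom R (MonoidAlgebra R (Multiplicative (ZMod p)))).toRingHom) := by
    apply MonoidAlgebra.ringHom_ext
    · intro r
      rw [RingHom.comp_apply, RingHom.comp_apply, frobenius_def, frobenius_def]
      simp only [AlgHom.toRingHom_eq_coe, RingHom.coe_coe,
        Bialgebra.counitAlgHom_apply, MonoidAlgebra.counit_single]
      rfl
    · intro g
      rw [RingHom.comp_apply, RingHom.comp_apply, frobenius_def, frobenius_def]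
      simp only [AlgHom.toRingHom_eq_coe, RingHom.coe_coe,
        Bialgebra.counitAlgHom_apply, MonoidAlgebra.counit_single, MonoidAlgebra.single_pow, zmod_pow_p,
        one_pow]
      simp [MonoidAlgebra.one_def]
  have := RingHom.congr_fun h u
  rw [RingHom.comp_apply, RingHom.comp_apply, frobenius_def, frobenius_def] at this
  simp only [AlgHom.toRingHom_eq_coe, RingHom.coe_coe, Bialgebra.counitAlgHom_apply] at this
  rw [this, map_pow]


theorem ddual_pow_p
    (y : CartDual.D R (CartDual.D R (MonoidAlgebra R (Multiplicative (ZMod p))))) :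
    y ^ p = algebraMap R (CartDual.D R (CartDual.D R (MonoidAlgebra R (Multiplicative (ZMod p)))))
      ((y 1) ^ p) := by
  obtain ⟨u, rfl⟩ := Groth.Agent.Lib.Helper77.cartDual_eval_surjective R
    (MonoidAlgebra R (Multiplicative (ZMod p))) y
  have h1 : (CartDual.eval R (MonoidAlgebra R (Multiplicative (ZMod p))) u) 1 =
      Coalgebra.counit (R := R) u := by
    rw [CartDual.eval_apply, LinearMap.convOne_apply]
    rfl
  rw [h1, ← map_pow, monoidAlg_pow_p]
  exact AlgHomClass.commutes (CartDual.eval R (MonoidAlgebra R (Multiplicative (ZMod p)))) _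

theorem trivial_isVerschiebung :
    Versch.IsVerschiebung p R (CartDual.D R (MonoidAlgebra R (Multiplicative (ZMod p))))
      (((Algebra.TensorProduct.includeRight (R := R)
            (A := CartDual.D R (MonoidAlgebra R (Multiplicative (ZMod p))))
            (B := FrobAlg.Twist p R)).toRingHom.comp (FrobAlg.toTwist p R).toRingHom).comp
          (Bialgebra.counitAlgHom R (CartDual.D R (MonoidAlgebra R (Multiplicative (ZMod p))))).toRingHom) := by
  rw [Versch.isVerschiebung_iff]
  intro a x
  simp only [RingHom.comp_apply, AlgHom.toRingHom_eq_coe, RingHom.coe_coe, RingEquiv.toRingHom_eq_coe,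
    Algebra.TensorProduct.includeRight_apply, Bialgebra.counitAlgHom_apply]
  rw [Versch.evTw_tmul', ddual_pow_p, LinearMap.convAlgebraMap_apply, ← map_mul]
  simp

end helpers

/-- Let p be a prime, R a commutative ring of characteristic p and B = Hom_R(R[ℤ/p], R) the dual Hopf
algebra of the group algebra of the cyclic group of order p: the Hopf algebra of the constant group
scheme ℤ/p over Spec R (the Cartier dual of μ_p). Let v : B → B ⊗_R R^(Frob) be the comorphism of
the Verschiebung V : (ℤ/p)^(p) → ℤ/p (the ring map whose transpose under the canonical pairing is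
the relative Frobenius of the dual Hopf algebra of B). Then V is the trivial homomorphism: v is the
composite of the counit ε : B → R, the identity of underlying rings R → R^(Frob) and the inclusion
of the twisted factor R^(Frob) → B ⊗_R R^(Frob), i.e. v(b) = 1 ⊗ ε(b). -/
theorem result (p : ℕ) [Fact p.Prime] (R : Type u) [CommRing R]
    [CharP R p] (v : CartDual.D R (MonoidAlgebra R (Multiplicative (ZMod p))) →+* FrobAlg.BaseChange p R (CartDual.D R (MonoidAlgebra R (Multiplicative (ZMod p)))))
    (hv : Versch.IsVerschiebung p R (CartDual.D R (MonoidAlgebra R (Multiplicative (ZMod p)))) v) :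
    v = ((Algebra.TensorProduct.includeRight (R := R) (A := CartDual.D R (MonoidAlgebra R (Multiplicative (ZMod p))))
            (B := FrobAlg.Twist p R)).toRingHom.comp (FrobAlg.toTwist p R).toRingHom).comp
          (Bialgebra.counitAlgHom R (CartDual.D R (MonoidAlgebra R (Multiplicative (ZMod p))))).toRingHom := by
  exact Versch.IsVerschiebung.unique p R _ hv (trivial_isVerschiebung p R)

end Groth.Agent.S15895
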