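import Groth.Statements.S15897
import Mathlib

set_option autoImplicit false
universe u v
open CartDual

namespace Groth.Agent.S15897

/-- Let R be a commutative ring and A a commutative Hopf algebra over R which is finitely generated and
projective as an R-module (a finite locally free R-group scheme G = Spec A, not assumed
commutative). If the convolution product on the dual Hopf algebra Hom_R(A, R) is commutative, then A
is cocommutative, i.e. G is a commutative group scheme. (The dual Hopf algebra is commutative
exactly when A is cocommutative; the other implication is immediate and not stated. The published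
notes work over a Noetherian base ring; the row allows any commutative base ring.) -/
theorem result (R : Type u) [CommRing R] (A : Type v) [CommRing A] [HopfAlgebra R A]
    [Module.Finite R A] [Module.Projective R A] (h : ∀ x y : CartDual.D R A, x * y = y * x) :
    Coalgebra.IsCocomm R A := by
  open TensorProduct in
  constructor
  apply LinearMap.ext
  intro a
  rw [LinearMap.comp_apply]
  rw [← sub_eq_zero]
  rw [← Module.forall_dual_apply_eq_zero_iff R]
  intro φ
  obtain ⟨t, rfl⟩ := (CartDual.ev₂ R A).surjective φ
  rw [map_sub, sub_eq_zero]
  induction t using TensorProduct.induction_on with
  | zero => simp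
  | add t t' ht ht' => simp only [map_add, LinearMap.add_apply, ht, ht']
  | tmul x y =>
    -- left: ev₂ (x ⊗ y) (comm (Δ a)) = (y * x) a ; right: ev₂ (x ⊗ y) (Δ a) = (x * y) a
    have key : ∀ (x y : CartDual.D R A) (u : A ⊗[R] A),
        CartDual.ev₂ R A (x ⊗ₜ y) (TensorProduct.comm R A A u) = CartDual.ev₂ R A (y ⊗ₜ x) u := by
      intro x y u
      induction u using TensorProduct.induction_on with
      | zero => simp
      | add u u' hu hu' => simp only [map_add, hu, hu']
      | tmul b c => simp [mul_comm]
    have conv : ∀ (x y : CartDual.D R A) (a : A),
        CartDual.ev₂ R A (x ⊗ₜ y) (Coalgebra.comul (R := R) a) = (x * y) a := by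
      intro x y a
      rw [LinearMap.convMul_apply]
      generalize Coalgebra.comul (R := R) a = u
      induction u using TensorProduct.induction_on with
      | zero => simp
      | add u u' hu hu' => simp only [map_add, hu, hu']
      | tmul b c => simp [CartDual.coe_apply]
    rw [LinearEquiv.coe_coe, key, conv, conv, h]

end Groth.Agent.S15897
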