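import Groth.Statements.S15905
import Mathlib

set_option autoImplicit false

open Surf
open W4c3severiratdp

namespace Groth.Agent.S15905

/-- value attached to an index -/
def tv (i : ℕ) : ℤ := (i : ℤ) - 11

/-- counting function for the number of integer vectors of length `n` with sum of squares `N` and
sum `M` (valid for `N < 144`). -/
def cnt : ℕ → ℤ → ℤ → ℕ
  | 0, N, M => if N = 0 ∧ M = 0 then 1 else 0
  | (n + 1), N, M => if N < 0 ∨ ((n : ℤ) + 1) * N < M * M then 0 else
      ∑ i ∈ Finset.range 23, cnt n (N - tv i * tv i) (M - tv i)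

/-- `vecCons t` as an embedding -/
def consEmb (n : ℕ) (t : ℤ) : (Fin n → ℤ) ↪ (Fin (n + 1) → ℤ) :=
  ⟨fun c => Matrix.vecCons t c, fun c d h => by
    have := congrArg Matrix.vecTail h
    simpa using this⟩

@[simp] theorem consEmb_apply (n : ℕ) (t : ℤ) (c : Fin n → ℤ) :
    consEmb n t c = Matrix.vecCons t c := rfl

/-- the finset of solutions -/
def sol : (n : ℕ) → ℤ → ℤ → Finset (Fin n → ℤ)
  | 0, N, M => if N = 0 ∧ M = 0 then Finset.univ else ∅
  | (n + 1), N, M => if N < 0 ∨ ((n : ℤ) + 1) * N < M * M then ∅ else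
      (Finset.range 23).biUnion fun i =>
        (sol n (N - tv i * tv i) (M - tv i)).map (consEmb n (tv i))

theorem tv_injective : Function.Injective tv := by
  intro i j h
  unfold tv at h
  omega

theorem card_biUnion_cons (n K : ℕ) (f : ℕ → ℤ) (hf : Function.Injective f)
    (A : ℕ → Finset (Fin n → ℤ)) :
    ((Finset.range K).biUnion fun i => (A i).map (consEmb n (f i))).card =
      ∑ i ∈ Finset.range K, (A i).card := by
  rw [Finset.card_biUnion]
  · apply Finset.sum_congr rfl
    intro i _
    rw [Finset.card_map]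
  · intro i _ j _ hij
    rw [Function.onFun, Finset.disjoint_left]
    intro x hx hx'
    rw [Finset.mem_map] at hx hx'
    obtain ⟨c, _, rfl⟩ := hx
    obtain ⟨d, _, hd⟩ := hx'
    have := congrFun hd 0
    simp only [consEmb_apply, Matrix.cons_val_zero] at this
    exact hij (hf this.symm)

theorem card_sol (n : ℕ) (N M : ℤ) : (sol n N M).card = cnt n N M := by
  induction n generalizing N M with
  | zero =>
    unfold sol cnt
    split_ifs
    · simp
    · simp
  | succ n ih =>
    rw [sol, cnt]
    split_ifs with h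
    · simp
    · rw [card_biUnion_cons n 23 tv tv_injective]
      apply Finset.sum_congr rfl
      intro i _
      exact ih _ _

theorem sum_succ_mul (n : ℕ) (b : Fin (n + 1) → ℤ) :
    ∑ i, b i * b i = b 0 * b 0 + ∑ i : Fin n, Matrix.vecTail b i * Matrix.vecTail b i := by
  rw [Fin.sum_univ_succ]
  rfl

theorem sum_succ' (n : ℕ) (b : Fin (n + 1) → ℤ) :
    ∑ i, b i = b 0 + ∑ i : Fin n, Matrix.vecTail b i := by
  rw [Fin.sum_univ_succ]
  rfl

theorem cs (n : ℕ) (b : Fin n → ℤ) : (∑ i, b i) * (∑ i, b i) ≤ (n : ℤ) * ∑ i, b i * b i := by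
  have := sq_sum_le_card_mul_sum_sq (s := (Finset.univ : Finset (Fin n))) (f := b)
  simp only [Finset.card_univ, Fintype.card_fin, sq] at this
  exact_mod_cast this

theorem mem_sol (n : ℕ) (N M : ℤ) (hN : N < 144) (b : Fin n → ℤ) :
    b ∈ sol n N M ↔ (∑ i, b i * b i = N ∧ ∑ i, b i = M) := by
  induction n generalizing N M with
  | zero =>
    unfold sol
    split_ifs with h
    · constructor
      · intro _
        simp [h.1, h.2]
      · intro _
        exact Finset.mem_univ _
    · simp only [Finset.notMem_empty, Finset.univ_eq_empty, Finset.sum_empty, false_iff]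
      intro h'
      exact h ⟨h'.1.symm, h'.2.symm⟩
  | succ n ih =>
    rw [sol]
    constructor
    · intro hb
      split_ifs at hb with h
      · simp at hb
      · rw [Finset.mem_biUnion] at hb
        obtain ⟨i, _, hb⟩ := hb
        rw [Finset.mem_map] at hb
        obtain ⟨c, hc, rfl⟩ := hb
        have hN' : N - tv i * tv i < 144 := by nlinarith [mul_self_nonneg (tv i)]
        rw [ih _ _ hN'] at hc
        rw [sum_succ_mul, sum_succ']
        simp only [consEmb_apply, Matrix.cons_val_zero, Matrix.tail_cons]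
        constructor
        · rw [hc.1]; ring
        · rw [hc.2]; ring
    · rintro ⟨h1, h2⟩
      have hnn : 0 ≤ ∑ i : Fin n, Matrix.vecTail b i * Matrix.vecTail b i :=
        Finset.sum_nonneg fun i _ => mul_self_nonneg _
      have h1' := h1
      rw [sum_succ_mul] at h1'
      have hN0 : 0 ≤ N := by nlinarith [mul_self_nonneg (b 0)]
      have hcs := cs (n + 1) b
      rw [h1, h2] at hcs
      have hnot : ¬ (N < 0 ∨ ((n : ℤ) + 1) * N < M * M) := by
        push_neg
        refine ⟨hN0, ?_⟩
        push_cast at hcs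
        exact hcs
      rw [if_neg hnot, Finset.mem_biUnion]
      have hb0 : b 0 * b 0 < 144 := by nlinarith
      have hlo : -11 ≤ b 0 := by nlinarith
      have hhi : b 0 ≤ 11 := by nlinarith
      refine ⟨(b 0 + 11).toNat, ?_, ?_⟩
      · rw [Finset.mem_range]
        omega
      · have htv : tv (b 0 + 11).toNat = b 0 := by
          unfold tv
          omega
        rw [htv, Finset.mem_map]
        refine ⟨Matrix.vecTail b, ?_, ?_⟩
        · have hN' : N - b 0 * b 0 < 144 := by nlinarith [mul_self_nonneg (b 0)]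
          rw [ih _ _ hN']
          constructor
          · linarith
          · rw [sum_succ'] at h2
            linarith
        · rw [consEmb_apply]
          exact Matrix.cons_head_tail b

/-- the finset of conic classes -/
def top (δ : ℕ) : Finset (DP δ) :=
  (Finset.range 12).biUnion fun a =>
    (sol δ ((a : ℤ) * (a : ℤ)) (3 * (a : ℤ) - 2)).map (consEmb δ (a : ℤ))

/-- the count -/
def total (δ : ℕ) : ℕ := ∑ a ∈ Finset.range 12, cnt δ ((a : ℤ) * (a : ℤ)) (3 * (a : ℤ) - 2)

theorem card_top (δ : ℕ) : (top δ).card = total δ := by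
  unfold top total
  rw [card_biUnion_cons δ 12 (fun a => (a : ℤ)) Nat.cast_injective
    (fun a => sol δ ((a : ℤ) * (a : ℤ)) (3 * (a : ℤ) - 2))]
  apply Finset.sum_congr rfl
  intro a _
  exact card_sol _ _ _

theorem isConic_iff {δ : ℕ} (v : DP δ) :
    IsConic v ↔ (∑ i : Fin δ, Matrix.vecTail v i * Matrix.vecTail v i = v 0 * v 0 ∧
      ∑ i : Fin δ, Matrix.vecTail v i = 3 * v 0 - 2) := by
  unfold IsConic form canon
  simp only [Fin.cases_zero, Fin.cases_succ, neg_mul, one_mul, Finset.sum_neg_distrib, sub_neg_eq_add]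
  constructor
  · rintro ⟨h1, h2⟩
    constructor
    · have : ∑ i : Fin δ, Matrix.vecTail v i * Matrix.vecTail v i
          = ∑ i : Fin δ, v i.succ * v i.succ := rfl
      rw [this]; linarith
    · have : ∑ i : Fin δ, Matrix.vecTail v i = ∑ i : Fin δ, v i.succ := rfl
      rw [this]; linarith
  · rintro ⟨h1, h2⟩
    have e1 : ∑ i : Fin δ, Matrix.vecTail v i * Matrix.vecTail v i
          = ∑ i : Fin δ, v i.succ * v i.succ := rfl
    have e2 : ∑ i : Fin δ, Matrix.vecTail v i = ∑ i : Fin δ, v i.succ := rfl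
    rw [e1] at h1
    rw [e2] at h2
    constructor <;> linarith

theorem conic_eq_top (δ : ℕ) (hδ : δ ≤ 8) : {v : DP δ | IsConic v} = ↑(top δ) := by
  ext v
  simp only [Set.mem_ofPred_eq, Finset.mem_coe]
  rw [isConic_iff]
  unfold top
  rw [Finset.mem_biUnion]
  constructor
  · rintro ⟨h1, h2⟩
    have hcs := cs δ (Matrix.vecTail v)
    rw [h1, h2] at hcs
    have hδ' : (δ : ℤ) ≤ 8 := by exact_mod_cast hδ
    have h8 : (3 * v 0 - 2) * (3 * v 0 - 2) ≤ 8 * (v 0 * v 0) := by
      nlinarith [mul_self_nonneg (v 0)]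
    have hlo : 1 ≤ v 0 := by nlinarith
    have hhi : v 0 ≤ 11 := by nlinarith
    refine ⟨(v 0).toNat, ?_, ?_⟩
    · rw [Finset.mem_range]; omega
    · have hv : (((v 0).toNat : ℕ) : ℤ) = v 0 := by omega
      rw [hv, Finset.mem_map]
      refine ⟨Matrix.vecTail v, ?_, ?_⟩
      · rw [mem_sol _ _ _ (by nlinarith)]
        exact ⟨h1, h2⟩
      · rw [consEmb_apply]
        exact Matrix.cons_head_tail v
  · rintro ⟨a, ha, hv⟩
    rw [Finset.mem_range] at ha
    rw [Finset.mem_map] at hv
    obtain ⟨c, hc, rfl⟩ := hv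
    have ha' : (a : ℤ) ≤ 11 := by exact_mod_cast Nat.lt_succ_iff.1 ha
    have ha0 : (0 : ℤ) ≤ (a : ℤ) := by positivity
    rw [mem_sol _ _ _ (by nlinarith)] at hc
    simp only [consEmb_apply, Matrix.cons_val_zero, Matrix.tail_cons]
    exact hc

theorem ncard_conic (δ : ℕ) (hδ : δ ≤ 8) : {v : DP δ | IsConic v}.ncard = total δ := by
  rw [conic_eq_top δ hδ, Set.ncard_coe_finset, card_top]

theorem total8 : total 8 = 2160 := by decide +kernel
theorem total7 : total 7 = 126 := by decide +kernel
theorem total6 : total 6 = 27 := by decide +kernel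
theorem total5 : total 5 = 10 := by decide +kernel
theorem total4 : total 4 = 5 := by decide +kernel
theorem total3 : total 3 = 3 := by decide +kernel
theorem total2 : total 2 = 2 := by decide +kernel

theorem result :
    {v : DP 8 | IsConic v}.ncard = 2160 ∧ {v : DP 7 | IsConic v}.ncard = 126 ∧
      {v : DP 6 | IsConic v}.ncard = 27 ∧ {v : DP 5 | IsConic v}.ncard = 10 ∧
      {v : DP 4 | IsConic v}.ncard = 5 ∧ {v : DP 3 | IsConic v}.ncard = 3 ∧
      {v : DP 2 | IsConic v}.ncard = 2 := by
  refine ⟨?_, ?_, ?_, ?_, ?_, ?_, ?_⟩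
  · rw [ncard_conic 8 (by norm_num), total8]
  · rw [ncard_conic 7 (by norm_num), total7]
  · rw [ncard_conic 6 (by norm_num), total6]
  · rw [ncard_conic 5 (by norm_num), total5]
  · rw [ncard_conic 4 (by norm_num), total4]
  · rw [ncard_conic 3 (by norm_num), total3]
  · rw [ncard_conic 2 (by norm_num), total2]

end Groth.Agent.S15905
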