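import Groth.Statements.S15906
import Groth.Agent.S15905
import Mathlib

set_option autoImplicit false
open Surf
open W4c3severiratdp

namespace Groth.Agent.S15906

open Groth.Agent.S15905 (tv cs isConic_iff sum_succ_mul sum_succ')

/-- enumerator of antitone solutions, as lists -/
def enum : ℕ → ℤ → ℤ → ℤ → List (List ℤ)
  | 0, N, M, _ => if N = 0 ∧ M = 0 then [[]] else []
  | (n + 1), N, M, ub => if N < 0 ∨ ((n : ℤ) + 1) * N < M * M then [] else
      (List.range 23).flatMap fun i =>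
        if tv i ≤ ub then (enum n (N - tv i * tv i) (M - tv i) (tv i)).map (fun l => tv i :: l)
        else []

theorem mem_enum (n : ℕ) (N M ub : ℤ) (hN : N < 144) (c : Fin n → ℤ) (hanti : Antitone c)
    (hub : ∀ i, c i ≤ ub) (h1 : ∑ i, c i * c i = N) (h2 : ∑ i, c i = M) :
    List.ofFn c ∈ enum n N M ub := by
  induction n generalizing N M ub with
  | zero =>
    simp only [Finset.univ_eq_empty, Finset.sum_empty] at h1 h2
    unfold enum
    rw [if_pos ⟨h1.symm, h2.symm⟩]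
    simp
  | succ n ih =>
    rw [enum]
    have hnn : 0 ≤ ∑ i : Fin n, Matrix.vecTail c i * Matrix.vecTail c i :=
      Finset.sum_nonneg fun i _ => mul_self_nonneg _
    have h1' := h1
    rw [sum_succ_mul] at h1'
    have h2' := h2
    rw [sum_succ'] at h2'
    have hN0 : 0 ≤ N := by nlinarith [mul_self_nonneg (c 0)]
    have hcs := cs (n + 1) c
    rw [h1, h2] at hcs
    have hnot : ¬ (N < 0 ∨ ((n : ℤ) + 1) * N < M * M) := by
      push_neg
      refine ⟨hN0, ?_⟩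
      push_cast at hcs
      exact hcs
    rw [if_neg hnot, List.mem_flatMap]
    have hb0 : c 0 * c 0 < 144 := by nlinarith
    have hlo : -11 ≤ c 0 := by nlinarith
    have hhi : c 0 ≤ 11 := by nlinarith
    refine ⟨(c 0 + 11).toNat, ?_, ?_⟩
    · rw [List.mem_range]
      omega
    · have htv : tv (c 0 + 11).toNat = c 0 := by
        unfold tv
        omega
      rw [htv, if_pos (hub 0), List.mem_map]
      refine ⟨List.ofFn (Matrix.vecTail c), ?_, ?_⟩
      · have hN' : N - c 0 * c 0 < 144 := by nlinarith [mul_self_nonneg (c 0)]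
        apply ih _ _ _ hN'
        · intro i j hij
          exact hanti (Fin.succ_le_succ_iff.2 hij)
        · intro i
          exact hanti (Fin.zero_le _)
        · linarith
        · linarith
      · rw [List.ofFn_succ]
        rfl

/-- the fifteen types as lists -/
def types : List (List ℤ) :=
  [[1, 1, 0, 0, 0, 0, 0, 0, 0],
  [2, 1, 1, 1, 1, 0, 0, 0, 0],
  [3, 2, 1, 1, 1, 1, 1, 0, 0],
  [4, 2, 2, 2, 1, 1, 1, 1, 0],
  [4, 3, 1, 1, 1, 1, 1, 1, 1],
  [5, 2, 2, 2, 2, 2, 2, 1, 0],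
  [5, 3, 2, 2, 2, 1, 1, 1, 1],
  [6, 3, 3, 2, 2, 2, 2, 1, 1],
  [7, 3, 3, 3, 3, 2, 2, 2, 1],
  [7, 4, 3, 2, 2, 2, 2, 2, 2],
  [8, 4, 3, 3, 3, 3, 2, 2, 2],
  [8, 3, 3, 3, 3, 3, 3, 3, 1],
  [9, 4, 4, 3, 3, 3, 3, 3, 2],
  [10, 4, 4, 4, 4, 3, 3, 3, 3],
  [11, 4, 4, 4, 4, 4, 4, 4, 3]]

theorem check : ∀ a ∈ List.range 12,
    ∀ l ∈ enum 8 ((a : ℤ) * (a : ℤ)) (3 * (a : ℤ) - 2) 11, ((a : ℤ) :: l) ∈ types := by
  decide +kernel

/-- the fifteen types as a set of vectors -/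
def S15 : Set (DP 8) :=
  ({![1, 1, 0, 0, 0, 0, 0, 0, 0],
        ![2, 1, 1, 1, 1, 0, 0, 0, 0],
        ![3, 2, 1, 1, 1, 1, 1, 0, 0],
        ![4, 2, 2, 2, 1, 1, 1, 1, 0],
        ![4, 3, 1, 1, 1, 1, 1, 1, 1],
        ![5, 2, 2, 2, 2, 2, 2, 1, 0],
        ![5, 3, 2, 2, 2, 1, 1, 1, 1],
        ![6, 3, 3, 2, 2, 2, 2, 1, 1],
        ![7, 3, 3, 3, 3, 2, 2, 2, 1],
        ![7, 4, 3, 2, 2, 2, 2, 2, 2],
        ![8, 4, 3, 3, 3, 3, 2, 2, 2],
        ![8, 3, 3, 3, 3, 3, 3, 3, 1],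
        ![9, 4, 4, 3, 3, 3, 3, 3, 2],
        ![10, 4, 4, 4, 4, 3, 3, 3, 3],
        ![11, 4, 4, 4, 4, 4, 4, 4, 3]} : Set (DP 8))

theorem mem_S15_of_mem_types (t : DP 8) (h : List.ofFn t ∈ types) : t ∈ S15 := by
  unfold types at h
  simp only [List.mem_cons, List.not_mem_nil, or_false] at h
  simp only [S15, Set.mem_insert_iff, Set.mem_singleton_iff]
  rcases h with h | h | h | h | h | h | h | h | h | h | h | h | h | h | h
  · have ht : t = ![1, 1, 0, 0, 0, 0, 0, 0, 0] := List.ofFn_injective (h.trans (by rfl))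
    exact Or.inl ht
  · have ht : t = ![2, 1, 1, 1, 1, 0, 0, 0, 0] := List.ofFn_injective (h.trans (by rfl))
    exact Or.inr (Or.inl ht)
  · have ht : t = ![3, 2, 1, 1, 1, 1, 1, 0, 0] := List.ofFn_injective (h.trans (by rfl))
    exact Or.inr (Or.inr (Or.inl ht))
  · have ht : t = ![4, 2, 2, 2, 1, 1, 1, 1, 0] := List.ofFn_injective (h.trans (by rfl))
    exact Or.inr (Or.inr (Or.inr (Or.inl ht)))
  · have ht : t = ![4, 3, 1, 1, 1, 1, 1, 1, 1] := List.ofFn_injective (h.trans (by rfl))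
    exact Or.inr (Or.inr (Or.inr (Or.inr (Or.inl ht))))
  · have ht : t = ![5, 2, 2, 2, 2, 2, 2, 1, 0] := List.ofFn_injective (h.trans (by rfl))
    exact Or.inr (Or.inr (Or.inr (Or.inr (Or.inr (Or.inl ht)))))
  · have ht : t = ![5, 3, 2, 2, 2, 1, 1, 1, 1] := List.ofFn_injective (h.trans (by rfl))
    exact Or.inr (Or.inr (Or.inr (Or.inr (Or.inr (Or.inr (Or.inl ht))))))
  · have ht : t = ![6, 3, 3, 2, 2, 2, 2, 1, 1] := List.ofFn_injective (h.trans (by rfl))
    exact Or.inr (Or.inr (Or.inr (Or.inr (Or.inr (Or.inr (Or.inr (Or.inl ht)))))))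
  · have ht : t = ![7, 3, 3, 3, 3, 2, 2, 2, 1] := List.ofFn_injective (h.trans (by rfl))
    exact Or.inr (Or.inr (Or.inr (Or.inr (Or.inr (Or.inr (Or.inr (Or.inr (Or.inl ht))))))))
  · have ht : t = ![7, 4, 3, 2, 2, 2, 2, 2, 2] := List.ofFn_injective (h.trans (by rfl))
    exact Or.inr (Or.inr (Or.inr (Or.inr (Or.inr (Or.inr (Or.inr (Or.inr (Or.inr (Or.inl ht)))))))))
  · have ht : t = ![8, 4, 3, 3, 3, 3, 2, 2, 2] := List.ofFn_injective (h.trans (by rfl))
    exact Or.inr (Or.inr (Or.inr (Or.inr (Or.inr (Or.inr (Or.inr (Or.inr (Or.inr (Or.inr (Or.inl ht))))))))))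
  · have ht : t = ![8, 3, 3, 3, 3, 3, 3, 3, 1] := List.ofFn_injective (h.trans (by rfl))
    exact Or.inr (Or.inr (Or.inr (Or.inr (Or.inr (Or.inr (Or.inr (Or.inr (Or.inr (Or.inr (Or.inr (Or.inl ht)))))))))))
  · have ht : t = ![9, 4, 4, 3, 3, 3, 3, 3, 2] := List.ofFn_injective (h.trans (by rfl))
    exact Or.inr (Or.inr (Or.inr (Or.inr (Or.inr (Or.inr (Or.inr (Or.inr (Or.inr (Or.inr (Or.inr (Or.inr (Or.inl ht))))))))))))
  · have ht : t = ![10, 4, 4, 4, 4, 3, 3, 3, 3] := List.ofFn_injective (h.trans (by rfl))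
    exact Or.inr (Or.inr (Or.inr (Or.inr (Or.inr (Or.inr (Or.inr (Or.inr (Or.inr (Or.inr (Or.inr (Or.inr (Or.inr (Or.inl ht)))))))))))))
  · have ht : t = ![11, 4, 4, 4, 4, 4, 4, 4, 3] := List.ofFn_injective (h.trans (by rfl))
    exact Or.inr (Or.inr (Or.inr (Or.inr (Or.inr (Or.inr (Or.inr (Or.inr (Or.inr (Or.inr (Or.inr (Or.inr (Or.inr (Or.inr (ht))))))))))))))

theorem conic_of_mem_S15 (t : DP 8) (h : t ∈ S15) : IsConic t := by
  simp only [S15, Set.mem_insert_iff, Set.mem_singleton_iff] at h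
  rcases h with rfl | rfl | rfl | rfl | rfl | rfl | rfl | rfl | rfl | rfl | rfl | rfl | rfl | rfl | rfl
  all_goals (rw [isConic_iff]; decide +kernel)

theorem result (v : DP 8) :
    IsConic v ↔
      ∃ t ∈ ({![1, 1, 0, 0, 0, 0, 0, 0, 0],
        ![2, 1, 1, 1, 1, 0, 0, 0, 0],
        ![3, 2, 1, 1, 1, 1, 1, 0, 0],
        ![4, 2, 2, 2, 1, 1, 1, 1, 0],
        ![4, 3, 1, 1, 1, 1, 1, 1, 1],
        ![5, 2, 2, 2, 2, 2, 2, 1, 0],
        ![5, 3, 2, 2, 2, 1, 1, 1, 1],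
        ![6, 3, 3, 2, 2, 2, 2, 1, 1],
        ![7, 3, 3, 3, 3, 2, 2, 2, 1],
        ![7, 4, 3, 2, 2, 2, 2, 2, 2],
        ![8, 4, 3, 3, 3, 3, 2, 2, 2],
        ![8, 3, 3, 3, 3, 3, 3, 3, 1],
        ![9, 4, 4, 3, 3, 3, 3, 3, 2],
        ![10, 4, 4, 4, 4, 3, 3, 3, 3],
        ![11, 4, 4, 4, 4, 4, 4, 4, 3]} : Set (DP 8)),
        ∃ σ : Equiv.Perm (Fin 8), v 0 = t 0 ∧ ∀ i : Fin 8, v (σ i).succ = t i.succ := by
  show IsConic v ↔ ∃ t ∈ S15, ∃ σ : Equiv.Perm (Fin 8), v 0 = t 0 ∧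
    ∀ i : Fin 8, v (σ i).succ = t i.succ
  constructor
  · intro hv
    rw [isConic_iff] at hv
    obtain ⟨h1, h2⟩ := hv
    have hcs := cs 8 (Matrix.vecTail v)
    rw [h1, h2] at hcs
    push_cast at hcs
    have hlo : 1 ≤ v 0 := by nlinarith
    have hhi : v 0 ≤ 11 := by nlinarith
    set b := Matrix.vecTail v with hb
    let σ : Equiv.Perm (Fin 8) := Fin.revPerm.trans (Tuple.sort b)
    let c : Fin 8 → ℤ := fun i => b (σ i)
    have hanti : Antitone c := by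
      intro i j hij
      have hmono : Monotone (b ∘ Tuple.sort b) := Tuple.monotone_sort b
      have : Fin.rev j ≤ Fin.rev i := Fin.rev_le_rev.2 hij
      exact hmono this
    have hs1 : ∑ i, c i * c i = v 0 * v 0 := by
      rw [← h1]
      exact Equiv.sum_comp σ (fun i => b i * b i)
    have hs2 : ∑ i, c i = 3 * v 0 - 2 := by
      rw [← h2]
      exact Equiv.sum_comp σ b
    have hub : ∀ i, c i ≤ 11 := by
      intro i
      have hle : c i * c i ≤ ∑ j, c j * c j :=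
        Finset.single_le_sum (f := fun j => c j * c j) (fun j _ => mul_self_nonneg _)
          (Finset.mem_univ i)
      rw [hs1] at hle
      nlinarith
    have hmem := mem_enum 8 (v 0 * v 0) (3 * v 0 - 2) 11 (by nlinarith) c hanti hub hs1 hs2
    have hv0 : (((v 0).toNat : ℕ) : ℤ) = v 0 := by omega
    have hchk := check (v 0).toNat (by rw [List.mem_range]; omega) (List.ofFn c)
      (by rw [hv0]; exact hmem)
    rw [hv0] at hchk
    refine ⟨Matrix.vecCons (v 0) c, ?_, σ, ?_, ?_⟩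
    · apply mem_S15_of_mem_types
      rw [List.ofFn_succ]
      exact hchk
    · rfl
    · intro i
      rfl
  · rintro ⟨t, ht, σ, h0, hσ⟩
    have htc := conic_of_mem_S15 t ht
    rw [isConic_iff] at htc ⊢
    obtain ⟨h1, h2⟩ := htc
    constructor
    · rw [h0, ← h1, ← Equiv.sum_comp σ (fun i => Matrix.vecTail v i * Matrix.vecTail v i)]
      apply Finset.sum_congr rfl
      intro i _
      show v (σ i).succ * v (σ i).succ = t i.succ * t i.succ
      rw [hσ i]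
    · rw [h0, ← h2, ← Equiv.sum_comp σ (Matrix.vecTail v)]
      apply Finset.sum_congr rfl
      intro i _
      show v (σ i).succ = t i.succ
      exact hσ i

end Groth.Agent.S15906
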