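import Groth.Statements.S15939
import Mathlib

set_option autoImplicit false
universe u

namespace Groth.Agent.S15939

open Polynomial

section
variable {κ A : Type u} [Field κ] [CommRing A] [Algebra κ A]

/-- `κ + J` as a subalgebra. -/
def idealSub (J : Ideal A) : Subalgebra κ A where
  carrier := {a | ∃ c : κ, a - algebraMap κ A c ∈ J}
  mul_mem' := by
    rintro a b ⟨c, hc⟩ ⟨d, hd⟩
    refine ⟨c * d, ?_⟩
    have : a * b - algebraMap κ A (c * d) =
        (a - algebraMap κ A c) * b + algebraMap κ A c * (b - algebraMap κ A d) := by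
      rw [map_mul]; ring
    rw [this]
    exact J.add_mem (J.mul_mem_right _ hc) (J.mul_mem_left _ hd)
  add_mem' := by
    rintro a b ⟨c, hc⟩ ⟨d, hd⟩
    refine ⟨c + d, ?_⟩
    have : a + b - algebraMap κ A (c + d) =
        (a - algebraMap κ A c) + (b - algebraMap κ A d) := by
      rw [map_add]; ring
    rw [this]
    exact J.add_mem hc hd
  algebraMap_mem' := fun c => ⟨c, by simp⟩

theorem mem_idealSub {J : Ideal A} {a : A} :
    a ∈ idealSub (κ := κ) J ↔ ∃ c : κ, a - algebraMap κ A c ∈ J := Iff.rfl

variable (h : IsSimpleOrder (Subalgebra κ A))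
include h

theorem adjoin_eq_top {y : A} (hy : y ∉ (⊥ : Subalgebra κ A)) : Algebra.adjoin κ {y} = ⊤ := by
  rcases h.eq_bot_or_eq_top (Algebra.adjoin κ {y}) with h0 | h0
  · exact absurd (h0 ▸ Algebra.subset_adjoin (Set.mem_singleton y)) hy
  · exact h0

theorem exists_not_mem_bot : ∃ x : A, x ∉ (⊥ : Subalgebra κ A) := by
  by_contra hcon
  push_neg at hcon
  have : (⊥ : Subalgebra κ A) = ⊤ := eq_top_iff.2 fun x _ => hcon x
  exact (bot_ne_top (α := Subalgebra κ A)) this

theorem nontrivial_A : Nontrivial A := by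
  obtain ⟨x, hx⟩ := exists_not_mem_bot h
  refine ⟨⟨x, 0, fun h0 => hx (h0 ▸ Subalgebra.zero_mem _)⟩⟩

theorem isIntegral_of_not_mem_bot {x : A} (hx : x ∉ (⊥ : Subalgebra κ A)) : IsIntegral κ x := by
  rcases h.eq_bot_or_eq_top (Algebra.adjoin κ {x ^ 2}) with h0 | h0
  · have hmem : x ^ 2 ∈ (⊥ : Subalgebra κ A) := h0 ▸ Algebra.subset_adjoin (Set.mem_singleton _)
    obtain ⟨c, hc⟩ := Algebra.mem_bot.1 hmem
    refine ⟨X ^ 2 - C c, monic_X_pow_sub_C c (by norm_num), ?_⟩
    simp [hc]
  · have hmem : x ∈ Algebra.adjoin κ {x ^ 2} := h0 ▸ Algebra.mem_top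
    rw [Algebra.adjoin_singleton_eq_range_aeval] at hmem
    obtain ⟨q, hq⟩ := hmem
    have hq' : aeval (x ^ 2) q = x := hq
    have halg : IsAlgebraic κ x := by
      refine ⟨expand κ 2 q - X, ?_, ?_⟩
      · intro h0
        have := congrArg (fun r => r.coeff 1) h0
        simp [coeff_expand] at this
      · rw [map_sub, expand_aeval, hq', aeval_X, sub_self]
    exact halg.isIntegral

theorem finiteDimensional : FiniteDimensional κ A := by
  obtain ⟨x, hx⟩ := exists_not_mem_bot h
  have hint := isIntegral_of_not_mem_bot h hx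
  have hfg := hint.fg_adjoin_singleton
  rw [adjoin_eq_top h hx, Algebra.top_toSubmodule] at hfg
  exact Module.finite_def.2 hfg

theorem algebraMap_mem_bot (c : κ) : algebraMap κ A c ∈ (⊥ : Subalgebra κ A) :=
  Subalgebra.algebraMap_mem _ c

/-- A nonzero non-unit is not a scalar. -/
theorem not_mem_bot_of_not_isUnit {y : A} (hy0 : y ≠ 0) (hyu : ¬ IsUnit y) :
    y ∉ (⊥ : Subalgebra κ A) := by
  intro hmem
  obtain ⟨c, rfl⟩ := Algebra.mem_bot.1 hmem
  have hc : c ≠ 0 := by
    rintro rfl
    exact hy0 (map_zero _)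
  exact hyu ((isUnit_iff_ne_zero.2 hc).map (algebraMap κ A))

theorem dual_case {y : A} (hy0 : y ≠ 0) (hy2 : y * y = 0) : Nonempty (A ≃ₐ[κ] DualNumber κ) := by
  haveI := nontrivial_A h
  have hyu : ¬ IsUnit y := by
    intro hu
    have := hu.mul_left_cancel (a := y) (b := y) (c := 0) (by rw [hy2, mul_zero])
    exact hy0 this
  have hyb := not_mem_bot_of_not_isUnit h hy0 hyu
  let F : DualNumber κ →ₐ[κ] A :=
    DualNumber.lift ⟨(Algebra.ofId κ A, y), hy2, fun _ => Commute.all _ _⟩
  have hF : ∀ a : DualNumber κ, F a = algebraMap κ A a.fst + algebraMap κ A a.snd * y := by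
    intro a
    rfl
  have hsurj : Function.Surjective F := by
    rw [← AlgHom.range_eq_top]
    rcases h.eq_bot_or_eq_top F.range with h0 | h0
    · exfalso
      apply hyb
      rw [← h0]
      exact ⟨DualNumber.eps, by simp [F]⟩
    · exact h0
  have hinj : Function.Injective F := by
    rw [injective_iff_map_eq_zero]
    intro a ha
    rw [hF] at ha
    have hb : a.snd = 0 := by
      by_contra hb
      apply hyb
      have : y = algebraMap κ A (-(a.snd)⁻¹ * a.fst) := by
        have h1 : algebraMap κ A (a.snd)⁻¹ * (algebraMap κ A a.fst + algebraMap κ A a.snd * y)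
            = 0 := by rw [ha, mul_zero]
        have h2 : algebraMap κ A (a.snd)⁻¹ * algebraMap κ A a.snd = 1 := by
          rw [← map_mul, inv_mul_cancel₀ hb, map_one]
        have h3 : y = -(algebraMap κ A (a.snd)⁻¹ * algebraMap κ A a.fst) := by
          have : algebraMap κ A (a.snd)⁻¹ * (algebraMap κ A a.fst + algebraMap κ A a.snd * y)
              = algebraMap κ A (a.snd)⁻¹ * algebraMap κ A a.fst +
                (algebraMap κ A (a.snd)⁻¹ * algebraMap κ A a.snd) * y := by ring
          rw [this, h2, one_mul] at h1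
          exact eq_neg_of_add_eq_zero_right h1
        rw [h3, neg_mul, map_neg, map_mul]
      rw [this]
      exact algebraMap_mem_bot h _
    rw [hb, map_zero, zero_mul, add_zero] at ha
    have ha0 : a.fst = 0 := (map_eq_zero_iff _ (algebraMap κ A).injective).1 ha
    exact TrivSqZeroExt.ext ha0 hb
  exact ⟨(AlgEquiv.ofBijective F ⟨hinj, hsurj⟩).symm⟩

/-- the algebra map `κ × κ → A` given by an idempotent. -/
def prodHom (e : A) (he : e * e = e) : (κ × κ) →ₐ[κ] A where
  toFun p := algebraMap κ A p.1 * e + algebraMap κ A p.2 * (1 - e)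
  map_one' := by simp
  map_mul' := by
    intro p q
    simp only [Prod.fst_mul, Prod.snd_mul, map_mul]
    have h1 : e * (1 - e) = 0 := by rw [mul_sub, mul_one, he, sub_self]
    have h2 : (1 - e) * (1 - e) = 1 - e := by ring_nf; rw [pow_two, he]; ring
    calc algebraMap κ A p.1 * algebraMap κ A q.1 * e
          + algebraMap κ A p.2 * algebraMap κ A q.2 * (1 - e)
        = algebraMap κ A p.1 * algebraMap κ A q.1 * (e * e)
          + algebraMap κ A p.2 * algebraMap κ A q.2 * ((1 - e) * (1 - e))
          + (algebraMap κ A p.1 * algebraMap κ A q.2 + algebraMap κ A p.2 * algebraMap κ A q.1)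
            * (e * (1 - e)) := by rw [he, h2, h1, mul_zero, add_zero]
      _ = _ := by ring
  map_zero' := by simp
  map_add' := by
    intro p q
    simp only [Prod.fst_add, Prod.snd_add, map_add]
    ring
  commutes' := by
    intro c
    simp only [Prod.algebraMap_apply, Algebra.algebraMap_self, RingHom.id_apply]
    ring

omit h in
theorem prodHom_apply (e : A) (he : e * e = e) (p : κ × κ) :
    prodHom e he p = algebraMap κ A p.1 * e + algebraMap κ A p.2 * (1 - e) := rfl

theorem prod_case {e : A} (he : e * e = e) (he0 : e ≠ 0) (he1 : e ≠ 1) :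
    Nonempty (A ≃ₐ[κ] (κ × κ)) := by
  haveI := nontrivial_A h
  have hinjκ : Function.Injective (algebraMap κ A) := (algebraMap κ A).injective
  have heb : e ∉ (⊥ : Subalgebra κ A) := by
    intro hmem
    obtain ⟨c, rfl⟩ := Algebra.mem_bot.1 hmem
    rw [← map_mul] at he
    have hc := hinjκ he
    have : c = 0 ∨ c = 1 := by
      have : c * (c - 1) = 0 := by rw [mul_sub, hc, mul_one, sub_self]
      rcases mul_eq_zero.1 this with h0 | h0
      · exact Or.inl h0
      · exact Or.inr (sub_eq_zero.1 h0)
    rcases this with rfl | rfl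
    · exact he0 (map_zero _)
    · exact he1 (map_one _)
  let F := prodHom (κ := κ) e he
  have hsurj : Function.Surjective F := by
    rw [← AlgHom.range_eq_top]
    rcases h.eq_bot_or_eq_top F.range with h0 | h0
    · exfalso
      apply heb
      rw [← h0]
      exact ⟨(1, 0), by simp [F, prodHom_apply]⟩
    · exact h0
  have hinj : Function.Injective F := by
    rw [injective_iff_map_eq_zero]
    intro p hp
    have hp' : algebraMap κ A p.1 * e + algebraMap κ A p.2 * (1 - e) = 0 := hp
    have h1 : e * (1 - e) = 0 := by rw [mul_sub, mul_one, he, sub_self]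
    have ha : algebraMap κ A p.1 * e = 0 := by
      have := congrArg (fun t => t * e) hp'
      simp only [zero_mul, add_mul] at this
      rw [mul_assoc, mul_assoc, he, mul_comm (1 - e) e, h1, mul_zero, add_zero] at this
      exact this
    have hb : algebraMap κ A p.2 * (1 - e) = 0 := by
      rw [ha, zero_add] at hp'
      exact hp'
    have hp1 : p.1 = 0 := by
      by_contra hne
      apply he0
      have := congrArg (fun t => algebraMap κ A (p.1)⁻¹ * t) ha
      simp only [mul_zero] at this
      rw [← mul_assoc, ← map_mul, inv_mul_cancel₀ hne, map_one, one_mul] at this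
      exact this
    have hp2 : p.2 = 0 := by
      by_contra hne
      apply he1
      have := congrArg (fun t => algebraMap κ A (p.2)⁻¹ * t) hb
      simp only [mul_zero] at this
      rw [← mul_assoc, ← map_mul, inv_mul_cancel₀ hne, map_one, one_mul] at this
      exact (sub_eq_zero.1 this).symm
    exact Prod.ext hp1 hp2
  exact ⟨(AlgEquiv.ofBijective F ⟨hinj, hsurj⟩).symm⟩

/-- Non-field case: dual numbers or product. -/
theorem nonfield_case {y : A} (hy0 : y ≠ 0) (hyu : ¬ IsUnit y) :
    Nonempty (A ≃ₐ[κ] DualNumber κ) ∨ Nonempty (A ≃ₐ[κ] (κ × κ)) := by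
  haveI := nontrivial_A h
  by_cases hy2 : y * y = 0
  · exact Or.inl (dual_case h hy0 hy2)
  · right
    -- the ideal (y²) is proper and nonzero
    set J : Ideal A := Ideal.span {y * y} with hJ
    have hJy : J ≤ Ideal.span {y} := by
      rw [hJ, Ideal.span_singleton_le_span_singleton]
      exact ⟨y, rfl⟩
    have hytop : Ideal.span {y} ≠ (⊤ : Ideal A) := by
      rw [Ne, Ideal.span_singleton_eq_top]
      exact hyu
    have hy2u : ¬ IsUnit (y * y) := fun hu => hyu (isUnit_of_mul_isUnit_left hu)
    have hy2b := not_mem_bot_of_not_isUnit h hy2 hy2u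
    have htop : idealSub (κ := κ) J = ⊤ := by
      rcases h.eq_bot_or_eq_top (idealSub (κ := κ) J) with h0 | h0
      · exfalso
        apply hy2b
        rw [← h0]
        refine ⟨0, ?_⟩
        rw [map_zero, sub_zero]
        exact Ideal.subset_span (Set.mem_singleton _)
      · exact h0
    have hymem : y ∈ idealSub (κ := κ) J := htop ▸ Algebra.mem_top
    obtain ⟨c, hc⟩ := hymem
    obtain ⟨z, hz⟩ := Ideal.mem_span_singleton'.1 hc
    -- c = y - z y² ∈ (y), so c = 0
    have hc0 : c = 0 := by
      by_contra hne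
      apply hytop
      rw [Ideal.eq_top_iff_one]
      have hcy : algebraMap κ A c ∈ Ideal.span {y} := by
        have : algebraMap κ A c = y * (1 - z * y) := by
          have : algebraMap κ A c = y - z * (y * y) := by rw [hz]; ring
          rw [this]; ring
        rw [this]
        exact Ideal.mul_mem_right _ _ (Ideal.subset_span (Set.mem_singleton _))
      have := Ideal.mul_mem_left _ (algebraMap κ A c⁻¹) hcy
      rwa [← map_mul, inv_mul_cancel₀ hne, map_one] at this
    rw [hc0, map_zero, sub_zero] at hz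
    -- y = z y², e = z y idempotent
    have he : (z * y) * (z * y) = z * y := by
      calc (z * y) * (z * y) = z * (z * (y * y)) := by ring
        _ = z * y := by rw [hz]
    have he0 : z * y ≠ 0 := by
      intro h0
      apply hy0
      calc y = z * (y * y) := hz.symm
        _ = (z * y) * y := by ring
        _ = 0 := by rw [h0, zero_mul]
    have he1 : z * y ≠ 1 := by
      intro h1
      exact hyu ⟨⟨y, z, by rw [mul_comm]; exact h1, h1⟩, rfl⟩
    exact prod_case h he he0 he1

end

section Field

variable {κ A : Type u} [Field κ] [CommRing A] [Algebra κ A]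
variable (h : IsSimpleOrder (Subalgebra κ A))
include h

theorem field_case (hA : IsField A) (hsep : ¬ Algebra.IsSeparable κ A) :
    ∃ (p : ℕ) (a : κ), p.Prime ∧ CharP κ p ∧ (∀ b : κ, b ^ p ≠ a) ∧
          Nonempty (A ≃ₐ[κ] AdjoinRoot (X ^ p - C a)) := by
  haveI := nontrivial_A h
  haveI : IsDomain A := hA.isDomain
  haveI := finiteDimensional h
  rw [Algebra.isSeparable_def] at hsep
  push_neg at hsep
  obtain ⟨x, hx⟩ := hsep
  have hxint : IsIntegral κ x := Algebra.IsIntegral.isIntegral x
  have hirr : Irreducible (minpoly κ x) := minpoly.irreducible hxint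
  have hxb : x ∉ (⊥ : Subalgebra κ A) := by
    intro hmem
    obtain ⟨c, rfl⟩ := Algebra.mem_bot.1 hmem
    exact hx (isSeparable_algebraMap c)
  obtain ⟨p, hp⟩ := CharP.exists κ
  have hnsep : ¬ (minpoly κ x).Separable := hx
  have hp0 : p ≠ 0 := by
    rintro rfl
    haveI := CharP.charP_to_charZero κ
    exact hnsep hirr.separable
  have hpprime : p.Prime := (CharP.char_is_prime_or_zero κ p).resolve_right hp0
  haveI : Fact p.Prime := ⟨hpprime⟩
  haveI : CharP A p := charP_of_injective_algebraMap (algebraMap κ A).injective p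
  -- x^p ∈ κ
  have hxp : x ^ p ∈ (⊥ : Subalgebra κ A) := by
    by_contra hnb
    have htop := adjoin_eq_top h hnb
    have hmem : x ∈ Algebra.adjoin κ {x ^ p} := htop ▸ Algebra.mem_top
    rw [Algebra.adjoin_singleton_eq_range_aeval] at hmem
    obtain ⟨q, hq⟩ := hmem
    have hq' : aeval (x ^ p) q = x := hq
    have hroot : aeval x (expand κ p q - X) = 0 := by
      rw [map_sub, expand_aeval, hq', aeval_X, sub_self]
    have hder : derivative (expand κ p q - X) = -1 := by
      rw [derivative_sub, derivative_expand, derivative_X]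
      have : (p : κ[X]) = 0 := by
        rw [← map_natCast (C : κ →+* κ[X])]
        simp [CharP.cast_eq_zero κ p]
      rw [this, zero_mul, mul_zero, zero_sub]
    have hsepr : (expand κ p q - X).Separable := by
      rw [separable_def, hder]
      exact isCoprime_one_right.neg_right
    exact hnsep (hsepr.of_dvd (minpoly.dvd κ x hroot))
  obtain ⟨a, ha⟩ := Algebra.mem_bot.1 hxp
  have hnpow : ∀ b : κ, b ^ p ≠ a := by
    intro b hb
    apply hxb
    have : (x - algebraMap κ A b) ^ p = 0 := by
      rw [sub_pow_char, ← map_pow, hb, ha, sub_self]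
    have := pow_eq_zero_iff hp0 |>.1 this
    rw [sub_eq_zero.1 this]
    exact algebraMap_mem_bot h b
  refine ⟨p, a, hpprime, hp, hnpow, ?_⟩
  have hirr' : Irreducible (X ^ p - C a) := X_pow_sub_C_irreducible_of_prime hpprime hnpow
  haveI : Fact (Irreducible (X ^ p - C a)) := ⟨hirr'⟩
  have hroot : aeval x (X ^ p - C a) = 0 := by
    simp [ha]
  let F : AdjoinRoot (X ^ p - C a) →ₐ[κ] A := AdjoinRoot.liftAlgHom _ (Algebra.ofId κ A) x (by
    rw [← hroot]; rfl)
  have hFroot : F (AdjoinRoot.root _) = x := by
    simp [F]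
  have hinj : Function.Injective F := F.toRingHom.injective
  have hsurj : Function.Surjective F := by
    rw [← AlgHom.range_eq_top]
    rcases h.eq_bot_or_eq_top F.range with h0 | h0
    · exfalso
      apply hxb
      rw [← h0]
      exact ⟨_, hFroot⟩
    · exact h0
  exact ⟨(AlgEquiv.ofBijective F ⟨hinj, hsurj⟩).symm⟩

end Field

theorem result (κ A : Type u) [Field κ] [CommRing A] [Algebra κ A]
    (h : IsSimpleOrder (Subalgebra κ A)) :
    FiniteDimensional κ A ∧
    (Nonempty (A ≃ₐ[κ] DualNumber κ) ∨ Nonempty (A ≃ₐ[κ] (κ × κ)) ∨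
      (IsField A ∧ (Algebra.IsSeparable κ A ∨
        ∃ (p : ℕ) (a : κ), p.Prime ∧ CharP κ p ∧ (∀ b : κ, b ^ p ≠ a) ∧
          Nonempty (A ≃ₐ[κ] AdjoinRoot (X ^ p - C a))))) := by
  refine ⟨finiteDimensional h, ?_⟩
  haveI := nontrivial_A h
  by_cases hA : IsField A
  · right; right
    refine ⟨hA, ?_⟩
    by_cases hsep : Algebra.IsSeparable κ A
    · exact Or.inl hsep
    · exact Or.inr (field_case h hA hsep)
  · have : ∃ y : A, y ≠ 0 ∧ ¬ IsUnit y := by
      by_contra hcon
      push_neg at hcon
      apply hA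
      refine ⟨exists_pair_ne A, mul_comm, ?_⟩
      intro a ha
      obtain ⟨u, rfl⟩ := hcon a ha
      exact ⟨↑u⁻¹, u.mul_inv⟩
    obtain ⟨y, hy0, hyu⟩ := this
    rcases nonfield_case h hy0 hyu with h1 | h1
    · exact Or.inl h1
    · exact Or.inr (Or.inl h1)

end Groth.Agent.S15939
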