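import Groth.Statements.S15941
import Mathlib

set_option autoImplicit false
universe u
open HTop

namespace Groth.Agent.S15941

theorem result (A : Type u) [CommRing A] [IsDomain A]
    [IsIntegrallyClosed A] : HTop.IsSeminormalRing A := by
  intro x y hxy
  by_cases hx : x = 0
  · subst hx
    have hy : y = 0 := by
      have : y ^ 2 = 0 := by rw [← hxy]; ring
      exact pow_eq_zero_iff (two_ne_zero) |>.mp this
    subst hy
    refine ⟨0, by simp, ?_⟩
    rintro a ⟨ha, -⟩
    exact (pow_eq_zero_iff (two_ne_zero)).mp ha.symm
  · -- x ≠ 0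
    let K := FractionRing A
    have hxK : algebraMap A K x ≠ 0 := by
      intro h
      exact hx ((IsFractionRing.injective A K) (by rw [h, map_zero]))
    set t : K := algebraMap A K y / algebraMap A K x with ht
    have ht2 : t ^ 2 = algebraMap A K x := by
      rw [ht, div_pow, ← map_pow, ← hxy, map_pow]
      rw [div_eq_iff (pow_ne_zero 2 hxK)]
      ring
    have hint : IsIntegral A t := by
      refine ⟨Polynomial.X ^ 2 - Polynomial.C x, Polynomial.monic_X_pow_sub_C x two_ne_zero, ?_⟩
      simp [ht2]
    obtain ⟨a, ha⟩ := IsIntegrallyClosed.isIntegral_iff.mp hint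
    have ha2 : x = a ^ 2 := by
      apply IsFractionRing.injective A K
      rw [map_pow, ha, ht2]
    have ha3 : y = a ^ 3 := by
      apply IsFractionRing.injective A K
      rw [map_pow, ha]
      have : t ^ 3 = t ^ 2 * t := by ring
      rw [this, ht2, ht]
      rw [mul_div_cancel₀ _ hxK]
    refine ⟨a, ⟨ha2, ha3⟩, ?_⟩
    rintro b ⟨hb2, hb3⟩
    -- b * x = y = a * x
    have h1 : b * x = a * x := by
      calc b * x = b * b ^ 2 := by rw [← hb2]
        _ = b ^ 3 := by ring
        _ = y := hb3.symm
        _ = a ^ 3 := ha3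
        _ = a * a ^ 2 := by ring
        _ = a * x := by rw [← ha2]
    exact mul_right_cancel₀ hx h1

end Groth.Agent.S15941
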