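import Groth.Statements.S15942
import Groth.Agent.Lib.Helper26.NeronLocal

set_option autoImplicit false
universe u
open Neron

namespace Groth.Agent.S15942

open CategoryTheory AlgebraicGeometry in
/-- Let S be a Dedekind scheme (integral, Noetherian, separated, of dimension one, with regular local
rings), K its function field with generic point η : Spec K → S, and G → S a smooth separated
S-scheme. Suppose that for every closed point p of S the base change G_p = G ×_S Spec O_{S,p} is a
Néron lft-model of its generic fibre over Spec O_{S,p}: for every smooth scheme Y over Spec O_{S,p},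
restricting to generic fibres is a bijection from morphisms Y → G_p over Spec O_{S,p} onto morphisms
of generic fibres over K. Then G is a Néron lft-model of its generic fibre over S: for every smooth
S-scheme Y, restriction along η is a bijection from S-morphisms Y → G onto K-morphisms Y_η → G_η.
(The published statement is for a smooth separated group scheme; the group structure plays no part
in the property or in its proof and is not assumed here.) -/
theorem result
    {S : Scheme.{u}} [IsIntegral S] [IsNoetherian S] [S.IsSeparated]
    (hreg : ∀ s : S, IsRegularLocalRing (S.presheaf.stalk s)) (hdim : topologicalKrullDim S = 1)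
    (G : Over S) [Smooth G.hom] [IsSeparated G.hom]
    (hloc : ∀ p : S, IsClosed ({p} : Set S) →
      ∀ Y : Over (Spec (S.presheaf.stalk p)), Smooth Y.hom →
        Function.Bijective (fun g : Y ⟶ (Over.pullback (S.fromSpecStalk p)).obj G =>
          (Over.pullback (Spec.map (S.presheaf.stalkSpecializes (genericPoint_specializes p)))).map g)) :
    ∀ Y : Over S, Smooth Y.hom →
      Function.Bijective (fun g : Y ⟶ G => (Over.pullback (S.fromSpecStalk (genericPoint S))).map g) := by
  intro Y hY
  haveI := hY
  haveI : IsLocallyNoetherian S := inferInstance
  haveI : IsLocallyNoetherian Y.left := LocallyOfFiniteType.isLocallyNoetherian Y.hom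
  rw [Groth.Agent.Lib.Helper26.NeronTorsor.bijective_pullback_map_iff]
  constructor
  · intro g₁ g₂ h
    exact Groth.Agent.Lib.Helper26.NeronTorsor.ε_ext _ h
  · intro ψ
    have hψ : ψ.left ≫ G.hom = Limits.pullback.fst Y.hom _ ≫ Y.hom := by
      have := Over.w ψ
      rw [this]
      simp [Limits.pullback.condition]
    obtain ⟨u, hu1, hu2⟩ := Groth.Agent.Lib.Helper26.NeronLocal.exists_extension G
      (fun p hp => Groth.Agent.Lib.Helper26.NeronLocal.isClosed_singleton_of_ne_genericPoint hdim p hp)
      (fun p hp Y' hY' => (hloc p hp Y' hY').2) Y.hom ψ.left hψ
      (fun x => Groth.Agent.Lib.Helper26.NeronLocal.isDomain_stalk_of_smooth_of_regular hreg Y.hom x)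
    refine ⟨Over.homMk u hu1, ?_⟩
    ext
    simp [hu2]

end Groth.Agent.S15942
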