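import Groth.Statements.S15944
import Groth.Agent.Lib.Helper58.PinchStd
import Groth.Agent.Lib.Helper58.PinchFT

set_option autoImplicit false
universe u
open Pinch

namespace Groth.Agent.S15944

open CategoryTheory AlgebraicGeometry in
/-- Let Y be a scheme, f : X → Y a morphism, t : T → Y a scheme affine over Y, ξ : Z → T a morphism with
Z affine over Y via ξ followed by t, and ι : Z → X a closed immersion over Y; assume every point of
Y has an affine open neighbourhood U together with an affine open V of X inside the preimage of U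
containing the image under ι of the part of Z over U; assume moreover that Y is locally Noetherian,
f and t are of finite type and ξ is finite, and let X → P ← T be a push-out of ι and ξ in the
category of schemes, with p : P → Y the induced morphism. Then p is of finite type, and if X and T
are proper over Y then so is P. -/
theorem result {X Y T Z : Scheme.{u}} (f : X ⟶ Y) (t : T ⟶ Y) (ξ : Z ⟶ T) (ι : Z ⟶ X)
    [IsAffineHom t] [IsAffineHom (ξ ≫ t)] [IsClosedImmersion ι] (hsq : ι ≫ f = ξ ≫ t)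
    (hstd : ∀ y : Y, ∃ U : Y.Opens, IsAffineOpen U ∧ y ∈ U ∧ ∃ V : X.Opens, IsAffineOpen V ∧
      V ≤ f ⁻¹ᵁ U ∧ ∀ z : Z, (ξ ≫ t).base z ∈ U → ι.base z ∈ V)
    [IsLocallyNoetherian Y] [LocallyOfFiniteType f] [QuasiCompact f] [LocallyOfFiniteType t] [QuasiCompact t]
    [IsFinite ξ] {P : Scheme.{u}} (a : X ⟶ P) (b : T ⟶ P) (hP : IsPushout ι ξ a b)
    (p : P ⟶ Y) (hap : a ≫ p = f) (hbp : b ≫ p = t) :
    (LocallyOfFiniteType p ∧ QuasiCompact p) ∧ (IsProper f → IsProper t → IsProper p) := by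
  haveI : Groth.Agent.Lib.Helper58.Pinch.Enough ξ ι :=
    Groth.Agent.Lib.Helper58.Pinch.enough_of_std f t ξ ι hsq hstd
  -- compare with the constructed pushout
  have hG : IsPushout ι ξ (Groth.Agent.Lib.Helper58.Pinch.b ξ ι)
      (Groth.Agent.Lib.Helper58.Pinch.a ξ ι) :=
    (Groth.Agent.Lib.Helper58.Pinch.isPushout ξ ι).flip
  let e : P ≅ Groth.Agent.Lib.Helper58.Pinch.P ξ ι := hP.isoIsPushout _ _ hG
  have ha : a ≫ e.hom = Groth.Agent.Lib.Helper58.Pinch.b ξ ι := hP.inl_isoIsPushout_hom _ _ hG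
  have hb : b ≫ e.hom = Groth.Agent.Lib.Helper58.Pinch.a ξ ι := hP.inr_isoIsPushout_hom _ _ hG
  have ha' : a = Groth.Agent.Lib.Helper58.Pinch.b ξ ι ≫ e.inv := by
    rw [Iso.eq_comp_inv]; exact ha
  have hb' : b = Groth.Agent.Lib.Helper58.Pinch.a ξ ι ≫ e.inv := by
    rw [Iso.eq_comp_inv]; exact hb
  haveI : IsFinite (Groth.Agent.Lib.Helper58.Pinch.b ξ ι) :=
    Groth.Agent.Lib.Helper58.Pinch.isFinite_b ξ ι
  haveI : IsFinite a := by rw [ha']; infer_instance
  haveI : IsClosedImmersion b := by rw [hb']; infer_instance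
  -- joint surjectivity
  have hab : ∀ ζ : P, ζ ∈ Set.range a ∨ ζ ∈ Set.range b := by
    intro ζ
    have hinj : Function.Injective e.hom := by
      intro x y hxy
      have := congrArg e.inv hxy
      rwa [← Scheme.Hom.comp_apply, ← Scheme.Hom.comp_apply, e.hom_inv_id] at this
    rcases Groth.Agent.Lib.Helper58.Pinch.mem_range_a_or_b ξ ι (e.hom ζ) with ⟨τ, hτ⟩ | ⟨x, hx⟩
    · right
      refine ⟨τ, hinj ?_⟩
      rw [← Scheme.Hom.comp_apply, hb]
      exact hτ
    · left
      refine ⟨x, hinj ?_⟩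
      rw [← Scheme.Hom.comp_apply, ha]
      exact hx
  -- finite type
  let r : Groth.Agent.Lib.Helper58.Pinch.P ξ ι ⟶ Y := e.inv ≫ p
  have hr1 : Groth.Agent.Lib.Helper58.Pinch.a ξ ι ≫ r = t := by
    rw [← hb, Category.assoc, Iso.hom_inv_id_assoc, hbp]
  have hr2 : Groth.Agent.Lib.Helper58.Pinch.b ξ ι ≫ r = f := by
    rw [← ha, Category.assoc, Iso.hom_inv_id_assoc, hap]
  haveI : LocallyOfFiniteType (Groth.Agent.Lib.Helper58.Pinch.a ξ ι ≫ r) := by
    rw [hr1]; infer_instance
  haveI : LocallyOfFiniteType (Groth.Agent.Lib.Helper58.Pinch.b ξ ι ≫ r) := by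
    rw [hr2]; infer_instance
  have hrft : LocallyOfFiniteType r := Groth.Agent.Lib.Helper58.Pinch.locallyOfFiniteType ξ ι r
  have hp : p = e.hom ≫ r := by rw [Iso.hom_inv_id_assoc]
  have hpft : LocallyOfFiniteType p := by rw [hp]; infer_instance
  haveI : QuasiCompact (a ≫ p) := by rw [hap]; infer_instance
  haveI : QuasiCompact (b ≫ p) := by rw [hbp]; infer_instance
  refine ⟨⟨hpft, Groth.Agent.Lib.Helper58.JointSurj.quasiCompact a b p hab⟩, ?_⟩
  intro hf ht
  haveI : IsProper (a ≫ p) := by rw [hap]; exact hf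
  haveI : IsProper (b ≫ p) := by rw [hbp]; exact ht
  exact { toIsSeparated := Groth.Agent.Lib.Helper58.JointSurj.isSeparated a b p hab
          toUniversallyClosed := Groth.Agent.Lib.Helper58.JointSurj.universallyClosed a b p hab
          toLocallyOfFiniteType := hpft }

end Groth.Agent.S15944
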