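import Groth.Statements.S15945
import Groth.Agent.Lib.Helper58.PinchStd

set_option autoImplicit false
universe u
open Pinch

namespace Groth.Agent.S15945

open CategoryTheory AlgebraicGeometry in
/-- Let Y be a scheme, f : X → Y a morphism, t : T → Y a scheme affine over Y, ξ : Z → T a morphism with
Z affine over Y via ξ followed by t, and ι : Z → X a closed immersion over Y; assume every point of
Y has an affine open neighbourhood U together with an affine open V of X inside the preimage of U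
containing the image under ι of the part of Z over U; assume moreover that Y is locally Noetherian,
f and t are of finite type and ξ is finite, and let X → P ← T be a push-out of ι and ξ in the
category of schemes. Then X → P is finite, the square is also cartesian (Z is identified with X ×_P
T), and T → P is a closed immersion. -/
theorem result {X Y T Z : Scheme.{u}} (f : X ⟶ Y) (t : T ⟶ Y) (ξ : Z ⟶ T) (ι : Z ⟶ X)
    [IsAffineHom t] [IsAffineHom (ξ ≫ t)] [IsClosedImmersion ι] (hsq : ι ≫ f = ξ ≫ t)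
    (hstd : ∀ y : Y, ∃ U : Y.Opens, IsAffineOpen U ∧ y ∈ U ∧ ∃ V : X.Opens, IsAffineOpen V ∧
      V ≤ f ⁻¹ᵁ U ∧ ∀ z : Z, (ξ ≫ t).base z ∈ U → ι.base z ∈ V)
    [IsLocallyNoetherian Y] [LocallyOfFiniteType f] [QuasiCompact f] [LocallyOfFiniteType t] [QuasiCompact t]
    [IsFinite ξ] {P : Scheme.{u}} (a : X ⟶ P) (b : T ⟶ P) (hP : IsPushout ι ξ a b) :
    IsFinite a ∧ IsPullback ι ξ a b ∧ IsClosedImmersion b := by
  haveI : Groth.Agent.Lib.Helper58.Pinch.Enough ξ ι :=
    Groth.Agent.Lib.Helper58.Pinch.enough_of_std f t ξ ι hsq hstd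
  -- compare with the constructed pushout
  have hG : IsPushout ι ξ (Groth.Agent.Lib.Helper58.Pinch.b ξ ι)
      (Groth.Agent.Lib.Helper58.Pinch.a ξ ι) :=
    (Groth.Agent.Lib.Helper58.Pinch.isPushout ξ ι).flip
  let e : P ≅ Groth.Agent.Lib.Helper58.Pinch.P ξ ι := hP.isoIsPushout _ _ hG
  have ha : a = Groth.Agent.Lib.Helper58.Pinch.b ξ ι ≫ e.inv := by
    rw [Iso.eq_comp_inv]
    exact hP.inl_isoIsPushout_hom _ _ hG
  have hb : b = Groth.Agent.Lib.Helper58.Pinch.a ξ ι ≫ e.inv := by
    rw [Iso.eq_comp_inv]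
    exact hP.inr_isoIsPushout_hom _ _ hG
  haveI : IsFinite (Groth.Agent.Lib.Helper58.Pinch.b ξ ι) :=
    Groth.Agent.Lib.Helper58.Pinch.isFinite_b ξ ι
  refine ⟨?_, ?_, ?_⟩
  · rw [ha]
    infer_instance
  · have hpb : IsPullback ι ξ (Groth.Agent.Lib.Helper58.Pinch.b ξ ι)
        (Groth.Agent.Lib.Helper58.Pinch.a ξ ι) :=
      (Groth.Agent.Lib.Helper58.Pinch.isPullback ξ ι).flip
    refine IsPullback.of_iso hpb (Iso.refl _) (Iso.refl _) (Iso.refl _) e.symm ?_ ?_ ?_ ?_
    · simp
    · simp
    · simp [ha]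
    · simp [hb]
  · rw [hb]
    infer_instance

end Groth.Agent.S15945
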