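import Groth.Statements.S15949
import Groth.Agent.Lib.Helper75.PnConst
import Groth.Agent.Lib.Helper41.SepPoints3
-- import your own Groth.Agent.* helpers here

set_option autoImplicit false
universe u
open AlgGrp

namespace Groth.Agent.S15949

open CategoryTheory AlgebraicGeometry in
/-- Auxiliary step: let κ be an arbitrary field, G a group scheme over κ which is smooth over κ, and φ :
P¹_κ → G a morphism over κ. Then φ is constant: there is a κ-rational point g of G such that φ is
the structure morphism P¹_κ → Spec κ followed by g. (The published proof states this step for any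
smooth group scheme over a field in the course of proving the main proposition.) -/
theorem result (κ : Type u) [Field κ]
    (G : Over (Spec (CommRingCat.of κ))) [GrpObj G] [Smooth G.hom]
    (φ : CohB1.ProjSpaceOver 1 (Spec (CommRingCat.of κ)) ⟶ G.left)
    (hφ : φ ≫ G.hom = CohB1.ProjSpaceOver.toBase 1 (Spec (CommRingCat.of κ))) :
    ∃ g : Spec (CommRingCat.of κ) ⟶ G.left, g ≫ G.hom = 𝟙 _ ∧
      φ = CohB1.ProjSpaceOver.toBase 1 (Spec (CommRingCat.of κ)) ≫ g := by
  haveI : IsSeparated G.hom := Groth.Agent.Lib.Helper41.SepPoints3.isSeparated_of_field G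
  let e := Groth.Agent.Lib.Helper61.PnIso.iso 1 κ
  have he : e.hom ≫ CohB1.ProjSpaceOver.toBase 1 (Spec (CommRingCat.of κ)) =
      CohB1.ProjSpace.toSpec 1 κ := Groth.Agent.Lib.Helper61.PnIso.iso_hom_toBase 1 κ
  have hφ' : (e.hom ≫ φ) ≫ G.hom = CohB1.ProjSpace.toSpec 1 κ := by
    rw [Category.assoc, hφ, he]
  obtain ⟨g, hg1, hg2⟩ := Groth.Agent.Lib.Helper75.PnConst.exists_const κ G 1 (e.hom ≫ φ) hφ'
  refine ⟨g, hg1, ?_⟩
  rw [← cancel_epi e.hom, hg2, ← Category.assoc, he]

end Groth.Agent.S15949
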