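import Groth.Statements.S15954
import Groth.Agent.Lib.Helper58.PinchBC2
import Groth.Agent.Lib.Helper58.PinchStd
import Groth.Agent.Lib.Helper58.PinchFF
import Groth.Agent.Lib.Helper58.ClPushoutFlatOver

set_option autoImplicit false
universe u
open Pinch

namespace Groth.Agent.S15954

open CategoryTheory AlgebraicGeometry in
/-- Let Y be a scheme, f : X → Y a morphism, t : T → Y a scheme affine over Y, ξ : Z → T a morphism with
Z affine over Y via ξ followed by t, and ι : Z → X a closed immersion over Y; assume every point of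
Y has an affine open neighbourhood U together with an affine open V of X inside the preimage of U
containing the image under ι of the part of Z over U; assume moreover that Y is locally Noetherian,
f and t are of finite type and ξ is finite, and let X → P ← T be a push-out of ι and ξ in the
category of schemes; assume finally that ξ is faithfully flat and that over every affine open U of Y
the cokernel of the map from functions on t⁻¹(U) to functions on the part of Z over U is a
projective module over the functions on U. Let p : P → Y be the induced morphism. Then the push-out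
commutes with every base change: for every morphism Y' → Y the square obtained by pulling back Z →
X, Z → T, X → P and T → P along Y' → Y is a push-out square in the category of schemes. -/
theorem result {X Y T Z : Scheme.{u}} (f : X ⟶ Y) (t : T ⟶ Y) (ξ : Z ⟶ T) (ι : Z ⟶ X)
    [IsAffineHom t] [IsAffineHom (ξ ≫ t)] [IsClosedImmersion ι] (hsq : ι ≫ f = ξ ≫ t)
    (hstd : ∀ y : Y, ∃ U : Y.Opens, IsAffineOpen U ∧ y ∈ U ∧ ∃ V : X.Opens, IsAffineOpen V ∧
      V ≤ f ⁻¹ᵁ U ∧ ∀ z : Z, (ξ ≫ t).base z ∈ U → ι.base z ∈ V)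
    [IsLocallyNoetherian Y] [LocallyOfFiniteType f] [QuasiCompact f] [LocallyOfFiniteType t] [QuasiCompact t]
    [IsFinite ξ] {P : Scheme.{u}} (a : X ⟶ P) (b : T ⟶ P) (hP : IsPushout ι ξ a b)
    [Flat ξ] [Surjective ξ]
    (hv : ∀ U : Y.affineOpens, @Pinch.CokerProjective Γ(Y, U) Γ(Z, (ξ ≫ t) ⁻¹ᵁ U) Γ(T, t ⁻¹ᵁ U) _ _ _
      ((ξ ≫ t).app U).hom.toAlgebra (ξ.app (t ⁻¹ᵁ U)).hom)
    (p : P ⟶ Y) (hap : a ≫ p = f) (hbp : b ≫ p = t) {Y' : Scheme.{u}} (g : Y' ⟶ Y) :
    IsPushout ((Over.pullback g).map (Over.homMk ι hsq : Over.mk (ξ ≫ t) ⟶ Over.mk f)).left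
      ((Over.pullback g).map (Over.homMk ξ rfl : Over.mk (ξ ≫ t) ⟶ Over.mk t)).left
      ((Over.pullback g).map (Over.homMk a hap : Over.mk f ⟶ Over.mk p)).left
      ((Over.pullback g).map (Over.homMk b hbp : Over.mk t ⟶ Over.mk p)).left := by
  haveI : IsAffineHom ξ := inferInstance
  haveI : Groth.Agent.Lib.Helper58.Pinch.Enough ξ ι :=
    Groth.Agent.Lib.Helper58.Pinch.enough_of_std f t ξ ι hsq hstd
  -- the standard charts
  have hmain : ∀ y : Y, ∃ (U : Y.Opens) (k : Groth.Agent.Lib.Helper58.ClPushout.GoodPair ξ ι),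
      y ∈ U ∧ IsAffineOpen U ∧ k.U = t ⁻¹ᵁ U ∧
      (∀ x : X, f x ∈ U → x ∈ k.V ∨ x ∉ Set.range ι) ∧
      Groth.Agent.Lib.Helper58.Pinch.CokerFlatAt ξ ι t f k U := by
    intro y
    obtain ⟨U, hU, hyU, V, hV, hVle, hVZ⟩ := hstd y
    have htr : ξ ⁻¹ᵁ (t ⁻¹ᵁ U) = ι ⁻¹ᵁ V := by
      ext z
      constructor
      · intro hz
        exact hVZ z hz
      · intro hz
        have h1 : f (ι z) ∈ U := hVle hz
        rw [← Scheme.Hom.comp_apply, hsq, Scheme.Hom.comp_apply] at h1
        exact h1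
    let k₀ : Groth.Agent.Lib.Helper58.ClPushout.GoodPair ξ ι :=
      ⟨t ⁻¹ᵁ U, V, hU.preimage t, hV, htr⟩
    have hq : k₀.q = (ξ.app (t ⁻¹ᵁ U)).hom := by
      unfold Groth.Agent.Lib.Helper58.ClPushout.GoodPair.q
      rw [Scheme.Hom.appLE_eq_app]
    refine ⟨U, k₀, hyU, hU, rfl, ?_, ?_⟩
    · intro x hx
      by_cases hxV : x ∈ V
      · exact Or.inl hxV
      · right
        rintro ⟨z, rfl⟩
        apply hxV
        apply hVZ
        have h1 : (ι ≫ f) z ∈ U := hx
        rwa [hsq] at h1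
    · refine ⟨hU, hVle, ?_, le_rfl, (ξ ≫ t).app U, ?_, ?_⟩
      · rw [hq]
        exact Groth.Agent.Lib.Helper58.Pinch.app_injective_of_flat_of_surjective ξ _
          (hU.preimage t)
      · rw [Scheme.Hom.appLE_comp_appLE]
        exact (Scheme.Hom.appLE_eq_app (f := ξ ≫ t) (U := U)).symm
      · rw [hq]
        have hproj := hv ⟨U, hU⟩
        unfold Pinch.CokerProjective at hproj
        exact @Module.Flat.of_projective _ _ _ _ _ hproj
  have hlocX : ∀ τ : T, ∃ (k : Groth.Agent.Lib.Helper58.ClPushout.GoodPair ξ ι) (US : Y.Opens),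
      τ ∈ k.U ∧ Groth.Agent.Lib.Helper58.Pinch.CokerFlatAt ξ ι t f k US := by
    intro τ
    obtain ⟨U, k, hyU, hU, hkU, -, hc⟩ := hmain (t τ)
    refine ⟨k, U, ?_, hc⟩
    rw [hkU]
    exact hyU
  have hlocY : ∀ x : X, ∃ (k : Groth.Agent.Lib.Helper58.ClPushout.GoodPair ξ ι) (US : Y.Opens),
      x ∈ k.V ∧ Groth.Agent.Lib.Helper58.Pinch.CokerFlatAt ξ ι t f k US := by
    intro x
    obtain ⟨U, k, hyU, hU, hkU, hor, hc⟩ := hmain (f x)
    rcases hor x hyU with hxV | hxι
    · exact ⟨k, U, hxV, hc⟩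
    · have hcl : IsClosed (Set.range ι) := ι.isClosedEmbedding.isClosed_range
      obtain ⟨_, ⟨V₁, hV₁ : IsAffineOpen V₁, rfl⟩, hxV₁, hV₁le⟩ :=
        X.isBasis_affineOpens.exists_subset_of_mem_open
          (show x ∈ (f ⁻¹ᵁ U : Set X) ∩ (Set.range ι)ᶜ from ⟨hyU, hxι⟩)
          ((f ⁻¹ᵁ U).isOpen.inter hcl.isOpen_compl)
      have htr₁ : ξ ⁻¹ᵁ (⊥ : T.Opens) = ι ⁻¹ᵁ V₁ := by
        ext z
        constructor
        · intro hz
          exact hz.elim
        · intro hz
          exact ((hV₁le hz).2 ⟨z, rfl⟩).elim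
      let k₁ : Groth.Agent.Lib.Helper58.ClPushout.GoodPair ξ ι :=
        ⟨⊥, V₁, isAffineOpen_bot T, hV₁, htr₁⟩
      haveI h1 : Subsingleton Γ(T, k₁.U) := inferInstanceAs (Subsingleton Γ(T, ⊥))
      haveI h2 : Subsingleton Γ(Z, k₁.W) := k₁.q.codomain_trivial
      refine ⟨k₁, U, hxV₁, hU, fun x' hx' => (hV₁le hx').1, ?_, bot_le, _, rfl, ?_⟩
      · exact Function.injective_of_subsingleton _
      · infer_instance
  let φa : Over.mk f ⟶ Over.mk p := Over.homMk a hap
  let φb : Over.mk t ⟶ Over.mk p := Over.homMk b hbp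
  let φι : Over.mk (ξ ≫ t) ⟶ Over.mk f := Over.homMk ι hsq
  let φξ : Over.mk (ξ ≫ t) ⟶ Over.mk t := Over.homMk ξ rfl
  have hφ : φξ ≫ φb = φι ≫ φa := by
    ext
    exact hP.w.symm
  have w' : ((Over.pullback g).map φξ).left ≫ ((Over.pullback g).map φb).left =
      ((Over.pullback g).map φι).left ≫ ((Over.pullback g).map φa).left := by
    rw [← Over.comp_left, ← Over.comp_left, ← Functor.map_comp, ← Functor.map_comp, hφ]
  have hb' := Groth.Agent.Lib.Helper58.ClPushout.isPullback_overPullback_map g φb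
  have ha' := Groth.Agent.Lib.Helper58.ClPushout.isPullback_overPullback_map g φa
  have hξ' := Groth.Agent.Lib.Helper58.ClPushout.isPullback_overPullback_map g φξ
  have hι' := Groth.Agent.Lib.Helper58.ClPushout.isPullback_overPullback_map g φι
  exact (Groth.Agent.Lib.Helper58.Pinch.isPushout_of_flat_coker' ξ ι b a hP.flip
    (Limits.pullback.fst p g)
    (Limits.pullback.fst t g) ((Over.pullback g).map φb).left hb'
    (Limits.pullback.fst f g) ((Over.pullback g).map φa).left ha'
    (Limits.pullback.fst (ξ ≫ t) g) ((Over.pullback g).map φξ).left hξ'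
    ((Over.pullback g).map φι).left w' hι'.w.symm p g (Limits.pullback.snd p g)
    (IsPullback.of_hasPullback p g) t f hbp hap hlocX hlocY).flip

end Groth.Agent.S15954
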