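import Groth.Statements.S15961
import Mathlib
import Groth.Agent.Lib.Helper70.NormalSeminormal

set_option autoImplicit false
universe u
open HTop

namespace Groth.Agent.S15961

open CategoryTheory AlgebraicGeometry in
/-- Let ν : X' → X be a seminormalization of the scheme X (X' seminormal, ν a universal homeomorphism
inducing isomorphisms on residue fields and initial among such morphisms to X) and let U be an open
subscheme of X. Then the restriction of ν over U, ν⁻¹(U) → U, is a seminormalization of U. (The
published lemma also treats U → X a localisation; that case is not restated.) -/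
theorem result {X' X : Scheme.{u}} (ν : X' ⟶ X)
    (hν : HTop.IsSeminormalization ν) (hX' : HTop.IsSeminormal X') (U : X.Opens) :
    HTop.IsSeminormalization (ν ∣_ U) := by
  obtain ⟨⟨hU, hR⟩, -⟩ := hν
  have hU' : FlatMor.IsUnivHomeo (ν ∣_ U) :=
    MorphismProperty.of_isPullback (isPullback_morphismRestrict ν U).flip hU
  have hR' : HTop.ResidueFieldsIso (ν ∣_ U) :=
    Groth.Agent.Lib.Helper70.SNIso.residueFieldsIso_morphismRestrict ν hR U
  refine ⟨⟨hU', hR'⟩, ?_⟩
  intro Y π hπU hπR
  have hT : HTop.IsSeminormal (ν ⁻¹ᵁ U).toScheme :=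
    Groth.Agent.Lib.Helper70.NormalSN.isSeminormal_opens hX' _
  obtain ⟨h, hh⟩ := Groth.Agent.Lib.Helper70.NormalSN.exists_lift_of_isSeminormal π hπU hπR hT
    (ν ∣_ U)
  refine ⟨h, hh, fun h' hh' => ?_⟩
  have hinj : UniversallyInjective π := Groth.Agent.Lib.Helper2.IsUnivHomeo.universallyInjective hπU
  have hred : IsReduced (ν ⁻¹ᵁ U).toScheme := (Groth.Agent.S7421.result.{u}).2 _ hT
  exact Groth.Agent.Lib.Helper70.NormalSN.eq_of_comp_eq_of_universallyInjective π h' h
    (hh'.trans hh.symm)

end Groth.Agent.S15961
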