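import Groth.Statements.S15963
import Mathlib
import Groth.Agent.Lib.Helper70.NormalSeminormal

set_option autoImplicit false
universe u
open HTop

namespace Groth.Agent.S15963

open CategoryTheory AlgebraicGeometry in
/-- Let S be a reduced Noetherian scheme, π : S̃ → S its normalisation (S̃ has integrally closed local
domains, π is integral and an isomorphism over a dense open subset of S with dense preimage), ν : X'
→ S a seminormalization of S (X' seminormal, ν a universal homeomorphism with residue-field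
isomorphisms, initial among such) and g : S̃ → X' a morphism with g followed by ν equal to π. Then ν
and g are scheme-theoretically dominant (the structure sheaf maps injectively into the direct
image), and if π is finite then so are ν and g. -/
theorem result {S Sn X' : Scheme.{u}}
    [IsNoetherian S] [IsReduced S]
    (π : Sn ⟶ S) [IsIntegralHom π] (hn : Pi1.IsNormalScheme Sn)
    (hbir : ∃ U : S.Opens, Dense (U : Set S) ∧ Dense ((π ⁻¹ᵁ U : Sn.Opens) : Set Sn) ∧ IsIso (π ∣_ U))
    (ν : X' ⟶ S) (hν : HTop.IsSeminormalization ν) (hX' : HTop.IsSeminormal X')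
    (g : Sn ⟶ X') (hg : g ≫ ν = π) :
    (IsSchemeTheoreticallyDominant ν ∧ IsSchemeTheoreticallyDominant g) ∧
      (IsFinite π → IsFinite ν ∧ IsFinite g) := by
  obtain ⟨⟨hU, hR⟩, -⟩ := hν
  have hνsurj : Surjective ν := Groth.Agent.Lib.Helper2.IsUnivHomeo.surjective hU
  have hνint : IsIntegralHom ν := ((Groth.Agent.S0415.result ν).mp hU).1
  have hX'red : IsReduced X' := (Groth.Agent.S7421.result.{u}).2 X' hX'
  have hνdom : IsSchemeTheoreticallyDominant ν := .of_isDominant ν
  obtain ⟨U, hUd, -, hiso⟩ := hbir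
  have hπdom : IsDominant π := by
    constructor
    apply hUd.mono
    intro u hu
    obtain ⟨z, hz⟩ := (π ∣_ U).surjective ⟨u, hu⟩
    refine ⟨z.1, ?_⟩
    have h1 : ((π ∣_ U) z).1 = u := congrArg Subtype.val hz
    exact (morphismRestrict_base_coe π U z).symm.trans h1
  have hgdom : IsDominant g := by
    constructor
    have hhomeo := Groth.Agent.Lib.Helper2.IsUnivHomeo.isHomeomorph hU
    have hrange : Set.range g = ν ⁻¹' (Set.range π) := by
      ext x
      constructor
      · rintro ⟨z, rfl⟩
        exact ⟨z, by rw [← hg]; rfl⟩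
      · rintro ⟨z, hz⟩
        refine ⟨z, hhomeo.injective ?_⟩
        rw [← hz, ← hg]
        rfl
    rw [DenseRange, hrange]
    exact π.denseRange.preimage hhomeo.isOpenMap
  refine ⟨⟨hνdom, ?_⟩, fun hπfin => ?_⟩
  · have : QuasiCompact π := inferInstance
    have : QuasiCompact (g ≫ ν) := by rw [hg]; infer_instance
    have : QuasiCompact g := QuasiCompact.of_comp g ν
    exact .of_isDominant g
  have hgfin : IsFinite g := by
    have : IsFinite (g ≫ ν) := by rw [hg]; exact hπfin
    exact IsFinite.of_comp g ν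
  refine ⟨?_, hgfin⟩
  have hgsd : IsSchemeTheoreticallyDominant g := .of_isDominant g
  rw [isFinite_iff]
  refine ⟨inferInstance, fun V hV => ?_⟩
  have hN : IsNoetherianRing Γ(S, V) := IsLocallyNoetherian.component_noetherian ⟨V, hV⟩
  have h1 : ((g ≫ ν).app V).hom.Finite := by
    have : IsFinite (g ≫ ν) := by rw [hg]; exact hπfin
    exact (g ≫ ν).finite_app V hV
  have hinj : Function.Injective (g.app (ν ⁻¹ᵁ V)) := g.app_injective _
  rw [Scheme.Hom.comp_app] at h1
  let _ := (ν.app V).hom.toAlgebra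
  let _ := ((ν.app V ≫ g.app (ν ⁻¹ᵁ V)).hom).toAlgebra
  have hfin : Module.Finite Γ(S, V) Γ(Sn, g ⁻¹ᵁ (ν ⁻¹ᵁ V)) := h1
  have hnoeth : IsNoetherian Γ(S, V) Γ(Sn, g ⁻¹ᵁ (ν ⁻¹ᵁ V)) :=
    isNoetherian_of_isNoetherianRing_of_finite _ _
  let l : Γ(X', ν ⁻¹ᵁ V) →ₗ[Γ(S, V)] Γ(Sn, g ⁻¹ᵁ (ν ⁻¹ᵁ V)) :=
    { toFun := (g.app (ν ⁻¹ᵁ V)).hom
      map_add' := map_add _
      map_smul' := by
        intro a b
        simp only [Algebra.smul_def, map_mul, RingHom.id_apply]
        rfl }
  exact Module.Finite.of_injective l hinj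

end Groth.Agent.S15963
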