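import Groth.Statements.S15987
import Mathlib

set_option autoImplicit false
universe u v
open Deform

namespace Groth.Agent.S15987

open TrivSqZeroExt

variable {k : Type u} [Field k] {A : Type u} [CommRing A] [Algebra k A]

/-- the linear map x ↦ x + (D x₀) ε -/
noncomputable def shearLin (D : Derivation k A A) : DualNumber A →ₗ[k] DualNumber A :=
  LinearMap.id + (inrHom A A).restrictScalars k ∘ₗ (D : A →ₗ[k] A) ∘ₗ (fstHom k A A).toLinearMap

theorem shearLin_apply (D : Derivation k A A) (x : DualNumber A) :
    shearLin D x = x + inr (D x.fst) := rfl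

theorem shearLin_fst (D : Derivation k A A) (x : DualNumber A) :
    (shearLin D x).fst = x.fst := by
  rw [shearLin_apply]; simp

theorem shearLin_snd (D : Derivation k A A) (x : DualNumber A) :
    (shearLin D x).snd = x.snd + D x.fst := by
  rw [shearLin_apply]; simp

/-- the algebra hom x ↦ x + (D x₀) ε -/
noncomputable def shearHom (D : Derivation k A A) : DualNumber A →ₐ[k] DualNumber A :=
  AlgHom.ofLinearMap (shearLin D)
    (by
      apply TrivSqZeroExt.ext
      · rw [shearLin_fst]
      · rw [shearLin_snd]; simp)
    (by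
      intro x y
      apply TrivSqZeroExt.ext
      · rw [shearLin_fst, fst_mul, fst_mul, shearLin_fst, shearLin_fst]
      · rw [shearLin_snd, DualNumber.snd_mul, DualNumber.snd_mul, shearLin_snd, shearLin_snd,
          shearLin_fst, shearLin_fst, fst_mul, D.leibniz]
        simp only [smul_eq_mul]
        ring)

theorem shearHom_apply (D : Derivation k A A) (x : DualNumber A) :
    shearHom D x = x + inr (D x.fst) := rfl

theorem shearHom_comp_neg (D : Derivation k A A) :
    (shearHom D).comp (shearHom (-D)) = AlgHom.id k _ := by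
  apply AlgHom.ext
  intro x
  simp only [AlgHom.comp_apply, shearHom_apply, AlgHom.id_apply]
  apply TrivSqZeroExt.ext <;> simp

/-- the algebra equivalence x ↦ x + (D x₀) ε -/
noncomputable def shearEquiv (D : Derivation k A A) : DualNumber A ≃ₐ[k] DualNumber A :=
  AlgEquiv.ofAlgHom (shearHom D) (shearHom (-D)) (shearHom_comp_neg D)
    (by simpa using shearHom_comp_neg (-D))

theorem shearEquiv_apply (D : Derivation k A A) (x : DualNumber A) :
    shearEquiv D x = x + inr (D x.fst) := rfl

/-- the derivation attached to an automorphism that is the identity modulo ε -/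
noncomputable def derivOf (φ : DualNumber A ≃ₐ[k] DualNumber A) (h : ∀ x, (φ x).fst = x.fst) :
    Derivation k A A where
  toFun a := (φ (inl a)).snd
  map_add' a b := by simp
  map_smul' c a := by
    have : (inl (c • a) : DualNumber A) = c • inl a := by
      apply TrivSqZeroExt.ext <;> simp
    rw [this, map_smul]
    simp
  map_one_eq_zero' := by
    show (φ (inl 1)).snd = 0
    have : (inl (1 : A) : DualNumber A) = 1 := rfl
    rw [this, map_one]
    simp
  leibniz' a b := by
    show (φ (inl (a * b))).snd = a • (φ (inl b)).snd + b • (φ (inl a)).snd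
    have : (inl (a * b) : DualNumber A) = inl a * inl b := by
      apply TrivSqZeroExt.ext <;> simp
    rw [this, map_mul, DualNumber.snd_mul, h, h]
    simp only [fst_inl, smul_eq_mul]
    ring

theorem result
    (k : Type u) [Field k] (A : Type u) [CommRing A] [Algebra k A] {ι : Type v} (q : ι → (A →ₐ[k] k)) :
    ∃ e : {φ : DualNumber A ≃ₐ[k] DualNumber A //
            φ DualNumber.eps = DualNumber.eps ∧ (∀ x, (φ x).fst = x.fst) ∧
              ∀ i x, q i (φ x).snd = q i x.snd} ≃
          {D : Derivation k A A // ∀ i a, q i (D a) = 0},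
      ∀ φ (a : A), (e φ).1 a = (φ.1 (inl a : DualNumber A)).snd := by
  refine ⟨⟨fun φ => ⟨derivOf φ.1 φ.2.2.1, ?_⟩, fun D => ⟨shearEquiv D.1, ?_, ?_, ?_⟩, ?_, ?_⟩, ?_⟩
  · intro i a
    show q i (φ.1 (inl a)).snd = 0
    rw [φ.2.2.2 i]
    simp
  · rw [shearEquiv_apply]
    apply TrivSqZeroExt.ext <;> simp
  · intro x
    rw [shearEquiv_apply]; simp
  · intro i x
    rw [shearEquiv_apply]
    simp [D.2 i]
  · -- left inverse
    rintro ⟨φ, hε, hfst, hq⟩
    apply Subtype.ext
    apply AlgEquiv.ext
    intro x
    show shearEquiv (derivOf φ hfst) x = φ x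
    rw [shearEquiv_apply]
    have hx : x = inl x.fst + inl x.snd * DualNumber.eps := by
      apply TrivSqZeroExt.ext
      · simp
      · simp [DualNumber.snd_mul]
    have h1 : φ x = φ (inl x.fst) + φ (inl x.snd) * DualNumber.eps := by
      conv_lhs => rw [hx]
      rw [map_add, map_mul, hε]
    rw [h1]
    apply TrivSqZeroExt.ext
    · simp [hfst]
    · simp only [snd_add, snd_inr, DualNumber.snd_mul, hfst, fst_inl, DualNumber.snd_eps,
        DualNumber.fst_eps, mul_one, mul_zero, add_zero]
      show x.snd + (φ (inl x.fst)).snd = _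
      ring
  · -- right inverse
    rintro ⟨D, hD⟩
    apply Subtype.ext
    apply Derivation.ext
    intro a
    show (shearEquiv D (inl a)).snd = D a
    rw [shearEquiv_apply]
    simp
  · intro φ a
    rfl

end Groth.Agent.S15987
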