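import Groth.Statements.S15988
import Groth.Agent.S15987
import Mathlib

set_option autoImplicit false
universe u v
open Deform

namespace Groth.Agent.S15988

open TrivSqZeroExt Groth.Agent.S15987

variable {k : Type u} [Field k] {A : Type u} [CommRing A] [Algebra k A]

theorem exists_crt {ι : Type v} [Finite ι] (q : ι → (A →ₐ[k] k)) (hq : Function.Injective q)
    (c : ι → k) : ∃ b : A, ∀ i, q i b = c i := by
  have hsurj : ∀ i, Function.Surjective (q i) := fun i y => ⟨algebraMap k A y, by simp⟩
  have hmax : ∀ i, (RingHom.ker (q i : A →+* k)).IsMaximal := fun i =>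
    RingHom.ker_isMaximal_of_surjective _ (hsurj i)
  have hne : ∀ i j, i ≠ j → RingHom.ker (q i : A →+* k) ≠ RingHom.ker (q j : A →+* k) := by
    intro i j hij hker
    apply hij
    apply hq
    apply AlgHom.ext
    intro a
    have h1 : a - algebraMap k A (q i a) ∈ RingHom.ker (q i : A →+* k) := by
      rw [RingHom.mem_ker]
      simp
    rw [hker, RingHom.mem_ker] at h1
    have h2 : q j (a - algebraMap k A (q i a)) = 0 := h1
    rw [map_sub, AlgHom.commutes, sub_eq_zero] at h2
    simpa using h2.symm
  have hcop : Pairwise (Function.onFun IsCoprime fun i => RingHom.ker (q i : A →+* k)) := by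
    intro i j hij
    show IsCoprime _ _
    rw [Ideal.isCoprime_iff_sup_eq]
    exact Ideal.IsMaximal.coprime_of_ne (hmax i) (hmax j) (hne i j hij)
  obtain ⟨r, hr⟩ := Ideal.exists_forall_sub_mem_ideal hcop (fun i => algebraMap k A (c i))
  refine ⟨r, fun i => ?_⟩
  have := hr i
  rw [RingHom.mem_ker] at this
  have h2 : q i (r - algebraMap k A (c i)) = 0 := this
  rw [map_sub, AlgHom.commutes, sub_eq_zero] at h2
  simpa using h2

/-- the derivation attached to an algebra map `A → A[ε]` which is a section of `fst` -/
noncomputable def derivOfHom (f : A →ₐ[k] DualNumber A) (h : ∀ a, (f a).fst = a) :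
    Derivation k A A where
  toFun a := (f a).snd
  map_add' a b := by simp
  map_smul' c a := by simp
  map_one_eq_zero' := by
    show (f 1).snd = 0
    rw [map_one]
    simp
  leibniz' a b := by
    show (f (a * b)).snd = a • (f b).snd + b • (f a).snd
    rw [map_mul, DualNumber.snd_mul, h, h]
    simp only [smul_eq_mul]
    ring

theorem result
    (k : Type u) [Field k] (A : Type u) [CommRing A] [Algebra k A] [Algebra.Smooth k A]
    {ι : Type v} [Finite ι] (q : ι → (A →ₐ[k] k)) (hq : Function.Injective q)
    (q' : ι → (DualNumber A →ₐ[k] DualNumber k))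
    (hε : ∀ i, q' i DualNumber.eps = DualNumber.eps) (hq' : ∀ i x, (q' i x).fst = q i x.fst) :
    ∃ φ : DualNumber A ≃ₐ[k] DualNumber A,
      φ DualNumber.eps = DualNumber.eps ∧ (∀ x, (φ x).fst = x.fst) ∧
        ∀ i x, (q' i (φ x)).fst = q i x.fst ∧ (q' i (φ x)).snd = q i x.snd := by
  classical
  -- the subalgebra of elements whose images under all q' i are constants
  let B' : Subalgebra k (DualNumber A) :=
    { carrier := {x | ∀ i, (q' i x).snd = 0}
      mul_mem' := by
        intro x y hx hy i
        rw [map_mul, DualNumber.snd_mul, hx i, hy i]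
        simp
      add_mem' := by
        intro x y hx hy i
        rw [map_add, snd_add, hx i, hy i, add_zero]
      algebraMap_mem' := by
        intro c i
        rw [AlgHom.commutes]
        simp [TrivSqZeroExt.algebraMap_eq_inl] }
  have hB'mem : ∀ x : DualNumber A, x ∈ B' ↔ ∀ i, (q' i x).snd = 0 := fun x => Iff.rfl
  let g : B' →ₐ[k] A := (fstHom k A A).comp B'.val
  have hg_apply : ∀ x : B', g x = (x : DualNumber A).fst := fun x => rfl
  -- key formula: q' i x = (q i x.fst, (q' i (inl x.fst)).snd + q i x.snd)
  have hformula : ∀ i (x : DualNumber A), (q' i x).snd = (q' i (inl x.fst)).snd + q i x.snd := by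
    intro i x
    have hx : x = inl x.fst + inl x.snd * DualNumber.eps := by
      apply TrivSqZeroExt.ext
      · simp
      · simp [DualNumber.snd_mul]
    conv_lhs => rw [hx]
    rw [map_add, map_mul, hε, snd_add, DualNumber.snd_mul, hq']
    simp
  have hg_surj : Function.Surjective g := by
    intro a
    obtain ⟨b, hb⟩ := exists_crt q hq (fun i => - (q' i (inl a)).snd)
    refine ⟨⟨inl a + inr b, ?_⟩, ?_⟩
    · rw [hB'mem]
      intro i
      rw [hformula]
      simp [hb i]
    · rw [hg_apply]
      simp
  have hg_nil : IsNilpotent (RingHom.ker (g : B' →+* A)) := by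
    refine ⟨2, ?_⟩
    rw [Ideal.zero_eq_bot, eq_bot_iff]
    have hsq : RingHom.ker (g : B' →+* A) ^ 2 = RingHom.ker (g : B' →+* A) * RingHom.ker (g : B' →+* A) :=
      pow_two _
    rw [hsq, Ideal.mul_le]
    intro x hx y hy
    rw [RingHom.mem_ker] at hx hy
    have hx' : (x : DualNumber A).fst = 0 := hx
    have hy' : (y : DualNumber A).fst = 0 := hy
    rw [Ideal.mem_bot]
    apply Subtype.ext
    apply TrivSqZeroExt.ext
    · simp [hx']
    · show ((x : DualNumber A) * (y : DualNumber A)).snd = _
      rw [DualNumber.snd_mul, hx', hy']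
      simp
  have : Algebra.FormallySmooth k A := inferInstance
  let f' : A →ₐ[k] B' := Algebra.FormallySmooth.liftOfSurjective (AlgHom.id k A) g hg_surj hg_nil
  have hf' : ∀ a, g (f' a) = a := fun a =>
    Algebra.FormallySmooth.liftOfSurjective_apply (AlgHom.id k A) g hg_surj hg_nil a
  let f : A →ₐ[k] DualNumber A := B'.val.comp f'
  have hf_fst : ∀ a, (f a).fst = a := fun a => hf' a
  have hf_mem : ∀ a i, (q' i (f a)).snd = 0 := fun a i => (f' a).2 i
  let D := derivOfHom f hf_fst
  have hD : ∀ a, D a = (f a).snd := fun a => rfl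
  refine ⟨shearEquiv D, ?_, ?_, ?_⟩
  · rw [shearEquiv_apply]
    apply TrivSqZeroExt.ext <;> simp
  · intro x
    rw [shearEquiv_apply]; simp
  · intro i x
    constructor
    · rw [hq', shearEquiv_apply]; simp
    · rw [hformula, shearEquiv_apply]
      simp only [fst_add, fst_inr, add_zero, snd_add, snd_inr, map_add]
      -- (q' i (inl x.fst)).snd + q i (D x.fst) = 0
      have h1 := hf_mem x.fst i
      rw [hformula, hf_fst] at h1
      rw [hD]
      linear_combination h1

end Groth.Agent.S15988
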