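import Groth.Statements.S15990
-- import your own Groth.Agent.* helpers here
import Groth.Agent.Lib.Helper51.SectionRegSch

set_option autoImplicit false
universe u
open SDiv

namespace Groth.Agent.S15990

open AlgebraicGeometry CategoryTheory in
/-- Let f : X → Y be separated and smooth of relative dimension 1 and let σ : Y → X be a section of f.
Then σ(Y) is a relative effective Cartier divisor on X/Y: the kernel ideal sheaf of the closed
immersion σ is the ideal sheaf of an effective Cartier divisor (locally on affine opens generated by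
one nonzerodivisor) and the closed subscheme it defines is flat over Y. (The source adds the special
case of the diagonal of X ×_Y X, a section of the first projection.) -/
theorem result
    {X Y : Scheme.{u}} (f : X ⟶ Y) [IsSeparated f] [SmoothOfRelativeDimension 1 f]
    (σ : Y ⟶ X) (hσ : σ ≫ f = 𝟙 Y) :
    BlowUp.IsEffCartierIdeal σ.ker ∧ Flat (σ.ker.subschemeι ≫ f) := by
  have hcl : IsClosedImmersion σ := by
    have : IsClosedImmersion (σ ≫ f) := by rw [hσ]; infer_instance
    exact IsClosedImmersion.of_comp σ f
  refine ⟨fun x => ?_, ?_⟩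
  · by_cases hx : x ∈ Set.range σ
    · obtain ⟨y, rfl⟩ := hx
      obtain ⟨U', hyU', fs, hlen, hreg, hI⟩ :=
        Groth.Agent.Lib.Helper51.SectionReg.exists_affine_regular_of_section f 1 σ hσ y
      obtain ⟨f₁, rfl⟩ : ∃ f₁, fs = [f₁] := List.length_eq_one_iff.mp hlen
      refine ⟨U', hyU', f₁, ?_, ?_⟩
      · have h1 : IsSMulRegular Γ(X, U'.1) f₁ :=
          (RingTheory.Sequence.isWeaklyRegular_singleton_iff _ f₁).mp hreg
        rw [mem_nonZeroDivisors_iff_right]
        intro z hz
        apply h1
        show f₁ * z = f₁ * 0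
        rw [mul_zero, mul_comm]
        exact hz
      · rw [hI, Ideal.ofList_singleton]
    · have hopen : IsOpen (Set.range σ)ᶜ := σ.isClosedEmbedding.isClosed_range.isOpen_compl
      obtain ⟨_, ⟨U, hU, rfl⟩, hxU, hle⟩ :=
        X.isBasis_affineOpens.exists_subset_of_mem_open hx hopen
      refine ⟨⟨U, hU⟩, hxU, 1, one_mem _, ?_⟩
      have hempty : σ ⁻¹ᵁ U = ⊥ := by
        ext s
        simp only [TopologicalSpace.Opens.coe_bot, Set.mem_empty_iff_false, iff_false]
        intro hs
        exact hle hs ⟨s, rfl⟩
      have hsub : Subsingleton Γ(Y, σ ⁻¹ᵁ U) := by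
        rw [hempty]
        infer_instance
      rw [Ideal.span_singleton_one, Scheme.Hom.ker_apply, Ideal.eq_top_iff_one, RingHom.mem_ker]
      exact Subsingleton.elim _ _
  · have h1 : σ.ker.subschemeι ≫ f = inv σ.toImage := by
      rw [← cancel_epi σ.toImage, IsIso.hom_inv_id, ← Category.assoc]
      have h2 : σ.toImage ≫ σ.ker.subschemeι = σ := σ.toImage_imageι
      rw [h2, hσ]
    rw [h1]
    infer_instance

end Groth.Agent.S15990
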