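import Groth.Statements.S15991
import Groth.Agent.Lib.Helper58.MarkedSection
import Groth.Agent.Lib.Helper59.AffDeform
-- import your own Groth.Agent.* helpers here

set_option autoImplicit false
universe u v
open Deform

namespace Groth.Agent.S15991

section Aux

open AlgebraicGeometry CategoryTheory TrivSqZeroExt

variable (k : Type u) [Field k]

instance isLocalRing_dualNumber : IsLocalRing (DualNumber k) := by
  have : Nontrivial (DualNumber k) :=
    ⟨⟨0, 1, fun h => zero_ne_one (congrArg TrivSqZeroExt.fst h : (0 : k) = 1)⟩⟩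
  apply IsLocalRing.of_nonunits_add
  intro a b ha hb
  rw [mem_nonunits_iff, TrivSqZeroExt.isUnit_iff_isUnit_fst] at ha hb ⊢
  rw [TrivSqZeroExt.fst_add]
  exact IsLocalRing.nonunits_add ha hb

instance finite_dualNumber : Module.Finite k (DualNumber k) :=
  show Module.Finite k (k × k) from inferInstance

instance isArtinianRing_dualNumber : IsArtinianRing (DualNumber k) :=
  IsArtinianRing.of_finite k (DualNumber k)

theorem maximalIdeal_dualNumber :
    IsLocalRing.maximalIdeal (DualNumber k) = Ideal.span {(DualNumber.eps : DualNumber k)} := by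
  ext x
  rw [IsLocalRing.mem_maximalIdeal, mem_nonunits_iff, TrivSqZeroExt.isUnit_iff_isUnit_fst,
    isUnit_iff_ne_zero, not_not, Ideal.mem_span_singleton']
  constructor
  · intro h
    refine ⟨inl x.snd, ?_⟩
    apply TrivSqZeroExt.ext
    · rw [fst_mul, DualNumber.fst_eps, mul_zero, h]
    · rw [snd_mul, DualNumber.fst_eps, DualNumber.snd_eps, fst_inl, snd_inl]
      simp
  · rintro ⟨a, rfl⟩
    rw [fst_mul, DualNumber.fst_eps, mul_zero]

end Aux

open AlgebraicGeometry CategoryTheory in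
/-- Let k be a field and X an affine scheme smooth over k, with finitely many pairwise distinct
k-rational points p_j (j ∈ ι). Let X' → Spec k[ε] be flat, i : X → X' a morphism making X the fibre
over the closed point Spec k → Spec k[ε] (cartesian square), and p'_j : Spec k[ε] → X' sections
restricting to the p_j. Then there is an isomorphism φ : X' ≅ X ×_{Spec k} Spec k[ε] over Spec k[ε]
such that i followed by φ is the inclusion of X at the closed point (its first component is the
identity of X) and each p'_j followed by φ is the constant section through p_j: every first-order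
deformation of a smooth affine scheme with marked points is trivial. (The source says non-singular;
smooth over k is assumed here, and the marked points are taken pairwise distinct and finite in
number.) -/
theorem result
    (k : Type u) [Field k] (X : Scheme.{u}) (hX : X ⟶ Spec (CommRingCat.of k)) [IsAffine X] [Smooth hX]
    {ι : Type v} [Finite ι] (p : ι → (Spec (CommRingCat.of k) ⟶ X)) (hp : ∀ j, p j ≫ hX = 𝟙 _)
    (hinj : Function.Injective p)
    (X' : Scheme.{u}) (g : X' ⟶ Spec (CommRingCat.of (DualNumber k))) [Flat g] (i : X ⟶ X')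
    (hsq : IsPullback i hX g
      (Spec.map (CommRingCat.ofHom (TrivSqZeroExt.fstHom k k k).toRingHom)))
    (p' : ι → (Spec (CommRingCat.of (DualNumber k)) ⟶ X')) (hp' : ∀ j, p' j ≫ g = 𝟙 _)
    (hpp' : ∀ j, p j ≫ i = Spec.map (CommRingCat.ofHom (TrivSqZeroExt.fstHom k k k).toRingHom) ≫ p' j) :
    ∃ φ : X' ≅ Limits.pullback hX (Spec.map (CommRingCat.ofHom (algebraMap k (DualNumber k)))),
      φ.hom ≫ Limits.pullback.snd hX (Spec.map (CommRingCat.ofHom (algebraMap k (DualNumber k)))) = g ∧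
        i ≫ φ.hom ≫ Limits.pullback.fst hX (Spec.map (CommRingCat.ofHom (algebraMap k (DualNumber k)))) = 𝟙 X ∧
          ∀ j, p' j ≫ φ.hom ≫
              Limits.pullback.fst hX (Spec.map (CommRingCat.ofHom (algebraMap k (DualNumber k)))) =
            Spec.map (CommRingCat.ofHom (algebraMap k (DualNumber k))) ≫ p j := by
  classical
  let A := DualNumber k
  let e : A →ₐ[k] k := TrivSqZeroExt.fstHom k k k
  -- `X'` is affine
  have : IsClosedImmersion i :=
    MorphismProperty.of_isPullback hsq.flip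
      (Groth.Agent.Lib.Helper59.AffDeform.isClosedImmersion_specMap_e e)
  have : Surjective i := MorphismProperty.of_isPullback hsq.flip
    (Groth.Agent.Lib.Helper59.AffDeform.surjective_specMap_e e)
  have : IsAffine X' :=
    Groth.Agent.Lib.Helper18.ThickAffine.isAffine_of_isClosedImmersion_of_surjective i
      (Surjective.surj)
  -- ring-level data
  obtain ⟨φ₀, hφ₀⟩ : ∃ φ₀ : CommRingCat.of k ⟶ Γ(X, ⊤),
      φ₀ = (Scheme.ΓSpecIso (CommRingCat.of k)).inv ≫ hX.appTop := ⟨_, rfl⟩
  obtain ⟨φ, hφ⟩ : ∃ φ : CommRingCat.of A ⟶ Γ(X', ⊤),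
      φ = (Scheme.ΓSpecIso (CommRingCat.of A)).inv ≫ g.appTop := ⟨_, rfl⟩
  obtain ⟨q', hq'⟩ : ∃ q' : Γ(X', ⊤) ⟶ Γ(X, ⊤), q' = i.appTop := ⟨_, rfl⟩
  obtain ⟨π', hπ'⟩ : ∃ π' : ι → (Γ(X', ⊤) ⟶ CommRingCat.of A),
      π' = fun j => (p' j).appTop ≫ (Scheme.ΓSpecIso (CommRingCat.of A)).hom := ⟨_, rfl⟩
  obtain ⟨ρ', hρ'⟩ : ∃ ρ' : ι → (Γ(X, ⊤) ⟶ CommRingCat.of k),
      ρ' = fun j => (p j).appTop ≫ (Scheme.ΓSpecIso (CommRingCat.of k)).hom := ⟨_, rfl⟩
  have hhX : hX = X.isoSpec.hom ≫ Spec.map φ₀ := by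
    have h := Scheme.isoSpec_hom_naturality hX
    rw [Scheme.isoSpec_Spec_hom] at h
    rw [hφ₀, Spec.map_comp, ← Category.assoc, h, Category.assoc, ← Spec.map_comp, Iso.inv_hom_id,
      Spec.map_id, Category.comp_id]
  have hg : g = X'.isoSpec.hom ≫ Spec.map φ := by
    have h := Scheme.isoSpec_hom_naturality g
    rw [Scheme.isoSpec_Spec_hom] at h
    rw [hφ, Spec.map_comp, ← Category.assoc, h, Category.assoc, ← Spec.map_comp, Iso.inv_hom_id,
      Spec.map_id, Category.comp_id]
  have hi : i = X.isoSpec.hom ≫ Spec.map q' ≫ X'.isoSpec.inv := by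
    have h := Scheme.isoSpec_hom_naturality i
    rw [hq', ← Category.assoc, h, Category.assoc, Iso.hom_inv_id, Category.comp_id]
  have hpj : ∀ j, p j = Spec.map (ρ' j) ≫ X.isoSpec.inv := by
    intro j
    have h := Scheme.isoSpec_inv_naturality (p j)
    rw [Scheme.isoSpec_Spec_inv] at h
    rw [hρ', Spec.map_comp, Category.assoc, h, ← Category.assoc, ← Spec.map_comp, Iso.inv_hom_id,
      Spec.map_id, Category.id_comp]
  have hp'j : ∀ j, p' j = Spec.map (π' j) ≫ X'.isoSpec.inv := by
    intro j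
    have h := Scheme.isoSpec_inv_naturality (p' j)
    rw [Scheme.isoSpec_Spec_inv] at h
    rw [hπ', Spec.map_comp, Category.assoc, h, ← Category.assoc, ← Spec.map_comp, Iso.inv_hom_id,
      Spec.map_id, Category.id_comp]
  have hq_surj : Function.Surjective q'.hom := by
    rw [hq']
    exact (IsClosedImmersion.isAffine_surjective_of_isAffine i).2
  clear hφ₀ hφ hq' hπ' hρ'
  -- ring-level equations
  have hsq' : IsPullback (Spec.map q') (Spec.map φ₀) (Spec.map φ)
      (Spec.map (CommRingCat.ofHom e.toRingHom)) := by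
    refine hsq.of_iso X.isoSpec X'.isoSpec (Iso.refl _) (Iso.refl _) ?_ ?_ ?_ ?_
    · rw [hi]; simp
    · rw [Iso.refl_hom, Category.comp_id]; exact hhX
    · rw [Iso.refl_hom, Category.comp_id]; exact hg
    · simp
  have hφρ : ∀ j, φ₀ ≫ ρ' j = 𝟙 _ := by
    intro j
    apply Spec.map_injective
    have h := hp j
    rw [hpj j, hhX, Category.assoc, Iso.inv_hom_id_assoc, ← Spec.map_comp] at h
    rw [h, Spec.map_id]
  have hφπ : ∀ j, φ ≫ π' j = 𝟙 _ := by
    intro j
    apply Spec.map_injective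
    have h := hp' j
    rw [hp'j j, hg, Category.assoc, Iso.inv_hom_id_assoc, ← Spec.map_comp] at h
    rw [h, Spec.map_id]
  have hqρ : ∀ j, q' ≫ ρ' j = π' j ≫ CommRingCat.ofHom e.toRingHom := by
    intro j
    apply Spec.map_injective
    have h := hpp' j
    rw [hpj j, hp'j j, hi, Category.assoc, Iso.inv_hom_id_assoc, ← Category.assoc,
      ← Category.assoc] at h
    have h2 := (cancel_mono _).mp h
    rw [← Spec.map_comp, ← Spec.map_comp] at h2
    exact h2
  have hflat : φ.hom.Flat := by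
    have h1 : Flat (Spec.map φ) := by
      have : Spec.map φ = X'.isoSpec.inv ≫ g := by rw [hg, Iso.inv_hom_id_assoc]
      rw [this]
      infer_instance
    exact (HasRingHomProperty.Spec_iff (P := @Flat)).mp h1
  have hsmooth : φ₀.hom.Smooth := by
    have h1 : Smooth (Spec.map φ₀) := by
      have : Spec.map φ₀ = X.isoSpec.inv ≫ hX := by rw [hhX, Iso.inv_hom_id_assoc]
      rw [this]
      infer_instance
    exact (HasRingHomProperty.Spec_iff (P := @Smooth)).mp h1
  letI algAB : Algebra A Γ(X', ⊤) := φ.hom.toAlgebra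
  letI algkB : Algebra k Γ(X', ⊤) := (φ.hom.comp (algebraMap k A)).toAlgebra
  haveI : IsScalarTower k A Γ(X', ⊤) := by
    constructor
    intro c a b
    change φ.hom (c • a) * b = φ.hom (algebraMap k A c) * (φ.hom a * b)
    rw [Algebra.smul_def, map_mul, mul_assoc]
  haveI : Module.Flat A Γ(X', ⊤) := hflat
  letI algkB₀ : Algebra k Γ(X, ⊤) := φ₀.hom.toAlgebra
  haveI : Algebra.Smooth k Γ(X, ⊤) := hsmooth
  obtain ⟨hqA, hker⟩ := Groth.Agent.Lib.Helper59.AffDeform.ring_facts e (B := Γ(X', ⊤))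
    (B₀ := Γ(X, ⊤)) q'.hom hsq'
  -- algebra-level inputs
  let q : Γ(X', ⊤) →ₐ[k] Γ(X, ⊤) :=
    { q'.hom with
      commutes' := fun c => by
        change q'.hom (φ.hom (algebraMap k A c)) = φ₀.hom c
        have h1 := hqA (algebraMap k A c)
        have h2 : e (algebraMap k A c) = c := e.commutes c
        rw [h2] at h1
        exact h1 }
  have hker' : RingHom.ker (q : Γ(X', ⊤) →+* Γ(X, ⊤)) =
      Ideal.span {algebraMap A Γ(X', ⊤) DualNumber.eps} := by
    change RingHom.ker q'.hom = _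
    rw [hker, maximalIdeal_dualNumber, Ideal.map_span, Set.image_singleton]
  have hqA' : ∀ a : A, q (algebraMap A Γ(X', ⊤) a) = algebraMap k Γ(X, ⊤) a.fst := hqA
  let ρ : ι → (Γ(X, ⊤) →ₐ[k] k) := fun j =>
    { (ρ' j).hom with
      commutes' := fun c => by
        change (ρ' j).hom (φ₀.hom c) = c
        exact congrArg (fun f => f.hom c) (hφρ j) }
  let π : ι → (Γ(X', ⊤) →ₐ[A] A) := fun j =>
    { (π' j).hom with
      commutes' := fun a => by
        change (π' j).hom (φ.hom a) = a
        exact congrArg (fun f => f.hom a) (hφπ j) }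
  have hρinj : Function.Injective ρ := by
    intro j₁ j₂ h
    apply hinj
    rw [hpj, hpj]
    have : ρ' j₁ = ρ' j₂ := by
      ext x
      exact congrArg (fun f : Γ(X, ⊤) →ₐ[k] k => f x) h
    rw [this]
  have hπ : ∀ j b, (π j b).fst = ρ j (q b) := by
    intro j b
    have := congrArg (fun f => f.hom b) (hqρ j)
    exact this.symm
  obtain ⟨s, hs1, hs2⟩ := Lib.Helper58.MarkedSection.exists_section q hq_surj hker' hqA' ρ hρinj
    π hπ
  -- the trivialisation
  have H0 := Groth.Agent.Lib.Helper59.AffDeformAlg.isPullback_of_section e q'.hom hker hqA s hs1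
  let r : X' ⟶ X :=
    X'.isoSpec.hom ≫ Spec.map (CommRingCat.ofHom (s : Γ(X, ⊤) →+* Γ(X', ⊤))) ≫ X.isoSpec.inv
  have H : IsPullback r g hX (Spec.map (CommRingCat.ofHom (algebraMap k A))) := by
    refine H0.of_iso X'.isoSpec.symm X.isoSpec.symm (Iso.refl _) (Iso.refl _) ?_ ?_ ?_ ?_
    · simp [r]
    · rw [Iso.refl_hom, Category.comp_id, Iso.symm_hom, hg, Iso.inv_hom_id_assoc]
      rfl
    · rw [Iso.refl_hom, Category.comp_id, Iso.symm_hom, hhX, Iso.inv_hom_id_assoc]
      rfl
    · simp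
  have hsq1 : CommRingCat.ofHom (s : Γ(X, ⊤) →+* Γ(X', ⊤)) ≫ q' = 𝟙 _ := by
    ext b
    exact hs1 b
  have hsπ : ∀ j, CommRingCat.ofHom (s : Γ(X, ⊤) →+* Γ(X', ⊤)) ≫ π' j =
      ρ' j ≫ CommRingCat.ofHom (algebraMap k A) := by
    intro j
    exact CommRingCat.hom_ext (RingHom.ext fun b => hs2 j b)
  refine ⟨H.isoPullback, H.isoPullback_hom_snd, ?_, ?_⟩
  · rw [H.isoPullback_hom_fst, hi]
    change (X.isoSpec.hom ≫ Spec.map q' ≫ X'.isoSpec.inv) ≫ X'.isoSpec.hom ≫
      Spec.map (CommRingCat.ofHom (s : Γ(X, ⊤) →+* Γ(X', ⊤))) ≫ X.isoSpec.inv = 𝟙 X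
    rw [Category.assoc, Category.assoc, Iso.inv_hom_id_assoc, ← Spec.map_comp_assoc, hsq1,
      Spec.map_id]
    exact (congrArg (fun t => X.isoSpec.hom ≫ t) (Category.id_comp X.isoSpec.inv)).trans
      X.isoSpec.hom_inv_id
  · intro j
    rw [H.isoPullback_hom_fst, hp'j j, hpj j]
    change (Spec.map (π' j) ≫ X'.isoSpec.inv) ≫ X'.isoSpec.hom ≫
      Spec.map (CommRingCat.ofHom (s : Γ(X, ⊤) →+* Γ(X', ⊤))) ≫ X.isoSpec.inv = _
    rw [Category.assoc, Iso.inv_hom_id_assoc, ← Spec.map_comp_assoc, hsπ j, Spec.map_comp_assoc]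

end Groth.Agent.S15991
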