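import Groth.Statements.S15993
import Mathlib

set_option autoImplicit false
open CategoryTheory AlgebraicGeometry
universe u
open EtHull

namespace Groth.Agent.S15993


open CategoryTheory.Limits in
set_option backward.isDefEq.respectTransparency false in
/-- A schematically dense (prelude sense) retrocompact open has scheme-theoretically dominant
inclusion. -/
theorem isSchemeTheoreticallyDominant_ι {X : Scheme.{u}} (V : X.Opens) [QuasiCompact V.ι]
    (hV : CInt.IsSchematicallyDense V) : IsSchemeTheoreticallyDominant V.ι := by
  rw [isSchemeTheoreticallyDominant_iff]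
  ext W : 2
  rw [Scheme.Hom.ker_apply, Scheme.IdealSheafData.ideal_bot]
  simp only [Pi.bot_apply]
  rw [← RingHom.injective_iff_ker_eq_bot]
  have e : V.ι ''ᵁ V.ι ⁻¹ᵁ W.1 = W.1 ⊓ V := by
    rw [Scheme.Hom.image_preimage_eq_opensRange_inf, Scheme.Opens.opensRange_ι, inf_comm]
  have h1 : V.ι.app W.1 = X.presheaf.map (homOfLE (inf_le_left : W.1 ⊓ V ≤ W.1)).op ≫
      X.presheaf.map (eqToHom e).op := by
    rw [Scheme.Opens.ι_app, ← Functor.map_comp]
    rfl
  rw [h1, CommRingCat.hom_comp, RingHom.coe_comp]
  refine Function.Injective.comp ?_ (hV W.1)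
  exact (ConcreteCategory.bijective_of_isIso (X.presheaf.map (eqToHom e).op)).1

/-- Let f : X → S be a morphism of schemes which is faithfully flat (flat and surjective), quasi-compact
and separated, and schematically birational in the following sense: there are schematically dense
opens U of S and V of X, with the inclusion V → X quasi-compact, such that f maps V into U and the
induced morphism V → U is an isomorphism. Then f is an isomorphism. (The source states this for
algebraic spaces and puts no quasi-compactness condition on the dense opens. Its proof base-changes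
along f and uses that the inverse image of V in X ×_S X is again schematically dense, which holds
when V → X is quasi-compact, for instance when X is locally Noetherian, and fails in general: over
the Boolean ring of eventually constant sequences of elements of the field with two elements, the
spectrum of the ring of eventually two-periodic sequences is faithfully flat and affine, and it is
an isomorphism above the open set of principal points, which is schematically dense on both sides,
yet it is not an isomorphism, the point at infinity being doubled. So V is taken retrocompact in X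
here, and X, S are schemes.) -/
theorem result {X S : Scheme.{u}} (f : X ⟶ S)
    [Flat f] [Surjective f] [QuasiCompact f] [IsSeparated f]
    (U : S.Opens) (V : X.Opens) [QuasiCompact V.ι]
    (hU : CInt.IsSchematicallyDense U) (hV : CInt.IsSchematicallyDense V)
    (hle : V ≤ f ⁻¹ᵁ U) (hiso : IsIso (f.resLE U V hle)) : IsIso f := by
  have hVd : IsSchemeTheoreticallyDominant V.ι := isSchemeTheoreticallyDominant_ι V hV
  have hpb1 := isPullback_morphismRestrict (Limits.pullback.fst f f) V
  have hW₁ : IsSchemeTheoreticallyDominant ((Limits.pullback.fst f f) ⁻¹ᵁ V).ι :=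
    .of_isPullback hpb1
  have hW₁q : QuasiCompact ((Limits.pullback.fst f f) ⁻¹ᵁ V).ι :=
    MorphismProperty.of_isPullback hpb1 ‹_›
  have hpb2 := isPullback_morphismRestrict
    (((Limits.pullback.fst f f) ⁻¹ᵁ V).ι ≫ Limits.pullback.snd f f) V
  have hT : IsSchemeTheoreticallyDominant
      ((((Limits.pullback.fst f f) ⁻¹ᵁ V).ι ≫ Limits.pullback.snd f f) ⁻¹ᵁ V).ι :=
    .of_isPullback hpb2
  have hTq : QuasiCompact
      ((((Limits.pullback.fst f f) ⁻¹ᵁ V).ι ≫ Limits.pullback.snd f f) ⁻¹ᵁ V).ι :=
    MorphismProperty.of_isPullback hpb2 ‹_›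
  set W₁ := (Limits.pullback.fst f f) ⁻¹ᵁ V with hW₁def
  set T := (W₁.ι ≫ Limits.pullback.snd f f) ⁻¹ᵁ V with hTdef
  have hmono : Mono (V.ι ≫ f) := by
    rw [← Scheme.Hom.resLE_comp_ι f hle]
    infer_instance
  have h12 : (T.ι ≫ W₁.ι) ≫ Limits.pullback.fst f f = (T.ι ≫ W₁.ι) ≫ Limits.pullback.snd f f := by
    have ha : (T.ι ≫ W₁.ι) ≫ Limits.pullback.fst f f =
        (T.ι ≫ (Limits.pullback.fst f f ∣_ V)) ≫ V.ι := by
      rw [Category.assoc, Category.assoc, morphismRestrict_ι]
    have hb : (T.ι ≫ W₁.ι) ≫ Limits.pullback.snd f f =
        ((W₁.ι ≫ Limits.pullback.snd f f) ∣_ V) ≫ V.ι := by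
      rw [morphismRestrict_ι, Category.assoc]
    have hab : T.ι ≫ (Limits.pullback.fst f f ∣_ V) = (W₁.ι ≫ Limits.pullback.snd f f) ∣_ V := by
      rw [← cancel_mono (V.ι ≫ f), ← Category.assoc, ← ha, ← Category.assoc, ← hb]
      simp only [Category.assoc, Limits.pullback.condition]
    rw [ha, hb, hab]
  have hΔ : (T.ι ≫ W₁.ι) = ((T.ι ≫ W₁.ι) ≫ Limits.pullback.fst f f) ≫ Limits.pullback.diagonal f := by
    apply Limits.pullback.hom_ext
    · simp
    · simp only [Category.assoc, Limits.pullback.diagonal_snd, Category.comp_id]
      simpa only [Category.assoc] using h12.symm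
  have hΔd : IsSchemeTheoreticallyDominant (Limits.pullback.diagonal f) := by
    rw [isSchemeTheoreticallyDominant_iff, ← le_bot_iff]
    have h1 : IsSchemeTheoreticallyDominant (T.ι ≫ W₁.ι) := inferInstance
    rw [hΔ] at h1
    rw [← h1.ker_eq_bot]
    exact Scheme.Hom.le_ker_comp _ _
  have hΔiso : IsIso (Limits.pullback.diagonal f) :=
    IsClosedImmersion.isIso_iff_ker_eq_bot.mpr hΔd.ker_eq_bot
  have hfst : IsIso (Limits.pullback.fst f f) := by
    have : Limits.pullback.fst f f = inv (Limits.pullback.diagonal f) := by
      rw [← cancel_epi (Limits.pullback.diagonal f)]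
      simp
    rw [this]; infer_instance
  exact MorphismProperty.of_pullback_fst_of_descendsAlong
    (P := MorphismProperty.isomorphisms Scheme.{u})
    (Q := (@Surjective ⊓ @Flat ⊓ @QuasiCompact : MorphismProperty Scheme.{u}))
    (f := f) (g := f) ⟨⟨inferInstance, inferInstance⟩, inferInstance⟩ hfst

end Groth.Agent.S15993
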