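import Groth.Statements.S15995
import Mathlib

set_option autoImplicit false
open CategoryTheory AlgebraicGeometry
universe u

namespace Groth.Agent.S15995

open CategoryTheory.Limits FrobSch

theorem isIso_relFrob_iff (p : ℕ) [Fact p.Prime] {X S : Scheme.{u}} [IsCharP S p] [IsCharP X p]
    (f : X ⟶ S) : IsIso (relFrob f p) ↔ IsPullback (frob X p) f f (frob S p) := by
  constructor
  · intro h
    exact IsPullback.of_iso_pullback ⟨frob_comp p f⟩ (asIso (relFrob f p))
      (relFrob_fst f p) (relFrob_snd f p)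
  · intro h
    have : relFrob f p = h.isoPullback.hom := by
      apply pullback.hom_ext
      · rw [relFrob_fst, IsPullback.isoPullback_hom_fst]
      · rw [relFrob_snd, IsPullback.isoPullback_hom_snd]
    rw [this]
    infer_instance

/-- base change of a relatively perfect morphism -/
theorem isIso_relFrob_baseChange (p : ℕ) [Fact p.Prime] {Y T S : Scheme.{u}} [IsCharP S p]
    [IsCharP T p] (r : Y ⟶ S) (f : T ⟶ S) (hr : IsIso (relFrob r p)) :
    IsIso (relFrob (pullback.snd r f) p) := by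
  haveI : IsCharP Y p := IsCharP.of_hom r p
  haveI : IsCharP (pullback r f) p := IsCharP.of_hom (pullback.snd r f) p
  rw [isIso_relFrob_iff] at hr ⊢
  have hbase : IsPullback (pullback.fst r f) (pullback.snd r f) r f := IsPullback.of_hasPullback r f
  have hbig := hbase.paste_horiz hr
  rw [← frob_comp p (pullback.fst r f), ← frob_comp p f] at hbig
  exact IsPullback.of_right hbig (frob_comp p (pullback.snd r f)) hbase

theorem result (p : ℕ) [Fact p.Prime] {X X' T S : Scheme.{u}}
    [FrobSch.IsCharP S p] [FrobSch.IsCharP T p] (f : T ⟶ S) (hf : IsIso (FrobSch.relFrob f p))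
    (g : X ⟶ T) (π : X' ⟶ T) (hπ : IsIso (FrobSch.relFrob π p)) (c : X ⟶ X') (hc : c ≫ π = g)
    (huniv : ∀ (Y : Scheme.{u}) (q : Y ⟶ T), IsIso (FrobSch.relFrob q p) →
      ∀ k : X ⟶ Y, k ≫ q = g → ∃! h : X' ⟶ Y, h ≫ q = π ∧ c ≫ h = k) :
    IsIso (FrobSch.relFrob (π ≫ f) p) ∧
      ∀ (Y : Scheme.{u}) (r : Y ⟶ S), IsIso (FrobSch.relFrob r p) →
        ∀ k : X ⟶ Y, k ≫ r = g ≫ f → ∃! h : X' ⟶ Y, h ≫ r = π ≫ f ∧ c ≫ h = k := by
  haveI : IsCharP X' p := IsCharP.of_hom π p
  constructor
  · rw [isIso_relFrob_iff] at hf hπ ⊢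
    exact hπ.paste_vert hf
  · intro Y r hr k hk
    have hP := isIso_relFrob_baseChange p r f hr
    obtain ⟨h', ⟨hh1, hh2⟩, huniq⟩ := huniv (pullback r f) (pullback.snd r f) hP
      (pullback.lift k g hk) (pullback.lift_snd _ _ _)
    refine ⟨h' ≫ pullback.fst r f, ⟨?_, ?_⟩, ?_⟩
    · rw [Category.assoc, pullback.condition, ← Category.assoc, hh1]
    · rw [← Category.assoc, hh2, pullback.lift_fst]
    · rintro h₂ ⟨h21, h22⟩
      have := huniq (pullback.lift h₂ π h21) ⟨pullback.lift_snd _ _ _, by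
        apply pullback.hom_ext
        · rw [Category.assoc, pullback.lift_fst, pullback.lift_fst, h22]
        · rw [Category.assoc, pullback.lift_snd, pullback.lift_snd, hc]⟩
      rw [← this, pullback.lift_fst]

end Groth.Agent.S15995
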