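import Groth.Statements.S16000
import Mathlib
import Groth.Agent.Lib.Helper81.PerfFlat

set_option autoImplicit false
universe u
open FrobAlg

namespace Groth.Agent.S16000

open TensorProduct in
/-- Let p be a prime, R a commutative ring of characteristic p such that R is a projective R-module
through its absolute Frobenius, and A a commutative R-algebra of characteristic p, with Frobenius
twists A^{p^i/R} = R ⊗_{F^i,R} A, relative Frobenius maps A^{p^{i+1}/R} → A^{p^i/R} and
preperfection A^{p^∞/R} = lim_i A^{p^i/R} ⊆ Π_i A^{p^i/R}. Let R' be the direct-limit perfection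
colim(R → R → ⋯) of R along Frobenius, an R-module through the canonical map R → R'. Then the
natural map R' ⊗_R A^{p^∞/R} → Π_i (R' ⊗_R A^{p^i/R}), r ⊗ x ↦ (r ⊗ x_i)_i, is injective; in
particular the base-change map R' ⊗_R lim_i A^{p^i/R} → lim_i (R' ⊗_R A^{p^i/R}) is injective. (The
published statement identifies the target limit with the preperfection of A ⊗_R R' over R'; that
identification is not part of this row.) -/
theorem result
    (p : ℕ) [Fact p.Prime] (R : Type u) [CommRing R] [CharP R p]
    (A : Type u) [CommRing A] [Algebra R A] [CharP A p]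
    [Module.Projective R (FrobAlg.Twist p R)] :
    letI : Algebra R (PerfectClosure R p) := (PerfectClosure.of R p).toAlgebra
    Function.Injective
      (LinearMap.pi fun i : ℕ =>
        LinearMap.lTensor (PerfectClosure R p)
          (((Pi.evalAlgHom R (fun k => W4c1imperftorsors.Twist p R A k) i).comp
            (W4c1imperftorsors.prePerf p R A).val).toLinearMap) :
        PerfectClosure R p ⊗[R] ↥(W4c1imperftorsors.prePerf p R A) →ₗ[R]
          (Π i : ℕ, PerfectClosure R p ⊗[R] W4c1imperftorsors.Twist p R A i)) := by
  classical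
  have e1 : FrobAlg.Twist p R ≃ₗ[R] Groth.Agent.Lib.Helper81.PerfFlat.Tw p R 1 :=
    { ((FrobAlg.toTwist p R).symm.trans
        (Groth.Agent.Lib.Helper81.PerfFlat.Tw.e p R 1)).toAddEquiv with
      map_smul' := fun r x => by
        show Groth.Agent.Lib.Helper81.PerfFlat.Tw.e p R 1 ((FrobAlg.toTwist p R).symm (r • x)) =
          r • Groth.Agent.Lib.Helper81.PerfFlat.Tw.e p R 1 ((FrobAlg.toTwist p R).symm x)
        rw [Groth.Agent.Lib.Helper81.PerfFlat.Tw.smul_def, Algebra.smul_def,
          FrobAlg.algebraMap_twist, map_mul, RingEquiv.symm_apply_apply, map_mul, pow_one] }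
  have : Module.Projective R (Groth.Agent.Lib.Helper81.PerfFlat.Tw p R 1) :=
    Module.Projective.of_equiv' e1
  refine Groth.Agent.Lib.Helper81.PerfFlat.pi_lTensor_perfectClosure_injective p R
    (fun i : ℕ => ((Pi.evalAlgHom R (fun k => W4c1imperftorsors.Twist p R A k) i).comp
      (W4c1imperftorsors.prePerf p R A).val).toLinearMap) ?_
  intro x hx
  apply Subtype.ext
  funext i
  exact hx i

end Groth.Agent.S16000
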