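import Groth.Statements.S16001
import Mathlib

set_option autoImplicit false
universe u
open FrobAlg

namespace Groth.Agent.S16001

open TensorProduct

section

variable (p : ℕ) [Fact p.Prime] (A : Type u) [CommRing A] [CharP A p]
  (B : Type u) [CommRing B] [Algebra A B] [CharP B p]

theorem relFrob_tmul (b : B) (a : Twist p A) :
    FrobAlg.relFrob p A B (b ⊗ₜ[A] a) = b ^ p * algebraMap A B ((toTwist p A).symm a) := rfl

variable (C : Type u) [CommRing C] [Algebra A C] [CharP C p] (I : Ideal C)

/-- the map `c̄ ↦ c^p` from `C/I` to `C`, for a square-zero ideal -/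
noncomputable def psi (p : ℕ) [Fact p.Prime] (C : Type u) [CommRing C] [CharP C p] (I : Ideal C)
    (hI : I ^ 2 = ⊥) : C ⧸ I →+* C :=
  Ideal.Quotient.lift I (frobenius C p) (by
    intro i hi
    rw [frobenius_def]
    have hp2 : 2 ≤ p := (Fact.out : p.Prime).two_le
    have h2 : i ^ 2 ∈ I ^ 2 := Ideal.pow_mem_pow hi 2
    rw [hI, Ideal.mem_bot] at h2
    obtain ⟨k, rfl⟩ := Nat.exists_eq_add_of_le hp2
    rw [pow_add, h2, zero_mul])

theorem psi_mk (p : ℕ) [Fact p.Prime] (C : Type u) [CommRing C] [CharP C p] (I : Ideal C)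
    (hI : I ^ 2 = ⊥) (c : C) : psi p C I hI (Ideal.Quotient.mk I c) = c ^ p := rfl

theorem mk_psi (p : ℕ) [Fact p.Prime] (C : Type u) [CommRing C] [CharP C p] (I : Ideal C)
    (hI : I ^ 2 = ⊥) (y : C ⧸ I) : Ideal.Quotient.mk I (psi p C I hI y) = y ^ p := by
  obtain ⟨c, rfl⟩ := Ideal.Quotient.mk_surjective y
  rw [psi_mk, map_pow]

/-- `b ↦ ψ(g b)` as an `A`-algebra map to the Frobenius-twisted target -/
noncomputable def fHom (hI : I ^ 2 = ⊥) (g : B →ₐ[A] C ⧸ I) : B →ₐ[A] Target p A C where
  toRingHom := (toTarget p A C : C →+* Target p A C).comp ((psi p C I hI).comp g.toRingHom)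
  commutes' a := by
    show toTarget p A C (psi p C I hI (g (algebraMap A B a))) = _
    rw [AlgHom.commutes, algebraMap_target]
    congr 1

/-- the map `b ⊗ a ↦ ψ(g b) a` -/
noncomputable def Theta (hI : I ^ 2 = ⊥) (g : B →ₐ[A] C ⧸ I) : BaseChange p A B →+* C :=
  ((toTarget p A C).symm : Target p A C →+* C).comp
    (Algebra.TensorProduct.lift (fHom p A B C I hI g) (inclHom p A C)
      (fun _ _ => Commute.all _ _)).toRingHom

theorem Theta_tmul (hI : I ^ 2 = ⊥) (g : B →ₐ[A] C ⧸ I) (b : B) (a : Twist p A) :
    Theta p A B C I hI g (b ⊗ₜ[A] a) =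
      psi p C I hI (g b) * algebraMap A C ((toTwist p A).symm a) := rfl

theorem key (hI : I ^ 2 = ⊥) (g₁ : B →ₐ[A] C) (x : BaseChange p A B) :
    g₁ (FrobAlg.relFrob p A B x) =
      Theta p A B C I hI ((Ideal.Quotient.mkₐ A I).comp g₁) x := by
  induction x using TensorProduct.induction_on with
  | zero => simp
  | tmul b a =>
    rw [relFrob_tmul, Theta_tmul, map_mul, map_pow, AlgHom.commutes]
    rfl
  | add x y hx hy => rw [map_add, map_add, map_add, hx, hy]

theorem key2 (hI : I ^ 2 = ⊥) (g : B →ₐ[A] C ⧸ I) (x : BaseChange p A B) :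
    Ideal.Quotient.mk I (Theta p A B C I hI g x) = g (FrobAlg.relFrob p A B x) := by
  induction x using TensorProduct.induction_on with
  | zero => simp
  | tmul b a =>
    rw [relFrob_tmul, Theta_tmul, map_mul, mk_psi, map_mul, map_pow, AlgHom.commutes]
    rfl
  | add x y hx hy => rw [map_add, map_add, map_add, map_add, hx, hy]

end

theorem result (p : ℕ) [Fact p.Prime] (A : Type u) [CommRing A] [CharP A p]
    (B : Type u) [CommRing B] [Algebra A B] [CharP B p]
    (h : Function.Bijective (FrobAlg.relFrob p A B)) : Algebra.FormallyEtale A B := by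
  rw [Algebra.FormallyEtale.iff_comp_bijective]
  intro C _ _ I hI
  by_cases hC : Subsingleton C
  · -- trivial ring
    have hCI : Subsingleton (C ⧸ I) := by
      refine ⟨fun x y => ?_⟩
      obtain ⟨x, rfl⟩ := Ideal.Quotient.mk_surjective x
      obtain ⟨y, rfl⟩ := Ideal.Quotient.mk_surjective y
      rw [Subsingleton.elim x y]
    constructor
    · intro g₁ g₂ _
      apply AlgHom.ext
      intro b
      exact Subsingleton.elim _ _
    · intro g
      let g₀ : B →ₐ[A] C :=
        { toFun := fun _ => 0
          map_one' := Subsingleton.elim _ _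
          map_mul' := fun _ _ => by simp
          map_zero' := rfl
          map_add' := fun _ _ => by simp
          commutes' := fun _ => Subsingleton.elim _ _ }
      refine ⟨g₀, ?_⟩
      apply AlgHom.ext
      intro b
      exact Subsingleton.elim _ _
  · have hnt : Nontrivial C := not_subsingleton_iff_nontrivial.mp hC
    have hpC : (p : C) = 0 := by
      have : (p : C) = algebraMap A C (p : A) := (map_natCast (algebraMap A C) p).symm
      rw [this, CharP.cast_eq_zero, map_zero]
    have : CharP C p := (CharP.charP_iff_prime_eq_zero (Fact.out : p.Prime)).mpr hpC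
    constructor
    · intro g₁ g₂ h12
      apply AlgHom.ext
      intro b
      obtain ⟨x, rfl⟩ := h.2 b
      rw [key p A B C I hI g₁ x, key p A B C I hI g₂ x]
      have : (Ideal.Quotient.mkₐ A I).comp g₁ = (Ideal.Quotient.mkₐ A I).comp g₂ := h12
      rw [this]
    · intro g
      let E : BaseChange p A B ≃+* B := RingEquiv.ofBijective (FrobAlg.relFrob p A B) h
      have hE : ∀ x, E x = FrobAlg.relFrob p A B x := fun x => rfl
      let gt : B →ₐ[A] C :=
        { toRingHom := (Theta p A B C I hI g).comp (E.symm : B →+* BaseChange p A B)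
          commutes' := by
            intro a
            show Theta p A B C I hI g (E.symm (algebraMap A B a)) = algebraMap A C a
            have h1 : E ((1 : B) ⊗ₜ[A] (toTwist p A a)) = algebraMap A B a := by
              rw [hE, relFrob_tmul]
              simp
            rw [← h1, RingEquiv.symm_apply_apply, Theta_tmul]
            simp }
      refine ⟨gt, ?_⟩
      apply AlgHom.ext
      intro b
      show Ideal.Quotient.mk I (Theta p A B C I hI g (E.symm b)) = g b
      rw [key2, ← hE, RingEquiv.apply_symm_apply]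

end Groth.Agent.S16001
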