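import Groth.Statements.S1601
import Mathlib

set_option autoImplicit false
universe u
open Resolve

namespace Groth.Agent.S1601
open MvPolynomial


section B
variable {κ : Type u} [Field κ] (I : Ideal (MvPolynomial (Fin 2) κ))

lemma sub_C_eval_mem (v : Fin 2 → κ) (hv : ∀ i, (X i - C (v i) : MvPolynomial (Fin 2) κ) ∈ I)
    (p : MvPolynomial (Fin 2) κ) : p - C (eval v p) ∈ I := by
  induction p using MvPolynomial.induction_on with
  | C c => simp
  | add p q hp hq =>
    have : p + q - C (eval v (p + q)) = (p - C (eval v p)) + (q - C (eval v q)) := by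
      rw [map_add, map_add]; ring
    rw [this]
    exact I.add_mem hp hq
  | mul_X p i hp =>
    have : p * X i - C (eval v (p * X i)) =
        (p - C (eval v p)) * X i + C (eval v p) * (X i - C (v i)) := by
      rw [map_mul, eval_X, map_mul]; ring
    rw [this]
    exact I.add_mem (I.mul_mem_right _ hp) (I.mul_mem_left _ (hv i))

lemma finite_of_pt (v : Fin 2 → κ) (hv : ∀ i, (X i - C (v i) : MvPolynomial (Fin 2) κ) ∈ I) :
    Module.Finite κ (MvPolynomial (Fin 2) κ ⧸ I) ∧
      Module.finrank κ (MvPolynomial (Fin 2) κ ⧸ I) ≤ 1 := by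
  let g : κ →ₗ[κ] (MvPolynomial (Fin 2) κ ⧸ I) :=
    (Algebra.linearMap κ (MvPolynomial (Fin 2) κ ⧸ I))
  have hg : Function.Surjective g := by
    intro y
    obtain ⟨p, rfl⟩ := Ideal.Quotient.mk_surjective y
    refine ⟨eval v p, ?_⟩
    show algebraMap κ (MvPolynomial (Fin 2) κ ⧸ I) (eval v p) = _
    rw [IsScalarTower.algebraMap_apply κ (MvPolynomial (Fin 2) κ) (MvPolynomial (Fin 2) κ ⧸ I)]
    symm
    rw [Ideal.Quotient.algebraMap_eq, Ideal.Quotient.eq]
    exact sub_C_eval_mem I v hv p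
  have hfin : Module.Finite κ (MvPolynomial (Fin 2) κ ⧸ I) := Module.Finite.of_surjective g hg
  refine ⟨hfin, ?_⟩
  have := LinearMap.finrank_le_finrank_of_surjective hg
  rwa [Module.finrank_self] at this

/-- two elements of degree `≤ 1` in an ideal of colength `≥ 2` are proportional. -/
lemma minors (hI : ¬ (Module.Finite κ (MvPolynomial (Fin 2) κ ⧸ I) ∧
      Module.finrank κ (MvPolynomial (Fin 2) κ ⧸ I) ≤ 1))
    (a₁ b₁ c₁ a₂ b₂ c₂ : κ)
    (h₁ : (C a₁ + C b₁ * X 0 + C c₁ * X 1 : MvPolynomial (Fin 2) κ) ∈ I)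
    (h₂ : (C a₂ + C b₂ * X 0 + C c₂ * X 1 : MvPolynomial (Fin 2) κ) ∈ I) :
    a₁ * b₂ = a₂ * b₁ ∧ a₁ * c₂ = a₂ * c₁ ∧ b₁ * c₂ = b₂ * c₁ := by
  by_contra hcon
  apply hI
  -- it suffices to find a point
  suffices h : ∃ x₀ y₀ : κ, (X 0 - C x₀ : MvPolynomial (Fin 2) κ) ∈ I ∧
      (X 1 - C y₀ : MvPolynomial (Fin 2) κ) ∈ I by
    obtain ⟨x₀, y₀, hx, hy⟩ := h
    apply finite_of_pt I ![x₀, y₀]
    intro i
    fin_cases i
    · simpa using hx
    · simpa using hy
  have top_case : ∀ E : κ, E ≠ 0 → (C E : MvPolynomial (Fin 2) κ) ∈ I →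
      ∃ x₀ y₀ : κ, (X 0 - C x₀ : MvPolynomial (Fin 2) κ) ∈ I ∧
      (X 1 - C y₀ : MvPolynomial (Fin 2) κ) ∈ I := by
    intro E hE hmem
    have : I = ⊤ := by
      apply Ideal.eq_top_of_isUnit_mem _ hmem
      exact (IsUnit.mk0 E hE).map C
    exact ⟨0, 0, by rw [this]; trivial, by rw [this]; trivial⟩
  by_cases hD : b₁ * c₂ - b₂ * c₁ = 0
  · by_cases hE : a₁ * b₂ - a₂ * b₁ = 0
    · have hF : a₁ * c₂ - a₂ * c₁ ≠ 0 := by
        intro hF
        apply hcon
        exact ⟨sub_eq_zero.mp hE, sub_eq_zero.mp hF, sub_eq_zero.mp hD⟩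
      apply top_case _ hF
      have : (C (a₁ * c₂ - a₂ * c₁) : MvPolynomial (Fin 2) κ) =
          C c₂ * (C a₁ + C b₁ * X 0 + C c₁ * X 1) - C c₁ * (C a₂ + C b₂ * X 0 + C c₂ * X 1)
            - C (b₁ * c₂ - b₂ * c₁) * X 0 := by
        simp only [map_sub, map_mul]; ring
      rw [this, hD, map_zero, zero_mul, sub_zero]
      exact I.sub_mem (I.mul_mem_left _ h₁) (I.mul_mem_left _ h₂)
    · apply top_case _ hE
      have : (C (a₁ * b₂ - a₂ * b₁) : MvPolynomial (Fin 2) κ) =
          C b₂ * (C a₁ + C b₁ * X 0 + C c₁ * X 1) - C b₁ * (C a₂ + C b₂ * X 0 + C c₂ * X 1)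
            + C (b₁ * c₂ - b₂ * c₁) * X 1 := by
        simp only [map_sub, map_mul]; ring
      rw [this, hD, map_zero, zero_mul, add_zero]
      exact I.sub_mem (I.mul_mem_left _ h₁) (I.mul_mem_left _ h₂)
  · set D := b₁ * c₂ - b₂ * c₁ with hDdef
    refine ⟨-(a₁ * c₂ - a₂ * c₁) / D, -(a₂ * b₁ - a₁ * b₂) / D, ?_, ?_⟩
    · have : (X 0 - C (-(a₁ * c₂ - a₂ * c₁) / D) : MvPolynomial (Fin 2) κ) =
          C (1 / D) * (C c₂ * (C a₁ + C b₁ * X 0 + C c₁ * X 1)
            - C c₁ * (C a₂ + C b₂ * X 0 + C c₂ * X 1)) := by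
        have e1 : (C c₂ * (C a₁ + C b₁ * X 0 + C c₁ * X 1)
            - C c₁ * (C a₂ + C b₂ * X 0 + C c₂ * X 1) : MvPolynomial (Fin 2) κ) =
            C (a₁ * c₂ - a₂ * c₁) + C D * X 0 := by
          rw [hDdef]; simp only [map_sub, map_mul]; ring
        rw [e1, mul_add, ← map_mul, ← mul_assoc, ← map_mul, one_div, inv_mul_cancel₀ hD, map_one,
          one_mul, sub_eq_add_neg, ← map_neg, add_comm]
        congr 2
        field_simp
      rw [this]
      exact I.mul_mem_left _ (I.sub_mem (I.mul_mem_left _ h₁) (I.mul_mem_left _ h₂))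
    · have : (X 1 - C (-(a₂ * b₁ - a₁ * b₂) / D) : MvPolynomial (Fin 2) κ) =
          C (1 / D) * (C b₁ * (C a₂ + C b₂ * X 0 + C c₂ * X 1)
            - C b₂ * (C a₁ + C b₁ * X 0 + C c₁ * X 1)) := by
        have e1 : (C b₁ * (C a₂ + C b₂ * X 0 + C c₂ * X 1)
            - C b₂ * (C a₁ + C b₁ * X 0 + C c₁ * X 1) : MvPolynomial (Fin 2) κ) =
            C (a₂ * b₁ - a₁ * b₂) + C D * X 1 := by
          rw [hDdef]; simp only [map_sub, map_mul]; ring
        rw [e1, mul_add, ← map_mul, ← mul_assoc, ← map_mul, one_div, inv_mul_cancel₀ hD, map_one,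
          one_mul, sub_eq_add_neg, ← map_neg, add_comm]
        congr 2
        field_simp
      rw [this]
      exact I.mul_mem_left _ (I.sub_mem (I.mul_mem_left _ h₂) (I.mul_mem_left _ h₁))

lemma deriv_mem {p : MvPolynomial (Fin 2) κ} (hp : p ∈ I ^ 2)
    (D : Derivation κ (MvPolynomial (Fin 2) κ) (MvPolynomial (Fin 2) κ)) : D p ∈ I := by
  rw [pow_two] at hp
  refine Submodule.mul_induction_on hp ?_ ?_
  · intro f hf g hg
    rw [Derivation.leibniz, smul_eq_mul, smul_eq_mul]
    exact I.add_mem (I.mul_mem_right _ hf) (I.mul_mem_right _ hg)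
  · intro x y hx hy
    rw [map_add]
    exact I.add_mem hx hy

end B



section Rel
variable {κ : Type u} [Field κ] (I : Ideal (MvPolynomial (Fin 2) κ))

/-- the quadric -/
noncomputable def quad (a b c d e f : κ) : MvPolynomial (Fin 2) κ :=
  C a + C b * X 0 + C c * X 1 + C d * X 0 ^ 2 + C e * X 0 * X 1 + C f * X 1 ^ 2

lemma pderiv0_quad (a b c d e f : κ) :
    pderiv 0 (quad a b c d e f) = C b + C (2 * d) * X 0 + C e * X 1 := by
  have h10 : pderiv (0 : Fin 2) (X 1 : MvPolynomial (Fin 2) κ) = 0 :=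
    pderiv_X_of_ne (by decide)
  simp only [quad, map_add, Derivation.leibniz, pderiv_C, pderiv_X_self, h10, smul_eq_mul,
    Derivation.leibniz_pow, map_mul, map_ofNat]
  ring

lemma pderiv1_quad (a b c d e f : κ) :
    pderiv 1 (quad a b c d e f) = C c + C e * X 0 + C (2 * f) * X 1 := by
  have h01 : pderiv (1 : Fin 2) (X 0 : MvPolynomial (Fin 2) κ) = 0 :=
    pderiv_X_of_ne (by decide)
  simp only [quad, map_add, Derivation.leibniz, pderiv_C, pderiv_X_self, h01, smul_eq_mul,
    Derivation.leibniz_pow, map_mul, map_ofNat]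
  ring

lemma relations (hI : ¬ (Module.Finite κ (MvPolynomial (Fin 2) κ ⧸ I) ∧
      Module.finrank κ (MvPolynomial (Fin 2) κ ⧸ I) ≤ 1))
    (a b c d e f : κ) (hq : quad a b c d e f ∈ I ^ 2) :
    4 * a * d = b ^ 2 ∧ 4 * a * f = c ^ 2 ∧ 4 * d * f = e ^ 2 ∧ 2 * a * e = b * c ∧
      b * e = 2 * c * d ∧ 2 * b * f = c * e := by
  have hqI : quad a b c d e f ∈ I := Ideal.pow_le_self (by norm_num) hq
  have h0 : (C b + C (2 * d) * X 0 + C e * X 1 : MvPolynomial (Fin 2) κ) ∈ I := by
    rw [← pderiv0_quad a b c d e f]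
    exact deriv_mem I hq _
  have h1 : (C c + C e * X 0 + C (2 * f) * X 1 : MvPolynomial (Fin 2) κ) ∈ I := by
    rw [← pderiv1_quad a b c d e f]
    exact deriv_mem I hq _
  have h2 : (C (2 * a) + C b * X 0 + C c * X 1 : MvPolynomial (Fin 2) κ) ∈ I := by
    have : (C (2 * a) + C b * X 0 + C c * X 1 : MvPolynomial (Fin 2) κ) =
        2 * quad a b c d e f - X 0 * (C b + C (2 * d) * X 0 + C e * X 1)
          - X 1 * (C c + C e * X 0 + C (2 * f) * X 1) := by
      simp only [quad, map_mul, map_ofNat]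
      ring
    rw [this]
    exact I.sub_mem (I.sub_mem (I.mul_mem_left _ hqI) (I.mul_mem_left _ h0)) (I.mul_mem_left _ h1)
  obtain ⟨m1, m2, m3⟩ := minors I hI _ _ _ _ _ _ h2 h0
  obtain ⟨n1, n2, n3⟩ := minors I hI _ _ _ _ _ _ h2 h1
  obtain ⟨k1, k2, k3⟩ := minors I hI _ _ _ _ _ _ h0 h1
  refine ⟨?_, ?_, ?_, ?_, ?_, ?_⟩
  · linear_combination m1
  · linear_combination n2
  · linear_combination k3
  · linear_combination m2
  · linear_combination m3
  · linear_combination n3

lemma finish_ne_two (h2 : (2 : κ) ≠ 0) (a b c d e f : κ)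
    (hne : (a, b, c, d, e, f) ≠ (0, 0, 0, 0, 0, 0))
    (r1 : 4 * a * d = b ^ 2) (r2 : 4 * a * f = c ^ 2) (r3 : 4 * d * f = e ^ 2)
    (r4 : 2 * a * e = b * c) :
    ∃ j g h i : κ, quad a b c d e f =
      C j * (C g + C h * X 0 + C i * X 1) ^ 2 := by
  by_cases ha : a = 0
  · subst ha
    have hb : b = 0 := by
      have : b ^ 2 = 0 := by rw [← r1]; ring
      exact pow_eq_zero_iff (two_ne_zero) |>.mp this
    have hc : c = 0 := by
      have : c ^ 2 = 0 := by rw [← r2]; ring
      exact pow_eq_zero_iff (two_ne_zero) |>.mp this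
    subst hb hc
    by_cases hd : d = 0
    · subst hd
      have he : e = 0 := by
        have : e ^ 2 = 0 := by rw [← r3]; ring
        exact pow_eq_zero_iff (two_ne_zero) |>.mp this
      subst he
      refine ⟨f, 0, 0, 1, ?_⟩
      simp only [quad, map_zero, map_one]
      ring
    · refine ⟨d, 0, 1, e / (2 * d), ?_⟩
      have hf : f = d * (e / (2 * d)) ^ 2 := by
        field_simp
        linear_combination r3
      have he : e = 2 * d * (e / (2 * d)) := by
        field_simp
      set i := e / (2 * d) with hi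
      rw [hf]
      nth_rewrite 1 [he]
      simp only [quad, map_zero, map_one, map_mul, map_pow, map_ofNat]
      ring
  · refine ⟨a, 1, b / (2 * a), c / (2 * a), ?_⟩
    have hb : b = 2 * a * (b / (2 * a)) := by field_simp
    have hc : c = 2 * a * (c / (2 * a)) := by field_simp
    have hd : d = a * (b / (2 * a)) ^ 2 := by
      field_simp
      linear_combination r1
    have he : e = 2 * a * (b / (2 * a)) * (c / (2 * a)) := by
      field_simp
      linear_combination r4
    have hf : f = a * (c / (2 * a)) ^ 2 := by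
      field_simp
      linear_combination r2
    set h := b / (2 * a) with hh
    set i := c / (2 * a) with hi
    rw [hd, he, hf]
    nth_rewrite 1 [hb]
    nth_rewrite 1 [hc]
    simp only [quad, map_one, map_mul, map_pow, map_ofNat]
    ring

end Rel



section A
variable {R P : Type u} [CommRing R] [CommRing P] [IsDomain P] [IsPrincipalIdealRing P]

/-- Lemma A: if `R/(w)` is a principal ideal domain, `w` a nonzerodivisor and `w² ∈ J²`
then `w ∈ J`. -/
lemma mem_of_sq_mem_sq (π : R →+* P) (hπ : Function.Surjective π) (w : R)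
    (hker : ∀ r, π r = 0 ↔ w ∣ r) (hw : ∀ r, w * r = 0 → r = 0)
    (J : Ideal R) (hJ : w ^ 2 ∈ J ^ 2) : w ∈ J := by
  -- the image ideal is principal
  obtain ⟨gbar, hgbar⟩ := (IsPrincipalIdealRing.principal (J.map π)).principal
  have hgmem : gbar ∈ J.map π := by rw [hgbar]; exact Submodule.mem_span_singleton_self _
  obtain ⟨g, hgJ, hg⟩ := (Ideal.mem_map_iff_of_surjective π hπ).mp hgmem
  -- J₁ = (J : w)
  -- Claim 1
  have claim1 : ∀ j ∈ J, ∃ t r, w * r ∈ J ∧ j = t * g + w * r := by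
    intro j hj
    have h1 : π j ∈ J.map π := Ideal.mem_map_of_mem π hj
    rw [hgbar] at h1
    obtain ⟨tbar, ht⟩ := Ideal.mem_span_singleton'.mp h1
    obtain ⟨t, rfl⟩ := hπ tbar
    have h2 : π (j - t * g) = 0 := by rw [map_sub, map_mul, hg, ht, sub_self]
    obtain ⟨r, hr⟩ := (hker _).mp h2
    refine ⟨t, r, ?_, ?_⟩
    · rw [← hr]
      exact J.sub_mem hj (J.mul_mem_left _ hgJ)
    · rw [← hr]; ring
  -- Claim 2
  have claim2 : ∀ x ∈ J ^ 2, ∃ A B C, w * B ∈ J ∧ w * C ∈ J ∧
      x = A * g ^ 2 + g * w * B + w ^ 2 * C := by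
    intro x hx
    rw [pow_two] at hx
    refine Submodule.mul_induction_on hx ?_ ?_
    · intro j hj j' hj'
      obtain ⟨t, r, hr, rfl⟩ := claim1 j hj
      obtain ⟨t', r', hr', rfl⟩ := claim1 j' hj'
      refine ⟨t * t', t * r' + t' * r, r * r', ?_, ?_, by ring⟩
      · rw [mul_add]
        refine J.add_mem ?_ ?_
        · rw [mul_left_comm]; exact J.mul_mem_left _ hr'
        · rw [mul_left_comm]; exact J.mul_mem_left _ hr
      · rw [← mul_assoc]; exact J.mul_mem_right _ hr
    · rintro x y ⟨A, B, C, hB, hC, rfl⟩ ⟨A', B', C', hB', hC', rfl⟩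
      refine ⟨A + A', B + B', C + C', ?_, ?_, by ring⟩
      · rw [mul_add]; exact J.add_mem hB hB'
      · rw [mul_add]; exact J.add_mem hC hC'
  obtain ⟨A, B, C, hB, hC, h⟩ := claim2 _ hJ
  have hwg : w * g ∈ J := J.mul_mem_left _ hgJ
  -- it suffices to show `1 ∈ (J : w)`
  suffices h1 : ∃ u v, w * v ∈ J ∧ (1 : R) = g * u + v by
    obtain ⟨u, v, hv, huv⟩ := h1
    have : w = (w * g) * u + w * v := by
      linear_combination w * huv
    rw [this]
    exact J.add_mem (J.mul_mem_right _ hwg) hv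
  by_cases hg0 : gbar = 0
  · -- g = w g'
    rw [hg0] at hg
    obtain ⟨g', hg'⟩ := (hker _).mp hg
    have e : w ^ 2 * 1 = w ^ 2 * (A * g' ^ 2 + g' * B + C) := by
      rw [mul_one]
      nth_rewrite 1 [h]
      rw [hg']; ring
    have e' : (1 : R) = A * g' ^ 2 + g' * B + C := by
      have e2 : w * (w * (1 - (A * g' ^ 2 + g' * B + C))) = 0 := by
        linear_combination e
      have := hw _ (hw _ e2)
      linear_combination this
    refine ⟨0, A * g' ^ 2 + g' * B + C, ?_, by rw [← e']; ring⟩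
    have hg'J : w * g' ∈ J := by rw [← hg']; exact hgJ
    have : w * (A * g' ^ 2 + g' * B + C) = (w * g') * (A * g') + g' * (w * B) + w * C := by ring
    rw [this]
    exact J.add_mem (J.add_mem (J.mul_mem_right _ hg'J) (J.mul_mem_left _ hB)) hC
  · -- π A = 0
    have hπw : π w = 0 := (hker w).mpr dvd_rfl
    have h2 := congrArg π h
    simp only [map_add, map_mul, map_pow, hπw, hg] at h2
    have hA : π A = 0 := by
      have : π A * gbar ^ 2 = 0 := by
        linear_combination -h2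
      rcases mul_eq_zero.mp this with h | h
      · exact h
      · exact absurd (pow_eq_zero_iff (two_ne_zero) |>.mp h) hg0
    obtain ⟨A', hA'⟩ := (hker _).mp hA
    have e1 : w = A' * g ^ 2 + g * B + w * C := by
      have e2 : w * (w - (A' * g ^ 2 + g * B + w * C)) = 0 := by
        rw [hA'] at h
        linear_combination h
      have := hw _ e2
      linear_combination this
    have h3 := congrArg π e1
    simp only [map_add, map_mul, map_pow, hπw, hg] at h3
    have hB' : π (A' * g + B) = 0 := by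
      have : gbar * (π A' * gbar + π B) = 0 := by
        linear_combination -h3
      rcases mul_eq_zero.mp this with h | h
      · exact absurd h hg0
      · rw [map_add, map_mul, hg]; exact h
    obtain ⟨B', hB''⟩ := (hker _).mp hB'
    have e3 : (1 : R) = g * B' + C := by
      have e4 : w * (1 - (g * B' + C)) = 0 := by
        have : A' * g ^ 2 + g * B = g * (A' * g + B) := by ring
        rw [this, hB''] at e1
        linear_combination e1
      have := hw _ e4
      linear_combination this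
    exact ⟨B', C, hC, e3⟩

end A

section Kk
variable {K : Type u} [Field K]

/-- kernel of a "linear projection" `K[x,y] → K[X]`. -/
lemma ker_proj (π : MvPolynomial (Fin 2) K →ₐ[K] Polynomial K)
    (ρ : Polynomial K →ₐ[K] MvPolynomial (Fin 2) K) (l : MvPolynomial (Fin 2) K)
    (hl : π l = 0) (hX : π (ρ Polynomial.X) = Polynomial.X)
    (hdvd : ∀ i, l ∣ ρ (π (X i)) - X i) :
    Function.Surjective π ∧ ∀ r, π r = 0 ↔ l ∣ r := by
  constructor
  · intro p
    refine ⟨ρ p, ?_⟩
    have : (π.comp ρ) = AlgHom.id K _ := by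
      apply Polynomial.algHom_ext
      simpa using hX
    exact DFunLike.congr_fun this p
  · intro r
    constructor
    · intro hr
      have key : (Ideal.Quotient.mkₐ K (Ideal.span {l})).comp (ρ.comp π) =
          Ideal.Quotient.mkₐ K (Ideal.span {l}) := by
        apply MvPolynomial.algHom_ext
        intro i
        simp only [AlgHom.comp_apply, Ideal.Quotient.mkₐ_eq_mk]
        rw [Ideal.Quotient.eq, Ideal.mem_span_singleton]
        exact hdvd i
      have := DFunLike.congr_fun key r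
      simp only [AlgHom.comp_apply, hr, map_zero, Ideal.Quotient.mkₐ_eq_mk] at this
      rw [eq_comm, Ideal.Quotient.eq_zero_iff_mem, Ideal.mem_span_singleton] at this
      exact this
    · rintro ⟨s, rfl⟩
      rw [map_mul, hl, zero_mul]

end Kk



section Phi
variable {κ K : Type u} [Field κ] [Field K] [Algebra κ K]

/-- apply a `κ`-linear functional coefficientwise -/
noncomputable def Phi (φ : K →ₗ[κ] κ) (p : MvPolynomial (Fin 2) K) : MvPolynomial (Fin 2) κ :=
  ∑ m ∈ p.support, monomial m (φ (coeff m p))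

lemma coeff_Phi (φ : K →ₗ[κ] κ) (p : MvPolynomial (Fin 2) K) (m : Fin 2 →₀ ℕ) :
    coeff m (Phi φ p) = φ (coeff m p) := by
  classical
  rw [Phi, coeff_sum]
  simp only [coeff_monomial]
  rw [Finset.sum_ite_eq' p.support m]
  split_ifs with h
  · rfl
  · rw [MvPolynomial.notMem_support_iff.mp h, map_zero]

lemma Phi_add (φ : K →ₗ[κ] κ) (p q : MvPolynomial (Fin 2) K) :
    Phi φ (p + q) = Phi φ p + Phi φ q := by
  ext m
  simp [coeff_Phi]

lemma Phi_zero (φ : K →ₗ[κ] κ) : Phi φ (0 : MvPolynomial (Fin 2) K) = 0 := by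
  ext m
  simp [coeff_Phi]

lemma Phi_monomial (φ : K →ₗ[κ] κ) (s : Fin 2 →₀ ℕ) (k : K) :
    Phi φ (monomial s k) = monomial s (φ k) := by
  classical
  ext m
  rw [coeff_Phi, coeff_monomial, coeff_monomial]
  split_ifs <;> simp

lemma Phi_monomial_mul (φ : K →ₗ[κ] κ) (s : Fin 2 →₀ ℕ) (k : K) (p : MvPolynomial (Fin 2) K) :
    Phi φ (monomial s k * p) =
      monomial s 1 * Phi (φ.comp (LinearMap.mulLeft κ k)) p := by
  ext m
  rw [coeff_Phi, coeff_monomial_mul', coeff_monomial_mul']
  split_ifs with h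
  · rw [coeff_Phi, one_mul]
    rfl
  · rw [map_zero]

lemma Phi_map (φ : K →ₗ[κ] κ) (i : MvPolynomial (Fin 2) κ) :
    Phi φ (map (algebraMap κ K) i) = C (φ 1) * i := by
  ext m
  rw [coeff_Phi, coeff_map, coeff_C_mul, Algebra.algebraMap_eq_smul_one, map_smul, smul_eq_mul,
    mul_comm]

variable (I : Ideal (MvPolynomial (Fin 2) κ))

/-- the ideal of polynomials over `K` all of whose "components" lie in `I`. -/
noncomputable def T : Ideal (MvPolynomial (Fin 2) K) where
  carrier := {p | ∀ φ : K →ₗ[κ] κ, Phi φ p ∈ I}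
  add_mem' := by
    intro p q hp hq φ
    rw [Phi_add]
    exact I.add_mem (hp φ) (hq φ)
  zero_mem' := by
    intro φ
    rw [Phi_zero]
    exact I.zero_mem
  smul_mem' := by
    intro c x hx
    show ∀ φ : K →ₗ[κ] κ, Phi φ (c * x) ∈ I
    induction c using MvPolynomial.induction_on' with
    | monomial s k =>
      intro φ
      rw [Phi_monomial_mul]
      exact I.mul_mem_left _ (hx _)
    | add p q hp hq =>
      intro φ
      rw [add_mul, Phi_add]
      exact I.add_mem (hp φ) (hq φ)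

lemma map_le_T : I.map (map (algebraMap κ K)) ≤ T (K := K) I := by
  rw [Ideal.map_le_iff_le_comap]
  intro i hi
  show ∀ φ : K →ₗ[κ] κ, Phi φ (map (algebraMap κ K) i) ∈ I
  intro φ
  rw [Phi_map]
  exact I.mul_mem_left _ hi

lemma Phi_lin (φ : K →ₗ[κ] κ) (α β γ : K) :
    Phi φ (C α + C β * X 0 + C γ * X 1) = C (φ α) + C (φ β) * X 0 + C (φ γ) * X 1 := by
  have e1 : (C β * X 0 : MvPolynomial (Fin 2) K) = monomial (Finsupp.single 0 1) β := by
    rw [C_mul_X_eq_monomial]
  have e2 : (C γ * X 1 : MvPolynomial (Fin 2) K) = monomial (Finsupp.single 1 1) γ := by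
    rw [C_mul_X_eq_monomial]
  have e3 : (C α : MvPolynomial (Fin 2) K) = monomial 0 α := rfl
  rw [Phi_add, Phi_add, e1, e2, e3, Phi_monomial, Phi_monomial, Phi_monomial,
    C_mul_X_eq_monomial, C_mul_X_eq_monomial]
  rfl

lemma lin_components (α β γ : K)
    (h : (C α + C β * X 0 + C γ * X 1 : MvPolynomial (Fin 2) K) ∈ I.map (map (algebraMap κ K)))
    (φ : K →ₗ[κ] κ) :
    (C (φ α) + C (φ β) * X 0 + C (φ γ) * X 1 : MvPolynomial (Fin 2) κ) ∈ I := by
  rw [← Phi_lin]
  exact map_le_T I h φ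

end Phi

section Lin
variable {K : Type u} [Field K]

lemma lin_ne_zero (α β γ : K) (h : β ≠ 0 ∨ γ ≠ 0) :
    (C α + C β * X 0 + C γ * X 1 : MvPolynomial (Fin 2) K) ≠ 0 := by
  intro h0
  have e0 := congrArg (MvPolynomial.eval ![0, 0]) h0
  have e1 := congrArg (MvPolynomial.eval ![1, 0]) h0
  have e2 := congrArg (MvPolynomial.eval ![0, 1]) h0
  simp at e0 e1 e2
  subst e0
  simp at e1 e2
  rcases h with h | h
  · exact h e1
  · exact h e2

lemma lin_mem (α β γ : K) (hβγ : β ≠ 0 ∨ γ ≠ 0) (J : Ideal (MvPolynomial (Fin 2) K))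
    (hJ : (C α + C β * X 0 + C γ * X 1 : MvPolynomial (Fin 2) K) ^ 2 ∈ J ^ 2) :
    (C α + C β * X 0 + C γ * X 1 : MvPolynomial (Fin 2) K) ∈ J := by
  set l : MvPolynomial (Fin 2) K := C α + C β * X 0 + C γ * X 1 with hl
  have hl0 : l ≠ 0 := lin_ne_zero α β γ hβγ
  have hw : ∀ r, l * r = 0 → r = 0 := fun r hr => (mul_eq_zero.mp hr).resolve_left hl0
  by_cases hγ : γ = 0
  · have hβ : β ≠ 0 := hβγ.resolve_right (not_not.mpr hγ)
    let π : MvPolynomial (Fin 2) K →ₐ[K] Polynomial K :=
      MvPolynomial.aeval ![Polynomial.C (-α / β) + Polynomial.C (-γ / β) * Polynomial.X,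
        Polynomial.X]
    let ρ : Polynomial K →ₐ[K] MvPolynomial (Fin 2) K := Polynomial.aeval (X 1)
    have hπ0 : π (X 0) = Polynomial.C (-α / β) + Polynomial.C (-γ / β) * Polynomial.X := by
      simp [π]
    have hπ1 : π (X 1) = Polynomial.X := by simp [π]
    have hπC : ∀ c : K, π (C c) = Polynomial.C c := fun c => by simp [π]
    have hρX : ρ Polynomial.X = X 1 := by simp [ρ]
    have hρC : ∀ c : K, ρ (Polynomial.C c) = C c := fun c => by
      simp [ρ, MvPolynomial.algebraMap_eq]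
    have h1 : π l = 0 := by
      rw [hl, map_add, map_add, map_mul, map_mul, hπ0, hπ1, hπC, hπC, hπC, mul_add, ← mul_assoc,
        ← map_mul, ← map_mul]
      have e1 : β * (-α / β) = -α := by field_simp
      have e2 : β * (-γ / β) = -γ := by field_simp
      rw [e1, e2, map_neg, map_neg]
      ring
    have h2 : π (ρ Polynomial.X) = Polynomial.X := by rw [hρX, hπ1]
    have h3 : ∀ i, l ∣ ρ (π (X i)) - X i := by
      intro i
      fin_cases i
      · refine ⟨C (-1 / β), ?_⟩
        show ρ (π (X 0)) - X 0 = _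
        rw [hπ0, map_add, map_mul, hρC, hρC, hρX, hl]
        have e1 : (C (-α / β) : MvPolynomial (Fin 2) K) = C α * C (-1 / β) := by
          rw [← map_mul]; congr 1; ring
        have e2 : (C (-γ / β) : MvPolynomial (Fin 2) K) = C γ * C (-1 / β) := by
          rw [← map_mul]; congr 1; ring
        have e3 : (C β * C (-1 / β) : MvPolynomial (Fin 2) K) = -1 := by
          rw [← map_mul]
          have : β * (-1 / β) = -1 := by field_simp
          rw [this]; simp
        rw [e1, e2]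
        linear_combination (-(X 0 : MvPolynomial (Fin 2) K)) * e3
      · show l ∣ ρ (π (X 1)) - X 1
        rw [hπ1, hρX, sub_self]
        exact dvd_zero _
    obtain ⟨hs, hk⟩ := ker_proj π ρ l h1 h2 h3
    exact mem_of_sq_mem_sq π.toRingHom hs l hk hw J hJ
  · let π : MvPolynomial (Fin 2) K →ₐ[K] Polynomial K :=
      MvPolynomial.aeval ![Polynomial.X,
        Polynomial.C (-α / γ) + Polynomial.C (-β / γ) * Polynomial.X]
    let ρ : Polynomial K →ₐ[K] MvPolynomial (Fin 2) K := Polynomial.aeval (X 0)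
    have hπ1 : π (X 1) = Polynomial.C (-α / γ) + Polynomial.C (-β / γ) * Polynomial.X := by
      simp [π]
    have hπ0 : π (X 0) = Polynomial.X := by simp [π]
    have hπC : ∀ c : K, π (C c) = Polynomial.C c := fun c => by simp [π]
    have hρX : ρ Polynomial.X = X 0 := by simp [ρ]
    have hρC : ∀ c : K, ρ (Polynomial.C c) = C c := fun c => by
      simp [ρ, MvPolynomial.algebraMap_eq]
    have h1 : π l = 0 := by
      rw [hl, map_add, map_add, map_mul, map_mul, hπ0, hπ1, hπC, hπC, hπC, mul_add, ← mul_assoc,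
        ← map_mul, ← map_mul]
      have e1 : γ * (-α / γ) = -α := by field_simp
      have e2 : γ * (-β / γ) = -β := by field_simp
      rw [e1, e2, map_neg, map_neg]
      ring
    have h2 : π (ρ Polynomial.X) = Polynomial.X := by rw [hρX, hπ0]
    have h3 : ∀ i, l ∣ ρ (π (X i)) - X i := by
      intro i
      fin_cases i
      · show l ∣ ρ (π (X 0)) - X 0
        rw [hπ0, hρX, sub_self]
        exact dvd_zero _
      · refine ⟨C (-1 / γ), ?_⟩
        show ρ (π (X 1)) - X 1 = _
        rw [hπ1, map_add, map_mul, hρC, hρC, hρX, hl]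
        have e1 : (C (-α / γ) : MvPolynomial (Fin 2) K) = C α * C (-1 / γ) := by
          rw [← map_mul]; congr 1; ring
        have e2 : (C (-β / γ) : MvPolynomial (Fin 2) K) = C β * C (-1 / γ) := by
          rw [← map_mul]; congr 1; ring
        have e3 : (C γ * C (-1 / γ) : MvPolynomial (Fin 2) K) = -1 := by
          rw [← map_mul]
          have : γ * (-1 / γ) = -1 := by field_simp
          rw [this]; simp
        rw [e1, e2]
        linear_combination (-(X 1 : MvPolynomial (Fin 2) K)) * e3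
    obtain ⟨hs, hk⟩ := ker_proj π ρ l h1 h2 h3
    exact mem_of_sq_mem_sq π.toRingHom hs l hk hw J hJ

end Lin



section Two
variable {κ : Type u} [Field κ] (I : Ideal (MvPolynomial (Fin 2) κ))

lemma sq_two {A : Type u} [CommRing A] (h2 : (2 : A) = 0) (x y z : A) :
    (x + y + z) ^ 2 = x ^ 2 + y ^ 2 + z ^ 2 := by
  linear_combination (x * y + x * z + y * z) * h2

lemma char_two_case (h2 : (2 : κ) = 0)
    (hI : ¬ (Module.Finite κ (MvPolynomial (Fin 2) κ ⧸ I) ∧
      Module.finrank κ (MvPolynomial (Fin 2) κ ⧸ I) ≤ 1))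
    (a d f : κ) (hq : quad a 0 0 d 0 f ∈ I ^ 2) :
    ∃ j g h i : κ, quad a 0 0 d 0 f = C j * (C g + C h * X 0 + C i * X 1) ^ 2 := by
  have h2R : (2 : MvPolynomial (Fin 2) κ) = 0 := by
    rw [← map_ofNat (C : κ →+* MvPolynomial (Fin 2) κ) 2, h2, map_zero]
  have hquad : quad a 0 0 d 0 f = C a + C d * X 0 ^ 2 + C f * X 1 ^ 2 := by
    simp only [quad, map_zero, zero_mul, add_zero]
  by_cases hdf : d = 0 ∧ f = 0
  · obtain ⟨rfl, rfl⟩ := hdf
    refine ⟨a, 1, 0, 0, ?_⟩
    rw [hquad]
    simp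
  -- extension field
  let K := AlgebraicClosure κ
  obtain ⟨α, hα⟩ := IsAlgClosed.exists_pow_nat_eq (algebraMap κ K a) (n := 2) (by norm_num)
  obtain ⟨β, hβ⟩ := IsAlgClosed.exists_pow_nat_eq (algebraMap κ K d) (n := 2) (by norm_num)
  obtain ⟨γ, hγ⟩ := IsAlgClosed.exists_pow_nat_eq (algebraMap κ K f) (n := 2) (by norm_num)
  have hinj : Function.Injective (algebraMap κ K) := (algebraMap κ K).injective
  have h2K : (2 : MvPolynomial (Fin 2) K) = 0 := by
    have : (2 : K) = 0 := by
      rw [← map_ofNat (algebraMap κ K) 2, h2, map_zero]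
    rw [← map_ofNat (C : K →+* MvPolynomial (Fin 2) K) 2, this, map_zero]
  have hβγ : β ≠ 0 ∨ γ ≠ 0 := by
    by_contra hcon
    rw [not_or, not_not, not_not] at hcon
    apply hdf
    constructor
    · apply hinj
      rw [← hβ, hcon.1, map_zero]; ring
    · apply hinj
      rw [← hγ, hcon.2, map_zero]; ring
  set J := I.map (map (algebraMap κ K)) with hJ
  have hmap : map (algebraMap κ K) (quad a 0 0 d 0 f) =
      (C α + C β * X 0 + C γ * X 1 : MvPolynomial (Fin 2) K) ^ 2 := by
    rw [hquad, sq_two h2K]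
    simp only [map_add, map_mul, map_pow, map_C, map_X, ← hα, ← hβ, ← hγ, mul_pow]
  have hmem : (C α + C β * X 0 + C γ * X 1 : MvPolynomial (Fin 2) K) ^ 2 ∈ J ^ 2 := by
    rw [← hmap, hJ, ← Ideal.map_pow]
    exact Ideal.mem_map_of_mem _ hq
  have hl := lin_mem α β γ hβγ J hmem
  have hcomp := lin_components I α β γ hl
  have hrel : ∀ φ ψ : K →ₗ[κ] κ, φ α * ψ β = ψ α * φ β ∧ φ α * ψ γ = ψ α * φ γ ∧
      φ β * ψ γ = ψ β * φ γ := fun φ ψ => minors I hI _ _ _ _ _ _ (hcomp φ) (hcomp ψ)
  -- a functional normalised at a nonzero element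
  have hfun : ∀ x : K, x ≠ 0 → ∃ ψ : K →ₗ[κ] κ, ψ x = 1 := by
    intro x hx
    have := (Module.forall_dual_apply_eq_zero_iff κ x).not.mpr hx
    rw [not_forall] at this
    obtain ⟨ψ₀, hψ₀⟩ := this
    refine ⟨(ψ₀ x)⁻¹ • ψ₀, ?_⟩
    rw [LinearMap.smul_apply, smul_eq_mul, inv_mul_cancel₀ hψ₀]
  have hsep : ∀ x y : K, (∀ φ : K →ₗ[κ] κ, φ x = φ y) → x = y := by
    intro x y h
    rw [← sub_eq_zero, ← Module.forall_dual_apply_eq_zero_iff κ]
    intro φ
    rw [map_sub, h φ, sub_self]
  by_cases ha : a = 0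
  · by_cases hd : d = 0
    · subst ha hd
      refine ⟨f, 0, 0, 1, ?_⟩
      rw [hquad]
      simp
    · have hβ0 : β ≠ 0 := by
        intro h0
        apply hd
        apply hinj
        rw [← hβ, h0, map_zero]; ring
      obtain ⟨ψ, hψ⟩ := hfun β hβ0
      have e1 : γ = ψ γ • β := by
        apply hsep
        intro φ
        rw [map_smul, smul_eq_mul]
        have := (hrel φ ψ).2.2
        rw [hψ, one_mul] at this
        rw [← this, mul_comm]
      have ef : f = d * (ψ γ) ^ 2 := by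
        apply hinj
        rw [map_mul, map_pow, ← hγ, ← hβ]
        nth_rewrite 1 [e1]
        rw [Algebra.smul_def]
        ring
      refine ⟨d, 0, 1, ψ γ, ?_⟩
      rw [hquad, ha, ef, map_zero, zero_add, sq_two h2R]
      simp only [map_zero, map_one, map_mul, map_pow]
      ring
  · have hα0 : α ≠ 0 := by
      intro h0
      apply ha
      apply hinj
      rw [← hα, h0, map_zero]; ring
    obtain ⟨ψ, hψ⟩ := hfun α hα0
    have e1 : β = ψ β • α := by
      apply hsep
      intro φ
      rw [map_smul, smul_eq_mul]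
      have := (hrel φ ψ).1
      rw [hψ, one_mul] at this
      rw [← this, mul_comm]
    have e2 : γ = ψ γ • α := by
      apply hsep
      intro φ
      rw [map_smul, smul_eq_mul]
      have := (hrel φ ψ).2.1
      rw [hψ, one_mul] at this
      rw [← this, mul_comm]
    have ed : d = a * (ψ β) ^ 2 := by
      apply hinj
      rw [map_mul, map_pow, ← hβ, ← hα]
      nth_rewrite 1 [e1]
      rw [Algebra.smul_def]
      ring
    have ef : f = a * (ψ γ) ^ 2 := by
      apply hinj
      rw [map_mul, map_pow, ← hγ, ← hα]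
      nth_rewrite 1 [e2]
      rw [Algebra.smul_def]
      ring
    refine ⟨a, 1, ψ β, ψ γ, ?_⟩
    rw [hquad, ed, ef, sq_two h2R]
    simp only [map_one, map_mul, map_pow]
    ring

end Two


/-- Let κ be a field and I an ideal of κ[x, y] whose colength is greater than one (the quotient is not
of dimension at most one over κ). If a nonzero polynomial a + bx + cy + dx^2 + exy + fy^2 lies in
I^2, then it equals j (g + hx + iy)^2 for some scalars j, g, h, i. -/
theorem result (κ : Type u) [Field κ] (I : Ideal (MvPolynomial (Fin 2) κ))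
    (hI : ¬ (Module.Finite κ (MvPolynomial (Fin 2) κ ⧸ I) ∧ Module.finrank κ (MvPolynomial (Fin 2) κ ⧸ I) ≤ 1))
    (a b c d e f : κ) (hne : (a, b, c, d, e, f) ≠ (0, 0, 0, 0, 0, 0))
    (hmem : (MvPolynomial.C a + MvPolynomial.C b * MvPolynomial.X 0 + MvPolynomial.C c * MvPolynomial.X 1 +
      MvPolynomial.C d * MvPolynomial.X 0 ^ 2 + MvPolynomial.C e * MvPolynomial.X 0 * MvPolynomial.X 1 +
      MvPolynomial.C f * MvPolynomial.X 1 ^ 2 : MvPolynomial (Fin 2) κ) ∈ I ^ 2) :
    ∃ j g h i : κ, (MvPolynomial.C a + MvPolynomial.C b * MvPolynomial.X 0 + MvPolynomial.C c * MvPolynomial.X 1 +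
      MvPolynomial.C d * MvPolynomial.X 0 ^ 2 + MvPolynomial.C e * MvPolynomial.X 0 * MvPolynomial.X 1 +
      MvPolynomial.C f * MvPolynomial.X 1 ^ 2 : MvPolynomial (Fin 2) κ) =
      MvPolynomial.C j * (MvPolynomial.C g + MvPolynomial.C h * MvPolynomial.X 0 + MvPolynomial.C i * MvPolynomial.X 1) ^ 2 := by
  change quad a b c d e f ∈ I ^ 2 at hmem
  change ∃ j g h i : κ, quad a b c d e f = _
  obtain ⟨r1, r2, r3, r4, r5, r6⟩ := relations I hI a b c d e f hmem
  by_cases h2 : (2 : κ) = 0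
  · have h4 : (4 : κ) = 0 := by
      have : (4 : κ) = 2 * 2 := by norm_num
      rw [this, h2, mul_zero]
    have hb : b = 0 := by
      have : b ^ 2 = 0 := by rw [← r1, h4]; ring
      exact pow_eq_zero_iff (two_ne_zero) |>.mp this
    have hc : c = 0 := by
      have : c ^ 2 = 0 := by rw [← r2, h4]; ring
      exact pow_eq_zero_iff (two_ne_zero) |>.mp this
    have he : e = 0 := by
      have : e ^ 2 = 0 := by rw [← r3, h4]; ring
      exact pow_eq_zero_iff (two_ne_zero) |>.mp this
    subst hb hc he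
    exact char_two_case I h2 hI a d f hmem
  · exact finish_ne_two h2 a b c d e f hne r1 r2 r3 r4


end Groth.Agent.S1601
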