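import Groth.Statements.S16010
import Groth.Agent.Lib.Helper81.Constell
import Mathlib

set_option autoImplicit false
universe u v w x
open W4c3ghconstell

namespace Groth.Agent.S16010

/-- Let k be an algebraically closed field of characteristic zero, A a commutative Hopf algebra over k
which is a finitely generated domain and linearly reductive (the coordinate ring of a connected
reductive group G; irreducible representations of G are indexed by the simple subcoalgebras D of A),
R a Noetherian commutative k-algebra with a multiplicative A-coaction (an affine G-scheme X = Spec
R), and M an R-module with a compatible A-coaction (a G-equivariant quasi-coherent module on X)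
which is finite over R, is the sum of its isotypic components M_D, and has dim_k M_D = h(D) < ∞ for
every simple subcoalgebra D. Fix a weight θ from simple subcoalgebras to ℚ, negative at only
finitely many D, with Σ_D θ(D) h(D) = 0 (a convergent real series) and with θ(D) ≠ 0, h(D) ≠ 0 for
some D; the weight of a k-subspace N of M is the real series Σ_D θ(D) · dim_k (N ∩ M_D). If M is
θ-stable, i.e. M has weight 0 and every non-zero proper R-submodule of M stable under the coaction
has weight > 0, then M is generated as an R-module by its isotypic components M_D with θ(D) < 0.
(The published statement is over the complex numbers and records the multiplicity of each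
irreducible representation rather than the dimension of the isotypic component; rescaling θ
translates between the two, and the printed argument uses only the bookkeeping stated here.) -/
theorem result (k : Type u) [Field k] [IsAlgClosed k] [CharZero k]
    (A : Type v) [CommRing A] [IsDomain A] [HopfAlgebra k A] [Algebra.FiniteType k A]
    (hred : HopfRep.IsLinearlyReductive k A)
    (R : Type w) [CommRing R] [Algebra k R] [IsNoetherianRing R] [HopfRep.Comod k A R] [GLin.IsCoactAlg k A R]
    (M : Type x) [AddCommGroup M] [Module k M] [Module R M] [IsScalarTower k R M]
    [HopfRep.Comod k A M] [TameAct.IsHopfMod k A R M]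
    (h : W4c3ghconstell.SimpSub k A → ℕ) (θ : W4c3ghconstell.SimpSub k A → ℚ)
    (hfin : {D | θ D < 0}.Finite) (hsum : HasSum (fun D => (θ D : ℝ) * (h D : ℝ)) 0)
    (hne : ∃ D, θ D ≠ 0 ∧ h D ≠ 0)
    (hM : W4c3ghconstell.IsConstellation k A R M h)
    (hst : W4c3ghconstell.IsThetaStable k A R M θ) :
    W4c3ghconstell.genIn k A R M {D | θ D < 0} ⊤ = ⊤ := by
  classical
  open Groth.Agent.Lib.Helper81.Constell Groth.Agent.Lib.Helper93.Comod in
  by_contra hne_top
  set N := W4c3ghconstell.genIn k A R M {D | θ D < 0} ⊤ with hN
  have hsubN : HopfRep.IsSubcomod (k := k) (A := A) (N.restrictScalars k) := by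
    apply isSubcomod_genIn
    rw [Submodule.restrictScalars_top]
    exact isSubcomod_top
  have hle : W4c3ghconstell.theta M θ (N.restrictScalars k) ≤ W4c3ghconstell.theta M θ ⊤ := by
    apply theta_le_theta hM hsum
    intro D
    have := theta_genIn_le hM hsum (⊤ : Submodule R M) D
    rwa [Submodule.restrictScalars_top] at this
  rw [hst.1] at hle
  by_cases hbot : N = ⊥
  · have hzero : ∀ D, θ D < 0 → h D = 0 := by
      intro D hD
      have h1 : (⊤ : Submodule R M).restrictScalars k ⊓ isoComp M D.1 ≤ N.restrictScalars k :=
        inf_isoComp_le_genIn (S := {D | θ D < 0}) hD ⊤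
      rw [Submodule.restrictScalars_top, top_inf_eq, hbot, Submodule.restrictScalars_bot,
        le_bot_iff] at h1
      rw [← (hM.2.2 D).2, h1]
      exact finrank_bot k M
    have hnn : ∀ D, 0 ≤ (θ D : ℝ) * (h D : ℝ) := by
      intro D
      by_cases hD : θ D < 0
      · rw [hzero D hD]; simp
      · push_neg at hD
        exact mul_nonneg (by exact_mod_cast hD) (Nat.cast_nonneg _)
    have hall := (hasSum_zero_iff_of_nonneg hnn).1 hsum
    obtain ⟨D, hD1, hD2⟩ := hne
    have := congrFun hall D
    simp only [Pi.zero_apply, mul_eq_zero] at this
    rcases this with h1 | h1
    · exact hD1 (by exact_mod_cast h1)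
    · exact hD2 (by exact_mod_cast h1)
  · have := hst.2 N hsubN hbot hne_top
    linarith

end Groth.Agent.S16010
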