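import Groth.Statements.S16014
import Mathlib

set_option autoImplicit false
universe u
open W4c3ghconstell

namespace Groth.Agent.S16014

theorem aux_sum (f : ℤ → ℚ) (b : ℤ) : ∀ k : ℕ,
    ∑ n ∈ Finset.Icc (b - k) b, (n : ℚ) * f n =
      ∑ n ∈ Finset.Icc (b - k + 1) b, (∑ m ∈ Finset.Icc n b, f m) +
        ((b - k : ℤ) : ℚ) * ∑ m ∈ Finset.Icc (b - k) b, f m := by
  intro k
  induction k with
  | zero =>
    simp
  | succ k ih =>
    have h1 : (b - ((k + 1 : ℕ) : ℤ)) = (b - k) - 1 := by push_cast; ring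
    rw [h1]
    have hle : (b - k) - 1 ≤ b := by omega
    have e1 : ∀ g : ℤ → ℚ, ∑ n ∈ Finset.Icc ((b - k) - 1) b, g n =
        g ((b - k) - 1) + ∑ n ∈ Finset.Icc (b - k) b, g n := by
      intro g
      have : Finset.Icc ((b - k) - 1) b = insert ((b - k) - 1) (Finset.Icc (b - k) b) := by
        ext x
        simp only [Finset.mem_Icc, Finset.mem_insert]
        omega
      rw [this, Finset.sum_insert]
      simp
    have hle2 : (b - k) ≤ b := by omega
    have e2 : ∀ g : ℤ → ℚ, ∑ n ∈ Finset.Icc (b - k) b, g n =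
        g (b - k) + ∑ n ∈ Finset.Icc (b - k + 1) b, g n := by
      intro g
      have : Finset.Icc (b - k) b = insert (b - k) (Finset.Icc (b - k + 1) b) := by
        ext x
        simp only [Finset.mem_Icc, Finset.mem_insert]
        omega
      rw [this, Finset.sum_insert]
      simp
    rw [e1 (fun n => (n : ℚ) * f n), e1 f, ih]
    have h2 : (b - k) - 1 + 1 = b - k := by ring
    rw [h2, e2 (fun n => ∑ m ∈ Finset.Icc n b, f m)]
    push_cast
    ring

/-- Let B = ⊕_{n ∈ ℤ} ⊕_τ B^n_τ be a bigraded finite-dimensional vector space, τ running over a finite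
index set, with B^n = 0 for n < −N and for n > M (N, M integers); put d(n, τ) = dim B^n_τ. For
rational numbers φ_τ write φ(C) = Σ_τ φ_τ dim C_τ for a τ-graded piece C, and let B^{≥n} = ⊕_{m ≥ n}
B^m, so that dim B^{≥n}_τ = Σ_{n ≤ m ≤ M} d(m, τ). Then Σ_{−N ≤ n ≤ M} n · φ(B^n) = Σ_{−N+1 ≤ n ≤ M}
φ(B^{≥n}) − N · φ(B). (Stated directly on the dimension function d.) -/
theorem result {τ : Type u} [Fintype τ] (d : ℤ → τ → ℕ) (φ : τ → ℚ) (N M : ℤ)
    (hN : ∀ n, n < -N → d n = 0) (hM : ∀ n, M < n → d n = 0) :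
    ∑ n ∈ Finset.Icc (-N) M, (n : ℚ) * (∑ t, φ t * (d n t : ℚ)) =
      ∑ n ∈ Finset.Icc (-N + 1) M, (∑ t, φ t * (∑ m ∈ Finset.Icc n M, (d m t : ℚ))) -
        (N : ℚ) * (∑ t, φ t * (∑ m ∈ Finset.Icc (-N) M, (d m t : ℚ))) := by
  set f : ℤ → ℚ := fun n => ∑ t, φ t * (d n t : ℚ) with hf
  have key : ∀ a : ℤ, ∑ t, φ t * (∑ m ∈ Finset.Icc a M, (d m t : ℚ)) = ∑ m ∈ Finset.Icc a M, f m := by
    intro a
    simp only [hf, Finset.mul_sum]
    rw [Finset.sum_comm]
  simp only [key]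
  by_cases h : -N ≤ M
  · obtain ⟨k, hk⟩ := Int.eq_ofNat_of_zero_le (sub_nonneg.mpr h)
    have hk' : -N = M - k := by omega
    have := aux_sum f M k
    rw [hk']
    rw [this]
    have : (N : ℚ) = -((M - k : ℤ) : ℚ) := by
      have : N = -(M - k) := by omega
      rw [this]; push_cast; ring
    rw [this]
    ring
  · push_neg at h
    rw [Finset.Icc_eq_empty (by omega), Finset.Icc_eq_empty (by omega)]
    simp

end Groth.Agent.S16014
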