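import Groth.Statements.S16015
import Mathlib

set_option autoImplicit false
universe u v w
open W4c3ghconstell

namespace Groth.Agent.S16015

open TensorProduct

/-- the content ideal of a linear map -/
def contentIdeal {B : Type u} [CommRing B] {E : Type v} [AddCommGroup E] [Module B E]
    {F : Type w} [AddCommGroup F] [Module B F] (β : E →ₗ[B] F) : Ideal B :=
  Ideal.span {b | ∃ (φ : F →ₗ[B] B) (e : E), b = φ (β e)}

theorem baseChange_eq_zero_iff {B : Type u} [CommRing B]
    {E : Type v} [AddCommGroup E] [Module B E]
    {F : Type w} [AddCommGroup F] [Module B F] [Module.Finite B F] [Module.Projective B F]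
    (β : E →ₗ[B] F) (C : Type u) [CommRing C] [Algebra B C] :
    LinearMap.baseChange C β = 0 ↔ contentIdeal β ≤ RingHom.ker (algebraMap B C) := by
  constructor
  · intro h
    unfold contentIdeal
    rw [Ideal.span_le]
    rintro b ⟨φ, e, rfl⟩
    -- the map C ⊗ F → C
    have h1 : LinearMap.baseChange C β ((1 : C) ⊗ₜ[B] e) = 0 := by rw [h]; rfl
    rw [LinearMap.baseChange_tmul] at h1
    have h2 := congrArg (LinearMap.baseChange C φ) h1
    rw [LinearMap.baseChange_tmul, map_zero] at h2
    have h3 := congrArg (Algebra.TensorProduct.rid B C C) h2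
    rw [map_zero] at h3
    simp only [Algebra.TensorProduct.rid_tmul] at h3
    rw [SetLike.mem_coe, RingHom.mem_ker]
    simpa [Algebra.smul_def] using h3
  · intro h
    obtain ⟨n, f, g, -, -, hfg⟩ := Module.Finite.exists_comp_eq_id_of_projective B F
    apply LinearMap.ext
    intro z
    induction z using TensorProduct.induction_on with
    | zero => simp
    | add x y hx hy => rw [map_add, hx, hy]; simp
    | tmul c e =>
      rw [LinearMap.baseChange_tmul, LinearMap.zero_apply]
      have hx : β e = ∑ i, (g (β e) i) • f (Pi.single i 1) := by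
        have h1 : β e = f (g (β e)) := by
          have := LinearMap.congr_fun hfg (β e)
          simpa using this.symm
        conv_lhs => rw [h1]
        have h2 : g (β e) = ∑ i, (g (β e) i) • (Pi.single i 1 : Fin n → B) := by
          ext j
          simp [Finset.sum_apply, Pi.single_apply]
        conv_lhs => rw [h2]
        rw [map_sum]
        simp only [map_smul]
      rw [hx, TensorProduct.tmul_sum]
      apply Finset.sum_eq_zero
      intro i _
      have hmem : g (β e) i ∈ contentIdeal β := by
        apply Ideal.subset_span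
        exact ⟨(LinearMap.proj i).comp g, e, rfl⟩
      have hker : algebraMap B C (g (β e) i) = 0 := by
        have := h hmem
        rwa [RingHom.mem_ker] at this
      rw [TensorProduct.tmul_smul, TensorProduct.smul_tmul', Algebra.smul_def, hker, zero_mul,
        TensorProduct.zero_tmul]

theorem result {B : Type u} [CommRing B]
    {E : Type v} [AddCommGroup E] [Module B E]
    {F : Type w} [AddCommGroup F] [Module B F] [Module.Finite B F] [Module.Projective B F]
    (β : E →ₗ[B] F) :
    ∃! I : Ideal B, ∀ (C : Type u) [CommRing C] [Algebra B C],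
      LinearMap.baseChange C β = 0 ↔ I ≤ RingHom.ker (algebraMap B C) := by
  refine ⟨contentIdeal β, fun C _ _ => baseChange_eq_zero_iff β C, ?_⟩
  intro I' hI'
  apply le_antisymm
  · -- I' ≤ contentIdeal: use C = B / contentIdeal
    have h1 := hI' (B ⧸ contentIdeal β)
    have h2 := baseChange_eq_zero_iff β (B ⧸ contentIdeal β)
    have h3 : contentIdeal β ≤ RingHom.ker (algebraMap B (B ⧸ contentIdeal β)) := by
      rw [Ideal.Quotient.algebraMap_eq, Ideal.mk_ker]
    have h4 := h1.mp (h2.mpr h3)
    rwa [Ideal.Quotient.algebraMap_eq, Ideal.mk_ker] at h4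
  · have h1 := hI' (B ⧸ I')
    have h2 := baseChange_eq_zero_iff β (B ⧸ I')
    have h3 : I' ≤ RingHom.ker (algebraMap B (B ⧸ I')) := by
      rw [Ideal.Quotient.algebraMap_eq, Ideal.mk_ker]
    have h4 := h2.mp (h1.mpr h3)
    rwa [Ideal.Quotient.algebraMap_eq, Ideal.mk_ker] at h4

end Groth.Agent.S16015
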