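import Groth.Statements.S16016
import Mathlib

set_option autoImplicit false
universe u
open W4c3ghconstell

namespace Groth.Agent.S16016

open Matrix

theorem result (k : Type u) [Field k] (h2 : (2 : k) ≠ 0)
    (A : Matrix (Fin 3 ⊕ Fin 3) (Fin 3 ⊕ Fin 3) k) :
    (A.transpose * Matrix.fromBlocks (0 : Matrix (Fin 3) (Fin 3) k) 1 1 0 +
        Matrix.fromBlocks (0 : Matrix (Fin 3) (Fin 3) k) 1 1 0 * A = 0 ∧
      LinearMap.range (Matrix.mulVecLin A.transpose) ≤
        Submodule.span k {Pi.single (Sum.inl 0 : Fin 3 ⊕ Fin 3) (1 : k), Pi.single (Sum.inl 1 : Fin 3 ⊕ Fin 3) (1 : k)}) ↔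
    ∃ a : k, A = a • (Matrix.single (Sum.inr 0) (Sum.inl 1) (1 : k) - Matrix.single (Sum.inr 1) (Sum.inl 0) (1 : k)) := by
  constructor
  · rintro ⟨h1, hr⟩
    have key : ∀ i j, (Aᵀ * (Matrix.fromBlocks (0 : Matrix (Fin 3) (Fin 3) k) 1 1 0 :
          Matrix (Fin 3 ⊕ Fin 3) (Fin 3 ⊕ Fin 3) k)) i j +
        ((Matrix.fromBlocks (0 : Matrix (Fin 3) (Fin 3) k) 1 1 0 :
          Matrix (Fin 3 ⊕ Fin 3) (Fin 3 ⊕ Fin 3) k) * A) i j = 0 := by
      intro i j
      have := congrFun (congrFun h1 i) j
      simpa using this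
    have kll : ∀ a b : Fin 3, A (Sum.inr b) (Sum.inl a) + A (Sum.inr a) (Sum.inl b) = 0 := by
      intro a b
      have := key (Sum.inl a) (Sum.inl b)
      simpa [Matrix.mul_apply, Fintype.sum_sum_type, Matrix.one_apply] using this
    have klr : ∀ a b : Fin 3, A (Sum.inl b) (Sum.inl a) + A (Sum.inr a) (Sum.inr b) = 0 := by
      intro a b
      have := key (Sum.inl a) (Sum.inr b)
      simpa [Matrix.mul_apply, Fintype.sum_sum_type, Matrix.one_apply] using this
    -- range condition: columns vanish
    have hcol : ∀ (j i : Fin 3 ⊕ Fin 3), i ≠ Sum.inl 0 → i ≠ Sum.inl 1 → A j i = 0 := by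
      intro j i hi0 hi1
      have hmem : Matrix.mulVecLin Aᵀ (Pi.single j 1) ∈
          Submodule.span k {Pi.single (Sum.inl 0 : Fin 3 ⊕ Fin 3) (1 : k),
            Pi.single (Sum.inl 1 : Fin 3 ⊕ Fin 3) (1 : k)} := hr ⟨_, rfl⟩
      rw [Submodule.mem_span_pair] at hmem
      obtain ⟨x, y, hxy⟩ := hmem
      have := congrFun hxy i
      simp [Pi.single_apply, hi0, hi1] at this
      exact this.symm
    refine ⟨A (Sum.inr 0) (Sum.inl 1), ?_⟩
    ext i j
    rcases i with i | i <;> rcases j with j | j
    · -- inl inl : A11 = - A22ᵀ = 0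
      have := klr j i
      rw [hcol (Sum.inr j) (Sum.inr i) (by simp) (by simp)] at this
      simp [Matrix.single_apply, this]
      simpa using this
    · rw [hcol _ _ (by simp) (by simp)]
      simp [Matrix.single_apply]
    · -- inr inl
      have e00 : A (Sum.inr 0) (Sum.inl 0) = 0 := by
        have := kll 0 0
        have h : (2 : k) * A (Sum.inr 0) (Sum.inl 0) = 0 := by linear_combination this
        rcases mul_eq_zero.mp h with h | h
        · exact absurd h h2
        · exact h
      have e11 : A (Sum.inr 1) (Sum.inl 1) = 0 := by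
        have := kll 1 1
        have h : (2 : k) * A (Sum.inr 1) (Sum.inl 1) = 0 := by linear_combination this
        rcases mul_eq_zero.mp h with h | h
        · exact absurd h h2
        · exact h
      have e10 : A (Sum.inr 1) (Sum.inl 0) = - A (Sum.inr 0) (Sum.inl 1) := by
        have := kll 0 1
        linear_combination this
      have e2 : ∀ b : Fin 3, A (Sum.inr 2) (Sum.inl b) = 0 := by
        intro b
        have := kll b 2
        rw [hcol (Sum.inr b) (Sum.inl 2) (by decide) (by decide)] at this
        simpa using this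
      have ec2 : ∀ b : Fin 3, A (Sum.inr b) (Sum.inl 2) = 0 := by
        intro b
        exact hcol _ _ (by decide) (by decide)
      fin_cases i <;> fin_cases j <;>
        simp [Matrix.single_apply, e00, e11, e10, e2, ec2]
    · rw [hcol _ _ (by simp) (by simp)]
      simp [Matrix.single_apply]
  · rintro ⟨a, rfl⟩
    constructor
    · ext i j
      rcases i with i | i <;> rcases j with j | j <;> fin_cases i <;> fin_cases j <;>
        simp [Matrix.mul_apply, Fintype.sum_sum_type, Matrix.one_apply, Matrix.single_apply,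
          Fin.sum_univ_three]
    · rintro _ ⟨v, rfl⟩
      rw [Submodule.mem_span_pair]
      refine ⟨- a * v (Sum.inr 1), a * v (Sum.inr 0), ?_⟩
      ext i
      rcases i with i | i <;> fin_cases i <;>
        simp [Matrix.mulVec, dotProduct, Fintype.sum_sum_type, Matrix.single_apply,
          Fin.sum_univ_three, Pi.single_apply]

end Groth.Agent.S16016
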