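import Groth.Statements.S16017
import Mathlib

set_option autoImplicit false
universe u
open W4c3ghconstell

namespace Groth.Agent.S16017

open Filter Topology

theorem result {ι : Type u} [DecidableEq ι] (θ : ι → ℚ) (h h' : ι → ℕ)
    (hle : ∀ i, h' i ≤ h i) (hfin : {i | θ i < 0}.Finite)
    (hsum : Summable (fun i => (θ i : ℝ) * (h i : ℝ))) :
    Filter.Tendsto
      (fun D : Finset ι =>
        (∑ i ∈ D, (θ i : ℝ) * (h' i : ℝ)) +
          ((∑' i, if i ∈ D then (0 : ℝ) else (θ i : ℝ) * (h i : ℝ)) / ((D \ hfin.toFinset).card : ℝ)) *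
            ∑ i ∈ D \ hfin.toFinset, ((h' i : ℝ) / (h i : ℝ)))
      Filter.atTop (nhds (∑' i, (θ i : ℝ) * (h' i : ℝ))) := by
  -- summability of the primed series
  have hsum' : Summable (fun i => (θ i : ℝ) * (h' i : ℝ)) := by
    apply Summable.of_norm_bounded (g := fun i => |(θ i : ℝ) * (h i : ℝ)|) hsum.abs
    intro i
    rw [Real.norm_eq_abs, abs_mul, abs_mul]
    apply mul_le_mul_of_nonneg_left _ (abs_nonneg _)
    rw [abs_of_nonneg (Nat.cast_nonneg _), abs_of_nonneg (Nat.cast_nonneg _)]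
    exact_mod_cast hle i
  have h1 : Tendsto (fun D : Finset ι => ∑ i ∈ D, (θ i : ℝ) * (h' i : ℝ)) atTop
      (nhds (∑' i, (θ i : ℝ) * (h' i : ℝ))) := hsum'.hasSum
  -- the tail
  have htail : Tendsto (fun D : Finset ι => ∑' i, if i ∈ D then (0 : ℝ) else (θ i : ℝ) * (h i : ℝ))
      atTop (nhds 0) := by
    have := tendsto_tsum_compl_atTop_zero (fun i => (θ i : ℝ) * (h i : ℝ))
    refine this.congr ?_
    intro D
    have e := tsum_subtype {x | x ∉ D} (fun i => (θ i : ℝ) * (h i : ℝ))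
    refine e.trans ?_
    congr 1
    ext i
    by_cases hi : i ∈ D <;> simp [Set.indicator, hi]
  -- the error term
  have h2 : Tendsto (fun D : Finset ι =>
      ((∑' i, if i ∈ D then (0 : ℝ) else (θ i : ℝ) * (h i : ℝ)) / ((D \ hfin.toFinset).card : ℝ)) *
        ∑ i ∈ D \ hfin.toFinset, ((h' i : ℝ) / (h i : ℝ))) atTop (nhds 0) := by
    apply squeeze_zero_norm _ (tendsto_norm_zero.comp htail)
    intro D
    simp only [Function.comp]
    set S := ∑' i, if i ∈ D then (0 : ℝ) else (θ i : ℝ) * (h i : ℝ)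
    set E := D \ hfin.toFinset
    have hterm : ∀ i, 0 ≤ (h' i : ℝ) / (h i : ℝ) ∧ (h' i : ℝ) / (h i : ℝ) ≤ 1 := by
      intro i
      constructor
      · positivity
      · apply div_le_one_of_le₀ _ (Nat.cast_nonneg _)
        exact_mod_cast hle i
    have hs0 : 0 ≤ ∑ i ∈ E, ((h' i : ℝ) / (h i : ℝ)) := Finset.sum_nonneg fun i _ => (hterm i).1
    have hs1 : ∑ i ∈ E, ((h' i : ℝ) / (h i : ℝ)) ≤ (E.card : ℝ) := by
      calc ∑ i ∈ E, ((h' i : ℝ) / (h i : ℝ)) ≤ ∑ i ∈ E, (1 : ℝ) :=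
            Finset.sum_le_sum fun i _ => (hterm i).2
        _ = (E.card : ℝ) := by simp
    rw [norm_mul, norm_div, Real.norm_eq_abs, Real.norm_eq_abs, Real.norm_eq_abs,
      abs_of_nonneg hs0, abs_of_nonneg (Nat.cast_nonneg E.card : (0 : ℝ) ≤ (E.card : ℝ))]
    by_cases hE : (E.card : ℝ) = 0
    · rw [hE, div_zero, zero_mul]
      exact abs_nonneg _
    · have hEpos : 0 < (E.card : ℝ) := lt_of_le_of_ne (Nat.cast_nonneg _) (Ne.symm hE)
      rw [div_mul_eq_mul_div, div_le_iff₀ hEpos]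
      exact mul_le_mul_of_nonneg_left hs1 (abs_nonneg _)
  have := h1.add h2
  simpa using this

end Groth.Agent.S16017
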