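import Groth.Statements.S16030
import Mathlib

set_option autoImplicit false
universe u
open CAlg

namespace Groth.Agent.S16030

theorem result
    (A : Type u) [CommRing A] (F : Set (PrimeSpectrum A)) (hF : F.Finite)
    (U : TopologicalSpace.Opens (PrimeSpectrum A)) (hFU : F ⊆ (U : Set (PrimeSpectrum A))) :
    ∃ a : A, F ⊆ (PrimeSpectrum.basicOpen a : Set (PrimeSpectrum A)) ∧ PrimeSpectrum.basicOpen a ≤ U := by
  classical
  -- U is the complement of a zero locus of an ideal
  obtain ⟨I, hI⟩ : ∃ I : Ideal A, (U : Set (PrimeSpectrum A))ᶜ = PrimeSpectrum.zeroLocus (I : Set A) := by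
    have hclosed : IsClosed ((U : Set (PrimeSpectrum A))ᶜ) := U.isOpen.isClosed_compl
    obtain ⟨I, hI⟩ := (PrimeSpectrum.isClosed_iff_zeroLocus_ideal _).mp hclosed
    exact ⟨I, hI⟩
  -- prime avoidance
  by_cases hne : ∃ a ∈ I, ∀ p ∈ F, a ∉ (p : PrimeSpectrum A).asIdeal
  · obtain ⟨a, haI, ha⟩ := hne
    refine ⟨a, ?_, ?_⟩
    · intro p hp
      exact ha p hp
    · intro p hp
      by_contra hpU
      have : p ∈ (U : Set (PrimeSpectrum A))ᶜ := hpU
      rw [hI] at this
      have h2 : a ∈ p.asIdeal := this haI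
      exact hp h2
  · exfalso
    push_neg at hne
    have hsub : (I : Set A) ⊆ ⋃ p ∈ (↑hF.toFinset : Set (PrimeSpectrum A)), (p.asIdeal : Set A) := by
      intro a ha
      obtain ⟨p, hp, hap⟩ := hne a ha
      simp only [Set.mem_iUnion]
      exact ⟨p, by simpa using hp, hap⟩
    obtain ⟨p₀, -, -⟩ := hne 0 I.zero_mem
    have := (Ideal.subset_union_prime (s := hF.toFinset) (f := fun p : PrimeSpectrum A => p.asIdeal)
      p₀ p₀ (fun p _ _ _ => p.isPrime) (I := I)).mp hsub
    obtain ⟨p, hp, hIp⟩ := this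
    have hpF : p ∈ F := by simpa using hp
    have hpU : p ∈ (U : Set (PrimeSpectrum A)) := hFU hpF
    have : p ∈ PrimeSpectrum.zeroLocus (I : Set A) := hIp
    rw [← hI] at this
    exact this hpU

end Groth.Agent.S16030
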