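import Groth.Statements.S16031
-- import your own Groth.Agent.* helpers here
import Groth.Agent.Lib.Helper58.ClPushoutFinite

set_option autoImplicit false
universe u
open CategoryTheory CategoryTheory.Limits AlgebraicGeometry
open FlatMor

namespace Groth.Agent.S16031

/-- Let θ₁ : Y ⟶ X₁ and θ₂ : Y ⟶ X₂ be closed immersions of schemes and let X, with φ₁ : X₁ ⟶ X and φ₂ :
X₂ ⟶ X, be their pushout in the category of schemes. If a finite set E of points of X has each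
preimage φᵢ⁻¹(E) contained in an affine open of Xᵢ, then E is contained in an affine open of X. -/
theorem result
    {Y X₁ X₂ X : Scheme.{u}} (θ₁ : Y ⟶ X₁) (θ₂ : Y ⟶ X₂) [IsClosedImmersion θ₁] [IsClosedImmersion θ₂]
    (φ₁ : X₁ ⟶ X) (φ₂ : X₂ ⟶ X) (hX : IsPushout θ₁ θ₂ φ₁ φ₂)
    (E : Set ↥X) (hE : E.Finite)
    (h₁ : ∃ U₁ : X₁.Opens, IsAffineOpen U₁ ∧ φ₁ ⁻¹' E ⊆ (U₁ : Set ↥X₁))
    (h₂ : ∃ U₂ : X₂.Opens, IsAffineOpen U₂ ∧ φ₂ ⁻¹' E ⊆ (U₂ : Set ↥X₂)) :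
    ∃ U : X.Opens, IsAffineOpen U ∧ E ⊆ (U : Set ↥X) := by
  -- compare `X` with the constructed pushout
  let e : X ≅ Groth.Agent.Lib.Helper58.ClPushout.P θ₁ θ₂ :=
    hX.isoIsPushout _ _ (Groth.Agent.Lib.Helper58.ClPushout.isPushout θ₁ θ₂)
  have he₁ : φ₁ ≫ e.hom = Groth.Agent.Lib.Helper58.ClPushout.a θ₁ θ₂ :=
    hX.inl_isoIsPushout_hom _ _ _
  have he₂ : φ₂ ≫ e.hom = Groth.Agent.Lib.Helper58.ClPushout.b θ₁ θ₂ :=
    hX.inr_isoIsPushout_hom _ _ _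
  have hinj : Function.Injective e.hom := by
    intro x y hxy
    have := congrArg e.inv hxy
    rwa [← Scheme.Hom.comp_apply, ← Scheme.Hom.comp_apply, e.hom_inv_id] at this
  obtain ⟨k, hk⟩ := Groth.Agent.Lib.Helper58.ClPushout.exists_chart_of_finite θ₁ θ₂
    (e.hom '' E) (hE.image _) (by
      obtain ⟨U₁, hU₁, h₁⟩ := h₁
      refine ⟨U₁, hU₁, fun x hx => h₁ ?_⟩
      obtain ⟨ξ, hξ, hξx⟩ := hx
      rw [← he₁, Scheme.Hom.comp_apply] at hξx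
      have := hinj hξx
      subst this
      exact hξ) (by
      obtain ⟨U₂, hU₂, h₂⟩ := h₂
      refine ⟨U₂, hU₂, fun x hx => h₂ ?_⟩
      obtain ⟨ξ, hξ, hξx⟩ := hx
      rw [← he₂, Scheme.Hom.comp_apply] at hξx
      have := hinj hξx
      subst this
      exact hξ)
  refine ⟨e.hom ⁻¹ᵁ (Groth.Agent.Lib.Helper58.ClPushout.chart θ₁ θ₂ k).opensRange, ?_, ?_⟩
  · haveI : IsAffine ((Groth.Agent.Lib.Helper58.ClPushout.F θ₁ θ₂).obj k) :=
      inferInstanceAs (IsAffine (Spec _))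
    exact (isAffineOpen_opensRange (Groth.Agent.Lib.Helper58.ClPushout.chart θ₁ θ₂ k)).preimage_of_isIso e.hom
  · intro ξ hξ
    exact hk ⟨ξ, hξ, rfl⟩

end Groth.Agent.S16031
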