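import Groth.Statements.S16044
import Groth.Agent.Lib.Helper69.FibreDom

set_option autoImplicit false
universe u
open CategoryTheory CategoryTheory.Limits AlgebraicGeometry
open GrpSch

namespace Groth.Agent.S16044

/-- Let S be the spectrum of a discrete valuation ring and X a quasi-compact quasi-separated flat
S-scheme, with canonical morphism c : X ⟶ Spec Γ(X, O_X) over S. Then on each fibre over a point of
S the base change of c is schematically dominant (its kernel ideal sheaf vanishes). -/
theorem result
    (A : Type u) [CommRing A] [IsDomain A] [IsDiscreteValuationRing A]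
    (X : Scheme.{u}) (f : X ⟶ Spec (CommRingCat.of A)) [Flat f] [QuasiCompact f] [QuasiSeparated f]
    (g : Spec Γ(X, ⊤) ⟶ Spec (CommRingCat.of A)) (hg : X.toSpecΓ ≫ g = f) (s : ↥(Spec (CommRingCat.of A))) :
    (pullback.map f ((Spec (CommRingCat.of A)).fromSpecResidueField s) g ((Spec (CommRingCat.of A)).fromSpecResidueField s)
        X.toSpecΓ (𝟙 _) (𝟙 _) ((Category.comp_id f).trans hg.symm)
        ((Category.comp_id _).trans (Category.id_comp _).symm)).ker = ⊥ := by
  subst hg
  obtain ⟨g', rfl⟩ : ∃ g', Spec.map g' = g := ⟨Spec.preimage g, Spec.map_preimage g⟩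
  have : CompactSpace X := QuasiCompact.compactSpace_of_compactSpace (X.toSpecΓ ≫ Spec.map g')
  generalize (Spec (CommRingCat.of A)).fromSpecResidueField s = ι
  obtain ⟨φ, rfl⟩ : ∃ φ, Spec.map φ = ι := ⟨Spec.preimage ι, Spec.map_preimage ι⟩
  exact Groth.Agent.Lib.Helper69.FibreDom.ker_eq_bot_main A X g' _ φ _
    (pullback.lift_fst _ _ _) ((pullback.lift_snd _ _ _).trans (Category.comp_id _))

end Groth.Agent.S16044
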