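import Groth.Statements.S16051
import Mathlib

set_option autoImplicit false
universe u
open LieAlg

namespace Groth.Agent.S16051

section Core

variable {O : Type u} [CommRing O]

/-- explicit solution operator -/
def Sop (n : ℕ) (m : ℕ → ℕ → O) (a b : ℕ) : O :=
  if a = 0 then 0
  else if a < n then
    (if b < n then ∑ t ∈ Finset.range (min (a - 1) b + 1), m (a - 1 - t) (b - t)
      else if b = n then m (a - 1) n else 0)
  else if a = n then (if b + 1 < n then - m n (b + 1) else 0)
  else 0

/-- sums along the lower diagonals of the `n × n` block -/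
def sig (n k : ℕ) (m : ℕ → ℕ → O) : O := ∑ j ∈ Finset.range (n - k), m (j + k) j

/-- the commutator with the subregular nilpotent, on `ℕ`-indexed arrays -/
def Top (n : ℕ) (A : ℕ → ℕ → O) (a b : ℕ) : O :=
  (if a + 1 < n then A (a + 1) b else 0) - (if 1 ≤ b ∧ b < n then A a (b - 1) else 0)

theorem sig_Top (n k : ℕ) (hk : k < n) (A : ℕ → ℕ → O) : sig n k (Top n A) = 0 := by
  obtain ⟨d, hd⟩ : ∃ d, n - k = d + 1 := ⟨n - k - 1, by omega⟩
  unfold sig Top
  rw [hd, Finset.sum_sub_distrib, Finset.sum_range_succ, Finset.sum_range_succ']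
  have h1 : ¬ (d + k + 1 < n) := by omega
  have h2 : ¬ (1 ≤ 0 ∧ 0 < n) := by omega
  rw [if_neg h1, if_neg h2, add_zero, add_zero, sub_eq_zero]
  apply Finset.sum_congr rfl
  intro j hj
  rw [Finset.mem_range] at hj
  have h3 : j + k + 1 < n := by omega
  have h4 : 1 ≤ j + 1 ∧ j + 1 < n := by omega
  rw [if_pos h3, if_pos h4]
  congr 1
  omega

theorem Top_Sop (n : ℕ) (hn : 1 ≤ n) (m : ℕ → ℕ → O) (hσ : ∀ k < n, sig n k m = 0)
    (hβ : m (n - 1) n = 0) (hγ : m n 0 = 0) (hnn : m n n = 0)
    (a b : ℕ) (ha : a ≤ n) (hb : b ≤ n) : Top n (Sop n m) a b = m a b := by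
  unfold Top
  by_cases h1 : a + 1 < n
  · -- generic rows
    rw [if_pos h1]
    have hS1 : Sop n m (a + 1) b =
        if b < n then ∑ t ∈ Finset.range (min a b + 1), m (a - t) (b - t)
        else m a n := by
      unfold Sop
      rw [if_neg (by omega), if_pos h1]
      simp only [Nat.add_sub_cancel]
      by_cases hbn : b < n
      · rw [if_pos hbn, if_pos hbn]
      · rw [if_neg hbn, if_neg hbn, if_pos (by omega)]
    rw [hS1]
    by_cases hbn : b < n
    · rw [if_pos hbn]
      by_cases hb1 : 1 ≤ b
      · rw [if_pos ⟨hb1, hbn⟩]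
        by_cases ha0 : a = 0
        · subst ha0
          have : Sop n m 0 (b - 1) = 0 := by unfold Sop; rw [if_pos rfl]
          rw [this, sub_zero, Nat.zero_min, zero_add, Finset.sum_range_one]
          simp only [Nat.sub_zero]
        · have hS2 : Sop n m a (b - 1) =
              ∑ t ∈ Finset.range (min (a - 1) (b - 1) + 1), m (a - 1 - t) (b - 1 - t) := by
            unfold Sop
            rw [if_neg ha0, if_pos (by omega), if_pos (by omega)]
          rw [hS2]
          have hmin : min a b = min (a - 1) (b - 1) + 1 := by omega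
          rw [hmin, Finset.sum_range_succ' _ (min (a - 1) (b - 1) + 1)]
          simp only [Nat.sub_zero]
          have : ∀ t, m (a - (t + 1)) (b - (t + 1)) = m (a - 1 - t) (b - 1 - t) := by
            intro t
            congr 1 <;> omega
          simp only [this]
          ring
      · have hb0 : b = 0 := by omega
        subst hb0
        rw [if_neg (by omega), sub_zero, Nat.min_zero, zero_add, Finset.sum_range_one]
        simp only [Nat.sub_zero]
    · have hbn' : b = n := by omega
      subst hbn'
      rw [if_neg hbn, if_neg (by omega), sub_zero]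
  · rw [if_neg h1, zero_sub]
    by_cases han : a = n
    · -- last row
      subst han
      by_cases hb1 : 1 ≤ b ∧ b < a
      · rw [if_pos hb1]
        unfold Sop
        rw [if_neg (by omega), if_neg (by omega), if_pos rfl, if_pos (by omega), neg_neg]
        congr 1
        omega
      · rw [if_neg hb1, neg_zero]
        by_cases hb0 : b = 0
        · subst hb0; exact hγ.symm
        · have : b = a := by omega
          subst this; exact hnn.symm
    · -- row n - 1
      have han1 : a = n - 1 := by omega
      by_cases hb1 : 1 ≤ b ∧ b < n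
      · rw [if_pos hb1]
        have ha0 : a ≠ 0 := by omega
        have hS2 : Sop n m a (b - 1) =
            ∑ t ∈ Finset.range (min (a - 1) (b - 1) + 1), m (a - 1 - t) (b - 1 - t) := by
          unfold Sop
          rw [if_neg ha0, if_pos (by omega), if_pos (by omega)]
        rw [hS2]
        have hmin : min (a - 1) (b - 1) + 1 = b := by omega
        rw [hmin]
        -- use sig n (n - 1 - b) m = 0
        have hs := hσ (n - 1 - b) (by omega)
        unfold sig at hs
        have hnb : n - (n - 1 - b) = b + 1 := by omega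
        rw [hnb, ← Finset.sum_range_reflect, Finset.sum_range_succ'] at hs
        simp only [Nat.add_sub_cancel, Nat.sub_zero] at hs
        have e1 : ∀ t ∈ Finset.range b, m (b - (t + 1) + (n - 1 - b)) (b - (t + 1)) =
            m (a - 1 - t) (b - 1 - t) := by
          intro t ht
          rw [Finset.mem_range] at ht
          congr 1 <;> omega
        rw [Finset.sum_congr rfl e1] at hs
        have e0' : m (b + (n - 1 - b)) b = m a b := by congr 1; omega
        rw [e0'] at hs
        linear_combination (-1 : O) * hs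
      · rw [if_neg hb1, neg_zero]
        by_cases hb0 : b = 0
        · subst hb0
          have hs := hσ (n - 1) (by omega)
          unfold sig at hs
          have : n - (n - 1) = 1 := by omega
          rw [this, Finset.sum_range_one, zero_add] at hs
          rw [han1]; exact hs.symm
        · have : b = n := by omega
          subst this
          rw [han1]; exact hβ.symm

end Core

section Mat

variable {O : Type u} [CommRing O] (n : ℕ)

/-- extend a matrix by zero to an `ℕ`-indexed array -/
def embed (M : Matrix (Fin (n + 1)) (Fin (n + 1)) O) (a b : ℕ) : O :=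
  if h : a < n + 1 ∧ b < n + 1 then M ⟨a, h.1⟩ ⟨b, h.2⟩ else 0

theorem embed_fin (M : Matrix (Fin (n + 1)) (Fin (n + 1)) O) (i j : Fin (n + 1)) :
    embed n M i.val j.val = M i j := by
  unfold embed; rw [dif_pos ⟨i.2, j.2⟩]

theorem embed_of_lt (M : Matrix (Fin (n + 1)) (Fin (n + 1)) O) (a b : ℕ)
    (ha : a < n + 1) (hb : b < n + 1) : embed n M a b = M ⟨a, ha⟩ ⟨b, hb⟩ := by
  unfold embed; rw [dif_pos ⟨ha, hb⟩]

theorem embed_of_not (M : Matrix (Fin (n + 1)) (Fin (n + 1)) O) (a b : ℕ)
    (h : ¬ (a < n + 1 ∧ b < n + 1)) : embed n M a b = 0 := by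
  unfold embed; rw [dif_neg h]

theorem embed_add (M M' : Matrix (Fin (n + 1)) (Fin (n + 1)) O) :
    embed n (M + M') = fun a b => embed n M a b + embed n M' a b := by
  funext a b
  unfold embed; split_ifs <;> simp

theorem embed_smul (c : O) (M : Matrix (Fin (n + 1)) (Fin (n + 1)) O) :
    embed n (c • M) = fun a b => c * embed n M a b := by
  funext a b
  unfold embed; split_ifs <;> simp

theorem sig_add (k : ℕ) (m m' : ℕ → ℕ → O) :
    sig n k (fun a b => m a b + m' a b) = sig n k m + sig n k m' := by
  unfold sig; rw [Finset.sum_add_distrib]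

theorem sig_smul (k : ℕ) (c : O) (m : ℕ → ℕ → O) :
    sig n k (fun a b => c * m a b) = c * sig n k m := by
  unfold sig; rw [Finset.mul_sum]

theorem comm_eq_Top (x M : Matrix (Fin (n + 1)) (Fin (n + 1)) O)
    (hx : ∀ i j : Fin (n + 1), x i j = if j.val = i.val + 1 ∧ j.val < n then 1 else 0)
    (i j : Fin (n + 1)) :
    (x * M - M * x) i j = Top n (embed n M) i.val j.val := by
  rw [Matrix.sub_apply, Matrix.mul_apply, Matrix.mul_apply]
  unfold Top
  congr 1
  · by_cases h : i.val + 1 < n
    · rw [if_pos h, Finset.sum_eq_single (⟨i.val + 1, by omega⟩ : Fin (n + 1))]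
      · rw [hx, if_pos ⟨rfl, h⟩, one_mul, embed_of_lt n M (i.val + 1) j.val (by omega) j.2]
      · intro c _ hc
        rw [hx, if_neg, zero_mul]
        rintro ⟨h1, _⟩
        exact hc (Fin.ext h1)
      · intro h'; exact absurd (Finset.mem_univ _) h'
    · rw [if_neg h]
      apply Finset.sum_eq_zero
      intro c _
      rw [hx, if_neg, zero_mul]
      rintro ⟨h1, h2⟩
      omega
  · by_cases h : 1 ≤ j.val ∧ j.val < n
    · rw [if_pos h, Finset.sum_eq_single (⟨j.val - 1, by omega⟩ : Fin (n + 1))]
      · rw [hx, if_pos ⟨by simp only []; omega, h.2⟩, mul_one,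
          embed_of_lt n M i.val (j.val - 1) i.2 (by omega)]
      · intro c _ hc
        rw [hx, if_neg, mul_zero]
        rintro ⟨h1, _⟩
        apply hc
        apply Fin.ext
        simp only []
        omega
      · intro h'; exact absurd (Finset.mem_univ _) h'
    · rw [if_neg h]
      apply Finset.sum_eq_zero
      intro c _
      rw [hx, if_neg, mul_zero]
      rintro ⟨h1, h2⟩
      omega

theorem embed_comm (x M : Matrix (Fin (n + 1)) (Fin (n + 1)) O)
    (hx : ∀ i j : Fin (n + 1), x i j = if j.val = i.val + 1 ∧ j.val < n then 1 else 0) :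
    embed n (x * M - M * x) = Top n (embed n M) := by
  funext a b
  by_cases h : a < n + 1 ∧ b < n + 1
  · rw [embed_of_lt n _ a b h.1 h.2, comm_eq_Top n x M hx]
  · rw [embed_of_not n _ a b h]
    unfold Top
    have e1 : (if a + 1 < n then embed n M (a + 1) b else 0) = 0 := by
      by_cases h1 : a + 1 < n
      · rw [if_pos h1, embed_of_not]
        omega
      · rw [if_neg h1]
    have e2 : (if 1 ≤ b ∧ b < n then embed n M a (b - 1) else 0) = 0 := by
      by_cases h1 : 1 ≤ b ∧ b < n
      · rw [if_pos h1, embed_of_not]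
        omega
      · rw [if_neg h1]
    rw [e1, e2, sub_zero]

theorem trace_eq (M : Matrix (Fin (n + 1)) (Fin (n + 1)) O) :
    Matrix.trace M = sig n 0 (embed n M) + embed n M n n := by
  unfold Matrix.trace sig
  rw [Fin.sum_univ_castSucc, Nat.sub_zero, ← Fin.sum_univ_eq_sum_range
    (fun j => embed n M (j + 0) j) n]
  congr 1
  · apply Finset.sum_congr rfl
    intro i _
    rw [Matrix.diag_apply, add_zero]
    exact (embed_fin n M (Fin.castSucc i) (Fin.castSucc i)).symm
  · rw [Matrix.diag_apply]
    exact (embed_fin n M (Fin.last n) (Fin.last n)).symm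

/-- the invariants of the cokernel -/
def Phi : Matrix (Fin (n + 1)) (Fin (n + 1)) O →ₗ[O] (Fin n → O) × O × O where
  toFun M := (fun k => sig n k.val (embed n M), embed n M (n - 1) n, embed n M n 0)
  map_add' M M' := by
    rw [embed_add]
    ext k
    · simp only [sig_add, Prod.mk_add_mk, Pi.add_apply]
    · simp only [Prod.mk_add_mk]
    · simp only [Prod.mk_add_mk]
  map_smul' c M := by
    rw [embed_smul]
    ext k
    · simp only [sig_smul, Prod.smul_mk, Pi.smul_apply, smul_eq_mul, RingHom.id_apply]
    · simp only [Prod.smul_mk, smul_eq_mul, RingHom.id_apply]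
    · simp only [Prod.smul_mk, smul_eq_mul, RingHom.id_apply]

end Mat

section Main

variable {O : Type u} [CommRing O] (n : ℕ)

/-- (A) `Phi` kills commutators with `x`. -/
theorem Phi_comm (x M : Matrix (Fin (n + 1)) (Fin (n + 1)) O)
    (hx : ∀ i j : Fin (n + 1), x i j = if j.val = i.val + 1 ∧ j.val < n then 1 else 0) :
    Phi n (x * M - M * x) = 0 := by
  show ((fun k : Fin n => sig n k.val (embed n (x * M - M * x))),
    embed n (x * M - M * x) (n - 1) n, embed n (x * M - M * x) n 0) = 0
  rw [embed_comm n x M hx]
  ext k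
  · exact sig_Top n k.val k.2 _
  · show Top n (embed n M) (n - 1) n = 0
    unfold Top
    rw [if_neg (by omega), if_neg (by omega), sub_zero]
  · show Top n (embed n M) n 0 = 0
    unfold Top
    rw [if_neg (by omega), if_neg (by omega), sub_zero]

/-- the explicit section -/
def yfun (s : ℕ → O) (β γ : O) (a b : ℕ) : O :=
  if b = 0 then (if a < n then s a else if a = n then γ else 0)
  else if b = n then (if a + 1 = n then β else if a = n then - s 0 else 0)
  else 0

theorem embed_of (f : ℕ → ℕ → O) (a b : ℕ) (ha : a < n + 1) (hb : b < n + 1) :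
    embed n (Matrix.of fun i j : Fin (n + 1) => f i.val j.val) a b = f a b := by
  rw [embed_of_lt n _ a b ha hb]
  rfl

theorem sig_yfun (hn : 1 ≤ n) (s : ℕ → O) (β γ : O) (k : ℕ) (hk : k < n) :
    sig n k (embed n (Matrix.of fun i j : Fin (n + 1) => yfun n s β γ i.val j.val)) = s k := by
  obtain ⟨d, hd⟩ : ∃ d, n - k = d + 1 := ⟨n - k - 1, by omega⟩
  unfold sig
  rw [hd, Finset.sum_range_succ', zero_add, embed_of n _ k 0 (by omega) (by omega)]
  have : ∑ j ∈ Finset.range d,
      embed n (Matrix.of fun i j : Fin (n + 1) => yfun n s β γ i.val j.val) (j + 1 + k) (j + 1)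
      = 0 := by
    apply Finset.sum_eq_zero
    intro j hj
    rw [Finset.mem_range] at hj
    rw [embed_of n _ _ _ (by omega) (by omega)]
    unfold yfun
    rw [if_neg (by omega), if_neg (by omega)]
  rw [this, zero_add]
  unfold yfun
  rw [if_pos rfl, if_pos hk]

/-- (B) `Phi` restricted to trace-zero matrices is surjective. -/
theorem Phi_surj (hn : 1 ≤ n) (t : (Fin n → O) × O × O) :
    ∃ M : Matrix (Fin (n + 1)) (Fin (n + 1)) O, Matrix.trace M = 0 ∧ Phi n M = t := by
  obtain ⟨s, β, γ⟩ := t
  set sN : ℕ → O := fun a => if h : a < n then s ⟨a, h⟩ else 0 with hsN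
  refine ⟨Matrix.of fun i j : Fin (n + 1) => yfun n sN β γ i.val j.val, ?_, ?_⟩
  · rw [trace_eq, sig_yfun n hn sN β γ 0 (by omega), embed_of n _ n n (by omega) (by omega)]
    unfold yfun
    rw [if_neg (by omega), if_pos rfl, if_neg (by omega), if_pos rfl, add_neg_cancel]
  · show ((fun k : Fin n => sig n k.val (embed n _)), embed n _ (n - 1) n, embed n _ n 0)
      = (s, β, γ)
    ext k
    · show sig n k.val (embed n _) = s k
      rw [sig_yfun n hn sN β γ k.val k.2, hsN]
      simp only [k.2, dif_pos]
    · show embed n _ (n - 1) n = β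
      rw [embed_of n _ (n - 1) n (by omega) (by omega)]
      unfold yfun
      rw [if_neg (by omega), if_pos rfl, if_pos (by omega)]
    · show embed n _ n 0 = γ
      rw [embed_of n _ n 0 (by omega) (by omega)]
      unfold yfun
      rw [if_pos rfl, if_neg (by omega), if_pos rfl]

/-- (C) trace-zero matrices killed by `Phi` are commutators with `x` of a trace-zero matrix. -/
theorem Phi_ker (hn : 1 ≤ n) (x M : Matrix (Fin (n + 1)) (Fin (n + 1)) O)
    (hx : ∀ i j : Fin (n + 1), x i j = if j.val = i.val + 1 ∧ j.val < n then 1 else 0)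
    (htr : Matrix.trace M = 0) (hM : Phi n M = 0) :
    ∃ A : Matrix (Fin (n + 1)) (Fin (n + 1)) O, Matrix.trace A = 0 ∧ x * A - A * x = M := by
  have hM' : ((fun k : Fin n => sig n k.val (embed n M)), embed n M (n - 1) n, embed n M n 0)
      = 0 := hM
  rw [Prod.ext_iff] at hM'
  obtain ⟨h1, h23⟩ := hM'
  rw [Prod.ext_iff] at h23
  obtain ⟨h2, h3⟩ := h23
  simp only [Prod.fst_zero, Prod.snd_zero] at h1 h2 h3
  set m := embed n M with hm
  have hσ : ∀ k < n, sig n k m = 0 := fun k hk => congrFun h1 ⟨k, hk⟩
  have hnn : m n n = 0 := by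
    have := trace_eq n M
    rw [htr, hσ 0 (by omega), zero_add] at this
    exact this.symm
  set c : O := - ∑ j ∈ Finset.range n, Sop n m j j with hc
  set f : ℕ → ℕ → O := fun a b => if a = n ∧ b = n then c else Sop n m a b with hf
  refine ⟨Matrix.of fun i j : Fin (n + 1) => f i.val j.val, ?_, ?_⟩
  · rw [trace_eq, embed_of n f n n (by omega) (by omega)]
    unfold sig
    rw [Nat.sub_zero]
    have : ∑ j ∈ Finset.range n, embed n (Matrix.of fun i j : Fin (n + 1) => f i.val j.val)
        (j + 0) j = ∑ j ∈ Finset.range n, Sop n m j j := by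
      apply Finset.sum_congr rfl
      intro j hj
      rw [Finset.mem_range] at hj
      rw [add_zero, embed_of n f j j (by omega) (by omega), hf]
      simp only
      rw [if_neg (by omega)]
    have hfnn : f n n = c := if_pos ⟨rfl, rfl⟩
    rw [this, hfnn, hc, add_neg_cancel]
  · ext i j
    rw [comm_eq_Top n x _ hx i j]
    have key : Top n (embed n (Matrix.of fun i j : Fin (n + 1) => f i.val j.val)) i.val j.val
        = Top n (Sop n m) i.val j.val := by
      unfold Top
      congr 1
      · by_cases h : i.val + 1 < n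
        · rw [if_pos h, if_pos h, embed_of n f _ _ (by omega) j.2, hf]
          simp only
          rw [if_neg (by omega)]
        · rw [if_neg h, if_neg h]
      · by_cases h : 1 ≤ j.val ∧ j.val < n
        · rw [if_pos h, if_pos h, embed_of n f _ _ i.2 (by omega), hf]
          simp only
          rw [if_neg (by omega)]
        · rw [if_neg h, if_neg h]
    rw [key, Top_Sop n hn m hσ h2 h3 hnn i.val j.val (by omega) (by omega), hm, embed_fin]

end Main

/-- Let O be a discrete valuation ring of characteristic zero with residue field of characteristic p,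
let 1 ≤ n with n + 1 < p (type A_n with p above the Coxeter number), and let x ∈ sl_{n+1}(O) be the
standard subregular nilpotent element, the matrix with entries x_{i,i+1} = 1 for i + 1 < n and 0
elsewhere (one Jordan block of size n and one of size 1; in the source this is the sum of the root
vectors of the first n − 1 simple roots, completed there to an sl₂-triple). Then the quotient of
sl_{n+1}(O) by the image of ad_x is a free O-module of rank n + 2. (The source works over a complete
such ring with algebraically closed residue field; completeness and algebraic closedness are not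
used for this statement.) -/
theorem result (O : Type u) [CommRing O] [IsDomain O] [IsDiscreteValuationRing O]
    [CharZero O] (p : ℕ) [Fact p.Prime] [CharP (IsLocalRing.ResidueField O) p]
    (n : ℕ) (hn : 1 ≤ n) (hp : n + 1 < p)
    (x : LieAlgebra.SpecialLinear.sl (Fin (n + 1)) O)
    (hx : ∀ i j : Fin (n + 1), (x : Matrix (Fin (n + 1)) (Fin (n + 1)) O) i j =
      if j.val = i.val + 1 ∧ j.val < n then 1 else 0) :
    Module.Free O (LieAlgebra.SpecialLinear.sl (Fin (n + 1)) O ⧸
        LinearMap.range (LieAlgebra.ad O (LieAlgebra.SpecialLinear.sl (Fin (n + 1)) O) x)) ∧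
      Module.finrank O (LieAlgebra.SpecialLinear.sl (Fin (n + 1)) O ⧸
        LinearMap.range (LieAlgebra.ad O (LieAlgebra.SpecialLinear.sl (Fin (n + 1)) O) x)) = n + 2 := by
  classical
  have hmem : ∀ y : LieAlgebra.SpecialLinear.sl (Fin (n + 1)) O, Matrix.trace y.val = 0 := fun y => LinearMap.mem_ker.1 y.2
  let Ψ : LieAlgebra.SpecialLinear.sl (Fin (n + 1)) O →ₗ[O] (Fin n → O) × O × O :=
    { toFun := fun y => Phi n y.val
      map_add' := fun y y' => by
        show Phi n (y.val + y'.val) = _
        rw [map_add]
      map_smul' := fun c y => by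
        show Phi n (c • y.val) = _
        rw [map_smul]; rfl }
  have hΨ : ∀ y : LieAlgebra.SpecialLinear.sl (Fin (n + 1)) O, Ψ y = Phi n y.val := fun y => rfl
  have hsurj : Function.Surjective Ψ := by
    intro t
    obtain ⟨M, hM0, hMt⟩ := Phi_surj n hn t
    exact ⟨⟨M, LinearMap.mem_ker.2 hM0⟩, hMt⟩
  have hker : LinearMap.range (LieAlgebra.ad O (LieAlgebra.SpecialLinear.sl (Fin (n + 1)) O) x) = LinearMap.ker Ψ := by
    apply le_antisymm
    · rintro _ ⟨y, rfl⟩
      rw [LinearMap.mem_ker, hΨ, LieAlgebra.ad_apply, LieAlgebra.SpecialLinear.sl_bracket]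
      exact Phi_comm n x.val y.val hx
    · intro y hy
      rw [LinearMap.mem_ker, hΨ] at hy
      obtain ⟨A, hA0, hA⟩ := Phi_ker n hn x.val y.val hx (hmem y) hy
      refine ⟨⟨A, LinearMap.mem_ker.2 hA0⟩, ?_⟩
      apply Subtype.ext
      rw [LieAlgebra.ad_apply, LieAlgebra.SpecialLinear.sl_bracket]
      exact hA
  let e : (LieAlgebra.SpecialLinear.sl (Fin (n + 1)) O ⧸ LinearMap.range (LieAlgebra.ad O (LieAlgebra.SpecialLinear.sl (Fin (n + 1)) O) x)) ≃ₗ[O] (Fin n → O) × O × O :=
    (Submodule.quotEquivOfEq _ _ hker).trans (Ψ.quotKerEquivOfSurjective hsurj)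
  refine ⟨Module.Free.of_equiv e.symm, ?_⟩
  rw [LinearEquiv.finrank_eq e, Module.finrank_prod, Module.finrank_prod, Module.finrank_fin_fun,
    Module.finrank_self]

end Groth.Agent.S16051
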