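import Groth.Statements.S16052
import Mathlib

set_option autoImplicit false
universe u
open Polynomial
open CAlg

namespace Groth.Agent.S16052

section Hensel

open IsLocalRing

variable {O : Type u} [CommRing O] [HenselianLocalRing O] [IsAlgClosed (ResidueField O)]

omit [IsAlgClosed (ResidueField O)] in
/-- lifting a simple root of `X ^ n - v` -/
theorem exists_pow_eq_and_residue (n : ℕ) (hn : (n : ResidueField O) ≠ 0) (v : O) (hv : IsUnit v)
    (z : ResidueField O) (hz : z ^ n = residue O v) :
    ∃ w : O, w ^ n = v ∧ residue O w = z := by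
  have hn0 : n ≠ 0 := by rintro rfl; simp at hn
  obtain ⟨a₀, rfl⟩ := residue_surjective (R := O) z
  have hz0 : residue O a₀ ≠ 0 := by
    intro h
    rw [h, zero_pow hn0] at hz
    exact (residue_ne_zero_iff_isUnit v).2 hv hz.symm
  have ha₀ : IsUnit a₀ := (residue_ne_zero_iff_isUnit a₀).1 hz0
  have hnu : IsUnit (n : O) := by
    rw [← residue_ne_zero_iff_isUnit, map_natCast]; exact hn
  have hmon : (X ^ n - C v : O[X]).Monic := monic_X_pow_sub_C v hn0
  have h1 : (X ^ n - C v : O[X]).eval a₀ ∈ maximalIdeal O := by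
    rw [eval_sub, eval_pow, eval_X, eval_C, ← residue_eq_zero_iff, map_sub, map_pow, hz, sub_self]
  have h2 : IsUnit ((X ^ n - C v : O[X]).derivative.eval a₀) := by
    rw [derivative_sub, derivative_C, sub_zero, derivative_X_pow, eval_mul, eval_pow, eval_X,
      eval_C]
    exact hnu.mul (ha₀.pow _)
  obtain ⟨w, hw, hw'⟩ := HenselianLocalRing.is_henselian _ hmon a₀ h1 h2
  refine ⟨w, ?_, ?_⟩
  · rw [IsRoot.def, eval_sub, eval_pow, eval_X, eval_C, sub_eq_zero] at hw
    exact hw
  · rw [← sub_eq_zero, ← map_sub, residue_eq_zero_iff]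
    exact hw'

theorem exists_pow_eq (n : ℕ) (hn : (n : ResidueField O) ≠ 0) (v : O) (hv : IsUnit v) :
    ∃ w : O, w ^ n = v := by
  have hn0 : n ≠ 0 := by rintro rfl; simp at hn
  obtain ⟨z, hz⟩ := IsAlgClosed.exists_pow_nat_eq (residue O v) (Nat.pos_of_ne_zero hn0)
  obtain ⟨w, hw, -⟩ := exists_pow_eq_and_residue n hn v hv z hz
  exact ⟨w, hw⟩

theorem exists_primitiveRoot (n : ℕ) (hn : (n : ResidueField O) ≠ 0) :
    ∃ ζ : O, IsPrimitiveRoot ζ n := by
  have : NeZero (n : ResidueField O) := ⟨hn⟩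
  obtain ⟨z, hz⟩ := HasEnoughRootsOfUnity.exists_primitiveRoot (ResidueField O) n
  obtain ⟨ζ, hζ, hζz⟩ := exists_pow_eq_and_residue n hn (1 : O) isUnit_one z
    (by rw [hz.pow_eq_one, map_one])
  refine ⟨ζ, ⟨hζ, fun l hl => hz.dvd_of_pow_eq_one l ?_⟩⟩
  rw [← hζz, ← map_pow, hl, map_one]

end Hensel

section NumberTheory

theorem pow_gcd_mem {K E : Type*} [Field K] [Field E] [Algebra K E] (F : IntermediateField K E)
    (x : E) (hx : x ≠ 0) (m n : ℕ) (hm : x ^ m ∈ F) (hn : x ^ n ∈ F) :
    x ^ (Nat.gcd m n) ∈ F := by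
  have h := Nat.gcd_eq_gcd_ab m n
  have e : x ^ ((Nat.gcd m n : ℕ) : ℤ) = (x ^ m) ^ (Nat.gcdA m n) * (x ^ n) ^ (Nat.gcdB m n) := by
    rw [h, zpow_add₀ hx, zpow_mul, zpow_mul, zpow_natCast, zpow_natCast]
  rw [← zpow_natCast, e]
  exact F.mul_mem (zpow_mem hm _) (zpow_mem hn _)

theorem pow_finset_gcd_mem {K E : Type*} [Field K] [Field E] [Algebra K E]
    (F : IntermediateField K E) (x : E) (hx : x ≠ 0) {ι : Type*} (s : Finset ι) (f : ι → ℕ)
    (h : ∀ i ∈ s, x ^ f i ∈ F) : x ^ (s.gcd f) ∈ F := by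
  classical
  induction s using Finset.induction_on with
  | empty => rw [Finset.gcd_empty, pow_zero]; exact F.one_mem
  | insert a s ha ih =>
    rw [Finset.gcd_insert]
    exact pow_gcd_mem F x hx _ _ (h a (Finset.mem_insert_self a s))
      (ih fun i hi => h i (Finset.mem_insert_of_mem hi))

theorem gcd_lcm_div_eq_one {ι : Type*} (s : Finset ι) (r : ι → ℕ) (hr : ∀ i ∈ s, 1 ≤ r i) :
    Nat.gcd (s.lcm r) (s.gcd fun i => s.lcm r / r i) = 1 := by
  set L := s.lcm r with hL
  have hL0 : L ≠ 0 := by
    rw [hL, Ne, Finset.lcm_eq_zero_iff]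
    rintro ⟨i, hi, h0⟩
    have := hr i hi
    omega
  set d := Nat.gcd L (s.gcd fun i => L / r i) with hd
  have hdL : d ∣ L := Nat.gcd_dvd_left _ _
  have hd0 : d ≠ 0 := fun h => hL0 (Nat.eq_zero_of_zero_dvd (h ▸ hdL))
  have hdi : ∀ i ∈ s, r i ∣ L / d := by
    intro i hi
    have h1 : d ∣ L / r i := (Nat.gcd_dvd_right _ _).trans (Finset.gcd_dvd hi)
    have h2 : r i ∣ L := Finset.dvd_lcm hi
    obtain ⟨k, hk⟩ := h1
    have h3 : L = d * (k * r i) := by
      rw [← mul_assoc, ← hk, Nat.div_mul_cancel h2]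
    refine ⟨k, ?_⟩
    rw [h3, Nat.mul_div_cancel_left _ (Nat.pos_of_ne_zero hd0), mul_comm]
  have h4 : L ∣ L / d := Finset.lcm_dvd hdi
  have h5 : L / d ≠ 0 := by
    intro h
    rw [Nat.div_eq_zero_iff] at h
    rcases h with h | h
    · exact hd0 h
    · exact absurd (Nat.le_of_dvd (Nat.pos_of_ne_zero hL0) hdL) (not_le.2 h)
  have h6 : L ≤ L / d := Nat.le_of_dvd (Nat.pos_of_ne_zero h5) h4
  have h7 : d * (L / d) = L := Nat.mul_div_cancel' hdL
  by_contra hne
  have hd2 : 2 ≤ d := by omega
  have : 2 * (L / d) ≤ L := by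
    calc 2 * (L / d) ≤ d * (L / d) := Nat.mul_le_mul_right _ hd2
      _ = L := h7
  have hLpos : 0 < L := Nat.pos_of_ne_zero hL0
  omega

end NumberTheory

/-- Let O be a henselian discrete valuation ring of characteristic zero with algebraically closed
residue field of characteristic p, ϖ a uniformizer and K the fraction field. Let r_1, …, r_m ≥ 1 and
b_1, …, b_m ≥ 1 be integers with gcd(r_i, b_i) = 1 for each i and r_1 + ⋯ + r_m < p, and let v_1, …,
v_m be units of O. Then the splitting field over K of the polynomial ∏_i (y^{r_i} − v_i ϖ^{b_i}) has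
degree lcm(r_1, …, r_m) over K. (In the source O is complete and this polynomial is the y-part of a
deformation y ↦ x² + z² + f(y) of an A_n-singularity with n + 1 = Σ r_i; the proposition goes on to
identify the monodromy element, which is not stated here.) -/
theorem result (O : Type u) [CommRing O] [IsDomain O]
    [IsDiscreteValuationRing O] [HenselianLocalRing O] [CharZero O] [IsAlgClosed (IsLocalRing.ResidueField O)]
    (p : ℕ) [Fact p.Prime] [CharP (IsLocalRing.ResidueField O) p]
    (ϖ : O) (hϖ : Irreducible ϖ) (m : ℕ) (r b : Fin m → ℕ) (v : Fin m → Oˣ)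
    (hr : ∀ i, 1 ≤ r i) (hb : ∀ i, 1 ≤ b i) (hrb : ∀ i, Nat.Coprime (r i) (b i)) (hp : ∑ i, r i < p) :
    Module.finrank (FractionRing O)
        (∏ i, (X ^ (r i) - C (algebraMap O (FractionRing O) ((v i : O) * ϖ ^ (b i))))).SplittingField =
      Finset.univ.lcm r := by
  classical
  set K := FractionRing O with hK
  have hinj : Function.Injective (algebraMap O K) := IsFractionRing.injective O K
  have hpprime : p.Prime := Fact.out
  -- `r i` is invertible in the residue field
  have hrκ : ∀ i, ((r i : ℕ) : IsLocalRing.ResidueField O) ≠ 0 := by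
    intro i h
    rw [CharP.cast_eq_zero_iff (IsLocalRing.ResidueField O) p] at h
    have h1 : p ≤ r i := Nat.le_of_dvd (hr i) h
    have h2 : r i ≤ ∑ j, r j :=
      Finset.single_le_sum (f := r) (fun _ _ => Nat.zero_le _) (Finset.mem_univ i)
    omega
  -- roots of the units and roots of unity
  choose w hw using fun i => exists_pow_eq (r i) (hrκ i) (v i : O) (v i).isUnit
  choose ζ hζ using fun i => exists_primitiveRoot (O := O) (r i) (hrκ i)
  set L := Finset.univ.lcm r with hLdef
  have hL0 : L ≠ 0 := by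
    rw [hLdef, Ne, Finset.lcm_eq_zero_iff]
    rintro ⟨i, -, h0⟩
    have := hr i
    omega
  have hϖ0 : ϖ ≠ 0 := hϖ.ne_zero
  have hϖK0 : algebraMap O K ϖ ≠ 0 := fun h => hϖ0 (hinj (by rw [h, map_zero]))
  -- the Eisenstein polynomial `X ^ L - ϖ`
  have hmax : IsLocalRing.maximalIdeal O = Ideal.span {ϖ} :=
    (IsDiscreteValuationRing.irreducible_iff_uniformizer ϖ).1 hϖ
  have hϖm : ϖ ∈ IsLocalRing.maximalIdeal O := by
    rw [hmax]; exact Ideal.mem_span_singleton_self ϖ
  have hmonO : (X ^ L - C ϖ : O[X]).Monic := monic_X_pow_sub_C ϖ hL0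
  have hEis : (X ^ L - C ϖ : O[X]).IsEisensteinAt (IsLocalRing.maximalIdeal O) := by
    refine ⟨?_, ?_, ?_⟩
    · rw [hmonO.leadingCoeff]
      exact fun h => (Ideal.ne_top_iff_one _).1 (IsLocalRing.maximalIdeal.isMaximal O).ne_top h
    · intro n hn
      rw [natDegree_X_pow_sub_C] at hn
      rw [coeff_sub, coeff_X_pow, if_neg (ne_of_lt hn), zero_sub, coeff_C]
      split_ifs
      · exact neg_mem hϖm
      · rw [neg_zero]; exact zero_mem _
    · rw [coeff_sub, coeff_X_pow, if_neg (Ne.symm hL0), zero_sub, coeff_C_zero, hmax,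
        Ideal.span_singleton_pow, neg_mem_iff, Ideal.mem_span_singleton]
      rintro ⟨c, hc⟩
      have : ϖ * 1 = ϖ * (ϖ * c) := by rw [mul_one, ← mul_assoc, ← sq]; exact hc
      have h1 : 1 = ϖ * c := mul_left_cancel₀ hϖ0 this
      exact hϖ.not_isUnit (IsUnit.of_mul_eq_one c h1.symm)
  have hirrO : Irreducible (X ^ L - C ϖ : O[X]) :=
    hEis.irreducible (IsLocalRing.maximalIdeal.isMaximal O).isPrime hmonO.isPrimitive
      (by rw [natDegree_X_pow_sub_C]; exact Nat.pos_of_ne_zero hL0)
  have hirrK : Irreducible (X ^ L - C (algebraMap O K ϖ) : K[X]) := by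
    have := (hmonO.irreducible_iff_irreducible_map_fraction_map (K := K)).1 hirrO
    rwa [Polynomial.map_sub, Polynomial.map_pow, Polynomial.map_X, Polynomial.map_C] at this
  haveI : Fact (Irreducible (X ^ L - C (algebraMap O K ϖ) : K[X])) := ⟨hirrK⟩
  set P : K[X] := X ^ L - C (algebraMap O K ϖ) with hP
  have hP0 : P ≠ 0 := hirrK.ne_zero
  let E := AdjoinRoot P
  set π : E := AdjoinRoot.root P with hπ
  have hπL : π ^ L = algebraMap K E (algebraMap O K ϖ) := by
    have h := AdjoinRoot.eval₂_root P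
    rw [hP, eval₂_sub, eval₂_pow, eval₂_X, eval₂_C, sub_eq_zero] at h
    exact h
  have hπ0 : π ≠ 0 := by
    intro h
    rw [h, zero_pow hL0] at hπL
    exact hϖK0 ((algebraMap K E).injective (by rw [← hπL, map_zero]))
  have hfin : Module.finrank K E = L := by
    rw [(AdjoinRoot.powerBasis hP0).finrank, AdjoinRoot.powerBasis_dim, hP, natDegree_X_pow_sub_C]
  have hdvd : ∀ i, r i ∣ L := fun i => Finset.dvd_lcm (Finset.mem_univ i)
  -- the roots
  set α : Fin m → E := fun i =>
    algebraMap K E (algebraMap O K (w i)) * π ^ (L / r i * b i) with hα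
  have hαr : ∀ i, α i ^ r i = algebraMap K E (algebraMap O K ((v i : O) * ϖ ^ b i)) := by
    intro i
    rw [hα]
    simp only
    rw [mul_pow, ← map_pow, ← map_pow, hw i, ← pow_mul, mul_right_comm, Nat.div_mul_cancel (hdvd i),
      pow_mul, hπL, map_mul, map_mul, map_pow, map_pow]
  set g : K[X] := ∏ i, (X ^ (r i) - C (algebraMap O K ((v i : O) * ϖ ^ (b i)))) with hg
  have hg0 : g ≠ 0 := by
    rw [hg]
    exact (monic_prod_of_monic _ _ fun i _ => monic_X_pow_sub_C _ (by have := hr i; omega)).ne_zero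
  have hsplit : IsSplittingField K E g := by
    refine ⟨?_, ?_⟩
    · rw [hg, Polynomial.map_prod]
      refine Splits.prod fun i _ => ?_
      rw [Polynomial.map_sub, Polynomial.map_pow, Polynomial.map_X, Polynomial.map_C]
      have hζE : IsPrimitiveRoot (algebraMap K E (algebraMap O K (ζ i))) (r i) :=
        ((hζ i).map_of_injective hinj).map_of_injective (algebraMap K E).injective
      exact X_pow_sub_C_splits_of_isPrimitiveRoot hζE (hαr i)
    · set F := IntermediateField.adjoin K (g.rootSet E) with hF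
      have hroot : ∀ i, α i ∈ F := by
        intro i
        apply IntermediateField.subset_adjoin
        rw [mem_rootSet]
        refine ⟨hg0, ?_⟩
        rw [hg, map_prod]
        apply Finset.prod_eq_zero (Finset.mem_univ i)
        rw [map_sub, map_pow, aeval_X, aeval_C, hαr i, sub_self]
      have hϖF : π ^ L ∈ F := by rw [hπL]; exact F.algebraMap_mem _
      have hstep : ∀ i, π ^ (L / r i) ∈ F := by
        intro i
        have hw0 : algebraMap K E (algebraMap O K (w i)) ≠ 0 := by
          intro h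
          have h1 : w i = 0 := hinj ((algebraMap K E).injective (by rw [h, map_zero, map_zero]))
          have h2 := hw i
          rw [h1, zero_pow (by have := hr i; omega)] at h2
          exact (v i).ne_zero h2.symm
        have h1 : (π ^ (L / r i)) ^ b i ∈ F := by
          have : (π ^ (L / r i)) ^ b i = (algebraMap K E (algebraMap O K (w i)))⁻¹ * α i := by
            rw [hα]
            simp only
            rw [← mul_assoc, inv_mul_cancel₀ hw0, one_mul, pow_mul]
          rw [this]
          exact F.mul_mem (F.inv_mem (F.algebraMap_mem _)) (hroot i)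
        have h2 : (π ^ (L / r i)) ^ r i ∈ F := by
          rw [← pow_mul, Nat.div_mul_cancel (hdvd i)]; exact hϖF
        have h3 := pow_gcd_mem F (π ^ (L / r i)) (pow_ne_zero _ hπ0) _ _ h1 h2
        rw [Nat.Coprime.gcd_eq_one ((hrb i).symm), pow_one] at h3
        exact h3
      have hgcd := pow_finset_gcd_mem F π hπ0 Finset.univ (fun i => L / r i)
        (fun i _ => hstep i)
      have hπF : π ∈ F := by
        have h := pow_gcd_mem F π hπ0 _ _ hϖF hgcd
        rw [gcd_lcm_div_eq_one Finset.univ r (fun i _ => hr i), pow_one] at h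
        exact h
      haveI hfinE : Module.Finite K E := (AdjoinRoot.powerBasis hP0).finite
      have halg : ∀ x ∈ g.rootSet E, IsAlgebraic K x := fun x _ =>
        (Algebra.IsIntegral.of_finite K E).isIntegral x |>.isAlgebraic
      rw [← IntermediateField.adjoin_toSubalgebra_of_isAlgebraic halg, eq_top_iff,
        ← AdjoinRoot.adjoinRoot_eq_top]
      apply Algebra.adjoin_le
      rintro x hx
      rw [Set.mem_singleton_iff] at hx
      rw [hx]
      exact hπF
  rw [← (IsSplittingField.algEquiv E g).toLinearEquiv.finrank_eq, hfin]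

end Groth.Agent.S16052
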