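import Groth.Statements.S16053
import Mathlib
import Groth.Agent.S0505
import Groth.Agent.S16052

set_option autoImplicit false
universe u
open Polynomial
open CAlg

namespace Groth.Agent.S16053

section LocalPart

open IsLocalRing

variable {O : Type u} [CommRing O] [IsLocalRing O]

/-- The structure of `O[x]/(f)` for `f` monic with lower coefficients in the maximal ideal. -/
theorem adjoinRoot_structure (f : O[X]) (hmon : f.Monic) (hdeg : 1 ≤ f.natDegree)
    (hlow : ∀ i, i < f.natDegree → f.coeff i ∈ maximalIdeal O) :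
    ∃ φ : AdjoinRoot f →+* ResidueField O, Function.Surjective φ ∧
      φ (AdjoinRoot.root f) = 0 ∧ (∀ a : O, φ (AdjoinRoot.of f a) = residue O a) ∧
      ∀ M : Ideal (AdjoinRoot f), M.IsMaximal → M = RingHom.ker φ := by
  have h0 : eval₂ (residue O) 0 f = 0 := by
    rw [eval₂_at_zero, residue_eq_zero_iff]
    exact hlow 0 (by omega)
  set φ : AdjoinRoot f →+* ResidueField O := AdjoinRoot.lift (residue O) 0 h0 with hφ
  have hφroot : φ (AdjoinRoot.root f) = 0 := AdjoinRoot.lift_root h0
  have hφof : ∀ a : O, φ (AdjoinRoot.of f a) = residue O a := fun a => AdjoinRoot.lift_of h0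
  have hsurj : Function.Surjective φ := by
    intro z
    obtain ⟨a, rfl⟩ := residue_surjective (R := O) z
    exact ⟨AdjoinRoot.of f a, hφof a⟩
  refine ⟨φ, hsurj, hφroot, hφof, ?_⟩
  intro M hM
  haveI : Module.Finite O (AdjoinRoot f) := hmon.finite_adjoinRoot
  have hmO : ∀ a ∈ maximalIdeal O, AdjoinRoot.of f a ∈ M := by
    intro a ha
    have h1 : (M.comap (algebraMap O (AdjoinRoot f))).IsMaximal :=
      Ideal.isMaximal_comap_of_isIntegral_of_isMaximal M
    have h2 := eq_maximalIdeal h1
    rw [← h2] at ha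
    exact ha
  have hrootpow : (AdjoinRoot.root f) ^ f.natDegree ∈ M := by
    have h : eval₂ (AdjoinRoot.of f) (AdjoinRoot.root f)
        (X ^ f.natDegree + ∑ i ∈ Finset.range f.natDegree, C (f.coeff i) * X ^ i) = 0 := by
      rw [← hmon.as_sum]; exact AdjoinRoot.eval₂_root f
    rw [eval₂_add, eval₂_pow, eval₂_X, eval₂_finsetSum] at h
    simp only [eval₂_mul, eval₂_C, eval₂_pow, eval₂_X] at h
    rw [eq_neg_of_add_eq_zero_left h]
    exact M.neg_mem (M.sum_mem fun i hi =>
      M.mul_mem_right _ (hmO _ (hlow i (Finset.mem_range.1 hi))))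
  have hrootM : AdjoinRoot.root f ∈ M := hM.isPrime.mem_of_pow_mem _ hrootpow
  have hker : RingHom.ker φ ≤ M := by
    intro x hx
    induction x using AdjoinRoot.induction_on with
    | ih q =>
      rw [RingHom.mem_ker] at hx
      rw [← X_mul_divX_add q] at hx ⊢
      rw [map_add, map_mul, AdjoinRoot.mk_X, AdjoinRoot.mk_C] at hx ⊢
      rw [map_add, map_mul, hφroot, zero_mul, zero_add, hφof, residue_eq_zero_iff] at hx
      exact M.add_mem (M.mul_mem_right _ hrootM) (hmO _ hx)
  haveI hkermax : (RingHom.ker φ).IsMaximal := RingHom.ker_isMaximal_of_surjective φ hsurj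
  exact (hkermax.eq_of_le hM.ne_top hker).symm

end LocalPart

/-- Let O be a henselian discrete valuation ring of characteristic zero with algebraically closed
residue field of characteristic p and fraction field K, and let f ∈ O[y] be a monic polynomial of
degree e with 1 ≤ e < p which is Eisenstein at the maximal ideal of O. Then the splitting field of f
over K has degree e over K and the Galois group of f over K is cyclic. (In the source O is complete,
e = n + 1 and f is the y-part y^{n+1} + u_n ϖ^{a_n} y^{n−1} + ⋯ + u_1 ϖ of an A_n-degeneration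
meeting the discriminant transversally; the corollary's conclusion that monodromy acts through a
Coxeter element is not stated here.) -/
theorem result (O : Type u) [CommRing O] [IsDomain O]
    [IsDiscreteValuationRing O] [HenselianLocalRing O] [CharZero O] [IsAlgClosed (IsLocalRing.ResidueField O)]
    (p : ℕ) [Fact p.Prime] [CharP (IsLocalRing.ResidueField O) p]
    (f : O[X]) (hmon : f.Monic) (e : ℕ) (hdeg : f.natDegree = e) (he : 1 ≤ e) (hep : e < p)
    (hf : f.IsEisensteinAt (IsLocalRing.maximalIdeal O)) :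
    Module.finrank (FractionRing O) (f.map (algebraMap O (FractionRing O))).SplittingField = e ∧
      IsCyclic (f.map (algebraMap O (FractionRing O))).Gal := by
  classical
  set K := FractionRing O with hK
  have hinj : Function.Injective (algebraMap O K) := IsFractionRing.injective O K
  have hpprime : p.Prime := Fact.out
  have he0 : e ≠ 0 := by omega
  have heκ : ((e : ℕ) : IsLocalRing.ResidueField O) ≠ 0 := by
    intro h
    rw [CharP.cast_eq_zero_iff (IsLocalRing.ResidueField O) p] at h
    have := Nat.le_of_dvd (by omega) h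
    omega
  -- a uniformizer
  obtain ⟨ϖ, hϖ⟩ := IsDiscreteValuationRing.exists_irreducible O
  have hmax : IsLocalRing.maximalIdeal O = Ideal.span {ϖ} :=
    (IsDiscreteValuationRing.irreducible_iff_uniformizer ϖ).1 hϖ
  have hϖ0 : ϖ ≠ 0 := hϖ.ne_zero
  have hϖK0 : algebraMap O K ϖ ≠ 0 := fun h => hϖ0 (hinj (by rw [h, map_zero]))
  have hϖm : ϖ ∈ IsLocalRing.maximalIdeal O := by
    rw [hmax]; exact Ideal.mem_span_singleton_self ϖ
  -- the coefficients divided by `ϖ`
  have hc : ∀ i, ∃ c, i < e → f.coeff i = ϖ * c := by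
    intro i
    by_cases hi : i < e
    · have h := hf.mem (hdeg.symm ▸ hi)
      rw [hmax, Ideal.mem_span_singleton] at h
      obtain ⟨c, hc⟩ := h
      exact ⟨c, fun _ => hc⟩
    · exact ⟨0, fun h => absurd h hi⟩
  choose c hc using hc
  have hc0 : IsUnit (c 0) := by
    by_contra h
    have h1 : c 0 ∈ IsLocalRing.maximalIdeal O := (IsLocalRing.mem_maximalIdeal _).2 h
    rw [hmax, Ideal.mem_span_singleton] at h1
    obtain ⟨d, hd⟩ := h1
    apply hf.notMem
    rw [hc 0 (by omega), hd, hmax, Ideal.span_singleton_pow, Ideal.mem_span_singleton]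
    exact ⟨d, by ring⟩
  -- the finite local `O`-algebra `B = O[x]/(f)`
  obtain ⟨φ, hφsurj, hφroot, hφof, hφmax⟩ :=
    adjoinRoot_structure f hmon (by omega) (fun i hi => hf.mem hi)
  haveI : Module.Finite O (AdjoinRoot f) := hmon.finite_adjoinRoot
  haveI : IsLocalRing (AdjoinRoot f) := IsLocalRing.of_unique_max_ideal
    ⟨RingHom.ker φ, RingHom.ker_isMaximal_of_surjective φ hφsurj, fun M hM => hφmax M hM⟩
  have hmaxB : IsLocalRing.maximalIdeal (AdjoinRoot f) = RingHom.ker φ :=
    hφmax _ (IsLocalRing.maximalIdeal.isMaximal _)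
  haveI : HenselianLocalRing (AdjoinRoot f) := Groth.Agent.S0505.result O (AdjoinRoot f)
  let eκ : IsLocalRing.ResidueField (AdjoinRoot f) ≃+* IsLocalRing.ResidueField O :=
    (Ideal.quotEquivOfEq hmaxB).trans (RingHom.quotientKerEquivOfSurjective hφsurj)
  haveI : IsAlgClosed (IsLocalRing.ResidueField (AdjoinRoot f)) :=
    IsAlgClosed.of_ringEquiv _ _ eκ.symm
  have heκB : ((e : ℕ) : IsLocalRing.ResidueField (AdjoinRoot f)) ≠ 0 := by
    intro h
    apply heκ
    have := congrArg eκ h
    rwa [map_natCast, map_zero] at this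
  -- the unit `u` with `x ^ e = ϖ * u`
  set u : AdjoinRoot f :=
    - ∑ i ∈ Finset.range e, AdjoinRoot.of f (c i) * (AdjoinRoot.root f) ^ i with hu
  have hπe : (AdjoinRoot.root f) ^ e = AdjoinRoot.of f ϖ * u := by
    have h : eval₂ (AdjoinRoot.of f) (AdjoinRoot.root f)
        (X ^ f.natDegree + ∑ i ∈ Finset.range f.natDegree, C (f.coeff i) * X ^ i) = 0 := by
      rw [← hmon.as_sum]; exact AdjoinRoot.eval₂_root f
    rw [eval₂_add, eval₂_pow, eval₂_X, eval₂_finsetSum] at h
    simp only [eval₂_mul, eval₂_C, eval₂_pow, eval₂_X] at h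
    rw [hdeg] at h
    rw [eq_neg_of_add_eq_zero_left h, hu, mul_neg, Finset.mul_sum]
    congr 1
    refine Finset.sum_congr rfl fun i hi => ?_
    rw [hc i (Finset.mem_range.1 hi), map_mul, mul_assoc]
  have huunit : IsUnit u := by
    rw [← IsLocalRing.notMem_maximalIdeal, hmaxB, RingHom.mem_ker, hu, map_neg, map_sum,
      Finset.sum_eq_single 0]
    · rw [pow_zero, mul_one, hφof, neg_eq_zero, IsLocalRing.residue_eq_zero_iff,
        IsLocalRing.mem_maximalIdeal, mem_nonunits_iff, not_not]
      exact hc0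
    · intro i _ hi
      rw [map_mul, map_pow, hφroot, zero_pow hi, mul_zero]
    · intro h
      exact absurd (Finset.mem_range.2 (by omega)) h
  obtain ⟨w, hw⟩ := Groth.Agent.S16052.exists_pow_eq e heκB u huunit
  obtain ⟨ζ, hζ⟩ := Groth.Agent.S16052.exists_primitiveRoot (O := O) e heκ
  -- the field `E = K[x]/(f)`
  set fK : K[X] := f.map (algebraMap O K) with hfK
  have hfKmon : fK.Monic := hmon.map _
  have hfKdeg : fK.natDegree = e := by rw [hfK, hmon.natDegree_map, hdeg]
  have hirrO : Irreducible f :=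
    hf.irreducible (IsLocalRing.maximalIdeal.isMaximal O).isPrime hmon.isPrimitive (by omega)
  have hirrK : Irreducible fK :=
    (hmon.irreducible_iff_irreducible_map_fraction_map (K := K)).1 hirrO
  haveI : Fact (Irreducible fK) := ⟨hirrK⟩
  have hfK0 : fK ≠ 0 := hirrK.ne_zero
  let E := AdjoinRoot fK
  haveI hfinE' : Module.Finite K E := (AdjoinRoot.powerBasis hfK0).finite
  have hfinE : Module.finrank K E = e := by
    rw [(AdjoinRoot.powerBasis hfK0).finrank, AdjoinRoot.powerBasis_dim, hfKdeg]
  set π : E := AdjoinRoot.root fK with hπ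
  have hψ0 : eval₂ ((algebraMap K E).comp (algebraMap O K)) π f = 0 := by
    rw [← eval₂_map]; exact AdjoinRoot.eval₂_root fK
  let ψ : AdjoinRoot f →+* E := AdjoinRoot.lift ((algebraMap K E).comp (algebraMap O K)) π hψ0
  have hψroot : ψ (AdjoinRoot.root f) = π := AdjoinRoot.lift_root hψ0
  have hψof : ∀ a, ψ (AdjoinRoot.of f a) = algebraMap K E (algebraMap O K a) :=
    fun a => AdjoinRoot.lift_of hψ0
  have hψw0 : ψ w ≠ 0 := by
    have h1 : IsUnit (ψ w ^ e) := by rw [← map_pow, hw]; exact huunit.map ψ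
    exact fun h => h1.ne_zero (by rw [h, zero_pow he0])
  -- an `e`-th root of the uniformizer
  set θ : E := π * (ψ w)⁻¹ with hθ
  have hθe : θ ^ e = algebraMap K E (algebraMap O K ϖ) := by
    rw [hθ, mul_pow, ← hψroot, ← map_pow, hπe, map_mul, hψof, ← hw, map_pow, inv_pow, mul_assoc,
      mul_inv_cancel₀ (pow_ne_zero _ hψw0), mul_one]
  -- `X ^ e - ϖ` is irreducible over `K`
  have hmonO : (X ^ e - C ϖ : O[X]).Monic := monic_X_pow_sub_C ϖ he0
  have hEis : (X ^ e - C ϖ : O[X]).IsEisensteinAt (IsLocalRing.maximalIdeal O) := by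
    refine ⟨?_, ?_, ?_⟩
    · rw [hmonO.leadingCoeff]
      exact fun h => (Ideal.ne_top_iff_one _).1 (IsLocalRing.maximalIdeal.isMaximal O).ne_top h
    · intro n hn
      rw [natDegree_X_pow_sub_C] at hn
      rw [coeff_sub, coeff_X_pow, if_neg (ne_of_lt hn), zero_sub, coeff_C]
      split_ifs
      · exact neg_mem hϖm
      · rw [neg_zero]; exact zero_mem _
    · rw [coeff_sub, coeff_X_pow, if_neg (Ne.symm he0), zero_sub, coeff_C_zero, hmax,
        Ideal.span_singleton_pow, neg_mem_iff, Ideal.mem_span_singleton]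
      rintro ⟨d, hd⟩
      have : ϖ * 1 = ϖ * (ϖ * d) := by rw [mul_one, ← mul_assoc, ← sq]; exact hd
      have h1 : 1 = ϖ * d := mul_left_cancel₀ hϖ0 this
      exact hϖ.not_isUnit (IsUnit.of_mul_eq_one d h1.symm)
  have hirrPO : Irreducible (X ^ e - C ϖ : O[X]) :=
    hEis.irreducible (IsLocalRing.maximalIdeal.isMaximal O).isPrime hmonO.isPrimitive
      (by rw [natDegree_X_pow_sub_C]; exact Nat.pos_of_ne_zero he0)
  have hirrP : Irreducible (X ^ e - C (algebraMap O K ϖ) : K[X]) := by
    have := (hmonO.irreducible_iff_irreducible_map_fraction_map (K := K)).1 hirrPO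
    rwa [Polynomial.map_sub, Polynomial.map_pow, Polynomial.map_X, Polynomial.map_C] at this
  have hminθ : (X ^ e - C (algebraMap O K ϖ) : K[X]) = minpoly K θ := by
    refine minpoly.eq_of_irreducible_of_monic hirrP ?_ (monic_X_pow_sub_C _ he0)
    rw [map_sub, map_pow, aeval_X, aeval_C, hθe, sub_self]
  have hθtop : IntermediateField.adjoin K {θ} = ⊤ := by
    rw [Field.primitive_element_iff_minpoly_natDegree_eq, ← hminθ, natDegree_X_pow_sub_C, hfinE]
  -- Kummer theory
  have hprim : (primitiveRoots (Module.finrank K E) K).Nonempty := by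
    rw [hfinE]
    exact ⟨algebraMap O K ζ, (mem_primitiveRoots (Nat.pos_of_ne_zero he0)).2
      (hζ.map_of_injective hinj)⟩
  have h3 : ∃ α : E, α ^ (Module.finrank K E) ∈ Set.range (algebraMap K E) ∧
      IntermediateField.adjoin K {α} = ⊤ :=
    ⟨θ, ⟨algebraMap O K ϖ, by rw [hfinE]; exact hθe.symm⟩, hθtop⟩
  obtain ⟨hgal, hcyc⟩ : IsGalois K E ∧ IsCyclic (E ≃ₐ[K] E) :=
    ((isCyclic_tfae K E hprim).out 2 0).1 h3
  -- `E` is a splitting field of `f`
  have hminπ : minpoly K π = fK := by
    rw [hπ, AdjoinRoot.minpoly_root hfK0, hfKmon.leadingCoeff, inv_one, C_1, mul_one]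
  have hsplit : IsSplittingField K E fK := by
    refine ⟨?_, ?_⟩
    · have := Normal.splits (inferInstance : Normal K E) π
      rwa [hminπ] at this
    · rw [eq_top_iff, ← AdjoinRoot.adjoinRoot_eq_top (f := fK)]
      apply Algebra.adjoin_mono
      rw [Set.singleton_subset_iff, mem_rootSet]
      exact ⟨hfK0, by rw [aeval_def]; exact AdjoinRoot.eval₂_root fK⟩
  refine ⟨?_, ?_⟩
  · rw [← (IsSplittingField.algEquiv E fK).toLinearEquiv.finrank_eq, hfinE]
  · exact isCyclic_of_surjective (AlgEquiv.autCongr (IsSplittingField.algEquiv E fK)).toMonoidHom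
      (AlgEquiv.autCongr (IsSplittingField.algEquiv E fK)).surjective

end Groth.Agent.S16053
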