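import Groth.Statements.S16071
import Mathlib

set_option autoImplicit false
universe u
open CartDual

namespace Groth.Agent.S16071

section helpers
open TensorProduct
set_option linter.unusedSectionVars false
set_option linter.unusedSimpArgs false
variable (p : ℕ) [hp : Fact p.Prime] (R : Type u) [CommRing R] [CharP R p]

theorem nontriv (p : ℕ) [Fact p.Prime] (R : Type u) [CommRing R] [CharP R p] : Nontrivial R :=
  CharP.nontrivial_of_char_ne_one (R := R) (v := p) (Fact.out : p.Prime).ne_one

/-- The linear form dual to `x`. -/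
noncomputable def ξ : CartDual.D R (AlphaP.A p R) :=
  haveI : Nontrivial R := nontriv p R
  WithConv.toConv ((AlphaP.basis p R).coord ⟨1, (Fact.out : p.Prime).one_lt⟩)

theorem ξ_apply (n : ℕ) : (ξ p R) (AlphaP.x p R ^ n) = if n = 1 then 1 else 0 := by
  have : Nontrivial R := nontriv p R
  rcases Nat.lt_or_ge n p with hn | hn
  · have h1 : AlphaP.x p R ^ n = AlphaP.basis p R ⟨n, hn⟩ := by rw [AlphaP.basis_apply]
    rw [h1]
    show (AlphaP.basis p R).coord ⟨1, _⟩ (AlphaP.basis p R ⟨n, hn⟩) = _
    rw [Module.Basis.coord_apply, Module.Basis.repr_self, Finsupp.single_apply]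
    simp [Fin.ext_iff]
  · rw [AlphaP.x_pow_of_le p R hn, map_zero]
    have : n ≠ 1 := by have := (Fact.out : p.Prime).two_le; omega
    rw [if_neg this]


theorem comul_x_pow (n : ℕ) : Coalgebra.comul (R := R) (AlphaP.x p R ^ n) =
    ∑ m ∈ Finset.range (n + 1), (n.choose m : R) • ((AlphaP.x p R ^ m) ⊗ₜ[R] (AlphaP.x p R ^ (n - m))) := by
  rw [Bialgebra.comul_pow, AlphaP.comul_x, add_pow]
  refine Finset.sum_congr rfl fun m _ => ?_
  rw [Algebra.TensorProduct.tmul_pow, Algebra.TensorProduct.tmul_pow, one_pow, one_pow,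
    Algebra.TensorProduct.tmul_mul_tmul, one_mul, mul_one, mul_comm, ← nsmul_eq_mul,
    Nat.cast_smul_eq_nsmul R]

theorem ξ_pow_apply (k n : ℕ) :
    (ξ p R ^ k) (AlphaP.x p R ^ n) = if n = k then (k.factorial : R) else 0 := by
  induction k generalizing n with
  | zero =>
    rw [pow_zero, LinearMap.convOne_apply, Nat.factorial_zero, Nat.cast_one]
    rw [Bialgebra.counit_pow, AlphaP.counit_x]
    rcases Nat.eq_zero_or_pos n with h | h
    · subst h; simp
    · rw [zero_pow (by omega), if_neg (by omega)]; simp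
  | succ k ih =>
    rw [pow_succ, LinearMap.convMul_apply, comul_x_pow, map_sum]
    simp only [map_smul, TensorProduct.map_tmul, LinearMap.mul'_apply]
    have hξ : ∀ m, (ξ p R).ofConv (AlphaP.x p R ^ m) = if m = 1 then 1 else 0 := ξ_apply p R
    rw [map_sum]
    simp only [map_smul, LinearMap.mul'_apply, ih, hξ]
    split_ifs with hn
    · subst hn
      rw [Finset.sum_eq_single k]
      · simp [Nat.choose_succ_self_right, Nat.factorial_succ]
      · intro m _ hm; rw [if_neg hm]; simp
      · intro h; exact absurd (Finset.mem_range.mpr (by omega)) h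
    · apply Finset.sum_eq_zero
      intro m hm
      by_cases h1 : m = k
      · subst h1
        have : ¬ (n - m = 1) := by rw [Finset.mem_range] at hm; omega
        simp [this]
      · simp [h1]

theorem ξ_pow_p : ξ p R ^ p = 0 := by
  have : Nontrivial R := nontriv p R
  apply WithConv.ext
  apply (AlphaP.basis p R).ext
  intro i
  rw [AlphaP.basis_apply]
  have := ξ_pow_apply p R p (i : ℕ)
  rw [CartDual.coe_apply] at this
  rw [this, if_neg (by omega)]
  rfl

/-- the algebra map `A → D(A)`, `x ↦ ξ`. -/
noncomputable def φ : AlphaP.A p R →ₐ[R] CartDual.D R (AlphaP.A p R) :=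
  AlphaP.lift p R (ξ p R) (ξ_pow_p p R)

theorem φ_x : φ p R (AlphaP.x p R) = ξ p R := AlphaP.lift_x _ _

theorem φ_x_pow (k : ℕ) : φ p R (AlphaP.x p R ^ k) = ξ p R ^ k := by rw [map_pow, φ_x]


theorem factorial_isUnit (i : Fin p) : IsUnit (((i : ℕ).factorial : ℕ) : R) := by
  have hpp : p.Prime := Fact.out
  rw [CharP.isUnit_natCast_iff hpp, hpp.dvd_factorial]
  have := i.2
  omega

theorem φ_bijective : Function.Bijective (φ p R) := by
  have : Nontrivial R := nontriv p R
  let B' : Module.Basis (Fin p) R (CartDual.D R (AlphaP.A p R)) :=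
    ((AlphaP.basis p R).dualBasis.isUnitSMul (factorial_isUnit p R)).map
      (CartDual.toDual R (AlphaP.A p R)).symm
  let lin : AlphaP.A p R ≃ₗ[R] CartDual.D R (AlphaP.A p R) :=
    (AlphaP.basis p R).equiv B' (Equiv.refl _)
  have hlin : (φ p R).toLinearMap = lin.toLinearMap := by
    apply (AlphaP.basis p R).ext
    intro i
    have h1 : lin (AlphaP.basis p R i) = B' i := by
      have := Module.Basis.equiv_apply (AlphaP.basis p R) i B' (Equiv.refl _)
      simpa using this
    rw [LinearEquiv.coe_coe, h1, AlgHom.toLinearMap_apply, AlphaP.basis_apply, φ_x_pow]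
    apply WithConv.ext
    apply (AlphaP.basis p R).ext
    intro j
    rw [AlphaP.basis_apply]
    have h2 := ξ_pow_apply p R (i : ℕ) (j : ℕ)
    rw [CartDual.coe_apply] at h2
    rw [h2]
    have hB : B' i = (CartDual.toDual R (AlphaP.A p R)).symm
        ((((i : ℕ).factorial : ℕ) : R) • (AlphaP.basis p R).dualBasis i) := by
      rw [Module.Basis.map_apply, Module.Basis.isUnitSMul_apply]
    rw [hB]
    show _ = ((((i : ℕ).factorial : ℕ) : R) • (AlphaP.basis p R).dualBasis i) (AlphaP.x p R ^ (j : ℕ))
    rw [← AlphaP.basis_apply, LinearMap.smul_apply, Module.Basis.dualBasis_apply_self]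
    simp [Fin.ext_iff]
  have hfun : ⇑(φ p R) = ⇑lin := by
    funext a
    exact LinearMap.congr_fun hlin a
  rw [hfun]
  exact lin.bijective


theorem counit_x_pow (n : ℕ) : Coalgebra.counit (R := R) (AlphaP.x p R ^ n) = if n = 0 then 1 else 0 := by
  rw [Bialgebra.counit_pow, AlphaP.counit_x]
  rcases Nat.eq_zero_or_pos n with h | h
  · subst h; simp
  · rw [zero_pow (by omega), if_neg (by omega)]

theorem ξ_mul (a b : AlphaP.A p R) :
    (ξ p R) (a * b) = (ξ p R) a * Coalgebra.counit (R := R) b + Coalgebra.counit (R := R) a * (ξ p R) b := by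
  have : Nontrivial R := nontriv p R
  have key : (LinearMap.mul R (AlphaP.A p R)).compr₂ (ξ p R).ofConv =
      (LinearMap.mul R R).compl₁₂ (ξ p R).ofConv (Coalgebra.counit (R := R)) +
      (LinearMap.mul R R).compl₁₂ (Coalgebra.counit (R := R)) (ξ p R).ofConv := by
    apply (AlphaP.basis p R).ext
    intro i
    apply (AlphaP.basis p R).ext
    intro j
    simp only [LinearMap.compr₂_apply, LinearMap.compl₁₂_apply, LinearMap.mul_apply',
      LinearMap.add_apply, AlphaP.basis_apply]
    rw [← pow_add]
    have h1 : ∀ n : ℕ, (ξ p R).ofConv (AlphaP.x p R ^ n) = if n = 1 then 1 else 0 := ξ_apply p R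
    rw [h1, h1, h1, counit_x_pow, counit_x_pow]
    by_cases hi : (i : ℕ) = 1
    · by_cases hj : (j : ℕ) = 0
      · simp [hi, hj]
      · have : ¬ ((i : ℕ) + j = 1) := by omega
        simp [hi, hj]
    · by_cases hj : (j : ℕ) = 1
      · by_cases hi0 : (i : ℕ) = 0
        · simp [hi0, hj]
        · have : ¬ ((i : ℕ) + j = 1) := by omega
          simp [hi, hj, hi0, this]
      · have : ¬ ((i : ℕ) + j = 1) := by omega
        simp [hi, hj, this]
  have := LinearMap.congr_fun (LinearMap.congr_fun key a) b
  simpa only [LinearMap.compr₂_apply, LinearMap.compl₁₂_apply, LinearMap.mul_apply',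
    LinearMap.add_apply] using this

theorem counit_compat : (Bialgebra.counitAlgHom R (CartDual.D R (AlphaP.A p R))).comp (φ p R) =
    Bialgebra.counitAlgHom R (AlphaP.A p R) := by
  apply AlphaP.algHom_ext
  simp only [AlgHom.comp_apply, Bialgebra.counitAlgHom_apply, CartDual.coalgebra_counit_apply, φ_x,
    AlphaP.counit_x]
  have := ξ_apply p R 0
  simpa using this

theorem comul_compat : (Algebra.TensorProduct.map (φ p R) (φ p R)).comp
      (Bialgebra.comulAlgHom R (AlphaP.A p R)) =
    (Bialgebra.comulAlgHom R (CartDual.D R (AlphaP.A p R))).comp (φ p R) := by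
  apply AlphaP.algHom_ext
  simp only [AlgHom.comp_apply, Bialgebra.comulAlgHom_apply, AlphaP.comul_x, map_add,
    Algebra.TensorProduct.map_tmul, φ_x, map_one]
  apply (CartDual.ev₂ R (AlphaP.A p R)).injective
  apply TensorProduct.ext'
  intro a b
  rw [map_add, LinearMap.add_apply, CartDual.ev₂_tmul, CartDual.ev₂_tmul,
    CartDual.ev₂_coalgebra_comul_tmul, ξ_mul]
  simp

theorem main : ∃ e : CartDual.D R (AlphaP.A p R) ≃ₐc[R] AlphaP.A p R,
      ∀ i : ℕ, i < p → (e.symm (AlphaP.x p R)) (AlphaP.x p R ^ i) = if i = 1 then 1 else 0 := by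
  let e' : AlphaP.A p R ≃ₐc[R] CartDual.D R (AlphaP.A p R) :=
    BialgEquiv.ofAlgEquiv (AlgEquiv.ofBijective (φ p R) (φ_bijective p R))
      (counit_compat p R) (comul_compat p R)
  refine ⟨e'.symm, fun i _ => ?_⟩
  have h1 : e'.symm.symm (AlphaP.x p R) = ξ p R := φ_x p R
  rw [h1]
  exact ξ_apply p R i

end helpers

/-- Let p be a prime, R a commutative ring of characteristic p and A = R[X]/(X^p) the Hopf algebra of
α_p over Spec R, with X primitive. Then the Cartier dual of α_p is again α_p: there is a bialgebra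
isomorphism e from the dual Hopf algebra Hom_R(A, R), with the transposed structure maps, to A,
whose inverse sends X to the linear form dual to X with respect to the basis 1, X, …, X^{p-1} of A
(so e⁻¹(X) takes the value 1 on X and 0 on the other powers X^i, i < p). (Any commutative base ring
of characteristic p is allowed.) -/
theorem result (p : ℕ) [Fact p.Prime] (R : Type u) [CommRing R] [CharP R p] :
    ∃ e : CartDual.D R (AlphaP.A p R) ≃ₐc[R] AlphaP.A p R,
      ∀ i : ℕ, i < p → (e.symm (AlphaP.x p R)) (AlphaP.x p R ^ i) = if i = 1 then 1 else 0 := by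
  exact main p R

end Groth.Agent.S16071
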