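import Groth.Statements.S16072
import Mathlib

set_option autoImplicit false
universe u
open Hopf

namespace Groth.Agent.S16072

/-- Let p be a prime and R a commutative ring of characteristic p (p = 0 in R, R nonzero). Then the
constant group scheme ℤ/p and the group scheme μ_p of p-th roots of unity over Spec R are not
isomorphic: there is no R-bialgebra isomorphism between the Hopf algebra Maps(ℤ/p, R) of functions
on the cyclic group of order p and the group algebra R[ℤ/p]. (Any nonzero commutative base ring of
characteristic p is allowed. The published statement allows any ring R with p·R = 0; over the zero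
ring both Hopf algebras are the zero ring and hence isomorphic, so R is assumed nonzero here.) -/
theorem result (p : ℕ) [Fact p.Prime] (R : Type u) [CommRing R]
    [CharP R p] :
    IsEmpty (ConstGrp.F R (Multiplicative (ZMod p)) ≃ₐc[R] MonoidAlgebra R (Multiplicative (ZMod p))) := by
  constructor
  intro e
  have hp : p.Prime := Fact.out
  have hnt : Nontrivial R := CharP.nontrivial_of_char_ne_one (R := R) hp.ne_one
  obtain ⟨m, hm⟩ := Ideal.exists_maximal R
  let _ : Field (R ⧸ m) := Ideal.Quotient.field m
  have hpk : ((p : ℕ) : R ⧸ m) = 0 := by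
    rw [← map_natCast (algebraMap R (R ⧸ m)), CharP.cast_eq_zero R p, map_zero]
  have hchar : CharP (R ⧸ m) p := by
    have := CharP.ringChar_of_prime_eq_zero hp hpk
    rw [← this]
    exact ringChar.charP (R ⧸ m)
  -- all algebra homs from the group algebra to the residue field agree
  have huniq : ∀ ψ₁ ψ₂ : MonoidAlgebra R (Multiplicative (ZMod p)) →ₐ[R] (R ⧸ m), ψ₁ = ψ₂ := by
    have h1 : ∀ (ψ : MonoidAlgebra R (Multiplicative (ZMod p)) →ₐ[R] (R ⧸ m))
        (g : Multiplicative (ZMod p)), ψ (MonoidAlgebra.of R _ g) = 1 := by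
      intro ψ g
      have hg : g ^ p = 1 := by
        apply Multiplicative.toAdd.injective
        rw [toAdd_pow, toAdd_one, nsmul_eq_mul, ZMod.natCast_self, zero_mul]
      have h2 : (ψ (MonoidAlgebra.of R _ g)) ^ p = 1 := by
        rw [← map_pow, ← map_pow, hg, map_one, map_one]
      have h3 : (ψ (MonoidAlgebra.of R _ g) - 1) ^ p = 0 := by
        rw [sub_pow_char, h2, one_pow, sub_self]
      exact sub_eq_zero.mp (pow_eq_zero_iff hp.ne_zero |>.mp h3)
    intro ψ₁ ψ₂
    apply MonoidAlgebra.algHom_ext
    · intro g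
      have e1 := h1 ψ₁ g
      have e2 := h1 ψ₂ g
      simp only [MonoidAlgebra.of_apply] at e1 e2
      rw [e1, e2]
    · exact Subsingleton.elim _ _
  let g0 : Multiplicative (ZMod p) := Multiplicative.ofAdd 0
  let g1 : Multiplicative (ZMod p) := Multiplicative.ofAdd 1
  have hne : g1 ≠ g0 := by
    intro h
    have h10 : (1 : ZMod p) = 0 := Multiplicative.ofAdd.injective h
    have hf : Fact (1 < p) := ⟨hp.one_lt⟩
    exact one_ne_zero h10
  let π : R →ₐ[R] (R ⧸ m) := Algebra.ofId R (R ⧸ m)
  let es : MonoidAlgebra R (Multiplicative (ZMod p)) →ₐ[R] ConstGrp.F R (Multiplicative (ZMod p)) :=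
    (e.symm.toAlgEquiv : _ ≃ₐ[R] _).toAlgHom
  have hes : ∀ x, es (e x) = x := fun x => e.symm_apply_apply x
  let ψ : Multiplicative (ZMod p) → (MonoidAlgebra R (Multiplicative (ZMod p)) →ₐ[R] (R ⧸ m)) :=
    fun g => (π.comp (ConstGrp.ev R g)).comp es
  have h := huniq (ψ g0) (ψ g1)
  have h2 := congrArg (fun φ : MonoidAlgebra R (Multiplicative (ZMod p)) →ₐ[R] (R ⧸ m) =>
    φ (e (ConstGrp.e R g0))) h
  simp only [ψ, AlgHom.comp_apply, hes, ConstGrp.ev_apply, ConstGrp.e_apply_self,
    ConstGrp.e_apply_of_ne hne, map_one, map_zero] at h2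
  exact one_ne_zero h2

end Groth.Agent.S16072
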