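import Groth.Statements.S16073
import Mathlib

set_option autoImplicit false
universe u
open Hopf

namespace Groth.Agent.S16073

/-- Let p be a prime and R a commutative ring of characteristic p (p = 0 in R, R nonzero). Then the
constant group scheme ℤ/p and α_p over Spec R are not isomorphic: there is no R-bialgebra
isomorphism between the Hopf algebra Maps(ℤ/p, R) of functions on the cyclic group of order p and
the Hopf algebra R[X]/(X^p) of α_p (X primitive). (Any nonzero commutative base ring of
characteristic p is allowed. The published statement allows any ring R with p·R = 0; over the zero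
ring both Hopf algebras are the zero ring and hence isomorphic, so R is assumed nonzero here.) -/
theorem result (p : ℕ) [Fact p.Prime] (R : Type u) [CommRing R] [CharP R p] :
    IsEmpty (ConstGrp.F R (Multiplicative (ZMod p)) ≃ₐc[R] AlphaP.A p R) := by
  constructor
  intro e
  have hp : p.Prime := Fact.out
  have hnt : Nontrivial R := CharP.nontrivial_of_char_ne_one (R := R) hp.ne_one
  obtain ⟨m, hm⟩ := Ideal.exists_maximal R
  let _ : Field (R ⧸ m) := Ideal.Quotient.field m
  -- all algebra homs from the alpha_p algebra to the residue field agree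
  have huniq : ∀ ψ₁ ψ₂ : AlphaP.A p R →ₐ[R] (R ⧸ m), ψ₁ = ψ₂ := by
    have h1 : ∀ (ψ : AlphaP.A p R →ₐ[R] (R ⧸ m)), ψ (AlphaP.x p R) = 0 := by
      intro ψ
      have h2 : (ψ (AlphaP.x p R)) ^ p = 0 := by
        rw [← map_pow, AlphaP.x_pow, map_zero]
      exact pow_eq_zero_iff hp.ne_zero |>.mp h2
    intro ψ₁ ψ₂
    apply AlphaP.algHom_ext
    rw [h1, h1]
  let g0 : Multiplicative (ZMod p) := Multiplicative.ofAdd 0
  let g1 : Multiplicative (ZMod p) := Multiplicative.ofAdd 1
  have hne : g1 ≠ g0 := by
    intro h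
    have h10 : (1 : ZMod p) = 0 := Multiplicative.ofAdd.injective h
    have hf : Fact (1 < p) := ⟨hp.one_lt⟩
    exact one_ne_zero h10
  let π : R →ₐ[R] (R ⧸ m) := Algebra.ofId R (R ⧸ m)
  let es : AlphaP.A p R →ₐ[R] ConstGrp.F R (Multiplicative (ZMod p)) :=
    (e.symm.toAlgEquiv : _ ≃ₐ[R] _).toAlgHom
  have hes : ∀ x, es (e x) = x := fun x => e.symm_apply_apply x
  let ψ : Multiplicative (ZMod p) → (AlphaP.A p R →ₐ[R] (R ⧸ m)) :=
    fun g => (π.comp (ConstGrp.ev R g)).comp es
  have h := huniq (ψ g0) (ψ g1)
  have h2 := congrArg (fun φ : AlphaP.A p R →ₐ[R] (R ⧸ m) =>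
    φ (e (ConstGrp.e R g0))) h
  simp only [ψ, AlgHom.comp_apply, hes, ConstGrp.ev_apply, ConstGrp.e_apply_self,
    ConstGrp.e_apply_of_ne hne, map_one, map_zero] at h2
  exact one_ne_zero h2

end Groth.Agent.S16073
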