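import Groth.Statements.S16074
import Mathlib
open scoped TensorProduct

set_option autoImplicit false
universe u
open Hopf

namespace Groth.Agent.S16074

/-- Let p be a prime and R a commutative ring of characteristic p (p = 0 in R, R nonzero). Then μ_p and
α_p over Spec R are not isomorphic: there is no R-bialgebra isomorphism between the group algebra
R[ℤ/p] of the cyclic group of order p (group elements group-like) and the Hopf algebra R[X]/(X^p) of
α_p (X primitive), although the underlying R-algebras R[ℤ/p] = R[Y]/(Y^p) and R[X]/(X^p) are
isomorphic. (Any nonzero commutative base ring of characteristic p is allowed. The published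
statement allows any ring R with p·R = 0; over the zero ring both Hopf algebras are the zero ring
and hence isomorphic, so R is assumed nonzero here.) -/
theorem result (p : ℕ) [Fact p.Prime] (R : Type u) [CommRing R] [CharP R p] :
    IsEmpty (MonoidAlgebra R (Multiplicative (ZMod p)) ≃ₐc[R] AlphaP.A p R) := by
  classical
  constructor
  intro e
  have hp : p.Prime := Fact.out
  have hnt : Nontrivial R := CharP.nontrivial_of_char_ne_one (R := R) hp.ne_one
  -- the image of the primitive element x
  set z : MonoidAlgebra R (Multiplicative (ZMod p)) := e.symm (AlphaP.x p R) with hz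
  have hx0 : AlphaP.x p R ≠ 0 := by
    have hb := (AlphaP.basis p R).ne_zero ⟨1, hp.one_lt⟩
    rw [AlphaP.basis_apply] at hb
    simpa using hb
  have hz0 : z ≠ 0 := by
    intro h
    apply hx0
    have h' := congrArg e h
    rw [hz, e.apply_symm_apply, map_zero] at h'
    exact h'
  have hprim : Coalgebra.comul (R := R) z = z ⊗ₜ[R] 1 + 1 ⊗ₜ[R] z := by
    have h := CoalgHomClass.map_comp_comul (R := R) e.symm
    have h2 := LinearMap.congr_fun h (AlphaP.x p R)
    simp only [LinearMap.comp_apply, AlphaP.comul_x, map_add, TensorProduct.map_tmul] at h2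
    rw [hz]
    convert h2.symm using 2 <;> simp
  -- coefficient functional
  let lc : Multiplicative (ZMod p) → (MonoidAlgebra R (Multiplicative (ZMod p)) →ₗ[R] R) :=
    fun g => (Finsupp.lapply g) ∘ₗ (MonoidAlgebra.coeffLinearEquiv R).toLinearMap
  have lc_apply : ∀ g w, lc g w = w.coeff g := fun g w => rfl
  let φ : Multiplicative (ZMod p) → (MonoidAlgebra R (Multiplicative (ZMod p)) ⊗[R]
      MonoidAlgebra R (Multiplicative (ZMod p)) →ₗ[R] R) :=
    fun g => (TensorProduct.lid R R).toLinearMap ∘ₗ TensorProduct.map (lc g) (lc g)
  have φ_tmul : ∀ g a b, φ g (a ⊗ₜ[R] b) = a.coeff g * b.coeff g := by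
    intro g a b
    simp [φ, lc_apply]
  have key : ∀ (g : Multiplicative (ZMod p)) (w : MonoidAlgebra R (Multiplicative (ZMod p))),
      φ g (Coalgebra.comul (R := R) w) = w.coeff g := by
    intro g w
    induction w using MonoidAlgebra.induction_linear with
    | zero => simp
    | add a b ha hb => simp only [map_add, ha, hb, MonoidAlgebra.coeff_add, Finsupp.add_apply]
    | single a r =>
      rw [MonoidAlgebra.comul_single, CommSemiring.comul_apply, TensorProduct.map_tmul, φ_tmul]
      simp only [MonoidAlgebra.lsingle_apply, MonoidAlgebra.coeff_single]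
      by_cases hag : a = g
      · subst hag; simp
      · simp [hag]
  apply hz0
  apply MonoidAlgebra.coeff_injective
  ext g
  have h1 := congrArg (φ g) hprim
  rw [key, map_add, φ_tmul, φ_tmul] at h1
  simp only [MonoidAlgebra.coeff_zero, Finsupp.zero_apply]
  rw [MonoidAlgebra.one_def, MonoidAlgebra.coeff_single] at h1
  by_cases hg : g = 1
  · subst hg
    simp only [Finsupp.single_eq_same, mul_one, one_mul] at h1
    have : z.coeff 1 = 0 := by
      have h2 : z.coeff 1 - (z.coeff 1 + z.coeff 1) = 0 := by rw [← h1, sub_self]
      have h3 : z.coeff 1 - (z.coeff 1 + z.coeff 1) = - z.coeff 1 := by ring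
      rw [h3, neg_eq_zero] at h2
      exact h2
    exact this
  · have hne : (1 : Multiplicative (ZMod p)) ≠ g := fun h => hg h.symm
    have hs : (Finsupp.single (1 : Multiplicative (ZMod p)) (1 : R)) g = 0 := by
      rw [Finsupp.single_apply, if_neg hne]
    rw [hs, mul_zero, zero_mul, add_zero] at h1
    exact h1

end Groth.Agent.S16074
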