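import Groth.Statements.S16075
import Mathlib

set_option autoImplicit false
universe u
open Hopf

namespace Groth.Agent.S16075

open Polynomial TensorProduct AlphaP in
theorem mk_eq_zero_coeff (p : ℕ) (T : Type u) [CommRing T] (h : T[X])
    (hh : AlphaP.mk p T h = 0) (d : ℕ) (hd : d < p) : h.coeff d = 0 := by
  have h1 : ((X : T[X]) ^ p) ∣ h := by
    have : AdjoinRoot.mk ((X : T[X]) ^ p) h = 0 := hh
    exact AdjoinRoot.mk_eq_zero.mp this
  exact Polynomial.X_pow_dvd_iff.mp h1 d hd

open Polynomial TensorProduct AlphaP in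
theorem smul_x_injective (p : ℕ) [Fact p.Prime] (T : Type u) [CommRing T]
    (c c' : T) (h : c • AlphaP.x p T = c' • AlphaP.x p T) : c = c' := by
  have hp : 1 < p := (Fact.out : p.Prime).one_lt
  have h1 : AlphaP.mk p T (C (c - c') * X) = 0 := by
    rw [map_mul, AlphaP.mk_X, ← Polynomial.algebraMap_eq, AlgHom.commutes, ← Algebra.smul_def, sub_smul, h,
      sub_self]
  have := mk_eq_zero_coeff p T _ h1 1 hp
  simp at this
  exact sub_eq_zero.mp this

open Polynomial TensorProduct AlphaP in
theorem primitive_eq_smul_x (p : ℕ) [Fact p.Prime] (T : Type u) [CommRing T] [CharP T p]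
    (y : AlphaP.A p T) (hcomul : Coalgebra.comul (R := T) y = y ⊗ₜ[T] 1 + 1 ⊗ₜ[T] y) :
    ∃ c : T, y = c • AlphaP.x p T := by
  have hp : p.Prime := Fact.out
  obtain ⟨g, hg⟩ := AlphaP.mk_surjective p T y
  have hy : y = aeval (AlphaP.x p T) g := by rw [AlphaP.aeval_x, hg]
  -- the dual number algebra
  have hε : (DualNumber.eps : DualNumber (AlphaP.A p T)) ^ p = 0 := by
    obtain ⟨k, hk⟩ : ∃ k, p = 2 + k := ⟨p - 2, by have := hp.two_le; omega⟩
    rw [hk, pow_add, pow_two, DualNumber.eps_mul_eps, zero_mul]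
  have hε2 : (DualNumber.eps : DualNumber (AlphaP.A p T)) ^ 2 = 0 := by
    rw [pow_two, DualNumber.eps_mul_eps]
  let ψ : AlphaP.A p T ⊗[T] AlphaP.A p T →ₐ[T] DualNumber (AlphaP.A p T) :=
    Algebra.TensorProduct.lift (TrivSqZeroExt.inlAlgHom T (AlphaP.A p T) (AlphaP.A p T))
      (AlphaP.lift p T DualNumber.eps hε) (fun _ _ => Commute.all _ _)
  have h1 : ψ (Coalgebra.comul (R := T) y) =
      TrivSqZeroExt.inl y + TrivSqZeroExt.inl (aeval (AlphaP.x p T) (derivative g)) * DualNumber.eps := by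
    have e1 : Coalgebra.comul (R := T) y = (Bialgebra.comulAlgHom T (AlphaP.A p T)) y := rfl
    rw [e1, hy, ← AlgHom.comp_apply, ← Polynomial.aeval_algHom_apply]
    have e2 : (ψ.comp (Bialgebra.comulAlgHom T (AlphaP.A p T))) (AlphaP.x p T) =
        TrivSqZeroExt.inl (AlphaP.x p T) + DualNumber.eps := by
      rw [AlgHom.comp_apply, AlphaP.comulAlgHom_eq, AlphaP.comulAlg_x, map_add]
      simp [ψ]
    rw [e2, Polynomial.aeval_add_of_sq_eq_zero _ _ _ hε2]
    have e3 : ∀ q : T[X], aeval (TrivSqZeroExt.inl (AlphaP.x p T) : DualNumber (AlphaP.A p T)) q =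
        TrivSqZeroExt.inl (aeval (AlphaP.x p T) q) := by
      intro q
      have := Polynomial.aeval_algHom_apply (TrivSqZeroExt.inlAlgHom T (AlphaP.A p T) (AlphaP.A p T))
        (AlphaP.x p T) q
      simpa using this
    rw [e3, e3]
  have h2 : ψ (y ⊗ₜ[T] 1 + 1 ⊗ₜ[T] y) =
      TrivSqZeroExt.inl y + (algebraMap T _ (g.coeff 0) + algebraMap T _ (g.coeff 1) * DualNumber.eps) := by
    rw [map_add]
    have e1 : ψ (y ⊗ₜ[T] 1) = TrivSqZeroExt.inl y := by simp [ψ]
    have e2 : ψ (1 ⊗ₜ[T] y) = aeval (DualNumber.eps : DualNumber (AlphaP.A p T)) g := by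
      have : ψ (1 ⊗ₜ[T] y) = (AlphaP.lift p T DualNumber.eps hε) y := by simp [ψ]
      rw [this, hy, ← Polynomial.aeval_algHom_apply, AlphaP.lift_x]
    rw [e1, e2]
    congr 1
    have := Polynomial.aeval_add_of_sq_eq_zero g (0 : DualNumber (AlphaP.A p T)) DualNumber.eps hε2
    rw [zero_add] at this
    rw [this]
    rw [← Polynomial.coeff_zero_eq_aeval_zero', ← Polynomial.coeff_zero_eq_aeval_zero',
      Polynomial.coeff_derivative]
    simp
  rw [hcomul, h2] at h1
  have h3 := congrArg TrivSqZeroExt.snd h1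
  have h4 := congrArg TrivSqZeroExt.fst h1
  simp [TrivSqZeroExt.algebraMap_eq_inl'] at h3 h4
  have hp0 : 0 < p := hp.pos
  have hc0 : g.coeff 0 = 0 := by
    have : AlphaP.mk p T (C (g.coeff 0)) = 0 := by
      rw [← Polynomial.algebraMap_eq, AlgHom.commutes]; exact h4
    simpa using mk_eq_zero_coeff p T _ this 0 hp0
  have hd : AlphaP.mk p T (derivative g - C (g.coeff 1)) = 0 := by
    rw [map_sub, ← AlphaP.aeval_x, ← h3, ← Polynomial.algebraMap_eq, AlgHom.commutes, sub_self]
  have hcoeff : ∀ j, 2 ≤ j → j < p → g.coeff j = 0 := by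
    intro j hj2 hjp
    obtain ⟨d, rfl⟩ : ∃ d, j = d + 1 := ⟨j - 1, by omega⟩
    have h5 := mk_eq_zero_coeff p T _ hd d (by omega)
    rw [Polynomial.coeff_sub, Polynomial.coeff_derivative, Polynomial.coeff_C,
      if_neg (by omega : d ≠ 0), sub_zero] at h5
    have hu : IsUnit ((d + 1 : ℕ) : T) := by
      rw [CharP.isUnit_natCast_iff hp]
      intro hdvd
      have := Nat.le_of_dvd (by omega) hdvd
      omega
    have h6 : g.coeff (d + 1) * ((d + 1 : ℕ) : T) = 0 := by
      rw [← h5]; push_cast; ring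
    exact (hu.mul_left_eq_zero).mp h6
  refine ⟨g.coeff 1, ?_⟩
  rw [hy, Polynomial.aeval_eq_sum_range]
  rw [Finset.sum_eq_single 1]
  · rw [pow_one]
  · intro j _ hj1
    rcases Nat.lt_or_ge j p with hlt | hge
    · rcases Nat.eq_zero_or_pos j with h0 | hpos
      · subst h0; rw [hc0, zero_smul]
      · rw [hcoeff j (by omega) hlt, zero_smul]
    · rw [AlphaP.x_pow_of_le p T hge, smul_zero]
  · intro h1
    rw [Finset.mem_range] at h1
    have : g.coeff 1 = 0 := Polynomial.coeff_eq_zero_of_natDegree_lt (by omega)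
    rw [this, zero_smul]

/-- Let p be a prime, T a commutative ring of characteristic p (p = 0 in T, T nonzero) and A =
T[X]/(X^p) the Hopf algebra of α_p over Spec T, with X primitive. Then the endomorphisms of the
T-group α_{p,T} are exactly the scalings: every T-bialgebra endomorphism f of A has f(X) = λ·X for a
unique λ ∈ T, and for every λ ∈ T there is a T-bialgebra endomorphism f of A with f(X) = λ·X. So the
endomorphisms of α_{p,T} correspond bijectively to the elements of T. (Only this bijection is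
stated; that it turns addition and composition of endomorphisms into addition and multiplication in
T, and its naturality in T, are not stated here. The zero ring, allowed as T in the published
statement, is excluded by the characteristic hypothesis here.) -/
theorem result (p : ℕ) [Fact p.Prime] (T : Type u) [CommRing T] [CharP T p] :
    (∀ f : AlphaP.A p T →ₐc[T] AlphaP.A p T, ∃! c : T, f (AlphaP.x p T) = c • AlphaP.x p T) ∧
      (∀ c : T, ∃ f : AlphaP.A p T →ₐc[T] AlphaP.A p T, f (AlphaP.x p T) = c • AlphaP.x p T) := by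
  have hp : p.Prime := Fact.out
  refine ⟨fun f => ?_, fun c => ?_⟩
  · have hprim : Coalgebra.comul (R := T) (f (AlphaP.x p T)) =
        f (AlphaP.x p T) ⊗ₜ[T] 1 + 1 ⊗ₜ[T] f (AlphaP.x p T) := by
      have h1 := LinearMap.congr_fun (CoalgHomClass.map_comp_comul f) (AlphaP.x p T)
      simp only [LinearMap.comp_apply] at h1
      have h2 : Coalgebra.comul (R := T) (f (AlphaP.x p T)) =
          TensorProduct.map (f : AlphaP.A p T →ₗ[T] AlphaP.A p T) (f : AlphaP.A p T →ₗ[T] AlphaP.A p T)
            (Coalgebra.comul (R := T) (AlphaP.x p T)) := h1.symm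
      rw [h2, AlphaP.comul_x, map_add, TensorProduct.map_tmul, TensorProduct.map_tmul]
      simp
    obtain ⟨c, hc⟩ := primitive_eq_smul_x p T _ hprim
    exact ⟨c, hc, fun c' hc' => smul_x_injective p T c' c (by rw [← hc, ← hc'])⟩
  · have hpow : (c • AlphaP.x p T) ^ p = 0 := by rw [smul_pow, AlphaP.x_pow, smul_zero]
    let φ : AlphaP.A p T →ₐ[T] AlphaP.A p T := AlphaP.lift p T (c • AlphaP.x p T) hpow
    have hφ : φ (AlphaP.x p T) = c • AlphaP.x p T := AlphaP.lift_x _ _
    refine ⟨BialgHom.ofAlgHom φ ?_ ?_, ?_⟩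
    · apply AlphaP.algHom_ext
      rw [AlgHom.comp_apply, hφ, AlphaP.counitAlgHom_eq, map_smul, AlphaP.counitAlg_x, smul_zero]
    · apply AlphaP.algHom_ext
      rw [AlgHom.comp_apply, AlgHom.comp_apply, hφ, AlphaP.comulAlgHom_eq, map_smul, AlphaP.comulAlg_x, map_add,
        Algebra.TensorProduct.map_tmul, Algebra.TensorProduct.map_tmul, hφ, map_one, smul_add,
        TensorProduct.smul_tmul', TensorProduct.tmul_smul]
    · exact hφ

end Groth.Agent.S16075
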