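import Groth.Statements.S16076
import Mathlib
import Groth.Agent.S16071

set_option autoImplicit false
universe u
open scoped TensorProduct
open Versch

namespace Groth.Agent.S16076

section helpers
open TensorProduct Polynomial
set_option linter.unusedSectionVars false
set_option linter.unusedSimpArgs false
variable (p : ℕ) [hp : Fact p.Prime] (R : Type u) [CommRing R] [CharP R p]

theorem pow_p_eq (a : AlphaP.A p R) :
    a ^ p = algebraMap R (AlphaP.A p R) ((Coalgebra.counit (R := R) a) ^ p) := by
  have hp0 : p ≠ 0 := (Fact.out : p.Prime).ne_zero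
  let φ₁ : AlphaP.A p R →+* AlphaP.A p R := frobenius (AlphaP.A p R) p
  let φ₂ : AlphaP.A p R →+* AlphaP.A p R :=
    (frobenius (AlphaP.A p R) p).comp ((algebraMap R (AlphaP.A p R)).comp
      (Bialgebra.counitAlgHom R (AlphaP.A p R)).toRingHom)
  have h : φ₁.comp (AlphaP.mk p R).toRingHom = φ₂.comp (AlphaP.mk p R).toRingHom := by
    apply Polynomial.ringHom_ext
    · intro r
      simp only [φ₁, φ₂, RingHom.comp_apply, AlgHom.toRingHom_eq_coe, RingHom.coe_coe, frobenius_def,
        Bialgebra.counitAlgHom_apply]
      rw [← Polynomial.algebraMap_eq, AlgHom.commutes, Bialgebra.counit_algebraMap]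
    · simp only [φ₁, φ₂, RingHom.comp_apply, AlgHom.toRingHom_eq_coe, RingHom.coe_coe, frobenius_def,
        Bialgebra.counitAlgHom_apply, AlphaP.mk_X, AlphaP.x_pow, AlphaP.counit_x, map_zero]
  obtain ⟨g, rfl⟩ := AlphaP.mk_surjective p R a
  have := RingHom.congr_fun h g
  simp only [φ₁, φ₂, RingHom.comp_apply, AlgHom.toRingHom_eq_coe, RingHom.coe_coe, frobenius_def,
    Bialgebra.counitAlgHom_apply] at this
  rw [this, map_pow]


theorem dual_pow_p_eq (x : CartDual.D R (AlphaP.A p R)) :
    x ^ p = algebraMap R (CartDual.D R (AlphaP.A p R)) ((x 1) ^ p) := by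
  obtain ⟨e, -⟩ := Groth.Agent.S16071.result p R
  apply e.toEquiv.injective
  show e (x ^ p) = e (algebraMap R (CartDual.D R (AlphaP.A p R)) ((x 1) ^ p))
  have h1 : e (algebraMap R (CartDual.D R (AlphaP.A p R)) ((x 1) ^ p)) =
      algebraMap R (AlphaP.A p R) ((x 1) ^ p) := (e.toAlgEquiv).commutes _
  have h2 : Coalgebra.counit (R := R) (e x) = x 1 := by
    have := CoalgHomClass.counit_comp_apply e x
    rw [this]; rfl
  rw [h1, map_pow, pow_p_eq, h2]

theorem trivial_isVerschiebung :
    Versch.IsVerschiebung p R (AlphaP.A p R)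
      (((Algebra.TensorProduct.includeRight (R := R) (A := AlphaP.A p R) (B := FrobAlg.Twist p R)).toRingHom.comp
          (FrobAlg.toTwist p R).toRingHom).comp (Bialgebra.counitAlgHom R (AlphaP.A p R)).toRingHom) := by
  rw [Versch.isVerschiebung_iff]
  intro a x
  simp only [RingHom.comp_apply, AlgHom.toRingHom_eq_coe, RingHom.coe_coe, RingEquiv.toRingHom_eq_coe,
    Algebra.TensorProduct.includeRight_apply, Bialgebra.counitAlgHom_apply]
  rw [Versch.evTw_tmul', dual_pow_p_eq, LinearMap.convAlgebraMap_apply, ← map_mul]
  simp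

end helpers

/-- Let p be a prime, R a commutative ring of characteristic p and A = R[X]/(X^p) the Hopf algebra of
α_p over Spec R, with X primitive. Let v : A → A ⊗_R R^(Frob) be the comorphism of the Verschiebung
V : α_p^(p) → α_p (the ring map whose transpose under the canonical pairing is the relative
Frobenius of the dual Hopf algebra Hom_R(A, R)). Then V is the trivial homomorphism: v is the
composite of the counit ε : A → R, the identity of underlying rings R → R^(Frob) and the inclusion
of the twisted factor R^(Frob) → A ⊗_R R^(Frob), i.e. v(a) = 1 ⊗ ε(a). (Any commutative base ring of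
characteristic p is allowed.) -/
theorem result (p : ℕ) [Fact p.Prime] (R : Type u) [CommRing R] [CharP R p]
    (v : AlphaP.A p R →+* FrobAlg.BaseChange p R (AlphaP.A p R))
    (hv : Versch.IsVerschiebung p R (AlphaP.A p R) v) :
    v = ((Algebra.TensorProduct.includeRight (R := R) (A := AlphaP.A p R) (B := FrobAlg.Twist p R)).toRingHom.comp
          (FrobAlg.toTwist p R).toRingHom).comp (Bialgebra.counitAlgHom R (AlphaP.A p R)).toRingHom := by
  exact Versch.IsVerschiebung.unique p R (AlphaP.A p R) hv (trivial_isVerschiebung p R)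

end Groth.Agent.S16076
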