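import Groth.Statements.S16078
import Mathlib

set_option autoImplicit false
universe u
open scoped TensorProduct
open Hopf

namespace Groth.Agent.S16078


theorem one_sub_mem {A R : Type*} [CommRing A] [CommRing R] [Nontrivial R] (ε : A →+* R)
    (𝔟 𝔠 : Ideal A) [IsLocalRing (A ⧸ 𝔟)]
    (h𝔟 : ∀ a ∈ 𝔟, ε a = 0) (h𝔟𝔠 : 𝔟 ≤ 𝔠)
    (x : A) (hx : x * (1 - x) ∈ 𝔠) (hεx : ε x = 1) : 1 - x ∈ 𝔠 := by
  rcases IsLocalRing.isUnit_or_isUnit_one_sub_self (Ideal.Quotient.mk 𝔟 x) with h | h
  · obtain ⟨y, hy⟩ := h.exists_right_inv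
    obtain ⟨y, rfl⟩ := Ideal.Quotient.mk_surjective y
    have h1 : x * y - 1 ∈ 𝔟 := by
      rw [← Ideal.Quotient.eq, map_mul, map_one]; exact hy
    have : 1 - x = x * (1 - x) * y - (1 - x) * (x * y - 1) := by ring
    rw [this]
    exact Ideal.sub_mem _ (Ideal.mul_mem_right _ _ hx) (Ideal.mul_mem_left _ _ (h𝔟𝔠 h1))
  · exfalso
    obtain ⟨y, hy⟩ := h.exists_right_inv
    obtain ⟨y, rfl⟩ := Ideal.Quotient.mk_surjective y
    have h1 : (1 - x) * y - 1 ∈ 𝔟 := by
      rw [← Ideal.Quotient.eq, map_mul, map_sub, map_one]; exact hy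
    have h2 := h𝔟 _ h1
    rw [map_sub, map_mul, map_sub, map_one, hεx, sub_self, zero_mul, zero_sub] at h2
    exact one_ne_zero (neg_eq_zero.mp h2)

theorem isLocalHom_of_isIntegral {S T : Type*} [CommRing S] [CommRing T] [IsLocalRing S]
    [IsLocalRing T] [Algebra S T] [Algebra.IsIntegral S T] : IsLocalHom (algebraMap S T) := by
  have hmax : (IsLocalRing.maximalIdeal T).comap (algebraMap S T) = IsLocalRing.maximalIdeal S :=
    IsLocalRing.eq_maximalIdeal (Ideal.isMaximal_comap_of_isIntegral_of_isMaximal _)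
  constructor
  intro a ha
  by_contra hna
  have h1 : a ∈ IsLocalRing.maximalIdeal S := hna
  rw [← hmax] at h1
  exact h1 ha

theorem faithfullyFlat_quot {A A'' : Type u} [CommRing A] [CommRing A'']
    [Algebra A'' A] [Module.Flat A'' A] [Algebra.IsIntegral A'' A]
    (e : A) (he : IsIdempotentElem e) [IsLocalRing (A ⧸ Ideal.span ({1 - e} : Set A))]
    (e'' : A'') (he'' : IsIdempotentElem e'') [IsLocalRing (A'' ⧸ Ideal.span ({1 - e''} : Set A''))]
    (g : (A'' ⧸ Ideal.span ({1 - e''} : Set A'')) →+* (A ⧸ Ideal.span ({1 - e} : Set A)))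
    (hg : g.comp (Ideal.Quotient.mk (Ideal.span ({1 - e''} : Set A''))) =
      (Ideal.Quotient.mk (Ideal.span ({1 - e} : Set A))).comp (algebraMap A'' A)) :
    g.FaithfullyFlat := by
  let _ : Algebra (A'' ⧸ Ideal.span ({1 - e''} : Set A'')) (A ⧸ Ideal.span ({1 - e} : Set A)) :=
    g.toAlgebra
  have htower : IsScalarTower A'' (A'' ⧸ Ideal.span ({1 - e''} : Set A''))
      (A ⧸ Ideal.span ({1 - e} : Set A)) :=
    IsScalarTower.of_algebraMap_eq' hg.symm
  show Module.FaithfullyFlat (A'' ⧸ Ideal.span ({1 - e''} : Set A''))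
    (A ⧸ Ideal.span ({1 - e} : Set A))
  have : IsLocalization.Away e (A ⧸ Ideal.span ({1 - e} : Set A)) :=
    IsLocalization.Away.quotient_of_isIdempotentElem he
  have : IsLocalization.Away e'' (A'' ⧸ Ideal.span ({1 - e''} : Set A'')) :=
    IsLocalization.Away.quotient_of_isIdempotentElem he''
  have : Module.Flat A (A ⧸ Ideal.span ({1 - e} : Set A)) :=
    IsLocalization.flat _ (Submonoid.powers e)
  have : Module.Flat A'' (A ⧸ Ideal.span ({1 - e} : Set A)) := Module.Flat.trans A'' A _
  have : Module.Flat (A'' ⧸ Ideal.span ({1 - e''} : Set A''))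
      (A ⧸ Ideal.span ({1 - e} : Set A)) :=
    (Module.flat_iff_of_isLocalization (A'' ⧸ Ideal.span ({1 - e''} : Set A''))
      (Submonoid.powers e'') (A ⧸ Ideal.span ({1 - e} : Set A))).mpr inferInstance
  have : Algebra.IsIntegral A'' (A ⧸ Ideal.span ({1 - e} : Set A)) :=
    Algebra.IsIntegral.trans (R := A'') A
  have : Algebra.IsIntegral (A'' ⧸ Ideal.span ({1 - e''} : Set A''))
      (A ⧸ Ideal.span ({1 - e} : Set A)) :=
    Algebra.IsIntegral.tower_top (R := A'')
  have := isLocalHom_of_isIntegral (S := A'' ⧸ Ideal.span ({1 - e''} : Set A''))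
    (T := A ⧸ Ideal.span ({1 - e} : Set A))
  exact Module.FaithfullyFlat.of_flat_of_isLocalHom

/-- Let R be a henselian Noetherian local ring, A and A'' commutative Hopf algebras over R which are
finite and flat as R-modules, and A'' → A an R-algebra homomorphism compatible with
comultiplications and counits making A faithfully flat over A'' (a faithfully flat homomorphism π :
G → G'' of finite flat R-groups); let J ⊆ A be the ideal generated by the image of the augmentation
ideal of A'' (G' = Spec A/J = ker π, so that 1 → G' → G → G'' → 1 is exact). Let e ∈ A and e'' ∈ A''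
be idempotents with ε(e) = 1, ε(e'') = 1 and A/(1 − e), A''/(1 − e'') local rings (the unit
components G⁰ and G''⁰), and let e' ∈ A be an element whose image in A/J is an idempotent, with
ε(e') = 1 and A/(J + (1 − e')) local (so G'⁰ = Spec (A/J)/(1 − e') is the unit component of G').
Suppose g : A''/(1 − e'') → A/(1 − e) is the ring homomorphism induced by A'' → A (the restriction
π⁰ : G⁰ → G''⁰ of π, which exists because G⁰ is connected). Then g is faithfully flat, and e ≡ e'
modulo J, i.e. J + (1 − e) = J + (1 − e') and the kernel of π⁰, which is cut out in G⁰ by J, is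
exactly G'⁰: the sequence 1 → G'⁰ → G⁰ → G''⁰ → 1 is exact. (The published statement also asserts
exactness of the maximal étale quotient G ↦ G^ét, not stated here.) -/
theorem result (R : Type u) [CommRing R] [HenselianLocalRing R]
    [IsNoetherianRing R] (A A'' : Type u) [CommRing A] [HopfAlgebra R A] [Module.Finite R A] [Module.Flat R A]
    [CommRing A''] [HopfAlgebra R A''] [Module.Finite R A''] [Module.Flat R A'']
    [Algebra A'' A] [IsScalarTower R A'' A] [Module.FaithfullyFlat A'' A]
    (hΔ : (Bialgebra.comulAlgHom R A).comp (IsScalarTower.toAlgHom R A'' A) =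
      (Algebra.TensorProduct.map (IsScalarTower.toAlgHom R A'' A) (IsScalarTower.toAlgHom R A'' A)).comp
        (Bialgebra.comulAlgHom R A''))
    (hε : (Bialgebra.counitAlgHom R A).comp (IsScalarTower.toAlgHom R A'' A) = Bialgebra.counitAlgHom R A'')
    (e : A) (he : IsIdempotentElem e) (heε : Bialgebra.counitAlgHom R A e = 1)
    [IsLocalRing (A ⧸ Ideal.span ({1 - e} : Set A))]
    (e'' : A'') (he'' : IsIdempotentElem e'') (he''ε : Bialgebra.counitAlgHom R A'' e'' = 1)
    [IsLocalRing (A'' ⧸ Ideal.span ({1 - e''} : Set A''))]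
    (e' : A) (he' : IsIdempotentElem (Ideal.Quotient.mk ((RingHom.ker (Bialgebra.counitAlgHom R A'')).map (algebraMap A'' A)) e'))
    (he'ε : Bialgebra.counitAlgHom R A e' = 1)
    [IsLocalRing (A ⧸ (((RingHom.ker (Bialgebra.counitAlgHom R A'')).map (algebraMap A'' A)) ⊔ Ideal.span ({1 - e'} : Set A)))]
    (g : (A'' ⧸ Ideal.span ({1 - e''} : Set A'')) →+* (A ⧸ Ideal.span ({1 - e} : Set A)))
    (hg : g.comp (Ideal.Quotient.mk (Ideal.span ({1 - e''} : Set A''))) =
      (Ideal.Quotient.mk (Ideal.span ({1 - e} : Set A))).comp (algebraMap A'' A)) :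
    g.FaithfullyFlat ∧
      Ideal.Quotient.mk ((RingHom.ker (Bialgebra.counitAlgHom R A'')).map (algebraMap A'' A)) e = Ideal.Quotient.mk ((RingHom.ker (Bialgebra.counitAlgHom R A'')).map (algebraMap A'' A)) e' := by
  have hInt : Algebra.IsIntegral A'' A := Algebra.IsIntegral.tower_top (R := R)
  refine ⟨faithfullyFlat_quot e he e'' he'' g hg, ?_⟩
  set J : Ideal A := (RingHom.ker (Bialgebra.counitAlgHom R A'')).map (algebraMap A'' A) with hJ
  let ε : A →+* R := (Bialgebra.counitAlgHom R A : A →+* R)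
  have hεJ : ∀ a ∈ J, ε a = 0 := by
    have hle : J ≤ RingHom.ker ε := by
      rw [hJ, Ideal.map_le_iff_le_comap]
      intro x hx
      rw [Ideal.mem_comap, RingHom.mem_ker]
      have h1 := DFunLike.congr_fun hε x
      rw [RingHom.mem_ker] at hx
      rw [hx] at h1
      exact h1
    intro a ha
    exact hle ha
  have hεspan : ∀ (x : A), ε x = 1 → ∀ a ∈ Ideal.span ({1 - x} : Set A), ε a = 0 := by
    intro x hx a ha
    obtain ⟨c, rfl⟩ := Ideal.mem_span_singleton'.mp ha
    rw [map_mul, map_sub, map_one, hx, sub_self, mul_zero]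
  -- e'(1 - e') ∈ J
  have h1 : e' * (1 - e') ∈ J := by
    have h2 : e' * e' - e' ∈ J := by
      rw [← Ideal.Quotient.eq, map_mul]; exact he'
    have : e' * (1 - e') = -(e' * e' - e') := by ring
    rw [this]; exact J.neg_mem h2
  -- Step 1
  have s1 : 1 - e' ∈ J ⊔ Ideal.span ({1 - e} : Set A) :=
    one_sub_mem ε (Ideal.span ({1 - e} : Set A)) _ (hεspan e heε) le_sup_right e'
      (Ideal.mem_sup_left h1) he'ε
  -- Step 2
  have s2 : 1 - e ∈ J ⊔ Ideal.span ({1 - e'} : Set A) := by
    refine one_sub_mem ε (J ⊔ Ideal.span ({1 - e'} : Set A)) _ ?_ le_rfl e ?_ heε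
    · intro a ha
      obtain ⟨b, hb, c, hc, rfl⟩ := Submodule.mem_sup.mp ha
      rw [map_add, hεJ b hb, hεspan e' he'ε c hc, add_zero]
    · have : e * (1 - e) = 0 := by
        rw [mul_sub, mul_one, he.eq, sub_self]
      rw [this]; exact Ideal.zero_mem _
  have t1 : e * (1 - e') ∈ J := by
    obtain ⟨j, hj, c, hc, hsum⟩ := Submodule.mem_sup.mp s1
    obtain ⟨a, rfl⟩ := Ideal.mem_span_singleton'.mp hc
    have h0 : e * (1 - e) = 0 := by rw [mul_sub, mul_one, he.eq, sub_self]
    have : e * (1 - e') = e * j := by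
      rw [← hsum, mul_add]
      have : e * (a * (1 - e)) = a * (e * (1 - e)) := by ring
      rw [this, h0, mul_zero, add_zero]
    rw [this]; exact Ideal.mul_mem_left _ _ hj
  have t2 : e' * (1 - e) ∈ J := by
    obtain ⟨j, hj, c, hc, hsum⟩ := Submodule.mem_sup.mp s2
    obtain ⟨a, rfl⟩ := Ideal.mem_span_singleton'.mp hc
    have : e' * (1 - e) = e' * j + a * (e' * (1 - e')) := by
      rw [← hsum]; ring
    rw [this]
    exact Ideal.add_mem _ (Ideal.mul_mem_left _ _ hj) (Ideal.mul_mem_left _ _ h1)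
  rw [Ideal.Quotient.eq]
  have : e - e' = e * (1 - e') - e' * (1 - e) := by ring
  rw [this]
  exact Ideal.sub_mem _ t1 t2

end Groth.Agent.S16078
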