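import Groth.Statements.S16080
import Groth.Agent.Lib.Helper45.RefHullStalk
import Groth.Agent.S4713

set_option autoImplicit false
universe u
open CategoryTheory CategoryTheory.Limits AlgebraicGeometry TopologicalSpace
open SDiv

namespace Groth.Agent.S16080

/-- Let X be an integral locally Noetherian scheme, and suppose F is an O_X-module that is coherent.
Then these three conditions on F are mutually equivalent: (1) F has the reflexive property, i.e. the
canonical map F ⟶ F^** into the reflexive hull is an isomorphism; (2) for every point x the stalk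
F_x is a reflexive O_{X,x}-module; (3) for every closed point x the stalk F_x is a reflexive
O_{X,x}-module. -/
theorem result (X : Scheme.{u}) [IsIntegral X] [IsLocallyNoetherian X] (F : X.Modules)
    (hF : Coh.IsCoh F) :
    [RefHull.IsReflexive F, ∀ x : ↥X, RefHull.IsReflexiveAt F x,
      ∀ x : ↥X, IsClosed ({x} : Set ↥X) → RefHull.IsReflexiveAt F x].TFAE := by
  have : F.IsQuasicoherent := hF.1
  have : (RefHull.ddual F).IsQuasicoherent :=
    (Groth.Agent.Lib.Helper45.RefHullStalk.isCoh_ddual F hF).1
  tfae_have 1 ↔ 2 :=
    Groth.Agent.Lib.Helper45.RefHullStalk.isReflexive_iff_forall_isReflexiveAt F hF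
  tfae_have 2 → 3 := fun h x _ => h x
  tfae_have 3 → 2 := by
    intro h
    by_contra hne
    obtain ⟨x₀, hx₀⟩ := not_forall.mp hne
    let Z : Set X := {x | Function.Bijective
      (Groth.Agent.Lib.Helper49.stalkMap (RefHull.bidualMap F) x).hom}ᶜ
    have hZclosed : IsClosed Z :=
      (Groth.Agent.Lib.Helper49.isOpen_setOf_stalkMap_bijective hF.2
        (Groth.Agent.Lib.Helper45.RefHullStalk.isCoh_ddual F hF).2
        (RefHull.bidualMap F)).isClosed_compl
    have hZne : Z.Nonempty := ⟨x₀, fun hb => hx₀
      ((Groth.Agent.Lib.Helper45.RefHullStalk.stalkMap_bidualMap_bijective_iff F hF x₀).mp hb)⟩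
    obtain ⟨y, hyZ, hyc⟩ := Groth.Agent.S4713.result X Z hZclosed hZne
    exact hyZ ((Groth.Agent.Lib.Helper45.RefHullStalk.stalkMap_bidualMap_bijective_iff
      F hF y).mpr (h y hyc))
  tfae_finish

end Groth.Agent.S16080
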