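import Groth.Statements.S16081
import Groth.Agent.Lib.Helper45.RefHullStalk
import Groth.Agent.Lib.Helper45.ReflexiveAlg
import Groth.Agent.Lib.Helper12.QuasiFlat

set_option autoImplicit false
universe u
open CategoryTheory CategoryTheory.Limits AlgebraicGeometry TopologicalSpace
open SDiv

namespace Groth.Agent.S16081

/-- Let X be an integral locally Noetherian scheme and F, G coherent O_X-modules with G reflexive. Then
the sheaf Hom 𝓗om_{O_X}(F, G) is reflexive: its canonical map into its reflexive hull is an
isomorphism. -/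
theorem result (X : Scheme.{u}) [IsIntegral X] [IsLocallyNoetherian X] (F G : X.Modules)
    (hF : Coh.IsCoh F) (hG : Coh.IsCoh G) (hGr : RefHull.IsReflexive G) :
    RefHull.IsReflexive (RefHull.homSh F G) := by
  have hH : Coh.IsCoh (RefHull.homSh F G) :=
    Groth.Agent.Lib.Helper45.RefHullCoh.isCoh_homSh F G hF hG
  rw [Groth.Agent.Lib.Helper45.RefHullStalk.isReflexive_iff_forall_isReflexiveAt _ hH]
  intro x
  have hGx : Module.IsReflexive (X.presheaf.stalk x) (G.presheaf.stalk x) :=
    (Groth.Agent.Lib.Helper45.RefHullStalk.isReflexive_iff_forall_isReflexiveAt G hG).mp hGr x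
  have hFfin : Module.Finite (X.presheaf.stalk x) (F.presheaf.stalk x) :=
    Groth.Agent.Lib.Helper12.QuasiFlat.finite_stalk_of_isCoh F hF x
  have hGfin : Module.Finite (X.presheaf.stalk x) (G.presheaf.stalk x) :=
    Groth.Agent.Lib.Helper12.QuasiFlat.finite_stalk_of_isCoh G hG x
  have hrefl : Module.IsReflexive (X.presheaf.stalk x)
      (F.presheaf.stalk x →ₗ[X.presheaf.stalk x] G.presheaf.stalk x) :=
    Groth.Agent.Lib.Helper45.ReflexiveAlg.isReflexive_linearMap (X.presheaf.stalk x)
      (F.presheaf.stalk x) (G.presheaf.stalk x)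
  let e : (RefHull.homSh F G).presheaf.stalk x ≃ₗ[X.presheaf.stalk x]
      (F.presheaf.stalk x →ₗ[X.presheaf.stalk x] G.presheaf.stalk x) :=
    LinearEquiv.ofBijective (RefHull.evalStalk F G x)
      (Groth.Agent.Lib.Helper45.RefHullHom.evalStalk_bijective_of_isFP F G
        (Groth.Agent.Lib.Helper45.RefHullCoh.isFP_of_isCoh F hF) x)
  exact Module.equiv e.symm

end Groth.Agent.S16081
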