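import Groth.Statements.S16083
import Groth.Agent.Lib.Helper45.HomExtend
import Groth.Agent.Lib.Helper45.BidualDVR

set_option autoImplicit false
set_option linter.style.haveILetI false
universe u
open CategoryTheory CategoryTheory.Limits AlgebraicGeometry TopologicalSpace
open SDiv

namespace Groth.Agent.S16083

/-- Suppose X is a normal scheme that is integral and locally Noetherian, write η for its generic point,
let F and G be coherent O_X-modules, and let T : G_η → F_η be an O_{X,η}-linear map of generic
stalks. Then T extends to a morphism G ⟶ F^** — there is a morphism ψ whose stalk map at η is T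
followed by the stalk map at η of the canonical map F ⟶ F^** — if and only if for every point x with
dim O_{X,x} = 1 the map T sends the image of G_x in G_η into the image of F_x in F_η. -/
theorem result (X : Scheme.{u}) [IsIntegral X] [IsLocallyNoetherian X]
    (hX : Pi1.IsNormalScheme X) (F G : X.Modules) (hF : Coh.IsCoh F) (hG : Coh.IsCoh G)
    (T : ↑(G.presheaf.stalk (genericPoint ↥X)) →ₗ[↑(X.presheaf.stalk (genericPoint ↥X))]
      ↑(F.presheaf.stalk (genericPoint ↥X))) :
    (∃ ψ : G ⟶ RefHull.ddual F, RefHull.stalkMapₗ ψ (genericPoint ↥X) =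
        (RefHull.stalkMapₗ (RefHull.bidualMap F) (genericPoint ↥X)).comp T) ↔
      ∀ x : ↥X, ringKrullDim ↑(X.presheaf.stalk x) = 1 →
        Set.MapsTo ⇑T
          (Set.range ⇑(G.presheaf.stalkSpecializes ((genericPoint_spec ↥X).specializes (Set.mem_univ x))).hom)
          (Set.range ⇑(F.presheaf.stalkSpecializes ((genericPoint_spec ↥X).specializes (Set.mem_univ x))).hom) := by
  classical
  have hdom : ∀ x : X, IsDomain (X.presheaf.stalk x) := fun x => (hX x).1
  have hic : ∀ x : X, IsIntegrallyClosed (X.presheaf.stalk x) := fun x => (hX x).2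
  have hFq : F.IsQuasicoherent := hF.1
  have hGq : G.IsQuasicoherent := hG.1
  have hHcoh : Coh.IsCoh (RefHull.ddual F) :=
    Groth.Agent.Lib.Helper45.RefHullStalk.isCoh_ddual F hF
  have hHr : ∀ x : X, Module.IsReflexive (X.presheaf.stalk x)
      ((RefHull.ddual F).presheaf.stalk x) := fun x => by
    have := hdom x
    exact Groth.Agent.Lib.Helper45.BidualDVR.isReflexive_stalk_ddual F hF x
  have hHq : (RefHull.ddual F).IsQuasicoherent := hHcoh.1
  have hHtf : TorSh.IsTorsionFree (RefHull.ddual F) := fun x => by
    have := hdom x
    have := hHr x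
    infer_instance
  have hfield : IsField (X.presheaf.stalk (genericPoint X)) :=
    Groth.Agent.Lib.Helper45.Rank1Invertible.isField_stalk_genericPoint
  constructor
  · -- (⇒)
    rintro ⟨ψ, hψ⟩ x hx _ ⟨γ, rfl⟩
    have := hdom x
    have := hic x
    have hpid : IsPrincipalIdealRing (X.presheaf.stalk x) :=
      Groth.Agent.Lib.Helper45.BidualDVR.isPrincipalIdealRing_of_ringKrullDim_eq_one _ hx
    obtain ⟨φ, hφ⟩ := Groth.Agent.Lib.Helper45.BidualDVR.stalkMapₗ_bidualMap_surjective F hF x
      (RefHull.stalkMapₗ ψ x γ)
    refine ⟨φ, ?_⟩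
    -- injectivity of the bidual map at the generic point
    have hinjη : Function.Injective
        (RefHull.stalkMapₗ (RefHull.bidualMap F) (genericPoint X)) := by
      have hrefl : RefHull.IsReflexiveAt F (genericPoint X) := by
        letI : Field (X.presheaf.stalk (genericPoint X)) := hfield.toField
        haveI : Module.Finite (X.presheaf.stalk (genericPoint X))
            (F.presheaf.stalk (genericPoint X)) :=
          Groth.Agent.Lib.Helper12.QuasiFlat.finite_stalk_of_isCoh F hF _
        change Module.IsReflexive (X.presheaf.stalk (genericPoint X))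
          (F.presheaf.stalk (genericPoint X))
        infer_instance
      exact ((Groth.Agent.Lib.Helper45.RefHullStalk.stalkMap_bidualMap_bijective_iff F hF
        (genericPoint X)).mpr hrefl).1
    apply hinjη
    have h1 := Groth.Agent.Lib.Helper45.HomExtend.stalkMapₗ_stalkSpecializes (RefHull.bidualMap F)
      (genericPoint_specializes x) φ
    have h2 := Groth.Agent.Lib.Helper45.HomExtend.stalkMapₗ_stalkSpecializes ψ
      (genericPoint_specializes x) γ
    have h3 := LinearMap.congr_fun hψ (G.presheaf.stalkSpecializes (genericPoint_specializes x) γ)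
    rw [LinearMap.comp_apply] at h3
    refine Eq.trans h1 ?_
    rw [hφ, ← h2]
    exact h3
  · -- (⇐)
    intro h
    refine Groth.Agent.Lib.Helper45.HomExtend.exists_hom_of_codim_one G (RefHull.ddual F) hG hHcoh
      hHr (fun x hx => by
        have := hdom x
        have := hic x
        exact Groth.Agent.Lib.Helper45.RefHullDepth.two_le_depth_of_isIntegrallyClosed _ hx)
      ((RefHull.stalkMapₗ (RefHull.bidualMap F) (genericPoint X)).comp T) ?_
    intro x hx γ
    by_cases hx1 : ringKrullDim (X.presheaf.stalk x) = 1
    · obtain ⟨φ, hφ⟩ := h x hx1 ⟨γ, rfl⟩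
      refine ⟨RefHull.stalkMapₗ (RefHull.bidualMap F) x φ, ?_⟩
      rw [← Groth.Agent.Lib.Helper45.HomExtend.stalkMapₗ_stalkSpecializes, LinearMap.comp_apply]
      exact congrArg _ hφ
    · -- dimension zero: `x` is the generic point
      have hx0 : ringKrullDim (X.presheaf.stalk x) ≤ 0 := by
        rw [ringKrullDim_stalk_eq_coheight] at hx hx1 ⊢
        have hx' : Order.coheight x ≤ 1 := by exact_mod_cast hx
        have hx1' : Order.coheight x ≠ 1 := fun h => hx1 (by rw [h]; rfl)
        have : Order.coheight x = 0 := by
          rcases lt_or_eq_of_le hx' with h | h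
          · exact Order.lt_one_iff.mp h
          · exact absurd h hx1'
        rw [this]
        rfl
      have := hdom x
      haveI : Ring.KrullDimLE 0 (X.presheaf.stalk x) := (Ring.krullDimLE_iff).mpr hx0
      have hfx : IsField (X.presheaf.stalk x) := Ring.KrullDimLE.isField_of_isDomain
      have hxη : x = genericPoint X :=
        Groth.Agent.Lib.Helper45.Rank1Section.eq_genericPoint_of_isField x hfx
      subst hxη
      refine ⟨(RefHull.stalkMapₗ (RefHull.bidualMap F) (genericPoint X)).comp T γ, ?_⟩
      have e1 : ∀ (Z : X.Modules) (ζ : Z.presheaf.stalk (genericPoint X)),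
          Z.presheaf.stalkSpecializes (genericPoint_specializes (genericPoint X)) ζ = ζ := by
        intro Z ζ
        have := TopCat.Presheaf.stalkSpecializes_refl (F := Z.presheaf) (genericPoint X)
        exact congrArg (fun f => f.hom ζ) this
      rw [e1, e1]

end Groth.Agent.S16083
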