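import Groth.Statements.S16084
import Groth.Agent.Lib.Helper45.Rank1Section

set_option autoImplicit false
universe u
open CategoryTheory CategoryTheory.Limits AlgebraicGeometry TopologicalSpace
open SDiv

namespace Groth.Agent.S16084

/-- Let X be an integral locally Noetherian normal scheme, F a rank one coherent reflexive O_X-module
and s a nonzero global section of F. Let Z be the set of points x at which multiplication by the
germ of s, O_{X,x} → F_x, fails to be bijective (the complement of the open where s generates F).
Then every irreducible component of Z has codimension 1 in X: at each point z of Z to which no other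
point of Z specializes, the local ring O_{X,z} has dimension 1. -/
theorem result (X : Scheme.{u}) [IsIntegral X] [IsLocallyNoetherian X]
    (hX : Pi1.IsNormalScheme X) (F : X.Modules) (hF : RefHull.IsRef1 F) (s : Γ(F, ⊤)) (hs : s ≠ 0) (z : ↥X)
    (hz : ¬ Function.Bijective fun a : ↑(X.presheaf.stalk z) => a • F.presheaf.germ ⊤ z trivial s)
    (hmax : ∀ y : ↥X, ¬ Function.Bijective (fun a : ↑(X.presheaf.stalk y) => a • F.presheaf.germ ⊤ y trivial s) →
      y ⤳ z → y = z) :
    ringKrullDim ↑(X.presheaf.stalk z) = 1 := by
  classical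
  obtain ⟨hcoh, hrefl, hgen⟩ := hF
  have hreflAt := (Groth.Agent.Lib.Helper45.RefHullStalk.isReflexive_iff_forall_isReflexiveAt
    F hcoh).mp hrefl
  -- stalks: domains, integrally closed, finite reflexive (hence torsion-free) modules
  have hdom : ∀ x : X, IsDomain (X.presheaf.stalk x) := fun x => (hX x).1
  have hic : ∀ x : X, IsIntegrallyClosed (X.presheaf.stalk x) := fun x => (hX x).2
  have hfin : ∀ x : X, Module.Finite (X.presheaf.stalk x) (F.presheaf.stalk x) :=
    fun x => Groth.Agent.Lib.Helper12.QuasiFlat.finite_stalk_of_isCoh F hcoh x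
  have hrf : ∀ x : X, Module.IsReflexive (X.presheaf.stalk x) (F.presheaf.stalk x) := hreflAt
  have htf : ∀ x : X, Module.IsTorsionFree (X.presheaf.stalk x) (F.presheaf.stalk x) :=
    fun x => by
      have := hdom x
      have := hrf x
      infer_instance
  -- depth ≥ 1 away from the generic point
  have hdepth1 : ∀ x : X, x ≠ genericPoint X →
      (1 : ℕ∞) ≤ LocCoh.depth (X.presheaf.stalk x) (F.presheaf.stalk x) := by
    intro x hx
    have := hdom x
    have := hfin x
    have := htf x
    exact Groth.Agent.Lib.Helper45.RefHullDepth.one_le_depth_of_isTorsionFree _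
      (fun hf => hx (Groth.Agent.Lib.Helper45.Rank1Section.eq_genericPoint_of_isField x hf)) _
  have hgerm : ∀ y : X, F.presheaf.germ ⊤ y trivial s ≠ 0 :=
    Groth.Agent.Lib.Helper45.Rank1Section.germ_ne_zero F hcoh hdepth1 s hs
  -- injectivity everywhere
  have hinj : ∀ y : X, Function.Injective
      (fun a : ↑(X.presheaf.stalk y) => a • F.presheaf.germ ⊤ y trivial s) := by
    intro y
    have := hdom y
    have := htf y
    intro a b hab
    have h1 : (a - b) • F.presheaf.germ ⊤ y trivial s = 0 := by
      rw [sub_smul]
      exact sub_eq_zero.mpr hab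
    rcases smul_eq_zero.mp h1 with h | h
    · exact sub_eq_zero.mp h
    · exact absurd h (hgerm y)
  -- bijectivity at the generic point
  have hbijη : Function.Bijective
      (fun a : ↑(X.presheaf.stalk (genericPoint X)) =>
        a • F.presheaf.germ ⊤ (genericPoint X) trivial s) := by
    refine ⟨hinj _, ?_⟩
    obtain ⟨g, hg⟩ :=
      Groth.Agent.Lib.Helper45.Rank1Section.exists_generator_stalk_genericPoint F hgen
    obtain ⟨c₀, hc₀⟩ := hg (F.presheaf.germ ⊤ (genericPoint X) trivial s)
    have hc₀ne : c₀ ≠ 0 := by
      rintro rfl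
      rw [zero_smul] at hc₀
      exact hgerm _ hc₀
    have hfield : IsField (X.presheaf.stalk (genericPoint X)) := by
      have h1 : ringKrullDim (X.presheaf.stalk (genericPoint X)) = 0 := by
        rw [ringKrullDim_stalk_eq_coheight]
        have : Order.coheight (genericPoint X) = 0 := by
          rw [Order.coheight_eq_zero]
          intro b _
          exact Scheme.le_iff_specializes.mpr (genericPoint_specializes b)
        exact_mod_cast this
      have := hdom (genericPoint X)
      have : Ring.KrullDimLE 0 (X.presheaf.stalk (genericPoint X)) :=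
        (Ring.krullDimLE_iff).mpr h1.le
      exact Ring.KrullDimLE.isField_of_isDomain
    obtain ⟨d, hd⟩ := hfield.mul_inv_cancel hc₀ne
    intro b
    obtain ⟨c, hc⟩ := hg b
    refine ⟨c * d, ?_⟩
    change (c * d) • F.presheaf.germ ⊤ (genericPoint X) trivial s = b
    rw [hc₀, smul_smul, mul_assoc, mul_comm d c₀, hd, mul_one, hc]
  have hzη : z ≠ genericPoint X := by
    rintro rfl
    exact hz hbijη
  -- dimension ≤ 1
  have hle1 : ringKrullDim ↑(X.presheaf.stalk z) ≤ 1 := by
    by_contra hdim
    apply hz
    have := hdom z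
    have := hic z
    have hOz : (2 : ℕ∞) ≤ LocCoh.depth (X.presheaf.stalk z) (X.presheaf.stalk z) :=
      Groth.Agent.Lib.Helper45.RefHullDepth.two_le_depth_of_isIntegrallyClosed _ hdim
    have hGz : (2 : ℕ∞) ≤ LocCoh.depth (X.presheaf.stalk z)
        ((Coh.structureModule X).presheaf.stalk z) := by
      have := Groth.Agent.Lib.Helper29.idealDepth_congr
        (IsLocalRing.maximalIdeal (X.presheaf.stalk z))
        (Groth.Agent.Lib.Helper45.RefHullStalk.unitStalkEquiv z)
      rw [Groth.Agent.Lib.Helper45.RefHullDepth.depth_eq_idealDepth, this]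
      exact hOz
    rw [Groth.Agent.Lib.Helper45.SectionHom.bijective_smul_germ_iff]
    refine ⟨(Groth.Agent.Lib.Helper45.SectionHom.injective_smul_germ_iff F s z).mp (hinj z), ?_⟩
    refine Groth.Agent.Lib.Helper45.StalkSurjCodim.stalkMap_surjective_of_depth
      (Groth.Agent.Lib.Helper45.RefHullStalk.isCoh_structureModule X) hcoh
      (Groth.Agent.Lib.Helper45.SectionHom.sectionHom F s) z hGz (hdepth1 z hzη)
      ((Groth.Agent.Lib.Helper45.SectionHom.injective_smul_germ_iff F s z).mp (hinj z)) ?_
    intro y hyz hne
    have hb : Function.Bijective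
        (fun a : ↑(X.presheaf.stalk y) => a • F.presheaf.germ ⊤ y trivial s) := by
      by_contra hnb
      exact hne (hmax y hnb hyz)
    exact ((Groth.Agent.Lib.Helper45.SectionHom.bijective_smul_germ_iff F s y).mp hb).2
  -- dimension ≠ 0
  have hne0 : ringKrullDim ↑(X.presheaf.stalk z) ≠ 0 := by
    intro h0
    have := hdom z
    have : Ring.KrullDimLE 0 (X.presheaf.stalk z) := (Ring.krullDimLE_iff).mpr h0.le
    exact hzη (Groth.Agent.Lib.Helper45.Rank1Section.eq_genericPoint_of_isField z
      Ring.KrullDimLE.isField_of_isDomain)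
  rw [ringKrullDim_stalk_eq_coheight] at hle1 hne0 ⊢
  have h1 : Order.coheight z ≤ 1 := by exact_mod_cast hle1
  have h2 : Order.coheight z ≠ 0 := by
    intro h
    apply hne0
    rw [h]
    rfl
  have h3 : Order.coheight z = 1 := le_antisymm h1 (Order.one_le_iff_pos.mpr (pos_iff_ne_zero.mpr h2))
  rw [h3]
  rfl

end Groth.Agent.S16084
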