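import Groth.Statements.S16085
import Groth.Agent.Lib.Helper45.Ref1Group

set_option autoImplicit false
universe u
open CategoryTheory CategoryTheory.Limits AlgebraicGeometry TopologicalSpace
open SDiv

namespace Groth.Agent.S16085

/-- Let X be an integral locally Noetherian normal scheme. Sending (F, G) to the reflexive hull (F
⊗_{O_X} G)^** makes the isomorphism classes of rank one coherent reflexive O_X-modules into an
abelian group: on that set there are a commutative and associative composition law, a neutral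
element and inverses, such that the product of the classes of F and G is the class of the reflexive
hull of F ⊗_{O_X} G, the neutral element is the class of O_X, and the inverse of the class of F is
the class of its dual 𝓗om_{O_X}(F, O_X). -/
theorem result (X : Scheme.{u}) [IsIntegral X] [IsLocallyNoetherian X] (hX : Pi1.IsNormalScheme X) :
    ∃ (mul : {c : PicF.Cl X // ∃ F : X.Modules, PicF.cl F = c ∧ RefHull.IsRef1 F} →
          {c : PicF.Cl X // ∃ F : X.Modules, PicF.cl F = c ∧ RefHull.IsRef1 F} →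
            {c : PicF.Cl X // ∃ F : X.Modules, PicF.cl F = c ∧ RefHull.IsRef1 F})
      (one : {c : PicF.Cl X // ∃ F : X.Modules, PicF.cl F = c ∧ RefHull.IsRef1 F})
      (inv : {c : PicF.Cl X // ∃ F : X.Modules, PicF.cl F = c ∧ RefHull.IsRef1 F} →
          {c : PicF.Cl X // ∃ F : X.Modules, PicF.cl F = c ∧ RefHull.IsRef1 F}),
      (∀ a b, mul a b = mul b a) ∧ (∀ a b c, mul (mul a b) c = mul a (mul b c)) ∧ (∀ a, mul one a = a) ∧
        (∀ a, mul (inv a) a = one) ∧
        (∀ (F G : X.Modules) (hF : RefHull.IsRef1 F) (hG : RefHull.IsRef1 G),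
          (mul ⟨PicF.cl F, F, rfl, hF⟩ ⟨PicF.cl G, G, rfl, hG⟩).1 = PicF.cl (RefHull.ddual (CohB1.tensorMod F G))) ∧
        one.1 = PicF.cl (Coh.structureModule X) ∧
        (∀ (F : X.Modules) (hF : RefHull.IsRef1 F), (inv ⟨PicF.cl F, F, rfl, hF⟩).1 = PicF.cl (RefHull.dual F)) := by
  classical
  have hrep : ∀ c : {c : PicF.Cl X // ∃ F : X.Modules, PicF.cl F = c ∧ RefHull.IsRef1 F},
      PicF.cl (Classical.choose c.2) = c.1 ∧ RefHull.IsRef1 (Classical.choose c.2) :=
    fun c => Classical.choose_spec c.2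
  -- divisors of the chosen representatives
  have hdiv : ∀ c : {c : PicF.Cl X // ∃ F : X.Modules, PicF.cl F = c ∧ RefHull.IsRef1 F},
      ∃ d : X → ℤ, Groth.Agent.Lib.Helper45.Ref1Group.HasDiv (Classical.choose c.2) d :=
    fun c => Groth.Agent.Lib.Helper45.Ref1Group.exists_hasDiv _ (hrep c).2
  choose dv hdv using hdiv
  refine ⟨fun a b => ⟨PicF.cl (RefHull.ddual (CohB1.tensorMod (Classical.choose a.2)
      (Classical.choose b.2))), _, rfl,
      Groth.Agent.Lib.Helper45.Ref1Dual.isRef1_ddual_tensor hX _ _ (hrep a).2 (hrep b).2⟩,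
    ⟨PicF.cl (Coh.structureModule X), _, rfl,
      Groth.Agent.Lib.Helper45.Ref1Dual.isRef1_structureModule⟩,
    fun a => ⟨PicF.cl (RefHull.dual (Classical.choose a.2)), _, rfl,
      Groth.Agent.Lib.Helper45.Ref1Dual.isRef1_dual _ (hrep a).2 hX⟩, ?_, ?_, ?_, ?_, ?_, ?_, ?_⟩
  · -- commutativity
    intro a b
    apply Subtype.ext
    refine Groth.Agent.Lib.Helper45.Ref1Group.cl_eq_of_linEq hX
      ((hdv a).tensor hX (hdv b)) ((hdv b).tensor hX (hdv a)) ?_
    rw [add_comm]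
    exact Groth.Agent.Lib.Helper45.Ref1Group.LinEq.refl _
  · -- associativity
    intro a b c
    apply Subtype.ext
    obtain ⟨dab, hdab, hlab⟩ := Groth.Agent.Lib.Helper45.Ref1Group.exists_hasDiv_of_cl_eq hX
      ((hdv a).tensor hX (hdv b)) (hrep ⟨_, _, rfl,
        Groth.Agent.Lib.Helper45.Ref1Dual.isRef1_ddual_tensor hX _ _ (hrep a).2 (hrep b).2⟩).2
      (hrep ⟨_, _, rfl,
        Groth.Agent.Lib.Helper45.Ref1Dual.isRef1_ddual_tensor hX _ _ (hrep a).2 (hrep b).2⟩).1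
    obtain ⟨dbc, hdbc, hlbc⟩ := Groth.Agent.Lib.Helper45.Ref1Group.exists_hasDiv_of_cl_eq hX
      ((hdv b).tensor hX (hdv c)) (hrep ⟨_, _, rfl,
        Groth.Agent.Lib.Helper45.Ref1Dual.isRef1_ddual_tensor hX _ _ (hrep b).2 (hrep c).2⟩).2
      (hrep ⟨_, _, rfl,
        Groth.Agent.Lib.Helper45.Ref1Dual.isRef1_ddual_tensor hX _ _ (hrep b).2 (hrep c).2⟩).1
    refine Groth.Agent.Lib.Helper45.Ref1Group.cl_eq_of_linEq hX
      (hdab.tensor hX (hdv c)) ((hdv a).tensor hX hdbc) ?_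
    have h1 := hlab.add (Groth.Agent.Lib.Helper45.Ref1Group.LinEq.refl (dv c))
    have h2 := (Groth.Agent.Lib.Helper45.Ref1Group.LinEq.refl (dv a)).add hlbc.symm
    rw [add_assoc] at h1
    exact h1.trans h2
  · -- unit
    intro a
    apply Subtype.ext
    obtain ⟨d1, hd1, hl1⟩ := Groth.Agent.Lib.Helper45.Ref1Group.exists_hasDiv_of_cl_eq hX
      (Groth.Agent.Lib.Helper45.Ref1Group.hasDiv_structureModule (X := X))
      (hrep ⟨_, _, rfl, Groth.Agent.Lib.Helper45.Ref1Dual.isRef1_structureModule⟩).2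
      (hrep ⟨_, _, rfl, Groth.Agent.Lib.Helper45.Ref1Dual.isRef1_structureModule⟩).1
    refine (Groth.Agent.Lib.Helper45.Ref1Group.cl_eq_of_linEq hX
      (hd1.tensor hX (hdv a)) (hdv a) ?_).trans (hrep a).1
    have h1 := hl1.add (Groth.Agent.Lib.Helper45.Ref1Group.LinEq.refl (dv a))
    rw [zero_add] at h1
    exact h1
  · -- inverse
    intro a
    apply Subtype.ext
    obtain ⟨di, hdi, hli⟩ := Groth.Agent.Lib.Helper45.Ref1Group.exists_hasDiv_of_cl_eq hX
      ((hdv a).dual hX)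
      (hrep ⟨_, _, rfl, Groth.Agent.Lib.Helper45.Ref1Dual.isRef1_dual _ (hrep a).2 hX⟩).2
      (hrep ⟨_, _, rfl, Groth.Agent.Lib.Helper45.Ref1Dual.isRef1_dual _ (hrep a).2 hX⟩).1
    refine Groth.Agent.Lib.Helper45.Ref1Group.cl_eq_of_linEq hX
      (hdi.tensor hX (hdv a)) (Groth.Agent.Lib.Helper45.Ref1Group.hasDiv_structureModule (X := X)) ?_
    have h1 := hli.add (Groth.Agent.Lib.Helper45.Ref1Group.LinEq.refl (dv a))
    rw [neg_add_cancel] at h1
    exact h1
  · -- the product of the classes of `F` and `G`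
    intro F G hF hG
    obtain ⟨dF, hdF⟩ := Groth.Agent.Lib.Helper45.Ref1Group.exists_hasDiv F hF
    obtain ⟨dG, hdG⟩ := Groth.Agent.Lib.Helper45.Ref1Group.exists_hasDiv G hG
    obtain ⟨dF', hdF', hlF⟩ := Groth.Agent.Lib.Helper45.Ref1Group.exists_hasDiv_of_cl_eq hX hdF
      (hrep ⟨PicF.cl F, F, rfl, hF⟩).2 (hrep ⟨PicF.cl F, F, rfl, hF⟩).1
    obtain ⟨dG', hdG', hlG⟩ := Groth.Agent.Lib.Helper45.Ref1Group.exists_hasDiv_of_cl_eq hX hdG
      (hrep ⟨PicF.cl G, G, rfl, hG⟩).2 (hrep ⟨PicF.cl G, G, rfl, hG⟩).1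
    exact Groth.Agent.Lib.Helper45.Ref1Group.cl_eq_of_linEq hX
      (hdF'.tensor hX hdG') (hdF.tensor hX hdG) (hlF.add hlG)
  · rfl
  · intro F hF
    obtain ⟨dF, hdF⟩ := Groth.Agent.Lib.Helper45.Ref1Group.exists_hasDiv F hF
    obtain ⟨dF', hdF', hlF⟩ := Groth.Agent.Lib.Helper45.Ref1Group.exists_hasDiv_of_cl_eq hX hdF
      (hrep ⟨PicF.cl F, F, rfl, hF⟩).2 (hrep ⟨PicF.cl F, F, rfl, hF⟩).1
    exact Groth.Agent.Lib.Helper45.Ref1Group.cl_eq_of_linEq hX
      (hdF'.dual hX) (hdF.dual hX) hlF.neg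

end Groth.Agent.S16085
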