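import Groth.Statements.S16087
import Groth.Agent.Lib.Helper45.DivIdealMod
import Groth.Agent.Lib.Helper45.DivLocFinite

set_option autoImplicit false
universe u
open CategoryTheory CategoryTheory.Limits AlgebraicGeometry TopologicalSpace
open SDiv

namespace Groth.Agent.S16087

/-- The class map takes values in Weil divisor classes and is surjective: suppose X is a normal scheme
that is integral and locally Noetherian, and denote its generic point by η. For a rank one coherent
reflexive O_X-module F and a nonzero rational section s ∈ F_η write ord_{x,F}(s) for the order of s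
with respect to a generator of the free rank one O_{X,x}-module F_x at a point x of codimension 1.
Then (1) the function sending a codimension-1 point x to ord_{x,F}(s) and every other point to 0 has
locally finite support, so it is a Weil divisor; and (2) every Weil divisor D on X (an
integer-valued function with locally finite support vanishing outside the codimension-1 points)
arises this way: D(x) = ord_{x,F}(s) at all codimension-1 points x for some rank one coherent
reflexive F and nonzero s ∈ F_η. -/
theorem result (X : Scheme.{u}) [IsIntegral X] [IsLocallyNoetherian X]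
    (hX : Pi1.IsNormalScheme X) :
    (∀ (F : X.Modules) (hF : RefHull.IsRef1 F) (s : Cyc.secFibre F (genericPoint ↥X)), s ≠ 0 →
        ∃ D : AlgebraicCycle X ℤ, (∀ x : ↥X, Order.coheight x ≠ 1 → D x = 0) ∧
          ∀ (x : ↥X), Order.coheight x = 1 →
            D x = Cyc.secOrdAt F (genericPoint ↥X) x ((genericPoint_spec ↥X).specializes (Set.mem_univ x)) s) ∧
      ∀ D : AlgebraicCycle X ℤ, (∀ x : ↥X, Order.coheight x ≠ 1 → D x = 0) →
        ∃ (F : X.Modules) (_ : RefHull.IsRef1 F) (s : Cyc.secFibre F (genericPoint ↥X)), s ≠ 0 ∧
          ∀ (x : ↥X), Order.coheight x = 1 →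
            D x = Cyc.secOrdAt F (genericPoint ↥X) x ((genericPoint_spec ↥X).specializes (Set.mem_univ x)) s := by
  classical
  refine ⟨fun F hF s hs => ?_, fun D hD0 => ?_⟩
  · have hd0 : ∀ x : X, Order.coheight x ≠ 1 →
        (fun x : X => if Order.coheight x = 1 then
          Cyc.secOrdAt F (genericPoint ↥X) x (genericPoint_specializes x) s else 0) x = 0 :=
      fun x hx => if_neg hx
    have hd : ∀ x : X, Order.coheight x = 1 →
        (fun x : X => if Order.coheight x = 1 then
          Cyc.secOrdAt F (genericPoint ↥X) x (genericPoint_specializes x) s else 0) x =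
          Cyc.secOrdAt F (genericPoint ↥X) x (genericPoint_specializes x) s :=
      fun x hx => if_pos hx
    refine ⟨⟨_, fun _ _ => Set.mem_univ _, fun z _ =>
      Groth.Agent.Lib.Helper45.DivLocFinite.secOrd_locallyFinite hX F hF s hs _ hd0 hd z⟩,
      fun x hx => hd0 x hx, fun x hx => hd x hx⟩
  · obtain ⟨F, hF, σ, hσ, hd⟩ := Groth.Agent.Lib.Helper45.DivIdealMod.exists_hasDiv hX (fun x => D x)
      (Function.locallyFinsupp.locallyFiniteSupport D) hD0
    refine ⟨F, hF, Submodule.Quotient.mk σ, fun h0 => hσ ?_, fun x hx => (hd x hx).symm⟩
    exact (Groth.Agent.Lib.Helper45.OrdGeneric.secFibre_mk_eq_iff F σ 0).mp h0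

end Groth.Agent.S16087
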