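import Groth.Statements.S16092
import Groth.Agent.Lib.Helper45.InvOrd
import Groth.Agent.Lib.Helper11.TensorBasis

set_option autoImplicit false
set_option linter.style.haveILetI false
universe u
open CategoryTheory CategoryTheory.Limits AlgebraicGeometry TopologicalSpace
open SDiv
open Groth.Agent.Lib.Helper45 Groth.Agent.Lib.Helper49 Groth.Agent.Lib.Helper11.GenLocus

namespace Groth.Agent.S16092

/-- Let X be an integral scheme that is locally Noetherian, with generic point η, let L and N be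
invertible O_X-modules and s ∈ L_η, t ∈ N_η nonzero rational sections, with orders ord_{x,L}(s),
ord_{x,N}(t) along the prime divisors, i.e. at the points x with dim O_{X,x} = 1, taken with respect
to generators of the stalks. Then L ⊗_{O_X} N has a nonzero rational section w with ord_{x,L ⊗ N}(w)
= ord_{x,L}(s) + ord_{x,N}(t) at every such x; hence the Weil divisor class of L ⊗ N is the sum of
the classes of L and N. The published statement names w as the product s·t; here only the existence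
of such a w is asserted. -/
theorem result (X : Scheme.{u}) [IsIntegral X] [IsLocallyNoetherian X] (L N : X.Modules)
    (hL : PicF.IsInvertible L) (hN : PicF.IsInvertible N) (s : Cyc.secFibre L (genericPoint ↥X)) (hs : s ≠ 0)
    (t : Cyc.secFibre N (genericPoint ↥X)) (ht : t ≠ 0) :
    ∃ w : Cyc.secFibre (CohB1.tensorMod L N) (genericPoint ↥X), w ≠ 0 ∧
      ∀ (x : ↥X), ringKrullDim ↑(X.presheaf.stalk x) = 1 →
        Cyc.secOrdAt (CohB1.tensorMod L N) (genericPoint ↥X) x ((genericPoint_spec ↥X).specializes (Set.mem_univ x)) w =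
          Cyc.secOrdAt L (genericPoint ↥X) x ((genericPoint_spec ↥X).specializes (Set.mem_univ x)) s +
            Cyc.secOrdAt N (genericPoint ↥X) x ((genericPoint_spec ↥X).specializes (Set.mem_univ x)) t := by
  classical
  letI : Field (X.presheaf.stalk (genericPoint X)) := inferInstanceAs (Field X.functionField)
  obtain ⟨σL, rfl⟩ := Groth.Agent.Lib.Helper45.OrdGeneric.secFibre_mk_surjective L s
  obtain ⟨σN, rfl⟩ := Groth.Agent.Lib.Helper45.OrdGeneric.secFibre_mk_surjective N t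
  have hσL : σL ≠ 0 := by
    rintro rfl
    exact hs rfl
  have hσN : σN ≠ 0 := by
    rintro rfl
    exact ht rfl
  obtain ⟨UL, hηUL, mL, rfl⟩ := TopCat.Presheaf.exists_germ_eq L.presheaf σL
  obtain ⟨UN, hηUN, mN, rfl⟩ := TopCat.Presheaf.exists_germ_eq N.presheaf σN
  have hηU : genericPoint X ∈ UL ⊓ UN := ⟨hηUL, hηUN⟩
  let m : Γ(CohB1.tensorMod L N, UL ⊓ UN) :=
    tm L N (UL ⊓ UN) (mres L inf_le_left mL) (mres N inf_le_right mN)
  have core : ∀ x : X, ∃ (W : X.Opens) (_ : x ∈ W) (hηW : genericPoint X ∈ W) (τL : Γ(L, W))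
      (τN : Γ(N, W)) (_ : IsBasisOn L W τL) (_ : IsBasisOn N W τN)
      (φL φN : X.presheaf.stalk (genericPoint X)),
      L.presheaf.germ UL (genericPoint X) hηUL mL =
        φL • L.presheaf.germ W (genericPoint X) hηW τL ∧
      N.presheaf.germ UN (genericPoint X) hηUN mN =
        φN • N.presheaf.germ W (genericPoint X) hηW τN ∧
      (CohB1.tensorMod L N).presheaf.germ (UL ⊓ UN) (genericPoint X) hηU m =
        (φL * φN) • (CohB1.tensorMod L N).presheaf.germ W (genericPoint X) hηW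
          (tm L N W τL τN) := by
    intro x
    obtain ⟨WL, hxWL, τL, hτL⟩ := exists_isBasisOn_of_isInvertible hL x
    obtain ⟨WN, hxWN, τN, hτN⟩ := exists_isBasisOn_of_isInvertible hN x
    have hτL' := hτL.mono (inf_le_left : WL ⊓ WN ≤ WL)
    have hτN' := hτN.mono (inf_le_right : WL ⊓ WN ≤ WN)
    have hxW : x ∈ WL ⊓ WN := ⟨hxWL, hxWN⟩
    have hηW : genericPoint X ∈ WL ⊓ WN :=
      (genericPoint_specializes x).mem_open (WL ⊓ WN).isOpen hxW
    have hηO : genericPoint X ∈ (UL ⊓ UN) ⊓ (WL ⊓ WN) := ⟨hηU, hηW⟩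
    have hOW : (UL ⊓ UN) ⊓ (WL ⊓ WN) ≤ WL ⊓ WN := inf_le_right
    have hOU : (UL ⊓ UN) ⊓ (WL ⊓ WN) ≤ UL ⊓ UN := inf_le_left
    have hOUL : (UL ⊓ UN) ⊓ (WL ⊓ WN) ≤ UL := hOU.trans inf_le_left
    have hOUN : (UL ⊓ UN) ⊓ (WL ⊓ WN) ≤ UN := hOU.trans inf_le_right
    obtain ⟨rL, hrL⟩ := (hτL'.mono hOW).exists_eq_smul (mres L hOUL mL)
    obtain ⟨rN, hrN⟩ := (hτN'.mono hOW).exists_eq_smul (mres N hOUN mN)
    refine ⟨WL ⊓ WN, hxW, hηW, _, _, hτL', hτN',
      X.presheaf.germ _ (genericPoint X) hηO rL, X.presheaf.germ _ (genericPoint X) hηO rN,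
      ?_, ?_, ?_⟩
    · rw [← Groth.Agent.Lib.Helper45.InvOrd.germ_mres hOUL _ hηO mL, ← hrL, Mero.germ_smul,
        Groth.Agent.Lib.Helper45.InvOrd.germ_mres]
    · rw [← Groth.Agent.Lib.Helper45.InvOrd.germ_mres hOUN _ hηO mN, ← hrN, Mero.germ_smul,
        Groth.Agent.Lib.Helper45.InvOrd.germ_mres]
    · rw [← Groth.Agent.Lib.Helper45.InvOrd.germ_mres hOU _ hηO m, tm_res, mres_mres, mres_mres,
        ← hrL, ← hrN, tm_smul_left, tm_smul_right, smul_smul, ← tm_res, Mero.germ_smul,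
        Groth.Agent.Lib.Helper45.InvOrd.germ_mres, map_mul]
  refine ⟨Submodule.Quotient.mk
    ((CohB1.tensorMod L N).presheaf.germ (UL ⊓ UN) (genericPoint X) hηU m), ?_, ?_⟩
  · obtain ⟨W, hxW, hηW, τL, τN, hτL, hτN, φL, φN, h1, h2, h3⟩ := core (genericPoint X)
    intro h0
    have h0' := (Groth.Agent.Lib.Helper45.OrdGeneric.secFibre_mk_eq_iff _ _ 0).mp h0
    rw [h3] at h0'
    have h4 := Groth.Agent.Lib.Helper45.InvOrd.germ_basis_ann (isBasisOn_tm hτL hτN) _ hηW _ h0'
    rcases mul_eq_zero.mp h4 with h5 | h5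
    · rw [h5, zero_smul] at h1
      exact hσL h1
    · rw [h5, zero_smul] at h2
      exact hσN h2
  · intro x hx
    obtain ⟨W, hxW, hηW, τL, τN, hτL, hτN, φL, φN, h1, h2, h3⟩ := core x
    have hcx := (Groth.Agent.Lib.Helper45.OrdGeneric.coheight_eq_one_iff x).mpr hx
    have hφL : φL ≠ 0 := by
      rintro rfl
      rw [zero_smul] at h1
      exact hσL h1
    have hφN : φN ≠ 0 := by
      rintro rfl
      rw [zero_smul] at h2
      exact hσN h2
    rw [h1, h2, h3,
      Groth.Agent.Lib.Helper45.InvOrd.secOrdAt_eq_ord_of_isBasisOn hτL x hxW hcx _ φL hηW,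
      Groth.Agent.Lib.Helper45.InvOrd.secOrdAt_eq_ord_of_isBasisOn hτN x hxW hcx _ φN hηW,
      Groth.Agent.Lib.Helper45.InvOrd.secOrdAt_eq_ord_of_isBasisOn (isBasisOn_tm hτL hτN) x hxW
        hcx _ (φL * φN) hηW]
    exact Scheme.ord_mul hφL hφN

end Groth.Agent.S16092
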