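import Groth.Statements.S16104
import Mathlib

set_option autoImplicit false
universe u v

namespace Groth.Agent.S16104

open IsLocalRing

theorem finiteLength_quot_pow (A : Type u) [CommRing A] [IsLocalRing A] [IsNoetherianRing A]
    (n : ℕ) : IsFiniteLength A (A ⧸ maximalIdeal A ^ (n + 1)) := by
  set I := maximalIdeal A ^ (n + 1) with hI_def
  have hIle : I ≤ maximalIdeal A := Ideal.pow_le_self (by omega)
  have hI : I ≠ ⊤ := fun h => (maximalIdeal.isMaximal A).ne_top (top_le_iff.1 (h ▸ hIle))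
  have : Nontrivial (A ⧸ I) := Ideal.Quotient.nontrivial_iff.mpr hI
  have := IsLocalRing.of_surjective' (Ideal.Quotient.mk I) Ideal.Quotient.mk_surjective
  have := IsLocalHom.of_surjective (Ideal.Quotient.mk I) Ideal.Quotient.mk_surjective
  have hmap : (maximalIdeal A).map (Ideal.Quotient.mk I) = maximalIdeal (A ⧸ I) := by
    ext x
    obtain ⟨x, rfl⟩ := Ideal.Quotient.mk_surjective x
    simp [sup_eq_left.mpr (le_maximalIdeal hI)]
  have hnil : IsNilpotent (maximalIdeal (A ⧸ I)) := by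
    refine ⟨n + 1, ?_⟩
    rw [← hmap, ← Ideal.map_pow, Ideal.zero_eq_bot, Ideal.map_eq_bot_iff_le_ker, Ideal.mk_ker]
  have hart : IsArtinianRing (A ⧸ I) := (isArtinianRing_iff_isNilpotent_maximalIdeal _).2 hnil
  rw [isFiniteLength_iff_isNoetherian_isArtinian]
  exact ⟨isNoetherian_quotient I,
    isArtinian_of_surjective_algebraMap (Ideal.Quotient.mk_surjective (I := I))⟩

section

variable (A : Type u) (B : Type v) [CommRing A] [CommRing B] [IsLocalRing A] [IsLocalRing B]
    [IsNoetherianRing A] [IsNoetherianRing B] (φ : A →+* B) [IsLocalHom φ]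
    (h1 : Function.Surjective ((Ideal.Quotient.mk (IsLocalRing.maximalIdeal B ^ 2)).comp φ))

include h1

theorem exists_sub_mem_sq (b : B) : ∃ a : A, φ a - b ∈ maximalIdeal B ^ 2 := by
  obtain ⟨a, ha⟩ := h1 (Ideal.Quotient.mk _ b)
  refine ⟨a, ?_⟩
  rw [RingHom.comp_apply, Ideal.Quotient.eq] at ha
  exact ha

theorem maximalIdeal_le_map : maximalIdeal B ≤ (maximalIdeal A).map φ := by
  apply Submodule.le_of_le_smul_of_le_jacobson_bot (I := maximalIdeal B)
    (IsNoetherian.noetherian _)
  · rw [IsLocalRing.jacobson_eq_maximalIdeal _ bot_ne_top]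
  · intro b hb
    obtain ⟨a, ha⟩ := exists_sub_mem_sq A B φ h1 b
    have hφa : φ a ∈ maximalIdeal B := by
      have : φ a = (φ a - b) + b := by ring
      rw [this]
      exact Ideal.add_mem _ (Ideal.pow_le_self (by norm_num) ha) hb
    have haA : a ∈ maximalIdeal A := by
      rw [mem_maximalIdeal, mem_nonunits_iff] at hφa ⊢
      exact fun h => hφa (h.map φ)
    have : b = φ a + -(φ a - b) := by ring
    rw [this]
    apply Submodule.add_mem_sup (Ideal.mem_map_of_mem φ haA)
    rw [smul_eq_mul, ← pow_two]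
    exact neg_mem ha

theorem map_eq : (maximalIdeal A).map φ = maximalIdeal B :=
  le_antisymm (IsLocalRing.map_maximalIdeal_le φ) (maximalIdeal_le_map A B φ h1)

theorem exists_sub_mem_pow (n : ℕ) (b : B) : ∃ a : A, φ a - b ∈ maximalIdeal B ^ (n + 1) := by
  induction n generalizing b with
  | zero =>
    obtain ⟨a, ha⟩ := exists_sub_mem_sq A B φ h1 b
    exact ⟨a, Ideal.pow_le_pow_right (by norm_num) ha⟩
  | succ n ih =>
    have key : ∀ c ∈ maximalIdeal B ^ (n + 1), ∃ a : A, φ a - c ∈ maximalIdeal B ^ (n + 1 + 1) := by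
      intro c hc
      rw [← map_eq A B φ h1, ← Ideal.map_pow] at hc
      unfold Ideal.map at hc
      induction hc using Submodule.span_induction with
      | mem c hc =>
        obtain ⟨x, _, rfl⟩ := hc
        exact ⟨x, by simp⟩
      | zero => exact ⟨0, by simp⟩
      | add c₁ c₂ _ _ h₁ h₂ =>
        obtain ⟨a₁, ha₁⟩ := h₁
        obtain ⟨a₂, ha₂⟩ := h₂
        refine ⟨a₁ + a₂, ?_⟩
        have : φ (a₁ + a₂) - (c₁ + c₂) = (φ a₁ - c₁) + (φ a₂ - c₂) := by rw [map_add]; ring
        rw [this]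
        exact Ideal.add_mem _ ha₁ ha₂
      | smul r c hc hc' =>
        obtain ⟨a, ha⟩ := hc'
        obtain ⟨a', ha'⟩ := exists_sub_mem_sq A B φ h1 r
        refine ⟨a' * a, ?_⟩
        have hcmem : c ∈ maximalIdeal B ^ (n + 1) := by
          rw [← map_eq A B φ h1, ← Ideal.map_pow]
          exact hc
        have : φ (a' * a) - r • c = φ a' * (φ a - c) + (φ a' - r) * c := by
          rw [map_mul, smul_eq_mul]; ring
        rw [this]
        apply Ideal.add_mem _ (Ideal.mul_mem_left _ _ ha)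
        rw [pow_succ' _ (n + 1)]
        exact Ideal.mul_mem_mul (Ideal.pow_le_self (by norm_num) ha') hcmem
    obtain ⟨a₀, ha₀⟩ := ih b
    obtain ⟨a, ha⟩ := key (b - φ a₀) (by
      have : b - φ a₀ = -(φ a₀ - b) := by ring
      rw [this]; exact neg_mem ha₀)
    refine ⟨a + a₀, ?_⟩
    have : φ (a + a₀) - b = φ a - (b - φ a₀) := by rw [map_add]; ring
    rw [this]
    exact ha

end

theorem result
    (A : Type u) (B : Type v) [CommRing A] [CommRing B] [IsLocalRing A] [IsLocalRing B]
    [IsNoetherianRing A] [IsNoetherianRing B] (φ : A →+* B) [IsLocalHom φ]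
    (h1 : Function.Surjective ((Ideal.Quotient.mk (IsLocalRing.maximalIdeal B ^ 2)).comp φ))
    (hlen : ∀ n : ℕ, Module.length A (A ⧸ IsLocalRing.maximalIdeal A ^ (n + 1)) =
      Module.length B (B ⧸ IsLocalRing.maximalIdeal B ^ (n + 1))) (n : ℕ) :
    Function.Surjective ((Ideal.Quotient.mk (IsLocalRing.maximalIdeal B ^ (n + 1))).comp φ) ∧
      RingHom.ker ((Ideal.Quotient.mk (IsLocalRing.maximalIdeal B ^ (n + 1))).comp φ) =
        IsLocalRing.maximalIdeal A ^ (n + 1) := by
  have hsurj : Function.Surjective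
      ((Ideal.Quotient.mk (IsLocalRing.maximalIdeal B ^ (n + 1))).comp φ) := by
    intro y
    obtain ⟨b, rfl⟩ := Ideal.Quotient.mk_surjective y
    obtain ⟨a, ha⟩ := exists_sub_mem_pow A B φ h1 n b
    refine ⟨a, ?_⟩
    rw [RingHom.comp_apply, Ideal.Quotient.eq]
    exact ha
  refine ⟨hsurj, ?_⟩
  set ψ := (Ideal.Quotient.mk (IsLocalRing.maximalIdeal B ^ (n + 1))).comp φ with hψ
  have hle : maximalIdeal A ^ (n + 1) ≤ RingHom.ker ψ := by
    intro a ha
    rw [RingHom.mem_ker, hψ, RingHom.comp_apply, Ideal.Quotient.eq_zero_iff_mem]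
    have h2 : φ a ∈ (maximalIdeal A ^ (n + 1)).map φ := Ideal.mem_map_of_mem φ ha
    rw [Ideal.map_pow, map_eq A B φ h1] at h2
    exact h2
  refine le_antisymm ?_ hle
  let _ : Algebra A (B ⧸ maximalIdeal B ^ (n + 1)) := ψ.toAlgebra
  have e1 : Module.length A (B ⧸ maximalIdeal B ^ (n + 1)) =
      Module.length (B ⧸ maximalIdeal B ^ (n + 1)) (B ⧸ maximalIdeal B ^ (n + 1)) :=
    Module.length_eq_of_surjective hsurj
  have e2 : Module.length B (B ⧸ maximalIdeal B ^ (n + 1)) =
      Module.length (B ⧸ maximalIdeal B ^ (n + 1)) (B ⧸ maximalIdeal B ^ (n + 1)) :=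
    Module.length_eq_of_surjective Ideal.Quotient.mk_surjective
  let f : (A ⧸ maximalIdeal A ^ (n + 1)) →ₗ[A] (B ⧸ maximalIdeal B ^ (n + 1)) :=
    Submodule.liftQ _ (Algebra.linearMap A (B ⧸ maximalIdeal B ^ (n + 1))) (by
      intro a ha
      exact hle ha)
  have hf_apply : ∀ a : A, f (Ideal.Quotient.mk _ a) = ψ a := fun a => rfl
  have hf : Function.Surjective f := by
    intro y
    obtain ⟨a, rfl⟩ := hsurj y
    exact ⟨Ideal.Quotient.mk _ a, hf_apply a⟩
  have hadd := Module.length_eq_add_of_exact (LinearMap.ker f).subtype f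
    (Submodule.subtype_injective _) hf (LinearMap.exact_subtype_ker_map f)
  have hfin : Module.length A (A ⧸ maximalIdeal A ^ (n + 1)) ≠ ⊤ :=
    Module.length_ne_top_iff.2 (finiteLength_quot_pow A n)
  have hEq : Module.length A (B ⧸ maximalIdeal B ^ (n + 1)) =
      Module.length A (A ⧸ maximalIdeal A ^ (n + 1)) := by rw [e1, ← e2, hlen n]
  rw [hEq] at hadd
  have hzero : Module.length A (LinearMap.ker f) = 0 := by
    have h0 : (0 : ℕ∞) + Module.length A (A ⧸ maximalIdeal A ^ (n + 1)) =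
        Module.length A (LinearMap.ker f) + Module.length A (A ⧸ maximalIdeal A ^ (n + 1)) := by
      rw [zero_add]; exact hadd
    exact (ENat.add_left_injective_of_ne_top hfin h0).symm
  have hker : LinearMap.ker f = ⊥ := by
    rw [Module.length_eq_zero_iff] at hzero
    exact (Submodule.subsingleton_iff_eq_bot).1 hzero
  intro a ha
  have h3 : f (Ideal.Quotient.mk _ a) = 0 := by rw [hf_apply]; exact ha
  have h4 : (Ideal.Quotient.mk (maximalIdeal A ^ (n + 1)) a) ∈ LinearMap.ker f := h3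
  rw [hker, Submodule.mem_bot, Ideal.Quotient.eq_zero_iff_mem] at h4
  exact h4

end Groth.Agent.S16104
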