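import Groth.Statements.S16116
import Groth.Agent.Lib.Helper84.Rosenlicht.Sch.Grp
-- import your own Groth.Agent.* helpers here

set_option autoImplicit false
universe u
open CategoryTheory MonoidalCategory CartesianMonoidalCategory MonObj GrpObj AlgebraicGeometry CategoryTheory.Limits
open AlgGrp

namespace Groth.Agent.S16116

/-- Over an algebraically closed field k, let G be a connected algebraic group (a smooth connected
k-group scheme of finite type) acting by σ on an irreducible variety X (an integral separated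
k-scheme of finite type), and let f be a unit of Γ(X, O_X). Then f is a semi-invariant: there is a
unique character χ of G (a unit of Γ(G, O_G) with e^*(χ) = 1 and m^*(χ) = p₁^*(χ) · p₂^*(χ)) such
that σ^*(f) = p₁^*(χ) · p₂^*(f) in Γ(G × X, O). -/
theorem result (k : Type u) [Field k] [IsAlgClosed k]
    (G X : Over (Spec (CommRingCat.of k))) [GrpObj G] [Smooth G.hom] [QuasiCompact G.hom] [ConnectedSpace ↥G.left]
    [IsIntegral X.left] [IsSeparated X.hom] [LocallyOfFiniteType X.hom] [QuasiCompact X.hom] (a : AlgGrp.Action G X)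
    (f : Γ(X.left, ⊤)) (hf : IsUnit f) :
    ∃! χ : Γ(G.left, ⊤), IsUnit χ ∧ η[G].left.appTop χ = 1 ∧
      μ[G].left.appTop χ = (fst G G).left.appTop χ * (snd G G).left.appTop χ ∧
      a.act.left.appTop f = (fst G X).left.appTop χ * (snd G X).left.appTop f := by
  obtain ⟨x₀⟩ := Groth.Agent.Lib.Helper84.Rosenlicht.Sch.exists_point X
  have hFu : IsUnit (a.act.left.appTop f) := hf.map a.act.left.appTop.hom
  obtain ⟨χ, hχu, hχe, hχm, hf'⟩ :=
    Groth.Agent.Lib.Helper84.Rosenlicht.Sch.exists_character_mul G x₀ (a.act.left.appTop f) hFu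
  have hone : lift (toUnit X ≫ η[G]) (𝟙 X) ≫ a.act = 𝟙 X := by
    have h1 : lift (toUnit X ≫ η[G]) (𝟙 X) = (λ_ X).inv ≫ (η[G] ▷ X) := by
      apply CartesianMonoidalCategory.hom_ext <;> simp
    rw [h1, Category.assoc, a.one_act, Iso.inv_hom_id]
  have hrestr : (lift (toUnit X ≫ η[G]) (𝟙 X)).left.appTop (a.act.left.appTop f) = f := by
    rw [← Groth.Agent.Lib.Helper84.Rosenlicht.Sch.appTop_comp_apply, hone,
      Groth.Agent.Lib.Helper84.Rosenlicht.Sch.appTop_id_apply]
  rw [hrestr] at hf'
  refine ⟨χ, ⟨hχu, hχe, hχm, hf'⟩, ?_⟩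
  rintro χ' ⟨hχ'u, hχ'e, hχ'm, hf''⟩
  have hsu : IsUnit ((snd G X).left.appTop f) := hf.map (snd G X).left.appTop.hom
  have h2 : (fst G X).left.appTop χ' = (fst G X).left.appTop χ := by
    have h3 := hf''.symm.trans hf'
    exact hsu.mul_left_injective h3
  have h4 := congrArg (lift (𝟙 G) (toUnit G ≫ x₀)).left.appTop h2
  rw [← Groth.Agent.Lib.Helper84.Rosenlicht.Sch.appTop_comp_apply,
    ← Groth.Agent.Lib.Helper84.Rosenlicht.Sch.appTop_comp_apply, lift_fst,
    Groth.Agent.Lib.Helper84.Rosenlicht.Sch.appTop_id_apply,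
    Groth.Agent.Lib.Helper84.Rosenlicht.Sch.appTop_id_apply] at h4
  exact h4

end Groth.Agent.S16116
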