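import Groth.Statements.S16117
import Groth.Agent.Lib.Helper84.Rosenlicht.Sch.Core
-- import your own Groth.Agent.* helpers here

set_option autoImplicit false
universe u
open CategoryTheory MonoidalCategory CartesianMonoidalCategory MonObj GrpObj AlgebraicGeometry CategoryTheory.Limits
open AlgGrp

namespace Groth.Agent.S16117

/-- Over an algebraically closed field k, let X and Y be irreducible varieties (integral separated
k-schemes of finite type). Then the product map on units is surjective: every unit of Γ(X × Y, O)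
equals p₁^*(g) · p₂^*(h) for some units g of Γ(X, O_X) and h of Γ(Y, O_Y). -/
theorem result (k : Type u) [Field k] [IsAlgClosed k]
    (X Y : Over (Spec (CommRingCat.of k))) [IsIntegral X.left] [IsSeparated X.hom] [LocallyOfFiniteType X.hom] [QuasiCompact X.hom]
    [IsIntegral Y.left] [IsSeparated Y.hom] [LocallyOfFiniteType Y.hom] [QuasiCompact Y.hom]
    (f : Γ((X ⊗ Y).left, ⊤)) (hf : IsUnit f) :
    ∃ (g : Γ(X.left, ⊤)) (h : Γ(Y.left, ⊤)), IsUnit g ∧ IsUnit h ∧
      f = (fst X Y).left.appTop g * (snd X Y).left.appTop h := by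
  obtain ⟨x₀⟩ := Groth.Agent.Lib.Helper84.Rosenlicht.Sch.exists_point X
  obtain ⟨y₀⟩ := Groth.Agent.Lib.Helper84.Rosenlicht.Sch.exists_point Y
  have key := Groth.Agent.Lib.Helper84.Rosenlicht.Sch.unit_prod_formula x₀ y₀ f hf
  set c := (lift x₀ y₀).left.appTop f with hc
  have hcu : IsUnit c := hf.map (lift x₀ y₀).left.appTop.hom
  obtain ⟨c', hcc'⟩ := hcu.exists_right_inv
  set g := (lift (𝟙 X) (toUnit X ≫ y₀)).left.appTop f with hg
  set h₀ := (lift (toUnit Y ≫ x₀) (𝟙 Y)).left.appTop f with hh₀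
  have hgu : IsUnit g := hf.map (lift (𝟙 X) (toUnit X ≫ y₀)).left.appTop.hom
  have hh₀u : IsUnit h₀ := hf.map (lift (toUnit Y ≫ x₀) (𝟙 Y)).left.appTop.hom
  have hc'u : IsUnit c' := IsUnit.of_mul_eq_one c (by rw [mul_comm]; exact hcc')
  refine ⟨g, h₀ * (toUnit Y).left.appTop c', hgu,
    hh₀u.mul (hc'u.map (toUnit Y).left.appTop.hom), ?_⟩
  have h1 : (snd X Y).left.appTop ((toUnit Y).left.appTop c') =
      (toUnit (X ⊗ Y)).left.appTop c' := by
    have : (snd X Y ≫ toUnit Y) = toUnit (X ⊗ Y) := toUnit_unique _ _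
    rw [← this, Over.comp_left, Scheme.Hom.comp_appTop, CommRingCat.comp_apply]
  rw [map_mul, h1, ← _root_.mul_assoc, ← key, _root_.mul_assoc, ← map_mul, hcc', map_one,
    _root_.mul_one]

end Groth.Agent.S16117
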