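import Groth.Statements.S16124
import Groth.Agent.Lib.Helper11.AmpleSeparated
import Groth.Agent.S4381

set_option autoImplicit false
universe u
open CategoryTheory MonoidalCategory CartesianMonoidalCategory MonObj GrpObj AlgebraicGeometry CategoryTheory.Limits
open AlgGrp

namespace Groth.Agent.S16124

/-- Over an algebraically closed field k, let X be a quasi-projective variety (a reduced separated
k-scheme, quasi-projective over k) with an action of a finite group Γ by k-automorphisms. Then X is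
covered by Γ-stable affine open subschemes: every point x of X lies in an affine open U with σ⁻¹(U)
= U for every σ in Γ. -/
theorem result (k : Type u) [Field k] [IsAlgClosed k]
    (X : Over (Spec (CommRingCat.of k))) [IsReduced X.left] [IsSeparated X.hom] (hX : RelProj.IsQuasiProjective X.hom)
    (Γgrp : Type u) [Group Γgrp] [Finite Γgrp] (ρ : Γgrp →* Aut X.left)
    (hρ : ∀ σ : Γgrp, (ρ σ).hom ≫ X.hom = X.hom) (x : ↥X.left) :
    ∃ U : X.left.Opens, x ∈ U ∧ IsAffineOpen U ∧ ∀ σ : Γgrp, (ρ σ).hom ⁻¹ᵁ U = U := by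
  classical
  obtain ⟨hlft, hqc, L, hL⟩ := hX
  have hamp : CohB1.IsAmple L := (Groth.Agent.S4381.result X.hom L).mp hL
  have hc : CompactSpace X.left := hamp.2.1
  -- the orbit of `x` lies in an affine open
  obtain ⟨V, hV, hZV⟩ := Groth.Agent.Lib.Helper11.AmpleSeparated.exists_isAffineOpen_of_finite hamp
    (Set.range fun σ : Γgrp => (ρ σ).hom x) (Set.finite_range _)
  have hsep : IsSeparated (terminal.from X.left) := by
    rw [show terminal.from X.left = X.hom ≫ terminal.from _ from terminal.hom_ext _ _]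
    infer_instance
  have hdiag : IsAffineHom (pullback.diagonal (terminal.from X.left)) := inferInstance
  refine ⟨⨅ σ : Γgrp, (ρ σ).hom ⁻¹ᵁ V, ?_, ?_, ?_⟩
  · change x ∈ ((⨅ σ : Γgrp, (ρ σ).hom ⁻¹ᵁ V : X.left.Opens) : Set X.left)
    rw [TopologicalSpace.Opens.coe_iInf]
    exact Set.mem_iInter.mpr fun σ => hZV ⟨σ, rfl⟩
  · exact IsAffineOpen.iInf fun σ => hV.preimage_of_isIso (ρ σ).hom
  · intro τ
    apply TopologicalSpace.Opens.ext
    change (ρ τ).hom ⁻¹' ((⨅ σ : Γgrp, (ρ σ).hom ⁻¹ᵁ V : X.left.Opens) : Set X.left) =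
      ((⨅ σ : Γgrp, (ρ σ).hom ⁻¹ᵁ V : X.left.Opens) : Set X.left)
    rw [TopologicalSpace.Opens.coe_iInf, Set.preimage_iInter]
    have key : ∀ σ : Γgrp, (ρ τ).hom ⁻¹' (((ρ σ).hom ⁻¹ᵁ V : X.left.Opens) : Set X.left) =
        (((ρ (σ * τ)).hom ⁻¹ᵁ V : X.left.Opens) : Set X.left) := by
      intro σ
      rw [map_mul]
      rfl
    simp only [key]
    exact (Equiv.mulRight τ).surjective.iInter_comp
      (fun σ' : Γgrp => (((ρ σ').hom ⁻¹ᵁ V : X.left.Opens) : Set X.left))

end Groth.Agent.S16124
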