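import Groth.Statements.S16127
import Groth.Agent.Lib.Helper75.AAExt
-- import your own Groth.Agent.* helpers here

set_option autoImplicit false
universe u
open CategoryTheory MonoidalCategory CartesianMonoidalCategory MonObj GrpObj AlgebraicGeometry CategoryTheory.Limits
open AlgGrp

namespace Groth.Agent.S16127

/-- Over an algebraically closed field k, let G be an algebraic group (a smooth k-group scheme of finite
type) acting by σ on a variety X, and let f : X → Y be a principal G-bundle over a variety Y (X, Y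
reduced separated k-schemes of finite type; f flat and surjective, the square σ, p₂ : G × X → X, f,
f cartesian). Then f^* identifies Γ(Y, O_Y) with the invariants Γ(X, O_X)^G: f^* on global sections
is injective and its range is the set of global functions s on X with σ^*(s) = p₂^*(s). -/
theorem result (k : Type u) [Field k] [IsAlgClosed k]
    (G X Y : Over (Spec (CommRingCat.of k))) [GrpObj G] [Smooth G.hom] [QuasiCompact G.hom]
    [IsReduced X.left] [IsSeparated X.hom] [LocallyOfFiniteType X.hom] [QuasiCompact X.hom]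
    [IsReduced Y.left] [IsSeparated Y.hom] [LocallyOfFiniteType Y.hom] [QuasiCompact Y.hom]
    (a : AlgGrp.Action G X) (f : X ⟶ Y) [Flat f.left] [Surjective f.left]
    (hsq : IsPullback a.act.left (snd G X).left f.left f.left) :
    Function.Injective (f.left.appTop) ∧
      Set.range (f.left.appTop) = {s : Γ(X.left, ⊤) | a.act.left.appTop s = (snd G X).left.appTop s} := by
  have hinj : Function.Injective (f.left.appTop) :=
    Groth.Agent.Lib.Helper75.AAExt.app_injective_of_flat_of_surjective f.left ⊤
  refine ⟨hinj, ?_⟩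
  have hqc : QuasiCompact f.left := by
    have : QuasiCompact (f.left ≫ Y.hom) := by rw [Over.w f]; infer_instance
    exact QuasiCompact.of_comp f.left Y.hom
  apply Set.eq_of_subset_of_subset
  · rintro _ ⟨t, rfl⟩
    show a.act.left.appTop (f.left.appTop t) = (snd G X).left.appTop (f.left.appTop t)
    have h1 : f.left.appTop ≫ a.act.left.appTop = f.left.appTop ≫ (snd G X).left.appTop := by
      rw [← Scheme.Hom.comp_appTop, ← Scheme.Hom.comp_appTop, hsq.w]
    have := congrArg (fun r => r.hom t) h1
    simpa using this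
  · intro s hs
    -- the ring of invariants
    let R₀ : Subring ↑Γ(X.left, ⊤) := RingHom.eqLocus a.act.left.appTop.hom (snd G X).left.appTop.hom
    let incl : CommRingCat.of ↥R₀ ⟶ Γ(X.left, ⊤) := CommRingCat.ofHom R₀.subtype
    have hincl : incl ≫ a.act.left.appTop = incl ≫ (snd G X).left.appTop := by
      ext r
      exact r.2
    let e : X.left ⟶ Spec (CommRingCat.of ↥R₀) := X.left.toSpecΓ ≫ Spec.map incl
    have he : a.act.left ≫ e = (snd G X).left ≫ e := by
      show a.act.left ≫ X.left.toSpecΓ ≫ Spec.map incl =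
        (snd G X).left ≫ X.left.toSpecΓ ≫ Spec.map incl
      rw [Scheme.toSpecΓ_naturality_assoc, Scheme.toSpecΓ_naturality_assoc, ← Spec.map_comp,
        ← Spec.map_comp, hincl]
    have hcond : ∀ {Z : Scheme.{u}} (g₁ g₂ : Z ⟶ X.left), g₁ ≫ f.left = g₂ ≫ f.left →
        g₁ ≫ e = g₂ ≫ e := by
      intro Z g₁ g₂ h
      have e1 : hsq.lift g₁ g₂ h ≫ a.act.left = g₁ := hsq.lift_fst _ _ _
      have e2 : hsq.lift g₁ g₂ h ≫ (snd G X).left = g₂ := hsq.lift_snd _ _ _
      calc g₁ ≫ e = (hsq.lift g₁ g₂ h ≫ a.act.left) ≫ e := by rw [e1]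
        _ = (hsq.lift g₁ g₂ h ≫ (snd G X).left) ≫ e := by
            rw [Category.assoc, Category.assoc, he]
        _ = g₂ ≫ e := by rw [e2]
    let ψ := EffectiveEpi.desc f.left e hcond
    have hψ : f.left ≫ ψ = e := EffectiveEpi.fac f.left e hcond
    have h1 : ψ.appTop ≫ f.left.appTop = e.appTop := by
      rw [← Scheme.Hom.comp_appTop, hψ]
    have h2 : e.appTop = (Scheme.ΓSpecIso (CommRingCat.of ↥R₀)).hom ≫ incl := by
      show (X.left.toSpecΓ ≫ Spec.map incl).appTop = _
      rw [Scheme.Hom.comp_appTop, Scheme.toSpecΓ_appTop, Scheme.ΓSpecIso_naturality]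
    let s₀ : ↥R₀ := ⟨s, hs⟩
    refine ⟨ψ.appTop.hom ((Scheme.ΓSpecIso (CommRingCat.of ↥R₀)).inv.hom s₀), ?_⟩
    have h3 := congrArg (fun r => r.hom ((Scheme.ΓSpecIso (CommRingCat.of ↥R₀)).inv.hom s₀)) h1
    simp only [CommRingCat.hom_comp, RingHom.coe_comp, Function.comp_apply] at h3
    rw [h3, h2]
    simp only [CommRingCat.hom_comp, RingHom.coe_comp, Function.comp_apply]
    have h4 : (Scheme.ΓSpecIso (CommRingCat.of ↥R₀)).hom.hom
        ((Scheme.ΓSpecIso (CommRingCat.of ↥R₀)).inv.hom s₀) = s₀ :=
      CategoryTheory.Iso.inv_hom_id_apply (Scheme.ΓSpecIso (CommRingCat.of ↥R₀)) s₀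
    rw [h4]
    rfl

end Groth.Agent.S16127
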