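import Groth.Statements.S1614
import Groth.Agent.Lib.Helper17.TwistTriv

set_option autoImplicit false
universe u
open CategoryTheory CategoryTheory.Limits AlgebraicGeometry
open Constr

namespace Groth.Agent.S1614

/-- Let A be a graded ring, X = Proj A, and f homogeneous of degree d > 0. For every integer n the
restriction of the twisting sheaf O(nd) to the standard open D_+(f) is isomorphic to the structure
sheaf (in particular invertible). -/
theorem result {R A : Type u} [CommRing R] [CommRing A] [Algebra R A] (𝒜 : ℕ → Submodule R A) [GradedAlgebra 𝒜]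
    (d : ℕ) (hd : 0 < d) (f : A) (hf : f ∈ 𝒜 d) (n : ℤ) :
    Nonempty ((Twist.twist 𝒜 (n * d)).restrict (Proj.basicOpen 𝒜 f).ι ≅ Coh.structureModule ↑(Proj.basicOpen 𝒜 f)) := by
  have hab : ((n.toNat : ℕ) : ℤ) - ((-n).toNat : ℕ) = n := Int.toNat_sub_toNat_neg n
  have hnot : ∀ (k : ℕ) (y : ↑(Proj.basicOpen 𝒜 f)),
      f ^ k ∉ ((Proj.basicOpen 𝒜 f).ι.base y).asHomogeneousIdeal := by
    intro k y hmem
    have hy : f ∉ (y.1 : ProjectiveSpectrum 𝒜).asHomogeneousIdeal :=
      (Proj.mem_basicOpen 𝒜 f y.1).mp y.2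
    exact hy ((y.1 : ProjectiveSpectrum 𝒜).isPrime.mem_of_pow_mem k hmem)
  refine Groth.Agent.Lib.Helper17.TwistTriv.nonempty_restrict_iso 𝒜 (n * d)
    (SetLike.pow_mem_graded n.toNat hf) (SetLike.pow_mem_graded (-n).toNat hf) ?_
    (Proj.basicOpen 𝒜 f).ι (hnot _) (hnot _)
  simp only [smul_eq_mul]
  push_cast
  linear_combination (d : ℤ) * hab

end Groth.Agent.S1614
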