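import Groth.Statements.S16152
import Mathlib

set_option autoImplicit false
universe u
open MvPolynomial

namespace Groth.Agent.S16152

section

variable {k : Type u} [Field k] {n : ℕ}

/-- multiply the `l`-th entry by `X l` -/
noncomputable def scale : (Fin (n + 1) → MvPolynomial (Fin (n + 1)) k) →ₗ[k]
    (Fin (n + 1) → MvPolynomial (Fin (n + 1)) k) where
  toFun g := fun l => X l * g l
  map_add' := by
    intro g g'
    funext l
    simp [mul_add]
  map_smul' := by
    intro c g
    funext l
    simp [mul_smul_comm]

theorem scale_apply (g : Fin (n + 1) → MvPolynomial (Fin (n + 1)) k) (l : Fin (n + 1)) :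
    scale g l = X l * g l := rfl

theorem scale_injective : Function.Injective (scale (k := k) (n := n)) := by
  intro g g' h
  funext l
  have := congrFun h l
  rw [scale_apply, scale_apply] at this
  exact mul_left_cancel₀ (X_ne_zero l) this

/-- the generators -/
noncomputable def gen (a b : ℕ) (σ τ : MvPolynomial (Fin (n + 1)) k) :
    Fin (n + 1) → MvPolynomial (Fin (n + 1)) k :=
  fun i => (b : k) • (τ * pderiv i σ) - (a : k) • (σ * pderiv i τ)

theorem scale_gen_monomial (a b : ℕ) (α β : Fin (n + 1) →₀ ℕ) :
    scale (gen a b (monomial α (1 : k)) (monomial β 1)) =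
      fun l => ((b : k) * (α l : k) - (a : k) * (β l : k)) • monomial (α + β) (1 : k) := by
  funext l
  rw [scale_apply, gen]
  have h1 : X l * (monomial β (1 : k) * pderiv l (monomial α (1 : k))) =
      monomial (α + β) ((α l : k)) := by
    rw [mul_left_comm, X_mul_pderiv_monomial, smul_monomial, monomial_mul, add_comm β α]
    simp
  have h2 : X l * (monomial α (1 : k) * pderiv l (monomial β (1 : k))) =
      monomial (α + β) ((β l : k)) := by
    rw [mul_left_comm, X_mul_pderiv_monomial, smul_monomial, monomial_mul]
    simp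
  rw [mul_sub, mul_smul_comm, mul_smul_comm, h1, h2, smul_monomial, smul_monomial, smul_monomial,
    ← map_sub]
  simp

theorem exists_le_degree (ν : Fin (n + 1) →₀ ℕ) (m : ℕ) (hm : m ≤ ν.degree) :
    ∃ α : Fin (n + 1) →₀ ℕ, α ≤ ν ∧ α.degree = m := by
  induction hd : ν.degree - m generalizing ν with
  | zero => exact ⟨ν, le_rfl, by omega⟩
  | succ d ih =>
    have hpos : ν ≠ 0 := by
      rintro rfl
      simp at hd
    obtain ⟨l, hl⟩ := Finsupp.ne_iff.1 hpos
    rw [Finsupp.zero_apply] at hl
    have hν : ν - Finsupp.single l 1 + Finsupp.single l 1 = ν :=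
      Finsupp.sub_add_single_one_cancel hl
    have hdeg : (ν - Finsupp.single l 1).degree + 1 = ν.degree := by
      conv_rhs => rw [← hν]
      rw [map_add, Finsupp.degree_single]
    obtain ⟨α, hα, hαd⟩ := ih (ν - Finsupp.single l 1) (by omega) (by omega)
    exact ⟨α, hα.trans tsub_le_self, hαd⟩

end

section Main

variable {k : Type u} [Field k] [CharZero k] {n : ℕ}

/-- the spanning set -/
def gens (k : Type u) [Field k] (n e a b : ℕ) :
    Set (Fin (n + 1) → MvPolynomial (Fin (n + 1)) k) :=
  {g | ∃ σ τ : MvPolynomial (Fin (n + 1)) k, σ.IsHomogeneous (a * e) ∧ τ.IsHomogeneous (b * e) ∧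
    g = fun i => (b : k) • (τ * pderiv i σ) - (a : k) • (σ * pderiv i τ)}

theorem key (e a b : ℕ) (he : 0 < e) (ha : 0 < a) (hb : 0 < b) (γ : Fin (n + 1) →₀ ℕ)
    (hγ : γ.degree = (a + b) * e) (i j : Fin (n + 1)) (hij : i ≠ j) (hi : γ i ≠ 0) (hj : γ j ≠ 0)
    (c : k) :
    (Pi.single i (monomial γ c) - Pi.single j (monomial γ c) :
      Fin (n + 1) → MvPolynomial (Fin (n + 1)) k) ∈
      (Submodule.span k (gens k n e a b)).map scale := by
  classical
  -- ν = γ - e_i - e_j
  set ν := γ - Finsupp.single i 1 - Finsupp.single j 1 with hν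
  have h1 : γ - Finsupp.single i 1 + Finsupp.single i 1 = γ := Finsupp.sub_add_single_one_cancel hi
  have hj' : (γ - Finsupp.single i 1 : Fin (n + 1) →₀ ℕ) j ≠ 0 := by
    rw [Finsupp.tsub_apply, Finsupp.single_apply, if_neg hij]
    simpa using hj
  have h2 : ν + Finsupp.single j 1 = γ - Finsupp.single i 1 :=
    Finsupp.sub_add_single_one_cancel hj'
  have hγν : γ = ν + Finsupp.single j 1 + Finsupp.single i 1 := by rw [h2, h1]
  have hνdeg : ν.degree + 2 = (a + b) * e := by
    rw [← hγ, hγν, map_add, map_add, Finsupp.degree_single, Finsupp.degree_single]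
  have hae : 1 ≤ a * e := Nat.mul_pos ha he
  have hbe : 1 ≤ b * e := Nat.mul_pos hb he
  obtain ⟨α₀, hα₀, hα₀d⟩ := exists_le_degree ν (a * e - 1) (by
    have : (a + b) * e = a * e + b * e := by ring
    omega)
  obtain ⟨δ, hδ⟩ : ∃ δ, ν = α₀ + δ := ⟨ν - α₀, (add_tsub_cancel_of_le hα₀).symm⟩
  have hδd : δ.degree + 1 = b * e := by
    have h3 : ν.degree = α₀.degree + δ.degree := by rw [hδ, map_add]
    have : (a + b) * e = a * e + b * e := by ring
    omega
  -- two choices
  set α := α₀ + Finsupp.single j 1 with hα
  set β := δ + Finsupp.single i 1 with hβ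
  set α' := α₀ + Finsupp.single i 1 with hα'
  set β' := δ + Finsupp.single j 1 with hβ'
  have hαβ : α + β = γ := by rw [hγν, hδ, hα, hβ]; abel
  have hαβ' : α' + β' = γ := by rw [hγν, hδ, hα', hβ']; abel
  have hαd : α.degree = a * e := by rw [hα, map_add, Finsupp.degree_single, hα₀d]; omega
  have hαd' : α'.degree = a * e := by rw [hα', map_add, Finsupp.degree_single, hα₀d]; omega
  have hβd : β.degree = b * e := by rw [hβ, map_add, Finsupp.degree_single]; omega
  have hβd' : β'.degree = b * e := by rw [hβ', map_add, Finsupp.degree_single]; omega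
  have hg : gen a b (monomial α (1 : k)) (monomial β 1) ∈ gens k n e a b :=
    ⟨_, _, isHomogeneous_monomial _ hαd, isHomogeneous_monomial _ hβd, rfl⟩
  have hg' : gen a b (monomial α' (1 : k)) (monomial β' 1) ∈ gens k n e a b :=
    ⟨_, _, isHomogeneous_monomial _ hαd', isHomogeneous_monomial _ hβd', rfl⟩
  have hab : ((a : k) + (b : k)) ≠ 0 := by
    have : ((a + b : ℕ) : k) ≠ 0 := Nat.cast_ne_zero.2 (by omega)
    simpa using this
  -- the combination
  have hcomb : (Pi.single i (monomial γ c) - Pi.single j (monomial γ c) :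
      Fin (n + 1) → MvPolynomial (Fin (n + 1)) k) =
      scale ((c / ((a : k) + (b : k))) • (gen a b (monomial α' (1 : k)) (monomial β' 1) -
        gen a b (monomial α (1 : k)) (monomial β 1))) := by
    rw [map_smul, map_sub, scale_gen_monomial, scale_gen_monomial, hαβ, hαβ']
    funext l
    simp only [Pi.sub_apply, Pi.smul_apply, Pi.single_apply]
    rw [← sub_smul, smul_smul, smul_monomial]
    have hsc : (c / ((a : k) + (b : k)) * (((b : k) * (α' l : k) - (a : k) * (β' l : k)) -
        ((b : k) * (α l : k) - (a : k) * (β l : k)))) • (1 : k) =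
        (if l = i then c else 0) - (if l = j then c else 0) := by
      have e1 : (α' l : k) = (α₀ l : k) + (if l = i then 1 else 0) := by
        simp only [hα', Finsupp.add_apply, Finsupp.single_apply, eq_comm (a := i)]
        push_cast
        rfl
      have e2 : (α l : k) = (α₀ l : k) + (if l = j then 1 else 0) := by
        simp only [hα, Finsupp.add_apply, Finsupp.single_apply, eq_comm (a := j)]
        push_cast
        rfl
      have e3 : (β' l : k) = (δ l : k) + (if l = j then 1 else 0) := by
        simp only [hβ', Finsupp.add_apply, Finsupp.single_apply, eq_comm (a := j)]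
        push_cast
        rfl
      have e4 : (β l : k) = (δ l : k) + (if l = i then 1 else 0) := by
        simp only [hβ, Finsupp.add_apply, Finsupp.single_apply, eq_comm (a := i)]
        push_cast
        rfl
      rw [e1, e2, e3, e4, smul_eq_mul, mul_one]
      split_ifs <;> field_simp <;> ring
    rw [hsc]
    split_ifs <;> simp
  rw [hcomb]
  apply Submodule.mem_map_of_mem
  apply Submodule.smul_mem
  exact Submodule.sub_mem _ (Submodule.subset_span hg') (Submodule.subset_span hg)

end Main

section Result

open MvPolynomial in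
/-- Over a field k of characteristic zero, for e, a, b positive integers with a < b, the weighted
Gaussian map of the line bundle O(e) on projective n-space is surjective. Concretely, identifying
global sections of O(m) with homogeneous polynomials of degree m in X_0, ..., X_n and global
sections of the twisted cotangent sheaf Omega^1(t) with the (n+1)-tuples of homogeneous polynomials
of degree t - 1 killed by the Euler map (f_i) to sum_i X_i f_i, every such tuple with t = (a+b)e is
a k-linear combination of the tuples (b tau (d sigma / d X_i) - a sigma (d tau / d X_i))_i with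
sigma homogeneous of degree ae and tau homogeneous of degree be. (The source works over the complex
numbers; the statement is one of linear algebra and is given here over any field of characteristic
zero.) -/
theorem result
    (k : Type u) [Field k] [CharZero k] (n e a b : ℕ) (he : 0 < e) (ha : 0 < a) (hab : a < b)
    (f : Fin (n + 1) → MvPolynomial (Fin (n + 1)) k)
    (hf : ∀ i, (f i).IsHomogeneous ((a + b) * e - 1))
    (hEuler : ∑ i, X i * f i = 0) :
    f ∈ Submodule.span k
      {g : Fin (n + 1) → MvPolynomial (Fin (n + 1)) k |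
        ∃ σ τ : MvPolynomial (Fin (n + 1)) k, σ.IsHomogeneous (a * e) ∧ τ.IsHomogeneous (b * e) ∧
          g = fun i => (b : k) • (τ * pderiv i σ) - (a : k) • (σ * pderiv i τ)} := by
  classical
  have hb : 0 < b := by omega
  show f ∈ Submodule.span k (gens k n e a b)
  suffices h : scale f ∈ (Submodule.span k (gens k n e a b)).map scale by
    obtain ⟨g, hg, hgf⟩ := h
    rw [← scale_injective hgf]
    exact hg
  set F := scale f with hF
  have hpos : 1 ≤ (a + b) * e := Nat.mul_pos (by omega) he
  have hFhom : ∀ l, (F l).IsHomogeneous ((a + b) * e) := by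
    intro l
    have := (isHomogeneous_X k l).mul (hf l)
    rw [show 1 + ((a + b) * e - 1) = (a + b) * e by omega] at this
    exact this
  have hFsum : ∑ l, F l = 0 := hEuler
  have hFdiv : ∀ l γ, coeff γ (F l) ≠ 0 → γ l ≠ 0 := by
    intro l γ h h0
    apply h
    rw [hF, scale_apply, coeff_X_mul', if_neg]
    rw [Finsupp.mem_support_iff]
    exact fun h' => h' h0
  let Γ : Finset (Fin (n + 1) →₀ ℕ) := Finset.univ.biUnion fun l => (F l).support
  have hi₀ : ∀ γ ∈ Γ, ∃ l, coeff γ (F l) ≠ 0 := by
    intro γ hγ
    simp only [Γ, Finset.mem_biUnion, Finset.mem_univ, true_and] at hγ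
    obtain ⟨l, hl⟩ := hγ
    exact ⟨l, mem_support_iff.1 hl⟩
  choose! i₀ hi₀' using hi₀
  have hdecomp : F = ∑ γ ∈ Γ, ∑ l : Fin (n + 1),
      (Pi.single (M := fun _ => MvPolynomial (Fin (n + 1)) k) l (monomial γ (coeff γ (F l))) -
      Pi.single (M := fun _ => MvPolynomial (Fin (n + 1)) k) (i₀ γ)
        (monomial γ (coeff γ (F l)))) := by
    funext p
    simp only [Finset.sum_apply, Pi.sub_apply, Finset.sum_sub_distrib]
    have h1 : ∀ γ, ∑ l : Fin (n + 1),
        Pi.single (M := fun _ => MvPolynomial (Fin (n + 1)) k) l (monomial γ (coeff γ (F l))) p =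
          monomial γ (coeff γ (F p)) := by
      intro γ
      rw [Finset.sum_eq_single p]
      · simp
      · intro l _ hl
        rw [Pi.single_apply, if_neg (Ne.symm hl)]
      · intro h
        exact absurd (Finset.mem_univ p) h
    have h2 : ∀ γ, ∑ l : Fin (n + 1),
        Pi.single (M := fun _ => MvPolynomial (Fin (n + 1)) k) (i₀ γ)
          (monomial γ (coeff γ (F l))) p = 0 := by
      intro γ
      simp only [Pi.single_apply]
      split_ifs with h
      · rw [← map_sum, ← coeff_sum, hFsum, coeff_zero, map_zero]
      · simp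
    simp only [h1, h2, Finset.sum_const_zero, sub_zero]
    symm
    rw [← Finset.sum_subset (s₁ := (F p).support) (s₂ := Γ)]
    · exact (F p).support_sum_monomial_coeff
    · intro γ hγ
      simp only [Γ, Finset.mem_biUnion, Finset.mem_univ, true_and]
      exact ⟨p, hγ⟩
    · intro γ _ hγ
      rw [notMem_support_iff.1 hγ, map_zero]
  rw [hdecomp]
  apply Submodule.sum_mem
  intro γ hγ
  apply Submodule.sum_mem
  intro l _
  by_cases hc : coeff γ (F l) = 0
  · rw [hc, map_zero, Pi.single_zero, Pi.single_zero, sub_zero]
    exact zero_mem _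
  · by_cases hl : l = i₀ γ
    · rw [hl, sub_self]
      exact zero_mem _
    · have hdeg : γ.degree = (a + b) * e := by
        by_contra hne
        exact hc ((hFhom l).coeff_eq_zero hne)
      exact key e a b he ha hb γ hdeg l (i₀ γ) hl (hFdiv l γ hc) (hFdiv _ γ (hi₀' γ hγ)) _

end Result

end Groth.Agent.S16152
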