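import Groth.Statements.S16156
import Mathlib

set_option autoImplicit false
universe u
open MukaiVec

namespace Groth.Agent.S16156

/-- the purely arithmetic core -/
theorem core (n r d χ p q h : ℤ) (hn : 0 < n) (hr : 2 ≤ r) (hd : 0 < d) (hχ : χ < 0) (hp : 0 ≤ p)
    (hodge : 4 * n * p * q ≤ h * h)
    (hm1 : 1 ≤ |d * h - r * q - χ * p|) (hm2 : |d * h - r * q - χ * p| ≤ 2)
    (hexc : ¬ (d = 1 ∧ χ = -1 ∧ h = 1 ∧ 2 * p * q = 0))
    (hr2 : r = 2 → ¬ (p = 0 ∧ h = 0)) :
    (0 ≤ 2 * n * d * p - r * h ↔ 0 ≤ χ * h - 2 * n * d * q) := by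
  have hm_le : d * h - r * q - χ * p ≤ 2 := (abs_le.mp hm2).2
  have hm_ge : -2 ≤ d * h - r * q - χ * p := (abs_le.mp hm2).1
  constructor
  · intro ha
    by_contra hb
    push_neg at hb
    -- bad case 1 : 2ndp ≥ rh, χh < 2ndq
    rcases lt_trichotomy h 0 with hneg | hzero | hpos
    · -- h < 0
      have hχh : 0 < χ * h := mul_pos_of_neg_of_neg hχ hneg
      have hq : 1 ≤ q := by
        by_contra hq
        push_neg at hq
        have hq0 : q ≤ 0 := by omega
        have : 2 * n * d * q ≤ 0 := by
          have : 0 ≤ 2 * n * d := by positivity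
          nlinarith
        linarith
      rcases eq_or_lt_of_le hp with hp0 | hppos
      · -- p = 0
        have hp0' : p = 0 := hp0.symm
        subst hp0'
        have h1 : d * h ≤ -1 := by nlinarith
        have h2 : r * q ≥ 2 := by nlinarith
        linarith
      · -- p ≥ 1
        have hp1 : 1 ≤ p := hppos
        -- d h^2 ≥ 4ndpq > 2 p χ h
        have hb' : χ * h < 2 * n * d * q := by linarith
        have h1 : 2 * p * (χ * h) < 2 * p * (2 * n * d * q) := by
          apply mul_lt_mul_of_pos_left hb'
          linarith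
        have h2 : d * (4 * n * p * q) ≤ d * (h * h) := mul_le_mul_of_nonneg_left hodge hd.le
        have h3 : 2 * p * χ * h < d * h * h := by nlinarith
        -- divide by h < 0
        have h4 : d * h < 2 * p * χ := by
          by_contra hcon
          push_neg at hcon
          have : (d * h) * h ≤ (2 * p * χ) * h := mul_le_mul_of_nonpos_right hcon hneg.le
          nlinarith
        have h5 : p * χ ≤ -1 := by nlinarith
        have h6 : r * q ≥ 2 := by nlinarith
        linarith
    · -- h = 0
      subst hzero
      have hq : 1 ≤ q := by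
        by_contra hq
        push_neg at hq
        have hq0 : q ≤ 0 := by omega
        have : 2 * n * d * q ≤ 0 := by
          have : 0 ≤ 2 * n * d := by positivity
          nlinarith
        linarith
      have hp0 : p = 0 := by
        by_contra hpne
        have hp1 : 1 ≤ p := by omega
        have : 0 < 4 * n * p * q := by positivity
        linarith
      subst hp0
      have hrq : r * q ≤ 2 := by linarith
      have hr_eq : r = 2 := by nlinarith
      exact hr2 hr_eq ⟨rfl, rfl⟩
    · -- h > 0
      have hp1 : 1 ≤ p := by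
        by_contra hp1
        push_neg at hp1
        have hp0 : p = 0 := by omega
        subst hp0
        have : 0 < r * h := by positivity
        linarith
      rcases le_or_gt q 0 with hq0 | hqpos
      · -- q ≤ 0
        have h1 : 1 ≤ d * h := by nlinarith
        have h2 : 1 ≤ -χ * p := by nlinarith
        have h3 : 0 ≤ -(r * q) := by nlinarith
        have h4 : d * h = 1 := by linarith
        have h5 : -χ * p = 1 := by linarith
        have h6 : r * q = 0 := by linarith
        have hd1 : d = 1 := by nlinarith
        have hh1 : h = 1 := by nlinarith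
        have hχ1 : χ = -1 := by nlinarith
        have hq00 : q = 0 := by
          rcases mul_eq_zero.mp h6 with h | h
          · omega
          · exact h
        apply hexc
        refine ⟨hd1, hχ1, hh1, ?_⟩
        rw [hq00]; ring
      · -- q ≥ 1
        have hq1 : 1 ≤ q := hqpos
        have h1 : 2 * q * (r * h) ≤ 2 * q * (2 * n * d * p) := by
          apply mul_le_mul_of_nonneg_left _ (by linarith)
          linarith
        have h2 : d * (4 * n * p * q) ≤ d * (h * h) := mul_le_mul_of_nonneg_left hodge hd.le
        have h3 : 2 * r * q * h ≤ d * h * h := by nlinarith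
        have h4 : 2 * r * q ≤ d * h := by
          by_contra hcon
          push_neg at hcon
          have : (d * h) * h < (2 * r * q) * h := mul_lt_mul_of_pos_right hcon hpos
          nlinarith
        have h5 : 2 ≤ r * q := by nlinarith
        have h6 : 1 ≤ -χ * p := by nlinarith
        linarith
  · intro hb
    by_contra ha
    push_neg at ha
    -- bad case 2 : 2ndp < rh, 2ndq ≤ χh
    have hh : 1 ≤ h := by
      by_contra hh
      push_neg at hh
      have hh0 : h ≤ 0 := by omega
      have : r * h ≤ 0 := by nlinarith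
      have : 0 ≤ 2 * n * d * p := by positivity
      linarith
    have hχh : χ * h ≤ -1 := by nlinarith
    have hq : q ≤ -1 := by
      by_contra hq
      push_neg at hq
      have hq0 : 0 ≤ q := by omega
      have : 0 ≤ 2 * n * d * q := by positivity
      linarith
    have h1 : 1 ≤ d * h := by nlinarith
    have h2 : 2 ≤ -(r * q) := by nlinarith
    have h3 : 0 ≤ -(χ * p) := by nlinarith
    linarith

theorem result
    (N : Type u) [AddCommGroup N] (B : LinearMap.BilinForm ℤ N) (hB : ∀ x y : N, B x y = B y x)
    (H : N) (n : ℤ) (hn : 0 < n) (hH : B H H = 2 * n) (hodge : ∀ x : N, B x H = 0 → B x x ≤ 0)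
    (r d χ p q : ℤ) (η : N) (hr : 2 ≤ r) (hd : 0 < d) (hχ : χ < 0) (hp : 0 ≤ p)
    (hiso : B η η = 2 * p * q)
    (hvu : 1 ≤ |d * B H η - r * q - χ * p| ∧ |d * B H η - r * q - χ * p| ≤ 2)
    (hexc : ¬ (d = 1 ∧ χ = -1 ∧ B H η = 1 ∧ B η η = 0))
    (hr2 : r = 2 → ¬ (p = 0 ∧ B H η = 0)) :
    (0 ≤ 2 * n * d * p - r * B H η ↔ 0 ≤ χ * B H η - 2 * n * d * q) := by
  set h := B H η with hh
  -- Hodge index for x = 2n η - h H
  have hx : B ((2 * n) • η - h • H) H = 0 := by
    simp only [map_sub, map_smul, LinearMap.sub_apply, LinearMap.smul_apply, smul_eq_mul]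
    rw [hB η H, hH]
    ring
  have h1 := hodge _ hx
  have h2 : B ((2 * n) • η - h • H) ((2 * n) • η - h • H) =
      (2 * n) * (2 * n) * B η η - 2 * (2 * n) * h * h + h * h * (2 * n) := by
    simp only [map_sub, map_smul, LinearMap.sub_apply, LinearMap.smul_apply, smul_eq_mul]
    rw [hB η H, hH]
    ring
  rw [h2, hiso] at h1
  have hodge' : 4 * n * p * q ≤ h * h := by
    by_contra hcon
    push_neg at hcon
    have : 0 < (2 * n) * (4 * n * p * q - h * h) := mul_pos (by linarith) (by linarith)
    nlinarith
  apply core n r d χ p q h hn hr hd hχ hp hodge' hvu.1 hvu.2 _ hr2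
  rintro ⟨h1, h2, h3, h4⟩
  apply hexc
  refine ⟨h1, h2, h3, ?_⟩
  rw [hiso]; exact h4

end Groth.Agent.S16156
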