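import Groth.Statements.S16158
import Mathlib

set_option autoImplicit false
universe u v w
open MadRed

namespace Groth.Agent.S16158

open Submodule

variable {R : Type u} [CommRing R] {M : Type v} [AddCommGroup M] [Module R M]

/-- `s`-indexed family weakly independent modulo `L` -/
def WI (L : Submodule R M) {J : Type w} (s : Finset J) (v : J → M) : Prop :=
  (∀ i ∈ s, v i ∉ L) ∧ ∀ c : J → R, ∑ i ∈ s, c i • v i ∈ L → ∀ i ∈ s, c i • v i ∈ L

/-- bounded weakly independent families modulo `L` -/
def Bd (L : Submodule R M) : Prop :=
  ∃ n : ℕ, ∀ (J : Type w) (s : Finset J) (v : J → M), WI L s v → s.card ≤ n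

/-- Linear-independence count in a module killed by a proper ideal. -/
theorem card_le_of_torsion (I : Ideal R) (hI : I ≠ ⊤) (Q : Type v) [AddCommGroup Q] [Module R Q]
    [IsNoetherian R Q] :
    ∃ r : ℕ, ∀ (J : Type w) (s : Finset J) (t : J → Q),
      (∀ i ∈ s, t i ∈ torsionBySet R Q I) →
      (∀ c : J → R, ∑ i ∈ s, c i • t i = 0 → ∀ i ∈ s, c i ∈ I) → s.card ≤ r := by
  classical
  have : Nontrivial (R ⧸ I) := Ideal.Quotient.nontrivial_iff.mpr hI
  let T := torsionBySet R Q I
  have hfinR : Module.Finite R T := inferInstance
  have hfin : Module.Finite (R ⧸ I) T := Module.Finite.of_restrictScalars_finite R (R ⧸ I) T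
  obtain ⟨w, hw⟩ := (Module.finite_def.mp hfin)
  refine ⟨w.card, ?_⟩
  intro J s t ht hind
  -- the family of elements of T indexed by ↥s
  let tt : s → T := fun i => ⟨t i.1, ht i.1 i.2⟩
  have hli : LinearIndependent (R ⧸ I) tt := by
    rw [Fintype.linearIndependent_iff]
    intro g hg
    -- lift g
    let g' : J → R ⧸ I := fun j => if h : j ∈ s then g ⟨j, h⟩ else 0
    let c : J → R := fun j => Function.surjInv Ideal.Quotient.mk_surjective (g' j)
    have hc : ∀ i : s, Ideal.Quotient.mk I (c i.1) = g i := by
      intro i
      have h1 : Ideal.Quotient.mk I (c i.1) = g' i.1 :=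
        Function.surjInv_eq (Ideal.Quotient.mk_surjective (I := I)) (g' i.1)
      rw [h1]
      simp [g']
    have hsum : ∑ i ∈ s, c i • t i = 0 := by
      have h1 : ∑ i : s, g i • tt i = 0 := hg
      have h2 : ∀ i : s, g i • tt i = c i.1 • tt i := by
        intro i
        rw [← hc i]
        rfl
      simp only [h2] at h1
      have h3 := congrArg (Subtype.val) h1
      simp only [Submodule.coe_sum, Submodule.coe_smul, Submodule.coe_zero] at h3
      rw [← Finset.sum_coe_sort s (fun j => c j • t j)]
      exact h3
    intro i
    rw [← hc i, Ideal.Quotient.eq_zero_iff_mem]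
    exact hind c hsum i.1 i.2
  have := linearIndependent_le_span_finset tt hli w hw
  rw [Cardinal.mk_fintype, Fintype.card_coe] at this
  exact_mod_cast this

/-- the colon ideal `(L : x)` -/
def col (L : Submodule R M) (x : M) : Ideal R := L.comap (LinearMap.toSpanSingleton R M x)

theorem mem_col (L : Submodule R M) (x : M) (a : R) : a ∈ col L x ↔ a • x ∈ L := by
  unfold col
  rw [Submodule.mem_comap, LinearMap.toSpanSingleton_apply]

/-- elements killed into `L` by the ideal `I` -/
def colMod (L : Submodule R M) (I : Ideal R) : Submodule R M where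
  carrier := {m | ∀ a ∈ I, a • m ∈ L}
  add_mem' := by
    intro x y hx hy a ha
    rw [smul_add]
    exact L.add_mem (hx a ha) (hy a ha)
  zero_mem' := by
    intro a _
    rw [smul_zero]
    exact L.zero_mem
  smul_mem' := by
    intro b x hx a ha
    rw [smul_comm]
    exact L.smul_mem b (hx a ha)

theorem mem_colMod (L : Submodule R M) (I : Ideal R) (m : M) :
    m ∈ colMod L I ↔ ∀ a ∈ I, a • m ∈ L := Iff.rfl

theorem step [IsNoetherianRing R] [IsNoetherian R M] (L : Submodule R M)
    (ih : ∀ L' > L, Bd.{u, v, w} L') : Bd.{u, v, w} L := by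
  classical
  by_cases hL : L = ⊤
  · refine ⟨0, ?_⟩
    intro J s v hWI
    rw [Nat.le_zero, Finset.card_eq_zero, Finset.eq_empty_iff_forall_notMem]
    intro i hi
    exact hWI.1 i hi (hL ▸ Submodule.mem_top)
  · obtain ⟨x₀, hx₀⟩ : ∃ x, x ∉ L := by
      by_contra hcon
      push_neg at hcon
      exact hL (eq_top_iff.mpr fun x _ => hcon x)
    -- maximal colon ideal
    let S : Set (Ideal R) := {I | ∃ x, x ∉ L ∧ I = col L x}
    have hS : S.Nonempty := ⟨col L x₀, x₀, hx₀, rfl⟩
    obtain ⟨P, ⟨x₁, hx₁, rfl⟩, hmax⟩ :=
      (set_has_maximal_iff_noetherian (R := R) (M := R)).mpr inferInstance S hS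
    set P := col L x₁ with hP
    have hPtop : P ≠ ⊤ := by
      intro h
      have : (1 : R) ∈ P := h ▸ Submodule.mem_top
      rw [mem_col, one_smul] at this
      exact hx₁ this
    let K := colMod L P
    have hLK : L < K := by
      refine lt_of_le_of_ne ?_ ?_
      · intro m hm a _
        exact L.smul_mem a hm
      · intro h
        apply hx₁
        rw [h]
        intro a ha
        exact (mem_col L x₁ a).mp ha
    obtain ⟨n₁, hn₁⟩ := ih K hLK
    obtain ⟨r, hr⟩ := card_le_of_torsion.{u, v, w} P hPtop (M ⧸ L)
    refine ⟨n₁ + r, ?_⟩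
    intro J s v hWI
    -- split s
    have hsplit := Finset.card_filter_add_card_filter_not (s := s) (fun i => v i ∉ K)
    -- part B : v i ∉ K
    have hB : (s.filter (fun i => v i ∉ K)).card ≤ n₁ := by
      apply hn₁ J _ v
      constructor
      · intro i hi
        exact (Finset.mem_filter.mp hi).2
      · intro c hc i hi
        rw [mem_colMod]
        intro a ha
        -- extend by zero
        let c' : J → R := fun j => if v j ∉ K then a * c j else 0
        have hsum : ∑ j ∈ s, c' j • v j ∈ L := by
          have h1 : ∑ j ∈ s, c' j • v j = a • ∑ j ∈ s.filter (fun i => v i ∉ K), c j • v j := by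
            rw [Finset.smul_sum, Finset.sum_filter]
            apply Finset.sum_congr rfl
            intro j _
            by_cases hj : v j ∉ K
            · simp only [c', hj, not_false_eq_true, if_true, mul_smul]
            · simp only [c', hj, if_false, zero_smul]
          rw [h1]
          exact (mem_colMod L P _).mp hc a ha
        have := hWI.2 c' hsum i (Finset.mem_filter.mp hi).1
        have hi2 := (Finset.mem_filter.mp hi).2
        simp only [c', hi2, not_false_eq_true, if_true, mul_smul] at this
        exact this
    -- part A : v i ∈ K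
    have hA : (s.filter (fun i => ¬ (v i ∉ K))).card ≤ r := by
      apply hr J _ (fun j => L.mkQ (v j))
      · intro i hi
        have hiK : v i ∈ K := not_not.mp (Finset.mem_filter.mp hi).2
        rw [Submodule.mem_torsionBySet_iff]
        intro a
        rw [← map_smul, Submodule.mkQ_apply, Submodule.Quotient.mk_eq_zero]
        exact (mem_colMod L P _).mp hiK a.1 a.2
      · intro c hc i hi
        have hiK : v i ∈ K := not_not.mp (Finset.mem_filter.mp hi).2
        have his : i ∈ s := (Finset.mem_filter.mp hi).1
        -- extend by zero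
        let c' : J → R := fun j => if ¬ (v j ∉ K) then c j else 0
        have hsum : ∑ j ∈ s, c' j • v j ∈ L := by
          have h1 : ∑ j ∈ s, c' j • v j = ∑ j ∈ s.filter (fun i => ¬ (v i ∉ K)), c j • v j := by
            rw [Finset.sum_filter]
            apply Finset.sum_congr rfl
            intro j _
            by_cases hj : ¬ (v j ∉ K)
            · simp only [c', hj, not_false_eq_true, if_true]
            · simp only [c', hj, if_false, zero_smul]
          rw [h1, ← Submodule.Quotient.mk_eq_zero, ← Submodule.mkQ_apply, map_sum]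
          simpa only [map_smul] using hc
        have h2 := hWI.2 c' hsum i his
        have hi2 := (Finset.mem_filter.mp hi).2
        simp only [c', hi2, not_false_eq_true, if_true] at h2
        -- c i ∈ col L (v i) = P
        have hcol : c i ∈ col L (v i) := (mem_col L (v i) (c i)).mpr h2
        have hle : P ≤ col L (v i) := by
          intro a ha
          rw [mem_col]
          exact (mem_colMod L P _).mp hiK a ha
        have hmem : col L (v i) ∈ S := ⟨v i, hWI.1 i his, rfl⟩
        have hnlt := hmax _ hmem
        have heq : P = col L (v i) := by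
          by_contra hne
          exact hnlt (lt_of_le_of_ne hle hne)
        rw [heq]
        exact hcol
    omega

theorem bd_bot [IsNoetherianRing R] [IsNoetherian R M] : Bd.{u, v, w} (⊥ : Submodule R M) :=
  IsNoetherian.induction (P := fun L => Bd.{u, v, w} L) (fun L ih => step L ih) ⊥

theorem result (R : Type u) [CommRing R] [IsNoetherianRing R]
    (M : Type v) [AddCommGroup M] [Module R M] [Module.Finite R M] :
    ∃ n : ℕ, ∀ (ι : Type w) [DecidableEq ι] (N : ι → Submodule R M), DirectSum.IsInternal N →
      ∃ s : Finset ι, s.card ≤ n ∧ ∀ i, N i ≠ ⊥ → i ∈ s := by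
  classical
  have : IsNoetherian R M := inferInstance
  obtain ⟨n, hn⟩ := bd_bot.{u, v, w} (R := R) (M := M)
  refine ⟨n, ?_⟩
  intro ι _ N hN
  have hind : iSupIndep N := hN.submodule_iSupIndep
  -- every finite set of indices with nonzero summands has card ≤ n
  have hfinite : ∀ s : Finset ι, (∀ i ∈ s, N i ≠ ⊥) → s.card ≤ n := by
    intro s hs
    have hex : ∀ i : ι, ∃ x : M, x ∈ N i ∧ (N i ≠ ⊥ → x ≠ 0) := by
      intro i
      by_cases hi : N i = ⊥
      · exact ⟨0, (N i).zero_mem, fun h => absurd hi h⟩
      · obtain ⟨x, hx, hx0⟩ := (Submodule.ne_bot_iff _).mp hi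
        exact ⟨x, hx, fun _ => hx0⟩
    choose v hvN hv0 using hex
    apply hn ι s v
    constructor
    · intro i hi
      rw [Submodule.mem_bot]
      exact hv0 i (hs i hi)
    · intro c hc i hi
      rw [Submodule.mem_bot] at hc ⊢
      exact (iSupIndep_iff_finsetSum_eq_zero_imp_eq_zero N).mp hind s (fun j => c j • v j)
        (fun j _ => (N j).smul_mem _ (hvN j)) hc i hi
  have hfin : {i | N i ≠ ⊥}.Finite := by
    by_contra hinf
    obtain ⟨t, ht, htc⟩ := Set.Infinite.exists_subset_card_eq hinf (n + 1)
    have := hfinite t (fun i hi => ht hi)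
    omega
  refine ⟨hfin.toFinset, ?_, ?_⟩
  · apply hfinite
    intro i hi
    exact (Set.Finite.mem_toFinset hfin).mp hi
  · intro i hi
    exact (Set.Finite.mem_toFinset hfin).mpr hi

end Groth.Agent.S16158
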