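import Groth.Statements.S16159
import Groth.Agent.S16158
import Mathlib

set_option autoImplicit false
universe u v w x
open MadRed

namespace Groth.Agent.S16159

open Module.End

section Field

variable {k : Type u} [Field k] {V : Type w} [AddCommGroup V] [Module k V]
variable {ι : Type x} (g : ι → Module.End k V)

/-- two vectors are separated by an eigenvalue of some member of the family -/
def Sep (a b : V) : Prop :=
  ∃ i μ ν, μ ≠ ν ∧ a ∈ eigenspace (g i) μ ∧ b ∈ eigenspace (g i) ν

theorem Sep.symm {a b : V} (h : Sep g a b) : Sep g b a := by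
  obtain ⟨i, μ, ν, hne, ha, hb⟩ := h
  exact ⟨i, ν, μ, hne.symm, hb, ha⟩

theorem Sep.ne {a b : V} (h : Sep g a b) (ha0 : a ≠ 0) : a ≠ b := by
  obtain ⟨i, μ, ν, hne, ha, hb⟩ := h
  intro hab
  subst hab
  rw [mem_eigenspace_iff] at ha hb
  have : (μ - ν) • a = 0 := by rw [sub_smul, ← ha, ← hb, sub_self]
  rcases smul_eq_zero.mp this with h | h
  · exact hne (sub_eq_zero.mp h)
  · exact ha0 h

/-- eigenspaces are preserved by commuting maps -/
theorem mem_eigenspace_of_commute {f h : Module.End k V} (hc : Commute f h) {μ : k} {a : V}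
    (ha : a ∈ eigenspace f μ) : h a ∈ eigenspace f μ := by
  rw [mem_eigenspace_iff] at ha ⊢
  have : f (h a) = h (f a) := by
    have := congrArg (fun φ : Module.End k V => φ a) hc.eq
    simpa [Module.End.mul_apply] using this
  rw [this, ha, map_smul]

/-- Lemma S: a separated indexed family with zero sum vanishes. -/
theorem sep_sum_zero (hcomm : ∀ i j, Commute (g i) (g j)) {J : Type*} [DecidableEq J] :
    ∀ (n : ℕ) (A : Finset J) (y : J → V), A.card = n →
      (∀ a ∈ A, ∀ b ∈ A, a ≠ b → Sep g (y a) (y b)) → ∑ a ∈ A, y a = 0 → ∀ a ∈ A, y a = 0 := by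
  intro n
  induction n with
  | zero =>
    intro A y hA _ _ a ha
    rw [Finset.card_eq_zero] at hA
    subst hA
    simp at ha
  | succ n ih =>
    intro A y hA hsep hsum a₀ ha₀
    by_cases hex : ∃ b ∈ A, b ≠ a₀
    · obtain ⟨b, hb, hba⟩ := hex
      obtain ⟨i, μ, ν, hne, hya, hyb⟩ := hsep a₀ ha₀ b hb hba.symm
      let h : Module.End k V := g i - ν • (1 : Module.End k V)
      have hcomm_h : ∀ j, Commute (g j) h := by
        intro j
        apply Commute.sub_right (hcomm j i)
        exact (Commute.one_right _).smul_right ν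
      have hA' : (A.erase b).card = n := by
        rw [Finset.card_erase_of_mem hb, hA]; rfl
      have hsep' : ∀ a ∈ A.erase b, ∀ c ∈ A.erase b, a ≠ c → Sep g (h (y a)) (h (y c)) := by
        intro a ha c hc hac
        obtain ⟨j, μ', ν', hne', h1, h2⟩ := hsep a (Finset.mem_of_mem_erase ha) c
          (Finset.mem_of_mem_erase hc) hac
        exact ⟨j, μ', ν', hne', mem_eigenspace_of_commute (hcomm_h j) h1,
          mem_eigenspace_of_commute (hcomm_h j) h2⟩
      have hhyb : h (y b) = 0 := by
        rw [mem_eigenspace_iff] at hyb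
        simp [h, hyb]
      have hsum' : ∑ a ∈ A.erase b, h (y a) = 0 := by
        have h1 : ∑ a ∈ A, h (y a) = 0 := by rw [← map_sum, hsum, map_zero]
        rw [← Finset.add_sum_erase A _ hb, hhyb, zero_add] at h1
        exact h1
      have := ih (A.erase b) (fun a => h (y a)) hA' hsep' hsum' a₀
        (Finset.mem_erase.mpr ⟨hba.symm, ha₀⟩)
      rw [mem_eigenspace_iff] at hya
      have h2 : (μ - ν) • y a₀ = 0 := by
        have : h (y a₀) = (μ - ν) • y a₀ := by simp [h, hya, sub_smul]
        rw [← this]; exact this ▸ ‹h (y a₀) = 0›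
      rcases smul_eq_zero.mp h2 with h3 | h3
      · exact absurd (sub_eq_zero.mp h3) hne
      · exact h3
    · push_neg at hex
      have : A = {a₀} := by
        ext c
        constructor
        · intro hc
          rw [Finset.mem_singleton]
          exact hex c hc
        · intro hc
          rw [Finset.mem_singleton] at hc
          rw [hc]; exact ha₀
      rw [this, Finset.sum_singleton] at hsum
      exact hsum

/-- Fact 0: components of a vector of a stable subspace lie in that subspace. -/
theorem components_mem (f : Module.End k V) (p : Submodule k V) (hp : ∀ a ∈ p, f a ∈ p) :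
    ∀ (S : Finset k) (y : k → V), (∀ μ ∈ S, y μ ∈ eigenspace f μ) → ∑ μ ∈ S, y μ ∈ p →
      ∀ μ ∈ S, y μ ∈ p := by
  classical
  intro S
  induction S using Finset.induction_on with
  | empty => intro y _ _ μ hμ; simp at hμ
  | insert μ₀ S hμ₀ ih =>
    intro y hy hsum
    have hy0 : f (y μ₀) = μ₀ • y μ₀ := mem_eigenspace_iff.mp (hy μ₀ (Finset.mem_insert_self _ _))
    have hyS : ∀ μ ∈ S, f (y μ) = μ • y μ := fun μ hμ =>
      mem_eigenspace_iff.mp (hy μ (Finset.mem_insert_of_mem hμ))
    rw [Finset.sum_insert hμ₀] at hsum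
    -- apply f - μ₀
    have h1 : f (y μ₀ + ∑ μ ∈ S, y μ) - μ₀ • (y μ₀ + ∑ μ ∈ S, y μ) ∈ p :=
      p.sub_mem (hp _ hsum) (p.smul_mem _ hsum)
    have h2 : f (y μ₀ + ∑ μ ∈ S, y μ) - μ₀ • (y μ₀ + ∑ μ ∈ S, y μ) =
        ∑ μ ∈ S, (μ - μ₀) • y μ := by
      rw [map_add, hy0, map_sum, smul_add, Finset.smul_sum]
      rw [add_sub_add_left_eq_sub, ← Finset.sum_sub_distrib]
      apply Finset.sum_congr rfl
      intro μ hμ
      rw [hyS μ hμ, sub_smul]
    rw [h2] at h1
    have h3 := ih (fun μ => (μ - μ₀) • y μ)
      (fun μ hμ => (eigenspace f μ).smul_mem _ (hy μ (Finset.mem_insert_of_mem hμ))) h1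
    have h4 : ∀ μ ∈ S, y μ ∈ p := by
      intro μ hμ
      have hne : μ - μ₀ ≠ 0 := by
        intro h
        rw [sub_eq_zero] at h
        exact hμ₀ (h ▸ hμ)
      have := p.smul_mem (μ - μ₀)⁻¹ (h3 μ hμ)
      rwa [smul_smul, inv_mul_cancel₀ hne, one_smul] at this
    intro μ hμ
    rcases Finset.mem_insert.mp hμ with rfl | hμS
    · have : y μ = (y μ + ∑ ν ∈ S, y ν) - ∑ ν ∈ S, y ν := by abel
      rw [this]
      exact p.sub_mem hsum (p.sum_mem h4)
    · exact h4 μ hμS

end Field

theorem result
    (k : Type u) [Field k] (R : Type v) [CommRing R] [Algebra k R] [IsNoetherianRing R]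
    (V : Type w) [AddCommGroup V] [Module R V] [Module k V] [IsScalarTower k R V]
    (ι : Type x) (f : ι → Module.End R V)
    (hcomm : ∀ i j, Commute (f i) (f j))
    (hdiag : ∀ i, ⨆ μ : k, Module.End.eigenspace ((f i).restrictScalars k) μ = ⊤)
    (hfin : ∀ v : V, ∃ W : Submodule R V, v ∈ W ∧ W.FG ∧ ∀ i, ∀ w ∈ W, f i w ∈ W) :
    ⨆ χ : ι → k, ⨅ i, Module.End.eigenspace ((f i).restrictScalars k) (χ i) = ⊤ := by
  classical
  set g : ι → Module.End k V := fun i => (f i).restrictScalars k with hg
  have hg_apply : ∀ i a, g i a = f i a := fun i a => rfl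
  have hcomm' : ∀ i j, Commute (g i) (g j) := by
    intro i j
    apply LinearMap.ext
    intro a
    have := congrArg (fun φ : Module.End R V => φ a) (hcomm i j).eq
    show (f i) ((f j) a) = (f j) ((f i) a)
    simpa [Module.End.mul_apply] using this
  -- eigenspaces are stable under scalars from R
  have hsmul_eig : ∀ (i : ι) (μ : k) (r : R) (a : V), a ∈ eigenspace (g i) μ →
      r • a ∈ eigenspace (g i) μ := by
    intro i μ r a ha
    rw [mem_eigenspace_iff] at ha ⊢
    rw [hg_apply, map_smul, ← hg_apply, ha, smul_comm]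
  rw [eq_top_iff]
  intro v _
  obtain ⟨W, hvW, hWfg, hWstab⟩ := hfin v
  have hfinW : Module.Finite R W := Module.Finite.iff_fg.mpr hWfg
  have hnoeW : IsNoetherian R W := inferInstance
  obtain ⟨n, hn⟩ := Groth.Agent.S16158.bd_bot.{v, w, w} (R := R) (M := W)
  set Jsp : Submodule k V := ⨆ χ : ι → k, ⨅ i, eigenspace (g i) (χ i) with hJsp
  -- good families
  let Good : Finset V → Prop := fun A =>
    (∀ a ∈ A, a ≠ 0 ∧ a ∈ W) ∧ (∀ a ∈ A, ∀ b ∈ A, a ≠ b → Sep g a b)
  have hbound : ∀ A : Finset V, Good A → A.card ≤ n := by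
    intro A hA
    let v' : V → W := fun a => if h : a ∈ W then (⟨a, h⟩ : W) else 0
    have hv' : ∀ a (h : a ∈ W), v' a = ⟨a, h⟩ := fun a h => dif_pos h
    apply hn V A v'
    constructor
    · intro a ha
      rw [Submodule.mem_bot, hv' a (hA.1 a ha).2]
      intro h0
      exact (hA.1 a ha).1 (congrArg Subtype.val h0)
    · intro c hc a ha
      rw [Submodule.mem_bot] at hc ⊢
      have hc' : ∑ b ∈ A, c b • b = 0 := by
        have h1 := congrArg Subtype.val hc
        rw [Submodule.coe_sum, Submodule.coe_zero] at h1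
        rw [← h1]
        apply Finset.sum_congr rfl
        intro b hb
        rw [hv' b (hA.1 b hb).2]
        rfl
      have hsepc : ∀ a ∈ A, ∀ b ∈ A, a ≠ b → Sep g (c a • a) (c b • b) := by
        intro a ha b hb hab
        obtain ⟨i, μ, ν, hne, h1, h2⟩ := hA.2 a ha b hb hab
        exact ⟨i, μ, ν, hne, hsmul_eig i μ _ _ h1, hsmul_eig i ν _ _ h2⟩
      have := sep_sum_zero g hcomm' A.card A (fun a => c a • a) rfl hsepc hc' a ha
      rw [hv' a (hA.1 a ha).2]
      apply Subtype.ext
      exact this
  -- main claim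
  have hmain : ∀ d : ℕ, ∀ A : Finset V, Good A → n - A.card = d → ∑ a ∈ A, a ∈ Jsp := by
    intro d
    induction d using Nat.strong_induction_on with
    | _ d ih =>
      intro A hA hd
      by_cases hall : ∀ a ∈ A, ∀ i, ∃ μ, a ∈ eigenspace (g i) μ
      · apply Jsp.sum_mem
        intro a ha
        choose χ hχ using hall a ha
        apply Submodule.mem_iSup_of_mem χ
        rw [Submodule.mem_iInf]
        exact hχ
      · push_neg at hall
        obtain ⟨a, haA, i, hai⟩ := hall
        have ha0 : a ≠ 0 := (hA.1 a haA).1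
        -- the stable subspace
        let Z : Submodule k V := W.restrictScalars k ⊓
          ⨅ j, ⨅ μ, ⨅ (_ : a ∈ eigenspace (g j) μ), eigenspace (g j) μ
        have hZmem : ∀ b, b ∈ Z ↔ b ∈ W ∧ ∀ j μ, a ∈ eigenspace (g j) μ → b ∈ eigenspace (g j) μ := by
          intro b
          show b ∈ W.restrictScalars k ⊓
            ⨅ j, ⨅ μ, ⨅ (_ : a ∈ eigenspace (g j) μ), eigenspace (g j) μ ↔ _
          rw [Submodule.mem_inf]
          simp only [Submodule.mem_iInf, Submodule.restrictScalars_mem]
        have haZ : a ∈ Z := (hZmem a).mpr ⟨(hA.1 a haA).2, fun j μ h => h⟩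
        have hZstab : ∀ b ∈ Z, g i b ∈ Z := by
          intro b hbZ
          obtain ⟨hbW, hb⟩ := (hZmem b).mp hbZ
          exact (hZmem _).mpr ⟨hWstab i b hbW, fun j μ h =>
            mem_eigenspace_of_commute (hcomm' j i) (hb j μ h)⟩
        have hZW : ∀ b ∈ Z, b ∈ W := fun b hb => ((hZmem b).mp hb).1
        have hZeig : ∀ b ∈ Z, ∀ j μ, a ∈ eigenspace (g j) μ → b ∈ eigenspace (g j) μ :=
          fun b hb => ((hZmem b).mp hb).2
        have hatop : a ∈ ⨆ μ : k, eigenspace (g i) μ := by
          rw [hdiag i]; exact Submodule.mem_top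
        obtain ⟨F, hF, hFsum⟩ := (Submodule.mem_iSup_iff_exists_finsupp _ _).mp hatop
        have hFsum' : ∑ μ ∈ F.support, F μ = a := hFsum
        have hFZ : ∀ μ ∈ F.support, F μ ∈ Z :=
          components_mem (g i) Z hZstab F.support F (fun μ _ => hF μ) (hFsum' ▸ haZ)
        have hF0 : ∀ μ ∈ F.support, F μ ≠ 0 := fun μ hμ => Finsupp.mem_support_iff.mp hμ
        have hFinj : Set.InjOn F F.support := by
          intro μ hμ ν hν hμν
          by_contra hne
          have hsep : Sep g (F μ) (F ν) := ⟨i, μ, ν, hne, hF μ, hF ν⟩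
          exact hsep.ne g (hF0 μ hμ) hμν
        have hTcard : 2 ≤ F.support.card := by
          by_contra hlt
          push_neg at hlt
          interval_cases hc : F.support.card
          · rw [Finset.card_eq_zero] at hc
            rw [hc, Finset.sum_empty] at hFsum'
            exact ha0 hFsum'.symm
          · rw [Finset.card_eq_one] at hc
            obtain ⟨ν, hν⟩ := hc
            rw [hν, Finset.sum_singleton] at hFsum'
            exact hai ν (hFsum' ▸ hF ν)
        let A' : Finset V := A.erase a ∪ F.support.image F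
        have hdisj : Disjoint (A.erase a) (F.support.image F) := by
          rw [Finset.disjoint_left]
          intro b hb hb'
          obtain ⟨μ, hμ, rfl⟩ := Finset.mem_image.mp hb'
          have hba : F μ ≠ a := (Finset.mem_erase.mp hb).1
          have hbA : F μ ∈ A := (Finset.mem_erase.mp hb).2
          -- F μ ∈ A, F μ ≠ a, so Sep a (F μ); but F μ lies in the same eigenspaces as a
          obtain ⟨j, μ', ν', hne', h1, h2⟩ := hA.2 a haA (F μ) hbA hba.symm
          have h3 := hZeig (F μ) (hFZ μ hμ) j μ' h1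
          have hsep : Sep g (F μ) (F μ) := ⟨j, μ', ν', hne', h3, h2⟩
          exact hsep.ne g (hF0 μ hμ) rfl
        have hA'good : Good A' := by
          constructor
          · intro b hb
            rcases Finset.mem_union.mp hb with hb | hb
            · exact hA.1 b (Finset.mem_of_mem_erase hb)
            · obtain ⟨μ, hμ, rfl⟩ := Finset.mem_image.mp hb
              exact ⟨hF0 μ hμ, hZW _ (hFZ μ hμ)⟩
          · intro b hb c hc hbc
            rcases Finset.mem_union.mp hb with hb | hb <;> rcases Finset.mem_union.mp hc with hc | hc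
            · exact hA.2 b (Finset.mem_of_mem_erase hb) c (Finset.mem_of_mem_erase hc) hbc
            · obtain ⟨μ, hμ, rfl⟩ := Finset.mem_image.mp hc
              have hba : b ≠ a := (Finset.mem_erase.mp hb).1
              obtain ⟨j, μ', ν', hne', h1, h2⟩ :=
                hA.2 a haA b (Finset.mem_of_mem_erase hb) hba.symm
              exact ⟨j, ν', μ', hne'.symm, h2, hZeig _ (hFZ μ hμ) j μ' h1⟩
            · obtain ⟨μ, hμ, rfl⟩ := Finset.mem_image.mp hb
              have hca : c ≠ a := (Finset.mem_erase.mp hc).1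
              obtain ⟨j, μ', ν', hne', h1, h2⟩ :=
                hA.2 a haA c (Finset.mem_of_mem_erase hc) hca.symm
              exact ⟨j, μ', ν', hne', hZeig _ (hFZ μ hμ) j μ' h1, h2⟩
            · obtain ⟨μ, hμ, rfl⟩ := Finset.mem_image.mp hb
              obtain ⟨ν, hν, rfl⟩ := Finset.mem_image.mp hc
              have hne : μ ≠ ν := fun h => hbc (h ▸ rfl)
              exact ⟨i, μ, ν, hne, hF μ, hF ν⟩
        have hA'sum : ∑ b ∈ A', b = ∑ b ∈ A, b := by
          rw [Finset.sum_union hdisj, Finset.sum_image hFinj, hFsum', add_comm,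
            Finset.add_sum_erase A (fun b => b) haA]
        have hA'card : A.card < A'.card := by
          rw [Finset.card_union_of_disjoint hdisj, Finset.card_image_of_injOn hFinj,
            Finset.card_erase_of_mem haA]
          have : 1 ≤ A.card := Finset.card_pos.mpr ⟨a, haA⟩
          omega
        have hA'le := hbound A' hA'good
        rw [← hA'sum]
        exact ih (n - A'.card) (by omega) A' hA'good rfl
  by_cases hv0 : v = 0
  · rw [hv0]; exact Submodule.zero_mem _
  · have hgood : Good {v} := by
      constructor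
      · intro a ha
        rw [Finset.mem_singleton] at ha
        rw [ha]; exact ⟨hv0, hvW⟩
      · intro a ha b hb hab
        rw [Finset.mem_singleton] at ha hb
        exact absurd (ha.trans hb.symm) hab
    have := hmain _ {v} hgood rfl
    rwa [Finset.sum_singleton] at this

end Groth.Agent.S16159
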