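import Groth.Statements.S16160
import Groth.Agent.S16159
import Groth.Agent.H40.Comod
import Mathlib

set_option autoImplicit false
universe u v w
open scoped TensorProduct
open MadRed

namespace Groth.Agent.S16160

open Coalgebra WithConv

variable (k : Type u) [Field k] (A : Type v) [CommRing A] [HopfAlgebra k A]
  (R : Type w) [CommRing R] [Algebra k R]

theorem translAux_apply_repr (g : A →ₐ[k] R) (a : A) {ι : Type*} (𝓡 : Coalgebra.Repr k a ι) :
    translAux k A R g a = ∑ i ∈ 𝓡.index, g (𝓡.right i) ⊗ₜ[k] 𝓡.left i := by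
  unfold translAux
  simp only [AlgHom.comp_apply, Bialgebra.comulAlgHom_apply, AlgEquiv.toAlgHom_eq_coe,
    AlgHom.coe_coe]
  rw [← 𝓡.eq]
  simp only [map_sum]
  apply Finset.sum_congr rfl
  intro i _
  have : ((Algebra.TensorProduct.comm k A A : A ⊗[k] A →ₐ[k] A ⊗[k] A)) (𝓡.left i ⊗ₜ[k] 𝓡.right i)
      = 𝓡.right i ⊗ₜ[k] 𝓡.left i := Algebra.TensorProduct.comm_tmul _ _ _
  rw [this, Algebra.TensorProduct.map_tmul, AlgHom.id_apply]

theorem ptAct_tmul (g : A →ₐ[k] R) (r : R) (a : A) :
    ptAct k A R g (r ⊗ₜ[k] a) = r • translAux k A R g a := by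
  unfold ptAct
  rw [Algebra.TensorProduct.lift_tmul, Algebra.smul_def]
  rfl

/-- composition of translations -/
theorem ptAct_translAux (g h : A →ₐ[k] R) (a : A) :
    ptAct k A R h (translAux k A R g a) =
      translAux k A R (ofConv (toConv h * toConv g)) a := by
  classical
  let 𝓡 := Coalgebra.Repr.arbitrary k a
  let a₁ := fun i : A × A => Coalgebra.Repr.arbitrary k (𝓡.left i)
  let a₂ := fun i : A × A => Coalgebra.Repr.arbitrary k (𝓡.right i)
  have hco := Coalgebra.sum_tmul_tmul_eq 𝓡 a₁ a₂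
  let Ψ : A ⊗[k] (A ⊗[k] A) →ₗ[k] R ⊗[k] A :=
    (TensorProduct.comm k A R).toLinearMap ∘ₗ
      (LinearMap.lTensor A ((LinearMap.mul' k R) ∘ₗ TensorProduct.map h.toLinearMap g.toLinearMap))
  have hΨ : ∀ x y z : A, Ψ (x ⊗ₜ[k] (y ⊗ₜ[k] z)) = (h y * g z) ⊗ₜ[k] x := by
    intro x y z
    simp [Ψ]
  have hco' := congrArg Ψ hco
  simp only [map_sum, hΨ] at hco'
  rw [translAux_apply_repr k A R g a 𝓡, map_sum, translAux_apply_repr k A R _ a 𝓡]
  have hL : ∀ i, ptAct k A R h (g (𝓡.right i) ⊗ₜ[k] 𝓡.left i) =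
      ∑ j ∈ (a₁ i).index, (h ((a₁ i).right j) * g (𝓡.right i)) ⊗ₜ[k] (a₁ i).left j := by
    intro i
    rw [ptAct_tmul, translAux_apply_repr k A R h _ (a₁ i), Finset.smul_sum]
    apply Finset.sum_congr rfl
    intro j _
    rw [TensorProduct.smul_tmul', smul_eq_mul, mul_comm]
  have hR : ∀ i, (ofConv (toConv h * toConv g)) (𝓡.right i) ⊗ₜ[k] 𝓡.left i =
      ∑ j ∈ (a₂ i).index, (h ((a₂ i).left j) * g ((a₂ i).right j)) ⊗ₜ[k] 𝓡.left i := by
    intro i
    have : (ofConv (toConv h * toConv g)) (𝓡.right i) =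
        ∑ j ∈ (a₂ i).index, h ((a₂ i).left j) * g ((a₂ i).right j) := by
      have h1 := AlgHom.convMul_apply (toConv h) (toConv g) (𝓡.right i)
      rw [← (a₂ i).eq, map_sum] at h1
      simp only [Algebra.TensorProduct.lift_tmul, ofConv_toConv] at h1
      exact h1
    rw [this, TensorProduct.sum_tmul]
  simp only [hL, hR]
  exact hco'

theorem commute_ptAct (g h : A →ₐ[k] R)
    (hgh : toConv g * toConv h = toConv h * toConv g) :
    Commute (ptAct k A R g).toLinearMap (ptAct k A R h).toLinearMap := by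
  apply TensorProduct.AlgebraTensorModule.ext
  intro r a
  show (ptAct k A R g) ((ptAct k A R h) (r ⊗ₜ a)) = (ptAct k A R h) ((ptAct k A R g) (r ⊗ₜ a))
  rw [ptAct_tmul, ptAct_tmul, map_smul, map_smul, ptAct_translAux, ptAct_translAux, hgh]

theorem exists_stable (H : Set (A →ₐ[k] R)) (x : R ⊗[k] A) :
    ∃ W : Submodule R (R ⊗[k] A), x ∈ W ∧ W.FG ∧
      ∀ g : H, ∀ w ∈ W, (ptAct k A R g.1) w ∈ W := by
  classical
  induction x using TensorProduct.induction_on with
  | zero =>
    refine ⟨⊥, Submodule.zero_mem _, Submodule.fg_bot, fun g w hw => ?_⟩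
    rw [(Submodule.mem_bot R).1 hw, map_zero]
    exact Submodule.zero_mem _
  | tmul r a =>
    obtain ⟨C, hCfin, haC, hCsub⟩ :=
      Groth.Agent.H40.exists_finite_subcomod_mem (k := k) (C := A) (V := A) a
    obtain ⟨S, hS⟩ := (Module.Finite.iff_fg.1 hCfin)
    let W : Submodule R (R ⊗[k] A) :=
      Submodule.span R ((fun c : A => (1 : R) ⊗ₜ[k] c) '' (S : Set A))
    have h1 : ∀ c ∈ C, (1 : R) ⊗ₜ[k] c ∈ W := by
      have hle : C ≤ (W.restrictScalars k).comap (TensorProduct.mk k R A 1) := by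
        rw [← hS, Submodule.span_le]
        intro s hs
        exact Submodule.subset_span ⟨s, hs, rfl⟩
      intro c hc
      exact hle hc
    refine ⟨W, ?_, ?_, ?_⟩
    · have : r ⊗ₜ[k] a = r • ((1 : R) ⊗ₜ[k] a) := by
        rw [TensorProduct.smul_tmul', smul_eq_mul, mul_one]
      rw [this]
      exact W.smul_mem r (h1 a haC)
    · exact Submodule.fg_span (Set.Finite.image _ S.finite_toSet)
    · intro g w hw
      have key : ∀ c ∈ C, translAux k A R g.1 c ∈ W := by
        intro c hc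
        let Φ : A ⊗[k] A →ₗ[k] R ⊗[k] A :=
          ((Algebra.TensorProduct.map g.1 (AlgHom.id k A)).comp
            (Algebra.TensorProduct.comm k A A).toAlgHom).toLinearMap
        have hΦ : translAux k A R g.1 c = Φ (CoalgebraStruct.comul (R := k) c) := rfl
        have hΦ' : ∀ u : C ⊗[k] A, Φ (C.subtype.rTensor A u) ∈ W := by
          intro u
          induction u using TensorProduct.induction_on with
          | zero => rw [map_zero, map_zero]; exact W.zero_mem
          | tmul c' a' =>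
            have : Φ (C.subtype.rTensor A (c' ⊗ₜ[k] a')) = g.1 a' • ((1 : R) ⊗ₜ[k] c'.1) := by
              rw [TensorProduct.smul_tmul', smul_eq_mul, mul_one]
              simp [Φ]
            rw [this]
            exact W.smul_mem _ (h1 _ c'.2)
          | add u v hu hv => rw [map_add, map_add]; exact W.add_mem hu hv
        obtain ⟨u, hu⟩ := hCsub c hc
        rw [hΦ]
        have hu' : C.subtype.rTensor A u = CoalgebraStruct.comul (R := k) c := hu
        rw [← hu']
        exact hΦ' u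
      induction hw using Submodule.span_induction with
      | mem w hw =>
        obtain ⟨s, hs, rfl⟩ := hw
        have hsC : s ∈ C := by rw [← hS]; exact Submodule.subset_span hs
        show (ptAct k A R g.1) ((1 : R) ⊗ₜ[k] s) ∈ W
        rw [ptAct_tmul, one_smul]
        exact key s hsC
      | zero => rw [map_zero]; exact W.zero_mem
      | add w₁ w₂ _ _ h₁ h₂ => rw [map_add]; exact W.add_mem h₁ h₂
      | smul t w _ hw' => rw [map_smul]; exact W.smul_mem t hw'
  | add x y hx hy =>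
    obtain ⟨W₁, hx1, hfg1, hst1⟩ := hx
    obtain ⟨W₂, hy2, hfg2, hst2⟩ := hy
    refine ⟨W₁ ⊔ W₂, Submodule.add_mem_sup hx1 hy2, hfg1.sup hfg2, ?_⟩
    intro g w hw
    obtain ⟨w1, hw1, w2, hw2, rfl⟩ := Submodule.mem_sup.1 hw
    rw [map_add]
    exact Submodule.add_mem_sup (hst1 g w1 hw1) (hst2 g w2 hw2)

theorem result (k : Type u) [Field k]
    (A : Type v) [CommRing A] [HopfAlgebra k A] (R : Type w) [CommRing R] [Algebra k R]
    [IsNoetherianRing R] (H : Set (A →ₐ[k] R))
    (hcomm : ∀ g ∈ H, ∀ h ∈ H,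
      WithConv.toConv g * WithConv.toConv h = WithConv.toConv h * WithConv.toConv g)
    (hdiag : ∀ g ∈ H, ⨆ μ : k,
      Module.End.eigenspace (((MadRed.ptAct k A R g).toLinearMap).restrictScalars k) μ = ⊤) :
    ⨆ χ : H → k, ⨅ g : H,
      Module.End.eigenspace (((MadRed.ptAct k A R g.1).toLinearMap).restrictScalars k) (χ g) = ⊤ := by
  exact Groth.Agent.S16159.result k R (R ⊗[k] A) H (fun g => (ptAct k A R g.1).toLinearMap)
    (fun g h => commute_ptAct k A R g.1 h.1 (hcomm g.1 g.2 h.1 h.2))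
    (fun g => hdiag g.1 g.2)
    (fun x => exists_stable k A R H x)

end Groth.Agent.S16160
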