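import Groth.Statements.S16161
import Mathlib

set_option autoImplicit false
universe u v
open MadRed

namespace Groth.Agent.S16161

open Polynomial in
/-- kernel of a product of distinct linear factors is the span of the eigenspaces -/
theorem ker_aeval_prod_le {k : Type u} [Field k] {V : Type v} [AddCommGroup V] [Module k V]
    (f : Module.End k V) (s : Finset k) :
    LinearMap.ker (aeval f (∏ a ∈ s, (X - C a))) ≤ ⨆ μ : k, Module.End.eigenspace f μ := by
  classical
  induction s using Finset.induction_on with
  | empty =>
    intro v hv
    have : v = 0 := by simpa using hv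
    rw [this]
    exact Submodule.zero_mem _
  | insert a s ha ih =>
    rw [Finset.prod_insert ha]
    have hcop : IsCoprime (X - C a) (∏ b ∈ s, (X - C b)) := by
      apply IsCoprime.prod_right
      intro b hb
      apply Polynomial.isCoprime_X_sub_C_of_isUnit_sub
      have : a - b ≠ 0 := by
        intro h
        apply ha
        rw [sub_eq_zero] at h
        rwa [h]
      exact this.isUnit
    rw [← Polynomial.sup_ker_aeval_eq_ker_aeval_mul_of_coprime f hcop]
    apply sup_le _ ih
    refine le_trans ?_ (le_iSup _ a)
    intro v hv
    rw [Module.End.mem_eigenspace_iff]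
    have : aeval f (X - C a) v = 0 := hv
    simpa [sub_eq_zero] using this

theorem result
    (k : Type u) [Field k] [IsAlgClosed k] [CharZero k]
    (R : Type v) [CommRing R] [Algebra k R] [IsReduced R] [Algebra.FiniteType k R]
    (hconn : ∀ e : R, IsIdempotentElem e → e = 0 ∨ e = 1)
    (n : ℕ) (g : Module.End R (Fin n → R)) (m : ℕ) (hm : 0 < m) (hg : g ^ m = 1) :
    ⨆ μ : k, Module.End.eigenspace (g.restrictScalars k) μ = ⊤ := by
  classical
  have hne : NeZero (m : k) := ⟨by exact_mod_cast hm.ne'⟩
  obtain ⟨ζ, hζ⟩ := HasEnoughRootsOfUnity.exists_primitiveRoot k m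
  have hprod := Polynomial.X_pow_sub_one_eq_prod hm hζ
  set f : Module.End k (Fin n → R) := g.restrictScalars k with hf
  have hfm : f ^ m = 1 := by
    apply LinearMap.ext
    intro v
    have h1 : ∀ j : ℕ, ∀ w, (f ^ j) w = (g ^ j) w := by
      intro j
      induction j with
      | zero => intro w; simp
      | succ j ih =>
        intro w
        rw [pow_succ, pow_succ, Module.End.mul_apply, Module.End.mul_apply, ih]
        rfl
    rw [h1, hg]
    rfl
  rw [eq_top_iff]
  refine le_trans ?_ (ker_aeval_prod_le f (Polynomial.nthRootsFinset m (1 : k)))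
  rw [← hprod]
  intro v _
  rw [LinearMap.mem_ker]
  simp [hfm]

end Groth.Agent.S16161
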