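import Groth.Statements.S16162
import Mathlib

set_option autoImplicit false
universe u
open CategoryTheory MonoidalCategory CartesianMonoidalCategory MonObj GrpObj AlgebraicGeometry
open MadRed

namespace Groth.Agent.S16162

theorem result {S : Scheme.{u}}
    {G X : Over S} [GrpObj G] (a : AlgGrp.Action G X) (ha : RedSub.IsTorsor a)
    (P : Set X.left) (hP : IsClosed P)
    (hstab : ∀ w : (G ⊗ X).left, (snd G X).left.base w ∈ P → a.act.left.base w ∈ P) :
    IsClosed (X.hom.base '' P) ∧ X.hom.base ⁻¹' (X.hom.base '' P) = P := by
  obtain ⟨hsurj, hflat, hlfp, hiso⟩ := ha
  -- second assertion first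
  have hsat : X.hom.base ⁻¹' (X.hom.base '' P) = P := by
    apply Set.Subset.antisymm
    · rintro x ⟨p, hpP, hpx⟩
      -- point of X ×_S X over (x, p)
      obtain ⟨z, hz1, hz2⟩ := AlgebraicGeometry.Scheme.Pullback.exists_preimage_pullback
        (f := X.hom) (g := X.hom) x p hpx.symm
      -- transport through the iso
      have hiso' : IsIso (lift a.act (snd G X)).left := by
        have h := hiso
        have : IsIso ((Over.forget S).map (lift a.act (snd G X))) := inferInstance
        exact this
      let φ := (lift a.act (snd G X)).left
      obtain ⟨w, hw⟩ : ∃ w : (G ⊗ X).left, φ.base w = z := by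
        have : Function.Surjective φ.base := by
          have := hiso'
          exact (φ.homeomorph).surjective
        exact this z
      have h1 : a.act.left.base w = x := by
        have e : φ ≫ (fst X X).left = a.act.left := by
          rw [← Over.comp_left, lift_fst]
        rw [← e, Scheme.Hom.comp_base, TopCat.comp_app, hw]
        exact hz1
      have h2 : (snd G X).left.base w = p := by
        have e : φ ≫ (snd X X).left = (snd G X).left := by
          rw [← Over.comp_left, lift_snd]
        rw [← e, Scheme.Hom.comp_base, TopCat.comp_app, hw]
        exact hz2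
      rw [← h1]
      apply hstab
      rw [h2]
      exact hpP
    · exact Set.subset_preimage_image _ _
  refine ⟨?_, hsat⟩
  -- X.hom is open and surjective, hence a quotient map
  have := hflat
  have := hlfp
  have hopen : IsOpenMap X.hom.base := X.hom.isOpenMap
  have hquot : Topology.IsQuotientMap X.hom.base :=
    hopen.isQuotientMap X.hom.continuous hsurj.surj
  rw [← hquot.isClosed_preimage, hsat]
  exact hP

end Groth.Agent.S16162
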