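import Groth.Statements.S16170
import Mathlib

set_option autoImplicit false
open Neron

namespace Groth.Agent.S16170

open Polynomial Matrix

variable {ι : Type} [Fintype ι] [DecidableEq ι]

/-- quadratic form of a matrix -/
def Qf (B : Matrix ι ι ℤ) (x : ι → ℤ) : ℤ := x ⬝ᵥ B *ᵥ x

theorem Qf_conj (B W : Matrix ι ι ℤ) (x : ι → ℤ) :
    Qf B (W *ᵥ x) = Qf (Wᵀ * B * W) x := by
  unfold Qf
  rw [Matrix.mulVec_mulVec, ← Matrix.vecMul_transpose W x, ← Matrix.dotProduct_mulVec,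
    Matrix.mulVec_mulVec, Matrix.mul_assoc]

theorem Qf_add (B B' : Matrix ι ι ℤ) (x : ι → ℤ) : Qf (B + B') x = Qf B x + Qf B' x := by
  unfold Qf
  rw [Matrix.add_mulVec, dotProduct_add]

theorem Qf_sub (B B' : Matrix ι ι ℤ) (x : ι → ℤ) : Qf (B - B') x = Qf B x - Qf B' x := by
  unfold Qf
  rw [Matrix.sub_mulVec, dotProduct_sub]

theorem Qf_smul (a : ℤ) (B : Matrix ι ι ℤ) (x : ι → ℤ) : Qf (a • B) x = a * Qf B x := by
  unfold Qf
  rw [Matrix.smul_mulVec, dotProduct_smul, smul_eq_mul]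

/-- self-adjointness of polynomials in `c` -/
theorem sa_poly (A c : Matrix ι ι ℤ) (hcA : cᵀ * A = A * c) (p : ℤ[X]) :
    (aeval c p)ᵀ * A = A * aeval c p := by
  induction p using Polynomial.induction_on with
  | C a =>
    have ht : ((algebraMap ℤ (Matrix ι ι ℤ)) a)ᵀ = (algebraMap ℤ (Matrix ι ι ℤ)) a := by
      rw [Algebra.algebraMap_eq_smul_one, Matrix.transpose_smul, Matrix.transpose_one]
    simp only [aeval_C]
    rw [ht]
    exact Algebra.commutes a A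
  | add p q hp hq =>
    simp only [map_add, Matrix.transpose_add, Matrix.add_mul, Matrix.mul_add, hp, hq]
  | monomial n a ih =>
    have h1 : aeval c (C a * X ^ (n + 1)) = c * aeval c (C a * X ^ n) := by
      have : (C a * X ^ (n + 1) : ℤ[X]) = X * (C a * X ^ n) := by ring
      rw [this, map_mul, aeval_X]
    have h2 : aeval c (C a * X ^ (n + 1)) = aeval c (C a * X ^ n) * c := by
      simp only [map_mul, map_pow, aeval_X, aeval_C, pow_succ, mul_assoc]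
    rw [h2, Matrix.transpose_mul, Matrix.mul_assoc, ih, ← Matrix.mul_assoc, hcA, Matrix.mul_assoc,
      ← h2, h1]

theorem result
    {ι : Type} [Fintype ι] [DecidableEq ι]
    (M N χ₁ χ₂ : Matrix ι ι ℤ) (hM : M.IsSymm) (hN : N.IsSymm)
    (hMpos : ∀ v : ι → ℤ, 0 ≤ v ⬝ᵥ M.mulVec v) (hNpos : ∀ v : ι → ℤ, 0 ≤ v ⬝ᵥ N.mulVec v)
    (hpos : ∀ v : ι → ℤ, v ≠ 0 → 0 < v ⬝ᵥ (M + N).mulVec v)
    (hsum : χ₁ + χ₂ = 1) (hrel : M * χ₂ = N * χ₁) :
    χ₁ * χ₁ = χ₁ ∧ χ₂ * χ₂ = χ₂ := by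
  set A := M + N with hA
  set c := χ₁ with hc
  have hχ₂ : χ₂ = 1 - c := by rw [← hsum]; abel
  have hAc : A * c = M := by
    rw [hA, Matrix.add_mul, ← hrel, ← Matrix.mul_add, hsum, Matrix.mul_one]
  have hAc2 : A * (1 - c) = N := by
    rw [Matrix.mul_sub, hAc, Matrix.mul_one, hA]; abel
  have hAsymm : Aᵀ = A := by
    rw [hA, Matrix.transpose_add, hM.eq, hN.eq]
  have hcA : cᵀ * A = A * c := by
    have : (A * c)ᵀ = A * c := by rw [hAc, hM.eq]
    rw [Matrix.transpose_mul, hAsymm] at this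
    exact this
  -- notation
  let W : ℤ[X] → Matrix ι ι ℤ := fun p => aeval c p
  let qp : ℤ[X] → (ι → ℤ) → ℤ := fun p x => Qf (A * W p) x
  have hWmul : ∀ p r : ℤ[X], W (p * r) = W p * W r := fun p r => map_mul _ _ _
  have hSA : ∀ p : ℤ[X], (W p)ᵀ * A = A * W p := sa_poly A c hcA
  have hSQ : ∀ (p r : ℤ[X]) (x : ι → ℤ), qp r (W p *ᵥ x) = qp (p * p * r) x := by
    intro p r x
    show Qf (A * W r) (W p *ᵥ x) = Qf (A * W (p * p * r)) x
    rw [Qf_conj]
    congr 1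
    rw [← Matrix.mul_assoc, hSA, hWmul, hWmul, Matrix.mul_assoc, Matrix.mul_assoc, Matrix.mul_assoc,
      ← hWmul r p, mul_comm r p, hWmul p r]
  have hqp_add : ∀ (p r : ℤ[X]) (x : ι → ℤ), qp (p + r) x = qp p x + qp r x := by
    intro p r x
    show Qf (A * W (p + r)) x = _
    have : W (p + r) = W p + W r := map_add _ _ _
    rw [this, Matrix.mul_add, Qf_add]
  have hqp_sub : ∀ (p r : ℤ[X]) (x : ι → ℤ), qp (p - r) x = qp p x - qp r x := by
    intro p r x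
    show Qf (A * W (p - r)) x = _
    have : W (p - r) = W p - W r := map_sub _ _ _
    rw [this, Matrix.mul_sub, Qf_sub]
  have hqp_smul : ∀ (a : ℤ) (p : ℤ[X]) (x : ι → ℤ), qp (a • p) x = a * qp p x := by
    intro a p x
    show Qf (A * W (a • p)) x = _
    have : W (a • p) = a • W p := map_smul _ _ _
    rw [this, Matrix.mul_smul, Qf_smul]
  have hW1 : W 1 = 1 := map_one _
  have hWX : W X = c := aeval_X c
  have hW1X : W (1 - X) = 1 - c := by
    show aeval c (1 - X) = 1 - c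
    rw [map_sub, map_one, aeval_X]
  have hqpX : ∀ x, 0 ≤ qp X x := by
    intro x
    show 0 ≤ Qf (A * W X) x
    rw [hWX, hAc]
    exact hMpos x
  have hqp1X : ∀ x, 0 ≤ qp (1 - X) x := by
    intro x
    show 0 ≤ Qf (A * W (1 - X)) x
    rw [hW1X, hAc2]
    exact hNpos x
  have hqp1 : ∀ x, x ≠ 0 → 0 < qp 1 x := by
    intro x hx
    show 0 < Qf (A * W 1) x
    rw [hW1, Matrix.mul_one]
    exact hpos x hx
  have hqp1' : ∀ x, 0 ≤ qp 1 x := by
    intro x
    by_cases hx : x = 0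
    · subst hx
      show 0 ≤ Qf (A * W 1) 0
      unfold Qf
      simp
    · exact (hqp1 x hx).le
  -- the polynomial Z
  set Zp : ℤ[X] := X * (1 - X) with hZp
  set Dp : ℤ[X] := 1 - (2 : ℤ) • X with hDp
  have hid1 : Zp = X * X * (1 - X) + (1 - X) * (1 - X) * X := by
    rw [hZp]; ring
  have hid2 : (1 : ℤ[X]) - (16 : ℤ) • (Zp * Zp * 1) = Dp * Dp * (1 + (4 : ℤ) • Zp) := by
    rw [hZp, hDp]
    simp only [zsmul_eq_mul, Int.cast_ofNat]
    ring
  have hZpos : ∀ x, 0 ≤ qp Zp x := by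
    intro x
    rw [hid1, hqp_add, ← hSQ, ← hSQ]
    exact add_nonneg (hqp1X _) (hqpX _)
  set Z : Matrix ι ι ℤ := W Zp with hZ
  have hZeq : Z = c * (1 - c) := by
    rw [hZ, hZp, hWmul, hWX, hW1X]
  have hkey : ∀ x, 16 * qp 1 (Z *ᵥ x) ≤ qp 1 x := by
    intro x
    have h1 : qp ((1 : ℤ[X]) - (16 : ℤ) • (Zp * Zp * 1)) x = qp 1 x - 16 * qp 1 (Z *ᵥ x) := by
      rw [hqp_sub, hqp_smul, ← hSQ]
    have h2 : 0 ≤ qp (Dp * Dp * (1 + (4 : ℤ) • Zp)) x := by
      rw [← hSQ, hqp_add, hqp_smul]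
      have := hqp1' (W Dp *ᵥ x)
      have := hZpos (W Dp *ᵥ x)
      positivity
    rw [← hid2, h1] at h2
    linarith
  have hqZ : ∀ x, qp 1 (Z *ᵥ x) = x ⬝ᵥ A *ᵥ (Z *ᵥ (Z *ᵥ x)) := by
    intro x
    rw [hSQ]
    show Qf (A * W (Zp * Zp * 1)) x = _
    unfold Qf
    rw [mul_one, hWmul, ← hZ, Matrix.mulVec_mulVec, Matrix.mulVec_mulVec, Matrix.mul_assoc]
  -- descent
  have hdesc : ∀ n : ℕ, ∀ x : ι → ℤ, (qp 1 x).toNat = n → Z *ᵥ x = 0 := by
    intro n
    induction n using Nat.strong_induction_on with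
    | _ n ih =>
      intro x hx
      by_contra hne
      have hpos1 : 0 < qp 1 (Z *ᵥ x) := hqp1 _ hne
      have hlt : qp 1 (Z *ᵥ x) < qp 1 x := by
        have := hkey x
        linarith
      have hlt' : (qp 1 (Z *ᵥ x)).toNat < n := by
        rw [← hx]
        omega
      have hZy : Z *ᵥ (Z *ᵥ x) = 0 := ih _ hlt' (Z *ᵥ x) rfl
      have : qp 1 (Z *ᵥ x) = 0 := by
        rw [hqZ, hZy]
        simp
      omega
  have hZ0 : Z = 0 := by
    ext i j
    have := congrFun (hdesc _ (Pi.single j 1) rfl) i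
    simpa using this
  have hcc : c * (1 - c) = 0 := by rw [← hZeq, hZ0]
  have hcc' : c * c = c := by
    rw [Matrix.mul_sub, Matrix.mul_one, sub_eq_zero] at hcc
    exact hcc.symm
  refine ⟨hcc', ?_⟩
  rw [hχ₂]
  rw [Matrix.sub_mul, Matrix.mul_sub, Matrix.mul_sub, Matrix.mul_one, Matrix.one_mul, Matrix.mul_one, hcc']
  abel

end Groth.Agent.S16170
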