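import Groth.Statements.S16164
import Groth.Agent.S16170
import Mathlib

set_option autoImplicit false
open Neron

namespace Groth.Agent.S16164

open Matrix

theorem result
    {ι κ₁ κ₂ : Type} [Fintype ι] [Fintype κ₁] [Fintype κ₂]
    (P : Matrix κ₁ ι ℤ) (Q : Matrix κ₂ ι ℤ)
    (hP : Function.Surjective P.mulVec) (hQ : Function.Surjective Q.mulVec)
    (hA : Function.Injective (Matrix.fromRows P Q).mulVec)
    (Ψ₁ : Matrix κ₁ κ₁ ℤ) (Ψ₂ : Matrix κ₂ κ₂ ℤ) (hΨ₁ : Ψ₁.IsSymm) (hΨ₂ : Ψ₂.IsSymm)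
    (hΨ₁pos : ∀ y : κ₁ → ℤ, y ≠ 0 → 0 < y ⬝ᵥ Ψ₁.mulVec y)
    (hΨ₂pos : ∀ y : κ₂ → ℤ, y ≠ 0 → 0 < y ⬝ᵥ Ψ₂.mulVec y)
    (himage : LinearMap.range ((Matrix.fromRows P Q).transpose * Matrix.fromBlocks Ψ₁ 0 0 Ψ₂).mulVecLin =
      LinearMap.range ((Matrix.fromRows P Q).transpose * Matrix.fromBlocks Ψ₁ 0 0 Ψ₂ * Matrix.fromRows P Q).mulVecLin) :
    Function.Bijective (Matrix.fromRows P Q).mulVec := by
  classical
  set M : Matrix ι ι ℤ := Pᵀ * Ψ₁ * P with hM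
  set N : Matrix ι ι ℤ := Qᵀ * Ψ₂ * Q with hN
  have hAΨ : (Matrix.fromRows P Q).transpose * Matrix.fromBlocks Ψ₁ 0 0 Ψ₂ =
      Matrix.fromCols (Pᵀ * Ψ₁) (Qᵀ * Ψ₂) := by
    rw [Matrix.transpose_fromRows, Matrix.fromCols_mul_fromBlocks]
    simp
  have hAΨA : (Matrix.fromRows P Q).transpose * Matrix.fromBlocks Ψ₁ 0 0 Ψ₂ * Matrix.fromRows P Q =
      M + N := by
    rw [hAΨ, Matrix.fromCols_mul_fromRows]
  rw [hAΨA, hAΨ] at himage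
  have hMsymm : M.IsSymm := by
    show Mᵀ = M
    rw [hM, Matrix.transpose_mul, Matrix.transpose_mul, Matrix.transpose_transpose, hΨ₁.eq,
      Matrix.mul_assoc]
  have hNsymm : N.IsSymm := by
    show Nᵀ = N
    rw [hN, Matrix.transpose_mul, Matrix.transpose_mul, Matrix.transpose_transpose, hΨ₂.eq,
      Matrix.mul_assoc]
  have hMform : ∀ v : ι → ℤ, v ⬝ᵥ M *ᵥ v = (P *ᵥ v) ⬝ᵥ Ψ₁ *ᵥ (P *ᵥ v) := by
    intro v
    rw [hM, ← Matrix.mulVec_mulVec, ← Matrix.mulVec_mulVec, Matrix.dotProduct_mulVec,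
      Matrix.vecMul_transpose]
  have hNform : ∀ v : ι → ℤ, v ⬝ᵥ N *ᵥ v = (Q *ᵥ v) ⬝ᵥ Ψ₂ *ᵥ (Q *ᵥ v) := by
    intro v
    rw [hN, ← Matrix.mulVec_mulVec, ← Matrix.mulVec_mulVec, Matrix.dotProduct_mulVec,
      Matrix.vecMul_transpose]
  have hΨ₁nn : ∀ y : κ₁ → ℤ, 0 ≤ y ⬝ᵥ Ψ₁ *ᵥ y := by
    intro y
    by_cases hy : y = 0
    · subst hy; simp
    · exact (hΨ₁pos y hy).le
  have hΨ₂nn : ∀ y : κ₂ → ℤ, 0 ≤ y ⬝ᵥ Ψ₂ *ᵥ y := by
    intro y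
    by_cases hy : y = 0
    · subst hy; simp
    · exact (hΨ₂pos y hy).le
  have hMpos : ∀ v : ι → ℤ, 0 ≤ v ⬝ᵥ M.mulVec v := fun v => by rw [hMform]; exact hΨ₁nn _
  have hNpos : ∀ v : ι → ℤ, 0 ≤ v ⬝ᵥ N.mulVec v := fun v => by rw [hNform]; exact hΨ₂nn _
  have hpos : ∀ v : ι → ℤ, v ≠ 0 → 0 < v ⬝ᵥ (M + N).mulVec v := by
    intro v hv
    rw [Matrix.add_mulVec, dotProduct_add, hMform, hNform]
    have hAv : (Matrix.fromRows P Q) *ᵥ v ≠ 0 := by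
      intro h0
      apply hv
      apply hA
      rw [h0, Matrix.mulVec_zero]
    rw [Matrix.fromRows_mulVec] at hAv
    by_cases hPv : P *ᵥ v = 0
    · have hQv : Q *ᵥ v ≠ 0 := by
        intro hQv
        apply hAv
        rw [hPv, hQv]
        ext (i | i) <;> rfl
      have := hΨ₂pos _ hQv
      have := hΨ₁nn (P *ᵥ v)
      linarith
    · have := hΨ₁pos _ hPv
      have := hΨ₂nn (Q *ᵥ v)
      linarith
  -- columns of M and N lie in the range of M + N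
  have hMrange : ∀ j : ι, ∃ x : ι → ℤ, (M + N) *ᵥ x = M *ᵥ (Pi.single j 1) := by
    intro j
    have hmem : M *ᵥ (Pi.single j 1) ∈
        LinearMap.range (Matrix.fromCols (Pᵀ * Ψ₁) (Qᵀ * Ψ₂)).mulVecLin := by
      refine ⟨Sum.elim (P *ᵥ (Pi.single j 1)) 0, ?_⟩
      rw [Matrix.mulVecLin_apply, Matrix.fromCols_mulVec_sumElim, Matrix.mulVec_zero, add_zero,
        Matrix.mulVec_mulVec]
    rw [himage] at hmem
    obtain ⟨x, hx⟩ := hmem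
    exact ⟨x, hx⟩
  have hNrange : ∀ j : ι, ∃ x : ι → ℤ, (M + N) *ᵥ x = N *ᵥ (Pi.single j 1) := by
    intro j
    have hmem : N *ᵥ (Pi.single j 1) ∈
        LinearMap.range (Matrix.fromCols (Pᵀ * Ψ₁) (Qᵀ * Ψ₂)).mulVecLin := by
      refine ⟨Sum.elim 0 (Q *ᵥ (Pi.single j 1)), ?_⟩
      rw [Matrix.mulVecLin_apply, Matrix.fromCols_mulVec_sumElim, Matrix.mulVec_zero, zero_add,
        Matrix.mulVec_mulVec]
    rw [himage] at hmem
    obtain ⟨x, hx⟩ := hmem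
    exact ⟨x, hx⟩
  choose x₁ hx₁ using hMrange
  choose x₂ hx₂ using hNrange
  let χ₁ : Matrix ι ι ℤ := Matrix.of fun i j => x₁ j i
  let χ₂ : Matrix ι ι ℤ := Matrix.of fun i j => x₂ j i
  have hcol : ∀ (B : Matrix ι ι ℤ) (j : ι), B *ᵥ (Pi.single j 1) = fun i => B i j := by
    intro B j
    ext i
    simp [Matrix.mulVec, dotProduct, Pi.single_apply]
  have hχ₁ : (M + N) * χ₁ = M := by
    ext i j
    have := congrFun (hx₁ j) i
    rw [hcol] at this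
    have h2 : M i j = ((M + N) *ᵥ x₁ j) i := this.symm
    rw [h2]
    simp [Matrix.mul_apply, Matrix.mulVec, dotProduct, χ₁]
  have hχ₂ : (M + N) * χ₂ = N := by
    ext i j
    have := congrFun (hx₂ j) i
    rw [hcol] at this
    have h2 : N i j = ((M + N) *ᵥ x₂ j) i := this.symm
    rw [h2]
    simp [Matrix.mul_apply, Matrix.mulVec, dotProduct, χ₂]
  -- M + N is injective
  have hinj : ∀ B : Matrix ι ι ℤ, (M + N) * B = 0 → B = 0 := by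
    intro B hB
    ext i j
    by_contra hne
    have hv : (fun i => B i j) ≠ 0 := by
      intro h0
      exact hne (congrFun h0 i)
    have h1 := hpos _ hv
    have h2 : (M + N) *ᵥ (fun i => B i j) = 0 := by
      ext l
      have := congrFun (congrFun hB l) j
      simpa [Matrix.mul_apply, Matrix.mulVec, dotProduct] using this
    rw [h2] at h1
    simp at h1
  have hsum : χ₁ + χ₂ = 1 := by
    have : (M + N) * (χ₁ + χ₂ - 1) = 0 := by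
      rw [Matrix.mul_sub, Matrix.mul_add, hχ₁, hχ₂, Matrix.mul_one, sub_self]
    have := hinj _ this
    exact sub_eq_zero.mp this
  have hrel : M * χ₂ = N * χ₁ := by
    have h1 : M * χ₂ = M - M * χ₁ := by
      have : χ₂ = 1 - χ₁ := by rw [← hsum]; abel
      rw [this, Matrix.mul_sub, Matrix.mul_one]
    have h2 : N * χ₁ = M - M * χ₁ := by
      have : N * χ₁ = (M + N) * χ₁ - M * χ₁ := by rw [Matrix.add_mul]; abel
      rw [this, hχ₁]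
    rw [h1, h2]
  obtain ⟨hidem₁, hidem₂⟩ := Groth.Agent.S16170.result M N χ₁ χ₂ hMsymm hNsymm hMpos hNpos hpos hsum hrel
  have hχ₁χ₂ : χ₁ * χ₂ = 0 := by
    have : χ₂ = 1 - χ₁ := by rw [← hsum]; abel
    rw [this, Matrix.mul_sub, Matrix.mul_one, hidem₁, sub_self]
  have hχ₂χ₁ : χ₂ * χ₁ = 0 := by
    have : χ₁ = 1 - χ₂ := by rw [← hsum]; abel
    rw [this, Matrix.mul_sub, Matrix.mul_one, hidem₂, sub_self]
  have hMχ₂ : M * χ₂ = 0 := by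
    rw [← hχ₁, Matrix.mul_assoc, hχ₁χ₂, Matrix.mul_zero]
  have hNχ₁ : N * χ₁ = 0 := by
    rw [← hχ₂, Matrix.mul_assoc, hχ₂χ₁, Matrix.mul_zero]
  -- hence P χ₂ = 0 and Q χ₁ = 0
  have hPχ₂ : ∀ v : ι → ℤ, P *ᵥ (χ₂ *ᵥ v) = 0 := by
    intro v
    by_contra hne
    have h1 := hΨ₁pos _ hne
    rw [← hMform, Matrix.mulVec_mulVec, hMχ₂] at h1
    simp at h1
  have hQχ₁ : ∀ v : ι → ℤ, Q *ᵥ (χ₁ *ᵥ v) = 0 := by
    intro v
    by_contra hne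
    have h1 := hΨ₂pos _ hne
    rw [← hNform, Matrix.mulVec_mulVec, hNχ₁] at h1
    simp at h1
  have hdecomp : ∀ v : ι → ℤ, χ₁ *ᵥ v + χ₂ *ᵥ v = v := by
    intro v
    rw [← Matrix.add_mulVec, hsum, Matrix.one_mulVec]
  refine ⟨hA, ?_⟩
  intro y
  obtain ⟨u, hu⟩ := hP (y ∘ Sum.inl)
  obtain ⟨w, hw⟩ := hQ (y ∘ Sum.inr)
  refine ⟨χ₁ *ᵥ u + χ₂ *ᵥ w, ?_⟩
  rw [Matrix.fromRows_mulVec]
  have e1 : P *ᵥ (χ₁ *ᵥ u + χ₂ *ᵥ w) = y ∘ Sum.inl := by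
    rw [Matrix.mulVec_add, hPχ₂ w, add_zero, ← hu]
    conv_rhs => rw [← hdecomp u, Matrix.mulVec_add, hPχ₂ u, add_zero]
  have e2 : Q *ᵥ (χ₁ *ᵥ u + χ₂ *ᵥ w) = y ∘ Sum.inr := by
    rw [Matrix.mulVec_add, hQχ₁ u, zero_add, ← hw]
    conv_rhs => rw [← hdecomp w, Matrix.mulVec_add, hQχ₁ w, zero_add]
  rw [e1, e2]
  ext (i | i) <;> rfl

end Groth.Agent.S16164
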