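import Groth.Statements.S1617
-- import your own Groth.Agent.* helpers here
import Groth.Agent.Lib.Helper55.LocalDim
import Groth.Agent.Lib.Helper55.LocalDimTop
import Groth.Agent.Lib.Helper55.ResidueFieldTrdeg

set_option autoImplicit false
universe u
open CategoryTheory CategoryTheory.Limits AlgebraicGeometry
open Variety

namespace Groth.Agent.S1617

open Groth.Agent.Lib.Helper55

/-- Let X be locally of finite type over a field k and x a closed point. Then the local dimension of X
at x (infimum of the dimensions of open neighbourhoods) equals the Krull dimension of the local ring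
at x. -/
theorem result (k : Type u) [Field k] (X : Scheme.{u}) [X.Over (Spec (CommRingCat.of k))] [LocallyOfFiniteType (X ↘ (Spec (CommRingCat.of k)))] (x : X) (hx : IsClosed ({x} : Set X)) :
    FlatMor.localDim X x = ringKrullDim (X.presheaf.stalk x) := by
  obtain ⟨U, hU, hxU, -⟩ := exists_isAffineOpen_mem_and_subset (x := x) (U := ⊤) trivial
  let _ : Algebra k Γ(X, U) := (sectionsMap k X U).toAlgebra
  have hft : Algebra.FiniteType k Γ(X, U) := sectionsMap_finiteType k X U hU
  have h1 : FlatMor.localDim (PrimeSpectrum Γ(X, U)) (hU.primeIdealOf ⟨x, hxU⟩) =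
      FlatMor.localDim X x := by
    have := localDim_eq_of_isOpenEmbedding hU.fromSpec hU.fromSpec.isOpenEmbedding
      (hU.primeIdealOf ⟨x, hxU⟩)
    rw [hU.fromSpec_primeIdealOf] at this
    exact this
  rw [← h1, localDim_primeSpectrum_eq k Γ(X, U) (hU.primeIdealOf ⟨x, hxU⟩)]
  -- the prime of `x` is maximal
  have hmax : (hU.primeIdealOf ⟨x, hxU⟩).asIdeal.IsMaximal := by
    rw [← PrimeSpectrum.isClosed_singleton_iff_isMaximal]
    have h2 : ({hU.primeIdealOf ⟨x, hxU⟩} : Set (PrimeSpectrum Γ(X, U))) =
        hU.fromSpec ⁻¹' {x} := by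
      ext y
      simp only [Set.mem_singleton_iff]
      constructor
      · rintro rfl
        exact hU.fromSpec_primeIdealOf ⟨x, hxU⟩
      · intro hy
        apply hU.fromSpec.isOpenEmbedding.injective
        rw [hy]
        exact (hU.fromSpec_primeIdealOf ⟨x, hxU⟩).symm
    rw [h2]
    exact hx.preimage hU.fromSpec.continuous
  have hfield : ringKrullDim (Γ(X, U) ⧸ (hU.primeIdealOf ⟨x, hxU⟩).asIdeal) = 0 :=
    ringKrullDim_eq_zero_of_isField ((Ideal.Quotient.maximal_ideal_iff_isField_quotient _).mp hmax)
  let _ : Algebra Γ(X, U) (X.presheaf.stalk x) := (X.presheaf.germ U x hxU).hom.toAlgebra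
  have hloc : IsLocalization.AtPrime (X.presheaf.stalk x) (hU.primeIdealOf ⟨x, hxU⟩).asIdeal :=
    hU.isLocalization_stalk ⟨x, hxU⟩
  have h2 := IsLocalization.AtPrime.ringKrullDim_eq_height (hU.primeIdealOf ⟨x, hxU⟩).asIdeal
    (X.presheaf.stalk x)
  rw [hfield, zero_add, h2]

end Groth.Agent.S1617
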