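import Groth.Statements.S16174
import Groth.Agent.Lib.Helper82.HenselVal

set_option autoImplicit false
universe u
open Hensel

namespace Groth.Agent.S16174

/-- Let V be a Henselian valuation ring and p a prime ideal of V. Then the local rings V_p (localisation
at p) and V/p are Henselian. (Both are again valuation rings, which is elementary and not restated.) -/
theorem result (V : Type u) [CommRing V]
    [IsDomain V] [ValuationRing V] [HenselianLocalRing V] (p : Ideal V) [p.IsPrime] :
    HenselianLocalRing (Localization.AtPrime p) ∧ HenselianLocalRing (V ⧸ p) := by
  constructor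
  · refine Groth.Agent.Lib.Helper82.henselian_of_maximalIdeal_lift
      (algebraMap V (Localization.AtPrime p)) ?_ ?_
    · intro r hr
      obtain ⟨x, hx, rfl⟩ :=
        Groth.Agent.Lib.Helper82.exists_mem_of_mem_maximalIdeal_localization V p r hr
      exact ⟨x, IsLocalRing.le_maximalIdeal (Ideal.IsPrime.ne_top inferInstance) hx, rfl⟩
    · intro x hx
      exact hx.map _
  · exact Groth.Agent.Lib.Helper82.henselian_of_surjective (Ideal.Quotient.mk p)
      Ideal.Quotient.mk_surjective

end Groth.Agent.S16174
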