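import Groth.Statements.S16180
import Groth.Agent.Lib.Helper73.PdValRing
import Groth.Agent.Lib.Helper12.NagataFP
import Groth.Agent.S16178

set_option autoImplicit false
universe u
open CategoryTheory
open CAlg

namespace Groth.Agent.S16180

/-- Let V be a valuation ring, B a flat V-algebra of finite presentation, q a prime ideal of B lying
over the prime p of V, A = B_q the local ring of Spec B at q, and suppose that the local ring A/pA
of the fibre over p at q is a regular local ring of dimension n. Then every finitely presented
A-module M which is reflexive (the evaluation map into its double A-dual is bijective) has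
projective dimension at most max(0, n - 1) over A (written with truncated subtraction of natural
numbers). -/
theorem result (V : Type u) [CommRing V] [IsDomain V] [ValuationRing V]
    (B : Type u) [CommRing B] [Algebra V B] [Module.Flat V B] [Algebra.FinitePresentation V B]
    (q : Ideal B) [q.IsPrime] (n : ℕ)
    (hreg : IsRegularLocalRing (Localization.AtPrime q ⧸ Ideal.map (algebraMap V (Localization.AtPrime q)) (Ideal.comap (algebraMap V B) q)))
    (hn : ringKrullDim (Localization.AtPrime q ⧸ Ideal.map (algebraMap V (Localization.AtPrime q)) (Ideal.comap (algebraMap V B) q)) = n)
    (M : Type u) [AddCommGroup M] [Module (Localization.AtPrime q) M] [Module.FinitePresentation (Localization.AtPrime q) M]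
    [Module.IsReflexive (Localization.AtPrime q) M] :
    HasProjectiveDimensionLE (ModuleCat.of (Localization.AtPrime q) M) (n - 1) := by
  have hBR : Module.Flat B (Localization.AtPrime q) := IsLocalization.flat _ q.primeCompl
  have hVR : Module.Flat V (Localization.AtPrime q) := Module.Flat.trans V B _
  have hR : Groth.Agent.Lib.Helper73.PdValRing.VTF V (Localization.AtPrime q) (Localization.AtPrime q) :=
    Groth.Agent.Lib.Helper73.PdValRing.VTF.self
  have hess : Algebra.EssFiniteType V (Localization.AtPrime q) := by
    have h1 : Algebra.EssFiniteType B (Localization.AtPrime q) :=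
      Algebra.EssFiniteType.of_isLocalization _ q.primeCompl
    exact Algebra.EssFiniteType.comp V B _
  have hcoh : ∀ (N : Type u) [AddCommGroup N] [Module (Localization.AtPrime q) N]
      [Module.Finite (Localization.AtPrime q) N],
      Groth.Agent.Lib.Helper73.PdValRing.VTF V (Localization.AtPrime q) N →
        Module.FinitePresentation (Localization.AtPrime q) N := by
    intro N _ _ _ hN
    letI : Module V N := Module.compHom N (algebraMap V (Localization.AtPrime q))
    haveI : IsScalarTower V (Localization.AtPrime q) N :=
      IsScalarTower.of_algebraMap_smul (fun _ _ => rfl)
    haveI : Module.Flat V N := Groth.Agent.Lib.Helper73.PdValRing.flat_of_VTF hN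
    exact Groth.Agent.Lib.Helper12.NagataFP.finitePresentation_of_essFiniteType (R := V)
      (Localization.AtPrime q) N
  have hpd : ∀ (N : Type u) [AddCommGroup N] [Module (Localization.AtPrime q) N]
      [Module.FinitePresentation (Localization.AtPrime q) N],
      Groth.Agent.Lib.Helper73.PdValRing.VTF V (Localization.AtPrime q) N →
        HasProjectiveDimensionLE (ModuleCat.of (Localization.AtPrime q) N) n := by
    intro N _ _ _ hN
    letI : Module V N := Module.compHom N (algebraMap V (Localization.AtPrime q))
    haveI : IsScalarTower V (Localization.AtPrime q) N :=
      IsScalarTower.of_algebraMap_smul (fun _ _ => rfl)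
    haveI : Module.Flat V N := Groth.Agent.Lib.Helper73.PdValRing.flat_of_VTF hN
    exact Groth.Agent.S16178.result V B q n hreg hn N
  exact Groth.Agent.Lib.Helper73.PdValRing.hasProjectiveDimensionLE_pred_of_isReflexive hR n hcoh hpd M

end Groth.Agent.S16180
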