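import Groth.Statements.S16185
import Groth.Agent.Lib.Helper73.SpecialFibreGoren2

set_option autoImplicit false
universe u
open CategoryTheory CategoryTheory.Limits AlgebraicGeometry
open Dual3

namespace Groth.Agent.S16185

/-- Let A be an Artinian local ring with maximal ideal m and let f : P → Spec A be a flat morphism of
schemes whose closed fibre X = P ×_{Spec A} Spec (A/m) is a Gorenstein scheme (locally Noetherian,
all local rings Gorenstein). Then f is a Gorenstein morphism: flat at every point with Gorenstein
local rings on its fibres. (The source takes A to be a local Artinian algebra over a field k with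
residue field k and X a k-scheme deformed flatly over A; the k-algebra structure plays no role, so
the residue field of A is used directly.) -/
theorem result
    {A : Type u} [CommRing A] [IsArtinianRing A] [IsLocalRing A]
    {P X : Scheme.{u}} (f : P ⟶ Spec (CommRingCat.of A)) [Flat f]
    (i : X ⟶ P) (q : X ⟶ Spec (CommRingCat.of (IsLocalRing.ResidueField A)))
    (hsq : IsPullback i q f (Spec.map (CommRingCat.ofHom (IsLocalRing.residue A))))
    (hX : Dual3.IsGorenstein X) : Dual3.IsGorensteinMor f := by
  intro x
  obtain ⟨hXN, hXG⟩ := hX
  set g := Spec.map (CommRingCat.ofHom (IsLocalRing.residue A)) with hg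
  have hgci : IsClosedImmersion g :=
    IsClosedImmersion.spec_of_surjective _ IsLocalRing.residue_surjective
  -- `i` is surjective
  have hgs : Surjective g := by
    refine ⟨fun y => ⟨IsLocalRing.closedPoint _, ?_⟩⟩
    have : Subsingleton (PrimeSpectrum A) := inferInstance
    exact Subsingleton.elim (α := PrimeSpectrum A) _ _
  have his : Surjective i := MorphismProperty.of_isPullback (P := @Surjective) hsq.flip hgs
  obtain ⟨x', rfl⟩ := his.surj x
  refine ⟨Flat.stalkMap f (i x'), ?_⟩
  have hiso := Groth.Agent.Lib.Helper73.SpecialFibreGoren.isIso_residueFieldMap_of_isClosedImmersion g (q x')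
  have hN' : IsLocallyNoetherian (q.fiber (q x')) := Groth.Agent.Lib.Helper73.SpecialFibreGoren.isLocallyNoetherian_fiber_over_field _ q _
  have hN : IsLocallyNoetherian (f.fiber (g (q x'))) :=
    Groth.Agent.Lib.Helper73.SpecialFibreGoren.isLocallyNoetherian_fiber_of_isPullback hsq (q x')
  have hlft : LocallyOfFiniteType g := inferInstance
  have key := Groth.Agent.Lib.Helper24.isGorensteinLocalRing_fibre_stalk_iff_of_isPullback hsq x'
    hN (Or.inl hlft)
  exact key.mp ((Groth.Agent.Lib.Helper73.SpecialFibreGoren.isGorensteinLocalRing_fibre_stalk_over_field_iff _ q x').mpr (hXG x'))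

end Groth.Agent.S16185
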