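import Groth.Statements.S16188
import Mathlib

set_option autoImplicit false
universe u
open CategoryTheory AlgebraicGeometry TopologicalSpace
open SchMor

namespace Groth.Agent.S16188

/-- Let f : X → Y be a morphism of schemes with X reduced and irreducible. Then f factors through an
irreducible component of Y carrying its reduced closed-subscheme structure: there are an irreducible
component Z of Y and a morphism g from X to the closed subscheme of Y cut out by the vanishing ideal
sheaf of Z with g followed by the inclusion equal to f; that closed subscheme is integral. -/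
theorem result
    {X Y : Scheme.{u}} (f : X ⟶ Y) [IsReduced X] [IrreducibleSpace X] :
    ∃ (Z : Closeds Y) (_ : (Z : Set Y) ∈ irreducibleComponents Y)
      (_ : IsIntegral (Scheme.IdealSheafData.vanishingIdeal Z).subscheme)
      (g : X ⟶ (Scheme.IdealSheafData.vanishingIdeal Z).subscheme),
      g ≫ (Scheme.IdealSheafData.vanishingIdeal Z).subschemeι = f := by
  classical
  -- the irreducible component containing the image
  have hirr : IsIrreducible (Set.range f) := by
    have := (IrreducibleSpace.isIrreducible_univ X).image f f.continuous.continuousOn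
    rwa [Set.image_univ] at this
  obtain ⟨Z₀, hZ₀, hsub⟩ := exists_mem_irreducibleComponents_subset_of_isIrreducible _ hirr
  let Z : Closeds Y := ⟨Z₀, isClosed_of_mem_irreducibleComponents Z₀ hZ₀⟩
  -- integrality
  have hred : IsReduced (Scheme.IdealSheafData.vanishingIdeal Z).subscheme := by
    have : ∀ U, IsReduced
        ((Scheme.IdealSheafData.vanishingIdeal Z).subschemeCover.openCover.X U) := by
      intro (U : Y.affineOpens)
      have : _root_.IsReduced (Γ(Y, U.1) ⧸ (Scheme.IdealSheafData.vanishingIdeal Z).ideal U) := by
        rw [← Ideal.isRadical_iff_quotient_reduced, Scheme.IdealSheafData.vanishingIdeal_ideal]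
        exact PrimeSpectrum.isRadical_vanishingIdeal _
      show IsReduced (Spec (.of (Γ(Y, U.1) ⧸ (Scheme.IdealSheafData.vanishingIdeal Z).ideal U)))
      infer_instance
    exact IsReduced.of_openCover _
      (Scheme.IdealSheafData.vanishingIdeal Z).subschemeCover.openCover
  have hirrZ : IrreducibleSpace (Scheme.IdealSheafData.vanishingIdeal Z).subscheme := by
    have h1 : IsIrreducible ((Scheme.IdealSheafData.vanishingIdeal Z).support : Set Y) := by
      rw [Scheme.IdealSheafData.coe_support_vanishingIdeal]
      exact hZ₀.1
    exact Subtype.irreducibleSpace h1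
  have hint : IsIntegral (Scheme.IdealSheafData.vanishingIdeal Z).subscheme :=
    isIntegral_of_irreducibleSpace_of_isReduced _
  -- the factorization
  have hle : Scheme.IdealSheafData.vanishingIdeal Z ≤ f.ker := by
    rw [Scheme.Hom.ker, Scheme.IdealSheafData.le_ofIdeals_iff]
    intro U s hs
    rw [Scheme.IdealSheafData.vanishingIdeal_ideal, PrimeSpectrum.mem_vanishingIdeal] at hs
    rw [RingHom.mem_ker, ← basicOpen_eq_bot_iff, ← Scheme.preimage_basicOpen]
    ext x
    simp only [Opens.coe_bot, Set.mem_empty_iff_false, iff_false]
    intro hx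
    have hxU : f x ∈ (U.1 : Set Y) := Y.basicOpen_le s hx
    rw [← U.2.range_fromSpec] at hxU
    obtain ⟨p, hp⟩ := hxU
    have hpZ : p ∈ U.2.fromSpec ⁻¹' (Z : Set Y) := by
      show U.2.fromSpec p ∈ Z₀
      rw [hp]
      exact hsub ⟨x, rfl⟩
    have h1 := hs p hpZ
    have h2 : p ∈ U.2.fromSpec ⁻¹ᵁ (Y.basicOpen s) := by
      show U.2.fromSpec p ∈ Y.basicOpen s
      rw [hp]
      exact hx
    rw [U.2.fromSpec_preimage_basicOpen] at h2
    exact h2 h1
  refine ⟨Z, hZ₀, hint, f.toImage ≫ Scheme.IdealSheafData.inclusion hle, ?_⟩
  rw [Category.assoc, Scheme.IdealSheafData.inclusion_subschemeι, Scheme.Hom.toImage_imageι]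

end Groth.Agent.S16188
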