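import Groth.Statements.S16194
import Mathlib

set_option autoImplicit false
universe u
open DivAlg

namespace Groth.Agent.S16194

/-- In an associative unital ring R, not necessarily commutative, every element r of the Jacobson
radical (the set of elements lying in every maximal left ideal) is quasiregular, i.e. 1 - r is a
two-sided unit. -/
theorem result {R : Type u} [Ring R] (r : R)
    (hr : r ∈ Ring.jacobson R) : IsUnit (1 - r) := by
  rw [← Ideal.jacobson_bot] at hr
  obtain ⟨z, hz⟩ := Ideal.mem_jacobson_iff.1 hr (-1)
  have hz1 : z * (1 - r) = 1 := by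
    have : z * -1 * r + z - 1 = 0 := by simpa using hz
    have h2 : z * (1 - r) = (z * -1 * r + z - 1) + 1 := by noncomm_ring
    rw [h2, this, zero_add]
  have hzr : z * r ∈ Ideal.jacobson (⊥ : Ideal R) := Ideal.mul_mem_left _ z hr
  obtain ⟨w, hw⟩ := Ideal.mem_jacobson_iff.1 hzr 1
  have hw1 : w * z = 1 := by
    have : w * 1 * (z * r) + w - 1 = 0 := by simpa using hw
    have hz' : z = 1 + z * r := by
      have : z * (1 - r) = z - z * r := by noncomm_ring
      rw [this] at hz1
      rw [← hz1]; noncomm_ring
    have h2 : w * z = (w * 1 * (z * r) + w - 1) + 1 := by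
      conv_lhs => rw [hz']
      noncomm_ring
    rw [h2, this, zero_add]
  have hwr : w = 1 - r := by
    calc w = w * 1 := (mul_one w).symm
      _ = w * (z * (1 - r)) := by rw [hz1]
      _ = (w * z) * (1 - r) := (mul_assoc _ _ _).symm
      _ = 1 - r := by rw [hw1, one_mul]
  rw [hwr] at hw1
  exact ⟨⟨1 - r, z, hw1, hz1⟩, rfl⟩

end Groth.Agent.S16194
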