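import Groth.Statements.S16195
import Mathlib

set_option autoImplicit false
universe u v w
open DivAlg

namespace Groth.Agent.S16195

/-- Let R be a ring (associative, unital, not necessarily commutative) and M, N left R-modules. For an
R-module P write BiEnd_R(P) for the ring of endomorphisms of P that are linear over the ring
End_R(P), which acts on P through evaluation. Then every T in BiEnd_R(M × N) preserves the two
summands and is induced by a pair (T₁, T₂) with T₁ in BiEnd_R(M) and T₂ in BiEnd_R(N). -/
theorem result {R : Type u} [Ring R] (M : Type v) (N : Type w)
    [AddCommGroup M] [Module R M] [AddCommGroup N] [Module R N]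
    (T : Module.End (Module.End R (M × N)) (M × N)) :
    ∃ (T₁ : Module.End (Module.End R M) M) (T₂ : Module.End (Module.End R N) N),
      ∀ (m : M) (n : N), T (m, n) = (T₁ m, T₂ n) := by
  -- key: T commutes with every R-linear endomorphism of M × N
  have hT : ∀ (g : Module.End R (M × N)) (x : M × N), T (g x) = g (T x) := by
    intro g x
    have := T.map_smul g x
    simpa using this
  let T₁ : Module.End (Module.End R M) M :=
    { toFun := fun m => (T (m, 0)).1
      map_add' := by
        intro a b
        have : ((a + b, (0 : N)) : M × N) = (a, 0) + (b, 0) := by simp
        rw [this, map_add]; rfl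
      map_smul' := by
        intro f m
        simp only [RingHom.id_apply, Module.End.smul_def]
        have h := hT (f.prodMap (0 : Module.End R N)) (m, 0)
        simp only [LinearMap.prodMap_apply, LinearMap.zero_apply] at h
        rw [h] }
  let T₂ : Module.End (Module.End R N) N :=
    { toFun := fun n => (T (0, n)).2
      map_add' := by
        intro a b
        have : (((0 : M), a + b) : M × N) = (0, a) + (0, b) := by simp
        rw [this, map_add]; rfl
      map_smul' := by
        intro f n
        simp only [RingHom.id_apply, Module.End.smul_def]
        have h := hT ((0 : Module.End R M).prodMap f) (0, n)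
        simp only [LinearMap.prodMap_apply, LinearMap.zero_apply] at h
        rw [h] }
  refine ⟨T₁, T₂, ?_⟩
  intro m n
  have h1 : (T (m, 0)).2 = 0 := by
    have h := hT ((LinearMap.id : Module.End R M).prodMap (0 : Module.End R N)) (m, 0)
    simp only [LinearMap.prodMap_apply, LinearMap.zero_apply, LinearMap.id_apply] at h
    have := congrArg Prod.snd h
    simpa using this
  have h2 : (T (0, n)).1 = 0 := by
    have h := hT ((0 : Module.End R M).prodMap (LinearMap.id : Module.End R N)) (0, n)
    simp only [LinearMap.prodMap_apply, LinearMap.zero_apply, LinearMap.id_apply] at h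
    have := congrArg Prod.fst h
    simpa using this
  have hsum : ((m, n) : M × N) = (m, 0) + (0, n) := by simp
  rw [hsum, map_add]
  ext
  · show (T (m, 0)).1 + (T (0, n)).1 = (T (m, 0)).1
    rw [h2, add_zero]
  · show (T (m, 0)).2 + (T (0, n)).2 = (T (0, n)).2
    rw [h1, zero_add]

end Groth.Agent.S16195
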