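import Groth.Statements.S16197
import Mathlib

set_option autoImplicit false
universe u v w
open DivAlg

namespace Groth.Agent.S16197

/-- Let R be a ring (associative, unital, not necessarily commutative) and M a left R-module which is a
generator, used here only through the existence of an R-linear surjection from a direct sum of
copies of M, indexed by an arbitrary type, onto R. Then some finite power M^n decomposes as R × Q
for a submodule Q of M^n. (The published statement is an equivalence; this row states only the
implication from the existence of such a surjection to the splitting.) -/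
theorem result {R : Type u} [Ring R] (M : Type v)
    [AddCommGroup M] [Module R M]
    (hgen : ∃ (ι : Type w) (f : (ι →₀ M) →ₗ[R] R), Function.Surjective f) :
    ∃ (n : ℕ) (Q : Submodule R (Fin n → M)), Nonempty ((Fin n → M) ≃ₗ[R] (R × Q)) := by
  classical
  obtain ⟨ι, f, hf⟩ := hgen
  obtain ⟨y, hy⟩ := hf 1
  set s := y.support with hs
  let n := s.card
  let emb : Fin n → ι := fun k => (s.equivFin.symm k : ι)
  let g : (Fin n → M) →ₗ[R] R :=
    ∑ k : Fin n, (f.comp (Finsupp.lsingle (emb k))).comp (LinearMap.proj k)
  have hg : ∀ z, g z = ∑ k : Fin n, f (Finsupp.single (emb k) (z k)) := by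
    intro z
    simp [g, LinearMap.sum_apply]
  let z₀ : Fin n → M := fun k => y (emb k)
  have hz₀ : g z₀ = 1 := by
    rw [hg, ← map_sum, ← hy]
    congr 1
    have h1 : ∑ k : Fin n, Finsupp.single (emb k) (z₀ k)
        = ∑ i : s, Finsupp.single (i : ι) (y i) := by
      refine Fintype.sum_equiv s.equivFin.symm _ _ ?_
      intro k
      rfl
    rw [h1, Finset.sum_coe_sort s (fun i => Finsupp.single i (y i))]
    exact Finsupp.sum_single y
  refine ⟨n, LinearMap.ker g, ⟨?_⟩⟩
  refine
    { toFun := fun z => (g z, ⟨z - g z • z₀, ?_⟩)
      map_add' := ?_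
      map_smul' := ?_
      invFun := fun p => p.1 • z₀ + (p.2 : Fin n → M)
      left_inv := ?_
      right_inv := ?_ }
  · rw [LinearMap.mem_ker, map_sub, map_smul, hz₀, smul_eq_mul, mul_one, sub_self]
  · intro a b
    ext
    · simp
    · simp only [map_add, add_smul, Prod.mk_add_mk]
      show (a + b - (g a • z₀ + g b • z₀)) _ = ((a - g a • z₀) + (b - g b • z₀)) _
      rw [show a + b - (g a • z₀ + g b • z₀) = (a - g a • z₀) + (b - g b • z₀) from
        add_sub_add_comm a b (g a • z₀) (g b • z₀)]
  · intro r a
    ext
    · simp
    · simp only [map_smul, smul_eq_mul, RingHom.id_apply, Prod.smul_mk]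
      show (r • a - (r * g a) • z₀) _ = (r • (a - g a • z₀)) _
      rw [smul_sub, mul_smul]
  · intro z
    simp
  · rintro ⟨r, q, hq⟩
    rw [LinearMap.mem_ker] at hq
    ext
    · simp [hz₀, hq]
    · simp [hz₀, hq]

end Groth.Agent.S16197
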