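import Groth.Statements.S16198
import Mathlib

set_option autoImplicit false
universe u v
open DivAlg

namespace Groth.Agent.S16198

section helpers
open TensorProduct CommRing

variable {R : Type u} [CommRing R] {N : Type v} [AddCommGroup N] [Module R N]
  [Module.Invertible R N]

/-- Any two elements of an invertible module are "proportional". -/
lemma dual_smul_comm (φ : Module.Dual R N) (y z : N) : φ z • y = φ y • z := by
  have h := Module.Invertible.tmul_comm (R := R) (m₁ := z) (m₂ := y)
  have := congrArg (TensorProduct.lift ((LinearMap.lsmul R N).comp φ)) h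
  simpa using this

/-- An element of `R` annihilated by all squares of values of functionals on an invertible module
vanishes. -/
lemma eq_zero_of_sq_mul (N : Type v) [AddCommGroup N] [Module R N]
  [Module.Invertible R N] (c : R) (h : ∀ (φ : Module.Dual R N) (z : N), φ z ^ 2 * c = 0) : c = 0 := by
  -- the values φ z span the unit ideal
  have hspan : Ideal.span {a : R | ∃ (φ : Module.Dual R N) (z : N), a = φ z} = ⊤ := by
    rw [Ideal.eq_top_iff_one]
    have hall : ∀ t : Module.Dual R N ⊗[R] N, contractLeft R N t ∈
        Ideal.span {a : R | ∃ (φ : Module.Dual R N) (z : N), a = φ z} := by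
      intro t
      induction t using TensorProduct.induction_on with
      | zero => simp
      | tmul φ z =>
        apply Ideal.subset_span
        exact ⟨φ, z, by simp⟩
      | add a b ha hb => rw [map_add]; exact Ideal.add_mem _ ha hb
    obtain ⟨t, ht⟩ := (Module.Invertible.bijective (R := R) (M := N)).2 1
    rw [← ht]
    exact hall t
  have hsq := Ideal.span_pow_eq_top _ hspan 2
  have hle : Ideal.span ((fun x => x ^ 2) '' {a : R | ∃ (φ : Module.Dual R N) (z : N), a = φ z})
      ≤ LinearMap.ker (LinearMap.mulRight R c) := by
    rw [Ideal.span_le]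
    rintro _ ⟨_, ⟨φ, z, rfl⟩, rfl⟩
    simpa using h φ z
  rw [hsq] at hle
  have : (1 : R) ∈ LinearMap.ker (LinearMap.mulRight R c) := hle trivial
  simpa using this

/-- Tensor powers of an invertible module represent powers in the Picard group. -/
lemma nonempty_tensorPower_equiv (R : Type u) [CommRing R] (N : Type v) [AddCommGroup N]
    [Module R N] [Module.Invertible R N] (n : ℕ) :
    Nonempty ((⨂[R]^n N) ≃ₗ[R] ((Pic.mk R N ^ n : Pic R))) := by
  induction n with
  | zero =>
    have h1 : Nonempty (((1 : Pic R)) ≃ₗ[R] R) := Pic.mk_eq_one_iff.mp Pic.mk_eq_self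
    obtain ⟨e1⟩ := h1
    rw [pow_zero]
    exact ⟨(PiTensorProduct.isEmptyEquiv (Fin 0)).trans e1.symm⟩
  | succ n ih =>
    obtain ⟨en⟩ := ih
    rw [pow_succ, Pic.mul_eq_tensor]
    let e1 : (⨂[R]^(n + 1) N) ≃ₗ[R] (⨂[R]^n N) ⊗[R] (⨂[R]^1 N) :=
      (TensorPower.mulEquiv (R := R) (M := N) (n := n) (m := 1)).symm
    let e2 : (⨂[R]^1 N) ≃ₗ[R] (Pic.mk R N : Pic R) :=
      (PiTensorProduct.subsingletonEquiv (R := R) (s := fun _ : Fin 1 => N) (0 : Fin 1)) ≪≫ₗ
        (Pic.mk.linearEquiv R N).symm
    let e3 : (⨂[R]^n N) ⊗[R] (⨂[R]^1 N) ≃ₗ[R]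
        ((Pic.mk R N ^ n : Pic R)) ⊗[R] (Pic.mk R N : Pic R) := TensorProduct.congr en e2
    exact ⟨e1 ≪≫ₗ e3 ≪≫ₗ (Pic.mk.linearEquiv R _).symm⟩


end helpers


/-- In the case of a commutative ring R, let N be an invertible R-module such that the direct sum N^n is
isomorphic to R^n for some natural number n. Then the class of N in Pic(R) satisfies [N]^n = 1. (The
published statement is for invertible modules on an arbitrary ringed site; this row states the case
of a commutative ring.) -/
theorem result {R : Type u} [CommRing R] (N : Type v)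
    [AddCommGroup N] [Module R N] [Module.Invertible R N] (n : ℕ)
    (e : (Fin n → N) ≃ₗ[R] (Fin n → R)) :
    CommRing.Pic.mk R N ^ n = 1 := by
  classical
  obtain ⟨eT⟩ := nonempty_tensorPower_equiv R N n
  have : Module.Invertible R (TensorPower R n N) := Module.Invertible.congr eT.symm
  -- the rows
  let L : Fin n → (N →ₗ[R] (Fin n → R)) :=
    fun i => e.toLinearMap ∘ₗ LinearMap.single R (fun _ => N) i
  let f : (Fin n → R) [⋀^Fin n]→ₗ[R] R := Matrix.detRowAlternating
  let Φ : MultilinearMap R (fun _ : Fin n => N) R := f.toMultilinearMap.compLinearMap L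
  let D : (TensorPower R n N) →ₗ[R] R := PiTensorProduct.lift Φ
  have hΦ : ∀ x : Fin n → N, f (fun i => L i (x i)) ∈ LinearMap.range D := fun x =>
    ⟨PiTensorProduct.tprod R x, by simp [D, Φ]⟩
  let v : Fin n → (Fin n → N) := fun i => e.symm (Pi.single i 1)
  have hv : ∀ i, (Pi.single i 1 : Fin n → R) = ∑ j, L j (v i j) := by
    intro i
    have h1 : e (v i) = Pi.single i 1 := e.apply_symm_apply _
    have h2 : v i = ∑ j, Pi.single j (v i j) := by
      ext k
      simp [Finset.sum_apply, Pi.single_apply]
    rw [← h1]
    conv_lhs => rw [h2]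
    rw [map_sum]
    rfl
  have hone : (1 : R) = ∑ r : Fin n → Fin n, f (fun i => L (r i) (v i (r i))) := by
    have h0 : (1 : R) = f (fun i => (Pi.single i 1 : Fin n → R)) := by
      have hmat : (fun i => (Pi.single i 1 : Fin n → R)) = (1 : Matrix (Fin n) (Fin n) R) := by
        funext i j
        simp [Matrix.one_apply, Pi.single_apply, eq_comm]
      rw [hmat]
      exact (Matrix.det_one (n := Fin n) (R := R)).symm
    rw [h0]
    simp_rw [hv]
    exact f.toMultilinearMap.map_sum (fun i j => L j (v i j))
  have hterm : ∀ r : Fin n → Fin n, f (fun i => L (r i) (v i (r i))) ∈ LinearMap.range D := by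
    intro r
    by_cases hr : Function.Injective r
    · have hbij : Function.Bijective r := Finite.injective_iff_bijective.mp hr
      let σ : Equiv.Perm (Fin n) := Equiv.ofBijective r hbij
      let w : Fin n → (Fin n → R) := fun j => L j (v (σ.symm j) j)
      have hw : (fun i => L (r i) (v i (r i))) = w ∘ σ := by
        funext i
        show L (r i) (v i (r i)) = L (σ i) (v (σ.symm (σ i)) (σ i))
        rw [Equiv.symm_apply_apply]
        rfl
      rw [hw, f.map_perm]
      exact Submodule.smul_of_tower_mem _ _ (hΦ (fun j => v (σ.symm j) j))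
    · rw [Function.Injective] at hr
      push Not at hr
      obtain ⟨a, b, hab, hne⟩ := hr
      set m : Fin n → (Fin n → R) := fun i => L (r i) (v i (r i)) with hm
      have hzero : f m = 0 := by
        apply eq_zero_of_sq_mul N
        intro φ z
        have h1 : φ z • m a = φ (v a (r a)) • L (r a) z := by
          show φ z • L (r a) (v a (r a)) = _
          rw [← map_smul, dual_smul_comm, map_smul]
        have h2 : φ z • m b = φ (v b (r b)) • L (r a) z := by
          show φ z • L (r b) (v b (r b)) = _
          rw [← map_smul, dual_smul_comm, map_smul, hab]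
        have h3 : f (Function.update (Function.update m a (φ z • m a)) b (φ z • m b))
            = φ z ^ 2 * f m := by
          rw [f.map_update_smul, Function.update_comm hne, f.map_update_smul,
            Function.update_eq_self, Function.update_eq_self, smul_eq_mul, smul_eq_mul, pow_two,
            mul_assoc]
        have h4 : f (Function.update (Function.update m a (φ z • m a)) b (φ z • m b)) = 0 := by
          rw [h1, h2, f.map_update_smul, Function.update_comm hne, f.map_update_smul]
          have : f (Function.update (Function.update m b (L (r a) z)) a (L (r a) z)) = 0 := by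
            apply f.map_eq_zero_of_eq _ _ hne
            rw [Function.update_self, Function.update_of_ne hne.symm, Function.update_self]
          rw [this, smul_zero, smul_zero]
        rw [← h3, h4]
      rw [hzero]
      exact Submodule.zero_mem _
  have h1mem : (1 : R) ∈ LinearMap.range D := by
    rw [hone]
    exact Submodule.sum_mem _ (fun r _ => hterm r)
  have hsurj : Function.Surjective D := by
    intro c
    obtain ⟨t, ht⟩ := h1mem
    exact ⟨c • t, by rw [map_smul, ht, smul_eq_mul, mul_one]⟩
  have hbij := Module.Invertible.bijective_of_surjective hsurj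
  let eD : (TensorPower R n N) ≃ₗ[R] R := LinearEquiv.ofBijective D hbij
  have hfin : CommRing.Pic.mk R ((CommRing.Pic.mk R N ^ n : CommRing.Pic R)) = 1 :=
    CommRing.Pic.mk_eq_one_iff.mpr ⟨eT.symm ≪≫ₗ eD⟩
  rwa [CommRing.Pic.mk_eq_self] at hfin

end Groth.Agent.S16198
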