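import Groth.Statements.S1620
-- import your own Groth.Agent.* helpers here
import Groth.Agent.Lib.Helper55.Catenary
import Groth.Agent.Lib.Helper55.ResidueFieldTrdeg

set_option autoImplicit false
universe u
open CategoryTheory CategoryTheory.Limits AlgebraicGeometry
attribute [local instance] Curv2.stalkAlgebra Curv2.resAlgebra
open Variety

namespace Groth.Agent.S1620

open Groth.Agent.Lib.Helper55

/-- Let X be locally of finite type over a field k and x ⤳ x' an immediate specialisation (x ≠ x' and no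
point strictly in between). If the residue field of x' has transcendence degree n over k then the
residue field of x has transcendence degree n + 1. -/
theorem result (k : Type u) [Field k] (X : Scheme.{u}) [X.Over (Spec (CommRingCat.of k))] [LocallyOfFiniteType (X ↘ (Spec (CommRingCat.of k)))] (x x' : X) (hne : x ≠ x') (hsp : x ⤳ x')
    (himm : ∀ y : X, x ⤳ y → y ⤳ x' → y = x ∨ y = x')
    (n : ℕ) (hn : Algebra.trdeg k (X.residueField x') = n) : Algebra.trdeg k (X.residueField x) = n + 1 := by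
  obtain ⟨U, hU, hx'U, -⟩ := exists_isAffineOpen_mem_and_subset (x := x') (U := ⊤) trivial
  have hxU : x ∈ U := hsp.mem_open U.2 hx'U
  let _ : Algebra k Γ(X, U) := (sectionsMap k X U).toAlgebra
  have hft : Algebra.FiniteType k Γ(X, U) := sectionsMap_finiteType k X U hU
  set 𝔭 : PrimeSpectrum Γ(X, U) := hU.primeIdealOf ⟨x, hxU⟩ with h𝔭
  set 𝔭' : PrimeSpectrum Γ(X, U) := hU.primeIdealOf ⟨x', hx'U⟩ with h𝔭'
  have hf𝔭 : hU.fromSpec 𝔭 = x := hU.fromSpec_primeIdealOf ⟨x, hxU⟩
  have hf𝔭' : hU.fromSpec 𝔭' = x' := hU.fromSpec_primeIdealOf ⟨x', hx'U⟩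
  have hspec : ∀ a b : PrimeSpectrum Γ(X, U), a ≤ b ↔ hU.fromSpec a ⤳ hU.fromSpec b := by
    intro a b
    rw [PrimeSpectrum.le_iff_specializes]
    exact (hU.fromSpec.isOpenEmbedding.isInducing.specializes_iff (x := a) (y := b)).symm
  have hinj : Function.Injective hU.fromSpec := hU.fromSpec.isOpenEmbedding.injective
  have hcov : 𝔭 ⋖ 𝔭' := by
    refine ⟨lt_of_le_of_ne ?_ ?_, ?_⟩
    · rw [hspec, hf𝔭, hf𝔭']
      exact hsp
    · intro h
      apply hne
      rw [← hf𝔭, ← hf𝔭', h]
    · intro 𝔯 h1 h2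
      have e1 : x ⤳ hU.fromSpec 𝔯 := by
        rw [← hf𝔭, ← hspec]
        exact h1.le
      have e2 : hU.fromSpec 𝔯 ⤳ x' := by
        rw [← hf𝔭', ← hspec]
        exact h2.le
      rcases himm _ e1 e2 with h | h
      · rw [← hf𝔭] at h
        exact h1.ne (hinj h).symm
      · rw [← hf𝔭'] at h
        exact h2.ne (hinj h)
  have hdim := ringKrullDim_quotient_eq_add_one_of_covBy k Γ(X, U) 𝔭 𝔭' hcov
  obtain ⟨s, hs1, hs2⟩ :=
    exists_ringKrullDim_quotient_eq_and_trdeg_residueField_eq_of_isAffineOpen k X U hU x hxU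
  obtain ⟨s', hs'1, hs'2⟩ :=
    exists_ringKrullDim_quotient_eq_and_trdeg_residueField_eq_of_isAffineOpen k X U hU x' hx'U
  rw [hn] at hs'2
  have hns' : n = s' := by exact_mod_cast hs'2
  rw [hs1, hs'1] at hdim
  have hss' : s = s' + 1 := by exact_mod_cast hdim
  rw [hs2, hss', hns']
  norm_cast

end Groth.Agent.S1620
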