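import Groth.Statements.S16201
import Groth.Agent.Lib.Helper78.FibreIrredMain

set_option autoImplicit false
open CategoryTheory AlgebraicGeometry
open Variety

namespace Groth.Agent.S16201

open Topology TopologicalSpace Groth.Agent.Lib.Helper78.FibreIrred in
/-- The image of the "interior" of a dominant component contains a nonempty open subset. -/
theorem exists_open_subset_image_compInterior {X Y : Scheme.{0}} [IsNoetherian X] [IsNoetherian Y]
    [IrreducibleSpace Y] (f : X ⟶ Y) [LocallyOfFiniteType f] (Z : Set X)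
    (hZ : Z ∈ irreducibleComponents (X : Type)) (hd : Dense (f '' Z)) :
    ∃ V : Set Y, IsOpen V ∧ V.Nonempty ∧ V ⊆ f '' compInterior Z := by
  have hcl : IsClosed Z := isClosed_of_mem_irreducibleComponents Z hZ
  have hgen : closure {hZ.1.genericPoint} = Z := (hZ.1.isGenericPoint_genericPoint hcl).def
  set ξ := hZ.1.genericPoint with hξ
  refine exists_open_subset_image f _ (isOpen_compInterior Z) ?_
  have h1 : closure ({f ξ} : Set Y) = Set.univ := by
    rw [← closure_image_closure_singleton, hgen]
    exact hd.closure_eq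
  rw [dense_iff_closure_eq, ← Set.univ_subset_iff, ← h1]
  refine closure_mono ?_
  rw [Set.singleton_subset_iff]
  exact ⟨ξ, mem_compInterior_of_closure_eq Z hZ ξ hgen, rfl⟩

/-- Let f : Y → Z be a morphism of schemes of finite type over ℂ, with Z irreducible. Suppose that the
general fibre of f is irreducible, in the sense that there is a nonempty open subset V of Z such
that the fibre of f over every closed point of V is an irreducible topological space, and that each
irreducible component of Y has dense image in Z. Then Y is irreducible. (The published statement is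
for a morphism of projective varieties; only finiteness of type over the field is used, and the row
is stated in that generality.) -/
theorem result
    (Y Z : Scheme.{0}) (g : Z ⟶ Spec (CommRingCat.of ℂ)) (f : Y ⟶ Z)
    [LocallyOfFiniteType g] [QuasiCompact g] [LocallyOfFiniteType f] [QuasiCompact f]
    [IrreducibleSpace Z]
    (hgen : ∃ V : Z.Opens, (V : Set Z).Nonempty ∧
      ∀ z ∈ V, IsClosed ({z} : Set Z) → IsIrreducible (f.base ⁻¹' {z}))
    (hdom : ∀ W ∈ irreducibleComponents Y, Dense (f.base '' W)) :
    IrreducibleSpace Y := by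
  classical
  have hZN := Groth.Agent.Lib.Helper78.FibreIrred.isNoetherian_of_finiteType g
  have hYN := Groth.Agent.Lib.Helper78.FibreIrred.isNoetherian_of_finiteType (f ≫ g)
  have : JacobsonSpace Z := LocallyOfFiniteType.jacobsonSpace g
  obtain ⟨V, hVne, hV⟩ := hgen
  have hall : ∀ W₁ ∈ irreducibleComponents Y, ∀ W₂ ∈ irreducibleComponents Y, W₁ = W₂ := by
    intro W₁ h₁ W₂ h₂
    obtain ⟨V₁, hV₁o, hV₁ne, hV₁⟩ := exists_open_subset_image_compInterior f W₁ h₁ (hdom W₁ h₁)
    obtain ⟨V₂, hV₂o, hV₂ne, hV₂⟩ := exists_open_subset_image_compInterior f W₂ h₂ (hdom W₂ h₂)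
    have hne12 : (V₁ ∩ V₂).Nonempty := nonempty_preirreducible_inter hV₁o hV₂o hV₁ne hV₂ne
    have hne : ((V : Set Z) ∩ (V₁ ∩ V₂)).Nonempty :=
      nonempty_preirreducible_inter V.2 (hV₁o.inter hV₂o) hVne hne12
    obtain ⟨y, ⟨hyV, hy₁, hy₂⟩, hyc⟩ := nonempty_inter_closedPoints hne
      (V.2.inter (hV₁o.inter hV₂o)).isLocallyClosed
    have hF := hV y hyV hyc
    obtain ⟨x₁, hx₁, hx₁y⟩ := hV₁ hy₁
    obtain ⟨x₂, hx₂, hx₂y⟩ := hV₂ hy₂
    obtain ⟨x, hxF, hx1, hx2⟩ := hF.2 _ _
      (Groth.Agent.Lib.Helper78.FibreIrred.isOpen_compInterior W₁)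
      (Groth.Agent.Lib.Helper78.FibreIrred.isOpen_compInterior W₂)
      ⟨x₁, hx₁y, hx₁⟩ ⟨x₂, hx₂y, hx₂⟩
    exact Groth.Agent.Lib.Helper78.FibreIrred.eq_of_mem_compInterior W₂ W₁ h₁ x hx2
      (Groth.Agent.Lib.Helper78.FibreIrred.compInterior_subset W₁ hx1)
  obtain ⟨y, hyV, hyc⟩ := nonempty_inter_closedPoints hVne V.2.isLocallyClosed
  obtain ⟨x, hx⟩ := (hV y hyV hyc).1
  have hu : irreducibleComponent x = Set.univ := Set.eq_univ_of_forall fun x' =>
    hall (irreducibleComponent x') (irreducibleComponent_mem_irreducibleComponents x')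
      (irreducibleComponent x) (irreducibleComponent_mem_irreducibleComponents x) ▸
      mem_irreducibleComponent
  exact Groth.Agent.Lib.Helper78.FibreIrred.irreducibleSpace_of_component_eq_univ _
    (irreducibleComponent_mem_irreducibleComponents x) hu

end Groth.Agent.S16201
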