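import Groth.Statements.S1621
-- import your own Groth.Agent.* helpers here
import Groth.Agent.Lib.Helper55.LocalDim
import Groth.Agent.Lib.Helper55.LocalDimTop
import Groth.Agent.Lib.Helper55.ResidueFieldTrdeg

set_option autoImplicit false
universe u
open CategoryTheory CategoryTheory.Limits AlgebraicGeometry
attribute [local instance] Curv2.stalkAlgebra Curv2.resAlgebra
open Variety

namespace Groth.Agent.S1621

open Groth.Agent.Lib.Helper55

/-- Let X be locally of finite type over a field k and x a point whose residue field has transcendence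
degree a over k and whose local ring has dimension b. Then the local dimension of X at x is a + b. -/
theorem result (k : Type u) [Field k] (X : Scheme.{u}) [X.Over (Spec (CommRingCat.of k))] [LocallyOfFiniteType (X ↘ (Spec (CommRingCat.of k)))] (x : X) (a b : ℕ)
    (ha : Algebra.trdeg k (X.residueField x) = a) (hb : ringKrullDim (X.presheaf.stalk x) = b) :
    FlatMor.localDim X x = (a + b : ℕ) := by
  obtain ⟨U, hU, hxU, -⟩ := exists_isAffineOpen_mem_and_subset (x := x) (U := ⊤) trivial
  let _ : Algebra k Γ(X, U) := (sectionsMap k X U).toAlgebra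
  have hft : Algebra.FiniteType k Γ(X, U) := sectionsMap_finiteType k X U hU
  have h1 : FlatMor.localDim (PrimeSpectrum Γ(X, U)) (hU.primeIdealOf ⟨x, hxU⟩) =
      FlatMor.localDim X x := by
    have := localDim_eq_of_isOpenEmbedding hU.fromSpec hU.fromSpec.isOpenEmbedding
      (hU.primeIdealOf ⟨x, hxU⟩)
    rw [hU.fromSpec_primeIdealOf] at this
    exact this
  rw [← h1, localDim_primeSpectrum_eq k Γ(X, U) (hU.primeIdealOf ⟨x, hxU⟩)]
  obtain ⟨s, hs1, hs2⟩ :=
    exists_ringKrullDim_quotient_eq_and_trdeg_residueField_eq_of_isAffineOpen k X U hU x hxU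
  rw [ha] at hs2
  have has : a = s := by exact_mod_cast hs2
  let _ : Algebra Γ(X, U) (X.presheaf.stalk x) := (X.presheaf.germ U x hxU).hom.toAlgebra
  have hloc : IsLocalization.AtPrime (X.presheaf.stalk x) (hU.primeIdealOf ⟨x, hxU⟩).asIdeal :=
    hU.isLocalization_stalk ⟨x, hxU⟩
  have h2 := IsLocalization.AtPrime.ringKrullDim_eq_height (hU.primeIdealOf ⟨x, hxU⟩).asIdeal
    (X.presheaf.stalk x)
  rw [hb] at h2
  rw [hs1, ← h2, ← has]
  norm_cast

end Groth.Agent.S1621
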