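import Groth.Statements.S16213
import Groth.Agent.Lib.Helper66.SmoothPres
import Groth.Agent.Lib.Helper66.AlgStBC

set_option autoImplicit false
open CategoryTheory AlgebraicGeometry
universe u
open AlgSt

namespace Groth.Agent.S16213

/-- Let S be a scheme, let 𝒳 and 𝒴 be stacks in groupoids over (Sch/S) for the fppf topology with 𝒴 an
algebraic stack, and let f : 𝒳 ⟶ 𝒴 be a functor over (Sch/S). Suppose there are an algebraic space Z
over S and a functor z : Z ⟶ 𝒴 over (Sch/S) which is representable by algebraic spaces, smooth and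
surjective, such that the 2-fibre product Z ×_𝒴 𝒳 is an algebraic stack. Then 𝒳 is an algebraic
stack over S. -/
theorem result {S : Scheme.{u}} {𝒳 𝒴 : AlgSt.Cat S}
    (h𝒳 : Stk.IsStack (QuotSh.J Scheme.fppfPrecoverage S) 𝒳)
    (h𝒴 : AlgSt.IsAlgStack Scheme.fppfPrecoverage 𝒴) (f : 𝒳 ⥤ᵇ 𝒴)
    (Z : AlgSp.Space S) (z : AlgSt.ofSp Z.obj ⥤ᵇ 𝒴)
    (hsm : AlgSt.RepByAlgSpWith (AlgSp.LocP @Smooth) z)
    (hsurj : AlgSt.RepByAlgSpWith AlgSp.IsSurjectiveMor z)
    (hfp : AlgSt.IsAlgStack Scheme.fppfPrecoverage (FibCat.fp z f)) :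
    AlgSt.IsAlgStack Scheme.fppfPrecoverage 𝒳 := by
  obtain ⟨W, a, ha1, ha2⟩ := hfp.atlas
  have hq1 := Groth.Agent.Lib.Helper66.AlgStBC.repByAlgSpWith_fpSnd (AlgSp.LocP @Smooth) f z hsm
  have hq2 := Groth.Agent.Lib.Helper66.AlgStBC.repByAlgSpWith_fpSnd AlgSp.IsSurjectiveMor f z hsurj
  have hc1 : AlgSt.RepByAlgSpWith (AlgSp.LocP @Smooth) (BasedFunctor.comp a (FibCat.fpSnd z f)) :=
    Groth.Agent.Lib.Helper65.repByAlgSpWith_comp _ Groth.Agent.Lib.Helper65.stableBC_locP_smooth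
      Groth.Agent.Lib.Helper65.stableComp_locP_smooth
      Groth.Agent.Lib.Helper65.isLocalOnBase_fppf_locP_smooth
      (Groth.Agent.Lib.Helper31.isFibGrpd_overForget W) hfp.isStack.1 a _ ha1 hq1
  have hc2 : AlgSt.RepByAlgSpWith AlgSp.IsSurjectiveMor (BasedFunctor.comp a (FibCat.fpSnd z f)) :=
    Groth.Agent.Lib.Helper65.repByAlgSpWith_comp _ Groth.Agent.Lib.Helper65.stableBC_isSurjectiveMor
      Groth.Agent.Lib.Helper65.stableComp_isSurjectiveMor
      Groth.Agent.Lib.Helper65.isLocalOnBase_fppf_isSurjectiveMor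
      (Groth.Agent.Lib.Helper31.isFibGrpd_overForget W) hfp.isStack.1 a _ ha2 hq2
  exact Groth.Agent.Lib.Helper66.SmoothPres.isAlgStack_of_smooth_cover
    (Groth.Agent.Lib.Helper65.isAlgStack_overCat W).isStack h𝒳
    (Groth.Agent.Lib.Helper65.repByAlgSp_overCat W) _ hc1 hc2

end Groth.Agent.S16213
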