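import Groth.Statements.S1622
import Groth.Agent.Lib.Helper93.BlowUpRegReg
import Groth.Agent.H8.BlowUpIntegral
import Groth.Agent.Lib.Helper85.RegularLocal
import Groth.Agent.S0564

set_option autoImplicit false
universe u
open CategoryTheory CategoryTheory.Limits AlgebraicGeometry
open Resolve

namespace Groth.Agent.S1622

/-- Let A be a regular local ring of dimension two and b : X → Spec A a blowing up of Spec A in the
maximal ideal (characterised by its universal property). Then X is irreducible and all of its local
rings are regular. -/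
theorem result (A : Type u) [CommRing A] [IsRegularLocalRing A] (hA : ringKrullDim A = 2)
    (X : Scheme.{u}) (b : X ⟶ Spec (CommRingCat.of A)) (hb : BlowUp.IsBlowUp b (Curv2.idealSheaf A (IsLocalRing.maximalIdeal A))) :
    IrreducibleSpace X ∧ ∀ x : X, IsRegularLocalRing (X.presheaf.stalk x) := by
  have hstalk : ∀ (B : Type u) [CommRing B] [IsRegularLocalRing B] (x : Spec (CommRingCat.of B)),
      IsRegularLocalRing ((Spec (CommRingCat.of B)).presheaf.stalk x) := by
    intro B _ _ x
    have h := Groth.Agent.S0564.result B x.asIdeal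
    exact IsRegularLocalRing.of_ringEquiv (StructureSheaf.stalkIso B x).toRingEquiv
  have hdom : IsDomain A := Groth.Agent.Lib.Helper85.isDomain_of_isRegularLocalRing A
  have hκ : IsRegularLocalRing (A ⧸ IsLocalRing.maximalIdeal A) :=
    (inferInstance : IsRegularLocalRing (IsLocalRing.ResidueField A))
  have hker : (Spec.map (CommRingCat.ofHom (Ideal.Quotient.mk (IsLocalRing.maximalIdeal A)))).ker =
      Curv2.idealSheaf A (IsLocalRing.maximalIdeal A) :=
    Groth.Agent.Lib.Helper93.BlowUpRegChart.ker_SpecMap_mk (IsLocalRing.maximalIdeal A)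
  have hci : IsClosedImmersion
      (Spec.map (CommRingCat.ofHom (Ideal.Quotient.mk (IsLocalRing.maximalIdeal A)))) :=
    IsClosedImmersion.spec_of_surjective _ Ideal.Quotient.mk_surjective
  have hne : Curv2.idealSheaf A (IsLocalRing.maximalIdeal A) ≠ ⊥ := by
    intro h0
    have h1 := Groth.Agent.Lib.Helper93.BlowUpRegChart.idealSheaf_ideal_top
      (IsLocalRing.maximalIdeal A)
    have h2 : (Curv2.idealSheaf A (IsLocalRing.maximalIdeal A)).ideal
        ⟨⊤, isAffineOpen_top _⟩ = ⊥ := by rw [h0]; rfl
    have h3 : (IsLocalRing.maximalIdeal A).map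
        (Scheme.ΓSpecIso (CommRingCat.of A)).inv.hom = ⊥ := h1.symm.trans h2
    have hinj : Function.Injective (Scheme.ΓSpecIso (CommRingCat.of A)).inv.hom :=
      ((ConcreteCategory.isIso_iff_bijective _).mp inferInstance).1
    have h4 : IsLocalRing.maximalIdeal A = ⊥ :=
      (Ideal.map_eq_bot_iff_of_injective hinj).mp h3
    have h5 : IsField A := IsLocalRing.isField_iff_maximalIdeal_eq.mpr h4
    have h6 := ringKrullDim_eq_zero_of_isField h5
    rw [hA] at h6
    norm_num at h6
  refine ⟨?_, fun x => ?_⟩
  · have : IsIntegral X := Groth.Agent.H8.EffCartier.isIntegral_of_isBlowUp _ hne b hb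
    infer_instance
  · rw [← hker] at hb
    exact Groth.Agent.Lib.Helper93.BlowUpRegReg.isRegularLocalRing_stalk_of_isBlowUp
      (Spec.map (CommRingCat.ofHom (Ideal.Quotient.mk (IsLocalRing.maximalIdeal A))))
      (hstalk A) (hstalk _) b hb x

end Groth.Agent.S1622
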