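import Groth.Statements.S16223
import Mathlib
import Groth.Statements.S16223
import Groth.Agent.Lib.Helper86.DescFF
import Groth.Agent.Lib.Helper86.DescFlat
import Groth.Agent.Lib.Helper86.WittEq
import Groth.Agent.Lib.Helper86.DescTransport

set_option autoImplicit false
open CategoryTheory Opposite
universe u
open CAlg

namespace Groth.Agent.S16223

open Groth.Agent.Lib.Helper86.DescBridge Groth.Agent.Lib.Helper86.DescComm2
  Groth.Agent.Lib.Helper86.DescFF Groth.Agent.Lib.Helper86.DescFlat
  Groth.Agent.Lib.Helper86.WittEq TensorProduct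

theorem result (p : ℕ) [Fact p.Prime] (n : ℕ)
    (R R' : Type u) [CommRing R] [CommRing R'] [Algebra R R'] [Module.FaithfullyFlat R R']
    (hp : IsNilpotent (p : R))
    (M N : ModuleCat.{u} (TruncatedWittVector p n R))
    [Module.Finite (TruncatedWittVector p n R) M] [Module.Projective (TruncatedWittVector p n R) M]
    [Module.Finite (TruncatedWittVector p n R) N] [Module.Projective (TruncatedWittVector p n R) N] :
    Function.Bijective (fun φ : M ⟶ N =>
      ((W4c3truncdispsmooth.wittModPF.{u} p n).toDescentData (fun _ : PUnit.{u + 1} => (CommRingCat.ofHom (algebraMap R R')).op)).map φ) := by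
  let g₁ : R' →+* R' ⊗[R] R' := Algebra.TensorProduct.includeLeftRingHom
  let g₂ : R' →+* R' ⊗[R] R' := ((Algebra.TensorProduct.includeRight : R' →ₐ[R] R' ⊗[R] R') : R' →+* R' ⊗[R] R')
  have hg : g₁.comp (algebraMap R R') = g₂.comp (algebraMap R R') := by
    ext r
    show (algebraMap R R' r) ⊗ₜ[R] (1 : R') = (1 : R') ⊗ₜ[R] (algebraMap R R' r)
    rw [Algebra.algebraMap_eq_smul_one, TensorProduct.smul_tmul]
  have hf : (CommRingCat.ofHom g₂).op ≫ (CommRingCat.ofHom (algebraMap R R')).op =
      (CommRingCat.ofHom g₁).op ≫ (CommRingCat.ofHom (algebraMap R R')).op := by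
    rw [← op_comp, ← op_comp, ← CommRingCat.ofHom_comp, ← CommRingCat.ofHom_comp, hg]
  have hflat : Module.Flat (TruncatedWittVector p n R) N := inferInstance
  have hα : Function.Injective (WittGrp.truncMap p n (algebraMap R R')) :=
    truncMap_injective p n _ (FaithfulSMul.algebraMap_injective R R')
  have hinj := tm_one_injective (WittGrp.truncMap p n (algebraMap R R')) hα N
  have h₁ : (WittGrp.truncMap p n g₁).comp (WittGrp.truncMap p n (algebraMap R R')) =
      WittGrp.truncMap p n (g₁.comp (algebraMap R R')) := (WittGrp.truncMap_comp p n _ _).symm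
  have h₂ : (WittGrp.truncMap p n g₂).comp (WittGrp.truncMap p n (algebraMap R R')) =
      WittGrp.truncMap p n (g₁.comp (algebraMap R R')) := by
    rw [hg]; exact (WittGrp.truncMap_comp p n _ _).symm
  have hex := exists_tm_of_U_eq (WittGrp.truncMap p n (algebraMap R R'))
    (WittGrp.truncMap p n g₁) (WittGrp.truncMap p n g₂) _ h₁ h₂ N
    (fun w hw => truncMap_equalizer p n R R' w hw)
  refine Groth.Agent.Lib.Helper86.DescTransport.bijective_transport
    (F := PF ((unopUnop CommRingCat.{u}) ⋙ W4c3truncdispsmooth.wittTrunc p n))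
    (G := W4c3truncdispsmooth.wittModPF.{u} p n) rfl
    (CommRingCat.ofHom (algebraMap R R')).op M N ?_
  intro M' N' hM hN
  obtain rfl := eq_of_heq hM
  obtain rfl := eq_of_heq hN
  exact toDescentData_map_bijective
    (Φ := (unopUnop CommRingCat.{u}) ⋙ W4c3truncdispsmooth.wittTrunc p n)
    (CommRingCat.ofHom (algebraMap R R')).op (CommRingCat.ofHom g₁).op (CommRingCat.ofHom g₂).op hf
    M' N' hinj hex

end Groth.Agent.S16223
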