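import Groth.Statements.S16224
import Mathlib
import Groth.Statements.S16224
import Groth.Agent.Lib.Helper86.WittAsm3

set_option autoImplicit false
open CategoryTheory Opposite
universe u
open CAlg

namespace Groth.Agent.S16224

open Groth.Agent.Lib.Helper86.DescBridge Groth.Agent.Lib.Helper86.WittDD
  Groth.Agent.Lib.Helper86.WittAsm3

theorem result (p : ℕ) [Fact p.Prime] (n : ℕ)
    (R R' : Type u) [CommRing R] [CommRing R'] [Algebra R R'] [Module.FaithfullyFlat R R']
    (hp : IsNilpotent (p : R))
    (D : (W4c3truncdispsmooth.wittModPF.{u} p n).DescentData (fun _ : PUnit.{u + 1} => (CommRingCat.ofHom (algebraMap R R')).op))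
    [Module.Finite (TruncatedWittVector p n R') (W4c3truncdispsmooth.descObj D)]
    [Module.Projective (TruncatedWittVector p n R') (W4c3truncdispsmooth.descObj D)] :
    ∃ M : ModuleCat.{u} (TruncatedWittVector p n R),
      Module.Finite (TruncatedWittVector p n R) M ∧ Module.Projective (TruncatedWittVector p n R) M ∧
        Nonempty (((W4c3truncdispsmooth.wittModPF.{u} p n).toDescentData (fun _ : PUnit.{u + 1} => (CommRingCat.ofHom (algebraMap R R')).op)).obj M ≅ D) := by
  have key := effective_transport_pred
    (F := PF (ΦW.{u} p n)) (G := W4c3truncdispsmooth.wittModPF.{u} p n) rfl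
    (CommRingCat.ofHom (algebraMap R R')).op D
    (fun M => Module.Finite (TruncatedWittVector p n R)
        (show ModuleCat.{u} (TruncatedWittVector p n R) from M) ∧
      Module.Projective (TruncatedWittVector p n R)
        (show ModuleCat.{u} (TruncatedWittVector p n R) from M)) ?_
  · obtain ⟨M, ⟨h1, h2⟩, h3⟩ := key
    exact ⟨M, h1, h2, h3⟩
  · intro D' hD'
    obtain rfl := eq_of_heq hD'
    have i1 : Module.Finite (TruncatedWittVector p n R') (objN D') := ‹_›
    have i2 : Module.Projective (TruncatedWittVector p n R') (objN D') := ‹_›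
    obtain ⟨M, θ, hθ, hf, hpj, hprop⟩ := effective_witt R (toWDD D') hp
    refine ⟨M, ?_, ?_⟩
    · intro M' hM'
      obtain rfl := eq_of_heq hM'
      exact ⟨hf, hpj⟩
    · exact effective_native_of D' M θ hprop

end Groth.Agent.S16224
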