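import Groth.Statements.S16225
import Groth.Agent.Lib.Helper27.EqualizerFlat

set_option autoImplicit false
open scoped TensorProduct
universe u v
open CAlg

namespace Groth.Agent.S16225

/-- Let p be a prime, n a natural number and R → R' a faithfully flat homomorphism of commutative rings
in which p is nilpotent. Regard W_n(R') and W_n(R' ⊗_R R') as W_n(R)-algebras through the
componentwise maps induced by R → R' and R → R' ⊗_R R', and let ψ₁, ψ₂ : W_n(R') → W_n(R' ⊗_R R') be
the componentwise maps induced by the two inclusions of R' (these are W_n(R)-algebra maps). Then for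
every flat W_n(R)-module M the sequence 0 → M → M ⊗_{W_n(R)} W_n(R') ⇉ M ⊗_{W_n(R)} W_n(R' ⊗_R R')
is exact: m ↦ m ⊗ 1 is injective and its image is the equalizer of id ⊗ ψ₁ and id ⊗ ψ₂. (This is the
beginning, in degrees 0 and 1, of a complex continued by the higher tensor powers of R', which the
published proof asserts to be exact throughout; W_n(R) → W_n(R') is not flat in general, so this is
not faithfully flat descent.) -/
theorem result (p : ℕ) [Fact p.Prime] (n : ℕ)
    (R R' : Type u) [CommRing R] [CommRing R'] [Algebra R R'] [Module.FaithfullyFlat R R']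
    (hp : IsNilpotent (p : R))
    [Algebra (TruncatedWittVector p n R) (TruncatedWittVector p n R')]
    (h₁ : algebraMap (TruncatedWittVector p n R) (TruncatedWittVector p n R') = WittGrp.truncMap p n (algebraMap R R'))
    [Algebra (TruncatedWittVector p n R) (TruncatedWittVector p n (TensorProduct R R' R'))]
    (h₂ : algebraMap (TruncatedWittVector p n R) (TruncatedWittVector p n (TensorProduct R R' R')) =
      WittGrp.truncMap p n (algebraMap R (TensorProduct R R' R')))
    (ψ₁ ψ₂ : TruncatedWittVector p n R' →ₐ[TruncatedWittVector p n R] TruncatedWittVector p n (TensorProduct R R' R'))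
    (hψ₁ : (ψ₁ : TruncatedWittVector p n R' →+* TruncatedWittVector p n (TensorProduct R R' R')) =
      WittGrp.truncMap p n (Algebra.TensorProduct.includeLeftRingHom : R' →+* TensorProduct R R' R'))
    (hψ₂ : (ψ₂ : TruncatedWittVector p n R' →+* TruncatedWittVector p n (TensorProduct R R' R')) =
      WittGrp.truncMap p n ((Algebra.TensorProduct.includeRight : R' →ₐ[R] TensorProduct R R' R') : R' →+* TensorProduct R R' R'))
    (M : Type v) [AddCommGroup M] [Module (TruncatedWittVector p n R) M] [Module.Flat (TruncatedWittVector p n R) M] :
    Function.Injective (fun m : M => m ⊗ₜ[TruncatedWittVector p n R] (1 : TruncatedWittVector p n R')) ∧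
      ∀ x : M ⊗[TruncatedWittVector p n R] TruncatedWittVector p n R',
        LinearMap.lTensor M ψ₁.toLinearMap x = LinearMap.lTensor M ψ₂.toLinearMap x →
          x ∈ Set.range (fun m : M => m ⊗ₜ[TruncatedWittVector p n R] (1 : TruncatedWittVector p n R')) := by
  classical
  -- abbreviations
  have hinjRR' : Function.Injective (algebraMap R R') := FaithfulSMul.algebraMap_injective R R'
  have hcoeff₁ : ∀ (t : TruncatedWittVector p n R') (i : Fin n),
      (ψ₁ t).coeff i = (Algebra.TensorProduct.includeLeftRingHom : R' →+* TensorProduct R R' R') (t.coeff i) := by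
    intro t i
    have : ψ₁ t = (ψ₁ : TruncatedWittVector p n R' →+* TruncatedWittVector p n (TensorProduct R R' R')) t := rfl
    rw [this, hψ₁, WittGrp.coeff_truncMap]
  have hcoeff₂ : ∀ (t : TruncatedWittVector p n R') (i : Fin n),
      (ψ₂ t).coeff i = ((Algebra.TensorProduct.includeRight : R' →ₐ[R] TensorProduct R R' R') :
        R' →+* TensorProduct R R' R') (t.coeff i) := by
    intro t i
    have : ψ₂ t = (ψ₂ : TruncatedWittVector p n R' →+* TruncatedWittVector p n (TensorProduct R R' R')) t := rfl
    rw [this, hψ₂, WittGrp.coeff_truncMap]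
  let f : TruncatedWittVector p n R →ₗ[TruncatedWittVector p n R] TruncatedWittVector p n R' :=
    Algebra.linearMap _ _
  let d : TruncatedWittVector p n R' →ₗ[TruncatedWittVector p n R]
      TruncatedWittVector p n (TensorProduct R R' R') := ψ₁.toLinearMap - ψ₂.toLinearMap
  have hfinj : Function.Injective f := by
    intro a b hab
    have hab' : algebraMap (TruncatedWittVector p n R) (TruncatedWittVector p n R') a =
        algebraMap _ _ b := hab
    rw [h₁] at hab'
    ext i
    apply hinjRR'
    have := congrArg (fun w => TruncatedWittVector.coeff i w) hab'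
    simpa [WittGrp.coeff_truncMap] using this
  have hex : Function.Exact f d := by
    intro t
    constructor
    · intro ht
      have h0 : ψ₁ t = ψ₂ t := by
        have : ψ₁ t - ψ₂ t = 0 := ht
        exact sub_eq_zero.mp this
      have hc : ∀ i : Fin n, ∃ s : R, algebraMap R R' s = t.coeff i := by
        intro i
        apply Groth.Agent.Lib.Helper27.EqualizerFlat.exists_algebraMap_eq_of_tmul_eq
        have := congrArg (fun w => TruncatedWittVector.coeff i w) h0
        simp only [hcoeff₁, hcoeff₂] at this
        simpa using this
      choose s hs using hc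
      refine ⟨TruncatedWittVector.mk p s, ?_⟩
      show algebraMap (TruncatedWittVector p n R) (TruncatedWittVector p n R') _ = t
      rw [h₁]
      ext i
      rw [WittGrp.coeff_truncMap, TruncatedWittVector.coeff_mk, hs]
    · rintro ⟨a, rfl⟩
      show ψ₁ (algebraMap _ _ a) - ψ₂ (algebraMap _ _ a) = 0
      rw [AlgHom.commutes, AlgHom.commutes, sub_self]
  have hinj := Module.Flat.lTensor_preserves_injective_linearMap (M := M) f hfinj
  have hexact := Module.Flat.lTensor_exact M hex
  have hι : ∀ m : M, m ⊗ₜ[TruncatedWittVector p n R] (1 : TruncatedWittVector p n R') =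
      (f.lTensor M) (m ⊗ₜ (1 : TruncatedWittVector p n R)) := by
    intro m
    rw [LinearMap.lTensor_tmul]
    show _ = m ⊗ₜ (algebraMap _ _ 1)
    rw [map_one]
  refine ⟨?_, ?_⟩
  · intro x y hxy
    simp only at hxy
    rw [hι, hι] at hxy
    have := hinj hxy
    have h2 := congrArg (TensorProduct.rid (TruncatedWittVector p n R) M) this
    simpa using h2
  · intro x hx
    have hdx : (d.lTensor M) x = 0 := by
      show (LinearMap.lTensor M (ψ₁.toLinearMap - ψ₂.toLinearMap)) x = 0
      rw [LinearMap.lTensor_sub, LinearMap.sub_apply, hx, sub_self]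
    obtain ⟨y, rfl⟩ := (hexact x).mp hdx
    refine ⟨TensorProduct.rid _ M y, ?_⟩
    simp only
    rw [hι]
    congr 1
    have := (TensorProduct.rid (TruncatedWittVector p n R) M).symm_apply_apply y
    rw [TensorProduct.rid_symm_apply] at this
    exact this

end Groth.Agent.S16225
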