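import Groth.Statements.S1623
import Groth.Agent.Lib.Helper93.BlowUpCover
import Groth.Agent.S0010

set_option autoImplicit false
universe u
open CategoryTheory CategoryTheory.Limits AlgebraicGeometry
open Resolve

namespace Groth.Agent.S1623

/-- Let A be a regular local ring of dimension two and b : X → Spec A a blowing up in the maximal ideal.
For every quasi-coherent O_X-module F and every p ≥ 2, H^p(X, F) = 0. -/
theorem result (A : Type u) [CommRing A] [IsRegularLocalRing A] (hA : ringKrullDim A = 2)
    (X : Scheme.{u}) (b : X ⟶ Spec (CommRingCat.of A)) (hb : BlowUp.IsBlowUp b (Curv2.idealSheaf A (IsLocalRing.maximalIdeal A)))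
    (F : X.Modules) (hF : Coh.IsQCoh F) (p : ℕ) (hp : 2 ≤ p) : Subsingleton (Coh.HH X F p) := by
  have hspan : Submodule.spanFinrank (IsLocalRing.maximalIdeal A) = 2 := by
    have h1 := IsRegularLocalRing.spanFinrank_maximalIdeal (R := A)
    rw [hA] at h1
    exact_mod_cast h1
  obtain ⟨f, hf⟩ := Groth.Agent.Lib.Helper93.BlowUpCover.exists_fin_span_eq
    (IsLocalRing.maximalIdeal A) (IsNoetherian.noetherian _) 2 hspan
  have hb' : BlowUp.IsBlowUp b (Groth.Agent.Lib.Helper93.BlowUpProj.idealSheaf
      (Groth.Agent.Lib.Helper93.BlowUpRegAlg.II f)) := by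
    change BlowUp.IsBlowUp b (Groth.Agent.Lib.Helper93.BlowUpProj.idealSheaf
      (Ideal.span (Set.range f)))
    rw [hf]
    exact hb
  obtain ⟨U, hU, hcov⟩ :=
    Groth.Agent.Lib.Helper93.BlowUpCover.exists_affine_cover_of_isBlowUp f b hb'
  have hft : BlowUp.IsFiniteTypeIdeal (Curv2.idealSheaf A (IsLocalRing.maximalIdeal A)) :=
    fun V => by
      have : IsNoetherianRing Γ(Spec (CommRingCat.of A), V.1) :=
        IsLocallyNoetherian.component_noetherian V
      exact IsNoetherian.noetherian _
  have hproper : IsProper b :=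
    Groth.Agent.Lib.Helper93.BlowUpProper.isProper_of_isBlowUp _ hft b hb
  have : X.IsSeparated := Groth.Agent.Lib.Helper93.BlowUpCover.isSeparated_of_isSeparated_affine b
  have : Coh.IsQCoh F := hF
  exact Groth.Agent.S0010.result X 2 U hU hcov (fun V W hV hW => hV.inf hW) F p hp

end Groth.Agent.S1623
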