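import Groth.Statements.S16234
import Mathlib

set_option autoImplicit false
universe u v
open CAlg

namespace Groth.Agent.S16234

lemma support_quot_maximal {A : Type u} [CommRing A] (m : Ideal A) [m.IsMaximal]
    (p : PrimeSpectrum A) (hp : p ∈ Module.support A (A ⧸ m)) : p.asIdeal.IsMaximal := by
  rw [Module.support_eq_zeroLocus, Ideal.annihilator_quotient, PrimeSpectrum.mem_zeroLocus] at hp
  have : m = p.asIdeal := Ideal.IsMaximal.eq_of_le inferInstance p.2.ne_top hp
  rw [← this]; infer_instance

lemma maximal_of_isFiniteLength {A : Type u} [CommRing A]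
    {M : Type v} [AddCommGroup M] [Module A M] (h : IsFiniteLength A M) :
    ∀ p ∈ Module.support A M, p.asIdeal.IsMaximal := by
  induction h with
  | of_subsingleton =>
    intro p hp
    rw [Module.support_eq_empty] at hp
    exact absurd hp (Set.notMem_empty _)
  | @of_simple_quotient M _ _ N hs _ ih =>
    intro p hp
    rw [Module.support_of_exact (LinearMap.exact_subtype_mkQ N) (Submodule.injective_subtype N)
      (Submodule.mkQ_surjective N)] at hp
    rcases hp with hp | hp
    · exact ih p hp
    · obtain ⟨m, hm, ⟨e⟩⟩ := isSimpleModule_iff_quot_maximal.mp hs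
      rw [e.support_eq] at hp
      exact support_quot_maximal m p hp

lemma isFiniteLength_of_maximal {A : Type u} [CommRing A] [IsNoetherianRing A]
    {M : Type v} [AddCommGroup M] [Module A M] (hfin : Module.Finite A M) :
    (∀ p ∈ Module.support A M, p.asIdeal.IsMaximal) → IsFiniteLength A M := by
  induction hfin using IsNoetherianRing.induction_on_isQuotientEquivQuotientPrime A with
  | subsingleton N => intro _; exact IsFiniteLength.of_subsingleton
  | quotient N p f =>
    intro h
    have hp : p ∈ Module.support A N := by
      rw [f.support_eq, Module.support_eq_zeroLocus, Ideal.annihilator_quotient,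
        PrimeSpectrum.mem_zeroLocus]
    have hmax : p.asIdeal.IsMaximal := h p hp
    have : IsSimpleModule A (A ⧸ p.asIdeal) :=
      isSimpleModule_iff_quot_maximal.mpr ⟨p.asIdeal, hmax, ⟨LinearEquiv.refl _ _⟩⟩
    have h2 : IsFiniteLength A (A ⧸ p.asIdeal) := by
      rw [isFiniteLength_iff_isNoetherian_isArtinian]
      exact ⟨inferInstance, inferInstance⟩
    exact f.symm.isFiniteLength h2
  | exact N₁ N₂ N₃ f g hf hg hfg h₁ h₃ =>
    intro h
    rw [Module.support_of_exact hfg hf hg] at h
    have a1 := h₁ (fun p hp => h p (Or.inl hp))
    have a3 := h₃ (fun p hp => h p (Or.inr hp))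
    rw [isFiniteLength_iff_isNoetherian_isArtinian] at a1 a3 ⊢
    obtain ⟨_, _⟩ := a1
    obtain ⟨_, _⟩ := a3
    refine ⟨inferInstance, isArtinian_of_range_eq_ker f g ?_⟩
    exact (LinearMap.exact_iff.mp hfg).symm

/-- For a finitely generated module M over a Noetherian commutative ring A, every prime ideal in the
support of M is a maximal ideal if and only if M has finite length. -/
theorem result (A : Type u) [CommRing A] [IsNoetherianRing A]
    (M : Type v) [AddCommGroup M] [Module A M] [Module.Finite A M] :
    (∀ p ∈ Module.support A M, p.asIdeal.IsMaximal) ↔ IsFiniteLength A M := by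
  exact ⟨isFiniteLength_of_maximal inferInstance, maximal_of_isFiniteLength⟩

end Groth.Agent.S16234
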