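import Groth.Statements.S16235
import Mathlib

set_option autoImplicit false
universe u
open CAlg

namespace Groth.Agent.S16235

open RingTheory.Sequence in
lemma le_height_ofList_take {A : Type u} [CommRing A] [IsNoetherianRing A]
    (rs : List A) (hrs : IsWeaklyRegular A rs) :
    ∀ i : ℕ, i ≤ rs.length → (i : ℕ∞) ≤ (Ideal.ofList (rs.take i)).height := by
  intro i
  induction i with
  | zero => intro _; simp
  | succ i ih =>
    intro hi
    have hi' : i < rs.length := hi
    have ih' := ih (le_of_lt hi')
    set J := Ideal.ofList (rs.take i) with hJ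
    set J' := Ideal.ofList (rs.take (i + 1)) with hJ'
    have hJJ' : J ≤ J' := by
      apply Ideal.span_mono
      intro a ha
      have h0 : rs.take i = (rs.take (i+1)).take i := by
        rw [List.take_take]; congr 1; omega
      have ha' : a ∈ rs.take i := ha
      rw [h0] at ha'
      exact List.mem_of_mem_take ha'
    have hmem : rs[i] ∈ J' := by
      apply Ideal.subset_span
      show rs[i] ∈ rs.take (i + 1)
      rw [List.mem_take_iff_getElem]
      exact ⟨i, by simp [hi'], rfl⟩
    have hreg : IsSMulRegular (A ⧸ (J • ⊤ : Submodule A A)) rs[i] := hrs.regular_mod_prev i hi'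
    rw [J'.height_eq_inf_minimalPrimes]
    refine le_iInf₂ (fun p hp => ?_)
    have hpprime : p.IsPrime := hp.1.1
    obtain ⟨q, hq, hqp⟩ := Ideal.exists_minimalPrimes_le (hJJ'.trans hp.1.2)
    have hqprime : q.IsPrime := hq.1.1
    have hann : Module.annihilator A (A ⧸ (J • ⊤ : Submodule A A)) = J := by
      have : (J • ⊤ : Submodule A A) = J := by
        simp
      rw [this]
      exact Ideal.annihilator_quotient
    have hqass : q ∈ associatedPrimes A (A ⧸ (J • ⊤ : Submodule A A)) := by
      apply Module.associatedPrimes.minimalPrimes_annihilator_subset_associatedPrimes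
      rw [hann]; exact hq
    have hnotq : rs[i] ∉ q := by
      intro hmq
      have : rs[i] ∈ ⋃ p ∈ associatedPrimes A (A ⧸ (J • ⊤ : Submodule A A)), (p : Set A) :=
        Set.mem_biUnion hqass hmq
      rw [biUnion_associatedPrimes_eq_compl_regular] at this
      exact this hreg
    have hlt : q < p := lt_of_le_of_ne hqp (fun h => hnotq (h ▸ hp.1.2 hmem))
    calc ((i + 1 : ℕ) : ℕ∞) = (i : ℕ∞) + 1 := by push_cast; rfl
      _ ≤ J.height + 1 := by gcongr
      _ ≤ q.height + 1 := by
          have := Ideal.height_mono hq.1.2
          gcongr
      _ ≤ p.height := Ideal.height_add_one_le_of_lt_of_isPrime hlt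

/-- Let A be a Noetherian commutative ring and x_1, …, x_r a regular sequence on A (each x_i a
non-zero-divisor on A/(x_1, …, x_{i-1})) generating an ideal I ≠ A. Then the height of I, the
infimum of the heights of the minimal primes over I, equals r. -/
theorem result (A : Type u) [CommRing A] [IsNoetherianRing A]
    (r : ℕ) (x : Fin r → A) (hx : RingTheory.Sequence.IsWeaklyRegular A (List.ofFn x))
    (hI : Ideal.span (Set.range x) ≠ ⊤) :
    (Ideal.span (Set.range x)).height = r := by
  have hset : {a | a ∈ List.ofFn x} = Set.range x := by
    ext a; simp [List.mem_ofFn]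
  apply le_antisymm
  · refine (Ideal.height_le_spanFinrank _ hI).trans ?_
    have h1 : (Ideal.span (Set.range x)).spanFinrank ≤ (Set.range x).ncard :=
      Submodule.spanFinrank_span_le_ncard_of_finite (Set.finite_range x)
    have h2 : (Set.range x).ncard ≤ r := by
      have := Set.ncard_image_le (f := x) (s := Set.univ) Set.finite_univ
      simpa [Set.image_univ, Set.ncard_univ] using this
    exact_mod_cast h1.trans h2
  · have := le_height_ofList_take (List.ofFn x) hx r (by simp)
    have htake : (List.ofFn x).take r = List.ofFn x := by
      apply List.take_of_length_le; simp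
    rw [htake] at this
    unfold Ideal.ofList at this
    rwa [hset] at this

end Groth.Agent.S16235
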