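import Groth.Statements.S1624
import Groth.Agent.Lib.Helper93.BlowUpCover
import Groth.Agent.Lib.Helper61.BlowUpTwoGen
import Groth.Agent.Lib.Helper61.TwoCoverGG

set_option autoImplicit false
universe u
open CategoryTheory CategoryTheory.Limits AlgebraicGeometry
open Resolve

namespace Groth.Agent.S1624

open Groth.Agent.Lib.Helper49 in
/-- the decomposition property of functions transports along an isomorphism of schemes. -/
theorem decomp_structureModule_of_isIso {X Y : Scheme.{u}} (θ : X ⟶ Y) [IsIso θ] (D₀ D₁ : Y.Opens)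
    (h : ∀ s : Γ(Y, D₀ ⊓ D₁), ∃ (a : Γ(Y, D₀)) (b : Γ(Y, D₁)),
      s = Y.presheaf.map (homOfLE (inf_le_left : D₀ ⊓ D₁ ≤ D₀)).op a +
        Y.presheaf.map (homOfLE (inf_le_right : D₀ ⊓ D₁ ≤ D₁)).op b) :
    Groth.Agent.Lib.Helper61.TwoCoverGG.Decomp (θ ⁻¹ᵁ D₀) (θ ⁻¹ᵁ D₁) (Coh.structureModule X) := by
  intro t
  let t' : Γ(X, θ ⁻¹ᵁ (D₀ ⊓ D₁)) := t
  obtain ⟨s, hs⟩ := (ConcreteCategory.bijective_of_isIso (θ.app (D₀ ⊓ D₁))).2 t'
  obtain ⟨a, b, hab⟩ := h s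
  refine ⟨θ.app D₀ a, θ.app D₁ b, ?_⟩
  have n₀ := ConcreteCategory.congr_hom
    (θ.naturality (homOfLE (inf_le_left : D₀ ⊓ D₁ ≤ D₀)).op) a
  have n₁ := ConcreteCategory.congr_hom
    (θ.naturality (homOfLE (inf_le_right : D₀ ⊓ D₁ ≤ D₁)).op) b
  change t' = X.presheaf.map (homOfLE (inf_le_left : θ ⁻¹ᵁ D₀ ⊓ θ ⁻¹ᵁ D₁ ≤ θ ⁻¹ᵁ D₀)).op (θ.app D₀ a) +
    X.presheaf.map (homOfLE (inf_le_right : θ ⁻¹ᵁ D₀ ⊓ θ ⁻¹ᵁ D₁ ≤ θ ⁻¹ᵁ D₁)).op (θ.app D₁ b)
  rw [← hs, hab, map_add]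
  exact congrArg₂ (· + ·) n₀ n₁

/-- Let A be a regular local ring of dimension two and b : X → Spec A the blowing up in the maximal
ideal. If F is a quasi-coherent O_X-module which is globally generated, then H¹(X, F) = 0. -/
theorem result (A : Type u) [CommRing A] [IsRegularLocalRing A] (hA : ringKrullDim A = 2)
    (X : Scheme.{u}) (b : X ⟶ Spec (CommRingCat.of A)) (hb : BlowUp.IsBlowUp b (Curv2.idealSheaf A (IsLocalRing.maximalIdeal A)))
    (F : X.Modules) (hF : Coh.IsQCoh F) (hgg : Curv2.IsGloballyGenerated F) : Subsingleton (Coh.HH X F 1) := by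
  open Groth.Agent.Lib.Helper93.BlowUpProjAlg Groth.Agent.Lib.Helper93.BlowUpProj
    Groth.Agent.Lib.Helper93.BlowUpRegAlg Groth.Agent.Lib.Helper93.BlowUpRegChart in
  have hspan : Submodule.spanFinrank (IsLocalRing.maximalIdeal A) = 2 := by
    have h1 := IsRegularLocalRing.spanFinrank_maximalIdeal (R := A)
    rw [hA] at h1
    exact_mod_cast h1
  obtain ⟨f, hf⟩ := Groth.Agent.Lib.Helper93.BlowUpCover.exists_fin_span_eq
    (IsLocalRing.maximalIdeal A) (IsNoetherian.noetherian _) 2 hspan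
  have hb' : BlowUp.IsBlowUp b (idealSheaf (II f)) := by
    change BlowUp.IsBlowUp b (idealSheaf (Ideal.span (Set.range f)))
    rw [hf]
    exact hb
  obtain ⟨θ, -⟩ := Groth.Agent.Lib.Helper93.BlowUpLocal.exists_iso_of_isBlowUp _ b hb'
    (p (II f)) isBlowUp
  have hft : BlowUp.IsFiniteTypeIdeal (Curv2.idealSheaf A (IsLocalRing.maximalIdeal A)) :=
    fun V => by
      have : IsNoetherianRing Γ(Spec (CommRingCat.of A), V.1) :=
        IsLocallyNoetherian.component_noetherian V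
      exact IsNoetherian.noetherian _
  have hproper : IsProper b :=
    Groth.Agent.Lib.Helper93.BlowUpProper.isProper_of_isBlowUp _ hft b hb
  have : X.IsSeparated := Groth.Agent.Lib.Helper93.BlowUpCover.isSeparated_of_isSeparated_affine b
  have hI : II f ≤ Ideal.span {f 0, f 1} := by
    refine Ideal.span_mono ?_
    rintro _ ⟨k, rfl⟩
    fin_cases k <;> simp
  let D₀ : (P (II f)).Opens :=
    Proj.basicOpen (Rees.deg (reesAlgebra (II f))) (gen (f 0) (f_mem f 0))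
  let D₁ : (P (II f)).Opens :=
    Proj.basicOpen (Rees.deg (reesAlgebra (II f))) (gen (f 1) (f_mem f 1))
  have hD₀ : IsAffineOpen D₀ :=
    Proj.isAffineOpen_basicOpen _ _ (gen_mem (f 0) (f_mem f 0)) Nat.one_pos
  have hD₁ : IsAffineOpen D₁ :=
    Proj.isAffineOpen_basicOpen _ _ (gen_mem (f 1) (f_mem f 1)) Nat.one_pos
  have hU₀ : IsAffineOpen (θ.hom ⁻¹ᵁ D₀) := hD₀.preimage_of_isIso θ.hom
  have hU₁ : IsAffineOpen (θ.hom ⁻¹ᵁ D₁) := hD₁.preimage_of_isIso θ.hom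
  have hcov : θ.hom ⁻¹ᵁ D₀ ⊔ θ.hom ⁻¹ᵁ D₁ = ⊤ := by
    rw [eq_top_iff]
    intro z _
    have hz : θ.hom.base z ∈ (⨆ k : Fin 2, (chart (f k) (f_mem f k)).opensRange) := by
      rw [iSup_opensRange_chart_gen]
      trivial
    obtain ⟨k, hk⟩ := TopologicalSpace.Opens.mem_iSup.mp hz
    rw [opensRange_chart] at hk
    fin_cases k
    · exact Or.inl hk
    · exact Or.inr hk
  have hW : IsAffineOpen (θ.hom ⁻¹ᵁ D₀ ⊓ θ.hom ⁻¹ᵁ D₁) := hU₀.inf hU₁
  have hO := decomp_structureModule_of_isIso θ.hom D₀ D₁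
    (Groth.Agent.Lib.Helper61.BlowUpTwoGen.exists_decomp_sections (f_mem f 0) (f_mem f 1) hI)
  have : F.IsQuasicoherent := hF
  exact Groth.Agent.Lib.Helper61.TwoCoverGG.subsingleton_HH_one_of_isGloballyGenerated F hgg
    hU₀ hU₁ hW hcov hO

end Groth.Agent.S1624
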