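import Groth.Statements.S16244
import Mathlib

set_option autoImplicit false
universe u
open Curves

namespace Groth.Agent.S16244

/-- Let k be an algebraically closed field in which 2 and 3 are nonzero, and W a short Weierstrass
equation y² = x³ + a₄x + a₆ over k with nonzero discriminant. The admissible changes of variables
(u, r, s, t) that fix W form a cyclic group, of order 6 when a₄ = 0, of order 4 when a₆ = 0, and of
order 2 when a₄ and a₆ are both nonzero. (The published statement says the automorphism group of the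
elliptic curve is cyclic of order 2, 4 or 6; the automorphisms are rendered here as the changes of
variables preserving the equation, and the case distinction is the one the computation gives.) -/
theorem result
    (k : Type u) [Field k] [IsAlgClosed k] (h2 : (2 : k) ≠ 0) (h3 : (3 : k) ≠ 0)
    (W : WeierstrassCurve k) [W.IsShortNF] (hΔ : W.Δ ≠ 0) :
    IsCyclic ↥(MulAction.stabilizer (WeierstrassCurve.VariableChange k) W) ∧
      (W.a₄ = 0 → Nat.card ↥(MulAction.stabilizer (WeierstrassCurve.VariableChange k) W) = 6) ∧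
      (W.a₆ = 0 → Nat.card ↥(MulAction.stabilizer (WeierstrassCurve.VariableChange k) W) = 4) ∧
      (W.a₄ ≠ 0 → W.a₆ ≠ 0 → Nat.card ↥(MulAction.stabilizer (WeierstrassCurve.VariableChange k) W) = 2) := by
  classical
  have ha₁ : W.a₁ = 0 := W.a₁_of_isShortNF
  have ha₂ : W.a₂ = 0 := W.a₂_of_isShortNF
  have ha₃ : W.a₃ = 0 := W.a₃_of_isShortNF
  -- characterisation of the stabilizer
  have hchar : ∀ C : WeierstrassCurve.VariableChange k, C • W = W ↔
      C.r = 0 ∧ C.s = 0 ∧ C.t = 0 ∧ ((C.u⁻¹ : kˣ) : k) ^ 4 * W.a₄ = W.a₄ ∧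
        ((C.u⁻¹ : kˣ) : k) ^ 6 * W.a₆ = W.a₆ := by
    intro C
    have hu : ((C.u⁻¹ : kˣ) : k) ≠ 0 := Units.ne_zero _
    constructor
    · intro h
      have e1 := congrArg WeierstrassCurve.a₁ h
      have e2 := congrArg WeierstrassCurve.a₂ h
      have e3 := congrArg WeierstrassCurve.a₃ h
      have e4 := congrArg WeierstrassCurve.a₄ h
      have e6 := congrArg WeierstrassCurve.a₆ h
      rw [WeierstrassCurve.variableChange_a₁] at e1
      rw [WeierstrassCurve.variableChange_a₂] at e2
      rw [WeierstrassCurve.variableChange_a₃] at e3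
      rw [WeierstrassCurve.variableChange_a₄] at e4
      rw [WeierstrassCurve.variableChange_a₆] at e6
      rw [ha₁] at e1 e2 e3 e4 e6
      rw [ha₂] at e2 e4 e6
      rw [ha₃] at e3 e4 e6
      have hs : C.s = 0 := by
        have : ((C.u⁻¹ : kˣ) : k) * (2 * C.s) = 0 := by simpa using e1
        rcases mul_eq_zero.1 this with h | h
        · exact absurd h hu
        · rcases mul_eq_zero.1 h with h | h
          · exact absurd h h2
          · exact h
      have hr : C.r = 0 := by
        rw [hs] at e2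
        have : ((C.u⁻¹ : kˣ) : k) ^ 2 * (3 * C.r) = 0 := by simpa using e2
        rcases mul_eq_zero.1 this with h | h
        · exact absurd h (pow_ne_zero _ hu)
        · rcases mul_eq_zero.1 h with h | h
          · exact absurd h h3
          · exact h
      have ht : C.t = 0 := by
        rw [hr] at e3
        have : ((C.u⁻¹ : kˣ) : k) ^ 3 * (2 * C.t) = 0 := by simpa using e3
        rcases mul_eq_zero.1 this with h | h
        · exact absurd h (pow_ne_zero _ hu)
        · rcases mul_eq_zero.1 h with h | h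
          · exact absurd h h2
          · exact h
      refine ⟨hr, hs, ht, ?_, ?_⟩
      · simp only [hr, hs, ht] at e4
        simpa using e4
      · simp only [hr, ht] at e6
        simpa using e6
    · rintro ⟨hr, hs, ht, h4, h6⟩
      ext
      · rw [WeierstrassCurve.variableChange_a₁, ha₁, hs]; simp
      · rw [WeierstrassCurve.variableChange_a₂, ha₁, ha₂, hs, hr]; simp
      · rw [WeierstrassCurve.variableChange_a₃, ha₁, ha₃, hr, ht]; simp
      · rw [WeierstrassCurve.variableChange_a₄, ha₁, ha₂, ha₃, hr, hs, ht]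
        simpa using h4
      · rw [WeierstrassCurve.variableChange_a₆, ha₁, ha₂, ha₃, hr, ht]
        simpa using h6
  -- the general equivalence with roots of unity
  have hequiv : ∀ n : ℕ,
      (∀ u : kˣ, u ^ n = 1 ↔ (((u⁻¹ : kˣ) : k) ^ 4 * W.a₄ = W.a₄ ∧
        ((u⁻¹ : kˣ) : k) ^ 6 * W.a₆ = W.a₆)) →
      Nonempty (↥(MulAction.stabilizer (WeierstrassCurve.VariableChange k) W) ≃*
        rootsOfUnity n k) := by
    intro n hn
    refine ⟨{ toFun := fun C => ⟨C.1.u, ?_⟩
              invFun := fun ζ => ⟨⟨ζ.1, 0, 0, 0⟩, ?_⟩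
              left_inv := ?_
              right_inv := ?_
              map_mul' := ?_ }⟩
    · rw [mem_rootsOfUnity, hn]
      have := (hchar C.1).1 (MulAction.mem_stabilizer_iff.1 C.2)
      exact ⟨this.2.2.2.1, this.2.2.2.2⟩
    · rw [MulAction.mem_stabilizer_iff, hchar]
      have := (hn ζ.1).1 ((mem_rootsOfUnity _ _).1 ζ.2)
      exact ⟨rfl, rfl, rfl, this.1, this.2⟩
    · intro C
      have := (hchar C.1).1 (MulAction.mem_stabilizer_iff.1 C.2)
      apply Subtype.ext
      ext
      · rfl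
      · exact this.1.symm
      · exact this.2.1.symm
      · exact this.2.2.1.symm
    · intro ζ
      rfl
    · intro C C'
      rfl
  -- units helper
  have hpow : ∀ (u : kˣ) (m : ℕ), ((u⁻¹ : kˣ) : k) ^ m = 1 ↔ u ^ m = 1 := by
    intro u m
    rw [← Units.val_pow_eq_pow_val, Units.val_eq_one, inv_pow, inv_eq_one]
  have hΔ' : ¬ (W.a₄ = 0 ∧ W.a₆ = 0) := by
    rintro ⟨h4, h6⟩
    apply hΔ
    rw [W.Δ_of_isShortNF, h4, h6]
    ring
  have h6ne : ((6 : ℕ) : k) ≠ 0 := by
    have : ((6 : ℕ) : k) = 2 * 3 := by norm_num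
    rw [this]
    exact mul_ne_zero h2 h3
  have h4ne : ((4 : ℕ) : k) ≠ 0 := by
    have : ((4 : ℕ) : k) = 2 * 2 := by norm_num
    rw [this]
    exact mul_ne_zero h2 h2
  have h2ne : ((2 : ℕ) : k) ≠ 0 := by
    simpa using h2
  have : NeZero ((6 : ℕ) : k) := ⟨h6ne⟩
  have : NeZero ((4 : ℕ) : k) := ⟨h4ne⟩
  have : NeZero ((2 : ℕ) : k) := ⟨h2ne⟩
  -- the three cases
  have case6 : W.a₄ = 0 → Nonempty (↥(MulAction.stabilizer (WeierstrassCurve.VariableChange k) W)
      ≃* rootsOfUnity 6 k) := by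
    intro h4
    have h6 : W.a₆ ≠ 0 := fun h => hΔ' ⟨h4, h⟩
    apply hequiv
    intro u
    rw [h4, mul_zero, ← hpow u 6]
    constructor
    · intro h; rw [h, one_mul]; exact ⟨rfl, rfl⟩
    · rintro ⟨-, h⟩
      exact mul_right_cancel₀ h6 (h.trans (one_mul _).symm)
  have case4 : W.a₆ = 0 → Nonempty (↥(MulAction.stabilizer (WeierstrassCurve.VariableChange k) W)
      ≃* rootsOfUnity 4 k) := by
    intro h6
    have h4 : W.a₄ ≠ 0 := fun h => hΔ' ⟨h, h6⟩
    apply hequiv
    intro u
    rw [h6, mul_zero, ← hpow u 4]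
    constructor
    · intro h; rw [h, one_mul]; exact ⟨rfl, rfl⟩
    · rintro ⟨h, -⟩
      exact mul_right_cancel₀ h4 (h.trans (one_mul _).symm)
  have case2 : W.a₄ ≠ 0 → W.a₆ ≠ 0 →
      Nonempty (↥(MulAction.stabilizer (WeierstrassCurve.VariableChange k) W)
      ≃* rootsOfUnity 2 k) := by
    intro h4 h6
    apply hequiv
    intro u
    rw [← hpow u 2]
    constructor
    · intro h
      have e4 : ((u⁻¹ : kˣ) : k) ^ 4 = 1 := by
        have : ((u⁻¹ : kˣ) : k) ^ 4 = (((u⁻¹ : kˣ) : k) ^ 2) ^ 2 := by ring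
        rw [this, h, one_pow]
      have e6 : ((u⁻¹ : kˣ) : k) ^ 6 = 1 := by
        have : ((u⁻¹ : kˣ) : k) ^ 6 = (((u⁻¹ : kˣ) : k) ^ 2) ^ 3 := by ring
        rw [this, h, one_pow]
      rw [e4, e6, one_mul, one_mul]
      exact ⟨rfl, rfl⟩
    · rintro ⟨e4, e6⟩
      have e4' : ((u⁻¹ : kˣ) : k) ^ 4 = 1 := mul_right_cancel₀ h4 (e4.trans (one_mul _).symm)
      have e6' : ((u⁻¹ : kˣ) : k) ^ 6 = 1 := mul_right_cancel₀ h6 (e6.trans (one_mul _).symm)
      have : ((u⁻¹ : kˣ) : k) ^ 6 = ((u⁻¹ : kˣ) : k) ^ 4 * ((u⁻¹ : kˣ) : k) ^ 2 := by ring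
      rw [this, e4', one_mul] at e6'
      exact e6'
  have hcard : ∀ (n : ℕ) [NeZero (n : k)],
      Nonempty (↥(MulAction.stabilizer (WeierstrassCurve.VariableChange k) W) ≃* rootsOfUnity n k) →
      Nat.card ↥(MulAction.stabilizer (WeierstrassCurve.VariableChange k) W) = n := by
    intro n _ ⟨e⟩
    have : NeZero n := .of_neZero_natCast k
    rw [Nat.card_congr e.toEquiv, HasEnoughRootsOfUnity.natCard_rootsOfUnity k n]
  refine ⟨?_, fun h => hcard 6 (case6 h), fun h => hcard 4 (case4 h),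
    fun h h' => hcard 2 (case2 h h')⟩
  by_cases h4 : W.a₄ = 0
  · obtain ⟨e⟩ := case6 h4
    exact e.isCyclic.2 inferInstance
  · by_cases h6 : W.a₆ = 0
    · obtain ⟨e⟩ := case4 h6
      exact e.isCyclic.2 inferInstance
    · obtain ⟨e⟩ := case2 h4 h6
      exact e.isCyclic.2 inferInstance

end Groth.Agent.S16244
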