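import Groth.Statements.S16251
import Groth.Agent.Lib.Helper3.AdicConstr

set_option autoImplicit false
open CategoryTheory CategoryTheory.Limits AlgebraicGeometry Opposite
universe u
open EtPBC

namespace Groth.Agent.S16251

/-- Let ℓ be a prime, X a locally Noetherian scheme and F = (F_n) an ℓ-adic projective system of abelian
sheaves on the small étale site of X, indexed from 0 (so ℓ^(n+1) F_n = 0 and, for n ≤ m, the
transition map F_m ⟶ F_n is a quotient map modulo ℓ^(n+1)). If the first member F_0 is
constructible, then every member F_n is constructible. (The converse is trivial. The published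
statement indexes the system from 1, with ℓ^n killing the n-th member; the statement here indexes it
from 0.) -/
theorem result (ℓ : ℕ) [Fact ℓ.Prime]
    (X : Scheme.{u}) [IsLocallyNoetherian X]
    (F : ARSys.PS (EtCoh.Ab X)) (hF : ARSys.IsAdic (Ideal.span {(ℓ : ℤ)}) F)
    (h0 : EtPBC.IsConstructible (F.obj (op 0))) (n : ℕ) :
    EtPBC.IsConstructible (F.obj (op n)) := by
  induction n with
  | zero => exact h0
  | succ n ih =>
    obtain ⟨ψ, w, hex, hepi⟩ := Groth.Agent.Lib.Helper3.AdicConstr.exists_exact (ℓ : ℤ) F hF n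
    have : Epi (ShortComplex.mk ψ (ARSys.tr F (Nat.le_succ n)) w).g := hepi
    have hℓ : 0 < ℓ := (Fact.out : ℓ.Prime).pos
    have hk : ((ℓ : ℤ) • 𝟙 (F.obj (op 0)) : F.obj (op 0) ⟶ F.obj (op 0)) = 0 :=
      hF.1 0 _ (by
        rw [zero_add, pow_one]
        exact Ideal.mem_span_singleton_self _)
    have hA : ℓ • 𝟙 (F.obj (op 0)) = 0 := by
      rw [← hk]
      exact (natCast_zsmul _ _).symm
    exact Groth.Agent.Lib.Helper3.AdicConstr.constructible_of_exact
      (ShortComplex.mk ψ (ARSys.tr F (Nat.le_succ n)) w) hex ℓ hℓ hA h0 ih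

end Groth.Agent.S16251
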