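import Groth.Statements.S7619
import Mathlib
-- import your own Groth.Agent.* helpers here

set_option autoImplicit false
universe u
open CategoryTheory CategoryTheory.Limits AlgebraicGeometry
open scoped TensorProduct
open Variety

namespace Groth.Agent.S7619

/-- The fibre of `Ω[B⁄A]` at `q` is spanned by the classes of the differentials `D b`. -/
theorem span_tmul_D (A B : Type u) [CommRing A] [CommRing B] [Algebra A B] (q : Ideal B)
    [q.IsPrime] :
    Submodule.span q.ResidueField
      (TensorProduct.mk B q.ResidueField Ω[B⁄A] 1 '' Set.range (KaehlerDifferential.D A B)) = ⊤ := by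
  rw [← Submodule.baseChange_span, KaehlerDifferential.span_range_derivation,
    Submodule.baseChange_top]

/-- If the fibre of `Ω[B⁄A]` at `q` is spanned by differentials of elements coming from `P`,
then `B` is unramified over `P` at `q`. -/
theorem isUnramifiedAt_of_span (A P B : Type u) [CommRing A] [CommRing P] [CommRing B]
    [Algebra A P] [Algebra A B] [Algebra P B] [IsScalarTower A P B] [Algebra.FiniteType A B]
    (q : Ideal B) [q.IsPrime]
    (h : Submodule.span q.ResidueField
      (Set.range fun p : P => (1 : q.ResidueField) ⊗ₜ[B]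
        KaehlerDifferential.D A B (algebraMap P B p)) = ⊤) :
    Algebra.IsUnramifiedAt P q := by
  haveI : Algebra.FiniteType P B := Algebra.FiniteType.of_restrictScalars_finiteType A P B
  have hmem : (⟨q, inferInstance⟩ : PrimeSpectrum B) ∈ Algebra.unramifiedLocus P B := by
    rw [Algebra.unramifiedLocus_eq_compl_support, Set.mem_compl_iff,
      Module.mem_support_iff_nontrivial_residueField_tensorProduct, not_nontrivial_iff_subsingleton]
    let Φ : q.ResidueField ⊗[B] Ω[B⁄A] →ₗ[q.ResidueField] q.ResidueField ⊗[B] Ω[B⁄P] :=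
      LinearMap.baseChange q.ResidueField (KaehlerDifferential.map A P B B)
    have hsurj : Function.Surjective Φ := by
      show Function.Surjective (LinearMap.lTensor q.ResidueField (KaehlerDifferential.map A P B B))
      exact LinearMap.lTensor_surjective _ (KaehlerDifferential.map_surjective A P B)
    have hzero : Φ = 0 := by
      apply LinearMap.ext_on h
      rintro _ ⟨p, rfl⟩
      show LinearMap.baseChange q.ResidueField (KaehlerDifferential.map A P B B)
        ((1 : q.ResidueField) ⊗ₜ[B] KaehlerDifferential.D A B (algebraMap P B p)) = 0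
      rw [LinearMap.baseChange_tmul, KaehlerDifferential.map_D, Algebra.algebraMap_self,
        RingHom.id_apply, Derivation.map_algebraMap, TensorProduct.tmul_zero]
    constructor
    intro x y
    obtain ⟨x', rfl⟩ := hsurj x
    obtain ⟨y', rfl⟩ := hsurj y
    rw [hzero, LinearMap.zero_apply, LinearMap.zero_apply]
  exact hmem

/-- Let A → B be a finite type ring map (a finite type morphism of affine schemes), q a prime of B and r
= dim_{κ(q)} Ω_{B/A} ⊗_B κ(q). Then there is an A-algebra homomorphism A[x_1, …, x_r] → B for which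
B is unramified over A[x_1, …, x_r] at q. -/
theorem result (A B : Type u) [CommRing A] [CommRing B] [Algebra A B] [Algebra.FiniteType A B]
    (q : Ideal B) [q.IsPrime] (r : ℕ) (hr : Module.finrank q.ResidueField (q.ResidueField ⊗[B] Ω[B⁄A]) = r) :
    ∃ φ : MvPolynomial (Fin r) A →ₐ[A] B,
      letI := φ.toRingHom.toAlgebra
      Algebra.IsUnramifiedAt (MvPolynomial (Fin r) A) q := by
  classical
  haveI : Module.Finite B Ω[B⁄A] := inferInstance
  haveI : Module.Finite q.ResidueField (q.ResidueField ⊗[B] Ω[B⁄A]) := inferInstance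
  set s : Set (q.ResidueField ⊗[B] Ω[B⁄A]) :=
    TensorProduct.mk B q.ResidueField Ω[B⁄A] 1 '' Set.range (KaehlerDifferential.D A B) with hs
  have hspan : Submodule.span q.ResidueField s = ⊤ := span_tmul_D A B q
  obtain ⟨f, hfs, hfspan, -⟩ := Submodule.exists_fun_fin_finrank_span_eq q.ResidueField s
  have hn : Module.finrank q.ResidueField (Submodule.span q.ResidueField s) = r := by
    rw [hspan, finrank_top, hr]
  have hfs' : ∀ i, ∃ b : B, f i = (1 : q.ResidueField) ⊗ₜ[B] KaehlerDifferential.D A B b := by
    intro i
    obtain ⟨_, ⟨b, rfl⟩, hb⟩ := hfs i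
    exact ⟨b, hb.symm⟩
  choose b hb using hfs'
  let b' : Fin r → B := fun i => b (finCongr hn.symm i)
  let φ : MvPolynomial (Fin r) A →ₐ[A] B := MvPolynomial.aeval b'
  refine ⟨φ, ?_⟩
  letI := φ.toRingHom.toAlgebra
  haveI : IsScalarTower A (MvPolynomial (Fin r) A) B :=
    IsScalarTower.of_algebraMap_eq fun a => (φ.commutes a).symm
  apply isUnramifiedAt_of_span A (MvPolynomial (Fin r) A) B q
  rw [eq_top_iff, ← hspan, ← hfspan]
  apply Submodule.span_mono
  rintro _ ⟨i, rfl⟩
  refine ⟨MvPolynomial.X (finCongr hn i), ?_⟩
  show (1 : q.ResidueField) ⊗ₜ[B] KaehlerDifferential.D A B (φ (MvPolynomial.X (finCongr hn i))) = f i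
  rw [hb i]
  congr 2
  show MvPolynomial.aeval b' (MvPolynomial.X (finCongr hn i)) = b i
  rw [MvPolynomial.aeval_X]
  show b (finCongr hn.symm (finCongr hn i)) = b i
  congr 1

end Groth.Agent.S7619
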