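import Groth.Statements.S7634
import Groth.Agent.S7619

set_option autoImplicit false
universe u
open CategoryTheory CategoryTheory.Limits AlgebraicGeometry
open scoped TensorProduct
open Variety

namespace Groth.Agent.S7634

/-- The tautological submersive presentation of a polynomial algebra. -/
noncomputable def mvPres (A : Type u) [CommRing A] (r : ℕ) :
    Algebra.SubmersivePresentation A (MvPolynomial (Fin r) A) (Fin r) PEmpty.{1} where
  toGenerators := Algebra.Generators.mvPolynomial A (Fin r)
  relation := PEmpty.elim
  span_range_relation_eq_ker := by
    rw [Algebra.Generators.ker_mvPolynomial]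
    simp
  map := PEmpty.elim
  map_inj := fun a => a.elim
  jacobian_isUnit := by
    classical
    rw [Algebra.PreSubmersivePresentation.jacobian_eq_jacobiMatrix_det]
    simp [Matrix.det_isEmpty]

theorem mvPolynomial_isStandardSmooth (A : Type u) [CommRing A] (r : ℕ) :
    Algebra.IsStandardSmoothOfRelativeDimension r A (MvPolynomial (Fin r) A) := by
  apply (mvPres A r).isStandardSmoothOfRelativeDimension
  simp [Algebra.Presentation.dimension]

/-- Let A → B be a finite type ring map, q a prime of B and r = dim_{κ(q)} Ω_{B/A} ⊗_B κ(q). Then there
are g in B with g not in q, an A-algebra D which is standard smooth of relative dimension r over A,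
and a surjective A-algebra homomorphism D → B[1/g]; that is, the principal open D(g) containing q is
a closed subscheme of Spec D with D smooth of relative dimension r over A. (The published statement
is for a morphism X → S locally of finite type, a point x and an affine open V ⊆ S under it, and
gives an affine open neighbourhood of x with a closed immersion over V into a scheme smooth of
relative dimension r over V; this row states the case X = Spec B, S = Spec A, with the neighbourhood
a principal open D(g) and the smooth scheme standard smooth.) -/
theorem result (A B : Type u) [CommRing A] [CommRing B] [Algebra A B] [Algebra.FiniteType A B]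
    (q : Ideal B) [q.IsPrime] (r : ℕ) (hr : Module.finrank q.ResidueField (q.ResidueField ⊗[B] Ω[B⁄A]) = r) :
    ∃ g : B, g ∉ q ∧ ∃ (D : Type u) (_ : CommRing D) (_ : Algebra A D),
      Algebra.IsStandardSmoothOfRelativeDimension r A D ∧
        ∃ φ : D →ₐ[A] Localization.Away g, Function.Surjective φ := by
  obtain ⟨φ, hφ⟩ := Groth.Agent.S7619.result A B q r hr
  letI := φ.toRingHom.toAlgebra
  haveI : IsScalarTower A (MvPolynomial (Fin r) A) B :=
    IsScalarTower.of_algebraMap_eq fun a => (φ.commutes a).symm
  haveI : Algebra.FiniteType (MvPolynomial (Fin r) A) B :=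
    Algebra.FiniteType.of_restrictScalars_finiteType A (MvPolynomial (Fin r) A) B
  haveI : Algebra.IsUnramifiedAt (MvPolynomial (Fin r) A) q := hφ
  obtain ⟨g, hg, P, ψ, hψ⟩ :=
    Algebra.IsUnramifiedAt.exists_hasStandardEtaleSurjectionOn (R := MvPolynomial (Fin r) A) q
  refine ⟨g, hg, P.Ring, inferInstance,
    (Algebra.compHom P.Ring (algebraMap A (MvPolynomial (Fin r) A)) : Algebra A P.Ring), ?_, ?_⟩
  · letI : Algebra A P.Ring := Algebra.compHom P.Ring (algebraMap A (MvPolynomial (Fin r) A))
    haveI : IsScalarTower A (MvPolynomial (Fin r) A) P.Ring :=
      IsScalarTower.of_algebraMap_eq fun a => rfl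
    haveI := mvPolynomial_isStandardSmooth A r
    haveI : Algebra.IsStandardSmoothOfRelativeDimension 0 (MvPolynomial (Fin r) A) P.Ring :=
      Algebra.Etale.iff_isStandardSmoothOfRelativeDimension_zero.mp inferInstance
    have := Algebra.IsStandardSmoothOfRelativeDimension.trans (n := r) (m := 0) A
      (MvPolynomial (Fin r) A) P.Ring
    simpa using this
  · letI : Algebra A P.Ring := Algebra.compHom P.Ring (algebraMap A (MvPolynomial (Fin r) A))
    haveI : IsScalarTower A (MvPolynomial (Fin r) A) P.Ring :=
      IsScalarTower.of_algebraMap_eq fun a => rfl
    haveI : IsScalarTower A (MvPolynomial (Fin r) A) (Localization.Away g) :=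
      IsScalarTower.of_algebraMap_eq fun a => by
        rw [IsScalarTower.algebraMap_apply A B (Localization.Away g),
          IsScalarTower.algebraMap_apply (MvPolynomial (Fin r) A) B (Localization.Away g),
          ← IsScalarTower.algebraMap_apply A (MvPolynomial (Fin r) A) B]
    exact ⟨ψ.restrictScalars A, hψ⟩

end Groth.Agent.S7634
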