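import Groth.Statements.S8917
import Mathlib
import Groth.Agent.Lib.Helper10.Fitting
import Groth.Agent.Lib.Helper45.FittSheaf
import Groth.Agent.Lib.Helper18.IdealComap
import Groth.Agent.Lib.Helper16.FlatPull.Chart
import Groth.Agent.Lib.Helper13.OmegaQCoh
import Groth.Agent.Lib.Helper13.OmegaChart
-- import your own Groth.Agent.* helpers here

set_option autoImplicit false
universe u
open CategoryTheory CategoryTheory.Limits AlgebraicGeometry TopologicalSpace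
open SDiv

namespace Groth.Agent.S8917

open Groth.Agent.Lib.Helper10.Fitting TensorProduct
open Groth.Agent.Lib.Helper11.PullbackChart Groth.Agent.Lib.Helper11 Groth.Agent.Lib.Helper49

set_option linter.style.haveILetI false

/-- Sections of `Ω_{X/S}` over an affine chart are the Kähler differentials of the chart. -/
theorem nonempty_omega_sections_equiv {X S : Scheme.{u}} (f : X ⟶ S) [QuasiSeparated f]
    {U : X.Opens} (hU : IsAffineOpen U) {V : S.Opens} (hV : IsAffineOpen V)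
    (hUV : U ≤ f ⁻¹ᵁ V) :
    letI := (f.appLE V U hUV).hom.toAlgebra
    Nonempty (Γ(Omega.sheaf f, U) ≃ₗ[Γ(X, U)] Ω[Γ(X, U)⁄Γ(S, V)]) := by
  letI := (f.appLE V U hUV).hom.toAlgebra
  obtain ⟨e⟩ := Groth.Agent.Lib.Helper13.OmegaChart.nonempty_omega_chart_iso f hU hV hUV
  let iso : (ΓU hU).obj (Omega.sheaf f) ≅ ModuleCat.of Γ(X, U) (Ω[Γ(X, U)⁄Γ(S, V)]) :=
    moduleSpecΓFunctor.mapIso
      ((Scheme.Modules.restrictFunctorIsoPullback hU.fromSpec).app _ ≪≫ e) ≪≫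
    (tilde.toTildeΓNatIso.app _).symm
  exact ⟨(sectionsFromSpecTopEquiv hU (Omega.sheaf f)).symm ≪≫ₗ iso.toLinearEquiv⟩

/-- Let f : X ⟶ S be locally of finite type and quasi-separated and let g : S' ⟶ S be a morphism, X' = X
×_S S' with projections g' : X' ⟶ X and f' : X' ⟶ S'. Then for every i the inverse image ideal sheaf
under g' of the i-th Fitting ideal of Ω_{X/S} is the i-th Fitting ideal of Ω_{X'/S'}: the Fitting
subschemes of Ω are compatible with base change. The published statement does not assume f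
quasi-separated; this row does, because the module Ω_{X/S} used here is defined for quasi-separated
f. -/
theorem result {X S S' : Scheme.{u}} (f : X ⟶ S) [LocallyOfFiniteType f] [QuasiSeparated f] (g : S' ⟶ S)
    (i : ℕ) :
    (Fitt.sheafIdeal (Omega.sheaf f) i).comap (pullback.fst f g) = Fitt.sheafIdeal (Omega.sheaf (pullback.snd f g)) i := by
  set g' := pullback.fst f g with hg'
  set f' := pullback.snd f g with hf'
  have hc : IsPullback g' f' f g := IsPullback.of_hasPullback f g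
  haveI : (Omega.sheaf f).IsQuasicoherent :=
    Groth.Agent.Lib.Helper13.OmegaQCoh.isQuasicoherent_omega f
  haveI : SheafOfModules.IsFiniteType (R := X.ringCatSheaf) (Omega.sheaf f) :=
    Groth.Agent.Lib.Helper13.OmegaQCoh.isFiniteType_omega f
  haveI : (Omega.sheaf f').IsQuasicoherent :=
    Groth.Agent.Lib.Helper13.OmegaQCoh.isQuasicoherent_omega f'
  haveI : SheafOfModules.IsFiniteType (R := (pullback f g).ringCatSheaf) (Omega.sheaf f') :=
    Groth.Agent.Lib.Helper13.OmegaQCoh.isFiniteType_omega f'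
  -- the covering family of charts
  let ι := {p : X.affineOpens × S.affineOpens × S'.affineOpens //
    p.1.1 ≤ f ⁻¹ᵁ p.2.1.1 ∧ p.2.2.1 ≤ g ⁻¹ᵁ p.2.1.1}
  have hWaff : ∀ p : ι, IsAffineOpen (g' ⁻¹ᵁ p.1.1.1 ⊓ f' ⁻¹ᵁ p.1.2.2.1) := by
    intro p
    have : IsAffine (Scheme.Opens.toScheme p.1.2.1.1) := p.1.2.1.2
    have : IsAffine (Scheme.Opens.toScheme p.1.2.2.1) := p.1.2.2.2
    have : IsAffine (Scheme.Opens.toScheme p.1.1.1) := p.1.1.2
    exact .of_isIso (Scheme.Hom.isPullback_resLE hc p.2.2 p.2.1 rfl).isoPullback.hom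
  refine Scheme.IdealSheafData.ext_of_iSup_eq_top (ι := ι)
    (fun p => ⟨g' ⁻¹ᵁ p.1.1.1 ⊓ f' ⁻¹ᵁ p.1.2.2.1, hWaff p⟩) ?_ ?_
  · rw [eq_top_iff]
    intro x' _
    obtain ⟨V, hV, hxV, -⟩ := Opens.isBasis_iff_nbhd.mp S.isBasis_affineOpens
      (Opens.mem_top (f.base (g'.base x')))
    obtain ⟨U, hU, hxU, eU⟩ := Opens.isBasis_iff_nbhd.mp X.isBasis_affineOpens
      (show g'.base x' ∈ f ⁻¹ᵁ V from hxV)
    have hgf : g.base (f'.base x') = f.base (g'.base x') := by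
      rw [← Scheme.Hom.comp_apply, ← Scheme.Hom.comp_apply, hc.w]
    obtain ⟨V₁, hV₁, hxV₁, eV₁⟩ := Opens.isBasis_iff_nbhd.mp S'.isBasis_affineOpens
      (show f'.base x' ∈ g ⁻¹ᵁ V from by
        show g.base (f'.base x') ∈ V
        rw [hgf]; exact hxV)
    exact TopologicalSpace.Opens.mem_iSup.mpr
      ⟨⟨(⟨U, hU⟩, ⟨V, hV⟩, ⟨V₁, hV₁⟩), eU, eV₁⟩, ⟨hxU, hxV₁⟩⟩
  · rintro ⟨⟨⟨U, hU⟩, ⟨V, hV⟩, ⟨V₁, hV₁⟩⟩, eU, eV₁⟩
    dsimp only at eU eV₁ ⊢
    set W : (pullback f g).Opens := g' ⁻¹ᵁ U ⊓ f' ⁻¹ᵁ V₁ with hWdef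
    have hW : IsAffineOpen W := hWaff ⟨(⟨U, hU⟩, ⟨V, hV⟩, ⟨V₁, hV₁⟩), eU, eV₁⟩
    have e1 : W ≤ g' ⁻¹ᵁ U := inf_le_left
    have e2 : W ≤ f' ⁻¹ᵁ V₁ := inf_le_right
    have hiso := isIso_pushoutSection_of_isAffineOpen hc eV₁ eU hWdef hV hV₁ hU
    have hpush := (isIso_pushoutSection_iff hc eV₁ eU hWdef).mp hiso
    rw [Groth.Agent.Lib.Helper18.ideal_comap_of_le g' _ ⟨W, hW⟩ ⟨U, hU⟩ e1,
      Groth.Agent.Lib.Helper45.sheafIdeal_ideal, Groth.Agent.Lib.Helper45.sheafIdeal_ideal]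
    -- algebras between section rings
    letI algRA : Algebra Γ(S, V) Γ(X, U) := (f.appLE V U eU).hom.toAlgebra
    letI algRR₁ : Algebra Γ(S, V) Γ(S', V₁) := (g.appLE V V₁ eV₁).hom.toAlgebra
    letI algAB : Algebra Γ(X, U) Γ(pullback f g, W) := (g'.appLE U W e1).hom.toAlgebra
    letI algR₁B : Algebra Γ(S', V₁) Γ(pullback f g, W) := (f'.appLE V₁ W e2).hom.toAlgebra
    letI algRB : Algebra Γ(S, V) Γ(pullback f g, W) :=
      ((g'.appLE U W e1).hom.comp (f.appLE V U eU).hom).toAlgebra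
    haveI tRAB : IsScalarTower Γ(S, V) Γ(X, U) Γ(pullback f g, W) := .of_algebraMap_eq' rfl
    haveI tRR₁B : IsScalarTower Γ(S, V) Γ(S', V₁) Γ(pullback f g, W) :=
      .of_algebraMap_eq' congr($(hpush.w).hom)
    have hP : Algebra.IsPushout Γ(S, V) Γ(X, U) Γ(S', V₁) Γ(pullback f g, W) :=
      CommRingCat.isPushout_iff_isPushout.mp hpush
    haveI hP' : Algebra.IsPushout Γ(S, V) Γ(S', V₁) Γ(X, U) Γ(pullback f g, W) := hP.symm
    obtain ⟨eΩU⟩ := nonempty_omega_sections_equiv f hU hV eU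
    obtain ⟨eΩW⟩ := nonempty_omega_sections_equiv f' hW hV₁ e2
    haveI hft : Algebra.FiniteType Γ(S, V) Γ(X, U) :=
      LocallyOfFiniteType.finiteType_appLE f hV hU eU
    haveI : Module.Finite Γ(X, U) (Ω[Γ(X, U)⁄Γ(S, V)]) := inferInstance
    rw [fitt_congr eΩW i, fitt_congr eΩU i,
      ← fitt_congr (KaehlerDifferential.tensorKaehlerEquiv Γ(S, V) Γ(S', V₁) Γ(X, U)
        Γ(pullback f g, W)) i,
      fitt_baseChange Γ(pullback f g, W) i]
    rfl

end Groth.Agent.S8917
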