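import Groth.Statements.S16253
import Groth.Agent.S7634
import Groth.Agent.S8917
import Groth.Agent.S6894
import Groth.Agent.Lib.Helper45.FittSheaf

set_option autoImplicit false
universe u
open CategoryTheory CategoryTheory.Limits AlgebraicGeometry TopologicalSpace
open SDiv

namespace Groth.Agent.S16253

open Groth.Agent.Lib.Helper10.Fitting TensorProduct
open Groth.Agent.Lib.Helper45

set_option linter.style.haveILetI false

/-- A quotient of a standard smooth algebra of relative dimension `p` has its module of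
differentials generated by `p` elements. -/
theorem fitt_kaehler_eq_top (A C B : Type u) [CommRing A] [CommRing C] [CommRing B] [Algebra A C]
    [Algebra A B] [Algebra C B] [IsScalarTower A C B] (p : ℕ)
    [Algebra.IsStandardSmoothOfRelativeDimension p A C]
    (hsurj : Function.Surjective (algebraMap C B)) : Fitt.ideal B Ω[B⁄A] p = ⊤ := by
  by_cases hC : Nontrivial C
  · haveI : Algebra.IsStandardSmooth A C :=
      Algebra.IsStandardSmoothOfRelativeDimension.isStandardSmooth p
    haveI : Algebra.FinitePresentation A C := Algebra.IsStandardSmooth.finitePresentation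
    haveI : Module.Free C Ω[C⁄A] := inferInstance
    haveI : Module.Finite C Ω[C⁄A] := inferInstance
    have hrank : Module.finrank C Ω[C⁄A] = p := by
      have := Algebra.IsStandardSmoothOfRelativeDimension.rank_kaehlerDifferential
        (R := A) (S := C) p
      exact Module.finrank_eq_of_rank_eq this
    let b := (Module.finBasis C Ω[C⁄A]).reindex (finCongr hrank)
    let x : Fin p → Ω[B⁄A] := fun i => KaehlerDifferential.map A A C B (b i)
    have hx : Submodule.span B (Set.range x) = ⊤ := by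
      rw [eq_top_iff]
      intro ω _
      obtain ⟨ω', rfl⟩ := KaehlerDifferential.map_surjective_of_surjective A A C B hsurj ω
      rw [← b.sum_repr ω', map_sum]
      apply Submodule.sum_mem
      intro i _
      rw [map_smul, ← algebraMap_smul B]
      exact Submodule.smul_mem _ _ (Submodule.subset_span ⟨i, rfl⟩)
    exact fitt_eq_top_of_span x hx le_rfl
  · have h1 : Subsingleton C := not_nontrivial_iff_subsingleton.mp hC
    have h2 : Subsingleton B := hsurj.subsingleton
    exact Subsingleton.elim _ _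

/-- Membership in the Jacobian locus, read on an affine chart. -/
theorem not_mem_support_iff {X Y : Scheme.{u}} (f : X ⟶ Y) [LocallyOfFiniteType f]
    [QuasiSeparated f] (p : ℕ) {U : X.Opens} (hU : IsAffineOpen U) {V : Y.Opens}
    (hV : IsAffineOpen V) (hUV : U ≤ f ⁻¹ᵁ V) (x : X) (hx : x ∈ U) :
    letI := (f.appLE V U hUV).hom.toAlgebra
    x ∉ (Fitt.sheafIdeal (Omega.sheaf f) p).support ↔
      ¬ Fitt.ideal Γ(X, U) Ω[Γ(X, U)⁄Γ(Y, V)] p ≤ (hU.primeIdealOf ⟨x, hx⟩).asIdeal := by
  letI := (f.appLE V U hUV).hom.toAlgebra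
  haveI : (Omega.sheaf f).IsQuasicoherent :=
    Groth.Agent.Lib.Helper13.OmegaQCoh.isQuasicoherent_omega f
  haveI : SheafOfModules.IsFiniteType (R := X.ringCatSheaf) (Omega.sheaf f) :=
    Groth.Agent.Lib.Helper13.OmegaQCoh.isFiniteType_omega f
  obtain ⟨e⟩ := Groth.Agent.S8917.nonempty_omega_sections_equiv f hU hV hUV
  rw [Scheme.IdealSheafData.mem_support_iff_of_mem (U := ⟨U, hU⟩) hx, sheafIdeal_ideal,
    fitt_congr e p, Scheme.mem_zeroLocus_iff]
  apply not_congr
  constructor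
  · intro h g hg
    have := h g hg
    rw [mem_basicOpen_iff_not_mem_primeIdealOf hU ⟨x, hx⟩ g, not_not] at this
    exact this
  · intro h g hg
    rw [mem_basicOpen_iff_not_mem_primeIdealOf hU ⟨x, hx⟩ g, not_not]
    exact h hg

/-- The easy direction: a local closed immersion into a smooth scheme bounds the number of
generators of the differentials. -/
theorem dir_mpr {X Y : Scheme.{u}} (f : X ⟶ Y) [LocallyOfFinitePresentation f] [QuasiSeparated f]
    (p : ℕ) (x : X) (U : X.Opens) (U' : Scheme.{u}) (i : (U : Scheme.{u}) ⟶ U') (g : U' ⟶ Y)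
    (hx : x ∈ U) [IsClosedImmersion i] [SmoothOfRelativeDimension p g]
    (comm : i ≫ g = U.ι ≫ f) :
    x ∉ (Fitt.sheafIdeal (Omega.sheaf f) p).support := by
  let x₀ : U := ⟨x, hx⟩
  obtain ⟨V, hV, W', hW', hy', e, hstd⟩ :=
    SmoothOfRelativeDimension.exists_isStandardSmoothOfRelativeDimension (n := p) (f := g) (i x₀)
  let W : (U : Scheme.{u}).Opens := i ⁻¹ᵁ W'
  have hW : IsAffineOpen W := hW'.preimage i
  have hxW : x₀ ∈ W := hy'
  let W₀ : X.Opens := U.ι ''ᵁ W
  have hW₀ : IsAffineOpen W₀ := hW.image_of_isOpenImmersion U.ι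
  have hxW₀ : x ∈ W₀ := ⟨x₀, hxW, rfl⟩
  have hWV : W ≤ (U.ι ≫ f) ⁻¹ᵁ V := by
    rw [← comm]
    intro z hz
    exact e hz
  have hW₀V : W₀ ≤ f ⁻¹ᵁ V := by
    rintro _ ⟨z, hz, rfl⟩
    exact hWV hz
  -- ring maps
  let α : Γ(Y, V) ⟶ Γ(U', W') := g.appLE V W' e
  let β : Γ(U', W') ⟶ Γ(U, W) := i.app W'
  have hWW₀ : W ≤ U.ι ⁻¹ᵁ W₀ := (Scheme.Hom.preimage_image_eq U.ι W).ge
  let γ : Γ(X, W₀) ⟶ Γ(U, W) := (U.ι).appLE W₀ W hWW₀
  have hγ : IsIso γ := by
    have : γ = ((U.ι).appIso W).hom := (Scheme.Hom.appIso_hom' U.ι W).symm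
    rw [this]
    infer_instance
  let ψ : Γ(U', W') ⟶ Γ(X, W₀) := β ≫ inv γ
  have hψsurj : Function.Surjective ψ.hom := by
    have h1 : Function.Surjective β.hom := Scheme.Hom.app_surjective i W' hW'
    have h2 : Function.Surjective (inv γ).hom :=
      (ConcreteCategory.bijective_of_isIso (inv γ)).2
    exact h2.comp h1
  have hcomp : α ≫ ψ = f.appLE V W₀ hW₀V := by
    have h1 : α ≫ β = (i ≫ g).appLE V W (by rw [comm]; exact hWV) := by
      show g.appLE V W' e ≫ i.app W' = _
      rw [Scheme.Hom.app_eq_appLE, Scheme.Hom.appLE_comp_appLE]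
    have h2 : f.appLE V W₀ hW₀V ≫ γ = (U.ι ≫ f).appLE V W hWV := by
      show f.appLE V W₀ hW₀V ≫ (U.ι).appLE W₀ W hWW₀ = _
      rw [Scheme.Hom.appLE_comp_appLE]
    have h3 : (i ≫ g).appLE V W (by rw [comm]; exact hWV) = (U.ι ≫ f).appLE V W hWV := by
      congr 1
    show α ≫ β ≫ inv γ = _
    rw [← Category.assoc, h1, h3, ← h2, Category.assoc, IsIso.hom_inv_id, Category.comp_id]
  -- algebra structures
  letI algAB := (f.appLE V W₀ hW₀V).hom.toAlgebra
  letI algAC := α.hom.toAlgebra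
  letI algCB := ψ.hom.toAlgebra
  haveI : IsScalarTower Γ(Y, V) Γ(U', W') Γ(X, W₀) :=
    IsScalarTower.of_algebraMap_eq fun a => by
      have := congrArg (fun φ => φ.hom a) hcomp
      exact this.symm
  haveI : Algebra.IsStandardSmoothOfRelativeDimension p Γ(Y, V) Γ(U', W') := hstd
  have htop := fitt_kaehler_eq_top Γ(Y, V) Γ(U', W') Γ(X, W₀) p hψsurj
  rw [not_mem_support_iff f p hW₀ hV hW₀V x hxW₀, htop]
  intro hle
  exact (hW₀.primeIdealOf ⟨x, hxW₀⟩).2.ne_top (top_le_iff.mp hle)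

/-- The main direction: outside the `p`-th Jacobian locus there is a local closed immersion into
a smooth scheme of relative dimension `p`. -/
theorem dir_mp {X Y : Scheme.{u}} (f : X ⟶ Y) [LocallyOfFinitePresentation f] [QuasiSeparated f]
    (p : ℕ) (x : X) (hx : x ∉ (Fitt.sheafIdeal (Omega.sheaf f) p).support) :
    ∃ (U : X.Opens) (U' : Scheme.{u}) (i : (U : Scheme.{u}) ⟶ U') (g : U' ⟶ Y),
        x ∈ U ∧ IsClosedImmersion i ∧ SmoothOfRelativeDimension p g ∧ i ≫ g = U.ι ≫ f := by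
  obtain ⟨_, ⟨V, hV : IsAffineOpen V, rfl⟩, hfxV, -⟩ :=
    Y.isBasis_affineOpens.exists_subset_of_mem_open (Set.mem_univ (f x)) isOpen_univ
  obtain ⟨_, ⟨U, hU : IsAffineOpen U, rfl⟩, hxU, hUV'⟩ :=
    X.isBasis_affineOpens.exists_subset_of_mem_open
      (show x ∈ ((f ⁻¹ᵁ V : X.Opens) : Set X) from hfxV) (f ⁻¹ᵁ V).isOpen
  have hUV : U ≤ f ⁻¹ᵁ V := hUV'
  letI algAB := (f.appLE V U hUV).hom.toAlgebra
  haveI : Algebra.FiniteType Γ(Y, V) Γ(X, U) :=
    HasRingHomProperty.appLE (P := @LocallyOfFiniteType) f inferInstance ⟨V, hV⟩ ⟨U, hU⟩ hUV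
  set q := (hU.primeIdealOf ⟨x, hxU⟩).asIdeal with hq
  haveI : q.IsPrime := (hU.primeIdealOf ⟨x, hxU⟩).2
  have hfit := (not_mem_support_iff f p hU hV hUV x hxU).mp hx
  have hrank : Module.finrank q.ResidueField
      (q.ResidueField ⊗[Γ(X, U)] Ω[Γ(X, U)⁄Γ(Y, V)]) ≤ p :=
    ((Groth.Agent.S6894.result Ω[Γ(X, U)⁄Γ(Y, V)] p q).1).mp hfit
  obtain ⟨r, hr⟩ : ∃ r, Module.finrank q.ResidueField
      (q.ResidueField ⊗[Γ(X, U)] Ω[Γ(X, U)⁄Γ(Y, V)]) = r := ⟨_, rfl⟩
  rw [hr] at hrank
  obtain ⟨g₀, hg₀, D, instD, algD, hD, φ, hφ⟩ :=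
    Groth.Agent.S7634.result Γ(Y, V) Γ(X, U) q r hr
  haveI := Groth.Agent.S7634.mvPolynomial_isStandardSmooth D (p - r)
  haveI hD' : Algebra.IsStandardSmoothOfRelativeDimension p Γ(Y, V)
      (MvPolynomial (Fin (p - r)) D) := by
    have := Algebra.IsStandardSmoothOfRelativeDimension.trans (n := r) (m := p - r) Γ(Y, V) D
      (MvPolynomial (Fin (p - r)) D)
    rwa [Nat.sub_add_cancel hrank] at this
  have hU₁ : IsAffineOpen (X.basicOpen g₀) := hU.basicOpen g₀
  have hxU₁ : x ∈ X.basicOpen g₀ :=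
    (mem_basicOpen_iff_not_mem_primeIdealOf hU ⟨x, hxU⟩ g₀).mpr hg₀
  haveI := hU.isLocalization_basicOpen g₀
  let eloc : Localization.Away g₀ ≃ₐ[Γ(X, U)] Γ(X, X.basicOpen g₀) :=
    IsLocalization.algEquiv (Submonoid.powers g₀) _ _
  let ρ : MvPolynomial (Fin (p - r)) D →+* Γ(X, X.basicOpen g₀) :=
    (eloc : Localization.Away g₀ →+* Γ(X, X.basicOpen g₀)).comp
      (MvPolynomial.eval₂Hom (φ : D →+* Localization.Away g₀) (fun _ => 0))
  have hρC : ∀ d : D, ρ (MvPolynomial.C d) = eloc (φ d) := by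
    intro d
    simp [ρ]
  have hρsurj : Function.Surjective ρ := by
    intro b
    obtain ⟨l, rfl⟩ := eloc.surjective b
    obtain ⟨d, rfl⟩ := hφ l
    exact ⟨MvPolynomial.C d, hρC d⟩
  have hU₁V : X.basicOpen g₀ ≤ f ⁻¹ᵁ V := le_trans (X.basicOpen_le g₀) hUV
  have hρA : ∀ a : Γ(Y, V), ρ (algebraMap Γ(Y, V) (MvPolynomial (Fin (p - r)) D) a) =
      (f.appLE V (X.basicOpen g₀) hU₁V).hom a := by
    intro a
    rw [MvPolynomial.algebraMap_apply, hρC, φ.commutes,
      IsScalarTower.algebraMap_apply Γ(Y, V) Γ(X, U) (Localization.Away g₀), eloc.commutes]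
    have h1 : f.appLE V (X.basicOpen g₀) hU₁V =
        f.appLE V U hUV ≫ X.presheaf.map (homOfLE (X.basicOpen_le g₀)).op :=
      (Scheme.Hom.appLE_map f hUV (homOfLE (X.basicOpen_le g₀)).op).symm
    rw [h1]
    rfl
  let ψ : CommRingCat.of (MvPolynomial (Fin (p - r)) D) ⟶ Γ(X, X.basicOpen g₀) :=
    CommRingCat.ofHom ρ
  let α : Γ(Y, V) ⟶ CommRingCat.of (MvPolynomial (Fin (p - r)) D) :=
    CommRingCat.ofHom (algebraMap Γ(Y, V) (MvPolynomial (Fin (p - r)) D))
  have hαψ : α ≫ ψ = f.appLE V (X.basicOpen g₀) hU₁V := by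
    ext a
    exact hρA a
  refine ⟨X.basicOpen g₀, Spec (CommRingCat.of (MvPolynomial (Fin (p - r)) D)),
    hU₁.isoSpec.hom ≫ Spec.map ψ, Spec.map α ≫ hV.fromSpec, hxU₁, ?_, ?_, ?_⟩
  · haveI : IsClosedImmersion (Spec.map ψ) := IsClosedImmersion.spec_of_surjective ψ hρsurj
    infer_instance
  · haveI : SmoothOfRelativeDimension p (Spec.map α) := by
      rw [HasRingHomProperty.Spec_iff (P := @SmoothOfRelativeDimension p)]
      exact RingHom.locally_of RingHom.isStandardSmoothOfRelativeDimension_respectsIso _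
        ((RingHom.isStandardSmoothOfRelativeDimension_algebraMap (n := p)).mpr hD')
    have h0 : SmoothOfRelativeDimension (p + 0) (Spec.map α ≫ hV.fromSpec) := inferInstance
    simpa using h0
  · rw [Category.assoc, ← Spec.map_comp_assoc, hαψ,
      IsAffineOpen.SpecMap_appLE_fromSpec f hV hU₁ hU₁V, ← Category.assoc,
      hU₁.isoSpec_hom_fromSpec]

/-- Let f : X ⟶ Y be locally of finite presentation and quasi-separated and p ≥ 0, and let J^p(X/Y) ⊆ X
be the closed subset cut out by the p-th Fitting ideal of the module of differentials Ω_{X/Y} (the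
p-th Jacobian locus). Then a point x of X lies outside J^p(X/Y) if and only if x has an open
neighbourhood U admitting a closed immersion over Y into a Y-scheme U' which is smooth of relative
dimension p over Y. (The published statement takes f of finite presentation and asks U' smooth over
Y with fibre dimension p at x; after shrinking U' this is smoothness of relative dimension p.
Quasi-separatedness of f is assumed because the module Ω_{X/Y} used here is defined for such f.) -/
theorem result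
    {X Y : Scheme.{u}} (f : X ⟶ Y) [LocallyOfFinitePresentation f] [QuasiSeparated f] (p : ℕ) (x : ↥X) :
    x ∉ (Fitt.sheafIdeal (Omega.sheaf f) p).support ↔
      ∃ (U : X.Opens) (U' : Scheme.{u}) (i : (U : Scheme.{u}) ⟶ U') (g : U' ⟶ Y),
        x ∈ U ∧ IsClosedImmersion i ∧ SmoothOfRelativeDimension p g ∧ i ≫ g = U.ι ≫ f := by
  constructor
  · exact dir_mp f p x
  · rintro ⟨U, U', i, g, hx, hi, hg, comm⟩
    exact dir_mpr f p x U U' i g hx comm

end Groth.Agent.S16253
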