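import Groth.Statements.S16254
import Groth.Agent.Lib.Helper10.Fitting

set_option autoImplicit false
universe u
open scoped BigOperators
open LefPen

namespace Groth.Agent.S16254

open MvPolynomial Groth.Agent.Lib.Helper10.Fitting

section
variable {A : Type u} [CommRing A] {N s : ℕ}

/-- A left inverse matrix of `m`, from the projectivity of the quotient. -/
theorem exists_leftInv (m : Fin s → (Fin (N + 1) → A)) (hli : LinearIndependent A m)
    (hproj : Module.Projective A ((Fin (N + 1) → A) ⧸ Submodule.span A (Set.range m))) :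
    ∃ B : Fin (N + 1) → Fin s → A, ∀ i l, ∑ t, m i t * B t l = if i = l then 1 else 0 := by
  classical
  set M := Submodule.span A (Set.range m) with hM
  obtain ⟨σ, hσ⟩ := Module.projective_lifting_property M.mkQ
    (LinearMap.id : ((Fin (N + 1) → A) ⧸ M) →ₗ[A] _) (Submodule.mkQ_surjective M)
  have hσ' : ∀ y, M.mkQ (σ y) = y := fun y => LinearMap.congr_fun hσ y
  let b : Module.Basis (Fin s) A M := Module.Basis.span hli
  let Q : (Fin (N + 1) → A) →ₗ[A] (Fin (N + 1) → A) := LinearMap.id - σ ∘ₗ M.mkQ
  have hp : ∀ v, Q v ∈ M := by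
    intro v
    show v - σ (M.mkQ v) ∈ M
    rw [← Submodule.Quotient.mk_eq_zero, ← Submodule.mkQ_apply, map_sub, hσ', sub_self]
  let P : (Fin (N + 1) → A) →ₗ[A] M := LinearMap.codRestrict M Q hp
  refine ⟨fun t l => b.repr (P (Pi.single t 1)) l, ?_⟩
  intro i l
  have hmi : m i = ∑ t, m i t • (Pi.single t 1 : Fin (N + 1) → A) := by
    funext k
    simp [Finset.sum_apply, Pi.single_apply]
  have hPm : P (m i) = b i := by
    apply Subtype.ext
    show m i - σ (M.mkQ (m i)) = (b i : Fin (N + 1) → A)
    have h0 : M.mkQ (m i) = 0 := by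
      rw [Submodule.mkQ_apply, Submodule.Quotient.mk_eq_zero]
      exact Submodule.subset_span ⟨i, rfl⟩
    rw [h0, map_zero, sub_zero, Module.Basis.coe_span_apply]
  have h1 : b.repr (P (m i)) l = ∑ t, m i t * b.repr (P (Pi.single t 1)) l := by
    conv_lhs => rw [hmi]
    rw [map_sum, map_sum, Finsupp.finset_sum_apply]
    apply Finset.sum_congr rfl
    intro t _
    rw [map_smul, map_smul, Finsupp.smul_apply, smul_eq_mul]
  rw [← h1, hPm, b.repr_self, Finsupp.single_apply]

/-- The substitution map. -/
noncomputable abbrev φ (m : Fin s → (Fin (N + 1) → A)) :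
    MvPolynomial (Fin (N + 1)) A →ₐ[A] MvPolynomial (Fin s) A :=
  MvPolynomial.aeval (R := A) (S₁ := MvPolynomial (Fin s) A)
    (fun j : Fin (N + 1) => ∑ i : Fin s, MvPolynomial.C (m i j) * MvPolynomial.X i)

/-- A section of the substitution map. -/
noncomputable abbrev rr (B : Fin (N + 1) → Fin s → A) :
    MvPolynomial (Fin s) A →ₐ[A] MvPolynomial (Fin (N + 1)) A :=
  MvPolynomial.aeval (R := A) (S₁ := MvPolynomial (Fin (N + 1)) A)
    (fun l : Fin s => ∑ t : Fin (N + 1), MvPolynomial.C (B t l) * MvPolynomial.X t)

theorem φ_rr (m : Fin s → (Fin (N + 1) → A)) (B : Fin (N + 1) → Fin s → A)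
    (hB : ∀ i l, ∑ t, m i t * B t l = if i = l then 1 else 0) (g : MvPolynomial (Fin s) A) :
    φ m (rr B g) = g := by
  have h : (φ m).comp (rr B) = AlgHom.id A _ := by
    apply MvPolynomial.algHom_ext
    intro l
    simp only [AlgHom.comp_apply, aeval_X, map_sum, map_mul, algHom_C, AlgHom.id_apply]
    calc ∑ t, (algebraMap A (MvPolynomial (Fin s) A)) (B t l) * ∑ i, C (m i t) * X i
        = ∑ i, C (∑ t, m i t * B t l) * X i := by
          simp only [Finset.mul_sum]
          rw [Finset.sum_comm]
          apply Finset.sum_congr rfl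
          intro i _
          rw [map_sum, Finset.sum_mul]
          apply Finset.sum_congr rfl
          intro t _
          rw [map_mul, MvPolynomial.algebraMap_eq]
          ring
      _ = X l := by
          simp only [hB]
          rw [Finset.sum_eq_single l]
          · simp
          · intro i _ hil
            simp [hil]
          · intro h
            exact absurd (Finset.mem_univ l) h
  exact AlgHom.congr_fun h g

/-- The kernel of a retraction of polynomial algebras is generated by `X j - r (φ (X j))`. -/
theorem ker_le_span (m : Fin s → (Fin (N + 1) → A)) (B : Fin (N + 1) → Fin s → A)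
    (hB : ∀ i l, ∑ t, m i t * B t l = if i = l then 1 else 0) :
    RingHom.ker (φ m) ≤ Ideal.span (Set.range fun j : Fin (N + 1) =>
      (X j - rr B (φ m (X j)) : MvPolynomial (Fin (N + 1)) A)) := by
  set K := Ideal.span (Set.range fun j : Fin (N + 1) =>
      (X j - rr B (φ m (X j)) : MvPolynomial (Fin (N + 1)) A)) with hK
  have h : (Ideal.Quotient.mkₐ A K).comp ((rr B).comp (φ m)) = Ideal.Quotient.mkₐ A K := by
    apply MvPolynomial.algHom_ext
    intro j
    simp only [AlgHom.comp_apply, Ideal.Quotient.mkₐ_eq_mk]
    rw [eq_comm, Ideal.Quotient.eq]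
    exact Ideal.subset_span ⟨j, rfl⟩
  intro f hf
  rw [RingHom.mem_ker] at hf
  have h1 := AlgHom.congr_fun h f
  simp only [AlgHom.comp_apply, Ideal.Quotient.mkₐ_eq_mk] at h1
  rw [hf, map_zero, map_zero] at h1
  exact Ideal.Quotient.eq_zero_iff_mem.mp h1.symm

/-- The column of the matrix of the statement attached to the index `t`. -/
noncomputable def colv (m : Fin s → (Fin (N + 1) → A)) (t : Fin (N + 1)) :
    Fin (s + 1) → MvPolynomial (Fin (N + 1)) A :=
  Fin.snoc (α := fun _ => MvPolynomial (Fin (N + 1)) A)
    (fun i' : Fin s => MvPolynomial.C (m i' t)) (MvPolynomial.X t)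

theorem colv_castSucc (m : Fin s → (Fin (N + 1) → A)) (t : Fin (N + 1)) (i : Fin s) :
    colv m t i.castSucc = C (m i t) := by
  simp [colv]

theorem colv_last (m : Fin s → (Fin (N + 1) → A)) (t : Fin (N + 1)) :
    colv m t (Fin.last s) = X t := by
  simp [colv]

/-- The minors of the statement. -/
noncomputable def Δ (m : Fin s → (Fin (N + 1) → A)) (c : Fin (s + 1) → Fin (N + 1)) :
    MvPolynomial (Fin (N + 1)) A :=
  (Matrix.of fun (i : Fin (s + 1)) (j : Fin (s + 1)) => colv m (c j) i).det

/-- The ideal of the statement. -/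
noncomputable def J (m : Fin s → (Fin (N + 1) → A)) : Ideal (MvPolynomial (Fin (N + 1)) A) :=
  Ideal.span (Set.range fun c : Fin (s + 1) → Fin (N + 1) => Δ m c)

theorem Δ_mem_ker (m : Fin s → (Fin (N + 1) → A)) (c : Fin (s + 1) → Fin (N + 1)) :
    φ m (Δ m c) = 0 := by
  classical
  unfold Δ
  rw [AlgHom.map_det]
  set M' := (φ m).mapMatrix (Matrix.of fun (i : Fin (s + 1)) (j : Fin (s + 1)) => colv m (c j) i)
    with hM'
  have hrow : ∀ (i : Fin s) j, M' i.castSucc j = C (m i (c j)) := by
    intro i j
    simp [hM', colv_castSucc]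
  have hlast : ∀ j, M' (Fin.last s) j = ∑ i : Fin s, X i * M' i.castSucc j := by
    intro j
    simp only [hrow]
    simp [hM', colv_last, mul_comm]
  let cc : Fin (s + 1) → MvPolynomial (Fin s) A :=
    Fin.snoc (α := fun _ => MvPolynomial (Fin s) A) (fun i => X i) 0
  have hupd : M' = M'.updateRow (Fin.last s) (∑ k, cc k • M' k) := by
    refine Matrix.ext fun i j => ?_
    by_cases hi : i = Fin.last s
    · subst hi
      rw [Matrix.updateRow_self, Finset.sum_apply, Fin.sum_univ_castSucc, hlast]
      simp [cc]
    · rw [Matrix.updateRow_ne hi]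
  rw [hupd, Matrix.det_updateRow_sum]
  simp [cc]

/-- The key identity: a linear form vanishing on the rows of `m`, times a maximal minor of `m`,
is a combination of the minors of the statement. -/
theorem key_identity (m : Fin s → (Fin (N + 1) → A)) (lam : Fin (N + 1) → A)
    (hlam : ∀ i, ∑ t, lam t * m i t = 0) (c : Fin s → Fin (N + 1)) :
    ∑ t, C (lam t) * Δ m (Fin.snoc (α := fun _ => Fin (N + 1)) c t) =
      (∑ t, C (lam t) * X t) * C ((Matrix.of fun (i j : Fin s) => m i (c j)).det) := by
  classical
  have hexp : ∀ t, Δ m (Fin.snoc (α := fun _ => Fin (N + 1)) c t) =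
      ∑ i : Fin (s + 1), (-1) ^ ((i : ℕ) + s) * colv m t i *
        (Matrix.of fun (i'' : Fin s) (j' : Fin s) => colv m (c j') (i.succAbove i'')).det := by
    intro t
    unfold Δ
    rw [Matrix.det_succ_column _ (Fin.last s)]
    apply Finset.sum_congr rfl
    intro i _
    congr 2
    · simp
    · congr 1
      refine Matrix.ext fun i'' j' => ?_
      simp [Fin.succAbove_last]
  simp only [hexp, Finset.mul_sum]
  rw [Finset.sum_comm, Fin.sum_univ_castSucc]
  have hz : ∀ i : Fin s, ∑ t, C (lam t) * ((-1) ^ ((i.castSucc : ℕ) + s) * colv m t i.castSucc *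
      (Matrix.of fun (i'' : Fin s) (j' : Fin s) =>
        colv m (c j') (i.castSucc.succAbove i'')).det) = 0 := by
    intro i
    have : ∀ t, C (lam t) * ((-1) ^ ((i.castSucc : ℕ) + s) * colv m t i.castSucc *
        (Matrix.of fun (i'' : Fin s) (j' : Fin s) =>
          colv m (c j') (i.castSucc.succAbove i'')).det) =
        C (lam t * m i t) * ((-1) ^ ((i.castSucc : ℕ) + s) *
        (Matrix.of fun (i'' : Fin s) (j' : Fin s) =>
          colv m (c j') (i.castSucc.succAbove i'')).det) := by
      intro t
      rw [colv_castSucc, map_mul]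
      ring
    simp only [this]
    rw [← Finset.sum_mul, ← map_sum, hlam i, map_zero, zero_mul]
  rw [Finset.sum_eq_zero (fun i _ => hz i), zero_add]
  have hdet : (Matrix.of fun (i'' : Fin s) (j' : Fin s) =>
      colv m (c j') ((Fin.last s).succAbove i'')).det =
      C ((Matrix.of fun (i j : Fin s) => m i (c j)).det) := by
    rw [RingHom.map_det]
    congr 1
    refine Matrix.ext fun i'' j' => ?_
    simp [Fin.succAbove_last, colv_castSucc]
  rw [hdet, Finset.sum_mul]
  apply Finset.sum_congr rfl
  intro t _
  rw [colv_last]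
  have hs : ((-1 : MvPolynomial (Fin (N + 1)) A)) ^ (((Fin.last s : Fin (s + 1)) : ℕ) + s) = 1 := by
    rw [Fin.val_last, ← two_mul, pow_mul]
    simp
  rw [hs]
  ring

/-- Linear forms vanishing on the rows of `m` lie in the ideal of minors. -/
theorem linear_mem_J (m : Fin s → (Fin (N + 1) → A)) (B : Fin (N + 1) → Fin s → A)
    (hB : ∀ i l, ∑ t, m i t * B t l = if i = l then 1 else 0) (lam : Fin (N + 1) → A)
    (hlam : ∀ i, ∑ t, lam t * m i t = 0) :
    (∑ t, C (lam t) * X t : MvPolynomial (Fin (N + 1)) A) ∈ J m := by
  classical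
  -- the ideal of maximal minors of `m` is the unit ideal
  let I : Ideal A := Ideal.span (Set.range fun c : Fin s → Fin (N + 1) =>
    (Matrix.of fun (i j : Fin s) => m i (c j)).det)
  have h1 : (1 : A) ∈ I := by
    have hdet := det_mem_of_rows_mem_span I
      (fun _ : Fin s => Set.range fun t : Fin (N + 1) => fun i : Fin s => m i t)
      (by
        intro a ha
        choose c hc using ha
        have : a.det = (Matrix.of fun (i j : Fin s) => m i (c j)).det := by
          rw [← Matrix.det_transpose]
          congr 1
          refine Matrix.ext fun i j => ?_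
          rw [Matrix.transpose_apply, ← hc j]
          rfl
        rw [this]
        exact Ideal.subset_span ⟨c, rfl⟩)
      (Matrix.of fun (l i : Fin s) => ∑ t, m i t * B t l)
      (by
        intro l
        have : (Matrix.of fun (l i : Fin s) => ∑ t, m i t * B t l) l =
            ∑ t, B t l • (fun i : Fin s => m i t) := by
          funext i
          simp [Finset.sum_apply, mul_comm]
        rw [this]
        exact Submodule.sum_mem _ fun t _ =>
          Submodule.smul_mem _ _ (Submodule.subset_span ⟨t, rfl⟩))
    have hone : (Matrix.of fun (l i : Fin s) => ∑ t, m i t * B t l) = 1 := by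
      refine Matrix.ext fun l i => ?_
      simp only [Matrix.of_apply, hB, Matrix.one_apply]
      by_cases h : i = l
      · simp [h]
      · simp [h, Ne.symm h]
    rwa [hone, Matrix.det_one] at hdet
  -- the set of `d` with `C d * ℓ ∈ J` is an ideal containing the maximal minors
  set ℓ : MvPolynomial (Fin (N + 1)) A := ∑ t, C (lam t) * X t with hℓ
  have hI : ∀ d ∈ I, C d * ℓ ∈ J m := by
    intro d hd
    induction hd using Submodule.span_induction with
    | mem d hd =>
      obtain ⟨c, rfl⟩ := hd
      have hk := key_identity m lam hlam c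
      rw [mul_comm, ← hk]
      exact Ideal.sum_mem _ fun t _ => Ideal.mul_mem_left _ _ (Ideal.subset_span ⟨_, rfl⟩)
    | zero => simp
    | add d₁ d₂ _ _ h₁ h₂ =>
      rw [map_add, add_mul]
      exact Ideal.add_mem _ h₁ h₂
    | smul a d _ h =>
      rw [smul_eq_mul, map_mul, mul_assoc]
      exact Ideal.mul_mem_left _ _ h
  have := hI 1 h1
  rwa [map_one, one_mul] at this

end

/-- Let A be a commutative ring and m_1, …, m_s ∈ A^(N+1) linearly independent vectors whose span M has
projective (that is, locally free) quotient A^(N+1)/M. Write a_0, …, a_N for the coordinate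
functions, so that restricting linear forms to M and expressing them in the basis dual to the m_i
gives the A-algebra map A[a_0, …, a_N] ⟶ A[y_1, …, y_s], a_j ↦ Σ_i (m_i)_j y_i (the map
Sym((A^(N+1))^∨) ⟶ Sym(M^∨)). Its kernel is the ideal generated by the (s+1) × (s+1) minors of the
(s+1) × (N+1) matrix whose first s rows are the coordinate rows of m_1, …, m_s and whose last row is
(a_0, …, a_N). The minors are indexed here by all maps c from Fin (s+1) to Fin (N+1) choosing the
columns (non-injective choices give zero). -/
theorem result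
    (A : Type u) [CommRing A] (N s : ℕ) (m : Fin s → (Fin (N + 1) → A))
    (hli : LinearIndependent A m)
    (hproj : Module.Projective A ((Fin (N + 1) → A) ⧸ Submodule.span A (Set.range m))) :
    RingHom.ker (MvPolynomial.aeval (R := A) (S₁ := MvPolynomial (Fin s) A)
        (fun j : Fin (N + 1) => ∑ i : Fin s, MvPolynomial.C (m i j) * MvPolynomial.X i)) =
      Ideal.span (Set.range fun c : Fin (s + 1) → Fin (N + 1) =>
        (Matrix.of fun (i : Fin (s + 1)) (j : Fin (s + 1)) =>
          (Fin.snoc (α := fun _ => MvPolynomial (Fin (N + 1)) A)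
            (fun i' : Fin s => MvPolynomial.C (m i' (c j))) (MvPolynomial.X (c j)) i)).det) := by
  classical
  obtain ⟨B, hB⟩ := exists_leftInv m hli hproj
  show RingHom.ker (φ m) = J m
  apply le_antisymm
  · refine le_trans (ker_le_span m B hB) ?_
    rw [Ideal.span_le]
    rintro _ ⟨j, rfl⟩
    -- the generator is a linear form vanishing on the rows of `m`
    have hform : (X j - rr B (φ m (X j)) : MvPolynomial (Fin (N + 1)) A) =
        ∑ t, C ((if t = j then 1 else 0) - ∑ i, m i j * B t i) * X t := by
      simp only [aeval_X, map_sum, map_mul, algHom_C, map_sub, sub_mul, Finset.sum_sub_distrib]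
      congr 1
      · rw [Finset.sum_eq_single j]
        · simp
        · intro t _ htj
          simp [htj]
        · intro h
          exact absurd (Finset.mem_univ j) h
      · simp only [Finset.mul_sum, Finset.sum_mul]
        rw [Finset.sum_comm]
        apply Finset.sum_congr rfl
        intro t _
        apply Finset.sum_congr rfl
        intro i _
        rw [MvPolynomial.algebraMap_eq]
        ring
    show (X j - rr B (φ m (X j)) : MvPolynomial (Fin (N + 1)) A) ∈ J m
    rw [hform]
    apply linear_mem_J m B hB
    intro i'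
    simp only [sub_mul, Finset.sum_sub_distrib]
    rw [Finset.sum_eq_single j]
    · have h2 : ∑ t, (∑ i, m i j * B t i) * m i' t = ∑ i, m i j * ∑ t, m i' t * B t i := by
        simp only [Finset.mul_sum, Finset.sum_mul]
        rw [Finset.sum_comm]
        apply Finset.sum_congr rfl
        intro i _
        apply Finset.sum_congr rfl
        intro t _
        ring
      rw [h2]
      simp only [hB]
      rw [Finset.sum_eq_single i']
      · simp
      · intro i _ hi
        simp [Ne.symm hi]
      · intro h
        exact absurd (Finset.mem_univ i') h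
    · intro t _ htj
      simp [htj]
    · intro h
      exact absurd (Finset.mem_univ j) h
  · unfold J
    rw [Ideal.span_le]
    rintro _ ⟨c, rfl⟩
    exact Δ_mem_ker m c

end Groth.Agent.S16254
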