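import Groth.Statements.S16256
import Groth.Agent.S16253
import Groth.Agent.Lib.Helper10.LciJacobian

set_option autoImplicit false
universe u
open CategoryTheory CategoryTheory.Limits AlgebraicGeometry TopologicalSpace
open SDiv

namespace Groth.Agent.S16256

open Groth.Agent.Lib.Helper10.Fitting TensorProduct
open Groth.Agent.Lib.Helper10.KoszulH1 Groth.Agent.Lib.Helper10.LciJacobian

set_option linter.style.haveILetI false

/-- smooth on a neighbourhood iff the stalk map is formally smooth. -/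
theorem exists_smooth_nhd_iff {Y X : Scheme.{u}} (f : Y ⟶ X) [LocallyOfFinitePresentation f]
    (y : Y) :
    (∃ V : Y.Opens, y ∈ V ∧ Smooth (V.ι ≫ f)) ↔ (f.stalkMap y).hom.FormallySmooth := by
  rw [← Scheme.Hom.mem_smoothLocus]
  constructor
  · rintro ⟨V, hyV, hsm⟩
    have h1 : (V.ι ≫ f).smoothLocus = ⊤ := Scheme.Hom.smoothLocus_eq_top _
    rw [← Scheme.Hom.preimage_smoothLocus_eq] at h1
    have : (⟨y, hyV⟩ : V) ∈ V.ι ⁻¹ᵁ f.smoothLocus := by rw [h1]; trivial
    exact this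
  · intro hy
    refine ⟨f.smoothLocus, hy, ?_⟩
    rw [← Scheme.Hom.smoothLocus_eq_top_iff, ← Scheme.Hom.preimage_smoothLocus_eq]
    ext x
    simpa using x.2

/-- a morphism whose restriction over an affine open is a closed immersion is surjective on
sections there, with affine preimage. -/
theorem app_surjective_of_restrict {Z P : Scheme.{u}} (i : Z ⟶ P) (W : P.Opens)
    (hW : IsAffineOpen W) (hcl : IsClosedImmersion (i ∣_ W)) :
    IsAffineOpen (i ⁻¹ᵁ W) ∧ Function.Surjective (i.app W).hom := by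
  haveI : IsAffine (W : Scheme.{u}) := hW
  obtain ⟨h1, h2⟩ := (HasAffineProperty.iff_of_isAffine (P := @IsClosedImmersion)).mp hcl
  refine ⟨h1, ?_⟩
  have h3 : Function.Surjective ((i ∣_ W).app ⊤).hom := h2
  rw [morphismRestrict_app] at h3
  have h4 : Function.Surjective (i.app (W.ι ''ᵁ ⊤)).hom := by
    intro s
    obtain ⟨r, hr⟩ := h3 ((Z.presheaf.map
      (eqToHom (image_morphismRestrict_preimage i W ⊤)).op).hom s)
    refine ⟨r, ?_⟩
    have hinj : Function.Injective (Z.presheaf.map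
        (eqToHom (image_morphismRestrict_preimage i W ⊤)).op).hom :=
      ((ConcreteCategory.isIso_iff_bijective _).1 inferInstance).1
    exact hinj hr
  have h5 : W.ι ''ᵁ ⊤ = W := by simp
  rw [h5] at h4
  exact h4

/-- the kernel of a localized surjection. -/
theorem ker_localized {R S R' S' : Type u} [CommRing R] [CommRing S] [CommRing R'] [CommRing S']
    [Algebra R R'] [Algebra S S'] (φ : R →+* S) (r : R) [IsLocalization.Away r R']
    [IsLocalization.Away (φ r) S'] (β : R' →+* S')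
    (hβ : β.comp (algebraMap R R') = (algebraMap S S').comp φ) :
    RingHom.ker β = (RingHom.ker φ).map (algebraMap R R') := by
  have hT : Submonoid.map φ (Submonoid.powers r) = Submonoid.powers (φ r) :=
    Submonoid.map_powers φ r
  have hβ' : β = IsLocalization.map S' φ (hT.symm ▸ (Submonoid.powers r).le_comap_map) := by
    apply IsLocalization.ringHom_ext (Submonoid.powers r)
    rw [hβ, IsLocalization.map_comp]
  rw [hβ']
  exact IsLocalization.ker_map S' φ hT


/-- The chart-level statement. -/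
theorem main {Y X : Scheme.{u}} (f : Y ⟶ X) [LocallyOfFinitePresentation f] [QuasiSeparated f]
    (m : ℕ) (y : Y) (U : Y.Opens) (P : Scheme.{u}) (i : (U : Scheme.{u}) ⟶ P) (π : P ⟶ X) (c : ℕ)
    (hyU : y ∈ U) (hreg : RegImm.IsRegularImmersionOfCodim RegImm.Kind.koszul c i)
    (hπ : SmoothOfRelativeDimension (m + c) π) (comm : i ≫ π = U.ι ≫ f) :
    (f.stalkMap y).hom.FormallySmooth ↔ y ∉ (Fitt.sheafIdeal (Omega.sheaf f) m).support := by
  let y₀ : U := ⟨y, hyU⟩
  obtain ⟨W', hiW', hcl, rs, hlen, hK, hker⟩ := hreg.2 y₀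
  subst hlen
  obtain ⟨V, hV, W'', hW'', hiW'', e, hstd⟩ :=
    SmoothOfRelativeDimension.exists_isStandardSmoothOfRelativeDimension
      (n := m + rs.length) (f := π) (i y₀)
  obtain ⟨f₁, g₁, hfg, hiD⟩ :=
    exists_basicOpen_le_affine_inter W'.2 hW'' (i y₀) ⟨hiW', hiW''⟩
  have hDW' : P.basicOpen f₁ ≤ W'.1 := P.basicOpen_le f₁
  have hDW'' : P.basicOpen f₁ ≤ W'' := hfg ▸ P.basicOpen_le g₁
  have hDaff : IsAffineOpen (P.basicOpen f₁) := W'.2.basicOpen f₁
  haveI := hcl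
  have hclD : IsClosedImmersion (i ∣_ P.basicOpen f₁) :=
    (MorphismProperty.arrow_mk_iso_iff @IsClosedImmersion
      (morphismRestrictRestrictBasicOpen i W'.1 f₁)).mp inferInstance
  obtain ⟨hW_U, hφsurj⟩ := app_surjective_of_restrict i W'.1 W'.2 hcl
  obtain ⟨hD_U, hβsurj⟩ := app_surjective_of_restrict i (P.basicOpen f₁) hDaff hclD
  -- opens
  have hyD_U : y₀ ∈ i ⁻¹ᵁ P.basicOpen f₁ := hiD
  have hW₀ : IsAffineOpen (U.ι ''ᵁ (i ⁻¹ᵁ P.basicOpen f₁)) := hD_U.image_of_isOpenImmersion U.ι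
  have hyW₀ : y ∈ U.ι ''ᵁ (i ⁻¹ᵁ P.basicOpen f₁) := ⟨y₀, hyD_U, rfl⟩
  have hD_UV : i ⁻¹ᵁ P.basicOpen f₁ ≤ (U.ι ≫ f) ⁻¹ᵁ V := by
    rw [← comm]
    intro z hz
    exact e (hDW'' hz)
  have hW₀V : U.ι ''ᵁ (i ⁻¹ᵁ P.basicOpen f₁) ≤ f ⁻¹ᵁ V := by
    rintro _ ⟨z, hz, rfl⟩
    exact hD_UV hz
  have hDV : P.basicOpen f₁ ≤ π ⁻¹ᵁ V := hDW''.trans e
  -- ring maps
  let α : Γ(X, V) ⟶ Γ(P, P.basicOpen f₁) := π.appLE V (P.basicOpen f₁) hDV
  let β : Γ(P, P.basicOpen f₁) ⟶ Γ(U, i ⁻¹ᵁ P.basicOpen f₁) := i.app (P.basicOpen f₁)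
  have hD_UW₀ : i ⁻¹ᵁ P.basicOpen f₁ ≤ U.ι ⁻¹ᵁ (U.ι ''ᵁ (i ⁻¹ᵁ P.basicOpen f₁)) :=
    (Scheme.Hom.preimage_image_eq U.ι (i ⁻¹ᵁ P.basicOpen f₁)).ge
  let γ : Γ(Y, U.ι ''ᵁ (i ⁻¹ᵁ P.basicOpen f₁)) ⟶ Γ(U, i ⁻¹ᵁ P.basicOpen f₁) :=
    (U.ι).appLE _ _ hD_UW₀
  have hγ : IsIso γ := by
    have : γ = ((U.ι).appIso (i ⁻¹ᵁ P.basicOpen f₁)).hom :=
      (Scheme.Hom.appIso_hom' U.ι (i ⁻¹ᵁ P.basicOpen f₁)).symm
    rw [this]
    infer_instance
  let ψ : Γ(P, P.basicOpen f₁) ⟶ Γ(Y, U.ι ''ᵁ (i ⁻¹ᵁ P.basicOpen f₁)) := β ≫ inv γ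
  have hinvγ : Function.Bijective (inv γ).hom := ConcreteCategory.bijective_of_isIso (inv γ)
  have hψsurj : Function.Surjective ψ.hom := hinvγ.2.comp hβsurj
  have hcomp : α ≫ ψ = f.appLE V (U.ι ''ᵁ (i ⁻¹ᵁ P.basicOpen f₁)) hW₀V := by
    have h1 : α ≫ β = (i ≫ π).appLE V (i ⁻¹ᵁ P.basicOpen f₁) (by rw [comm]; exact hD_UV) := by
      show π.appLE V (P.basicOpen f₁) hDV ≫ i.app (P.basicOpen f₁) = _
      rw [Scheme.Hom.app_eq_appLE, Scheme.Hom.appLE_comp_appLE]
    have h2 : f.appLE V (U.ι ''ᵁ (i ⁻¹ᵁ P.basicOpen f₁)) hW₀V ≫ γ =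
        (U.ι ≫ f).appLE V (i ⁻¹ᵁ P.basicOpen f₁) hD_UV := by
      show f.appLE V _ hW₀V ≫ (U.ι).appLE _ _ hD_UW₀ = _
      rw [Scheme.Hom.appLE_comp_appLE]
    have h3 : (i ≫ π).appLE V (i ⁻¹ᵁ P.basicOpen f₁) (by rw [comm]; exact hD_UV) =
        (U.ι ≫ f).appLE V (i ⁻¹ᵁ P.basicOpen f₁) hD_UV := by
      congr 1
    show α ≫ β ≫ inv γ = _
    rw [← Category.assoc, h1, h3, ← h2, Category.assoc, IsIso.hom_inv_id, Category.comp_id]
  -- the kernel of `β`
  have hkerβ : RingHom.ker β.hom =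
      (RingHom.ker (i.app W'.1).hom).map (algebraMap Γ(P, W'.1) Γ(P, P.basicOpen f₁)) := by
    haveI := W'.2.isLocalization_basicOpen f₁
    haveI := hW_U.isLocalization_basicOpen ((i.app W'.1) f₁)
    have h1 := W'.2.app_basicOpen_eq_away_map i hW_U f₁
    have hT : Submonoid.map (i.app W'.1).hom (Submonoid.powers f₁) =
        Submonoid.powers ((i.app W'.1).hom f₁) := Submonoid.map_powers _ f₁
    have h2 := IsLocalization.ker_map (S := Γ(P, P.basicOpen f₁))
      Γ(U, (U : Scheme.{u}).basicOpen ((i.app W'.1) f₁)) (i.app W'.1).hom hT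
    rw [← h2]
    ext x
    rw [RingHom.mem_ker, RingHom.mem_ker]
    have h3 : β.hom x = ((U : Scheme.{u}).presheaf.map (eqToHom (by simp)).op).hom
        ((IsLocalization.map (S := Γ(P, P.basicOpen f₁))
          Γ(U, (U : Scheme.{u}).basicOpen ((i.app W'.1) f₁)) (i.app W'.1).hom
          (hT.symm ▸ (Submonoid.powers f₁).le_comap_map) :
            Γ(P, P.basicOpen f₁) →+* Γ(U, (U : Scheme.{u}).basicOpen ((i.app W'.1) f₁))) x) := by
      show (i.app (P.basicOpen f₁)).hom x = _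
      rw [h1]
      rfl
    rw [h3]
    have hinj : Function.Injective ((U : Scheme.{u}).presheaf.map
        (eqToHom (show i ⁻¹ᵁ P.basicOpen f₁ = (U : Scheme.{u}).basicOpen ((i.app W'.1) f₁) by
          simp)).op).hom :=
      ((ConcreteCategory.isIso_iff_bijective _).1 inferInstance).1
    constructor
    · intro h
      exact hinj (h.trans (map_zero _).symm)
    · intro h
      rw [h, map_zero]
  -- the generators
  haveI hloc := W'.2.isLocalization_basicOpen f₁
  have hH1 : CAlgX.IsH1Regular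
      (fun j : Fin rs.length => algebraMap Γ(P, W'.1) Γ(P, P.basicOpen f₁) (rs.get j)) :=
    isH1Regular_of_isLocalization (Submonoid.powers f₁) rs.get
      (isH1Regular_of_isKoszulRegularSeq rs hK)
  have hspan : Ideal.span (Set.range
      (fun j : Fin rs.length => algebraMap Γ(P, W'.1) Γ(P, P.basicOpen f₁) (rs.get j))) =
      RingHom.ker ψ.hom := by
    have h1 : RingHom.ker ψ.hom = RingHom.ker β.hom := by
      ext x
      rw [RingHom.mem_ker, RingHom.mem_ker]
      show (inv γ).hom (β.hom x) = 0 ↔ _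
      constructor
      · intro h
        exact hinvγ.1 (h.trans (map_zero _).symm)
      · intro h
        rw [h, map_zero]
    rw [h1, hkerβ, hker, Ideal.ofList, Ideal.map_span]
    congr 1
    ext x
    constructor
    · rintro ⟨j, rfl⟩
      exact ⟨rs.get j, List.get_mem rs j, rfl⟩
    · rintro ⟨r, hr, rfl⟩
      obtain ⟨j, rfl⟩ := List.mem_iff_get.mp hr
      exact ⟨j, rfl⟩
  -- standard smoothness of `α`
  have hαstd : α.hom.IsStandardSmoothOfRelativeDimension (m + rs.length) := by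
    letI := (P.presheaf.map (homOfLE hDW'').op).hom.toAlgebra
    haveI : IsLocalization.Away g₁ Γ(P, P.basicOpen f₁) :=
      hW''.isLocalization_of_eq_basicOpen g₁ (homOfLE hDW'') hfg
    have h1 := (RingHom.isStandardSmoothOfRelativeDimension_stableUnderCompositionWithLocalizationAway
      (m + rs.length)).right Γ(P, P.basicOpen f₁) g₁ (π.appLE V W'' e).hom hstd
    have h2 : α = π.appLE V W'' e ≫ P.presheaf.map (homOfLE hDW'').op :=
      (Scheme.Hom.appLE_map π e (homOfLE hDW'').op).symm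
    rw [h2]
    exact h1
  -- algebra structures
  letI algAC := (f.appLE V (U.ι ''ᵁ (i ⁻¹ᵁ P.basicOpen f₁)) hW₀V).hom.toAlgebra
  letI algAB := α.hom.toAlgebra
  letI algBC := ψ.hom.toAlgebra
  haveI : IsScalarTower Γ(X, V) Γ(P, P.basicOpen f₁) Γ(Y, U.ι ''ᵁ (i ⁻¹ᵁ P.basicOpen f₁)) :=
    IsScalarTower.of_algebraMap_eq fun a => by
      have := congrArg (fun φ => φ.hom a) hcomp
      exact this.symm
  haveI hstdA : Algebra.IsStandardSmoothOfRelativeDimension (m + rs.length) Γ(X, V)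
      Γ(P, P.basicOpen f₁) := hαstd
  haveI : Algebra.IsStandardSmooth Γ(X, V) Γ(P, P.basicOpen f₁) :=
    Algebra.IsStandardSmoothOfRelativeDimension.isStandardSmooth (m + rs.length)
  haveI : Algebra.FiniteType Γ(X, V) Γ(Y, U.ι ''ᵁ (i ⁻¹ᵁ P.basicOpen f₁)) :=
    HasRingHomProperty.appLE (P := @LocallyOfFiniteType) f inferInstance ⟨V, hV⟩ ⟨_, hW₀⟩ hW₀V
  set p := (hW₀.primeIdealOf ⟨y, hyW₀⟩).asIdeal with hp
  haveI : p.IsPrime := (hW₀.primeIdealOf ⟨y, hyW₀⟩).2
  haveI : Nontrivial Γ(Y, U.ι ''ᵁ (i ⁻¹ᵁ P.basicOpen f₁)) :=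
    ⟨0, 1, fun h => (‹p.IsPrime›).ne_top ((Ideal.eq_top_iff_one p).2 (h ▸ p.zero_mem))⟩
  haveI : Nontrivial Γ(P, P.basicOpen f₁) := ψ.hom.domain_nontrivial
  have hrank : Module.finrank Γ(P, P.basicOpen f₁) Ω[Γ(P, P.basicOpen f₁)⁄Γ(X, V)] =
      m + rs.length :=
    Module.finrank_eq_of_rank_eq
      (Algebra.IsStandardSmoothOfRelativeDimension.rank_kaehlerDifferential
        (R := Γ(X, V)) (S := Γ(P, P.basicOpen f₁)) (m + rs.length))
  rw [formallySmooth_stalkMap_iff V hV _ hW₀ hW₀V hyW₀,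
    Groth.Agent.S16253.not_mem_support_iff f m hW₀ hV hW₀V y hyW₀]
  constructor
  · intro hsm
    exact not_fitt_le_of_formallySmooth hψsurj _ hspan p m hrank hH1 hsm
  · intro hfit
    obtain ⟨g, hg, hgsm⟩ := exists_away_formallySmooth hψsurj _ hspan p m hrank hfit
    exact Groth.Agent.Lib.Helper89.JacCrit.formallySmooth_atPrime_of_away p g hg hgsm

/-- Let f : Y ⟶ X be locally of finite presentation and quasi-separated, m ≥ 0, and y a point of Y near
which f is a local complete intersection of virtual dimension m, in the factorisation sense: some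
open neighbourhood U of y admits a Koszul-regular immersion i of constant codimension c into a
scheme P smooth of relative dimension m + c over X, compatibly with f. Then f is smooth on some open
neighbourhood of y if and only if y does not lie in the m-th Jacobian locus of Y over X, the closed
subset cut out by the m-th Fitting ideal of Ω_{Y/X}. (Quasi-separatedness of f is assumed because
the module Ω_{Y/X} used here is defined for such f.) -/
theorem result
    {Y X : Scheme.{u}} (f : Y ⟶ X) [LocallyOfFinitePresentation f] [QuasiSeparated f] (m : ℕ) (y : ↥Y)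
    (hlci : ∃ (U : Y.Opens) (P : Scheme.{u}) (i : (U : Scheme.{u}) ⟶ P) (π : P ⟶ X) (c : ℕ),
      y ∈ U ∧ RegImm.IsRegularImmersionOfCodim RegImm.Kind.koszul c i ∧
        SmoothOfRelativeDimension (m + c) π ∧ i ≫ π = U.ι ≫ f) :
    (∃ V : Y.Opens, y ∈ V ∧ Smooth (V.ι ≫ f)) ↔ y ∉ (Fitt.sheafIdeal (Omega.sheaf f) m).support := by
  obtain ⟨U, P, i, π, c, hyU, hreg, hπ, comm⟩ := hlci
  rw [exists_smooth_nhd_iff f y]
  exact main f m y U P i π c hyU hreg hπ comm

end Groth.Agent.S16256
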