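import Groth.Statements.S16262
import Groth.Agent.Lib.Helper82.PolyODE

set_option autoImplicit false
open W4c3wronskmg

namespace Groth.Agent.S16262

open Polynomial in
/-- Let `k` be a field of characteristic zero and `a, b, i` positive integers with `i < a + b`. On the
projective line with `A = 0`, `B = ∞`, `P = -1`, the system `V_{a,b} = H⁰(ω((1+a)A)) ⊕ H⁰(ω((1+b)B))
⊆ H⁰(O(a+b))` is the space of polynomials of degree at most `a+b` with vanishing coefficient of
`X^a`, and `V = V_{a,b}(-iP)` (divided by `(X+1)^i`) is the space of `G` of degree at most `a+b-i`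
such that the coefficient of `X^a` in `(X+1)^i G` vanishes; it is a linear system of dimension and
degree `a+b-i`. Then no point of the projective line other than `A` and `B` is a special
ramification point of `V` (a point of weight at least two); for such a system a point `q` of the
affine line is special exactly when two independent members are divisible by `(X-q)^(a+b-i-1)`, so
the statement is that this fails for every `q ≠ 0`. (The published statement does not except `A` and
`B`, but `A` has weight `max(b-i, 0)` in `V`, which is `2` for `a = 1, b = 3, i = 1`: there `X^3`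
and `X^2` both lie in `V`. It is stated over the complex numbers.) -/
theorem result
    (k : Type*) [Field k] [CharZero k] (a b i : ℕ) (ha : 0 < a) (hb : 0 < b) (hi : 0 < i) (hiab : i < a + b)
    (V : Submodule k (Polynomial k))
    (hV : V = Polynomial.degreeLE k ↑(a + b - i) ⊓
      LinearMap.ker ((Polynomial.lcoeff k a).comp (LinearMap.mulLeft k (((X : Polynomial k) + 1) ^ i))))
    (q : k) (hq : q ≠ 0) :
    Module.finrank k ↥(V ⊓ (Ideal.span {(X - C q) ^ (a + b - i - 1)}).restrictScalars k) ≤ 1 := by
  classical
  obtain ⟨m, hm⟩ : ∃ m, a + b - i - 1 = m := ⟨_, rfl⟩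
  have hdeg : a + b - i = m + 1 := by omega
  obtain ⟨a', rfl⟩ : ∃ a', a = a' + 1 := ⟨a - 1, by omega⟩
  rw [hm]
  have hne := Groth.Agent.Lib.Helper82.PolyODE.H_coeff_ne i m q hq a' (by omega)
  have hHdef : Groth.Agent.Lib.Helper82.PolyODE.H i m q = (X + 1) ^ i * (X - C q) ^ m := rfl
  generalize Groth.Agent.Lib.Helper82.PolyODE.H i m q = Hp at hne hHdef
  set c0 := Hp.coeff a' with hc0
  set c1 := Hp.coeff (a' + 1) with hc1
  have hle : V ⊓ (Ideal.span {(X - C q) ^ m}).restrictScalars k ≤
      Submodule.span k {(X - C q) ^ m * (C c0 - C c1 * X)} := by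
    intro w hw
    obtain ⟨hwV, hwS⟩ := hw
    rw [hV] at hwV
    obtain ⟨hwdeg, hwker⟩ := hwV
    rw [SetLike.mem_coe, Submodule.restrictScalars_mem, Ideal.mem_span_singleton] at hwS
    obtain ⟨L, rfl⟩ := hwS
    by_cases hL : L = 0
    · rw [hL, mul_zero]
      exact Submodule.zero_mem _
    have hLdeg : L.natDegree ≤ 1 := by
      rw [SetLike.mem_coe, Polynomial.mem_degreeLE, hdeg] at hwdeg
      have h1 := natDegree_le_of_degree_le hwdeg
      rw [((monic_X_sub_C q).pow m).natDegree_mul' hL, (monic_X_sub_C q).natDegree_pow,
        natDegree_X_sub_C] at h1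
      omega
    have hLeq := eq_X_add_C_of_natDegree_le_one hLdeg
    set α := L.coeff 0
    set β := L.coeff 1
    have hker : β * c0 + α * c1 = 0 := by
      rw [SetLike.mem_coe, LinearMap.mem_ker, LinearMap.comp_apply, LinearMap.mulLeft_apply,
        lcoeff_apply, ← mul_assoc, ← hHdef, hLeq] at hwker
      have e : Hp * (C β * X + C α) = C β * (Hp * X) + C α * Hp := by ring
      rw [e, coeff_add, coeff_C_mul, coeff_C_mul, coeff_mul_X] at hwker
      exact hwker
    rw [Submodule.mem_span_singleton]
    obtain ⟨l, hα, hβ⟩ : ∃ l : k, α = l * c0 ∧ β = -(l * c1) := by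
      by_cases h0 : c0 = 0
      · have h1 : c1 ≠ 0 := fun h1 => hne h0 h1
        have hα0 : α = 0 := by
          rw [h0, mul_zero, zero_add] at hker
          exact (mul_eq_zero.1 hker).resolve_right h1
        refine ⟨-β / c1, ?_, ?_⟩
        · rw [hα0, h0, mul_zero]
        · field_simp
      · refine ⟨α / c0, ?_, ?_⟩
        · field_simp
        · field_simp
          linear_combination hker
    refine ⟨l, ?_⟩
    rw [hLeq, hα, hβ]
    simp only [smul_eq_C_mul, C_mul, C_neg]
    ring
  have hfin : Module.finrank k ↥(Submodule.span k {(X - C q) ^ m * (C c0 - C c1 * X)}) ≤ 1 :=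
    (finrank_span_le_card ({(X - C q) ^ m * (C c0 - C c1 * X)} : Set k[X])).trans (by simp)
  exact (Submodule.finrank_mono hle).trans hfin

end Groth.Agent.S16262
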