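import Groth.Statements.S16263
import Mathlib

set_option autoImplicit false
open W4c3wronskmg

namespace Groth.Agent.S16263

open Polynomial in
/-- Let `k` be a field of characteristic zero and `a` a positive integer. On the projective line with `A
= 0`, `B = -1`, `C = ∞`, the `(a+1)`-dimensional system `V = H⁰(ω((1+a)C)) ⊕ H⁰(ω(A+B)) ⊆
H⁰(ω((1+a)C + A + B)) ≅ H⁰(O(a+1))` is, in the affine coordinate, the space of polynomials `c + X
(X+1) F` with `c` a constant and `deg F ≤ a - 1`. Then `V` has no special ramification point (no
point of weight at least two): since the members have degree at most `a + 1`, this says that for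
every point `p` of the affine line at most a one-dimensional subspace of `V` is divisible by
`(X-p)^a`, and at `C` that at most a one-dimensional subspace has degree at most one (degree less
than two). (The published statement carries two further positive integers `i, j` with `i + j = a -
1`, used only in its second assertion, and is over the complex numbers.) -/
theorem result
    (k : Type*) [Field k] [CharZero k] (a : ℕ) (ha : 0 < a)
    (V : Submodule k (Polynomial k))
    (hV : V = Submodule.span k {(1 : Polynomial k)} ⊔
      ((Ideal.span {(X : Polynomial k) * (X + 1)}).restrictScalars k ⊓ Polynomial.degreeLE k ↑(a + 1))) :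
    (∀ p : k, Module.finrank k ↥(V ⊓ (Ideal.span {(X - C p) ^ a}).restrictScalars k) ≤ 1) ∧
      Module.finrank k ↥(V ⊓ Polynomial.degreeLT k 2) ≤ 1 := by
  classical
  -- necessary conditions for membership in `V`
  have hVmem : ∀ g ∈ V, g ∈ Polynomial.degreeLE k ↑(a + 1) ∧ g.eval 0 = g.eval (-1) := by
    intro g hg
    rw [hV, Submodule.mem_sup] at hg
    obtain ⟨y, hy, z, hz, rfl⟩ := hg
    obtain ⟨c, rfl⟩ := Submodule.mem_span_singleton.1 hy
    obtain ⟨hz1, hz2⟩ := hz
    have hz1' : z ∈ Ideal.span {(X : Polynomial k) * (X + 1)} := hz1
    obtain ⟨F, rfl⟩ := Ideal.mem_span_singleton.1 hz1'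
    constructor
    · refine Submodule.add_mem _ ?_ hz2
      rw [Polynomial.mem_degreeLE]
      have : c • (1 : Polynomial k) = Polynomial.C c := by
        rw [Polynomial.smul_eq_C_mul, mul_one]
      rw [this]
      exact (Polynomial.degree_C_le).trans (by exact_mod_cast Nat.zero_le _)
    · simp
  have hfin2 : Module.Finite k (Polynomial.degreeLT k 2) :=
    Module.Finite.equiv (Polynomial.degreeLTEquiv k 2).symm
  have hrank2 : Module.finrank k (Polynomial.degreeLT k 2) = 2 := by
    rw [LinearEquiv.finrank_eq (Polynomial.degreeLTEquiv k 2), Module.finrank_fin_fun]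
  constructor
  · intro p
    set q : Polynomial k := (X - C p) ^ a with hq
    have hq0 : q ≠ 0 := pow_ne_zero _ (Polynomial.X_sub_C_ne_zero p)
    have hqdeg : q.natDegree = a := by
      rw [hq, Polynomial.natDegree_pow, Polynomial.natDegree_X_sub_C, mul_one]
    let T : Submodule k (Polynomial k) :=
      (Polynomial.degreeLT k 2).map (LinearMap.mulLeft k q)
    have hTfin : Module.Finite k T := Module.Finite.map _ _
    have hTrank : Module.finrank k T ≤ 2 := by
      have := Submodule.finrank_map_le (LinearMap.mulLeft k q) (Polynomial.degreeLT k 2)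
      rwa [hrank2] at this
    have hST : V ⊓ (Ideal.span {q}).restrictScalars k ≤ T := by
      rintro g ⟨hgV, hgI⟩
      have hgI' : g ∈ Ideal.span {q} := hgI
      obtain ⟨h, rfl⟩ := Ideal.mem_span_singleton.1 hgI'
      refine ⟨h, ?_, rfl⟩
      rw [SetLike.mem_coe, Polynomial.mem_degreeLT]
      by_cases hh : h = 0
      · rw [hh, Polynomial.degree_zero]; exact WithBot.bot_lt_coe _
      · have h1 := (hVmem _ hgV).1
        rw [Polynomial.mem_degreeLE] at h1
        have h2 : (q * h).natDegree ≤ a + 1 := Polynomial.natDegree_le_of_degree_le h1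
        rw [Polynomial.natDegree_mul hq0 hh, hqdeg] at h2
        have h3 : h.natDegree ≤ 1 := by omega
        have h4 : h.degree ≤ 1 := Polynomial.degree_le_of_natDegree_le h3
        exact lt_of_le_of_lt h4 (by norm_num)
    -- an element of `T` outside `V`
    have hex : ∃ t₀ ∈ T, t₀ ∉ V := by
      by_cases hp : p = -1
      · refine ⟨q * 1, ⟨1, ?_, rfl⟩, ?_⟩
        · rw [SetLike.mem_coe, Polynomial.mem_degreeLT, Polynomial.degree_one]; norm_num
        · intro hmem
          have := (hVmem _ hmem).2
          rw [hq, hp] at this
          simp [ha.ne'] at this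
      · refine ⟨q * X, ⟨X, ?_, rfl⟩, ?_⟩
        · rw [SetLike.mem_coe, Polynomial.mem_degreeLT, Polynomial.degree_X]; norm_num
        · intro hmem
          have := (hVmem _ hmem).2
          rw [hq] at this
          simp only [Polynomial.eval_mul, Polynomial.eval_pow, Polynomial.eval_sub,
            Polynomial.eval_X, Polynomial.eval_C, mul_zero, mul_neg, mul_one] at this
          have h5 : (-1 - p) ^ a = 0 := by
            have := this.symm
            rwa [neg_eq_zero] at this
          have h6 : -1 - p = 0 := pow_eq_zero_iff ha.ne' |>.1 h5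
          apply hp
          linear_combination -h6
    obtain ⟨t₀, ht₀T, ht₀V⟩ := hex
    have hlt : V ⊓ (Ideal.span {q}).restrictScalars k < T := by
      refine lt_of_le_of_ne hST ?_
      intro heq
      rw [← heq] at ht₀T
      exact ht₀V ht₀T.1
    have := Submodule.finrank_lt_finrank_of_lt hlt
    omega
  · have hle : V ⊓ Polynomial.degreeLT k 2 ≤ Submodule.span k {(1 : Polynomial k)} := by
      rintro g ⟨hgV, hgd⟩
      rw [SetLike.mem_coe, Polynomial.mem_degreeLT] at hgd
      have h1 : g.degree ≤ 1 := Order.le_of_lt_succ hgd
      have h2 := Polynomial.eq_X_add_C_of_degree_le_one h1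
      have h3 := (hVmem _ hgV).2
      rw [h2] at h3
      simp only [Polynomial.eval_add, Polynomial.eval_mul, Polynomial.eval_C, Polynomial.eval_X,
        mul_zero, zero_add, mul_neg, mul_one] at h3
      have h4 : g.coeff 1 = 0 := by linear_combination h3
      rw [h2, h4, map_zero, zero_mul, zero_add]
      rw [Submodule.mem_span_singleton]
      exact ⟨g.coeff 0, by rw [Polynomial.smul_eq_C_mul, mul_one]⟩
    have h1 : Module.finrank k (Submodule.span k {(1 : Polynomial k)}) = 1 :=
      finrank_span_singleton one_ne_zero
    have := Submodule.finrank_mono hle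
    omega

end Groth.Agent.S16263
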