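import Groth.Statements.S16264
import Mathlib

set_option autoImplicit false
open W4c3wronskmg

namespace Groth.Agent.S16264

open Polynomial in
/-- Let `k` be a field of characteristic zero and `a, i, j` positive integers with `i + j = a - 1`. With
`A = 0`, `B = -1`, `C = ∞` on the projective line and `V` the `(a+1)`-dimensional system of
polynomials `c + X (X+1) F`, `deg F ≤ a - 1` (that is, `H⁰(ω((1+a)C)) ⊕ H⁰(ω(A+B)) ⊆ H⁰(O(a+1))`),
the pairs of points `(P, Q) = (p, q)` of the affine line with `dim V(-iP-jQ) ≥ 3`, i.e. with at
least a three-dimensional subspace of `V` divisible by `(X-p)^i (X-q)^j`, are exactly `(A, B)` and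
`(B, A)`. (Here `P, Q` range over the points other than `C`; when one of them is `C` the dimension
is at most two for degree reasons. The published statement is over the complex numbers.) -/
theorem result
    (k : Type*) [Field k] [CharZero k] (a i j : ℕ) (hi : 0 < i) (hj : 0 < j) (hij : i + j + 1 = a)
    (V : Submodule k (Polynomial k))
    (hV : V = Submodule.span k {(1 : Polynomial k)} ⊔
      ((Ideal.span {(X : Polynomial k) * (X + 1)}).restrictScalars k ⊓ Polynomial.degreeLE k ↑(a + 1)))
    (p q : k) :
    3 ≤ Module.finrank k ↥(V ⊓ (Ideal.span {(X - C p) ^ i * (X - C q) ^ j}).restrictScalars k) ↔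
      (p = 0 ∧ q = -1) ∨ (p = -1 ∧ q = 0) := by
  classical
  -- necessary conditions for membership in `V`
  have hVmem : ∀ g ∈ V, g ∈ Polynomial.degreeLE k ↑(a + 1) ∧ g.eval 0 = g.eval (-1) := by
    intro g hg
    rw [hV, Submodule.mem_sup] at hg
    obtain ⟨y, hy, z, hz, rfl⟩ := hg
    obtain ⟨c, rfl⟩ := Submodule.mem_span_singleton.1 hy
    obtain ⟨hz1, hz2⟩ := hz
    have hz1' : z ∈ Ideal.span {(X : Polynomial k) * (X + 1)} := hz1
    obtain ⟨F, rfl⟩ := Ideal.mem_span_singleton.1 hz1'
    constructor
    · refine Submodule.add_mem _ ?_ hz2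
      rw [Polynomial.mem_degreeLE]
      have : c • (1 : Polynomial k) = Polynomial.C c := by
        rw [Polynomial.smul_eq_C_mul, mul_one]
      rw [this]
      exact (Polynomial.degree_C_le).trans (by exact_mod_cast Nat.zero_le _)
    · simp
  have hVle : V ≤ Polynomial.degreeLE k ↑(a + 1) := fun g hg => (hVmem g hg).1
  have hfin3 : Module.Finite k (Polynomial.degreeLT k 3) :=
    Module.Finite.equiv (Polynomial.degreeLTEquiv k 3).symm
  have hrank3 : Module.finrank k (Polynomial.degreeLT k 3) = 3 := by
    rw [LinearEquiv.finrank_eq (Polynomial.degreeLTEquiv k 3), Module.finrank_fin_fun]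
  set Q : Polynomial k := (X - C p) ^ i * (X - C q) ^ j with hQ
  have hQ0 : Q ≠ 0 :=
    mul_ne_zero (pow_ne_zero _ (Polynomial.X_sub_C_ne_zero p))
      (pow_ne_zero _ (Polynomial.X_sub_C_ne_zero q))
  have hQdeg : Q.natDegree = i + j := by
    rw [hQ, Polynomial.natDegree_mul (pow_ne_zero _ (Polynomial.X_sub_C_ne_zero p))
      (pow_ne_zero _ (Polynomial.X_sub_C_ne_zero q)), Polynomial.natDegree_pow,
      Polynomial.natDegree_pow, Polynomial.natDegree_X_sub_C, Polynomial.natDegree_X_sub_C,
      mul_one, mul_one]
  have hinj : Function.Injective (LinearMap.mulLeft k Q) := by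
    intro x y hxy
    exact mul_left_cancel₀ hQ0 hxy
  let T : Submodule k (Polynomial k) :=
    (Polynomial.degreeLT k 3).map (LinearMap.mulLeft k Q)
  have hTfin : Module.Finite k T := Module.Finite.map _ _
  have hTrank : Module.finrank k T = 3 := by
    rw [← hrank3]
    exact (Submodule.equivMapOfInjective (LinearMap.mulLeft k Q) hinj
      (Polynomial.degreeLT k 3)).finrank_eq.symm
  have hST : V ⊓ (Ideal.span {Q}).restrictScalars k ≤ T := by
    rintro g ⟨hgV, hgI⟩
    have hgI' : g ∈ Ideal.span {Q} := hgI
    obtain ⟨h, rfl⟩ := Ideal.mem_span_singleton.1 hgI'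
    refine ⟨h, ?_, rfl⟩
    rw [SetLike.mem_coe, Polynomial.mem_degreeLT]
    by_cases hh : h = 0
    · rw [hh, Polynomial.degree_zero]; exact WithBot.bot_lt_coe _
    · have h1 := (hVmem _ hgV).1
      rw [Polynomial.mem_degreeLE] at h1
      have h2 : (Q * h).natDegree ≤ a + 1 := Polynomial.natDegree_le_of_degree_le h1
      rw [Polynomial.natDegree_mul hQ0 hh, hQdeg] at h2
      have h3 : h.natDegree ≤ 2 := by omega
      have h4 : h.degree ≤ 2 := Polynomial.degree_le_of_natDegree_le h3
      exact lt_of_le_of_lt h4 (by norm_num)
  have hSfin : Module.Finite k ↥(V ⊓ (Ideal.span {Q}).restrictScalars k) :=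
    Submodule.finiteDimensional_of_le hST
  have hevQ0 : Q.eval 0 = (-p) ^ i * (-q) ^ j := by
    simp [hQ]
  have hevQ1 : Q.eval (-1) = (-1 - p) ^ i * (-1 - q) ^ j := by
    simp [hQ]
  constructor
  · intro h3
    by_contra hcon
    -- an element of `T` outside `V`
    have hex : ∃ t₀ ∈ T, t₀ ∉ V := by
      by_cases hA : Q.eval 0 = 0
      · by_cases hB : Q.eval (-1) = 0
        · exfalso
          apply hcon
          rw [hevQ0] at hA
          rw [hevQ1] at hB
          have hA' : p = 0 ∨ q = 0 := by
            rcases mul_eq_zero.1 hA with h | h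
            · left; exact neg_eq_zero.1 (pow_eq_zero_iff hi.ne' |>.1 h)
            · right; exact neg_eq_zero.1 (pow_eq_zero_iff hj.ne' |>.1 h)
          have hB' : p = -1 ∨ q = -1 := by
            rcases mul_eq_zero.1 hB with h | h
            · left
              have := pow_eq_zero_iff hi.ne' |>.1 h
              linear_combination -this
            · right
              have := pow_eq_zero_iff hj.ne' |>.1 h
              linear_combination -this
          rcases hA' with hp | hq
          · rcases hB' with hp' | hq'
            · exfalso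
              rw [hp] at hp'
              have : (1 : k) = 0 := by linear_combination hp'
              exact one_ne_zero this
            · exact Or.inl ⟨hp, hq'⟩
          · rcases hB' with hp' | hq'
            · exact Or.inr ⟨hp', hq⟩
            · exfalso
              rw [hq] at hq'
              have : (1 : k) = 0 := by linear_combination hq'
              exact one_ne_zero this
        · refine ⟨Q * X, ⟨X, ?_, rfl⟩, ?_⟩
          · rw [SetLike.mem_coe, Polynomial.mem_degreeLT, Polynomial.degree_X]; norm_num
          · intro hmem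
            have := (hVmem _ hmem).2
            simp only [Polynomial.eval_mul, Polynomial.eval_X, mul_zero, mul_neg, mul_one] at this
            apply hB
            have h' := this.symm
            rwa [neg_eq_zero] at h'
      · refine ⟨Q * (X + 1), ⟨X + 1, ?_, rfl⟩, ?_⟩
        · rw [SetLike.mem_coe, Polynomial.mem_degreeLT]
          refine lt_of_le_of_lt (Polynomial.degree_X_add_C (1 : k)).le ?_
          norm_num
        · intro hmem
          have := (hVmem _ hmem).2
          simp only [Polynomial.eval_mul, Polynomial.eval_add, Polynomial.eval_X,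
            Polynomial.eval_one, zero_add, mul_one, neg_add_cancel, mul_zero] at this
          exact hA this
    obtain ⟨t₀, ht₀T, ht₀V⟩ := hex
    have hlt : V ⊓ (Ideal.span {Q}).restrictScalars k < T := by
      refine lt_of_le_of_ne hST ?_
      intro heq
      rw [← heq] at ht₀T
      exact ht₀V ht₀T.1
    have := Submodule.finrank_lt_finrank_of_lt hlt
    omega
  · intro hpq
    have hTS : T ≤ V ⊓ (Ideal.span {Q}).restrictScalars k := by
      rintro _ ⟨h, hh, rfl⟩
      rw [SetLike.mem_coe, Polynomial.mem_degreeLT] at hh
      have hdvd : (X : Polynomial k) * (X + 1) ∣ Q := by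
        rcases hpq with ⟨hp, hq⟩ | ⟨hp, hq⟩
        · rw [hQ, hp, hq]
          simp only [map_zero, sub_zero, map_neg, map_one, sub_neg_eq_add]
          exact mul_dvd_mul (dvd_pow_self _ hi.ne') (dvd_pow_self _ hj.ne')
        · rw [hQ, hp, hq]
          simp only [map_zero, sub_zero, map_neg, map_one, sub_neg_eq_add]
          rw [mul_comm (X : Polynomial k) (X + 1)]
          exact mul_dvd_mul (dvd_pow_self _ hi.ne') (dvd_pow_self _ hj.ne')
      refine ⟨?_, ?_⟩
      · rw [hV]
        refine Submodule.mem_sup_right ⟨?_, ?_⟩
        · show (LinearMap.mulLeft k Q) h ∈ Ideal.span {(X : Polynomial k) * (X + 1)}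
          rw [Ideal.mem_span_singleton]
          exact Dvd.dvd.mul_right hdvd h
        · show (LinearMap.mulLeft k Q) h ∈ Polynomial.degreeLE k ↑(a + 1)
          rw [Polynomial.mem_degreeLE]
          have h1 : h.degree ≤ 2 := Order.le_of_lt_succ hh
          have h2 : h.natDegree ≤ 2 := Polynomial.natDegree_le_of_degree_le h1
          have h3 : (Q * h).natDegree ≤ a + 1 := by
            refine (Polynomial.natDegree_mul_le).trans ?_
            rw [hQdeg]; omega
          exact Polynomial.degree_le_of_natDegree_le h3
      · show (LinearMap.mulLeft k Q) h ∈ Ideal.span {Q}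
        rw [Ideal.mem_span_singleton]
        exact Dvd.intro h rfl
    have := Submodule.finrank_mono hTS
    omega

end Groth.Agent.S16264
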