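import Groth.Statements.S16265
import Groth.Agent.FunFld.LinSys2

set_option autoImplicit false
open FunFld

namespace Groth.Agent.S16265

/-- Let `K/k` be a function field of one variable over an algebraically closed field `k` of
characteristic zero (the function field of a smooth projective curve), `D` a divisor and `V ⊆ L(D)`
a linear system of dimension `r + 1`; write `V(-mP-nQ) = V ∩ L(D - mP - nQ)` for the members
vanishing to the indicated orders. Assume `V` has no special ramification point, i.e. no place of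
weight at least two: for every place `R`, `dim V(-rR) ≤ 1` and `V(-(r+2)R) = 0`. Let `P ≠ Q` be
places and `a, b ≥ 1` with `a + b = r + 1` (so that `V(-aP)` and `V(-bQ)` have dimensions `b` and
`a`). Then the following are equivalent: (1) the system `V(-aP)` has weight at least two at `Q`,
that is `dim V(-aP-(b-1)Q) ≥ 2` or `dim V(-aP-(b+1)Q) ≥ 1`, and the system `V(-bQ)` has weight at
least two at `P`, that is `dim V(-(a-1)P-bQ) ≥ 2` or `dim V(-(a+1)P-bQ) ≥ 1`; (2) one of (a) `dim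
V(-(a+1)P-(b+1)Q) ≥ 1`, (b) `dim V(-(a-1)P-(b-1)Q) ≥ 3`, (c) `dim V(-aP-(b+1)Q) ≥ 1` and `dim
V(-(a-1)P-bQ) ≥ 2`, (d) `dim V(-(a+1)P-bQ) ≥ 1` and `dim V(-aP-(b-1)Q) ≥ 2`. (The published
statement is for a smooth curve over the complex numbers.) -/
theorem result
    (k K : Type*) [Field k] [IsAlgClosed k] [CharZero k] [Field K] [Algebra k K]
    (hK : FunFld.IsFunctionField k K) (D : FunFld.Divisor k K)
    (V : Submodule k K) (hVD : V ≤ FunFld.L D) (r : ℕ) (hr : Module.finrank k ↥V = r + 1)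
    (hns : ∀ R : FunFld.Place k K,
      Module.finrank k ↥(V ⊓ FunFld.L (D - Finsupp.single R (r : ℤ))) ≤ 1 ∧
        V ⊓ FunFld.L (D - Finsupp.single R ((r : ℤ) + 2)) = ⊥)
    (P Q : FunFld.Place k K) (hPQ : P ≠ Q) (a b : ℕ) (ha : 1 ≤ a) (hb : 1 ≤ b) (hab : a + b = r + 1) :
    ((2 ≤ Module.finrank k ↥(V ⊓ FunFld.L (D - Finsupp.single P (a : ℤ) - Finsupp.single Q ((b : ℤ) - 1 : ℤ))) ∨
        1 ≤ Module.finrank k ↥(V ⊓ FunFld.L (D - Finsupp.single P (a : ℤ) - Finsupp.single Q ((b : ℤ) + 1 : ℤ)))) ∧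
      (2 ≤ Module.finrank k ↥(V ⊓ FunFld.L (D - Finsupp.single P ((a : ℤ) - 1 : ℤ) - Finsupp.single Q (b : ℤ))) ∨
        1 ≤ Module.finrank k ↥(V ⊓ FunFld.L (D - Finsupp.single P ((a : ℤ) + 1 : ℤ) - Finsupp.single Q (b : ℤ))))) ↔
    (1 ≤ Module.finrank k ↥(V ⊓ FunFld.L (D - Finsupp.single P ((a : ℤ) + 1 : ℤ) - Finsupp.single Q ((b : ℤ) + 1 : ℤ))) ∨
      3 ≤ Module.finrank k ↥(V ⊓ FunFld.L (D - Finsupp.single P ((a : ℤ) - 1 : ℤ) - Finsupp.single Q ((b : ℤ) - 1 : ℤ))) ∨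
      (1 ≤ Module.finrank k ↥(V ⊓ FunFld.L (D - Finsupp.single P (a : ℤ) - Finsupp.single Q ((b : ℤ) + 1 : ℤ))) ∧
        2 ≤ Module.finrank k ↥(V ⊓ FunFld.L (D - Finsupp.single P ((a : ℤ) - 1 : ℤ) - Finsupp.single Q (b : ℤ)))) ∨
      (1 ≤ Module.finrank k ↥(V ⊓ FunFld.L (D - Finsupp.single P ((a : ℤ) + 1 : ℤ) - Finsupp.single Q (b : ℤ))) ∧
        2 ≤ Module.finrank k ↥(V ⊓ FunFld.L (D - Finsupp.single P (a : ℤ) - Finsupp.single Q ((b : ℤ) - 1 : ℤ))))) := by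
  set d : ℤ → ℤ → ℕ := fun m n => Groth.Agent.FF.vdim2 V D P Q m n with hd
  set A : ℤ := (a : ℤ) with hA
  set B : ℤ := (b : ℤ) with hB
  show ((2 ≤ d A (B - 1) ∨ 1 ≤ d A (B + 1)) ∧ (2 ≤ d (A - 1) B ∨ 1 ≤ d (A + 1) B)) ↔
    (1 ≤ d (A + 1) (B + 1) ∨ 3 ≤ d (A - 1) (B - 1) ∨ (1 ≤ d A (B + 1) ∧ 2 ≤ d (A - 1) B) ∨
      (1 ≤ d (A + 1) B ∧ 2 ≤ d A (B - 1)))
  have eA : A - 1 + 1 = A := by ring
  have eB : B - 1 + 1 = B := by ring
  have mP : ∀ m n, d (m + 1) n ≤ d m n := fun m n =>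
    Groth.Agent.FF.vdim2_succ_left_le hK V D P Q m n
  have mQ : ∀ m n, d m (n + 1) ≤ d m n := fun m n =>
    Groth.Agent.FF.vdim2_succ_right_le hK V D P Q m n
  have sP : ∀ m n, d m n ≤ d (m + 1) n + 1 := fun m n =>
    Groth.Agent.FF.vdim2_le_succ_left hK V D P Q m n
  have sQ : ∀ m n, d m n ≤ d m (n + 1) + 1 := fun m n =>
    Groth.Agent.FF.vdim2_le_succ_right hK V D P Q m n
  have corner : ∀ m n, d m n ≤ d (m + 1) n → d m n ≤ d m (n + 1) →
      d (m + 1) (n + 1) = d m n := fun m n h1 h2 =>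
    Groth.Agent.FF.vdim2_corner hK V D P Q hPQ h1 h2
  have m0 := mP (A - 1) (B - 1)
  have m0' := mQ (A - 1) (B - 1)
  have s1 := sP (A - 1) (B - 1)
  have s2 := sQ (A - 1) (B - 1)
  have corner1 := corner (A - 1) (B - 1)
  rw [eA] at m0 s1 corner1
  rw [eB] at m0' s2 corner1
  have s3 := sP A B
  have m1 := mP A (B + 1)
  have m2 := mQ (A + 1) B
  have m3 := mP (A - 1) B
  rw [eA] at m3
  have m4 := mQ A B
  have m5 := mP A B
  have corner2 := corner A B
  constructor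
  · rintro ⟨h1 | h1, h2 | h2⟩
    · by_cases h3 : 3 ≤ d (A - 1) (B - 1)
      · exact Or.inr (Or.inl h3)
      · have hc := corner1 (by omega) (by omega)
        right; right; right
        exact ⟨by omega, h1⟩
    · right; right; right
      exact ⟨h2, h1⟩
    · right; right; left
      exact ⟨h1, h2⟩
    · by_cases h3 : 2 ≤ d A B
      · right; right; left
        exact ⟨h1, by omega⟩
      · have hc := corner2 (by omega) (by omega)
        left
        omega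
  · rintro (h | h | ⟨h1, h2⟩ | ⟨h1, h2⟩)
    · exact ⟨Or.inr (by omega), Or.inr (by omega)⟩
    · exact ⟨Or.inl (by omega), Or.inl (by omega)⟩
    · exact ⟨Or.inr h1, Or.inl h2⟩
    · exact ⟨Or.inl h2, Or.inr h1⟩

end Groth.Agent.S16265
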