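import Groth.Statements.S16266
import Groth.Agent.FunFld.LinSeries

set_option autoImplicit false
open FunFld

namespace Groth.Agent.S16266

/-- Let `K/k` be a function field of one variable over an algebraically closed field `k` of
characteristic zero, `D` a divisor, `V ⊆ L(D)` a linear system of dimension `r + 1` with `r ≥ 1`,
and `P` a place with `V' = V(-P) = V ∩ L(D - P) ≠ V`, an `r`-dimensional system in `L(D - P)`.
Assume that neither `V` nor `V'` has a special ramification point (a place of weight at least two):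
for every place `R`, `dim V ∩ L(D - rR) ≤ 1`, `V ∩ L(D - (r+2)R) = 0`, `dim V' ∩ L(D - P - (r-1)R) ≤
1` and `V' ∩ L(D - P - (r+1)R) = 0`. Then no place `Q ≠ P` is a ramification point of both `V` and
`V'`: for no such `Q` are both `V ∩ L(D - (r+1)Q)` and `V' ∩ L(D - P - rQ)` nonzero. (The published
statement is for a smooth curve over the complex numbers.) -/
theorem result
    (k K : Type*) [Field k] [IsAlgClosed k] [CharZero k] [Field K] [Algebra k K]
    (hK : FunFld.IsFunctionField k K) (D : FunFld.Divisor k K)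
    (V : Submodule k K) (hVD : V ≤ FunFld.L D) (r : ℕ) (hr : Module.finrank k ↥V = r + 1) (hr1 : 1 ≤ r)
    (P : FunFld.Place k K) (hP : V ⊓ FunFld.L (D - Finsupp.single P 1) ≠ V)
    (hns : ∀ R : FunFld.Place k K,
      Module.finrank k ↥(V ⊓ FunFld.L (D - Finsupp.single R (r : ℤ))) ≤ 1 ∧
        V ⊓ FunFld.L (D - Finsupp.single R ((r : ℤ) + 2)) = ⊥)
    (hns' : ∀ R : FunFld.Place k K,
      Module.finrank k ↥(V ⊓ FunFld.L (D - Finsupp.single P 1 - Finsupp.single R ((r : ℤ) - 1))) ≤ 1 ∧
        V ⊓ FunFld.L (D - Finsupp.single P 1 - Finsupp.single R ((r : ℤ) + 1)) = ⊥)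
    (Q : FunFld.Place k K) (hQP : Q ≠ P) :
    ¬ (V ⊓ FunFld.L (D - Finsupp.single Q ((r : ℤ) + 1)) ≠ ⊥ ∧
       V ⊓ FunFld.L (D - Finsupp.single P 1 - Finsupp.single Q (r : ℤ)) ≠ ⊥) := by
  classical
  rintro ⟨h1, h2⟩
  have hfin : FiniteDimensional k ↥(L D) := Groth.Agent.FF.finite_L hK D
  -- `V ∩ L(D - (r+1)Q) = V ∩ L(D - rQ)`
  have hle : V ⊓ FunFld.L (D - Finsupp.single Q ((r : ℤ) + 1)) ≤
      V ⊓ FunFld.L (D - Finsupp.single Q (r : ℤ)) :=
    inf_le_inf_left V (Groth.Agent.FF.L_mono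
      (Groth.Agent.FF.sub_single_le D Q (by omega)))
  have hfin2 : FiniteDimensional k ↥(V ⊓ FunFld.L (D - Finsupp.single Q (r : ℤ))) := by
    have : FiniteDimensional k ↥(FunFld.L (D - Finsupp.single Q (r : ℤ))) :=
      Groth.Agent.FF.finite_L hK _
    exact Submodule.finiteDimensional_inf_right _ _
  have heq : V ⊓ FunFld.L (D - Finsupp.single Q ((r : ℤ) + 1)) =
      V ⊓ FunFld.L (D - Finsupp.single Q (r : ℤ)) := by
    apply Submodule.eq_of_le_of_finrank_le hle
    have hpos : 0 < Module.finrank k ↥(V ⊓ FunFld.L (D - Finsupp.single Q ((r : ℤ) + 1))) := by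
      have : FiniteDimensional k ↥(V ⊓ FunFld.L (D - Finsupp.single Q ((r : ℤ) + 1))) :=
        Submodule.finiteDimensional_of_le hle
      rw [Module.finrank_pos_iff, Submodule.nontrivial_iff_ne_bot]
      exact h1
    have := (hns Q).1
    omega
  obtain ⟨x, hx, hx0⟩ := Submodule.exists_mem_ne_zero_of_ne_bot h2
  have hx1 : x ∈ V ⊓ FunFld.L (D - Finsupp.single Q (r : ℤ)) := by
    refine ⟨hx.1, ?_⟩
    refine Groth.Agent.FF.L_mono ?_ hx.2
    rw [sub_sub, add_comm, ← sub_sub]
    exact sub_le_self _ (Groth.Agent.FF.single_nonneg' P (by norm_num))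
  rw [← heq] at hx1
  have hx2 : x ∈ V ⊓ FunFld.L (D - Finsupp.single P 1 - Finsupp.single Q ((r : ℤ) + 1)) := by
    refine ⟨hx.1, ?_⟩
    intro R
    by_cases hR : R = Q
    · subst hR
      have := hx1.2 R
      simp only [Finsupp.coe_sub, Pi.sub_apply, Finsupp.single_eq_same] at this ⊢
      rw [Finsupp.single_apply, if_neg (Ne.symm hQP), sub_zero]
      exact this
    · have := hx.2 R
      simp only [Finsupp.coe_sub, Pi.sub_apply] at this ⊢
      rw [Finsupp.single_apply (a := Q), if_neg (Ne.symm hR), sub_zero] at this ⊢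
      exact this
  rw [(hns' Q).2] at hx2
  exact hx0 ((Submodule.mem_bot k).mp hx2)

end Groth.Agent.S16266
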