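import Groth.Statements.S16268
import Mathlib

set_option autoImplicit false
universe u w
open CategoryTheory CategoryTheory.Limits AlgebraicGeometry Opposite
open EtCore

namespace Groth.Agent.S16268

/-- Let X be a scheme, Y an etale X-scheme with Y -> X surjective, and G a finite group acting on Y by
X-automorphisms such that the morphisms (id, g) : Y -> Y x_X Y exhibit Y x_X Y as the coproduct of
copies of Y indexed by G (Y -> X is a Galois covering with group G). Let P be a presheaf of sets on
the small etale site of X which takes this coproduct to a product: s |-> (g |-> (id, g)^* s) is a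
bijection from P(Y x_X Y) onto the G-indexed families in P(Y). Then P satisfies the sheaf condition
for the covering consisting of the single morphism Y -> X if and only if the restriction P(X) ->
P(Y) is injective and its image is the set of G-invariant elements of P(Y). -/
theorem result (X : Scheme.{u})
    (Y : X.Etale) (hY : Function.Surjective Y.hom.base)
    {G : Type u} [Group G] [Finite G] (σ : G →* Aut Y)
    (hgal : Nonempty (IsColimit (Cofan.mk (Y ⨯ Y) (fun g : G => prod.lift (𝟙 Y) (σ g).hom))))
    (P : X.Etaleᵒᵖ ⥤ Type w)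
    (hP : Function.Bijective (fun s : P.obj (op (Y ⨯ Y)) => fun g : G => P.map (prod.lift (𝟙 Y) (σ g).hom).op s)) :
    Presieve.IsSheafFor P (Presieve.singleton ((EtCore.topIsTerminal X).from Y)) ↔
      (Function.Injective (P.map ((EtCore.topIsTerminal X).from Y).op) ∧
        Set.range (P.map ((EtCore.topIsTerminal X).from Y).op) = {s | ∀ g : G, P.map (σ g).hom.op s = s}) := by
  have hterm : ∀ {Z : X.Etale} (a b : Z ⟶ EtCoh.top X), a = b :=
    fun a b => (EtCore.topIsTerminal X).hom_ext a b
  have mapcomp : ∀ {A B C : X.Etaleᵒᵖ} (f : A ⟶ B) (g : B ⟶ C) (a : P.obj A),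
      P.map (f ≫ g) a = P.map g (P.map f a) := by
    intros; simp
  rw [Presieve.isSheafFor_singleton]
  constructor
  · intro h
    have hinj : Function.Injective (P.map ((EtCore.topIsTerminal X).from Y).op) := by
      intro t t' htt
      have hcompat : ∀ {Z : X.Etale} (p₁ p₂ : Z ⟶ Y),
          p₁ ≫ (EtCore.topIsTerminal X).from Y = p₂ ≫ (EtCore.topIsTerminal X).from Y →
          P.map p₁.op (P.map ((EtCore.topIsTerminal X).from Y).op t) =
            P.map p₂.op (P.map ((EtCore.topIsTerminal X).from Y).op t) := by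
        intro Z p₁ p₂ hp
        rw [← mapcomp, ← mapcomp, ← op_comp,
          ← op_comp, hp]
      obtain ⟨y, hy, huniq⟩ := h (P.map ((EtCore.topIsTerminal X).from Y).op t) hcompat
      rw [huniq t rfl, huniq t' htt.symm]
    refine ⟨hinj, ?_⟩
    ext s
    constructor
    · rintro ⟨t, rfl⟩ g
      rw [← mapcomp, ← op_comp,
        hterm ((σ g).hom ≫ (EtCore.topIsTerminal X).from Y) ((EtCore.topIsTerminal X).from Y)]
    · intro hs
      have hpr : P.map (prod.fst : Y ⨯ Y ⟶ Y).op s = P.map (prod.snd : Y ⨯ Y ⟶ Y).op s := by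
        apply hP.1
        funext g
        show P.map (prod.lift (𝟙 Y) (σ g).hom).op (P.map (prod.fst : Y ⨯ Y ⟶ Y).op s) =
          P.map (prod.lift (𝟙 Y) (σ g).hom).op (P.map (prod.snd : Y ⨯ Y ⟶ Y).op s)
        rw [← mapcomp, ← mapcomp, ← op_comp,
          ← op_comp, prod.lift_fst, prod.lift_snd, hs g]
        simp
      obtain ⟨y, hy, -⟩ := h s (by
        intro Z p₁ p₂ _
        have e1 : P.map p₁.op s = P.map (prod.lift p₁ p₂).op (P.map (prod.fst : Y ⨯ Y ⟶ Y).op s) := by
          rw [← mapcomp, ← op_comp, prod.lift_fst]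
        have e2 : P.map p₂.op s = P.map (prod.lift p₁ p₂).op (P.map (prod.snd : Y ⨯ Y ⟶ Y).op s) := by
          rw [← mapcomp, ← op_comp, prod.lift_snd]
        rw [e1, e2, hpr])
      exact ⟨y, hy⟩
  · rintro ⟨hinj, hrange⟩ s hs
    have hmem : s ∈ {s | ∀ g : G, P.map (σ g).hom.op s = s} := by
      intro g
      have := hs ((σ g).hom) (𝟙 Y) (hterm _ _)
      simpa using this
    rw [← hrange] at hmem
    obtain ⟨t, ht⟩ := hmem
    exact ⟨t, ht, fun t' ht' => hinj (ht'.trans ht.symm)⟩

end Groth.Agent.S16268
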