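import Groth.Statements.S16269
import Mathlib
import Groth.Agent.Lib.Helper43.EtOpenSub
import Groth.Agent.Lib.Helper43.ClopenExt
import Groth.Agent.S14453

set_option autoImplicit false
universe u w
open CategoryTheory CategoryTheory.Limits AlgebraicGeometry Opposite
open EtCore

namespace Groth.Agent.S16269

open Groth.Agent.Lib.Helper43 Groth.Agent.Lib.Helper43.ClopenExt

section Helpers

variable {X : Scheme.{u}}

/-- the injections of a coproduct in the small étale site are jointly surjective -/
lemma jointly_surjective_of_isColimit {P : X.Etale} {ι : Type w} (Z : ι → X.Etale)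
    (c : ∀ i, Z i ⟶ P) (hc : IsColimit (Cofan.mk P c)) (x : P.left) :
    ∃ (i : ι) (z : (Z i).left), (c i).left.base z = x := by
  obtain ⟨PL, th, hth, rfl⟩ : ∃ (PL : Scheme.{u}) (th : PL ⟶ X) (hth : Etale th),
      P = @Scheme.Etale.mk _ _ th hth := ⟨P.left, P.hom, inferInstance, rfl⟩
  let O : PL.Opens := ⟨⋃ i, Set.range (c i).left.base, isOpen_iUnion fun i => by
    have : Etale (c i).left := inferInstanceAs (Etale (c i).left)
    exact (c i).left.isOpenMap.isOpen_range⟩
  have hr : ∀ i, Set.range (c i).left.base ⊆ (O : Set PL) := fun i =>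
    Set.subset_iUnion (fun i => Set.range (c i).left.base) i
  let c' : ∀ i, Z i ⟶ sub th O := fun i => liftSub th O (c i) (hr i)
  have hc' : ∀ i, c' i ≫ subι th O = c i := fun i => liftSub_ι th O (c i) (hr i)
  let d : Scheme.Etale.mk th ⟶ sub th O := Cofan.IsColimit.desc hc c'
  have hd : ∀ i, c i ≫ d = c' i := fun i => Cofan.IsColimit.fac hc c' i
  have hid : d ≫ subι th O = 𝟙 _ := by
    refine Cofan.IsColimit.hom_ext hc _ _ (fun i => ?_)
    change c i ≫ d ≫ subι th O = c i ≫ 𝟙 _
    rw [← Category.assoc, hd, hc', Category.comp_id]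
  have hx : x ∈ (O : Set PL) := by
    have h1 : (d ≫ subι th O).left.base x = x := by rw [hid]; rfl
    have h2 : (d ≫ subι th O).left.base x ∈ Set.range (subι th O).left.base := ⟨d.left.base x, rfl⟩
    rw [range_subι, h1] at h2
    exact h2
  obtain ⟨_, ⟨i, rfl⟩, z, hz⟩ := hx
  exact ⟨i, z, hz⟩

end Helpers


/-- Let X be a scheme, Y an etale X-scheme with Y -> X surjective, and G a finite group acting on Y by
X-automorphisms such that the morphisms (id, g) : Y -> Y x_X Y exhibit Y x_X Y as the coproduct of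
copies of Y indexed by G (a Galois covering with group G). For an abelian sheaf F on the small etale
site of X, the restriction map F(X) -> F(Y) is injective and its image is the set of sections of F
over Y fixed by every element of G. -/
theorem result (X : Scheme.{u})
    (Y : X.Etale) (hY : Function.Surjective Y.hom.base)
    {G : Type u} [Group G] [Finite G] (σ : G →* Aut Y)
    (hgal : Nonempty (IsColimit (Cofan.mk (Y ⨯ Y) (fun g : G => prod.lift (𝟙 Y) (σ g).hom))))
    (F : EtCoh.Ab X) :
    Function.Injective (F.obj.map ((EtCore.topIsTerminal X).from Y).op) ∧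
      Set.range (F.obj.map ((EtCore.topIsTerminal X).from Y).op) =
        {s : EtCoh.sect F Y | ∀ g : G, F.obj.map (σ g).hom.op s = s} := by
  obtain ⟨hcol⟩ := hgal
  let π : Y ⟶ EtCoh.top X := (EtCore.topIsTerminal X).from Y
  have hsh := (isSheaf_iff_isSheaf_of_type _ _).1
    ((Presheaf.isSheaf_iff_isSheaf_forget _ F.obj (forget AddCommGrpCat)).1 F.property)
  -- π is a covering
  have hπl : π.left ≫ (EtCoh.top X).hom = Y.hom := EtOpenSub.hom_left_eq π
  have hπsurj : Surjective π.left := by
    constructor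
    intro x
    obtain ⟨y, hy⟩ := hY ((EtCoh.top X).hom.base x)
    refine ⟨y, ?_⟩
    have h1 : (EtCoh.top X).hom.base (π.left.base y) = Y.hom.base y :=
      congrArg (fun m => m.base y) hπl
    have hinj : Function.Injective (EtCoh.top X).hom.base := by
      change Function.Injective (𝟙 X : X ⟶ X).base
      exact fun a b h => h
    exact hinj (h1.trans hy)
  have hcovπ : Sieve.generate (Presieve.singleton π) ∈ X.smallEtaleTopology (EtCoh.top X) :=
    Groth.Agent.S14453.generate_singleton_mem π
  have hshπ : Presieve.IsSheafFor (F.obj ⋙ forget AddCommGrpCat) (Presieve.singleton π) :=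
    (Presieve.isSheafFor_iff_generate _).2 (hsh _ hcovπ)
  -- the graphs cover Y ⨯ Y
  let c : G → (Y ⟶ Y ⨯ Y) := fun g => prod.lift (𝟙 Y) (σ g).hom
  let Sc : Sieve (Y ⨯ Y) :=
    { arrows := fun Z k => ∃ (g : G) (h : Z ⟶ Y), h ≫ c g = k
      downward_closed := by
        rintro Z₁ Z₂ k ⟨g, h, rfl⟩ a
        exact ⟨g, a ≫ h, Category.assoc _ _ _⟩ }
  have hSc : Sc ∈ X.smallEtaleTopology (Y ⨯ Y) := by
    refine (EtOpenSub.mem_smallEtaleTopology_iff' _ _).2 (fun x => ?_)
    obtain ⟨g, z, hz⟩ := jointly_surjective_of_isColimit (fun _ : G => Y) c hcol x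
    exact ⟨Y, c g, z, ⟨g, 𝟙 _, Category.id_comp _⟩, hz⟩
  have hinv : ∀ g : G, (σ g).hom ≫ π = π := fun g => (EtCore.topIsTerminal X).hom_ext _ _
  refine ⟨?_, ?_⟩
  · exact Presieve.isSeparatedFor_singleton.1 hshπ.isSeparatedFor
  · ext s
    constructor
    · rintro ⟨t, rfl⟩ g
      change F.obj.map (σ g).hom.op (F.obj.map π.op t) = F.obj.map π.op t
      have : F.obj.map (σ g).hom.op (F.obj.map π.op t) = F.obj.map ((σ g).hom ≫ π).op t := by
        rw [op_comp, F.obj.map_comp]
        rfl
      rw [this, hinv]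
    · intro hs
      have hs' : ∀ g : G, F.obj.map (σ g).hom.op s = s := hs
      -- the two pullbacks of `s` to `Y ⨯ Y` agree
      have hpr : F.obj.map (prod.fst : Y ⨯ Y ⟶ Y).op s = F.obj.map (prod.snd : Y ⨯ Y ⟶ Y).op s := by
        refine (hsh _ hSc).isSeparatedFor.ext (fun Z k hk => ?_)
        obtain ⟨g, h, rfl⟩ := hk
        change F.obj.map (h ≫ c g).op (F.obj.map prod.fst.op s) =
          F.obj.map (h ≫ c g).op (F.obj.map prod.snd.op s)
        have e1 : F.obj.map (h ≫ c g).op (F.obj.map (prod.fst : Y ⨯ Y ⟶ Y).op s) =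
            F.obj.map h.op (F.obj.map (c g ≫ prod.fst).op s) := by
          rw [op_comp, F.obj.map_comp, op_comp, F.obj.map_comp]
          rfl
        have e2 : F.obj.map (h ≫ c g).op (F.obj.map (prod.snd : Y ⨯ Y ⟶ Y).op s) =
            F.obj.map h.op (F.obj.map (c g ≫ prod.snd).op s) := by
          rw [op_comp, F.obj.map_comp, op_comp, F.obj.map_comp]
          rfl
        have f1 : c g ≫ prod.fst = 𝟙 Y := prod.lift_fst _ _
        have f2 : c g ≫ prod.snd = (σ g).hom := prod.lift_snd _ _
        rw [e1, e2, f1, f2, hs' g]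
        simp
      obtain ⟨t, ht, -⟩ := Presieve.isSheafFor_singleton.1 hshπ s (by
        intro Z p₁ p₂ _
        let l : Z ⟶ Y ⨯ Y := prod.lift p₁ p₂
        have l1 : l ≫ prod.fst = p₁ := prod.lift_fst _ _
        have l2 : l ≫ prod.snd = p₂ := prod.lift_snd _ _
        change F.obj.map p₁.op s = F.obj.map p₂.op s
        rw [← l1, ← l2, op_comp, F.obj.map_comp, op_comp, F.obj.map_comp]
        change F.obj.map l.op (F.obj.map prod.fst.op s) = F.obj.map l.op (F.obj.map prod.snd.op s)
        rw [hpr])
      exact ⟨t, ht⟩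

end Groth.Agent.S16269
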