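import Groth.Statements.S16272
import Mathlib

set_option autoImplicit false
universe w' w v u
open CategoryTheory
open NonAbH1

namespace Groth.Agent.S16272

/-- The class map is well defined: let C be a category with a Grothendieck topology J, G a sheaf of
groups and U a family of objects. A G-torsor P with a section over every U_i has exactly one Cech
class on U: choosing sections s_i of P over the U_i cuts out a 1-cocycle of G on U, and its class in
the Cech cohomology set H^1(U, G) does not depend on the choice. (The published statement is for an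
etale covering of a scheme; this row is stated for any family of objects of any site.) -/
theorem result {C : Type u} [Category.{v} C]
    {J : GrothendieckTopology C} {G : Sheaf J GrpCat.{w}} (P : NonAbH1.Torsor G)
    {I : Type w'} (U : I → C) (hP : P.TrivialisedBy U) :
    ∃! c : PresheafOfGroups.H1 G.obj U, P.HasCechClass U c := by
  classical
  obtain ⟨hpt, -⟩ := P.isTorsor
  have hP' : ∀ i, Nonempty (P.P.obj.obj (Opposite.op (U i))) := hP
  have hfree : ∀ (V : Cᵒᵖ) (g h : G.obj.obj V) (p : P.P.obj.obj V),
      P.smul g p = P.smul h p → g = h := fun V g h p e => (hpt V p (P.smul h p)).unique e rfl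
  have hmap : ∀ {T T' V : C} (φ : T ⟶ T') (b : T' ⟶ V) (x : P.P.obj.obj (Opposite.op V)),
      P.P.obj.map φ.op (P.P.obj.map b.op x) = P.P.obj.map (φ ≫ b).op x := by
    intros; simp
  -- uniqueness of the class for two choices
  have huniqcl : ∀ (s s' : ∀ i, P.P.obj.obj (Opposite.op (U i)))
      (γ γ' : PresheafOfGroups.OneCocycle G.obj U),
      P.IsCocycleOf U s γ → P.IsCocycleOf U s' γ' → γ.class = γ'.class := by
    intro s s' γ γ' hγ hγ'
    apply PresheafOfGroups.OneCocycle.IsCohomologous.class_eq
    have hα : ∀ i, ∃ g : G.obj.obj (Opposite.op (U i)), P.smul g (s i) = s' i :=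
      fun i => (hpt _ (s i) (s' i)).exists
    choose α hα using hα
    refine ⟨α, fun i j T a b => ?_⟩
    apply hfree (Opposite.op T) _ _ (P.P.obj.map b.op (s j))
    rw [P.mul_smul, P.mul_smul, hγ i j a b, ← P.map_smul, ← P.map_smul, hα, hα, hγ' i j a b]
  -- existence
  let s : ∀ i, P.P.obj.obj (Opposite.op (U i)) := fun i => (hP' i).some
  have key : ∀ (i j : I) ⦃T : C⦄ (a : T ⟶ U i) (b : T ⟶ U j),
      ∃! g : G.obj.obj (Opposite.op T),
        P.smul g (P.P.obj.map b.op (s j)) = P.P.obj.map a.op (s i) :=
    fun i j T a b => hpt (Opposite.op T) _ _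
  let ev : ∀ (i j : I) ⦃T : C⦄ (a : T ⟶ U i) (b : T ⟶ U j), G.obj.obj (Opposite.op T) :=
    fun i j T a b => (key i j a b).choose
  have hev : ∀ (i j : I) ⦃T : C⦄ (a : T ⟶ U i) (b : T ⟶ U j),
      P.smul (ev i j a b) (P.P.obj.map b.op (s j)) = P.P.obj.map a.op (s i) :=
    fun i j T a b => (key i j a b).choose_spec.1
  have huniq : ∀ (i j : I) ⦃T : C⦄ (a : T ⟶ U i) (b : T ⟶ U j) (g : G.obj.obj (Opposite.op T)),
      P.smul g (P.P.obj.map b.op (s j)) = P.P.obj.map a.op (s i) → g = ev i j a b :=
    fun i j T a b g hg => (key i j a b).choose_spec.2 g hg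
  let γ : PresheafOfGroups.OneCocycle G.obj U :=
    { ev := ev
      ev_precomp := by
        intro i j T T' φ a b
        apply huniq
        rw [← hmap φ b, ← hmap φ a, ← P.map_smul, hev]
      ev_trans := by
        intro i j k T a b c
        apply huniq
        rw [P.mul_smul, hev, hev] }
  have hγ : P.IsCocycleOf U s γ := fun i j T a b => hev i j a b
  refine ⟨γ.class, ⟨s, γ, hγ, rfl⟩, ?_⟩
  rintro c ⟨s', γ', hγ', rfl⟩
  exact huniqcl s' s γ' γ hγ' hγ

end Groth.Agent.S16272
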