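import Groth.Statements.S16283
import Groth.Agent.Lib.Helper33.RelExtSS

set_option autoImplicit false
universe u
open CategoryTheory CategoryTheory.Limits AlgebraicGeometry ZeroObject
open Coherent

namespace Groth.Agent.S16283

/-- Let f : X → Y and g : Y → Z be morphisms of schemes, h = g ∘ f, and F, G O_X-modules. For a morphism
u out of X write Ext^b_u(F, -) for the b-th right derived functor of the left exact functor G ↦ u_*
Hom_{O_X}(F, G) from O_X-modules. Then there is an E₂ spectral sequence of O_Z-modules with E₂^{a,b}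
≅ R^a g_*(Ext^b_f(F, G)) for a, b ≥ 0 (and 0 otherwise), bounded, abutting with finite filtrations
to Ext^n_h(F, G) (n ≥ 0; 0 for n < 0). (Stated for schemes, the published statement being for ringed
spaces. Existence only: the E₂ identifications and the abutment are some isomorphisms. The internal
Hom functor of F, injective resolutions on X and Y and additivity of the composite functors are the
stated instance hypotheses, all true.) -/
theorem result (X Y Z : Scheme.{u}) (f : X ⟶ Y) (g : Y ⟶ Z)
    (F G : X.Modules)
    [ModSite.HasSheafHom (O := X.sheaf) F] [HasInjectiveResolutions (ModSite.Mod X.sheaf)] [HasInjectiveResolutions Y.Modules]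
    [(ModSite.sheafHom (O := X.sheaf) F ⋙ Scheme.Modules.pushforward f).Additive]
    [(ModSite.sheafHom (O := X.sheaf) F ⋙ Scheme.Modules.pushforward (f ≫ g)).Additive] :
    ∃ (E : E₂CohomologicalSpectralSequence Z.Modules)
      (a : SpSeq.Abutment E (fun n : ℤ =>
        if 0 ≤ n then ((ModSite.sheafHom (O := X.sheaf) F ⋙ Scheme.Modules.pushforward (f ≫ g)).rightDerived n.toNat).obj G else (0 : Z.Modules))),
      (∀ n : ℤ, a.IsFinite n) ∧ SpSeq.IsBounded E ∧
      ∀ p q : ℤ, Nonempty ((E.page 2 le_rfl).X (p, q) ≅
        (if 0 ≤ p ∧ 0 ≤ q then (Coh.Rpush g p.toNat).obj (((ModSite.sheafHom (O := X.sheaf) F ⋙ Scheme.Modules.pushforward f).rightDerived q.toNat).obj G)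
          else (0 : Z.Modules))) := by
  have hSl : PreservesFiniteLimits (Scheme.Modules.pushforward g) := by
    have : PreservesLimitsOfSize.{0, 0} (Scheme.Modules.pushforward g) :=
      (Scheme.Modules.pullbackPushforwardAdjunction g).rightAdjoint_preservesLimits
    exact PreservesLimitsOfSize.preservesFiniteLimits _
  have hI : HasInjectiveResolutions X.Modules :=
    ‹HasInjectiveResolutions (ModSite.Mod X.sheaf)›
  -- the composite functor
  let T : X.Modules ⥤ Y.Modules :=
    ModSite.sheafHom (O := X.sheaf) F ⋙ Scheme.Modules.pushforward f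
  let T' : X.Modules ⥤ Z.Modules :=
    ModSite.sheafHom (O := X.sheaf) F ⋙ Scheme.Modules.pushforward (f ≫ g)
  have hTa : T.Additive := ‹_›
  have hT'a : T'.Additive := ‹_›
  let φ : T ⋙ Scheme.Modules.pushforward g ≅ T' :=
    Functor.associator _ _ _ ≪≫
      Functor.isoWhiskerLeft _ (Scheme.Modules.pushforwardComp f g)
  have eH : ∀ n : ℕ, Nonempty (((T ⋙ Scheme.Modules.pushforward g).rightDerived n).obj G ≅
      (T'.rightDerived n).obj G) := fun n =>
    ⟨{ hom := (NatTrans.rightDerived φ.hom n).app G
       inv := (NatTrans.rightDerived φ.inv n).app G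
       hom_inv_id := by
         rw [← NatTrans.comp_app, ← NatTrans.rightDerived_comp, φ.hom_inv_id,
           NatTrans.rightDerived_id]
         rfl
       inv_hom_id := by
         rw [← NatTrans.comp_app, ← NatTrans.rightDerived_comp, φ.inv_hom_id,
           NatTrans.rightDerived_id]
         rfl }⟩
  exact @Groth.Agent.Lib.Helper33.GrothSS.grothendieck_ss X.Modules Y.Modules Z.Modules _ _ _
    AlgebraicGeometry.Scheme.Modules.instAbelian _ _ hI _ T hTa (Scheme.Modules.pushforward g) _ hSl
    (fun Q hQ q hq => by
      obtain ⟨k, rfl⟩ : ∃ k, q = k + 1 := ⟨q - 1, by omega⟩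
      exact Groth.Agent.Lib.Helper33.RelExtSS.isZero_Rpush_push_sheafHom f g F Q hQ k)
    G (fun n => (T'.rightDerived n).obj G) eH
    (fun p q => (Coh.Rpush g p).obj ((T.rightDerived q).obj G)) (fun p q => ⟨Iso.refl _⟩)

end Groth.Agent.S16283
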