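import Groth.Statements.S16288
import Groth.Agent.Lib.Helper12.FlatCxRank

set_option autoImplicit false
universe u
open CategoryTheory
open FlatCx

namespace Groth.Agent.S16288

/-- Let A be a Noetherian ring and P a chain complex of finitely generated flat A-modules, and for p and
a point x of Spec A let d_p(x) = dim_{k(x)} H_p(P ⊗_A k(x)). Fix p and a point z. If d_{p-1} and
d_{p+1} are constant on some neighbourhood of z, then d_p is constant on some neighbourhood of z.
(The published assertion concerns the function y ↦ dim H^p(X_y, F_y) for a coherent sheaf F flat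
over a projective morphism of Noetherian schemes X → Y: if it is not constant near a point, then the
functions for p - 1 and p + 1 are not both constant near that point. Stated here is the
corresponding property for any chain complex of finitely generated flat modules over a Noetherian
ring, from which the published form follows by applying it to a finite complex of such modules
computing the cohomology of the fibres.) -/
theorem result {A : Type u} [CommRing A] [IsNoetherianRing A]
    (P : ChainComplex (ModuleCat.{u} A) ℤ) (hP : ∀ i, Module.Finite A (P.X i) ∧ Module.Flat A (P.X i))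
    (p : ℤ) (z : PrimeSpectrum A)
    (hlo : ∀ᶠ x in nhds z, CohIII.dRank P (p - 1) x = CohIII.dRank P (p - 1) z)
    (hhi : ∀ᶠ x in nhds z, CohIII.dRank P (p + 1) x = CohIII.dRank P (p + 1) z) :
    ∀ᶠ x in nhds z, CohIII.dRank P p x = CohIII.dRank P p z := by
  open Groth.Agent.Lib.Helper12.FlatCx in
  have hPf : ∀ i, Module.Finite A (P.X i) := fun i => (hP i).1
  have := finite_opcycles P hPf (p + 1)
  have := finite_opcycles P hPf p
  have := finite_opcycles P hPf (p - 1)
  have := finite_opcycles P hPf (p - 1 - 1)
  have i1 := (hP p).1
  have i2 := (hP p).2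
  have i3 := (hP (p - 1)).1
  have i4 := (hP (p - 1)).2
  have i5 := (hP (p - 1 - 1)).1
  have i6 := (hP (p - 1 - 1)).2
  filter_upwards [hlo, hhi, fd_eventually_le (P.opcycles (p + 1)) z,
    fd_eventually_le (P.opcycles p) z, fd_eventually_le (P.opcycles (p - 1)) z,
    fd_eventually_le (P.opcycles (p - 1 - 1)) z,
    (fd_isLocallyConstant (A := A) (P.X p)).eventually_eq z,
    (fd_isLocallyConstant (A := A) (P.X (p - 1))).eventually_eq z,
    (fd_isLocallyConstant (A := A) (P.X (p - 1 - 1))).eventually_eq z]
    with x h1 h2 h3 h4 h5 h6 h7 h8 h9
  have a1 := dRank_add P hPf (p + 1) p (by simp) x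
  have a2 := dRank_add P hPf (p + 1) p (by simp) z
  have b1 := dRank_add P hPf p (p - 1) (by simp) x
  have b2 := dRank_add P hPf p (p - 1) (by simp) z
  have c1 := dRank_add P hPf (p - 1) (p - 1 - 1) (by simp) x
  have c2 := dRank_add P hPf (p - 1) (p - 1 - 1) (by simp) z
  omega

end Groth.Agent.S16288
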