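import Groth.Statements.S16290
import Mathlib
import Groth.Agent.Lib.Helper63.NodeQuad
import Groth.Agent.Lib.Helper63.NodeScheme
-- import your own Groth.Agent.* helpers here

set_option autoImplicit false
universe u
open CategoryTheory CategoryTheory.Limits AlgebraicGeometry
open Curves

namespace Groth.Agent.S16290

/-- Let f : T → S be a morphism of schemes, locally of finite type, t ∈ T a point with image s such that
f is flat at t and O_{S,s} is Noetherian. Suppose t is a node of the fibre T_s with residue field
κ(s), taken in the form: t is a closed point of T_s and the completion of O_{T_s,t} is isomorphic,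
compatibly with κ(s), to κ(s)[[u,v]]/(q) for a binary quadratic form q = a u^2 + b uv + c v^2 over
κ(s) with b^2 - 4ac ≠ 0 (q need not split). Then there are a binary quadratic form Q = a u^2 + b uv
+ c v^2 over the completion Â of O_{S,s} whose discriminant b^2 - 4ac is a unit of Â, an element h
of the maximal ideal of Â, and an isomorphism of the completion of O_{T,t} with Â[[u,v]]/(Q - h)
compatible with the maps from O_{S,s}. (The published statement assumes f is a nodal relative curve,
i.e. flat, of finite presentation and of relative dimension one with nodal geometric fibres, over a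
Noetherian base; here only f locally of finite type and flat at t with O_{S,s} Noetherian is
assumed, and the node is taken in completed form, which is what the argument uses.) -/
theorem result {T S : Scheme.{u}} (f : T ⟶ S) [LocallyOfFiniteType f] (t : T)
    [IsNoetherianRing (S.presheaf.stalk (f t))] (hfl : (f.stalkMap t).hom.Flat)
    (ht : letI : (f.fiber (f t)).Over (Spec (CommRingCat.of (S.residueField (f t)))) := ⟨f.fiberToSpecResidueField (f t)⟩
      letI := Curv2.stalkAlgebra (S.residueField (f t)) (f.fiber (f t)) (f.asFiber t)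
      IsClosed ({f.asFiber t} : Set (f.fiber (f t))) ∧
        ∃ a b c : S.residueField (f t), b ^ 2 - 4 * a * c ≠ 0 ∧
          ∃ e : Curv2.cpl ((f.fiber (f t)).presheaf.stalk (f.asFiber t)) ≃+*
              (MvPowerSeries (Fin 2) (S.residueField (f t)) ⧸ Ideal.span
                {(MvPowerSeries.C a * MvPowerSeries.X 0 ^ 2 + MvPowerSeries.C b * MvPowerSeries.X 0 * MvPowerSeries.X 1 +
                  MvPowerSeries.C c * MvPowerSeries.X 1 ^ 2 : MvPowerSeries (Fin 2) (S.residueField (f t)))}),
            ∀ r : S.residueField (f t),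
              e (algebraMap ((f.fiber (f t)).presheaf.stalk (f.asFiber t)) _
                  (algebraMap (S.residueField (f t)) ((f.fiber (f t)).presheaf.stalk (f.asFiber t)) r)) =
                Ideal.Quotient.mk _ (MvPowerSeries.C r)) :
    ∃ a b c : Curv2.cpl (S.presheaf.stalk (f t)), IsUnit (b ^ 2 - 4 * a * c) ∧
      ∃ h ∈ IsLocalRing.maximalIdeal (Curv2.cpl (S.presheaf.stalk (f t))),
        ∃ e : Curv2.cpl (T.presheaf.stalk t) ≃+*
            (MvPowerSeries (Fin 2) (Curv2.cpl (S.presheaf.stalk (f t))) ⧸ Ideal.span
              {(MvPowerSeries.C a * MvPowerSeries.X 0 ^ 2 + MvPowerSeries.C b * MvPowerSeries.X 0 * MvPowerSeries.X 1 +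
                MvPowerSeries.C c * MvPowerSeries.X 1 ^ 2 - MvPowerSeries.C h : MvPowerSeries (Fin 2) (Curv2.cpl (S.presheaf.stalk (f t))))}),
          ∀ r : S.presheaf.stalk (f t),
            e (algebraMap (T.presheaf.stalk t) (Curv2.cpl (T.presheaf.stalk t)) ((f.stalkMap t).hom r)) =
              Ideal.Quotient.mk _ (MvPowerSeries.C (algebraMap (S.presheaf.stalk (f t)) (Curv2.cpl (S.presheaf.stalk (f t))) r)) := by
  letI : (f.fiber (f t)).Over (Spec (CommRingCat.of (S.residueField (f t)))) :=
    ⟨f.fiberToSpecResidueField (f t)⟩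
  letI := Curv2.stalkAlgebra (S.residueField (f t)) (f.fiber (f t)) (f.asFiber t)
  obtain ⟨-, a₀, b₀, c₀, hdisc, e, he⟩ := ht
  obtain ⟨φ, hφs, hφk, hφc⟩ := Groth.Agent.Lib.Helper63.NodeScheme.fibre_stalk_data f t
  letI : Algebra (S.presheaf.stalk (f t)) (T.presheaf.stalk t) := (f.stalkMap t).hom.toAlgebra
  haveI : IsLocalHom (algebraMap (S.presheaf.stalk (f t)) (T.presheaf.stalk t)) :=
    (inferInstance : IsLocalHom (f.stalkMap t).hom)
  haveI : Module.Flat (S.presheaf.stalk (f t)) (T.presheaf.stalk t) := hfl
  haveI : IsNoetherianRing (T.presheaf.stalk t) := by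
    have hf : (f.stalkMap t).hom.EssFiniteType := LocallyOfFiniteType.stalkMap f t
    have : Algebra.EssFiniteType (S.presheaf.stalk (f t)) (T.presheaf.stalk t) := hf
    have : IsNoetherianRing (Algebra.EssFiniteType.subalgebra (S.presheaf.stalk (f t))
        (T.presheaf.stalk t)) := Algebra.FiniteType.isNoetherianRing (S.presheaf.stalk (f t)) _
    exact IsLocalization.isNoetherianRing
      (Algebra.EssFiniteType.submonoid (S.presheaf.stalk (f t)) (T.presheaf.stalk t))
      (T.presheaf.stalk t) inferInstance
  have hresK : Function.Surjective (S.residue (f t)).hom :=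
    IsLocalRing.residue_surjective
  have hresK0 : ∀ a, (S.residue (f t)).hom a = 0 ↔
      a ∈ IsLocalRing.maximalIdeal (S.presheaf.stalk (f t)) := fun a =>
    IsLocalRing.residue_eq_zero_iff a
  obtain ⟨a, b, c, hu, h, hh, ⟨E⟩⟩ := Groth.Agent.Lib.Helper63.NodeQuad.node_quad_core
    (S.presheaf.stalk (f t)) (T.presheaf.stalk t) (S.residue (f t)).hom hresK hresK0
    ((f.fiber (f t)).presheaf.stalk (f.asFiber t)) φ hφs hφk
    (Curv2.stalkMap (S.residueField (f t)) (f.fiber (f t)) (f.asFiber t)) hφc
    a₀ b₀ c₀ hdisc e he
  refine ⟨a, b, c, hu, h, hh, E.toRingEquiv, fun r => ?_⟩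
  exact (E.commutes r).trans (Groth.Agent.Lib.Helper63.NodeCore.algebraMap_quot_eq _ r)

end Groth.Agent.S16290
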