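import Groth.Statements.S16312
import Mathlib

set_option autoImplicit false
universe u
open W4c3irrattreebun

namespace Groth.Agent.S16312

/-- Let N be a closed cone in real n-space, f a function continuous on N, positive at the nonzero points
of N and homogeneous of degree one under scaling by nonnegative reals, and Λ a discrete additive
subgroup. Then for every real c the set of points H of Λ lying in N with f(H) ≤ c is finite. (The
published statement takes Λ to be a lattice; this row allows any discrete additive subgroup.) -/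
theorem result (n : ℕ)
    (N : Set (EuclideanSpace ℝ (Fin n))) (hN : IsClosed N)
    (hcone : ∀ x ∈ N, ∀ r : ℝ, 0 ≤ r → r • x ∈ N)
    (f : EuclideanSpace ℝ (Fin n) → ℝ) (hf : ContinuousOn f N)
    (hpos : ∀ x ∈ N, x ≠ 0 → 0 < f x)
    (hhom : ∀ x ∈ N, ∀ r : ℝ, 0 ≤ r → f (r • x) = r * f x)
    (Λ : Submodule ℤ (EuclideanSpace ℝ (Fin n))) [DiscreteTopology Λ] (c : ℝ) :
    ({x : EuclideanSpace ℝ (Fin n) | x ∈ N ∧ f x ≤ c} ∩ (Λ : Set (EuclideanSpace ℝ (Fin n)))).Finite := by
  -- the bounded set
  have hbdd : Bornology.IsBounded {x : EuclideanSpace ℝ (Fin n) | x ∈ N ∧ f x ≤ c} := by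
    set K := N ∩ Metric.sphere (0 : EuclideanSpace ℝ (Fin n)) 1 with hK
    have hKc : IsCompact K := (isCompact_sphere _ _).inter_left hN
    have hnorm : ∀ x ∈ N, x ≠ 0 → (‖x‖⁻¹ • x) ∈ K := by
      intro x hx hx0
      refine ⟨hcone x hx _ (inv_nonneg.mpr (norm_nonneg x)), ?_⟩
      rw [mem_sphere_zero_iff_norm, norm_smul, norm_inv, norm_norm,
        inv_mul_cancel₀ (norm_ne_zero_iff.mpr hx0)]
    rcases K.eq_empty_or_nonempty with hKe | hKne
    · -- N ⊆ {0}
      refine (Bornology.isBounded_singleton (x := (0 : EuclideanSpace ℝ (Fin n)))).subset ?_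
      rintro x ⟨hx, -⟩
      by_contra hx0
      have := hnorm x hx hx0
      rw [hKe] at this
      exact this
    · obtain ⟨x₀, hx₀K, hx₀min⟩ := hKc.exists_isMinOn hKne (hf.mono Set.inter_subset_left)
      have hx₀ne : x₀ ≠ 0 := by
        intro h
        have := hx₀K.2
        rw [h, mem_sphere_zero_iff_norm, norm_zero] at this
        exact zero_ne_one this
      have hδ : 0 < f x₀ := hpos x₀ hx₀K.1 hx₀ne
      refine (Metric.isBounded_closedBall (x := (0 : EuclideanSpace ℝ (Fin n)))
        (r := |c| / f x₀)).subset ?_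
      rintro x ⟨hx, hfx⟩
      rw [mem_closedBall_zero_iff]
      by_cases hx0 : x = 0
      · rw [hx0, norm_zero]; positivity
      · have h1 := hnorm x hx hx0
        have h2 : f x₀ ≤ f (‖x‖⁻¹ • x) := hx₀min h1
        have h3 : f (‖x‖⁻¹ • x) = ‖x‖⁻¹ * f x := hhom x hx _ (inv_nonneg.mpr (norm_nonneg x))
        have hnx : 0 < ‖x‖ := norm_pos_iff.mpr hx0
        rw [h3] at h2
        rw [le_div_iff₀ hδ]
        have h4 : ‖x‖ * f x₀ ≤ f x := by
          have := mul_le_mul_of_nonneg_left h2 hnx.le
          rwa [← mul_assoc, mul_inv_cancel₀ hnx.ne', one_mul] at this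
        exact h4.trans (hfx.trans (le_abs_self c))
  have hcl : IsClosed (Λ : Set (EuclideanSpace ℝ (Fin n))) := by
    have : DiscreteTopology Λ.toAddSubgroup := inferInstanceAs (DiscreteTopology Λ)
    rw [← Submodule.coe_toAddSubgroup]
    exact AddSubgroup.isClosed_of_discrete
  exact Metric.finite_isBounded_inter_isClosed DiscreteTopology.isDiscrete hbdd hcl

end Groth.Agent.S16312
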