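import Groth.Statements.S16324
import Groth.Agent.S16323
import Groth.Agent.S13215
import Groth.Agent.Lib.Helper39.GrSerrePoly

set_option autoImplicit false
universe u
open GrSyz

namespace Groth.Agent.S16324

/-- Let k be an algebraically closed field of characteristic zero, S = k[x_0, …, x_n] graded by degree,
𝔪 = (x_0, …, x_n), and M a finitely generated ℤ-graded S-module which is Cohen–Macaulay: the Krull
dimension of its support equals its 𝔪-depth. Let F be a minimal graded free resolution of M of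
length exactly ℓ (F_ℓ ≠ 0, F_i = 0 for i > ℓ; so ℓ = pd M) and let ρ be its regularity: every basis
vector of F_i has degree at most ρ + i, with equality for some i and some basis vector (so ρ = reg
M). Let P be the Hilbert polynomial of M, i.e. a polynomial over ℚ with dim_k M_d = P(d) for all
sufficiently large d. Then dim_k M_d ≠ P(d) for d = ρ + ℓ − n − 1: the bound d ≥ reg M + pd M − n
beyond which the Hilbert function agrees with the Hilbert polynomial is sharp for Cohen–Macaulay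
modules. (Part (1) of the published statement, the agreement for d ≥ reg M + pd M − n, follows from
the agreement for d at least the largest generator degree minus n and is not restated.) -/
theorem result (k : Type u) [Field k] [IsAlgClosed k] [CharZero k] (n : ℕ)
    (M : Type u) [AddCommGroup M] [Module k M] [Module (MvPolynomial (Fin (n + 1)) k) M]
    [IsScalarTower k (MvPolynomial (Fin (n + 1)) k) M] [Module.Finite (MvPolynomial (Fin (n + 1)) k) M]
    (ℳ : ℤ → Submodule k M) [DirectSum.Decomposition ℳ] [SetLike.GradedSMul (GrSyz.stdGr k (Fin (n + 1))) ℳ]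
    (hCM : Module.supportDim (MvPolynomial (Fin (n + 1)) k) M = ((LocCoh.idealDepth (GrSyz.irrel (GrSyz.stdGr k (Fin (n + 1)))).toIdeal M : ℕ∞) : WithBot ℕ∞))
    (F : GrSyz.FreeRes (GrSyz.stdGr k (Fin (n + 1))) ℳ) (hF : F.IsMinimal (GrSyz.irrel (GrSyz.stdGr k (Fin (n + 1)))).toIdeal)
    (ℓ : ℕ) (hℓ : F.HasLengthLE ℓ) (hℓ' : F.rk ℓ ≠ 0)
    (ρ : ℤ) (hρ : F.IsGenLE ρ) (hρ' : ∃ (i : ℕ) (b : Fin (F.rk i)), F.deg i b = ρ + i)
    (P : Polynomial ℚ) (hP : ∃ d₁ : ℤ, ∀ d : ℤ, d₁ ≤ d → ((Module.finrank k ↥(ℳ d) : ℤ) : ℚ) = P.eval (d : ℚ)) :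
    ((Module.finrank k ↥(ℳ (ρ + ℓ - n - 1)) : ℤ) : ℚ) ≠ P.eval ((ρ + ℓ - n - 1 : ℤ) : ℚ) := by
  classical
  open Groth.Agent.Lib.Helper39 Groth.Agent.Lib.Helper39.GrBridge Groth.Agent.Lib.Helper39.GrReg
    Groth.Agent.Lib.Helper39.GrEGPoly Groth.Agent.Lib.Helper39.GrSerre
    Groth.Agent.Lib.Helper39.GrSerrePoly in
  letI iR := toSubGradedRing (GrSyz.stdGr k (Fin (n + 1)))
  letI iM := toSubDecomposition ℳ
  haveI sM := toSubGradedSMul (GrSyz.stdGr k (Fin (n + 1))) ℳ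
  -- Auslander–Buchsbaum
  have hAB := Groth.Agent.S16323.result k n M ℳ F hF ℓ hℓ hℓ'
  obtain ⟨δ, hδ⟩ : ∃ δ : ℕ,
      LocCoh.idealDepth (GrSyz.irrel (GrSyz.stdGr k (Fin (n + 1)))).toIdeal M = (δ : ℕ∞) := by
    have hne : LocCoh.idealDepth (GrSyz.irrel (GrSyz.stdGr k (Fin (n + 1)))).toIdeal M ≠ ⊤ := by
      intro h
      rw [h, add_top] at hAB
      exact ENat.top_ne_coe _ hAB
    exact ⟨_, (ENat.coe_toNat hne).symm⟩
  have hℓδ : ℓ + δ = n + 1 := by
    rw [hδ] at hAB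
    exact_mod_cast hAB
  have hdim : Module.supportDim (MvPolynomial (Fin (n + 1)) k) M = ((δ : ℕ∞) : WithBot ℕ∞) := by
    rw [hCM, hδ]
  have hIM : (GrSyz.irrel (GrSyz.stdGr k (Fin (n + 1)))).toIdeal •
      (⊤ : Submodule (MvPolynomial (Fin (n + 1)) k) M) ≠ ⊤ := by
    intro h
    unfold LocCoh.idealDepth at hδ
    rw [if_pos h] at hδ
    exact ENat.top_ne_coe δ hδ
  obtain ⟨E'⟩ := Groth.Agent.S13215.result (MvPolynomial (Fin (n + 1)) k)
    (toSub (GrSyz.stdGr k (Fin (n + 1)))) M (toSub ℳ)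
  have hvan : ∀ i : ℕ, i ≠ δ → ∀ d : ℤ,
      E'.Hcomp (convIdeal (GrSyz.irrel (GrSyz.stdGr k (Fin (n + 1))))) i d = ⊥ := by
    intro i hi d
    haveI : Subsingleton (E'.H (convIdeal (GrSyz.irrel (GrSyz.stdGr k (Fin (n + 1))))) i) := by
      rcases lt_or_gt_of_ne hi with h | h
      · exact H_subsingleton_of_lt_depth ℳ E' δ hδ hIM i h
      · exact H_subsingleton_of_gt_dim ℳ E' δ hdim i h
    rw [eq_bot_iff]
    intro y _
    rw [Subsingleton.elim y 0]
    exact zero_mem _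
  -- regularity
  have hreg1 := (isGenLE_iff_regLE ℳ F hF ρ).mp hρ
  have hreg2 : ¬ RegLE (convIdeal (GrSyz.irrel (GrSyz.stdGr k (Fin (n + 1)))))
      (GrLC.GMod.of (toSub (GrSyz.stdGr k (Fin (n + 1)))) M (toSub ℳ)) (ρ - 1) := by
    intro h
    have h2 := (isGenLE_iff_regLE ℳ F hF (ρ - 1)).mpr h
    obtain ⟨i, b, hb⟩ := hρ'
    have h3 := h2 i b
    omega
  have hne : E'.Hcomp (convIdeal (GrSyz.irrel (GrSyz.stdGr k (Fin (n + 1))))) δ (ρ - δ) ≠ ⊥ := by
    intro hbot
    apply hreg2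
    intro j d hd
    rw [hvan_iff_gen ℳ E' j d]
    by_cases hj : j = δ
    · subst hj
      by_cases hd2 : ρ - j < d
      · exact (hvan_iff_gen ℳ E' j d).mp (hreg1 j d hd2)
      · have : d = ρ - j := by omega
        rw [this]
        exact hbot
    · exact hvan j hj d
  -- Serre's formula
  have hP' : ∃ N : ℤ, ∀ d : ℤ, N ≤ d → P.eval (d : ℚ) = (Module.finrank k (ℳ d) : ℚ) := by
    obtain ⟨d₁, hd₁⟩ := hP
    refine ⟨d₁, fun d hd => ?_⟩
    rw [← hd₁ d hd]
    push_cast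
    rfl
  have hS := serre_poly ℳ E' P hP' (ρ + ℓ - n - 1)
  have hd0 : ρ + (ℓ : ℤ) - n - 1 = ρ - δ := by
    have : ((ℓ + δ : ℕ) : ℤ) = ((n + 1 : ℕ) : ℤ) := by rw [hℓδ]
    push_cast at this
    omega
  rw [hd0] at hS ⊢
  unfold chi at hS
  have hδmem : δ ∈ Finset.range (n + 1 + 1) := Finset.mem_range.mpr (by omega)
  rw [Finset.sum_eq_single_of_mem δ hδmem (fun i _ hi => by
    unfold hl
    rw [hvan i hi]
    simp)] at hS
  have hpos' : hl (convIdeal (GrSyz.irrel (GrSyz.stdGr k (Fin (n + 1))))) E' δ (ρ - δ) ≠ 0 := by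
    unfold hl
    have hfin := length_Hcomp_ne_top (hpos k n) _ (ha k n) E' δ (ρ - δ)
    have hnz : Module.length (GrLC.deg0 (toSub (GrSyz.stdGr k (Fin (n + 1)))))
        (E'.Hcomp (convIdeal (GrSyz.irrel (GrSyz.stdGr k (Fin (n + 1))))) δ (ρ - δ)) ≠ 0 := by
      rw [Ne, Module.length_eq_zero_iff]
      intro hsub
      apply hne
      rw [eq_bot_iff]
      intro y hy
      have : (⟨y, hy⟩ : E'.Hcomp (convIdeal (GrSyz.irrel (GrSyz.stdGr k (Fin (n + 1))))) δ (ρ - δ)) = 0 :=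
        Subsingleton.elim _ _
      exact congrArg Subtype.val this
    intro h0
    have h1 : (Module.length (GrLC.deg0 (toSub (GrSyz.stdGr k (Fin (n + 1)))))
        (E'.Hcomp (convIdeal (GrSyz.irrel (GrSyz.stdGr k (Fin (n + 1))))) δ (ρ - δ))).toNat = 0 := by
      exact_mod_cast h0
    rw [ENat.toNat_eq_zero] at h1
    rcases h1 with h1 | h1
    · exact hnz h1
    · exact hfin h1
  intro heq
  have h2 : (Module.finrank k (ℳ (ρ - δ)) : ℚ) = P.eval ((ρ - δ : ℤ) : ℚ) := by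
    rw [← heq]
    push_cast
    rfl
  rw [h2, sub_self] at hS
  have h3 := hS.symm
  rcases mul_eq_zero.mp h3 with h4 | h4
  · exact absurd h4 (pow_ne_zero _ (by norm_num))
  · exact hpos' h4

end Groth.Agent.S16324
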