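import Groth.Statements.S16326
import Groth.Agent.Lib.Helper82.CxFunctor

set_option autoImplicit false
universe u v
open CategoryTheory
open W4c3biextchow

namespace Groth.Agent.S16326

/-- Let f : C ⟶ D be a chain map of ℕ-indexed chain complexes of modules over a ring R, and consider the
functor it induces between the groupoids attached to C and D (objects: degree-0 elements; morphisms
a ⟶ b: degree-1 elements with boundary b - a, modulo boundaries of degree-2 elements). This functor
is full if and only if f is surjective on homology in degree 1 and injective on homology in degree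
0. (The published statement is for complexes of abelian groups; this row allows modules over any
ring R.) -/
theorem result
    (R : Type u) [Ring R] (C D : ChainComplex (ModuleCat.{v} R) ℕ) (f : C ⟶ D) :
    (W4c3biextchow.cxFunctor f).Full ↔
      Epi (HomologicalComplex.homologyMap f 1) ∧ Mono (HomologicalComplex.homologyMap f 0) := by
  rw [Groth.Agent.Lib.Helper82.epi_homologyMap_one_iff,
    Groth.Agent.Lib.Helper82.mono_homologyMap_zero_iff]
  have hcomm : ∀ x : C.X 1, (D.d 1 0).hom ((f.f 1).hom x) = (f.f 0).hom ((C.d 1 0).hom x) := by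
    intro x
    have h := f.comm 1 0
    exact LinearMap.congr_fun (congrArg ModuleCat.Hom.hom h) x
  constructor
  · intro hF
    constructor
    · intro y hy
      let a : Obj C := ⟨0⟩
      let ψ : (cxFunctor f).obj a ⟶ (cxFunctor f).obj a :=
        (⟨Submodule.Quotient.mk y, by simp [hy]⟩ : Hom D _ _)
      obtain ⟨φ, hφ⟩ := hF.map_surjective ψ
      obtain ⟨x, hx⟩ := Submodule.Quotient.mk_surjective _ (φ : Hom C a a).cl
      have hdx : (C.d 1 0).hom x = 0 := by
        have := (φ : Hom C a a).delta_cl
        rw [← hx, delta_mk] at this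
        simpa [a] using this
      have h1 : q1Map f (φ : Hom C a a).cl = (Submodule.Quotient.mk y : Q1 D) :=
        congrArg Hom.cl hφ
      rw [← hx, q1Map_mk, eq_comm, ← sub_eq_zero, ← Submodule.Quotient.mk_sub,
        Submodule.Quotient.mk_eq_zero] at h1
      obtain ⟨z, hz⟩ := h1
      exact ⟨x, z, hdx, by rw [hz]; abel⟩
    · rintro x ⟨y, hy⟩
      let a : Obj C := ⟨0⟩
      let b : Obj C := ⟨x⟩
      let ψ : (cxFunctor f).obj a ⟶ (cxFunctor f).obj b :=
        (⟨Submodule.Quotient.mk y, by simp [a, b, hy]⟩ : Hom D _ _)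
      obtain ⟨φ, -⟩ := hF.map_surjective ψ
      obtain ⟨x', hx'⟩ := Submodule.Quotient.mk_surjective _ (φ : Hom C a b).cl
      refine ⟨x', ?_⟩
      have := (φ : Hom C a b).delta_cl
      rw [← hx', delta_mk] at this
      simpa [a, b] using this
  · rintro ⟨hE, hM⟩
    constructor
    intro a b ψ
    obtain ⟨y, hy⟩ := Submodule.Quotient.mk_surjective _ (ψ : Hom D _ _).cl
    have hdy : (D.d 1 0).hom y = (f.f 0).hom (b.pt - a.pt) := by
      have := (ψ : Hom D _ _).delta_cl
      rw [← hy, delta_mk] at this
      rw [this, map_sub]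
      rfl
    obtain ⟨x', hx'⟩ := hM (b.pt - a.pt) ⟨y, hdy⟩
    have hd0 : (D.d 1 0).hom (y - (f.f 1).hom x') = 0 := by
      rw [map_sub, hcomm, hx', hdy, sub_self]
    obtain ⟨x'', z, hx'', hyz⟩ := hE _ hd0
    refine ⟨(⟨Submodule.Quotient.mk (x' + x''), by
      rw [delta_mk, map_add, hx', hx'', add_zero]⟩ : Hom C a b), ?_⟩
    apply Hom.ext
    rw [cxFunctor_map_cl]
    show q1Map f (Submodule.Quotient.mk (x' + x'')) = (ψ : Hom D _ _).cl
    rw [← hy, q1Map_mk, eq_comm, ← sub_eq_zero, ← Submodule.Quotient.mk_sub,
      Submodule.Quotient.mk_eq_zero]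
    refine ⟨z, ?_⟩
    rw [map_add]
    have : y - ((f.f 1).hom x' + (f.f 1).hom x'') = (y - (f.f 1).hom x') - (f.f 1).hom x'' := by
      abel
    rw [this, hyz]
    abel

end Groth.Agent.S16326
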