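import Groth.Statements.S16327
import Groth.Agent.Lib.Helper82.CxFunctor

set_option autoImplicit false
universe u v
open CategoryTheory
open W4c3biextchow

namespace Groth.Agent.S16327

/-- every morphism of the groupoid of a complex is invertible -/
def isoOfHom {R : Type u} [Ring R] {D : ChainComplex (ModuleCat.{v} R) ℕ} {a b : Obj D}
    (φ : Hom D a b) : a ≅ b where
  hom := φ
  inv := (⟨-φ.cl, by rw [map_neg, φ.delta_cl]; abel⟩ : Hom D b a)
  hom_inv_id := Hom.ext (by simp)
  inv_hom_id := Hom.ext (by simp)


/-- Let f : C ⟶ D be a chain map of ℕ-indexed chain complexes of modules over a ring R, and consider the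
functor it induces between the groupoids attached to C and D (objects: degree-0 elements; morphisms
a ⟶ b: degree-1 elements with boundary b - a, modulo boundaries of degree-2 elements). This functor
is essentially surjective if and only if f is surjective on homology in degree 0. (The published
statement is for complexes of abelian groups; this row allows modules over any ring R.) -/
theorem result
    (R : Type u) [Ring R] (C D : ChainComplex (ModuleCat.{v} R) ℕ) (f : C ⟶ D) :
    (W4c3biextchow.cxFunctor f).EssSurj ↔ Epi (HomologicalComplex.homologyMap f 0) := by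
  rw [Groth.Agent.Lib.Helper82.epi_homologyMap_zero_iff]
  constructor
  · intro hE y
    obtain ⟨a, ⟨e⟩⟩ := hE.mem_essImage (⟨y⟩ : Obj D)
    obtain ⟨z, hz⟩ := Submodule.Quotient.mk_surjective _ (e.hom : Hom D _ _).cl
    refine ⟨a.pt, z, ?_⟩
    have h1 := (e.hom : Hom D _ _).delta_cl
    rw [← hz, delta_mk] at h1
    rw [h1]
    simp
  · intro h
    constructor
    intro b
    obtain ⟨x, z, hxz⟩ := h b.pt
    refine ⟨⟨x⟩, ⟨isoOfHom (⟨Submodule.Quotient.mk z, ?_⟩ : Hom D _ _)⟩⟩
    rw [delta_mk, hxz]
    simp

end Groth.Agent.S16327
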