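import Groth.Statements.S16328
import Groth.Agent.Lib.Helper82.ChainSplit

set_option autoImplicit false
universe v
open CategoryTheory
open W4c3biextchow

namespace Groth.Agent.S16328

/-- Let f : A' ⟶ A and p : A ⟶ A'' be chain maps of ℕ-indexed chain complexes of free abelian groups
forming a short exact sequence in every degree (f injective, p surjective, image of f equal to the
kernel of p), and assume f is a quasi-isomorphism. Then there is a chain map h : A'' ⟶ A such that
in every degree q the map (a'', a') ↦ h(a'') + f(a') is a bijection from A''_q × A'_q onto A_q, so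
that A is the direct sum of the subcomplexes f(A') and h(A''). (The source allows complexes indexed
by all integers; stated here for complexes in non-negative degrees.) -/
theorem result
    (A' A A'' : ChainComplex (ModuleCat.{v} ℤ) ℕ) (f : A' ⟶ A) (p : A ⟶ A'')
    [∀ q, Module.Free ℤ (A'.X q)] [∀ q, Module.Free ℤ (A.X q)] [∀ q, Module.Free ℤ (A''.X q)]
    (hf : ∀ q, Function.Injective (f.f q).hom) (hp : ∀ q, Function.Surjective (p.f q).hom)
    (hfp : ∀ q, Function.Exact (f.f q).hom (p.f q).hom) [QuasiIso f] :
    ∃ h : A'' ⟶ A, ∀ q : ℕ,
      Function.Bijective (fun x : A''.X q × A'.X q => (h.f q).hom x.1 + (f.f q).hom x.2) := by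
  have w : f ≫ p = 0 := by
    ext q x
    exact (hfp q).apply_apply_eq_zero x
  let S : ShortComplex (ChainComplex (ModuleCat.{v} ℤ) ℕ) := ShortComplex.mk f p w
  have hS : S.ShortExact := by
    apply HomologicalComplex.shortExact_of_degreewise_shortExact
    intro q
    exact ModuleCat.shortComplex_shortExact _ (hfp q) (hf q) (hp q)
  have hq : QuasiIso S.f := inferInstanceAs (QuasiIso f)
  have hacyc : A''.Acyclic := hS.acyclic_X₃ hq
  let H := Groth.Agent.Lib.Helper82.contraction A'' hacyc
  obtain ⟨h, hh⟩ := Groth.Agent.Lib.Helper82.exists_chain_section A' A A'' f p hf hp hfp H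
  exact ⟨h, fun q => Groth.Agent.Lib.Helper82.bijective_of_section A' A A'' f p hf hfp h hh q⟩

end Groth.Agent.S16328
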