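import Groth.Statements.S16332
import Groth.Agent.Lib.Helper82.TensorH1

set_option autoImplicit false
universe v
open CategoryTheory MonoidalCategory
open W4c3biextchow

namespace Groth.Agent.S16332

/-- Let R be a commutative ring, C an ℕ-indexed chain complex of R-modules whose degree-0 term C_0 is a
free R-module, G an R-module, and π : P ⟶ G[0] a quasi-isomorphism from an ℕ-indexed chain complex P
of free R-modules onto G placed in degree 0 (a free resolution of G), so that the tensor product of
complexes C ⊗ P represents the derived tensor product of C and G. Then the map induced by π on first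
homology, H_1(C ⊗ P) → H_1(C ⊗ G[0]), is an isomorphism: in degree 1 the derived and the plain
tensor product with G have the same homology. (The published statement is over the integers, for
complexes vanishing in negative degrees with C_0 free abelian; this row allows any commutative ring
R and R-modules in the same universe as R.) -/
theorem result
    (R : Type v) [CommRing R] (C P : ChainComplex (ModuleCat.{v} R) ℕ) (G : ModuleCat.{v} R)
    [Module.Free R (C.X 0)] [∀ q, Module.Free R (P.X q)]
    (π : P ⟶ (ChainComplex.single₀ (ModuleCat.{v} R)).obj G) [QuasiIso π] :
    IsIso (HomologicalComplex.homologyMap (C ◁ π) 1) := by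
  have hproj : ∀ n, Projective (P.X n) := fun n => inferInstance
  let Pr : ProjectiveResolution G :=
    { complex := P, projective := hproj, π := π, quasiIso := inferInstance }
  have hS1 : Subsingleton (((ChainComplex.single₀ (ModuleCat.{v} R)).obj G).X 1) :=
    ModuleCat.subsingleton_of_isZero
      (HomologicalComplex.isZero_single_obj_X (ComplexShape.down ℕ) 0 G 1 (by simp))
  have hS2 : Subsingleton (((ChainComplex.single₀ (ModuleCat.{v} R)).obj G).X 2) :=
    ModuleCat.subsingleton_of_isZero
      (HomologicalComplex.isZero_single_obj_X (ComplexShape.down ℕ) 0 G 2 (by simp))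
  have hπ0 : Function.Surjective (π.f 0).hom := by
    have : Epi (π.f 0) := Limits.epi_of_isColimit_cofork Pr.isColimitCokernelCofork
    exact (ModuleCat.epi_iff_surjective _).1 this
  have hex0 : Function.Exact (P.d 1 0).hom (π.f 0).hom := by
    have h := ShortComplex.exact_of_g_is_cokernel
      (ShortComplex.mk (P.d 1 0) (π.f 0) Pr.complex_d_comp_π_f_zero) Pr.isColimitCokernelCofork
    rw [ShortComplex.moduleCat_exact_iff_range_eq_ker] at h
    exact LinearMap.exact_iff.2 h.symm
  have hex1 : Function.Exact (P.d 2 1).hom (P.d 1 0).hom := by
    have h := Pr.exact_succ 0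
    rw [ShortComplex.moduleCat_exact_iff_range_eq_ker] at h
    exact LinearMap.exact_iff.2 h.symm
  exact Groth.Agent.Lib.Helper82.isIso_homologyMap_one_whiskerLeft C P _ π hπ0 hex0 hex1

end Groth.Agent.S16332
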