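import Groth.Statements.S16335
import Mathlib

set_option autoImplicit false
universe u v w w'
open TensorProduct
open InvTh

namespace Groth.Agent.S16335

/-- Let `R` be a commutative ring with an action of a finite group `Γ` by ring automorphisms such that
the order of `Γ` is invertible in `R`, and let `A → R` be injective with image exactly the
invariants `R^Γ`, the action being `A`-linear. Then for every commutative `A`-algebra `S`, with `Γ`
acting on `S ⊗_A R` through the factor `R`, the map `S → S ⊗_A R`, `s ↦ s ⊗ 1`, is injective and its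
image is exactly the set of `Γ`-fixed elements: `S ≅ (S ⊗_A R)^Γ`. No flatness of `S` over `A` is
assumed; the invertibility of the order of `Γ` replaces it. This is the affine statement that for a
tame quotient the coarse space commutes with arbitrary base change. (The published lemma is the
statement that the coarse moduli space of a tame Deligne–Mumford stack commutes with arbitrary base
change, whose proof reduces to this ring statement. The published lemma also asserts the analogous
statement for the reduced fibre product when the base-change scheme is reduced; that clause is not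
part of this row.) -/
theorem result
    (A : Type u) [CommRing A] (R : Type v) [CommRing R] [Algebra A R]
    (Γ : Type w) [Group Γ] [Finite Γ] [MulSemiringAction Γ R] [SMulCommClass Γ A R]
    [Algebra.IsInvariant A R Γ] (hinj : Function.Injective (algebraMap A R))
    (hΓ : IsUnit (Nat.card Γ : R))
    (S : Type w') [CommRing S] [Algebra A S] :
    Function.Injective (fun s : S => s ⊗ₜ[A] (1 : R)) ∧
      ∀ x : S ⊗[A] R,
        (∀ γ : Γ, Algebra.TensorProduct.map (AlgHom.id A S) (MulSemiringAction.toAlgHom A R γ) x = x) →
          x ∈ Set.range (fun s : S => s ⊗ₜ[A] (1 : R)) := by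
  classical
  cases nonempty_fintype Γ
  obtain ⟨u, hu⟩ := hΓ.exists_left_inv
  rw [Nat.card_eq_fintype_card] at hu
  -- the linear maps
  let σ : Γ → (R →ₗ[A] R) := fun γ => (MulSemiringAction.toAlgHom A R γ).toLinearMap
  have hσ : ∀ γ r, σ γ r = γ • r := fun γ r => rfl
  let mulU : R →ₗ[A] R := LinearMap.mulLeft A u
  let avgR : R →ₗ[A] R := mulU ∘ₗ ∑ γ : Γ, σ γ
  have havg : ∀ r, avgR r = u * ∑ γ : Γ, γ • r := by
    intro r
    simp [avgR, mulU, hσ, Finset.mul_sum]
  -- u is invariant
  have hcard : ∀ γ : Γ, γ • ((Fintype.card Γ : ℕ) : R) = ((Fintype.card Γ : ℕ) : R) := by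
    intro γ
    exact map_natCast (MulSemiringAction.toRingHom Γ R γ) _
  have hu_inv : ∀ γ : Γ, γ • u = u := by
    intro γ
    have h1 : (γ • u) * ((Fintype.card Γ : ℕ) : R) = 1 := by
      rw [← hcard γ, ← smul_mul', hu, smul_one]
    calc γ • u = (γ • u) * (((Fintype.card Γ : ℕ) : R) * u) := by
            rw [mul_comm ((Fintype.card Γ : ℕ) : R) u, hu, mul_one]
      _ = ((γ • u) * ((Fintype.card Γ : ℕ) : R)) * u := by ring
      _ = u := by rw [h1, one_mul]
  have havg_inv : ∀ r (γ : Γ), γ • avgR r = avgR r := by
    intro r γ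
    rw [havg, smul_mul', hu_inv, Finset.smul_sum]
    congr 1
    simp_rw [← mul_smul]
    exact Fintype.sum_equiv (Equiv.mulLeft γ) _ _ (fun _ => rfl)
  have havg_fixed : ∀ r, (∀ γ : Γ, γ • r = r) → avgR r = r := by
    intro r hr
    rw [havg]
    simp_rw [hr]
    rw [Finset.sum_const, Finset.card_univ, nsmul_eq_mul, ← mul_assoc, hu, one_mul]
  let ι : A →ₗ[A] R := Algebra.linearMap A R
  have hι : Function.Injective ι := hinj
  have hrange : ∀ r, avgR r ∈ LinearMap.range ι := by
    intro r
    obtain ⟨a, ha⟩ := Algebra.IsInvariant.isInvariant (A := A) (G := Γ) (avgR r) (havg_inv r)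
    exact ⟨a, ha⟩
  let e := LinearEquiv.ofInjective ι hι
  let ρ : R →ₗ[A] A := e.symm.toLinearMap ∘ₗ (avgR.codRestrict (LinearMap.range ι) hrange)
  have hρ : ∀ r, ι (ρ r) = avgR r := by
    intro r
    have : (e (ρ r) : R) = avgR r := by
      simp [ρ]
    simpa [e] using this
  have hιfixed : ∀ (a : A) (γ : Γ), γ • ι a = ι a := by
    intro a γ
    show γ • algebraMap A R a = algebraMap A R a
    rw [Algebra.algebraMap_eq_smul_one, smul_comm, smul_one]
  have hρι : ∀ a, ρ (ι a) = a := by
    intro a
    apply hι
    rw [hρ, havg_fixed _ (hιfixed a)]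
  have hρ1 : ρ 1 = 1 := by
    have := hρι 1
    simpa [ι] using this
  have hcomp : ι ∘ₗ ρ = avgR := LinearMap.ext hρ
  constructor
  · -- injectivity
    let π : S ⊗[A] R →ₗ[A] S := (TensorProduct.rid A S).toLinearMap ∘ₗ LinearMap.lTensor S ρ
    have hπ : ∀ s : S, π (s ⊗ₜ[A] (1 : R)) = s := by
      intro s
      simp [π, hρ1]
    intro s t hst
    have := congrArg π hst
    simpa [hπ] using this
  · intro x hx
    -- lTensor of σ γ agrees with the algebra map
    have hmap : ∀ (γ : Γ) (y : S ⊗[A] R), LinearMap.lTensor S (σ γ) y =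
        Algebra.TensorProduct.map (AlgHom.id A S) (MulSemiringAction.toAlgHom A R γ) y := by
      intro γ y
      induction y using TensorProduct.induction_on with
      | zero => simp
      | tmul s r => simp [σ]
      | add a b ha hb => rw [map_add, map_add, ha, hb]
    have hsum : LinearMap.lTensor S (∑ γ : Γ, σ γ) x = (Fintype.card Γ) • x := by
      have h0 : LinearMap.lTensor S (∑ γ : Γ, σ γ) = ∑ γ : Γ, LinearMap.lTensor S (σ γ) :=
        map_sum (LinearMap.lTensorHom (R := A) S) σ Finset.univ
      rw [h0, LinearMap.sum_apply]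
      simp_rw [hmap, hx]
      rw [Finset.sum_const, Finset.card_univ]
    have hx' : LinearMap.lTensor S avgR x = x := by
      show LinearMap.lTensor S (mulU ∘ₗ ∑ γ : Γ, σ γ) x = x
      rw [LinearMap.lTensor_comp, LinearMap.comp_apply, hsum, map_nsmul, ← LinearMap.smul_apply]
      have h1 : (Fintype.card Γ) • LinearMap.lTensor S mulU
          = LinearMap.lTensor S ((Fintype.card Γ) • mulU) :=
        (map_nsmul (LinearMap.lTensorHom (R := A) S) (Fintype.card Γ) mulU).symm
      rw [h1]
      have : (Fintype.card Γ) • mulU = LinearMap.id := by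
        ext r
        simp only [LinearMap.smul_apply, LinearMap.mulLeft_apply, LinearMap.id_coe, id_eq, mulU]
        rw [nsmul_eq_mul, ← mul_assoc, mul_comm ((Fintype.card Γ : ℕ) : R) u, hu, one_mul]
      rw [this, LinearMap.lTensor_id, LinearMap.id_apply]
    rw [← hcomp, LinearMap.lTensor_comp, LinearMap.comp_apply] at hx'
    set y := LinearMap.lTensor S ρ x with hy
    refine ⟨TensorProduct.rid A S y, ?_⟩
    show (TensorProduct.rid A S y) ⊗ₜ[A] (1 : R) = x
    rw [← hx']
    have hy2 : y = (TensorProduct.rid A S y) ⊗ₜ[A] (1 : A) := by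
      have := (TensorProduct.rid A S).symm_apply_apply y
      rw [TensorProduct.rid_symm_apply] at this
      exact this.symm
    conv_rhs => rw [hy2]
    simp [ι]

end Groth.Agent.S16335
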