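import Groth.Statements.S16337
import Groth.Agent.Lib.Helper82.Avg

set_option autoImplicit false
universe u v w

namespace Groth.Agent.S16337

open Groth.Agent.Lib.Helper82 in
/-- Let `A` be a commutative ring, `Γ` a finite group whose order is invertible in `A`, `M` an
`A`-module with an `A`-linear action of `Γ`, and `I` an ideal of `A`. Then reduction modulo `I`
induces a bijection `M^Γ / I·M^Γ ≅ (M / IM)^Γ`: (a) an element of `M` fixed by `Γ` modulo `IM` is
congruent modulo `IM` to a `Γ`-fixed element, and (b) a `Γ`-fixed element lying in `IM` lies in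
`I·M^Γ`, where `M^Γ` is the submodule of `Γ`-fixed elements. (The published lemma says that
push-forward to the coarse space of a tame stack over a complete local base commutes with reduction
modulo powers of the maximal ideal; this row is the module statement its proof establishes, for an
arbitrary ideal.) -/
theorem result
    (A : Type u) [CommRing A] (Γ : Type v) [Group Γ] [Finite Γ] (hΓ : IsUnit (Nat.card Γ : A))
    (M : Type w) [AddCommGroup M] [Module A M] [DistribMulAction Γ M] [SMulCommClass Γ A M]
    (I : Ideal A) :
    (∀ x : M, (∀ γ : Γ, γ • x - x ∈ I • (⊤ : Submodule A M)) →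
        ∃ y : M, (∀ γ : Γ, γ • y = y) ∧ x - y ∈ I • (⊤ : Submodule A M)) ∧
      ∀ y : M, (∀ γ : Γ, γ • y = y) → y ∈ I • (⊤ : Submodule A M) →
        y ∈ I • Submodule.span A {m : M | ∀ γ : Γ, γ • m = m} := by
  cases nonempty_fintype Γ
  obtain ⟨c, hc⟩ := hΓ.exists_left_inv
  rw [Nat.card_eq_fintype_card] at hc
  constructor
  · intro x hx
    refine ⟨avg (Γ := Γ) c x, fun γ => smul_avg c x γ, ?_⟩
    rw [sub_avg c hc]
    refine Submodule.smul_mem _ _ (Submodule.sum_mem _ ?_)
    intro γ _
    have := hx γ
    rw [← neg_sub]
    exact Submodule.neg_mem _ this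
  · intro y hy hyI
    have h1 : avg (Γ := Γ) c y = y := avg_of_fixed c hc y hy
    have h2 : avg (Γ := Γ) c y ∈ Submodule.map (avg (Γ := Γ) c) (I • (⊤ : Submodule A M)) :=
      Submodule.mem_map_of_mem hyI
    rw [Submodule.map_smul''] at h2
    rw [h1] at h2
    refine Submodule.smul_mono (le_refl I) ?_ h2
    rintro _ ⟨m, -, rfl⟩
    exact Submodule.subset_span (fun γ => smul_avg c m γ)

end Groth.Agent.S16337
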