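import Groth.Statements.S16338
import Groth.Agent.Lib.Helper66.EndTransDM

set_option autoImplicit false
universe u
open CategoryTheory
open AlgSt

namespace Groth.Agent.S16338

/-- Let `S` be a scheme, `𝒳` and `𝒴` Deligne–Mumford stacks over `(Sch/S)` (fppf topology) such that the
diagonal of `𝒴` is representable by algebraic spaces and separated (the isomorphism spaces of `𝒴`
are separated), and `F : 𝒳 → 𝒴` a functor over `(Sch/S)` representable by algebraic spaces. Suppose
`i : 𝒰 → 𝒳` and `j : 𝒱 → 𝒴` are open immersions with `𝒰`, `𝒱` representable by algebraic spaces, the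
image of `|𝒰|` is dense in `|𝒳|`, and `F` maps `𝒰` into `𝒱`: there is `G : 𝒰 → 𝒱` with a
2-isomorphism `G ⋙ j ≅ i ⋙ F` over `(Sch/S)`. Then every 2-endomorphism `α : F ⇒ F` over `(Sch/S)`
(all of which are invertible, the fibres being groupoids) equals the identity. Density is taken in
the topological space of points of `𝒳` (topological, not scheme-theoretic, density). (The published
statement works over a Noetherian base with Deligne–Mumford stacks whose isomorphism spaces are
separated and of finite type; this row keeps only the separatedness of the isomorphism spaces of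
`𝒴`, which its proof uses.) -/
theorem result
    (S : AlgebraicGeometry.Scheme.{u}) (𝒳 𝒴 𝒰 𝒱 : AlgSt.Cat S)
    (h𝒳 : AlgSt.IsDM AlgebraicGeometry.Scheme.fppfPrecoverage 𝒳)
    (h𝒴 : AlgSt.IsDM AlgebraicGeometry.Scheme.fppfPrecoverage 𝒴)
    (hΔ : AlgSt.RepByAlgSpWith AlgSp.IsSeparatedMor (FibCat.diag (FibCat.toSelf 𝒴)))
    (F : 𝒳 ⥤ᵇ 𝒴) (hF : AlgSt.RepByAlgSp1 F)
    (i : 𝒰 ⥤ᵇ 𝒳) (hi : AlgSt.IsOpenImm i) (h𝒰 : AlgSt.RepByAlgSp 𝒰)
    (hdense : Dense (Set.range (AlgSt.Points.map i)))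
    (j : 𝒱 ⥤ᵇ 𝒴) (hj : AlgSt.IsOpenImm j) (h𝒱 : AlgSt.RepByAlgSp 𝒱)
    (G : 𝒰 ⥤ᵇ 𝒱) (e : BasedFunctor.comp G j ≅ BasedFunctor.comp i F)
    (α : F ⟶ F) : α = 𝟙 F := by
  open FibCat Groth.Agent.Lib.Helper31 Groth.Agent.Lib.Helper65 AlgebraicGeometry in
  have hY : IsFibGrpd 𝒴.p := h𝒴.1.isStack.1
  have hV : IsFibSetoid 𝒱.p := by
    obtain ⟨V, eV, heV⟩ := h𝒱
    exact isFibSetoid_of_equivOver eV heV (isFibSetoid_ofPsh _)
  have hmono : AlgSt.IsMono j :=
    repByAlgSpWith_mono (fun _ _ f hf => by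
      have : Mono f := Groth.Agent.H52.mono_of_repWith f @IsOpenImmersion
        (fun _ _ g hg => by have := hg; infer_instance) hf
      exact MorphismProperty.monomorphisms.infer_property f) j hj
  obtain ⟨hfull, -⟩ := full_faithful_of_isMono hV.1 hY j hmono
  exact Groth.Agent.Lib.Helper66.EndTransDM.endTrans_eq_id h𝒳 h𝒴 hΔ F i hdense α
    (fun u₀ => Groth.Agent.Lib.Helper66.EndTransDM.app_eq_id_of_factor F i j hV G e α u₀)

end Groth.Agent.S16338
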