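import Groth.Statements.S16343
import Mathlib

set_option autoImplicit false
open KatoHom

namespace Groth.Agent.S16343

/-- `n` is a positive integer all of whose prime factors lie in `P`. -/
def IsPnum (P : Set ℕ) (n : ℕ) : Prop := 0 < n ∧ ∀ p : ℕ, p.Prime → p ∣ n → p ∈ P

/-- `n` is a positive integer none of whose prime factors lies in `P`. -/
def IsQnum (P : Set ℕ) (n : ℕ) : Prop := 0 < n ∧ ∀ p : ℕ, p.Prime → p ∣ n → p ∉ P

lemma IsPnum.mul {P : Set ℕ} {a b : ℕ} (ha : IsPnum P a) (hb : IsPnum P b) : IsPnum P (a * b) := by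
  refine ⟨Nat.mul_pos ha.1 hb.1, fun p hp hdvd => ?_⟩
  rcases (Nat.Prime.dvd_mul hp).1 hdvd with h | h
  · exact ha.2 p hp h
  · exact hb.2 p hp h

lemma IsQnum.mul {P : Set ℕ} {a b : ℕ} (ha : IsQnum P a) (hb : IsQnum P b) : IsQnum P (a * b) := by
  refine ⟨Nat.mul_pos ha.1 hb.1, fun p hp hdvd => ?_⟩
  rcases (Nat.Prime.dvd_mul hp).1 hdvd with h | h
  · exact ha.2 p hp h
  · exact hb.2 p hp h

lemma isPnum_one (P : Set ℕ) : IsPnum P 1 :=
  ⟨Nat.one_pos, fun p hp hdvd => absurd (Nat.dvd_one.1 hdvd) hp.ne_one⟩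

lemma isQnum_one (P : Set ℕ) : IsQnum P 1 :=
  ⟨Nat.one_pos, fun p hp hdvd => absurd (Nat.dvd_one.1 hdvd) hp.ne_one⟩

lemma coprime_of_P_Q {P : Set ℕ} {a b : ℕ} (ha : IsPnum P a) (hb : IsQnum P b) : Nat.Coprime a b :=
  Nat.coprime_of_dvd (fun k hk hka hkb => hb.2 k hk hkb (ha.2 k hk hka))

/-- every positive integer is a product of a `P`-number and a `P'`-number -/
lemma exists_factor (P : Set ℕ) (n : ℕ) (hn : 0 < n) :
    ∃ a b, n = a * b ∧ IsPnum P a ∧ IsQnum P b := by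
  classical
  induction n using Nat.recOnMul with
  | zero => exact absurd hn (lt_irrefl 0)
  | one => exact ⟨1, 1, rfl, isPnum_one P, isQnum_one P⟩
  | prime p hp =>
    by_cases hpP : p ∈ P
    · refine ⟨p, 1, (mul_one p).symm, ⟨hp.pos, fun q hq hdvd => ?_⟩, isQnum_one P⟩
      rw [(Nat.prime_dvd_prime_iff_eq hq hp).1 hdvd]; exact hpP
    · refine ⟨1, p, (one_mul p).symm, isPnum_one P, ⟨hp.pos, fun q hq hdvd => ?_⟩⟩
      rw [(Nat.prime_dvd_prime_iff_eq hq hp).1 hdvd]; exact hpP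
  | mul a b iha ihb =>
    have ha : 0 < a := Nat.pos_of_ne_zero (fun h0 => by simp [h0] at hn)
    have hb : 0 < b := Nat.pos_of_ne_zero (fun h0 => by simp [h0] at hn)
    obtain ⟨a1, a2, rfl, h1, h2⟩ := iha ha
    obtain ⟨b1, b2, rfl, h3, h4⟩ := ihb hb
    exact ⟨a1 * b1, a2 * b2, by ring, h1.mul h3, h2.mul h4⟩

/-- an element killed by coprime integers vanishes -/
lemma eq_zero_of_coprime {M : Type*} [AddCommGroup M] {a b : ℕ} (hab : Nat.Coprime a b) (t : M)
    (ha : a • t = 0) (hb : b • t = 0) : t = 0 := by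
  have h1 : addOrderOf t ∣ a := addOrderOf_dvd_of_nsmul_eq_zero ha
  have h2 : addOrderOf t ∣ b := addOrderOf_dvd_of_nsmul_eq_zero hb
  have h3 : addOrderOf t ∣ 1 := by
    rw [← Nat.Coprime.gcd_eq_one hab]; exact Nat.dvd_gcd h1 h2
  exact AddMonoid.addOrderOf_eq_one_iff.1 (Nat.dvd_one.1 h3)

/-- division by an integer coprime to a killing integer -/
lemma exists_zsmul_of_coprime {M : Type*} [AddCommGroup M] {q n : ℕ} (hc : Nat.Coprime q n) (t : M)
    (hn : n • t = 0) : ∃ u : ℤ, t = q • (u • t) := by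
  obtain ⟨u, v, huv⟩ := Nat.isCoprime_iff_coprime.2 hc
  refine ⟨u, ?_⟩
  have h1 : t = (u * (q : ℤ) + v * (n : ℤ)) • t := by rw [huv, one_smul]
  rw [add_smul, mul_smul, mul_smul, natCast_zsmul, natCast_zsmul, hn, smul_zero, add_zero] at h1
  rw [smul_comm] at h1
  exact h1

/-- Let P be a set of primes and π : A → T a surjection of abelian groups whose kernel is ℓ-divisible
for every ℓ ∈ P, with T a torsion group; let T(P) be the subgroup of elements of T killed by a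
positive integer all of whose prime factors lie in P, and T' the subgroup of elements killed by a
positive integer none of whose prime factors lies in P. Then the preimage π⁻¹(T') is ℓ-divisible for
every ℓ ∈ P, and π has a section s over T(P) for which (d, t) ↦ d + s(t) is a bijection from π⁻¹(T')
× T(P) onto A, so that A is the direct sum of π⁻¹(T') and a copy of T(P). (The decomposition is
expressed through a section of π over T(P).) -/
theorem result
    {A T : Type*} [AddCommGroup A] [AddCommGroup T] (P : Set ℕ) (hP : ∀ p ∈ P, p.Prime)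
    (π : A →+ T) (hπ : Function.Surjective π) (hT : ∀ t : T, ∃ n : ℕ, 0 < n ∧ n • t = 0)
    (hD : ∀ ℓ ∈ P, ∀ x ∈ π.ker, ∃ y ∈ π.ker, ℓ • y = x)
    (TP T' : AddSubgroup T)
    (hTP : ∀ t, t ∈ TP ↔ ∃ n : ℕ, 0 < n ∧ (∀ p : ℕ, p.Prime → p ∣ n → p ∈ P) ∧ n • t = 0)
    (hT' : ∀ t, t ∈ T' ↔ ∃ n : ℕ, 0 < n ∧ (∀ p : ℕ, p.Prime → p ∣ n → p ∉ P) ∧ n • t = 0) :
    (∀ ℓ ∈ P, ∀ x ∈ T'.comap π, ∃ y ∈ T'.comap π, ℓ • y = x) ∧
    ∃ s : TP →+ A, (∀ t : TP, π (s t) = (t : T)) ∧
      Function.Bijective (fun q : (T'.comap π) × TP => (q.1 : A) + s q.2) := by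
  classical
  have hTP' : ∀ t, t ∈ TP ↔ ∃ n, IsPnum P n ∧ n • t = 0 := by
    intro t; rw [hTP]; constructor
    · rintro ⟨n, h1, h2, h3⟩; exact ⟨n, ⟨h1, h2⟩, h3⟩
    · rintro ⟨n, ⟨h1, h2⟩, h3⟩; exact ⟨n, h1, h2, h3⟩
  have hT'' : ∀ t, t ∈ T' ↔ ∃ n, IsQnum P n ∧ n • t = 0 := by
    intro t; rw [hT']; constructor
    · rintro ⟨n, h1, h2, h3⟩; exact ⟨n, ⟨h1, h2⟩, h3⟩
    · rintro ⟨n, ⟨h1, h2⟩, h3⟩; exact ⟨n, h1, h2, h3⟩
  -- the kernel is divisible by P-numbers
  have hKdiv : ∀ n, IsPnum P n → ∀ x ∈ π.ker, ∃ y ∈ π.ker, n • y = x := by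
    intro n
    induction n using Nat.recOnMul with
    | zero => intro h; exact absurd h.1 (lt_irrefl 0)
    | one => intro _ x hx; exact ⟨x, hx, one_smul ℕ x⟩
    | prime p hp => intro hpn x hx; exact hD p (hpn.2 p hp dvd_rfl) x hx
    | mul a b iha ihb =>
      intro hab x hx
      have ha : IsPnum P a := ⟨Nat.pos_of_ne_zero (fun h0 => by simp [h0] at hab; exact absurd hab.1 (lt_irrefl 0)),
        fun p hp hd => hab.2 p hp (hd.mul_right b)⟩
      have hb : IsPnum P b := ⟨Nat.pos_of_ne_zero (fun h0 => by simp [h0] at hab; exact absurd hab.1 (lt_irrefl 0)),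
        fun p hp hd => hab.2 p hp (hd.mul_left a)⟩
      obtain ⟨y, hy, hxy⟩ := iha ha x hx
      obtain ⟨z, hz, hyz⟩ := ihb hb y hy
      exact ⟨z, hz, by rw [mul_smul, hyz, hxy]⟩
  refine ⟨?_, ?_⟩
  · intro ℓ hℓ x hx
    have hx' : π x ∈ T' := hx
    obtain ⟨n, hn, hnx⟩ := (hT'' _).1 hx'
    have hℓprime := hP ℓ hℓ
    have hc : Nat.Coprime ℓ n :=
      (Nat.Prime.coprime_iff_not_dvd hℓprime).2 (fun hd => hn.2 ℓ hℓprime hd hℓ)
    obtain ⟨u, hu⟩ := exists_zsmul_of_coprime hc (π x) hnx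
    have hker : x - ℓ • (u • x) ∈ π.ker := by
      rw [AddMonoidHom.mem_ker, map_sub, map_nsmul, map_zsmul, ← hu, sub_self]
    obtain ⟨y₀, hy₀, hy₀'⟩ := hD ℓ hℓ _ hker
    refine ⟨u • x + y₀, ?_, ?_⟩
    · show π (u • x + y₀) ∈ T'
      rw [map_add, map_zsmul, AddMonoidHom.mem_ker.1 hy₀, add_zero]
      exact T'.zsmul_mem hx' u
    · rw [smul_add, hy₀']; abel
  · -- the P-torsion subgroup of A
    let AP : AddSubgroup A :=
      { carrier := {a | ∃ n, IsPnum P n ∧ n • a = 0}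
        zero_mem' := ⟨1, isPnum_one P, by simp⟩
        add_mem' := by
          rintro a b ⟨n, hn, hna⟩ ⟨m, hm, hmb⟩
          refine ⟨n * m, hn.mul hm, ?_⟩
          have h1 : (n * m) • a = 0 := by rw [mul_comm, mul_smul, hna, smul_zero]
          have h2 : (n * m) • b = 0 := by rw [mul_smul, hmb, smul_zero]
          rw [smul_add, h1, h2, add_zero]
        neg_mem' := by
          rintro a ⟨n, hn, hna⟩
          exact ⟨n, hn, by rw [smul_neg, hna, neg_zero]⟩ }
    have hAP : ∀ a, a ∈ AP ↔ ∃ n, IsPnum P n ∧ n • a = 0 := fun a => Iff.rfl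
    let πP : AP →+ TP := (π.comp AP.subtype).codRestrict TP (by
      rintro ⟨a, n, hn, hna⟩
      refine (hTP' _).2 ⟨n, hn, ?_⟩
      show n • π a = 0
      rw [← map_nsmul, hna, map_zero])
    have hπP : ∀ a : AP, ((πP a : TP) : T) = π (a : A) := fun a => rfl
    have hsurj : Function.Surjective πP := by
      rintro ⟨t, ht⟩
      obtain ⟨n, hn, hnt⟩ := (hTP' t).1 ht
      obtain ⟨a, rfl⟩ := hπ t
      have hmem : n • a ∈ π.ker := by rw [AddMonoidHom.mem_ker, map_nsmul, hnt]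
      obtain ⟨k, hk, hk'⟩ := hKdiv n hn _ hmem
      refine ⟨⟨a - k, n, hn, by rw [smul_sub, hk', sub_self]⟩, ?_⟩
      apply Subtype.ext
      show π (a - k) = π a
      rw [map_sub, AddMonoidHom.mem_ker.1 hk, sub_zero]
    let KP : AddSubgroup AP := πP.ker
    have hKP : ∀ a : AP, a ∈ KP ↔ π (a : A) = 0 := by
      intro a
      show πP a = 0 ↔ _
      rw [← hπP a]
      exact ⟨fun h => by rw [h]; rfl, fun h => Subtype.ext h⟩
    -- KP is divisible
    have hnat : ∀ m : ℕ, 0 < m → ∀ k : KP, ∃ k' : KP, m • k' = k := by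
      rintro m hm ⟨⟨a, n, hn, hna⟩, hk⟩
      have hka : π a = 0 := (hKP _).1 hk
      obtain ⟨m₁, m₂, rfl, hm₁, hm₂⟩ := exists_factor P m hm
      have hc : Nat.Coprime m₂ n := (coprime_of_P_Q hn hm₂).symm
      obtain ⟨u, hu⟩ := exists_zsmul_of_coprime hc a hna
      have ha₂ : u • a ∈ π.ker := by rw [AddMonoidHom.mem_ker, map_zsmul, hka, smul_zero]
      obtain ⟨a₃, ha₃, ha₃'⟩ := hKdiv m₁ hm₁ _ ha₂
      have ha₃AP : a₃ ∈ AP := by
        refine ⟨m₁ * n, hm₁.mul hn, ?_⟩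
        rw [mul_comm, mul_smul, ha₃', smul_comm, hna, smul_zero]
      refine ⟨⟨⟨a₃, ha₃AP⟩, (hKP _).2 (AddMonoidHom.mem_ker.1 ha₃)⟩, ?_⟩
      apply Subtype.ext
      apply Subtype.ext
      show (m₁ * m₂) • a₃ = a
      rw [mul_comm, mul_smul, ha₃', ← hu]
    have hdivZ : ∀ {n : ℤ}, n ≠ 0 → Function.Surjective (fun k : KP => n • k) := by
      intro n hn k
      obtain ⟨m, rfl | rfl⟩ := Int.eq_nat_or_neg n
      · have hm : 0 < m := Nat.pos_of_ne_zero (fun h0 => hn (by simp [h0]))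
        obtain ⟨k', hk'⟩ := hnat m hm k
        exact ⟨k', by simpa using hk'⟩
      · have hm : 0 < m := Nat.pos_of_ne_zero (fun h0 => hn (by simp [h0]))
        obtain ⟨k', hk'⟩ := hnat m hm k
        refine ⟨-k', ?_⟩
        show (-(m : ℤ)) • (-k') = k
        rw [neg_smul_neg, natCast_zsmul, hk']
    letI : DivisibleBy KP ℤ := divisibleByOfSMulRightSurj _ _ hdivZ
    have hB : Module.Baer ℤ KP := Module.Baer.of_divisible KP
    obtain ⟨r, hr⟩ := hB.extension_property_addMonoidHom KP.subtype KP.subtype_injective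
      (AddMonoidHom.id KP)
    have hr' : ∀ k : KP, r (k : AP) = k := fun k => DFunLike.congr_fun hr k
    let σ : AP →+ A := AP.subtype - AP.subtype.comp (KP.subtype.comp r)
    have hσ : ∀ a : AP, σ a = (a : A) - ((r a : AP) : A) := fun a => rfl
    have hle : πP.ker ≤ σ.ker := by
      intro a ha
      rw [AddMonoidHom.mem_ker, hσ]
      have := hr' ⟨a, ha⟩
      simp only at this
      rw [this, sub_self]
    let s : TP →+ A := (πP.liftOfRightInverse (Function.surjInv hsurj)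
      (Function.rightInverse_surjInv hsurj)) ⟨σ, hle⟩
    have hs : ∀ a : AP, s (πP a) = σ a := fun a =>
      AddMonoidHom.liftOfRightInverse_comp_apply _ _ _ ⟨σ, hle⟩ a
    have hπs : ∀ t : TP, π (s t) = (t : T) := by
      intro t
      obtain ⟨a, rfl⟩ := hsurj t
      rw [hs, hσ, map_sub, (hKP (r a : AP)).1 (r a).2, sub_zero, hπP]
    refine ⟨s, hπs, ?_, ?_⟩
    · -- injective
      rintro ⟨⟨d, hd⟩, t⟩ ⟨⟨d', hd'⟩, t'⟩ h
      simp only at h
      have hdT : π d ∈ T' := hd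
      have hdT' : π d' ∈ T' := hd'
      have h1 := congrArg π h
      rw [map_add, map_add, hπs, hπs] at h1
      have h2 : ((t - t' : TP) : T) = π d' - π d := by
        push_cast
        rw [sub_eq_sub_iff_add_eq_add, add_comm, h1, add_comm]
      have h3 : ((t - t' : TP) : T) ∈ T' := by rw [h2]; exact T'.sub_mem hdT' hdT
      obtain ⟨n, hn, hnt⟩ := (hTP' _).1 (t - t').2
      obtain ⟨m, hm, hmt⟩ := (hT'' _).1 h3
      have h4 : ((t - t' : TP) : T) = 0 := eq_zero_of_coprime (coprime_of_P_Q hn hm) _ hnt hmt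
      have h5 : t = t' := by
        have : t - t' = 0 := Subtype.ext h4
        exact sub_eq_zero.1 this
      subst h5
      have h6 : d = d' := add_right_cancel h
      subst h6
      rfl
    · -- surjective
      intro a
      obtain ⟨m, hm, hma⟩ := hT (π a)
      obtain ⟨m₁, m₂, rfl, hm₁, hm₂⟩ := exists_factor P m hm
      obtain ⟨u, v, huv⟩ := Nat.isCoprime_iff_coprime.2 (coprime_of_P_Q hm₁ hm₂)
      have ht₁ : (v * (m₂ : ℤ)) • π a ∈ TP := by
        refine (hTP' _).2 ⟨m₁, hm₁, ?_⟩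
        rw [← natCast_zsmul, ← mul_smul, show (m₁ : ℤ) * (v * (m₂ : ℤ)) = v * ((m₁ * m₂ : ℕ) : ℤ) by
          push_cast; ring, mul_smul, natCast_zsmul, hma, smul_zero]
      let tP : TP := ⟨_, ht₁⟩
      have hd : a - s tP ∈ T'.comap π := by
        show π (a - s tP) ∈ T'
        rw [map_sub, hπs]
        refine (hT'' _).2 ⟨m₂, hm₂, ?_⟩
        have h1 : π a - (v * (m₂ : ℤ)) • π a = (u * (m₁ : ℤ)) • π a := by
          have : π a = (u * (m₁ : ℤ) + v * (m₂ : ℤ)) • π a := by rw [huv, one_smul]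
          conv_lhs => lhs; rw [this]
          rw [add_smul, add_sub_cancel_right]
        show m₂ • (π a - (v * (m₂ : ℤ)) • π a) = 0
        rw [h1, ← natCast_zsmul, ← mul_smul,
          show (m₂ : ℤ) * (u * (m₁ : ℤ)) = u * ((m₁ * m₂ : ℕ) : ℤ) by push_cast; ring, mul_smul,
          natCast_zsmul, hma, smul_zero]
      refine ⟨(⟨a - s tP, hd⟩, tP), ?_⟩
      show a - s tP + s tP = a
      abel

end Groth.Agent.S16343
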