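import Groth.Statements.S16344
import Mathlib

set_option autoImplicit false
universe u v
open IdeleMod

namespace Groth.Agent.S16344

/-- An inverse system of nonempty closed subsets of compact Hausdorff spaces has a compatible
family. -/
lemma exists_compatible {ι : Type u} [Preorder ι] [IsDirected ι (· ≤ ·)]
    (G : ι → Type v) [∀ i, TopologicalSpace (G i)] [∀ i, CompactSpace (G i)] [∀ i, T2Space (G i)]
    (f : ∀ ⦃i j : ι⦄, i ≤ j → (G j → G i)) (hf : ∀ i j (h : i ≤ j), Continuous (f h))
    (hcomp : ∀ i j k (hij : i ≤ j) (hjk : j ≤ k) (x : G k), f hij (f hjk x) = f (hij.trans hjk) x)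
    (S : ∀ i, Set (G i)) (hS : ∀ i, IsClosed (S i)) (hne : ∀ i, (S i).Nonempty)
    (hmap : ∀ i j (h : i ≤ j), ∀ y ∈ S j, f h y ∈ S i) :
    ∃ x : ∀ i, G i, (∀ i, x i ∈ S i) ∧ ∀ i j (h : i ≤ j), f h (x j) = x i := by
  classical
  rcases isEmpty_or_nonempty ι with hι | hι
  · exact ⟨fun i => isEmptyElim i, fun i => isEmptyElim i, fun i => isEmptyElim i⟩
  let C : ι → Set (∀ i, G i) := fun k =>
    {x | (∀ i, x i ∈ S i) ∧ ∀ i j (h : i ≤ j), j ≤ k → f h (x j) = x i}
  have hCmono : ∀ k k', k ≤ k' → C k' ⊆ C k := by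
    intro k k' hkk' x hx
    exact ⟨hx.1, fun i j h hj => hx.2 i j h (hj.trans hkk')⟩
  have hdir : Directed (· ⊇ ·) C := by
    intro a b
    obtain ⟨c, hac, hbc⟩ := exists_ge_ge a b
    exact ⟨c, hCmono a c hac, hCmono b c hbc⟩
  have hCne : ∀ k, (C k).Nonempty := by
    intro k
    obtain ⟨s, hs⟩ := hne k
    refine ⟨fun i => if h : i ≤ k then f h s else (hne i).some, ?_, ?_⟩
    · intro i
      by_cases h : i ≤ k
      · simp only [h, dif_pos]; exact hmap i k h s hs
      · simp only [h, dif_neg, not_false_eq_true]; exact (hne i).some_mem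
    · intro i j h hj
      have hi : i ≤ k := h.trans hj
      simp only [hi, hj, dif_pos]
      exact hcomp i j k h hj s
  have hCcl : ∀ k, IsClosed (C k) := by
    intro k
    have h1 : IsClosed {x : ∀ i, G i | ∀ i, x i ∈ S i} := by
      have : {x : ∀ i, G i | ∀ i, x i ∈ S i} = ⋂ i, (fun x : ∀ i, G i => x i) ⁻¹' (S i) := by
        ext x; simp
      rw [this]
      exact isClosed_iInter fun i => (hS i).preimage (continuous_apply i)
    have h2 : IsClosed {x : ∀ i, G i | ∀ i j (h : i ≤ j), j ≤ k → f h (x j) = x i} := by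
      have : {x : ∀ i, G i | ∀ i j (h : i ≤ j), j ≤ k → f h (x j) = x i}
          = ⋂ i, ⋂ j, ⋂ (h : i ≤ j), ⋂ (_ : j ≤ k), {x : ∀ i, G i | f h (x j) = x i} := by
        ext x; simp
      rw [this]
      refine isClosed_iInter fun i => isClosed_iInter fun j => isClosed_iInter fun h =>
        isClosed_iInter fun _ => ?_
      exact isClosed_eq ((hf i j h).comp (continuous_apply j)) (continuous_apply i)
    exact h1.inter h2
  obtain ⟨x, hx⟩ := IsCompact.nonempty_iInter_of_directed_nonempty_isCompact_isClosed C hdir hCne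
    (fun k => (hCcl k).isCompact) hCcl
  rw [Set.mem_iInter] at hx
  refine ⟨x, fun i => (hx i).1 i, fun i j h => (hx j).2 i j h le_rfl⟩

/-- Let (G_i) be an inverse system, indexed by a directed preorder, of compact Hausdorff topological
abelian groups with continuous surjective transition maps, let G be its limit (the group of
compatible families) and let m be a natural number. Then the canonical map G/mG → lim G_i/mG_i is
bijective: a compatible family that lies in mG_i at every index is m times a compatible family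
(injectivity), and every family that is compatible modulo m agrees modulo m, index by index, with a
compatible family (surjectivity). -/
theorem result
    {ι : Type u} [Preorder ι] [IsDirected ι (· ≤ ·)]
    (G : ι → Type v) [∀ i, AddCommGroup (G i)] [∀ i, TopologicalSpace (G i)]
    [∀ i, IsTopologicalAddGroup (G i)] [∀ i, CompactSpace (G i)] [∀ i, T2Space (G i)]
    (f : ∀ ⦃i j : ι⦄, i ≤ j → (G j →+ G i)) (hf : ∀ i j (h : i ≤ j), Continuous (f h))
    (hid : ∀ i (x : G i), f (le_refl i) x = x)
    (hcomp : ∀ i j k (hij : i ≤ j) (hjk : j ≤ k) (x : G k), f hij (f hjk x) = f (hij.trans hjk) x)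
    (hsurj : ∀ i j (h : i ≤ j), Function.Surjective (f h)) (m : ℕ) :
    (∀ x : ∀ i, G i, (∀ i j (h : i ≤ j), f h (x j) = x i) → (∀ i, ∃ y : G i, m • y = x i) →
        ∃ z : ∀ i, G i, (∀ i j (h : i ≤ j), f h (z j) = z i) ∧ ∀ i, m • z i = x i) ∧
    (∀ y : ∀ i, G i, (∀ i j (h : i ≤ j), ∃ w : G i, f h (y j) - y i = m • w) →
        ∃ x : ∀ i, G i, (∀ i j (h : i ≤ j), f h (x j) = x i) ∧ ∀ i, ∃ w : G i, x i - y i = m • w) := by
  constructor
  · intro x hx hdiv
    obtain ⟨z, hz1, hz2⟩ := exists_compatible G (fun i j h => (f h : G j → G i)) hf hcomp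
      (fun i => {y | m • y = x i})
      (fun i => isClosed_eq (continuous_nsmul m) continuous_const)
      (fun i => hdiv i)
      (by
        intro i j h y hy
        show m • f h y = x i
        rw [← map_nsmul, show m • y = x j from hy, hx i j h])
    exact ⟨z, hz2, hz1⟩
  · intro y hy
    obtain ⟨x, hx1, hx2⟩ := exists_compatible G (fun i j h => (f h : G j → G i)) hf hcomp
      (fun i => Set.range (fun w : G i => y i + m • w))
      (fun i => (isCompact_range (continuous_const.add (continuous_nsmul m))).isClosed)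
      (fun i => Set.range_nonempty _)
      (by
        rintro i j h _ ⟨w, rfl⟩
        obtain ⟨w', hw'⟩ := hy i j h
        refine ⟨w' + f h w, ?_⟩
        show y i + m • (w' + f h w) = f h (y j + m • w)
        rw [map_add, map_nsmul, smul_add, ← hw']
        abel)
    refine ⟨x, hx2, fun i => ?_⟩
    obtain ⟨w, hw⟩ := hx1 i
    exact ⟨w, by rw [← hw]; simp⟩

end Groth.Agent.S16344
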