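import Groth.Statements.S16348
import Mathlib
import Groth.Agent.Lib.Helper92.FivePts
-- import your own Groth.Agent.* helpers here

set_option autoImplicit false
universe u
open Cubic

namespace Groth.Agent.S16348

/-- Let k be a field of characteristic zero and S = V(F) ⊂ P^3 the cubic surface of a homogeneous cubic
F ∈ k[x_0, …, x_3] which is geometrically irreducible and not a cone, and let a be a k-rational
point of S which is not a T-point. Then S has five k-rational points in general position (no four of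
them coplanar, i.e. any four representing vectors linearly independent), one of which is a. Here ℓ =
Σ_i ∂F/∂x_i(a) · x_i is the linear form of the tangent plane at a (zero when a is singular), and a
is called a T-point when a is a smooth point of S and the plane cubic T_a S ∩ S is set-theoretically
a union of lines, i.e. when F agrees modulo ℓ with a product of three linear forms over the
algebraic closure; the hypothesis is that a is not a T-point (automatic for a singular point, F
being irreducible). S is not a cone: no nonzero vector v has Σ_i v_i ∂F/∂x_i = 0. -/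
theorem result (k : Type u) [Field k] [CharZero k]
    (F : MvPolynomial (Fin 4) k) (hF : F.IsHomogeneous 3)
    (hirr : Irreducible (MvPolynomial.map (algebraMap k (AlgebraicClosure k)) F))
    (hcone : ¬ ∃ v : Fin 4 → k, v ≠ 0 ∧ ∑ i : Fin 4, v i • MvPolynomial.pderiv i F = 0)
    (a : Fin 4 → k) (ha : a ≠ 0) (hFa : MvPolynomial.eval a F = 0)
    (ℓ : MvPolynomial (Fin 4) (AlgebraicClosure k))
    (hℓ : ℓ = ∑ i : Fin 4, MvPolynomial.C (algebraMap k (AlgebraicClosure k) (MvPolynomial.eval a (MvPolynomial.pderiv i F))) * MvPolynomial.X i)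
    (hT : ¬ ∃ L₁ L₂ L₃ : MvPolynomial (Fin 4) (AlgebraicClosure k), L₁.IsHomogeneous 1 ∧ L₂.IsHomogeneous 1 ∧ L₃.IsHomogeneous 1 ∧
      MvPolynomial.map (algebraMap k (AlgebraicClosure k)) F - L₁ * L₂ * L₃ ∈ Ideal.span {ℓ}) :
    ∃ p : Fin 5 → (Fin 4 → k), p 0 = a ∧ (∀ j : Fin 5, MvPolynomial.eval (p j) F = 0) ∧
      ∀ j : Fin 5, LinearIndependent k (fun i : Fin 4 => p (j.succAbove i)) := by
  have hT' : ¬ Groth.Agent.Lib.Helper92.TPoints.TP
      (MvPolynomial.map (algebraMap k (AlgebraicClosure k)) F)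
      (Groth.Agent.Lib.Helper92.FivePts.mv (algebraMap k (AlgebraicClosure k)) a) := by
    rintro ⟨-, -, -, L₁, L₂, L₃, h1, h2, h3, hmem⟩
    apply hT
    refine ⟨L₁, L₂, L₃, h1, h2, h3, ?_⟩
    rw [hℓ]
    have e : ∀ i : Fin 4, MvPolynomial.eval
        (Groth.Agent.Lib.Helper92.FivePts.mv (algebraMap k (AlgebraicClosure k)) a)
        (MvPolynomial.pderiv i (MvPolynomial.map (algebraMap k (AlgebraicClosure k)) F))
        = algebraMap k (AlgebraicClosure k) (MvPolynomial.eval a (MvPolynomial.pderiv i F)) := by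
      intro i
      rw [MvPolynomial.pderiv_map, Groth.Agent.Lib.Helper92.FivePts.eval_map_mv]
    simp only [e] at hmem
    exact hmem
  obtain ⟨b₁, b₂, c₁, c₂, hb₁, hb₂, hc₁, hc₂, l0, l1, l2, l3, l4⟩ :=
    Groth.Agent.Lib.Helper92.FivePts.five_points_main hF hirr hcone ha hFa hT'
  refine ⟨![a, b₁, b₂, c₁, c₂], rfl, ?_, ?_⟩
  · intro j
    fin_cases j
    · exact hFa
    · exact hb₁
    · exact hb₂
    · exact hc₁
    · exact hc₂
  · intro j
    fin_cases j
    · have e : (fun i : Fin 4 => (![a, b₁, b₂, c₁, c₂] : Fin 5 → Fin 4 → k)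
          ((0 : Fin 5).succAbove i)) = ![b₁, b₂, c₁, c₂] := by
        funext i; fin_cases i <;> rfl
      show LinearIndependent k (fun i : Fin 4 => (![a, b₁, b₂, c₁, c₂] : Fin 5 → Fin 4 → k)
          ((0 : Fin 5).succAbove i))
      rw [e]; exact l0
    · have e : (fun i : Fin 4 => (![a, b₁, b₂, c₁, c₂] : Fin 5 → Fin 4 → k)
          ((1 : Fin 5).succAbove i)) = ![a, b₂, c₁, c₂] := by
        funext i; fin_cases i <;> rfl
      show LinearIndependent k (fun i : Fin 4 => (![a, b₁, b₂, c₁, c₂] : Fin 5 → Fin 4 → k)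
          ((1 : Fin 5).succAbove i))
      rw [e]; exact l1
    · have e : (fun i : Fin 4 => (![a, b₁, b₂, c₁, c₂] : Fin 5 → Fin 4 → k)
          ((2 : Fin 5).succAbove i)) = ![a, b₁, c₁, c₂] := by
        funext i; fin_cases i <;> rfl
      show LinearIndependent k (fun i : Fin 4 => (![a, b₁, b₂, c₁, c₂] : Fin 5 → Fin 4 → k)
          ((2 : Fin 5).succAbove i))
      rw [e]; exact l2
    · have e : (fun i : Fin 4 => (![a, b₁, b₂, c₁, c₂] : Fin 5 → Fin 4 → k)
          ((3 : Fin 5).succAbove i)) = ![a, b₁, b₂, c₂] := by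
        funext i; fin_cases i <;> rfl
      show LinearIndependent k (fun i : Fin 4 => (![a, b₁, b₂, c₁, c₂] : Fin 5 → Fin 4 → k)
          ((3 : Fin 5).succAbove i))
      rw [e]; exact l3
    · have e : (fun i : Fin 4 => (![a, b₁, b₂, c₁, c₂] : Fin 5 → Fin 4 → k)
          ((4 : Fin 5).succAbove i)) = ![a, b₁, b₂, c₁] := by
        funext i; fin_cases i <;> rfl
      show LinearIndependent k (fun i : Fin 4 => (![a, b₁, b₂, c₁, c₂] : Fin 5 → Fin 4 → k)
          ((4 : Fin 5).succAbove i))
      rw [e]; exact l4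

end Groth.Agent.S16348
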