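import Groth.Statements.S1635
import Groth.Agent.Lib.Helper67.CurveInv2
import Groth.Agent.S1520

set_option autoImplicit false
universe u
open CategoryTheory CategoryTheory.Limits AlgebraicGeometry
open Curves

namespace Groth.Agent.S1635

/-- Let X be a proper curve over k with global functions k and genus 0, and L an invertible module of
degree d > 0. Then H^0(X, L) has dimension d + 1 and H^1(X, L) = 0. -/
theorem result (k : Type u) [Field k] (X : Scheme.{u}) [X.Over (Spec (CommRingCat.of k))]
    [IsIntegral X] [IsProper (X ↘ (Spec (CommRingCat.of k)))] (hdim : topologicalKrullDim X = 1)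
    (h0 : Module.finrank k (Coh.HH X (Coh.structureModule X) 0) = 1) (hg : Curv2.genus k X = 0)
    (L : X.Modules) (hL : PicF.IsInvertible L) (d : ℕ) (hd : 0 < d) (hdeg : Curv2.deg k X L 1 = d) :
    Module.finrank k (Coh.HH X L 0) = d + 1 ∧ Subsingleton (Coh.HH X L 1) := by
  have hO1 := Groth.Agent.Lib.Helper67.CurveTors.rank_one_of_isInvertible
    (Groth.Agent.Lib.Helper11.GenLocus.isInvertible_structureModule X)
  have hL1 := Groth.Agent.Lib.Helper67.CurveTors.rank_one_of_isInvertible hL
  have hOcoh := Groth.Agent.Lib.Helper67.CurveDeg.isCoh_of_rank hO1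
  have eL := Groth.Agent.Lib.Helper67.CurveInv.euler_eq_of_coh k X hdim.le L
    (Groth.Agent.Lib.Helper67.CurveDeg.isCoh_of_rank hL1)
  have eO := Groth.Agent.Lib.Helper67.CurveInv.euler_eq_of_coh k X hdim.le (Coh.structureModule X)
    hOcoh
  have hdeg' := hdeg
  unfold Curv2.deg at hdeg'
  unfold Curv2.genus at hg
  rw [eL, eO, h0, hg] at hdeg'
  push_cast at hdeg'
  have h2 : (0 : ℤ) ≤ (Module.finrank k (Coh.HH X L 1) : ℤ) := Int.natCast_nonneg _
  have hpos : 0 < Module.finrank k (Coh.HH X L 0) := by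
    have : (0 : ℤ) < (Module.finrank k (Coh.HH X L 0) : ℤ) := by linarith
    exact_mod_cast this
  have hnt : Nontrivial (Coh.HH X L 0) := Module.nontrivial_of_finrank_pos hpos
  obtain ⟨s, hs⟩ := Groth.Agent.Lib.Helper67.CurveInv.exists_hom_ne_zero_of_nontrivial L hnt
  haveI := Groth.Agent.Lib.Helper67.CurveInv.finite_HH_of_coh k X hdim.le (Coh.structureModule X)
    hOcoh 1
  have hH1O : Subsingleton (Coh.HH X (Coh.structureModule X) 1) :=
    Module.finrank_zero_iff.mp hg
  have hH1L : Subsingleton (Coh.HH X L 1) :=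
    Groth.Agent.Lib.Helper67.CurveInv.subsingleton_HH_one_of_hom k X hdim.le hO1 hL1 s hs hH1O
  refine ⟨?_, hH1L⟩
  have h3 : Module.finrank k (Coh.HH X L 1) = 0 := Module.finrank_zero_of_subsingleton
  rw [h3] at hdeg'
  have : (Module.finrank k (Coh.HH X L 0) : ℤ) = (d : ℤ) + 1 := by
    push_cast at hdeg'
    linarith
  exact_mod_cast this

end Groth.Agent.S1635
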