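import Groth.Statements.S16351
import Mathlib.Tactic
import Mathlib.LinearAlgebra.Dimension.Constructions
import Mathlib.LinearAlgebra.FiniteDimensional.Lemmas
import Mathlib.Algebra.CharZero.Infinite

set_option autoImplicit false
universe u
open Cubic

namespace Groth.Agent.S16351

variable {K : Type u} [Field K]

theorem exists_coeffs (c0 c1 c2 : Fin 3 → K) (hc : LinearIndependent K ![c0, c1, c2])
    (v : Fin 3 → K) : ∃ α : Fin 3 → K, v = α 0 • c0 + α 1 • c1 + α 2 • c2 := by
  have hspan : Submodule.span K (Set.range ![c0, c1, c2]) = ⊤ := by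
    apply hc.span_eq_top_of_card_eq_finrank'
    simp
  have hv : v ∈ Submodule.span K (Set.range ![c0, c1, c2]) := by rw [hspan]; trivial
  rw [Submodule.mem_span_range_iff_exists_fun] at hv
  obtain ⟨α, hα⟩ := hv
  refine ⟨α, ?_⟩
  rw [← hα, Fin.sum_univ_three]
  rfl

theorem li4 (c : Fin 4 → Fin 3 → K) (τ : Fin 4 → K)
    (hc : LinearIndependent K ![c 0, c 1, c 2]) (α : Fin 3 → K)
    (hα : c 3 = α 0 • c 0 + α 1 • c 1 + α 2 • c 2)
    (hτ : τ 3 ≠ α 0 * τ 0 + α 1 * τ 1 + α 2 * τ 2) :
    LinearIndependent K (fun a : Fin 4 => (Fin.cons (τ a) (c a) : Fin 4 → K)) := by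
  rw [Fintype.linearIndependent_iff]
  intro μ hμ
  rw [Fin.sum_univ_four] at hμ
  have h0 := congrFun hμ 0
  simp only [Pi.add_apply, Pi.smul_apply, Fin.cons_zero, smul_eq_mul, Pi.zero_apply] at h0
  have htail : μ 0 • c 0 + μ 1 • c 1 + μ 2 • c 2 + μ 3 • c 3 = 0 := by
    funext i
    have := congrFun hμ i.succ
    simpa only [Pi.add_apply, Pi.smul_apply, Fin.cons_succ, smul_eq_mul, Pi.zero_apply] using this
  rw [hα] at htail
  have hrel : (μ 0 + μ 3 * α 0) • c 0 + (μ 1 + μ 3 * α 1) • c 1 + (μ 2 + μ 3 * α 2) • c 2 = 0 := by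
    rw [← htail]
    simp only [add_smul, smul_add, smul_smul]
    abel
  rw [Fintype.linearIndependent_iff] at hc
  have hc' := hc ![μ 0 + μ 3 * α 0, μ 1 + μ 3 * α 1, μ 2 + μ 3 * α 2] (by
    rw [Fin.sum_univ_three]; exact hrel)
  have e0 : μ 0 + μ 3 * α 0 = 0 := hc' 0
  have e1 : μ 1 + μ 3 * α 1 = 0 := hc' 1
  have e2 : μ 2 + μ 3 * α 2 = 0 := hc' 2
  have h3 : μ 3 * (τ 3 - (α 0 * τ 0 + α 1 * τ 1 + α 2 * τ 2)) = 0 := by
    have a0 : μ 0 = -(μ 3 * α 0) := by linear_combination e0
    have a1 : μ 1 = -(μ 3 * α 1) := by linear_combination e1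
    have a2 : μ 2 = -(μ 3 * α 2) := by linear_combination e2
    rw [a0, a1, a2] at h0
    linear_combination h0
  have hμ3 : μ 3 = 0 := by
    rcases mul_eq_zero.mp h3 with h | h
    · exact h
    · exact absurd (sub_eq_zero.mp h) hτ
  rw [hμ3] at e0 e1 e2
  simp only [zero_mul, add_zero] at e0 e1 e2
  intro a
  fin_cases a
  · exact e0
  · exact e1
  · exact e2
  · exact hμ3

/-- Let K be a field of characteristic zero and S = V(F) ⊂ P^3_K a cone over a plane cubic curve C,
normalised so that the vertex is [1 : 0 : 0 : 0], i.e. F is a homogeneous cubic in K[x_0, …, x_3]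
not involving x_0 and C = V(F) in the plane P^2 of the coordinates x_1, x_2, x_3. If C has five
K-rational points no three of which are collinear, then S has five K-rational points in general
position (no four coplanar: any four representing vectors linearly independent). -/
theorem result (K : Type u) [Field K] [CharZero K]
    (G : MvPolynomial (Fin 3) K) (hG : G.IsHomogeneous 3) (F : MvPolynomial (Fin 4) K)
    (hF : F = MvPolynomial.rename Fin.succ G)
    (b : Fin 5 → (Fin 3 → K)) (hb : ∀ j : Fin 5, MvPolynomial.eval (b j) G = 0)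
    (h3 : ∀ i j l : Fin 5, i ≠ j → j ≠ l → i ≠ l → LinearIndependent K ![b i, b j, b l]) :
    ∃ p : Fin 5 → (Fin 4 → K), (∀ j : Fin 5, MvPolynomial.eval (p j) F = 0) ∧
      ∀ j : Fin 5, LinearIndependent K (fun i : Fin 4 => p (j.succAbove i)) := by
  classical
  -- coefficient vectors
  obtain ⟨α0, hα0⟩ := exists_coeffs (b 1) (b 2) (b 3) (h3 1 2 3 (by decide) (by decide) (by decide)) (b 4)
  obtain ⟨α1, hα1⟩ := exists_coeffs (b 0) (b 2) (b 3) (h3 0 2 3 (by decide) (by decide) (by decide)) (b 4)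
  obtain ⟨α2, hα2⟩ := exists_coeffs (b 0) (b 1) (b 3) (h3 0 1 3 (by decide) (by decide) (by decide)) (b 4)
  obtain ⟨α3, hα3⟩ := exists_coeffs (b 0) (b 1) (b 2) (h3 0 1 2 (by decide) (by decide) (by decide)) (b 4)
  obtain ⟨α4, hα4⟩ := exists_coeffs (b 0) (b 1) (b 2) (h3 0 1 2 (by decide) (by decide) (by decide)) (b 3)
  obtain ⟨t4, ht4⟩ := Infinite.exists_notMem_finset ({0, α0 2, α1 2, α2 2} : Finset K)
  simp only [Finset.mem_insert, Finset.mem_singleton, not_or] at ht4
  obtain ⟨ht40, ht4a0, ht4a1, ht4a2⟩ := ht4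
  let t : Fin 5 → K := ![0, 0, 0, 1, t4]
  refine ⟨fun i => Fin.cons (t i) (b i), ?_, ?_⟩
  · intro j
    rw [hF, MvPolynomial.eval_rename]
    have : (Fin.cons (t j) (b j) : Fin 4 → K) ∘ Fin.succ = b j := by
      funext i; simp
    rw [this]
    exact hb j
  · intro j
    fin_cases j
    · -- j = 0: indices 1,2,3,4
      have := li4 (fun a : Fin 4 => b ((0 : Fin 5).succAbove a)) (fun a => t ((0 : Fin 5).succAbove a))
        (h3 1 2 3 (by decide) (by decide) (by decide)) α0 hα0 (by
          show t4 ≠ α0 0 * 0 + α0 1 * 0 + α0 2 * 1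
          simpa using ht4a0)
      exact this
    · have := li4 (fun a : Fin 4 => b ((1 : Fin 5).succAbove a)) (fun a => t ((1 : Fin 5).succAbove a))
        (h3 0 2 3 (by decide) (by decide) (by decide)) α1 hα1 (by
          show t4 ≠ α1 0 * 0 + α1 1 * 0 + α1 2 * 1
          simpa using ht4a1)
      exact this
    · have := li4 (fun a : Fin 4 => b ((2 : Fin 5).succAbove a)) (fun a => t ((2 : Fin 5).succAbove a))
        (h3 0 1 3 (by decide) (by decide) (by decide)) α2 hα2 (by
          show t4 ≠ α2 0 * 0 + α2 1 * 0 + α2 2 * 1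
          simpa using ht4a2)
      exact this
    · have := li4 (fun a : Fin 4 => b ((3 : Fin 5).succAbove a)) (fun a => t ((3 : Fin 5).succAbove a))
        (h3 0 1 2 (by decide) (by decide) (by decide)) α3 hα3 (by
          show t4 ≠ α3 0 * 0 + α3 1 * 0 + α3 2 * 0
          simpa using ht40)
      exact this
    · have := li4 (fun a : Fin 4 => b ((4 : Fin 5).succAbove a)) (fun a => t ((4 : Fin 5).succAbove a))
        (h3 0 1 2 (by decide) (by decide) (by decide)) α4 hα4 (by
          show (1 : K) ≠ α4 0 * 0 + α4 1 * 0 + α4 2 * 0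
          simp)
      exact this

end Groth.Agent.S16351
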