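import Groth.Statements.S16352
import Mathlib
import Groth.Agent.Lib.Helper95.CubicTangent
-- import your own Groth.Agent.* helpers here

set_option autoImplicit false
universe u
open Cubic MvPolynomial Groth.Agent.Lib.Helper95

namespace Groth.Agent.S16352

/-- Let K be an algebraically closed field of characteristic zero and S = V(F) ⊂ P^3_K a cubic surface
which is irreducible and not a cone (no nonzero vector v has Σ_i v_i ∂F/∂x_i = 0). Let a be a smooth
point of S which is not a T-point: with ℓ = Σ_i ∂F/∂x_i(a) · x_i the (nonzero) linear form of the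
tangent plane T_a S, F is not congruent modulo ℓ to a product of three linear forms (i.e. T_a S ∩ S
is not set-theoretically a union of lines). Let P = Σ_i a_i ∂F/∂x_i be the first polar of a. Then
V(P) ∩ T_a S is a union of at most two lines through a, and every line through a lying on S lies in
V(P) ∩ T_a S; lines are 2-dimensional subspaces of K^4 and T_a S is the 3-dimensional subspace where
ℓ vanishes. -/
theorem result (K : Type u) [Field K] [IsAlgClosed K] [CharZero K]
    (F : MvPolynomial (Fin 4) K) (hF : F.IsHomogeneous 3) (hirr : Irreducible F)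
    (hcone : ¬ ∃ v : Fin 4 → K, v ≠ 0 ∧ ∑ i : Fin 4, v i • MvPolynomial.pderiv i F = 0)
    (a : Fin 4 → K) (ha : a ≠ 0) (hFa : MvPolynomial.eval a F = 0)
    (hsm : ∃ i : Fin 4, MvPolynomial.eval a (MvPolynomial.pderiv i F) ≠ 0)
    (ℓ : MvPolynomial (Fin 4) K)
    (hℓ : ℓ = ∑ i : Fin 4, MvPolynomial.C (MvPolynomial.eval a (MvPolynomial.pderiv i F)) * MvPolynomial.X i)
    (hT : ¬ ∃ L₁ L₂ L₃ : MvPolynomial (Fin 4) K, L₁.IsHomogeneous 1 ∧ L₂.IsHomogeneous 1 ∧ L₃.IsHomogeneous 1 ∧
      F - L₁ * L₂ * L₃ ∈ Ideal.span {ℓ})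
    (P : MvPolynomial (Fin 4) K) (hP : P = ∑ i : Fin 4, a i • MvPolynomial.pderiv i F)
    (H : Submodule K (Fin 4 → K)) (hH : ∀ x : Fin 4 → K, x ∈ H ↔ MvPolynomial.eval x ℓ = 0) :
    (∃ U₁ U₂ : Submodule K (Fin 4 → K), Module.finrank K ↥U₁ = 2 ∧ Module.finrank K ↥U₂ = 2 ∧ a ∈ U₁ ∧ a ∈ U₂ ∧
        U₁ ≤ H ∧ U₂ ≤ H ∧ {x : Fin 4 → K | x ∈ H ∧ MvPolynomial.eval x P = 0} = (U₁ : Set (Fin 4 → K)) ∪ (U₂ : Set (Fin 4 → K))) ∧
      ∀ U : Submodule K (Fin 4 → K), a ∈ U → Module.finrank K ↥U = 2 → (∀ u ∈ U, MvPolynomial.eval u F = 0) →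
        U ≤ H ∧ ∀ u ∈ U, MvPolynomial.eval u P = 0 := by
  classical
  have hFa' : phi F a a a = 0 := by rw [← eval_eq_phi hF]; exact hFa
  have hevℓ : ∀ x, eval x ℓ = 3 * phi F a a x := by
    intro x
    rw [hℓ, map_sum]
    simp only [map_mul, eval_C, eval_X]
    rw [show phi F a a x = phiL F a a x from rfl, lin_sum (phiL F a a) x, Finset.mul_sum]
    refine Finset.sum_congr rfl fun i _ => ?_
    rw [eval_pderiv_eq_phi hF, phiL_apply]; ring
  have hevP : ∀ x, eval x P = 3 * phi F a x x := by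
    intro x
    rw [hP, map_sum]
    simp only [smul_eval]
    rw [phi_comm13 F a x x]
    rw [show phi F x x a = phiL F x x a from rfl, lin_sum (phiL F x x) a, Finset.mul_sum]
    refine Finset.sum_congr rfl fun i _ => ?_
    rw [eval_pderiv_eq_phi hF, phiL_apply]; ring
  have h3 : (3 : K) ≠ 0 := by norm_num
  have hHmem : ∀ x, x ∈ H ↔ phi F a a x = 0 := by
    intro x
    rw [hH, hevℓ]
    constructor
    · intro h; exact (mul_eq_zero.mp h).resolve_left h3
    · intro h; rw [h, mul_zero]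
  have hlam : phiL F a a ≠ 0 := by
    obtain ⟨x, hx⟩ := exists_phi_ne_zero hF hsm
    intro h0; apply hx
    have : phiL F a a x = 0 := by rw [h0]; rfl
    exact this
  constructor
  · rcases tangent_plane_structure hF ha hFa hlam with
      ⟨U₁, U₂, h1, h2, ha1, ha2, hH1, hH2, hU⟩ | ⟨m₁, m₂, m₃, hm⟩
    · refine ⟨U₁, U₂, h1, h2, ha1, ha2, fun x hx => (hHmem x).mpr (hH1 x hx),
        fun x hx => (hHmem x).mpr (hH2 x hx), ?_⟩
      ext x
      simp only [Set.mem_setOf_eq, Set.mem_union, SetLike.mem_coe]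
      rw [hHmem, hevP, ← hU x]
      constructor
      · rintro ⟨h0, hq⟩; exact ⟨h0, (mul_eq_zero.mp hq).resolve_left h3⟩
      · rintro ⟨h0, hq⟩; exact ⟨h0, by rw [hq, mul_zero]⟩
    · exfalso
      apply hT
      let L : ((Fin 4 → K) →ₗ[K] K) → MvPolynomial (Fin 4) K :=
        fun m => ∑ j, C (m (Pi.single j 1)) * X j
      have hLhom : ∀ m, (L m).IsHomogeneous 1 := fun m =>
        IsHomogeneous.sum _ _ _ fun j _ => isHomogeneous_C_mul_X _ _
      have hLev : ∀ m x, eval x (L m) = m x := by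
        intro m x
        simp only [L, map_sum, map_mul, eval_C, eval_X]
        rw [lin_sum m x]
        exact Finset.sum_congr rfl fun i _ => mul_comm _ _
      refine ⟨L m₁, L m₂, L m₃, hLhom _, hLhom _, hLhom _, ?_⟩
      rw [hℓ]
      obtain ⟨j, hj⟩ := hsm
      apply mem_span_of_vanish_on_hyperplane (fun i => eval a (pderiv i F)) j hj
      intro x hx
      have hx' : phi F a a x = 0 := by
        have := hevℓ x
        rw [hℓ, map_sum] at this
        simp only [map_mul, eval_C, eval_X] at this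
        rw [hx] at this
        exact (mul_eq_zero.mp this.symm).resolve_left h3
      rw [map_sub, map_mul, map_mul, hLev, hLev, hLev, hm x hx', sub_self]
  · intro U haU hUfr hUF
    have hfacts : ∀ u ∈ U, phi F a u u = 0 ∧ phi F a a u = 0 := fun u hu =>
      line_facts hF U haU hu hUF
    refine ⟨fun u hu => (hHmem u).mpr (hfacts u hu).2, fun u hu => ?_⟩
    rw [hevP, (hfacts u hu).1, mul_zero]

end Groth.Agent.S16352
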