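import Groth.Statements.S16353
set_option autoImplicit false
universe u
open DegLoci

namespace Groth.Agent.S16353

open MvPolynomial

section

variable {k : Type u} [Field k] {m : ℕ}

/-- the constant in the contraction. -/
noncomputable def cc (β α : Fin m →₀ ℕ) : k :=
  ((β.support.prod fun i => Nat.descFactorial (β i) (α i) : ℕ) : k)

/-- product of factorials. -/
def fact (α : Fin m →₀ ℕ) : ℕ := ∏ i, (α i).factorial

lemma fact_mul_cc (α γ : Fin m →₀ ℕ) :
    ((fact γ : ℕ) : k) * cc (k := k) (α + γ) α = ((fact (α + γ) : ℕ) : k) := by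
  unfold cc fact
  rw [← Nat.cast_mul]
  congr 1
  have h1 : ((α + γ).support.prod fun i => Nat.descFactorial ((α + γ) i) (α i)) =
      ∏ i, Nat.descFactorial ((α + γ) i) (α i) := by
    refine Finset.prod_subset (Finset.subset_univ _) fun i _ hi => ?_
    rw [Finsupp.notMem_support_iff] at hi
    have h0 : α i = 0 := by
      rw [Finsupp.add_apply] at hi
      omega
    rw [hi, h0, Nat.descFactorial_zero]
  rw [h1, ← Finset.prod_mul_distrib]
  refine Finset.prod_congr rfl fun i _ => ?_
  rw [Finsupp.add_apply]
  have := Nat.factorial_mul_descFactorial (Nat.le_add_right (α i) (γ i))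
  rwa [Nat.add_sub_cancel_left] at this

lemma coeff_contract (D G : MvPolynomial (Fin m) k) (γ : Fin m →₀ ℕ) :
    coeff γ (W4c3degenlocivb.contract D G) =
      ∑ α ∈ D.support, coeff α D * coeff (α + γ) G * cc (α + γ) α := by
  classical
  unfold W4c3degenlocivb.contract
  rw [coeff_sum]
  refine Finset.sum_congr rfl fun α _ => ?_
  rw [coeff_sum]
  have h1 : ∀ β : Fin m →₀ ℕ, coeff γ (if α ≤ β then monomial (β - α)
      (coeff α D * coeff β G * ((β.support.prod fun i => Nat.descFactorial (β i) (α i) : ℕ) : k))
      else 0) = if β = α + γ then coeff α D * coeff (α + γ) G * cc (α + γ) α else 0 := by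
    intro β
    by_cases hβ : β = α + γ
    · subst hβ
      rw [if_pos le_self_add, if_pos rfl, coeff_monomial, if_pos (add_tsub_cancel_left α γ)]
      rfl
    · rw [if_neg hβ]
      split_ifs with hle
      · rw [coeff_monomial, if_neg]
        intro h
        apply hβ
        rw [← h, add_tsub_cancel_of_le hle]
      · exact coeff_zero _
  simp only [h1]
  rw [Finset.sum_ite_eq' G.support (α + γ)]
  split_ifs with hs
  · rfl
  · rw [notMem_support_iff.mp hs, mul_zero, zero_mul]

lemma coeff_contract_monomial (α : Fin m →₀ ℕ) (F : MvPolynomial (Fin m) k) (β : Fin m →₀ ℕ) :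
    coeff β (W4c3degenlocivb.contract (monomial α 1) F) = coeff (α + β) F * cc (α + β) α := by
  classical
  rw [coeff_contract, support_monomial, if_neg one_ne_zero, Finset.sum_singleton, coeff_monomial,
    if_pos rfl, one_mul]

lemma cc_self (δ : Fin m →₀ ℕ) : cc (k := k) δ δ = ((fact δ : ℕ) : k) := by
  have := fact_mul_cc (k := k) δ 0
  rw [add_zero] at this
  rw [← this]
  unfold fact
  simp

variable [CharZero k]

lemma fact_ne_zero (α : Fin m →₀ ℕ) : ((fact α : ℕ) : k) ≠ 0 := by
  rw [Nat.cast_ne_zero]
  unfold fact
  exact Finset.prod_ne_zero_iff.mpr fun i _ => Nat.factorial_ne_zero _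

omit [CharZero k] in
/-- key identity -/
lemma key (D F : MvPolynomial (Fin m) k) (α : Fin m →₀ ℕ) :
    coeff 0 (W4c3degenlocivb.contract D (W4c3degenlocivb.contract (monomial α 1) F)) =
      ((fact α : ℕ) : k) * coeff α (W4c3degenlocivb.contract D F) := by
  rw [coeff_contract, coeff_contract, Finset.mul_sum]
  refine Finset.sum_congr rfl fun δ _ => ?_
  rw [add_zero, coeff_contract_monomial, cc_self]
  have h1 := fact_mul_cc (k := k) α δ
  have h2 := fact_mul_cc (k := k) δ α
  rw [add_comm δ α] at h2
  rw [add_comm δ α]
  calc coeff δ D * (coeff (α + δ) F * cc (α + δ) α) * ((fact δ : ℕ) : k)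
      = coeff δ D * coeff (α + δ) F * (((fact δ : ℕ) : k) * cc (α + δ) α) := by ring
    _ = coeff δ D * coeff (α + δ) F * (((fact α : ℕ) : k) * cc (α + δ) δ) := by rw [h1, h2]
    _ = _ := by ring

end

/-- Let k be a field of characteristic zero, R = k[y_0, …, y_{m−1}] acting on S = k[∂_0, …, ∂_{m−1}] by
apolarity (y_i acts as the derivative with respect to ∂_i), F ∈ S homogeneous of degree e and d ≤ e.
Then the degree-d part of the apolar ideal of F is the orthogonal complement of the partial
derivatives of F of order e − d: a homogeneous D ∈ R_d satisfies D(F) = 0 if and only if D(y^α(F)) =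
0 for every multi-index α with |α| = e − d (each D(y^α(F)) being a constant, the value of the
apolarity pairing of D with y^α(F)). -/
theorem result (k : Type u) [Field k] [CharZero k] (m : ℕ)
    (F : MvPolynomial (Fin m) k) (e : ℕ) (hF : F.IsHomogeneous e) (d : ℕ) (hd : d ≤ e)
    (D : MvPolynomial (Fin m) k) (hD : D.IsHomogeneous d) :
    W4c3degenlocivb.contract D F = 0 ↔
      ∀ α : Fin m →₀ ℕ, α.degree = e - d → W4c3degenlocivb.contract D (W4c3degenlocivb.contract (MvPolynomial.monomial α 1) F) = 0 := by
  constructor
  · intro h α hα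
    ext γ
    rw [coeff_zero]
    by_cases hγ : γ = 0
    · subst hγ
      rw [key, h, coeff_zero, mul_zero]
    · rw [coeff_contract]
      refine Finset.sum_eq_zero fun δ hδ => ?_
      rw [coeff_contract_monomial]
      have hδd : δ.degree = d := by
        by_contra hne
        exact (mem_support_iff.mp hδ) (hD.coeff_eq_zero hne)
      have : coeff (α + (δ + γ)) F = 0 := by
        refine hF.coeff_eq_zero ?_
        rw [map_add, map_add, hα, hδd]
        have : γ.degree ≠ 0 := fun h0 => hγ ((Finsupp.degree_eq_zero_iff γ).mp h0)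
        omega
      rw [this, zero_mul, mul_zero, zero_mul]
  · intro h
    ext γ
    rw [coeff_zero]
    by_cases hγ : γ.degree = e - d
    · have := h γ hγ
      have h2 := key D F γ
      rw [this, coeff_zero] at h2
      exact (mul_eq_zero.mp h2.symm).resolve_left (fact_ne_zero γ)
    · rw [coeff_contract]
      refine Finset.sum_eq_zero fun δ hδ => ?_
      have hδd : δ.degree = d := by
        by_contra hne
        exact (mem_support_iff.mp hδ) (hD.coeff_eq_zero hne)
      have : coeff (δ + γ) F = 0 := by
        refine hF.coeff_eq_zero ?_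
        rw [map_add, hδd]
        omega
      rw [this, mul_zero, zero_mul]

end Groth.Agent.S16353
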