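import Groth.Statements.S16356
import Mathlib.Tactic
import Mathlib.RingTheory.WittVector.Complete
import Mathlib.RingTheory.WittVector.Domain
import Mathlib.Algebra.Ring.GeomSum

set_option autoImplicit false
universe u
open OrdAV

namespace Groth.Agent.S16356

open WittVector Finset

variable (p : ℕ) [Fact p.Prime] (k : Type u) [Field k] [CharP k p] [PerfectRing k p]

/-- Case of exponent prime to `p`. -/
theorem caseCoprime (x : WittVector p k) (m : ℕ) (hm : ¬ p ∣ m) (hx : x ^ m = 1)
    (h0 : x.coeff 0 = 1) : x = 1 := by
  have h1 : (x - 1) * ∑ i ∈ range m, x ^ i = 0 := by rw [mul_geom_sum, hx, sub_self]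
  have h2 : (∑ i ∈ range m, x ^ i) ≠ 0 := by
    intro h
    have := congrArg (WittVector.constantCoeff (p := p) (R := k)) h
    rw [map_sum, map_zero] at this
    have hc : ∀ i ∈ range m, WittVector.constantCoeff (p := p) (R := k) (x ^ i) = 1 := by
      intro i _
      rw [map_pow]
      show (x.coeff 0) ^ i = 1
      rw [h0, one_pow]
    rw [sum_congr rfl hc, sum_const, card_range, nsmul_one] at this
    exact hm ((CharP.cast_eq_zero_iff k p m).mp this)
  rcases mul_eq_zero.mp h1 with h | h
  · exact sub_eq_zero.mp h
  · exact absurd h h2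

/-- Case of exponent `p` (odd). -/
theorem caseP (hp : p ≠ 2) (x : WittVector p k) (hx : x ^ p = 1) (h0 : x.coeff 0 = 1) : x = 1 := by
  have hpp : p.Prime := Fact.out
  by_contra hne
  have h1 : (x - 1) * ∑ i ∈ range p, x ^ i = 0 := by rw [mul_geom_sum, hx, sub_self]
  have hsum : ∑ i ∈ range p, x ^ i = 0 := by
    rcases mul_eq_zero.mp h1 with h | h
    · exact absurd (sub_eq_zero.mp h) hne
    · exact h
  -- x = 1 + p z
  have hmem : x - 1 ∈ Ideal.span {(p : WittVector p k)} := by
    rw [mem_span_p_iff_coeff_zero_eq_zero]
    have : WittVector.constantCoeff (p := p) (R := k) (x - 1) = 0 := by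
      rw [map_sub, map_one]
      show x.coeff 0 - 1 = 0
      rw [h0, sub_self]
    exact this
  rw [Ideal.mem_span_singleton'] at hmem
  obtain ⟨z, hz⟩ := hmem
  have hxz : x = 1 + z * p := by rw [hz]; ring
  -- powers modulo p^2
  have hpow : ∀ i : ℕ, ∃ s : WittVector p k, x ^ i = 1 + (i : WittVector p k) * (z * p) + (p : WittVector p k) ^ 2 * s := by
    intro i
    induction i with
    | zero => exact ⟨0, by simp⟩
    | succ i ih =>
      obtain ⟨s, hs⟩ := ih
      refine ⟨s * (1 + z * p) + (i : WittVector p k) * z * z, ?_⟩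
      rw [pow_succ, hs]
      conv_lhs => rw [hxz]
      push_cast
      ring
  choose s hs using hpow
  -- p odd
  obtain ⟨h, hh⟩ : ∃ h, p = 2 * h + 1 := by
    rcases hpp.eq_two_or_odd with h2 | hodd
    · exact absurd h2 hp
    · exact ⟨p / 2, by omega⟩
  have hsumid : (∑ i ∈ range p, (i : WittVector p k)) = (p : WittVector p k) * (h : WittVector p k) := by
    have := Finset.sum_range_id_mul_two p
    have h3 : (∑ i ∈ range p, i) = p * h := by
      have h4 : p * (p - 1) = (p * h) * 2 := by
        have : p - 1 = 2 * h := by omega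
        rw [this]; ring
      rw [h4] at this
      exact Nat.eq_of_mul_eq_mul_right (by norm_num) this
    have h5 := congrArg (Nat.cast : ℕ → WittVector p k) h3
    push_cast at h5
    exact h5
  have hsum2 : ∑ i ∈ range p, x ^ i =
      (p : WittVector p k) * (1 + (p : WittVector p k) * (z * h + ∑ i ∈ range p, s i)) := by
    rw [sum_congr rfl (fun i _ => hs i), sum_add_distrib, sum_add_distrib, sum_const, card_range,
      ← sum_mul, hsumid, ← mul_sum]
    simp only [nsmul_eq_mul, mul_one]
    ring
  rw [hsum2] at hsum
  have hp0 : (p : WittVector p k) ≠ 0 := WittVector.p_nonzero p k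
  rcases mul_eq_zero.mp hsum with h | h
  · exact hp0 h
  · have := congrArg (WittVector.constantCoeff (p := p) (R := k)) h
    rw [map_add, map_mul, map_one, map_zero, map_natCast, CharP.cast_eq_zero, zero_mul,
      add_zero] at this
    exact one_ne_zero this

/-- For an odd prime p and a perfect field k of characteristic p, a root of unity in the ring of Witt
vectors W(k) whose residue in k is 1 is itself 1: if x ^ n = 1 with n ≥ 1 and the zeroth Witt
component of x is 1, then x = 1. (For p = 2 this fails: -1 in W(F_2).) -/
theorem result (p : ℕ) [Fact p.Prime] (hp : p ≠ 2)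
    (k : Type u) [Field k] [CharP k p] [PerfectRing k p]
    (x : WittVector p k) (n : ℕ) (hn : 0 < n) (hx : x ^ n = 1) (h0 : x.coeff 0 = 1) : x = 1 := by
  have hpp : p.Prime := Fact.out
  induction n using Nat.strong_induction_on generalizing x with
  | _ n ih =>
    by_cases hdvd : p ∣ n
    · obtain ⟨n', rfl⟩ := hdvd
      have hn' : 0 < n' := Nat.pos_of_ne_zero (by rintro rfl; simp at hn)
      have h1 : (x ^ n') ^ p = 1 := by rw [← pow_mul, mul_comm]; exact hx
      have h2 : (x ^ n').coeff 0 = 1 := by
        have : WittVector.constantCoeff (p := p) (R := k) (x ^ n') = 1 := by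
          rw [map_pow]
          show (x.coeff 0) ^ n' = 1
          rw [h0, one_pow]
        exact this
      have h3 := caseP p k hp (x ^ n') h1 h2
      exact ih n' (by nlinarith [hpp.two_le]) x hn' h3 h0
    · exact caseCoprime p k x n hdvd hx h0

end Groth.Agent.S16356
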