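import Groth.Statements.S16357
import Mathlib.Tactic
import Mathlib.Algebra.Polynomial.Lifts
import Mathlib.Algebra.Field.Subfield.Basic

set_option autoImplicit false
universe u
open OrdAV

namespace Groth.Agent.S16357

open Polynomial in
/-- Over a field L of characteristic zero, a monic polynomial h whose square has rational coefficients
has rational coefficients itself. -/
theorem result (L : Type u) [Field L] [CharZero L]
    (h : Polynomial L) (hm : h.Monic) (f : Polynomial ℚ)
    (hf : h ^ 2 = Polynomial.map (algebraMap ℚ L) f) :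
    ∃ g : Polynomial ℚ, Polynomial.map (algebraMap ℚ L) g = h := by
  classical
  obtain ⟨n, hn⟩ : ∃ n, n = h.natDegree := ⟨_, rfl⟩
  obtain ⟨R, hR⟩ : ∃ R : Subfield L, R = (algebraMap ℚ L).fieldRange := ⟨_, rfl⟩
  obtain ⟨r, hr⟩ : ∃ r : Polynomial L, r = h - X ^ n := ⟨_, rfl⟩
  have hrdeg : ∀ i, n ≤ i → r.coeff i = 0 := by
    intro i hi
    rw [hr, coeff_sub, coeff_X_pow]
    rcases eq_or_lt_of_le hi with h1 | h1
    · subst h1
      rw [hn]
      simp [hm.coeff_natDegree]
    · rw [if_neg (by omega), coeff_eq_zero_of_natDegree_lt (by omega)]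
      simp
  have hh : h = X ^ n + r := by rw [hr]; ring
  have hsq : h ^ 2 = X ^ (2 * n) + C 2 * r * X ^ n + r ^ 2 := by
    rw [hh]
    have : (C 2 : Polynomial L) = 2 := by
      rw [← Nat.cast_ofNat (R := L), ← Nat.cast_ofNat (R := Polynomial L)]
      exact Polynomial.C_eq_natCast 2
    rw [this]
    ring
  have key : ∀ m, (∀ i, m < i → r.coeff i ∈ R) → r.coeff m ∈ R := by
    intro m ih
    by_cases hmn : n ≤ m
    · rw [hrdeg m hmn]; exact zero_mem R
    · push Not at hmn
      have h1 : (h ^ 2).coeff (m + n) = 2 * r.coeff m + (r ^ 2).coeff (m + n) := by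
        rw [hsq, coeff_add, coeff_add, coeff_X_pow, if_neg (by omega), coeff_mul_X_pow,
          coeff_C_mul]
        ring
      have h2 : (h ^ 2).coeff (m + n) ∈ R := by
        rw [hf, coeff_map, hR]
        exact ⟨_, rfl⟩
      have h3 : (r ^ 2).coeff (m + n) ∈ R := by
        rw [sq, coeff_mul]
        apply sum_mem
        rintro ⟨i, j⟩ hij
        rw [Finset.mem_antidiagonal] at hij
        simp only at hij ⊢
        by_cases hj : n ≤ j
        · rw [hrdeg j hj, mul_zero]; exact zero_mem _
        by_cases hi : n ≤ i
        · rw [hrdeg i hi, zero_mul]; exact zero_mem _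
        exact mul_mem (ih i (by omega)) (ih j (by omega))
      have h4 : 2 * r.coeff m ∈ R := by
        have : 2 * r.coeff m = (h ^ 2).coeff (m + n) - (r ^ 2).coeff (m + n) := by rw [h1]; ring
        rw [this]; exact sub_mem h2 h3
      have h5 : (2 : L) ∈ R := by
        rw [hR]
        exact ⟨2, by simp⟩
      have : r.coeff m = 2⁻¹ * (2 * r.coeff m) := by field_simp
      rw [this]; exact mul_mem (inv_mem h5) h4
  have all : ∀ d m, n ≤ m + d → r.coeff m ∈ R := by
    intro d
    induction d with
    | zero => intro m hm'; rw [hrdeg m (by omega)]; exact zero_mem _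
    | succ d ih =>
      intro m hm'
      apply key
      intro i hi
      exact ih i (by omega)
  have hall : ∀ m, h.coeff m ∈ R := by
    intro m
    rw [hh, coeff_add, coeff_X_pow]
    apply add_mem
    · split_ifs
      · exact one_mem _
      · exact zero_mem _
    · exact all n m (by omega)
  have : h ∈ Polynomial.lifts (algebraMap ℚ L) := by
    rw [Polynomial.lifts_iff_coeff_lifts]
    intro m
    have := hall m
    rw [hR] at this
    exact this
  obtain ⟨g, hg⟩ := this
  exact ⟨g, hg⟩

end Groth.Agent.S16357
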