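import Groth.Statements.S16358
import Mathlib.RingTheory.WittVector.DiscreteValuationRing
import Mathlib.RingTheory.Flat.TorsionFree
import Mathlib.RingTheory.Flat.Equalizer
import Mathlib.RingTheory.DedekindDomain.PID

set_option autoImplicit false
universe u v w
open OrdAV

namespace Groth.Agent.S16358

/-- Let k be a perfect field of characteristic p > 0 and W = W(k); let M be a finitely generated free
W-module on which a finite group G acts W-linearly, with invariant submodule M^G. Then the map
(W/pW) ⊗ M^G → (W/pW) ⊗ M induced by the inclusion is injective. Since M^G is free, this implies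
rank_W M^G ≤ dim_k (M/pM)^G; the published statement is that inequality, and this row states the
stronger injectivity. -/
theorem result (p : ℕ) [Fact p.Prime]
    (k : Type u) [Field k] [CharP k p] [PerfectRing k p]
    (M : Type v) [AddCommGroup M] [Module (WittVector p k) M]
    [Module.Free (WittVector p k) M] [Module.Finite (WittVector p k) M]
    (G : Type w) [Group G] [Finite G] (ρ : Representation (WittVector p k) G M) :
    Function.Injective
      (LinearMap.lTensor (WittVector p k ⧸ Ideal.span {(p : WittVector p k)}) ρ.invariants.subtype) := by
  have hDVR : IsDiscreteValuationRing (WittVector p k) := WittVector.isDiscreteValuationRing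
  have hflat : Module.Flat (WittVector p k) (M ⧸ ρ.invariants) := by
    rw [IsDedekindDomain.flat_iff_torsion_eq_bot, Submodule.eq_bot_iff]
    intro x hx
    obtain ⟨m, rfl⟩ := Submodule.Quotient.mk_surjective _ x
    rw [Submodule.mem_torsion_iff] at hx
    obtain ⟨a, ha⟩ := hx
    rw [← Submodule.Quotient.mk_smul, Submodule.Quotient.mk_eq_zero] at ha
    rw [Submodule.Quotient.mk_eq_zero, Representation.mem_invariants]
    intro g
    have h1 : ρ g ((a : WittVector p k) • m) = (a : WittVector p k) • m :=
      (Representation.mem_invariants ρ _).1 ha g
    rw [map_smul] at h1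
    have ha0 : (a : WittVector p k) ≠ 0 := nonZeroDivisors.coe_ne_zero a
    exact smul_right_injective M ha0 h1
  exact LinearMap.lTensor_injective_of_exact_of_flat (ρ.invariants.mkQ)
    (Submodule.mkQ_surjective _) ρ.invariants.subtype (Submodule.injective_subtype _)
    (LinearMap.exact_subtype_mkQ _) _

end Groth.Agent.S16358
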