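import Groth.Statements.S16362
import Mathlib.Tactic

set_option autoImplicit false
universe u
open MovLem

namespace Groth.Agent.S16362

open Polynomial in
/-- Let A be a commutative ring, p a prime ideal of A, and ζ, u elements of A with u not in p. Then the
quotient of the classes of ζ and u in the fraction field of the domain A ⧸ p is integral over A ⧸ p
if and only if there exist a natural number N and elements a_1, …, a_N of A such that ζ^N + a_1
ζ^(N-1) u + ⋯ + a_N u^N lies in p; equivalently, some binary form of degree N with coefficients in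
A, monic in the first variable, evaluated at (ζ, u), lies in p. -/
theorem result
    {A : Type u} [CommRing A] (p : Ideal A) [p.IsPrime] (ζ u : A) (hu : u ∉ p) :
    IsIntegral (A ⧸ p)
        (algebraMap (A ⧸ p) (FractionRing (A ⧸ p)) (Ideal.Quotient.mk p ζ) /
          algebraMap (A ⧸ p) (FractionRing (A ⧸ p)) (Ideal.Quotient.mk p u)) ↔
      ∃ (N : ℕ) (a : ℕ → A),
        ζ ^ N + ∑ i ∈ Finset.Icc 1 N, a i * ζ ^ (N - i) * u ^ i ∈ p := by
  set φ := algebraMap (A ⧸ p) (FractionRing (A ⧸ p)) with hφ
  set z := Ideal.Quotient.mk p ζ with hz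
  set w := Ideal.Quotient.mk p u with hw
  have hw0 : w ≠ 0 := by
    rw [hw, Ne, Ideal.Quotient.eq_zero_iff_mem]; exact hu
  have hφinj : Function.Injective φ := IsFractionRing.injective _ _
  have hw0' : φ w ≠ 0 := by
    rw [Ne, map_eq_zero_iff φ hφinj]; exact hw0
  have hpow : ∀ (N i : ℕ), i ≤ N → (φ z / φ w) ^ (N - i) * φ w ^ N = φ z ^ (N - i) * φ w ^ i := by
    intro N i hi
    have : φ w ^ N = φ w ^ (N - i) * φ w ^ i := by rw [← pow_add]; congr 1; omega
    rw [this, div_pow]
    field_simp
  constructor
  · rintro ⟨P, hPm, hP⟩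
    set N := P.natDegree with hN
    have hsurj : Function.Surjective (Ideal.Quotient.mk p) := Ideal.Quotient.mk_surjective
    choose lift hlift using hsurj
    refine ⟨N, fun i => lift (P.coeff (N - i)), ?_⟩
    rw [← Ideal.Quotient.eq_zero_iff_mem]
    apply hφinj
    rw [map_zero]
    simp only [map_add, map_pow, map_sum, map_mul, hlift]
    rw [← hz, ← hw]
    rw [Polynomial.eval₂_eq_sum_range, Finset.sum_range_succ, ← hN] at hP
    have hlead : P.coeff N = 1 := hPm.coeff_natDegree
    rw [hlead, map_one, one_mul] at hP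
    have hP' : ((∑ x ∈ Finset.range N, φ (P.coeff x) * (φ z / φ w) ^ x) + (φ z / φ w) ^ N) * φ w ^ N
        = 0 := by rw [hP, zero_mul]
    rw [add_mul, Finset.sum_mul] at hP'
    have h0 := hpow N 0 (Nat.zero_le _)
    simp only [Nat.sub_zero, pow_zero, mul_one] at h0
    rw [h0, add_comm] at hP'
    rw [← hP']
    congr 1
    apply Finset.sum_bij' (fun i _ => N - i) (fun j _ => N - j)
    · intro i hi
      rw [Finset.mem_Icc] at hi
      rw [Finset.mem_range]; omega
    · intro j hj
      rw [Finset.mem_range] at hj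
      rw [Finset.mem_Icc]; omega
    · intro i hi
      rw [Finset.mem_Icc] at hi; omega
    · intro j hj
      rw [Finset.mem_range] at hj; omega
    · intro i hi
      rw [Finset.mem_Icc] at hi
      rw [mul_assoc, mul_assoc, hpow N i hi.2]
  · rintro ⟨N, a, ha⟩
    rw [← Ideal.Quotient.eq_zero_iff_mem] at ha
    have ha' := congrArg φ ha
    simp only [map_add, map_pow, map_sum, map_mul, map_zero] at ha'
    rw [← hz, ← hw] at ha'
    by_cases hN0 : N = 0
    · subst hN0
      simp at ha'
    have hNpos : 0 < N := Nat.pos_of_ne_zero hN0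
    set Q : Polynomial (A ⧸ p) :=
      ∑ i ∈ Finset.Icc 1 N, C (Ideal.Quotient.mk p (a i)) * X ^ (N - i) with hQ
    have hQdeg : Q.degree < N := by
      refine lt_of_le_of_lt (Polynomial.degree_sum_le _ _) ?_
      rw [Finset.sup_lt_iff (by exact_mod_cast WithBot.bot_lt_coe N)]
      intro i hi
      rw [Finset.mem_Icc] at hi
      refine lt_of_le_of_lt (Polynomial.degree_C_mul_X_pow_le _ _) ?_
      exact_mod_cast (by omega : N - i < N)
    refine ⟨X ^ N + Q, Polynomial.monic_X_pow_add hQdeg, ?_⟩
    rw [hQ]
    simp only [eval₂_add, eval₂_pow, eval₂_X, eval₂_finsetSum, eval₂_mul, eval₂_C]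
    have hwN : φ w ^ N ≠ 0 := pow_ne_zero _ hw0'
    apply (mul_left_injective₀ hwN)
    simp only [zero_mul, add_mul, Finset.sum_mul]
    have h0 := hpow N 0 (Nat.zero_le _)
    simp only [Nat.sub_zero, pow_zero, mul_one] at h0
    rw [h0, ← ha']
    congr 1
    apply Finset.sum_congr rfl
    intro i hi
    rw [Finset.mem_Icc] at hi
    rw [mul_assoc, mul_assoc, hpow N i hi.2]

end Groth.Agent.S16362
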