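import Groth.Statements.S16367
import Mathlib.RingTheory.Ideal.Operations
import Mathlib.RingTheory.Ideal.Quotient.Operations
set_option autoImplicit false
universe u
open MovLem

namespace Groth.Agent.S16367

section

variable {k : Type u} [CommRing k] {d n : ℕ}

/-- the exact expression of `C (monomial m a) * X ^ N`. -/
lemma C_monomial_mul (N : ℕ) (m : Fin d ⊕ Fin n →₀ ℕ) (a : k)
    (hm : ∑ i : Fin d, m (Sum.inl i) ≤ N) :
    Polynomial.C (MvPolynomial.monomial m a) * Polynomial.X ^ N =
      Polynomial.C (MvPolynomial.C a) * Polynomial.X ^ (N - ∑ i : Fin d, m (Sum.inl i)) *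
        (∏ i : Fin d, (Polynomial.X * Polynomial.C (MvPolynomial.X (Sum.inl i) :
          MvPolynomial (Fin d ⊕ Fin n) k)) ^ m (Sum.inl i)) *
        ∏ j : Fin n, Polynomial.C (MvPolynomial.X (Sum.inr j) :
          MvPolynomial (Fin d ⊕ Fin n) k) ^ m (Sum.inr j) := by
  rw [MvPolynomial.monomial_eq, Finsupp.prod_fintype _ _ (fun i => pow_zero _),
    Fintype.prod_sum_type, map_mul, map_mul, map_prod, map_prod]
  simp only [map_pow, mul_pow, Finset.prod_mul_distrib, Finset.prod_pow_eq_pow_sum]
  conv_lhs => rw [← Nat.sub_add_cancel hm, pow_add]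
  ring

/-- the congruence of one term modulo `U ^ s`. -/
lemma term_congr (U : MvPolynomial (Fin d ⊕ Fin n) k) (v : Fin d → k) (N s : ℕ)
    (m : Fin d ⊕ Fin n →₀ ℕ) (a : k) :
    Polynomial.C (MvPolynomial.C a) * Polynomial.X ^ (N - ∑ i : Fin d, m (Sum.inl i)) *
        (∏ i : Fin d, (Polynomial.X * Polynomial.C (MvPolynomial.X (Sum.inl i)) +
          Polynomial.C (U ^ s * MvPolynomial.C (v i))) ^ m (Sum.inl i)) *
        ∏ j : Fin n, Polynomial.C (MvPolynomial.X (Sum.inr j) :
          MvPolynomial (Fin d ⊕ Fin n) k) ^ m (Sum.inr j) -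
      Polynomial.C (MvPolynomial.C a) * Polynomial.X ^ (N - ∑ i : Fin d, m (Sum.inl i)) *
        (∏ i : Fin d, (Polynomial.X * Polynomial.C (MvPolynomial.X (Sum.inl i) :
          MvPolynomial (Fin d ⊕ Fin n) k)) ^ m (Sum.inl i)) *
        ∏ j : Fin n, Polynomial.C (MvPolynomial.X (Sum.inr j) :
          MvPolynomial (Fin d ⊕ Fin n) k) ^ m (Sum.inr j) ∈
      Ideal.span {Polynomial.C (U ^ s)} := by
  rw [← Ideal.Quotient.eq]
  have h0 : ∀ i : Fin d, Ideal.Quotient.mk (Ideal.span {Polynomial.C (U ^ s)})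
      (Polynomial.X * Polynomial.C (MvPolynomial.X (Sum.inl i)) +
          Polynomial.C (U ^ s * MvPolynomial.C (v i))) =
      Ideal.Quotient.mk (Ideal.span {Polynomial.C (U ^ s)})
      (Polynomial.X * Polynomial.C (MvPolynomial.X (Sum.inl i))) := by
    intro i
    rw [Ideal.Quotient.eq, add_sub_cancel_left, map_mul]
    exact Ideal.mul_mem_right _ _ (Ideal.subset_span rfl)
  simp only [map_mul (Ideal.Quotient.mk (Ideal.span {Polynomial.C (U ^ s)}))]
  congr 2
  rw [map_prod, map_prod]
  refine Finset.prod_congr rfl fun i _ => ?_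
  exact (map_pow _ _ _).trans ((congrArg (· ^ m (Sum.inl i)) (h0 i)).trans (map_pow _ _ _).symm)

end

section Assemble

variable {P : Type u} [CommRing P] {Λ : Type u} [Fintype Λ]

/-- the final assembly, for `N ≥ 1`. -/
lemma assemble (ζ U : P) (N s : ℕ) (hs : N ≤ s) (hNpos : 0 < N) (c : ℕ → P) (g f : Λ → P)
    (φ θ : Λ → Polynomial P)
    (hg : ∑ l, g l * f l = ζ ^ N + ∑ i ∈ Finset.Icc 1 N, c i * ζ ^ (N - i) * U ^ i)
    (hθ : ∀ l, θ l * Polynomial.C (U ^ s) = φ l - Polynomial.C (f l) * Polynomial.X ^ N) :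
    ∃ c' : ℕ → Polynomial P,
      (Polynomial.X * Polynomial.C ζ) ^ N +
        ∑ i ∈ Finset.Icc 1 N, c' i * (Polynomial.X * Polynomial.C ζ) ^ (N - i) *
            Polynomial.C U ^ i ∈ Ideal.span (Set.range φ) := by
  classical
  refine ⟨fun i => Polynomial.X ^ i * Polynomial.C (c i) +
    (if i = N then Polynomial.C (U ^ (s - N)) * ∑ l, Polynomial.C (g l) * θ l else 0), ?_⟩
  have hsum : (Polynomial.X * Polynomial.C ζ) ^ N +
      ∑ i ∈ Finset.Icc 1 N, (Polynomial.X ^ i * Polynomial.C (c i) +
        (if i = N then Polynomial.C (U ^ (s - N)) * ∑ l, Polynomial.C (g l) * θ l else 0)) *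
        (Polynomial.X * Polynomial.C ζ) ^ (N - i) * Polynomial.C U ^ i =
      ∑ l, Polynomial.C (g l) * φ l := by
    have e1 : ∑ i ∈ Finset.Icc 1 N, (Polynomial.X ^ i * Polynomial.C (c i) +
        (if i = N then Polynomial.C (U ^ (s - N)) * ∑ l, Polynomial.C (g l) * θ l else 0)) *
        (Polynomial.X * Polynomial.C ζ) ^ (N - i) * Polynomial.C U ^ i =
        ∑ i ∈ Finset.Icc 1 N, Polynomial.X ^ i * Polynomial.C (c i) *
          (Polynomial.X * Polynomial.C ζ) ^ (N - i) * Polynomial.C U ^ i +
        ∑ i ∈ Finset.Icc 1 N,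
          (if i = N then Polynomial.C (U ^ (s - N)) * ∑ l, Polynomial.C (g l) * θ l else 0) *
          (Polynomial.X * Polynomial.C ζ) ^ (N - i) * Polynomial.C U ^ i := by
      rw [← Finset.sum_add_distrib]
      exact Finset.sum_congr rfl fun i _ => by rw [add_mul, add_mul]
    have e2 : ∑ i ∈ Finset.Icc 1 N,
        (if i = N then Polynomial.C (U ^ (s - N)) * ∑ l, Polynomial.C (g l) * θ l else 0) *
          (Polynomial.X * Polynomial.C ζ) ^ (N - i) * Polynomial.C U ^ i =
        Polynomial.C (U ^ s) * ∑ l, Polynomial.C (g l) * θ l := by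
      rw [Finset.sum_eq_single N]
      · rw [if_pos rfl, Nat.sub_self, pow_zero, mul_one]
        have : U ^ s = U ^ (s - N) * U ^ N := by rw [← pow_add, Nat.sub_add_cancel hs]
        rw [this, map_mul, map_pow, map_pow]
        ring
      · intro i _ hi
        rw [if_neg hi, zero_mul, zero_mul]
      · intro h
        exact (h (Finset.mem_Icc.mpr ⟨hNpos, le_rfl⟩)).elim
    have e3 : ∑ l, Polynomial.C (g l) * φ l =
        Polynomial.X ^ N * Polynomial.C (∑ l, g l * f l) +
          Polynomial.C (U ^ s) * ∑ l, Polynomial.C (g l) * θ l := by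
      rw [map_sum, Finset.mul_sum, Finset.mul_sum, ← Finset.sum_add_distrib]
      refine Finset.sum_congr rfl fun l _ => ?_
      have hφl : φ l = Polynomial.C (f l) * Polynomial.X ^ N + θ l * Polynomial.C (U ^ s) := by
        rw [hθ l]
        ring
      rw [hφl, map_mul]
      ring
    have e4 : Polynomial.X ^ N * Polynomial.C (∑ l, g l * f l) =
        (Polynomial.X * Polynomial.C ζ) ^ N +
        ∑ i ∈ Finset.Icc 1 N, Polynomial.X ^ i * Polynomial.C (c i) *
          (Polynomial.X * Polynomial.C ζ) ^ (N - i) * Polynomial.C U ^ i := by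
      rw [hg, map_add, map_pow, map_sum, mul_add, Finset.mul_sum, mul_pow]
      congr 1
      refine Finset.sum_congr rfl fun i hi => ?_
      rw [Finset.mem_Icc] at hi
      have : Polynomial.X ^ N =
          (Polynomial.X : Polynomial P) ^ i * Polynomial.X ^ (N - i) := by
        rw [← pow_add, Nat.add_sub_cancel' hi.2]
      rw [this, map_mul, map_mul, map_pow, map_pow, mul_pow]
      ring
    rw [e1, e2, e3, e4, add_assoc]
  rw [hsum]
  exact Submodule.sum_mem _ fun l _ => Ideal.mul_mem_left _ _ (Ideal.subset_span ⟨l, rfl⟩)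

end Assemble

/-- The chart computation of its proof: let k be a commutative ring, P = k[x_1, …, x_d, w_1, …, w_n] a
polynomial ring in two groups of variables, u a polynomial in the x-variables alone, v a vector in
k^d, J a set of indices among the w-variables with ζ = ∏_{j ∈ J} w_j, and N ≤ s natural numbers. Let
(f_λ) be a finite family of elements of P, each of total degree at most N in the x-variables, and
assume that ζ^N + c_1 ζ^(N-1) u + ⋯ + c_N u^N lies in the ideal generated by the f_λ for some c_1,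
…, c_N ∈ P. For each λ let φ_λ ∈ P[τ] be the polynomial τ^N · f_λ(x + u^s v/τ, w), written out
monomial by monomial: a monomial a·x^m·w^m' of x-degree e = |m| contributes a · τ^(N-e) · ∏_i (τ x_i
+ u^s v_i)^(m_i) · w^m'. Then there are c'_1, …, c'_N ∈ P[τ] with (τζ)^N + c'_1 (τζ)^(N-1) u + ⋯ +
c'_N u^N in the ideal of P[τ] generated by the φ_λ. (This identity is what shows that translating a
cycle by t·u^s·v preserves the modulus condition on the chart whose coordinates are the z_i and the
1/z_j, with τ = 1/t; integrality of ζ/u, resp. τζ/u, is expressed by such monic binary forms.) -/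
theorem result
    {k : Type u} [CommRing k] (d n : ℕ) (u : MvPolynomial (Fin d) k) (v : Fin d → k)
    (J : Finset (Fin n)) (N s : ℕ) (hs : N ≤ s)
    {Λ : Type u} [Fintype Λ] (f : Λ → MvPolynomial (Fin d ⊕ Fin n) k)
    (hdeg : ∀ l, ∀ m ∈ (f l).support, ∑ i : Fin d, m (Sum.inl i) ≤ N)
    (c : ℕ → MvPolynomial (Fin d ⊕ Fin n) k)
    (hE : (∏ j ∈ J, MvPolynomial.X (Sum.inr j)) ^ N +
        ∑ i ∈ Finset.Icc 1 N, c i * (∏ j ∈ J, MvPolynomial.X (Sum.inr j)) ^ (N - i) *
          MvPolynomial.rename Sum.inl u ^ i ∈ Ideal.span (Set.range f)) :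
    ∃ c' : ℕ → Polynomial (MvPolynomial (Fin d ⊕ Fin n) k),
      (Polynomial.X * Polynomial.C (∏ j ∈ J, MvPolynomial.X (Sum.inr j))) ^ N +
        ∑ i ∈ Finset.Icc 1 N, c' i *
          (Polynomial.X * Polynomial.C (∏ j ∈ J, MvPolynomial.X (Sum.inr j))) ^ (N - i) *
            Polynomial.C (MvPolynomial.rename Sum.inl u) ^ i ∈
      Ideal.span (Set.range fun l : Λ =>
        ∑ m ∈ (f l).support,
          Polynomial.C (MvPolynomial.C (MvPolynomial.coeff m (f l))) *
            Polynomial.X ^ (N - ∑ i : Fin d, m (Sum.inl i)) *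
            (∏ i : Fin d, (Polynomial.X * Polynomial.C (MvPolynomial.X (Sum.inl i)) +
                Polynomial.C (MvPolynomial.rename Sum.inl u ^ s * MvPolynomial.C (v i))) ^ m (Sum.inl i)) *
            ∏ j : Fin n, Polynomial.C (MvPolynomial.X (Sum.inr j)) ^ m (Sum.inr j)) := by
  classical
  obtain ⟨g, hg⟩ := Ideal.mem_span_range_iff_exists_fun.mp hE
  have hfl : ∀ l, Polynomial.C (f l) * Polynomial.X ^ N =
      ∑ m ∈ (f l).support, Polynomial.C (MvPolynomial.monomial m (MvPolynomial.coeff m (f l))) *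
        Polynomial.X ^ N := by
    intro l
    conv_lhs => rw [← MvPolynomial.support_sum_monomial_coeff (f l)]
    rw [map_sum, Finset.sum_mul]
  rcases Nat.eq_zero_or_pos N with hN0 | hNpos
  · -- N = 0
    subst hN0
    refine ⟨fun _ => 0, ?_⟩
    have hφf : ∀ l, (∑ m ∈ (f l).support,
          Polynomial.C (MvPolynomial.C (MvPolynomial.coeff m (f l))) *
            Polynomial.X ^ (0 - ∑ i : Fin d, m (Sum.inl i)) *
            (∏ i : Fin d, (Polynomial.X * Polynomial.C (MvPolynomial.X (Sum.inl i)) +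
                Polynomial.C (MvPolynomial.rename Sum.inl u ^ s * MvPolynomial.C (v i))) ^ m (Sum.inl i)) *
            ∏ j : Fin n, Polynomial.C (MvPolynomial.X (Sum.inr j)) ^ m (Sum.inr j)) =
        Polynomial.C (f l) := by
      intro l
      have := hfl l
      rw [show Polynomial.C (f l) = Polynomial.C (f l) * Polynomial.X ^ 0 by rw [pow_zero, mul_one],
        this]
      refine Finset.sum_congr rfl fun m hm => ?_
      rw [C_monomial_mul 0 m _ (hdeg l m hm)]
      congr 2
      refine Finset.prod_congr rfl fun i _ => ?_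
      have hmi : m (Sum.inl i) = 0 := by
        have h1 := hdeg l m hm
        have h2 : m (Sum.inl i) ≤ ∑ i : Fin d, m (Sum.inl i) :=
          Finset.single_le_sum (f := fun i => m (Sum.inl i)) (fun _ _ => Nat.zero_le _)
            (Finset.mem_univ i)
        omega
      rw [hmi, pow_zero, pow_zero]
    have hE1 : ∑ l, g l * f l = 1 := by
      rw [hg]
      simp
    have h1 : (1 : Polynomial (MvPolynomial (Fin d ⊕ Fin n) k)) =
        ∑ l, Polynomial.C (g l) * Polynomial.C (f l) := by
      simp only [← map_mul, ← map_sum]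
      rw [hE1, map_one]
    simp only [pow_zero]
    rw [Finset.sum_eq_zero (fun i hi => by simp at hi), add_zero, h1]
    refine Submodule.sum_mem _ fun l _ => Ideal.mul_mem_left _ _ (Ideal.subset_span ⟨l, ?_⟩)
    exact hφf l
  · -- N ≥ 1
    have hcongr : ∀ l, (∑ m ∈ (f l).support,
          Polynomial.C (MvPolynomial.C (MvPolynomial.coeff m (f l))) *
            Polynomial.X ^ (N - ∑ i : Fin d, m (Sum.inl i)) *
            (∏ i : Fin d, (Polynomial.X * Polynomial.C (MvPolynomial.X (Sum.inl i)) +
                Polynomial.C (MvPolynomial.rename Sum.inl u ^ s * MvPolynomial.C (v i))) ^ m (Sum.inl i)) *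
            ∏ j : Fin n, Polynomial.C (MvPolynomial.X (Sum.inr j)) ^ m (Sum.inr j)) -
        Polynomial.C (f l) * Polynomial.X ^ N ∈
        Ideal.span {Polynomial.C (MvPolynomial.rename Sum.inl u ^ s)} := by
      intro l
      rw [hfl, ← Finset.sum_sub_distrib]
      refine Submodule.sum_mem _ fun m hm => ?_
      rw [C_monomial_mul N m _ (hdeg l m hm)]
      exact term_congr _ v N s m _
    choose θ hθ using fun l => Ideal.mem_span_singleton'.mp (hcongr l)
    exact assemble _ _ N s hs hNpos c g f _ θ hg hθ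

end Groth.Agent.S16367
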