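import Groth.Statements.S16368
import Mathlib
import Groth.Prelude.Def_FrobAlg

set_option autoImplicit false
universe u v
open TensorProduct
open FrobAlg

namespace Groth.Agent.S16368

section Twist

variable (p : ℕ) [Fact p.Prime] (R : Type u) [CommRing R] [CharP R p]
  (M : Type v) [AddCommGroup M] [Module R M]

lemma tmul_smul_eq (t : FrobAlg.Twist p R) (r : R) (m : M) :
    t ⊗ₜ[R] (r • m) = (t * FrobAlg.toTwist p R (r ^ p)) ⊗ₜ[R] m := by
  rw [← TensorProduct.smul_tmul, Algebra.smul_def, FrobAlg.algebraMap_twist, mul_comm]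

variable {M} {n : ℕ} (x : Fin n → M)

lemma exists_coeff (hx : Submodule.span R (Set.range x) = ⊤) (z : FrobAlg.Twist p R ⊗[R] M) :
    ∃ t : Fin n → FrobAlg.Twist p R, z = ∑ j, t j • ((1 : FrobAlg.Twist p R) ⊗ₜ[R] x j) := by
  induction z using TensorProduct.induction_on with
  | zero => exact ⟨0, by simp⟩
  | tmul t m =>
    have hm : m ∈ Submodule.span R (Set.range x) := by rw [hx]; exact Submodule.mem_top
    obtain ⟨c, rfl⟩ := (Submodule.mem_span_range_iff_exists_fun R).1 hm
    refine ⟨fun j => t * FrobAlg.toTwist p R (c j ^ p), ?_⟩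
    rw [TensorProduct.tmul_sum]
    refine Finset.sum_congr rfl fun j _ => ?_
    rw [tmul_smul_eq, TensorProduct.smul_tmul', smul_eq_mul, mul_one]
  | add z₁ z₂ h₁ h₂ =>
    obtain ⟨t₁, rfl⟩ := h₁
    obtain ⟨t₂, rfl⟩ := h₂
    exact ⟨t₁ + t₂, by simp only [Pi.add_apply, add_smul, Finset.sum_add_distrib]⟩

end Twist

section Coord

variable (R : Type u) [CommRing R] {M : Type v} [AddCommGroup M] [Module R M] {n : ℕ}
  (x : Fin n → M)

/-- coordinate functionals modulo an ideal containing all coordinates of all relations. -/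
lemma exists_coord (hx : Submodule.span R (Set.range x) = ⊤) (J : Ideal R)
    (hJ : ∀ v : Fin n → R, ∑ i, v i • x i = 0 → ∀ i, v i ∈ J) :
    ∃ c : Fin n → (M →ₗ[R] R ⧸ J), ∀ i l, c i (x l) = if i = l then 1 else 0 := by
  classical
  let π : (Fin n → R) →ₗ[R] M := Fintype.linearCombination R x
  have hπ : Function.Surjective π := by
    rw [← LinearMap.range_eq_top, Fintype.range_linearCombination, hx]
  have hπs : ∀ l, π (Pi.single l 1) = x l := by
    intro l
    simp [π, Fintype.linearCombination_apply, Pi.single_apply]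
  let g : Fin n → ((Fin n → R) →ₗ[R] R ⧸ J) := fun i =>
    (Ideal.Quotient.mkₐ R J).toLinearMap ∘ₗ LinearMap.proj i
  have hg : ∀ i, LinearMap.ker π ≤ LinearMap.ker (g i) := by
    intro i v hv
    rw [LinearMap.mem_ker] at hv ⊢
    have : ∑ i, v i • x i = 0 := by
      rw [← hv]; simp [π, Fintype.linearCombination_apply]
    exact Ideal.Quotient.eq_zero_iff_mem.2 (hJ v this i)
  refine ⟨fun i => (LinearMap.ker π).liftQ (g i) (hg i) ∘ₗ
    (π.quotKerEquivOfSurjective hπ).symm.toLinearMap, fun i l => ?_⟩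
  rw [LinearMap.comp_apply, LinearEquiv.coe_coe, ← hπs l,
    LinearMap.quotKerEquivOfSurjective_symm_apply, Submodule.liftQ_apply]
  show Ideal.Quotient.mk J ((Pi.single l (1 : R) : Fin n → R) i) = _
  rw [Pi.single_apply]
  split_ifs
  · exact map_one _
  · exact map_zero _

end Coord

section Main

variable (p : ℕ) [Fact p.Prime] (R : Type u) [CommRing R] [IsLocalRing R] [CharP R p]
  (M : Type v) [AddCommGroup M] [Module R M]

/-- relations of the twisted generators have coordinates in `𝔪 J`. -/
lemma rel_twist {n : ℕ} (x : Fin n → M) (hx : Submodule.span R (Set.range x) = ⊤)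
    (e : (FrobAlg.Twist p R ⊗[R] M) →ₛₗ[((FrobAlg.toTwist p R).symm : FrobAlg.Twist p R →+* R)] M)
    (he : Function.Injective e) (J : Ideal R) (hJm : J ≤ IsLocalRing.maximalIdeal R)
    (hJ : ∀ v : Fin n → R, ∑ i, v i • x i = 0 → ∀ i, v i ∈ J)
    (w : Fin n → R) (hw : ∑ j, w j • e ((1 : FrobAlg.Twist p R) ⊗ₜ[R] x j) = 0) (i : Fin n) :
    w i ∈ IsLocalRing.maximalIdeal R * J := by
  classical
  obtain ⟨c, hc⟩ := exists_coord R x hx J hJ
  let JT : Ideal (FrobAlg.Twist p R) := J.map (algebraMap R (FrobAlg.Twist p R))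
  let Fr : R ⧸ J →ₐ[R] FrobAlg.Twist p R ⧸ JT :=
    Ideal.quotientMapₐ JT (Algebra.ofId R (FrobAlg.Twist p R)) Ideal.le_comap_map
  let C : FrobAlg.Twist p R ⊗[R] M →ₗ[FrobAlg.Twist p R] FrobAlg.Twist p R ⧸ JT :=
    LinearMap.liftBaseChange (FrobAlg.Twist p R) (Fr.toLinearMap ∘ₗ c i)
  have hz : ∑ j, FrobAlg.toTwist p R (w j) • ((1 : FrobAlg.Twist p R) ⊗ₜ[R] x j) = 0 := by
    apply he
    rw [map_sum, map_zero, ← hw]
    refine Finset.sum_congr rfl fun j _ => ?_
    rw [map_smulₛₗ]
    simp
  have hC := congrArg C hz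
  rw [map_sum, map_zero] at hC
  have hterm : ∀ j, C (FrobAlg.toTwist p R (w j) • ((1 : FrobAlg.Twist p R) ⊗ₜ[R] x j)) =
      if i = j then Ideal.Quotient.mk JT (FrobAlg.toTwist p R (w j)) else 0 := by
    intro j
    rw [map_smul]
    show _ • LinearMap.liftBaseChange (FrobAlg.Twist p R) (Fr.toLinearMap ∘ₗ c i)
      ((1 : FrobAlg.Twist p R) ⊗ₜ[R] x j) = _
    rw [LinearMap.liftBaseChange_tmul, one_smul, LinearMap.comp_apply, hc i j]
    split_ifs with h
    · rw [AlgHom.toLinearMap_apply, map_one, Algebra.smul_def, mul_one]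
      rfl
    · rw [map_zero, smul_zero]
  simp only [hterm, Finset.sum_ite_eq, Finset.mem_univ, if_true] at hC
  have hmem : FrobAlg.toTwist p R (w i) ∈ JT := Ideal.Quotient.eq_zero_iff_mem.1 hC
  have hle : JT ≤ (IsLocalRing.maximalIdeal R * J).comap
      ((FrobAlg.toTwist p R).symm : FrobAlg.Twist p R →+* R) := by
    rw [Ideal.map_le_iff_le_comap]
    intro j hj
    rw [Ideal.mem_comap, Ideal.mem_comap, FrobAlg.algebraMap_twist]
    show (FrobAlg.toTwist p R).symm (FrobAlg.toTwist p R (j ^ p)) ∈ _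
    rw [RingEquiv.symm_apply_apply]
    obtain ⟨q, hq⟩ : ∃ q, p = q + 1 := ⟨p - 1, (Nat.sub_add_cancel (Fact.out : p.Prime).one_le).symm⟩
    have hq0 : q ≠ 0 := by
      intro h0
      have := (Fact.out : p.Prime).one_lt
      omega
    rw [hq, pow_succ]
    exact Ideal.mul_mem_mul (Ideal.pow_mem_of_mem _ (hJm hj) q (Nat.pos_of_ne_zero hq0)) hj
  have := hle hmem
  rw [Ideal.mem_comap] at this
  simpa using this

end Main

theorem result
    (p : ℕ) [Fact p.Prime] (R : Type u) [CommRing R] [IsLocalRing R] [CharP R p]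
    (M : Type v) [AddCommGroup M] [Module R M] [Module.FinitePresentation R M]
    (e : (FrobAlg.Twist p R ⊗[R] M) →ₛₗ[((FrobAlg.toTwist p R).symm : FrobAlg.Twist p R →+* R)] M)
    (he : Function.Bijective e) :
    Module.Free R M := by
  classical
  -- minimal generators
  let κ := IsLocalRing.ResidueField R
  have hfin : Module.Finite R M := inferInstance
  let n := Module.finrank κ (κ ⊗[R] M)
  let bk : Module.Basis (Fin n) κ (κ ⊗[R] M) := Module.finBasis κ (κ ⊗[R] M)
  have hsurj : Function.Surjective (TensorProduct.mk R κ M 1) :=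
    TensorProduct.mk_surjective R M κ Ideal.Quotient.mk_surjective
  choose x hxb using fun i => hsurj (bk i)
  have hx : Submodule.span R (Set.range x) = ⊤ :=
    IsLocalRing.span_eq_top_of_tmul_eq_basis x bk hxb
  -- relations lie in the maximal ideal
  have hrelm : ∀ v : Fin n → R, ∑ i, v i • x i = 0 → ∀ i, v i ∈ IsLocalRing.maximalIdeal R := by
    intro v hv i
    have h1 := congrArg (TensorProduct.mk R κ M 1) hv
    rw [map_sum, map_zero] at h1
    have h2 : ∑ j, (IsLocalRing.residue R (v j)) • bk j = 0 := by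
      rw [← h1]
      refine Finset.sum_congr rfl fun j _ => ?_
      rw [map_smul, hxb]
      show (algebraMap R κ (v j)) • bk j = _
      rw [algebraMap_smul]
    have h3 := Fintype.linearIndependent_iff.1 bk.linearIndependent _ h2 i
    exact (IsLocalRing.residue_eq_zero_iff _).1 h3
  -- the module of relations is finitely generated
  let π : (Fin n → R) →ₗ[R] M := Fintype.linearCombination R x
  have hπ : Function.Surjective π := by
    rw [← LinearMap.range_eq_top, Fintype.range_linearCombination, hx]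
  have hπa : ∀ v, π v = ∑ i, v i • x i := fun v => by
    simp [π, Fintype.linearCombination_apply]
  obtain ⟨S, hS⟩ := Module.FinitePresentation.fg_ker π hπ
  let J : Ideal R := Ideal.span (⋃ v ∈ (S : Set (Fin n → R)), Set.range v)
  have hJfg : J.FG := by
    refine ⟨S.biUnion fun v => Finset.univ.image v, ?_⟩
    congr 1
    ext r
    simp
  have hJ' : ∀ v ∈ Submodule.span R (S : Set (Fin n → R)), ∀ i, v i ∈ J := by
    intro v hvk i
    induction hvk using Submodule.span_induction with
    | mem v hvS =>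
      apply Ideal.subset_span
      exact Set.mem_biUnion hvS (Set.mem_range_self i)
    | zero => exact J.zero_mem
    | add a b _ _ ha hb => exact J.add_mem ha hb
    | smul r a _ ha => exact J.mul_mem_left r ha
  have hJ : ∀ v : Fin n → R, ∑ i, v i • x i = 0 → ∀ i, v i ∈ J := by
    intro v hv i
    have hvk : v ∈ LinearMap.ker π := by rw [LinearMap.mem_ker, hπa, hv]
    rw [← hS] at hvk
    exact hJ' v hvk i
  have hJm : J ≤ IsLocalRing.maximalIdeal R := by
    rw [Ideal.span_le]
    intro r hr
    simp only [Set.mem_iUnion, Set.mem_range] at hr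
    obtain ⟨v, hvS, i, rfl⟩ := hr
    have hvk : v ∈ LinearMap.ker π := by rw [← hS]; exact Submodule.subset_span hvS
    rw [LinearMap.mem_ker, hπa] at hvk
    exact hrelm v hvk i
  -- twisted generators
  let y : Fin n → M := fun j => e ((1 : FrobAlg.Twist p R) ⊗ₜ[R] x j)
  have hyspan : ∀ m : M, ∃ c : Fin n → R, m = ∑ j, c j • y j := by
    intro m
    obtain ⟨z, rfl⟩ := he.2 m
    obtain ⟨t, rfl⟩ := exists_coeff p R x hx z
    refine ⟨fun j => (FrobAlg.toTwist p R).symm (t j), ?_⟩
    rw [map_sum]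
    refine Finset.sum_congr rfl fun j _ => ?_
    rw [map_smulₛₗ]
    rfl
  have hxspan : ∀ m : M, ∃ c : Fin n → R, m = ∑ j, c j • x j := by
    intro m
    have hm : m ∈ Submodule.span R (Set.range x) := by rw [hx]; exact Submodule.mem_top
    obtain ⟨c, hc⟩ := (Submodule.mem_span_range_iff_exists_fun R).1 hm
    exact ⟨c, hc.symm⟩
  choose B hB using fun i => hyspan (x i)
  choose A hA using fun j => hxspan (y j)
  have hrely := rel_twist p R M x hx e he.1 J hJm hJ
  -- `BA - 1` has rows in the relations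
  have hBA : ∀ i l, (∑ j, B i j * A j l) - (if i = l then 1 else 0) ∈ J := by
    intro i
    apply hJ
    have h1 : x i = ∑ l, (∑ j, B i j * A j l) • x l := by
      conv_lhs => rw [hB i]
      simp_rw [hA, Finset.smul_sum, smul_smul]
      rw [Finset.sum_comm]
      simp_rw [Finset.sum_smul]
    simp_rw [sub_smul, Finset.sum_sub_distrib]
    rw [← h1]
    simp
  -- all coordinates of relations lie in `𝔪 J`
  have hkey : ∀ v : Fin n → R, ∑ i, v i • x i = 0 → ∀ l, v l ∈ IsLocalRing.maximalIdeal R * J := by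
    intro v hv l
    have hw : ∑ j, (∑ i, v i * B i j) • y j = 0 := by
      rw [← hv]
      conv_rhs =>
        enter [2, i]
        rw [hB i, Finset.smul_sum]
      rw [Finset.sum_comm]
      refine Finset.sum_congr rfl fun j _ => ?_
      rw [Finset.sum_smul]
      simp_rw [smul_smul]
    have h1 := hrely _ hw
    have h2 : ∑ j, (∑ i, v i * B i j) * A j l ∈ IsLocalRing.maximalIdeal R * J :=
      Ideal.sum_mem _ fun j _ => Ideal.mul_mem_right _ _ (h1 j)
    have h3 : ∑ j, (∑ i, v i * B i j) * A j l =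
        v l + ∑ i, v i * ((∑ j, B i j * A j l) - (if i = l then 1 else 0)) := by
      simp_rw [mul_sub, Finset.sum_sub_distrib, mul_ite, mul_one, mul_zero,
        Finset.sum_ite_eq', Finset.mem_univ, if_true, Finset.sum_mul, Finset.mul_sum]
      rw [Finset.sum_comm]
      simp_rw [mul_assoc]
      ring
    have h4 : ∑ i, v i * ((∑ j, B i j * A j l) - (if i = l then 1 else 0)) ∈
        IsLocalRing.maximalIdeal R * J :=
      Ideal.sum_mem _ fun i _ => Ideal.mul_mem_mul (hJm (hJ v hv i)) (hBA i l)
    have h5 : v l = (∑ j, (∑ i, v i * B i j) * A j l) -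
        ∑ i, v i * ((∑ j, B i j * A j l) - (if i = l then 1 else 0)) := by
      rw [h3]; ring
    rw [h5]
    exact Ideal.sub_mem _ h2 h4
  -- Nakayama
  have hJle : J ≤ IsLocalRing.maximalIdeal R • J := by
    rw [Ideal.span_le]
    intro r hr
    simp only [Set.mem_iUnion, Set.mem_range] at hr
    obtain ⟨v, hvS, i, rfl⟩ := hr
    have hvk : v ∈ LinearMap.ker π := by rw [← hS]; exact Submodule.subset_span hvS
    rw [LinearMap.mem_ker, hπa] at hvk
    exact hkey v hvk i
  have hJbot : J = ⊥ :=
    Submodule.eq_bot_of_le_smul_of_le_jacobson_bot (IsLocalRing.maximalIdeal R) J hJfg hJle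
      (IsLocalRing.maximalIdeal_le_jacobson _)
  -- conclusion
  have hli : LinearIndependent R x := by
    rw [Fintype.linearIndependent_iff]
    intro v hv i
    have := hJ v hv i
    rw [hJbot] at this
    exact (Ideal.mem_bot).1 this
  exact Module.Free.of_basis (Module.Basis.mk hli (by rw [hx]))

end Groth.Agent.S16368
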