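import Groth.Statements.S16369
import Mathlib
import Groth.Agent.Lib.Helper49.StalkNbhd2
import Groth.Agent.Lib.Helper1.PushSupport
import Groth.Agent.S0002

set_option linter.style.haveILetI false

set_option autoImplicit false
universe u
open CategoryTheory AlgebraicGeometry Opposite
open FrobSch

namespace Groth.Agent.S16369

section Aux16369
open CategoryTheory AlgebraicGeometry TopologicalSpace Opposite

/-- an injective Frobenius-semilinear endomorphism of a finite-dimensional vector space over a
perfect field is surjective. -/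
theorem surjective_of_injective_frobenius_semilinear (p : ℕ) [Fact p.Prime] (k : Type u) [Field k]
    [CharP k p] [PerfectField k]
    (W : Type u) [AddCommGroup W] [Module k W] [Module.Finite k W] (F : W →+ W)
    (hF : ∀ (a : k) (w : W), F (a • w) = a ^ p • F w) (hinj : Function.Injective F) :
    Function.Surjective F := by
  classical
  let b := Module.finBasis k W
  have hpow : ∀ c : k, ((frobeniusEquiv k p).symm c) ^ p = c := fun c =>
    frobeniusEquiv_symm_pow_p k p c
  have hli : LinearIndependent k (fun i => F (b i)) := by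
    rw [Fintype.linearIndependent_iff]
    intro c hc i
    have h1 : F (∑ j, (frobeniusEquiv k p).symm (c j) • b j) = 0 := by
      rw [map_sum]
      simp_rw [hF, hpow]
      exact hc
    have h0 : ∑ j, (frobeniusEquiv k p).symm (c j) • b j = 0 := hinj (by rw [h1, map_zero])
    have hdi := (Fintype.linearIndependent_iff.mp b.linearIndependent)
      (fun j => (frobeniusEquiv k p).symm (c j)) h0 i
    rw [← hpow (c i), hdi, zero_pow (Fact.out : p.Prime).ne_zero]
  have hspan : Submodule.span k (Set.range fun i => F (b i)) = ⊤ :=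
    hli.span_eq_top_of_card_eq_finrank' (by simp)
  intro w
  have hw : w ∈ Submodule.span k (Set.range fun i => F (b i)) := by rw [hspan]; trivial
  obtain ⟨c, rfl⟩ := (Submodule.mem_span_range_iff_exists_fun k).mp hw
  refine ⟨∑ i, (frobeniusEquiv k p).symm (c i) • b i, ?_⟩
  rw [map_sum]
  simp_rw [hF, hpow]

/-- the `p`-th power map is Frobenius-semilinear for multiplication by global functions. -/
theorem smulAb_comp_frob (p : ℕ) (X : Scheme.{u})
    (φ : Coh.toAb (Coh.structureModule X) ⟶ Coh.toAb (Coh.structureModule X))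
    (hφ : ∀ (U : X.Opens) (t : Γ(X, U)), φ.hom.app (op U) t = t ^ p) (r : Coh.Γtop X) :
    Coh.smulAb (Coh.structureModule X) r ≫ φ =
      φ ≫ Coh.smulAb (Coh.structureModule X) (r ^ p) := by
  apply Sheaf.hom_ext
  apply NatTrans.ext
  funext U
  induction U using Opposite.rec with
  | _ U =>
    ext t
    obtain ⟨t', rfl⟩ : ∃ t' : Γ(X, U), t' = t := ⟨t, rfl⟩
    have hrp : (show Γ(X, U) from Coh.resTop X (op U) (r ^ p)) =
        (show Γ(X, U) from Coh.resTop X (op U) r) ^ p := by
      change Coh.resTop X (op U) (r ^ p) = (Coh.resTop X (op U) r) ^ p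
      rw [map_pow]
    change φ.hom.app (op U) ((show Γ(X, U) from Coh.resTop X (op U) r) * t') =
      (show Γ(X, U) from Coh.resTop X (op U) (r ^ p)) * (show Γ(X, U) from φ.hom.app (op U) t')
    rw [hφ, hφ, hrp, mul_pow]

end Aux16369


/-- (i) ⇒ (ii): let k be a perfect field of characteristic p and X a scheme proper over k. Let φ be the
p-th power map on the sheaf of additive groups underlying O_X and B its cokernel in abelian sheaves
(for X smooth over k this is the sheaf B¹ of locally exact one-forms, pushed down along Frobenius).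
If X is Frobenius split — φ admits a retraction s, an additive endomorphism of O_X with s(t^p) = t
and s(a^p·b) = a·s(b) on every open — then H^i(X, B) = 0 for every i. (The source states this for X
normal; normality is not used for this implication, and a split X is reduced anyway.) -/
theorem result
    (p : ℕ) [Fact p.Prime] (k : Type u) [Field k] [CharP k p] [PerfectField k]
    (X : Scheme.{u}) [X.Over (Spec (CommRingCat.of k))] [IsProper (X ↘ Spec (CommRingCat.of k))]
    (φ : Coh.toAb (Coh.structureModule X) ⟶ Coh.toAb (Coh.structureModule X))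
    (hφ : ∀ (U : X.Opens) (t : Γ(X, U)), φ.hom.app (op U) t = t ^ p)
    (s : Coh.toAb (Coh.structureModule X) ⟶ Coh.toAb (Coh.structureModule X))
    (hs : φ ≫ s = 𝟙 _)
    (hlin : ∀ (U : X.Opens) (a b : Γ(X, U)),
      s.hom.app (op U) (a ^ p * b) = a * @id Γ(X, U) (s.hom.app (op U) b))
    (i : ℕ) : Subsingleton (Sheaf.H (Limits.cokernel φ) i) := by
  classical
  haveI : IsSplitMono φ := IsSplitMono.mk' ⟨s, hs⟩
  haveI hmono : Mono φ := inferInstance
  let S : ShortComplex (Sheaf (Opens.grothendieckTopology X) AddCommGrpCat.{u}) :=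
    ShortComplex.mk φ (Limits.cokernel.π φ) (Limits.cokernel.condition φ)
  have hS : S.ShortExact :=
    ShortComplex.ShortExact.mk' (ShortComplex.exact_cokernel φ) hmono inferInstance
  have hcoh : Coh.IsCoh (Coh.structureModule X) :=
    ⟨Groth.Agent.Lib.Helper1.isQuasicoherent_structureModule X,
      Groth.Agent.Lib.Helper49.isFiniteType_unit X⟩
  have hinj : ∀ n, Function.Injective (Sheaf.H.map φ n) := by
    intro n x y hxy
    have h1 := congrArg (Sheaf.H.map s n) hxy
    rwa [← Sheaf.H.map_comp_apply, ← Sheaf.H.map_comp_apply, hs, Sheaf.H.map_id_apply,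
      Sheaf.H.map_id_apply] at h1
  have hsurj : ∀ n, Function.Surjective (Sheaf.H.map φ n) := by
    intro n
    haveI : Module.Finite k (Coh.HH X (Coh.structureModule X) n) :=
      Groth.Agent.S0002.result k X (Coh.structureModule X) hcoh n
    refine surjective_of_injective_frobenius_semilinear p k
      (Coh.HH X (Coh.structureModule X) n) (Sheaf.H.map φ n) ?_ (hinj n)
    intro a ξ
    change Sheaf.H.map φ n (Sheaf.H.map (Coh.smulAb (Coh.structureModule X)
        (Coh.toGlobal (X ↘ Spec (CommRingCat.of k)) a)) n ξ) =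
      Sheaf.H.map (Coh.smulAb (Coh.structureModule X)
        (Coh.toGlobal (X ↘ Spec (CommRingCat.of k)) (a ^ p))) n (Sheaf.H.map φ n ξ)
    rw [← Sheaf.H.map_comp_apply, ← Sheaf.H.map_comp_apply, map_pow,
      smulAb_comp_frob p X φ hφ]
  refine ⟨fun x y => ?_⟩
  suffices H : ∀ x : Sheaf.H (Limits.cokernel φ) i, x = 0 by rw [H x, H y]
  intro x
  have h1 : (x.comp hS.extClass rfl).comp (Abelian.Ext.mk₀ S.f) (add_zero (i + 1)) = 0 := by
    rw [Abelian.Ext.comp_assoc_of_third_deg_zero, hS.extClass_comp, Abelian.Ext.comp_zero]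
  have h2 : x.comp hS.extClass rfl = 0 := by
    apply hinj (i + 1)
    rw [map_zero]
    exact h1
  obtain ⟨y, hy⟩ := Abelian.Ext.covariant_sequence_exact₃ _ hS x rfl h2
  obtain ⟨z, rfl⟩ := hsurj i y
  rw [← hy]
  change (z.comp (Abelian.Ext.mk₀ S.f) (add_zero i)).comp (Abelian.Ext.mk₀ S.g) (add_zero i) = 0
  rw [Abelian.Ext.comp_assoc_of_second_deg_zero, Abelian.Ext.mk₀_comp_mk₀, S.zero,
    Abelian.Ext.mk₀_zero, Abelian.Ext.comp_zero]

end Groth.Agent.S16369
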