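import Groth.Statements.S16370
import Mathlib.Tactic
import Mathlib.Algebra.Homology.DerivedCategory.Ext.ExactSequences

set_option autoImplicit false
universe u
open CategoryTheory AlgebraicGeometry Opposite
open FrobSch

namespace Groth.Agent.S16370

theorem mono_frob (p : ℕ) (X : Scheme.{u}) [IsReduced X]
    (φ : Coh.toAb (Coh.structureModule X) ⟶ Coh.toAb (Coh.structureModule X))
    (hφ : ∀ (U : X.Opens) (t : Γ(X, U)), φ.hom.app (op U) t = t ^ p) : Mono φ := by
  have : ∀ U : (TopologicalSpace.Opens X)ᵒᵖ, Mono (φ.hom.app U) := by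
    intro U
    rw [AddCommGrpCat.mono_iff_injective]
    intro t s h
    obtain ⟨U⟩ := U
    have h1 : (φ.hom.app (op U)) (t - s) = 0 := by
      rw [map_sub, h, sub_self]
    let t' : Γ(X, U) := t
    let s' : Γ(X, U) := s
    have h2 : (t' - s') ^ p = 0 := by
      rw [← hφ U (t' - s')]
      exact h1
    have h3 : t' - s' = 0 := by
      have : IsNilpotent (t' - s') := ⟨p, h2⟩
      exact this.eq_zero
    exact sub_eq_zero.mp h3
  have : Mono φ.hom := NatTrans.mono_of_mono_app _
  exact Sheaf.Hom.mono_of_presheaf_mono _ _ _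

open Abelian in
/-- (ii) ⇒ (iii): let X be a reduced scheme of prime characteristic p, φ the p-th power map on the sheaf
of additive groups underlying O_X (a monomorphism, X being reduced) and B its cokernel in abelian
sheaves. If H^i(X, B) = 0 for all i ≥ 0, then the endomorphism of H^i(X, O_X) induced by φ — the
Hasse–Witt operation — is bijective for all i. (The source has X normal and proper over a perfect
field; only reducedness enters this implication.) -/
theorem result
    (p : ℕ) [Fact p.Prime] (X : Scheme.{u}) [IsReduced X] (hp : (p : Γ(X, ⊤)) = 0)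
    (φ : Coh.toAb (Coh.structureModule X) ⟶ Coh.toAb (Coh.structureModule X))
    (hφ : ∀ (U : X.Opens) (t : Γ(X, U)), φ.hom.app (op U) t = t ^ p)
    (hB : ∀ i : ℕ, Subsingleton (Sheaf.H (Limits.cokernel φ) i))
    (i : ℕ) : Function.Bijective (Sheaf.H.map φ i) := by
  have : Mono φ := mono_frob p X φ hφ
  let S : ShortComplex (Sheaf (Opens.grothendieckTopology X) AddCommGrpCat.{u}) :=
    ShortComplex.mk φ (Limits.cokernel.π φ) (Limits.cokernel.condition φ)
  have hS : S.ShortExact :=
    { exact := ShortComplex.exact_cokernel φ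
      mono_f := inferInstanceAs (Mono φ)
      epi_g := inferInstanceAs (Epi (Limits.cokernel.π φ)) }
  constructor
  · -- injective
    rw [injective_iff_map_eq_zero]
    intro x hx
    rw [Sheaf.H.map_apply] at hx
    cases i with
    | zero =>
      have := Ext.postcomp_mk₀_injective_of_mono
        ((constantSheaf (Opens.grothendieckTopology X) AddCommGrpCat.{u}).obj
          (AddCommGrpCat.of (ULift ℤ))) φ
      apply this
      rw [map_zero]
      exact hx
    | succ n =>
      obtain ⟨x₃, hx₃⟩ := Ext.covariant_sequence_exact₁ _ hS x hx (n₀ := n) rfl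
      have : x₃ = 0 := (hB n).elim _ _
      rw [← hx₃, this, Ext.zero_comp]
  · intro y
    have h0 : y.comp (Ext.mk₀ S.g) (add_zero i) = 0 := (hB i).elim _ _
    obtain ⟨x, hx⟩ := Ext.covariant_sequence_exact₂ _ hS y h0
    exact ⟨x, hx⟩

end Groth.Agent.S16370
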