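import Groth.Statements.S16371
import Mathlib.Tactic
import Mathlib.Data.Nat.Choose.Dvd

set_option autoImplicit false
universe u v w
open FrobAlg

namespace Groth.Agent.S16371

/-- If `p^2 = 0` in a commutative ring `B` and `a - b ∈ (p)`, then `a^p = b^p`. -/
theorem pow_eq_pow_of_sub_mem {B : Type v} [CommRing B] (p : ℕ) (hpp : p.Prime)
    (hp : (p : B) ^ 2 = 0) (a b : B) (hab : a - b ∈ Ideal.span ({(p : B)} : Set B)) :
    a ^ p = b ^ p := by
  rw [Ideal.mem_span_singleton'] at hab
  obtain ⟨c, hc⟩ := hab
  have ha : a = b + c * p := by rw [hc]; ring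
  rw [ha, add_pow]
  have hp2 : 2 ≤ p := hpp.two_le
  have h2 : (p : B) * (p : B) = 0 := by rw [← sq]; exact hp
  rw [Finset.sum_range_succ, Finset.sum_eq_zero]
  · simp
  · intro k hk
    rw [Finset.mem_range] at hk
    have hk' : (c * (p : B)) ^ (p - k) = (c * (p : B)) * (c * (p : B)) ^ (p - k - 1) := by
      rw [← pow_succ']; congr 1; omega
    by_cases hk0 : k = 0
    · subst hk0
      have : (c * (p : B)) ^ (p - 0) = (c * (p : B)) * (c * (p : B)) * (c * (p : B)) ^ (p - 2) := by
        rw [← sq, ← pow_add]; congr 1; omega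
      rw [this]
      calc b ^ 0 * (c * (p : B) * (c * (p : B)) * (c * (p : B)) ^ (p - 2)) * ((p.choose 0 : ℕ) : B)
          = ((p : B) * (p : B)) * (b ^ 0 * (c * c * (c * (p : B)) ^ (p - 2)) * ((p.choose 0 : ℕ) : B)) := by
            ring
        _ = 0 := by rw [h2]; ring
    · have hdvd : p ∣ p.choose k := Nat.Prime.dvd_choose_self hpp hk0 hk
      obtain ⟨e, he⟩ := hdvd
      rw [hk', he]
      push_cast
      calc b ^ k * (c * (p : B) * (c * (p : B)) ^ (p - k - 1)) * ((p : B) * (e : B))
          = ((p : B) * (p : B)) * (b ^ k * (c * (c * (p : B)) ^ (p - k - 1)) * (e : B)) := by ring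
        _ = 0 := by rw [h2]; ring

/-- Let p be a prime, A a commutative ring and B, C commutative A-algebras with p² = 0 in B. If two
A-algebra maps g₁, g₂ : C → B agree modulo p, then they agree on every element of C which is
congruent modulo p to an element of the A-subalgebra generated by the p-th powers. (The source
states this for liftings over a flat ℤ/p²-thickening of two smooth schemes and the subsheaf of
functions whose reduction lies in the image of the relative Frobenius; the smoothness and lifting
hypotheses are not needed for the identity.) -/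
theorem result
    (p : ℕ) [Fact p.Prime] (A : Type u) [CommRing A] (B : Type v) [CommRing B] [Algebra A B]
    (C : Type w) [CommRing C] [Algebra A C] (hp : (p : B) ^ 2 = 0)
    (g₁ g₂ : C →ₐ[A] B) (hg : ∀ x : C, g₁ x - g₂ x ∈ Ideal.span ({(p : B)} : Set B))
    (x y : C) (hy : y ∈ Algebra.adjoin A (Set.range fun c : C => c ^ p))
    (hxy : x - y ∈ Ideal.span ({(p : C)} : Set C)) :
    g₁ x = g₂ x := by
  have hpp : p.Prime := Fact.out
  have hy' : g₁ y = g₂ y := by
    have : Set.EqOn g₁ g₂ (Algebra.adjoin A (Set.range fun c : C => c ^ p)) := by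
      apply AlgHom.eqOn_adjoin_iff.mpr
      rintro _ ⟨c, rfl⟩
      simp only [map_pow]
      exact pow_eq_pow_of_sub_mem p hpp hp _ _ (hg c)
    exact this hy
  rw [Ideal.mem_span_singleton'] at hxy
  obtain ⟨c, hc⟩ := hxy
  have hx : x = y + c * p := by rw [hc]; ring
  have hgc := hg c
  rw [Ideal.mem_span_singleton'] at hgc
  obtain ⟨e, he⟩ := hgc
  have h2 : (p : B) * (p : B) = 0 := by rw [← sq]; exact hp
  rw [hx, map_add, map_add, map_mul, map_mul, hy', map_natCast, map_natCast]
  have : g₁ c = g₂ c + e * p := by rw [he]; ring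
  rw [this]
  calc g₂ y + (g₂ c + e * (p : B)) * (p : B) = g₂ y + g₂ c * p + e * ((p : B) * (p : B)) := by ring
    _ = g₂ y + g₂ c * p := by rw [h2]; ring

end Groth.Agent.S16371
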