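import Groth.Statements.S1639
import Groth.Agent.Lib.Helper62.AmpleNormC
import Groth.Agent.Lib.Helper45.NormNormal
import Groth.Agent.Lib.Helper11.PullbackAmple2

set_option autoImplicit false
set_option linter.style.haveILetI false
universe u
open CategoryTheory CategoryTheory.Limits AlgebraicGeometry
open Divisors

namespace Groth.Agent.S1639

/-- Let π : X → Y be finite and surjective, with Y integral and normal. If X has an ample invertible
module then so does Y. -/
theorem result {X Y : Scheme.{u}} (π : X ⟶ Y) [IsFinite π] [Surjective π]
    [IsIntegral Y] (hY : Pi1.IsNormalScheme Y) (L : X.Modules) (hL : CohB1.IsAmple L) :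
    ∃ M : Y.Modules, CohB1.IsAmple M := by
  classical
  -- a point over the generic point of `Y`
  obtain ⟨x₀, hx₀⟩ := π.surjective (genericPoint Y)
  let Z : TopologicalSpace.Closeds X := ⟨closure {x₀}, isClosed_closure⟩
  let I : X.IdealSheafData := Scheme.IdealSheafData.vanishingIdeal Z
  let i : I.subscheme ⟶ X := I.subschemeι
  have hrange : Set.range i.base = closure {x₀} := by
    rw [Scheme.IdealSheafData.range_subschemeι, Scheme.IdealSheafData.coe_support_vanishingIdeal]
    rfl
  -- the subscheme is reduced
  haveI hred : IsReduced I.subscheme := by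
    have : ∀ U : I.subschemeCover.openCover.I₀, IsReduced (I.subschemeCover.openCover.X U) := by
      intro (U : X.affineOpens)
      change IsReduced (Spec (.of <| Γ(X, U) ⧸ I.ideal U))
      have hrad : (I.ideal U).IsRadical := by
        rw [Scheme.IdealSheafData.vanishingIdeal_ideal]
        exact PrimeSpectrum.isRadical_vanishingIdeal _
      have : _root_.IsReduced (Γ(X, U) ⧸ I.ideal U) :=
        (Ideal.isRadical_iff_quotient_reduced _).mp hrad
      infer_instance
    exact IsReduced.of_openCover _ I.subschemeCover.openCover
  -- and irreducible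
  haveI hirr : IrreducibleSpace I.subscheme := by
    have h1 : IsIrreducible (Set.range i.base) := by
      rw [hrange]
      exact isIrreducible_singleton.closure
    haveI : IrreducibleSpace ↥(Set.range i.base) := isIrreducible_iff_irreducibleSpace.mp h1
    let e : I.subscheme ≃ₜ ↥(Set.range i.base) := i.isEmbedding.toHomeomorph
    exact e.symm.surjective.irreducibleSpace e.symm.continuous
  haveI hint : IsIntegral I.subscheme := isIntegral_of_irreducibleSpace_of_isReduced _
  -- the composite is finite and surjective
  let π₁ : I.subscheme ⟶ Y := i ≫ π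
  haveI : IsFinite π₁ := inferInstance
  haveI : Surjective π₁ := by
    constructor
    have hcl : IsClosed (Set.range π₁.base) := π₁.isClosedMap.isClosed_range
    have hmem : genericPoint Y ∈ Set.range π₁.base := by
      have hx₀Z : x₀ ∈ Set.range i.base := by
        rw [hrange]
        exact subset_closure rfl
      obtain ⟨z, hz⟩ := hx₀Z
      refine ⟨z, ?_⟩
      change π.base (i.base z) = _
      rw [hz, hx₀]
    intro y
    have h2 : closure {genericPoint Y} ⊆ Set.range π₁.base :=
      hcl.closure_subset_iff.mpr (Set.singleton_subset_iff.mpr hmem)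
    have h3 : closure {genericPoint Y} = Set.univ := (genericPoint_spec Y).def
    exact h2 (h3 ▸ Set.mem_univ y)
  obtain ⟨d, ⟨Nm⟩⟩ := Groth.Agent.Lib.Helper45.NormNormal.hasNorm_of_normal π₁ (fun y => (hY y).2)
  have hL₁ : CohB1.IsAmple ((Scheme.Modules.pullback i).obj L) :=
    Groth.Agent.Lib.Helper11.PullbackAmple.isAmple_pullback_of_isQuasiAffine i
      (Groth.Agent.Lib.Helper11.PullbackAmple2.isQuasiAffine_of_isAffineHom i) hL
  exact Groth.Agent.Lib.Helper62.AmpleNormC.exists_isAmple_of_finite_norm π₁ Nm _ hL₁

end Groth.Agent.S1639
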