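import Groth.Statements.S16390
import Mathlib.Tactic
import Mathlib.Algebra.Polynomial.SpecificDegree
import Mathlib.NumberTheory.Padics.Hensel

set_option autoImplicit false
open AbVar

namespace Groth.Agent.S16390

open Polynomial

theorem four_mul_lt (p r : ℕ) (hp : 2 ≤ p) (hr : 2 < r) : (p : ℝ) ^ 2 < 4 * (p : ℝ) ^ r := by
  have h1 : (1 : ℝ) ≤ (p : ℝ) := by exact_mod_cast (by omega : 1 ≤ p)
  have h2 : (p : ℝ) ^ 2 ≤ (p : ℝ) ^ r := pow_le_pow_right₀ h1 (by omega)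
  have h3 : (0 : ℝ) < (p : ℝ) ^ 2 := by positivity
  linarith

theorem part1 (p r : ℕ) (hp : 2 ≤ p) (hr : 2 < r) :
    Irreducible (X ^ 2 - C (p : ℚ) * X + C ((p : ℚ) ^ r)) := by
  have hdeg : (X ^ 2 - C (p : ℚ) * X + C ((p : ℚ) ^ r)).natDegree = 2 := by
    compute_degree!
  rw [Polynomial.irreducible_iff_roots_eq_zero_of_degree_le_three (by omega) (by omega)]
  rw [Multiset.eq_zero_iff_forall_notMem]
  intro x hx
  rw [Polynomial.mem_roots'] at hx
  have hx2 := hx.2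
  simp only [IsRoot, eval_add, eval_sub, eval_pow, eval_X, eval_mul, eval_C] at hx2
  have h := four_mul_lt p r hp hr
  have hx3 : ((x : ℝ)) ^ 2 - (p : ℝ) * x + (p : ℝ) ^ r = 0 := by exact_mod_cast hx2
  nlinarith [sq_nonneg (2 * (x : ℝ) - p)]

theorem part2 (p r : ℕ) (hp : 2 ≤ p) (hr : 2 < r) (π : ℂ)
    (h : π ^ 2 - (p : ℂ) * π + (p : ℂ) ^ r = 0) : ‖π‖ = Real.sqrt ((p : ℝ) ^ r) := by
  have hlt := four_mul_lt p r hp hr
  have hre := congrArg Complex.re h
  have him := congrArg Complex.im h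
  have hpr : ((p : ℂ) ^ r) = (((p : ℝ) ^ r : ℝ) : ℂ) := by push_cast; rfl
  rw [hpr] at hre him
  simp only [sq, Complex.add_re, Complex.sub_re, Complex.mul_re, Complex.natCast_re,
    Complex.natCast_im, Complex.ofReal_re, Complex.zero_re, Complex.add_im, Complex.sub_im,
    Complex.mul_im, Complex.ofReal_im, Complex.zero_im, zero_mul, sub_zero, add_zero] at hre him
  set a := π.re
  set b := π.im
  set q := (p : ℝ) ^ r
  have hb : b * (2 * a - p) = 0 := by linarith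
  have hnorm : ‖π‖ * ‖π‖ = q := by
    rw [← sq, ← Complex.normSq_eq_norm_sq, Complex.normSq_apply]
    rcases mul_eq_zero.mp hb with hb0 | hb0
    · exfalso
      rw [hb0] at hre
      nlinarith [sq_nonneg (2 * a - p)]
    · have ha : a = p / 2 := by linarith
      nlinarith
  rw [eq_comm, Real.sqrt_eq_iff_mul_self_eq (by positivity) (norm_nonneg _)]
  exact hnorm.symm

end Groth.Agent.S16390

namespace Groth.Agent.S16390

open Polynomial

theorem valuation_eq_zero_of_norm_eq_one {p : ℕ} [Fact p.Prime] (x : ℚ_[p]) (hx : ‖x‖ = 1) :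
    x.valuation = 0 := by
  have hx0 : x ≠ 0 := by
    intro h; rw [h, norm_zero] at hx; exact zero_ne_one hx
  have h1 := Padic.norm_eq_zpow_neg_valuation hx0
  rw [hx] at h1
  have hp1 : (1 : ℝ) < p := by exact_mod_cast (Fact.out : p.Prime).one_lt
  have := (zpow_eq_one_iff_right₀ (by positivity : (0 : ℝ) ≤ p) (ne_of_gt hp1)).mp h1.symm
  omega

theorem part3 (p r : ℕ) [Fact p.Prime] (hr : 2 < r) :
    ∃ a b : ℚ_[p], a ≠ b ∧ a ^ 2 - (p : ℚ_[p]) * a + (p : ℚ_[p]) ^ r = 0 ∧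
        b ^ 2 - (p : ℚ_[p]) * b + (p : ℚ_[p]) ^ r = 0 ∧ a.valuation = 1 ∧
        b.valuation = (r : ℤ) - 1 := by
  have hpp : p.Prime := Fact.out
  set F : Polynomial ℤ_[p] := X ^ 2 - X + C ((p : ℤ_[p]) ^ (r - 2)) with hF
  have hF1 : aeval (1 : ℤ_[p]) F = (p : ℤ_[p]) ^ (r - 2) := by simp [hF]
  have hF'1 : aeval (1 : ℤ_[p]) (derivative F) = 1 := by
    have hder : derivative F = C 2 * X - 1 := by
      rw [hF, derivative_add, derivative_sub, derivative_X_pow, derivative_X, derivative_C, add_zero]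
      norm_num
    rw [hder]
    simp only [map_sub, map_mul, aeval_X, aeval_C, map_one]
    norm_num
  have hnorm : ‖aeval (1 : ℤ_[p]) F‖ < ‖aeval (1 : ℤ_[p]) (derivative F)‖ ^ 2 := by
    rw [hF1, hF'1, norm_one, one_pow, norm_pow, PadicInt.norm_p]
    apply pow_lt_one₀ (by positivity)
    · apply inv_lt_one_of_one_lt₀
      exact_mod_cast hpp.one_lt
    · omega
  obtain ⟨z, hz0, hz1, -, -⟩ := hensels_lemma hnorm
  rw [hF'1, norm_one] at hz1
  have hz0' : z ^ 2 - z + (p : ℤ_[p]) ^ (r - 2) = 0 := by simpa [hF] using hz0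
  have hznorm : ‖z‖ = 1 := by
    have h1 : ‖(z - 1) + 1‖ = max ‖z - 1‖ ‖(1 : ℤ_[p])‖ := by
      apply PadicInt.norm_add_eq_max_of_ne
      rw [norm_one]; exact ne_of_lt hz1
    rw [sub_add_cancel, norm_one, max_eq_right (le_of_lt hz1)] at h1
    exact h1
  set ζ : ℚ_[p] := (z : ℚ_[p]) with hζ
  have hζeq : ζ ^ 2 - ζ + (p : ℚ_[p]) ^ (r - 2) = 0 := by
    have := congrArg (fun t : ℤ_[p] => (t : ℚ_[p])) hz0'
    simpa using this
  have hζnorm : ‖ζ‖ = 1 := by rw [hζ, PadicInt.padic_norm_e_of_padicInt]; exact hznorm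
  have hp0 : (p : ℚ_[p]) ≠ 0 := by exact_mod_cast hpp.ne_zero
  have hζ0 : ζ ≠ 0 := by
    intro h; rw [h, norm_zero] at hζnorm; exact zero_ne_one hζnorm
  have hprod : ζ * (1 - ζ) = (p : ℚ_[p]) ^ (r - 2) := by linear_combination (-1 : ℚ_[p]) * hζeq
  have h1ζ : (1 - ζ) ≠ 0 := by
    intro h
    rw [h, mul_zero] at hprod
    exact pow_ne_zero _ hp0 hprod.symm
  have hvζ : ζ.valuation = 0 := valuation_eq_zero_of_norm_eq_one ζ hζnorm
  have hv1ζ : (1 - ζ).valuation = (r : ℤ) - 2 := by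
    have := congrArg Padic.valuation hprod
    rw [Padic.valuation_mul hζ0 h1ζ, hvζ, Padic.valuation_pow, Padic.valuation_p] at this
    rw [zero_add] at this
    rw [this]
    push_cast [Nat.cast_sub (by omega : 2 ≤ r)]
    ring
  have hpr : (p : ℚ_[p]) ^ r = (p : ℚ_[p]) ^ 2 * (p : ℚ_[p]) ^ (r - 2) := by
    rw [← pow_add]; congr 1; omega
  have hva : ((p : ℚ_[p]) * ζ).valuation = 1 := by
    rw [Padic.valuation_mul hp0 hζ0, Padic.valuation_p, hvζ, add_zero]
  have hvb : ((p : ℚ_[p]) * (1 - ζ)).valuation = (r : ℤ) - 1 := by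
    rw [Padic.valuation_mul hp0 h1ζ, Padic.valuation_p, hv1ζ]; ring
  refine ⟨(p : ℚ_[p]) * ζ, (p : ℚ_[p]) * (1 - ζ), ?_, ?_, ?_, hva, hvb⟩
  · intro h
    have := congrArg Padic.valuation h
    rw [hva, hvb] at this
    omega
  · rw [hpr]; linear_combination ((p : ℚ_[p]) ^ 2) * hζeq
  · rw [hpr]; linear_combination ((p : ℚ_[p]) ^ 2) * hζeq

/-- Let p be a prime number, r > 2 and q = p^r. The polynomial x² − p x + q is irreducible over ℚ, each
of its complex roots has absolute value √q (so its roots are Weil q-numbers), and it has two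
distinct roots in ℚ_p, of p-adic valuations 1 and r − 1. The published lemma also computes the index
of the endomorphism algebra of the simple abelian variety attached to a root; this row does not
state that part. -/
theorem result (p r : ℕ) [Fact p.Prime] (hr : 2 < r) :
    Irreducible (Polynomial.X ^ 2 - Polynomial.C (p : ℚ) * Polynomial.X + Polynomial.C ((p : ℚ) ^ r)) ∧
      (∀ π : ℂ, π ^ 2 - (p : ℂ) * π + (p : ℂ) ^ r = 0 → ‖π‖ = Real.sqrt ((p : ℝ) ^ r)) ∧
      ∃ a b : ℚ_[p], a ≠ b ∧ a ^ 2 - (p : ℚ_[p]) * a + (p : ℚ_[p]) ^ r = 0 ∧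
        b ^ 2 - (p : ℚ_[p]) * b + (p : ℚ_[p]) ^ r = 0 ∧ a.valuation = 1 ∧ b.valuation = (r : ℤ) - 1 := by
  have hp2 : 2 ≤ p := (Fact.out : p.Prime).two_le
  exact ⟨part1 p r hp2 hr, part2 p r hp2 hr, part3 p r hr⟩

end Groth.Agent.S16390
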