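import Groth.Statements.S16396
import Mathlib.Tactic

set_option autoImplicit false
universe u
open CAlg

namespace Groth.Agent.S16396

open Polynomial

/-- A rational scalar `c` with `c * (n+1) = 1` kills the factor `(n+1 : A)`. -/
theorem smul_mul_natCast {A : Type u} [CommRing A] [Algebra ℚ A] (n : ℕ) (q : A) :
    ((1 / ((n : ℚ) + 1) : ℚ)) • (q * ((n : A) + 1)) = q := by
  rw [Algebra.smul_def]
  have h1 : ((n : A) + 1) = algebraMap ℚ A ((n : ℚ) + 1) := by simp
  rw [h1]
  calc algebraMap ℚ A (1 / ((n : ℚ) + 1)) * (q * algebraMap ℚ A ((n : ℚ) + 1))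
      = q * (algebraMap ℚ A (1 / ((n : ℚ) + 1)) * algebraMap ℚ A ((n : ℚ) + 1)) := by ring
    _ = q * algebraMap ℚ A (1 / ((n : ℚ) + 1) * ((n : ℚ) + 1)) := by rw [map_mul]
    _ = q := by
      have : (1 / ((n : ℚ) + 1) * ((n : ℚ) + 1)) = 1 := by
        have : ((n : ℚ) + 1) ≠ 0 := by positivity
        field_simp
      rw [this, map_one, mul_one]

theorem lemmaA (A : Type u) [CommRing A] [Algebra ℚ A] (B : Subalgebra ℚ A[X])
    (hX : (X : A[X]) ∈ B) (hD : ∀ P ∈ B, Polynomial.derivative P ∈ B) :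
    ∀ n : ℕ, ∀ Q ∈ B, Q.natDegree ≤ n → C (Q.coeff 0) ∈ B := by
  intro n
  induction n with
  | zero =>
    intro Q hQ hdeg
    rw [← Polynomial.eq_C_of_natDegree_le_zero hdeg]
    exact hQ
  | succ n ih =>
    intro Q hQ hdeg
    set Q₁ : A[X] := Q - ((1 / ((n : ℚ) + 1) : ℚ)) • (X * derivative Q) with hQ₁
    have hQ₁B : Q₁ ∈ B := B.sub_mem hQ (B.smul_mem (B.mul_mem hX (hD Q hQ)) _)
    have hc0 : Q₁.coeff 0 = Q.coeff 0 := by
      rw [hQ₁, coeff_sub, coeff_smul, coeff_X_mul_zero, smul_zero, sub_zero]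
    have hcs : ∀ m, Q₁.coeff (m + 1) =
        Q.coeff (m + 1) - ((1 / ((n : ℚ) + 1) : ℚ)) • (Q.coeff (m + 1) * ((m : A) + 1)) := by
      intro m
      rw [hQ₁, coeff_sub, coeff_smul, coeff_X_mul, coeff_derivative]
    have hdeg₁ : Q₁.natDegree ≤ n := by
      rw [Polynomial.natDegree_le_iff_coeff_eq_zero]
      intro N hN
      obtain ⟨m, rfl⟩ : ∃ m, N = m + 1 := ⟨N - 1, by omega⟩
      rw [hcs]
      rcases Nat.lt_or_ge n m with h | h
      · rw [coeff_eq_zero_of_natDegree_lt (by omega)]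
        simp
      · have : m = n := by omega
        subst this
        rw [smul_mul_natCast, sub_self]
    rw [← hc0]
    exact ih Q₁ hQ₁B hdeg₁

theorem lemmaB (A : Type u) [CommRing A] [Algebra ℚ A] (B : Subalgebra ℚ A[X])
    (hX : (X : A[X]) ∈ B) (hD : ∀ P ∈ B, Polynomial.derivative P ∈ B) :
    ∀ Q ∈ B, ∀ i : ℕ, C (Q.coeff i) ∈ B := by
  intro Q hQ i
  have hiter : ∀ k : ℕ, derivative^[k] Q ∈ B := by
    intro k
    induction k with
    | zero => simpa using hQ
    | succ k ih => rw [Function.iterate_succ_apply']; exact hD _ ih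
  set Q' : A[X] := ((1 / (i.factorial : ℚ)) : ℚ) • derivative^[i] Q with hQ'
  have hQ'B : Q' ∈ B := B.smul_mem (hiter i) _
  have hc : Q'.coeff 0 = Q.coeff i := by
    rw [hQ', coeff_smul, coeff_iterate_derivative, zero_add, Nat.descFactorial_self,
      ← Nat.cast_smul_eq_nsmul ℚ, smul_smul]
    have : (1 / (i.factorial : ℚ)) * (i.factorial : ℚ) = 1 := by
      have : (i.factorial : ℚ) ≠ 0 := by positivity
      field_simp
    rw [this, one_smul]
  rw [← hc]
  exact lemmaA A B hX hD _ Q' hQ'B le_rfl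

/-- For a commutative ℚ-algebra A, a ℚ-subalgebra B of the polynomial algebra A[X] that contains X and
is closed under d/dX consists exactly of the polynomials each of whose coefficients is the value at
0 of some element of B; in other words B = ev(B)[X], with ev the evaluation at 0. -/
theorem result
    (A : Type u) [CommRing A] [Algebra ℚ A] (B : Subalgebra ℚ A[X])
    (hX : (X : A[X]) ∈ B) (hD : ∀ P ∈ B, Polynomial.derivative P ∈ B) (P : A[X]) :
    P ∈ B ↔ ∀ i : ℕ, ∃ Q ∈ B, Polynomial.eval 0 Q = P.coeff i := by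
  constructor
  · intro hP i
    exact ⟨C (P.coeff i), lemmaB A B hX hD P hP i, by simp⟩
  · intro h
    rw [Polynomial.as_sum_range_C_mul_X_pow P]
    apply B.sum_mem
    intro i _
    obtain ⟨Q, hQ, hQe⟩ := h i
    apply B.mul_mem _ (B.pow_mem hX i)
    rw [← hQe, ← Polynomial.coeff_zero_eq_eval_zero]
    exact lemmaA A B hX hD _ Q hQ le_rfl

end Groth.Agent.S16396
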