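import Groth.Statements.S16400
import Mathlib.Tactic
import Mathlib.Order.Preorder.Finite

set_option autoImplicit false
universe u v
open CAlgX

namespace Groth.Agent.S16400

variable {K : Type u} [Field K] {N : Type v} [Fintype N] [DecidableEq N]

/-- Vectors supported on `T`. -/
def supp (T : Finset N) : Submodule K (N → K) where
  carrier := {v | ∀ n, n ∉ T → v n = 0}
  zero_mem' := fun n _ => rfl
  add_mem' := fun {a b} ha hb n hn => by
    show a n + b n = 0
    rw [ha n hn, hb n hn, add_zero]
  smul_mem' := fun c a ha n hn => by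
    show c • a n = 0
    rw [ha n hn, smul_zero]

theorem mem_supp (T : Finset N) (v : N → K) : v ∈ supp T ↔ ∀ n, n ∉ T → v n = 0 := Iff.rfl

theorem single_mem_supp (T : Finset N) (n : N) (hn : n ∈ T) :
    (Pi.single n 1 : N → K) ∈ supp T := by
  intro m hm
  rw [Pi.single_eq_of_ne]
  rintro rfl
  exact hm hn

/-- A coordinate complement of a subspace. -/
theorem exists_T (W : Submodule K (N → K)) :
    ∃ T : Finset N, supp T ⊓ W = ⊥ ∧ supp T ⊔ W = ⊤ := by
  classical
  have hfin : {T : Finset N | (supp T : Submodule K (N → K)) ⊓ W = ⊥}.Finite := Set.toFinite _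
  have hempty : (∅ : Finset N) ∈ {T : Finset N | (supp T : Submodule K (N → K)) ⊓ W = ⊥} := by
    show supp ∅ ⊓ W = ⊥
    rw [eq_bot_iff]
    rintro v ⟨hv, _⟩
    rw [Submodule.mem_bot]
    funext n
    exact hv n (Finset.notMem_empty n)
  obtain ⟨T, -, hT, hmax⟩ := hfin.exists_le_maximal hempty
  refine ⟨T, hT, ?_⟩
  have hsingle : ∀ n, (Pi.single n 1 : N → K) ∈ supp T ⊔ W := by
    intro n
    by_cases hn : n ∈ T
    · exact Submodule.mem_sup_left (single_mem_supp T n hn)
    · by_contra hcon
      have hins : insert n T ∈ {T : Finset N | (supp T : Submodule K (N → K)) ⊓ W = ⊥} := by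
        show supp (insert n T) ⊓ W = ⊥
        rw [eq_bot_iff]
        rintro v ⟨hv, hvW⟩
        rw [Submodule.mem_bot]
        have hv' : v - v n • (Pi.single n 1 : N → K) ∈ supp T := by
          intro m hm
          by_cases hmn : m = n
          · subst hmn; simp
          · have : m ∉ insert n T := by
              rw [Finset.mem_insert]; push Not; exact ⟨hmn, hm⟩
            have h0 := hv m this
            simp [h0, Pi.single_eq_of_ne hmn]
        by_cases hvn : v n = 0
        · rw [hvn, zero_smul, sub_zero] at hv'
          have : v ∈ supp T ⊓ W := ⟨hv', hvW⟩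
          rw [hT] at this
          exact (Submodule.mem_bot K).mp this
        · exfalso
          apply hcon
          have : (Pi.single n 1 : N → K) =
              (v n)⁻¹ • v - (v n)⁻¹ • (v - v n • (Pi.single n 1 : N → K)) := by
            rw [smul_sub, smul_smul, inv_mul_cancel₀ hvn, one_smul]; abel
          rw [this]
          apply Submodule.sub_mem
          · exact Submodule.mem_sup_right (W.smul_mem _ hvW)
          · exact Submodule.mem_sup_left ((supp T).smul_mem _ hv')
      have := hmax hins (Finset.subset_insert n T)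
      exact hn (this (Finset.mem_insert_self n T))
  rw [eq_top_iff]
  intro v _
  have : v = ∑ n, v n • (Pi.single n 1 : N → K) := by
    funext m
    simp [Finset.sum_apply, Pi.single_apply]
  rw [this]
  exact Submodule.sum_mem _ fun n _ => Submodule.smul_mem _ _ (hsingle n)

/-- Extension by zero. -/
def ext0 (T : Finset N) (x : ↥T → K) : N → K := fun n => if h : n ∈ T then x ⟨n, h⟩ else 0

theorem ext0_mem (T : Finset N) (x : ↥T → K) : ext0 T x ∈ supp T := by
  intro n hn
  simp [ext0, hn]

theorem ext0_restrict (T : Finset N) (v : N → K) (hv : v ∈ supp T) :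
    ext0 T (fun t : ↥T => v t.1) = v := by
  funext n
  by_cases hn : n ∈ T
  · simp [ext0, hn]
  · simp [ext0, hn, hv n hn]

theorem mulVec_submatrix {ρ : Type*} (A : Matrix N N K) (T : Finset N) (r : ρ → N) (x : ↥T → K)
    (i : ρ) :
    (A.submatrix r (Subtype.val : ↥T → N)).mulVec x i = A.mulVec (ext0 T x) (r i) := by
  simp only [Matrix.mulVec, dotProduct, Matrix.submatrix_apply]
  have h1 : ∑ n, A (r i) n * ext0 T x n = ∑ n ∈ T, A (r i) n * ext0 T x n := by
    symm
    apply Finset.sum_subset (Finset.subset_univ T)
    intro n _ hn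
    rw [ext0_mem T x n hn, mul_zero]
  rw [h1, ← Finset.sum_coe_sort T]
  apply Finset.sum_congr rfl
  intro t _
  simp [ext0]

theorem bij_of (A : Matrix N N K)
    (hA : LinearMap.ker A.mulVecLin = LinearMap.range A.mulVecLin) (T : Finset N)
    (h1 : supp T ⊓ LinearMap.ker A.mulVecLin = ⊥) (h2 : supp T ⊔ LinearMap.ker A.mulVecLin = ⊤)
    {ρ : Type*} (r : ρ → N) (hr : Function.Injective r) (hr' : ∀ n, n ∉ T ↔ n ∈ Set.range r) :
    Function.Bijective (A.submatrix r (Subtype.val : ↥T → N)).mulVecLin := by
  classical
  have hdisj : ∀ v : N → K, v ∈ supp T → v ∈ LinearMap.ker A.mulVecLin → v = 0 := by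
    intro v hv hw
    have : v ∈ supp T ⊓ LinearMap.ker A.mulVecLin := ⟨hv, hw⟩
    rw [h1] at this
    exact (Submodule.mem_bot K).mp this
  have hsplit : ∀ v : N → K, ∃ e ∈ supp T, ∃ w ∈ LinearMap.ker A.mulVecLin, e + w = v := by
    intro v
    have : v ∈ supp T ⊔ LinearMap.ker A.mulVecLin := by rw [h2]; trivial
    exact Submodule.mem_sup.mp this
  constructor
  · rw [injective_iff_map_eq_zero]
    intro x hx
    have hx' : ∀ i, A.mulVec (ext0 T x) (r i) = 0 := by
      intro i
      rw [← mulVec_submatrix]
      exact congrFun hx i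
    have hAx : A.mulVec (ext0 T x) ∈ supp T := by
      intro n hn
      obtain ⟨i, rfl⟩ := (hr' n).mp hn
      exact hx' i
    have hAx' : A.mulVec (ext0 T x) ∈ LinearMap.ker A.mulVecLin := by
      rw [hA]
      exact ⟨ext0 T x, rfl⟩
    have h0 : A.mulVec (ext0 T x) = 0 := hdisj _ hAx hAx'
    have h3 : ext0 T x = 0 := hdisj _ (ext0_mem T x) (by
      rw [LinearMap.mem_ker]; exact h0)
    funext t
    have := congrFun h3 t.1
    simpa [ext0, t.2] using this
  · intro y
    -- a vector with prescribed values at the `r i`
    let yt : N → K := fun n => if h : ∃ i, r i = n then y h.choose else 0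
    have hyt : ∀ i, yt (r i) = y i := by
      intro i
      have h : ∃ j, r j = r i := ⟨i, rfl⟩
      simp only [yt, dif_pos h]
      congr 1
      exact hr h.choose_spec
    obtain ⟨e, he, w, hw, hew⟩ := hsplit yt
    rw [hA] at hw
    obtain ⟨v, hv⟩ := hw
    obtain ⟨e', he', w', hw', hew'⟩ := hsplit v
    have hAe' : A.mulVec e' = w := by
      have : A.mulVecLin v = A.mulVecLin e' + A.mulVecLin w' := by rw [← map_add, hew']
      rw [LinearMap.mem_ker.mp hw', add_zero] at this
      rw [← hv, this]; rfl
    refine ⟨fun t : ↥T => e' t.1, ?_⟩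
    funext i
    show (A.submatrix r (Subtype.val : ↥T → N)).mulVec (fun t : ↥T => e' t.1) i = y i
    rw [mulVec_submatrix, ext0_restrict T e' he', hAe', ← hyt i, ← hew]
    have : e (r i) = 0 := he (r i) ((hr' (r i)).mpr ⟨i, rfl⟩)
    simp [this]

/-- Let K be a field, N a finite index set and A a square matrix over K indexed by N whose linear map on
column vectors has kernel equal to its range (so A composed with A is zero and the three-term
sequence it defines is exact in the middle). Then there are subsets N₁₂, N₂₁, N₃₁ of N such that the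
block of A with rows in N₃₁ and columns in N₂₁, and the block of A with rows outside N₂₁ and columns
in N₁₂, both act bijectively on column vectors. (In the original setting K is the prime field and
middle exactness is supplied by the Cartier isomorphism; here exactness is the hypothesis and K is
any field.) -/
theorem result
    {K : Type u} [Field K] {N : Type v} [Fintype N] [DecidableEq N]
    (A : Matrix N N K)
    (hA : LinearMap.ker A.mulVecLin = LinearMap.range A.mulVecLin) :
    ∃ N₁₂ N₂₁ N₃₁ : Finset N,
      Function.Bijective (A.submatrix (Subtype.val : ↥N₃₁ → N) (Subtype.val : ↥N₂₁ → N)).mulVecLin ∧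
      Function.Bijective
        (A.submatrix (Subtype.val : {x : N // x ∉ N₂₁} → N) (Subtype.val : ↥N₁₂ → N)).mulVecLin := by
  obtain ⟨T, h1, h2⟩ := exists_T (LinearMap.ker A.mulVecLin)
  refine ⟨T, T, Tᶜ, ?_, ?_⟩
  · apply bij_of A hA T h1 h2 _ Subtype.val_injective
    intro n
    rw [Subtype.range_coe_subtype]
    simp
  · apply bij_of A hA T h1 h2 _ Subtype.val_injective
    intro n
    rw [Subtype.range_coe_subtype]
    simp

end Groth.Agent.S16400
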