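import Groth.Statements.S16401
import Mathlib.Tactic

set_option autoImplicit false
universe u v
open CAlgX

namespace Groth.Agent.S16401

theorem prod_mem_E {R : Type u} [CommRing R] {ι : Type v} [AddCommGroup ι]
    (E : ι → AddSubgroup R) (h0 : E 0 = ⊤)
    (hmul : ∀ a b : ι, ∀ x ∈ E a, ∀ y ∈ E b, x * y ∈ E (a + b))
    {κ : Type*} (s : Finset κ) (f : κ → R) (a : κ → ι) (hf : ∀ k ∈ s, f k ∈ E (a k)) :
    ∏ k ∈ s, f k ∈ E (∑ k ∈ s, a k) := by
  classical
  induction s using Finset.induction_on with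
  | empty => simp [h0]
  | insert k s hk ih =>
    rw [Finset.prod_insert hk, Finset.sum_insert hk]
    exact hmul _ _ _ (hf k (Finset.mem_insert_self k s)) _
      (ih fun k' hk' => hf k' (Finset.mem_insert_of_mem hk'))

theorem adjugate_mem {R : Type u} [CommRing R] {ι : Type v} [AddCommGroup ι]
    (E : ι → AddSubgroup R) (h0 : E 0 = ⊤)
    (hmul : ∀ a b : ι, ∀ x ∈ E a, ∀ y ∈ E b, x * y ∈ E (a + b))
    {r : ℕ} (wβ wγ : Fin r → ι) (hsum : ∑ j, wβ j = ∑ i, wγ i)
    (ϑ : Matrix (Fin r) (Fin r) R) (hϑ : ∀ i j, ϑ i j ∈ E (wγ i - wβ j)) (j i : Fin r) :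
    ϑ.adjugate j i ∈ E (wβ j - wγ i) := by
  classical
  rw [Matrix.adjugate_apply, Matrix.det_apply']
  apply AddSubgroup.sum_mem
  intro σ _
  have hkey : ∏ k, (ϑ.updateRow i (Pi.single j 1)) (σ k) k ∈ E (wβ j - wγ i) := by
    by_cases hσ : σ j = i
    · -- weights
      have hmem : ∀ k ∈ (Finset.univ : Finset (Fin r)),
          (ϑ.updateRow i (Pi.single j 1)) (σ k) k ∈
            E ((wγ (σ k) - wβ k) - (if k = j then wγ (σ j) - wβ j else 0)) := by
        intro k _
        by_cases hk : k = j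
        · subst hk
          rw [if_pos rfl, sub_self, hσ, Matrix.updateRow_self, Pi.single_eq_same, h0]
          trivial
        · rw [if_neg hk, sub_zero]
          have : σ k ≠ i := by
            intro h
            apply hk
            apply σ.injective
            rw [h, hσ]
          rw [Matrix.updateRow_ne this]
          exact hϑ _ _
      have := prod_mem_E E h0 hmul Finset.univ _ _ hmem
      convert this using 2
      rw [Finset.sum_sub_distrib, Finset.sum_sub_distrib, Finset.sum_ite_eq' Finset.univ j,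
        if_pos (Finset.mem_univ j), Equiv.sum_comp σ wγ, hsum, hσ]
      abel
    · have : ∏ k, (ϑ.updateRow i (Pi.single j 1)) (σ k) k = 0 := by
        apply Finset.prod_eq_zero (Finset.mem_univ (σ.symm i))
        rw [Equiv.apply_symm_apply, Matrix.updateRow_self]
        apply Pi.single_eq_of_ne
        intro h
        apply hσ
        rw [← h, Equiv.apply_symm_apply]
      rw [this]
      exact AddSubgroup.zero_mem _
  rcases Int.units_eq_one_or (Equiv.Perm.sign σ) with h | h
  · rw [h]; simpa using hkey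
  · rw [h]; simpa using hkey

/-- Let R be a commutative ring and (E_a), a ∈ ι, a family of additive subgroups of R indexed by an
additive commutative group ι, with E_0 = R and E_a · E_b ⊆ E_{a+b}. Let β, γ : Fin r → ι be weight
vectors with Σ_j β_j = Σ_i γ_i, and let ϑ be an r × r matrix over R with ϑ_{ij} ∈ E_{γ_i − β_j} for
all i, j and with unit determinant. Then a column vector u satisfies u_j ∈ E_{β_j} for every j if
and only if (ϑ u)_i ∈ E_{γ_i} for every i; since ϑ is invertible this says that ϑ maps the box Π_j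
E_{β_j} bijectively onto the box Π_i E_{γ_i}. -/
theorem result
    {R : Type u} [CommRing R] {ι : Type v} [AddCommGroup ι]
    (E : ι → AddSubgroup R) (h0 : E 0 = ⊤)
    (hmul : ∀ a b : ι, ∀ x ∈ E a, ∀ y ∈ E b, x * y ∈ E (a + b))
    {r : ℕ} (wβ wγ : Fin r → ι) (hsum : ∑ j, wβ j = ∑ i, wγ i)
    (ϑ : Matrix (Fin r) (Fin r) R) (hϑ : ∀ i j, ϑ i j ∈ E (wγ i - wβ j))
    (hdet : IsUnit ϑ.det) (u : Fin r → R) :
    (∀ j, u j ∈ E (wβ j)) ↔ ∀ i, ϑ.mulVec u i ∈ E (wγ i) := by
  constructor
  · intro hu i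
    rw [Matrix.mulVec, dotProduct]
    apply AddSubgroup.sum_mem
    intro j _
    have := hmul _ _ _ (hϑ i j) _ (hu j)
    rwa [sub_add_cancel] at this
  · intro hv j
    obtain ⟨d, hd⟩ := hdet
    have h1 : (ϑ.adjugate).mulVec (ϑ.mulVec u) = ϑ.det • u := by
      rw [Matrix.mulVec_mulVec, Matrix.adjugate_mul, Matrix.smul_mulVec, Matrix.one_mulVec]
    have h2 : u j = (↑(d⁻¹) : R) * ((ϑ.adjugate).mulVec (ϑ.mulVec u) j) := by
      rw [h1, Pi.smul_apply, smul_eq_mul, ← mul_assoc, ← hd, Units.inv_mul, one_mul]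
    rw [h2]
    have h3 : (ϑ.adjugate).mulVec (ϑ.mulVec u) j ∈ E (wβ j) := by
      rw [Matrix.mulVec, dotProduct]
      apply AddSubgroup.sum_mem
      intro i _
      have := hmul _ _ _ (adjugate_mem E h0 hmul wβ wγ hsum ϑ hϑ j i) _ (hv i)
      rwa [sub_add_cancel] at this
    have h4 : (↑(d⁻¹) : R) ∈ E 0 := by rw [h0]; trivial
    have := hmul _ _ _ h4 _ h3
    rwa [zero_add] at this

end Groth.Agent.S16401
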