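import Groth.Statements.S16405
import Mathlib.Tactic

set_option autoImplicit false
universe u v
open InvQ

namespace Groth.Agent.S16405

/-- In weight form. Let b : L → ℤ^r be an injective homomorphism of abelian groups (the case in view: L
the character group of a maximal torus T of a semisimple group over ℂ and b the map dual to the
surjection of the rank-r split torus T' onto T that sends the i-th coordinate cocharacter to the
primitive generator of the i-th ray of the Weyl chamber; only the injectivity of b is used, and ℂ is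
replaced by any commutative ring k). Grade the monoid algebra k[L × ℕ^r] (the coordinate ring of T ×
𝔸^r) by ℤ^r, the monomial (w, n) having weight b(w) + n (the weights of the T'-action u·(t, v) =
(b^∨(u) t, u v)), and grade k[ℕ^r] by ℤ^r/b(L), the monomial n having weight the class of n (the
weights of the action on 𝔸^r of the diagonalizable kernel Z of T' → T, a finite group in the case in
view). For a diagonalizable group acting on an affine scheme the ring of invariants is the
weight-zero part, so the two weight-zero parts are the coordinate rings of the quotients (T ×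
𝔸^r)//T' and 𝔸^r//Z. The statement: the algebra map k[L × ℕ^r] → k[ℕ^r] induced by the projection L
× ℕ^r → ℕ^r (restriction to the slice 1 × 𝔸^r) maps the weight-zero part of k[L × ℕ^r] bijectively
onto the weight-zero part of k[ℕ^r]; hence it induces an isomorphism of k-algebras between them. -/
theorem result
    (k : Type u) [CommRing k] (r : ℕ) (L : Type v) [AddCommGroup L]
    (b : L →+ (Fin r → ℤ)) (hb : Function.Injective b) :
    Set.BijOn
      (AddMonoidAlgebra.mapDomainAlgHom k k (AddMonoidHom.snd L (Fin r → ℕ)))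
      (AddMonoidAlgebra.gradeBy k
        (b.comp (AddMonoidHom.fst L (Fin r → ℕ)) +
          (AddMonoidHom.compLeft (Nat.castAddMonoidHom ℤ) (Fin r)).comp (AddMonoidHom.snd L (Fin r → ℕ))) 0 :
        Set (AddMonoidAlgebra k (L × (Fin r → ℕ))))
      (AddMonoidAlgebra.gradeBy k
        ((QuotientAddGroup.mk' b.range).comp (AddMonoidHom.compLeft (Nat.castAddMonoidHom ℤ) (Fin r))) 0 :
        Set (AddMonoidAlgebra k (Fin r → ℕ))) := by
  classical
  set cast : (Fin r → ℕ) →+ (Fin r → ℤ) := AddMonoidHom.compLeft (Nat.castAddMonoidHom ℤ) (Fin r)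
    with hcast
  have hφ : ∀ (w : L) (n : Fin r → ℕ),
      (b.comp (AddMonoidHom.fst L (Fin r → ℕ)) + cast.comp (AddMonoidHom.snd L (Fin r → ℕ))) (w, n)
        = b w + cast n := fun w n => rfl
  have hψ : ∀ n : Fin r → ℕ, ((QuotientAddGroup.mk' b.range).comp cast) n = 0 ↔
      cast n ∈ b.range := by
    intro n
    show ((cast n : Fin r → ℤ) : (Fin r → ℤ) ⧸ b.range) = 0 ↔ _
    exact QuotientAddGroup.eq_zero_iff _
  have hmd : ∀ x : AddMonoidAlgebra k (L × (Fin r → ℕ)),
      (AddMonoidAlgebra.mapDomainAlgHom k k (AddMonoidHom.snd L (Fin r → ℕ)) x).coeff =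
        Finsupp.mapDomain Prod.snd x.coeff := fun x => rfl
  refine ⟨?_, ?_, ?_⟩
  · -- MapsTo
    intro x hx
    rw [SetLike.mem_coe, AddMonoidAlgebra.mem_gradeBy_iff] at hx ⊢
    intro n hn
    rw [hmd] at hn
    have := Finsupp.mapDomain_support hn
    obtain ⟨⟨w, n'⟩, hm, rfl⟩ := Finset.mem_image.mp this
    have h0 : b w + cast n' = 0 := by
      have := hx hm
      rwa [Set.mem_preimage, Set.mem_singleton_iff, hφ] at this
    rw [Set.mem_preimage, Set.mem_singleton_iff, hψ]
    refine ⟨-w, ?_⟩
    rw [map_neg]
    exact neg_eq_of_add_eq_zero_right h0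
  · -- InjOn
    intro x hx y hy hxy
    rw [SetLike.mem_coe, AddMonoidAlgebra.mem_gradeBy_iff] at hx hy
    have hxy' : Finsupp.mapDomain Prod.snd x.coeff = Finsupp.mapDomain Prod.snd y.coeff := by
      rw [← hmd, ← hmd, hxy]
    have hinj : Set.InjOn (Prod.snd : L × (Fin r → ℕ) → (Fin r → ℕ))
        ((b.comp (AddMonoidHom.fst L (Fin r → ℕ)) + cast.comp (AddMonoidHom.snd L (Fin r → ℕ))) ⁻¹' {0}) := by
      rintro ⟨w, n⟩ h1 ⟨w', n'⟩ h2 (h : n = n')
      subst h
      rw [Set.mem_preimage, Set.mem_singleton_iff, hφ] at h1 h2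
      have : b w = b w' := by
        have e1 : b w = -cast n := eq_neg_of_add_eq_zero_left h1
        have e2 : b w' = -cast n := eq_neg_of_add_eq_zero_left h2
        rw [e1, e2]
      rw [hb this]
    have := Finsupp.mapDomain_injOn _ hinj hx hy hxy'
    exact AddMonoidAlgebra.coeff_injective this
  · -- SurjOn
    intro y hy
    rw [SetLike.mem_coe, AddMonoidAlgebra.mem_gradeBy_iff] at hy
    let s : (Fin r → ℕ) → L × (Fin r → ℕ) := fun n =>
      (if h : cast n ∈ b.range then -(h.choose) else 0, n)
    refine ⟨AddMonoidAlgebra.ofCoeff (Finsupp.mapDomain s y.coeff), ?_, ?_⟩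
    · rw [SetLike.mem_coe, AddMonoidAlgebra.mem_gradeBy_iff]
      intro m hm
      rw [AddMonoidAlgebra.coeff_ofCoeff] at hm
      have := Finsupp.mapDomain_support hm
      obtain ⟨n, hn, rfl⟩ := Finset.mem_image.mp this
      have h0 := hy hn
      rw [Set.mem_preimage, Set.mem_singleton_iff, hψ] at h0
      rw [Set.mem_preimage, Set.mem_singleton_iff]
      show (b.comp (AddMonoidHom.fst L (Fin r → ℕ)) + cast.comp (AddMonoidHom.snd L (Fin r → ℕ)))
        (s n) = 0
      simp only [s, dif_pos h0]
      rw [hφ, map_neg, h0.choose_spec, neg_add_cancel]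
    · apply AddMonoidAlgebra.coeff_injective
      rw [hmd, AddMonoidAlgebra.coeff_ofCoeff, ← Finsupp.mapDomain_comp]
      have : Prod.snd ∘ s = id := by funext n; rfl
      rw [this, Finsupp.mapDomain_id]

end Groth.Agent.S16405
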