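import Groth.Statements.S1641
import Groth.Agent.Lib.Helper67.GenCurve7

set_option autoImplicit false
universe u
open CategoryTheory CategoryTheory.Limits AlgebraicGeometry
open Variety

namespace Groth.Agent.S1641

/-- Let X be proper of dimension at most one over k and E finite locally free of rank n. Then deg E is
the sum, over the irreducible components C of X of dimension one with their reduced induced
structure, of m_C · deg(E|_C), where m_C is the length of the local ring of X at the generic point
of C. -/
theorem result (k : Type u) [Field k] (X : Scheme.{u}) [X.Over (Spec (CommRingCat.of k))] [IsProper (X ↘ (Spec (CommRingCat.of k)))] [IsNoetherian X] (hdim : topologicalKrullDim X ≤ 1)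
    (n : ℕ) (E : X.Modules) (hE : FlatMod.IsFinLocFreeOfRank n E) :
    Curv2.deg k X E n = ∑ᶠ Z : irreducibleComponents (X : Type u),
      (if topologicalKrullDim (Z.1 : Set X) = 1 then
        ((Module.length (X.presheaf.stalk Z.2.1.genericPoint) (X.presheaf.stalk Z.2.1.genericPoint)).toNat : ℤ) *
          @Curv2.deg k _ (X.irreducibleComponentIdeal Z.1 Z.2).radical.subscheme ⟨(X.irreducibleComponentIdeal Z.1 Z.2).radical.subschemeι ≫ (X ↘ (Spec (CommRingCat.of k)))⟩ ((Scheme.Modules.pullback (X.irreducibleComponentIdeal Z.1 Z.2).radical.subschemeι).obj E) n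
      else 0) := by
  have h := Groth.Agent.Lib.Helper67.GenCurve.main k X hdim E hE (Coh.structureModule X)
    (Groth.Agent.Lib.Helper67.GenCurve.isCoh_structureModule X)
  rw [Groth.Agent.Lib.Helper67.GenCurve.delta_structureModule] at h
  rw [h]
  unfold Groth.Agent.Lib.Helper67.GenCurve.Lam
  refine finsum_congr fun Z => ?_
  by_cases hd : topologicalKrullDim (Z.1 : Set X) = 1
  · rw [if_pos hd, Groth.Agent.Lib.Helper67.GenCurve.len_structureModule]
    rfl
  · rw [if_neg hd]
    have hle : topologicalKrullDim (Z.1 : Set X) ≤ 1 :=
      (topologicalKrullDim_subspace_le X Z.1).trans hdim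
    have h0 : topologicalKrullDim (Z.1 : Set X) ≤ 0 := by
      have hlt : topologicalKrullDim (Z.1 : Set X) < 1 := lt_of_le_of_ne hle hd
      revert hlt
      generalize topologicalKrullDim (Z.1 : Set X) = d
      intro hlt
      induction d using WithBot.recBotCoe with
      | bot => exact bot_le
      | coe m =>
        have hm : m < 1 := by exact_mod_cast hlt
        have : m = 0 := ENat.lt_one_iff_eq_zero.mp hm
        rw [this]
        rfl
    rw [Groth.Agent.Lib.Helper67.GenCurve.degComp_eq_zero k X E hE Z h0]
    simp

end Groth.Agent.S1641
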