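import Groth.Statements.S16414
import Mathlib.Tactic

set_option autoImplicit false
open Dieud

namespace Groth.Agent.S16414

/-- Let μ be a rational number with 0 < μ ≤ 1 and i an integer, and put f(i,j) = max(−i−j, −j, 0) for
integers j. Then min over all integers j of f(i,j) + jμ exists and equals max(−iμ, 0). -/
theorem result (μ : ℚ) (hμ0 : 0 < μ) (hμ1 : μ ≤ 1) (i : ℤ) :
    IsLeast (Set.range fun j : ℤ => ((max (max (-i - j) (-j)) 0 : ℤ) : ℚ) + (j : ℚ) * μ)
      (max (-(i : ℚ) * μ) 0) := by
  constructor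
  · by_cases hi : i ≤ 0
    · refine ⟨-i, ?_⟩
      simp only
      have h1 : max (max (-i - -i) (- -i)) 0 = (0 : ℤ) := by
        rw [max_eq_right]
        apply max_le <;> omega
      rw [h1]
      have h2 : (0 : ℚ) ≤ -(i : ℚ) * μ := by
        have : (i : ℚ) ≤ 0 := by exact_mod_cast hi
        nlinarith
      rw [max_eq_left h2]
      push_cast
      ring
    · push Not at hi
      refine ⟨0, ?_⟩
      simp only
      have h1 : max (max (-i - 0) (-0)) 0 = (0 : ℤ) := by
        rw [max_eq_right]
        apply max_le <;> omega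
      rw [h1]
      have h2 : -(i : ℚ) * μ ≤ 0 := by
        have : (0 : ℚ) < i := by exact_mod_cast hi
        nlinarith
      rw [max_eq_right h2]
      simp
  · rintro _ ⟨j, rfl⟩
    simp only
    have hf1 : (-i - j : ℤ) ≤ max (max (-i - j) (-j)) 0 := le_trans (le_max_left _ _) (le_max_left _ _)
    have hf2 : (-j : ℤ) ≤ max (max (-i - j) (-j)) 0 := le_trans (le_max_right _ _) (le_max_left _ _)
    have hf3 : (0 : ℤ) ≤ max (max (-i - j) (-j)) 0 := le_max_right _ _
    set f : ℤ := max (max (-i - j) (-j)) 0 with hf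
    have hf1' : (-(i:ℚ) - j) ≤ (f : ℚ) := by exact_mod_cast hf1
    have hf2' : (-(j:ℚ)) ≤ (f : ℚ) := by exact_mod_cast hf2
    have hf3' : (0 : ℚ) ≤ (f : ℚ) := by exact_mod_cast hf3
    apply max_le
    · -- f + jμ + iμ ≥ 0
      by_cases h : (0:ℚ) ≤ (i:ℚ) + j
      · nlinarith
      · push Not at h
        nlinarith
    · by_cases h : (0:ℚ) ≤ (j : ℚ)
      · nlinarith
      · push Not at h
        nlinarith

end Groth.Agent.S16414
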