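import Groth.Statements.S16415
import Mathlib.Tactic

set_option autoImplicit false
open Dieud

namespace Groth.Agent.S16415

/-- Let μ be a rational number with 0 < μ ≤ 1, N a natural number and i an integer. The minimum of m +
jμ over all pairs of integers (m, j) with m ≥ max(−i−j, −j, 0) and 2m + i + 2j ≥ N exists and equals
μ · max(⌈(N−i)/2⌉, −i, 0). (The published statement prints the value as max(⌈(N−i)/2⌉, −iμ, 0),
without the factor μ on the first term; the printed argument computes μ · max(⌈(N−i)/2⌉, −i, 0),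
attained at m = 0, and for N = 2, i = 0, μ = 1/2 the pair (m, j) = (0, 1) gives 1/2 < 1, so the
value with the factor μ is stated here.) -/
theorem result (μ : ℚ) (hμ0 : 0 < μ) (hμ1 : μ ≤ 1)
    (N : ℕ) (i : ℤ) :
    IsLeast {x : ℚ | ∃ m j : ℤ, max (max (-i - j) (-j)) 0 ≤ m ∧ (N : ℤ) ≤ 2 * m + i + 2 * j ∧
        x = (m : ℚ) + (j : ℚ) * μ}
      (((max (max ⌈((N : ℚ) - i) / 2⌉ (-i)) 0 : ℤ) : ℚ) * μ) := by
  set K : ℤ := max (max ⌈((N : ℚ) - i) / 2⌉ (-i)) 0 with hK
  have hK1 : ⌈((N : ℚ) - i) / 2⌉ ≤ K := le_trans (le_max_left _ _) (le_max_left _ _)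
  have hK2 : -i ≤ K := le_trans (le_max_right _ _) (le_max_left _ _)
  have hK3 : 0 ≤ K := le_max_right _ _
  constructor
  · refine ⟨0, K, ?_, ?_, ?_⟩
    · apply max_le
      · apply max_le <;> omega
      · omega
    · have h1 : ((N : ℚ) - i) / 2 ≤ (K : ℚ) := Int.ceil_le.mp hK1
      have h2 : ((N : ℤ) : ℚ) ≤ ((2 * 0 + i + 2 * K : ℤ) : ℚ) := by
        push_cast
        linarith
      exact_mod_cast h2
    · simp
  · rintro x ⟨m, j, hm, hN, rfl⟩
    have hm1 : (-i - j : ℤ) ≤ m := le_trans (le_trans (le_max_left _ _) (le_max_left _ _)) hm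
    have hm2 : (-j : ℤ) ≤ m := le_trans (le_trans (le_max_right _ _) (le_max_left _ _)) hm
    have hm3 : (0 : ℤ) ≤ m := le_trans (le_max_right _ _) hm
    have hKle : K ≤ m + j := by
      apply max_le
      · apply max_le
        · rw [Int.ceil_le]
          have : ((N : ℤ) : ℚ) ≤ ((2 * m + i + 2 * j : ℤ) : ℚ) := by exact_mod_cast hN
          push_cast at this ⊢
          linarith
        · omega
      · omega
    have hKle' : (K : ℚ) ≤ (m : ℚ) + j := by exact_mod_cast hKle
    have hm3' : (0 : ℚ) ≤ m := by exact_mod_cast hm3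
    nlinarith

end Groth.Agent.S16415
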