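import Groth.Statements.S16418
import Mathlib.Tactic
import Mathlib.RingTheory.WittVector.DiscreteValuationRing
import Mathlib.RingTheory.Noetherian.Basic
import Mathlib.RingTheory.Noetherian.Orzech

set_option autoImplicit false
universe u v
open Dieud

namespace Groth.Agent.S16418

/-- Step of the proof: for a prime p and a perfect field k of characteristic p, write W = W(k) and σ for
its Frobenius; let M be a W-module with additive maps F (σ-semilinear) and V (with V(σ(a)m) = aV(m))
such that FV = VF = p, V is injective, ⋂_n V^n M = 0 and M/VM is finitely generated over W. Put M₁ =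
{x ∈ M : for every n there is m with V^m x ∈ F^n M} and M₂ = {x ∈ M : F^n x = 0 for some n}. Then M₂
is killed by a single power of F, and F is injective on M₁. (The published text makes these
assertions inside a proof, for the V-reduced Cartier module of a connected smooth formal group of
finite dimension over k; only the listed structure is used, and V-adic completeness is not needed.) -/
theorem result
    (p : ℕ) [Fact p.Prime] (k : Type u) [Field k] [CharP k p] [PerfectRing k p]
    (M : Type v) [AddCommGroup M] [Module (WittVector p k) M]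
    (F V : M →+ M)
    (hF : ∀ (a : WittVector p k) (m : M), F (a • m) = WittVector.frobenius a • F m)
    (hV : ∀ (a : WittVector p k) (m : M), V (WittVector.frobenius a • m) = a • V m)
    (hFV : ∀ m : M, F (V m) = (p : WittVector p k) • m)
    (hVF : ∀ m : M, V (F m) = (p : WittVector p k) • m)
    (hVinj : Function.Injective V)
    (hsep : ∀ x : M, (∀ n : ℕ, ∃ y : M, x = (⇑V)^[n] y) → x = 0)
    (hfin : Module.Finite (WittVector p k) (M ⧸ Submodule.span (WittVector p k) (Set.range V))) :
    (∃ c : ℕ, ∀ x : M, (∃ n : ℕ, (⇑F)^[n] x = 0) → (⇑F)^[c] x = 0) ∧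
    (∀ x : M, (∀ n : ℕ, ∃ (m : ℕ) (y : M), (⇑V)^[m] x = (⇑F)^[n] y) → F x = 0 → x = 0) := by
  -- basic iterate facts
  have iter_smul : ∀ (n : ℕ) (a : WittVector p k) (x : M),
      (⇑F)^[n] (a • x) = ((⇑(WittVector.frobenius : WittVector p k →+* WittVector p k))^[n] a) •
        (⇑F)^[n] x := by
    intro n
    induction n with
    | zero => intro a x; rfl
    | succ n ih =>
      intro a x
      rw [Function.iterate_succ_apply', Function.iterate_succ_apply', Function.iterate_succ_apply',
        ih, hF]
  have commFV : ∀ (n : ℕ) (y : M), (⇑F)^[n] (V y) = V ((⇑F)^[n] y) := by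
    intro n
    induction n with
    | zero => intro y; rfl
    | succ n ih =>
      intro y
      rw [Function.iterate_succ_apply', Function.iterate_succ_apply', ih, hFV, hVF]
  have commVF : ∀ (m : ℕ) (y : M), F ((⇑V)^[m] y) = (⇑V)^[m] (F y) := by
    intro m
    induction m with
    | zero => intro y; rfl
    | succ m ih =>
      intro y
      rw [Function.iterate_succ_apply', Function.iterate_succ_apply', hFV, ← ih, hVF]
  -- the kernels of the iterates
  let K : ℕ → Submodule (WittVector p k) M := fun n =>
    { carrier := {x | (⇑F)^[n] x = 0}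
      zero_mem' := iterate_map_zero F n
      add_mem' := by
        intro a b ha hb
        show (⇑F)^[n] (a + b) = 0
        rw [iterate_map_add, ha, hb, add_zero]
      smul_mem' := by
        intro a x hx
        show (⇑F)^[n] (a • x) = 0
        rw [iter_smul, hx, smul_zero] }
  have hK : ∀ n x, x ∈ K n ↔ (⇑F)^[n] x = 0 := fun n x => Iff.rfl
  have hKmono : ∀ n m, n ≤ m → K n ≤ K m := by
    intro n m hnm x hx
    rw [hK] at hx ⊢
    obtain ⟨d, rfl⟩ := Nat.exists_eq_add_of_le hnm
    rw [add_comm, Function.iterate_add_apply, hx, iterate_map_zero]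
  -- elements of the span of the range of V are in the range
  have hspan : ∀ x ∈ Submodule.span (WittVector p k) (Set.range V), ∃ y, x = V y := by
    intro x hx
    induction hx using Submodule.span_induction with
    | mem x hx => obtain ⟨y, rfl⟩ := hx; exact ⟨y, rfl⟩
    | zero => exact ⟨0, (map_zero V).symm⟩
    | add x y _ _ hx hy =>
      obtain ⟨a, rfl⟩ := hx
      obtain ⟨b, rfl⟩ := hy
      exact ⟨a + b, (map_add V a b).symm⟩
    | smul a x _ hx =>
      obtain ⟨y, rfl⟩ := hx
      exact ⟨WittVector.frobenius a • y, (hV a y).symm⟩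
  -- Noetherian chain
  have : IsNoetherian (WittVector p k)
      (M ⧸ Submodule.span (WittVector p k) (Set.range V)) :=
    isNoetherian_of_isNoetherianRing_of_finite _ _
  let f : ℕ →o Submodule (WittVector p k) (M ⧸ Submodule.span (WittVector p k) (Set.range V)) :=
    ⟨fun n => (K n).map (Submodule.span (WittVector p k) (Set.range V)).mkQ,
      fun n m hnm => Submodule.map_mono (hKmono n m hnm)⟩
  obtain ⟨c, hc⟩ := monotone_stabilizes_iff_noetherian.mpr inferInstance f
  -- main step
  have step : ∀ n, c ≤ n → ∀ x ∈ K n, ∃ y ∈ K n, (⇑F)^[c] x = V ((⇑F)^[c] y) := by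
    intro n hn x hx
    have hxq : (Submodule.span (WittVector p k) (Set.range V)).mkQ x ∈ f n :=
      Submodule.mem_map_of_mem hx
    rw [← hc n hn] at hxq
    obtain ⟨xc, hxc, hxcq⟩ := hxq
    have hdiff : x - xc ∈ Submodule.span (WittVector p k) (Set.range V) := by
      rw [← Submodule.Quotient.eq]
      exact hxcq.symm
    obtain ⟨y, hy⟩ := hspan _ hdiff
    have hx' : x = xc + V y := by rw [← hy]; abel
    have hxcn : xc ∈ K n := hKmono c n hn hxc
    refine ⟨y, ?_, ?_⟩
    · rw [hK]
      apply hVinj
      rw [← commFV, map_zero]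
      have : V y = x - xc := hy.symm
      rw [this, iterate_map_sub, (hK n x).mp hx, (hK n xc).mp hxcn, sub_zero]
    · rw [hx', iterate_map_add, (hK c xc).mp hxc, zero_add, commFV]
  have step' : ∀ n, c ≤ n → ∀ j : ℕ, ∀ x ∈ K n, ∃ y, (⇑F)^[c] x = (⇑V)^[j] y := by
    intro n hn j
    induction j with
    | zero => intro x _; exact ⟨_, rfl⟩
    | succ j ih =>
      intro x hx
      obtain ⟨y₁, hy₁, h₁⟩ := step n hn x hx
      obtain ⟨y', hy'⟩ := ih y₁ hy₁
      exact ⟨y', by rw [h₁, hy', Function.iterate_succ_apply']⟩
  have partA : ∀ x : M, (∃ n : ℕ, (⇑F)^[n] x = 0) → (⇑F)^[c] x = 0 := by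
    rintro x ⟨n, hn⟩
    have hx : x ∈ K (max n c) := hKmono n _ (le_max_left n c) hn
    apply hsep
    intro j
    exact step' (max n c) (le_max_right n c) j x hx
  refine ⟨⟨c, partA⟩, ?_⟩
  intro x hx hFx
  obtain ⟨m, y, hmy⟩ := hx c
  have hy : (⇑F)^[c] y = 0 := by
    apply partA
    refine ⟨c + 1, ?_⟩
    rw [Function.iterate_succ_apply', ← hmy, commVF, hFx, iterate_map_zero]
  rw [hy] at hmy
  have : (⇑V)^[m] x = (⇑V)^[m] 0 := by rw [hmy, iterate_map_zero]
  exact (hVinj.iterate m) this

end Groth.Agent.S16418
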