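import Groth.Statements.S16421
import Groth.Agent.Lib.Helper84.ColimFF
import Mathlib.FieldTheory.PerfectClosure
import Mathlib.RingTheory.Flat.FaithfullyFlat.Basic
-- import your own Groth.Agent.* helpers here

set_option autoImplicit false
universe u
open FrobAlg

namespace Groth.Agent.S16421

section
variable (p : ℕ) [Fact p.Prime] (R : Type u) [CommRing R] [CharP R p]

/-- The map `x ↦ x^{1/p^n}` from `R` to its perfect closure. -/
noncomputable def rootHom (n : ℕ) : R →+* PerfectClosure R p where
  toFun x := PerfectClosure.mk R p (n, x)
  map_one' := by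
    rw [PerfectClosure.one_def, PerfectClosure.mk_eq_iff]
    exact ⟨0, by simp [iterate_map_one]⟩
  map_mul' x y := by
    rw [PerfectClosure.mk_mul_mk]
    simp only
    rw [PerfectClosure.R.sound R p n n (x * y) _ rfl, iterate_map_mul]
  map_zero' := PerfectClosure.mk_zero_right R p n
  map_add' x y := by
    rw [PerfectClosure.mk_add_mk]
    simp only
    rw [PerfectClosure.R.sound R p n n (x + y) _ rfl, iterate_map_add]

theorem rootHom_apply (n : ℕ) (x : R) : rootHom p R n x = PerfectClosure.mk R p (n, x) := rfl

theorem rootHom_iterate (n z : ℕ) (x : R) :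
    rootHom p R (z + n) ((frobenius R p)^[z] x) = rootHom p R n x := by
  rw [rootHom_apply, rootHom_apply]
  exact (PerfectClosure.R.sound R p z n x _ rfl).symm

theorem faithfullyFlat_iterateFrobenius (hF : (frobenius R p).FaithfullyFlat) (n : ℕ) :
    (iterateFrobenius R p n).FaithfullyFlat := by
  induction n with
  | zero =>
    rw [iterateFrobenius_zero]
    exact RingHom.FaithfullyFlat.of_bijective Function.bijective_id
  | succ n ih =>
    rw [add_comm, iterateFrobenius_add, iterateFrobenius_one]
    exact RingHom.FaithfullyFlat.stableUnderComposition _ _ ih hF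

end

/-- `R` as a module over itself through the Frobenius. -/
def FrobMod (p : ℕ) (R : Type u) : Type u := R

noncomputable instance (p : ℕ) (R : Type u) [CommRing R] : CommRing (FrobMod p R) :=
  inferInstanceAs (CommRing R)

noncomputable instance (p : ℕ) [Fact p.Prime] (R : Type u) [CommRing R] [CharP R p] :
    Algebra R (FrobMod p R) := (frobenius R p).toAlgebra

theorem faithfullyFlat_frobenius (p : ℕ) [Fact p.Prime]
    (R : Type u) [CommRing R] [CharP R p] (ι : Type u) (x : ι → R)
    (hx : Function.Bijective
      (fun c : {e : ι →₀ ℕ // ∀ i, e i < p} →₀ R =>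
        c.sum (fun e r => r ^ p * e.1.prod (fun i n => x i ^ n)))) :
    (frobenius R p).FaithfullyFlat := by
  let L : ({e : ι →₀ ℕ // ∀ i, e i < p} →₀ R) →ₗ[R] FrobMod p R :=
    Finsupp.linearCombination R (fun e : {e : ι →₀ ℕ // ∀ i, e i < p} =>
      ((e.1.prod (fun i n => x i ^ n) : R) : FrobMod p R))
  have hL : ∀ c, L c = (c.sum (fun e r => r ^ p * e.1.prod (fun i n => x i ^ n)) : R) := by
    intro c
    exact (Finsupp.linearCombination_apply R c).trans rfl
  have hbij : Function.Bijective L := by
    have : (L : _ → FrobMod p R) = (fun c : {e : ι →₀ ℕ // ∀ i, e i < p} →₀ R =>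
        (c.sum (fun e r => r ^ p * e.1.prod (fun i n => x i ^ n)) : R)) := funext hL
    rw [this]
    exact hx
  have hfree : Module.Free R (FrobMod p R) :=
    Module.Free.of_equiv (LinearEquiv.ofBijective L hbij)
  have hff : Module.FaithfullyFlat R (FrobMod p R) := by
    rcases subsingleton_or_nontrivial R with hs | hn
    · refine ⟨fun m hm => ?_⟩
      exact absurd (Subsingleton.elim _ _) hm.ne_top
    · have : Nontrivial (FrobMod p R) := hn
      infer_instance
  exact hff

/-- Let p be a prime and R a commutative ring of characteristic p with a p-basis (x_i), meaning that the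
monomials ∏ x_i^(e i) with every exponent e i < p form a basis of R as a module over itself through
the Frobenius, i.e. the map sending a finitely supported family of coefficients c to ∑_e (c e)^p · ∏
x_i^(e i) is a bijection onto R. Then the canonical ring map from R to its perfect closure is
faithfully flat. -/
theorem result (p : ℕ) [Fact p.Prime]
    (R : Type u) [CommRing R] [CharP R p] (ι : Type u) (x : ι → R)
    (hx : Function.Bijective
      (fun c : {e : ι →₀ ℕ // ∀ i, e i < p} →₀ R =>
        c.sum (fun e r => r ^ p * e.1.prod (fun i n => x i ^ n)))) :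
    (PerfectClosure.of R p).FaithfullyFlat := by
  classical
  have hF := faithfullyFlat_frobenius p R ι x hx
  apply Groth.Agent.Lib.Helper84.ColimFF.faithfullyFlat_of_directed (J := ℕ)
    (Cj := fun _ => R) (Aj := fun _ => R)
    (PerfectClosure.of R p) (fun n => iterateFrobenius R p n) (fun _ => RingHom.id R)
    (fun n => rootHom p R n)
  · intro n c
    show PerfectClosure.mk R p (0, c) = rootHom p R n (iterateFrobenius R p n c)
    rw [coe_iterateFrobenius]
    have := rootHom_iterate p R 0 n c
    rw [add_zero] at this
    rw [this]
    rfl
  · intro s t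
    -- a common stage for the finite set `t`
    have hex : ∀ y : PerfectClosure R p, ∃ n : ℕ, ∀ m, n ≤ m → ∃ a, rootHom p R m a = y := by
      intro y
      induction y using PerfectClosure.induction_on with
      | _ y =>
        obtain ⟨n, a⟩ := y
        refine ⟨n, fun m hm => ⟨(frobenius R p)^[m - n] a, ?_⟩⟩
        have := rootHom_iterate p R n (m - n) a
        rw [Nat.sub_add_cancel hm] at this
        exact this
    choose N hN using hex
    refine ⟨t.sup N, fun x _ => ⟨x, rfl⟩, fun y hy => hN y _ (Finset.le_sup hy)⟩
  · intro n a ha
    rw [rootHom_apply, PerfectClosure.zero_def, PerfectClosure.mk_eq_iff] at ha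
    obtain ⟨z, hz⟩ := ha
    simp only [zero_add] at hz
    rw [iterate_map_zero] at hz
    refine ⟨z + n, RingHom.id R, iterateFrobenius R p z, fun c => rfl, ?_, ?_, ?_⟩
    · intro b
      rw [coe_iterateFrobenius]
      exact rootHom_iterate p R n z b
    · intro c
      show iterateFrobenius R p (z + n) c = iterateFrobenius R p z (iterateFrobenius R p n c)
      rw [iterateFrobenius_add_apply]
    · rw [coe_iterateFrobenius]
      exact hz
  · intro n
    exact faithfullyFlat_iterateFrobenius p R hF n

end Groth.Agent.S16421
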