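import Groth.Statements.S16422
set_option autoImplicit false
universe u
open GrMod

namespace Groth.Agent.S16422

open DirectSum

section

variable {S : Type u} [CommRing S] (𝒜 : ℤ → AddSubgroup S) [GradedRing 𝒜]
  {M : Type u} [AddCommGroup M] [Module S M] (ℳ : ℤ → AddSubgroup M)
  [DirectSum.Decomposition ℳ] [SetLike.GradedSMul 𝒜 ℳ]

/-- degree-`n` component of `a • y` for homogeneous `y`. -/
lemma comp_smul (a : S) (y : M) (d : ℤ) (hy : y ∈ ℳ d) (n : ℤ) :
    (decompose ℳ (a • y) n : M) = (decompose 𝒜 a (n - d) : S) • y := by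
  classical
  conv_lhs => rw [← DirectSum.sum_support_decompose 𝒜 a]
  rw [Finset.sum_smul, DirectSum.decompose_sum, DFinsupp.finsetSum_apply,
    AddSubmonoidClass.coe_finsetSum]
  have hterm : ∀ j : ℤ, (decompose ℳ ((decompose 𝒜 a j : S) • y) n : M) =
      if j = n - d then (decompose 𝒜 a j : S) • y else 0 := by
    intro j
    have hmem : (decompose 𝒜 a j : S) • y ∈ ℳ (j + d) :=
      SetLike.GradedSMul.smul_mem (decompose 𝒜 a j).2 hy
    split_ifs with h
    · have : j + d = n := by omega
      rw [this] at hmem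
      exact DirectSum.decompose_of_mem_same ℳ hmem
    · exact DirectSum.decompose_of_mem_ne ℳ hmem (by omega)
  simp only [hterm]
  rw [Finset.sum_ite_eq' _ (n - d)]
  split_ifs with h
  · rfl
  · rw [DFinsupp.notMem_support_iff.mp h]
    simp

/-- a finite homogeneous generating family together with dual functionals. -/
lemma exists_homog_gens [Module.Finite S M] [Module.Projective S M] :
    ∃ (ι : Type u) (_ : Fintype ι) (e : ι → M) (d : ι → ℤ) (s : M →ₗ[S] (ι → S)),
      (∀ i, e i ∈ ℳ (d i)) ∧ ∀ x, x = ∑ i, s x i • e i := by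
  classical
  obtain ⟨G, hG⟩ := (Module.Finite.fg_top : (⊤ : Submodule S M).FG)
  let T : Finset M := G.biUnion fun g =>
    (decompose ℳ g).support.image fun j => (decompose ℳ g j : M)
  have hT_homog : ∀ t : ↥T, ∃ j, (t : M) ∈ ℳ j := by
    rintro ⟨t, ht⟩
    simp only [T, Finset.mem_biUnion, Finset.mem_image] at ht
    obtain ⟨g, _, j, _, rfl⟩ := ht
    exact ⟨j, (decompose ℳ g j).2⟩
  have hT_span : Submodule.span S (T : Set M) = ⊤ := by
    rw [eq_top_iff, ← hG, Submodule.span_le]
    intro g hg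
    rw [SetLike.mem_coe, ← DirectSum.sum_support_decompose ℳ g]
    refine Submodule.sum_mem _ fun j hj => Submodule.subset_span ?_
    simp only [T, Finset.coe_biUnion, Set.mem_iUnion, Finset.coe_image]
    exact ⟨g, hg, j, hj, rfl⟩
  choose d hd using hT_homog
  let π : (↥T → S) →ₗ[S] M := Fintype.linearCombination S (fun t : ↥T => (t : M))
  have hπ : Function.Surjective π := by
    have hr : Set.range (fun t : ↥T => (t : M)) = (T : Set M) := Subtype.range_coe
    rw [← LinearMap.range_eq_top, Fintype.range_linearCombination, hr, hT_span]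
  obtain ⟨s, hs⟩ := Module.projective_lifting_property π LinearMap.id hπ
  refine ⟨↥T, inferInstance, fun t => (t : M), d, s, hd, fun x => ?_⟩
  have := LinearMap.congr_fun hs x
  rw [LinearMap.comp_apply, LinearMap.id_apply, Fintype.linearCombination_apply] at this
  exact this.symm

/-- the refined expansion of a homogeneous element. -/
lemma expand_homog {ι : Type u} [Fintype ι] (e : ι → M) (d : ι → ℤ) (s : M →ₗ[S] (ι → S))
    (he : ∀ i, e i ∈ ℳ (d i)) (hs : ∀ x, x = ∑ i, s x i • e i) (n : ℤ) (x : M) (hx : x ∈ ℳ n) :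
    x = ∑ i, (decompose 𝒜 (s x i) (n - d i) : S) • e i := by
  have h1 := congrArg (fun y => (decompose ℳ y n : M)) (hs x)
  simp only at h1
  rw [DirectSum.decompose_of_mem_same ℳ hx, DirectSum.decompose_sum, DFinsupp.finsetSum_apply,
    AddSubmonoidClass.coe_finsetSum] at h1
  exact h1.trans (Finset.sum_congr rfl fun i _ => comp_smul 𝒜 ℳ _ _ _ (he i) n)

omit [DirectSum.Decomposition ℳ] [SetLike.GradedSMul 𝒜 ℳ] in
lemma s_mem {ι : Type u} (s : M →ₗ[S] (ι → S)) (I : Ideal S) (y : M)
    (hy : y ∈ I • (⊤ : Submodule S M)) (i : ι) : s y i ∈ I := by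
  refine Submodule.smul_induction_on hy ?_ ?_
  · intro a ha z _
    rw [map_smul, Pi.smul_apply, smul_eq_mul]
    exact Ideal.mul_mem_right _ _ ha
  · intro y z hy hz
    rw [map_add, Pi.add_apply]
    exact Ideal.add_mem _ hy hz

end

/-- Let S be a commutative ring graded by ℤ with pieces 𝒜 n, and V a decreasing sequence of homogeneous
ideals for which S is graded-complete, i.e. for each degree n the map from 𝒜 n to the inverse limit
of the quotients 𝒜 n / (𝒜 n ∩ V m) is bijective (stated as: a degree-n element in every V m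
vanishes, and every sequence in 𝒜 n whose consecutive differences lie in the V m has a limit in 𝒜
n). Then every graded S-module M which is finitely generated and projective as an S-module is
graded-complete in the same sense for the submodules V m · M: for each n the map from ℳ n to the
inverse limit of ℳ n / (ℳ n ∩ V m · M) is bijective. -/
theorem result
    (S : Type u) [CommRing S] (𝒜 : ℤ → AddSubgroup S) [GradedRing 𝒜]
    (V : ℕ → HomogeneousIdeal 𝒜) (hV : ∀ m, (V (m + 1)).toIdeal ≤ (V m).toIdeal)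
    (hsep : ∀ (n : ℤ) (s : S), s ∈ 𝒜 n → (∀ m, s ∈ (V m).toIdeal) → s = 0)
    (hcpl : ∀ (n : ℤ) (f : ℕ → S), (∀ m, f m ∈ 𝒜 n) →
      (∀ m, f (m + 1) - f m ∈ (V m).toIdeal) → ∃ s ∈ 𝒜 n, ∀ m, s - f m ∈ (V m).toIdeal)
    (M : Type u) [AddCommGroup M] [Module S M] (ℳ : ℤ → AddSubgroup M)
    [DirectSum.Decomposition ℳ] [SetLike.GradedSMul 𝒜 ℳ]
    [Module.Finite S M] [Module.Projective S M] :
    (∀ (n : ℤ) (x : M), x ∈ ℳ n → (∀ m, x ∈ (V m).toIdeal • (⊤ : Submodule S M)) → x = 0) ∧
    (∀ (n : ℤ) (g : ℕ → M), (∀ m, g m ∈ ℳ n) →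
      (∀ m, g (m + 1) - g m ∈ (V m).toIdeal • (⊤ : Submodule S M)) →
      ∃ x ∈ ℳ n, ∀ m, x - g m ∈ (V m).toIdeal • (⊤ : Submodule S M)) := by
  classical
  obtain ⟨ι, _, e, d, s, he, hs⟩ := exists_homog_gens (S := S) (M := M) ℳ
  -- the intersection of the `V m` is zero
  have hzero : ∀ a : S, (∀ m, a ∈ (V m).toIdeal) → a = 0 := by
    intro a ha
    rw [← DirectSum.sum_support_decompose 𝒜 a]
    refine Finset.sum_eq_zero fun j _ => ?_
    exact hsep j _ (decompose 𝒜 a j).2 fun m => (V m).isHomogeneous j (ha m)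
  constructor
  · intro n x _ hxV
    rw [hs x]
    refine Finset.sum_eq_zero fun i _ => ?_
    rw [hzero (s x i) fun m => s_mem s _ x (hxV m) i, zero_smul]
  · intro n g hg hgV
    have hf1 : ∀ i m, (decompose 𝒜 (s (g m) i) (n - d i) : S) ∈ 𝒜 (n - d i) :=
      fun i m => (decompose 𝒜 (s (g m) i) (n - d i)).2
    have hf2 : ∀ i m, (decompose 𝒜 (s (g (m + 1)) i) (n - d i) : S) -
        (decompose 𝒜 (s (g m) i) (n - d i) : S) ∈ (V m).toIdeal := by
      intro i m
      have h1 : (decompose 𝒜 (s (g (m + 1)) i) (n - d i) : S) -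
          (decompose 𝒜 (s (g m) i) (n - d i) : S) =
          (decompose 𝒜 (s (g (m + 1) - g m) i) (n - d i) : S) := by
        rw [map_sub, Pi.sub_apply, DirectSum.decompose_sub, DirectSum.sub_apply,
          AddSubgroupClass.coe_sub]
      rw [h1]
      exact (V m).isHomogeneous _ (s_mem s _ _ (hgV m) i)
    choose lim hlim1 hlim2 using fun i => hcpl (n - d i) _ (hf1 i) (hf2 i)
    refine ⟨∑ i, lim i • e i, ?_, fun m => ?_⟩
    · refine sum_mem fun i _ => ?_
      have := SetLike.GradedSMul.smul_mem (hlim1 i) (he i)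
      rwa [vadd_eq_add, sub_add_cancel] at this
    · have h := expand_homog 𝒜 ℳ e d s he hs n (g m) (hg m)
      have h2 : ∑ i, lim i • e i - g m =
          ∑ i, (lim i - (decompose 𝒜 (s (g m) i) (n - d i) : S)) • e i := by
        simp only [sub_smul, Finset.sum_sub_distrib]
        rw [← h]
      rw [h2]
      refine Submodule.sum_mem _ fun i _ => ?_
      exact Submodule.smul_mem_smul (hlim2 i m) trivial

end Groth.Agent.S16422
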