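import Groth.Statements.S16436
import Mathlib
import Groth.Agent.Lib.Helper98.GeomUnibranchFinite
import Groth.Agent.Lib.Helper98.EssFTDescent
import Groth.Agent.Lib.Helper36.StrictHensWE
import Groth.Agent.Lib.Helper3.HensQF
import Groth.Agent.Lib.Helper3.IntegralHensSplit
import Groth.Agent.Lib.Helper3.EssEtaleSub2
import Groth.Agent.S9237
import Groth.Agent.S9238
import Groth.Agent.S16438

set_option autoImplicit false
universe u
open Hensel

namespace Groth.Agent.S16436

set_option synthInstance.maxHeartbeats 400000 in
set_option maxHeartbeats 1600000 in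
/-- Let A be an excellent henselian reduced local ring, S a strict henselization of A and D an
A-subalgebra of S which is finitely generated as an A-module. Write D' for the integral closure of D
in its total ring of fractions. Then D is etale over A and every minimal prime ideal of S is
generated by its contraction to D, if and only if, for every maximal ideal M of D' with residue
field l, writing k_0 for the subfield of l generated by the image of D (the image itself, a copy of
the residue field of D), k_0 is separably closed in l: every element of l separable over k_0 lies in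
k_0. -/
theorem result
    (A S : Type u) [CommRing A] [HenselianLocalRing A] [IsReduced A] (hA : EGA4.IsExcellent A)
    [CommRing S] [IsLocalRing S] [Algebra A S] [IsLocalHom (algebraMap A S)]
    [Hensel.IsStrictHenselization A S] (D : Subalgebra A S) [Module.Finite A D] :
    (Algebra.Etale A D ∧
        ∀ Q ∈ minimalPrimes S, Q = Ideal.map (algebraMap D S) (Q.comap (algebraMap D S))) ↔
      ∀ (M : Ideal (integralClosure D (FractionRing D))) [M.IsMaximal],
        separableClosure (Subfield.closure (Set.range ((algebraMap (integralClosure D (FractionRing D)) M.ResidueField).comp (algebraMap D (integralClosure D (FractionRing D)))))) M.ResidueField = ⊥ := by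
  haveI : IsNoetherianRing A := hA.1
  haveI hflatAS : Module.Flat A S := Groth.Agent.Lib.Helper9.HensK.flat_of_isStrictHenselization A S
  haveI hint : Algebra.IsIntegral D S :=
    Groth.Agent.Lib.Helper98.GeomUnibranchFinite.isIntegral_sub D
  haveI : IsLocalRing D := Groth.Agent.Lib.Helper98.GeomUnibranchFinite.isLocalRing_sub D
  haveI : IsLocalHom (algebraMap D S) := inferInstance
  haveI : Algebra.IsIntegral A D := Groth.Agent.Lib.Helper98.GeomUnibranchFinite.isIntegral_base_sub D
  haveI : HenselianLocalRing D :=
    Groth.Agent.Lib.Helper3.IntegralHensSplit.henselianLocalRing_of_isIntegral' A D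
  haveI : IsNoetherianRing D := Algebra.FiniteType.isNoetherianRing A D
  -- `S` is reduced, hence so is `D`
  haveI : IsReduced S := by
    have hnil := Groth.Agent.Lib.Helper9.nilradical_eq_map_of_isStrictHenselization A S
    rw [nilradical_eq_zero A, Ideal.zero_eq_bot, Ideal.map_bot] at hnil
    exact nilradical_eq_bot_iff.mp hnil
  haveI : IsReduced D := isReduced_of_injective D.val Subtype.val_injective
  haveI hADloc : IsLocalHom (algebraMap A D) :=
    Groth.Agent.Lib.Helper3.EssEtaleSub.isLocalHom_algebraMap_subalgebra D
  rw [Groth.Agent.Lib.Helper98.GeomUnibranchFinite.forall_sepClosure_eq_bot_iff_numGeomBranches D]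
  haveI : Hensel.IsHenselization D D := Groth.Agent.Lib.Helper3.isHenselization_self D
  have c2 : ENat.card (minimalPrimes D) = Brnch.numBranches D := Groth.Agent.S9237.result D D
  have hfinD : (minimalPrimes D).Finite := minimalPrimes.finite_of_isNoetherianRing D
  constructor
  · rintro ⟨hEt, hQ⟩
    haveI := hEt
    have hm : Ideal.map (algebraMap A D) (IsLocalRing.maximalIdeal A) = IsLocalRing.maximalIdeal D :=
      Algebra.FormallyUnramified.map_maximalIdeal
    obtain ⟨e⟩ := Groth.Agent.Lib.Helper98.EssFTDescent.nonempty_algEquiv_strictHenselization_of_map_maximalIdeal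
      A D S hm
    haveI : Hensel.IsStrictHenselization D S :=
      Groth.Agent.Lib.Helper36.StrictHensWE.isStrictHenselization_of_algEquiv D
        (Groth.Agent.Lib.Helper9.HensK.StrictHenselization D) S e
    haveI : Module.FaithfullyFlat D S :=
      Groth.Agent.Lib.Helper9.HensK.faithfullyFlat_of_isStrictHenselization D S
    rw [← Groth.Agent.S9238.result D S, ← c2]
    apply Groth.Agent.Lib.Helper98.GeomUnibranchFinite.card_eq_of_injOn_comap
    intro P hP P' hP' h
    rw [hQ P hP, hQ P' hP', h]
  · intro h
    have c1 : ENat.card (minimalPrimes (Groth.Agent.Lib.Helper9.HensK.StrictHenselization D)) =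
        Brnch.numGeomBranches D :=
      Groth.Agent.S9238.result D (Groth.Agent.Lib.Helper9.HensK.StrictHenselization D)
    have hcard : ENat.card (minimalPrimes (Groth.Agent.Lib.Helper9.HensK.StrictHenselization D)) =
        ENat.card (minimalPrimes D) := by rw [c1, h, c2]
    haveI : Module.FaithfullyFlat D (Groth.Agent.Lib.Helper9.HensK.StrictHenselization D) :=
      Groth.Agent.Lib.Helper9.HensK.faithfullyFlat_of_isStrictHenselization D _
    have hinj := Groth.Agent.Lib.Helper98.GeomUnibranchFinite.injOn_comap_of_card_eq hfinD hcard
    obtain ⟨φ, hφs⟩ :=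
      Groth.Agent.Lib.Helper98.GeomUnibranchFinite.exists_surjective_algHom_strictHenselization A D S
    have hφi := Groth.Agent.Lib.Helper98.GeomUnibranchFinite.injective_of_injOn_comap_minimalPrimes
      D S Subtype.val_injective φ hinj
    let e : Groth.Agent.Lib.Helper9.HensK.StrictHenselization D ≃ₐ[D] S :=
      AlgEquiv.ofBijective φ ⟨hφi, hφs⟩
    haveI : Hensel.IsStrictHenselization D S :=
      Groth.Agent.Lib.Helper36.StrictHensWE.isStrictHenselization_of_algEquiv D
        (Groth.Agent.Lib.Helper9.HensK.StrictHenselization D) S e
    haveI : Module.FaithfullyFlat D S :=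
      Groth.Agent.Lib.Helper9.HensK.faithfullyFlat_of_isStrictHenselization D S
    -- `𝔪_A D = 𝔪_D`
    have hmS : (IsLocalRing.maximalIdeal A).map (algebraMap A S) = IsLocalRing.maximalIdeal S :=
      Groth.Agent.Lib.Helper9.HensK.map_maximalIdeal_of_isStrictHenselization A S
    have hmDS : (IsLocalRing.maximalIdeal D).map (algebraMap D S) = IsLocalRing.maximalIdeal S :=
      Groth.Agent.Lib.Helper9.HensK.map_maximalIdeal_of_isStrictHenselization D S
    have hm : Ideal.map (algebraMap A D) (IsLocalRing.maximalIdeal A) = IsLocalRing.maximalIdeal D := by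
      have h1 : (Ideal.map (algebraMap A D) (IsLocalRing.maximalIdeal A)).map (algebraMap D S) =
          (IsLocalRing.maximalIdeal D).map (algebraMap D S) := by
        rw [Ideal.map_map, hmDS, ← hmS]
        rfl
      have h2 := congrArg (Ideal.comap (algebraMap D S)) h1
      rwa [Ideal.comap_map_eq_self_of_faithfullyFlat, Ideal.comap_map_eq_self_of_faithfullyFlat]
        at h2
    -- `D` is étale over `A`
    have hEt : Algebra.Etale A D := by
      haveI : Algebra.EssFiniteType A D := inferInstance
      obtain ⟨C, _, _, q, _, hC, -, ⟨eC⟩⟩ := Groth.Agent.S16438.result A S D hm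
      haveI := hC
      haveI : Algebra.FormallyEtale C (Localization.AtPrime q) :=
        Algebra.FormallyEtale.of_isLocalization q.primeCompl
      haveI : Algebra.FormallyEtale A (Localization.AtPrime q) :=
        Algebra.FormallyEtale.comp A C _
      haveI : Algebra.FormallyEtale A D := Algebra.FormallyEtale.of_equiv eC.symm
      haveI : Algebra.FinitePresentation A D :=
        Algebra.FinitePresentation.of_finiteType.mp inferInstance
      exact ⟨inferInstance, inferInstance⟩
    refine ⟨hEt, ?_⟩
    -- minimal primes of `S`
    have cS : ENat.card (minimalPrimes S) = ENat.card (minimalPrimes D) := by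
      rw [Groth.Agent.S9238.result D S, h, c2]
    have hinjS := Groth.Agent.Lib.Helper98.GeomUnibranchFinite.injOn_comap_of_card_eq hfinD cS
    intro Q hQ
    haveI : Q.IsPrime := hQ.1.1
    have hqmin : Q.comap (algebraMap D S) ∈ minimalPrimes D :=
      Groth.Agent.Lib.Helper98.HensTower.comap_mem_minimalPrimes hQ
    haveI : (Q.comap (algebraMap D S)).IsPrime := hqmin.1.1
    exact Groth.Agent.Lib.Helper98.HensTower.eq_map_comap_of_unique hQ
      (Groth.Agent.Lib.Helper98.HensTower.isRadical_map_of_isPrime (R := D) (S := S) _)
      (fun P hP hPQ => hinjS P hP Q hQ hPQ)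

end Groth.Agent.S16436
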