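import Groth.Statements.S16439
import Mathlib
import Groth.Agent.Lib.Helper98.EssFTDescent
import Groth.Agent.Lib.Helper3.FracSub
import Groth.Agent.S16438

set_option autoImplicit false
universe u
open EGA4loc

namespace Groth.Agent.S16439

open IsLocalRing in
/-- Let A be an excellent reduced local ring with maximal ideal m, S a strict henselization of A, and D
an A-subalgebra of S which is a Noetherian local ring dominated by S (the inclusion is local), whose
total ring of fractions K_D is finitely generated over that of A — there is a finite subset t of K_D
such that every element of K_D, after multiplication by (the image of) a non-zero-divisor of A, is a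
polynomial expression in t with coefficients from A — and such that m D is the maximal ideal of D.
Then D is an essentially etale local A-algebra: A-isomorphic to the localization of an etale
A-algebra at a prime over m. -/
theorem result
    (A S : Type u) [CommRing A] [IsLocalRing A] [IsReduced A] (hA : EGA4.IsExcellent A)
    [CommRing S] [IsLocalRing S] [Algebra A S] [IsLocalHom (algebraMap A S)]
    [Hensel.IsStrictHenselization A S] (D : Subalgebra A S) [IsLocalRing D]
    [IsLocalHom (algebraMap D S)] [IsNoetherianRing D]
    (hfg : ∃ t : Finset (FractionRing D), ∀ x : FractionRing D, ∃ a ∈ nonZeroDivisors A,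
      algebraMap A (FractionRing D) a * x ∈ Algebra.adjoin A (t : Set (FractionRing D)))
    (hm : Ideal.map (algebraMap A D) (maximalIdeal A) = maximalIdeal D) :
    EGA4loc.IsEssentiallyEtale A D := by
  haveI : IsNoetherianRing A := hA.1
  haveI hflat : Module.Flat A S := Groth.Agent.Lib.Helper9.HensK.flat_of_isStrictHenselization A S
  have hcov := Groth.Agent.Lib.Helper9.isEtaleCoveredFin_of_isStrictHenselization A S
  have hmin : (minimalPrimes A).Finite := minimalPrimes.finite_of_isNoetherianRing A
  obtain ⟨t, ht⟩ := hfg
  obtain ⟨E, hDE, _, C, _, _, q, _, hC, hq, ⟨e⟩⟩ :=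
    Groth.Agent.Lib.Helper3.FracSub.exists_le_essEtale_of_fg hmin hcov D t ht
  -- the map `C → S`
  let φ : C →ₐ[A] S := (E.val.comp e.symm.toAlgHom).comp
    (IsScalarTower.toAlgHom A C (Localization.AtPrime q))
  have hφ : ∀ c : C, φ c = ((e.symm (algebraMap C (Localization.AtPrime q) c) : E) : S) :=
    fun _ => rfl
  -- flatness of `S` over `D`
  haveI : Module.Flat D S :=
    Groth.Agent.Lib.Helper98.EssFTDescent.flat_of_map_maximalIdeal A D S hm
  haveI : Algebra.EssFiniteType A D := by
    apply Groth.Agent.Lib.Helper98.EssFTDescent.essFiniteType_of_descent φ
    · intro d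
      obtain ⟨b, s, hbs⟩ := IsLocalization.exists_mk'_eq q.primeCompl (e ⟨(d : S), hDE d.2⟩)
      refine ⟨b, s, ?_, ?_⟩
      · rw [hφ]
        have h1 : IsUnit (algebraMap C (Localization.AtPrime q) s) :=
          IsLocalization.map_units _ s
        exact (h1.map e.symm).map E.val
      · have h2 : IsLocalization.mk' (Localization.AtPrime q) b s *
            algebraMap C (Localization.AtPrime q) s = algebraMap C (Localization.AtPrime q) b :=
          IsLocalization.mk'_spec _ _ _
        rw [hbs] at h2
        have h3 := congrArg (fun z => ((e.symm z : E) : S)) h2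
        simp only [map_mul, AlgEquiv.symm_apply_apply, Subalgebra.coe_mul] at h3
        rw [hφ, hφ, mul_comm]
        exact h3
    · intro x hx
      exact Groth.Agent.Lib.Helper98.EssFTDescent.exists_unit_mul_eq_zero_of_flat φ x hx
  exact Groth.Agent.S16438.result A S D hm

end Groth.Agent.S16439
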