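import Groth.Statements.S16442
import Groth.Agent.Lib.Helper3.EssEtaleSub

set_option autoImplicit false
universe u
open EGA4loc

namespace Groth.Agent.S16442

/-- Let A be a reduced local ring with finitely many minimal prime ideals, S a strict henselization of
A, and D an A-subalgebra of S which is a local ring dominated by S (local inclusion) and essentially
of finite type over A. Then D is contained in some A-subalgebra E of S which is a local ring and an
essentially etale local A-algebra. -/
theorem result
    (A S : Type u) [CommRing A] [IsLocalRing A] [IsReduced A] (hmin : (minimalPrimes A).Finite)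
    [CommRing S] [IsLocalRing S] [Algebra A S] [IsLocalHom (algebraMap A S)]
    [Hensel.IsStrictHenselization A S] (D : Subalgebra A S) [IsLocalRing D]
    [IsLocalHom (algebraMap D S)] [Algebra.EssFiniteType A D] :
    ∃ E : Subalgebra A S, D ≤ E ∧ ∃ _ : IsLocalRing E, EGA4loc.IsEssentiallyEtale A E := by
  classical
  have hflat : Module.Flat A S := Groth.Agent.Lib.Helper9.HensK.flat_of_isStrictHenselization A S
  have hcov := Groth.Agent.Lib.Helper9.isEtaleCoveredFin_of_isStrictHenselization A S
  obtain ⟨σ, hσ⟩ := (Algebra.essFiniteType_iff (R := A) (S := D)).mp inferInstance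
  obtain ⟨E₀, _, _, _, φ, hφ⟩ := hcov σ.card (fun i => ((σ.equivFin.symm i : D) : S))
  have hspec := Groth.Agent.Lib.Helper3.EssEtaleSub.range_locLift_spec φ
  refine ⟨(Groth.Agent.Lib.Helper3.EssEtaleSub.locLift φ).range, ?_, hspec⟩
  -- the finite type part lands in the range
  have hadj : Algebra.adjoin A (σ : Set D) ≤
      ((Groth.Agent.Lib.Helper3.EssEtaleSub.locLift φ).range).comap D.val := by
    apply Algebra.adjoin_le
    intro d hd
    have hd' : d ∈ σ := hd
    have := hφ (σ.equivFin ⟨d, hd'⟩)
    rw [Equiv.symm_apply_apply] at this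
    exact Groth.Agent.Lib.Helper3.EssEtaleSub.range_le_range_locLift φ this
  intro d hd
  obtain ⟨t, ht, htu, hdt⟩ := hσ ⟨d, hd⟩
  have h1 : (t : S) ∈ (Groth.Agent.Lib.Helper3.EssEtaleSub.locLift φ).range := hadj ht
  have h2 : ((⟨d, hd⟩ * t : D) : S) ∈ (Groth.Agent.Lib.Helper3.EssEtaleSub.locLift φ).range :=
    hadj hdt
  have h3 : IsUnit (t : S) := htu.map D.val
  obtain ⟨c, hc, htc⟩ :=
    Groth.Agent.Lib.Helper3.EssEtaleSub.exists_inv_mem_range_locLift φ _ h1 h3
  have h4 : d = ((⟨d, hd⟩ * t : D) : S) * c := by
    change d = d * (t : S) * c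
    rw [mul_assoc, htc, mul_one]
  rw [h4]
  exact Subalgebra.mul_mem _ h2 hc

end Groth.Agent.S16442
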