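import Groth.Statements.S16448
import Mathlib
import Groth.Agent.Lib.Helper98.TotalFractionEtale

set_option autoImplicit false
universe u
open EGA4loc

namespace Groth.Agent.S16448

/-- Let A be a reduced local ring with finitely many minimal prime ideals and E a local ring which is an
essentially etale local A-algebra with local structure map. Then the total ring of fractions K_E of
E is the localization of E at the images of the non-zero-divisors of A — that is, K_E = E ⊗_A K_A —
and K_E is finite over K_A: for some finite subset t of K_E, every element of K_E multiplied by the
image of a suitable non-zero-divisor of A lies in the A-span of t. (The published statement is for a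
reduced semilocal ring and a semilocal etale extension; this row treats a local ring and a local
etale extension.) -/
theorem result
    (A E : Type u) [CommRing A] [IsLocalRing A] [IsReduced A] (hmin : (minimalPrimes A).Finite)
    [CommRing E] [IsLocalRing E] [Algebra A E] [IsLocalHom (algebraMap A E)]
    (hE : EGA4loc.IsEssentiallyEtale A E) :
    IsLocalization ((nonZeroDivisors A).map (algebraMap A E)) (FractionRing E) ∧
      ∃ t : Finset (FractionRing E), ∀ x : FractionRing E, ∃ a ∈ nonZeroDivisors A,
        algebraMap A (FractionRing E) a * x ∈ Submodule.span A (t : Set (FractionRing E)) := by
  obtain ⟨C, _, _, q, _, hEt, hq, ⟨e⟩⟩ := hE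
  have : Algebra.Etale A C := hEt
  have : Algebra.QuasiFinite A (Localization.AtPrime q) := inferInstance
  have : Algebra.QuasiFinite A E :=
    Algebra.QuasiFinite.of_surjective_algHom (e.symm : Localization.AtPrime q →ₐ[A] E)
      e.symm.surjective
  have : Module.Flat A (Localization.AtPrime q) := Module.Flat.trans A C _
  have : Module.Flat A E := Module.Flat.of_linearEquiv e.toLinearEquiv
  exact ⟨Groth.Agent.Lib.Helper98.TotalFractionEtale.isLocalization_map_nonZeroDivisors hmin,
    Groth.Agent.Lib.Helper98.TotalFractionEtale.exists_finset_span_fractionRing hmin⟩

end Groth.Agent.S16448
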