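import Groth.Statements.S16443
import Groth.Agent.S16448
import Mathlib

set_option autoImplicit false
set_option linter.style.haveILetI false
universe u
open EGA4loc

namespace Groth.Agent.S16443

/-- Let A be a reduced local ring with finitely many minimal prime ideals, E a local ring which is an
essentially etale local A-algebra with local structure map, K_E the total ring of fractions of E,
and L an A-subalgebra of K_E containing an inverse of the image of every non-zero-divisor of A (so L
is an intermediate ring between the total rings of fractions of A and of E). Then the preimage D of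
L in E is (the underlying set of) an A-subalgebra of E which is a local ring with local inclusion
into E — its maximal ideal lies under that of E — and L is the total ring of fractions of D in the
sense that every element of L is the image of an element of D times the inverse of the image of a
non-zero-divisor of A. -/
theorem result
    (A E : Type u) [CommRing A] [IsLocalRing A] [IsReduced A] (hmin : (minimalPrimes A).Finite)
    [CommRing E] [IsLocalRing E] [Algebra A E] [IsLocalHom (algebraMap A E)]
    (hE : EGA4loc.IsEssentiallyEtale A E) (L : Subalgebra A (FractionRing E))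
    (hL : ∀ s ∈ nonZeroDivisors A, ∃ y ∈ L, algebraMap A (FractionRing E) s * y = 1) :
    ∃ D : Subalgebra A E, (D : Set E) = (algebraMap E (FractionRing E)) ⁻¹' (L : Set (FractionRing E)) ∧
      ∃ _ : IsLocalRing D, IsLocalHom (algebraMap D E) ∧
        ∀ l ∈ L, ∃ d ∈ D, ∃ s ∈ nonZeroDivisors A, ∃ y ∈ L,
          algebraMap A (FractionRing E) s * y = 1 ∧ l = algebraMap E (FractionRing E) d * y := by
  classical
  obtain ⟨hloc, t, ht⟩ := Groth.Agent.S16448.result A E hmin hE
  -- `K_E` is a finite module over `L`
  haveI hfin : Module.Finite L (FractionRing E) := by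
    refine ⟨⟨t, ?_⟩⟩
    rw [eq_top_iff]
    intro z _
    obtain ⟨a, ha, haz⟩ := ht z
    obtain ⟨y, hyL, hy⟩ := hL a ha
    have hsub : (Submodule.span A (t : Set (FractionRing E)) : Set (FractionRing E)) ⊆
        (Submodule.span L (t : Set (FractionRing E)) : Set (FractionRing E)) := by
      intro w hw
      exact Submodule.span_le_restrictScalars A L _ hw
    have h1 : algebraMap A (FractionRing E) a * z ∈ Submodule.span L (t : Set (FractionRing E)) :=
      hsub haz
    have h2 : (⟨y, hyL⟩ : L) • (algebraMap A (FractionRing E) a * z) ∈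
        Submodule.span L (t : Set (FractionRing E)) := Submodule.smul_mem _ _ h1
    have h3 : (⟨y, hyL⟩ : L) • (algebraMap A (FractionRing E) a * z) = z := by
      change y * (algebraMap A (FractionRing E) a * z) = z
      rw [← mul_assoc, mul_comm y, hy, one_mul]
    rwa [h3] at h2
  haveI : Algebra.IsIntegral L (FractionRing E) := Algebra.IsIntegral.of_finite L (FractionRing E)
  have hlocL : IsLocalHom (algebraMap L (FractionRing E)) := Algebra.IsIntegral.isLocalHom _ _
  let D : Subalgebra A E := L.comap (IsScalarTower.toAlgHom A E (FractionRing E))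
  have hmemD : ∀ d : E, d ∈ D ↔ algebraMap E (FractionRing E) d ∈ L := fun d => Iff.rfl
  haveI hlocD : IsLocalHom (algebraMap D E) := by
    constructor
    rintro ⟨d, hd⟩ hu
    change IsUnit d at hu
    obtain ⟨u, rfl⟩ := hu
    have hxu : IsUnit (algebraMap L (FractionRing E) ⟨algebraMap E (FractionRing E) (u : E), hd⟩) :=
      (u.isUnit.map (algebraMap E (FractionRing E)))
    have hl : IsUnit (⟨algebraMap E (FractionRing E) (u : E), hd⟩ : L) := hlocL.map_nonunit _ hxu
    obtain ⟨v, hv⟩ := hl
    have hinv : algebraMap E (FractionRing E) ((u⁻¹ : Eˣ) : E) = ((v⁻¹ : Lˣ) : L) := by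
      have e1 : algebraMap E (FractionRing E) (u : E) *
          algebraMap E (FractionRing E) ((u⁻¹ : Eˣ) : E) = 1 := by
        rw [← map_mul, Units.mul_inv, map_one]
      have e2 : algebraMap E (FractionRing E) (u : E) * (((v⁻¹ : Lˣ) : L) : FractionRing E) = 1 := by
        have : ((v : L) : FractionRing E) = algebraMap E (FractionRing E) (u : E) := by
          rw [hv]
        rw [← this, ← Subalgebra.coe_mul, Units.mul_inv, Subalgebra.coe_one]
      have e3 : (((v⁻¹ : Lˣ) : L) : FractionRing E) * algebraMap E (FractionRing E) (u : E) = 1 := by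
        rw [mul_comm]; exact e2
      calc algebraMap E (FractionRing E) ((u⁻¹ : Eˣ) : E)
          = ((((v⁻¹ : Lˣ) : L) : FractionRing E) * algebraMap E (FractionRing E) (u : E)) *
            algebraMap E (FractionRing E) ((u⁻¹ : Eˣ) : E) := by rw [e3, one_mul]
        _ = (((v⁻¹ : Lˣ) : L) : FractionRing E) := by rw [mul_assoc, e1, mul_one]
    have hmem : ((u⁻¹ : Eˣ) : E) ∈ D := by
      rw [hmemD, hinv]
      exact ((v⁻¹ : Lˣ) : L).2
    refine IsUnit.of_mul_eq_one (⟨((u⁻¹ : Eˣ) : E), hmem⟩ : D) ?_
    apply Subtype.ext
    change (u : E) * ((u⁻¹ : Eˣ) : E) = 1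
    exact Units.mul_inv u
  refine ⟨D, rfl, RingHom.domain_isLocalRing (algebraMap D E), hlocD, ?_⟩
  intro l hl
  haveI := hloc
  obtain ⟨⟨e, m⟩, hem⟩ := IsLocalization.surj ((nonZeroDivisors A).map (algebraMap A E)) l
  obtain ⟨a, ha, ham⟩ := m.2
  obtain ⟨y, hyL, hy⟩ := hL a ha
  have hma : algebraMap E (FractionRing E) (m : E) = algebraMap A (FractionRing E) a := by
    rw [← ham, ← IsScalarTower.algebraMap_apply]
  have hem' : l * algebraMap A (FractionRing E) a = algebraMap E (FractionRing E) e := by
    rw [← hma]; exact hem
  refine ⟨e, ?_, a, ha, y, hyL, hy, ?_⟩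
  · rw [hmemD, ← hem']
    exact L.mul_mem hl (L.algebraMap_mem a)
  · rw [← hem', mul_assoc, hy, mul_one]

end Groth.Agent.S16443
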