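import Groth.Statements.S16445
import Mathlib
import Groth.Agent.Lib.Helper98.HensGaloisG
import Groth.Agent.S2651

set_option autoImplicit false
universe u
open Hensel

namespace Groth.Agent.S16445

/-- Let A be an excellent henselian reduced local ring, S a strict henselization of A and Q a minimal
prime ideal of S; let K be the fraction field of the domain S/Q and L the subfield of K generated
over the image of A by a finite subset t of K. Then the intersection of L with S/Q is (the
underlying set of) an A-subalgebra D' of S/Q which is an excellent henselian local ring (a domain,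
as a subring of S/Q) whose fraction field is L: every element of L is the quotient of the images of
two elements of D'. (The source's further description of the completion of D' is not stated here.) -/
theorem result
    (A S : Type u) [CommRing A] [HenselianLocalRing A] [IsReduced A] (hA : EGA4.IsExcellent A)
    [CommRing S] [IsLocalRing S] [Algebra A S] [IsLocalHom (algebraMap A S)]
    [Hensel.IsStrictHenselization A S] (Q : Ideal S) (hQ : Q ∈ minimalPrimes S) [Q.IsPrime]
    (t : Finset (FractionRing (S ⧸ Q))) :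
    ∃ D' : Subalgebra A (S ⧸ Q), (D' : Set (S ⧸ Q)) = (algebraMap (S ⧸ Q) (FractionRing (S ⧸ Q))) ⁻¹'
        (Subfield.closure (Set.range (algebraMap A (FractionRing (S ⧸ Q))) ∪
          (t : Set (FractionRing (S ⧸ Q)))) : Set (FractionRing (S ⧸ Q))) ∧
      EGA4.IsExcellent D' ∧ ∃ _ : HenselianLocalRing D',
        ∀ l ∈ Subfield.closure (Set.range (algebraMap A (FractionRing (S ⧸ Q))) ∪
            (t : Set (FractionRing (S ⧸ Q)))),
          ∃ a ∈ D', ∃ b ∈ D', algebraMap (S ⧸ Q) (FractionRing (S ⧸ Q)) b ≠ 0 ∧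
            l * algebraMap (S ⧸ Q) (FractionRing (S ⧸ Q)) b =
              algebraMap (S ⧸ Q) (FractionRing (S ⧸ Q)) a := by
  classical
  haveI : IsNoetherianRing A := hA.1
  haveI hfin : Module.Finite A (Groth.Agent.Lib.Helper98.HensGalois.interSubalgebra A S Q t) :=
    Groth.Agent.Lib.Helper98.HensGalois.finite_interSubalgebra A S Q t
  haveI hloc : IsLocalRing (Groth.Agent.Lib.Helper98.HensGalois.interSubalgebra A S Q t) :=
    Groth.Agent.Lib.Helper98.HensGalois.isLocalRing_interSubalgebra A S Q t
  haveI : Algebra.IsIntegral A (Groth.Agent.Lib.Helper98.HensGalois.interSubalgebra A S Q t) :=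
    Algebra.IsIntegral.of_finite A _
  haveI hSint : Algebra.IsIntegral A S :=
    Groth.Agent.Lib.Helper98.HensGalois.isIntegral_of_isStrictHenselization A S
  refine ⟨Groth.Agent.Lib.Helper98.HensGalois.interSubalgebra A S Q t,
    Groth.Agent.Lib.Helper98.HensGalois.coe_interSubalgebra A S Q t,
    Groth.Agent.S2651.result A hA _,
    Groth.Agent.Lib.Helper3.IntegralHensSplit.henselianLocalRing_of_isIntegral' A _, ?_⟩
  intro l hl
  have hinjK : Function.Injective (algebraMap (S ⧸ Q) (FractionRing (S ⧸ Q))) :=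
    IsFractionRing.injective _ _
  obtain ⟨s₁, s₂, hs₂, rfl⟩ := IsFractionRing.div_surjective (S ⧸ Q) l
  -- `s₂` divides the image of an element of `A` which is nonzero in `S/Q`
  have hint : IsIntegral A s₂ := by
    obtain ⟨x₂, rfl⟩ := Ideal.Quotient.mk_surjective s₂
    exact (Algebra.IsIntegral.isIntegral (R := A) x₂).map (Ideal.Quotient.mkₐ A Q)
  have hint' : IsIntegral (A ⧸ Q.comap (algebraMap A S)) s₂ := hint.tower_top
  haveI : Nontrivial (A ⧸ Q.comap (algebraMap A S)) :=
    Ideal.Quotient.nontrivial_iff.mpr (Ideal.IsPrime.ne_top (Ideal.comap_isPrime _ Q))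
  obtain ⟨r, hr, u, hu⟩ := hint'.isAlgebraic.exists_nonzero_dvd hs₂
  obtain ⟨r', rfl⟩ := Ideal.Quotient.mk_surjective r
  have hr' : algebraMap A (S ⧸ Q) r' = s₂ * u := by
    rw [← hu]; rfl
  have hr0 : algebraMap A (S ⧸ Q) r' ≠ 0 := by
    intro h0
    apply hr
    apply Ideal.algebraMap_quotient_injective (I := Q) (R := A)
    rw [map_zero]
    exact h0
  have hs₂0 : algebraMap (S ⧸ Q) (FractionRing (S ⧸ Q)) s₂ ≠ 0 := fun h =>
    (nonZeroDivisors.ne_zero hs₂) (hinjK (h.trans (map_zero _).symm))
  have hb : algebraMap A (S ⧸ Q) r' ∈ Groth.Agent.Lib.Helper98.HensGalois.interSubalgebra A S Q t :=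
    Subalgebra.algebraMap_mem _ r'
  have hkey : algebraMap (S ⧸ Q) (FractionRing (S ⧸ Q)) s₁ /
      algebraMap (S ⧸ Q) (FractionRing (S ⧸ Q)) s₂ *
        algebraMap (S ⧸ Q) (FractionRing (S ⧸ Q)) (algebraMap A (S ⧸ Q) r') =
      algebraMap (S ⧸ Q) (FractionRing (S ⧸ Q)) (s₁ * u) := by
    rw [hr', map_mul, map_mul]
    field_simp
  refine ⟨s₁ * u, ?_, algebraMap A (S ⧸ Q) r', hb, ?_, hkey⟩
  · rw [Groth.Agent.Lib.Helper98.HensGalois.mem_interSubalgebra, ← hkey]
    exact mul_mem hl ((Groth.Agent.Lib.Helper98.HensGalois.mem_interSubalgebra A S Q t _).mp hb)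
  · exact fun h => hr0 (hinjK (h.trans (map_zero _).symm))

end Groth.Agent.S16445
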