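import Groth.Statements.S16446
import Mathlib
import Groth.Agent.Lib.Helper98.HensGaloisF
import Groth.Agent.Lib.Helper89.EssEt

set_option autoImplicit false
universe u
open Hensel

namespace Groth.Agent.S16446

/-- Let A be an excellent henselian reduced local ring, S a strict henselization of A and Q a minimal
prime ideal of S with contraction q to A; let K be the fraction field of S/Q and L the subfield of K
generated over the image of A by a finite subset t of K. Then there is an A-subalgebra E of S, a
local ring and an essentially etale local A-algebra, such that (i) every minimal prime ideal of S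
over the ideal qS is generated by its contraction to E, and (ii) every element of S/Q whose image in
K lies in L is the class of an element of E — so that the intersection of L with S/Q equals its
intersection with the image of E. -/
theorem result
    (A S : Type u) [CommRing A] [HenselianLocalRing A] [IsReduced A] (hA : EGA4.IsExcellent A)
    [CommRing S] [IsLocalRing S] [Algebra A S] [IsLocalHom (algebraMap A S)]
    [Hensel.IsStrictHenselization A S] (Q : Ideal S) (hQ : Q ∈ minimalPrimes S) [Q.IsPrime]
    (t : Finset (FractionRing (S ⧸ Q))) :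
    ∃ E : Subalgebra A S, ∃ _ : IsLocalRing E, EGA4loc.IsEssentiallyEtale A E ∧
      (∀ Q' ∈ ((Q.comap (algebraMap A S)).map (algebraMap A S)).minimalPrimes,
        Q' = Ideal.map (algebraMap E S) (Q'.comap (algebraMap E S))) ∧
      ∀ x : S, algebraMap (S ⧸ Q) (FractionRing (S ⧸ Q)) (Ideal.Quotient.mk Q x) ∈
          Subfield.closure (Set.range (algebraMap A (FractionRing (S ⧸ Q))) ∪
            (t : Set (FractionRing (S ⧸ Q)))) →
        ∃ e ∈ E, Ideal.Quotient.mk Q e = Ideal.Quotient.mk Q x := by
  classical
  haveI : IsNoetherianRing A := hA.1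
  haveI : IsNoetherianRing S :=
    (Groth.Agent.Lib.Helper9.isNoetherianRing_iff_of_isStrictHenselization A S).mp inferInstance
  haveI : Module.Flat A S := Groth.Agent.Lib.Helper9.HensK.flat_of_isStrictHenselization A S
  set J : Ideal S := (Q.comap (algebraMap A S)).map (algebraMap A S) with hJ
  have hfinJ : J.minimalPrimes.Finite := Ideal.finite_minimalPrimes_of_isNoetherianRing S J
  have hfg : ∀ Q' : Ideal S, ∃ gens : Finset S, Ideal.span (gens : Set S) = Q' := fun Q' =>
    (isNoetherianRing_iff_ideal_fg S).mp inferInstance Q'
  choose gens hgens using hfg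
  obtain ⟨E₀, _, _, _, _, φ, hfin, het, hφinj, hF, -, hcore⟩ :=
    Groth.Agent.Lib.Helper98.HensGalois.exists_finite_etale_quotient_core A S Q t
      (hfinJ.toFinset.biUnion gens)
  let e : E₀ ≃ₐ[A] φ.range := AlgEquiv.ofInjective φ hφinj
  refine ⟨φ.range, e.toRingEquiv.isLocalRing,
    Groth.Agent.Lib.Helper89.isEssentiallyEtale_of_algEquiv e.symm
      (Groth.Agent.Lib.Helper98.HensGalois.isEssentiallyEtale_of_etale A E₀), ?_, ?_⟩
  · intro Q' hQ'
    apply le_antisymm
    · have h0 : Ideal.span (gens Q' : Set S) ≤
          Ideal.map (algebraMap φ.range S) (Q'.comap (algebraMap φ.range S)) := by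
        rw [Ideal.span_le]
        intro g hg
        have hgF : g ∈ hfinJ.toFinset.biUnion gens := by
          rw [Finset.mem_biUnion]
          exact ⟨Q', hfinJ.mem_toFinset.mpr hQ', hg⟩
        have hgQ : g ∈ Q' := by rw [← hgens Q']; exact Ideal.subset_span hg
        have hmem : (⟨g, hF g hgF⟩ : φ.range) ∈ Q'.comap (algebraMap φ.range S) := by
          rw [Ideal.mem_comap]; exact hgQ
        exact Ideal.mem_map_of_mem (algebraMap φ.range S) hmem
      rwa [hgens Q'] at h0
    · exact Ideal.map_comap_le
  · intro x hx
    obtain ⟨e', he'⟩ := hcore x hx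
    exact ⟨φ e', ⟨e', rfl⟩, he'⟩

end Groth.Agent.S16446
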