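import Groth.Statements.S16447
import Mathlib
import Groth.Agent.Lib.Helper54.Reduced
import Groth.Agent.Lib.Helper98.NormalizationSemilocalA
import Groth.Agent.Lib.Helper98.NormalizationSemilocalB
open Groth.Agent.Lib.Helper98

set_option autoImplicit false
set_option linter.style.haveILetI false
universe u
open EGA4loc

namespace Groth.Agent.S16447

/-- Let A be a Noetherian reduced local ring, E a local ring which is an essentially etale local
A-algebra with local structure map, K_E the total ring of fractions of E, E' the integral closure of
E in K_E (viewed as an A-subalgebra of K_E), and L an A-subalgebra of K_E containing an inverse of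
the image of every non-zero-divisor of A. Let C be the A-subalgebra L ⊓ E' of K_E. Then C is
integrally closed in L, C has only finitely many maximal ideals, the maximal ideals of C are exactly
the contractions of the maximal ideals of E', and every element of L is an element of C times the
inverse of the image of a non-zero-divisor of A. (The published statement assumes only that A is
reduced; its proof uses that the integral closure of E in K_E has finitely many maximal ideals,
which holds when A is Noetherian and can fail otherwise, so A is taken Noetherian here.) -/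
theorem result
    (A E : Type u) [CommRing A] [IsLocalRing A] [IsReduced A] [IsNoetherianRing A]
    [CommRing E] [IsLocalRing E] [Algebra A E] [IsLocalHom (algebraMap A E)]
    (hE : EGA4loc.IsEssentiallyEtale A E) (L : Subalgebra A (FractionRing E))
    (hL : ∀ s ∈ nonZeroDivisors A, ∃ y ∈ L, algebraMap A (FractionRing E) s * y = 1)
    (C : Subalgebra A (FractionRing E))
    (hC : C = L ⊓ (integralClosure E (FractionRing E)).restrictScalars A) :
    (∀ x ∈ L, IsIntegral C x → x ∈ C) ∧
      {N : Ideal C | N.IsMaximal}.Finite ∧
      (∀ N : Ideal C, N.IsMaximal ↔ ∃ M : Ideal ((integralClosure E (FractionRing E)).restrictScalars A),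
          M.IsMaximal ∧ N = M.comap (Subalgebra.inclusion (hC.trans_le inf_le_right))) ∧
      ∀ l ∈ L, ∃ c ∈ C, ∃ s ∈ nonZeroDivisors A, ∃ y ∈ L,
        algebraMap A (FractionRing E) s * y = 1 ∧ l = c * y := by
  classical
  obtain ⟨C₀, _, _, q, _, hEt, hq, ⟨e⟩⟩ := hE
  have : Algebra.Etale A C₀ := hEt
  have : Algebra.QuasiFinite A (Localization.AtPrime q) := inferInstance
  have : Algebra.QuasiFinite A E :=
    Algebra.QuasiFinite.of_surjective_algHom (e.symm : Localization.AtPrime q →ₐ[A] E)
      e.symm.surjective
  have : Module.Flat A (Localization.AtPrime q) := Module.Flat.trans A C₀ _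
  have : Module.Flat A E := Module.Flat.of_linearEquiv e.toLinearEquiv
  have : Algebra.FiniteType A C₀ := inferInstance
  have : IsNoetherianRing C₀ := Algebra.FiniteType.isNoetherianRing A C₀
  have : IsNoetherianRing (Localization.AtPrime q) :=
    IsLocalization.isNoetherianRing q.primeCompl _ inferInstance
  have : IsNoetherianRing E := isNoetherianRing_of_ringEquiv _ e.symm.toRingEquiv
  have : IsReduced C₀ := Groth.Agent.Lib.Helper54.isReduced_of_etale A C₀
  have : IsReduced (Localization.AtPrime q) := inferInstance
  have : IsReduced E := isReduced_of_injective e e.injective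
  have hmin : (minimalPrimes A).Finite := minimalPrimes.finite_of_isNoetherianRing A
  have hCL : C ≤ L := hC.trans_le inf_le_left
  have hCX : C ≤ (integralClosure E (FractionRing E)).restrictScalars A :=
    hC.trans_le inf_le_right
  have hCmem : ∀ x, x ∈ L → x ∈ (integralClosure E (FractionRing E)).restrictScalars A →
      x ∈ C := by
    intro x h1 h2; rw [hC]; exact ⟨h1, h2⟩
  haveI : Finite (MaximalSpectrum (integralClosure E (FractionRing E))) :=
    NormalizationSemilocal.finite_maximalSpectrum_integralClosure E
  let eX : ↥((integralClosure E (FractionRing E)).restrictScalars A) ≃+*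
      ↥(integralClosure E (FractionRing E)) :=
    { toFun := fun x => ⟨x.1, x.2⟩
      invFun := fun x => ⟨x.1, x.2⟩
      left_inv := fun _ => rfl
      right_inv := fun _ => rfl
      map_mul' := fun _ _ => rfl
      map_add' := fun _ _ => rfl }
  haveI : Finite (MaximalSpectrum ↥((integralClosure E (FractionRing E)).restrictScalars A)) :=
    NormalizationSemilocal.finite_maximalSpectrum_of_ringEquiv eX
  have hcore := NormalizationSemilocal.core (A := A) (E := E) (F := FractionRing E)
    (fun x => NormalizationSemilocal.exists_monic_aeval_mem_maximalIdeal x)
    ((integralClosure E (FractionRing E)).restrictScalars A)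
    (fun x hx => hx) (fun x => isIntegral_algebraMap)
    L (fun c hc hu => NormalizationSemilocal.exists_inv_mem_of_isUnit hmin L hL c hc hu)
    C hCL hCX hCmem
  refine ⟨?_, hcore.1, hcore.2, ?_⟩
  · intro x hxL hx
    apply hCmem x hxL
    show IsIntegral E x
    have h1 : IsIntegral (integralClosure E (FractionRing E)) x := by
      have := IsIntegral.map_of_comp_eq
        (eX.toRingHom.comp (Subalgebra.inclusion hCX : C →ₐ[A] _).toRingHom)
        (RingHom.id (FractionRing E)) (by ext c; rfl) hx
      simpa using this
    exact isIntegral_trans x h1
  · intro l hl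
    haveI := Groth.Agent.Lib.Helper98.TotalFractionEtale.isLocalization_map_nonZeroDivisors
      (A := A) hmin (E := E)
    obtain ⟨⟨e₀, ⟨_, s, hs, rfl⟩⟩, hes⟩ :=
      IsLocalization.surj ((nonZeroDivisors A).map (algebraMap A E)) l
    simp only at hes
    obtain ⟨y, hyL, hy⟩ := hL s hs
    have hs' : algebraMap E (FractionRing E) (algebraMap A E s) =
        algebraMap A (FractionRing E) s := by
      rw [← IsScalarTower.algebraMap_apply]
    rw [hs'] at hes
    refine ⟨algebraMap E (FractionRing E) e₀, ?_, s, hs, y, hyL, hy, ?_⟩
    · apply hCmem
      · rw [← hes]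
        exact mul_mem hl (L.algebraMap_mem s)
      · exact isIntegral_algebraMap
    · rw [← hes, mul_assoc, hy, mul_one]

end Groth.Agent.S16447
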