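import Groth.Statements.S16450
import Mathlib
import Groth.Agent.Lib.Helper98.NormResidueB
import Groth.Agent.Lib.Helper98.NormEssEtale
import Groth.Agent.S16439

set_option autoImplicit false
universe u
open scoped TensorProduct
open EGA4loc

namespace Groth.Agent.S16450

open IsLocalRing in
/-- Let A be an excellent reduced local ring with maximal ideal m and residue field k, S a strict
henselization of A with total ring of fractions K, and D an A-subalgebra of S which is a local ring
dominated by S (local inclusion) and whose total ring of fractions is finitely generated over that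
of A. Inside K, let A' and D' be the normalizations of A and of D: the elements of K integral over A
(resp. over D) which are carried into A (resp. into D) by the image of some non-zero-divisor of A;
so A' ⊆ D', and let ι : D → D' be the inclusion. Then D is an essentially etale local A-algebra if
and only if D' has finitely many maximal ideals and the canonical map A' ⊗_A D → D'/Rad(D') is
surjective with kernel the ideal generated by Rad(A') ⊗ D and A' ⊗ m_D — in other words the residual
field products satisfy (A'/Rad A') ⊗_k (D/m_D) ≅ D'/Rad(D') via the canonical maps. -/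
theorem result
    (A S : Type u) [CommRing A] [IsLocalRing A] [IsReduced A] (hA : EGA4.IsExcellent A)
    [CommRing S] [IsLocalRing S] [Algebra A S] [IsLocalHom (algebraMap A S)]
    [Hensel.IsStrictHenselization A S] (D : Subalgebra A S) [IsLocalRing D]
    [IsLocalHom (algebraMap D S)]
    (hfg : ∃ t : Finset (FractionRing D), ∀ x : FractionRing D, ∃ a ∈ nonZeroDivisors A,
      algebraMap A (FractionRing D) a * x ∈ Algebra.adjoin A (t : Set (FractionRing D)))
    (A' D' : Subalgebra A (FractionRing S))
    (hA' : ∀ x : (FractionRing S), x ∈ A' ↔ (IsIntegral A x ∧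
      ∃ a ∈ nonZeroDivisors A, ∃ b : A, algebraMap A (FractionRing S) a * x = algebraMap A (FractionRing S) b))
    (hD' : ∀ x : (FractionRing S), x ∈ D' ↔ (IsIntegral D x ∧
      ∃ a ∈ nonZeroDivisors A, ∃ d ∈ D, algebraMap A (FractionRing S) a * x = algebraMap S (FractionRing S) d))
    (hle : A' ≤ D') (ι : D →ₐ[A] D') (hι : ∀ d : D, (ι d : (FractionRing S)) = algebraMap S (FractionRing S) d) :
    EGA4loc.IsEssentiallyEtale A D ↔
      ({N : Ideal D' | N.IsMaximal}.Finite ∧
        Function.Surjective ((Ideal.Quotient.mkₐ A (Ideal.jacobson (⊥ : Ideal D'))).comp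
          (Algebra.TensorProduct.productMap (Subalgebra.inclusion hle) ι)) ∧
        RingHom.ker ((Ideal.Quotient.mkₐ A (Ideal.jacobson (⊥ : Ideal D'))).comp
          (Algebra.TensorProduct.productMap (Subalgebra.inclusion hle) ι)) =
          (Ideal.jacobson (⊥ : Ideal A')).map
              (Algebra.TensorProduct.includeLeft : A' →ₐ[A] A' ⊗[A] D) ⊔
            (maximalIdeal D).map
              (Algebra.TensorProduct.includeRight : D →ₐ[A] A' ⊗[A] D)) := by
  haveI : IsNoetherianRing A := hA.1
  haveI hflat : Module.Flat A S := Groth.Agent.Lib.Helper9.HensK.flat_of_isStrictHenselization A S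
  have hcov := Groth.Agent.Lib.Helper9.isEtaleCoveredFin_of_isStrictHenselization A S
  have hmin : (minimalPrimes A).Finite := minimalPrimes.finite_of_isNoetherianRing A
  constructor
  · intro hD
    exact Groth.Agent.Lib.Helper98.NormEssEtale.residue_of_isEssentiallyEtale A S D A' D'
      hA' hD' hle ι hι hD
  · rintro ⟨-, hsurj, hker⟩
    obtain ⟨t, ht⟩ := hfg
    obtain ⟨E, hDE, _, hE⟩ :=
      Groth.Agent.Lib.Helper3.FracSub.exists_le_essEtale_of_fg hmin hcov D t ht
    haveI := Groth.Agent.Lib.Helper3.FracEssEtale.quasiFinite_of_isEssentiallyEtale hE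
    haveI := Groth.Agent.Lib.Helper3.FracEssEtale.flat_of_isEssentiallyEtale hE
    have hlocE : IsLocalization (Groth.Agent.Lib.Helper3.FracEssEtale.imNZD A E) (FractionRing E) :=
      Groth.Agent.Lib.Helper3.FracEssEtale.isLocalization_fractionRing A E hmin
    have hfinE : Groth.Agent.Lib.Helper3.FracEssEtale.FinOverFrac A (FractionRing E) :=
      Groth.Agent.Lib.Helper3.FracEssEtale.finOverFrac_of_quasiFinite A E hmin _
    have hlocD : IsLocalization (Groth.Agent.Lib.Helper3.FracEssEtale.imNZD A D) (FractionRing D) :=
      Groth.Agent.Lib.Helper3.FracEssEtale.isLocalization_fractionRing_of_finOverFrac A D hmin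
        (Groth.Agent.Lib.Helper3.FracSub.imNZD_le_of_subalgebra D)
        (Groth.Agent.Lib.Helper3.FracSub.finOverFrac_of_le hmin D E hDE hlocE hfinE _)
    haveI hsh : Hensel.IsStrictHenselization D S :=
      Groth.Agent.Lib.Helper98.NormResidue.isStrictHenselization_sub_of_residue A S D A' D'
        hA' hD' hle ι hι hlocD hsurj hker
    haveI : IsNoetherianRing S :=
      (Groth.Agent.Lib.Helper9.isNoetherianRing_iff_of_isStrictHenselization A S).mp inferInstance
    haveI : IsNoetherianRing D :=
      (Groth.Agent.Lib.Helper9.isNoetherianRing_iff_of_isStrictHenselization D S).mpr inferInstance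
    haveI : Module.FaithfullyFlat D S := Groth.Agent.S0539.result D S
    have h1 : (maximalIdeal A).map (algebraMap A S) = maximalIdeal S :=
      Groth.Agent.Lib.Helper9.HensK.map_maximalIdeal_of_isStrictHenselization A S
    have h2 : (maximalIdeal D).map (algebraMap D S) = maximalIdeal S :=
      Groth.Agent.Lib.Helper9.HensK.map_maximalIdeal_of_isStrictHenselization D S
    have hm : Ideal.map (algebraMap A D) (maximalIdeal A) = maximalIdeal D := by
      rw [← Ideal.comap_map_eq_self_of_faithfullyFlat (B := S) (maximalIdeal D), h2, ← h1,
        IsScalarTower.algebraMap_eq A D S, ← Ideal.map_map,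
        Ideal.comap_map_eq_self_of_faithfullyFlat]
    exact Groth.Agent.S16439.result A S hA D ⟨t, ht⟩ hm

end Groth.Agent.S16450
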