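import Groth.Statements.S16451
import Mathlib
import Groth.Agent.Lib.Helper98.NormStrictC
import Groth.Agent.Lib.Helper98.HensInd
import Groth.Agent.Lib.Helper98.HensTower
import Groth.Agent.S0539

set_option autoImplicit false
universe u
open scoped TensorProduct
open EGA4loc

namespace Groth.Agent.S16451

open IsLocalRing in
/-- Let A be an excellent reduced local ring with maximal ideal m and residue field k, S a strict
henselization of A with total ring of fractions K, and D an A-subalgebra of S which is a local ring
dominated by S (local inclusion); let D^h be a henselization of D and θ : D^h → S the D-algebra map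
to S (the unique one, S being henselian). Inside K, let A' and D' be the normalizations of A and of
D — the elements of K integral over A (resp. over D) and carried into A (resp. into D) by the image
of some non-zero-divisor of A — so A' ⊆ D', and let ι : D → D' be the inclusion. Then θ is injective
and its image is a directed union of A-subalgebras of S which are local rings and essentially etale
local A-algebras (that is, D^h is a direct limit of local etale extensions of A) if and only if D'
has finitely many maximal ideals and the canonical map A' ⊗_A D → D'/Rad(D') is surjective with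
kernel the ideal generated by Rad(A') ⊗ D and A' ⊗ m_D (the residual field products satisfy (A'/Rad
A') ⊗_k (D/m_D) ≅ D'/Rad(D')). -/
theorem result
    (A S : Type u) [CommRing A] [IsLocalRing A] [IsReduced A] (hA : EGA4.IsExcellent A)
    [CommRing S] [IsLocalRing S] [Algebra A S] [IsLocalHom (algebraMap A S)]
    [Hensel.IsStrictHenselization A S] (D : Subalgebra A S) [IsLocalRing D]
    [IsLocalHom (algebraMap D S)]
    (Dh : Type u) [CommRing Dh] [IsLocalRing Dh] [Algebra D Dh] [IsLocalHom (algebraMap D Dh)]
    [Hensel.IsHenselization D Dh] [Algebra Dh S] [IsScalarTower D Dh S]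
    (A' D' : Subalgebra A (FractionRing S))
    (hA' : ∀ x : (FractionRing S), x ∈ A' ↔ (IsIntegral A x ∧
      ∃ a ∈ nonZeroDivisors A, ∃ b : A, algebraMap A (FractionRing S) a * x = algebraMap A (FractionRing S) b))
    (hD' : ∀ x : (FractionRing S), x ∈ D' ↔ (IsIntegral D x ∧
      ∃ a ∈ nonZeroDivisors A, ∃ d ∈ D, algebraMap A (FractionRing S) a * x = algebraMap S (FractionRing S) d))
    (hle : A' ≤ D') (ι : D →ₐ[A] D') (hι : ∀ d : D, (ι d : (FractionRing S)) = algebraMap S (FractionRing S) d) :
    (Function.Injective (algebraMap Dh S) ∧
        ∀ s : Finset S, (s : Set S) ⊆ Set.range (algebraMap Dh S) →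
          ∃ E : Subalgebra A S, (s : Set S) ⊆ (E : Set S) ∧ (E : Set S) ⊆ Set.range (algebraMap Dh S) ∧
            ∃ _ : IsLocalRing E, EGA4loc.IsEssentiallyEtale A E) ↔
      ({N : Ideal D' | N.IsMaximal}.Finite ∧
        Function.Surjective ((Ideal.Quotient.mkₐ A (Ideal.jacobson (⊥ : Ideal D'))).comp
          (Algebra.TensorProduct.productMap (Subalgebra.inclusion hle) ι)) ∧
        RingHom.ker ((Ideal.Quotient.mkₐ A (Ideal.jacobson (⊥ : Ideal D'))).comp
          (Algebra.TensorProduct.productMap (Subalgebra.inclusion hle) ι)) =
          (Ideal.jacobson (⊥ : Ideal A')).map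
              (Algebra.TensorProduct.includeLeft : A' →ₐ[A] A' ⊗[A] D) ⊔
            (maximalIdeal D).map
              (Algebra.TensorProduct.includeRight : D →ₐ[A] A' ⊗[A] D)) := by
  haveI : IsNoetherianRing A := hA.1
  haveI hflat : Module.Flat A S := Groth.Agent.Lib.Helper9.HensK.flat_of_isStrictHenselization A S
  have hcov := Groth.Agent.Lib.Helper9.isEtaleCoveredFin_of_isStrictHenselization A S
  constructor
  · rintro ⟨hinj, hE⟩
    haveI : Hensel.IsStrictHenselization D S :=
      Groth.Agent.Lib.Helper98.HensInd.isStrictHenselization_of_indEssEtale A S D Dh hinj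
        (fun x => by
          obtain ⟨E, hsE, hEr, _, hEss⟩ := hE {algebraMap Dh S x} (by simp)
          exact ⟨E, hsE (by simp), hEr, hEss⟩)
    exact Groth.Agent.Lib.Helper98.NormStrict.residue_of_isStrictHenselization A S D A' D'
      hA' hD' hle ι hι
  · rintro ⟨-, hsurj, hker⟩
    haveI : Hensel.IsStrictHenselization D S :=
      Groth.Agent.Lib.Helper98.NormStrict.isStrictHenselization_of_residue A S D A' D'
        hA' hD' hle ι hι hsurj hker
    haveI : IsLocalHom (algebraMap Dh S) :=
      Groth.Agent.Lib.Helper98.HensTower.isLocalHom_algebraMap D Dh S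
    haveI : Hensel.IsStrictHenselization Dh S :=
      Groth.Agent.Lib.Helper98.HensTower.isStrictHenselization_of_tower D Dh S
    haveI : Module.FaithfullyFlat Dh S := Groth.Agent.S0539.result Dh S
    refine ⟨FaithfulSMul.algebraMap_injective Dh S, ?_⟩
    intro s hs
    letI : Algebra A Dh := ((algebraMap D Dh).comp (algebraMap A D)).toAlgebra
    haveI : IsScalarTower A Dh S := IsScalarTower.of_algebraMap_eq (fun a => by
      change algebraMap A S a = algebraMap Dh S (algebraMap D Dh (algebraMap A D a))
      rw [← IsScalarTower.algebraMap_apply D Dh S]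
      rfl)
    haveI : HenselianLocalRing Dh := (inferInstance : Hensel.IsHenselization D Dh).henselian
    exact Groth.Agent.Lib.Helper98.HensInd.exists_essEtale_of_finset Dh hcov s hs

end Groth.Agent.S16451
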