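import Groth.Statements.S16452
import Mathlib.RingTheory.Ideal.Quotient.PowTransition
set_option autoImplicit false
universe u
open CAlg

namespace Groth.Agent.S16452

open AssocGr Polynomial

section

variable (R : Type u) [CommRing R] {S : Type u} [CommRing S] [Algebra R S] (J : Ideal S)

/-- the map `R ⧸ I ^ N → S ⧸ J`. -/
noncomputable def gMap (N : ℕ) (hN : N ≠ 0) :
    (R ⧸ (J.comap (algebraMap R S)) ^ N) →ₐ[R] S ⧸ J :=
  Ideal.Quotient.liftₐ _ (Algebra.ofId R (S ⧸ J)) (by
    intro a ha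
    have ha' : a ∈ J.comap (algebraMap R S) := Ideal.pow_le_self hN ha
    rw [Ideal.mem_comap] at ha'
    change algebraMap R (S ⧸ J) a = 0
    rw [IsScalarTower.algebraMap_apply R S (S ⧸ J), Ideal.Quotient.algebraMap_eq,
      Ideal.Quotient.eq_zero_iff_mem]
    exact ha')

lemma gMap_mk (N : ℕ) (hN : N ≠ 0) (r : R) :
    gMap R J N hN (Ideal.Quotient.mk _ r) = Ideal.Quotient.mk J (algebraMap R S r) := by
  change algebraMap R (S ⧸ J) r = _
  rw [IsScalarTower.algebraMap_apply R S (S ⧸ J), Ideal.Quotient.algebraMap_eq]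

lemma ker_gMap (N : ℕ) (hN : N ≠ 0) :
    RingHom.ker (gMap R J N hN : (R ⧸ (J.comap (algebraMap R S)) ^ N) →+* S ⧸ J) =
      (J.comap (algebraMap R S)).map (Ideal.Quotient.mk _) := by
  ext x
  obtain ⟨r, rfl⟩ := Ideal.Quotient.mk_surjective x
  rw [RingHom.mem_ker, RingHom.coe_coe, gMap_mk, Ideal.Quotient.eq_zero_iff_mem]
  constructor
  · intro h
    exact Ideal.mem_map_of_mem _ (Ideal.mem_comap.mpr h)
  · intro h
    rw [Ideal.mem_map_iff_of_surjective _ Ideal.Quotient.mk_surjective] at h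
    obtain ⟨a, ha, hab⟩ := h
    rw [Ideal.Quotient.eq] at hab
    have h1 : a - r ∈ J.comap (algebraMap R S) := Ideal.pow_le_self hN hab
    have h2 : r ∈ J.comap (algebraMap R S) := by
      have : r = a - (a - r) := by ring
      rw [this]
      exact Ideal.sub_mem _ ha h1
    exact h2

lemma ker_gMap_nilpotent (N : ℕ) (hN : N ≠ 0) :
    IsNilpotent (RingHom.ker (gMap R J N hN : (R ⧸ (J.comap (algebraMap R S)) ^ N) →+* S ⧸ J)) := by
  rw [ker_gMap R]
  refine ⟨N, ?_⟩
  rw [← Ideal.map_pow, Ideal.zero_eq_bot, Ideal.map_quotient_self]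

variable (hJ : Function.Surjective (algebraMap R (S ⧸ J)))

include hJ in
lemma gMap_surjective (N : ℕ) (hN : N ≠ 0) : Function.Surjective (gMap R J N hN) := by
  intro y
  obtain ⟨r, rfl⟩ := hJ y
  exact ⟨Ideal.Quotient.mk _ r, rfl⟩

variable [Algebra.FormallyEtale R S]

/-- the section `S → R ⧸ I ^ N`. -/
noncomputable def sec (N : ℕ) (hN : N ≠ 0) : S →ₐ[R] (R ⧸ (J.comap (algebraMap R S)) ^ N) :=
  Algebra.FormallySmooth.liftOfSurjective (Ideal.Quotient.mkₐ R J) (gMap R J N hN)
    (gMap_surjective R J hJ N hN) (ker_gMap_nilpotent R J N hN)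

lemma gMap_sec (N : ℕ) (hN : N ≠ 0) (s : S) :
    gMap R J N hN (sec R J hJ N hN s) = Ideal.Quotient.mk J s :=
  Algebra.FormallySmooth.liftOfSurjective_apply _ _ _ _ s

lemma sec_algebraMap (N : ℕ) (hN : N ≠ 0) (r : R) :
    sec R J hJ N hN (algebraMap R S r) = Ideal.Quotient.mk _ r :=
  (sec R J hJ N hN).commutes r

lemma sec_mem (N : ℕ) (hN : N ≠ 0) (k : ℕ) (s : S) (hs : s ∈ J ^ k) :
    sec R J hJ N hN s ∈ ((J.comap (algebraMap R S)) ^ k).map (Ideal.Quotient.mk _) := by
  have h1 : J ≤ ((J.comap (algebraMap R S)).map (Ideal.Quotient.mk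
      ((J.comap (algebraMap R S)) ^ N))).comap (sec R J hJ N hN : S →+* _) := by
    intro t ht
    rw [Ideal.mem_comap, ← ker_gMap R J N hN, RingHom.mem_ker, RingHom.coe_coe, RingHom.coe_coe,
      gMap_sec R, Ideal.Quotient.eq_zero_iff_mem]
    exact ht
  have h2 := Ideal.pow_right_mono h1 k hs
  have h3 := Ideal.le_comap_pow _ k h2
  rw [Ideal.mem_comap, ← Ideal.map_pow] at h3
  exact h3

/-- the map `R ⧸ I ^ N → S ⧸ J ^ N`. -/
noncomputable def piMap (N : ℕ) :
    (R ⧸ (J.comap (algebraMap R S)) ^ N) →ₐ[R] S ⧸ J ^ N :=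
  Ideal.Quotient.liftₐ _ (Algebra.ofId R (S ⧸ J ^ N)) (by
    intro a ha
    change algebraMap R (S ⧸ J ^ N) a = 0
    rw [IsScalarTower.algebraMap_apply R S (S ⧸ J ^ N), Ideal.Quotient.algebraMap_eq,
      Ideal.Quotient.eq_zero_iff_mem]
    have := Ideal.mem_map_of_mem (algebraMap R S) ha
    rw [Ideal.map_pow] at this
    exact Ideal.pow_right_mono Ideal.map_comap_le N this)

omit [Algebra.FormallyEtale R S] in
lemma piMap_mk (N : ℕ) (r : R) :
    piMap R J N (Ideal.Quotient.mk _ r) = Ideal.Quotient.mk (J ^ N) (algebraMap R S r) := by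
  change algebraMap R (S ⧸ J ^ N) r = _
  rw [IsScalarTower.algebraMap_apply R S (S ⧸ J ^ N), Ideal.Quotient.algebraMap_eq]

lemma piMap_sec (N : ℕ) (hN : N ≠ 0) (s : S) :
    piMap R J N (sec R J hJ N hN s) = Ideal.Quotient.mk (J ^ N) s := by
  have key : (piMap R J N).comp (sec R J hJ N hN) = Ideal.Quotient.mkₐ R (J ^ N) := by
    refine Algebra.FormallyUnramified.ext' (Ideal.Quotient.factor (Ideal.pow_le_self hN))
      ?_ _ _ ?_
    · refine ⟨N, ?_⟩
      rw [Ideal.Quotient.factor_ker, ← Ideal.map_pow, Ideal.zero_eq_bot, Ideal.map_quotient_self]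
    · intro s
      have e : ∀ y, Ideal.Quotient.factor (Ideal.pow_le_self hN) (piMap R J N y) =
          gMap R J N hN y := by
        intro y
        obtain ⟨r, rfl⟩ := Ideal.Quotient.mk_surjective y
        rw [piMap_mk, gMap_mk, Ideal.Quotient.factor_mk]
      rw [AlgHom.comp_apply, e, gMap_sec, Ideal.Quotient.mkₐ_eq_mk, Ideal.Quotient.factor_mk]
  exact AlgHom.congr_fun key s

include hJ in
/-- injectivity in each degree -/
lemma inj_step (n : ℕ) (a : R) (ha : algebraMap R S a ∈ J ^ (n + 1)) :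
    a ∈ (J.comap (algebraMap R S)) ^ (n + 1) := by
  have h1 := sec_mem R J hJ (n + 1) (Nat.succ_ne_zero n) (n + 1) _ ha
  rw [sec_algebraMap, Ideal.map_quotient_self, Ideal.mem_bot, Ideal.Quotient.eq_zero_iff_mem] at h1
  exact h1

include hJ in
/-- surjectivity in each degree -/
lemma surj_step (n : ℕ) (b : S) (hb : b ∈ J ^ n) :
    ∃ a ∈ (J.comap (algebraMap R S)) ^ n, algebraMap R S a - b ∈ J ^ (n + 1) := by
  have h1 := sec_mem R J hJ (n + 1) (Nat.succ_ne_zero n) n b hb
  rw [Ideal.mem_map_iff_of_surjective _ Ideal.Quotient.mk_surjective] at h1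
  obtain ⟨a, ha, hab⟩ := h1
  refine ⟨a, ha, ?_⟩
  have h2 := piMap_sec R J hJ (n + 1) (Nat.succ_ne_zero n) b
  rw [← hab, piMap_mk, Ideal.Quotient.eq] at h2
  exact h2

end

/-- Let R → S be formally étale and J an ideal of S such that the composite R → S → S/J is surjective;
let I ⊆ R be its kernel, the preimage of J in R. Then the homomorphism of associated graded rings ⊕ₙ
Iⁿ/Iⁿ⁺¹ → ⊕ₙ Jⁿ/Jⁿ⁺¹ induced by R → S (which carries I into J) is bijective. -/
theorem result (R : Type u) [CommRing R] (S : Type u)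
    [CommRing S] [Algebra R S] [Algebra.FormallyEtale R S] (J : Ideal S)
    (hJ : Function.Surjective (algebraMap R (S ⧸ J))) :
    Function.Bijective (AssocGr.map (AssocGr.IsFiltHom.adic
      (Ideal.map_comap_le : (J.comap (algebraMap R S)).map (algebraMap R S) ≤ J))) := by
  set h := (AssocGr.IsFiltHom.adic
      (Ideal.map_comap_le : (J.comap (algebraMap R S)).map (algebraMap R S) ≤ J)) with hh
  constructor
  · rw [injective_iff_map_eq_zero]
    intro x hx
    obtain ⟨f, rfl⟩ := mkG_surjective _ x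
    rw [map_mkG, mkG_eq_zero_iff, mem_succIdeal_iff] at hx
    rw [mkG_eq_zero_iff, mem_succIdeal_iff]
    intro n
    have := hx n
    rw [coe_reesMap, coeff_map] at this
    exact inj_step R J hJ n _ this
  · intro y
    obtain ⟨g, rfl⟩ := mkG_surjective _ y
    have key : ∀ n, ∃ x, AssocGr.map h x = mkG _ (term _ g n) := by
      intro n
      rw [mkG_term]
      obtain ⟨a, ha, hab⟩ := surj_step R J hJ n _ (g.2 n)
      refine ⟨(inDeg (FiltBl.IdealFiltration.adic (J.comap (algebraMap R S))) n ⟨a, ha⟩ :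
        GrRing _), ?_⟩
      rw [map_inDeg, ← sub_eq_zero, ← Submodule.coe_sub, ← map_sub, Submodule.coe_eq_zero,
        inDeg_eq_zero_iff]
      exact hab
    choose x hx using key
    refine ⟨∑ n ∈ ((g : S[X])).support, x n, ?_⟩
    rw [map_sum]
    conv_rhs => rw [← sum_term _ g, map_sum]
    exact Finset.sum_congr rfl fun n _ => hx n

end Groth.Agent.S16452
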