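import Groth.Statements.S16453
set_option autoImplicit false
universe u
open AdicGr

namespace Groth.Agent.S16453

open AssocGr Polynomial

section

variable {A : Type u} [CommRing A] (I : Ideal A)

lemma val_algebraMap (a : A) (n : ℕ) :
    (algebraMap A (AdicCompletion I A) a).val n = Submodule.Quotient.mk a := by
  rw [AdicCompletion.algebraMap_apply, Algebra.algebraMap_self, RingHom.id_apply,
    AdicCompletion.of_apply, Submodule.mkQ_apply]

lemma algebraMap_mem_iff (a : A) (n : ℕ) :
    algebraMap A (AdicCompletion I A) a ∈ (kerFilt I).F n ↔ a ∈ I ^ n := by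
  rw [mem_kerFilt_iff_val, val_algebraMap, Submodule.Quotient.mk_eq_zero]
  change a ∈ (I ^ n • ⊤ : Ideal A) ↔ _
  rw [pow_smul_top]

lemma exists_approx (n : ℕ) (b : AdicCompletion I A) (hb : b ∈ (kerFilt I).F n) :
    ∃ a ∈ I ^ n, algebraMap A (AdicCompletion I A) a - b ∈ (kerFilt I).F (n + 1) := by
  obtain ⟨a, ha⟩ := Submodule.Quotient.mk_surjective _ (b.val (n + 1))
  have h1 : algebraMap A (AdicCompletion I A) a - b ∈ (kerFilt I).F (n + 1) := by
    rw [mem_kerFilt_iff_val, AdicCompletion.val_sub_apply, val_algebraMap, ha, sub_self]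
  refine ⟨a, ?_, h1⟩
  rw [← algebraMap_mem_iff]
  have : algebraMap A (AdicCompletion I A) a = (algebraMap A (AdicCompletion I A) a - b) + b := by
    ring
  rw [this]
  exact Ideal.add_mem _ ((kerFilt I).antitone (Nat.le_succ n) h1) hb

lemma injective_map : Function.Injective (AssocGr.map (AssocGr.isFiltHom_kerFilt I)) := by
  rw [injective_iff_map_eq_zero]
  intro x hx
  obtain ⟨f, rfl⟩ := mkG_surjective _ x
  rw [map_mkG, mkG_eq_zero_iff, mem_succIdeal_iff] at hx
  rw [mkG_eq_zero_iff, mem_succIdeal_iff]
  intro n
  have := hx n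
  rw [coe_reesMap, coeff_map, algebraMap_mem_iff] at this
  exact this

lemma surjective_map : Function.Surjective (AssocGr.map (AssocGr.isFiltHom_kerFilt I)) := by
  intro y
  obtain ⟨g, rfl⟩ := mkG_surjective _ y
  have key : ∀ n, ∃ x, AssocGr.map (AssocGr.isFiltHom_kerFilt I) x = mkG _ (term _ g n) := by
    intro n
    rw [mkG_term]
    obtain ⟨a, ha, hab⟩ := exists_approx I n _ (g.2 n)
    refine ⟨(inDeg (FiltBl.IdealFiltration.adic I) n ⟨a, ha⟩ : GrRing _), ?_⟩
    rw [map_inDeg, ← sub_eq_zero, ← Submodule.coe_sub, ← map_sub, Submodule.coe_eq_zero,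
      inDeg_eq_zero_iff]
    exact hab
  choose x hx using key
  refine ⟨∑ n ∈ ((g : (AdicCompletion I A)[X])).support, x n, ?_⟩
  rw [map_sum]
  conv_rhs => rw [← sum_term _ g, map_sum]
  exact Finset.sum_congr rfl fun n _ => hx n

end

/-- Let A be a commutative ring, I an ideal and Â the I-adic completion, filtered by the kernels Âₙ of
the projections Â → A/Iⁿ. Then the homomorphism of associated graded rings ⊕ₙ Iⁿ/Iⁿ⁺¹ → ⊕ₙ Âₙ/Âₙ₊₁
induced by the canonical map A → Â is bijective. No hypothesis on A or I is needed. (The published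
statement is for an arbitrary filtered ring and also asserts the analogous isomorphism for a
compatibly filtered module; this row is the ring assertion for the filtration by the powers of one
ideal.) -/
theorem result (A : Type u) [CommRing A] (I : Ideal A) :
    Function.Bijective (AssocGr.map (AssocGr.isFiltHom_kerFilt I)) := by
  exact ⟨injective_map I, surjective_map I⟩

end Groth.Agent.S16453
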