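import Groth.Statements.S16454
import Mathlib.RingTheory.Flat.Tensor
import Mathlib.LinearAlgebra.TensorProduct.RightExactness
import Mathlib.LinearAlgebra.TensorProduct.Finiteness
set_option autoImplicit false
universe u
open TensorProduct
open EGA43

namespace Groth.Agent.S16454

open AssocGr LinearMap

section General

variable {A : Type u} [CommRing A] (I : Ideal A) (M : Type u) [AddCommGroup M] [Module A M]

/-- T2: for `Q` killed by `I`, `Q ⊗ M → Q ⊗ M/IM` is injective. -/
lemma lTensor_mkQ_injective (Q : Type u) [AddCommGroup Q] [Module A Q]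
    (hQ : ∀ a ∈ I, ∀ q : Q, a • q = 0) :
    Function.Injective (lTensor Q (I • (⊤ : Submodule A M)).mkQ) := by
  have hex := lTensor_exact Q (LinearMap.exact_subtype_mkQ (I • (⊤ : Submodule A M)))
    (Submodule.mkQ_surjective _)
  have hzero : lTensor Q (I • (⊤ : Submodule A M)).subtype = 0 := by
    apply TensorProduct.ext'
    rintro q ⟨y, hy⟩
    rw [lTensor_tmul, LinearMap.zero_apply, Submodule.subtype_apply]
    change q ⊗ₜ[A] y = 0
    refine Submodule.smul_induction_on (p := fun y => q ⊗ₜ[A] y = 0) hy ?_ ?_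
    · intro a ha m _
      rw [← TensorProduct.smul_tmul, hQ a ha, TensorProduct.zero_tmul]
    · intro y z hy hz
      rw [TensorProduct.tmul_add, hy, hz, add_zero]
  rw [injective_iff_map_eq_zero]
  intro z hz
  obtain ⟨w, rfl⟩ := (hex z).mp hz
  rw [hzero, LinearMap.zero_apply]

/-- T3 abstract: tensoring an injective map of `B`-modules with a flat `B`-module, over `A → B`
surjective. -/
lemma rTensor_injective_of_surjective (B : Type u) [CommRing B] [Algebra A B]
    (hB : Function.Surjective (algebraMap A B))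
    (X X' N : Type u) [AddCommGroup X] [AddCommGroup X'] [AddCommGroup N]
    [Module A X] [Module A X'] [Module A N] [Module B X] [Module B X'] [Module B N]
    [IsScalarTower A B X] [IsScalarTower A B X'] [IsScalarTower A B N] [Module.Flat B N]
    (j : X →ₗ[A] X') (hj : Function.Injective j) :
    Function.Injective (rTensor N j) := by
  have : CompatibleSMul A B X N := .of_algebraMap_surjective _ _ hB
  have : CompatibleSMul A B X' N := .of_algebraMap_surjective _ _ hB
  let jB : X →ₗ[B] X' := j.extendScalarsOfSurjective hB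
  have hjB : Function.Injective (rTensor N jB) :=
    Module.Flat.rTensor_preserves_injective_linearMap jB hj
  let e := TensorProduct.equivOfCompatibleSMul A B A X N
  let e' := TensorProduct.equivOfCompatibleSMul A B A X' N
  have hcomm : ∀ w, rTensor N j (e w) = e' (rTensor N jB w) := by
    intro w
    induction w using TensorProduct.induction_on with
    | zero => simp
    | tmul x n => rfl
    | add w w' hw hw' => rw [map_add, map_add, hw, hw', map_add, map_add]
  rw [injective_iff_map_eq_zero]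
  intro z hz
  obtain ⟨w, rfl⟩ := e.surjective z
  rw [hcomm] at hz
  have : rTensor N jB w = 0 := e'.injective (by rw [hz, map_zero])
  rw [(injective_iff_map_eq_zero _).mp hjB w this, map_zero]

/-- T3 concrete. -/
lemma rTensor_injective_of_torsion (X X' : Type u) [AddCommGroup X] [AddCommGroup X']
    [Module A X] [Module A X']
    (hX : Module.IsTorsionBySet A X (I : Set A)) (hX' : Module.IsTorsionBySet A X' (I : Set A))
    (hflat : Module.Flat (A ⧸ I) (M ⧸ I • (⊤ : Submodule A M)))
    (j : X →ₗ[A] X') (hj : Function.Injective j) :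
    Function.Injective (rTensor (M ⧸ I • (⊤ : Submodule A M)) j) := by
  let _ := hX.module
  let _ := hX'.module
  exact rTensor_injective_of_surjective (A ⧸ I) Ideal.Quotient.mk_surjective X X' _ j hj

lemma N0_eq_top : (Rees.powFilt I M).N 0 = ⊤ := by
  change I ^ 0 • (⊤ : Submodule A M) = ⊤
  rw [pow_zero, Ideal.one_eq_top, Submodule.top_smul]

/-- the hypothesis in a usable form. -/
def HInj : Prop :=
  ∀ (n : ℕ) {ι : Type u} (T : Finset ι) (a : ι → ↥((FiltBl.IdealFiltration.adic I).F n))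
    (x : ι → M), (∑ t ∈ T, (a t : A) • x t) ∈ I ^ (n + 1) • (⊤ : Submodule A M) →
    (∑ t ∈ T, (AssocGr.inDeg (FiltBl.IdealFiltration.adic I) n (a t)) ⊗ₜ[A]
      (Submodule.Quotient.mk (x t) : M ⧸ (I • (⊤ : Submodule A M)))) = 0

lemma hInj_of (hinj : ∀ (n k : ℕ) (a : Fin k → ↥((FiltBl.IdealFiltration.adic I).F n))
      (x : Fin k → ↥((Rees.powFilt I M).N 0)),
      (∑ i, (AssocGr.inDeg (FiltBl.IdealFiltration.adic I) n (a i) :
          AssocGr.GrRing (FiltBl.IdealFiltration.adic I)) •
        (AssocGr.inDegM (Rees.powFilt I M) 0 (x i) : AssocGr.GrMod (Rees.powFilt I M))) = 0 →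
      (∑ i, (AssocGr.inDeg (FiltBl.IdealFiltration.adic I) n (a i)) ⊗ₜ[A]
          (Submodule.Quotient.mk (x i : M)) :
        ↥(AssocGr.gr (FiltBl.IdealFiltration.adic I) n) ⊗[A] (M ⧸ (I • (⊤ : Submodule A M)))) = 0) :
    HInj I M := by
  intro n ι T a x h
  classical
  let e := T.equivFin
  have hx0 : ∀ m : M, m ∈ (Rees.powFilt I M).N 0 := fun m => by rw [N0_eq_top]; trivial
  have key := hinj n T.card (fun i => a (e.symm i)) (fun i => ⟨x (e.symm i), hx0 _⟩) ?_
  · rw [← Finset.sum_coe_sort T]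
    rw [← key]
    exact Fintype.sum_equiv e _ _ fun t => by simp
  · have h1 : ∀ i : Fin T.card,
        (AssocGr.inDeg (FiltBl.IdealFiltration.adic I) n (a (e.symm i)) :
          AssocGr.GrRing (FiltBl.IdealFiltration.adic I)) •
        (AssocGr.inDegM (Rees.powFilt I M) 0 ⟨x (e.symm i), hx0 _⟩ :
          AssocGr.GrMod (Rees.powFilt I M)) = _ :=
      fun i => inDeg_smul_inDegM (Rees.powFilt I M) n 0 (a (e.symm i)) ⟨x (e.symm i), hx0 _⟩
    rw [Finset.sum_congr rfl fun i _ => h1 i, ← AddSubmonoidClass.coe_finsetSum, ← map_sum,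
      ZeroMemClass.coe_eq_zero, inDegM_eq_zero_iff, Submodule.coe_sum]
    change (∑ i : Fin T.card, (a (e.symm i) : A) • x (e.symm i)) ∈ I ^ (n + 1) • (⊤ : Submodule A M)
    rw [← Finset.sum_coe_sort T] at h
    convert h using 1
    exact (Fintype.sum_equiv e _ _ fun t => by simp).symm

lemma gr_torsion (n : ℕ) :
    Module.IsTorsionBySet A ↥(AssocGr.gr (FiltBl.IdealFiltration.adic I) n) (I : Set A) := by
  intro g a
  obtain ⟨b, rfl⟩ := inDeg_surjective (FiltBl.IdealFiltration.adic I) n g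
  change (a : A) • inDeg (FiltBl.IdealFiltration.adic I) n b = 0
  rw [← map_smul, inDeg_eq_zero_iff]
  change (a : A) * (b : A) ∈ I ^ (n + 1)
  rw [pow_succ']
  exact Ideal.mul_mem_mul a.2 b.2

/-- the inductive step. -/
lemma step (hflat : Module.Flat (A ⧸ I) (M ⧸ (I • (⊤ : Submodule A M)))) (hinj : HInj I M) (n : ℕ)
    (ih : ∀ K' : Ideal A, K' ≤ I ^ (n + 1) → Function.Injective (rTensor M K'.subtype))
    (K : Ideal A) (hK : K ≤ I ^ n) : Function.Injective (rTensor M K.subtype) := by
  set K' : Ideal A := K ⊓ I ^ (n + 1) with hK'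
  have hle : K' ≤ K := inf_le_left
  let ι' : ↥K' →ₗ[A] ↥K := Submodule.inclusion hle
  let R' : Submodule A ↥K := LinearMap.range ι'
  let π : ↥K →ₗ[A] ↥K ⧸ R' := R'.mkQ
  have hex : Function.Exact ι' π := LinearMap.exact_map_mkQ_range ι'
  have hπ : Function.Surjective π := Submodule.mkQ_surjective _
  let incl : ↥K →ₗ[A] ↥((FiltBl.IdealFiltration.adic I).F n) := Submodule.inclusion hK
  let toG : ↥K →ₗ[A] ↥(AssocGr.gr (FiltBl.IdealFiltration.adic I) n) :=
    (inDeg (FiltBl.IdealFiltration.adic I) n) ∘ₗ incl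
  have htoG : ∀ y : ↥K, toG y = 0 ↔ (y : A) ∈ I ^ (n + 1) := fun y =>
    inDeg_eq_zero_iff (FiltBl.IdealFiltration.adic I) n (incl y)
  have hker : R' ≤ LinearMap.ker toG := by
    rintro _ ⟨y', rfl⟩
    rw [LinearMap.mem_ker, htoG]
    exact y'.2.2
  let j : (↥K ⧸ R') →ₗ[A] ↥(AssocGr.gr (FiltBl.IdealFiltration.adic I) n) := R'.liftQ toG hker
  have hj : Function.Injective j := by
    rw [← LinearMap.ker_eq_bot]
    refine Submodule.ker_liftQ_eq_bot _ _ _ fun y hy => ?_
    rw [LinearMap.mem_ker, htoG] at hy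
    exact ⟨⟨y, ⟨y.2, hy⟩⟩, rfl⟩
  have hQ : Module.IsTorsionBySet A (↥K ⧸ R') (I : Set A) := by
    intro q a
    obtain ⟨y, rfl⟩ := Submodule.mkQ_surjective R' q
    change (a : A) • R'.mkQ y = 0
    rw [← map_smul, Submodule.mkQ_apply, Submodule.Quotient.mk_eq_zero]
    refine ⟨⟨(a : A) • (y : A), ⟨K.mul_mem_left _ y.2, ?_⟩⟩, rfl⟩
    rw [pow_succ', smul_eq_mul]
    exact Ideal.mul_mem_mul a.2 (hK y.2)
  rw [injective_iff_map_eq_zero]
  intro ξ hξ
  obtain ⟨T, hT⟩ := TensorProduct.exists_finset ξ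
  have hsum : ∑ t ∈ T, ((t.1 : ↥K) : A) • t.2 = 0 := by
    have := congrArg (TensorProduct.lid A M) hξ
    rw [hT, map_sum, map_sum, map_zero] at this
    simpa using this
  have h0 : rTensor (M ⧸ (I • (⊤ : Submodule A M))) j
      (lTensor (↥K ⧸ R') (I • (⊤ : Submodule A M)).mkQ (rTensor M π ξ)) = 0 := by
    rw [hT, map_sum, map_sum, map_sum]
    simp only [rTensor_tmul, lTensor_tmul]
    refine hinj n T (fun t => incl t.1) (fun t => t.2) ?_
    have : ∑ t ∈ T, ((incl t.1 : ↥((FiltBl.IdealFiltration.adic I).F n)) : A) • t.2 = 0 := hsum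
    rw [this]
    exact Submodule.zero_mem _
  have h1 : lTensor (↥K ⧸ R') (I • (⊤ : Submodule A M)).mkQ (rTensor M π ξ) = 0 :=
    (injective_iff_map_eq_zero _).mp
      (rTensor_injective_of_torsion I M _ _ hQ (gr_torsion I n) hflat j hj) _ h0
  have h2 : rTensor M π ξ = 0 :=
    (injective_iff_map_eq_zero _).mp
      (lTensor_mkQ_injective I M (↥K ⧸ R') fun a ha q => @hQ q ⟨a, ha⟩) _ h1
  obtain ⟨ξ', rfl⟩ := (rTensor_exact M hex hπ ξ).mp h2
  have h3 : rTensor M K'.subtype ξ' = 0 := by
    rw [← hξ, ← LinearMap.comp_apply, ← LinearMap.rTensor_comp]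
    rfl
  rw [(injective_iff_map_eq_zero _).mp (ih K' inf_le_right) ξ' h3, map_zero]

lemma base (n : ℕ) (hn : I ^ n = ⊥) (K : Ideal A) (hK : K ≤ I ^ n) :
    Function.Injective (rTensor M K.subtype) := by
  have hK0 : ∀ y : ↥K, y = 0 := by
    intro y
    have := hK y.2
    rw [hn, Ideal.mem_bot] at this
    exact Subtype.ext this
  have : ∀ z : ↥K ⊗[A] M, z = 0 := by
    intro z
    induction z using TensorProduct.induction_on with
    | zero => rfl
    | tmul y m => rw [hK0 y, TensorProduct.zero_tmul]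
    | add z w hz hw => rw [hz, hw, add_zero]
  intro z w _
  rw [this z, this w]

end General

/-- Let A be a commutative ring, I a nilpotent ideal of A and M an A-module, and form the associated
graded ring G = ⊕ₙ Iⁿ/Iⁿ⁺¹ and the associated graded G-module gr_I(M) = ⊕ₙ IⁿM/Iⁿ⁺¹M. Assume that
M/IM is flat over A/I and that the canonical homomorphism (M/IM) ⊗ G → gr_I(M), [x] ⊗ [a] ↦ [a·x],
is injective: degree by degree, whenever elements a_i ∈ Iⁿ and x_i ∈ M satisfy Σ_i [a_i]·[x_i] = 0
in gr_I(M) (that is Σ a_i x_i ∈ Iⁿ⁺¹M), the element Σ_i [a_i] ⊗ [x_i] of (Iⁿ/Iⁿ⁺¹) ⊗ (M/IM) is zero.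
Then M is a flat A-module. (The published lemma is stated for any finite decreasing multiplicative
filtration A = J₀ ⊇ J₁ ⊇ … ⊇ J_N₊₁ = 0 of A with M filtered by the submodules JₙM; this row is its
case Jₙ = Iⁿ.) -/
theorem result (A : Type u) [CommRing A] (I : Ideal A)
    (hI : IsNilpotent I) (M : Type u) [AddCommGroup M] [Module A M]
    (hflat : Module.Flat (A ⧸ I) (M ⧸ (I • (⊤ : Submodule A M))))
    (hinj : ∀ (n k : ℕ) (a : Fin k → ↥((FiltBl.IdealFiltration.adic I).F n))
      (x : Fin k → ↥((Rees.powFilt I M).N 0)),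
      (∑ i, (AssocGr.inDeg (FiltBl.IdealFiltration.adic I) n (a i) :
          AssocGr.GrRing (FiltBl.IdealFiltration.adic I)) •
        (AssocGr.inDegM (Rees.powFilt I M) 0 (x i) : AssocGr.GrMod (Rees.powFilt I M))) = 0 →
      (∑ i, (AssocGr.inDeg (FiltBl.IdealFiltration.adic I) n (a i)) ⊗ₜ[A]
          (Submodule.Quotient.mk (x i : M)) :
        ↥(AssocGr.gr (FiltBl.IdealFiltration.adic I) n) ⊗[A] (M ⧸ (I • (⊤ : Submodule A M)))) = 0) :
    Module.Flat A M := by
  have hH := hInj_of I M hinj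
  obtain ⟨N, hN⟩ := hI
  rw [Ideal.zero_eq_bot] at hN
  have key : ∀ d n : ℕ, N ≤ n + d → ∀ K : Ideal A, K ≤ I ^ n →
      Function.Injective (LinearMap.rTensor M K.subtype) := by
    intro d
    induction d with
    | zero =>
      intro n hn K hK
      refine base I M n ?_ K hK
      rw [eq_bot_iff, ← hN]
      exact Ideal.pow_le_pow_right (by omega)
    | succ d ih =>
      intro n hn K hK
      exact step I M hflat hH n (fun K' hK' => ih (n + 1) (by omega) K' hK') K hK
  rw [Module.Flat.iff_rTensor_injective']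
  intro 𝔞
  exact key N 0 (by omega) 𝔞 (by rw [pow_zero, Ideal.one_eq_top]; exact le_top)

end Groth.Agent.S16454
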