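import Groth.Statements.S16456
set_option autoImplicit false
universe u
open AdicGr

namespace Groth.Agent.S16456

open AssocGr Polynomial

section

variable {A : Type u} [CommRing A] {B : Type u} [CommRing B] {φ : A →+* B} {I : Ideal A}
  {J : Ideal B} (hIJ : I.map φ ≤ J)

lemma step1 (h : Function.Surjective (AssocGr.map (AssocGr.IsFiltHom.adic hIJ))) (n : ℕ) (b : B)
    (hb : b ∈ J ^ n) : ∃ a ∈ I ^ n, b - φ a ∈ J ^ (n + 1) := by
  obtain ⟨x, hx⟩ := h (inDeg (FiltBl.IdealFiltration.adic J) n ⟨b, hb⟩ : GrRing _)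
  obtain ⟨f, rfl⟩ := mkG_surjective _ x
  rw [map_mkG, coe_inDeg, ← sub_eq_zero, ← map_sub, mkG_eq_zero_iff, mem_succIdeal_iff] at hx
  have h2 := hx n
  rw [Subalgebra.coe_sub, coe_reesMap, coe_coe_monom, coeff_sub, coeff_map, coeff_monomial,
    if_pos rfl] at h2
  refine ⟨(f : A[X]).coeff n, f.2 n, ?_⟩
  rw [← neg_sub, neg_mem_iff]
  exact h2

lemma smul_top_eq {R : Type u} [CommRing R] (K : Ideal R) (m : ℕ) :
    (K ^ m • (⊤ : Submodule R R)) = K ^ m := by
  simp

include hIJ in
lemma map_pow_le (k : ℕ) {a : A} (ha : a ∈ I ^ k) : φ a ∈ J ^ k := by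
  have := Ideal.mem_map_of_mem φ ha
  rw [Ideal.map_pow] at this
  exact Ideal.pow_right_mono hIJ k this

/-- key lemma: every element of `J ^ n` is the image of an element of `I ^ n`. -/
lemma exists_preimage [IsPrecomplete I A] [IsHausdorff J B]
    (h : Function.Surjective (AssocGr.map (AssocGr.IsFiltHom.adic hIJ))) (n : ℕ) (b : B)
    (hb : b ∈ J ^ n) : ∃ a ∈ I ^ n, φ a = b := by
  choose! a ha1 ha2 using step1 hIJ h
  let bseq : ℕ → B := fun k =>
    Nat.rec (motive := fun _ => B) b (fun m bm => bm - φ (a (n + m) bm)) k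
  have bseq_succ : ∀ k, bseq (k + 1) = bseq k - φ (a (n + k) (bseq k)) := fun k => rfl
  have hbseq : ∀ k, bseq k ∈ J ^ (n + k) := by
    intro k
    induction k with
    | zero => exact hb
    | succ k ih => rw [bseq_succ]; exact ha2 (n + k) (bseq k) ih
  let c : ℕ → A := fun k => a (n + k) (bseq k)
  have hc : ∀ k, c k ∈ I ^ (n + k) := fun k => ha1 (n + k) (bseq k) (hbseq k)
  have hsum : ∀ k, bseq k = b - φ (∑ m ∈ Finset.range k, c m) := by
    intro k
    induction k with
    | zero => simp [bseq]
    | succ k ih =>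
      have e : bseq (k + 1) = bseq k - φ (c k) := rfl
      rw [e, ih, Finset.sum_range_succ, map_add]
      ring
  have hC : ∀ {m k : ℕ}, m ≤ k →
      (∑ j ∈ Finset.range m, c j) ≡ (∑ j ∈ Finset.range k, c j)
        [SMOD (I ^ m • ⊤ : Submodule A A)] := by
    intro m k hmk
    rw [SModEq.sub_mem, smul_top_eq, ← neg_sub, neg_mem_iff, ← Finset.sum_Ico_eq_sub _ hmk]
    refine Ideal.sum_mem _ fun j hj => ?_
    rw [Finset.mem_Ico] at hj
    exact Ideal.pow_le_pow_right (by omega) (hc j)
  obtain ⟨L, hL⟩ := IsPrecomplete.prec ‹_› hC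
  have hL' : ∀ k, (∑ j ∈ Finset.range k, c j) - L ∈ I ^ k := by
    intro k
    have := hL k
    rwa [SModEq.sub_mem, smul_top_eq] at this
  refine ⟨L, ?_, ?_⟩
  · have h1 : (∑ j ∈ Finset.range n, c j) ∈ I ^ n :=
      Ideal.sum_mem _ fun j _ => Ideal.pow_le_pow_right (by omega) (hc j)
    have h2 := hL' n
    have : L = (∑ j ∈ Finset.range n, c j) - ((∑ j ∈ Finset.range n, c j) - L) := by ring
    rw [this]
    exact Ideal.sub_mem _ h1 h2
  · have hz : b - φ L = 0 := by
      refine IsHausdorff.haus ‹IsHausdorff J B› _ fun k => ?_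
      rw [SModEq.sub_mem, smul_top_eq, sub_zero]
      have : b - φ L = bseq k + φ ((∑ j ∈ Finset.range k, c j) - L) := by
        rw [hsum k, map_sub]; ring
      rw [this]
      exact Ideal.add_mem _ (Ideal.pow_le_pow_right (by omega) (hbseq k))
        (map_pow_le hIJ k (hL' k))
    exact (sub_eq_zero.mp hz).symm

end

/-- Let φ : A → B be a ring homomorphism, I ⊆ A and J ⊆ B ideals with φ(I)B ⊆ J, so that φ is a
homomorphism of filtered rings for the I-adic and J-adic filtrations. Assume that A is I-adically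
complete in the sense that every I-adically Cauchy sequence has a limit, that B is J-adically
separated, and that the induced homomorphism of associated graded rings ⊕ₙ Iⁿ/Iⁿ⁺¹ → ⊕ₙ Jⁿ/Jⁿ⁺¹ is
surjective. Then φ is surjective, φ is strict (Jⁿ = φ(Iⁿ)B for all n, that is J = φ(I)B), and B is
J-adically separated and complete. (The published statement is for a homomorphism of filtered
modules over a filtered ring, with arbitrary compatible filtrations; this row is its case of a ring
homomorphism with adic filtrations.) -/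
theorem result (A : Type u) [CommRing A] (B : Type u)
    [CommRing B] (φ : A →+* B) (I : Ideal A) (J : Ideal B) (hIJ : I.map φ ≤ J)
    [IsPrecomplete I A] [IsHausdorff J B]
    (h : Function.Surjective (AssocGr.map (AssocGr.IsFiltHom.adic hIJ))) :
    Function.Surjective φ ∧ I.map φ = J ∧ IsAdicComplete J B := by
  have key := exists_preimage hIJ h
  have hsurj : Function.Surjective φ := by
    intro b
    obtain ⟨a, _, ha⟩ := key 0 b (by rw [pow_zero, Ideal.one_eq_top]; trivial)
    exact ⟨a, ha⟩
  refine ⟨hsurj, le_antisymm hIJ ?_, ?_⟩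
  · intro b hb
    obtain ⟨a, ha, rfl⟩ := key 1 b (by rwa [pow_one])
    rw [pow_one] at ha
    exact Ideal.mem_map_of_mem φ ha
  · have : IsPrecomplete J B := by
      refine ⟨fun f hf => ?_⟩
      have hd : ∀ k, f (k + 1) - f k ∈ J ^ k := by
        intro k
        have := hf (Nat.le_succ k)
        rw [SModEq.sub_mem, smul_top_eq, ← neg_sub, neg_mem_iff] at this
        exact this
      choose c hc1 hc2 using fun k => key k _ (hd k)
      obtain ⟨c', hc'⟩ := hsurj (f 0)
      have ht : ∀ k, φ (c' + ∑ j ∈ Finset.range k, c j) = f k := by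
        intro k
        induction k with
        | zero => simp [hc']
        | succ k ih =>
          rw [Finset.sum_range_succ, ← add_assoc, map_add, ih, hc2]
          ring
      have hC : ∀ {m k : ℕ}, m ≤ k →
          (c' + ∑ j ∈ Finset.range m, c j) ≡ (c' + ∑ j ∈ Finset.range k, c j)
            [SMOD (I ^ m • ⊤ : Submodule A A)] := by
        intro m k hmk
        rw [SModEq.sub_mem, smul_top_eq, ← neg_sub, neg_mem_iff, add_sub_add_left_eq_sub,
          ← Finset.sum_Ico_eq_sub _ hmk]
        refine Ideal.sum_mem _ fun j hj => ?_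
        rw [Finset.mem_Ico] at hj
        exact Ideal.pow_le_pow_right (by omega) (hc1 j)
      obtain ⟨L, hL⟩ := IsPrecomplete.prec ‹IsPrecomplete I A› hC
      refine ⟨φ L, fun k => ?_⟩
      have := hL k
      rw [SModEq.sub_mem, smul_top_eq] at this ⊢
      rw [← ht k, ← map_sub]
      exact map_pow_le hIJ k this
    exact { }

end Groth.Agent.S16456
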