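import Groth.Statements.S16457
set_option autoImplicit false
universe u
open AdicGr

namespace Groth.Agent.S16457

open AssocGr Polynomial

section

variable {A : Type u} [CommRing A] {I : Ideal A} {M : Type u} [AddCommGroup M] [Module A M]
  (F : I.Filtration M)

/-- coefficient of `f • (x Xᵈ)` -/
lemma coeff_smul_monomM (f : ↥(FiltBl.IdealFiltration.adic I).rees) (d : ℕ) (x : F.N d) (n : ℕ) :
    ReesM.coeff F (f • monomM F d x) n =
      (if d ≤ n then (f : A[X]).coeff (n - d) else 0) • (x : M) := by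
  rw [ReesM.coeff_smul]
  simp only [ReesM.coeff_monomM, smul_ite, smul_zero]
  by_cases h : d ≤ n
  · rw [if_pos h, Finset.sum_eq_single (n - d, d)]
    · rw [if_pos rfl]
    · rintro ⟨p, q⟩ hpq hne
      rw [Finset.mem_antidiagonal] at hpq
      rw [if_neg]
      rintro rfl
      apply hne
      simp only [Prod.mk.injEq, and_true]
      omega
    · intro hn
      exact (hn (Finset.mem_antidiagonal.mpr (by omega))).elim
  · rw [if_neg h, zero_smul]
    refine Finset.sum_eq_zero fun p hp => ?_
    rw [Finset.mem_antidiagonal] at hp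
    rw [if_neg]
    rintro rfl
    omega

/-- one step of the approximation -/
lemma step1 {k : ℕ} (d : Fin k → ℕ) (x : (i : Fin k) → ↥(F.N (d i)))
    (hgen : Submodule.span (AssocGr.GrRing (FiltBl.IdealFiltration.adic I))
      (Set.range fun i => (AssocGr.inDegM F (d i) (x i) : AssocGr.GrMod F)) = ⊤)
    (n : ℕ) (y : M) (hy : y ∈ F.N n) :
    ∃ a : Fin k → A, (∀ i, a i ∈ I ^ (n - d i)) ∧ (∀ i, n < d i → a i = 0) ∧
      y - ∑ i, a i • (x i : M) ∈ F.N (n + 1) := by
  have hz : mkGM F (monomM F n ⟨y, hy⟩) ∈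
      Submodule.span (AssocGr.GrRing (FiltBl.IdealFiltration.adic I))
        (Set.range fun i => (AssocGr.inDegM F (d i) (x i) : AssocGr.GrMod F)) := by
    rw [hgen]; trivial
  rw [Submodule.mem_span_range_iff_exists_fun] at hz
  obtain ⟨g, hg⟩ := hz
  choose f hf using fun i => mkG_surjective (FiltBl.IdealFiltration.adic I) (g i)
  have h1 : mkGM F (monomM F n ⟨y, hy⟩ - ∑ i, f i • monomM F (d i) (x i)) = 0 := by
    rw [map_sub, map_sum, ← hg, sub_eq_zero]
    refine (Finset.sum_congr rfl fun i _ => ?_).symm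
    rw [← hf i, coe_inDegM, mkG_smul_mkGM]
  rw [mkGM_eq_zero_iff, mem_succMod_iff] at h1
  have h2 := h1 n
  rw [← ReesM.coeffHom_apply, map_sub, map_sum] at h2
  simp only [ReesM.coeffHom_apply, coeff_smul_monomM, ReesM.coeff_monomM, if_true] at h2
  refine ⟨fun i => if d i ≤ n then ((f i : A[X])).coeff (n - d i) else 0, ?_, ?_, h2⟩
  · intro i
    dsimp only
    split_ifs
    · exact (f i).2 (n - d i)
    · exact Ideal.zero_mem _
  · intro i hi
    dsimp only
    rw [if_neg (by omega)]

lemma smul_top_eq (m : ℕ) : (I ^ m • (⊤ : Submodule A A)) = I ^ m := by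
  simp

/-- successive approximation -/
lemma span_eq_top_of_step [IsPrecomplete I A] (h0 : F.N 0 = ⊤) (hsep : ⨅ n, F.N n = ⊥)
    {k : ℕ} (d : Fin k → ℕ) (x : (i : Fin k) → ↥(F.N (d i)))
    (step : ∀ (n : ℕ) (y : M), y ∈ F.N n →
      ∃ a : Fin k → A, (∀ i, a i ∈ I ^ (n - d i)) ∧ (∀ i, n < d i → a i = 0) ∧
        y - ∑ i, a i • (x i : M) ∈ F.N (n + 1)) :
    Submodule.span A (Set.range fun i => ((x i : ↥(F.N (d i))) : M)) = ⊤ := by
  choose! a ha1 _ ha2 using step
  rw [eq_top_iff]
  intro y _
  let yseq : ℕ → M := fun n =>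
    Nat.rec (motive := fun _ => M) y (fun m ym => ym - ∑ i, a m ym i • (x i : M)) n
  have yseq_succ : ∀ n, yseq (n + 1) = yseq n - ∑ i, a n (yseq n) i • (x i : M) := fun n => rfl
  have hyseq : ∀ n, yseq n ∈ F.N n := by
    intro n
    induction n with
    | zero => rw [h0]; trivial
    | succ n ih => rw [yseq_succ]; exact ha2 n (yseq n) ih
  let c : ℕ → Fin k → A := fun n i => a n (yseq n) i
  have hc1 : ∀ n i, c n i ∈ I ^ (n - d i) := fun n i => ha1 n (yseq n) (hyseq n) i
  have hsum : ∀ n, yseq n = y - ∑ i, (∑ m ∈ Finset.range n, c m i) • (x i : M) := by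
    intro n
    induction n with
    | zero => simp [yseq]
    | succ n ih =>
      have e : yseq (n + 1) = yseq n - ∑ i, c n i • (x i : M) := rfl
      rw [e, ih]
      simp only [Finset.sum_range_succ, add_smul, Finset.sum_add_distrib]
      abel
  -- the limits
  have hlim : ∀ i, ∃ b : A, ∀ n, (∑ m ∈ Finset.range (n + d i), c m i) - b ∈ I ^ n := by
    intro i
    have hC : ∀ {m n : ℕ}, m ≤ n →
        (∑ j ∈ Finset.range (m + d i), c j i) ≡ (∑ j ∈ Finset.range (n + d i), c j i)
          [SMOD (I ^ m • ⊤ : Submodule A A)] := by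
      intro m n hmn
      rw [SModEq.sub_mem, smul_top_eq, ← neg_sub, neg_mem_iff,
        ← Finset.sum_Ico_eq_sub _ (by omega : m + d i ≤ n + d i)]
      refine Ideal.sum_mem _ fun j hj => ?_
      rw [Finset.mem_Ico] at hj
      exact Ideal.pow_le_pow_right (by omega) (hc1 j i)
    obtain ⟨b, hb⟩ := IsPrecomplete.prec ‹_› hC
    refine ⟨b, fun n => ?_⟩
    have := hb n
    rwa [SModEq.sub_mem, smul_top_eq] at this
  choose b hb using hlim
  have hzero : y - ∑ i, b i • (x i : M) ∈ ⨅ n, F.N n := by
    rw [Submodule.mem_iInf]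
    intro n
    let N := n + ∑ i, d i
    have hdN : ∀ i, d i ≤ N := fun i =>
      le_trans (Finset.single_le_sum (f := d) (fun _ _ => Nat.zero_le _) (Finset.mem_univ i))
        (Nat.le_add_left _ _)
    have hN : y - ∑ i, b i • (x i : M) =
        yseq N + ∑ i, ((∑ m ∈ Finset.range N, c m i) - b i) • (x i : M) := by
      rw [hsum N]
      simp only [sub_smul, Finset.sum_sub_distrib]
      abel
    rw [hN]
    refine Submodule.add_mem _ (F.antitone (Nat.le_add_right n _) (hyseq N)) ?_
    refine Submodule.sum_mem _ fun i _ => ?_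
    have h1 : (∑ m ∈ Finset.range N, c m i) - b i ∈ I ^ (N - d i) := by
      have := hb i (N - d i)
      rwa [Nat.sub_add_cancel (hdN i)] at this
    have h2 := F.pow_smul_le (N - d i) (d i) (Submodule.smul_mem_smul h1 (x i).2)
    rw [Nat.sub_add_cancel (hdN i)] at h2
    exact F.antitone (Nat.le_add_right n _) h2
  rw [hsep, Submodule.mem_bot, sub_eq_zero] at hzero
  rw [hzero]
  exact Submodule.sum_mem _ fun i _ =>
    Submodule.smul_mem _ _ (Submodule.subset_span ⟨i, rfl⟩)

end

/-- Let A be a commutative ring and I an ideal such that every I-adically Cauchy sequence in A has a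
limit; let M be an A-module with an I-filtration M = N₀ ⊇ N₁ ⊇ N₂ ⊇ … (I·Nₙ ⊆ Nₙ₊₁) which is
separated, ⋂ₙ Nₙ = 0; and let x₁, …, x_k be finitely many elements of M with x_i ∈ N_{d_i}. If the
classes of the x_i in degrees d_i generate the associated graded module gr(M) = ⊕ₙ Nₙ/Nₙ₊₁ as a
module over the associated graded ring ⊕ₙ Iⁿ/Iⁿ⁺¹, then the x_i generate M. (The published statement
allows any complete filtered ring and also concludes that M is complete; this row takes the I-adic
filtration on A and states the generation.) -/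
theorem result (A : Type u) [CommRing A] (I : Ideal A)
    [IsPrecomplete I A] (M : Type u) [AddCommGroup M] [Module A M] (F : I.Filtration M)
    (h0 : F.N 0 = ⊤) (hsep : ⨅ n, F.N n = ⊥) {k : ℕ} (d : Fin k → ℕ) (x : (i : Fin k) → ↥(F.N (d i)))
    (hgen : Submodule.span (AssocGr.GrRing (FiltBl.IdealFiltration.adic I))
      (Set.range fun i => (AssocGr.inDegM F (d i) (x i) : AssocGr.GrMod F)) = ⊤) :
    Submodule.span A (Set.range fun i => ((x i : ↥(F.N (d i))) : M)) = ⊤ := by
  exact span_eq_top_of_step F h0 hsep d x (step1 F d x hgen)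

end Groth.Agent.S16457
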