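import Groth.Statements.S16458
import Groth.Agent.S16457
set_option autoImplicit false
universe u
open AdicGr

namespace Groth.Agent.S16458

open AssocGr

section

variable {A : Type u} [CommRing A] {I : Ideal A} {M : Type u} [AddCommGroup M] [Module A M]
  (F : I.Filtration M)

/-- the set of homogeneous elements of the associated graded module -/
def homSet : Set (GrMod F) := {z | ∃ (n : ℕ) (x : F.N n), z = (inDegM F n x : GrMod F)}

lemma span_homSet :
    Submodule.span (GrRing (FiltBl.IdealFiltration.adic I)) (homSet F) = ⊤ := by
  classical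
  rw [eq_top_iff]
  intro z _
  rw [← DirectSum.sum_support_decompose (grM F) z]
  refine Submodule.sum_mem _ fun n _ => Submodule.subset_span ?_
  obtain ⟨x, hx⟩ := inDegM_surjective F n (DirectSum.decompose (grM F) z n)
  exact ⟨n, x, by rw [hx]⟩

/-- finitely many homogeneous generators -/
lemma exists_hom_generators
    [Module.Finite (GrRing (FiltBl.IdealFiltration.adic I)) (GrMod F)] :
    ∃ (k : ℕ) (d : Fin k → ℕ) (x : (i : Fin k) → ↥(F.N (d i))),
      Submodule.span (GrRing (FiltBl.IdealFiltration.adic I))
        (Set.range fun i => (inDegM F (d i) (x i) : GrMod F)) = ⊤ := by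
  classical
  have hfg : (Submodule.span (GrRing (FiltBl.IdealFiltration.adic I)) (homSet F)).FG := by
    rw [span_homSet]
    exact Module.Finite.fg_top
  obtain ⟨S', hS', hspan⟩ := (Submodule.fg_span_iff_fg_span_finset_subset _).1 hfg
  rw [span_homSet] at hspan
  choose n x hx using fun z : S' => hS' z.2
  let e := S'.equivFin
  refine ⟨S'.card, fun i => n (e.symm i), fun i => x (e.symm i), ?_⟩
  rw [hspan]
  congr 1
  ext z
  constructor
  · rintro ⟨i, rfl⟩
    dsimp only
    rw [← hx (e.symm i)]
    exact (e.symm i).2
  · intro hz
    refine ⟨e ⟨z, hz⟩, ?_⟩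
    dsimp only
    exact (hx _).symm.trans (congrArg Subtype.val (e.symm_apply_apply ⟨z, hz⟩))

end

/-- Let A be a commutative ring and I an ideal such that every I-adically Cauchy sequence in A has a
limit, and let M be an A-module with an I-filtration M = N₀ ⊇ N₁ ⊇ … (I·Nₙ ⊆ Nₙ₊₁) which is
separated, ⋂ₙ Nₙ = 0. If the associated graded module gr(M) = ⊕ₙ Nₙ/Nₙ₊₁ is finitely generated as a
module over the associated graded ring ⊕ₙ Iⁿ/Iⁿ⁺¹, then M is a finitely generated A-module. (The
published statement allows any complete filtered ring and also concludes that M is complete for its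
filtration; this row takes the I-adic filtration on A and states the finiteness.) -/
theorem result (A : Type u) [CommRing A] (I : Ideal A)
    [IsPrecomplete I A] (M : Type u) [AddCommGroup M] [Module A M] (F : I.Filtration M)
    (h0 : F.N 0 = ⊤) (hsep : ⨅ n, F.N n = ⊥)
    [Module.Finite (AssocGr.GrRing (FiltBl.IdealFiltration.adic I)) (AssocGr.GrMod F)] :
    Module.Finite A M := by
  obtain ⟨k, d, x, hgen⟩ := exists_hom_generators F
  have := Groth.Agent.S16457.result A I M F h0 hsep d x hgen
  exact Module.finite_def.2 (this ▸ Submodule.fg_span (Set.finite_range _))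

end Groth.Agent.S16458
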