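import Groth.Statements.S16459
import Groth.Agent.S16457
set_option autoImplicit false
universe u
open AdicGr

namespace Groth.Agent.S16459

open AssocGr Polynomial Groth.Agent.S16457

section

variable {A : Type u} [CommRing A] {I : Ideal A} {M : Type u} [AddCommGroup M] [Module A M]
  (F : I.Filtration M)

/-- one step of the approximation, from membership of the initial form in the span -/
lemma step1' {k : ℕ} (d : Fin k → ℕ) (x : (i : Fin k) → ↥(F.N (d i)))
    (n : ℕ) (y : M) (hy : y ∈ F.N n)
    (hz : (AssocGr.inDegM F n ⟨y, hy⟩ : AssocGr.GrMod F) ∈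
      Submodule.span (AssocGr.GrRing (FiltBl.IdealFiltration.adic I))
        (Set.range fun i => (AssocGr.inDegM F (d i) (x i) : AssocGr.GrMod F))) :
    ∃ a : Fin k → A, (∀ i, a i ∈ I ^ (n - d i)) ∧
      y - ∑ i, a i • (x i : M) ∈ F.N (n + 1) := by
  rw [Submodule.mem_span_range_iff_exists_fun] at hz
  obtain ⟨g, hg⟩ := hz
  choose f hf using fun i => mkG_surjective (FiltBl.IdealFiltration.adic I) (g i)
  have h1 : mkGM F (monomM F n ⟨y, hy⟩ - ∑ i, f i • monomM F (d i) (x i)) = 0 := by
    rw [map_sub, map_sum, ← coe_inDegM, ← hg, sub_eq_zero]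
    refine (Finset.sum_congr rfl fun i _ => ?_).symm
    rw [← hf i, coe_inDegM, mkG_smul_mkGM]
  rw [mkGM_eq_zero_iff, mem_succMod_iff] at h1
  have h2 := h1 n
  rw [← ReesM.coeffHom_apply, map_sub, map_sum] at h2
  simp only [ReesM.coeffHom_apply, coeff_smul_monomM, ReesM.coeff_monomM, if_true] at h2
  refine ⟨fun i => if d i ≤ n then ((f i : A[X])).coeff (n - d i) else 0, ?_, h2⟩
  intro i
  dsimp only
  split_ifs
  · exact (f i).2 (n - d i)
  · exact Ideal.zero_mem _

/-- successive approximation inside a submodule -/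
lemma le_span_of_step [IsPrecomplete I A] (h0 : F.N 0 = ⊤) (hsep : ⨅ n, F.N n = ⊥)
    {k : ℕ} (d : Fin k → ℕ) (x : (i : Fin k) → ↥(F.N (d i))) (M'' : Submodule A M)
    (hx : ∀ i, (x i : M) ∈ M'')
    (step : ∀ (n : ℕ) (y : M), y ∈ M'' → y ∈ F.N n →
      ∃ a : Fin k → A, (∀ i, a i ∈ I ^ (n - d i)) ∧
        y - ∑ i, a i • (x i : M) ∈ F.N (n + 1)) :
    M'' ≤ Submodule.span A (Set.range fun i => ((x i : ↥(F.N (d i))) : M)) := by
  choose! a ha1 ha2 using step
  intro y hyM
  let yseq : ℕ → M := fun n =>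
    Nat.rec (motive := fun _ => M) y (fun m ym => ym - ∑ i, a m ym i • (x i : M)) n
  have yseq_succ : ∀ n, yseq (n + 1) = yseq n - ∑ i, a n (yseq n) i • (x i : M) := fun n => rfl
  have hyseq : ∀ n, yseq n ∈ M'' ∧ yseq n ∈ F.N n := by
    intro n
    induction n with
    | zero => exact ⟨hyM, by rw [h0]; trivial⟩
    | succ n ih =>
      rw [yseq_succ]
      exact ⟨Submodule.sub_mem _ ih.1 (Submodule.sum_mem _ fun i _ =>
        Submodule.smul_mem _ _ (hx i)), ha2 n (yseq n) ih.1 ih.2⟩
  let c : ℕ → Fin k → A := fun n i => a n (yseq n) i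
  have hc1 : ∀ n i, c n i ∈ I ^ (n - d i) := fun n i =>
    ha1 n (yseq n) (hyseq n).1 (hyseq n).2 i
  have hsum : ∀ n, yseq n = y - ∑ i, (∑ m ∈ Finset.range n, c m i) • (x i : M) := by
    intro n
    induction n with
    | zero => simp [yseq]
    | succ n ih =>
      have e : yseq (n + 1) = yseq n - ∑ i, c n i • (x i : M) := rfl
      rw [e, ih]
      simp only [Finset.sum_range_succ, add_smul, Finset.sum_add_distrib]
      abel
  have hlim : ∀ i, ∃ b : A, ∀ n, (∑ m ∈ Finset.range (n + d i), c m i) - b ∈ I ^ n := by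
    intro i
    have hC : ∀ {m n : ℕ}, m ≤ n →
        (∑ j ∈ Finset.range (m + d i), c j i) ≡ (∑ j ∈ Finset.range (n + d i), c j i)
          [SMOD (I ^ m • ⊤ : Submodule A A)] := by
      intro m n hmn
      rw [SModEq.sub_mem, smul_top_eq, ← neg_sub, neg_mem_iff,
        ← Finset.sum_Ico_eq_sub _ (by omega : m + d i ≤ n + d i)]
      refine Ideal.sum_mem _ fun j hj => ?_
      rw [Finset.mem_Ico] at hj
      exact Ideal.pow_le_pow_right (by omega) (hc1 j i)
    obtain ⟨b, hb⟩ := IsPrecomplete.prec ‹_› hC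
    refine ⟨b, fun n => ?_⟩
    have := hb n
    rwa [SModEq.sub_mem, smul_top_eq] at this
  choose b hb using hlim
  have hzero : y - ∑ i, b i • (x i : M) ∈ ⨅ n, F.N n := by
    rw [Submodule.mem_iInf]
    intro n
    let N := n + ∑ i, d i
    have hdN : ∀ i, d i ≤ N := fun i =>
      le_trans (Finset.single_le_sum (f := d) (fun _ _ => Nat.zero_le _) (Finset.mem_univ i))
        (Nat.le_add_left _ _)
    have hN : y - ∑ i, b i • (x i : M) =
        yseq N + ∑ i, ((∑ m ∈ Finset.range N, c m i) - b i) • (x i : M) := by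
      rw [hsum N]
      simp only [sub_smul, Finset.sum_sub_distrib]
      abel
    rw [hN]
    refine Submodule.add_mem _ (F.antitone (Nat.le_add_right n _) (hyseq N).2) ?_
    refine Submodule.sum_mem _ fun i _ => ?_
    have h1 : (∑ m ∈ Finset.range N, c m i) - b i ∈ I ^ (N - d i) := by
      have := hb i (N - d i)
      rwa [Nat.sub_add_cancel (hdN i)] at this
    have h2 := F.pow_smul_le (N - d i) (d i) (Submodule.smul_mem_smul h1 (x i).2)
    rw [Nat.sub_add_cancel (hdN i)] at h2
    exact F.antitone (Nat.le_add_right n _) h2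
  rw [hsep, Submodule.mem_bot, sub_eq_zero] at hzero
  rw [hzero]
  exact Submodule.sum_mem _ fun i _ =>
    Submodule.smul_mem _ _ (Submodule.subset_span ⟨i, rfl⟩)

/-- initial forms of the elements of a submodule -/
def inSet (M' : Submodule A M) : Set (GrMod F) :=
  {z | ∃ (n : ℕ) (y : M) (hy : y ∈ F.N n), y ∈ M' ∧ z = (inDegM F n ⟨y, hy⟩ : GrMod F)}

lemma exists_gens [IsNoetherian (GrRing (FiltBl.IdealFiltration.adic I)) (GrMod F)]
    (M' : Submodule A M) :
    ∃ (k : ℕ) (d : Fin k → ℕ) (x : (i : Fin k) → ↥(F.N (d i))), (∀ i, (x i : M) ∈ M') ∧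
      Submodule.span (GrRing (FiltBl.IdealFiltration.adic I)) (inSet F M') =
        Submodule.span (GrRing (FiltBl.IdealFiltration.adic I))
          (Set.range fun i => (inDegM F (d i) (x i) : GrMod F)) := by
  classical
  have hfg : (Submodule.span (GrRing (FiltBl.IdealFiltration.adic I)) (inSet F M')).FG :=
    IsNoetherian.noetherian _
  obtain ⟨S', hS', hspan⟩ := (Submodule.fg_span_iff_fg_span_finset_subset _).1 hfg
  choose n y hy hyM hz using fun z : S' => hS' z.2
  let e := S'.equivFin
  refine ⟨S'.card, fun i => n (e.symm i), fun i => ⟨y (e.symm i), hy (e.symm i)⟩,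
    fun i => hyM (e.symm i), ?_⟩
  rw [hspan]
  congr 1
  ext z
  constructor
  · intro hzS
    refine ⟨e ⟨z, hzS⟩, ?_⟩
    dsimp only
    exact (hz _).symm.trans (congrArg Subtype.val (e.symm_apply_apply ⟨z, hzS⟩))
  · rintro ⟨i, rfl⟩
    dsimp only
    rw [← hz (e.symm i)]
    exact (e.symm i).2

lemma le_span_of_inSet [IsPrecomplete I A] (h0 : F.N 0 = ⊤) (hsep : ⨅ n, F.N n = ⊥)
    {k : ℕ} (d : Fin k → ℕ) (x : (i : Fin k) → ↥(F.N (d i))) (M'' : Submodule A M)
    (hx : ∀ i, (x i : M) ∈ M'')
    (hL : inSet F M'' ⊆ (Submodule.span (GrRing (FiltBl.IdealFiltration.adic I))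
      (Set.range fun i => (inDegM F (d i) (x i) : GrMod F)) : Set (GrMod F))) :
    M'' ≤ Submodule.span A (Set.range fun i => ((x i : ↥(F.N (d i))) : M)) :=
  le_span_of_step F h0 hsep d x M'' hx fun n y hyM hy =>
    step1' F d x n y hy (hL ⟨n, y, hy, hyM, rfl⟩)

end

/-- Let A be a commutative ring and I an ideal such that every I-adically Cauchy sequence in A has a
limit, and let M be an A-module with an I-filtration M = N₀ ⊇ N₁ ⊇ … (I·Nₙ ⊆ Nₙ₊₁) which is
separated, ⋂ₙ Nₙ = 0. If the associated graded module gr(M) = ⊕ₙ Nₙ/Nₙ₊₁ is a Noetherian module over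
the associated graded ring ⊕ₙ Iⁿ/Iⁿ⁺¹, then M is a Noetherian A-module and every submodule M' of M
is closed for the topology defined by the filtration, that is ⋂ₙ (M' + Nₙ) = M'. (The published
statement allows any complete filtered ring; this row takes the I-adic filtration on A.) -/
theorem result (A : Type u) [CommRing A]
    (I : Ideal A) [IsPrecomplete I A] (M : Type u) [AddCommGroup M] [Module A M] (F : I.Filtration M)
    (h0 : F.N 0 = ⊤) (hsep : ⨅ n, F.N n = ⊥)
    [IsNoetherian (AssocGr.GrRing (FiltBl.IdealFiltration.adic I)) (AssocGr.GrMod F)] :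
    IsNoetherian A M ∧ ∀ M' : Submodule A M, ⨅ n, M' ⊔ F.N n = M' := by
  constructor
  · rw [isNoetherian_def]
    intro M'
    obtain ⟨k, d, x, hxM, hspan⟩ := exists_gens F M'
    have hle := le_span_of_inSet F h0 hsep d x M' hxM (by
      rw [← hspan]; exact Submodule.subset_span)
    have heq : M' = Submodule.span A (Set.range fun i => ((x i : ↥(F.N (d i))) : M)) :=
      le_antisymm hle (Submodule.span_le.2 (by rintro _ ⟨i, rfl⟩; exact hxM i))
    rw [heq]
    exact Submodule.fg_span (Set.finite_range _)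
  · intro M'
    refine le_antisymm ?_ (le_iInf fun n => le_sup_left)
    intro y hy
    rw [Submodule.mem_iInf] at hy
    obtain ⟨k, d, x, hxM, hspan⟩ := exists_gens F M'
    have hle := le_span_of_inSet F h0 hsep d x (M' ⊔ Submodule.span A {y})
      (fun i => Submodule.mem_sup_left (hxM i)) (by
        rintro z ⟨n, w, hw, hwM, rfl⟩
        obtain ⟨m', hm', t, ht, hwt⟩ := Submodule.mem_sup.1 hwM
        obtain ⟨a, rfl⟩ := Submodule.mem_span_singleton.1 ht
        obtain ⟨m'', hm'', v, hv, hyv⟩ := Submodule.mem_sup.1 (hy (n + 1))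
        have hav : a • v ∈ F.N (n + 1) := Submodule.smul_mem _ _ hv
        have hwz : w - a • v = m' + a • m'' := by
          rw [← hwt, ← hyv, smul_add]; abel
        have hz' : m' + a • m'' ∈ F.N n := by
          rw [← hwz]
          exact Submodule.sub_mem _ hw (F.antitone (Nat.le_succ n) hav)
        have heq : (inDegM F n ⟨w, hw⟩ : GrMod F) = (inDegM F n ⟨m' + a • m'', hz'⟩ : GrMod F) := by
          have h0' : inDegM F n (⟨w, hw⟩ - ⟨m' + a • m'', hz'⟩) = 0 := by
            rw [inDegM_eq_zero_iff]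
            change w - (m' + a • m'') ∈ F.N (n + 1)
            rw [← hwz, sub_sub_cancel]
            exact hav
          rw [map_sub, sub_eq_zero] at h0'
          rw [h0']
        rw [heq, SetLike.mem_coe, ← hspan]
        exact Submodule.subset_span ⟨n, m' + a • m'', hz',
          Submodule.add_mem _ hm' (Submodule.smul_mem _ _ hm''), rfl⟩)
    have hyM : y ∈ M' ⊔ Submodule.span A {y} :=
      Submodule.mem_sup_right (Submodule.mem_span_singleton_self y)
    exact (Submodule.span_le.2 (by rintro _ ⟨i, rfl⟩; exact hxM i)) (hle hyM)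

end Groth.Agent.S16459
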