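import Groth.Statements.S1646
import Mathlib
import Groth.Agent.S10869
import Groth.Agent.Lib.Helper11.AmpleDescent
-- import your own Groth.Agent.* helpers here

set_option autoImplicit false
set_option linter.style.haveILetI false
universe u
open CategoryTheory CategoryTheory.Limits AlgebraicGeometry
open Variety

namespace Groth.Agent.S1646


open Groth.Agent.Lib.Helper11.CounitEpi in
/-- over an affine base, a quasi-coherent module on a qcqs scheme is globally generated iff the
counit `f^* f_* F ⟶ F` is an epimorphism. -/
theorem gg_iff_epi_counit {X S : Scheme.{u}} [IsAffine S] (f : X ⟶ S) [QuasiCompact f]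
    [QuasiSeparated f] (F : X.Modules) (hF : Coh.IsQCoh F) :
    Curv2.IsGloballyGenerated F ↔
      Epi ((Scheme.Modules.pullbackPushforwardAdjunction f).counit.app F) := by
  have h := Groth.Agent.S10869.result f F hF
  constructor
  · intro hgg
    rw [h.2]
    intro U _
    exact IsGloballyGenerated.of_iso
      ((Scheme.Modules.restrictFunctorIsoPullback (f ⁻¹ᵁ U).ι).app F).symm
      (isGloballyGenerated_pullback (f ⁻¹ᵁ U).ι F hgg)
  · intro hε
    obtain ⟨G, hG, φ, hφ⟩ := h.1.mp hε
    haveI : G.IsQuasicoherent := hG
    exact IsGloballyGenerated.of_epi φ hφ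
      (isGloballyGenerated_pullback f G (isGloballyGenerated_of_isQuasiAffine S G))

/-- Let A → A' be a faithfully flat ring map, f : X → Spec A a quasi-compact and quasi-separated
morphism, and F a quasi-coherent O_X-module. F is generated by its global sections exactly when its
pullback to X ×_{Spec A} Spec A' is generated by its global sections. (Quasi-compactness and
quasi-separatedness of f are assumed here on top of the published hypotheses.) -/
theorem result (A A' : Type u) [CommRing A] [CommRing A'] [Algebra A A']
    [Module.FaithfullyFlat A A'] (X : Scheme.{u}) (f : X ⟶ Spec (CommRingCat.of A)) [QuasiCompact f] [QuasiSeparated f]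
    (F : X.Modules) (hF : Coh.IsQCoh F) :
    Curv2.IsGloballyGenerated F ↔ Curv2.IsGloballyGenerated
      ((Scheme.Modules.pullback (pullback.fst f (Spec.map (CommRingCat.ofHom (algebraMap A A'))))).obj F) := by
  classical
  have hq : F.IsQuasicoherent := hF
  let g : Spec (CommRingCat.of A') ⟶ Spec (CommRingCat.of A) :=
    Spec.map (CommRingCat.ofHom (algebraMap A A'))
  have hg : Flat g ∧ Surjective g := by
    rw [flat_and_surjective_SpecMap_iff]
    change (algebraMap A A').FaithfullyFlat
    rw [RingHom.faithfullyFlat_algebraMap_iff]
    infer_instance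
  haveI : Flat g := hg.1
  haveI : Surjective g := hg.2
  let p : pullback f g ⟶ X := pullback.fst f g
  let f' : pullback f g ⟶ Spec (CommRingCat.of A') := pullback.snd f g
  have hpb : IsPullback p f' f g := IsPullback.of_hasPullback f g
  haveI : Flat p := MorphismProperty.of_isPullback (P := @Flat) hpb.flip inferInstance
  haveI : Surjective p := MorphismProperty.of_isPullback (P := @Surjective) hpb.flip inferInstance
  haveI : QuasiCompact p :=
    MorphismProperty.of_isPullback (P := @QuasiCompact) hpb.flip inferInstance
  haveI : QuasiCompact f' := MorphismProperty.of_isPullback (P := @QuasiCompact) hpb inferInstance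
  haveI : QuasiSeparated f' :=
    MorphismProperty.of_isPullback (P := @QuasiSeparated) hpb inferInstance
  have hF' : ((Scheme.Modules.pullback p).obj F).IsQuasicoherent :=
    Groth.Agent.Lib.Helper16.FlatPull.isQuasicoherent_pullback p F
  change Curv2.IsGloballyGenerated F ↔
    Curv2.IsGloballyGenerated ((Scheme.Modules.pullback p).obj F)
  constructor
  · intro h
    exact Groth.Agent.Lib.Helper11.CounitEpi.isGloballyGenerated_pullback p F h
  · intro h
    have h1 : Epi ((Scheme.Modules.pullbackPushforwardAdjunction f').counit.app
        ((Scheme.Modules.pullback p).obj F)) :=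
      (gg_iff_epi_counit f' _ hF').mp h
    have h2 : Epi ((Scheme.Modules.pullback p).map
        ((Scheme.Modules.pullbackPushforwardAdjunction f).counit.app F)) :=
      Groth.Agent.Lib.Helper11.AmpleDescent.epi_pullback_counit hpb F h1
    haveI : ((Scheme.Modules.pushforward f).obj F).IsQuasicoherent :=
      Groth.Agent.Lib.Helper49.isQuasicoherent_pushforward F f
    haveI : ((Scheme.Modules.pullback f).obj ((Scheme.Modules.pushforward f).obj F)).IsQuasicoherent :=
      Groth.Agent.Lib.Helper16.FlatPull.isQuasicoherent_pullback f _
    have h3 : Epi ((Scheme.Modules.pullbackPushforwardAdjunction f).counit.app F) :=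
      @Groth.Agent.Lib.Helper11.AmpleDescent.epi_of_epi_pullback _ _ p _ _ _
        ((Scheme.Modules.pullback f).obj ((Scheme.Modules.pushforward f).obj F)) F ‹_› hq
        ((Scheme.Modules.pullbackPushforwardAdjunction f).counit.app F) h2
    exact (gg_iff_epi_counit f F hF).mpr h3

end Groth.Agent.S1646
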