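import Groth.Statements.S16462
import Groth.Agent.Lib.Lead.ModExactClass
import Groth.Agent.S0028
import Groth.Agent.S0030

set_option autoImplicit false
universe u
open Coherent

namespace Groth.Agent.S16462

open CategoryTheory AlgebraicGeometry AlgebraicGeometry.Scheme.Modules in
/-- Let f : X → Y be a quasi-compact quasi-separated morphism of schemes, g : Y → Z an affine morphism
and M a quasi-coherent O_X-module. Then for every p ≥ 0 the canonical edge morphism R^p (g ∘ f)_* M
→ g_*(R^p f_* M) is an isomorphism (higher direct images as right derived functors of direct image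
on O-modules). (The published statement assumes f separated; this row assumes only f
quasi-separated.) -/
theorem result {X Y Z : Scheme.{u}} (f : X ⟶ Y) (g : Y ⟶ Z)
    [QuasiCompact f] [QuasiSeparated f] [IsAffineHom g] [HasInjectiveResolutions X.Modules]
    (M : X.Modules) [Coh.IsQCoh M] (p : ℕ) :
    IsIso (CohBC.lerayEdgeOut f g p M) := by
  open Groth.Agent.Lib.Lead.HomologyCmp Groth.Agent.Lib.Lead.ModExactClass in
  let I := injectiveResolution M
  let K := ((pushforward f).mapHomologicalComplex (ComplexShape.up ℕ)).obj I.cocomplex
  have hX : ∀ n : ℕ, PushAcyc g (K.X n) := by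
    intro n
    haveI : Injective (I.cocomplex.X n) := I.injective n
    exact pushAcyc_pushforward_injective f g (I.cocomplex.X n)
  have hH : ∀ n : ℕ, PushAcyc g (K.homology n) := by
    intro n
    haveI : Coh.IsQCoh ((Coh.Rpush f n).obj M) := Groth.Agent.S0030.result f M n
    have h0 : PushAcyc g ((Coh.Rpush f n).obj M) := fun k =>
      Groth.Agent.S0028.result g ((Coh.Rpush f n).obj M) (k + 1) (Nat.succ_pos k)
    exact h0.of_iso (I.isoRightDerivedObj (pushforward f) n).symm
  have h1 : IsIso (RDer.homologyComparison (pushforward g) K p) :=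
    isIso_homologyComparison K (exactClass_pushAcyc g) hX hH p
  dsimp only [CohBC.lerayEdgeOut, RDer.edgeOut]
  exact @IsIso.comp_isIso _ _ _ _ _ _ _ inferInstance
    (@IsIso.comp_isIso _ _ _ _ _ _ _ inferInstance
      (@IsIso.comp_isIso _ _ _ _ _ _ _ h1 inferInstance))

end Groth.Agent.S16462
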