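import Groth.Statements.S16478
import Mathlib

set_option autoImplicit false
universe u
open GaDual

namespace Groth.Agent.S16478

/-- Let A be a commutative ring of prime characteristic p and n ≥ 1, and let φ be the comorphism of the
closed immersion α_{p^n} → G_a over A: the bialgebra map from the Hopf algebra of the additive group
(generator t primitive) to A[x]/(x^(p^n)) (x primitive) sending t to x. Then the restriction map on
characters, from those of the additive group over A to those of α_{p^n} over A, is surjective: every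
group-like element of A[x]/(x^(p^n)) is the image under φ of a group-like element of the Hopf
algebra of the additive group. -/
theorem result (p : ℕ) [Fact p.Prime] (A : Type u) [CommRing A] [CharP A p]
    (n : ℕ) (hn : 1 ≤ n) (φ : SekSuwa.A A 0 →ₐc[A] AlphaPn.A p n A) (hφ : φ SekSuwa.A.t = AlphaPn.x p n A)
    (u : AlphaPn.A p n A) (hu : IsGroupLikeElem A u) :
    ∃ g : SekSuwa.A A 0, IsGroupLikeElem A g ∧ φ g = u := by
  classical
  have : Nontrivial A := CharP.nontrivial_of_char_ne_one (R := A) (v := p) (Fact.out : p.Prime).ne_one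
  let t : SekSuwa.A A 0 := SekSuwa.A.t
  let x : AlphaPn.A p n A := AlphaPn.x p n A
  -- the coalgebra section
  let s : AlphaPn.A p n A →ₗ[A] SekSuwa.A A 0 :=
    (AlphaPn.basis p n A).constr A (fun i => t ^ (i : ℕ))
  have hs : ∀ m : ℕ, m < p ^ n → s (x ^ m) = t ^ m := by
    intro m hm
    have h1 : s (AlphaPn.basis p n A ⟨m, hm⟩) = t ^ m := by
      simp only [s, Module.Basis.constr_basis]
    rwa [AlphaPn.basis_apply] at h1
  have hct : CoalgebraStruct.comul (R := A) t = t ⊗ₜ[A] 1 + 1 ⊗ₜ[A] t := by
    have := SekSuwa.A.comul_t (R := A) (lam := 0)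
    rw [zero_smul, add_zero] at this
    exact this
  have hcx : CoalgebraStruct.comul (R := A) x = x ⊗ₜ[A] 1 + 1 ⊗ₜ[A] x := AlphaPn.comul_x p n A
  have hpowT : ∀ i : ℕ, CoalgebraStruct.comul (R := A) (t ^ i) =
      ∑ m ∈ Finset.range (i + 1), (i.choose m : A) • ((t ^ m) ⊗ₜ[A] (t ^ (i - m))) := by
    intro i
    rw [Bialgebra.comul_pow, hct, (Commute.all _ _).add_pow]
    refine Finset.sum_congr rfl fun m _ => ?_
    rw [Algebra.TensorProduct.tmul_pow, Algebra.TensorProduct.tmul_pow, one_pow, one_pow,
      Algebra.TensorProduct.tmul_mul_tmul, mul_one, one_mul, mul_comm, ← nsmul_eq_mul,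
      Nat.cast_smul_eq_nsmul]
  have hpowX : ∀ i : ℕ, CoalgebraStruct.comul (R := A) (x ^ i) =
      ∑ m ∈ Finset.range (i + 1), (i.choose m : A) • ((x ^ m) ⊗ₜ[A] (x ^ (i - m))) := by
    intro i
    rw [Bialgebra.comul_pow, hcx, (Commute.all _ _).add_pow]
    refine Finset.sum_congr rfl fun m _ => ?_
    rw [Algebra.TensorProduct.tmul_pow, Algebra.TensorProduct.tmul_pow, one_pow, one_pow,
      Algebra.TensorProduct.tmul_mul_tmul, mul_one, one_mul, mul_comm, ← nsmul_eq_mul,
      Nat.cast_smul_eq_nsmul]
  have hcomul : (CoalgebraStruct.comul (R := A) (A := SekSuwa.A A 0)) ∘ₗ s =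
      TensorProduct.map s s ∘ₗ (CoalgebraStruct.comul (R := A) (A := AlphaPn.A p n A)) := by
    apply (AlphaPn.basis p n A).ext
    intro i
    rw [LinearMap.comp_apply, LinearMap.comp_apply, AlphaPn.basis_apply, hs _ i.2, hpowT, hpowX,
      map_sum]
    refine Finset.sum_congr rfl fun m hm => ?_
    have hm' : m < i + 1 := Finset.mem_range.mp hm
    rw [map_smul, TensorProduct.map_tmul, hs m (by omega), hs (i - m) (by omega)]
  have hcounit : (CoalgebraStruct.counit (R := A) (A := SekSuwa.A A 0)) ∘ₗ s =
      (CoalgebraStruct.counit (R := A) (A := AlphaPn.A p n A)) := by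
    apply (AlphaPn.basis p n A).ext
    intro i
    rw [LinearMap.comp_apply, AlphaPn.basis_apply, hs _ i.2, Bialgebra.counit_pow, Bialgebra.counit_pow,
      SekSuwa.A.counit_t, AlphaPn.counit_x]
  have hφs : ∀ v : AlphaPn.A p n A, φ (s v) = v := by
    have : ((φ : SekSuwa.A A 0 →ₐ[A] AlphaPn.A p n A).toLinearMap) ∘ₗ s = LinearMap.id := by
      apply (AlphaPn.basis p n A).ext
      intro i
      rw [LinearMap.comp_apply, AlphaPn.basis_apply, hs _ i.2]
      change φ (t ^ (i : ℕ)) = _
      rw [map_pow, hφ]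
      rfl
    intro v
    exact LinearMap.congr_fun this v
  refine ⟨s u, ⟨?_, ?_⟩, hφs u⟩
  · have := LinearMap.congr_fun hcounit u
    rw [LinearMap.comp_apply] at this
    rw [this, hu.counit_eq_one]
  · have := LinearMap.congr_fun hcomul u
    rw [LinearMap.comp_apply, LinearMap.comp_apply, hu.comul_eq_tmul_self, TensorProduct.map_tmul] at this
    exact this

end Groth.Agent.S16478
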