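import Groth.Statements.S16486
import Groth.Agent.Lib.Helper80.SubQCoh
import Groth.Agent.Lib.Helper80.UnitIsoDepth
import Groth.Agent.Lib.Helper45.RefHullStalk
import Groth.Agent.Lib.Helper45.RefHullDepth
import Groth.Agent.Lib.Helper45.ReflexiveAlg
import Groth.Agent.Lib.Helper12.QuasiFlat
import Groth.Agent.Lib.Helper49.StalkNbhd2
import Groth.Agent.Lib.Helper49.FinitePresentation

set_option autoImplicit false
universe u
open CategoryTheory AlgebraicGeometry
open SGA3

namespace Groth.Agent.S16486
theorem isPrincipalIdealRing_of_dim_le_one (R : Type u) [CommRing R] [IsNoetherianRing R]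
    [IsLocalRing R] [IsDomain R] [IsIntegrallyClosed R] (h : ringKrullDim R ≤ 1) :
    IsPrincipalIdealRing R := by
  have hdim : Ring.KrullDimLE 1 R := Ring.krullDimLE_iff.mpr (by exact_mod_cast h)
  have h4 : IsIntegrallyClosed R ∧
      ∀ P : Ideal R, P ≠ ⊥ → P.IsPrime → P = IsLocalRing.maximalIdeal R :=
    ⟨inferInstance, fun P hP hPp => IsLocalRing.eq_maximalIdeal (hPp.isMaximal_of_ne_bot hP)⟩
  exact ((tfae_of_isNoetherianRing_of_isLocalRing_of_isDomain (R := R)).out 3 0).mp h4

theorem withBot_enat_two_le_of_not_le_one {d : WithBot ℕ∞} (h : ¬ d ≤ 1) : (2 : WithBot ℕ∞) ≤ d := by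
  induction d using WithBot.recBotCoe with
  | bot => exact absurd bot_le h
  | coe d =>
    have h' : ¬ d ≤ 1 := fun h1 => h (WithBot.coe_le_coe.mpr h1)
    have : (2 : ℕ∞) ≤ d := by
      induction d using ENat.recTopCoe with
      | top => exact le_top
      | coe n =>
        have : ¬ n ≤ 1 := fun h1 => h' (by exact_mod_cast h1)
        have : 2 ≤ n := by omega
        exact_mod_cast this
    exact WithBot.coe_le_coe.mpr this

theorem not_le_one_of_two_le {d : WithBot ℕ∞} (h : (2 : WithBot ℕ∞) ≤ d) : ¬ d ≤ 1 := by
  intro h1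
  exact absurd (h.trans h1) (by decide)

open Groth.Agent.Lib.Helper45.RefHullStalk in
/-- stalks of the double dual are reflexive -/
theorem isReflexiveAt_ddual (X : Scheme.{u}) [IsLocallyNoetherian X] (F : X.Modules)
    (hF : Coh.IsCoh F) (x : X) [IsDomain (X.presheaf.stalk x)] :
    Module.IsReflexive (X.presheaf.stalk x) ((RefHull.ddual F).presheaf.stalk x) := by
  have hDc := isCoh_dual F hF
  have : Module.Finite (X.presheaf.stalk x) ((RefHull.dual F).presheaf.stalk x) :=
    Groth.Agent.Lib.Helper12.QuasiFlat.finite_stalk_of_isCoh _ hDc x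
  have : IsNoetherianRing (X.presheaf.stalk x) := inferInstance
  have := Groth.Agent.Lib.Helper45.ReflexiveAlg.isReflexive_dual (X.presheaf.stalk x)
    ((RefHull.dual F).presheaf.stalk x)
  exact Module.equiv (dualStalkEquiv (RefHull.dual F) hDc x).symm



/-- Let S be a Noetherian normal scheme, A a flat quasi-coherent O_S-module, F ⊆ A a sub-O_S-module of
finite type, and U ⊆ S the set of points s at which the stalk F_s is a flat O_{S,s}-module (the
flatness locus of F, which is open); write j : U → S for the inclusion of the corresponding open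
subscheme. Then the bidual F^** = 𝓗om(𝓗om(F, O_S), O_S) is identified with j_* j^* F: there is an
isomorphism F^** ≅ j_*(F|_U) whose composite with the canonical map F → F^** is the unit F → j_* j^*
F of the adjunction between restriction to U and direct image (such an isomorphism is unique). The
openness of U is taken as part of the hypothesis that U is an open with this underlying set. -/
theorem result (S : Scheme.{u}) [IsNoetherian S]
    (hS : Pi1.IsNormalScheme S) (A F : S.Modules) (hA : Coh.IsQCoh A) (hAfl : FlatMod.IsFlat A)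
    (ι : F ⟶ A) [Mono ι] (hF : CohB1.IsFT F) (U : S.Opens) (hU : (U : Set S) = {s : S | FlatMod.IsFlatAt F s}) :
    ∃ e : RefHull.ddual F ≅ (Scheme.Modules.pushforward U.ι).obj (F.restrict U.ι),
      RefHull.bidualMap F ≫ e.hom = (Scheme.Modules.restrictAdjunction U.ι).unit.app F := by
  have hAq : A.IsQuasicoherent := hA
  have hFq : F.IsQuasicoherent :=
    Groth.Agent.Lib.Helper80.SubQCoh.isQuasicoherent_of_mono_of_isFiniteType ι hAq hF
  have hFc : Coh.IsCoh F := ⟨hFq, hF⟩
  have hfp : SheafOfModules.IsFinitePresentation (R := S.ringCatSheaf) F :=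
    Groth.Agent.Lib.Helper49.isFinitePresentation_of_isFiniteType_of_noetherian F hF
  have hfin : ∀ x : S, Module.Finite (S.presheaf.stalk x) (F.presheaf.stalk x) := fun x =>
    Groth.Agent.Lib.Helper12.QuasiFlat.finite_stalk_of_isCoh F hFc x
  have hmemU : ∀ x : S, x ∈ U ↔ Module.Flat (S.presheaf.stalk x) (F.presheaf.stalk x) := by
    intro x
    change x ∈ (U : Set S) ↔ _
    rw [hU]
    rfl
  -- torsion-freeness of the stalks of F
  have htf : ∀ x : S, Module.IsTorsionFree (S.presheaf.stalk x) (F.presheaf.stalk x) := by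
    intro x
    have := (hS x).1
    have : Module.Flat (S.presheaf.stalk x) (A.presheaf.stalk x) := hAfl x
    exact Function.Injective.moduleIsTorsionFree
      (Groth.Agent.Lib.Helper49.stalkMapLinear ι x)
      (Groth.Agent.Lib.Helper49.stalkMap_injective_of_mono ι x) (fun r m => map_smul _ r m)
  have hcodim : ∀ x : S, x ∉ U → (2 : WithBot ℕ∞) ≤ ringKrullDim (S.presheaf.stalk x) := by
    intro x hxU
    apply withBot_enat_two_le_of_not_le_one
    intro h1
    apply hxU
    rw [hmemU]
    have := (hS x).1
    have := (hS x).2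
    have := isPrincipalIdealRing_of_dim_le_one (S.presheaf.stalk x) h1
    have := hfin x
    have := htf x
    have : Module.Free (S.presheaf.stalk x) (F.presheaf.stalk x) := inferInstance
    exact Module.Flat.of_free
  have hdepthO : ∀ x : S, x ∉ U →
      (2 : ℕ∞) ≤ LocCoh.depth (S.presheaf.stalk x) (S.presheaf.stalk x) := by
    intro x hxU
    have := (hS x).1
    have := (hS x).2
    exact Groth.Agent.Lib.Helper45.RefHullDepth.two_le_depth_of_isIntegrallyClosed _
      (not_le_one_of_two_le (hcodim x hxU))
  have hGc := Groth.Agent.Lib.Helper45.RefHullStalk.isCoh_ddual F hFc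
  let η := (Scheme.Modules.restrictAdjunction U.ι).unit
  have hnat : RefHull.bidualMap F ≫ η.app (RefHull.ddual F) =
      η.app F ≫ (Scheme.Modules.restrictFunctor U.ι ⋙ Scheme.Modules.pushforward U.ι).map
        (RefHull.bidualMap F) := η.naturality (RefHull.bidualMap F)
  have hG : IsIso (η.app (RefHull.ddual F)) := by
    refine Groth.Agent.Lib.Helper80.isIso_unit_of_depth _ hGc U fun x hxU => ?_
    have := (hS x).1
    exact Groth.Agent.Lib.Helper45.RefHullDepth.two_le_depth_stalk_of_isReflexiveAt _ hGc x
      (isReflexiveAt_ddual S F hFc x) (hdepthO x hxU)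
  have hres : IsIso ((Scheme.Modules.restrictFunctor U.ι).map (RefHull.bidualMap F)) := by
    refine Groth.Agent.Lib.Helper49.isIso_of_stalkMap_bijective _ fun y => ?_
    have hflat : Module.Flat (S.presheaf.stalk (U.ι y)) ↑(F.presheaf.stalk (U.ι y)) :=
      (hmemU _).mp y.2
    have := hfin (U.ι y)
    have : Module.FinitePresentation (S.presheaf.stalk (U.ι y)) ↑(F.presheaf.stalk (U.ι y)) :=
      Module.finitePresentation_of_finite _ _
    have hfy : Module.Free (S.presheaf.stalk (U.ι y)) ↑(F.presheaf.stalk (U.ι y)) :=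
      Module.free_of_flat_of_isLocalRing
    have hry : RefHull.IsReflexiveAt F (U.ι y) := by
      unfold RefHull.IsReflexiveAt
      infer_instance
    have hb := (Groth.Agent.Lib.Helper45.RefHullStalk.stalkMap_bidualMap_bijective_iff F hFc
      (U.ι y)).mpr hry
    exact ⟨Groth.Agent.Lib.Helper49.stalkMap_restrict_injective U.ι _ y hb.1,
      Groth.Agent.Lib.Helper49.stalkMap_restrict_surjective U.ι _ y hb.2⟩
  have hmid : IsIso ((Scheme.Modules.restrictFunctor U.ι ⋙ Scheme.Modules.pushforward U.ι).map
      (RefHull.bidualMap F)) := by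
    change IsIso ((Scheme.Modules.pushforward U.ι).map
      ((Scheme.Modules.restrictFunctor U.ι).map (RefHull.bidualMap F)))
    infer_instance
  refine ⟨asIso (η.app (RefHull.ddual F)) ≪≫ (asIso ((Scheme.Modules.restrictFunctor U.ι ⋙
    Scheme.Modules.pushforward U.ι).map (RefHull.bidualMap F))).symm, ?_⟩
  rw [Iso.trans_hom, Iso.symm_hom, asIso_hom, asIso_inv, ← Category.assoc, hnat, Category.assoc,
    IsIso.hom_inv_id]
  exact Category.comp_id _

end Groth.Agent.S16486
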