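import Groth.Statements.S16488
import Groth.Agent.Lib.Helper80.ReflexiveFree
import Groth.Agent.Lib.Helper45.RefHullStalk
import Groth.Agent.Lib.Helper12.QuasiFlat

set_option autoImplicit false
universe u
open CategoryTheory CategoryTheory.Limits AlgebraicGeometry TopologicalSpace
open VBPn

namespace Groth.Agent.S16488
theorem withBot_enat_le_two_of_not_three_le (d : WithBot ℕ∞) (h : ¬ (3 : WithBot ℕ∞) ≤ d) :
    d ≤ 2 := by
  induction d using WithBot.recBotCoe with
  | bot => exact bot_le
  | coe d =>
    have h' : ¬ (3 : ℕ∞) ≤ d := fun h3 => h (WithBot.coe_le_coe.mpr h3)
    have : d ≤ 2 := by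
      induction d using ENat.recTopCoe with
      | top => exact absurd le_top h'
      | coe n =>
        have : ¬ 3 ≤ n := fun h3 => h' (by exact_mod_cast h3)
        have : n ≤ 2 := by omega
        exact_mod_cast this
    exact WithBot.coe_le_coe.mpr this



/-- Let X be an integral locally Noetherian scheme all of whose local rings are regular, and F a
coherent O_X-module which is reflexive, i.e. the canonical map F → F^** is an isomorphism. Then the
singularity set of F (the set of points at which the stalk of F is not free) has codimension at
least 3: for every point x such that F_x is not a free O_{X,x}-module, the local ring O_{X,x} has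
dimension at least 3. The published statement is for reflexive coherent analytic sheaves on a
complex manifold; this row is its statement for coherent sheaves on a regular integral locally
Noetherian scheme, where the same argument (a reflexive sheaf is locally a second syzygy sheaf)
applies. -/
theorem result (X : Scheme.{u}) [IsIntegral X] [IsLocallyNoetherian X]
    (hreg : ∀ x : X, IsRegularLocalRing (X.presheaf.stalk x)) (F : X.Modules) (hF : Coh.IsCoh F)
    (hrefl : RefHull.IsReflexive F) (x : X) (hx : ¬ Module.Free (X.presheaf.stalk x) (F.presheaf.stalk x)) :
    (3 : WithBot ℕ∞) ≤ ringKrullDim (X.presheaf.stalk x) := by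
  by_contra hlt
  have hle := withBot_enat_le_two_of_not_three_le _ hlt
  apply hx
  have := hreg x
  have : Module.IsReflexive (X.presheaf.stalk x) (F.presheaf.stalk x) :=
    (Groth.Agent.Lib.Helper45.RefHullStalk.isReflexive_iff_forall_isReflexiveAt F hF).mp hrefl x
  have : Module.Finite (X.presheaf.stalk x) (F.presheaf.stalk x) :=
    Groth.Agent.Lib.Helper12.QuasiFlat.finite_stalk_of_isCoh F hF x
  exact Groth.Agent.Lib.Helper80.ReflexiveFree.free_of_isReflexive_of_dim_le_two _ hle _

end Groth.Agent.S16488
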