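import Groth.Statements.S16490
import Groth.Agent.Lib.Helper45.RefHullRegular

set_option autoImplicit false
universe u
open CategoryTheory CategoryTheory.Limits AlgebraicGeometry TopologicalSpace
open VBPn

namespace Groth.Agent.S16490

/-- Let X be an integral locally Noetherian scheme all of whose local rings are regular, and let 0 → F →
E → Q → 0 be a short exact sequence of coherent O_X-modules in which E is reflexive (the canonical
map E → E^** is an isomorphism) and Q is torsion-free (every stalk Q_x is a torsion-free
O_{X,x}-module). Then F is normal: for all open subsets V ⊆ U of X such that every point of U not in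
V has local ring of dimension at least 2, the restriction map F(U) → F(V) is bijective. The
published statement is for coherent analytic sheaves on a complex manifold, a sheaf being called
normal when for every open U and every analytic subset A ⊆ U of codimension at least 2 the
restriction F(U) → F(U ∖ A) is bijective; this row is its statement for coherent sheaves on a
regular integral locally Noetherian scheme, with normality phrased through open subsets V ⊆ U whose
complement in U consists of points with local ring of dimension at least 2, where the same argument
applies. -/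
theorem result (X : Scheme.{u}) [IsIntegral X] [IsLocallyNoetherian X]
    (hreg : ∀ x : X, IsRegularLocalRing (X.presheaf.stalk x)) (S : ShortComplex X.Modules) (hS : S.ShortExact)
    (hF : Coh.IsCoh S.X₁) (hE : Coh.IsCoh S.X₂) (hQ : Coh.IsCoh S.X₃)
    (hErefl : RefHull.IsReflexive S.X₂) (hQtf : TorSh.IsTorsionFree S.X₃) :
    (∀ (U V : X.Opens) (hVU : V ≤ U), (∀ x : X, x ∈ U → x ∉ V → (2 : WithBot ℕ∞) ≤ ringKrullDim (X.presheaf.stalk x)) →
        Function.Bijective (S.X₁.presheaf.map (homOfLE hVU).op)) := by
  intro U V hVU h
  refine Groth.Agent.Lib.Helper45.RefHullDepth.res_bijective_of_depth S.X₁ hF hVU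
    fun x hxU hxV => ?_
  have hx := h x hxU hxV
  have := hreg x
  have hE2 := Groth.Agent.Lib.Helper45.RefHullRegular.two_le_depth_stalk_of_isReflexive hreg
    S.X₂ hE hErefl x hx
  have : Module.IsTorsionFree (X.presheaf.stalk x) (S.X₃.presheaf.stalk x) := hQtf x
  have : Module.Finite (X.presheaf.stalk x) (S.X₃.presheaf.stalk x) :=
    Groth.Agent.Lib.Helper12.QuasiFlat.finite_stalk_of_isCoh _ hQ x
  have hQ1 := Groth.Agent.Lib.Helper45.RefHullDepth.one_le_depth_of_isTorsionFree
    (X.presheaf.stalk x)
    (Groth.Agent.Lib.Helper45.RefHullRegular.not_isField_of_two_le_ringKrullDim _ hx)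
    (S.X₃.presheaf.stalk x)
  exact Groth.Agent.Lib.Helper45.RefHullDepth.two_le_depth_of_shortExact S hS hF hE hQ x hE2 hQ1

end Groth.Agent.S16490
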