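import Groth.Statements.S16496
import Groth.Agent.Lib.Helper80.FlatHartogs
import Groth.Agent.Lib.Helper45.RefHullDepth

set_option autoImplicit false
universe u
open CategoryTheory AlgebraicGeometry
open SGA3

namespace Groth.Agent.S16496


/-- Let S be a Noetherian normal scheme, A a flat quasi-coherent O_S-module (not assumed of finite type)
and j : U → S the inclusion of an open subscheme containing every point of S whose local ring has
dimension at most 1. Then A = j_* j^* A: the unit A → j_*(A|_U) of the adjunction between
restriction to U and direct image along j is an isomorphism. In the source U is the flatness locus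
of a finite type submodule of A, an open which contains all points of codimension at most 1; the
printed argument uses only this property of U. -/
theorem result (S : Scheme.{u}) [IsNoetherian S]
    (hS : Pi1.IsNormalScheme S) (A : S.Modules) (hA : Coh.IsQCoh A) (hAfl : FlatMod.IsFlat A)
    (U : S.Opens) (hU : ∀ s : S, ringKrullDim (S.presheaf.stalk s) ≤ 1 → s ∈ U) :
    IsIso ((Scheme.Modules.restrictAdjunction U.ι).unit.app A) := by
  have hAq : A.IsQuasicoherent := hA
  refine Groth.Agent.Lib.Helper80.isIso_unit_of_flat A hAfl U fun x hxU => ?_
  have := (hS x).1
  have := (hS x).2
  exact Groth.Agent.Lib.Helper45.RefHullDepth.two_le_depth_of_isIntegrallyClosed _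
    (fun h1 => hxU (hU x h1))

end Groth.Agent.S16496
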