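import Groth.Statements.S16498
import Mathlib.Tactic
import Mathlib.Data.Nat.Choose.Lucas
import Mathlib.Algebra.Polynomial.Degree.Support
import Mathlib.Algebra.Polynomial.Degree.Lemmas

set_option autoImplicit false
universe u
open Curves

namespace Groth.Agent.S16498
open Polynomial Finset

variable {k : Type u} [Field k]

/-- coefficient of `h.comp (X + C α)` -/
theorem coeff_comp_X_add_C (h : k[X]) (α : k) (B : ℕ) (hB : h.natDegree < B) (n : ℕ) :
    (h.comp (X + C α)).coeff n = ∑ l ∈ range B, h.coeff l * (α ^ (l - n) * (l.choose n : k)) := by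
  conv_lhs => rw [as_sum_range' h B hB]
  simp only [Polynomial.sum_comp, monomial_comp, finsetSum_coeff, coeff_C_mul, coeff_X_add_C_pow]

/-- splitting a sum over `range (q * p)` into blocks -/
theorem sum_range_mul_blocks {M : Type*} [AddCommMonoid M] (F : ℕ → M) (q p : ℕ) :
    ∑ l ∈ range (q * p), F l = ∑ I ∈ range q, ∑ r ∈ range p, F (I * p + r) := by
  induction q with
  | zero => simp
  | succ q ih =>
    rw [Nat.succ_mul, sum_range_add, ih, sum_range_succ]

/-- Lucas in the field -/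
theorem choose_cast_lucas (p : ℕ) [Fact p.Prime] [CharP k p] (a b c d : ℕ) (hb : b < p) (hd : d < p) :
    (((a * p + b).choose (c * p + d) : ℕ) : k) = ((a.choose c * b.choose d : ℕ) : k) := by
  have h := @Choose.choose_modEq_choose_mod_mul_choose_div_nat (a * p + b) (c * p + d) p _
  have h1 : (a * p + b) % p = b := by rw [Nat.mul_add_mod_of_lt hb]
  have h2 : (c * p + d) % p = d := by rw [Nat.mul_add_mod_of_lt hd]
  have hp : 0 < p := (Fact.out : p.Prime).pos
  have h3 : (a * p + b) / p = a := by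
    rw [Nat.add_div_of_dvd_right (Dvd.intro_left a rfl), Nat.mul_div_cancel _ hp, Nat.div_eq_of_lt hb, add_zero]
  have h4 : (c * p + d) / p = c := by
    rw [Nat.add_div_of_dvd_right (Dvd.intro_left c rfl), Nat.mul_div_cancel _ hp, Nat.div_eq_of_lt hd, add_zero]
  rw [h1, h2, h3, h4] at h
  have := (CharP.natCast_eq_natCast k p).mpr h
  rw [this, mul_comm]


/-- Let k be a field of odd characteristic p, g ≤ p a natural number, f ∈ k[x] of degree at most 2g + 2,
and α ∈ k. Write f^((p-1)/2) = Σ_l c_l x^l and f(x + α)^((p-1)/2) = Σ_l d_l x^l, and form the g × g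
Cartier–Manin matrices (c_{ip-j}) and (d_{ip-j}), indices i, j = 1, …, g (below written with i, j
ranging over Fin g, so that the entry at (i, j) is the coefficient of x^((i+1)p-(j+1))). Then
(d_{ip-j}) = L · (c_{ip-j}) · U with L_{i,I} = binom(I-1, i-1) α^((I-i)p) and U_{J,j} = binom(p-J,
p-j) α^(j-J); both L and U are unitriangular since a binomial coefficient vanishes when its lower
index exceeds its upper index. (The source works over a perfect field, with f separable of degree 2g
+ 2 and α ∈ k^* a root of f, hypotheses this identity does not use.) -/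
theorem result (k : Type u) [Field k] (p : ℕ) [Fact p.Prime] (hp : p ≠ 2) [CharP k p]
    (g : ℕ) (hg : g ≤ p) (f : Polynomial k) (hf : f.natDegree ≤ 2 * g + 2) (α : k) :
    (Matrix.of fun i j : Fin g =>
        ((f.comp (Polynomial.X + Polynomial.C α)) ^ ((p - 1) / 2)).coeff (((i : ℕ) + 1) * p - ((j : ℕ) + 1))) =
      (Matrix.of fun i I : Fin g => (((I : ℕ).choose (i : ℕ) : ℕ) : k) * α ^ (((I : ℕ) - (i : ℕ)) * p)) *
        (Matrix.of fun i j : Fin g => (f ^ ((p - 1) / 2)).coeff (((i : ℕ) + 1) * p - ((j : ℕ) + 1))) *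
        (Matrix.of fun J j : Fin g => (((p - ((J : ℕ) + 1)).choose (p - ((j : ℕ) + 1)) : ℕ) : k) * α ^ ((j : ℕ) - (J : ℕ))) := by
  have hpp : p.Prime := Fact.out
  have hodd : p % 2 = 1 := by
    rcases hpp.eq_two_or_odd with h | h
    · exact absurd h hp
    · exact h
  obtain ⟨m, hm⟩ : ∃ m, p = 2 * m + 1 := ⟨p / 2, by omega⟩
  have hm' : (p - 1) / 2 = m := by omega
  rw [hm']
  set h : k[X] := f ^ m with hh
  have hdeg : h.natDegree ≤ m * (2 * g + 2) := natDegree_pow_le_of_le m hf
  have hN : m * (2 * g + 2) + (g + 1) = (g + 1) * p := by rw [hm]; ring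
  have hB : h.natDegree < (g + 1) * p := by omega
  ext i j
  have hi := i.isLt
  have hj := j.isLt
  simp only [Matrix.of_apply, Matrix.mul_apply]
  rw [← pow_comp, ← hh]
  -- the target index
  have hn : ((i : ℕ) + 1) * p - ((j : ℕ) + 1) = (i : ℕ) * p + (p - 1 - (j : ℕ)) := by
    have : ((i : ℕ) + 1) * p = (i : ℕ) * p + p := by ring
    omega
  -- T
  set T : ℕ → ℕ → k := fun I J =>
    ((((I.choose (i : ℕ) : ℕ) : k) * α ^ ((I - (i : ℕ)) * p)) * h.coeff ((I + 1) * p - (J + 1))) *
      ((((p - (J + 1)).choose (p - ((j : ℕ) + 1)) : ℕ) : k) * α ^ ((j : ℕ) - J)) with hT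
  -- RHS
  have hR : (∑ J : Fin g, (∑ I : Fin g,
      ((((I : ℕ).choose (i : ℕ) : ℕ) : k) * α ^ (((I : ℕ) - (i : ℕ)) * p)) *
        h.coeff (((I : ℕ) + 1) * p - ((J : ℕ) + 1))) *
      ((((p - ((J : ℕ) + 1)).choose (p - ((j : ℕ) + 1)) : ℕ) : k) * α ^ ((j : ℕ) - (J : ℕ)))) =
      ∑ J ∈ range g, ∑ I ∈ range g, T I J := by
    rw [← Fin.sum_univ_eq_sum_range (fun J => ∑ I ∈ range g, T I J) g]
    apply Finset.sum_congr rfl
    intro J _
    rw [← Fin.sum_univ_eq_sum_range (fun I => T I J) g, Finset.sum_mul]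
  rw [hR]
  -- LHS
  rw [coeff_comp_X_add_C h α ((g + 1) * p) hB, sum_range_mul_blocks]
  have hL : ∀ I, ∑ r ∈ range p, h.coeff (I * p + r) *
      (α ^ (I * p + r - (((i : ℕ) + 1) * p - ((j : ℕ) + 1))) *
        ((I * p + r).choose (((i : ℕ) + 1) * p - ((j : ℕ) + 1)) : k)) = ∑ J ∈ range p, T I J := by
    intro I
    rw [← Finset.sum_range_reflect]
    apply Finset.sum_congr rfl
    intro J hJ
    rw [Finset.mem_range] at hJ
    rw [hn, choose_cast_lucas p I (p - 1 - J) (i : ℕ) (p - 1 - (j : ℕ)) (by omega) (by omega)]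
    simp only [hT]
    have e1 : I * p + (p - 1 - J) = (I + 1) * p - (J + 1) := by
      have : (I + 1) * p = I * p + p := by ring
      omega
    have e2 : p - (J + 1) = p - 1 - J := by omega
    have e3 : p - ((j : ℕ) + 1) = p - 1 - (j : ℕ) := by omega
    rw [e1, e2, e3]
    by_cases hc1 : I.choose (i : ℕ) = 0
    · simp [hc1]
    by_cases hc2 : (p - 1 - J).choose (p - 1 - (j : ℕ)) = 0
    · simp [hc2]
    have hIi : (i : ℕ) ≤ I := by
      by_contra hlt
      exact hc1 (Nat.choose_eq_zero_of_lt (by omega))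
    have hJj : p - 1 - (j : ℕ) ≤ p - 1 - J := by
      by_contra hlt
      exact hc2 (Nat.choose_eq_zero_of_lt (by omega))
    have e4 : (I + 1) * p - (J + 1) - ((i : ℕ) * p + (p - 1 - (j : ℕ))) =
        (I - (i : ℕ)) * p + ((j : ℕ) - J) := by
      obtain ⟨d, rfl⟩ := Nat.exists_eq_add_of_le hIi
      have h1 : ((i : ℕ) + d + 1) * p = (i : ℕ) * p + d * p + p := by ring
      have h2 : ((i : ℕ) + d - (i : ℕ)) = d := by omega
      rw [h1, h2]
      omega
    rw [e4, pow_add]
    push_cast
    ring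
  rw [Finset.sum_congr rfl (fun I _ => hL I)]
  -- vanishing
  have hv1 : ∀ I J, g ≤ J → J < p → T I J = 0 := by
    intro I J hgJ hJp
    simp only [hT]
    have : (p - (J + 1)).choose (p - ((j : ℕ) + 1)) = 0 := Nat.choose_eq_zero_of_lt (by omega)
    rw [this]; simp
  have hv2 : ∀ J, J < g → T g J = 0 := by
    intro J hJ
    simp only [hT]
    have : h.coeff ((g + 1) * p - (J + 1)) = 0 := by
      apply coeff_eq_zero_of_natDegree_lt
      omega
    rw [this]; simp
  have hS1 : ∀ I, ∑ J ∈ range p, T I J = ∑ J ∈ range g, T I J := by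
    intro I
    symm
    apply Finset.sum_subset (Finset.range_subset_range.mpr hg)
    intro J hJ1 hJ2
    rw [Finset.mem_range] at hJ1 hJ2
    exact hv1 I J (by omega) hJ1
  rw [Finset.sum_congr rfl (fun I _ => hS1 I), Finset.sum_range_succ]
  have : ∑ J ∈ range g, T g J = 0 := Finset.sum_eq_zero (fun J hJ => hv2 J (Finset.mem_range.mp hJ))
  rw [this, add_zero, Finset.sum_comm]

end Groth.Agent.S16498
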