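import Groth.Statements.S16500
import Mathlib.Tactic
import Mathlib.Algebra.Polynomial.Reverse
import Mathlib.Algebra.Polynomial.Degree.Lemmas

set_option autoImplicit false
universe u
open Curves

namespace Groth.Agent.S16500

open Polynomial in
theorem reflect_pow_of_le {R : Type u} [CommSemiring R] (f : R[X]) (N : ℕ) (hf : f.natDegree ≤ N)
    (m : ℕ) : reflect (m * N) (f ^ m) = (reflect N f) ^ m := by
  induction m with
  | zero => simp [reflect_one]
  | succ m ih =>
    rw [pow_succ, pow_succ, ← ih, Nat.succ_mul]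
    exact reflect_mul (f ^ m) f (natDegree_pow_le_of_le m hf) hf

/-- Let k be a field of odd characteristic p, g ≤ p a natural number and f ∈ k[x] of degree at most 2g +
2. Let F be f with its coefficients reversed in degrees 0, …, 2g + 2, i.e. F(X) = X^(2g+2) f(1/X)
(Mathlib's reflect (2g+2) f), and write f^((p-1)/2) = Σ_l c_l x^l and F^((p-1)/2) = Σ_l C_l X^l.
Then C_{ip-j} = c_{(g+1-i)p-(g+1-j)} for all i, j = 1, …, g; that is, the g × g Cartier–Manin matrix
of F is that of f with the order of both rows and columns reversed (below the indices run over Fin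
g, the entry at (i, j) being the coefficient of degree (i+1)p-(j+1), and reversal is Fin.rev). In
particular the two matrices have the same determinant. (The source applies this to f with f(0) = 0,
separable of degree 2g + 2 over a perfect field, so that F has odd degree 2g + 1; the identity uses
none of that.) -/
theorem result (k : Type u) [Field k] (p : ℕ) [Fact p.Prime] (hp : p ≠ 2) [CharP k p]
    (g : ℕ) (hg : g ≤ p) (f : Polynomial k) (hf : f.natDegree ≤ 2 * g + 2) :
    (Matrix.of fun i j : Fin g =>
        ((Polynomial.reflect (2 * g + 2) f) ^ ((p - 1) / 2)).coeff (((i : ℕ) + 1) * p - ((j : ℕ) + 1))) =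
      Matrix.of fun i j : Fin g =>
        (f ^ ((p - 1) / 2)).coeff (((Fin.rev i : ℕ) + 1) * p - ((Fin.rev j : ℕ) + 1)) := by
  have hpp : p.Prime := Fact.out
  have hodd : p % 2 = 1 := by
    rcases hpp.eq_two_or_odd with h | h
    · exact absurd h hp
    · exact h
  obtain ⟨m, hm⟩ : ∃ m, p = 2 * m + 1 := ⟨p / 2, by omega⟩
  have hm' : (p - 1) / 2 = m := by omega
  ext i j
  simp only [Matrix.of_apply]
  rw [hm', ← reflect_pow_of_le f (2 * g + 2) hf m, Polynomial.coeff_reflect]
  have hi := i.isLt
  have hj := j.isLt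
  have hri : (Fin.rev i : ℕ) = g - 1 - i := by rw [Fin.val_rev]; omega
  have hrj : (Fin.rev j : ℕ) = g - 1 - j := by rw [Fin.val_rev]; omega
  rw [hri, hrj]
  have h1 : ((i : ℕ) + 1) * p ≤ g * p := Nat.mul_le_mul_right p (by omega)
  have h2 : m * (2 * g + 2) = g * p + p - g - 1 := by
    subst hm
    have : g * (2 * m + 1) + (2 * m + 1) = m * (2 * g + 2) + g + 1 := by ring
    omega
  have h3 : g * p ≥ g * g := Nat.mul_le_mul_left g hg
  have hle : ((i : ℕ) + 1) * p - ((j : ℕ) + 1) ≤ m * (2 * g + 2) := by
    rw [h2]; omega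
  rw [Polynomial.revAt_le hle]
  congr 1
  have h4 : (g - 1 - (i : ℕ) + 1) = g - i := by omega
  have h5 : (g - 1 - (j : ℕ) + 1) = g - j := by omega
  rw [h4, h5, h2]
  have h6 : (g - (i : ℕ)) * p + ((i : ℕ) + 1) * p = g * p + p := by
    have : (g - (i : ℕ)) + ((i : ℕ) + 1) = g + 1 := by omega
    rw [← Nat.add_mul, this]; ring
  have h7 : ((i : ℕ) + 1) * p ≥ (j : ℕ) + 1 := by
    calc ((i : ℕ) + 1) * p ≥ 1 * p := Nat.mul_le_mul_right p (by omega)
      _ = p := one_mul p
      _ ≥ (j : ℕ) + 1 := by omega
  omega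

end Groth.Agent.S16500
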