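import Groth.Statements.S16501
import Mathlib
import Groth.Agent.Lib.Helper68.KrasnerDVR

set_option autoImplicit false
universe u
open Hensel

namespace Groth.Agent.S16501

set_option linter.style.haveILetI false
open Polynomial IsLocalRing

/-- In a domain integral over a DVR, every nonzero element divides a power of the uniformizer. -/
theorem exists_mul_eq_pow {A : Type*} [CommRing A] [IsDomain A] [IsDiscreteValuationRing A]
    (ϖ : A) (hϖ : Irreducible ϖ) {B : Type*} [CommRing B] [IsDomain B] [Algebra A B]
    [Algebra.IsIntegral A B] (δ : B) (hδ : δ ≠ 0) :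
    ∃ (d : ℕ) (b' : B), δ * b' = algebraMap A B (ϖ ^ d) := by
  have hint : IsIntegral A δ := Algebra.IsIntegral.isIntegral δ
  have h0 : (minpoly A δ).coeff 0 ≠ 0 := by
    intro h0
    have hX : (X : A[X]) ∣ minpoly A δ := X_dvd_iff.2 h0
    obtain ⟨q, hq⟩ := hX
    have hirr := minpoly.irreducible hint
    rw [hq] at hirr
    rcases hirr.isUnit_or_isUnit rfl with h | h
    · exact not_isUnit_X h
    · obtain ⟨c, hc, rfl⟩ := Polynomial.isUnit_iff.1 h
      have h1 : aeval δ (minpoly A δ) = 0 := minpoly.aeval A δ
      rw [hq] at h1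
      simp only [map_mul, aeval_X, aeval_C] at h1
      rcases mul_eq_zero.1 h1 with h | h
      · exact hδ h
      · exact (hc.map (algebraMap A B)).ne_zero h
  obtain ⟨d, hd⟩ := IsDiscreteValuationRing.associated_pow_irreducible h0 hϖ
  obtain ⟨u, hu⟩ := hd
  -- hu : (minpoly A δ).coeff 0 * u = ϖ ^ d
  have h1 : aeval δ (minpoly A δ) = 0 := minpoly.aeval A δ
  have h2 : minpoly A δ = X * divX (minpoly A δ) + C ((minpoly A δ).coeff 0) :=
    (X_mul_divX_add _).symm
  rw [h2] at h1
  simp only [map_add, map_mul, aeval_X, aeval_C] at h1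
  refine ⟨d, - (aeval δ (divX (minpoly A δ))) * algebraMap A B u, ?_⟩
  rw [← hu, map_mul]
  have h3 : δ * aeval δ (divX (minpoly A δ)) = - algebraMap A B ((minpoly A δ).coeff 0) :=
    eq_neg_of_add_eq_zero_left h1
  linear_combination (-(algebraMap A B) ↑u) * h3

/-- Newton step: a root of `f` in `B` gives a root of `f` in `C` when `B/ϖ^m ≅ C/ϖ^m`. -/
theorem exists_root_of_quotient_equiv {A : Type*} [CommRing A] [IsDomain A]
    [IsDiscreteValuationRing A] [IsAdicComplete (maximalIdeal A) A] (ϖ : A) (hϖ : Irreducible ϖ)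
    {B C : Type*} [CommRing B] [Algebra A B] [CommRing C] [IsLocalRing C] [Algebra A C]
    [Module.Finite A C] (hϖC : ¬ IsUnit (algebraMap A C ϖ))
    (f : A[X]) (θ b' : B) (d m : ℕ) (hm : 2 * d + 1 < m) (hθ : aeval θ f = 0)
    (hb' : aeval θ (derivative f) * b' = algebraMap A B (ϖ ^ d))
    (e : (B ⧸ Ideal.span {algebraMap A B (ϖ ^ m)}) ≃ₐ[A]
      (C ⧸ Ideal.span {algebraMap A C (ϖ ^ m)})) :
    ∃ β : C, aeval β f = 0 := by
  set IB : Ideal B := Ideal.span {algebraMap A B (ϖ ^ m)} with hIB
  set IC : Ideal C := Ideal.span {algebraMap A C (ϖ ^ m)} with hIC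
  set p : C := algebraMap A C ϖ with hp
  obtain ⟨θC, hθC⟩ := Ideal.Quotient.mkₐ_surjective A IC (e (Ideal.Quotient.mkₐ A IB θ))
  obtain ⟨bC, hbC⟩ := Ideal.Quotient.mkₐ_surjective A IC (e (Ideal.Quotient.mkₐ A IB b'))
  -- congruence for f
  have h1 : Ideal.Quotient.mkₐ A IC (aeval θC f) = 0 := by
    rw [← aeval_algHom_apply, hθC, aeval_algHom_apply, aeval_algHom_apply, hθ, map_zero, map_zero]
  have h2 : Ideal.Quotient.mkₐ A IC (aeval θC (derivative f) * bC) =
      Ideal.Quotient.mkₐ A IC (algebraMap A C (ϖ ^ d)) := by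
    rw [map_mul, ← aeval_algHom_apply, hθC, hbC, aeval_algHom_apply, aeval_algHom_apply, ← map_mul,
      ← map_mul, hb', AlgHom.commutes, AlgEquiv.commutes, AlgHom.commutes]
  have hpm : algebraMap A C (ϖ ^ m) = p ^ m := by rw [map_pow]
  have hpd : algebraMap A C (ϖ ^ d) = p ^ d := by rw [map_pow]
  obtain ⟨c₁, hc₁⟩ : ∃ c₁, aeval θC f = p ^ m * c₁ := by
    have : aeval θC f ∈ IC := by
      rw [← Ideal.Quotient.eq_zero_iff_mem]; exact h1
    rw [hIC, hpm] at this
    obtain ⟨c, hc⟩ := Ideal.mem_span_singleton'.1 this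
    exact ⟨c, by rw [← hc, mul_comm]⟩
  obtain ⟨c₂, hc₂⟩ : ∃ c₂, aeval θC (derivative f) * bC = p ^ d + p ^ m * c₂ := by
    have : aeval θC (derivative f) * bC - algebraMap A C (ϖ ^ d) ∈ IC := by
      rw [← Ideal.Quotient.eq_zero_iff_mem]
      have := sub_eq_zero.2 h2
      rwa [← map_sub] at this
    rw [hIC, hpm, hpd] at this
    obtain ⟨c, hc⟩ := Ideal.mem_span_singleton'.1 this
    exact ⟨c, by linear_combination -hc⟩
  have hpmax : p ∈ maximalIdeal C := hϖC
  -- unit factor
  have hu : IsUnit (1 + p ^ (m - d) * c₂) := by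
    have : p ^ (m - d) * c₂ ∈ maximalIdeal C :=
      Ideal.mul_mem_right _ _ (Ideal.pow_mem_of_mem _ hpmax _ (by omega))
    have h3 := IsLocalRing.isUnit_one_sub_self_of_mem_nonunits (-(p ^ (m - d) * c₂))
      (by simpa using this)
    simpa using h3
  obtain ⟨u, hu'⟩ := hu
  set D := aeval θC (derivative f) with hD
  -- p^d = D * w
  have hw : p ^ d = D * (bC * ↑u⁻¹) := by
    have h4 : D * bC = p ^ d * ↑u := by
      rw [hc₂, hu']
      have : p ^ m = p ^ d * p ^ (m - d) := by rw [← pow_add]; congr 1; omega
      rw [this]; ring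
    calc p ^ d = p ^ d * (↑u * ↑u⁻¹) := by rw [Units.mul_inv, mul_one]
      _ = D * (bC * ↑u⁻¹) := by rw [← mul_assoc, ← h4]; ring
  set w := bC * ↑u⁻¹ with hwdef
  have hcomp : IsAdicComplete (Ideal.span {p}) C := by
    have h5 := Groth.Agent.Lib.Helper68.KrasnerDVR.isAdicComplete_map_of_finite A C
    rwa [hϖ.maximalIdeal_eq, Ideal.map_span, Set.image_singleton] at h5
  have key : (f.map (algebraMap A C)).eval θC =
      (derivative (f.map (algebraMap A C))).eval θC ^ 2 * (w ^ 2 * p ^ (m - 2 * d) * c₁) := by
    rw [derivative_map, eval_map_algebraMap, eval_map_algebraMap, ← hD, hc₁]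
    have : p ^ m = p ^ d * p ^ d * p ^ (m - 2 * d) := by
      rw [← pow_add, ← pow_add]; congr 1; omega
    rw [this, hw]; ring
  obtain ⟨β, hβ⟩ := Groth.Agent.Lib.Helper68.KrasnerDVR.exists_root_of_eval_eq_sq_mul
    (Ideal.span {p}) (f.map (algebraMap A C)) θC (w ^ 2 * p ^ (m - 2 * d) * c₁)
    (by
      apply Ideal.mul_mem_right
      apply Ideal.mul_mem_left
      exact Ideal.pow_mem_of_mem _ (Ideal.mem_span_singleton_self p) _ (by omega)) key
  exact ⟨β, by rwa [eval_map_algebraMap] at hβ⟩

/-- existence of an integral primitive element. -/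
theorem exists_primitive (A : Type u) [CommRing A] [IsDomain A]
    (K : Type u) [Field K] [Algebra A K] [IsFractionRing A K]
    (L : Type u) [Field L] [Algebra K L] [Algebra A L] [IsScalarTower A K L]
    [FiniteDimensional K L] [Algebra.IsSeparable K L]
    (B : Type u) [CommRing B] [Algebra A B] [Algebra B L] [IsScalarTower A B L]
    [IsIntegralClosure B A L] :
    ∃ θ : B, IntermediateField.adjoin K {algebraMap B L θ} = ⊤ := by
  obtain ⟨α, hα⟩ := Field.exists_primitive_element K L
  have halg : IsAlgebraic A α := by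
    have : IsAlgebraic K α := Algebra.IsAlgebraic.isAlgebraic α
    exact (IsFractionRing.isAlgebraic_iff A K L).2 this
  obtain ⟨y, hy0, hy⟩ := halg.exists_integral_multiple
  obtain ⟨θ, hθ⟩ := (IsIntegralClosure.isIntegral_iff (A := B)).1 hy
  refine ⟨θ, ?_⟩
  rw [hθ, ← hα]
  have hyK : algebraMap A K y ≠ 0 := by
    rwa [Ne, map_eq_zero_iff _ (IsFractionRing.injective A K)]
  have h1 : y • α = algebraMap A K y • α := by
    rw [algebraMap_smul]
  apply le_antisymm
  · rw [IntermediateField.adjoin_simple_le_iff, h1]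
    exact IntermediateField.smul_mem _ (IntermediateField.mem_adjoin_simple_self K α)
  · rw [IntermediateField.adjoin_simple_le_iff]
    have : α = (algebraMap A K y)⁻¹ • (y • α) := by
      rw [h1, smul_smul, inv_mul_cancel₀ hyK, one_smul]
    have hmem : (algebraMap A K y)⁻¹ • (y • α) ∈ IntermediateField.adjoin K {y • α} :=
      IntermediateField.smul_mem _ (IntermediateField.mem_adjoin_simple_self K (y • α))
    rwa [← this] at hmem

set_option maxHeartbeats 800000 in
/-- from a root of the minimal polynomial of a primitive element to an isomorphism. -/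
theorem nonempty_equiv_of_root (A : Type u) [CommRing A] [IsDomain A] [IsDiscreteValuationRing A]
    (K : Type u) [Field K] [Algebra A K] [IsFractionRing A K]
    (L : Type u) [Field L] [Algebra K L] [Algebra A L] [IsScalarTower A K L]
    [FiniteDimensional K L] [Algebra.IsSeparable K L]
    (B : Type u) [CommRing B] [Algebra A B] [Algebra B L] [IsScalarTower A B L]
    [IsIntegralClosure B A L]
    (θ : B) (hθ : IntermediateField.adjoin K {algebraMap B L θ} = ⊤)
    (C : Type u) [CommRing C] [IsDomain C] [IsDiscreteValuationRing C] [Algebra A C]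
    [Module.Finite A C]
    (hinj : Function.Injective (algebraMap A C))
    (β : C) (hβ : aeval β (minpoly A θ) = 0)
    (hrank : Module.finrank A C ≤ Module.finrank K L) : Nonempty (B ≃ₐ[A] C) := by
  let F := FractionRing C
  have hinjF : Function.Injective (algebraMap A F) := by
    rw [IsScalarTower.algebraMap_eq A C F]
    exact (IsFractionRing.injective C F).comp hinj
  letI algKF : Algebra K F := (IsFractionRing.lift hinjF).toAlgebra
  haveI towerAKF : IsScalarTower A K F :=
    IsScalarTower.of_algebraMap_eq (fun x => (IsFractionRing.lift_algebraMap hinjF x).symm)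
  haveI intAC : Algebra.IsIntegral A C := inferInstance
  haveI icC : IsIntegralClosure C A F := IsIntegralClosure.of_isIntegrallyClosed C A F
  haveI tfAC : Module.IsTorsionFree A C := by
    rw [Module.isTorsionFree_iff_algebraMap_injective]
    exact hinj
  haveI tfAF : Module.IsTorsionFree A F := by
    rw [Module.isTorsionFree_iff_algebraMap_injective]
    exact hinjF
  haveI algAC : Algebra.IsAlgebraic A C := inferInstance
  haveI algAF : Algebra.IsAlgebraic A F := (IsFractionRing.isAlgebraic_iff' A C F).1 algAC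
  haveI algKFa : Algebra.IsAlgebraic K F := IsFractionRing.comap_isAlgebraic_iff.1 algAF
  haveI locF : IsLocalization (Algebra.algebraMapSubmonoid C (nonZeroDivisors A)) F :=
    IsIntegralClosure.isLocalization A K F C
  haveI freeAC : Module.Free A C := Module.free_of_finite_type_torsion_free'
  haveI locM : IsLocalizedModule (nonZeroDivisors A) (IsScalarTower.toAlgHom A C F).toLinearMap :=
    isLocalizedModule_iff_isLocalization.2 locF
  have hfr : Module.finrank K F = Module.finrank A C :=
    Module.finrank_of_isLocalizedModule_of_free K (nonZeroDivisors A)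
      (IsScalarTower.toAlgHom A C F).toLinearMap
  haveI finKF : Module.Finite K F := Module.Finite.of_isLocalization A C (nonZeroDivisors A)
  -- B is a domain
  have hBL : Function.Injective (algebraMap B L) := IsIntegralClosure.algebraMap_injective B A L
  haveI domB : IsDomain B := hBL.isDomain _
  have hintθ : IsIntegral A θ := IsIntegralClosure.isIntegral A L θ
  set θL := algebraMap B L θ with hθL
  have hminK : minpoly K θL = (minpoly A θ).map (algebraMap A K) :=
    minpoly.isIntegrallyClosed_eq_field_fractions K L hintθ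
  have hintK : IsIntegral K θL := Algebra.IsIntegral.isIntegral θL
  have hadj : Algebra.adjoin K {θL} = ⊤ := by
    rw [← IntermediateField.adjoin_eq_top_iff_of_isAlgebraic]
    · exact hθ
    · intro x hx
      exact Algebra.IsAlgebraic.isAlgebraic x
  let pb : PowerBasis K L := PowerBasis.ofAdjoinEqTop hintK hadj
  have hroot : aeval (algebraMap C F β) (minpoly K pb.gen) = 0 := by
    rw [PowerBasis.ofAdjoinEqTop_gen, hminK, aeval_map_algebraMap, aeval_algebraMap_apply, hβ,
      map_zero]
  let σ : L →ₐ[K] F := pb.lift (algebraMap C F β) hroot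
  have hσinj : Function.Injective σ := σ.toRingHom.injective
  have hle : Module.finrank K L ≤ Module.finrank K F :=
    LinearMap.finrank_le_finrank_of_injective (f := σ.toLinearMap) hσinj
  have heq : Module.finrank K L = Module.finrank K F := le_antisymm hle (hfr ▸ hrank)
  have hσsurj : Function.Surjective σ :=
    (LinearMap.injective_iff_surjective_of_finrank_eq_finrank (f := σ.toLinearMap) heq).1 hσinj
  let σe : L ≃ₐ[K] F := AlgEquiv.ofBijective σ ⟨hσinj, hσsurj⟩
  letI algCL : Algebra C L := ((σe.symm : F →+* L).comp (algebraMap C F)).toAlgebra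
  have hCL : ∀ c : C, algebraMap C L c = σe.symm (algebraMap C F c) := fun c => rfl
  haveI towerACL : IsScalarTower A C L := IsScalarTower.of_algebraMap_eq (fun a => by
    rw [hCL, ← IsScalarTower.algebraMap_apply A C F, IsScalarTower.algebraMap_apply A K F,
      AlgEquiv.commutes, ← IsScalarTower.algebraMap_apply A K L])
  haveI icCL : IsIntegralClosure C A L :=
    { algebraMap_injective := by
        intro x y hxy
        rw [hCL, hCL] at hxy
        exact IsFractionRing.injective C F (σe.symm.injective hxy)
      isIntegral_iff := by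
        intro x
        constructor
        · intro hx
          have h1 : IsIntegral A (σe x) := by
            have := hx.map ((σe : L →ₐ[K] F).restrictScalars A)
            simpa using this
          obtain ⟨y, hy⟩ := (IsIntegralClosure.isIntegral_iff (A := C)).1 h1
          exact ⟨y, by rw [hCL, hy, AlgEquiv.symm_apply_apply]⟩
        · rintro ⟨y, rfl⟩
          have h1 : IsIntegral A (algebraMap C F y) :=
            (Algebra.IsIntegral.isIntegral y).algebraMap
          have := h1.map ((σe.symm : F →ₐ[K] L).restrictScalars A)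
          simpa [hCL] using this }
  exact ⟨IsIntegralClosure.equiv A B L C⟩

theorem finrank_le_of_quotient_equiv {A : Type*} [CommRing A] [IsLocalRing A] (ϖ : A)
    (hϖ : ϖ ∈ maximalIdeal A)
    {B C : Type*} [CommRing B] [Algebra A B] [Module.Finite A B] [Module.Free A B] [CommRing C]
    [Algebra A C] [Module.Finite A C] (m : ℕ) (hm : 0 < m)
    (e : (B ⧸ Ideal.span {algebraMap A B (ϖ ^ m)}) ≃ₐ[A]
      (C ⧸ Ideal.span {algebraMap A C (ϖ ^ m)})) :
    Module.finrank A C ≤ Module.finrank A B := by
  classical
  set IB : Ideal B := Ideal.span {algebraMap A B (ϖ ^ m)} with hIB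
  set IC : Ideal C := Ideal.span {algebraMap A C (ϖ ^ m)} with hIC
  let b := Module.finBasis A B
  choose c hc using fun i => Ideal.Quotient.mk_surjective (I := IC) (e (Ideal.Quotient.mk IB (b i)))
  have hspan : Submodule.span A (Set.range c) = ⊤ := by
    rw [eq_top_iff]
    apply Submodule.le_of_le_smul_of_le_jacobson_bot (I := maximalIdeal A) Module.Finite.fg_top
      (IsLocalRing.maximalIdeal_le_jacobson ⊥)
    intro x _
    obtain ⟨y, hy⟩ := Ideal.Quotient.mk_surjective (I := IB) (e.symm (Ideal.Quotient.mk IC x))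
    have h1 : Ideal.Quotient.mk IC x =
        Ideal.Quotient.mk IC (∑ i, (b.repr y i) • c i) := by
      have : Ideal.Quotient.mk IC x = e (Ideal.Quotient.mk IB y) := by
        rw [hy, AlgEquiv.apply_symm_apply]
      rw [this]
      conv_lhs => rw [← b.sum_repr y]
      rw [map_sum, map_sum, map_sum]
      refine Finset.sum_congr rfl fun i _ => ?_
      rw [Algebra.smul_def, Algebra.smul_def, map_mul, map_mul, map_mul, hc]
      congr 1
      rw [← Ideal.Quotient.algebraMap_eq, ← IsScalarTower.algebraMap_apply, AlgEquiv.commutes,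
        ← Ideal.Quotient.algebraMap_eq, ← IsScalarTower.algebraMap_apply]
    have h2 : x - ∑ i, (b.repr y i) • c i ∈ IC := by
      rw [← Ideal.Quotient.eq_zero_iff_mem, map_sub, h1, sub_self]
    have h3 : x - ∑ i, (b.repr y i) • c i ∈ maximalIdeal A • (⊤ : Submodule A C) := by
      rw [hIC] at h2
      obtain ⟨z, hz⟩ := Ideal.mem_span_singleton'.1 h2
      rw [← hz]
      have : z * algebraMap A C (ϖ ^ m) = ϖ • (z * algebraMap A C (ϖ ^ (m - 1))) := by
        obtain ⟨k, rfl⟩ : ∃ k, m = k + 1 := ⟨m - 1, by omega⟩
        rw [Algebra.smul_def, pow_succ, map_mul]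
        simp only [Nat.add_sub_cancel]
        ring
      rw [this]
      exact Submodule.smul_mem_smul hϖ Submodule.mem_top
    have h4 : x = ∑ i, (b.repr y i) • c i + (x - ∑ i, (b.repr y i) • c i) := by ring
    rw [h4]
    apply Submodule.add_mem_sup _ h3
    exact Submodule.sum_mem _ fun i _ => Submodule.smul_mem _ _ (Submodule.subset_span ⟨i, rfl⟩)
  have := finrank_le_of_span_eq_top hspan
  simpa using this


set_option maxHeartbeats 800000 in
/-- Let A be a complete discrete valuation ring with uniformizer ϖ and fraction field K, let L be a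
finite separable extension of K and B the integral closure of A in L. There is a positive integer m₀
such that for every discrete valuation ring C that is a module-finite A-algebra, B ≅ C as A-algebras
if and only if B/ϖ^m B ≅ C/ϖ^m C as A-algebras for some m > m₀. (Finiteness of L over K is implicit
in the source, which takes a primitive element.) -/
theorem result
    (A : Type u) [CommRing A] [IsDomain A] [IsDiscreteValuationRing A]
    [IsAdicComplete (IsLocalRing.maximalIdeal A) A] (ϖ : A) (hϖ : Irreducible ϖ)
    (K : Type u) [Field K] [Algebra A K] [IsFractionRing A K]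
    (L : Type u) [Field L] [Algebra K L] [Algebra A L] [IsScalarTower A K L]
    [FiniteDimensional K L] [Algebra.IsSeparable K L]
    (B : Type u) [CommRing B] [Algebra A B] [Algebra B L] [IsScalarTower A B L]
    [IsIntegralClosure B A L] :
    ∃ m₀ : ℕ, 0 < m₀ ∧ ∀ (C : Type u) [CommRing C] [IsDomain C] [IsDiscreteValuationRing C]
      [Algebra A C] [Module.Finite A C],
      Nonempty (B ≃ₐ[A] C) ↔ ∃ m : ℕ, m₀ < m ∧
        Nonempty ((B ⧸ Ideal.span {algebraMap A B (ϖ ^ m)}) ≃ₐ[A]
          (C ⧸ Ideal.span {algebraMap A C (ϖ ^ m)})) := by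
  obtain ⟨θ, hθ⟩ := exists_primitive A K L B
  have hBL : Function.Injective (algebraMap B L) := IsIntegralClosure.algebraMap_injective B A L
  haveI domB : IsDomain B := hBL.isDomain _
  haveI intAB : Algebra.IsIntegral A B := IsIntegralClosure.isIntegral_algebra A L
  haveI tfAL : Module.IsTorsionFree A L := .trans_faithfulSMul A K L
  haveI tfAB : Module.IsTorsionFree A B := IsIntegralClosure.isTorsionFree A L
  haveI finAB : Module.Finite A B := IsIntegralClosure.finite A K L B
  haveI freeAB : Module.Free A B := IsIntegralClosure.module_free A K L B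
  have hrankB : Module.finrank A B = Module.finrank K L := IsIntegralClosure.rank A K L B
  have hAB : Function.Injective (algebraMap A B) := FaithfulSMul.algebraMap_injective A B
  have hintθ : IsIntegral A θ := IsIntegralClosure.isIntegral A L θ
  set θL := algebraMap B L θ with hθL
  have hminK : minpoly K θL = (minpoly A θ).map (algebraMap A K) :=
    minpoly.isIntegrallyClosed_eq_field_fractions K L hintθ
  set f := minpoly A θ with hf
  set δ := aeval θ (derivative f) with hδdef
  have hδ : δ ≠ 0 := by
    intro h0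
    have hsep : (minpoly K θL).Separable := Algebra.IsSeparable.isSeparable K θL
    have h1 := hsep.aeval_derivative_ne_zero (minpoly.aeval K θL)
    apply h1
    rw [hminK, derivative_map, aeval_map_algebraMap, hθL, aeval_algebraMap_apply, ← hδdef, h0,
      map_zero]
  obtain ⟨d, b', hb'⟩ := exists_mul_eq_pow ϖ hϖ δ hδ
  -- ϖ is not a unit in B
  have hϖB : ¬ IsUnit (algebraMap A B ϖ) := by
    intro h
    exact hϖ.not_isUnit (isUnit_of_map_unit (algebraMap A B) ϖ h)
  refine ⟨2 * d + 1, by omega, ?_⟩
  intro C _ _ _ _ _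
  constructor
  · rintro ⟨e⟩
    refine ⟨2 * d + 2, by omega, ⟨Ideal.quotientEquivAlg _ _ e ?_⟩⟩
    rw [Ideal.map_span, Set.image_singleton]
    simp
  · rintro ⟨m, hm, ⟨e⟩⟩
    -- ϖ is not a unit in C
    have hϖC : ¬ IsUnit (algebraMap A C ϖ) := by
      intro h
      have h1 : Ideal.span {algebraMap A C (ϖ ^ m)} = ⊤ := by
        rw [Ideal.span_singleton_eq_top, map_pow]
        exact h.pow m
      have h2 : Subsingleton (C ⧸ Ideal.span {algebraMap A C (ϖ ^ m)}) :=
        Ideal.Quotient.subsingleton_iff.2 h1
      have h3 : Subsingleton (B ⧸ Ideal.span {algebraMap A B (ϖ ^ m)}) :=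
        e.toEquiv.subsingleton
      have h4 : Ideal.span {algebraMap A B (ϖ ^ m)} = ⊤ := Ideal.Quotient.subsingleton_iff.1 h3
      rw [Ideal.span_singleton_eq_top, map_pow] at h4
      exact hϖB ((isUnit_pow_iff (by omega)).1 h4)
    -- `A → C` is injective
    have hinj : Function.Injective (algebraMap A C) := by
      rw [injective_iff_map_eq_zero]
      intro a ha
      by_contra ha0
      obtain ⟨k, u, hu⟩ := IsDiscreteValuationRing.eq_unit_mul_pow_irreducible ha0 hϖ
      rw [hu, map_mul, map_pow] at ha
      have h0 : algebraMap A C ϖ = 0 := by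
        rcases mul_eq_zero.1 ha with h | h
        · exact absurd h ((u.isUnit.map (algebraMap A C)).ne_zero)
        · exact pow_eq_zero_iff (n := k) (by
            rintro rfl
            simp at h) |>.1 h
      -- then ϖ_B ∈ (ϖ_B ^ m)
      have h1 : e (Ideal.Quotient.mk _ (algebraMap A B ϖ)) = 0 := by
        rw [← Ideal.Quotient.algebraMap_eq, ← IsScalarTower.algebraMap_apply, AlgEquiv.commutes,
          IsScalarTower.algebraMap_apply A C (C ⧸ Ideal.span {algebraMap A C (ϖ ^ m)}), h0,
          map_zero]
      have h2 : Ideal.Quotient.mk (Ideal.span {algebraMap A B (ϖ ^ m)}) (algebraMap A B ϖ) = 0 :=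
        e.injective (by rw [h1, map_zero])
      rw [Ideal.Quotient.eq_zero_iff_mem] at h2
      obtain ⟨z, hz⟩ := Ideal.mem_span_singleton'.1 h2
      have hB0 : algebraMap A B ϖ ≠ 0 := by
        rw [Ne, map_eq_zero_iff _ hAB]
        exact hϖ.ne_zero
      obtain ⟨j, rfl⟩ : ∃ j, m = j + 2 := ⟨m - 2, by omega⟩
      have h3 : algebraMap A B ϖ * (z * algebraMap A B ϖ ^ (j + 1)) = algebraMap A B ϖ * 1 := by
        rw [mul_one]
        conv_rhs => rw [← hz]
        rw [map_pow]
        ring
      have h4 := mul_left_cancel₀ hB0 h3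
      apply hϖB
      refine IsUnit.of_mul_eq_one (z * algebraMap A B ϖ ^ j) ?_
      rw [← h4]; ring
    have hrank : Module.finrank A C ≤ Module.finrank K L := by
      rw [← hrankB]
      exact finrank_le_of_quotient_equiv ϖ hϖ.not_isUnit m (by omega) e
    obtain ⟨β, hβ⟩ := exists_root_of_quotient_equiv ϖ hϖ hϖC f θ b' d m hm (minpoly.aeval A θ)
      hb' e
    exact nonempty_equiv_of_root A K L B θ hθ C hinj β hβ hrank


end Groth.Agent.S16501
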