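import Groth.Statements.S1651
import Mathlib
import Groth.Agent.Lib.Helper50.DeltaFlat

set_option autoImplicit false
universe u
open CategoryTheory CategoryTheory.Limits AlgebraicGeometry
open Variety

namespace Groth.Agent.S1651

/-- Let X be locally of finite type over k, K a field extension, y a point of X_K with image x. Assume X
is geometrically reduced at x and the local rings at x and at y both have dimension one. Then the
δ-invariant of X at x is at most the δ-invariant of X_K at y. -/
theorem result (k : Type u) [Field k] (X : Scheme.{u}) [X.Over (Spec (CommRingCat.of k))] [LocallyOfFiniteType (X ↘ (Spec (CommRingCat.of k)))] (K : Type u) [Field K] [Algebra k K]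
    (y : Curv2.bc k X K) (hx : Curv2.IsGeomReducedAt k X (Curv2.bcFst k X K y))
    (hdx : ringKrullDim (X.presheaf.stalk (Curv2.bcFst k X K y)) = 1)
    (hdy : ringKrullDim ((Curv2.bc k X K).presheaf.stalk y) = 1) :
    Curv2.deltaInv (X.presheaf.stalk (Curv2.bcFst k X K y)) ≤ Curv2.deltaInv ((Curv2.bc k X K).presheaf.stalk y) := by
    haveI hfl : Flat (Spec.map (CommRingCat.ofHom (algebraMap k K))) := by
      rw [Flat.SpecMap_iff]
      change (algebraMap k K).Flat
      rw [RingHom.flat_algebraMap_iff]
      infer_instance
    haveI : Flat (Curv2.bcFst k X K) := by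
      unfold Curv2.bcFst; infer_instance
    letI : Algebra (X.presheaf.stalk (Curv2.bcFst k X K y)) ((Curv2.bc k X K).presheaf.stalk y) :=
      ((Curv2.bcFst k X K).stalkMap y).hom.toAlgebra
    haveI : Module.Flat (X.presheaf.stalk (Curv2.bcFst k X K y)) ((Curv2.bc k X K).presheaf.stalk y) :=
      Flat.stalkMap (Curv2.bcFst k X K) y
    haveI : IsLocalHom (algebraMap (X.presheaf.stalk (Curv2.bcFst k X K y))
        ((Curv2.bc k X K).presheaf.stalk y)) := (Curv2.bcFst k X K).toLRSHom.prop y
    exact Groth.Agent.Lib.Helper50.deltaInv_le_of_flat _ _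

end Groth.Agent.S1651
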