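import Groth.Statements.S16517
import Groth.Agent.H34.GorLink
import Groth.Agent.S2082
import Groth.Agent.Lib.Helper29.DepthFlat2
import Groth.Agent.Lib.Helper29.LocalDim

set_option autoImplicit false
universe u
open CAlg

namespace Groth.Agent.S16517

open IsLocalRing in
/-- miracle flatness for a Cohen–Macaulay quotient of full dimension of a flat local algebra over a
regular local ring. -/
theorem flat_quot (R A : Type u) [CommRing R] [IsRegularLocalRing R] [CommRing A]
    [IsNoetherianRing A] [IsLocalRing A] [Algebra R A] [IsLocalHom (algebraMap R A)]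
    [Module.Flat R A] (J : Ideal A) [LocCoh.IsCohenMacaulayLocalRing (A ⧸ J)]
    (hJ : ringKrullDim (A ⧸ J) = ringKrullDim A) : Module.Flat R (A ⧸ J) := by
  haveI : IsLocalHom (Ideal.Quotient.mk J) :=
    IsLocalHom.of_surjective _ Ideal.Quotient.mk_surjective
  haveI : IsLocalHom (algebraMap R (A ⧸ J)) := by
    rw [IsScalarTower.algebraMap_eq R A (A ⧸ J)]
    exact RingHom.isLocalHom_comp _ _
  apply Groth.Agent.S2082.result
  have h1 := Groth.Agent.Lib.Helper29.ringKrullDim_eq_add_of_flat R A
  have h2 := Groth.Agent.Lib.Helper29.ringKrullDim_le_add_fibre (A := R) (B := A ⧸ J)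
  have hmap : (maximalIdeal R).map (algebraMap R (A ⧸ J)) =
      ((maximalIdeal R).map (algebraMap R A)).map (Ideal.Quotient.mk J) := by
    rw [Ideal.map_map, IsScalarTower.algebraMap_eq R A (A ⧸ J)]
    rfl
  have h3 : ringKrullDim ((A ⧸ J) ⧸ (maximalIdeal R).map (algebraMap R (A ⧸ J))) ≤
      ringKrullDim (A ⧸ (maximalIdeal R).map (algebraMap R A)) := by
    rw [hmap]
    exact ringKrullDim_le_of_surjective
      (Ideal.quotientMap _ (Ideal.Quotient.mk J) Ideal.le_comap_map)
      (Ideal.quotientMap_surjective Ideal.Quotient.mk_surjective)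
  refine le_antisymm h2 ?_
  rw [hJ, h1]
  exact add_le_add_right h3 _

/-- Let R be a regular local ring, A a Gorenstein local ring which is a flat R-algebra through a local
homomorphism, I ⊂ A an ideal of codimension zero (the Krull dimension of A/I equals that of A) with
A/I Cohen–Macaulay, and J = (0 : I) the annihilator of I in A (the ideal of the residual subscheme).
Then A/I and A/J are flat over R. -/
theorem result (R A : Type u)
    [CommRing R] [IsRegularLocalRing R] [CommRing A] [Algebra R A] [LocCoh.IsGorensteinLocalRing A]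
    [IsLocalHom (algebraMap R A)] [Module.Flat R A] (I : Ideal A)
    (hI : ringKrullDim (A ⧸ I) = ringKrullDim A) [LocCoh.IsCohenMacaulayLocalRing (A ⧸ I)] :
    Module.Flat R (A ⧸ I) ∧ Module.Flat R (A ⧸ (Submodule.annihilator I)) := by

  classical
  have hnn : (0 : WithBot ℕ∞) ≤ ringKrullDim A := ringKrullDim_nonneg_of_nontrivial
  obtain ⟨r, hr⟩ : ∃ r : ℕ, ringKrullDim A = r := by
    have htop : ringKrullDim A ≠ ⊤ := ringKrullDim_ne_top
    cases h : ringKrullDim A with
    | bot => rw [h] at hnn; simp at hnn
    | coe n =>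
      have hn' : n ≠ ⊤ := by
        rintro rfl
        exact htop h
      obtain ⟨d, hd⟩ := ENat.ne_top_iff_exists.mp hn'
      exact ⟨d, by rw [← hd]; rfl⟩
  refine ⟨flat_quot R A I hI, ?_⟩
  by_cases hJ : Submodule.annihilator I = ⊤
  · haveI : Subsingleton (A ⧸ Submodule.annihilator I) := by
      rw [hJ]
      exact Ideal.Quotient.subsingleton_iff.mpr rfl
    infer_instance
  · have hv := Groth.Agent.H34.GorLink.lcVan_of_isCohenMacaulayLocalRing A r I (hI.trans hr)
    have hv' := Groth.Agent.H34.GorMCM.lcVan_quot_annihilator A r hr I hv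
    obtain ⟨hCM, hdim⟩ := Groth.Agent.H34.GorLink.isCohenMacaulayLocalRing_of_lcVan A r hr
      (Submodule.annihilator I) hJ hv'
    haveI := hCM
    exact flat_quot R A _ (hdim.trans hr.symm)


end Groth.Agent.S16517
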