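import Groth.Statements.S16518
import Groth.Agent.H34.GorLinkGlobal
import Groth.Agent.H34.ExtRegCov
import Groth.Agent.Lib.Helper29.DepthCM
import Mathlib.RingTheory.Regular.Flat

set_option autoImplicit false
universe u
open CAlg

namespace Groth.Agent.S16518

open IsLocalRing RingTheory.Sequence in
/-- the two statements for a sequence `xs` in a Gorenstein local ring. -/
theorem core (A : Type u) [CommRing A] [LocCoh.IsGorensteinLocalRing A] (I : Ideal A)
    (hI : ringKrullDim (A ⧸ I) = ringKrullDim A) [LocCoh.IsCohenMacaulayLocalRing (A ⧸ I)]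
    (xs : List A) (hreg : IsWeaklyRegular A xs) (hmem : ∀ x ∈ xs, x ∈ maximalIdeal A) :
    Submodule.annihilator I ⊔ Ideal.ofList xs = Submodule.colon (Ideal.ofList xs) (I : Set A) ∧
      Submodule.annihilator I ⊓ Ideal.ofList xs = Ideal.ofList xs * Submodule.annihilator I := by
  classical
  haveI : IsNoetherianRing A := inferInstance
  haveI : IsLocalRing A := inferInstance
  have hnn : (0 : WithBot ℕ∞) ≤ ringKrullDim A := ringKrullDim_nonneg_of_nontrivial
  obtain ⟨r, hr⟩ : ∃ r : ℕ, ringKrullDim A = r := by
    have htop : ringKrullDim A ≠ ⊤ := ringKrullDim_ne_top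
    cases h : ringKrullDim A with
    | bot => rw [h] at hnn; simp at hnn
    | coe n =>
      have hn' : n ≠ ⊤ := by
        rintro rfl
        exact htop h
      obtain ⟨d, hd⟩ := ENat.ne_top_iff_exists.mp hn'
      exact ⟨d, by rw [← hd]; rfl⟩
  have hv := Groth.Agent.H34.GorLink.lcVan_of_isCohenMacaulayLocalRing A r I (hI.trans hr)
  have hv' := Groth.Agent.H34.GorMCM.lcVan_quot_annihilator A r hr I hv
  have htop : (Ideal.ofList xs • ⊤ : Submodule A A) = Ideal.ofList xs := by
    rw [smul_eq_mul, Ideal.mul_top]
  constructor
  · -- the colon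
    apply le_antisymm
    · refine sup_le ?_ ?_
      · intro a ha
        rw [Submodule.mem_colon]
        intro x hx
        have := (Submodule.mem_annihilator.mp ha) x hx
        rw [smul_eq_mul] at this ⊢
        rw [this]
        exact Submodule.zero_mem _
      · intro a ha
        rw [Submodule.mem_colon]
        intro x hx
        rw [smul_eq_mul]
        exact Ideal.mul_mem_right _ _ ha
    · intro a ha
      rw [Submodule.mem_colon] at ha
      -- the map `A/I → A/(xs)`
      let μ : A →ₗ[A] (A ⧸ (Ideal.ofList xs • ⊤ : Submodule A A)) :=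
        (Ideal.ofList xs • ⊤ : Submodule A A).mkQ ∘ₗ LinearMap.mulLeft A a
      have hμ : I ≤ LinearMap.ker μ := by
        intro x hx
        rw [LinearMap.mem_ker]
        change (Ideal.ofList xs • ⊤ : Submodule A A).mkQ (a * x) = 0
        rw [Submodule.mkQ_apply, Submodule.Quotient.mk_eq_zero, htop]
        exact ha x hx
      let φ : (A ⧸ I) →ₗ[A] (A ⧸ (Ideal.ofList xs • ⊤ : Submodule A A)) :=
        Submodule.liftQ I μ hμ
      obtain ⟨-, hlift⟩ := Groth.Agent.H34.ExtRegCov.main (A ⧸ I) xs A hreg
        (fun i hi => Groth.Agent.H34.GorMCM.ext_subsingleton A r hr (A ⧸ I) hv i hi)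
      obtain ⟨ψ, hψ⟩ := hlift φ
      set j : A := ψ (Submodule.Quotient.mk 1) with hj
      have hjann : j ∈ Submodule.annihilator (I : Submodule A A) := by
        rw [Submodule.mem_annihilator]
        intro x hx
        rw [hj, smul_eq_mul, mul_comm, ← smul_eq_mul, ← map_smul, ← Submodule.Quotient.mk_smul,
          smul_eq_mul, mul_one, (Submodule.Quotient.mk_eq_zero I).mpr hx, map_zero]
      have hdiff : a - j ∈ Ideal.ofList xs := by
        have h1 := LinearMap.congr_fun hψ (Submodule.Quotient.mk 1)
        simp only [LinearMap.coe_comp, Function.comp_apply] at h1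
        have h2 : φ (Submodule.Quotient.mk 1) =
            (Ideal.ofList xs • ⊤ : Submodule A A).mkQ (a * 1) := rfl
        rw [h2, mul_one, ← hj] at h1
        have h3 : (Ideal.ofList xs • ⊤ : Submodule A A).mkQ (a - j) = 0 := by
          rw [map_sub, h1, sub_self]
        rw [Submodule.mkQ_apply, Submodule.Quotient.mk_eq_zero, htop] at h3
        exact h3
      have : a = j + (a - j) := by ring
      rw [this]
      exact Submodule.add_mem_sup hjann hdiff
  · -- the intersection
    set J : Ideal A := Submodule.annihilator (I : Submodule A A) with hJ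
    have hregJ : IsWeaklyRegular (A ⧸ J) xs := by
      by_cases hJtop : J = ⊤
      · haveI : Subsingleton (A ⧸ J) := by
          rw [hJtop]
          exact Ideal.Quotient.subsingleton_iff.mpr rfl
        exact ⟨fun i hi => Function.injective_of_subsingleton _⟩
      · obtain ⟨hCM, hdim⟩ := Groth.Agent.H34.GorLink.isCohenMacaulayLocalRing_of_lcVan A r hr
          J hJtop hv'
        haveI := hCM
        haveI : IsLocalRing (A ⧸ J) := inferInstance
        have hCMA : LocCoh.IsCohenMacaulayModule A A :=
          (Groth.Agent.H34.GorLinkGlobal.isCohenMacaulayLocalRing_of_isGorensteinLocalRing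
            A).supportDim_eq_depth
        have hCMJ : LocCoh.IsCohenMacaulayModule A (A ⧸ J) := by
          unfold LocCoh.IsCohenMacaulayModule
          have h1 : Module.supportDim (A ⧸ J) (A ⧸ J) =
              ((LocCoh.depth (A ⧸ J) (A ⧸ J) : ℕ∞) : WithBot ℕ∞) :=
            LocCoh.IsCohenMacaulayLocalRing.supportDim_eq_depth
          rw [Module.supportDim_self_eq_ringKrullDim,
            Groth.Agent.Lib.Helper29.depth_self_eq_depth_of_surjective (R := A) (R' := A ⧸ J)
              Ideal.Quotient.mk_surjective] at h1
          rw [Module.supportDim_quotient_eq_ringKrullDim]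
          exact h1
        have hfwd := (Groth.Agent.Lib.Helper29.isWeaklyRegular_iff_supportDim_of_isCohenMacaulayModule
          A A hCMA xs hmem).mp hreg
        rw [Module.supportDim_self_eq_ringKrullDim, hr] at hfwd
        rw [Groth.Agent.Lib.Helper29.isWeaklyRegular_iff_supportDim_of_isCohenMacaulayModule
          A (A ⧸ J) hCMJ xs hmem]
        have hdimJ : Module.supportDim A (A ⧸ J) = r := by
          rw [Module.supportDim_quotient_eq_ringKrullDim]
          exact hdim
        apply le_antisymm
        · rw [hdimJ, ← hfwd]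
          have hle : Module.supportDim A ((A ⧸ J) ⧸ (Ideal.ofList xs • ⊤ : Submodule A (A ⧸ J))) ≤
              Module.supportDim A (A ⧸ (Ideal.ofList xs • ⊤ : Submodule A A)) := by
            refine Module.supportDim_le_of_surjective
              (Submodule.mapQ _ _ (Submodule.mkQ J) ?_) ?_
            · exact Submodule.smul_top_le_comap_smul_top _ _
            · intro y
              obtain ⟨y', rfl⟩ := Submodule.mkQ_surjective _ y
              obtain ⟨y'', rfl⟩ := Submodule.mkQ_surjective _ y'
              exact ⟨Submodule.Quotient.mk y'', rfl⟩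
          exact add_le_add_left hle _
        · exact Groth.Agent.Lib.Helper29.supportDim_le_supportDim_quotient_ofList_add_length
            A (A ⧸ J) xs hmem
    have := Groth.Agent.H34.ExtRegCov.inf_smul_top_eq xs A J hregJ
    rw [htop] at this
    rw [this, smul_eq_mul]

/-- Let R be a Noetherian local ring, A a Gorenstein local ring which is a flat R-algebra through a
local homomorphism, I ⊂ A an ideal of codimension zero (the Krull dimension of A/I equals that of A)
with A/I Cohen–Macaulay, and J = (0 : I) its annihilator. For every R-regular sequence r_1, …, r_n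
generating an ideal 𝔯 of R, the module J/𝔯J is the annihilator of the image of I in A/𝔯A: the
natural map J/𝔯J → A/𝔯A is injective (J ∩ 𝔯A = 𝔯J) with image the ideal quotient (𝔯A : I) modulo 𝔯A
(J + 𝔯A = (𝔯A : I)). -/
theorem result (R A : Type u)
    [CommRing R] [IsNoetherianRing R] [IsLocalRing R] [CommRing A] [Algebra R A]
    [LocCoh.IsGorensteinLocalRing A] [IsLocalHom (algebraMap R A)] [Module.Flat R A] (I : Ideal A)
    (hI : ringKrullDim (A ⧸ I) = ringKrullDim A) [LocCoh.IsCohenMacaulayLocalRing (A ⧸ I)]
    (rs : List R) (hrs : RingTheory.Sequence.IsRegular R rs) :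
    Submodule.annihilator I ⊔ (Ideal.ofList rs).map (algebraMap R A) =
        Submodule.colon ((Ideal.ofList rs).map (algebraMap R A)) (I : Set A) ∧
      Submodule.annihilator I ⊓ (Ideal.ofList rs).map (algebraMap R A) =
        (Ideal.ofList rs).map (algebraMap R A) * Submodule.annihilator I := by
  classical
  haveI : IsNoetherianRing A := inferInstance
  haveI : IsLocalRing A := inferInstance
  have hmap : (Ideal.ofList rs).map (algebraMap R A) =
      Ideal.ofList (rs.map (algebraMap R A)) := Ideal.map_ofList _ _
  rw [hmap]
  refine core A I hI (rs.map (algebraMap R A)) ?_ ?_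
  · exact RingTheory.Sequence.IsWeaklyRegular.of_flat hrs.toIsWeaklyRegular
  · intro x hx
    obtain ⟨r, hr, rfl⟩ := List.mem_map.mp hx
    have hrm : r ∈ IsLocalRing.maximalIdeal R := by
      rw [IsLocalRing.mem_maximalIdeal]
      intro hu
      apply hrs.top_ne_smul
      have h1 : Ideal.ofList rs = ⊤ :=
        Ideal.eq_top_of_isUnit_mem _ (Ideal.subset_span hr) hu
      rw [h1, smul_eq_mul, Ideal.top_mul]
    rw [IsLocalRing.mem_maximalIdeal] at hrm ⊢
    intro hu
    exact hrm (isUnit_of_map_unit (algebraMap R A) r hu)

end Groth.Agent.S16518
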