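import Groth.Statements.S16519
import Mathlib.Tactic
import Mathlib.Algebra.Order.Chebyshev
import Mathlib.Data.Fin.Tuple.Finset

set_option autoImplicit false
open CubicSurf

namespace Groth.Agent.S16519

/-- Pruned recursive count of `b ∈ [-4,4]^n` with `∑ b = s`, `∑ b² = q`. -/
def cntL : ℕ → ℤ → ℤ → ℕ
  | 0, s, q => if s = 0 ∧ q = 0 then 1 else 0
  | n+1, s, q => ((List.range 9).map fun i : ℕ =>
      if ((i : ℤ) - 4) * ((i : ℤ) - 4) ≤ q ∧
          (s - ((i : ℤ) - 4)) * (s - ((i : ℤ) - 4)) ≤ (n : ℤ) * (q - ((i : ℤ) - 4) * ((i : ℤ) - 4)) then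
        cntL n (s - ((i : ℤ) - 4)) (q - ((i : ℤ) - 4) * ((i : ℤ) - 4)) else 0).sum

noncomputable def box : Finset ℤ := Finset.Icc (-4) 4

noncomputable def N (n : ℕ) (s q : ℤ) : ℕ :=
  ∑ b ∈ Fintype.piFinset (fun _ : Fin n => box),
    if (∑ i, b i = s ∧ ∑ i, (b i) ^ 2 = q) then 1 else 0

theorem sum_box (f : ℤ → ℕ) :
    ∑ c ∈ box, f c = ((List.range 9).map fun i : ℕ => f ((i : ℤ) - 4)).sum := by
  have : box = {-4, -3, -2, -1, 0, 1, 2, 3, 4} := by decide
  rw [this]
  simp [List.range, List.range.loop]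

theorem N_zero (s q : ℤ) : N 0 s q = if s = 0 ∧ q = 0 then 1 else 0 := by
  unfold N
  have : Fintype.piFinset (fun _ : Fin 0 => box) = {fun _ => 0} := by
    ext b
    simp only [Fintype.mem_piFinset, Finset.mem_singleton]
    constructor
    · intro _; funext i; exact i.elim0
    · intro _ i; exact i.elim0
  rw [this, Finset.sum_singleton]
  simp only [Finset.univ_eq_empty, Finset.sum_empty]
  by_cases h : s = 0 ∧ q = 0
  · rw [if_pos h, if_pos ⟨h.1.symm, h.2.symm⟩]
  · rw [if_neg h, if_neg (fun h' => h ⟨h'.1.symm, h'.2.symm⟩)]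

theorem sum_piFinset_succ (n : ℕ) (I : Finset ℤ) (g : (Fin (n + 1) → ℤ) → ℕ) :
    ∑ b ∈ Fintype.piFinset (fun _ : Fin (n + 1) => I), g b =
      ∑ c ∈ I, ∑ b' ∈ Fintype.piFinset (fun _ : Fin n => I), g (Fin.cons c b') := by
  have h := Finset.filter_piFinset_eq_map_consEquiv (α := fun _ : Fin (n + 1) => ℤ)
    (fun _ : Fin (n + 1) => I) (fun _ => True)
  simp only [Finset.filter_true] at h
  rw [h, Finset.sum_map, Finset.sum_product]
  rfl

theorem N_succ (n : ℕ) (s q : ℤ) :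
    N (n + 1) s q = ∑ c ∈ box, N n (s - c) (q - c * c) := by
  unfold N
  rw [sum_piFinset_succ]
  apply Finset.sum_congr rfl
  intro c _
  apply Finset.sum_congr rfl
  intro b' _
  apply if_congr _ rfl rfl
  rw [Fin.sum_univ_succ, Fin.sum_univ_succ]
  simp only [Fin.cons_zero, Fin.cons_succ]
  constructor
  · rintro ⟨h1, h2⟩; constructor <;> linarith
  · rintro ⟨h1, h2⟩; constructor <;> linarith

theorem N_ne_zero (n : ℕ) (s q : ℤ) (h : N n s q ≠ 0) : 0 ≤ q ∧ s * s ≤ (n : ℤ) * q := by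
  unfold N at h
  obtain ⟨b, _, hb⟩ := Finset.exists_ne_zero_of_sum_ne_zero h
  have hb' : ∑ i, b i = s ∧ ∑ i, (b i) ^ 2 = q := by
    by_contra hc
    rw [if_neg hc] at hb
    exact hb rfl
  obtain ⟨h1, h2⟩ := hb'
  constructor
  · rw [← h2]; exact Finset.sum_nonneg fun i _ => sq_nonneg _
  · have := sq_sum_le_card_mul_sum_sq (s := (Finset.univ : Finset (Fin n))) (f := b)
    rw [h1, h2, Finset.card_univ, Fintype.card_fin] at this
    rw [← sq]; exact this

theorem N_eq_cntL (n : ℕ) : ∀ s q : ℤ, N n s q = cntL n s q := by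
  induction n with
  | zero => intro s q; rw [N_zero]; rfl
  | succ n ih =>
    intro s q
    rw [N_succ, sum_box]
    show _ = ((List.range 9).map fun i : ℕ =>
      if ((i : ℤ) - 4) * ((i : ℤ) - 4) ≤ q ∧
          (s - ((i : ℤ) - 4)) * (s - ((i : ℤ) - 4)) ≤ (n : ℤ) * (q - ((i : ℤ) - 4) * ((i : ℤ) - 4)) then
        cntL n (s - ((i : ℤ) - 4)) (q - ((i : ℤ) - 4) * ((i : ℤ) - 4)) else 0).sum
    congr 1
    apply List.map_congr_left
    intro i _
    rw [← ih]
    split_ifs with hc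
    · rfl
    · by_contra hne
      apply hc
      have := N_ne_zero n _ _ hne
      constructor
      · linarith [this.1]
      · exact this.2

theorem total : ∑ a ∈ Finset.Icc (1 : ℤ) 5, cntL 6 (3 * a - 3) (a ^ 2 - 1) = 72 := by
  decide +kernel

/-- On a smooth cubic surface there are exactly 72 divisor classes L with L² = 1 and L · K = −3. Stated
in the lattice ℤ^{1,6} with basis l, e_1, …, e_6 (l² = 1, e_i² = −1, K = −3l + Σ e_i): the integer
vectors (a, b) ∈ ℤ × ℤ^6, standing for a·l − Σ b_i e_i, with 3a − Σ b_i = 3 and a² − Σ b_i² = 1 form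
a set of exactly 72 elements. -/
theorem result :
    {p : ℤ × (Fin 6 → ℤ) | 3 * p.1 - (Finset.univ.sum fun i => p.2 i) = 3 ∧
        p.1 ^ 2 - (Finset.univ.sum fun i => p.2 i ^ 2) = 1}.ncard = 72 := by
  classical
  have hset : {p : ℤ × (Fin 6 → ℤ) | 3 * p.1 - (Finset.univ.sum fun i => p.2 i) = 3 ∧
        p.1 ^ 2 - (Finset.univ.sum fun i => p.2 i ^ 2) = 1} =
      ↑((Finset.Icc (1 : ℤ) 5 ×ˢ Fintype.piFinset (fun _ : Fin 6 => box)).filter
        (fun p => (∑ i, p.2 i = 3 * p.1 - 3 ∧ ∑ i, (p.2 i) ^ 2 = p.1 ^ 2 - 1))) := by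
    ext ⟨a, b⟩
    simp only [Set.mem_ofPred_eq, Finset.coe_filter, Finset.mem_product, Finset.mem_Icc,
      Fintype.mem_piFinset]
    constructor
    · rintro ⟨h1, h2⟩
      have hs : ∑ i, b i = 3 * a - 3 := by linarith
      have hq : ∑ i, (b i) ^ 2 = a ^ 2 - 1 := by linarith
      have hcs := sq_sum_le_card_mul_sum_sq (s := (Finset.univ : Finset (Fin 6))) (f := b)
      rw [hs, hq, Finset.card_univ, Fintype.card_fin] at hcs
      push_cast at hcs
      have ha1 : 1 ≤ a := by nlinarith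
      have ha5 : a ≤ 5 := by nlinarith
      refine ⟨⟨⟨ha1, ha5⟩, fun i => ?_⟩, hs, hq⟩
      have hi : (b i) ^ 2 ≤ ∑ j, (b j) ^ 2 :=
        Finset.single_le_sum (f := fun j => (b j) ^ 2) (fun j _ => sq_nonneg (b j))
          (Finset.mem_univ i)
      rw [hq] at hi
      unfold box
      rw [Finset.mem_Icc]
      constructor <;> nlinarith
    · rintro ⟨_, hs, hq⟩
      constructor <;> linarith
  rw [hset, Set.ncard_coe_finset, Finset.card_filter, Finset.sum_product]
  rw [← total]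
  apply Finset.sum_congr rfl
  intro a _
  rw [← N_eq_cntL]
  rfl

end Groth.Agent.S16519
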