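import Groth.Statements.S1652
import Groth.Agent.Lib.Helper67.TensRank2
import Groth.Agent.Lib.Helper67.CurveInv2

set_option autoImplicit false
universe u
open CategoryTheory CategoryTheory.Limits AlgebraicGeometry
open Variety

namespace Groth.Agent.S1652

/-- On a proper curve over a field, if L and M are invertible modules with L ⊗ M ≅ O_X and both L and M
have a nonzero global section, then L is isomorphic to the structure sheaf. -/
theorem result (k : Type u) [Field k] (X : Scheme.{u}) [X.Over (Spec (CommRingCat.of k))]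
    [IsIntegral X] [IsProper (X ↘ (Spec (CommRingCat.of k)))] (hdim : topologicalKrullDim X = 1)
    (L M : X.Modules) (hL : PicF.IsInvertible L) (hM : PicF.IsInvertible M) (hLM : ClSub.IsInverseOf L M)
    (s : Coh.structureModule X ⟶ L) (hs : s ≠ 0) (t : Coh.structureModule X ⟶ M) (ht : t ≠ 0) :
    Nonempty (L ≅ Coh.structureModule X) := by
  have hL1 := Groth.Agent.Lib.Helper67.CurveTors.rank_one_of_isInvertible hL
  have hM1 := Groth.Agent.Lib.Helper67.CurveTors.rank_one_of_isInvertible hM
  have hO1 := Groth.Agent.Lib.Helper67.CurveTors.rank_one_of_isInvertible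
    (Groth.Agent.Lib.Helper11.GenLocus.isInvertible_structureModule X)
  obtain ⟨-, hsχ, hsiso⟩ := Groth.Agent.Lib.Helper67.CurveInv.main k X hdim.le hO1 hL1 s hs
  obtain ⟨-, htχ, -⟩ := Groth.Agent.Lib.Helper67.CurveInv.main k X hdim.le hO1 hM1 t ht
  obtain ⟨e⟩ := hLM
  have h1 := Groth.Agent.Lib.Helper67.TensRank.euler_tensor k X hdim.le M hM1 L
    (Groth.Agent.Lib.Helper67.CurveDeg.isCoh_of_rank hL1)
  have h2 := Groth.Agent.Lib.Helper67.TensRank.euler_eq_of_iso k e
  have hrk : Groth.Agent.Lib.Helper67.TensRank.rk L = 1 :=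
    (Groth.Agent.Lib.Helper67.CurveDeg.stalk_of_rank hL1 (genericPoint X)).2.2
  rw [h2, hrk] at h1
  unfold Curv2.deg at h1
  push_cast at h1
  have h0 : Module.finrank k (Coh.HH X (Limits.cokernel s) 0) = 0 := by
    have : (Module.finrank k (Coh.HH X (Limits.cokernel s) 0) : ℤ) = 0 := by
      have hnn : (0 : ℤ) ≤ (Module.finrank k (Coh.HH X (Limits.cokernel t) 0) : ℤ) :=
        Int.natCast_nonneg _
      have hnn' : (0 : ℤ) ≤ (Module.finrank k (Coh.HH X (Limits.cokernel s) 0) : ℤ) :=
        Int.natCast_nonneg _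
      linarith
    exact_mod_cast this
  haveI := hsiso h0
  exact ⟨(asIso s).symm⟩

end Groth.Agent.S1652
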