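import Groth.Statements.S1653
-- import your own Groth.Agent.* helpers here
import Groth.Agent.Lib.Helper55.FibreDimFormula
import Groth.Agent.Lib.Helper55.ChevalleyBound
import Groth.Agent.Lib.Helper55.FiberTrdeg

set_option autoImplicit false
universe u
open CategoryTheory CategoryTheory.Limits AlgebraicGeometry
open Variety

namespace Groth.Agent.S1653

/-- Let f : X → Y be a k-morphism of schemes locally of finite type over a field k, with X irreducible
of dimension a, and let the closure of the image of f have dimension b. Then the local fibre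
dimension of f at every point of X is at least a - b, and the set of points where it equals a - b is
open and dense. -/
theorem result (k : Type u) [Field k] (X Y : Scheme.{u}) [X.Over (Spec (CommRingCat.of k))] [Y.Over (Spec (CommRingCat.of k))]
    [LocallyOfFiniteType (X ↘ (Spec (CommRingCat.of k)))] [LocallyOfFiniteType (Y ↘ (Spec (CommRingCat.of k)))] [IrreducibleSpace X]
    (f : X ⟶ Y) (hf : f ≫ (Y ↘ (Spec (CommRingCat.of k))) = X ↘ (Spec (CommRingCat.of k))) (a b : ℕ) (ha : topologicalKrullDim X = a)
    (hb : topologicalKrullDim (closure (Set.range f.base)) = b) :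
    (∀ x : X, ((a - b : ℕ) : WithBot ℕ∞) ≤ FlatMor.fibreDimAt f x) ∧
      IsOpen {x : X | FlatMor.fibreDimAt f x = (a - b : ℕ)} ∧ Dense {x : X | FlatMor.fibreDimAt f x = (a - b : ℕ)} := by
  have hcomp : LocallyOfFiniteType (f ≫ (Y ↘ (Spec (CommRingCat.of k)))) := by
    rw [hf]; infer_instance
  have hlft : LocallyOfFiniteType f := locallyOfFiniteType_of_comp f (Y ↘ (Spec (CommRingCat.of k)))
  set ξ : X := genericPoint ↥X with hξdef
  have hξgen : ∀ x : X, ξ ⤳ x := fun x => (genericPoint_spec ↥X).specializes (Set.mem_univ _)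
  -- the fibre dimension at the generic point
  obtain ⟨z, hfz, hzξ, -, n, hn, hFξ, -, -⟩ := Lib.Helper55.exists_maximal_point_fiber f ξ
  have hzeq : z = ξ := (hzξ.antisymm (hξgen z)).eq
  subst hzeq
  -- dimension formula
  obtain ⟨a', b', ha', hb', hab⟩ :=
    Lib.Helper55.exists_dim_closure_eq_add (Y ↘ (Spec (CommRingCat.of k))) f ξ
  obtain ⟨n', hn'1, hn'2⟩ := Lib.Helper55.exists_dim_closure_asFiber_eq_trdeg f ξ
  have hn'n : n' = n := by
    have : ((n' : ℕ) : Cardinal) = ((n : ℕ) : Cardinal) := by rw [← hn'2, ← hn]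
    exact_mod_cast this
  have hb'n : b' = n := by
    rw [hn'1] at hb'
    have : n' = b' := by exact_mod_cast hb'
    omega
  have hclξ : closure ({ξ} : Set X) = Set.univ := (genericPoint_spec ↥X).def
  have ha'' : topologicalKrullDim ↥(closure ({ξ} : Set X)) = a := by
    rw [hclξ, ← ha]
    exact IsHomeomorph.topologicalKrullDim_eq _ (Homeomorph.Set.univ ↥X).isHomeomorph
  have hclf : closure (Set.range f.base) = closure ({f ξ} : Set Y) := by
    apply subset_antisymm
    · apply closure_minimal _ isClosed_closure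
      rintro _ ⟨x, rfl⟩
      exact specializes_iff_mem_closure.mp ((hξgen x).map f.continuous)
    · exact closure_mono (Set.singleton_subset_iff.mpr ⟨ξ, rfl⟩)
  rw [hclf, ha'] at hb
  rw [ha''] at hab
  have hb'' : a' = b := by exact_mod_cast hb
  have hab' : a = a' + b' := by exact_mod_cast hab
  have hnab : n = a - b := by omega
  rw [← hnab]
  have hlow : ∀ x : X, (n : WithBot ℕ∞) ≤ FlatMor.fibreDimAt f x := fun x =>
    Lib.Helper55.trdeg_le_fibreDimAt_of_specializes f ξ x (hξgen x) n hn
  have hset : {x : X | FlatMor.fibreDimAt f x = (n : WithBot ℕ∞)} =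
      {x : X | FlatMor.fibreDimAt f x ≤ (n : WithBot ℕ∞)} := by
    ext x
    exact ⟨fun h => le_of_eq h, fun h => le_antisymm h (hlow x)⟩
  have hopen : IsOpen {x : X | FlatMor.fibreDimAt f x = (n : WithBot ℕ∞)} := by
    rw [hset]
    exact Lib.Helper55.isOpen_setOf_fibreDimAt_le f n
  exact ⟨hlow, hopen, hopen.dense ⟨ξ, hFξ⟩⟩

end Groth.Agent.S1653
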