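import Groth.Statements.S16535
import Mathlib
import Groth.Prelude.Def_Dieu
import Groth.Prelude.Def_Disp2
import Groth.Agent.Lib.Helper86.VSharpExists

set_option autoImplicit false
universe u v
open Disp

namespace Groth.Agent.S16535

open Groth.Agent.Lib.Helper86.VSharpExists

theorem result (p : ℕ) [Fact p.Prime] (R : Type u) [CommRing R]
    (hR : ∀ ℓ : ℕ, ℓ.Prime → ℓ ≠ p → IsUnit (ℓ : R)) (hp : IsNilpotent (p : R))
    (P : Type v) [AddCommGroup P] [Module (WittVector p R) P] (D : W4c1extbt610.Display3n p R P) :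
    ∃! Vs : P →ₗ[WittVector p R] Dieu.BC (WittVector.frobenius : WittVector p R →+* WittVector p R) P,
      Dieu.IsVSharp D Vs := by
  obtain ⟨Vs, hVs⟩ := exists_isVSharp D hp
  refine ⟨Vs, hVs, fun Vs' hVs' => ?_⟩
  apply LinearMap.ext_on D.span_range_Vinv
  rintro _ ⟨y, rfl⟩
  have h1 := hVs.app_smul_Vinv 1 y
  have h2 := hVs'.app_smul_Vinv 1 y
  rw [one_smul] at h1 h2
  rw [h1, h2]

end Groth.Agent.S16535
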