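import Groth.Statements.S16537
import Mathlib
import Groth.Prelude.Def_Dieu
import Groth.Prelude.Def_Disp2
import Groth.Agent.Lib.Helper75.WittComplete
import Groth.Agent.Lib.Helper86.VSharpPow

set_option autoImplicit false
universe u v
open Disp

namespace Groth.Agent.S16537

open Groth.Agent.Lib.Helper86.VSharpPow

theorem result (p : ℕ) [Fact p.Prime]
    (R : Type u) [CommRing R] (hp : IsNilpotent (p : R))
    (P : Type v) [AddCommGroup P] [Module (WittVector p R) P] (D : W4c1extbt610.Display3n p R P)
    (Vs : P →ₗ[WittVector p R] Dieu.BC (WittVector.frobenius : WittVector p R →+* WittVector p R) P) (hVs : Dieu.IsVSharp D Vs)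
    (hnil : Dieu.IsVNilpotent Vs) (n : ℕ) :
    ∃ N : ℕ, ∀ x : P, Dieu.vSharpPow Vs N x ∈
      (RingHom.ker (WittVector.truncate (p := p) (R := R) n)) •
        (⊤ : Submodule (WittVector p R) (Dieu.BC ((WittVector.frobenius : WittVector p R →+* WittVector p R) ^ (N + 1)) P)) := by
  obtain ⟨m, hm⟩ := hp
  obtain ⟨N, hN⟩ := exists_mem_span_pow Vs hnil (n * m)
  refine ⟨N, fun x => Submodule.smul_mono_left ?_ (hN x)⟩
  rw [Ideal.span_le, Set.singleton_subset_iff, SetLike.mem_coe, WittVector.mem_ker_truncate]
  have := Groth.Agent.Lib.Helper75.WittComplete.pow_mul_coeff_eq_zero (p := p) m hm n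
    (1 : WittVector p R)
  simpa using this

end Groth.Agent.S16537
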