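import Groth.Statements.S16539
import Mathlib
import Groth.Prelude.Def_Dieu
import Groth.Prelude.Def_Disp2
import Groth.Agent.Lib.Helper86.VSharpPow

set_option autoImplicit false
universe u v
open Disp

namespace Groth.Agent.S16539

open Dieu Groth.Agent.Lib.Helper86.VSharpPow
open scoped TensorProduct

section Psi

variable {A : Type u} [CommRing A] {P : Type v} [AddCommGroup P] [Module A P]
variable (g g' : A →+* A) (hg : ∀ a, g' (g a) = a)

/-- The bilinear map `(t, x) ↦ g'(t) • x`. -/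
noncomputable def psiBil : Res g →ₗ[A] (P →ₗ[A] P) where
  toFun t := g' t.val • LinearMap.id
  map_add' s t := by rw [Res.val_add, map_add, add_smul]
  map_smul' a t := by
    rw [Res.val_smul, map_mul, hg, mul_smul, RingHom.id_apply]

/-- The additive map `BC g P → P`, `w ⊗ x ↦ g'(w) • x`. -/
noncomputable def Psi (z : BC g P) : P := TensorProduct.lift (psiBil (P := P) g g' hg) z

lemma Psi_tmul (b : A) (x : P) : Psi g g' hg (BC.tmul g b x) = g' b • x := by
  change TensorProduct.lift (psiBil (P := P) g g' hg) ((Res.mk g b) ⊗ₜ[A] x) = _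
  rw [TensorProduct.lift.tmul]
  rfl

lemma Psi_add (z₁ z₂ : BC g P) : Psi g g' hg (z₁ + z₂) = Psi g g' hg z₁ + Psi g g' hg z₂ :=
  map_add (TensorProduct.lift (psiBil (P := P) g g' hg)) z₁ z₂

lemma Psi_zero : Psi g g' hg (0 : BC g P) = 0 :=
  map_zero (TensorProduct.lift (psiBil (P := P) g g' hg))

lemma Psi_smul (c : A) (z : BC g P) : Psi g g' hg (c • z) = g' c • Psi g g' hg z := by
  induction z using BC.induction_on g with
  | zero => rw [smul_zero, Psi_zero, smul_zero]
  | tmul b x => rw [BC.smul_tmul, Psi_tmul, Psi_tmul, map_mul, mul_smul]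
  | add z₁ z₂ h₁ h₂ => rw [smul_add, Psi_add, Psi_add, h₁, h₂, smul_add]

lemma Psi_mem (𝔡 : Ideal A) {z : BC g P} (hz : z ∈ 𝔡 • (⊤ : Submodule A (BC g P))) :
    Psi g g' hg z ∈ (𝔡.map g') • (⊤ : Submodule A P) := by
  refine Submodule.smul_induction_on hz (fun c hc z' _ => ?_) (fun z₁ z₂ h₁ h₂ => ?_)
  · rw [Psi_smul]
    exact Submodule.smul_mem_smul (Ideal.mem_map_of_mem g' hc) trivial
  · rw [Psi_add]; exact Submodule.add_mem _ h₁ h₂

end Psi

section Main

variable {p : ℕ} [Fact p.Prime] {k : Type u} [CommRing k] [CharP k p] [PerfectRing k p]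
variable {M : Type v} [AddCommGroup M] [Module (WittVector p k) M]

local notation "σ" => (WittVector.frobenius : WittVector p k →+* WittVector p k)
set_option quotPrecheck false in
local notation "σi" => ((WittVector.frobeniusEquiv p k).symm : WittVector p k →+* WittVector p k)

lemma σ_σi (a : WittVector p k) : σ (σi a) = a :=
  (WittVector.frobeniusEquiv p k).apply_symm_apply a

lemma σi_σ (a : WittVector p k) : σi (σ a) = a :=
  (WittVector.frobeniusEquiv p k).symm_apply_apply a

lemma σi_pow_σ_pow (n : ℕ) (a : WittVector p k) : (σi ^ n) ((σ ^ n) a) = a := by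
  rw [RingHom.coe_pow, RingHom.coe_pow]
  exact (Function.LeftInverse.iterate (g := ⇑σi) (f := ⇑σ) σi_σ n) a

/-- The operator `V^# = 1 ⊗ V`. -/
noncomputable def Vs0 (Dm : DieuMod p k M) : M →ₗ[WittVector p k] BC σ M where
  toFun x := BC.tmul σ 1 (Dm.V x)
  map_add' x y := by rw [map_add, BC.tmul_add]
  map_smul' w x := by
    rw [LinearMap.map_smulₛₗ, RingHom.id_apply, ← BC.tmul_apply_eq, σ_σi,
      BC.tmul_eq_smul_tmul_one]

lemma Vs0_apply (Dm : DieuMod p k M) (x : M) : Vs0 Dm x = BC.tmul σ 1 (Dm.V x) := rfl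

lemma vSharpPow_Vs0 (Dm : DieuMod p k M) (n : ℕ) (x : M) :
    vSharpPow (Vs0 Dm) n x = BC.tmul (σ ^ (n + 1)) 1 ((⇑Dm.V)^[n + 1] x) := by
  induction n generalizing x with
  | zero =>
    rw [vSharpPow_zero_apply, Vs0_apply, BC.castHom_tmul]
    rfl
  | succ n ih =>
    rw [vSharpPow_succ_apply, Vs0_apply, BC.map_tmul, BC.lift_tmul, ih, one_smul, BC.push_tmul,
      BC.castHom_tmul, map_one, Function.iterate_succ_apply (f := ⇑Dm.V) (n + 1)]

lemma IV_le_span : W4c1extbt610.IV p k ≤ Ideal.span {(p : WittVector p k)} := by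
  rw [W4c1extbt610.IV, Ideal.span_le]
  rintro _ ⟨w, rfl⟩
  have : WittVector.verschiebung w = σi w * p := by
    conv_lhs => rw [← σ_σi w]
    exact WittVector.verschiebung_frobenius _
  rw [SetLike.mem_coe, this]
  exact Ideal.mul_mem_left _ _ (Ideal.mem_span_singleton_self _)

lemma b_eq_span : W4c1extbt610.IV p k ⊔ Ideal.span {(p : WittVector p k)} =
    Ideal.span {(p : WittVector p k)} :=
  sup_eq_right.mpr IV_le_span

lemma span_map_le (g : WittVector p k →+* WittVector p k) :
    (Ideal.span {(p : WittVector p k)}).map g ≤ Ideal.span {(p : WittVector p k)} := by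
  rw [Ideal.map_span, Set.image_singleton, map_natCast]

lemma mem_span_smul_top_iff (e : ℕ) (z : M) :
    z ∈ (Ideal.span {(p : WittVector p k)} ^ e) • (⊤ : Submodule (WittVector p k) M) ↔
      ∃ m' : M, z = ((p : WittVector p k) ^ e) • m' := by
  rw [Ideal.span_singleton_pow, Submodule.ideal_span_singleton_smul,
    Submodule.mem_smul_pointwise_iff_exists]
  constructor
  · rintro ⟨m', _, rfl⟩; exact ⟨m', rfl⟩
  · rintro ⟨m', rfl⟩; exact ⟨m', trivial, rfl⟩

lemma tmul_one_mem_iff (n : ℕ) (y : M) :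
    BC.tmul (σ ^ (n + 1)) 1 y ∈ (W4c1extbt610.IV p k ⊔ Ideal.span {(p : WittVector p k)}) •
        (⊤ : Submodule (WittVector p k) (BC (σ ^ (n + 1)) M)) ↔
      y ∈ (Ideal.span {(p : WittVector p k)} ^ 1) • (⊤ : Submodule (WittVector p k) M) := by
  rw [b_eq_span, pow_one]
  constructor
  · intro h
    have := Psi_mem (σ ^ (n + 1)) (σi ^ (n + 1)) (σi_pow_σ_pow (n + 1)) _ h
    rw [Psi_tmul, map_one, one_smul] at this
    exact Submodule.smul_mono_left (span_map_le _) this
  · intro h
    rw [← pow_one (Ideal.span {(p : WittVector p k)}), mem_span_smul_top_iff] at h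
    obtain ⟨m', rfl⟩ := h
    rw [pow_one, ← BC.tmul_apply_eq, map_natCast, BC.tmul_eq_smul_tmul_one]
    exact Submodule.smul_mem_smul (Ideal.mem_span_singleton_self _) trivial

lemma iterate_V_smul (Dm : DieuMod p k M) (n e : ℕ) (m : M) :
    (⇑Dm.V)^[n] (((p : WittVector p k) ^ e) • m) = ((p : WittVector p k) ^ e) • (⇑Dm.V)^[n] m := by
  have h : ∀ m : M, ((p : WittVector p k) ^ e) • m = (p ^ e : ℕ) • m := by
    intro m
    rw [← Nat.cast_smul_eq_nsmul (WittVector p k)]; push_cast; rfl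
  rw [h, h]
  exact iterate_map_nsmul Dm.V n m (p ^ e)

/-- The nilpotence condition for `1 ⊗ V` versus topological nilpotence of `V`. -/
lemma nil_iff (Dm : DieuMod p k M) : IsVNilpotent (Vs0 Dm) ↔ Dm.VTopNilp := by
  constructor
  · rintro ⟨n, hn⟩ e
    have h1 : ∀ x, (⇑Dm.V)^[n + 1] x ∈
        (Ideal.span {(p : WittVector p k)} ^ 1) • (⊤ : Submodule (WittVector p k) M) := by
      intro x
      have := hn x
      rwa [vSharpPow_Vs0, tmul_one_mem_iff] at this
    refine ⟨e * (n + 1), ?_⟩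
    induction e with
    | zero =>
      intro m
      rw [pow_zero, Ideal.one_eq_top, Submodule.top_smul]; trivial
    | succ e ih =>
      intro m
      rw [Nat.succ_mul, Function.iterate_add_apply]
      obtain ⟨m₁, hm₁⟩ := (mem_span_smul_top_iff 1 _).mp (h1 m)
      rw [hm₁, iterate_V_smul]
      obtain ⟨m₂, hm₂⟩ := (mem_span_smul_top_iff e _).mp (ih m₁)
      rw [hm₂, mem_span_smul_top_iff]
      exact ⟨m₂, by rw [smul_smul, ← pow_add, add_comm]⟩
  · intro h
    obtain ⟨n, hn⟩ := h 1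
    refine ⟨n, fun x => ?_⟩
    rw [vSharpPow_Vs0, tmul_one_mem_iff, Function.iterate_succ_apply]
    exact hn _

end Main

theorem result (p : ℕ) [Fact p.Prime] (k : Type u) [CommRing k]
    [CharP k p] [PerfectRing k p]
    (M : Type v) [AddCommGroup M] [Module (WittVector p k) M] [Module.Finite (WittVector p k) M]
    [Module.Projective (WittVector p k) M] (Dm : Dieu.DieuMod p k M) (D : W4c1extbt610.Display3n p k M)
    (hF : D.F = Dm.F) (hQ : ∀ x : M, x ∈ D.Q ↔ x ∈ Set.range Dm.V)
    (hV : ∀ (m : M) (h : Dm.V m ∈ D.Q), D.Vinv ⟨Dm.V m, h⟩ = m) :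
    Dieu.IsDisplay D ↔ Dm.VTopNilp := by
  have hsharp : IsVSharp D (Vs0 Dm) := by
    constructor
    · intro w x
      rw [map_smul, Vs0_apply, hF, Dm.V_F, ← BC.tmul_apply_eq, map_natCast, BC.smul_tmul,
        BC.smul_tmul, mul_comm]
    · intro w y
      obtain ⟨m, hm⟩ := (hQ y).mp y.2
      have : D.Vinv y = m := by
        have h : Dm.V m ∈ D.Q := hm ▸ y.2
        rw [← hV m h]
        congr 1
        exact Subtype.ext hm.symm
      rw [map_smul, Vs0_apply, this, hm, BC.smul_tmul, mul_one]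
  rw [← nil_iff]
  constructor
  · rintro ⟨Vs, hVs, hnil⟩
    have : Vs = Vs0 Dm := by
      apply LinearMap.ext_on D.span_range_Vinv
      rintro _ ⟨y, rfl⟩
      have h1 := hVs.app_smul_Vinv 1 y
      have h2 := hsharp.app_smul_Vinv 1 y
      rw [one_smul] at h1 h2
      rw [h1, h2]
    rwa [this] at hnil
  · intro h
    exact ⟨Vs0 Dm, hsharp, h⟩

end Groth.Agent.S16539
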