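import Groth.Statements.S16541
import Groth.Agent.Lib.Helper27.EqualizerFlat

set_option autoImplicit false
universe u v
open CAlg

namespace Groth.Agent.S16541

/-- Let p be a prime, S → R a faithfully flat homomorphism of commutative rings and M a flat
W(S)-module; write ι₁, ι₂ : R → R ⊗_S R for the two coprojections, M_R = W(R) ⊗_{W(S)} M and M_{R ⊗
R} = W(R ⊗_S R) ⊗_{W(S)} M for the scalar extensions along W(S) → W(R) and W(S) → W(R ⊗_S R). Then 0
→ M → M_R ⇉ M_{R ⊗ R} is exact: the map x ↦ 1 ⊗ x from M to M_R is injective, and an element of M_R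
has the same image under the two maps w ⊗ x ↦ W(ι₁)(w) ⊗ x and w ⊗ x ↦ W(ι₂)(w) ⊗ x exactly when it
is of the form 1 ⊗ x. The hypothesis e records that the two composite ring maps W(S) → W(R) → W(R
⊗_S R) agree (both coprojections are S-algebra maps); it serves to identify the two targets. -/
theorem result (p : ℕ) [Fact p.Prime]
    (S R : Type u) [CommRing S] [CommRing R] [Algebra S R] [Module.FaithfullyFlat S R]
    (M : Type v) [AddCommGroup M] [Module (WittVector p S) M] [Module.Flat (WittVector p S) M]
    (e : (WittVector.map (Algebra.TensorProduct.includeLeftRingHom : R →+* TensorProduct S R R) : WittVector p R →+* WittVector p (TensorProduct S R R)).comp (WittVector.map (algebraMap S R) : WittVector p S →+* WittVector p R) = (WittVector.map ((Algebra.TensorProduct.includeRight : R →ₐ[S] TensorProduct S R R) : R →+* TensorProduct S R R) : WittVector p R →+* WittVector p (TensorProduct S R R)).comp (WittVector.map (algebraMap S R) : WittVector p S →+* WittVector p R)) :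
    Function.Injective (Dieu.BC.ι (WittVector.map (algebraMap S R) : WittVector p S →+* WittVector p R) M) ∧
      ∀ z : Dieu.BC (WittVector.map (algebraMap S R) : WittVector p S →+* WittVector p R) M,
        (Dieu.BC.castHom e (Dieu.BC.push (WittVector.map (algebraMap S R) : WittVector p S →+* WittVector p R) (WittVector.map (Algebra.TensorProduct.includeLeftRingHom : R →+* TensorProduct S R R) : WittVector p R →+* WittVector p (TensorProduct S R R)) z) = Dieu.BC.push (WittVector.map (algebraMap S R) : WittVector p S →+* WittVector p R) (WittVector.map ((Algebra.TensorProduct.includeRight : R →ₐ[S] TensorProduct S R R) : R →+* TensorProduct S R R) : WittVector p R →+* WittVector p (TensorProduct S R R)) z ↔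
          z ∈ Set.range (Dieu.BC.ι (WittVector.map (algebraMap S R) : WittVector p S →+* WittVector p R) M)) := by
  classical
  set g : WittVector p S →+* WittVector p R := WittVector.map (algebraMap S R) with hg
  set h₁ : WittVector p R →+* WittVector p (TensorProduct S R R) :=
    WittVector.map (Algebra.TensorProduct.includeLeftRingHom : R →+* TensorProduct S R R) with hh₁
  set h₂ : WittVector p R →+* WittVector p (TensorProduct S R R) :=
    WittVector.map ((Algebra.TensorProduct.includeRight : R →ₐ[S] TensorProduct S R R) :
      R →+* TensorProduct S R R) with hh₂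
  -- injectivity of S → R
  have hinjSR : Function.Injective (algebraMap S R) :=
    FaithfulSMul.algebraMap_injective S R
  have hginj : Function.Injective g := WittVector.map_injective _ hinjSR
  -- the linear maps
  let f : WittVector p S →ₗ[WittVector p S] Dieu.Res g :=
    { toFun := fun a => Dieu.Res.mk g (g a)
      map_add' := fun a b => by
        apply Dieu.Res.ext; simp [Dieu.Res.val_add]
      map_smul' := fun a b => by
        apply Dieu.Res.ext
        simp [Dieu.Res.val_smul] }
  let d : Dieu.Res g →ₗ[WittVector p S] Dieu.Res (h₂.comp g) :=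
    { toFun := fun t => Dieu.Res.mk (h₂.comp g) (h₁ t.val - h₂ t.val)
      map_add' := fun s t => by
        apply Dieu.Res.ext
        simp only [Dieu.Res.val_add, Dieu.Res.val_mk, map_add]
        ring
      map_smul' := fun a t => by
        apply Dieu.Res.ext
        have e1 : h₁ (g a) = h₂ (g a) := by
          have := congrArg (fun φ => φ a) e
          simpa using this
        simp only [Dieu.Res.val_smul, Dieu.Res.val_mk, map_mul, RingHom.id_apply, e1,
          RingHom.comp_apply]
        ring }
  have hfinj : Function.Injective f := by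
    intro a b hab
    apply hginj
    exact hab
  have hex : Function.Exact f d := by
    intro t
    constructor
    · intro ht
      have h0 : h₁ t.val = h₂ t.val := by
        have : (d t).val = 0 := by rw [ht]; rfl
        exact sub_eq_zero.mp this
      -- coefficientwise
      have hcoeff : ∀ n, ∃ s : S, algebraMap S R s = (t.val).coeff n := by
        intro n
        apply Groth.Agent.Lib.Helper27.EqualizerFlat.exists_algebraMap_eq_of_tmul_eq
        have := congrArg (fun w => WittVector.coeff w n) h0
        simpa [hh₁, hh₂, WittVector.map_coeff] using this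
      choose s hs using hcoeff
      refine ⟨WittVector.mk p s, ?_⟩
      apply Dieu.Res.ext
      show g (WittVector.mk p s) = t.val
      ext n
      rw [hg, WittVector.map_coeff, WittVector.coeff_mk, hs]
    · rintro ⟨a, rfl⟩
      apply Dieu.Res.ext
      have e1 : h₁ (g a) = h₂ (g a) := by
        have := congrArg (fun φ => φ a) e
        simpa using this
      show h₁ (g a) - h₂ (g a) = 0
      rw [e1, sub_self]
  obtain ⟨hinj, hexact⟩ :=
    Groth.Agent.Lib.Helper27.EqualizerFlat.rTensor_exact_of_flat M f d hfinj hex
  -- identify ι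
  have hι : ∀ x : M, Dieu.BC.ι g M x = (f.rTensor M) ((1 : WittVector p S) ⊗ₜ x) := by
    intro x
    rw [LinearMap.rTensor_tmul]
    show Dieu.BC.tmul g 1 x = (Dieu.Res.mk g (g 1)) ⊗ₜ x
    rw [map_one]; rfl
  have hrange : ∀ z : Dieu.BC g M, z ∈ Set.range (Dieu.BC.ι g M) ↔
      z ∈ Set.range (f.rTensor M) := by
    intro z
    constructor
    · rintro ⟨x, rfl⟩
      exact ⟨_, (hι x).symm⟩
    · rintro ⟨y, rfl⟩
      refine ⟨TensorProduct.lid _ M y, ?_⟩
      rw [hι]
      congr 1
      have := (TensorProduct.lid (WittVector p S) M).symm_apply_apply y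
      rw [TensorProduct.lid_symm_apply] at this
      exact this
  have hdiff : ∀ z : Dieu.BC g M,
      Dieu.BC.castHom e (Dieu.BC.push g h₁ z) - Dieu.BC.push g h₂ z = (d.rTensor M) z := by
    intro z
    have key : ∀ z : TensorProduct (WittVector p S) (Dieu.Res g) M,
        (Dieu.BC.castHom e (Dieu.BC.push g h₁ (z : Dieu.BC g M)) : Dieu.BC (h₂.comp g) M) =
          (Dieu.BC.push g h₂ (z : Dieu.BC g M) : Dieu.BC (h₂.comp g) M) +
            (show Dieu.BC (h₂.comp g) M from (d.rTensor M) z) := by
      intro z
      induction z using TensorProduct.induction_on with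
      | zero =>
        have e1 : Dieu.BC.push g h₁ (0 : Dieu.BC g M) = 0 := map_zero _
        have e2 : Dieu.BC.push g h₂ (0 : Dieu.BC g M) = 0 := map_zero _
        have e3 : (d.rTensor M) (0 : TensorProduct (WittVector p S) (Dieu.Res g) M) = 0 :=
          map_zero _
        show Dieu.BC.castHom e (Dieu.BC.push g h₁ (0 : Dieu.BC g M)) =
          Dieu.BC.push g h₂ (0 : Dieu.BC g M) + _
        rw [e1, e2, e3, map_zero]
        exact (add_zero _).symm
      | tmul b x =>
        have e1 : Dieu.BC.push g h₁ (Dieu.BC.tmul g b.val x) =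
            Dieu.BC.tmul (h₁.comp g) (h₁ b.val) x := Dieu.BC.push_tmul g h₁ b.val x
        have e2 : Dieu.BC.push g h₂ (Dieu.BC.tmul g b.val x) =
            Dieu.BC.tmul (h₂.comp g) (h₂ b.val) x := Dieu.BC.push_tmul g h₂ b.val x
        show Dieu.BC.castHom e (Dieu.BC.push g h₁ (Dieu.BC.tmul g b.val x)) =
          Dieu.BC.push g h₂ (Dieu.BC.tmul g b.val x) + _
        rw [e1, e2, Dieu.BC.castHom_tmul, LinearMap.rTensor_tmul]
        show (Dieu.Res.mk (h₂.comp g) (h₁ b.val)) ⊗ₜ[WittVector p S] x =
          (Dieu.Res.mk (h₂.comp g) (h₂ b.val)) ⊗ₜ[WittVector p S] x +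
            (Dieu.Res.mk (h₂.comp g) (h₁ b.val - h₂ b.val)) ⊗ₜ[WittVector p S] x
        rw [← TensorProduct.add_tmul]
        congr 1
        apply Dieu.Res.ext
        simp [Dieu.Res.val_add]
      | add z₁ z₂ h1 h2 =>
        have e1 : Dieu.BC.push g h₁ ((z₁ + z₂ : TensorProduct (WittVector p S) (Dieu.Res g) M) :
            Dieu.BC g M) = Dieu.BC.push g h₁ (z₁ : Dieu.BC g M) + Dieu.BC.push g h₁ (z₂ : Dieu.BC g M) :=
          map_add _ _ _
        have e2 : Dieu.BC.push g h₂ ((z₁ + z₂ : TensorProduct (WittVector p S) (Dieu.Res g) M) :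
            Dieu.BC g M) = Dieu.BC.push g h₂ (z₁ : Dieu.BC g M) + Dieu.BC.push g h₂ (z₂ : Dieu.BC g M) :=
          map_add _ _ _
        rw [e1, e2, map_add, h1, h2, map_add]
        show (_ + _ : TensorProduct (WittVector p S) (Dieu.Res (h₂.comp g)) M) + (_ + _) =
          (_ + _) + (_ + _)
        abel
    rw [key z]
    exact add_sub_cancel_left _ _
  refine ⟨?_, ?_⟩
  · intro x y hxy
    rw [hι, hι] at hxy
    have := hinj hxy
    have h2 := congrArg (TensorProduct.lid (WittVector p S) M) this
    simpa using h2
  · intro z
    rw [hrange, ← sub_eq_zero, hdiff]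
    exact hexact z

end Groth.Agent.S16541
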