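import Groth.Statements.S16542
import Mathlib.RingTheory.Flat.FaithfullyFlat.Algebra
import Mathlib.RingTheory.WittVector.Teichmuller
set_option autoImplicit false
universe u v
open Disp

namespace Groth.Agent.S16542

open TensorProduct

section

variable {p : ℕ} [Fact p.Prime] {S : Type u} [CommRing S] {N : Type v} [AddCommGroup N]
  [Module (WittVector p S) N]
  (hN : ∀ (w : WittVector p S) (n : N), w.coeff 0 = 0 → w • n = 0)

lemma coeff_zero_sub (a b : WittVector p S) : (a - b).coeff 0 = a.coeff 0 - b.coeff 0 :=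
  map_sub (WittVector.constantCoeff (p := p) (R := S)) a b

lemma coeff_zero_add (a b : WittVector p S) : (a + b).coeff 0 = a.coeff 0 + b.coeff 0 :=
  map_add (WittVector.constantCoeff (p := p) (R := S)) a b

include hN in
lemma smul_eq_of_coeff_zero_eq (a b : WittVector p S) (h : a.coeff 0 = b.coeff 0) (n : N) :
    a • n = b • n := by
  rw [← sub_eq_zero, ← sub_smul]
  exact hN _ _ (by rw [coeff_zero_sub, h, sub_self])

/-- the `S`-module structure on a `W(S)`-module killed by `ker w₀`, through Teichmüller lifts. -/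
@[reducible] noncomputable def teichModule : Module S N where
  smul s n := WittVector.teichmuller p s • n
  one_smul n := by
    change WittVector.teichmuller p (1 : S) • n = n
    rw [map_one, one_smul]
  mul_smul s t n := by
    change WittVector.teichmuller p (s * t) • n =
      WittVector.teichmuller p s • WittVector.teichmuller p t • n
    rw [map_mul, mul_smul]
  smul_zero s := smul_zero _
  smul_add s n n' := smul_add _ _ _
  add_smul s t n := by
    change WittVector.teichmuller p (s + t) • n =
      WittVector.teichmuller p s • n + WittVector.teichmuller p t • n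
    rw [← add_smul]
    refine smul_eq_of_coeff_zero_eq hN _ _ ?_ n
    rw [coeff_zero_add, WittVector.teichmuller_coeff_zero, WittVector.teichmuller_coeff_zero,
      WittVector.teichmuller_coeff_zero]
  zero_smul n := by
    change WittVector.teichmuller p (0 : S) • n = 0
    rw [WittVector.teichmuller_zero, zero_smul]

end

section

variable {A : Type u} [CommRing A] {S R : Type u} [CommRing S] [CommRing R] [Algebra S R]
  [Module.FaithfullyFlat S R] (c : A → S) (g : A →+* R)
  (hg : ∀ a, g a = algebraMap S R (c a))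
  {N : Type v} [AddCommGroup N] [Module A N] [Module S N]
  (hc : ∀ (a : A) (n : N), a • n = c a • n)

/-- the bi-additive map `(r, n) ↦ r ⊗ n`. -/
noncomputable def fAdd : Dieu.Res g →+ N →+ R ⊗[S] N where
  toFun r :=
    { toFun := fun n => r.val ⊗ₜ[S] n
      map_zero' := TensorProduct.tmul_zero _ _
      map_add' := fun a b => TensorProduct.tmul_add _ _ _ }
  map_zero' := by
    ext n
    exact TensorProduct.zero_tmul _ _
  map_add' a b := by
    ext n
    exact TensorProduct.add_tmul _ _ _

include hg hc in
lemma tmul_one_injective (n : N) (h : Dieu.BC.tmul g 1 n = 0) : n = 0 := by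
  have hf : ∀ (a : A) (r : Dieu.Res g) (n : N), fAdd (S := S) g (a • r) n = fAdd (S := S) g r (a • n) := by
    intro a r n
    change (g a * r.val) ⊗ₜ[S] n = r.val ⊗ₜ[S] (a • n)
    rw [hg a, hc a n, ← Algebra.smul_def, TensorProduct.smul_tmul]
  have h' : (Dieu.Res.mk g 1) ⊗ₜ[A] n = (0 : Dieu.Res g ⊗[A] N) := h
  have h1 : TensorProduct.liftAddHom (fAdd (S := S) g) hf ((Dieu.Res.mk g 1) ⊗ₜ[A] n) =
      (1 : R) ⊗ₜ[S] n := rfl
  rw [h', map_zero] at h1
  apply Module.FaithfullyFlat.tensorProduct_mk_injective (A := S) (B := R) N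
  rw [TensorProduct.mk_apply, ← h1, map_zero]

end

lemma eq_verschiebung {p : ℕ} [Fact p.Prime] {S : Type u} [CommRing S] (w : WittVector p S)
    (hw : w.coeff 0 = 0) : w = WittVector.verschiebung (WittVector.mk p fun i => w.coeff (i + 1)) := by
  ext i
  cases i with
  | zero => rw [hw, WittVector.verschiebung_coeff_zero]
  | succ i => rw [WittVector.verschiebung_coeff_succ, WittVector.coeff_mk]

/-- Let p be a prime, S → R a faithfully flat homomorphism of commutative rings with p nilpotent in S,
(P, Q, F, V⁻¹) a display over S, and (P_R, Q_R, F_R, V_R⁻¹) a 3n-display structure on P_R = W(R)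
⊗_{W(S)} P which is its base change along S → R (Q_R the kernel of P_R → R ⊗_S (P/Q), F_R(w ⊗ x) =
σ(w) ⊗ F x, V_R⁻¹(w ⊗ y) = σ(w) ⊗ V⁻¹ y for y ∈ Q, V_R⁻¹(V(w) ⊗ x) = w ⊗ F x). Then for x ∈ P one
has x ∈ Q if and only if 1 ⊗ x ∈ Q_R: together with the exactness of 0 → P → P_R ⇉ P_{R ⊗ R} this is
the exactness of 0 → Q → Q_R ⇉ Q_{R ⊗ R} at Q. -/
theorem result (p : ℕ) [Fact p.Prime]
    (S R : Type u) [CommRing S] [CommRing R] [Algebra S R] [Module.FaithfullyFlat S R] (hp : IsNilpotent (p : S))
    (P : Type v) [AddCommGroup P] [Module (WittVector p S) P] (D : W4c1extbt610.Display3n p S P)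
    (hD : Dieu.IsDisplay D)
    (DR : W4c1extbt610.Display3n p R (Dieu.BC (WittVector.map (algebraMap S R) : WittVector p S →+* WittVector p R) P))
    (hDR : Dieu.IsDispBaseChange (algebraMap S R) D DR) (x : P) :
    x ∈ D.Q ↔ Dieu.BC.ι (WittVector.map (algebraMap S R) : WittVector p S →+* WittVector p R) P x ∈ DR.Q := by
  have hN : ∀ (w : WittVector p S) (n : P ⧸ D.Q), w.coeff 0 = 0 → w • n = 0 := by
    intro w n hw
    obtain ⟨y, rfl⟩ := Submodule.Quotient.mk_surjective _ n
    rw [← Submodule.Quotient.mk_smul, Submodule.Quotient.mk_eq_zero, eq_verschiebung w hw]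
    exact D.IV_smul_le (Submodule.smul_mem_smul (W4c1extbt610.verschiebung_mem_IV p S _)
      Submodule.mem_top)
  rw [hDR.Q_eq, LinearMap.mem_ker, Dieu.BC.ι_apply, Dieu.bcQuotMap_tmul, map_one]
  constructor
  · intro hx
    rw [Submodule.mkQ_apply, (Submodule.Quotient.mk_eq_zero _).mpr hx, Dieu.BC.tmul_zero]
  · intro h
    let _ : Module S (P ⧸ D.Q) := teichModule hN
    have h0 := tmul_one_injective (A := WittVector p S) (S := S) (R := R)
      (fun w => w.coeff 0) _ (fun w => WittVector.map_coeff _ _ _)
      (fun w n => smul_eq_of_coeff_zero_eq hN _ _ (WittVector.teichmuller_coeff_zero p _).symm n)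
      _ h
    rwa [Submodule.mkQ_apply, Submodule.Quotient.mk_eq_zero] at h0

end Groth.Agent.S16542
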