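import Groth.Statements.S16545
import Mathlib
import Groth.Prelude.Def_Dieu
import Groth.Prelude.Def_Disp2
import Groth.Agent.S16541
import Groth.Agent.S16542

set_option autoImplicit false
universe u v
open Disp

namespace Groth.Agent.S16545

open Dieu

section Abstract

variable {A B C : Type u} [CommRing A] [CommRing B] [CommRing C]
variable {P P' : Type v} [AddCommGroup P] [Module A P] [AddCommGroup P'] [Module A P']

lemma castHom_castHom' {g g' g'' : A →+* B} (e : g = g') (e' : g' = g'') (z : BC g P) :
    BC.castHom e' (BC.castHom e z) = BC.castHom (e.trans e') z := by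
  subst e; subst e'; rfl

lemma castHom_rfl' {g : A →+* B} (e : g = g) (z : BC g P) : BC.castHom e z = z := rfl

theorem exists_descent (φ : A →+* B) (ι₁ ι₂ : B →+* C) (φC : A →+* C)
    (e₁ : ι₁.comp φ = φC) (e₂ : ι₂.comp φ = φC)
    (hinj : Function.Injective (BC.ι φ P'))
    (heq : ∀ z : BC φ P', BC.castHom (e₁.trans e₂.symm) (BC.push φ ι₁ z) = BC.push φ ι₂ z →
      z ∈ Set.range (BC.ι φ P'))
    (χ : BC φ P →ₗ[B] BC φ P')
    (hdesc : ∀ (z₁ : BC ι₁ (BC φ P)) (z₂ : BC ι₂ (BC φ P)),
      (BC.castHom (P := P) e₁).comp (BC.lift ι₁ (BC.push φ ι₁)) z₁ =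
        (BC.castHom (P := P) e₂).comp (BC.lift ι₂ (BC.push φ ι₂)) z₂ →
      (BC.castHom (P := P') e₁).comp (BC.lift ι₁ (BC.push φ ι₁)) (BC.map ι₁ χ z₁) =
        (BC.castHom (P := P') e₂).comp (BC.lift ι₂ (BC.push φ ι₂)) (BC.map ι₂ χ z₂)) :
    ∃ ψ : P →ₗ[A] P', BC.map φ ψ = χ := by
  have key : ∀ x : P, χ (BC.tmul φ 1 x) ∈ Set.range (BC.ι φ P') := by
    intro x
    apply heq
    have h := hdesc (BC.tmul ι₁ 1 (BC.tmul φ 1 x)) (BC.tmul ι₂ 1 (BC.tmul φ 1 x)) (by
      rw [LinearMap.comp_apply, LinearMap.comp_apply, BC.lift_tmul, BC.lift_tmul, one_smul, one_smul,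
        BC.push_tmul, BC.push_tmul, BC.castHom_tmul, BC.castHom_tmul, map_one, map_one])
    rw [LinearMap.comp_apply, LinearMap.comp_apply, BC.map_tmul, BC.map_tmul, BC.lift_tmul,
      BC.lift_tmul, one_smul, one_smul] at h
    have h2 := congrArg (BC.castHom e₂.symm) h
    rw [castHom_castHom', castHom_castHom', castHom_rfl'] at h2
    exact h2
  choose ψ₀ hψ₀ using key
  refine ⟨{ toFun := ψ₀, map_add' := ?_, map_smul' := ?_ }, ?_⟩
  · intro x y
    apply hinj
    rw [map_add, hψ₀, hψ₀, hψ₀, BC.tmul_add, map_add]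
  · intro a x
    apply hinj
    rw [RingHom.id_apply, LinearMap.map_smulₛₗ, hψ₀, hψ₀, ← BC.tmul_mul_apply, one_mul,
      ← mul_one (φ a), ← BC.smul_tmul, map_smul, mul_one]
  · apply BC.ext
    intro x
    rw [BC.map_tmul]
    exact hψ₀ x

end Abstract

section Disp

variable {p : ℕ} [Fact p.Prime] {S R : Type u} [CommRing S] [CommRing R] (f : S →+* R)
variable {P P' : Type v} [AddCommGroup P] [Module (WittVector p S) P]
  [AddCommGroup P'] [Module (WittVector p S) P']

theorem isHom_of_map_eq (D : W4c1extbt610.Display3n p S P) (D' : W4c1extbt610.Display3n p S P')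
    (DR : W4c1extbt610.Display3n p R (BC (WittVector.map f : WittVector p S →+* WittVector p R) P))
    (hDR : IsDispBaseChange f D DR)
    (DR' : W4c1extbt610.Display3n p R (BC (WittVector.map f : WittVector p S →+* WittVector p R) P'))
    (hDR' : IsDispBaseChange f D' DR')
    (hinj : Function.Injective (BC.ι (WittVector.map f : WittVector p S →+* WittVector p R) P'))
    (hQ : ∀ x : P, x ∈ D.Q → BC.ι (WittVector.map f : WittVector p S →+* WittVector p R) P x ∈ DR.Q)
    (hQ' : ∀ x : P', BC.ι (WittVector.map f : WittVector p S →+* WittVector p R) P' x ∈ DR'.Q → x ∈ D'.Q)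
    (χ : BC (WittVector.map f : WittVector p S →+* WittVector p R) P →ₗ[WittVector p R]
      BC (WittVector.map f : WittVector p S →+* WittVector p R) P')
    (hχ : W4c1extbt610.IsHom DR DR' χ)
    (ψ : P →ₗ[WittVector p S] P')
    (hψ : BC.map (WittVector.map f : WittVector p S →+* WittVector p R) ψ = χ) :
    W4c1extbt610.IsHom D D' ψ := by
  have hχ1 : ∀ x : P, χ (BC.tmul (WittVector.map f : WittVector p S →+* WittVector p R) 1 x) =
      BC.tmul (WittVector.map f : WittVector p S →+* WittVector p R) 1 (ψ x) := by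
    intro x; rw [← hψ, BC.map_tmul]
  have hmaps : ∀ q : P, q ∈ D.Q → ψ q ∈ D'.Q := by
    intro q hq
    apply hQ'
    rw [BC.ι_apply, ← hχ1]
    exact hχ.mapsTo _ (hQ q hq)
  refine ⟨hmaps, ?_, ?_⟩
  · intro x
    apply hinj
    rw [BC.ι_apply, BC.ι_apply, ← hχ1]
    have h1 := hDR.F_tmul 1 x
    rw [map_one] at h1
    rw [← h1, hχ.comm_F, hχ1, hDR'.F_tmul, map_one]
  · intro q
    apply hinj
    rw [BC.ι_apply, BC.ι_apply, ← hχ1]
    have hq1 : BC.tmul (WittVector.map f : WittVector p S →+* WittVector p R) 1 (q : P) ∈ DR.Q :=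
      hQ q q.2
    have h1 := hDR.Vinv_tmul 1 q hq1
    rw [map_one] at h1
    rw [← h1, hχ.comm_Vinv]
    have hq2 : BC.tmul (WittVector.map f : WittVector p S →+* WittVector p R) 1
        ((⟨ψ q, hmaps q q.2⟩ : D'.Q) : P') ∈ DR'.Q := by
      have := hχ.mapsTo _ hq1
      rwa [hχ1] at this
    have h2 := hDR'.Vinv_tmul 1 ⟨ψ q, hmaps q q.2⟩ hq2
    rw [map_one] at h2
    rw [← h2]
    congr 1
    exact Subtype.ext (hχ1 q)

end Disp

theorem result (p : ℕ) [Fact p.Prime]
    (S R : Type u) [CommRing S] [CommRing R] [Algebra S R] [Module.FaithfullyFlat S R] (hp : IsNilpotent (p : S))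
    (e₁ : (WittVector.map (Algebra.TensorProduct.includeLeftRingHom : R →+* TensorProduct S R R) : WittVector p R →+* WittVector p (TensorProduct S R R)).comp (WittVector.map (algebraMap S R) : WittVector p S →+* WittVector p R) = (WittVector.map (algebraMap S (TensorProduct S R R)) : WittVector p S →+* WittVector p (TensorProduct S R R)))
    (e₂ : (WittVector.map ((Algebra.TensorProduct.includeRight : R →ₐ[S] TensorProduct S R R) : R →+* TensorProduct S R R) : WittVector p R →+* WittVector p (TensorProduct S R R)).comp (WittVector.map (algebraMap S R) : WittVector p S →+* WittVector p R) = (WittVector.map (algebraMap S (TensorProduct S R R)) : WittVector p S →+* WittVector p (TensorProduct S R R)))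
    (P P' : Type v) [AddCommGroup P] [Module (WittVector p S) P] [AddCommGroup P'] [Module (WittVector p S) P']
    (D : W4c1extbt610.Display3n p S P) (D' : W4c1extbt610.Display3n p S P')
    (hD : Dieu.IsDisplay D) (hD' : Dieu.IsDisplay D')
    (DR : W4c1extbt610.Display3n p R (Dieu.BC (WittVector.map (algebraMap S R) : WittVector p S →+* WittVector p R) P)) (hDR : Dieu.IsDispBaseChange (algebraMap S R) D DR)
    (DR' : W4c1extbt610.Display3n p R (Dieu.BC (WittVector.map (algebraMap S R) : WittVector p S →+* WittVector p R) P')) (hDR' : Dieu.IsDispBaseChange (algebraMap S R) D' DR')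
    (χ : Dieu.BC (WittVector.map (algebraMap S R) : WittVector p S →+* WittVector p R) P →ₗ[WittVector p R] Dieu.BC (WittVector.map (algebraMap S R) : WittVector p S →+* WittVector p R) P') (hχ : W4c1extbt610.IsHom DR DR' χ)
    (hdesc : ∀ (z₁ : Dieu.BC (WittVector.map (Algebra.TensorProduct.includeLeftRingHom : R →+* TensorProduct S R R) : WittVector p R →+* WittVector p (TensorProduct S R R)) (Dieu.BC (WittVector.map (algebraMap S R) : WittVector p S →+* WittVector p R) P)) (z₂ : Dieu.BC (WittVector.map ((Algebra.TensorProduct.includeRight : R →ₐ[S] TensorProduct S R R) : R →+* TensorProduct S R R) : WittVector p R →+* WittVector p (TensorProduct S R R)) (Dieu.BC (WittVector.map (algebraMap S R) : WittVector p S →+* WittVector p R) P)),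
      (Dieu.BC.castHom (P := P) e₁).comp (Dieu.BC.lift (WittVector.map (Algebra.TensorProduct.includeLeftRingHom : R →+* TensorProduct S R R) : WittVector p R →+* WittVector p (TensorProduct S R R)) (Dieu.BC.push (WittVector.map (algebraMap S R) : WittVector p S →+* WittVector p R) (WittVector.map (Algebra.TensorProduct.includeLeftRingHom : R →+* TensorProduct S R R) : WittVector p R →+* WittVector p (TensorProduct S R R)))) z₁ = (Dieu.BC.castHom (P := P) e₂).comp (Dieu.BC.lift (WittVector.map ((Algebra.TensorProduct.includeRight : R →ₐ[S] TensorProduct S R R) : R →+* TensorProduct S R R) : WittVector p R →+* WittVector p (TensorProduct S R R)) (Dieu.BC.push (WittVector.map (algebraMap S R) : WittVector p S →+* WittVector p R) (WittVector.map ((Algebra.TensorProduct.includeRight : R →ₐ[S] TensorProduct S R R) : R →+* TensorProduct S R R) : WittVector p R →+* WittVector p (TensorProduct S R R)))) z₂ →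
        (Dieu.BC.castHom (P := P') e₁).comp (Dieu.BC.lift (WittVector.map (Algebra.TensorProduct.includeLeftRingHom : R →+* TensorProduct S R R) : WittVector p R →+* WittVector p (TensorProduct S R R)) (Dieu.BC.push (WittVector.map (algebraMap S R) : WittVector p S →+* WittVector p R) (WittVector.map (Algebra.TensorProduct.includeLeftRingHom : R →+* TensorProduct S R R) : WittVector p R →+* WittVector p (TensorProduct S R R)))) (Dieu.BC.map (WittVector.map (Algebra.TensorProduct.includeLeftRingHom : R →+* TensorProduct S R R) : WittVector p R →+* WittVector p (TensorProduct S R R)) χ z₁) =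
          (Dieu.BC.castHom (P := P') e₂).comp (Dieu.BC.lift (WittVector.map ((Algebra.TensorProduct.includeRight : R →ₐ[S] TensorProduct S R R) : R →+* TensorProduct S R R) : WittVector p R →+* WittVector p (TensorProduct S R R)) (Dieu.BC.push (WittVector.map (algebraMap S R) : WittVector p S →+* WittVector p R) (WittVector.map ((Algebra.TensorProduct.includeRight : R →ₐ[S] TensorProduct S R R) : R →+* TensorProduct S R R) : WittVector p R →+* WittVector p (TensorProduct S R R)))) (Dieu.BC.map (WittVector.map ((Algebra.TensorProduct.includeRight : R →ₐ[S] TensorProduct S R R) : R →+* TensorProduct S R R) : WittVector p R →+* WittVector p (TensorProduct S R R)) χ z₂)) :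
    ∃! ψ : P →ₗ[WittVector p S] P', W4c1extbt610.IsHom D D' ψ ∧ Dieu.BC.map (WittVector.map (algebraMap S R) : WittVector p S →+* WittVector p R) ψ = χ := by
  have hflat : Module.Flat (WittVector p S) P' :=
    haveI := D'.projective
    Module.Flat.of_projective
  have e : (WittVector.map (Algebra.TensorProduct.includeLeftRingHom : R →+* TensorProduct S R R) : WittVector p R →+* WittVector p (TensorProduct S R R)).comp (WittVector.map (algebraMap S R) : WittVector p S →+* WittVector p R) = (WittVector.map ((Algebra.TensorProduct.includeRight : R →ₐ[S] TensorProduct S R R) : R →+* TensorProduct S R R) : WittVector p R →+* WittVector p (TensorProduct S R R)).comp (WittVector.map (algebraMap S R) : WittVector p S →+* WittVector p R) :=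
    e₁.trans e₂.symm
  obtain ⟨hinj, heq⟩ := Groth.Agent.S16541.result p S R P' e
  obtain ⟨ψ, hψ⟩ := exists_descent _ _ _ _ e₁ e₂ hinj (fun z hz => (heq z).mp hz) χ hdesc
  have hψhom : W4c1extbt610.IsHom D D' ψ :=
    isHom_of_map_eq (algebraMap S R) D D' DR hDR DR' hDR' hinj
      (fun x hx => (Groth.Agent.S16542.result p S R hp P D hD DR hDR x).mp hx)
      (fun x hx => (Groth.Agent.S16542.result p S R hp P' D' hD' DR' hDR' x).mpr hx) χ hχ ψ hψ
  refine ⟨ψ, ⟨hψhom, hψ⟩, ?_⟩
  rintro ψ' ⟨_, hψ'⟩
  apply LinearMap.ext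
  intro x
  apply hinj
  rw [BC.ι_apply, BC.ι_apply]
  have h1 : BC.map (WittVector.map (algebraMap S R) : WittVector p S →+* WittVector p R) ψ'
      (BC.tmul _ 1 x) = BC.map (WittVector.map (algebraMap S R) : WittVector p S →+* WittVector p R) ψ
      (BC.tmul _ 1 x) := by rw [hψ', hψ]
  rwa [BC.map_tmul, BC.map_tmul] at h1

end Groth.Agent.S16545
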