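import Groth.Statements.S16547
import Mathlib
import Groth.Agent.Lib.Helper99.EakinNagata

set_option autoImplicit false
set_option linter.style.haveILetI false
universe u
open CAlg

namespace Groth.Agent.S16547

section helpers

theorem smul_dvd_smul' {A : Type*} [CommRing A] {G : Type*} [Group G] [MulSemiringAction G A]
    (σ : G) {x y : A} (h : x ∣ y) : σ • x ∣ σ • y := by
  obtain ⟨z, rfl⟩ := h
  exact ⟨σ • z, smul_mul' σ x z⟩

theorem prime_smul {A : Type*} [CommRing A] {G : Type*} [Group G] [MulSemiringAction G A]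
    (σ : G) {π : A} (hπ : Prime π) : Prime (σ • π) :=
  (MulEquiv.prime_iff (MulSemiringAction.toRingEquiv G A σ)).mpr hπ

/-- The key divisibility: if the residue field extension at the prime `π` is trivial, then a
`G`-invariant element divisible by `π` is divisible by `π ^ |D|`, where `D` is the decomposition
(= inertia) group of `π`. -/
theorem key_dvd {A : Type*} [CommRing A] [IsDomain A] {G : Type*} [Group G]
    [MulSemiringAction G A] [FaithfulSMul G A]
    {π : A} (hπ : Prime π)
    (hfin : ∀ x : A, x ≠ 0 → ∃ m : ℕ, ¬ π ^ (m + 1) ∣ x)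
    (hres : ∀ a : A, ∃ s β : A, (∀ σ : G, σ • s = s) ∧ ¬ π ∣ s ∧ (∀ σ : G, σ • β = β) ∧
      π ∣ s * a - β)
    (D : Finset G) (hD : ∀ δ : G, δ ∈ D ↔ π ∣ δ • π)
    {b : A} (hbinv : ∀ σ : G, σ • b = b) (hb : π ∣ b) : π ^ D.card ∣ b := by
  classical
  by_contra hcontra
  -- `D` is a subgroup
  have h1D : (1 : G) ∈ D := by rw [hD, one_smul]
  have hDinv : ∀ δ ∈ D, δ⁻¹ ∈ D := by
    intro δ hδ
    rw [hD] at hδ ⊢
    have hassoc : Associated π (δ • π) :=
      (hπ.dvd_prime_iff_associated (prime_smul δ hπ)).mp hδ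
    have h2 : δ • π ∣ π := hassoc.symm.dvd
    have h3 := smul_dvd_smul' δ⁻¹ h2
    rwa [inv_smul_smul] at h3
  have hDmul : ∀ δ ∈ D, ∀ ε ∈ D, δ * ε ∈ D := by
    intro δ hδ ε hε
    rw [hD] at hδ hε ⊢
    rw [mul_smul]
    exact hδ.trans (smul_dvd_smul' δ hε)
  have hnot : ∀ δ ∈ D, ∀ u : A, ¬ π ∣ u → ¬ π ∣ δ • u := by
    intro δ hδ u hu h
    apply hu
    have h2 := smul_dvd_smul' δ⁻¹ h
    rw [inv_smul_smul] at h2
    exact ((hD _).mp (hDinv δ hδ)).trans h2
  -- the exact power of `π` dividing `b`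
  have hb0 : b ≠ 0 := by
    rintro rfl
    exact hcontra (dvd_zero _)
  obtain ⟨v, hv1, hv2⟩ : ∃ v : ℕ, π ^ v ∣ b ∧ ¬ π ^ (v + 1) ∣ b := by
    have hex := hfin b hb0
    refine ⟨Nat.find hex, ?_, Nat.find_spec hex⟩
    rcases Nat.eq_zero_or_pos (Nat.find hex) with h0 | hpos
    · rw [h0, pow_zero]; exact one_dvd _
    · have hpos' : 1 ≤ Nat.find hex := hpos
      have := Nat.find_min hex (Nat.sub_lt hpos one_pos)
      rw [Nat.sub_add_cancel hpos'] at this
      exact not_not.mp this
  have hv_pos : 1 ≤ v := by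
    rcases Nat.eq_zero_or_pos v with h0 | hpos
    · exfalso; apply hv2; rw [h0, zero_add, pow_one]; exact hb
    · exact hpos
  have hvd : v < D.card := by
    by_contra hle
    push Not at hle
    exact hcontra ((pow_dvd_pow π hle).trans hv1)
  obtain ⟨u, hbu⟩ := hv1
  have hu : ¬ π ∣ u := by
    rintro ⟨c, hc⟩
    apply hv2
    exact ⟨c, by rw [hbu, hc]; ring⟩
  -- enumerate `D`
  obtain ⟨g, hgD, hginj⟩ : ∃ g : Fin D.card → G, (∀ c, g c ∈ D) ∧ Function.Injective g := by
    let e : D ≃ Fin D.card := D.equivFinOfCardEq rfl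
    exact ⟨fun c => ((e.symm c : D) : G), fun c => (e.symm c).2,
      fun c c' h => e.symm.injective (Subtype.ext h)⟩
  obtain ⟨Mx, hMx⟩ : ∃ Mx : Matrix (Fin D.card) (Fin D.card) A,
      ∀ r c, Mx r c = if (r : ℕ) < v then (g c • π) ^ (r : ℕ) else 0 := ⟨_, fun _ _ => rfl⟩
  have hdet : Mx.det = 0 := by
    apply Matrix.det_eq_zero_of_row_eq_zero ⟨v, hvd⟩
    intro c
    rw [hMx]
    exact if_neg (lt_irrefl v)
  obtain ⟨w, hw0, hMw⟩ := Matrix.exists_mulVec_eq_zero_iff.mpr hdet
  obtain ⟨T, hT⟩ : ∃ T : A → A, ∀ a, T a = ∑ c, w c * (g c • a) := ⟨_, fun _ => rfl⟩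
  have hTadd : ∀ x y, T (x + y) = T x + T y := by
    intro x y
    simp only [hT, smul_add, mul_add, Finset.sum_add_distrib]
  have hTzero : T 0 = 0 := by
    simp only [hT, smul_zero, mul_zero, Finset.sum_const_zero]
  have hTmul : ∀ y : A, (∀ δ ∈ D, δ • y = y) → ∀ a, T (y * a) = y * T a := by
    intro y hy a
    simp only [hT, Finset.mul_sum]
    refine Finset.sum_congr rfl (fun c _ => ?_)
    rw [smul_mul', hy (g c) (hgD c)]
    ring
  have hTpow : ∀ i, i < v → T (π ^ i) = 0 := by
    intro i hi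
    have h1 : ∑ c, Mx ⟨i, lt_trans hi hvd⟩ c * w c = 0 := congrFun hMw ⟨i, lt_trans hi hvd⟩
    rw [hT]
    refine Eq.trans (Finset.sum_congr rfl (fun c _ => ?_)) h1
    have hM : Mx ⟨i, lt_trans hi hvd⟩ c = (g c • π) ^ i := by
      rw [hMx]
      exact if_pos hi
    rw [hM, smul_pow', mul_comm]
  -- `T ≠ 0` by Dedekind's independence of characters
  have hTne : ∃ a, T a ≠ 0 := by
    by_contra hall
    push Not at hall
    obtain ⟨χ, hχ⟩ : ∃ χ : Fin D.card → (A →* A), ∀ c a, χ c a = g c • a :=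
      ⟨fun c => MulDistribMulAction.toMonoidHom A (g c), fun _ _ => rfl⟩
    have hχinj : Function.Injective χ := by
      intro c c' h
      apply hginj
      apply FaithfulSMul.eq_of_smul_eq_smul (α := A)
      intro a
      have := DFunLike.congr_fun h a
      rwa [hχ, hχ] at this
    have hli := (linearIndependent_monoidHom A A).comp χ hχinj
    rw [Fintype.linearIndependent_iff] at hli
    have hw' : ∀ c, w c = 0 := by
      apply hli w
      funext a
      simp only [Function.comp_apply, Finset.sum_apply, Pi.smul_apply, smul_eq_mul,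
        Pi.zero_apply, hχ]
      have := hall a
      rw [hT] at this
      exact this
    exact hw0 (funext hw')
  -- minimal valuation of values of `T`
  obtain ⟨a₀, ha₀⟩ := hTne
  have hex : ∃ m : ℕ, ∃ a, ¬ π ^ (m + 1) ∣ T a := by
    obtain ⟨m, hm⟩ := hfin _ ha₀
    exact ⟨m, a₀, hm⟩
  obtain ⟨m₀, ⟨a, ha⟩, hmin⟩ : ∃ m₀ : ℕ, (∃ a, ¬ π ^ (m₀ + 1) ∣ T a) ∧
      ∀ m, m < m₀ → ¬ ∃ a, ¬ π ^ (m + 1) ∣ T a :=
    ⟨Nat.find hex, Nat.find_spec hex, fun m hm => Nat.find_min hex hm⟩
  have hall : ∀ a', π ^ m₀ ∣ T a' := by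
    intro a'
    rcases Nat.eq_zero_or_pos m₀ with h0 | hpos
    · rw [h0, pow_zero]; exact one_dvd _
    · have hpos' : 1 ≤ m₀ := hpos
      by_contra hc
      apply hmin (m₀ - 1) (Nat.sub_lt hpos one_pos)
      refine ⟨a', ?_⟩
      rwa [Nat.sub_add_cancel hpos']
  -- `π`-adic expansion with invariant coefficients
  have hexp : ∀ k, k ≤ v → ∀ a : A, ∃ s x a' : A, (∀ σ : G, σ • s = s) ∧ ¬ π ∣ s ∧ T x = 0 ∧
      s * a = x + π ^ k * a' := by
    intro k
    induction k with
    | zero =>
      intro _ a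
      refine ⟨1, 0, a, fun σ => smul_one σ, ?_, hTzero, by ring⟩
      exact fun h => hπ.not_isUnit (isUnit_of_dvd_one h)
    | succ k ih =>
      intro hk a
      obtain ⟨s, x, a', hs, hsπ, hTx, hsa⟩ := ih (Nat.le_of_succ_le hk) a
      obtain ⟨s', β, hs', hs'π, hβ, c, hc⟩ := hres a'
      refine ⟨s' * s, s' * x + β * π ^ k, c, ?_, ?_, ?_, ?_⟩
      · intro σ; rw [smul_mul', hs, hs']
      · intro h
        rcases hπ.dvd_or_dvd h with h | h
        · exact hs'π h
        · exact hsπ h
      · rw [hTadd, hTmul s' (fun δ _ => hs' δ), hTx, hTmul β (fun δ _ => hβ δ),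
          hTpow k (by omega)]
        ring
      · linear_combination s' * hsa + π ^ k * hc
  -- the `D`-norm of `u`
  obtain ⟨nu, hnu_def⟩ : ∃ nu : A, nu = ∏ δ ∈ D, δ • u := ⟨_, rfl⟩
  have hnuinv : ∀ δ' ∈ D, δ' • nu = nu := by
    intro δ' hδ'
    rw [hnu_def, Finset.smul_prod']
    refine Finset.prod_nbij' (fun δ => δ' * δ) (fun δ => δ'⁻¹ * δ) ?_ ?_ ?_ ?_ ?_
    · intro δ hδ; exact hDmul δ' hδ' δ hδ
    · intro δ hδ; exact hDmul δ'⁻¹ (hDinv δ' hδ') δ hδ
    · intro δ _; simp
    · intro δ _; simp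
    · intro δ _; exact (mul_smul δ' δ u).symm
  have hnunot : ¬ π ∣ nu := by
    intro h
    rw [hnu_def] at h
    obtain ⟨δ, hδ, hδu⟩ := (hπ.dvd_finsetProd_iff _).mp h
    exact hnot δ hδ u hu hδu
  obtain ⟨u', hu'⟩ : ∃ u' : A, u * u' = nu := by
    refine ⟨∏ δ ∈ D.erase 1, δ • u, ?_⟩
    have := Finset.mul_prod_erase D (fun δ => δ • u) h1D
    rw [hnu_def]
    simpa only [one_smul] using this
  -- final computation
  obtain ⟨s, x, a', hs, hsπ, hTx, hsa⟩ := hexp v le_rfl a
  have h1 : s * T a = T (π ^ v * a') := by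
    rw [← hTmul s (fun δ _ => hs δ) a, hsa, hTadd, hTx, zero_add]
  have h2 : nu * T (π ^ v * a') = b * T (u' * a') := by
    rw [← hTmul nu hnuinv, ← hTmul b (fun δ _ => hbinv δ)]
    congr 1
    rw [← hu', hbu]; ring
  have h3 : (nu * s) * T a = b * T (u' * a') := by rw [mul_assoc, h1, h2]
  have h4 : π ^ (v + m₀) ∣ (nu * s) * T a := by
    rw [h3, pow_add]
    exact mul_dvd_mul ⟨u, hbu⟩ (hall _)
  have hnus : ¬ π ∣ nu * s := by
    intro h
    rcases hπ.dvd_or_dvd h with h | h
    · exact hnunot h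
    · exact hsπ h
  have h5 : π ^ (v + m₀) ∣ T a := hπ.pow_dvd_of_dvd_mul_left _ hnus h4
  exact ha ((pow_dvd_pow π (by omega)).trans h5)

/-- A Noetherian local domain whose quotient by a nonzero element of the maximal ideal is
regular is itself regular. -/
theorem regular_of_quotient {R : Type*} [CommRing R] [IsDomain R] [IsLocalRing R]
    [IsNoetherianRing R] {x : R} (hx0 : x ≠ 0) (hxm : x ∈ IsLocalRing.maximalIdeal R)
    (hreg : IsRegularLocalRing (R ⧸ Ideal.span {x})) : IsRegularLocalRing R := by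
  classical
  apply IsRegularLocalRing.of_spanFinrank_maximalIdeal_le
  have hdim := ringKrullDim_quotient_span_singleton_succ_eq_ringKrullDim_of_mem_nonZeroDivisors
    (mem_nonZeroDivisors_of_ne_zero hx0) hxm
  have hsf := hreg.spanFinrank_maximalIdeal
  have hfg : (IsLocalRing.maximalIdeal (R ⧸ Ideal.span {x})).FG := IsNoetherian.noetherian _
  obtain ⟨s, hscard, hs⟩ := Submodule.FG.exists_span_finset_card_eq_spanFinrank hfg
  have hs' : Ideal.span (s : Set (R ⧸ Ideal.span {x})) =
      IsLocalRing.maximalIdeal (R ⧸ Ideal.span {x}) := hs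
  have hsurj : Function.Surjective (Ideal.Quotient.mk (Ideal.span {x})) :=
    Ideal.Quotient.mk_surjective
  obtain ⟨f, hf⟩ : ∃ f : (R ⧸ Ideal.span {x}) → R,
      ∀ y, Ideal.Quotient.mk (Ideal.span {x}) (f y) = y :=
    ⟨Function.surjInv hsurj, Function.surjInv_eq hsurj⟩
  have hcomap : (IsLocalRing.maximalIdeal (R ⧸ Ideal.span {x})).comap
      (Ideal.Quotient.mk (Ideal.span {x})) = IsLocalRing.maximalIdeal R := by
    have hmax := Ideal.comap_isMaximal_of_surjective (Ideal.Quotient.mk (Ideal.span {x})) hsurj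
      (K := IsLocalRing.maximalIdeal (R ⧸ Ideal.span {x}))
    exact IsLocalRing.eq_maximalIdeal hmax
  have hspan : IsLocalRing.maximalIdeal R =
      Ideal.span (f '' (s : Set (R ⧸ Ideal.span {x})) ∪ {x}) := by
    apply le_antisymm
    · intro z hz
      rw [← hcomap, Ideal.mem_comap] at hz
      have hmap : (Ideal.span (f '' (s : Set (R ⧸ Ideal.span {x})))).map
          (Ideal.Quotient.mk (Ideal.span {x})) =
          IsLocalRing.maximalIdeal (R ⧸ Ideal.span {x}) := by
        rw [Ideal.map_span, ← hs', Set.image_image]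
        simp only [hf, Set.image_id']
      have hz' : z ∈ ((Ideal.span (f '' (s : Set (R ⧸ Ideal.span {x})))).map
          (Ideal.Quotient.mk (Ideal.span {x}))).comap (Ideal.Quotient.mk (Ideal.span {x})) := by
        rw [Ideal.mem_comap, hmap]; exact hz
      rw [Ideal.comap_map_of_surjective _ hsurj, ← RingHom.ker_eq_comap_bot, Ideal.mk_ker] at hz'
      rw [Ideal.span_union]
      exact hz'
    · rw [Ideal.span_le]
      rintro z (⟨y, hy, rfl⟩ | hz)
      · rw [SetLike.mem_coe, ← hcomap, Ideal.mem_comap, hf, ← hs']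
        exact Ideal.subset_span hy
      · rw [Set.mem_singleton_iff] at hz
        rw [hz]; exact hxm
  have hfin : (f '' (s : Set (R ⧸ Ideal.span {x})) ∪ {x}).Finite :=
    (s.finite_toSet.image f).union (Set.finite_singleton x)
  have hle : (IsLocalRing.maximalIdeal R).spanFinrank ≤ s.card + 1 := by
    rw [hspan]
    refine (Submodule.spanFinrank_span_le_ncard_of_finite hfin).trans ?_
    refine (Set.ncard_union_le _ _).trans ?_
    rw [Set.ncard_singleton]
    have := Set.ncard_image_le (f := f) s.finite_toSet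
    rw [Set.ncard_coe_finset] at this
    omega
  rw [← hdim, ← hsf, ← hscard]
  exact_mod_cast hle

end helpers

/-- Let A be a Noetherian factorial local domain and G a finite group acting faithfully on A by ring
automorphisms; let B be a ring with an injective ring map to A whose image is exactly the ring of
invariants of G, and assume A is a finite B-module. Let q be a prime ideal of B of height one and p
a prime ideal of A lying over q such that the extension of residue fields of the local rings B_q and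
A_p is trivial (every element of A is congruent modulo p to some c⁻¹b with b, c in B, c outside q).
Then q is a principal ideal; and if moreover B/q is a regular local ring, then B is a regular local
ring. -/
theorem result
    {A B G : Type u} [CommRing A] [IsDomain A] [IsNoetherianRing A] [IsLocalRing A]
    [UniqueFactorizationMonoid A]
    [CommRing B] [Algebra B A] [FaithfulSMul B A] [Module.Finite B A]
    [Group G] [Finite G] [MulSemiringAction G A] [FaithfulSMul G A] [SMulCommClass G B A]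
    [Algebra.IsInvariant B A G]
    (q : Ideal B) [q.IsPrime] (hq : q.height = 1) (p : Ideal A) [p.IsPrime] [p.LiesOver q]
    (hres : ∀ a : A, ∃ b c : B, c ∉ q ∧ algebraMap B A c * a - algebraMap B A b ∈ p) :
    Submodule.IsPrincipal q ∧ (IsRegularLocalRing (B ⧸ q) → IsRegularLocalRing B) := by
  classical
  letI : Fintype G := Fintype.ofFinite G
  have hφinj : Function.Injective (algebraMap B A) := FaithfulSMul.algebraMap_injective B A
  haveI : IsDomain B := hφinj.isDomain _
  haveI : Algebra.IsIntegral B A := Algebra.IsIntegral.of_finite B A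
  haveI : IsNoetherianRing B :=
    Groth.Agent.Lib.Helper99.EakinNagata.isNoetherianRing_of_finite_of_injective B A hφinj
  have hq_eq : q = p.comap (algebraMap B A) := (Ideal.LiesOver.over : q = p.under B)
  have hmemq : ∀ b : B, b ∈ q ↔ algebraMap B A b ∈ p := by
    intro b
    rw [hq_eq, Ideal.mem_comap]
  have hinvφ : ∀ (σ : G) (b : B), σ • algebraMap B A b = algebraMap B A b :=
    fun σ b => smul_algebraMap σ b
  have hinvB : ∀ a : A, (∀ σ : G, σ • a = a) → ∃ b : B, algebraMap B A b = a :=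
    Algebra.IsInvariant.isInvariant
  have hq0 : q ≠ ⊥ := Ideal.ne_bot_of_height_eq_one hq
  have hp0 : p ≠ ⊥ := by
    intro hp
    apply hq0
    rw [eq_bot_iff]
    intro b hb
    rw [hmemq, hp, Ideal.mem_bot] at hb
    rw [Ideal.mem_bot]
    exact hφinj (by rw [hb, map_zero])
  obtain ⟨π, hπp, hπ⟩ := Ideal.IsPrime.exists_mem_prime_of_ne_bot ‹p.IsPrime› hp0
  -- the norm
  obtain ⟨nrm, hnrm⟩ : ∃ nrm : A → A, ∀ x, nrm x = ∏ σ : G, σ • x := ⟨_, fun _ => rfl⟩
  have hnrm_inv : ∀ x (τ : G), τ • nrm x = nrm x := by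
    intro x τ
    rw [hnrm, Finset.smul_prod']
    exact Fintype.prod_equiv (Equiv.mulLeft τ) _ _ (fun σ => (mul_smul τ σ x).symm)
  have hπN : π ∣ nrm π := by
    rw [hnrm]
    have := Finset.dvd_prod_of_mem (fun σ : G => σ • π) (Finset.mem_univ (1 : G))
    simpa only [one_smul] using this
  have hN0 : nrm π ≠ 0 := by
    rw [hnrm]
    exact Finset.prod_ne_zero_iff.mpr (fun σ _ => (prime_smul σ hπ).ne_zero)
  obtain ⟨bN, hbN⟩ := hinvB (nrm π) (fun σ => hnrm_inv π σ)
  have hbNq : bN ∈ q := by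
    rw [hmemq, hbN]
    obtain ⟨c, hc⟩ := hπN
    rw [hc]
    exact p.mul_mem_right _ hπp
  have hbN0 : bN ≠ 0 := by
    intro h0
    rw [h0, map_zero] at hbN
    exact hN0 hbN.symm
  -- `p = (π)`
  have hspan_le : Ideal.span {π} ≤ p := (Ideal.span_singleton_le_iff_mem (I := p)).mpr hπp
  haveI hPprime : (Ideal.span {π} : Ideal A).IsPrime :=
    (Ideal.span_singleton_prime hπ.ne_zero).mpr hπ
  have hcomap_eq : (Ideal.span {π} : Ideal A).comap (algebraMap B A) = q := by
    haveI : ((Ideal.span {π} : Ideal A).comap (algebraMap B A)).IsPrime :=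
      Ideal.comap_isPrime _ _
    apply Ideal.eq_of_le_of_height_le
    · rw [hq_eq]; exact Ideal.comap_mono hspan_le
    · rw [hq, Order.one_le_iff_ne_zero, Ne, Ideal.height_eq_zero_iff_eq_bot]
      intro hbot
      have : bN ∈ (Ideal.span {π} : Ideal A).comap (algebraMap B A) := by
        rw [Ideal.mem_comap, hbN, Ideal.mem_span_singleton]; exact hπN
      rw [hbot, Ideal.mem_bot] at this
      exact hbN0 this
  have hp_eq : p = Ideal.span {π} := by
    by_contra hne
    have hex : ∃ x ∈ p, x ∉ Ideal.span {π} := by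
      by_contra hcon
      push Not at hcon
      exact hne (le_antisymm hcon hspan_le)
    obtain ⟨x, hxp, hxn⟩ := hex
    have hlt := Ideal.comap_lt_comap_of_integral_mem_sdiff hspan_le ⟨hxp, hxn⟩
      (Algebra.IsIntegral.isIntegral (R := B) x)
    rw [hcomap_eq, ← hq_eq] at hlt
    exact lt_irrefl _ hlt
  have hπdvd : ∀ x ∈ p, π ∣ x := by
    intro x hx
    rw [hp_eq] at hx
    exact Ideal.mem_span_singleton.mp hx
  have hres' : ∀ a : A, ∃ s β : A, (∀ σ : G, σ • s = s) ∧ ¬ π ∣ s ∧ (∀ σ : G, σ • β = β) ∧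
      π ∣ s * a - β := by
    intro a
    obtain ⟨b, c, hc, hmem⟩ := hres a
    refine ⟨algebraMap B A c, algebraMap B A b, fun σ => hinvφ σ c, ?_, fun σ => hinvφ σ b,
      hπdvd _ hmem⟩
    intro hdvd
    apply hc
    rw [hmemq]
    obtain ⟨z, hz⟩ := hdvd
    rw [hz]
    exact p.mul_mem_right _ hπp
  have hfin : ∀ x : A, x ≠ 0 → ∃ m : ℕ, ¬ π ^ (m + 1) ∣ x :=
    fun x hx => FiniteMultiplicity.of_not_isUnit hπ.not_isUnit hx
  obtain ⟨D, hD⟩ : ∃ D : Finset G, ∀ δ, δ ∈ D ↔ π ∣ δ • π :=
    ⟨Finset.univ.filter (fun δ => π ∣ δ • π), fun δ => by simp⟩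
  have hkey : ∀ b : B, b ∈ q → π ^ D.card ∣ algebraMap B A b := fun b hb =>
    key_dvd hπ hfin hres' D hD (fun σ => hinvφ σ b) (hπdvd _ ((hmemq b).mp hb))
  -- the norm of `π` divides every element of `q`
  have hNdvd : ∀ b : B, b ∈ q → nrm π ∣ algebraMap B A b := by
    intro b hb
    rw [UniqueFactorizationMonoid.dvd_iff_emultiplicity_le hN0]
    intro ρ hρ
    have hterm : ∀ σ : G, emultiplicity ρ (σ • π) = if ρ ∣ σ • π then 1 else 0 := by
      intro σ
      split_ifs with h
      · have hassoc : Associated ρ (σ • π) :=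
          (hρ.dvd_prime_iff_associated (prime_smul σ hπ)).mp h
        exact (emultiplicity_eq_of_associated_right hassoc.symm).trans
          (FiniteMultiplicity.of_prime_left hρ hρ.ne_zero).emultiplicity_self
      · exact emultiplicity_eq_zero.mpr h
    have hsum : emultiplicity ρ (nrm π) =
        ((Finset.univ.filter (fun σ : G => ρ ∣ σ • π)).card : ℕ∞) := by
      rw [hnrm, Finset.emultiplicity_prod hρ, Finset.sum_congr rfl (fun σ _ => hterm σ)]
      exact Finset.sum_boole _ _
    rw [hsum]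
    by_cases hex : ∃ τ : G, ρ ∣ τ • π
    · obtain ⟨τ, hτ⟩ := hex
      have hassoc : Associated ρ (τ • π) :=
        (hρ.dvd_prime_iff_associated (prime_smul τ hπ)).mp hτ
      have hcard : (Finset.univ.filter (fun σ : G => ρ ∣ σ • π)).card ≤ D.card := by
        apply Finset.card_le_card_of_injOn (fun σ => τ⁻¹ * σ)
        · intro σ hσ
          have hσ' : ρ ∣ σ • π := by simpa using hσ
          show τ⁻¹ * σ ∈ D
          rw [hD, mul_smul]
          have h1 : τ • π ∣ σ • π := hassoc.symm.dvd.trans hσ'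
          have h2 := smul_dvd_smul' τ⁻¹ h1
          rwa [inv_smul_smul] at h2
        · intro σ _ σ' _ h
          exact mul_left_cancel h
      have hpow : (τ • π) ^ D.card ∣ algebraMap B A b := by
        have h1 := smul_dvd_smul' τ (hkey b hb)
        rwa [smul_pow', hinvφ] at h1
      calc ((Finset.univ.filter (fun σ : G => ρ ∣ σ • π)).card : ℕ∞)
          ≤ (D.card : ℕ∞) := by exact_mod_cast hcard
        _ ≤ emultiplicity (τ • π) (algebraMap B A b) := le_emultiplicity_of_pow_dvd hpow
        _ = emultiplicity ρ (algebraMap B A b) := emultiplicity_eq_of_associated_left hassoc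
    · have hempty : Finset.univ.filter (fun σ : G => ρ ∣ σ • π) = ∅ := by
        rw [Finset.filter_eq_empty_iff]
        intro σ _ h
        exact hex ⟨σ, h⟩
      rw [hempty, Finset.card_empty, Nat.cast_zero]
      exact bot_le
  -- `q = (bN)`
  have hq_span : q = Ideal.span {bN} := by
    apply le_antisymm
    · intro b hb
      obtain ⟨a, ha⟩ := hNdvd b hb
      have hainv : ∀ σ : G, σ • a = a := by
        intro σ
        have h1 : σ • algebraMap B A b = σ • (nrm π * a) := by rw [ha]
        rw [hinvφ, smul_mul', hnrm_inv, ha] at h1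
        exact (mul_left_cancel₀ hN0 h1).symm
      obtain ⟨b', hb'⟩ := hinvB a hainv
      rw [Ideal.mem_span_singleton']
      refine ⟨b', hφinj ?_⟩
      rw [map_mul, hb', hbN, ha, mul_comm]
    · rw [Ideal.span_singleton_le_iff_mem]; exact hbNq
  refine ⟨⟨⟨bN, hq_span⟩⟩, ?_⟩
  intro hreg
  -- `B` is local
  haveI : IsLocalHom (algebraMap B A) := by
    constructor
    intro b hb
    obtain ⟨a', ha'⟩ := hb.exists_right_inv
    have hainv : ∀ σ : G, σ • a' = a' := by
      intro σ
      have h1 : σ • (algebraMap B A b * a') = σ • (1 : A) := by rw [ha']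
      rw [smul_mul', hinvφ, smul_one] at h1
      calc σ • a' = (algebraMap B A b * a') * σ • a' := by rw [ha', one_mul]
        _ = a' * (algebraMap B A b * σ • a') := by ring
        _ = a' := by rw [h1, mul_one]
    obtain ⟨b', hb'⟩ := hinvB a' hainv
    have hbb' : b * b' = 1 := hφinj (by rw [map_mul, hb', ha', map_one])
    exact IsUnit.of_mul_eq_one b' hbb'
  haveI : IsLocalRing B := RingHom.domain_isLocalRing (algebraMap B A)
  have hbNm : bN ∈ IsLocalRing.maximalIdeal B :=
    IsLocalRing.le_maximalIdeal (Ideal.IsPrime.ne_top ‹q.IsPrime›) hbNq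
  have hreg' : IsRegularLocalRing (B ⧸ Ideal.span {bN}) := by
    rw [← hq_span]; exact hreg
  exact regular_of_quotient hbN0 hbNm hreg'

end Groth.Agent.S16547
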