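import Groth.Statements.S16548
import Groth.Agent.Lib.Helper24.TameCore
import Groth.Agent.Lib.Helper24.SmoothStalkFacts

set_option autoImplicit false
universe u
open CategoryTheory CategoryTheory.Limits AlgebraicGeometry
attribute [local instance] Curv2.resAlgebra
open Curves

namespace Groth.Agent.S16548

/-- Let k be a field, X and Y smooth over k of relative dimension one (not necessarily proper), f : X ->
Y a finite k-morphism and x a closed point of X, with y = f(x). Suppose f is tamely ramified at x:
m_y O_{X,x} = m_x^e for an integer e ≥ 2 prime to the characteristic of k, and κ(x) is separable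
over κ(y). Then κ(x) is separable over k. (Consequently the field generated over k by the residue
fields of all such points is Galois over k.) -/
theorem result (k : Type u) [Field k]
    (X Y : Scheme.{u}) [X.Over (Spec (CommRingCat.of k))] [Y.Over (Spec (CommRingCat.of k))]
    [SmoothOfRelativeDimension 1 (X ↘ Spec (CommRingCat.of k))]
    [SmoothOfRelativeDimension 1 (Y ↘ Spec (CommRingCat.of k))]
    (f : X ⟶ Y) [IsFinite f] (hf : f ≫ (Y ↘ Spec (CommRingCat.of k)) = X ↘ Spec (CommRingCat.of k))
    (x : X) (hx : IsClosed ({x} : Set X)) (e : ℕ)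
    (he : (IsLocalRing.maximalIdeal (Y.presheaf.stalk (f.base x))).map (f.stalkMap x).hom =
      IsLocalRing.maximalIdeal (X.presheaf.stalk x) ^ e)
    (h2 : 2 ≤ e) (hp : ¬ ringChar k ∣ e)
    (hsep : @Algebra.IsSeparable (Y.residueField (f.base x)) (X.residueField x) _ _
      (f.residueFieldMap x).hom.toAlgebra) :
    Algebra.IsSeparable k (X.residueField x) := by
  classical
  by_contra hnsep
  -- local facts on `X` at `x`
  let algkB : Algebra k (X.presheaf.stalk x) := Curv2.stalkAlgebra k X x
  let algkA : Algebra k (Y.presheaf.stalk (f.base x)) := Curv2.stalkAlgebra k Y (f.base x)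
  obtain ⟨⟨hfree, hfin, hrk⟩, hdim, hNT, -, hess⟩ :=
    Groth.Agent.Lib.Helper24.smooth_stalk_facts k X 1 x hx
  let algAB : Algebra (Y.presheaf.stalk (f.base x)) (X.presheaf.stalk x) :=
    (f.stalkMap x).hom.toAlgebra
  have tower : IsScalarTower k (Y.presheaf.stalk (f.base x)) (X.presheaf.stalk x) := by
    refine IsScalarTower.of_algebraMap_eq' ?_
    exact (Groth.Agent.Lib.Helper24.stalkMap_comp_stalkMap k X Y f hf x).symm
  have hloc : IsLocalHom (algebraMap (Y.presheaf.stalk (f.base x)) (X.presheaf.stalk x)) := by
    show IsLocalHom (f.stalkMap x).hom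
    infer_instance
  have hessAB : Algebra.EssFiniteType (Y.presheaf.stalk (f.base x)) (X.presheaf.stalk x) :=
    LocallyOfFiniteType.stalkMap f x
  -- the residue field extension is separable
  have hsepAB : Algebra.IsSeparable (IsLocalRing.ResidueField (Y.presheaf.stalk (f.base x)))
      (IsLocalRing.ResidueField (X.presheaf.stalk x)) := by
    have halg : (f.residueFieldMap x).hom.toAlgebra =
        (IsLocalRing.ResidueField.instAlgebra : Algebra
          (IsLocalRing.ResidueField (Y.presheaf.stalk (f.base x)))
          (IsLocalRing.ResidueField (X.presheaf.stalk x))) := by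
      apply Algebra.algebra_ext
      intro r
      rfl
    rw [← halg]
    exact hsep
  -- a generator of the differentials
  have hfr : Module.finrank (X.presheaf.stalk x) Ω[X.presheaf.stalk x⁄k] = 1 := hrk
  obtain ⟨ω, hω⟩ : ∃ ω : Ω[X.presheaf.stalk x⁄k], Submodule.span (X.presheaf.stalk x) {ω} = ⊤ := by
    have b := Module.finBasisOfFinrankEq (X.presheaf.stalk x) Ω[X.presheaf.stalk x⁄k] hfr
    refine ⟨b 0, ?_⟩
    have := b.span_eq
    rwa [show Set.range b = {b 0} from by
      ext y
      simp only [Set.mem_range, Set.mem_singleton_iff]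
      constructor
      · rintro ⟨i, rfl⟩
        rw [Subsingleton.elim i 0]
      · rintro rfl
        exact ⟨0, rfl⟩] at this
  -- the residue field is not formally unramified over `k`
  have hns : ¬ Subsingleton Ω[IsLocalRing.ResidueField (X.presheaf.stalk x)⁄k] := by
    intro hsub
    apply hnsep
    have hfu : Algebra.FormallyUnramified k (IsLocalRing.ResidueField (X.presheaf.stalk x)) := ⟨hsub⟩
    have hessres : Algebra.EssFiniteType k (IsLocalRing.ResidueField (X.presheaf.stalk x)) :=
      Algebra.EssFiniteType.comp k (X.presheaf.stalk x) _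
    have h1 : Algebra.IsSeparable k (IsLocalRing.ResidueField (X.presheaf.stalk x)) :=
      Algebra.FormallyUnramified.isSeparable k _
    exact h1
  have hunr : Algebra.FormallyUnramified (Y.presheaf.stalk (f.base x)) (X.presheaf.stalk x) :=
    Groth.Agent.Lib.Helper24.formallyUnramified_of_cyclic_kaehler k _ _ ω hω hns
  have hmap : (IsLocalRing.maximalIdeal (Y.presheaf.stalk (f.base x))).map
      (algebraMap (Y.presheaf.stalk (f.base x)) (X.presheaf.stalk x)) =
      IsLocalRing.maximalIdeal (X.presheaf.stalk x) :=
    Algebra.FormallyUnramified.map_maximalIdeal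
  have hme : IsLocalRing.maximalIdeal (X.presheaf.stalk x) =
      IsLocalRing.maximalIdeal (X.presheaf.stalk x) ^ e := by
    rw [← he]
    exact hmap.symm
  -- Nakayama
  have hbot : IsLocalRing.maximalIdeal (X.presheaf.stalk x) = ⊥ := by
    have hle : IsLocalRing.maximalIdeal (X.presheaf.stalk x) ≤
        IsLocalRing.maximalIdeal (X.presheaf.stalk x) • IsLocalRing.maximalIdeal (X.presheaf.stalk x) := by
      rw [smul_eq_mul, ← pow_two]
      conv_lhs => rw [hme]
      exact Ideal.pow_le_pow_right h2
    exact Submodule.eq_bot_of_le_smul_of_le_jacobson_bot _ _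
      (IsNoetherian.noetherian _) hle (IsLocalRing.maximalIdeal_le_jacobson _)
  have hfield : IsField (X.presheaf.stalk x) := IsLocalRing.isField_iff_maximalIdeal_eq.mpr hbot
  have hd0 : ringKrullDim (X.presheaf.stalk x) = 0 := ringKrullDim_eq_zero_of_isField hfield
  rw [hdim] at hd0
  norm_num at hd0

end Groth.Agent.S16548
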