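import Groth.Statements.S16572
import Mathlib
-- import your own Groth.Agent.* helpers here

set_option autoImplicit false
universe u
open CAlg

namespace Groth.Agent.S16572

open Polynomial

/-- index set: monic polynomials of positive degree -/
abbrev Idx (A : Type u) [CommRing A] := {P : Polynomial A // P.Monic ∧ 0 < P.natDegree}

noncomputable abbrev JJ (A : Type u) [CommRing A] : Ideal (MvPolynomial (Idx A) A) :=
  Ideal.span (Set.range fun P : Idx A => Polynomial.aeval (MvPolynomial.X (R := A) P) P.1)

abbrev TT (A : Type u) [CommRing A] := MvPolynomial (Idx A) A ⧸ JJ A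

section
variable (A : Type u) [CommRing A]

/-- the tautological root of `P` in `T`. -/
noncomputable def xroot (P : Idx A) : TT A := Ideal.Quotient.mk (JJ A) (MvPolynomial.X P)

lemma aeval_xroot (P : Idx A) : Polynomial.aeval (xroot A P) P.1 = 0 := by
  have h1 : Polynomial.aeval (xroot A P) P.1
      = Ideal.Quotient.mkₐ A (JJ A) (Polynomial.aeval (MvPolynomial.X (R := A) P) P.1) := by
    rw [← Polynomial.aeval_algHom_apply]
    rfl
  rw [h1]
  exact (Ideal.Quotient.eq_zero_iff_mem).2 (Ideal.subset_span ⟨P, rfl⟩)

lemma isIntegral_TT (t : TT A) : IsIntegral A t := by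
  obtain ⟨q, rfl⟩ := Ideal.Quotient.mk_surjective t
  induction q using MvPolynomial.induction_on with
  | C a =>
    have : (Ideal.Quotient.mk (JJ A)) (MvPolynomial.C a) = algebraMap A (TT A) a := rfl
    rw [this]
    exact isIntegral_algebraMap
  | add p q hp hq =>
    rw [map_add]
    exact hp.add hq
  | mul_X p i hp =>
    rw [map_mul]
    refine hp.mul ?_
    exact ⟨i.1, i.2.1, by
      have := aeval_xroot A i
      rwa [Polynomial.aeval_def] at this⟩

theorem surj_comap : Function.Surjective (PrimeSpectrum.comap (algebraMap A (TT A))) := by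
  intro p
  haveI := p.2
  let Ω := AlgebraicClosure p.asIdeal.ResidueField
  have hroot : ∀ P : Idx A, ∃ z : Ω, Polynomial.eval z (P.1.map (algebraMap A Ω)) = 0 := by
    intro P
    apply IsAlgClosed.exists_root
    have h1 : (P.1.map (algebraMap A Ω)).natDegree = P.1.natDegree := P.2.1.natDegree_map _
    intro h0
    have h2 := Polynomial.natDegree_eq_of_degree_eq_some (n := 0) (by simpa using h0)
    have h3 := P.2.2
    omega
  choose z hz using hroot
  let ψ : MvPolynomial (Idx A) A →ₐ[A] Ω := MvPolynomial.aeval z
  have hψ : ∀ a ∈ JJ A, ψ a = 0 := by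
    intro a ha
    have hle : JJ A ≤ RingHom.ker ψ.toRingHom := by
      rw [Ideal.span_le]
      rintro _ ⟨P, rfl⟩
      show ψ (Polynomial.aeval (MvPolynomial.X (R := A) P) P.1) = 0
      rw [← Polynomial.aeval_algHom_apply]
      have : ψ (MvPolynomial.X P) = z P := MvPolynomial.aeval_X z P
      rw [this, Polynomial.aeval_def, ← Polynomial.eval_map]
      exact hz P
    exact hle ha
  let ψ' : TT A →ₐ[A] Ω := Ideal.Quotient.liftₐ (JJ A) ψ hψ
  refine ⟨⟨RingHom.ker ψ'.toRingHom, RingHom.ker_isPrime _⟩, ?_⟩
  apply PrimeSpectrum.ext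
  ext a
  show ψ' (algebraMap A (TT A) a) = 0 ↔ a ∈ p.asIdeal
  rw [ψ'.commutes, IsScalarTower.algebraMap_apply A p.asIdeal.ResidueField Ω,
    map_eq_zero_iff _ (algebraMap p.asIdeal.ResidueField Ω).injective,
    Ideal.algebraMap_residueField_eq_zero]

variable {A}

theorem resField (Q : Ideal (TT A)) [Q.IsPrime] :
    IsAlgClosed Q.ResidueField ∧
      (Ideal.ResidueField.map (Q.comap (algebraMap A (TT A))) Q (algebraMap A (TT A)) rfl).IsIntegral := by
  set p : Ideal A := Q.comap (algebraMap A (TT A)) with hp
  let φ : p.ResidueField →+* Q.ResidueField :=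
    Ideal.ResidueField.map p Q (algebraMap A (TT A)) rfl
  letI : Algebra p.ResidueField Q.ResidueField := φ.toAlgebra
  have hφ : ∀ a : A, φ (algebraMap A p.ResidueField a)
      = algebraMap (TT A) Q.ResidueField (algebraMap A (TT A) a) :=
    fun a => Ideal.ResidueField.map_algebraMap p Q (algebraMap A (TT A)) rfl a
  -- images of elements of `T` are integral
  have hint1 : ∀ t : TT A, IsIntegral p.ResidueField (algebraMap (TT A) Q.ResidueField t) := by
    intro t
    obtain ⟨h, hmon, hh⟩ := isIntegral_TT A t
    refine ⟨h.map (algebraMap A p.ResidueField), hmon.map _, ?_⟩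
    rw [Polynomial.eval₂_map]
    have e1 : (algebraMap p.ResidueField Q.ResidueField).comp (algebraMap A p.ResidueField)
        = (algebraMap (TT A) Q.ResidueField).comp (algebraMap A (TT A)) := by
      ext a
      exact hφ a
    rw [e1, ← Polynomial.hom_eval₂, hh, map_zero]
  have hint : Algebra.IsIntegral p.ResidueField Q.ResidueField := by
    refine ⟨fun x => ?_⟩
    obtain ⟨a, b, hb, rfl⟩ := IsFractionRing.div_surjective (A := TT A ⧸ Q) x
    obtain ⟨a, rfl⟩ := Ideal.Quotient.mk_surjective a
    obtain ⟨b, rfl⟩ := Ideal.Quotient.mk_surjective b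
    rw [div_eq_mul_inv]
    exact (hint1 a).mul (hint1 b).inv
  haveI : Algebra.IsAlgebraic p.ResidueField Q.ResidueField := Algebra.IsIntegral.isAlgebraic
  refine ⟨?_, ?_⟩
  · have hcl : IsAlgClosure p.ResidueField Q.ResidueField := by
      apply IsAlgClosure.of_exists_root
      intro g hgm hgi
      -- common denominator
      obtain ⟨b, hb⟩ := IsLocalization.exist_integer_multiples_of_finset
        (nonZeroDivisors (A ⧸ p)) (g.coeffs)
      obtain ⟨s, hs⟩ := Ideal.Quotient.mk_surjective (b : A ⧸ p)
      have hsp : s ∉ p := by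
        intro hmem
        have : (b : A ⧸ p) = 0 := by rw [← hs]; exact Ideal.Quotient.eq_zero_iff_mem.2 hmem
        exact (nonZeroDivisors.ne_zero b.2) this
      set σ : p.ResidueField := algebraMap A p.ResidueField s with hσ
      have hσ0 : σ ≠ 0 := fun h0 => hsp (Ideal.algebraMap_residueField_eq_zero.1 h0)
      have hcoef : ∀ i, ∃ a : A, algebraMap A p.ResidueField a = g.coeff i * σ := by
        intro i
        by_cases hi : g.coeff i = 0
        · exact ⟨0, by rw [hi, map_zero, zero_mul]⟩
        · obtain ⟨r, hr⟩ := hb (g.coeff i) (Polynomial.coeff_mem_coeffs hi)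
          obtain ⟨a, rfl⟩ := Ideal.Quotient.mk_surjective r
          refine ⟨a, ?_⟩
          have : algebraMap (A ⧸ p) p.ResidueField (Ideal.Quotient.mk p a)
              = algebraMap A p.ResidueField a := rfl
          rw [← this, hr, Algebra.smul_def, mul_comm, ← hs]
          rfl
      set G := Polynomial.scaleRoots g σ with hG
      have hGm : G.Monic := (Polynomial.monic_scaleRoots_iff σ).2 hgm
      have hGl : G ∈ Polynomial.lifts (algebraMap A p.ResidueField) := by
        rw [Polynomial.lifts_iff_coeff_lifts]
        intro i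
        rw [hG, Polynomial.coeff_scaleRoots]
        rcases lt_trichotomy i g.natDegree with hlt | heq | hgt
        · obtain ⟨a, ha⟩ := hcoef i
          refine ⟨a * s ^ (g.natDegree - i - 1), ?_⟩
          rw [map_mul, ha, map_pow, mul_assoc, ← pow_succ']
          congr 2
          omega
        · subst heq
          refine ⟨1, ?_⟩
          rw [map_one, Nat.sub_self, pow_zero, mul_one]
          exact hgm.coeff_natDegree.symm
        · refine ⟨0, ?_⟩
          rw [Polynomial.coeff_eq_zero_of_natDegree_lt hgt, zero_mul, map_zero]
      obtain ⟨h, hmap, hdeg, hmon⟩ := Polynomial.lifts_and_natDegree_eq_and_monic hGl hGm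
      have hpos : 0 < h.natDegree := by
        rw [hdeg, hG, Polynomial.natDegree_scaleRoots]
        exact hgi.natDegree_pos
      let P : Idx A := ⟨h, hmon, hpos⟩
      set β : Q.ResidueField := algebraMap (TT A) Q.ResidueField (xroot A P) with hβ
      have hβ0 : Polynomial.eval₂ φ β G = 0 := by
        rw [← hmap, Polynomial.eval₂_map]
        have e1 : φ.comp (algebraMap A p.ResidueField)
            = (algebraMap (TT A) Q.ResidueField).comp (algebraMap A (TT A)) := by
          ext a
          exact hφ a
        rw [e1, hβ, ← Polynomial.hom_eval₂]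
        have := aeval_xroot A P
        rw [Polynomial.aeval_def] at this
        rw [this, map_zero]
      have hφσ : φ σ ≠ 0 := (map_ne_zero φ).2 hσ0
      refine ⟨β / φ σ, ?_⟩
      have h1 : β = φ σ * (β / φ σ) := by field_simp
      rw [h1, hG, Polynomial.scaleRoots_eval₂_mul] at hβ0
      rcases mul_eq_zero.1 hβ0 with h2 | h2
      · exact absurd (pow_eq_zero_iff (Nat.pos_iff_ne_zero.1 hgi.natDegree_pos) |>.1 h2) hφσ
      · rw [Polynomial.aeval_def]
        exact h2
    exact hcl.isAlgClosed
  · intro x
    exact hint.isIntegral x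

end

/-- Let A be a commutative ring and T the quotient of the polynomial ring over A in indeterminates X_P,
one for each monic polynomial P over A of positive degree, by the ideal generated by the elements
P(X_P). Then the map on prime spectra Spec T → Spec A is surjective, and for every prime ideal Q of
T, with p its contraction to A, the residue field of Q is algebraically closed and integral over the
residue field of p under the induced map of residue fields (so it is an algebraic closure of it). -/
theorem result (A : Type u) [CommRing A] :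
    Function.Surjective (PrimeSpectrum.comap (algebraMap A (MvPolynomial {P : Polynomial A // P.Monic ∧ 0 < P.natDegree} A ⧸
      Ideal.span (Set.range fun P : {P : Polynomial A // P.Monic ∧ 0 < P.natDegree} =>
        Polynomial.aeval (MvPolynomial.X (R := A) P) P.1)))) ∧
    ∀ (Q : Ideal (MvPolynomial {P : Polynomial A // P.Monic ∧ 0 < P.natDegree} A ⧸
      Ideal.span (Set.range fun P : {P : Polynomial A // P.Monic ∧ 0 < P.natDegree} =>
        Polynomial.aeval (MvPolynomial.X (R := A) P) P.1))) [Q.IsPrime],
      IsAlgClosed Q.ResidueField ∧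
      (Ideal.ResidueField.map (Q.comap (algebraMap A (MvPolynomial {P : Polynomial A // P.Monic ∧ 0 < P.natDegree} A ⧸
      Ideal.span (Set.range fun P : {P : Polynomial A // P.Monic ∧ 0 < P.natDegree} =>
        Polynomial.aeval (MvPolynomial.X (R := A) P) P.1)))) Q (algebraMap A (MvPolynomial {P : Polynomial A // P.Monic ∧ 0 < P.natDegree} A ⧸
      Ideal.span (Set.range fun P : {P : Polynomial A // P.Monic ∧ 0 < P.natDegree} =>
        Polynomial.aeval (MvPolynomial.X (R := A) P) P.1))) rfl).IsIntegral := by
  exact ⟨surj_comap A, fun Q _ => resField Q⟩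

end Groth.Agent.S16572
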