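import Groth.Statements.S16573
import Mathlib
import Groth.Agent.S16572
import Groth.Agent.Lib.Helper70.SpecUnivHomeo

set_option autoImplicit false
universe u
open CategoryTheory AlgebraicGeometry
open EtCore

namespace Groth.Agent.S16573


theorem isIntegral_of_isIso {K L : CommRingCat.{u}} (e : K ⟶ L) [IsIso e] : e.hom.IsIntegral :=
  RingHom.isIntegral_of_surjective _ (ConcreteCategory.bijective_of_isIso e).2

theorem isIntegral_of_comp_iso {K L M : CommRingCat.{u}} (a : K ⟶ L) (b : L ⟶ M) [IsIso b]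
    (h : (a ≫ b).hom.IsIntegral) : a.hom.IsIntegral := by
  have : a = (a ≫ b) ≫ inv b := by simp
  rw [this]
  exact RingHom.IsIntegral.trans _ _ h (isIntegral_of_isIso _)

theorem isIntegral_comp_of {X Y Z : Scheme.{u}} (f : X ⟶ Y) (g : Y ⟶ Z) (x : X)
    (h1 : (g.residueFieldMap (f x)).hom.IsIntegral) (h2 : (f.residueFieldMap x).hom.IsIntegral) :
    ((f ≫ g).residueFieldMap x).hom.IsIntegral := by
  rw [Scheme.residueFieldMap_comp]
  exact RingHom.IsIntegral.trans _ _ h1 h2

open Groth.Agent.S16572 in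
/-- Integrality of the residue field map of `Spec (TT A) ⟶ Spec A`, and algebraic closedness of
the residue fields of `Spec (TT A)`. -/
theorem spec_TT (A : Type u) [CommRing A] (Q : Spec (CommRingCat.of (TT A))) :
    IsAlgClosed ((Spec (CommRingCat.of (TT A))).residueField Q) ∧
      ((Spec.map (CommRingCat.ofHom (algebraMap A (TT A)))).residueFieldMap Q).hom.IsIntegral := by
  have hQ : Q.asIdeal.IsPrime := Q.isPrime
  obtain ⟨h1, h2⟩ := resField (A := A) Q.asIdeal
  constructor
  · have := h1
    exact IsAlgClosed.of_ringEquiv _ _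
      (Scheme.Spec.residueFieldIso (CommRingCat.of (TT A)) Q).symm.commRingCatIsoToRingEquiv
  · have hb := Groth.Agent.Lib.Helper70.SpecUH.residueFieldMap_Spec_bridge
      (CommRingCat.ofHom (algebraMap A (TT A))) Q
    have h3 : (Spec.map (CommRingCat.ofHom (algebraMap A (TT A)))).residueFieldMap Q =
        (Scheme.Spec.residueFieldIso (CommRingCat.of A) _).hom ≫
        ((Scheme.Spec.residueFieldIso (CommRingCat.of A) _).inv ≫
          (Spec.map (CommRingCat.ofHom (algebraMap A (TT A)))).residueFieldMap Q ≫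
          (Scheme.Spec.residueFieldIso (CommRingCat.of (TT A)) Q).hom) ≫
        (Scheme.Spec.residueFieldIso (CommRingCat.of (TT A)) Q).inv := by
      simp
    rw [h3, hb]
    refine RingHom.IsIntegral.trans _ _ (isIntegral_of_isIso _)
      (RingHom.IsIntegral.trans _ _ ?_ (isIntegral_of_isIso _))
    exact h2

/-- The per-chart construction. -/
theorem chart (W : Scheme.{u}) [IsAffine W] :
    ∃ (T : CommRingCat.{u}) (g : Spec T ⟶ W), Surjective g ∧
      ∀ Q : Spec T, IsAlgClosed ((Spec T).residueField Q) ∧ (g.residueFieldMap Q).hom.IsIntegral := by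
  obtain ⟨A, _, ⟨e⟩⟩ : ∃ (A : Type u) (_ : CommRing A), Nonempty (W ≅ Spec (CommRingCat.of A)) :=
    ⟨(Γ(W, ⊤) : Type u), inferInstance, ⟨W.isoSpec⟩⟩
  refine ⟨CommRingCat.of (Groth.Agent.S16572.TT A),
    Spec.map (CommRingCat.ofHom (algebraMap A (Groth.Agent.S16572.TT A))) ≫ e.inv, ⟨fun w => ?_⟩,
    fun Q => ?_⟩
  · obtain ⟨Q, hQ⟩ := Groth.Agent.S16572.surj_comap A (e.hom w)
    refine ⟨Q, ?_⟩
    change e.inv (Spec.map (CommRingCat.ofHom (algebraMap A (Groth.Agent.S16572.TT A))) Q) = w
    have : Spec.map (CommRingCat.ofHom (algebraMap A (Groth.Agent.S16572.TT A))) Q = e.hom w := hQ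
    rw [this]
    change (e.hom ≫ e.inv) w = w
    rw [Iso.hom_inv_id]
    rfl
  · obtain ⟨h1, h2⟩ := spec_TT A Q
    exact ⟨h1, isIntegral_comp_of _ _ _ (isIntegral_of_isIso _) h2⟩

/-- For a quasi-compact quasi-separated scheme X there are an affine scheme X' and a quasi-compact
surjective morphism f : X' → X such that for every point x' of X' the residue field of x' is
algebraically closed and integral over the residue field of f(x') under the induced map of residue
fields, that is, an algebraic closure of it. -/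
theorem result
    (X : Scheme.{u}) [CompactSpace X] [QuasiSeparatedSpace X] :
    ∃ (X' : Scheme.{u}) (f : X' ⟶ X), IsAffine X' ∧ QuasiCompact f ∧ Surjective f ∧
      ∀ x' : X', IsAlgClosed (X'.residueField x') ∧ (f.residueFieldMap x').hom.IsIntegral := by
  classical
  let 𝒰 : X.OpenCover := X.affineCover.finiteSubcover
  have haff : ∀ i, IsAffine (𝒰.X i) := fun i => inferInstance
  choose T g hg1 hg2 using fun i => chart (𝒰.X i)
  let F : 𝒰.I₀ → Scheme.{u} := fun i => Spec (T i)
  let f : (∐ F) ⟶ X := Limits.Sigma.desc fun i => g i ≫ 𝒰.f i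
  have hιf : ∀ i, Limits.Sigma.ι F i ≫ f = g i ≫ 𝒰.f i := fun i => Limits.Sigma.ι_desc _ _
  have hopen : ∀ i, IsOpenImmersion (Limits.Sigma.ι F i) := fun i => (sigmaOpenCover F).map_prop i
  have hAff : IsAffine (∐ F) := inferInstance
  refine ⟨∐ F, f, hAff, inferInstance, ⟨fun x => ?_⟩, fun x' => ?_⟩
  · obtain ⟨i, w, rfl⟩ := 𝒰.exists_eq x
    obtain ⟨Q, rfl⟩ := (hg1 i).surj w
    refine ⟨Limits.Sigma.ι F i Q, ?_⟩
    change (Limits.Sigma.ι F i ≫ f) Q = _
    rw [hιf]
    rfl
  · obtain ⟨⟨i, Q⟩, rfl⟩ := (sigmaMk F).surjective x'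
    rw [sigmaMk_mk]
    obtain ⟨h1, h2⟩ := hg2 i Q
    have hiso : IsIso ((Limits.Sigma.ι F i).residueFieldMap Q) := inferInstance
    constructor
    · have := h1
      exact IsAlgClosed.of_ringEquiv _ _
        (asIso ((Limits.Sigma.ι F i).residueFieldMap Q)).symm.commRingCatIsoToRingEquiv
    · have hab : f.residueFieldMap (Limits.Sigma.ι F i Q) ≫ (Limits.Sigma.ι F i).residueFieldMap Q =
          (Limits.Sigma.ι F i ≫ f).residueFieldMap Q :=
        (Scheme.residueFieldMap_comp _ _ _).symm
      have hg : ((Limits.Sigma.ι F i ≫ f).residueFieldMap Q).hom.IsIntegral := by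
        rw [Scheme.Hom.residueFieldMap_congr (hιf i)]
        exact RingHom.IsIntegral.trans _ _ (isIntegral_of_isIso _)
          (isIntegral_comp_of _ _ _ (isIntegral_of_isIso _) h2)
      refine isIntegral_of_comp_iso _ ((Limits.Sigma.ι F i).residueFieldMap Q) ?_
      rw [hab]
      exact hg

end Groth.Agent.S16573
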