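import Groth.Statements.S16574
-- import your own Groth.Agent.* helpers here
import Groth.Agent.H72.FinExt

set_option autoImplicit false
universe u
open CategoryTheory AlgebraicGeometry
open AffSch

namespace Groth.Agent.S16574

/-- Let A be a commutative ring, U a quasi-compact open subscheme of Spec A and U' → U a finite
morphism. Then there exist a finite A-algebra B and a morphism U' → Spec B such that the square
formed by U' → U, U' → Spec B, Spec B → Spec A and the inclusion of U is cartesian; in particular U'
→ Spec B is the open immersion of the preimage of U. (If U contains the complement of the closed set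
of an ideal I then this preimage contains the complement of the closed set of IB; that clause is
automatic and omitted.) -/
theorem result
    (A : Type u) [CommRing A] (U : (Spec (CommRingCat.of A)).Opens) (hU : IsCompact (U : Set (Spec (CommRingCat.of A))))
    (U' : Scheme.{u}) (g : U' ⟶ (U : Scheme.{u})) [IsFinite g] :
    ∃ (B : Type u) (_ : CommRing B) (_ : Algebra A B) (i : U' ⟶ Spec (CommRingCat.of B)),
      Module.Finite A B ∧ IsPullback i g (Spec.map (CommRingCat.ofHom (algebraMap A B))) U.ι := by
  obtain ⟨V', π, i, hπ, hsq⟩ := Groth.Agent.H72.FinExt.exists_finite_extension U hU g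
  haveI : IsAffine V' := isAffine_of_isAffineHom π
  obtain ⟨φ, hφ⟩ : ∃ φ : CommRingCat.of A ⟶ Γ(V', ⊤),
      φ = (Scheme.ΓSpecIso (CommRingCat.of A)).inv ≫ π.appTop := ⟨_, rfl⟩
  letI : Algebra A Γ(V', ⊤) := φ.hom.toAlgebra
  have hfin : φ.hom.Finite := by
    have h1 : (π.appTop).hom.Finite := Scheme.Hom.finite_appTop π
    rw [hφ]
    exact RingHom.Finite.comp h1
      (RingHom.Finite.of_surjective _
        (Scheme.ΓSpecIso (CommRingCat.of A)).symm.commRingCatIsoToRingEquiv.surjective)
  have hπ' : V'.isoSpec.hom ≫ Spec.map (CommRingCat.ofHom (algebraMap A Γ(V', ⊤))) = π := by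
    have h0 : CommRingCat.ofHom (algebraMap A Γ(V', ⊤)) = φ := rfl
    rw [h0, hφ, Spec.map_comp, ← Category.assoc, Scheme.isoSpec_hom_naturality, Category.assoc,
      Scheme.isoSpec_Spec_hom, ← Spec.map_comp, Iso.inv_hom_id, Spec.map_id, Category.comp_id]
  refine ⟨Γ(V', ⊤), inferInstance, inferInstance, i ≫ V'.isoSpec.hom, hfin, ?_⟩
  refine IsPullback.of_iso hsq (Iso.refl _) V'.isoSpec (Iso.refl _) (Iso.refl _) ?_ ?_ ?_ ?_
  · simp
  · simp
  · rw [Iso.refl_hom, Category.comp_id, hπ']
  · simp

end Groth.Agent.S16574
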