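import Groth.Statements.S16575
import Groth.Agent.Lib.Helper29.C2Norm
import Groth.Agent.Lib.Helper9.Hens.NoetherianHens
import Groth.Agent.Lib.Helper47.Unibranch

set_option autoImplicit false
universe u
open CAlg

namespace Groth.Agent.S16575

/-- Let A be a Noetherian local ring, S a henselization of A, S' a strict henselization of A, A' the
integral closure of the reduction of A in its total ring of fractions, and Â the completion of A at
its maximal ideal. The following are equivalent: (i) for every maximal ideal m' of A' the local ring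
of A' at m' has Krull dimension at least 2; (ii) every irreducible component of Spec S has dimension
at least 2; (ii bis) every irreducible component of Spec S' has dimension at least 2; (iii) every
irreducible component of Spec Â has dimension at least 2. (A closed subscheme Z of a Noetherian
scheme X is called c_2 when these hold at the local ring of every point of Z; condition (i) at all
points of Z says that the preimage of Z in the normalization has codimension at least 2.) -/
theorem result
    (A : Type u) [CommRing A] [IsNoetherianRing A] [IsLocalRing A]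
    (S : Type u) [CommRing S] [IsLocalRing S] [Algebra A S] [IsLocalHom (algebraMap A S)]
    [Hensel.IsHenselization A S]
    (S' : Type u) [CommRing S'] [IsLocalRing S'] [Algebra A S'] [IsLocalHom (algebraMap A S')]
    [Hensel.IsStrictHenselization A S'] :
    List.TFAE [
      ∀ m' : MaximalSpectrum (CAlg2.normRed A), (2 : WithBot ℕ∞) ≤ ringKrullDim (Localization.AtPrime m'.asIdeal),
      ∀ p ∈ minimalPrimes S, (2 : WithBot ℕ∞) ≤ ringKrullDim (S ⧸ p),
      ∀ p ∈ minimalPrimes S', (2 : WithBot ℕ∞) ≤ ringKrullDim (S' ⧸ p),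
      ∀ q ∈ minimalPrimes (AdicCompletion (IsLocalRing.maximalIdeal A) A), (2 : WithBot ℕ∞) ≤ ringKrullDim (AdicCompletion (IsLocalRing.maximalIdeal A) A ⧸ q)] := by
  open Groth.Agent.Lib.Helper29 Groth.Agent.Lib.Helper9 Groth.Agent.Lib.Helper3 IsLocalRing Hensel in
  classical
  have hNS : IsNoetherianRing S := (isNoetherianRing_iff_of_isHenselization A S).mp inferInstance
  have hflS : Module.Flat A S := Hens.flat_of_isHenselization (R := A) (S := S)
  have hmaxS := Hens.map_maximalIdeal_of_isHenselization (R := A) (S := S)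
  have hHS : HenselianLocalRing S := IsHenselization.henselian (R := A)
  have hNS' : IsNoetherianRing S' :=
    (isNoetherianRing_iff_of_isStrictHenselization A S').mp inferInstance
  have hflS' : Module.Flat A S' := HensK.flat_of_isStrictHenselization A S'
  have hmaxS' := HensK.map_maximalIdeal_of_isStrictHenselization A S'
  have hHS' : HenselianLocalRing S' := IsStrictHenselization.henselian (R := A)
  have hLC : IsLocalRing (EGA4.Cpl A) := isLocalRing_cpl A
  have hNC : IsNoetherianRing (EGA4.Cpl A) := isNoetherianRing_cpl A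
  -- (ii) ↔ (iii)
  have h24 : (∀ p ∈ minimalPrimes S, (2 : WithBot ℕ∞) ≤ ringKrullDim (S ⧸ p)) ↔
      (∀ q ∈ minimalPrimes (EGA4.Cpl A), (2 : WithBot ℕ∞) ≤ ringKrullDim (EGA4.Cpl A ⧸ q)) := by
    rw [two_le_iff_not_hasCompDim, two_le_iff_not_hasCompDim,
      hasCompDim_iff_cpl_of_flat_of_henselian A S hmaxS hHS (d := 0) (by norm_num),
      hasCompDim_iff_cpl_of_flat_of_henselian A S hmaxS hHS (d := 1) le_rfl]
  have h34 : (∀ p ∈ minimalPrimes S', (2 : WithBot ℕ∞) ≤ ringKrullDim (S' ⧸ p)) ↔
      (∀ q ∈ minimalPrimes (EGA4.Cpl A), (2 : WithBot ℕ∞) ≤ ringKrullDim (EGA4.Cpl A ⧸ q)) := by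
    rw [two_le_iff_not_hasCompDim, two_le_iff_not_hasCompDim,
      hasCompDim_iff_cpl_of_flat_of_henselian A S' hmaxS' hHS' (d := 0) (by norm_num),
      hasCompDim_iff_cpl_of_flat_of_henselian A S' hmaxS' hHS' (d := 1) le_rfl]
  -- (i) ↔ (ii)
  have hred : IsReduced (CAlg2.red A) :=
    (Ideal.isRadical_iff_quotient_reduced (nilradical A)).mp (Ideal.radical_isRadical _)
  have hfin : (minimalPrimes A).Finite := minimalPrimes.finite_of_isNoetherianRing A
  have hfin' : (minimalPrimes (CAlg2.red A)).Finite :=
    (Groth.Agent.Lib.Helper47.finite_minimalPrimes_red_iff A).mpr hfin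
  have hN : ∀ (m' : Ideal (CAlg2.normRed A)) [m'.IsMaximal],
      IsDomain (Localization.AtPrime m') ∧ IsIntegrallyClosed (Localization.AtPrime m') :=
    fun m' _ => NormRed.isDomain_and_isIntegrallyClosed_atPrime hfin' m'
  have hint1 : Algebra.IsIntegral A (CAlg2.red A) :=
    Algebra.isIntegral_of_surjective Ideal.Quotient.mk_surjective
  have hint : Algebra.IsIntegral A (CAlg2.normRed A) :=
    Algebra.IsIntegral.trans (R := A) (A := CAlg2.red A) (B := CAlg2.normRed A)
  have h12 : (∀ m' : MaximalSpectrum (CAlg2.normRed A),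
      (2 : WithBot ℕ∞) ≤ ringKrullDim (Localization.AtPrime m'.asIdeal)) ↔
      (∀ p ∈ minimalPrimes S, (2 : WithBot ℕ∞) ≤ ringKrullDim (S ⧸ p)) := by
    obtain ⟨hmin1, hmin2⟩ := minimalPrimes_tensor_normRed A S
    constructor
    · intro h q hq
      refine two_le_dim_quotient_of_two_le_height A S (CAlg2.normRed A) hN hmin2 ?_ q hq
      intro m' hm'
      have h1 := h ⟨m', hm'⟩
      have hp : m'.IsPrime := hm'.isPrime
      rw [IsLocalization.AtPrime.ringKrullDim_eq_height m' (Localization.AtPrime m')] at h1
      have h2 : ((2 : ℕ∞) : WithBot ℕ∞) ≤ (m'.height : WithBot ℕ∞) := h1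
      exact WithBot.coe_le_coe.mp h2
    · intro h m'
      have hm' : m'.asIdeal.IsMaximal := m'.isMaximal
      have h1 := two_le_height_of_two_le_dim_quotient A S (CAlg2.normRed A) hN hmin1 h m'.asIdeal
      rw [IsLocalization.AtPrime.ringKrullDim_eq_height m'.asIdeal
        (Localization.AtPrime m'.asIdeal)]
      have h2 : ((2 : ℕ∞) : WithBot ℕ∞) ≤ (m'.asIdeal.height : WithBot ℕ∞) :=
        WithBot.coe_le_coe.mpr h1
      exact h2
  tfae_have 1 ↔ 2 := h12
  tfae_have 2 ↔ 4 := h24
  tfae_have 3 ↔ 4 := h34
  tfae_finish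

end Groth.Agent.S16575
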