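import Groth.Statements.S16576
import Groth.Agent.Lib.Helper29.FlatComponentDim

set_option autoImplicit false
universe u
open CAlg

namespace Groth.Agent.S16576

/-- Let A → B be a flat local homomorphism of Noetherian local rings and let Â, B̂ be their completions
at the maximal ideals. If every irreducible component of Spec Â has dimension at least 2, then every
irreducible component of Spec B̂ has dimension at least 2. (This is the c_2 condition in its
completed form; globally: the preimage of a c_2 closed subset under a flat morphism of Noetherian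
schemes is c_2, in particular the condition is invariant under Zariski and étale localization.) -/
theorem result
    (A B : Type u) [CommRing A] [CommRing B] [IsNoetherianRing A] [IsNoetherianRing B]
    [IsLocalRing A] [IsLocalRing B] (f : A →+* B) [IsLocalHom f] (hf : f.Flat)
    (hA : ∀ q ∈ minimalPrimes (AdicCompletion (IsLocalRing.maximalIdeal A) A), (2 : WithBot ℕ∞) ≤ ringKrullDim (AdicCompletion (IsLocalRing.maximalIdeal A) A ⧸ q)) :
    ∀ q ∈ minimalPrimes (AdicCompletion (IsLocalRing.maximalIdeal B) B), (2 : WithBot ℕ∞) ≤ ringKrullDim (AdicCompletion (IsLocalRing.maximalIdeal B) B ⧸ q) := by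
  letI : Algebra A B := f.toAlgebra
  have : Module.Flat A B := hf
  have : IsLocalHom (algebraMap A B) := ‹IsLocalHom f›
  letI := Groth.Agent.Lib.Helper73.CplMap.cplAlgebra A B
  have : IsNoetherianRing (EGA4.Cpl A) := Groth.Agent.Lib.Helper29.isNoetherianRing_cpl A
  have : IsNoetherianRing (EGA4.Cpl B) := Groth.Agent.Lib.Helper29.isNoetherianRing_cpl B
  have : IsLocalRing (EGA4.Cpl A) := Groth.Agent.Lib.Helper29.isLocalRing_cpl A
  have : IsLocalRing (EGA4.Cpl B) := Groth.Agent.Lib.Helper29.isLocalRing_cpl B
  have : Module.Flat (EGA4.Cpl A) (EGA4.Cpl B) := Groth.Agent.Lib.Helper73.CplMap.flat_cpl A B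
  have : IsLocalHom (algebraMap (EGA4.Cpl A) (EGA4.Cpl B)) :=
    Groth.Agent.Lib.Helper73.CplMap.isLocalHom_cplMap A B
  have : IsAdicComplete (IsLocalRing.maximalIdeal (EGA4.Cpl A)) (EGA4.Cpl A) :=
    Groth.Agent.Lib.Helper29.isAdicComplete_cpl A
  intro q hq
  exact Groth.Agent.Lib.Helper29.two_le_ringKrullDim_quotient_of_mem_minimalPrimes_of_flat_of_complete
    (EGA4.Cpl A) (EGA4.Cpl B) hA q hq

end Groth.Agent.S16576
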