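import Groth.Statements.S16577
import Groth.Agent.Lib.Helper9.Hens.Dimension
import Mathlib.RingTheory.Ideal.GoingDown

set_option autoImplicit false
universe u
open Hensel

namespace Groth.Agent.S16577

/-- Let A be a Noetherian local ring with a strict henselization S', and p a prime ideal of A. Call p an
immediate étale generization of the closed point when the strict henselization S'/pS' of A/p has an
irreducible component of dimension 1, that is, some minimal prime P over pS' has dim S'/P = 1. Then
p is an immediate étale generization of the closed point if and only if p is the contraction of some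
prime ideal P of S' with dim S'/P = 1. -/
theorem result
    (A : Type u) [CommRing A] [IsNoetherianRing A] [IsLocalRing A]
    (S' : Type u) [CommRing S'] [IsLocalRing S'] [Algebra A S'] [IsLocalHom (algebraMap A S')]
    [Hensel.IsStrictHenselization A S']
    (p : Ideal A) [p.IsPrime] :
    (∃ P ∈ (p.map (algebraMap A S')).minimalPrimes, ringKrullDim (S' ⧸ P) = 1) ↔
    (∃ P : Ideal S', P.IsPrime ∧ P.comap (algebraMap A S') = p ∧ ringKrullDim (S' ⧸ P) = 1) := by
  open Groth.Agent.Lib.Helper9 in
  haveI : Module.Flat A S' := HensK.flat_of_isStrictHenselization A S'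
  have hcov : IsEtaleCovered A S' := isEtaleCovered_of_isStrictHenselization A S'
  -- minimal primes over `pS'` contract to `p`
  have key : ∀ P ∈ (p.map (algebraMap A S')).minimalPrimes, P.comap (algebraMap A S') = p := by
    intro P hP
    haveI hPprime : P.IsPrime := hP.1.1
    have hle : p ≤ P.comap (algebraMap A S') := Ideal.map_le_iff_le_comap.mp hP.1.2
    by_contra hne
    have hlt : p < P.under A := lt_of_le_of_ne hle (fun h => hne h.symm)
    obtain ⟨P', hP'le, hP'prime, hP'over⟩ :=
      Algebra.HasGoingDown.exists_ideal_le_liesOver_of_lt (p := p) P hlt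
    have hP'p : p.map (algebraMap A S') ≤ P' := by
      rw [Ideal.map_le_iff_le_comap, ← Ideal.under_def, ← hP'over.over]
    have hPP' : P ≤ P' := hP.2 ⟨hP'prime, hP'p⟩ hP'le
    have hPeq : P = P' := le_antisymm hPP' hP'le
    apply hne
    rw [hPeq, ← Ideal.under_def, ← hP'over.over]
  constructor
  · rintro ⟨P, hP, hdim⟩
    exact ⟨P, hP.1.1, key P hP, hdim⟩
  · rintro ⟨P, hPprime, hPp, hdim⟩
    have hle : p.map (algebraMap A S') ≤ P := by
      rw [Ideal.map_le_iff_le_comap, hPp]
    obtain ⟨P₀, hP₀, hP₀le⟩ := Ideal.exists_minimalPrimes_le hle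
    haveI : P₀.IsPrime := hP₀.1.1
    have hP₀p := key P₀ hP₀
    have heq : P₀ = P := by
      by_contra hne
      have hlt : P₀ < P := lt_of_le_of_ne hP₀le hne
      have := hcov.under_lt_under hlt
      rw [Ideal.under_def, Ideal.under_def, hP₀p, hPp] at this
      exact lt_irrefl _ this
    exact ⟨P, heq ▸ hP₀, hdim⟩

end Groth.Agent.S16577
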