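import Groth.Statements.S16578
import Groth.Agent.Lib.Helper29.CompDim
import Groth.Agent.Lib.Helper9.Hens.NoetherianHens

set_option autoImplicit false
universe u
open Hensel

namespace Groth.Agent.S16578

/-- Let A be a Noetherian local ring with completion Â at its maximal ideal, S' a strict henselization
of A, T' a strict henselization of Â, and p a prime ideal of A. Say that a prime p of a Noetherian
local ring with strict henselization S is an immediate étale generization of the closed point when
some minimal prime P over pS has dim S/P = 1. Then p is an immediate étale generization of the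
closed point of A if and only if some minimal prime q over pÂ (a maximal point of the fibre over p
of Spec Â → Spec A) is an immediate étale generization of the closed point of Â. -/
theorem result
    (A : Type u) [CommRing A] [IsNoetherianRing A] [IsLocalRing A]
    (S' : Type u) [CommRing S'] [IsLocalRing S'] [Algebra A S'] [IsLocalHom (algebraMap A S')]
    [Hensel.IsStrictHenselization A S']
    (T' : Type u) [CommRing T'] [IsLocalRing T'] [Algebra (AdicCompletion (IsLocalRing.maximalIdeal A) A) T'] [IsLocalHom (algebraMap (AdicCompletion (IsLocalRing.maximalIdeal A) A) T')]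
    [Hensel.IsStrictHenselization (AdicCompletion (IsLocalRing.maximalIdeal A) A) T']
    (p : Ideal A) [p.IsPrime] :
    (∃ P ∈ (p.map (algebraMap A S')).minimalPrimes, ringKrullDim (S' ⧸ P) = 1) ↔
    (∃ q ∈ (p.map (algebraMap A (AdicCompletion (IsLocalRing.maximalIdeal A) A))).minimalPrimes,
      ∃ Q ∈ (q.map (algebraMap (AdicCompletion (IsLocalRing.maximalIdeal A) A) T')).minimalPrimes, ringKrullDim (T' ⧸ Q) = 1) := by
  open Groth.Agent.Lib.Helper29 Groth.Agent.Lib.Helper9 IsLocalRing in
  classical
  have hNS' : IsNoetherianRing S' :=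
    (isNoetherianRing_iff_of_isStrictHenselization A S').mp inferInstance
  have hflS' : Module.Flat A S' := HensK.flat_of_isStrictHenselization A S'
  have hmaxS' := HensK.map_maximalIdeal_of_isStrictHenselization A S'
  have hHS' : HenselianLocalRing S' := IsStrictHenselization.henselian (R := A)
  have hNAh : IsNoetherianRing (EGA4.Cpl A) := isNoetherianRing_cpl A
  have hNT' : IsNoetherianRing T' :=
    (isNoetherianRing_iff_of_isStrictHenselization (EGA4.Cpl A) T').mp inferInstance
  have hflT' : Module.Flat (EGA4.Cpl A) T' := HensK.flat_of_isStrictHenselization (EGA4.Cpl A) T'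
  have hmaxT' := HensK.map_maximalIdeal_of_isStrictHenselization (EGA4.Cpl A) T'
  have hHT' : HenselianLocalRing T' := IsStrictHenselization.henselian (R := EGA4.Cpl A)
  have hcompl : IsAdicComplete (maximalIdeal (EGA4.Cpl A)) (EGA4.Cpl A) := isAdicComplete_cpl A
  -- left side
  have key1 := exists_minimalPrimes_map_dim_iff_of_henselian A S' hmaxS' hHS' p (d := 1) le_rfl
  simp only [Nat.cast_one] at key1
  rw [key1]
  -- right side
  have key2 : ∀ q ∈ (p.map (algebraMap A (EGA4.Cpl A))).minimalPrimes,
      ((∃ Q ∈ (q.map (algebraMap (EGA4.Cpl A) T')).minimalPrimes, ringKrullDim (T' ⧸ Q) = 1) ↔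
        ringKrullDim (EGA4.Cpl A ⧸ q) = 1) := by
    intro q hq
    have hqprime : q.IsPrime := hq.1.1
    have hlocq := isLocalRing_quotient_of_ne_top (EGA4.Cpl A) q hqprime.ne_top
    have hcq := isAdicComplete_quotient_of_isAdicComplete (EGA4.Cpl A) q
    have h1 := exists_minimalPrimes_map_dim_iff_of_henselian (EGA4.Cpl A) T' hmaxT' hHT' q
      (d := 1) le_rfl
    simp only [Nat.cast_one] at h1
    rw [h1, hasCompDim_cpl_iff_of_complete, hasCompDim_iff_of_isDomain]
    simp only [Nat.cast_one]
  have key3 : (∃ q ∈ (p.map (algebraMap A (EGA4.Cpl A))).minimalPrimes,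
      ∃ Q ∈ (q.map (algebraMap (EGA4.Cpl A) T')).minimalPrimes, ringKrullDim (T' ⧸ Q) = 1) ↔
      ∃ q ∈ (p.map (algebraMap A (EGA4.Cpl A))).minimalPrimes,
        ringKrullDim (EGA4.Cpl A ⧸ q) = ((1 : ℕ) : WithBot ℕ∞) := by
    simp only [Nat.cast_one]
    constructor
    · rintro ⟨q, hq, h⟩
      exact ⟨q, hq, (key2 q hq).mp h⟩
    · rintro ⟨q, hq, h⟩
      exact ⟨q, hq, (key2 q hq).mpr h⟩
  change _ ↔ (∃ q ∈ (p.map (algebraMap A (EGA4.Cpl A))).minimalPrimes,
      ∃ Q ∈ (q.map (algebraMap (EGA4.Cpl A) T')).minimalPrimes, ringKrullDim (T' ⧸ Q) = 1)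
  rw [key3, ← hasCompDim_quotient_iff]
  exact ⟨HasCompDim.of_ringEquiv (cplQuotientEquiv A p).symm,
    HasCompDim.of_ringEquiv (cplQuotientEquiv A p)⟩

end Groth.Agent.S16578
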