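import Groth.Statements.S16583
import Mathlib
import Groth.Agent.S9718
import Groth.Agent.Lib.Helper24.EtaleAtStalk

set_option autoImplicit false
universe u
open CategoryTheory AlgebraicGeometry
open EtCore

namespace Groth.Agent.S16583

/-- Let X be a scheme such that every local ring of X is a field and every residue field of X is
algebraically closed, and let f : Y → X be an étale morphism. Then f is Zariski-locally trivial: for
every point y of Y there exist an open V of X containing f(y) and a section s : V → Y of f over V
whose image contains y. (The published lemma is stated for a specific scheme X^c attached to a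
coherent scheme — the constructible topology of a suitable integral cover, which has these two
properties by construction; the row states the assertion for every scheme with these two properties,
which is all the printed proof uses. The lemma's further assertions about the étale and Zariski
topoi, torsors and gerbes on X^c are not included.) -/
theorem result
    (X Y : Scheme.{u}) (hX : ∀ x : X, IsField (X.presheaf.stalk x))
    (hX' : ∀ x : X, IsAlgClosed (X.residueField x))
    (f : Y ⟶ X) [Etale f] (y : Y) :
    ∃ (V : X.Opens) (s : (V : Scheme.{u}) ⟶ Y), f.base y ∈ V ∧ s ≫ f = V.ι ∧ y ∈ Set.range s.base := by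
  open IsLocalRing in
  -- Step 1: the stalk map at `y` is an isomorphism
  have hiso : IsIso (f.stalkMap y) := by
    have hunr : (f.stalkMap y).hom.FormallyUnramified := FormallyUnramified.stalkMap f y
    obtain ⟨hmax, hfin, -⟩ :=
      (Groth.Agent.Lib.Helper24.formallyUnramified_stalkMap_iff_residue f y).mp hunr
    have hmX : maximalIdeal (X.presheaf.stalk (f.base y)) = ⊥ :=
      IsLocalRing.isField_iff_maximalIdeal_eq.mp (hX (f.base y))
    rw [hmX, Ideal.map_bot] at hmax
    have hbX : Function.Bijective (IsLocalRing.residue (X.presheaf.stalk (f.base y))) := by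
      refine ⟨?_, IsLocalRing.residue_surjective⟩
      rw [RingHom.injective_iff_ker_eq_bot, IsLocalRing.ker_residue, hmX]
    have hbY : Function.Bijective (IsLocalRing.residue (Y.presheaf.stalk y)) := by
      refine ⟨?_, IsLocalRing.residue_surjective⟩
      rw [RingHom.injective_iff_ker_eq_bot, IsLocalRing.ker_residue, ← hmax]
    have hbr : Function.Bijective (f.residueFieldMap y).hom := by
      let _ := (f.residueFieldMap y).hom.toAlgebra
      have := hX' (f.base y)
      have : Algebra.IsIntegral (X.residueField (f.base y)) (Y.residueField y) :=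
        Algebra.IsIntegral.of_finite _ _
      exact IsAlgClosed.algebraMap_bijective_of_isIntegral
    have hsq : ∀ a, (f.residueFieldMap y).hom (IsLocalRing.residue _ a) =
        IsLocalRing.residue _ ((f.stalkMap y).hom a) := fun a => rfl
    have hb : Function.Bijective (f.stalkMap y).hom := by
      constructor
      · intro a b hab
        apply hbX.1
        apply hbr.1
        rw [hsq, hsq, hab]
      · intro c
        obtain ⟨r, hr⟩ := hbr.2 (IsLocalRing.residue _ c)
        obtain ⟨a, rfl⟩ := hbX.2 r
        refine ⟨a, hbY.1 ?_⟩
        rw [← hsq, hr]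
    exact (ConcreteCategory.isIso_iff_bijective _).mpr hb
  -- Step 2: spread out the inverse
  let φ : Spec (X.presheaf.stalk (f.base y)) ⟶ Y :=
    Spec.map (inv (f.stalkMap y)) ≫ Y.fromSpecStalk y
  have hφ : φ ≫ f = X.fromSpecStalk (f.base y) ≫ 𝟙 X := by
    rw [Category.comp_id, Category.assoc, ← Scheme.SpecMap_stalkMap_fromSpecStalk,
      ← Spec.map_comp_assoc, IsIso.hom_inv_id, Spec.map_id, Category.id_comp]
  obtain ⟨V, hxV, s, hφs, hs⟩ := Groth.Agent.S9718.spread_out_of_lfp' (𝟙 X) f φ hφ
  refine ⟨V, s, hxV, by rw [hs, Category.comp_id], ⟨⟨f.base y, hxV⟩, ?_⟩⟩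
  have h1 : φ (IsLocalRing.closedPoint _) = y := by
    have hloc : IsLocalHom (inv (f.stalkMap y)).hom := isLocalHom_of_isIso _
    have : Spec.map (inv (f.stalkMap y)) (IsLocalRing.closedPoint _) = IsLocalRing.closedPoint _ :=
      IsLocalRing.comap_closedPoint (inv (f.stalkMap y)).hom
    change Y.fromSpecStalk y (Spec.map (inv (f.stalkMap y)) (IsLocalRing.closedPoint _)) = y
    rw [this, Scheme.fromSpecStalk_closedPoint]
  have h2 : V.fromSpecStalkOfMem (f.base y) hxV (IsLocalRing.closedPoint _) = ⟨f.base y, hxV⟩ := by
    apply V.ι.isEmbedding.injective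
    change (V.fromSpecStalkOfMem (f.base y) hxV ≫ V.ι) (IsLocalRing.closedPoint _) = f.base y
    rw [Scheme.Opens.fromSpecStalkOfMem_ι, Scheme.fromSpecStalk_closedPoint]
  rw [← h2]
  change (V.fromSpecStalkOfMem (f.base y) hxV ≫ s) (IsLocalRing.closedPoint _) = y
  rw [← hφs, h1]

end Groth.Agent.S16583
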