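import Groth.Statements.S16599
import Groth.Agent.Lib.Helper84.LGPoint
-- import your own Groth.Agent.* helpers here

set_option autoImplicit false
open AlgebraicGeometry
universe u
open LGRing

namespace Groth.Agent.S16599

/-- Let R be an LG-ring, n ≥ 0, and U an open quasi-compact subscheme of affine n-space Spec R[X₁, …,
Xₙ]. If U has an (R ⧸ m)-valued point over R for every maximal ideal m of R, then U has an R-valued
point: some n-tuple x over R defines a section Spec R ⟶ Spec R[X₁, …, Xₙ] with image inside U. -/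
theorem result {R : Type u} [CommRing R] (hR : LGRing.IsLGRing R)
    (n : ℕ) (U : (Spec (CommRingCat.of (MvPolynomial (Fin n) R))).Opens)
    (hU : IsCompact (U : Set ↥(Spec (CommRingCat.of (MvPolynomial (Fin n) R)))))
    (h : ∀ (m : Ideal R) [m.IsMaximal], ∃ x : Fin n → R ⧸ m,
      Set.range (Spec.map (CommRingCat.ofHom (MvPolynomial.eval₂Hom (Ideal.Quotient.mk m) x))).base ⊆
        (U : Set ↥(Spec (CommRingCat.of (MvPolynomial (Fin n) R))))) :
    ∃ x : Fin n → R, Set.range (Spec.map (CommRingCat.ofHom (MvPolynomial.eval x))).base ⊆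
      (U : Set ↥(Spec (CommRingCat.of (MvPolynomial (Fin n) R)))) := by
  have key := Groth.Agent.Lib.Helper84.LG.exists_point_affineSpace hR n
    (U.1 : Set (PrimeSpectrum (MvPolynomial (Fin n) R))) hU U.2 ?_
  · obtain ⟨x, hx⟩ := key
    refine ⟨x, ?_⟩
    rintro _ ⟨q, rfl⟩
    exact hx q
  · intro m hm
    obtain ⟨x, hx⟩ := h m
    refine ⟨x, fun q => ?_⟩
    exact hx ⟨q, rfl⟩

end Groth.Agent.S16599
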