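import Groth.Statements.S16600
import Groth.Agent.Lib.Helper84.LGSym
-- import your own Groth.Agent.* helpers here

set_option autoImplicit false
open AlgebraicGeometry
universe u
open LGRing

namespace Groth.Agent.S16600

/-- Let R be an LG-ring, M a finite locally free R-module, W(M) = Spec Sym(M^∨) the vector bundle of M
(its points with values in an R-algebra R' are the R-algebra maps Sym(M^∨) → R', i.e. the R-linear
maps M^∨ → R'), and U ⊆ W(M) an open quasi-compact subscheme. Then U(R) is non-empty if and only if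
U(R ⧸ m) is non-empty for every maximal ideal m of R. -/
theorem result {R : Type u} [CommRing R]
    (hR : LGRing.IsLGRing R) (M : Type u) [AddCommGroup M] [Module R M] [Module.Finite R M] [Module.Projective R M]
    (U : (Spec (CommRingCat.of (SymmetricAlgebra R (Module.Dual R M)))).Opens)
    (hU : IsCompact (U : Set ↥(Spec (CommRingCat.of (SymmetricAlgebra R (Module.Dual R M)))))) :
    (∃ φ : Module.Dual R M →ₗ[R] R,
      Set.range (Spec.map (CommRingCat.ofHom (SymmetricAlgebra.lift φ).toRingHom)).base ⊆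
        (U : Set ↥(Spec (CommRingCat.of (SymmetricAlgebra R (Module.Dual R M)))))) ↔
    ∀ (m : Ideal R) [m.IsMaximal], ∃ φ : Module.Dual R M →ₗ[R] (R ⧸ m),
      Set.range (Spec.map (CommRingCat.ofHom (SymmetricAlgebra.lift φ).toRingHom)).base ⊆
        (U : Set ↥(Spec (CommRingCat.of (SymmetricAlgebra R (Module.Dual R M))))) := by
  constructor
  · rintro ⟨φ, hφ⟩ m hm
    let ψ : R →ₗ[R] R ⧸ m := Algebra.linearMap R (R ⧸ m)
    refine ⟨ψ ∘ₗ φ, ?_⟩
    have hcomp : SymmetricAlgebra.lift (ψ ∘ₗ φ) =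
        (Algebra.ofId R (R ⧸ m)).comp (SymmetricAlgebra.lift φ) := by
      apply SymmetricAlgebra.algHom_ext
      ext ν
      simp [ψ, Algebra.ofId_apply]
    rintro _ ⟨q, rfl⟩
    refine hφ ⟨PrimeSpectrum.comap (algebraMap R (R ⧸ m)) q, ?_⟩
    change PrimeSpectrum.comap (SymmetricAlgebra.lift φ).toRingHom
        (PrimeSpectrum.comap (algebraMap R (R ⧸ m)) q) =
      PrimeSpectrum.comap (SymmetricAlgebra.lift (ψ ∘ₗ φ)).toRingHom q
    ext z
    simp only [PrimeSpectrum.comap_asIdeal, Ideal.mem_comap]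
    rw [hcomp]
    rfl
  · intro h
    have key := Groth.Agent.Lib.Helper84.LG.exists_point_symmetricAlgebra hR (Module.Dual R M)
      (U.1 : Set (PrimeSpectrum (SymmetricAlgebra R (Module.Dual R M)))) hU U.2 ?_
    · obtain ⟨φ, hφ⟩ := key
      refine ⟨φ, ?_⟩
      rintro _ ⟨q, rfl⟩
      exact hφ q
    · intro m hm
      obtain ⟨φ, hφ⟩ := h m
      exact ⟨φ, fun q => hφ ⟨q, rfl⟩⟩

end Groth.Agent.S16600
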