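import Groth.Statements.S16601
import Groth.Agent.Lib.Helper84.LGSym2
-- import your own Groth.Agent.* helpers here

set_option autoImplicit false
open AlgebraicGeometry
universe u
open LGRing

namespace Groth.Agent.S16601

/-- Let R be an LG-ring whose residue fields at maximal ideals are all infinite (R satisfies the
primitive criterion), M a finite locally free R-module with vector bundle W(M) = Spec Sym(M^∨), and
U ⊆ W(M) an open quasi-compact subscheme which is fibrewise dense over the closed points of Spec R
(for every maximal ideal m, the trace of U on the closed fibre Spec (Sym(M^∨) ⧸ m Sym(M^∨)) is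
dense). Then U has an R-valued point. (The source asks U to be R-dense in W(M); only density of the
closed fibres is used, which is what is assumed here.) -/
theorem result {R : Type u} [CommRing R]
    (hR : LGRing.IsLGRing R) (hinf : ∀ (m : Ideal R) [m.IsMaximal], Infinite (R ⧸ m))
    (M : Type u) [AddCommGroup M] [Module R M] [Module.Finite R M] [Module.Projective R M]
    (U : (Spec (CommRingCat.of (SymmetricAlgebra R (Module.Dual R M)))).Opens)
    (hU : IsCompact (U : Set ↥(Spec (CommRingCat.of (SymmetricAlgebra R (Module.Dual R M))))))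
    (hdense : ∀ (m : Ideal R) [m.IsMaximal],
      Dense ((Spec.map (CommRingCat.ofHom (Ideal.Quotient.mk
        (Ideal.map (algebraMap R (SymmetricAlgebra R (Module.Dual R M))) m)))).base ⁻¹'
          (U : Set ↥(Spec (CommRingCat.of (SymmetricAlgebra R (Module.Dual R M))))))) :
    ∃ φ : Module.Dual R M →ₗ[R] R,
      Set.range (Spec.map (CommRingCat.ofHom (SymmetricAlgebra.lift φ).toRingHom)).base ⊆
        (U : Set ↥(Spec (CommRingCat.of (SymmetricAlgebra R (Module.Dual R M))))) := by
  have key := Groth.Agent.Lib.Helper84.LG.exists_point_symmetricAlgebra hR (Module.Dual R M)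
    (U.1 : Set (PrimeSpectrum (SymmetricAlgebra R (Module.Dual R M)))) hU U.2 ?_
  · obtain ⟨φ, hφ⟩ := key
    refine ⟨φ, ?_⟩
    rintro _ ⟨q, rfl⟩
    exact hφ q
  · intro m hm
    haveI := hinf m
    let V : Set (PrimeSpectrum (SymmetricAlgebra R (Module.Dual R M))) := U.1
    have hVc : IsCompact V := hU
    have hVo : IsOpen V := U.2
    obtain ⟨t, ht⟩ := PrimeSpectrum.isCompact_isOpen_iff.mp ⟨hVc, hVo⟩
    have ht' : ∀ Q : PrimeSpectrum (SymmetricAlgebra R (Module.Dual R M)),
        Q ∈ V ↔ ¬ ((t : Set (SymmetricAlgebra R (Module.Dual R M))) ⊆ Q.asIdeal) := by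
      intro Q
      rw [← ht, Set.mem_compl_iff, PrimeSpectrum.mem_zeroLocus]
    let I := Ideal.map (algebraMap R (SymmetricAlgebra R (Module.Dual R M))) m
    have hI : I ≠ ⊤ := by
      intro htop
      let f : SymmetricAlgebra R (Module.Dual R M) →ₐ[R] R ⧸ m := SymmetricAlgebra.lift 0
      have hle : I ≤ RingHom.ker f.toRingHom := by
        rw [Ideal.map_le_iff_le_comap]
        intro r hr
        rw [Ideal.mem_comap, RingHom.mem_ker]
        change f (algebraMap R _ r) = 0
        rw [AlgHom.commutes, Ideal.Quotient.algebraMap_eq, Ideal.Quotient.eq_zero_iff_mem]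
        exact hr
      rw [htop] at hle
      have h1 : (1 : SymmetricAlgebra R (Module.Dual R M)) ∈ RingHom.ker f.toRingHom :=
        hle Submodule.mem_top
      rw [RingHom.mem_ker, map_one] at h1
      exact hm.ne_top (Ideal.Quotient.zero_eq_one_iff.mp h1.symm)
    haveI : Nontrivial (SymmetricAlgebra R (Module.Dual R M) ⧸ I) :=
      Ideal.Quotient.nontrivial_iff.mpr hI
    obtain ⟨P, hP⟩ := (hdense m).nonempty
    have hP' : PrimeSpectrum.comap (Ideal.Quotient.mk I) P ∈ V := hP
    rw [ht', Set.not_subset] at hP'
    obtain ⟨g, hgt, hg⟩ := hP'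
    have hgI : g ∉ I := by
      intro hgI
      apply hg
      change Ideal.Quotient.mk I g ∈ P.asIdeal
      rw [Ideal.Quotient.eq_zero_iff_mem.mpr hgI]
      exact Ideal.zero_mem _
    obtain ⟨φ, hφ⟩ := Groth.Agent.Lib.Helper84.LG.exists_lift_ne_zero_of_notMem
      (Module.Dual R M) m g hgI
    refine ⟨φ, fun q => ?_⟩
    change _ ∈ V
    rw [ht', Set.not_subset]
    refine ⟨g, hgt, ?_⟩
    intro hmem
    letI := Ideal.Quotient.field m
    exact q.2.ne_top (Ideal.eq_top_of_isUnit_mem _ hmem (isUnit_iff_ne_zero.mpr hφ))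

end Groth.Agent.S16601
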