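import Groth.Statements.S16627
import Groth.Agent.Lib.Helper38.SerreVanishPn

set_option autoImplicit false
universe u
open Variety

namespace Groth.Agent.S16627

open AlgebraicGeometry CategoryTheory CategoryTheory.Limits in
/-- Let k be a field, F a coherent module on projective n-space P^n_k which is m-regular, and ι : F ⊗
O(-1) → F a monomorphism of O-modules (such as multiplication by a linear form that is a
nonzerodivisor on F, i.e. a hyperplane avoiding the associated points of F). Then the cokernel of ι
— the restriction of F to the hyperplane, as a module on P^n_k — is again m-regular. (Stated for an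
arbitrary monomorphism F(-1) → F and an arbitrary ground field.) -/
theorem result (k : Type u) [Field k] (n : ℕ)
    (F : (CohB1.ProjSpace n k).Modules) (hF : Coh.IsCoh F) (m : ℤ) (hreg : Curv2.IsMRegular k n F m)
    (ι : CohB1.tensorMod F (Twist.twistProjSpace n k (-1)) ⟶ F) [Mono ι] :
    Curv2.IsMRegular k n (cokernel ι) m := by
  intro i hi1 hin
  have hS : (ShortComplex.mk ι (cokernel.π ι) (cokernel.condition ι)).ShortExact :=
    { exact := ShortComplex.exact_of_g_is_cokernel _ (cokernelIsCokernel ι)
      mono_f := ‹Mono ι›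
      epi_g := inferInstance }
  have hSd := Groth.Agent.Lib.Helper38.SerreVanishPn.shortExact_tw n k (m - i) hS
  -- H^i(F(m-i)) = 0
  have h2 : Subsingleton (Coh.HH (CohB1.ProjSpace n k)
      ((Groth.Agent.Lib.Helper38.SerreVanishPn.tw n k (m - i)).obj F) i) := hreg i hi1 hin
  -- H^{i+1}(F(-1)(m-i)) = 0
  have h1 : Subsingleton (Coh.HH (CohB1.ProjSpace n k)
      ((Groth.Agent.Lib.Helper38.SerreVanishPn.tw n k (m - i)).obj
        (CohB1.tensorMod F (Twist.twistProjSpace n k (-1)))) (i + 1)) := by
    let e : (Groth.Agent.Lib.Helper38.SerreVanishPn.tw n k (m - i)).obj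
        (CohB1.tensorMod F (Twist.twistProjSpace n k (-1))) ≅
        CohB1.tensorMod F (Twist.twistProjSpace n k (m - (i + 1 : ℕ))) :=
      (Groth.Agent.Lib.Helper38.TwistEquiv.assocNat (Twist.twistProjSpace n k (-1))
        (Twist.twistProjSpace n k (m - i))).app F ≪≫
      (Groth.Agent.Lib.Helper38.TwistEquiv.congrNat
        (Groth.Agent.Lib.Helper38.SerreVanishPn.twistTensorIso n k (-1) (m - i) ≪≫
          eqToIso (by congr 1; push_cast; ring))).app F
    apply Groth.Agent.Lib.Helper38.SerreVanishPn.subsingleton_HH_of_iso k e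
    by_cases hlt : i + 1 ≤ n
    · exact hreg (i + 1) (by omega) hlt
    · exact Groth.Agent.Lib.Helper38.SerreVanishPn.base n k F hF _ (i + 1) (by omega)
  have key : ∀ z : Coh.HH (CohB1.ProjSpace n k)
      ((Groth.Agent.Lib.Helper38.SerreVanishPn.tw n k (m - i)).obj (cokernel ι)) i, z = 0 := by
    intro z
    have hδ : Groth.Agent.Lib.Helper17.HHLinLES.deltaLin k hSd i z = 0 := h1.elim _ _
    obtain ⟨w, rfl⟩ := Groth.Agent.Lib.Helper17.HHLinLES.exists_of_deltaLin_eq_zero k hSd i z hδ
    have hw : w = 0 := h2.elim w 0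
    rw [hw]
    exact map_zero _
  exact ⟨fun x y => (key x).trans (key y).symm⟩

end Groth.Agent.S16627
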