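import Groth.Statements.S16644
import Mathlib.RingTheory.MvPolynomial.Basic
import Mathlib.RingTheory.Ideal.Quotient.Basic
import Mathlib.RingTheory.Ideal.Span
-- import your own Groth.Agent.* helpers here

set_option autoImplicit false
open QuadZ

namespace Groth.Agent.S16644

/-- A skew-symmetric matrix of odd size over a commutative ring without 2-torsion has determinant zero. -/
theorem det_eq_zero_of_skew {R : Type*} [CommRing R] [NoZeroDivisors R] (h2 : (2 : R) ≠ 0)
    (n : ℕ) (hn : Odd n) (N : Matrix (Fin n) (Fin n) R) (hN : N.transpose = -N) : N.det = 0 := by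
  have h1 : N.det = -N.det := by
    conv_lhs => rw [← Matrix.det_transpose, hN, Matrix.det_neg, Fintype.card_fin, hn.neg_one_pow]
    ring
  have h3 : (2 : R) * N.det = 0 := by
    rw [two_mul]; nth_rewrite 1 [h1]; ring
  rcases mul_eq_zero.mp h3 with h | h
  · exact absurd h h2
  · exact h

/-- For odd n, the discriminant of the universal quadratic form Σ_{i ≤ j} A_{ij} x_i x_j in n variables
(variables A_{ij} indexed by unordered pairs), i.e. the determinant of the symmetric matrix with
diagonal entries 2 A_{ii} and off-diagonal entries A_{ij}, is divisible by 2 in the integral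
polynomial ring ℤ[A_{ij}] (so the half-discriminant is an integral polynomial). -/
theorem result (n : ℕ) (hn : Odd n) :
    (2 : MvPolynomial (Sym2 (Fin n)) ℤ) ∣
      (Matrix.of fun i j : Fin n =>
        if i = j then 2 * MvPolynomial.X (R := ℤ) (σ := Sym2 (Fin n)) (Sym2.mk i j)
        else MvPolynomial.X (R := ℤ) (σ := Sym2 (Fin n)) (Sym2.mk i j)).det := by
  set M : Matrix (Fin n) (Fin n) (MvPolynomial (Sym2 (Fin n)) ℤ) :=
    Matrix.of fun i j : Fin n =>
        if i = j then 2 * MvPolynomial.X (R := ℤ) (σ := Sym2 (Fin n)) (Sym2.mk i j)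
        else MvPolynomial.X (R := ℤ) (σ := Sym2 (Fin n)) (Sym2.mk i j) with hM
  -- the skew-symmetric lift
  let M' : Matrix (Fin n) (Fin n) (MvPolynomial (Sym2 (Fin n)) ℤ) :=
    Matrix.of fun i j : Fin n =>
        if i < j then MvPolynomial.X (R := ℤ) (σ := Sym2 (Fin n)) (Sym2.mk i j)
        else if j < i then - MvPolynomial.X (R := ℤ) (σ := Sym2 (Fin n)) (Sym2.mk i j) else 0
  have hskew : M'.transpose = -M' := by
    ext i j
    simp only [Matrix.transpose_apply, Matrix.neg_apply, M', Matrix.of_apply]
    rcases lt_trichotomy i j with h | h | h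
    · have h' : ¬ j < i := not_lt.mpr h.le
      simp [h, h', Sym2.eq_swap]
    · subst h; simp
    · have h' : ¬ i < j := not_lt.mpr h.le
      simp [h, h', Sym2.eq_swap]
  have h2 : (2 : MvPolynomial (Sym2 (Fin n)) ℤ) ≠ 0 := two_ne_zero
  have hdet' : M'.det = 0 := det_eq_zero_of_skew h2 n hn M' hskew
  set I : Ideal (MvPolynomial (Sym2 (Fin n)) ℤ) := Ideal.span {2} with hI
  have hmap : (Ideal.Quotient.mk I).mapMatrix M = (Ideal.Quotient.mk I).mapMatrix M' := by
    ext i j
    simp only [RingHom.mapMatrix_apply, Matrix.map_apply]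
    rw [Ideal.Quotient.eq, hI, Ideal.mem_span_singleton]
    simp only [M, M', Matrix.of_apply]
    rcases lt_trichotomy i j with h | h | h
    · have h' : ¬ j < i := not_lt.mpr h.le
      simp [h, h.ne]
    · subst h; simp
    · have h' : ¬ i < j := not_lt.mpr h.le
      simp only [h, h', h.ne', if_false, if_true, sub_neg_eq_add]
      exact ⟨MvPolynomial.X (Sym2.mk i j), by ring⟩
  have hq : Ideal.Quotient.mk I M.det = 0 := by
    rw [RingHom.map_det, hmap, ← RingHom.map_det, hdet', map_zero]
  rw [Ideal.Quotient.eq_zero_iff_mem, hI, Ideal.mem_span_singleton] at hq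
  exact hq

end Groth.Agent.S16644
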