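import Groth.Statements.S1665
import Groth.Agent.S6370
import Groth.Agent.Lib.Helper85.ConductorPow

set_option autoImplicit false
universe u
open Variety

namespace Groth.Agent.S1665

/-- Let B be a Noetherian domain of dimension one with finitely many maximal ideals and B' its integral
closure in its fraction field. Then B' is a Dedekind domain with finitely many maximal ideals, and
for every nonzero x in the Jacobson radical of B' and every y ∈ B' some power x^n satisfies x^n y ∈
B. -/
theorem result (B : Type u) [CommRing B] [IsDomain B] [IsNoetherianRing B]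
    (hdim : ringKrullDim B = 1) (hsl : Finite (MaximalSpectrum B)) :
    IsDedekindDomain (integralClosure B (FractionRing B)) ∧ Finite (MaximalSpectrum (integralClosure B (FractionRing B))) ∧
      ∀ x : integralClosure B (FractionRing B), x ≠ 0 → x ∈ (⊥ : Ideal (integralClosure B (FractionRing B))).jacobson →
        ∀ y : integralClosure B (FractionRing B), ∃ n : ℕ, (x ^ n * y).1 ∈ (algebraMap B (FractionRing B)).range := by
  classical
  set K := FractionRing B with hK
  set C : Subalgebra B K := integralClosure B K with hC
  obtain ⟨hD, -, hfib, -⟩ := Groth.Agent.S6370.result B K K C hdim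
  refine ⟨hD, ?_, ?_⟩
  · have : Algebra.IsIntegral B C := inferInstance
    set T : Set (PrimeSpectrum C) :=
      ⋃ m : MaximalSpectrum B, PrimeSpectrum.comap (algebraMap B C) ⁻¹' {m.toPrimeSpectrum} with hT
    have hTfin : T.Finite := Set.finite_iUnion (fun m => hfib _)
    have := hTfin.to_subtype
    have hmem : ∀ M : MaximalSpectrum C, M.toPrimeSpectrum ∈ T := by
      intro M
      have := M.isMaximal
      rw [hT, Set.mem_iUnion]
      exact ⟨⟨M.asIdeal.comap (algebraMap B C),
        Ideal.isMaximal_comap_of_isIntegral_of_isMaximal _⟩, rfl⟩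
    refine Finite.of_injective (fun M : MaximalSpectrum C => (⟨_, hmem M⟩ : T)) ?_
    intro M₁ M₂ h
    have h1 := congrArg (fun t : T => (t : PrimeSpectrum C).asIdeal) h
    exact MaximalSpectrum.ext h1
  · intro x hx0 hx y
    have hU : ∀ z : K, IsIntegral B z → 1 + z * (x : K) ≠ 0 ∧ IsIntegral B (1 + z * (x : K))⁻¹ := by
      intro z hz
      have hu := Ideal.mem_jacobson_bot.mp hx (⟨z, hz⟩ : C)
      obtain ⟨w, hw⟩ := isUnit_iff_exists_inv.mp hu
      have hwK : (1 + z * (x : K)) * (w : K) = 1 := by
        have := congrArg Subtype.val hw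
        have e : ((x * (⟨z, hz⟩ : C) + 1) * w : C).1 = ((x : K) * z + 1) * (w : K) := rfl
        rw [e] at this
        have e1 : ((1 : C) : K) = 1 := rfl
        rw [e1] at this
        linear_combination this
      have hne : 1 + z * (x : K) ≠ 0 := left_ne_zero_of_mul_eq_one hwK
      refine ⟨hne, ?_⟩
      have : (1 + z * (x : K))⁻¹ = (w : K) := (eq_inv_of_mul_eq_one_right hwK).symm
      rw [this]; exact w.2
    obtain ⟨n₀, hn₀⟩ := Groth.Agent.Lib.Helper85.SemilocalInv.exists_pow_mul_mem_range
      hdim (x : K) (y : K) x.2 y.2 hU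
    exact ⟨n₀, hn₀ n₀ le_rfl⟩

end Groth.Agent.S1665
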