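import Groth.Statements.S16663
import Groth.Agent.Lib.Helper84.ConnTrace
-- import your own Groth.Agent.* helpers here

set_option autoImplicit false
universe v u
open TensorProduct
open Conn

namespace Groth.Agent.S16663

section
variable {B Ω E F G : Type u} [CommRing B]
    [AddCommGroup Ω] [Module B Ω] [AddCommGroup E] [Module B E] [AddCommGroup F] [Module B F]
    [AddCommGroup G] [Module B G]

theorem L8 (m : E) (ε : F →ₗ[B] G) (y : (E →ₗ[B] F) ⊗[B] Ω) :
    TensorProduct.map (LinearMap.applyₗ m) (LinearMap.id : Ω →ₗ[B] Ω)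
      (TensorProduct.map (LinearMap.llcomp B E F G ε) (LinearMap.id : Ω →ₗ[B] Ω) y) =
      TensorProduct.map ε LinearMap.id (TensorProduct.map (LinearMap.applyₗ m) LinearMap.id y) := by
  induction y using TensorProduct.induction_on with
  | zero => simp
  | tmul φ ω => simp
  | add x y hx hy => simp only [map_add, hx, hy]

end

/-- A horizontal endomorphism `ε` can be pulled through the Hom-connection. -/
theorem map_llcomp_nablaE {A : Type v} {B Ω P : Type u}
    [CommRing A] [CommRing B] [Algebra A B]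
    [AddCommGroup Ω] [Module B Ω] [Module A Ω] [IsScalarTower A B Ω] [Module.Finite B Ω] [Module.Free B Ω]
    [AddCommGroup P] [Module B P] [Module A P] [IsScalarTower A B P]
    (nabla : P →ₗ[A] P ⊗[B] Ω)
    (nablaE : (P →ₗ[B] P) →ₗ[A] (P →ₗ[B] P) ⊗[B] Ω) (hE : Conn.IsHomConn nabla nabla nablaE)
    (ε : P →ₗ[B] P) (hε : ∀ x, nabla (ε x) = TensorProduct.map ε LinearMap.id (nabla x))
    (φ : P →ₗ[B] P) :
    TensorProduct.map (LinearMap.llcomp B P P P ε) (LinearMap.id : Ω →ₗ[B] Ω) (nablaE φ) =
      nablaE (ε ∘ₗ φ) := by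
  apply Groth.Agent.Lib.Helper84.hom_tensor_ext
  intro m
  rw [L8, hE φ m, hE (ε ∘ₗ φ) m, map_sub, LinearMap.comp_apply, hε]
  congr 1
  rw [← LinearMap.comp_apply, ← TensorProduct.map_comp, LinearMap.id_comp]


/-- Let B be an A-algebra with a receptacle of differentials (Ω, δ), Ω a finite free B-module (the local
form of a weakly smooth scheme), and let M be a finitely ℤ-graded B-module presented as a finite
family of finite free B-modules M_i with integer degrees deg i (the local form of a graded vector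
bundle), with total module Π_i M_i. Let ∇ be a connection on Π_i M_i preserving the grading, in the
sense that (pr_j ⊗ 1)(∇(ι_i m)) = 0 for m ∈ M_i whenever deg i ≠ deg j, and let ∇_E be the induced
connection on the B-linear endomorphisms, the one with (ev_m ⊗ 1)(∇_E φ) = ∇(φ m) − (φ ⊗ 1)(∇ m).
Give B the connection b ↦ 1 ⊗ δ b. Then the supertrace, φ ↦ tr(ε ∘ φ) with ε = Σ_i (−1)^{deg i} ι_i
∘ pr_i the grading involution, is a horizontal map End_B(Π_i M_i) → B. -/
theorem result {A : Type v} {B Ω ι : Type u}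
    [CommRing A] [CommRing B] [Algebra A B]
    [AddCommGroup Ω] [Module B Ω] [Module A Ω] [IsScalarTower A B Ω] [Module.Finite B Ω] [Module.Free B Ω]
    [Fintype ι] [DecidableEq ι] (deg : ι → ℤ) (M : ι → Type u)
    [∀ i, AddCommGroup (M i)] [∀ i, Module B (M i)] [∀ i, Module A (M i)] [∀ i, IsScalarTower A B (M i)]
    [∀ i, Module.Free B (M i)] [∀ i, Module.Finite B (M i)]
    (δ : Derivation A B Ω) (nabla : (Π k, M k) →ₗ[A] (Π k, M k) ⊗[B] Ω) (hc : Conn.IsConn δ nabla)
    (hgr : ∀ i j : ι, deg i ≠ deg j → ∀ m : M i,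
      TensorProduct.map (LinearMap.proj j : (Π k, M k) →ₗ[B] M j) LinearMap.id (nabla (LinearMap.single B M i m)) = 0)
    (nablaE : ((Π k, M k) →ₗ[B] (Π k, M k)) →ₗ[A] ((Π k, M k) →ₗ[B] (Π k, M k)) ⊗[B] Ω)
    (hE : Conn.IsHomConn nabla nabla nablaE) :
    Conn.IsHorizontal nablaE (Conn.triv δ)
      (LinearMap.trace B (Π k, M k) ∘ₗ LinearMap.llcomp B (Π k, M k) (Π k, M k) (Π k, M k)
        (∑ i : ι, (LinearMap.single B M i) ∘ₗ (((-1 : B) ^ (deg i).natAbs) • (LinearMap.proj i : (Π k, M k) →ₗ[B] M i)))) := by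
  classical
  set ε : (Π k, M k) →ₗ[B] (Π k, M k) :=
    ∑ i : ι, (LinearMap.single B M i) ∘ₗ (((-1 : B) ^ (deg i).natAbs) • (LinearMap.proj i : (Π k, M k) →ₗ[B] M i))
    with hεdef
  have hc' : ∀ (x : B) (m : Π k, M k), nabla (x • m) = x • nabla m + m ⊗ₜ[B] δ x := hc
  -- the sign is killed by δ
  have hδs : ∀ k : ℕ, δ ((-1 : B) ^ k) = 0 := by
    intro k
    have : ((-1 : B) ^ k) = algebraMap A B ((-1) ^ k) := by simp
    rw [this, Derivation.map_algebraMap]
  -- ε on a homogeneous element
  have hεs : ∀ (i : ι) (m : M i), ε (LinearMap.single B M i m) =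
      ((-1 : B) ^ (deg i).natAbs) • LinearMap.single B M i m := by
    intro i m
    simp only [hεdef, LinearMap.sum_apply, LinearMap.comp_apply, LinearMap.smul_apply,
      LinearMap.proj_apply, LinearMap.single_apply]
    rw [Finset.sum_eq_single i]
    · simp [Pi.single_smul]
    · intro j _ hji
      simp [Pi.single_eq_of_ne hji]
    · simp
  -- (ε ⊗ 1) on ∇ of a homogeneous element
  have hεw : ∀ (i : ι) (m : M i), TensorProduct.map ε (LinearMap.id : Ω →ₗ[B] Ω) (nabla (LinearMap.single B M i m)) =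
      ((-1 : B) ^ (deg i).natAbs) • nabla (LinearMap.single B M i m) := by
    intro i m
    set w := nabla (LinearMap.single B M i m) with hw
    have hterm : ∀ j : ι, TensorProduct.map ((LinearMap.single B M j) ∘ₗ
        (((-1 : B) ^ (deg j).natAbs) • (LinearMap.proj j : (Π k, M k) →ₗ[B] M j))) (LinearMap.id : Ω →ₗ[B] Ω) w =
        ((-1 : B) ^ (deg i).natAbs) • TensorProduct.map ((LinearMap.single B M j) ∘ₗ
          (LinearMap.proj j : (Π k, M k) →ₗ[B] M j)) (LinearMap.id : Ω →ₗ[B] Ω) w := by
      intro j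
      by_cases hd : deg i = deg j
      · rw [← hd, LinearMap.comp_smul, TensorProduct.map_smul_left, LinearMap.smul_apply]
      · have h0 := hgr i j hd m
        have e1 : ∀ (f : (Π k, M k) →ₗ[B] M j) (hf : TensorProduct.map f (LinearMap.id : Ω →ₗ[B] Ω) w = 0),
            TensorProduct.map ((LinearMap.single B M j) ∘ₗ f) (LinearMap.id : Ω →ₗ[B] Ω) w = 0 := by
          intro f hf
          have : TensorProduct.map ((LinearMap.single B M j) ∘ₗ f) (LinearMap.id : Ω →ₗ[B] Ω) =
              TensorProduct.map (LinearMap.single B M j) LinearMap.id ∘ₗ TensorProduct.map f LinearMap.id := by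
            rw [← TensorProduct.map_comp, LinearMap.id_comp]
          rw [this, LinearMap.comp_apply, hf, map_zero]
        rw [e1 _ h0, smul_zero]
        apply e1
        rw [TensorProduct.map_smul_left, LinearMap.smul_apply, h0, smul_zero]
    rw [hεdef, Groth.Agent.Lib.Helper84.tmap_sum_left, LinearMap.sum_apply]
    simp only [hterm]
    rw [← Finset.smul_sum, ← LinearMap.sum_apply, ← Groth.Agent.Lib.Helper84.tmap_sum_left]
    have hid : (∑ j : ι, (LinearMap.single B M j) ∘ₗ (LinearMap.proj j : (Π k, M k) →ₗ[B] M j)) =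
        LinearMap.id := by
      ext x k
      simp [Finset.sum_apply]
    rw [hid, TensorProduct.map_id, LinearMap.id_apply]
  -- ε is horizontal
  have hε : ∀ x, nabla (ε x) = TensorProduct.map ε LinearMap.id (nabla x) := by
    intro x
    have hx : x = ∑ i, LinearMap.single B M i (x i) := by
      simp only [LinearMap.single_apply]
      exact (LinearMap.sum_single_apply M x).symm
    rw [hx]
    simp only [map_sum]
    refine Finset.sum_congr rfl fun i _ => ?_
    rw [hεs, hεw, hc', hδs, tmul_zero, add_zero]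
  intro φ
  rw [LinearMap.comp_apply, LinearMap.llcomp_apply']
  have hcomp : ∀ y, TensorProduct.map ((LinearMap.trace B (Π k, M k) ∘ₗ
      LinearMap.llcomp B (Π k, M k) (Π k, M k) (Π k, M k) ε :
        ((Π k, M k) →ₗ[B] (Π k, M k)) →ₗ[B] B)) (LinearMap.id : Ω →ₗ[B] Ω) y =
      TensorProduct.map (LinearMap.trace B (Π k, M k)) (LinearMap.id : Ω →ₗ[B] Ω)
        (TensorProduct.map (LinearMap.llcomp B (Π k, M k) (Π k, M k) (Π k, M k) ε)
          (LinearMap.id : Ω →ₗ[B] Ω) y) := by
    intro y
    rw [← LinearMap.comp_apply, ← TensorProduct.map_comp, LinearMap.id_comp]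
  rw [hcomp, map_llcomp_nablaE nabla nablaE hE ε hε φ,
    Groth.Agent.Lib.Helper84.trace_horizontal δ nabla hc nablaE hE]

end Groth.Agent.S16663
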