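import Groth.Statements.S16667
import Mathlib
import Groth.Agent.Lib.Helper29.DepthRees
import Groth.Agent.S6876

set_option autoImplicit false
universe u
open CAlg

namespace Groth.Agent.S16667

open IsLocalRing RingTheory.Sequence
open scoped Pointwise

/-- Let A be a Noetherian integral domain satisfying Serre's condition (S_2), with fraction field K. An
element of K which lies in the localization A_p for every prime p of A with depth(A_p) = 1 lies in
A. -/
theorem result {A : Type u} [CommRing A] [IsDomain A]
    [IsNoetherianRing A] (hS2 : LocCoh.HasSk 2 A A) (x : FractionRing A)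
    (hx : ∀ (p : Ideal A) [p.IsPrime],
      LocCoh.depth (Localization.AtPrime p) (Localization.AtPrime p) = 1 →
        x ∈ Set.range (algebraMap (Localization.AtPrime p) (FractionRing A))) :
    x ∈ Set.range (algebraMap A (FractionRing A)) := by
  classical
  have htower : ∀ (p : Ideal A) [p.IsPrime],
      IsScalarTower A (Localization.AtPrime p) (FractionRing A) := by
    intro p hp
    have := IsLocalization.localization_isScalarTower_of_submonoid_le (Localization.AtPrime p)
      (FractionRing A) p.primeCompl (nonZeroDivisors A) p.primeCompl_le_nonZeroDivisors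
    exact this
  -- the denominator ideal
  let 𝔠 : Ideal A :=
    { carrier := {a | algebraMap A (FractionRing A) a * x ∈
        Set.range (algebraMap A (FractionRing A))}
      add_mem' := by
        rintro a b ⟨a', ha⟩ ⟨b', hb⟩
        refine ⟨a' + b', ?_⟩
        rw [map_add, map_add, add_mul, ha, hb]
      zero_mem' := ⟨0, by simp⟩
      smul_mem' := by
        rintro c a ⟨a', ha⟩
        refine ⟨c * a', ?_⟩
        rw [smul_eq_mul, map_mul, map_mul, mul_assoc, ha] }
  have hmem𝔠 : ∀ a, a ∈ 𝔠 ↔ algebraMap A (FractionRing A) a * x ∈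
      Set.range (algebraMap A (FractionRing A)) := fun a => Iff.rfl
  by_contra hxA
  have h𝔠 : 𝔠 ≠ ⊤ := by
    intro h
    have h1 : (1 : A) ∈ 𝔠 := h ▸ Submodule.mem_top
    rw [hmem𝔠, map_one, one_mul] at h1
    exact hxA h1
  have hnt : Nontrivial (A ⧸ 𝔠) := Ideal.Quotient.nontrivial_iff.mpr h𝔠
  obtain ⟨P, hP⟩ := associatedPrimes.nonempty A (A ⧸ 𝔠)
  rw [AssociatedPrimes.mem_iff, isAssociatedPrime_iff] at hP
  obtain ⟨hPprime, bbar, hPb⟩ := hP
  obtain ⟨b, rfl⟩ := Ideal.Quotient.mk_surjective bbar
  set y : FractionRing A := algebraMap A (FractionRing A) b * x with hy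
  have hmem : ∀ r : A, r ∈ P ↔ algebraMap A (FractionRing A) r * y ∈
      Set.range (algebraMap A (FractionRing A)) := by
    intro r
    rw [hPb, Submodule.mem_colon_singleton, Submodule.mem_bot, Algebra.smul_def,
      Ideal.Quotient.algebraMap_eq, ← map_mul, Ideal.Quotient.eq_zero_iff_mem, hmem𝔠, map_mul,
      mul_assoc]
  have := htower P
  -- `y` is not in `A_P`
  have hyP : y ∉ Set.range (algebraMap (Localization.AtPrime P) (FractionRing A)) := by
    rintro ⟨z, hz⟩
    obtain ⟨⟨a, s⟩, rfl⟩ := IsLocalization.mk'_surjective P.primeCompl z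
    have h1 := IsLocalization.mk'_spec (Localization.AtPrime P) a s
    have h2 := congrArg (algebraMap (Localization.AtPrime P) (FractionRing A)) h1
    rw [map_mul, ← IsScalarTower.algebraMap_apply, ← IsScalarTower.algebraMap_apply] at h2
    have h3 : (s : A) ∈ P := by
      rw [hmem]
      refine ⟨a, ?_⟩
      rw [← h2, mul_comm]
      congr 1
    exact s.2 h3
  -- `𝔪 y ⊆ A_P`
  have hmy : ∀ c ∈ maximalIdeal (Localization.AtPrime P), ∃ m : Localization.AtPrime P,
      algebraMap (Localization.AtPrime P) (FractionRing A) m =
        algebraMap (Localization.AtPrime P) (FractionRing A) c * y := by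
    intro c hc
    obtain ⟨⟨c₀, s⟩, rfl⟩ := IsLocalization.mk'_surjective P.primeCompl c
    have hc₀ : c₀ ∈ P :=
      (IsLocalization.AtPrime.mk'_mem_maximal_iff (Localization.AtPrime P) P c₀ s).mp hc
    obtain ⟨a, ha⟩ := (hmem c₀).mp hc₀
    refine ⟨IsLocalization.mk' (Localization.AtPrime P) a s, ?_⟩
    have h1 := IsLocalization.mk'_spec (Localization.AtPrime P) a s
    have h2 := congrArg (algebraMap (Localization.AtPrime P) (FractionRing A)) h1
    have h1' := IsLocalization.mk'_spec (Localization.AtPrime P) c₀ s
    have h2' := congrArg (algebraMap (Localization.AtPrime P) (FractionRing A)) h1'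
    rw [map_mul, ← IsScalarTower.algebraMap_apply, ← IsScalarTower.algebraMap_apply] at h2 h2'
    have hs0 : algebraMap A (FractionRing A) (s : A) ≠ 0 := by
      intro h0
      have : (s : A) = 0 := (IsFractionRing.injective A (FractionRing A)) (by rw [h0, map_zero])
      exact s.2 (this ▸ P.zero_mem)
    apply mul_right_cancel₀ hs0
    rw [h2, ha, ← h2']
    ring
  have hιinj : Function.Injective (algebraMap (Localization.AtPrime P) (FractionRing A)) :=
    IsFractionRing.injective (Localization.AtPrime P) (FractionRing A)
  have hdom : IsDomain (Localization.AtPrime P) :=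
    IsLocalization.isDomain_of_atPrime (Localization.AtPrime P) P
  -- `P ≠ ⊥`
  have hP0 : ∃ v : A, v ∈ P ∧ v ≠ 0 := by
    obtain ⟨⟨u, v⟩, huv⟩ := IsLocalization.mk'_surjective (nonZeroDivisors A) x
    refine ⟨v, ?_, nonZeroDivisors.ne_zero v.2⟩
    rw [hmem]
    refine ⟨b * u, ?_⟩
    have h1 := IsLocalization.mk'_spec (FractionRing A) u v
    have huv' : IsLocalization.mk' (FractionRing A) u v = x := huv
    rw [huv'] at h1
    rw [hy, map_mul, ← h1]
    ring
  -- depth is one
  have hdepth : LocCoh.depth (Localization.AtPrime P) (Localization.AtPrime P) = 1 := by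
    apply le_antisymm
    · by_contra hcon
      have h2 : (2 : ℕ∞) ≤ LocCoh.depth (Localization.AtPrime P) (Localization.AtPrime P) := by
        rw [not_le] at hcon
        exact Order.add_one_le_of_lt hcon
      have h' : ((2 : ℕ) : ℕ∞) ≤ LocCoh.idealDepth (maximalIdeal (Localization.AtPrime P))
          (Localization.AtPrime P) := by exact_mod_cast h2
      rw [Groth.Agent.Lib.Helper29.le_idealDepth_iff] at h'
      rcases h' with h' | ⟨rs, hlen, hmemrs, hreg⟩
      · have hss := Groth.Agent.S6876.subsingleton_of_smul_top_eq_top (Localization.AtPrime P) h'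
        exact not_subsingleton (Localization.AtPrime P) hss
      · obtain ⟨a, b', rfl⟩ := List.length_eq_two.mp hlen
        rw [isWeaklyRegular_cons_iff, isWeaklyRegular_singleton_iff] at hreg
        obtain ⟨hareg, hbreg⟩ := hreg
        obtain ⟨m₁, hm₁⟩ := hmy a (hmemrs a (by simp))
        obtain ⟨m₂, hm₂⟩ := hmy b' (hmemrs b' (by simp))
        have h1 : b' * m₁ = a * m₂ := by
          apply hιinj
          rw [map_mul, map_mul, hm₁, hm₂]
          ring
        have h3 : (Submodule.Quotient.mk m₁ : QuotSMulTop a (Localization.AtPrime P)) = 0 := by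
          apply hbreg
          change b' • (Submodule.Quotient.mk m₁ : QuotSMulTop a (Localization.AtPrime P)) =
            b' • (0 : QuotSMulTop a (Localization.AtPrime P))
          rw [smul_zero, ← Submodule.Quotient.mk_smul, smul_eq_mul, h1,
            Submodule.Quotient.mk_eq_zero]
          exact (Submodule.mem_smul_pointwise_iff_exists _ _ _).mpr ⟨m₂, trivial, rfl⟩
        rw [Submodule.Quotient.mk_eq_zero] at h3
        obtain ⟨m₃, -, hm₃⟩ := (Submodule.mem_smul_pointwise_iff_exists _ _ _).mp h3
        have ha0 : a ≠ 0 := by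
          intro h0
          have : (1 : Localization.AtPrime P) = 0 := hareg (by simp [h0])
          exact one_ne_zero this
        apply hyP
        refine ⟨m₃, ?_⟩
        have h4 : algebraMap (Localization.AtPrime P) (FractionRing A) a ≠ 0 := by
          intro h0
          exact ha0 (hιinj (by rw [h0, map_zero]))
        apply mul_left_cancel₀ h4
        rw [← hm₁, ← hm₃, smul_eq_mul, map_mul]
    · have h' : ((1 : ℕ) : ℕ∞) ≤ LocCoh.idealDepth (maximalIdeal (Localization.AtPrime P))
          (Localization.AtPrime P) := by
        rw [Groth.Agent.Lib.Helper29.le_idealDepth_iff]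
        right
        obtain ⟨v, hvP, hv0⟩ := hP0
        refine ⟨[algebraMap A (Localization.AtPrime P) v], rfl, ?_, ?_⟩
        · intro r hr
          rw [List.mem_singleton] at hr
          rw [hr]
          exact (IsLocalization.AtPrime.to_map_mem_maximal_iff (Localization.AtPrime P) P v).mpr hvP
        · rw [isWeaklyRegular_singleton_iff]
          apply IsSMulRegular.of_ne_zero
          intro h0
          apply hv0
          have hinjA : Function.Injective (algebraMap A (Localization.AtPrime P)) :=
            IsLocalization.injective (Localization.AtPrime P) P.primeCompl_le_nonZeroDivisors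
          exact hinjA (by rw [h0, map_zero])
      exact_mod_cast h'
  obtain ⟨z, hz⟩ := hx P hdepth
  apply hyP
  refine ⟨algebraMap A (Localization.AtPrime P) b * z, ?_⟩
  rw [map_mul, hz, ← IsScalarTower.algebraMap_apply]

end Groth.Agent.S16667
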