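import Groth.Statements.S16674
import Mathlib
import Groth.Prelude.Def_CartDual
import Groth.Agent.Lib.Helper86.HopfEtale
import Groth.Agent.Lib.Helper86.HopfTrace

set_option autoImplicit false
universe u
open CartDual

namespace Groth.Agent.S16674

open Groth.Agent.Lib.Helper86 WithConv

theorem result (k : Type u) [Field k] (p : ℕ) [Fact p.Prime] [CharP k p]
    (A : Type u) [CommRing A] [HopfAlgebra k A] [Coalgebra.IsCocomm k A] [FiniteDimensional k A] :
    (Algebra.Etale k A ∧ Algebra.Etale k (CartDual.D k A)) ↔ ¬ p ∣ Module.finrank k A := by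
  constructor
  · rintro ⟨hA, hD⟩ hp
    have hN : (Module.finrank k A : k) = 0 := (CharP.cast_eq_zero_iff k p _).2 hp
    have hredA : IsReduced A := Algebra.FormallyUnramified.isReduced_of_field k A
    have hredD : IsReduced (CartDual.D k A) :=
      Algebra.FormallyUnramified.isReduced_of_field k (CartDual.D k A)
    have h1 := HopfTrace.trace_mul_trace k A
    rw [hN, zero_smul] at h1
    have h2 : (toConv (Algebra.trace k A) : CartDual.D k A) = 0 := by
      apply IsReduced.eq_zero
      exact ⟨2, by rw [pow_two]; exact h1⟩
    obtain ⟨e, he⟩ := HopfTrace.exists_trace_eq_one k A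
    have h3 : (toConv (Algebra.trace k A) : CartDual.D k A) e = 0 := by rw [h2]; rfl
    have h4 : Algebra.trace k A e = 0 := h3
    rw [he] at h4
    exact one_ne_zero h4
  · intro hp
    have hN : (Module.finrank k A : k) ≠ 0 := fun h => hp ((CharP.cast_eq_zero_iff k p _).1 h)
    refine ⟨HopfEtale.etale_of_finrank_ne_zero k A hN, ?_⟩
    have hfr : Module.finrank k (CartDual.D k A) = Module.finrank k A := by
      rw [(CartDual.toDual k A).finrank_eq, Subspace.dual_finrank_eq]
    apply HopfEtale.etale_of_finrank_ne_zero k (CartDual.D k A)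
    rw [hfr]
    exact hN

end Groth.Agent.S16674
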