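import Groth.Statements.S16676
import Groth.Agent.Lib.Helper41.GeomConnGroup2
import Mathlib.AlgebraicGeometry.Morphisms.QuasiFinite
import Mathlib.AlgebraicGeometry.Morphisms.UniversallyInjective

set_option autoImplicit false
universe u
open CategoryTheory CategoryTheory.Limits MonoidalCategory CartesianMonoidalCategory MonObj GrpObj AlgebraicGeometry
open AbVar

namespace Groth.Agent.S16676

/-- The equivalence of its second and third conditions. Let X and Y be abelian varieties over a field k
(proper, geometrically integral k-group schemes), f : X → Y a homomorphism which is finite, flat and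
surjective (an isogeny), and i : N → X the kernel of f (the square formed by i, f, the unit section
of Y and the structure map of N is cartesian). Then f is universally injective (a purely inseparable
morphism) if and only if the scheme N is connected. (The published item also includes the equivalent
condition that the function field of X is purely inseparable over that of Y; that clause is not part
of this statement.) -/
theorem result (k : Type u) [Field k]
    (X Y : Over (Spec (CommRingCat.of k)))
    [GrpObj X] [IsProper X.hom] [GeometricallyIntegral X.hom]
    [GrpObj Y] [IsProper Y.hom] [GeometricallyIntegral Y.hom]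
    (f : X ⟶ Y) [IsMonHom f] [IsFinite f.left] [Flat f.left] [Surjective f.left]
    (N : Over (Spec (CommRingCat.of k))) (i : N ⟶ X) (hN : AlgGrp.IsKernel i f) :
    UniversallyInjective f.left ↔ ConnectedSpace ↥N.left := by
  classical
  have hN' : IsPullback i (toUnit N) f η[Y] := hN
  have hpbN : IsPullback i.left (toUnit N).left f.left η[Y].left := hN'.map (Over.forget _)
  constructor
  · intro hf
    -- the structure map of N is a base change of f
    have h1 : UniversallyInjective (toUnit N).left :=
      MorphismProperty.of_isPullback (P := @UniversallyInjective) hpbN hf
    have hinj : Function.Injective (toUnit N).left.base := (toUnit N).left.injective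
    have hsub : Subsingleton ↥(𝟙_ (Over (Spec (CommRingCat.of k)))).left :=
      (inferInstance : Subsingleton (PrimeSpectrum k))
    have hsubN : Subsingleton ↥N.left := hinj.subsingleton
    -- N is nonempty: the unit point
    obtain ⟨e, -, -⟩ := hN'.exists_lift η[X] (𝟙 _) (by rw [IsMonHom.one_hom, Category.id_comp])
    have hne0 : Nonempty ↥(𝟙_ (Over (Spec (CommRingCat.of k)))).left :=
      inferInstanceAs (Nonempty (Spec (CommRingCat.of k)))
    obtain ⟨pt⟩ := hne0
    have hne : Nonempty ↥N.left := ⟨e.left.base pt⟩
    have hpc : PreconnectedSpace ↥N.left := inferInstance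
    exact { toPreconnectedSpace := hpc, toNonempty := hne }
  · intro hconn
    have hlft : LocallyOfFiniteType X.hom := inferInstance
    have hgc : GeometricallyConnected f.left :=
      Groth.Agent.Lib.Helper41.GeomConnGroup2.geometricallyConnected_of_isKernel' i f hN
    rw [universallyInjective_iff]
    intro X' Y' i₁ i₂ f' hpb
    have hgc' : GeometricallyConnected f' :=
      MorphismProperty.of_isPullback (P := @GeometricallyConnected) hpb.flip hgc
    have hfin' : IsFinite f' := MorphismProperty.of_isPullback (P := @IsFinite) hpb.flip inferInstance
    intro x₁ x₂ h12
    have hconn' := f'.isConnected_preimage_singleton (f'.base x₁)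
    have hdisc := f'.isDiscrete_preimage_singleton (f'.base x₁)
    have hD : DiscreteTopology ↥(f'.base ⁻¹' {f'.base x₁}) := hdisc.to_subtype
    have hP : PreconnectedSpace ↥(f'.base ⁻¹' {f'.base x₁}) :=
      Subtype.preconnectedSpace hconn'.isPreconnected
    have hS := (isPreconnected_univ (α := ↥(f'.base ⁻¹' {f'.base x₁}))).subsingleton
    have h1 : x₁ ∈ f'.base ⁻¹' {f'.base x₁} := rfl
    have h2 : x₂ ∈ f'.base ⁻¹' {f'.base x₁} := h12.symm
    have := hS (Set.mem_univ ⟨x₁, h1⟩) (Set.mem_univ ⟨x₂, h2⟩)
    exact congrArg Subtype.val this

end Groth.Agent.S16676
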