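import Groth.Statements.S1668
import Mathlib
import Groth.Agent.Lib.Helper50.NormalAt

set_option autoImplicit false
universe u
open CategoryTheory CategoryTheory.Limits AlgebraicGeometry
open Variety

namespace Groth.Agent.S1668

/-- Let X be a scheme over k such that X_{k'} is a normal scheme (all local rings integrally closed
domains) for every finite purely inseparable extension k' of k. Then X_K is a normal scheme for
every field extension K of k. -/
theorem result (k : Type u) [Field k] (X : Scheme.{u}) [X.Over (Spec (CommRingCat.of k))]
    (h : ∀ (k' : Type u) [Field k'] [Algebra k k'] [FiniteDimensional k k'] [IsPurelyInseparable k k'],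
      Pi1.IsNormalScheme (Curv2.bc k X k'))
    (K : Type u) [Field K] [Algebra k K] : Pi1.IsNormalScheme (Curv2.bc k X K) := by
    open Groth.Agent.Lib.Helper50 in
    intro y
    refine isNormal_stalk_of_isNormalRing_tensor k X (Curv2.bcFst k X K y) K ?_ y rfl
    exact isNormalRing_tensor_stalk_of_forall_finite_purelyInseparable k X (Curv2.bcFst k X K y)
      (fun k' _ _ _ _ x' _ => h k' x') K

end Groth.Agent.S1668
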