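import Groth.Statements.S16685
import Mathlib
import Groth.Agent.Lib.Helper86.HopfDer5

set_option autoImplicit false
universe u
open HopfRep

namespace Groth.Agent.S16685

open Groth.Agent.Lib.Helper86.HopfDer

theorem result (k : Type u) [Field k] (p : ℕ) [Fact p.Prime] [CharP k p]
    (A : Type u) [CommRing A] [HopfAlgebra k A] [FiniteDimensional k A] [IsLocalRing A]
    (d : ℕ) (hd : Module.finrank k (RingHom.ker (Bialgebra.counitAlgHom k A).toRingHom).Cotangent = d) :
    Nonempty ((A ⧸ Ideal.span ((fun a : A => a ^ p) '' (RingHom.ker (Bialgebra.counitAlgHom k A).toRingHom : Set A))) ≃ₐ[k]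
      (MvPolynomial (Fin d) k ⧸ Ideal.span (Set.range fun i : Fin d => (MvPolynomial.X i : MvPolynomial (Fin d) k) ^ p))) := by
  have hI : RingHom.ker (Bialgebra.counitAlgHom k A).toRingHom =
      RingHom.ker (Bialgebra.counitAlgHom k A) := rfl
  rw [hI] at hd ⊢
  subst hd
  exact nonempty_algEquiv_frobKernel k p A

end Groth.Agent.S16685
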