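import Groth.Statements.S16689
import Groth.Agent.Lib.Helper84.Antipode
-- import your own Groth.Agent.* helpers here

set_option autoImplicit false
universe u v w
open ComodSub

namespace Groth.Agent.S16689

open TensorProduct

section
variable {k : Type u} [CommRing k] {A : Type v} [CommRing A] [HopfAlgebra k A]
  {M : Type w} [AddCommGroup M] [Module k M]

local notation "𝑺" => (HopfAlgebraStruct.antipode (R := k) (A := A))
local notation "Δ" => (CoalgebraStruct.comul (R := k) (A := A))
local notation "ε" => (CoalgebraStruct.counit (R := k) (A := A))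

theorem M1 (c : HopfRep.Comod k A M) (x : M ⊗[k] A) :
    LinearMap.lTensor A (ComodSub.lcoactOfRight c) (TensorProduct.comm k M A (LinearMap.lTensor M 𝑺 x)) =
      TensorProduct.comm k (A ⊗[k] M) A
        (TensorProduct.map ((TensorProduct.comm k M A).toLinearMap ∘ₗ LinearMap.lTensor M 𝑺) 𝑺
          (LinearMap.rTensor A c.coact x)) := by
  induction x using TensorProduct.induction_on with
  | zero => simp
  | tmul u a =>
    simp only [LinearMap.rTensor_tmul, TensorProduct.comm_tmul, LinearMap.lTensor_tmul,
      TensorProduct.map_tmul, LinearMap.comp_apply, LinearEquiv.coe_coe]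
    rw [ComodSub.lcoactOfRight_apply]
  | add x y hx hy => simp only [map_add, hx, hy]

theorem M2 (x : M ⊗[k] A) :
    LinearMap.rTensor M Δ (TensorProduct.comm k M A (LinearMap.lTensor M 𝑺 x)) =
      TensorProduct.comm k M (A ⊗[k] A)
        (LinearMap.lTensor M (TensorProduct.map 𝑺 𝑺 ∘ₗ (TensorProduct.comm k A A).toLinearMap)
          (LinearMap.lTensor M Δ x)) := by
  induction x using TensorProduct.induction_on with
  | zero => simp
  | tmul u a =>
    simp only [LinearMap.rTensor_tmul, TensorProduct.comm_tmul, LinearMap.lTensor_tmul,
      LinearMap.comp_apply, LinearEquiv.coe_coe]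
    rw [Groth.Agent.Lib.Helper84.comul_antipode]
  | add x y hx hy => simp only [map_add, hx, hy]

theorem M3 (w : M ⊗[k] (A ⊗[k] A)) :
    TensorProduct.comm k (A ⊗[k] M) A
        (TensorProduct.map ((TensorProduct.comm k M A).toLinearMap ∘ₗ LinearMap.lTensor M 𝑺) 𝑺
          ((TensorProduct.assoc k M A A).symm w)) =
      TensorProduct.assoc k A A M (TensorProduct.comm k M (A ⊗[k] A)
        (LinearMap.lTensor M (TensorProduct.map 𝑺 𝑺 ∘ₗ (TensorProduct.comm k A A).toLinearMap) w)) := by
  induction w using TensorProduct.induction_on with
  | zero => simp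
  | tmul u ab =>
    induction ab using TensorProduct.induction_on with
    | zero => simp
    | tmul a b => simp
    | add x y hx hy => simp only [tmul_add, map_add, hx, hy]
  | add x y hx hy => simp only [map_add, hx, hy]

theorem M4 (x : M ⊗[k] A) :
    LinearMap.rTensor M ε (TensorProduct.comm k M A (LinearMap.lTensor M 𝑺 x)) =
      TensorProduct.comm k M k (LinearMap.lTensor M ε x) := by
  induction x using TensorProduct.induction_on with
  | zero => simp
  | tmul u a => simp
  | add x y hx hy => simp only [map_add, hx, hy]

end


/-- Let `k` be a commutative ring, `A` a commutative Hopf algebra over `k` with antipode `S`, and `M` a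
`k`-module with a right `A`-comodule structure `m ↦ Σ m₀ ⊗ m₁`. Then the map `M → A ⊗ M`, `m ↦ Σ
S(m₁) ⊗ m₀`, is coassociative and counital: it is the coaction of a left `A`-comodule structure on
`M` (a left structure is determined by its coaction, so this structure is unique). -/
theorem result (k : Type u) [CommRing k]
    (A : Type v) [CommRing A] [HopfAlgebra k A]
    (M : Type w) [AddCommGroup M] [Module k M] (c : HopfRep.Comod k A M) :
    ∃ l : ComodSub.LComod k A M, l.coact = ComodSub.lcoactOfRight c := by
  refine ⟨{ coact := ComodSub.lcoactOfRight c, coassoc := ?_, counit_comp := ?_ }, rfl⟩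
  · ext v
    simp only [LinearMap.comp_apply, LinearEquiv.coe_coe]
    have hco := LinearMap.congr_fun c.coassoc v
    simp only [LinearMap.comp_apply, LinearEquiv.coe_coe] at hco
    have hco' : LinearMap.rTensor A c.coact (c.coact v) =
        (TensorProduct.assoc k M A A).symm
          (LinearMap.lTensor M (CoalgebraStruct.comul (R := k) (A := A)) (c.coact v)) := by
      rw [← hco, LinearEquiv.symm_apply_apply]
    conv_lhs => rw [ComodSub.lcoactOfRight_apply, M1, hco', M3, ← M2, ← ComodSub.lcoactOfRight_apply]
  · ext v
    simp only [LinearMap.comp_apply]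
    have hcu := LinearMap.congr_fun c.counit_comp v
    simp only [LinearMap.comp_apply] at hcu
    rw [ComodSub.lcoactOfRight_apply, M4, hcu]
    simp

end Groth.Agent.S16689
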