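import Groth.Statements.S16697
import Groth.Agent.Lib.Helper66.ProdSliceFst
import Groth.Agent.Lib.Helper66.AlgStDiagCover3
import Groth.Agent.Lib.Helper66.AlgStBridgeUnram
import Groth.Agent.Lib.Helper66.AlgStQC4
import Groth.Agent.Lib.Helper65.StUniv
import Groth.Agent.Lib.Helper54.ProperQf

set_option autoImplicit false
universe u
open AlgSt AlgSt.IsWellNighAffine

namespace Groth.Agent.S16697

open CategoryTheory AlgebraicGeometry in
/-- A well-nigh affine algebraic stack is quasi-compact, quasi-DM over `S` and separated over `S` (for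
`S = Spec ℤ` these are the absolute notions of the published statement). The characterisation by
presentations `[U/R]` with `U`, `R` affine and `s`, `t` finite locally free is not stated. -/
theorem result (S : Scheme.{u}) (𝒳 : AlgSt.Cat S)
    (h𝒳 : AlgSt.IsAlgStack Scheme.fppfPrecoverage 𝒳) (hw : AlgSt.IsWellNighAffine 𝒳) :
    AlgSt.IsQuasiCompact 𝒳 ∧ AlgSt.IsQuasiDMOver 𝒳 ∧ AlgSt.IsSeparatedOver 𝒳 := by
  open CategoryTheory AlgebraicGeometry FibCat Groth.Agent.Lib.Helper31 Groth.Agent.Lib.Helper65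
    Groth.Agent.Lib.Helper66.AlgStPFacts in
  obtain ⟨U, x, hU, hx⟩ := hw
  have hxs : AlgSt.RepByAlgSpWith AlgSp.IsSurjectiveMor x :=
    repByAlgSpWith_mono (fun _ _ _ h => h.1.1.1) x hx
  have hxf : AlgSt.RepByAlgSpWith (AlgSp.LocP @Flat) x :=
    repByAlgSpWith_mono (fun _ _ _ h => h.1.1.2) x hx
  have hxfin : AlgSt.RepByAlgSpWith AlgSp.IsFiniteMor x :=
    repByAlgSpWith_mono (fun _ _ _ h => h.1.2) x hx
  have hxp : AlgSt.RepByAlgSpWith (AlgSp.LocP @LocallyOfFinitePresentation) x :=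
    repByAlgSpWith_mono (fun _ _ _ h => h.2) x hx
  have hxlqf : AlgSt.RepByAlgSpWith (AlgSp.LocP (@LocallyQuasiFinite ⊓ @LocallyOfFiniteType)) x :=
    repByAlgSpWith_mono (fun _ _ f hf => Groth.Agent.Lib.Helper54.locP_lqf_of_isFiniteMor f hf) x hxfin
  have hxproper : AlgSt.RepByAlgSpWith AlgSp.IsProperMor x := by
    intro T y
    obtain ⟨F, e, he, hp⟩ := hxfin T y
    exact ⟨F, e, he, ((Groth.Agent.H53.isFiniteMor_iff F.property (AlgSp.IsAlgSpace.yon_obj T) _).1 hp).2⟩
  haveI : IsAffine U.left := hU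
  haveI : IsSeparated U.hom := inferInstance
  haveI : CompactSpace ↥U.left := inferInstance
  refine ⟨?_, ?_, ?_⟩
  · exact isQuasiCompact_of_isSurjective (isFibGrpd_overForget U) (isAlgStack_overCat U).atlas
      h𝒳.isStack.1 h𝒳.atlas x
      (isSurjective_of_repByAlgSpWith (isFibGrpd_overForget U) h𝒳.isStack.1 x hxs)
      (Groth.Agent.Lib.Helper66.AlgStQC4.isQuasiCompact_overCat U)
  · exact Groth.Agent.Lib.Helper66.AlgStDiagCover.repByAlgSpWith_diag_toSelf _
      (Groth.Agent.Lib.Helper66.AlgStPFacts.stableBC_locP _ listed_lqf)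
      (Groth.Agent.Lib.Helper66.AlgStPFacts.stableComp_locP _ listed_lqf) isLocalOnBase_fppf_lqf
      (fun V T a => Groth.Agent.Lib.Helper66.AlgStBridgeUnram.locP_lqf_diagonal (V := V)
        (Y := ⟨(AlgSp.yon S).obj T, AlgSp.IsAlgSpace.yon_obj T⟩) (ObjectProperty.homMk a))
      h𝒳.isStack.1 h𝒳.diag x hxf hxp hxs hxlqf
  · exact Groth.Agent.Lib.Helper66.AlgStDiagCover.repByAlgSpWith_diag_toSelf_of_cI AlgSp.IsProperMor
      stableBC_isProperMor isLocalOnBase_fppf_isProperMor h𝒳.isStack.1 h𝒳.diag x hxf hxp hxs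
      (fun T x₁ e => Groth.Agent.Lib.Helper66.AlgStDiagCover.repByAlgSpWith_cI_of_diag AlgSp.IsProperMor
        stableBC_isProperMor stableComp_isProperMor isLocalOnBase_fppf_isProperMor h𝒳.isStack.1 x₁ x
        hxproper e (Groth.Agent.Lib.Helper66.ProdSliceFst.repByAlgSpWith_isProperMor_diag_fpFst x₁ x))

end Groth.Agent.S16697
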