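import Groth.Statements.S16705
import Groth.Agent.Lib.Helper65.QuotStDesc

set_option autoImplicit false
universe u
open AlgSt
open CategoryTheory AlgebraicGeometry MonoidalCategory CartesianMonoidalCategory Groth.Agent.Lib.Helper65 Groth.Agent.Lib.Helper65.QuotStUniv Groth.Agent.Lib.Helper65.QuotStDesc Groth.Agent.Lib.Helper31

namespace Groth.Agent.S16705

open CategoryTheory AlgebraicGeometry in
/-- Categorical case, schemes as test category: for the quotient stack `[X/G]` of an action of a group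
scheme `G` affine, flat and locally of finite presentation over `S`, the morphism `π : [X/G] → Y`
induced by a morphism of schemes `f : X → Y` is a categorical moduli space in schemes if and only if
`f` is a categorical quotient in schemes. (The uniform variants and other test categories are not
stated.) -/
theorem result (S : Scheme.{u}) (G : Over S) [GrpObj G]
    [IsAffineHom G.hom] [Flat G.hom] [LocallyOfFinitePresentation G.hom]
    (X Y : Over S) (aX : AlgGrp.Action G X) (f : X ⟶ Y)
    (π : AlgSt.QuotSt Scheme.fppfPrecoverage G aX ⥤ᵇ AlgSt.ofSch Y)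
    (hπ : Nonempty (BasedFunctor.comp (AlgSt.quotMap Scheme.fppfPrecoverage G aX) π ≅
      AlgSt.ofSpMap ((AlgSp.yon S).map f))) :
    AlgSt.IsCatModuliSch π ↔ GIT.IsCatQuot aX f := by
  constructor
  · intro h
    obtain ⟨e⟩ := hπ
    have hinv : GIT.IsInvariant aX f := by
      have h1 := secOf_act π (fst G X) (snd G X)
      rw [secOf_of_iso f π e, secOf_of_iso f π e] at h1
      have h2 := congrArg ULift.down h1
      rw [lift_fst_snd, Category.id_comp] at h2
      exact h2
    refine ⟨hinv, fun Z ψ hψ => ?_⟩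
    have hZ : ((AlgSp.yon S).obj Z).obj.IsRepresentable :=
      (AlgSp.representableByOfIso (Iso.refl ((AlgSp.yon S).obj Z))).isRepresentable
    obtain ⟨g, ⟨eg⟩, hgu⟩ := h.2 ((AlgSp.yon S).obj Z) hZ (descFunctor ψ hψ)
    obtain ⟨χ, rfl⟩ := (AlgSp.yon S).map_surjective g
    refine ⟨χ, ?_, ?_⟩
    · have h3 := secOf_eq_of_hom eg.hom (qObj G aX (𝟙 X))
      change secOf (BasedFunctor.comp π (Stk.ofPshMap ((AlgSp.yon S).map χ).hom)) _ = _ at h3
      rw [secOf_comp_ofPshMap, secOf_of_iso f π e, secOf_descFunctor] at h3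
      have h4 : (⟨(𝟙 X ≫ f) ≫ χ⟩ : ULift (X ⟶ Z)) = ⟨𝟙 X ≫ ψ⟩ := h3
      have h5 := congrArg ULift.down h4
      rw [Category.id_comp, Category.id_comp] at h5
      exact h5
    · intro χ' hχ'
      apply (AlgSp.yon S).map_injective
      apply hgu
      apply iso_of_secOf_eq
      intro T x
      change secOf (BasedFunctor.comp π (Stk.ofPshMap ((AlgSp.yon S).map χ').hom)) _ = _
      rw [secOf_comp_ofPshMap, secOf_of_iso f π e, secOf_descFunctor]
      change (⟨(x ≫ f) ≫ χ'⟩ : ULift (T ⟶ Z)) = ⟨x ≫ ψ⟩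
      rw [Category.assoc, hχ']
  · intro h
    obtain ⟨e⟩ := hπ
    have hY : ((AlgSp.yon S).obj Y).obj.IsRepresentable :=
      (AlgSp.representableByOfIso (Iso.refl ((AlgSp.yon S).obj Y))).isRepresentable
    refine isCatModuliIn_of_catQuot (fun N => N.obj.IsRepresentable) f hY ?_ π e
    intro N hN ψ' hψ'
    obtain ⟨Z, ⟨r⟩⟩ := hN
    let ε : (AlgSp.yon S).obj Z ≅ N := AlgSp.isoOfRepresentableBy r
    obtain ⟨ψ, hψ⟩ := (AlgSp.yon S).map_surjective (ψ' ≫ ε.inv)
    have hinv : GIT.IsInvariant aX ψ := by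
      apply (AlgSp.yon S).map_injective
      rw [Functor.map_comp, Functor.map_comp, hψ, ← Category.assoc, hψ', Category.assoc]
    obtain ⟨χ, hχ, hχu⟩ := h.2 Z ψ hinv
    refine ⟨(AlgSp.yon S).map χ ≫ ε.hom, ?_, ?_⟩
    · change (AlgSp.yon S).map f ≫ (AlgSp.yon S).map χ ≫ ε.hom = ψ'
      rw [← Category.assoc, ← Functor.map_comp, hχ, hψ, Category.assoc, Iso.inv_hom_id, Category.comp_id]
    · intro χ'' hχ''
      obtain ⟨χ₂, hχ₂⟩ := (AlgSp.yon S).map_surjective (χ'' ≫ ε.inv)
      have : χ₂ = χ := by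
        apply hχu
        apply (AlgSp.yon S).map_injective
        rw [Functor.map_comp, hχ₂, hψ, ← Category.assoc, hχ'']
      rw [← this, hχ₂, Category.assoc, Iso.inv_hom_id, Category.comp_id]

end Groth.Agent.S16705
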