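import Groth.Statements.S16707
import Mathlib.RingTheory.LocalRing.Module
import Mathlib.LinearAlgebra.TensorProduct.Quotient
-- import your own Groth.Agent.* helpers here

set_option autoImplicit false
universe u v
open CAlg

namespace Groth.Agent.S16707

open TensorProduct in
/-- Nakayama for a nilpotent ideal, no finiteness: if `P / I P = 0` then `P = 0`. -/
theorem subsingleton_of_tensor_quot (A : Type u) [CommRing A] (I : Ideal A) (hI : IsNilpotent I)
    (P : Type v) [AddCommGroup P] [Module A P] (h : Subsingleton ((A ⧸ I) ⊗[A] P)) :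
    Subsingleton P := by
  have h1 : Subsingleton (P ⧸ (I • (⊤ : Submodule A P))) :=
    (TensorProduct.quotTensorEquivQuotSMul P I).symm.injective.subsingleton
  have h2 : I • (⊤ : Submodule A P) = ⊤ := Submodule.Quotient.subsingleton_iff.mp h1
  have h3 : ∀ n : ℕ, (I ^ n) • (⊤ : Submodule A P) = ⊤ := by
    intro n
    induction n with
    | zero => simp
    | succ n ih => rw [pow_succ, Submodule.mul_smul, h2, ih]
  obtain ⟨n, hn⟩ := hI
  have h4 := h3 n
  rw [hn, Submodule.zero_eq_bot, Submodule.bot_smul] at h4
  exact (Submodule.subsingleton_iff A).mp (subsingleton_of_bot_eq_top h4)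


open TensorProduct in
/-- Let A be a commutative ring, I a nilpotent ideal of A and f : M → N a homomorphism of A-modules with
N flat over A (no finiteness assumption on M or N). If the base change of f to A/I, that is M/IM →
N/IN, is bijective, then f is bijective. -/
theorem result (A : Type u) [CommRing A] (I : Ideal A)
    (hI : IsNilpotent I) (M N : Type v) [AddCommGroup M] [Module A M] [AddCommGroup N] [Module A N]
    [Module.Flat A N] (f : M →ₗ[A] N)
    (hf : Function.Bijective (f.baseChange (A ⧸ I))) :
    Function.Bijective f := by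
  have hbc : ∀ x, f.baseChange (A ⧸ I) x = f.lTensor (A ⧸ I) x := fun x => by
    rw [LinearMap.baseChange_eq_ltensor]
  have hinjT : Function.Injective (f.lTensor (A ⧸ I)) := fun x y h =>
    hf.1 (by rw [hbc, hbc, h])
  have hsurjT : Function.Surjective (f.lTensor (A ⧸ I)) := fun y => by
    obtain ⟨x, hx⟩ := hf.2 y
    exact ⟨x, by rw [← hbc, hx]⟩
  -- surjectivity: the cokernel vanishes
  have hsurj : Function.Surjective f := by
    set C := N ⧸ LinearMap.range f
    have hex : Function.Exact f (LinearMap.range f).mkQ := LinearMap.exact_map_mkQ_range f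
    have hexT := lTensor_exact (A ⧸ I) hex (Submodule.mkQ_surjective _)
    have hC : Subsingleton ((A ⧸ I) ⊗[A] C) := by
      refine ⟨fun a b => ?_⟩
      have key : ∀ z : (A ⧸ I) ⊗[A] C, z = 0 := by
        intro z
        obtain ⟨y, rfl⟩ := LinearMap.lTensor_surjective (A ⧸ I) (Submodule.mkQ_surjective (LinearMap.range f)) z
        obtain ⟨x, rfl⟩ := hsurjT y
        exact (hexT _).mpr ⟨x, rfl⟩
      rw [key a, key b]
    have hC' : Subsingleton C := subsingleton_of_tensor_quot A I hI C hC
    rw [← LinearMap.range_eq_top]
    exact Submodule.Quotient.subsingleton_iff.mp hC'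
  refine ⟨?_, hsurj⟩
  -- injectivity: the kernel vanishes
  set K := LinearMap.ker f
  have hex : Function.Exact K.subtype f := LinearMap.exact_subtype_ker_map f
  have hKinj : Function.Injective (K.subtype.lTensor (A ⧸ I)) := by
    refine lTensor_injective_of_exact_of_exact_of_rTensor_injective
      (f₁ := I.subtype) (f₂ := I.mkQ) (g₁ := K.subtype) (g₂ := f)
      (LinearMap.exact_subtype_mkQ I) (Submodule.mkQ_surjective I) hex hsurj ?_ ?_
    · exact Module.Flat.rTensor_preserves_injective_linearMap _ Subtype.val_injective
    · exact Module.Flat.lTensor_preserves_injective_linearMap _ Subtype.val_injective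
  have hK : Subsingleton ((A ⧸ I) ⊗[A] K) := by
    refine ⟨fun a b => ?_⟩
    have key : ∀ z : (A ⧸ I) ⊗[A] K, z = 0 := by
      intro z
      apply hKinj
      apply hinjT
      rw [map_zero, map_zero, ← LinearMap.comp_apply, ← LinearMap.lTensor_comp,
        hex.linearMap_comp_eq_zero, LinearMap.lTensor_zero, LinearMap.zero_apply]
    rw [key a, key b]
  have hK' : Subsingleton K := subsingleton_of_tensor_quot A I hI K hK
  rw [← LinearMap.ker_eq_bot]
  exact (Submodule.subsingleton_iff_eq_bot).mp hK'

end Groth.Agent.S16707
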