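import Groth.Statements.S16708
import Mathlib.LinearAlgebra.Projection
import Mathlib.LinearAlgebra.Basis.VectorSpace
-- import your own Groth.Agent.* helpers here

set_option autoImplicit false
universe u
open HopfRep

namespace Groth.Agent.S16708

open TensorProduct ConstGrp

section
variable {k : Type u} [Field k] {G : Type u} [Group G] [Fintype G] [DecidableEq G]
  {V : Type u} [AddCommGroup V] [Module k V]

/-- The contraction `V ⊗ F → V`, `v ⊗ f ↦ f g • v`. -/
noncomputable def evc (g : G) : V ⊗[k] F k G →ₗ[k] V :=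
  (TensorProduct.rid k V).toLinearMap ∘ₗ LinearMap.lTensor V (ConstGrp.ev k g).toLinearMap

theorem evc_tmul (g : G) (v : V) (f : F k G) : evc g (v ⊗ₜ[k] f) = f g • v := by
  simp [evc]

/-- Every element of `V ⊗ F` is the sum of its contractions against the indicator basis. -/
theorem eq_sum_evc (x : V ⊗[k] F k G) : x = ∑ g : G, evc g x ⊗ₜ[k] e k g := by
  induction x using TensorProduct.induction_on with
  | zero => simp
  | tmul v f =>
    simp only [evc_tmul]
    conv_lhs => rw [eq_sum_smul_e f, TensorProduct.tmul_sum]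
    refine Finset.sum_congr rfl fun g _ => ?_
    rw [TensorProduct.smul_tmul]
  | add x y hx hy =>
    simp only [map_add, TensorProduct.add_tmul, Finset.sum_add_distrib]
    rw [← hx, ← hy]

/-- The contraction `V ⊗ (F ⊗ F) → V`, `v ⊗ (f ⊗ f') ↦ (f a * f' b) • v`. -/
noncomputable def evc2 (a b : G) : V ⊗[k] (F k G ⊗[k] F k G) →ₗ[k] V :=
  (TensorProduct.rid k V).toLinearMap ∘ₗ LinearMap.lTensor V
    ((LinearMap.mul' k k) ∘ₗ TensorProduct.map (ConstGrp.ev k a).toLinearMap (ConstGrp.ev k b).toLinearMap)

theorem evc2_tmul (a b : G) (v : V) (f f' : F k G) :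
    evc2 a b (v ⊗ₜ[k] (f ⊗ₜ[k] f')) = (f a * f' b) • v := by
  simp [evc2]

variable [HopfRep.Comod k (F k G) V]

variable (k) in
/-- The action of the group element `g` on the comodule `V`. -/
noncomputable def act (g : G) : V →ₗ[k] V :=
  evc g ∘ₗ HopfRep.Comod.coact (k := k) (A := F k G)

theorem coact_eq_sum (v : V) :
    HopfRep.Comod.coact (k := k) (A := F k G) v = ∑ g : G, act k g v ⊗ₜ[k] e k g :=
  eq_sum_evc _

theorem act_mul (a b : G) (v : V) : act k a (act k b v) = act k (a * b) v := by
  have hco := LinearMap.congr_fun (HopfRep.Comod.coassoc (k := k) (A := F k G) (V := V)) v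
  simp only [LinearMap.comp_apply, LinearEquiv.coe_coe] at hco
  have h := congrArg (evc2 a b) hco
  rw [coact_eq_sum v] at h
  simp only [map_sum, LinearMap.rTensor_tmul, LinearMap.lTensor_tmul, comul_e] at h
  simp only [coact_eq_sum, TensorProduct.sum_tmul, map_sum, TensorProduct.assoc_tmul,
    TensorProduct.tmul_sum, evc2_tmul, e_apply] at h
  simp only [mul_ite, mul_one, mul_zero, ite_smul, one_smul, zero_smul] at h
  have hL : (∑ x : G, ∑ y : G, if b = x then if a = y then (act k y) ((act k x) v) else 0 else 0) =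
      act k a (act k b v) := by
    rw [Finset.sum_eq_single b, Finset.sum_eq_single a]
    · simp
    · intro y _ hy; simp [Ne.symm hy]
    · intro hx; exact absurd (Finset.mem_univ _) hx
    · intro x _ hx
      refine Finset.sum_eq_zero fun y _ => ?_
      simp [Ne.symm hx]
    · intro hx; exact absurd (Finset.mem_univ _) hx
  rw [← hL, h, Finset.sum_comm, Finset.sum_eq_single a, Finset.sum_eq_single (a * b)]
  · simp
  · intro x _ hx
    have : ¬ (b = a⁻¹ * x) := fun hb => hx (by rw [hb, mul_inv_cancel_left])
    simp [this]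
  · intro hx; exact absurd (Finset.mem_univ _) hx
  · intro y _ hy
    refine Finset.sum_eq_zero fun x _ => ?_
    simp [Ne.symm hy]
  · intro hx; exact absurd (Finset.mem_univ _) hx

theorem act_one (v : V) : act k (1 : G) v = v := by
  have hcu := LinearMap.congr_fun (HopfRep.Comod.counit_comp (k := k) (A := F k G) (V := V)) v
  simp only [LinearMap.comp_apply] at hcu
  have h := congrArg (TensorProduct.rid k V) hcu
  have e1 : (CoalgebraStruct.counit (R := k) (A := F k G)) = (ConstGrp.ev k (1 : G)).toLinearMap := rfl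
  rw [e1] at h
  simpa [act, evc] using h

theorem act_mem_of_isSubcomod (W : Submodule k V) (hW : HopfRep.IsSubcomod (k := k) (A := F k G) W)
    (g : G) (w : V) (hw : w ∈ W) : act k g w ∈ W := by
  obtain ⟨y, hy⟩ := hW w hw
  have key : ∀ y : W ⊗[k] F k G, evc g (W.subtype.rTensor (F k G) y) ∈ W := by
    intro y
    induction y using TensorProduct.induction_on with
    | zero => simp
    | tmul w' f =>
      rw [LinearMap.rTensor_tmul, evc_tmul]
      exact W.smul_mem _ w'.2
    | add x y hx hy => rw [map_add, map_add]; exact W.add_mem hx hy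
  rw [act, LinearMap.comp_apply, ← hy]
  exact key y

theorem isSubcomod_of_act_mem (W : Submodule k V) (h : ∀ (g : G) (w : V), w ∈ W → act k g w ∈ W) :
    HopfRep.IsSubcomod (k := k) (A := F k G) W := by
  intro w hw
  refine ⟨∑ g : G, (⟨act k g w, h g w hw⟩ : W) ⊗ₜ[k] e k g, ?_⟩
  rw [map_sum, coact_eq_sum w]
  refine Finset.sum_congr rfl fun g _ => ?_
  rw [LinearMap.rTensor_tmul]
  rfl

end


/-- Let G be a finite group and k a field in which the order of G is a nonzero element. Then the
constant group scheme of G over k is linearly reductive: every finite-dimensional comodule over its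
coordinate Hopf algebra (the algebra of functions G → k with the Hopf structure of the constant
group) is semisimple, i.e. every subcomodule admits a complementary subcomodule. -/
theorem result (k : Type u) [Field k] (G : Type u) [Group G]
    [Fintype G] [DecidableEq G] (hG : ((Fintype.card G : ℕ) : k) ≠ 0) :
    HopfRep.IsLinearlyReductive k (ConstGrp.F k G) := by
  intro V _ _ _ _ W hW
  classical
  obtain ⟨W₀, hW₀⟩ := Submodule.exists_isCompl W
  set p : V →ₗ[k] V := W.projection W₀ hW₀ with hp
  have hp_mem : ∀ v, p v ∈ W := fun v => Submodule.projection_apply_mem hW₀ v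
  have hp_id : ∀ w ∈ W, p w = w := fun w hw => Submodule.projection_apply_of_mem_left hW₀ hw
  set c : k := ((Fintype.card G : ℕ) : k) with hc
  -- the averaged projection
  set q : V →ₗ[k] V := c⁻¹ • ∑ g : G, act k g ∘ₗ p ∘ₗ act k g⁻¹ with hq
  have hq_apply : ∀ v, q v = c⁻¹ • ∑ g : G, act k g (p (act k g⁻¹ v)) := by
    intro v
    simp [hq, LinearMap.sum_apply]
  have hq_mem : ∀ v, q v ∈ W := by
    intro v
    rw [hq_apply]
    refine W.smul_mem _ (W.sum_mem fun g _ => ?_)
    exact act_mem_of_isSubcomod W hW g _ (hp_mem _)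
  have hq_id : ∀ w ∈ W, q w = w := by
    intro w hw
    rw [hq_apply]
    have : ∀ g : G, act k g (p (act k g⁻¹ w)) = w := by
      intro g
      rw [hp_id _ (act_mem_of_isSubcomod W hW g⁻¹ w hw), act_mul, mul_inv_cancel, act_one]
    simp only [this, Finset.sum_const, Finset.card_univ]
    rw [← Nat.cast_smul_eq_nsmul k, smul_smul, inv_mul_cancel₀ hG, one_smul]
  have hq_comm : ∀ (h : G) (v : V), q (act k h v) = act k h (q v) := by
    intro h v
    rw [hq_apply, hq_apply, map_smul, map_sum]
    congr 1
    refine Fintype.sum_equiv (Equiv.mulLeft h⁻¹) _ _ fun g => ?_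
    simp only [Equiv.coe_mulLeft]
    rw [act_mul, act_mul, mul_inv_rev, inv_inv, mul_inv_cancel_left]
  refine ⟨LinearMap.ker q, ?_, ?_⟩
  · apply isSubcomod_of_act_mem
    intro g w hw
    rw [LinearMap.mem_ker] at hw ⊢
    rw [hq_comm, hw, map_zero]
  · refine ⟨?_, ?_⟩
    · rw [Submodule.disjoint_def]
      intro x hxW hxK
      rw [LinearMap.mem_ker, hq_id x hxW] at hxK
      exact hxK
    · rw [codisjoint_iff, eq_top_iff]
      intro v _
      have : v = q v + (v - q v) := by abel
      rw [this]
      refine Submodule.add_mem_sup (hq_mem v) ?_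
      rw [LinearMap.mem_ker, map_sub, hq_id _ (hq_mem v), sub_self]

end Groth.Agent.S16708
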