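import Groth.Statements.S16718
import Groth.Agent.S7952
import Groth.Agent.Lib.Helper93.Comod
-- import your own Groth.Agent.* helpers here

set_option autoImplicit false
universe u v w
open TensorProduct
open GLin

namespace Groth.Agent.S16718

/-- Let k be a field, A a finitely generated commutative Hopf algebra over k (an affine algebraic group
G), R a finitely generated commutative k-algebra carrying an A-comodule structure whose coaction is
an algebra homomorphism (an action of G on X = Spec R), and I an ideal of R which is a subcomodule
(a G-invariant closed subscheme Z of X). Then there is a finite-dimensional subcomodule W of R with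
W ⊆ I generating I as an ideal; equivalently there is a G-equivariant morphism f from X to the
affine space of a finite-dimensional G-representation with f⁻¹(0) = Z as closed subschemes. -/
theorem result (k : Type u) [Field k]
    (A : Type v) [CommRing A] [HopfAlgebra k A] (hA : Algebra.FiniteType k A)
    (R : Type w) [CommRing R] [Algebra k R] [HopfRep.Comod k A R] [GLin.IsCoactAlg k A R]
    (hR : Algebra.FiniteType k R) (I : Ideal R)
    (hI : HopfRep.IsSubcomod (k := k) (A := A) (I.restrictScalars k)) :
    ∃ W : Submodule k R, Module.Finite k W ∧ HopfRep.IsSubcomod (k := k) (A := A) W ∧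
      W ≤ I.restrictScalars k ∧ Ideal.span (W : Set R) = I := by
  classical
  haveI : IsNoetherianRing R := Algebra.FiniteType.isNoetherianRing k R
  obtain ⟨s, hs⟩ := (isNoetherianRing_iff_ideal_fg R).mp inferInstance I
  have hloc : ∀ f : R, ∃ W : Submodule k R, Module.Finite k W ∧ f ∈ W ∧
      HopfRep.IsSubcomod (k := k) (A := A) W := fun f => Groth.Agent.S7952.result k A R f
  choose Wf hfin hmem hsub using hloc
  let I' : Submodule k R := I.restrictScalars k
  let W : Submodule k R := s.sup (fun f => Wf f ⊓ I')
  have hfinW : ∀ f, Module.Finite k ↥(Wf f ⊓ I') := by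
    intro f
    haveI := hfin f
    exact Submodule.finiteDimensional_inf_left (Wf f) I'
  refine ⟨W, ?_, ?_, ?_, ?_⟩
  · exact Submodule.finite_finset_sup s _
  · refine Finset.sup_induction (p := fun W => HopfRep.IsSubcomod (k := k) (A := A) W) ?_ ?_ ?_
    · exact Groth.Agent.Lib.Helper93.Comod.isSubcomod_bot
    · intro W₁ h₁ W₂ h₂
      exact Groth.Agent.Lib.Helper93.Comod.isSubcomod_sup W₁ W₂ h₁ h₂
    · intro f _
      exact Groth.Agent.Lib.Helper93.Comod.isSubcomod_inf _ _ (hsub f) hI
  · refine Finset.sup_le fun f _ => inf_le_right
  · apply le_antisymm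
    · rw [Ideal.span_le]
      intro x hx
      have : W ≤ I' := Finset.sup_le fun f _ => inf_le_right
      exact this hx
    · rw [← hs, Ideal.span_le]
      intro f hf
      apply Ideal.subset_span
      have hfI : f ∈ I := by rw [← hs]; exact Ideal.subset_span hf
      have : Wf f ⊓ I' ≤ W := Finset.le_sup (f := fun f => Wf f ⊓ I') hf
      exact this ⟨hmem f, hfI⟩

end Groth.Agent.S16718
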