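import Groth.Statements.S16737
-- import your own Groth.Agent.* helpers here

set_option autoImplicit false
universe u v
open DeRham

namespace Groth.Agent.S16737

open MvPolynomial in
/-- `D f = 0` iff all partial derivatives vanish. -/
theorem D_eq_zero_iff (R : Type u) [CommRing R] (σ : Type v) (f : MvPolynomial σ R) :
    KaehlerDifferential.D R (MvPolynomial σ R) f = 0 ↔ ∀ i, pderiv i f = 0 := by
  constructor
  · intro h i
    rw [← KaehlerDifferential.mvPolynomialBasis_repr_apply, h, map_zero, Finsupp.zero_apply]
  · intro h
    apply (KaehlerDifferential.mvPolynomialBasis R σ).repr.injective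
    ext i : 1
    rw [KaehlerDifferential.mvPolynomialBasis_repr_apply, h i, map_zero, Finsupp.zero_apply]

open MvPolynomial in
/-- all partial derivatives vanish iff `coeff n f * n i = 0` for all `n`, `i`. -/
theorem pderiv_eq_zero_iff (R : Type u) [CommRing R] (σ : Type v) (f : MvPolynomial σ R) :
    (∀ i, pderiv i f = 0) ↔ ∀ (n : σ →₀ ℕ) (i : σ), coeff n f * (n i : R) = 0 := by
  classical
  constructor
  · intro h n i
    rcases Nat.eq_zero_or_pos (n i) with h0 | hpos
    · rw [h0]; simp
    · have := congrArg (coeff (n - Finsupp.single i 1)) (h i)
      rw [coeff_pderiv, coeff_zero] at this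
      have e1 : n - Finsupp.single i 1 + Finsupp.single i 1 = n := by
        ext j
        by_cases hj : j = i
        · subst hj; simp; omega
        · simp [Ne.symm hj]
      have e2 : (((n - Finsupp.single i 1 : σ →₀ ℕ) i : ℕ) : R) + 1 = (n i : R) := by
        have : (n - Finsupp.single i 1 : σ →₀ ℕ) i + 1 = n i := by simp; omega
        rw [← this]; push_cast; ring
      rwa [e1, e2] at this
  · intro h i
    ext m
    rw [coeff_pderiv, coeff_zero]
    have := h (m + Finsupp.single i 1) i
    simpa using this


/-- The case of affine space over an affine base of characteristic p, in degree zero. Let p be a prime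
and R a commutative ring with p = 0 in R. For a polynomial f over R in any set of variables t_i, the
Kähler differential df in Ω_{R[t]/R} vanishes if and only if f is a polynomial in the p-th powers of
the variables, f = g(t_i^p). Equivalently, the functions on affine space over R killed by the
differential of the de Rham complex are exactly the functions on its Frobenius twist. (The published
computation is for finitely many variables over a noetherian base of characteristic p; the statement
here allows any commutative ring with p = 0 and any set of variables.) -/
theorem result (p : ℕ) [Fact p.Prime]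
    (R : Type u) [CommRing R] [CharP R p] (σ : Type v) (f : MvPolynomial σ R) :
    KaehlerDifferential.D R (MvPolynomial σ R) f = 0 ↔
      ∃ g : MvPolynomial σ R, f = MvPolynomial.expand p g := by
  classical
  have hp : p.Prime := Fact.out
  rw [D_eq_zero_iff, pderiv_eq_zero_iff]
  constructor
  · intro h
    -- every monomial in the support has all exponents divisible by p
    have hdvd : ∀ n ∈ f.support, ∀ i, p ∣ n i := by
      intro n hn i
      by_contra hnd
      have hcop : Nat.Coprime (n i) p := (Nat.Coprime.symm ((Nat.Prime.coprime_iff_not_dvd hp).2 hnd))
      have hunit : IsUnit ((n i : ℕ) : R) := by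
        have h1 := Nat.isCoprime_iff_coprime.mpr hcop
        obtain ⟨a, b, hab⟩ := h1
        have h2 := congrArg (Int.cast : ℤ → R) hab
        push_cast at h2
        rw [CharP.cast_eq_zero R p, mul_zero, add_zero] at h2
        exact IsUnit.of_mul_eq_one_right _ h2
      have h3 := h n i
      rw [hunit.mul_left_eq_zero] at h3
      exact (MvPolynomial.mem_support_iff.mp hn) h3
    refine ⟨∑ n ∈ f.support, MvPolynomial.monomial (n.mapRange (· / p) (by simp)) (MvPolynomial.coeff n f), ?_⟩
    rw [map_sum]
    conv_lhs => rw [f.as_sum]
    refine Finset.sum_congr rfl fun n hn => ?_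
    rw [MvPolynomial.expand_monomial]
    have e : p • (n.mapRange (· / p) (by simp) : σ →₀ ℕ) = n := by
      ext i
      simp only [Finsupp.smul_apply, Finsupp.mapRange_apply, smul_eq_mul]
      exact Nat.mul_div_cancel' (hdvd n hn i)
    rw [e]
  · rintro ⟨g, rfl⟩ n i
    by_cases hd : p ∣ n i
    · rw [(CharP.cast_eq_zero_iff R p (n i)).mpr hd, mul_zero]
    · rw [MvPolynomial.coeff_expand_of_not_dvd g hd, zero_mul]

end Groth.Agent.S16737
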