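import Groth.Statements.S16742
import Groth.Agent.Lib.Helper84.LocalFlat
import Mathlib.RingTheory.Flat.EquationalCriterion
-- import your own Groth.Agent.* helpers here

set_option autoImplicit false
universe u
open CAlg

namespace Groth.Agent.S16742

open TensorProduct

/-- In `ZMod (p^2)`, elements killed by `p` are multiples of `p`. -/
theorem zmod_sq_mul_eq_zero (p : ℕ) [Fact p.Prime] (a : ZMod (p ^ 2))
    (h : (p : ZMod (p ^ 2)) * a = 0) : ∃ c : ZMod (p ^ 2), a = (p : ZMod (p ^ 2)) * c := by
  haveI : NeZero (p ^ 2) := ⟨pow_ne_zero 2 (Fact.out : p.Prime).ne_zero⟩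
  have ha : ((a.val : ℕ) : ZMod (p ^ 2)) = a := ZMod.natCast_zmod_val a
  rw [← ha, ← Nat.cast_mul, ZMod.natCast_eq_zero_iff] at h
  have hp : 0 < p := (Fact.out : p.Prime).pos
  obtain ⟨d, hd⟩ := h
  have hc : a.val = p * d := Nat.eq_of_mul_eq_mul_left hp (by rw [hd]; ring)
  obtain ⟨c, hc⟩ : ∃ c, a.val = p * c := ⟨d, hc⟩
  refine ⟨(c : ZMod (p ^ 2)), ?_⟩
  rw [← ha, hc, Nat.cast_mul]

/-- In a flat `ZMod (p^2)`-module, elements killed by `p` are multiples of `p`. -/
theorem flat_zmod_sq_smul_eq_zero (p : ℕ) [Fact p.Prime] (N : Type u) [AddCommGroup N]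
    [Module (ZMod (p ^ 2)) N] [Module.Flat (ZMod (p ^ 2)) N] (n : N)
    (h : (p : ZMod (p ^ 2)) • n = 0) : ∃ n' : N, n = (p : ZMod (p ^ 2)) • n' := by
  have hrel : ∑ i : Fin 1, (fun _ => (p : ZMod (p ^ 2))) i • (fun _ => n) i = 0 := by
    simpa using h
  obtain ⟨k, a, y, hxy, ha⟩ := Module.Flat.isTrivialRelation_of_sum_smul_eq_zero hrel
  have ha' : ∀ j, ∃ c : ZMod (p ^ 2), a 0 j = (p : ZMod (p ^ 2)) * c := by
    intro j
    apply zmod_sq_mul_eq_zero
    simpa using ha j
  choose c hc using ha'
  refine ⟨∑ j, c j • y j, ?_⟩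
  have hn : n = ∑ j, a 0 j • y j := hxy 0
  rw [hn, Finset.smul_sum]
  refine Finset.sum_congr rfl fun j _ => ?_
  rw [hc j, mul_smul]

/-- The equivalence in affine form, with flatness of the reduction in place of smoothness. Let p be a
prime, A~ a commutative ring flat over Z/p^2 and B~ an A~-algebra such that B~/pB~ is flat over
A~/pA~. Then B~ is flat over A~ if and only if every element of B~ killed by p is a multiple of p;
equivalently multiplication by p identifies B~/pB~ with pB~. (The published statement assumes the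
reduction smooth over A~/pA~ and the schemes noetherian, and phrases (b) as B~ being a lifting, that
is flat over A~; the statement here assumes only that the reduction is flat, where the equivalence
still holds by the local flatness criterion for the square-zero ideal generated by p.) -/
theorem result (p : ℕ) [Fact p.Prime]
    (Al : Type u) [CommRing Al] [Algebra (ZMod (p ^ 2)) Al] [Module.Flat (ZMod (p ^ 2)) Al]
    (Bl : Type u) [CommRing Bl] [Algebra Al Bl]
    (hB : Module.Flat (Al ⧸ Ideal.span {(p : Al)})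
      (Bl ⧸ (Ideal.span {(p : Al)}).map (algebraMap Al Bl))) :
    Module.Flat Al Bl ↔ ∀ b : Bl, (p : Bl) * b = 0 → b ∈ Ideal.span {(p : Bl)} := by
  have hpAl : (p : Al) = algebraMap (ZMod (p ^ 2)) Al (p : ZMod (p ^ 2)) := (map_natCast _ p).symm
  have hpBl : (p : Bl) = algebraMap Al Bl (p : Al) := (map_natCast _ p).symm
  have hpsq : (p : Al) * (p : Al) = 0 := by
    rw [hpAl, ← map_mul, ← Nat.cast_mul, ← pow_two, ZMod.natCast_self, map_zero]
  have hAl : ∀ a : Al, (p : Al) * a = 0 → ∃ a' : Al, a = (p : Al) * a' := by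
    intro a ha
    have h1 : (p : ZMod (p ^ 2)) • a = 0 := by
      rw [Algebra.smul_def, ← hpAl]
      exact ha
    obtain ⟨a', ha'⟩ := flat_zmod_sq_smul_eq_zero p Al a h1
    refine ⟨a', ?_⟩
    rw [ha', Algebra.smul_def, ← hpAl]
  constructor
  · intro hflat b hb
    have hrel : ∑ i : Fin 1, (fun _ => (p : Al)) i • (fun _ => b) i = 0 := by
      simp only [Finset.univ_unique, Finset.sum_singleton]
      rw [Algebra.smul_def, ← hpBl]
      exact hb
    obtain ⟨k, a, y, hxy, ha⟩ := Module.Flat.isTrivialRelation_of_sum_smul_eq_zero hrel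
    have ha' : ∀ j, ∃ c : Al, a 0 j = (p : Al) * c := by
      intro j
      apply hAl
      simpa using ha j
    choose c hc using ha'
    rw [Ideal.mem_span_singleton']
    refine ⟨∑ j, c j • y j, ?_⟩
    have hb' : b = ∑ j, a 0 j • y j := hxy 0
    rw [hb', Finset.sum_mul]
    refine Finset.sum_congr rfl fun j _ => ?_
    rw [hc j, mul_smul, Algebra.smul_def (p : Al), ← hpBl, mul_comm]
  · intro hker
    let I : Ideal Al := Ideal.span {(p : Al)}
    have hI : I * I = ⊥ := by
      simp only [I]
      rw [Ideal.span_singleton_mul_span_singleton, hpsq]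
      simp
    haveI : Module.Flat (Al ⧸ I) ((Al ⧸ I) ⊗[Al] Bl) :=
      Module.Flat.of_linearEquiv
        (Algebra.TensorProduct.quotIdealMapEquivQuotTensor Bl I).symm.toLinearEquiv
    refine Groth.Agent.Lib.Helper84.flat_of_sq_zero I Bl hI ?_
    have hpI : (p : Al) ∈ I := Ideal.mem_span_singleton_self _
    have hform : ∀ z : I ⊗[Al] Bl, ∃ b : Bl, z = (⟨(p : Al), hpI⟩ : I) ⊗ₜ[Al] b := by
      intro z
      induction z using TensorProduct.induction_on with
      | zero => exact ⟨0, by simp⟩
      | tmul i b =>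
        obtain ⟨a, ha⟩ := Ideal.mem_span_singleton'.mp i.2
        refine ⟨a • b, ?_⟩
        rw [TensorProduct.tmul_smul, TensorProduct.smul_tmul']
        congr 1
        apply Subtype.ext
        simp [← ha]
      | add x y hx hy =>
        obtain ⟨b1, rfl⟩ := hx
        obtain ⟨b2, rfl⟩ := hy
        exact ⟨b1 + b2, by rw [TensorProduct.tmul_add]⟩
    rw [injective_iff_map_eq_zero]
    intro z hz
    obtain ⟨b, rfl⟩ := hform z
    have h1 : (p : Bl) * b = 0 := by
      have := congrArg (TensorProduct.lid Al Bl) hz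
      simpa [Algebra.smul_def, ← hpBl] using this
    obtain ⟨b', hb'⟩ := Ideal.mem_span_singleton'.mp (hker b h1)
    rw [← hb', mul_comm, hpBl, ← Algebra.smul_def, TensorProduct.tmul_smul,
      TensorProduct.smul_tmul']
    have : (p : Al) • (⟨(p : Al), hpI⟩ : I) = 0 := by
      apply Subtype.ext
      simpa using hpsq
    rw [this, TensorProduct.zero_tmul]

end Groth.Agent.S16742
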