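import Groth.Statements.S16758
import Groth.Agent.Lib.Helper75.RigUniv
-- import your own Groth.Agent.* helpers here

set_option autoImplicit false
universe u
open PicF

namespace Groth.Agent.S16758

open AlgebraicGeometry CategoryTheory CategoryTheory.Limits in
/-- (2) ⇔ (3): let f : X → Y be proper and flat with Y locally Noetherian. Then dim_{κ(y)} H⁰(X_y,
O_{X_y}) = 1 for every point y of Y if and only if for every morphism T → Y the base change f_T : X
×_Y T → T induces isomorphisms O_T(U) → O_{X ×_Y T}(f_T⁻¹ U) on all opens U of T, i.e. O_T = (f_T)_*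
O universally. (The published statement takes X and Y Noetherian; the argument is local on Y, so Y
is only assumed locally Noetherian here.) -/
theorem result {X Y : Scheme.{u}} (f : X ⟶ Y)
    [IsProper f] [Flat f] [IsLocallyNoetherian Y] :
    (∀ y : Y, Module.finrank (Y.residueField y) Γ(f.fiber y, ⊤) = 1) ↔
      ∀ (T : Scheme.{u}) (g : T ⟶ Y) (U : T.Opens), IsIso ((pullback.snd f g).app U) := by
  have hΓ : ∀ y : Y, Function.Bijective (Scheme.ΓSpecIso (Y.residueField y)).hom.hom := fun y =>
    (ConcreteCategory.isIso_iff_bijective (Scheme.ΓSpecIso (Y.residueField y)).hom).mp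
      inferInstance
  have hcomp : ∀ y : Y, (f.fiberToSpecResidueField y).appTop.hom =
      ((f.fiberToSpecResidueField y).appTop.hom.comp
        (Scheme.ΓSpecIso (Y.residueField y)).inv.hom).comp
        (Scheme.ΓSpecIso (Y.residueField y)).hom.hom := by
    intro y
    ext x
    simp only [RingHom.comp_apply]
    rw [← CommRingCat.comp_apply (Scheme.ΓSpecIso (Y.residueField y)).hom, Iso.hom_inv_id]
    rfl
  have key : ∀ y : Y, Function.Bijective (algebraMap (Y.residueField y) Γ(f.fiber y, ⊤)) ↔
      Groth.Agent.Lib.Helper75.RigMain.FibH0 f y := by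
    intro y
    have h1 : (algebraMap (Y.residueField y) Γ(f.fiber y, ⊤)) =
        (f.fiberToSpecResidueField y).appTop.hom.comp
          (Scheme.ΓSpecIso (Y.residueField y)).inv.hom := rfl
    show _ ↔ Function.Bijective (f.fiberToSpecResidueField y).appTop.hom
    rw [hcomp y, h1]
    exact (Function.Bijective.of_comp_iff _ (hΓ y)).symm
  constructor
  · intro h T g U
    apply Groth.Agent.Lib.Helper75.RigUniv.isIso_snd_app f
    intro y
    rw [← key y]
    have hnt : Nontrivial Γ(f.fiber y, ⊤) :=
      Module.nontrivial_of_finrank_pos (R := Y.residueField y) (by rw [h y]; exact Nat.one_pos)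
    refine ⟨(algebraMap (Y.residueField y) Γ(f.fiber y, ⊤)).injective, ?_⟩
    have := Subalgebra.bot_eq_top_of_finrank_eq_one (h y)
    exact Algebra.surjective_algebraMap_iff.mpr this.symm
  · intro h y
    have h1 : IsIso ((pullback.snd f (Y.fromSpecResidueField y)).app ⊤) :=
      h (Spec (Y.residueField y)) (Y.fromSpecResidueField y) ⊤
    have h2 : Groth.Agent.Lib.Helper75.RigMain.FibH0 f y :=
      (ConcreteCategory.isIso_iff_bijective _).mp h1
    have h3 := (key y).mpr h2
    have e : (Y.residueField y) ≃ₗ[Y.residueField y] Γ(f.fiber y, ⊤) :=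
      (AlgEquiv.ofBijective (Algebra.ofId (Y.residueField y) Γ(f.fiber y, ⊤)) h3).toLinearEquiv
    rw [← e.finrank_eq]
    exact Module.finrank_self _

end Groth.Agent.S16758
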