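import Groth.Statements.S1676
import Groth.Agent.Lib.Helper7.SectionRegular
import Groth.Agent.Lib.Helper7.AffinePrime

set_option autoImplicit false
universe u
open CategoryTheory CategoryTheory.Limits AlgebraicGeometry TopologicalSpace
open SDiv

namespace Groth.Agent.S1676

/-- For a section that is a closed immersion, e.g. when f is separated: let f : X ⟶ S be a smooth
morphism and σ : S ⟶ X a section of f which is a closed immersion. Then σ is a regular closed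
immersion. -/
theorem result {X S : Scheme.{u}} (f : X ⟶ S) [Smooth f] (σ : S ⟶ X)
    (hσ : σ ≫ f = 𝟙 S) [IsClosedImmersion σ] : Mor2.IsRegularClosedImmersion σ := by
  refine ⟨inferInstance, fun z => ?_⟩
  -- Step 1: affine opens
  obtain ⟨_, ⟨V₀, hV₀, rfl⟩, hzV₀, -⟩ := S.isBasis_affineOpens.exists_subset_of_mem_open
    (Set.mem_univ z) isOpen_univ
  have hfx : f (σ z) = z := by
    rw [← Scheme.Hom.comp_apply, hσ]; rfl
  have hx0 : σ z ∈ f ⁻¹ᵁ (V₀ : S.Opens) := by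
    show f (σ z) ∈ V₀
    rw [hfx]; exact hzV₀
  obtain ⟨_, ⟨U₀, hU₀, rfl⟩, hxU₀, hU₀V₀⟩ := X.isBasis_affineOpens.exists_subset_of_mem_open
    hx0 (f ⁻¹ᵁ (V₀ : S.Opens)).2
  have hU₀V₀' : (U₀ : X.Opens) ≤ f ⁻¹ᵁ (V₀ : S.Opens) := hU₀V₀
  -- Step 2: shrink
  have hz1 : z ∈ σ ⁻¹ᵁ (U₀ : X.Opens) := hxU₀
  obtain ⟨a, haV, hza⟩ := hV₀.exists_basicOpen_le (V := σ ⁻¹ᵁ (U₀ : X.Opens)) ⟨z, hz1⟩ hzV₀
  set V' : S.Opens := S.basicOpen a with hV'def
  have hV' : IsAffineOpen V' := hV₀.basicOpen a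
  set U' : X.Opens := X.basicOpen (f.appLE V₀ U₀ hU₀V₀' a) with hU'def
  have hU' : IsAffineOpen U' := hU₀.basicOpen _
  have hU'eq : U' = (U₀ : X.Opens) ⊓ f ⁻¹ᵁ V' := Scheme.basicOpen_appLE f U₀ V₀ hU₀V₀' a
  have e₁ : U' ≤ f ⁻¹ᵁ V' := by rw [hU'eq]; exact inf_le_right
  have hσf : ∀ s : S, f (σ s) = s := fun s => by
    rw [← Scheme.Hom.comp_apply, hσ]; rfl
  have e₂ : V' ≤ σ ⁻¹ᵁ U' := by
    intro s hs
    show σ s ∈ U'
    rw [hU'eq]
    refine ⟨haV hs, ?_⟩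
    show f (σ s) ∈ V'
    rw [hσf]; exact hs
  have e₃ : σ ⁻¹ᵁ U' ≤ V' := by
    intro s hs
    have h1 : σ s ∈ U' := hs
    rw [hU'eq] at h1
    have h2 : f (σ s) ∈ V' := h1.2
    rwa [hσf] at h2
  have hzV' : z ∈ V' := hza
  have hxU' : σ z ∈ U' := e₂ hzV'
  -- Step 3: ring-level data
  letI : Algebra Γ(S, V') Γ(X, U') := (f.appLE V' U' e₁).hom.toAlgebra
  have hsm : Algebra.Smooth Γ(S, V') Γ(X, U') :=
    HasRingHomProperty.appLE @Smooth f ‹Smooth f› ⟨V', hV'⟩ ⟨U', hU'⟩ e₁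
  let ρ : Γ(X, U') →+* Γ(S, V') := (σ.appLE U' V' e₂).hom
  have hρ : ∀ b, ρ (algebraMap Γ(S, V') Γ(X, U') b) = b := by
    intro b
    have h1 : f.appLE V' U' e₁ ≫ σ.appLE U' V' e₂ = 𝟙 _ := by
      rw [Scheme.Hom.appLE_comp_appLE]
      have : ∀ (g : S ⟶ S) (hg : g = 𝟙 S) (e : V' ≤ g ⁻¹ᵁ V'), g.appLE V' V' e = 𝟙 _ := by
        intro g hg e
        subst hg
        simp only [Scheme.Hom.appLE, Scheme.Hom.id_app]
        exact (Category.id_comp _).trans (S.presheaf.map_id _)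
      exact this _ hσ _
    exact congr($(h1).hom b)
  let m : Ideal Γ(X, U') := (hU'.primeIdealOf ⟨σ z, hxU'⟩).asIdeal
  have hm : RingHom.ker ρ ≤ m := by
    have h1 := IsAffineOpen.comap_primeIdealOf_appLE (f := σ) (x := z) U' hU' V' hV' e₂ hzV'
    intro r hr
    have h2 : (hU'.primeIdealOf ⟨σ z, hxU'⟩).asIdeal =
        ((hV'.primeIdealOf ⟨z, hzV'⟩).comap (σ.appLE U' V' e₂).hom).asIdeal := by
      rw [h1]
    show r ∈ (hU'.primeIdealOf ⟨σ z, hxU'⟩).asIdeal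
    rw [h2]
    show ρ r ∈ (hV'.primeIdealOf ⟨z, hzV'⟩).asIdeal
    rw [RingHom.mem_ker.mp hr]
    exact Ideal.zero_mem _
  obtain ⟨d, y, h, hy, hh, hgen, hreg⟩ :=
    Groth.Agent.Lib.Helper7.SectionRegular.exists_regular_chart Γ(S, V') Γ(X, U') ρ hρ m hm
  -- Step 4: the open `D(h)`
  have hU : IsAffineOpen (X.basicOpen h) := hU'.basicOpen h
  have hUU' : X.basicOpen h ≤ U' := X.basicOpen_le h
  have hxU : σ z ∈ X.basicOpen h := by
    by_contra hcon
    have h1 : σ z ∈ X.zeroLocus ({h} : Set Γ(X, U')) := by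
      rw [Scheme.zeroLocus_singleton]; exact hcon
    rw [Groth.Agent.Lib.Helper7.mem_zeroLocus_iff_le_primeIdealOf hU' _ _ hxU'] at h1
    exact hh (h1 rfl)
  have hloc : IsLocalization.Away h Γ(X, X.basicOpen h) := hU'.isLocalization_basicOpen h
  have hweak : RingTheory.Sequence.IsWeaklyRegular Γ(X, X.basicOpen h)
      ((List.ofFn y).map (algebraMap Γ(X, U') Γ(X, X.basicOpen h))) :=
    (RingTheory.Sequence.isWeaklyRegular_map_algebraMap_iff Γ(X, X.basicOpen h)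
      Γ(X, X.basicOpen h) (List.ofFn y)).mpr (hreg Γ(X, X.basicOpen h))
  -- the open `W = D(ρ h)`
  have hWeq : S.basicOpen (ρ h) = V' ⊓ σ ⁻¹ᵁ (X.basicOpen h) :=
    Scheme.basicOpen_appLE σ V' U' e₂ h
  have eW : S.basicOpen (ρ h) ≤ σ ⁻¹ᵁ (X.basicOpen h) := by rw [hWeq]; exact inf_le_right
  have eW' : σ ⁻¹ᵁ (X.basicOpen h) ≤ S.basicOpen (ρ h) := by
    rw [hWeq]
    refine le_inf (le_trans ?_ e₃) le_rfl
    exact ((Opens.map σ.base).map (homOfLE hUU')).le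
  have hWV' : S.basicOpen (ρ h) ≤ V' := S.basicOpen_le _
  let τ : Γ(X, X.basicOpen h) →+* Γ(S, S.basicOpen (ρ h)) :=
    (σ.appLE (X.basicOpen h) (S.basicOpen (ρ h)) eW).hom
  have hτ : ∀ r : Γ(X, U'), τ (algebraMap Γ(X, U') Γ(X, X.basicOpen h) r) =
      algebraMap Γ(S, V') Γ(S, S.basicOpen (ρ h)) (ρ r) := by
    intro r
    have h1 : X.presheaf.map (homOfLE hUU').op ≫
        σ.appLE (X.basicOpen h) (S.basicOpen (ρ h)) eW =
        σ.appLE U' V' e₂ ≫ S.presheaf.map (homOfLE hWV').op := by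
      rw [Scheme.Hom.map_appLE, Scheme.Hom.appLE_map]
    exact congr($(h1).hom r)
  have hkerτ : RingHom.ker (σ.app (X.basicOpen h)).hom = RingHom.ker τ := by
    ext x
    simp only [RingHom.mem_ker]
    have h1 : τ x = (S.presheaf.map (homOfLE eW).op).hom ((σ.app (X.basicOpen h)).hom x) := rfl
    have h2 : (σ.app (X.basicOpen h)).hom x = (S.presheaf.map (homOfLE eW').op).hom (τ x) := by
      rw [h1]
      have h3 : S.presheaf.map (homOfLE eW).op ≫ S.presheaf.map (homOfLE eW').op = 𝟙 _ := by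
        rw [← Functor.map_comp]
        exact S.presheaf.map_id _
      exact (congr($(h3).hom ((σ.app (X.basicOpen h)).hom x))).symm
    constructor
    · intro hx; rw [h1, hx, map_zero]
    · intro hx; rw [h2, hx, map_zero]
  have hrsmem : ∀ x, x ∈ (List.ofFn y).map (algebraMap Γ(X, U') Γ(X, X.basicOpen h)) ↔
      ∃ i, algebraMap Γ(X, U') Γ(X, X.basicOpen h) (y i) = x := by
    intro x
    rw [List.mem_map]
    constructor
    · rintro ⟨r, hr, rfl⟩
      obtain ⟨i, rfl⟩ := (List.mem_ofFn' _ _).mp hr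
      exact ⟨i, rfl⟩
    · rintro ⟨i, rfl⟩
      exact ⟨y i, (List.mem_ofFn' _ _).mpr ⟨i, rfl⟩, rfl⟩
  have hker : σ.ker.ideal ⟨X.basicOpen h, hU⟩ =
      Ideal.ofList ((List.ofFn y).map (algebraMap Γ(X, U') Γ(X, X.basicOpen h))) := by
    rw [Scheme.Hom.ker_apply, hkerτ]
    apply le_antisymm
    · intro x hx
      rw [RingHom.mem_ker] at hx
      obtain ⟨n, r, hr⟩ := IsLocalization.Away.surj h x
      have h1 : algebraMap Γ(S, V') Γ(S, S.basicOpen (ρ h)) (ρ r) = 0 := by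
        rw [← hτ, ← hr, map_mul, hx, zero_mul]
      have hlocW : IsLocalization.Away (ρ h) Γ(S, S.basicOpen (ρ h)) :=
        hV'.isLocalization_basicOpen (ρ h)
      obtain ⟨k, hk⟩ := IsLocalization.Away.exists_of_eq (ρ h) (h1.trans (map_zero _).symm)
      have h2 : ρ (h ^ k * r) = 0 := by rw [map_mul, map_pow, hk, mul_zero]
      obtain ⟨n', hn'⟩ := hgen _ h2
      have h3 : algebraMap Γ(X, U') Γ(X, X.basicOpen h) (h ^ n' * (h ^ k * r)) ∈
          Ideal.ofList ((List.ofFn y).map (algebraMap Γ(X, U') Γ(X, X.basicOpen h))) := by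
        have h4 := Ideal.mem_map_of_mem (algebraMap Γ(X, U') Γ(X, X.basicOpen h)) hn'
        rw [Ideal.map_span] at h4
        refine Ideal.span_mono ?_ h4
        rintro _ ⟨_, ⟨i, rfl⟩, rfl⟩
        exact (hrsmem _).mpr ⟨i, rfl⟩
      have hunit : IsUnit (algebraMap Γ(X, U') Γ(X, X.basicOpen h) h) :=
        IsLocalization.Away.algebraMap_isUnit h
      rw [map_mul, map_mul, ← mul_assoc, ← hr, map_pow, map_pow, ← pow_add, mul_comm,
        mul_assoc, ← pow_add] at h3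
      exact (Ideal.mul_unit_mem_iff_mem _ (hunit.pow _)).mp h3
    · rw [Ideal.ofList, Ideal.span_le]
      intro x hx
      obtain ⟨i, rfl⟩ := (hrsmem x).mp hx
      rw [SetLike.mem_coe, RingHom.mem_ker, hτ, hy i, map_zero]
  have htop : (⊤ : Submodule Γ(X, X.basicOpen h) Γ(X, X.basicOpen h)) ≠
      Ideal.ofList ((List.ofFn y).map (algebraMap Γ(X, U') Γ(X, X.basicOpen h))) • ⊤ := by
    rw [smul_eq_mul, Ideal.mul_top, ← hker, Scheme.Hom.ker_apply]
    intro hcon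
    have h1 : (1 : Γ(X, X.basicOpen h)) ∈ RingHom.ker (σ.app (X.basicOpen h)).hom :=
      hcon ▸ Submodule.mem_top
    rw [RingHom.mem_ker, map_one] at h1
    have hz : z ∈ σ ⁻¹ᵁ (X.basicOpen h) := hxU
    have : Nontrivial Γ(S, σ ⁻¹ᵁ (X.basicOpen h)) :=
      @Scheme.component_nontrivial S (σ ⁻¹ᵁ (X.basicOpen h)) ⟨⟨z, hz⟩⟩
    exact one_ne_zero h1
  exact ⟨X.basicOpen h, hU, hxU, _, ⟨hweak, htop⟩, hker⟩

end Groth.Agent.S1676
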