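import Groth.Statements.S16762
-- import your own Groth.Agent.* helpers here

set_option autoImplicit false
universe u
open CAlgX

namespace Groth.Agent.S16762

open TensorProduct in
theorem fwd (A A' : Type u) [CommRing A] [CommRing A'] [Algebra A A']
    {M N : Type u} [AddCommGroup M] [Module A M] [AddCommGroup N] [Module A N] (u : M →ₗ[A] N)
    (h : CAlgX.UniversallyInjective A u) : CAlgX.UniversallyInjective A' (u.baseChange A') := by
  intro Q' _ _
  letI : Module A Q' := Module.compHom Q' (algebraMap A A')
  haveI : IsScalarTower A A' Q' := IsScalarTower.of_algebraMap_smul (fun r x => rfl)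
  rw [← LinearMap.lTensor_inj_iff_rTensor_inj]
  have hinj : Function.Injective (u.lTensor Q') :=
    (LinearMap.lTensor_inj_iff_rTensor_inj _ _).2 (h Q')
  let eM := TensorProduct.AlgebraTensorModule.cancelBaseChange A A' A' Q' M
  let eN := TensorProduct.AlgebraTensorModule.cancelBaseChange A A' A' Q' N
  have key : ∀ x, eN ((u.baseChange A').lTensor Q' x) = u.lTensor Q' (eM x) := by
    intro x
    induction x using TensorProduct.induction_on with
    | zero => simp
    | tmul q y =>
      induction y using TensorProduct.induction_on with
      | zero => simp
      | tmul a m => simp [eM, eN]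
      | add y z hy hz => simp only [tmul_add, map_add, hy, hz]
    | add x y hx hy => simp only [map_add, hx, hy]
  intro x y hxy
  apply eM.injective
  apply hinj
  rw [← key, ← key, hxy]

open TensorProduct in
theorem bwd (A A' : Type u) [CommRing A] [CommRing A'] [Algebra A A'] [Module.FaithfullyFlat A A']
    {M N : Type u} [AddCommGroup M] [Module A M] [AddCommGroup N] [Module A N] (u : M →ₗ[A] N)
    (h : CAlgX.UniversallyInjective A' (u.baseChange A')) : CAlgX.UniversallyInjective A u := by
  intro Q _ _
  rw [← Module.FaithfullyFlat.lTensor_injective_iff_injective A A']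
  have hinj := h (A' ⊗[A] Q)
  let dM := TensorProduct.AlgebraTensorModule.distribBaseChange A A' M Q
  let dN := TensorProduct.AlgebraTensorModule.distribBaseChange A A' N Q
  have key : ∀ x, dN ((u.rTensor Q).lTensor A' x) =
      (u.baseChange A').rTensor (A' ⊗[A] Q) (dM x) := by
    intro x
    induction x using TensorProduct.induction_on with
    | zero => simp
    | tmul a y =>
      induction y using TensorProduct.induction_on with
      | zero => simp
      | tmul m q => simp [dM, dN]
      | add y z hy hz => simp only [tmul_add, map_add, hy, hz]
    | add x y hx hy => simp only [map_add, hx, hy]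
  intro x y hxy
  apply dM.injective
  apply hinj
  rw [← key, ← key, hxy]


/-- Let A → A' be faithfully flat and u : M → N a map of A-modules. Then u is universally injective (u ⊗
id_Q injective for every A-module Q) if and only if its base change A' ⊗_A M → A' ⊗_A N is
universally injective as a map of A'-modules. -/
theorem result (A A' : Type u) [CommRing A] [CommRing A']
    [Algebra A A'] [Module.FaithfullyFlat A A'] {M N : Type u} [AddCommGroup M] [Module A M]
    [AddCommGroup N] [Module A N] (u : M →ₗ[A] N) :
    CAlgX.UniversallyInjective A u ↔ CAlgX.UniversallyInjective A' (u.baseChange A') := by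
  exact ⟨fwd A A' u, bwd A A' u⟩

end Groth.Agent.S16762
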