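import Groth.Statements.S16763
import Groth.Agent.Lib.Helper14.SmoothFibreRelScheme
import Groth.Agent.Lib.Helper21.OfComp
import Groth.Agent.Lib.Helper24.FibreClosedImmersion

set_option autoImplicit false
universe u
open Unram17

namespace Groth.Agent.S16763

open AlgebraicGeometry CategoryTheory CategoryTheory.Limits in
/-- Let g : Y → S and h : X → S be locally of finite presentation, f : X → Y an S-morphism (f ≫ g = h),
and x a point of X with image s = h(x) such that h is flat at x. Then f is smooth at x (smooth on an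
open neighbourhood of x) if and only if the induced morphism of fibres X_s → Y_s is smooth at the
point of X_s lying over x. -/
theorem result {X Y S : Scheme.{u}} (g : Y ⟶ S) (h : X ⟶ S)
    [LocallyOfFinitePresentation g] [LocallyOfFinitePresentation h] (f : X ⟶ Y) (w : f ≫ g = h)
    (x : ↥X) (hflat : (h.stalkMap x).hom.Flat)
    (x' : ↥(h.fiber (h x))) (hx' : (h.fiberι (h x)) x' = x) :
    (∃ U : X.Opens, x ∈ U ∧ Smooth (U.ι ≫ f)) ↔
      ∃ V : (h.fiber (h x)).Opens, x' ∈ V ∧ Smooth (V.ι ≫ CohIII.fiberMapOver f h g w (h x)) := by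
  subst w
  have hlfp : LocallyOfFinitePresentation f :=
    Groth.Agent.Lib.Helper21.locallyOfFinitePresentation_of_comp_of_locallyOfFiniteType f g
  have HX := Groth.Agent.Lib.Helper24.isPullback_fiberMapOver f (f ≫ g) g rfl ((f ≫ g) x)
  have HY : IsPullback (g.fiberι ((f ≫ g) x)) (g.fiberToSpecResidueField ((f ≫ g) x)) g
      (S.fromSpecResidueField ((f ≫ g) x)) := IsPullback.of_hasPullback _ _
  have hlfpK : LocallyOfFinitePresentation (CohIII.fiberMapOver f (f ≫ g) g rfl ((f ≫ g) x)) :=
    MorphismProperty.of_isPullback (P := @LocallyOfFinitePresentation) HX hlfp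
  rw [Groth.Agent.Lib.Helper14.exists_smooth_nhd_iff_mem_smoothLocus,
    Groth.Agent.Lib.Helper14.exists_smooth_nhd_iff_mem_smoothLocus]
  constructor
  · intro hx
    exact Groth.Agent.Lib.Helper14.mem_smoothLocus_of_isPullback HX x' (by rw [hx']; exact hx)
  · intro hxs
    exact Groth.Agent.Lib.Helper14.mem_smoothLocus_of_isPullback_field_rel
      (K := S.residueField ((f ≫ g) x)) (Field.toIsField _) HY HX x' x hx' hflat hxs

end Groth.Agent.S16763
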