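import Groth.Statements.S16764
import Mathlib
import Groth.Agent.Lib.Helper24.FibreClosedImmersion
import Groth.Agent.Lib.Helper24.EtaleAtStalk
import Groth.Agent.Lib.Helper21.OfComp

set_option autoImplicit false
universe u
open Unram17

namespace Groth.Agent.S16764

/-- A flat local homomorphism of local rings is injective. -/
theorem injective_of_flat_of_isLocalHom {A B : Type u} [CommRing A] [CommRing B] [IsLocalRing A]
    [IsLocalRing B] (φ : A →+* B) [hloc : IsLocalHom φ] (h : φ.Flat) : Function.Injective φ := by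
  algebraize [φ]
  have : IsLocalHom (algebraMap A B) := hloc
  have : Module.Flat A B := h
  have := Module.FaithfullyFlat.of_flat_of_isLocalHom (A := A) (B := B)
  exact FaithfulSMul.algebraMap_injective A B

open AlgebraicGeometry CategoryTheory CategoryTheory.Limits Groth.Agent.Lib.Helper24 in
set_option backward.isDefEq.respectTransparency.types false in
/-- Core of the fibrewise criterion: under the hypotheses of the statement, `f` is flat at `x`. -/
theorem flat_stalkMap_of_etale_fibre {X Y S : Scheme.{u}} (g : Y ⟶ S) (h : X ⟶ S)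
    [LocallyOfFinitePresentation g] [LocallyOfFinitePresentation h] (f : X ⟶ Y) (w : f ≫ g = h)
    [LocallyOfFiniteType f]
    (s : S) (x' : ↥(h.fiber s)) (hflat : (h.stalkMap (h.fiberι s x')).hom.Flat)
    (V : (h.fiber s).Opens) (hxV : x' ∈ V) (hV : Etale (V.ι ≫ CohIII.fiberMapOver f h g w s))
    (hunr : (f.stalkMap (h.fiberι s x')).hom.FormallyUnramified) :
    (f.stalkMap (h.fiberι s x')).hom.Flat := by
  obtain ⟨R, P, ψ, j, hj, p, hxj, hψ, hp, hw⟩ :=
    exists_affine_closedImmersion_etale_of_formallyUnramified_stalk f (h.fiberι s x') hunr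
  obtain ⟨z, hz⟩ := hxj
  have hicl : IsClosedImmersion (Spec.map ψ) := IsClosedImmersion.spec_of_surjective ψ hψ
  have htZ : Spec.map ψ ≫ p ≫ g = j ≫ h := by
    rw [← Category.assoc, hw, Category.assoc, w]
  have Hj := isPullback_fiberMapOver j (Spec.map ψ ≫ p ≫ g) h htZ.symm s
  obtain ⟨z', hz'1, hz'2⟩ := Scheme.exists_preimage_of_isPullback Hj z x' hz
  subst hz'1
  -- `i` is locally of finite presentation, so `ker ψ` is finitely generated
  have hlfp1 : LocallyOfFinitePresentation (Spec.map ψ ≫ p ≫ g) := by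
    rw [htZ]; infer_instance
  have hifp : LocallyOfFinitePresentation (Spec.map ψ) :=
    Groth.Agent.Lib.Helper21.locallyOfFinitePresentation_of_comp_of_locallyOfFiniteType
      (Spec.map ψ) (p ≫ g)
  have hψfp : ψ.hom.FinitePresentation :=
    (HasRingHomProperty.Spec_iff (P := @LocallyOfFinitePresentation)).mp hifp
  have hkerfg : (RingHom.ker ψ.hom).FG := by
    algebraize [ψ.hom]
    have : Algebra.FinitePresentation P R := hψfp
    exact Algebra.FinitePresentation.ker_fG_of_surjective (Algebra.ofId P R) hψ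
  -- fibre maps
  have Hp := isPullback_fiberMapOver p (p ≫ g) g rfl s
  have hps : Etale (CohIII.fiberMapOver p (p ≫ g) g rfl s) :=
    MorphismProperty.of_isPullback (P := @Etale) Hp hp
  have hjs : IsOpenImmersion (CohIII.fiberMapOver j (Spec.map ψ ≫ p ≫ g) h htZ.symm s) :=
    MorphismProperty.of_isPullback (P := @IsOpenImmersion) Hj hj
  have hcomp : CohIII.fiberMapOver (Spec.map ψ) (Spec.map ψ ≫ p ≫ g) (p ≫ g) rfl s ≫
      CohIII.fiberMapOver p (p ≫ g) g rfl s =
      CohIII.fiberMapOver j (Spec.map ψ ≫ p ≫ g) h htZ.symm s ≫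
        CohIII.fiberMapOver f h g w s := by
    rw [fiberMapOver_comp (Spec.map ψ) p _ _ _ rfl rfl (Category.assoc _ _ _) s,
      fiberMapOver_comp j f _ _ _ htZ.symm w (by rw [Category.assoc, w, htZ]) s]
    exact fiberMapOver_congr hw _ _ _ _ s
  -- the fibre map of `i` is étale near `z'`
  have hz'V : z' ∈ (CohIII.fiberMapOver j (Spec.map ψ ≫ p ≫ g) h htZ.symm s) ⁻¹ᵁ V := by
    change (CohIII.fiberMapOver j (Spec.map ψ ≫ p ≫ g) h htZ.symm s) z' ∈ V
    rw [hz'2]
    exact hxV
  have het1 : Etale ((((CohIII.fiberMapOver j (Spec.map ψ ≫ p ≫ g) h htZ.symm s) ⁻¹ᵁ V).ι ≫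
      CohIII.fiberMapOver (Spec.map ψ) (Spec.map ψ ≫ p ≫ g) (p ≫ g) rfl s) ≫
      CohIII.fiberMapOver p (p ≫ g) g rfl s) := by
    rw [Category.assoc, hcomp, ← morphismRestrict_ι_assoc]
    infer_instance
  have het2 : Etale (((CohIII.fiberMapOver j (Spec.map ψ ≫ p ≫ g) h htZ.symm s) ⁻¹ᵁ V).ι ≫
      CohIII.fiberMapOver (Spec.map ψ) (Spec.map ψ ≫ p ≫ g) (p ≫ g) rfl s) :=
    Etale.of_comp _ (CohIII.fiberMapOver p (p ≫ g) g rfl s)
  have hisflat : ((CohIII.fiberMapOver (Spec.map ψ) (Spec.map ψ ≫ p ≫ g) (p ≫ g) rfl s).stalkMap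
      z').hom.Flat :=
    (stalkMap_ι_comp_iff RingHom.Flat.respectsIso _ _ ⟨z', hz'V⟩).mp (Flat.stalkMap _ _)
  have hisinj : Function.Injective ((CohIII.fiberMapOver (Spec.map ψ) (Spec.map ψ ≫ p ≫ g)
      (p ≫ g) rfl s).stalkMap z').hom :=
    injective_of_flat_of_isLocalHom _ hisflat
  -- the stalk map of `i` at `z` is injective
  have hker := ker_stalkMap_le_map_of_injective_fibre (Spec.map ψ) (p ≫ g) s z' hisinj
  have hfg := ker_stalkMap_SpecMap_fg ψ hψ hkerfg
    ((Spec.map ψ ≫ p ≫ g).fiberι s z')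
  have hsurj : Function.Surjective ((Spec.map ψ).stalkMap ((Spec.map ψ ≫ p ≫ g).fiberι s z')).hom :=
    (Spec.map ψ).stalkMap_surjective _
  have hhj : (h.stalkMap (j ((Spec.map ψ ≫ p ≫ g).fiberι s z'))).hom.Flat := by
    rw [hz]; exact hflat
  have hflat1 : ∀ (u : Spec R ⟶ S), u = j ≫ h →
      (u.stalkMap ((Spec.map ψ ≫ p ≫ g).fiberι s z')).hom.Flat := by
    rintro _ rfl
    rw [Scheme.Hom.stalkMap_comp]
    exact (RingHom.Flat.respectsIso.cancel_right_isIso _ _).mpr hhj
  have hflat2 := hflat1 _ htZ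
  have hinj := stalkMap_injective_of_ker_le_map (Spec.map ψ) (p ≫ g) _ hsurj hfg hflat2 hker
  -- conclude
  have hip : ∀ (u : Spec R ⟶ Y), Spec.map ψ ≫ p = u →
      (u.stalkMap ((Spec.map ψ ≫ p ≫ g).fiberι s z')).hom.Flat := by
    rintro _ rfl
    rw [Scheme.Hom.stalkMap_comp]
    exact RingHom.Flat.comp (Flat.stalkMap p _) (RingHom.Flat.of_bijective ⟨hinj, hsurj⟩)
  have hjf := hip _ hw
  rw [Scheme.Hom.stalkMap_comp] at hjf
  have := (RingHom.Flat.respectsIso.cancel_right_isIso _ _).mp hjf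
  rwa [hz] at this


open AlgebraicGeometry CategoryTheory CategoryTheory.Limits in
/-- Let g : Y → S and h : X → S be locally of finite presentation, f : X → Y an S-morphism (f ≫ g = h),
and x a point of X with image s = h(x) such that h is flat at x. Then f is étale at x (étale on an
open neighbourhood of x) if and only if the induced morphism of fibres X_s → Y_s is étale at the
point of X_s lying over x. -/
theorem result {X Y S : Scheme.{u}} (g : Y ⟶ S) (h : X ⟶ S)
    [LocallyOfFinitePresentation g] [LocallyOfFinitePresentation h] (f : X ⟶ Y) (w : f ≫ g = h)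
    (x : ↥X) (hflat : (h.stalkMap x).hom.Flat)
    (x' : ↥(h.fiber (h x))) (hx' : (h.fiberι (h x)) x' = x) :
    (∃ U : X.Opens, x ∈ U ∧ Etale (U.ι ≫ f)) ↔
      ∃ V : (h.fiber (h x)).Opens, x' ∈ V ∧ Etale (V.ι ≫ CohIII.fiberMapOver f h g w (h x)) := by
  open Groth.Agent.Lib.Helper24 in
  have hfp : LocallyOfFinitePresentation f := by
    have : LocallyOfFinitePresentation (f ≫ g) := by rw [w]; infer_instance
    exact Groth.Agent.Lib.Helper21.locallyOfFinitePresentation_of_comp_of_locallyOfFiniteType f g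
  have H := isPullback_fiberMapOver f h g w (h x)
  constructor
  · rintro ⟨U, hxU, hU⟩
    refine ⟨(h.fiberι (h x)) ⁻¹ᵁ U, ?_, ?_⟩
    · change (h.fiberι (h x)) x' ∈ U
      rw [hx']
      exact hxU
    · exact MorphismProperty.of_isPullback (P := @Etale)
        ((isPullback_morphismRestrict (h.fiberι (h x)) U).paste_vert H) hU
  · rintro ⟨V, hxV, hV⟩
    have hflat' : (h.stalkMap (h.fiberι (h x) x')).hom.Flat := by
      rw [hx']; exact hflat
    have hunr : (f.stalkMap (h.fiberι (h x) x')).hom.FormallyUnramified := by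
      rw [← formallyUnramified_stalkMap_iff_of_isPullback H x']
      exact (formallyUnramified_ι_comp_iff _ V).mp inferInstance x' hxV
    have hfl := flat_stalkMap_of_etale_fibre g h f w (h x) x' hflat' V hxV hV hunr
    obtain ⟨U, hxU, hU⟩ := exists_opens_etale_of_flat_of_formallyUnramified_stalk f _ hfl hunr
    rw [hx'] at hxU
    exact ⟨U, hxU, hU⟩

end Groth.Agent.S16764
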