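import Groth.Statements.S16771
import Mathlib
import Groth.Agent.Lib.Helper70.TranspD
import Groth.Agent.Lib.Helper16.FibreSurj

set_option autoImplicit false
open CategoryTheory MonoidalCategory CartesianMonoidalCategory MonObj GrpObj AlgebraicGeometry
universe u
open SGA3x

namespace Groth.Agent.S16771

/-- Let G be an affine group scheme of finite presentation over a scheme S, Y ⊆ G a closed subscheme
which is finite, flat and of finite presentation over S, and Y' ⊆ G a closed subscheme of finite
presentation over S. Then the transporter of Y into Y' (points g of G such that g y g⁻¹ is a point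
of Y' for every point y of Y after any base change) is representable by a closed subscheme of G of
finite presentation over S. -/
theorem result {S : Scheme.{u}} (G Y Y' : Over S) [GrpObj G]
    (hGa : IsAffineHom G.hom) (hGfp : LocallyOfFinitePresentation G.hom)
    (y : Y ⟶ G) (hy : IsClosedImmersion y.left) (hYf : IsFinite Y.hom) (hYfl : Flat Y.hom)
    (hYfp : LocallyOfFinitePresentation Y.hom)
    (y' : Y' ⟶ G) (hy' : IsClosedImmersion y'.left) (hY'fp : LocallyOfFinitePresentation Y'.hom) :
    ∃ (C : Over S) (c : C ⟶ G), IsClosedImmersion c.left ∧ LocallyOfFinitePresentation C.hom ∧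
      ∀ (X : Over S) (g : X ⟶ G), (∃ z : X ⟶ C, z ≫ c = g) ↔
        ∀ (X' : Over S) (x : X' ⟶ X) (a : X' ⟶ Y), ∃ a' : X' ⟶ Y', (x ≫ g) * (a ≫ y) * (x ≫ g)⁻¹ = a' ≫ y' := by
  have i1 : IsFinite Y.hom := hYf
  have i2 : Flat Y.hom := hYfl
  have i3 : LocallyOfFinitePresentation Y.hom := hYfp
  have i4 : IsClosedImmersion y'.left := hy'
  have i5 : LocallyOfFinitePresentation y'.left := by
    apply Groth.Agent.Lib.Helper16.locallyOfFinitePresentation_of_comp y'.left G.hom
    · rw [Over.w]; exact hY'fp
    · infer_instance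
  obtain ⟨Z, i, hi1, hi2, hi3⟩ := Groth.Agent.Lib.Helper70.TranspD.exists_closed_over
    (G := G) (Y := Y) (X := G) (Y' := Y')
    ((CartesianMonoidalCategory.fst G Y * (CartesianMonoidalCategory.snd G Y ≫ y)) *
      (CartesianMonoidalCategory.fst G Y)⁻¹) y'
  refine ⟨Z, i, hi1, ?_, fun X g => ?_⟩
  · rw [← Over.w i]
    infer_instance
  · rw [hi3 X g]
    have key : ∀ (X' : Over S) (x : X' ⟶ X) (a : X' ⟶ Y),
        CartesianMonoidalCategory.lift (x ≫ g) a ≫
          ((CartesianMonoidalCategory.fst G Y * (CartesianMonoidalCategory.snd G Y ≫ y)) *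
            (CartesianMonoidalCategory.fst G Y)⁻¹) = (x ≫ g) * (a ≫ y) * (x ≫ g)⁻¹ := by
      intro X' x a
      rw [MonObj.comp_mul, MonObj.comp_mul, GrpObj.comp_inv, CartesianMonoidalCategory.lift_fst,
        CartesianMonoidalCategory.lift_snd_assoc]
    constructor
    · intro h X' x a
      obtain ⟨a', ha'⟩ := h X' x a
      exact ⟨a', by rw [← key, ha']⟩
    · intro h X' x a
      obtain ⟨a', ha'⟩ := h X' x a
      exact ⟨a', by rw [key, ha']⟩

end Groth.Agent.S16771
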