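import Groth.Statements.S16772
import Mathlib
import Groth.Agent.Lib.Helper70.FinEqD

set_option autoImplicit false
open CategoryTheory MonoidalCategory CartesianMonoidalCategory MonObj GrpObj AlgebraicGeometry
universe u
open SGA3x

namespace Groth.Agent.S16772

/-- Let G be an affine group scheme of finite presentation over a scheme S and Y ⊆ G a closed subscheme
which is finite, flat and of finite presentation over S. Then the centralizer of Y in G (points of G
commuting with every point of Y after any base change) is representable by a closed subscheme of G. -/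
theorem result {S : Scheme.{u}} (G Y : Over S) [GrpObj G]
    (hGa : IsAffineHom G.hom) (hGfp : LocallyOfFinitePresentation G.hom)
    (y : Y ⟶ G) (hy : IsClosedImmersion y.left) (hYf : IsFinite Y.hom) (hYfl : Flat Y.hom)
    (hYfp : LocallyOfFinitePresentation Y.hom) :
    ∃ (C : Over S) (c : C ⟶ G), IsClosedImmersion c.left ∧
      ∀ (X : Over S) (g : X ⟶ G), (∃ z : X ⟶ C, z ≫ c = g) ↔
        ∀ (X' : Over S) (x : X' ⟶ X) (a : X' ⟶ Y), (x ≫ g) * (a ≫ y) = (a ≫ y) * (x ≫ g) := by
  have := hGa
  have := hGfp
  have := hYf
  have := hYfl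
  have := hYfp
  have : LocallyOfFiniteType G.hom := inferInstance
  obtain ⟨Z, j, h1, -, h3⟩ := Groth.Agent.Lib.Helper70.FinEqD.exists_closed_over
    (G := G) (Y := Y) (X := G) ((fst G Y) * (snd G Y ≫ y)) ((snd G Y ≫ y) * (fst G Y))
  refine ⟨Z, j, h1, fun T g => ?_⟩
  rw [h3 T g]
  constructor
  · intro h T' t b
    have := h T' t b
    rwa [MonObj.comp_mul, MonObj.comp_mul, lift_fst, ← Category.assoc, lift_snd] at this
  · intro h T' t b
    rw [MonObj.comp_mul, MonObj.comp_mul, lift_fst, ← Category.assoc, lift_snd]
    exact h T' t b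

end Groth.Agent.S16772
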