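import Groth.Statements.S16777
import Groth.Agent.Lib.Helper58.EF5

set_option autoImplicit false
open CategoryTheory MonoidalCategory CartesianMonoidalCategory MonObj GrpObj AlgebraicGeometry
universe u
open SGA3x

namespace Groth.Agent.S16777

/-- Let G be an affine group scheme of finite presentation over a scheme S, H ⊆ G a subgroup scheme of
multiplicative type (of finite type) and Y' ⊆ G any closed subscheme of finite presentation over S.
Then the transporter of H into Y' (points g with g h g⁻¹ in Y' for all points h of H after any base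
change) is representable by a closed subscheme of G of finite presentation over S. -/
theorem result {S : Scheme.{u}} (G H Y' : Over S) [GrpObj G] [GrpObj H]
    (hGa : IsAffineHom G.hom) (hGfp : LocallyOfFinitePresentation G.hom)
    (i : H ⟶ G) [IsMonHom i] [Mono i] (hH : SGA3x.IsMultTypeFT H)
    (y' : Y' ⟶ G) (hy' : IsClosedImmersion y'.left) (hY'fp : LocallyOfFinitePresentation Y'.hom) :
    ∃ (C : Over S) (c : C ⟶ G), IsClosedImmersion c.left ∧ LocallyOfFinitePresentation C.hom ∧
      ∀ (X : Over S) (g : X ⟶ G), (∃ z : X ⟶ C, z ≫ c = g) ↔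
        ∀ (X' : Over S) (x : X' ⟶ X) (h : X' ⟶ H), ∃ a' : X' ⟶ Y', (x ≫ g) * (h ≫ i) * (x ≫ g)⁻¹ = a' ≫ y' := by
  classical
  haveI := hy'
  -- the conjugation morphism `(h, g) ↦ g * i(h) * g⁻¹`
  let φ : H ⊗ G ⟶ G := snd H G * (fst H G ≫ i) * (snd H G)⁻¹
  have hφ : ∀ {Y : Over S} (h : Y ⟶ H) (g : Y ⟶ G), lift h g ≫ φ = g * (h ≫ i) * g⁻¹ := by
    intro Y h g
    rw [MonObj.comp_mul, MonObj.comp_mul, GrpObj.comp_inv, ← Category.assoc, lift_fst, lift_snd]
  -- `y'.left` is locally of finite presentation
  haveI : LocallyOfFinitePresentation (y'.left ≫ G.hom) := by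
    rw [Over.w y']
    exact hY'fp
  haveI : LocallyOfFiniteType G.hom := inferInstance
  have hy'fp : LocallyOfFinitePresentation y'.left :=
    Groth.Agent.Lib.Helper21.locallyOfFinitePresentation_of_comp_of_locallyOfFiniteType y'.left G.hom
  obtain ⟨C, c, hc, hWc, hrep⟩ := Groth.Agent.Lib.Helper58.EF5.exists_closed_of_target H G hH φ y'
    @LocallyOfFinitePresentation hy'fp Groth.Agent.Lib.Helper58.EF5.lfp_coeffIdeal
  refine ⟨C, c, hc, ?_, fun X g => ?_⟩
  · rw [← Over.w c]
    haveI := hWc
    infer_instance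
  · rw [hrep]
    refine forall_congr' (fun X' => forall_congr' (fun x => forall_congr' (fun h => ?_)))
    rw [hφ]
    constructor
    · rintro ⟨a, ha⟩
      exact ⟨a, ha.symm⟩
    · rintro ⟨a, ha⟩
      exact ⟨a, ha.symm⟩

end Groth.Agent.S16777
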