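import Groth.Statements.S1678
import Groth.Agent.Lib.Helper7.LiftRegular
import Groth.Agent.Lib.Helper7.AffinePrime

set_option autoImplicit false
universe u
open CategoryTheory CategoryTheory.Limits AlgebraicGeometry TopologicalSpace
open SDiv

namespace Groth.Agent.S1678

/-- Let X ⟶ S be smooth and let i : Y ⟶ X and j : Y ⟶ S be closed immersions with i ≫ (X ⟶ S) = j. If j
is a regular closed immersion then so is i. -/
theorem result {X Y S : Scheme.{u}} (p : X ⟶ S) [Smooth p] (i : Y ⟶ X) (j : Y ⟶ S)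
    [IsClosedImmersion i] [IsClosedImmersion j] (h : i ≫ p = j) (hj : Mor2.IsRegularClosedImmersion j) :
    Mor2.IsRegularClosedImmersion i := by
  subst h
  refine ⟨inferInstance, fun z => ?_⟩
  obtain ⟨-, hj2⟩ := hj
  obtain ⟨V₀, hV₀, hzV₀, as₀, ⟨has₀, -⟩, hker₀⟩ := hj2 z
  -- Step 1: affine opens
  have hx0 : i z ∈ p ⁻¹ᵁ V₀ := hzV₀
  obtain ⟨_, ⟨U₀, hU₀, rfl⟩, hxU₀, hU₀V₀⟩ := X.isBasis_affineOpens.exists_subset_of_mem_open
    hx0 (p ⁻¹ᵁ V₀).2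
  have hU₀V₀' : (U₀ : X.Opens) ≤ p ⁻¹ᵁ V₀ := hU₀V₀
  -- Step 2: shrink
  have hY₀ : IsAffineOpen ((i ≫ p) ⁻¹ᵁ V₀) := hV₀.preimage (i ≫ p)
  have hz1 : z ∈ i ⁻¹ᵁ (U₀ : X.Opens) := hxU₀
  obtain ⟨b, hbU, hzb⟩ := hY₀.exists_basicOpen_le (V := i ⁻¹ᵁ (U₀ : X.Opens)) ⟨z, hz1⟩ hzV₀
  obtain ⟨a, rfl⟩ := (i ≫ p).app_surjective V₀ hV₀ b
  set V' : S.Opens := S.basicOpen a with hV'def
  have hV' : IsAffineOpen V' := hV₀.basicOpen a
  have hYV' : (i ≫ p) ⁻¹ᵁ V' = Y.basicOpen ((i ≫ p).app V₀ a) :=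
    Scheme.preimage_basicOpen (i ≫ p) a
  set U' : X.Opens := X.basicOpen (p.appLE V₀ U₀ hU₀V₀' a) with hU'def
  have hU' : IsAffineOpen U' := hU₀.basicOpen _
  have hU'eq : U' = (U₀ : X.Opens) ⊓ p ⁻¹ᵁ V' := Scheme.basicOpen_appLE p U₀ V₀ hU₀V₀' a
  have e₁ : U' ≤ p ⁻¹ᵁ V' := by rw [hU'eq]; exact inf_le_right
  have hY' : IsAffineOpen ((i ≫ p) ⁻¹ᵁ V') := hV'.preimage (i ≫ p)
  have e₂ : (i ≫ p) ⁻¹ᵁ V' ≤ i ⁻¹ᵁ U' := by
    intro s hs
    show i s ∈ U'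
    rw [hU'eq]
    refine ⟨?_, hs⟩
    have h1 : s ∈ Y.basicOpen ((i ≫ p).app V₀ a) := hYV' ▸ hs
    exact hbU h1
  have e₃ : i ⁻¹ᵁ U' ≤ (i ≫ p) ⁻¹ᵁ V' := by
    intro s hs
    have h1 : i s ∈ U' := hs
    rw [hU'eq] at h1
    exact h1.2
  have hzY' : z ∈ (i ≫ p) ⁻¹ᵁ V' := by rw [hYV']; exact hzb
  have hxU' : i z ∈ U' := e₂ hzY'
  -- Step 3: ring-level data
  letI : Algebra Γ(S, V') Γ(X, U') := (p.appLE V' U' e₁).hom.toAlgebra
  have hsm : Algebra.Smooth Γ(S, V') Γ(X, U') :=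
    HasRingHomProperty.appLE @Smooth p ‹Smooth p› ⟨V', hV'⟩ ⟨U', hU'⟩ e₁
  let ι : Γ(X, U') →+* Γ(Y, (i ≫ p) ⁻¹ᵁ V') := (i.appLE U' ((i ≫ p) ⁻¹ᵁ V') e₂).hom
  let π : Γ(S, V') →+* Γ(Y, (i ≫ p) ⁻¹ᵁ V') := ((i ≫ p).app V').hom
  have hπ : Function.Surjective π := (i ≫ p).app_surjective V' hV'
  have hιπ : ∀ a', ι (algebraMap Γ(S, V') Γ(X, U') a') = π a' := by
    intro a'
    have h1 : p.appLE V' U' e₁ ≫ i.appLE U' ((i ≫ p) ⁻¹ᵁ V') e₂ = (i ≫ p).app V' := by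
      rw [Scheme.Hom.appLE_comp_appLE, Scheme.Hom.app_eq_appLE]
    exact congr($(h1).hom a')
  have hlocV : IsLocalization.Away a Γ(S, V') := hV₀.isLocalization_basicOpen a
  have hkerπ : RingHom.ker π = Ideal.ofList (as₀.map (algebraMap Γ(S, V₀) Γ(S, V'))) := by
    have h1 := (i ≫ p).ker.map_ideal_basicOpen ⟨V₀, hV₀⟩ a
    rw [hker₀, Ideal.map_ofList] at h1
    have h2 : (i ≫ p).ker.ideal (S.affineBasicOpen (U := ⟨V₀, hV₀⟩) a) = RingHom.ker π :=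
      Scheme.Hom.ker_apply (i ≫ p) (S.affineBasicOpen (U := ⟨V₀, hV₀⟩) a)
    rw [← h2, ← h1]
    rfl
  have has' : RingTheory.Sequence.IsWeaklyRegular Γ(S, V')
      (as₀.map (algebraMap Γ(S, V₀) Γ(S, V'))) :=
    has₀.of_isLocalization Γ(S, V') (Submonoid.powers a)
  let m : Ideal Γ(X, U') := (hU'.primeIdealOf ⟨i z, hxU'⟩).asIdeal
  have hm : RingHom.ker ι ≤ m := by
    have h1 := IsAffineOpen.comap_primeIdealOf_appLE (f := i) (x := z) U' hU'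
      ((i ≫ p) ⁻¹ᵁ V') hY' e₂ hzY'
    intro r hr
    have h2 : (hU'.primeIdealOf ⟨i z, hxU'⟩).asIdeal =
        ((hY'.primeIdealOf ⟨z, hzY'⟩).comap (i.appLE U' ((i ≫ p) ⁻¹ᵁ V') e₂).hom).asIdeal := by
      rw [h1]
    show r ∈ (hU'.primeIdealOf ⟨i z, hxU'⟩).asIdeal
    rw [h2]
    show ι r ∈ (hY'.primeIdealOf ⟨z, hzY'⟩).asIdeal
    rw [RingHom.mem_ker.mp hr]
    exact Ideal.zero_mem _
  obtain ⟨d, y, g, hy, hg, hgen, hreg⟩ :=
    Groth.Agent.Lib.Helper7.LiftRegular.exists_regular_chart_of_lift Γ(S, V') Γ(X, U')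
      Γ(Y, (i ≫ p) ⁻¹ᵁ V') ι π hπ hιπ _ hkerπ has' m hm
  have hι0 : ∀ r ∈ (as₀.map (algebraMap Γ(S, V₀) Γ(S, V'))).map
      (algebraMap Γ(S, V') Γ(X, U')) ++ List.ofFn y, ι r = 0 := by
    intro r hr
    rcases List.mem_append.mp hr with hr | hr
    · obtain ⟨a', ha', rfl⟩ := List.mem_map.mp hr
      rw [hιπ, ← RingHom.mem_ker, hkerπ]
      exact Ideal.subset_span ha'
    · obtain ⟨k, rfl⟩ := (List.mem_ofFn' _ _).mp hr
      exact hy k
  -- Step 4: the open `D(g)`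
  have hU : IsAffineOpen (X.basicOpen g) := hU'.basicOpen g
  have hUU' : X.basicOpen g ≤ U' := X.basicOpen_le g
  have hxU : i z ∈ X.basicOpen g := by
    by_contra hcon
    have h1 : i z ∈ X.zeroLocus ({g} : Set Γ(X, U')) := by
      rw [Scheme.zeroLocus_singleton]; exact hcon
    rw [Groth.Agent.Lib.Helper7.mem_zeroLocus_iff_le_primeIdealOf hU' _ _ hxU'] at h1
    exact hg (h1 rfl)
  have hloc : IsLocalization.Away g Γ(X, X.basicOpen g) := hU'.isLocalization_basicOpen g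
  have hweak : RingTheory.Sequence.IsWeaklyRegular Γ(X, X.basicOpen g)
      (((as₀.map (algebraMap Γ(S, V₀) Γ(S, V'))).map
        (algebraMap Γ(S, V') Γ(X, U')) ++ List.ofFn y).map
          (algebraMap Γ(X, U') Γ(X, X.basicOpen g))) :=
    (RingTheory.Sequence.isWeaklyRegular_map_algebraMap_iff Γ(X, X.basicOpen g)
      Γ(X, X.basicOpen g) _).mpr (hreg Γ(X, X.basicOpen g))
  -- the open `W = D(ι g)`
  have hWeq : Y.basicOpen (ι g) = (i ≫ p) ⁻¹ᵁ V' ⊓ i ⁻¹ᵁ (X.basicOpen g) :=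
    Scheme.basicOpen_appLE i ((i ≫ p) ⁻¹ᵁ V') U' e₂ g
  have eW : Y.basicOpen (ι g) ≤ i ⁻¹ᵁ (X.basicOpen g) := by rw [hWeq]; exact inf_le_right
  have eW' : i ⁻¹ᵁ (X.basicOpen g) ≤ Y.basicOpen (ι g) := by
    rw [hWeq]
    refine le_inf (le_trans ?_ e₃) le_rfl
    exact ((Opens.map i.base).map (homOfLE hUU')).le
  have hWV' : Y.basicOpen (ι g) ≤ (i ≫ p) ⁻¹ᵁ V' := Y.basicOpen_le _
  let τ : Γ(X, X.basicOpen g) →+* Γ(Y, Y.basicOpen (ι g)) :=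
    (i.appLE (X.basicOpen g) (Y.basicOpen (ι g)) eW).hom
  have hτ : ∀ r : Γ(X, U'), τ (algebraMap Γ(X, U') Γ(X, X.basicOpen g) r) =
      algebraMap Γ(Y, (i ≫ p) ⁻¹ᵁ V') Γ(Y, Y.basicOpen (ι g)) (ι r) := by
    intro r
    have h1 : X.presheaf.map (homOfLE hUU').op ≫
        i.appLE (X.basicOpen g) (Y.basicOpen (ι g)) eW =
        i.appLE U' ((i ≫ p) ⁻¹ᵁ V') e₂ ≫ Y.presheaf.map (homOfLE hWV').op := by
      rw [Scheme.Hom.map_appLE, Scheme.Hom.appLE_map]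
    exact congr($(h1).hom r)
  have hkerτ : RingHom.ker (i.app (X.basicOpen g)).hom = RingHom.ker τ := by
    ext x
    simp only [RingHom.mem_ker]
    have h1 : τ x = (Y.presheaf.map (homOfLE eW).op).hom ((i.app (X.basicOpen g)).hom x) := rfl
    have h2 : (i.app (X.basicOpen g)).hom x = (Y.presheaf.map (homOfLE eW').op).hom (τ x) := by
      rw [h1]
      have h3 : Y.presheaf.map (homOfLE eW).op ≫ Y.presheaf.map (homOfLE eW').op = 𝟙 _ := by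
        rw [← Functor.map_comp]
        exact Y.presheaf.map_id _
      exact (congr($(h3).hom ((i.app (X.basicOpen g)).hom x))).symm
    constructor
    · intro hx; rw [h1, hx, map_zero]
    · intro hx; rw [h2, hx, map_zero]
  have hker : i.ker.ideal ⟨X.basicOpen g, hU⟩ =
      Ideal.ofList (((as₀.map (algebraMap Γ(S, V₀) Γ(S, V'))).map
        (algebraMap Γ(S, V') Γ(X, U')) ++ List.ofFn y).map
          (algebraMap Γ(X, U') Γ(X, X.basicOpen g))) := by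
    rw [Scheme.Hom.ker_apply, hkerτ]
    apply le_antisymm
    · intro x hx
      rw [RingHom.mem_ker] at hx
      obtain ⟨n, r, hr⟩ := IsLocalization.Away.surj g x
      have h1 : algebraMap Γ(Y, (i ≫ p) ⁻¹ᵁ V') Γ(Y, Y.basicOpen (ι g)) (ι r) = 0 := by
        rw [← hτ, ← hr, map_mul, hx, zero_mul]
      have hlocW : IsLocalization.Away (ι g) Γ(Y, Y.basicOpen (ι g)) :=
        hY'.isLocalization_basicOpen (ι g)
      obtain ⟨k, hk⟩ := IsLocalization.Away.exists_of_eq (ι g) (h1.trans (map_zero _).symm)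
      have h2 : ι (g ^ k * r) = 0 := by rw [map_mul, map_pow, hk, mul_zero]
      obtain ⟨n', hn'⟩ := hgen _ h2
      have h3 : algebraMap Γ(X, U') Γ(X, X.basicOpen g) (g ^ n' * (g ^ k * r)) ∈
          Ideal.ofList (((as₀.map (algebraMap Γ(S, V₀) Γ(S, V'))).map
            (algebraMap Γ(S, V') Γ(X, U')) ++ List.ofFn y).map
              (algebraMap Γ(X, U') Γ(X, X.basicOpen g))) := by
        have h4 := Ideal.mem_map_of_mem (algebraMap Γ(X, U') Γ(X, X.basicOpen g)) hn'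
        rwa [Ideal.map_ofList] at h4
      have hunit : IsUnit (algebraMap Γ(X, U') Γ(X, X.basicOpen g) g) :=
        IsLocalization.Away.algebraMap_isUnit g
      rw [map_mul, map_mul, ← mul_assoc, ← hr, map_pow, map_pow, ← pow_add, mul_comm,
        mul_assoc, ← pow_add] at h3
      exact (Ideal.mul_unit_mem_iff_mem _ (hunit.pow _)).mp h3
    · rw [Ideal.ofList, Ideal.span_le]
      intro x hx
      obtain ⟨r, hr, rfl⟩ := List.mem_map.mp hx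
      rw [SetLike.mem_coe, RingHom.mem_ker, hτ, hι0 r hr, map_zero]
  have htop : (⊤ : Submodule Γ(X, X.basicOpen g) Γ(X, X.basicOpen g)) ≠
      Ideal.ofList (((as₀.map (algebraMap Γ(S, V₀) Γ(S, V'))).map
        (algebraMap Γ(S, V') Γ(X, U')) ++ List.ofFn y).map
          (algebraMap Γ(X, U') Γ(X, X.basicOpen g))) • ⊤ := by
    rw [smul_eq_mul, Ideal.mul_top, ← hker, Scheme.Hom.ker_apply]
    intro hcon
    have h1 : (1 : Γ(X, X.basicOpen g)) ∈ RingHom.ker (i.app (X.basicOpen g)).hom :=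
      hcon ▸ Submodule.mem_top
    rw [RingHom.mem_ker, map_one] at h1
    have hz : z ∈ i ⁻¹ᵁ (X.basicOpen g) := hxU
    have : Nontrivial Γ(Y, i ⁻¹ᵁ (X.basicOpen g)) :=
      @Scheme.component_nontrivial Y (i ⁻¹ᵁ (X.basicOpen g)) ⟨⟨z, hz⟩⟩
    exact one_ne_zero h1
  exact ⟨X.basicOpen g, hU, hxU, _, ⟨hweak, htop⟩, hker⟩

end Groth.Agent.S1678
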