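import Groth.Statements.S16794
import Mathlib
import Groth.Agent.Lib.Helper75.Hochschild

set_option autoImplicit false
universe v u
open PCurv

namespace Groth.Agent.S16794

open TensorProduct Groth.Agent.Lib.Helper75.Hochschild

section Aux

variable {A : Type v} {B M : Type u} [CommRing A] [CommRing B] [Algebra A B]
  [AddCommGroup M] [Module B M] [Module A M] [IsScalarTower A B M]

/-- The covariant derivative along `θ` satisfies the Leibniz rule. -/
theorem alongDer_smul (nabla : M →ₗ[A] M ⊗[B] KaehlerDifferential A B)
    (hc : Conn.IsConn (KaehlerDifferential.D A B) nabla) (θ : Derivation A B B) (b : B) (m : M) :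
    Conn.alongDer nabla θ (b • m) = b • Conn.alongDer nabla θ m + θ b • m := by
  unfold Conn.alongDer
  rw [Conn.along_apply, Conn.along_apply, hc b m, map_add, map_add, map_smul, map_smul,
    TensorProduct.map_tmul, TensorProduct.rid_tmul, Derivation.liftKaehlerDifferential_comp_D,
    LinearMap.id_apply]

/-- The covariant derivative is `B`-linear in the derivation. -/
theorem alongDer_lin (nabla : M →ₗ[A] M ⊗[B] KaehlerDifferential A B) (a b : B)
    (θ₁ θ₂ : Derivation A B B) (m : M) :
    Conn.alongDer nabla (a • θ₁ + b • θ₂) m =
      a • Conn.alongDer nabla θ₁ m + b • Conn.alongDer nabla θ₂ m := by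
  have h : (a • θ₁ + b • θ₂).liftKaehlerDifferential =
      a • θ₁.liftKaehlerDifferential + b • θ₂.liftKaehlerDifferential := by
    have := map_add (KaehlerDifferential.linearMapEquivDerivation A B).symm (a • θ₁) (b • θ₂)
    rw [map_smul, map_smul] at this
    exact this
  unfold Conn.alongDer
  rw [Conn.along_apply, Conn.along_apply, Conn.along_apply, h, TensorProduct.map_add_right,
    TensorProduct.map_smul_right, TensorProduct.map_smul_right, LinearMap.add_apply, map_add,
    LinearMap.smul_apply, LinearMap.smul_apply, map_smul, map_smul]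

end Aux

open TensorProduct in
/-- Let p be a prime number and B a commutative algebra of characteristic p over a commutative ring A
whose module Ω of Kähler differentials over A is free of rank one on a form ω; let θ₀ be the
A-derivation of B dual to ω (its B-linear functional Ω → B takes the value 1 on ω), and let ∇ be a
connection on a finite free B-module M. Then the p-curvature of ∇ vanishes identically — for every
A-derivation θ of B and every derivation θ' that agrees with the p-fold iterate of θ, the
endomorphism (∇_θ)^p − ∇_{θ'} of M is zero — if and only if it vanishes for the single derivation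
θ₀. -/
theorem result {A : Type v} {B M : Type u} [CommRing A] [CommRing B]
    [Algebra A B] (p : ℕ) [Fact p.Prime] [CharP B p]
    [AddCommGroup M] [Module B M] [Module A M] [IsScalarTower A B M] [Module.Finite B M] [Module.Free B M]
    (bΩ : Module.Basis (Fin 1) B (KaehlerDifferential A B)) (θ₀ : Derivation A B B)
    (hθ₀ : θ₀.liftKaehlerDifferential (bΩ 0) = 1)
    (nabla : M →ₗ[A] M ⊗[B] KaehlerDifferential A B)
    (hc : Conn.IsConn (KaehlerDifferential.D A B) nabla) :
    (∀ θ θp : Derivation A B B, Conn.IsIterPow θ p θp → Conn.pCurv p nabla θ θp = 0) ↔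
      (∀ θp : Derivation A B B, Conn.IsIterPow θ₀ p θp → Conn.pCurv p nabla θ₀ θp = 0) := by
  classical
  constructor
  · intro h θp hθp
    exact h θ₀ θp hθp
  · intro h θ θp hθp
    have hpB : ((p : ℕ) : B) = 0 := CharP.cast_eq_zero B p
    let D : Derivation ℤ B B := θ₀.restrictScalars ℤ
    have hD : ∀ b, D b = θ₀ b := fun b => rfl
    -- the `p`-th iterate of `θ₀` as a derivation
    let θ₀p : Derivation A B B := Derivation.mk' ((θ₀ : B →ₗ[A] B) ^ p) (by
      intro a b
      rw [Module.End.pow_apply, Module.End.pow_apply, Module.End.pow_apply]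
      have := derivation_iterate_leibniz p hpB D a b
      rw [smul_eq_mul, smul_eq_mul, mul_comm b, add_comm]
      exact this)
    have hθ₀p : Conn.IsIterPow θ₀ p θ₀p := by
      intro b
      change ((θ₀ : B →ₗ[A] B) ^ p) b = _
      rw [Module.End.pow_apply]
      rfl
    have h0 := h θ₀p hθ₀p
    -- `θ = f • θ₀`
    set f : B := θ.liftKaehlerDifferential (bΩ 0) with hf
    have hθ : θ = f • θ₀ := by
      apply (KaehlerDifferential.linearMapEquivDerivation A B).symm.injective
      rw [map_smul]
      change θ.liftKaehlerDifferential = f • θ₀.liftKaehlerDifferential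
      apply bΩ.ext
      intro i
      rw [Subsingleton.elim i 0, LinearMap.smul_apply, hθ₀, smul_eq_mul, mul_one]
    -- the formula in `End_A(M)`
    let ιM : B →+* Module.End A M := Module.toModuleEnd A (S := B) M
    have hιM : ∀ b m, ιM b m = b • m := fun b m => rfl
    set yM : Module.End A M := Conn.alongDer nabla θ₀ with hyM
    have hrelM : ∀ b, yM * ιM b = ιM b * yM + ιM (D b) := by
      intro b
      ext m
      rw [LinearMap.add_apply, Module.End.mul_apply, Module.End.mul_apply, hιM, hιM, hιM, hyM,
        alongDer_smul nabla hc θ₀ b m]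
      rfl
    have hM := hochschild_deligne D f p hpB ιM yM hrelM
    -- the formula in `End_A(B)`
    let ιB : B →+* Module.End A B := Module.toModuleEnd A (S := B) B
    have hιB : ∀ b x, ιB b x = b * x := fun b x => rfl
    set yB : Module.End A B := (θ₀ : B →ₗ[A] B) with hyB
    have hrelB : ∀ b, yB * ιB b = ιB b * yB + ιB (D b) := by
      intro b
      ext x
      rw [LinearMap.add_apply, Module.End.mul_apply, Module.End.mul_apply, hιB, hιB, hιB, hyB]
      change θ₀ (b * x) = b * θ₀ x + θ₀ b * x
      rw [Derivation.leibniz, smul_eq_mul, smul_eq_mul, mul_comm x]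
    have hB := hochschild_deligne D f p hpB ιB yB hrelB
    set c : B := (Q D f p).coeff 1 with hc'
    -- `θp = f^p • θ₀p + c • θ₀`
    have hθB : (θ : B →ₗ[A] B) = ιB f * yB := by
      ext x
      rw [Module.End.mul_apply, hιB, hyB, hθ]
      rfl
    have hθp : θp = f ^ p • θ₀p + c • θ₀ := by
      ext b
      rw [hθp b]
      change (⇑(θ : B →ₗ[A] B))^[p] b = _
      rw [← Module.End.pow_apply (θ : B →ₗ[A] B), hθB, hB, LinearMap.add_apply,
        Module.End.mul_apply, Module.End.mul_apply, hιB, hιB]
      rfl
    -- `∇_θ = f ∇_{θ₀}`
    have hθM : Conn.alongDer nabla θ = ιM f * yM := by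
      ext m
      rw [Module.End.mul_apply, hιM, hyM]
      have := alongDer_lin nabla f 0 θ₀ θ₀ m
      rw [zero_smul, zero_smul, add_zero, add_zero] at this
      rw [hθ]
      exact this
    have hθpM : Conn.alongDer nabla θp = ιM (f ^ p) * Conn.alongDer nabla θ₀p + ιM c * yM := by
      ext m
      rw [hθp, alongDer_lin, LinearMap.add_apply, Module.End.mul_apply, Module.End.mul_apply,
        hιM, hιM]
    have h0' : yM ^ p = Conn.alongDer nabla θ₀p := by
      have : yM ^ p - Conn.alongDer nabla θ₀p = 0 := h0
      exact sub_eq_zero.mp this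
    unfold Conn.pCurv
    rw [hθM, hM, hθpM, h0', sub_self]

end Groth.Agent.S16794
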