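import Groth.Statements.S16806
import Groth.Agent.Lib.Helper66.ResGerbe3

set_option autoImplicit false
universe u
open CategoryTheory AlgebraicGeometry
open Gerb

namespace Groth.Agent.S16806

/-- An algebraic stack 𝒵 is reduced, locally Noetherian and has exactly one point if and only if it
receives a locally finitely presented, surjective, flat morphism from the spectrum of a field. -/
theorem result
    (S : Scheme.{u}) (𝒵 : AlgSt.Cat S) (h𝒵 : AlgSt.IsAlgStack Scheme.fppfPrecoverage 𝒵) :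
    (AlgSt.SmoothLocally (fun T => IsReduced T) 𝒵 ∧ AlgSt.SmoothLocally (fun T => IsLocallyNoetherian T) 𝒵 ∧
        Nonempty (AlgSt.Points 𝒵) ∧ Subsingleton (AlgSt.Points 𝒵)) ↔
      ∃ (k : Type u) (_ : Field k) (a : Spec (CommRingCat.of k) ⟶ S)
        (z : FibCat.overCat (Over.mk a) ⥤ᵇ 𝒵), AlgSt.RepByAlgSpWith (AlgSp.LocP @LocallyOfFinitePresentation) z ∧
          AlgSt.RepByAlgSpWith AlgSp.IsSurjectiveMor z ∧ AlgSt.RepByAlgSpWith (AlgSp.LocP @Flat) z := by
  constructor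
  · rintro ⟨hred, hN, hne, hsub⟩
    obtain ⟨k, hk, a, z, hzs, hzf⟩ :=
      Groth.Agent.Lib.Helper66.ResGerbe.exists_flat_fieldPt_of_reduced h𝒵 hred hne hsub
    obtain ⟨k', hk', a', z', hzt', hzs', hzf'⟩ :=
      Groth.Agent.Lib.Helper66.ResGerbe.exists_lft_fieldPt h𝒵 a z hzs hzf
    exact ⟨k', hk', a', z',
      Groth.Agent.Lib.Helper66.ResGerbe.repByAlgSpWith_lfp_of_lft_of_noeth
        (Groth.Agent.Lib.Helper65.isAlgStack_overCat _) h𝒵 hN z' hzt', hzs', hzf'⟩
  · rintro ⟨k, _, a, z, hzp, hzs, hzf⟩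
    exact ⟨Groth.Agent.Lib.Helper66.ResGerbe.reduced_of_fieldPt h𝒵 a z hzs hzf,
      Groth.Agent.Lib.Helper66.ResGerbe.noeth_of_fieldPt h𝒵 a z hzs hzf hzp,
      Groth.Agent.Lib.Helper66.ResGerbe.singleton_of_fieldPt h𝒵 a z hzs⟩

end Groth.Agent.S16806
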