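import Groth.Statements.S16808
import Groth.Agent.Lib.Helper65.FieldImg

set_option autoImplicit false
universe u
open CategoryTheory AlgebraicGeometry
open Gerb

namespace Groth.Agent.S16808

/-- Let the algebraic stack 𝒵 receive a surjective flat morphism from the spectrum of a field. Then
there is a unique strictly full subcategory of 𝒵 which is an algebraic stack receiving a locally
finitely presented, surjective, flat morphism from the spectrum of a field; its inclusion into 𝒵 is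
a monomorphism. -/
theorem result
    (S : Scheme.{u}) (𝒵 : AlgSt.Cat S) (h𝒵 : AlgSt.IsAlgStack Scheme.fppfPrecoverage 𝒵)
    (k : Type u) [Field k] (a : Spec (CommRingCat.of k) ⟶ S)
    (z : FibCat.overCat (Over.mk a) ⥤ᵇ 𝒵)
    (hzs : AlgSt.RepByAlgSpWith AlgSp.IsSurjectiveMor z) (hzf : AlgSt.RepByAlgSpWith (AlgSp.LocP @Flat) z) :
    ∃ Q : 𝒵.obj → Prop,
      (ObjectProperty.IsClosedUnderIsomorphisms Q ∧ AlgSt.IsAlgStack Scheme.fppfPrecoverage (AlgSt.fullSub 𝒵 Q) ∧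
        (∃ (k' : Type u) (_ : Field k') (a' : Spec (CommRingCat.of k') ⟶ S)
          (z' : FibCat.overCat (Over.mk a') ⥤ᵇ AlgSt.fullSub 𝒵 Q),
          AlgSt.RepByAlgSpWith (AlgSp.LocP @LocallyOfFinitePresentation) z' ∧
            AlgSt.RepByAlgSpWith AlgSp.IsSurjectiveMor z' ∧ AlgSt.RepByAlgSpWith (AlgSp.LocP @Flat) z') ∧
        AlgSt.IsMono (AlgSt.subIncl 𝒵 Q)) ∧
      ∀ Q' : 𝒵.obj → Prop, ObjectProperty.IsClosedUnderIsomorphisms Q' → AlgSt.IsAlgStack Scheme.fppfPrecoverage (AlgSt.fullSub 𝒵 Q') →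
        (∃ (k' : Type u) (_ : Field k') (a' : Spec (CommRingCat.of k') ⟶ S)
          (z' : FibCat.overCat (Over.mk a') ⥤ᵇ AlgSt.fullSub 𝒵 Q'),
          AlgSt.RepByAlgSpWith (AlgSp.LocP @LocallyOfFinitePresentation) z' ∧
            AlgSt.RepByAlgSpWith AlgSp.IsSurjectiveMor z' ∧ AlgSt.RepByAlgSpWith (AlgSp.LocP @Flat) z') →
        ∀ ξ : 𝒵.obj, Q' ξ ↔ Q ξ := by
  obtain ⟨k', hk', a', z', hzt', hzs', hzf'⟩ :=
    Groth.Agent.Lib.Helper66.ResGerbe.exists_lft_fieldPt h𝒵 a z hzs hzf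
  obtain ⟨h1, h2, h3, h4, h5, h6⟩ := Groth.Agent.Lib.Helper65.FieldImg.main h𝒵 a' z' hzs' hzf' hzt'
  refine ⟨Groth.Agent.Lib.Helper65.FieldImg.Q z',
    ⟨h1, h2, ⟨k', hk', a', Groth.Agent.Lib.Helper65.FieldImg.lift z', h3, h4, h5⟩, h6⟩, ?_⟩
  rintro Q' hQ'i hQ'alg ⟨k'', hk'', a'', z'', hp'', hs'', hf''⟩ ξ
  obtain ⟨⟨x⟩, hsub⟩ := Groth.Agent.Lib.Helper66.ResGerbe.singleton_of_fieldPt h𝒵 a z hzs
  have hres : ∀ (Q₁ : 𝒵.obj → Prop), ObjectProperty.IsClosedUnderIsomorphisms Q₁ →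
      ∀ (halg : AlgSt.IsAlgStack Scheme.fppfPrecoverage (AlgSt.fullSub 𝒵 Q₁))
      (k₁ : Type u) (_ : Field k₁) (a₁ : Spec (CommRingCat.of k₁) ⟶ S)
      (z₁ : FibCat.overCat (Over.mk a₁) ⥤ᵇ AlgSt.fullSub 𝒵 Q₁),
      AlgSt.RepByAlgSpWith (AlgSp.LocP @LocallyOfFinitePresentation) z₁ →
      AlgSt.RepByAlgSpWith AlgSp.IsSurjectiveMor z₁ → AlgSt.RepByAlgSpWith (AlgSp.LocP @Flat) z₁ →
      Gerb.IsResGerbe Scheme.fppfPrecoverage 𝒵 x Q₁ := by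
    intro Q₁ hi halg k₁ _ a₁ z₁ hp hs hf
    exact ⟨hi, halg, Groth.Agent.Lib.Helper66.ResGerbe.reduced_of_fieldPt halg a₁ z₁ hs hf,
      Groth.Agent.Lib.Helper66.ResGerbe.noeth_of_fieldPt halg a₁ z₁ hs hf hp,
      (Groth.Agent.Lib.Helper66.ResGerbe.singleton_of_fieldPt halg a₁ z₁ hs).1,
      (Groth.Agent.Lib.Helper66.ResGerbe.singleton_of_fieldPt halg a₁ z₁ hs).2,
      fun _ => Subsingleton.elim _ _⟩
  have hQ := hres _ h1 h2 k' hk' a' (Groth.Agent.Lib.Helper65.FieldImg.lift z') h3 h4 h5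
  have hQ' := hres Q' hQ'i hQ'alg k'' hk'' a'' z'' hp'' hs'' hf''
  have hx : AlgSt.Points.map (BasedFunctor.id 𝒵) x = x := Groth.Agent.Lib.Helper65.points_map_id x
  constructor
  · intro h
    exact Groth.Agent.Lib.Helper66.ResGerbe.prop_map_of_isResGerbe h𝒵 h𝒵 (BasedFunctor.id 𝒵) x Q' hQ'
      _ (by rw [hx]; exact hQ) ξ h
  · intro h
    exact Groth.Agent.Lib.Helper66.ResGerbe.prop_map_of_isResGerbe h𝒵 h𝒵 (BasedFunctor.id 𝒵) x _ hQ
      Q' (by rw [hx]; exact hQ') ξ h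

end Groth.Agent.S16808
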