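import Groth.Statements.S16809
import Groth.Agent.Lib.Helper65.RedSubSt
import Groth.Agent.Lib.Helper65.MonoProps
import Groth.Agent.Lib.Helper65.StMono
import Groth.Agent.Lib.Helper66.ResGerbe3

set_option autoImplicit false
universe u
open CategoryTheory AlgebraicGeometry
open Gerb

namespace Groth.Agent.S16809

/-- (1)⇔(2)⇔(3): for a point x of an algebraic stack 𝒳 the following are equivalent: some algebraic
stack with exactly one point maps monomorphically to 𝒳 onto x; some reduced algebraic stack with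
exactly one point does; some algebraic stack 𝒵 with a monomorphism f : 𝒵 → 𝒳 receives a surjective
flat morphism z from the spectrum of a field with f(z) = x. -/
theorem result
    (S : Scheme.{u}) (𝒳 : AlgSt.Cat S) (h𝒳 : AlgSt.IsAlgStack Scheme.fppfPrecoverage 𝒳) (x : AlgSt.Points 𝒳) :
    [Gerb.ResGerbeExists Scheme.fppfPrecoverage 𝒳 x,
      ∃ (𝒵 : AlgSt.Cat S) (f : 𝒵 ⥤ᵇ 𝒳), AlgSt.IsAlgStack Scheme.fppfPrecoverage 𝒵 ∧
        AlgSt.SmoothLocally (fun T => IsReduced T) 𝒵 ∧ AlgSt.IsMono f ∧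
        Nonempty (AlgSt.Points 𝒵) ∧ Subsingleton (AlgSt.Points 𝒵) ∧ ∀ p, AlgSt.Points.map f p = x,
      ∃ (𝒵 : AlgSt.Cat S) (f : 𝒵 ⥤ᵇ 𝒳) (k : Type u) (_ : Field k) (a : Spec (CommRingCat.of k) ⟶ S)
        (z : FibCat.overCat (Over.mk a) ⥤ᵇ 𝒵), AlgSt.IsAlgStack Scheme.fppfPrecoverage 𝒵 ∧ AlgSt.IsMono f ∧
        AlgSt.RepByAlgSpWith AlgSp.IsSurjectiveMor z ∧ AlgSt.RepByAlgSpWith (AlgSp.LocP @Flat) z ∧
        ∀ t : ↥(Over.mk a).left, AlgSt.Points.map f (AlgSt.Points.ofChart z t) = x].TFAE := by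
  tfae_have 1 → 2 := by
    rintro ⟨𝒵, i, h𝒵, hi, hne, hsub, hall⟩
    obtain ⟨U₀, u, hu1, hu2⟩ := h𝒵.atlas
    let E : TopologicalSpace.Closeds ↥U₀.left :=
      ⟨AlgSt.Points.ofChart u ⁻¹' Set.univ, by rw [Set.preimage_univ]; exact isClosed_univ⟩
    obtain ⟨hcs, hrange, hred⟩ := Groth.Agent.Lib.Helper65.RedSubSt.main u E h𝒵 hu1 hu2 Set.univ rfl
    have halg := hcs.2.1
    have hm1 : AlgSt.IsMono (AlgSt.subIncl 𝒵 (Groth.Agent.Lib.Helper65.RedSubSt.QE u E)) :=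
      Groth.Agent.Lib.Helper66.MonoOfFull.isMono_of_full_faithful halg h𝒵 _
    have hm : AlgSt.IsMono (BasedFunctor.comp
        (AlgSt.subIncl 𝒵 (Groth.Agent.Lib.Helper65.RedSubSt.QE u E)) i) :=
      Groth.Agent.Lib.Helper65.repByAlgSpWith_comp _ Groth.Agent.Lib.Helper65.stableBC_mono
        Groth.Agent.Lib.Helper65.stableComp_mono Groth.Agent.Lib.Helper65.isLocalOnBase_fppf_mono
        halg.isStack.1 h𝒵.isStack.1 _ i hm1 hi
    have hinj := Groth.Agent.Lib.Helper65.points_map_injective_of_isMono halg.isStack.1 h𝒵.isStack.1 _ hm1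
    refine ⟨AlgSt.fullSub 𝒵 (Groth.Agent.Lib.Helper65.RedSubSt.QE u E), _, halg, hred, hm, ?_, ?_, ?_⟩
    · obtain ⟨p⟩ := hne
      have hp : p ∈ Set.range (AlgSt.Points.map
          (AlgSt.subIncl 𝒵 (Groth.Agent.Lib.Helper65.RedSubSt.QE u E))) := by
        rw [hrange]; trivial
      obtain ⟨p', -⟩ := hp
      exact ⟨p'⟩
    · constructor
      intro a b
      apply hinj
      exact Subsingleton.elim _ _
    · intro p
      rw [Groth.Agent.Lib.Helper65.points_map_comp]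
      exact hall _
  tfae_have 2 → 3 := by
    rintro ⟨𝒵, f, h𝒵, hred, hf, hne, hsub, hall⟩
    obtain ⟨k, hk, a, z, hzs, hzf⟩ :=
      Groth.Agent.Lib.Helper66.ResGerbe.exists_flat_fieldPt_of_reduced h𝒵 hred hne hsub
    exact ⟨𝒵, f, k, hk, a, z, h𝒵, hf, hzs, hzf, fun t => hall _⟩
  tfae_have 3 → 1 := by
    rintro ⟨𝒵, f, k, hk, a, z, h𝒵, hf, hzs, hzf, hall⟩
    obtain ⟨hne, hsub⟩ := Groth.Agent.Lib.Helper66.ResGerbe.singleton_of_fieldPt h𝒵 a z hzs
    refine ⟨𝒵, f, h𝒵, hf, hne, hsub, ?_⟩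
    intro p
    have hzsurj : AlgSt.IsSurjective z :=
      Groth.Agent.Lib.Helper65.isSurjective_of_repByAlgSpWith
        (Groth.Agent.Lib.Helper31.isFibGrpd_overForget _) h𝒵.isStack.1 z hzs
    obtain ⟨w, rfl⟩ := hzsurj p
    obtain ⟨t, rfl⟩ := (Groth.Agent.Lib.Helper65.chartPt_bijective (Over.mk a)).2 w
    exact hall t
  tfae_finish

end Groth.Agent.S16809
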