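import Groth.Statements.S16810
import Groth.Agent.Lib.Helper65.FieldImg
import Groth.Agent.Lib.Helper65.MonoProps

set_option autoImplicit false
universe u
open CategoryTheory AlgebraicGeometry
open Gerb

namespace Groth.Agent.S16810

/-- If some reduced algebraic stack with exactly one point admits a monomorphism to the algebraic stack
𝒳 with image the point x, then there is a unique strictly full subcategory of 𝒳 which is a reduced,
locally Noetherian algebraic stack with exactly one point mapping to x. -/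
theorem result
    (S : Scheme.{u}) (𝒳 : AlgSt.Cat S) (h𝒳 : AlgSt.IsAlgStack Scheme.fppfPrecoverage 𝒳) (x : AlgSt.Points 𝒳)
    (𝒵 : AlgSt.Cat S) (h𝒵 : AlgSt.IsAlgStack Scheme.fppfPrecoverage 𝒵)
    (hred : AlgSt.SmoothLocally (fun T => IsReduced T) 𝒵)
    (hne : Nonempty (AlgSt.Points 𝒵)) (hsub : Subsingleton (AlgSt.Points 𝒵))
    (f : 𝒵 ⥤ᵇ 𝒳) (hf : AlgSt.IsMono f) (hfx : ∀ p : AlgSt.Points 𝒵, AlgSt.Points.map f p = x) :
    ∃ Q : 𝒳.obj → Prop, Gerb.IsResGerbe Scheme.fppfPrecoverage 𝒳 x Q ∧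
      ∀ Q' : 𝒳.obj → Prop, Gerb.IsResGerbe Scheme.fppfPrecoverage 𝒳 x Q' → ∀ ξ : 𝒳.obj, Q' ξ ↔ Q ξ := by
  obtain ⟨k, hk, a, z, hzs, hzf⟩ :=
    Groth.Agent.Lib.Helper66.ResGerbe.exists_flat_fieldPt_of_reduced h𝒵 hred hne hsub
  obtain ⟨k', hk', a', z', hzt', hzs', hzf'⟩ :=
    Groth.Agent.Lib.Helper66.ResGerbe.exists_lft_fieldPt h𝒵 a z hzs hzf
  obtain ⟨h1, h2, h3, h4, h5, h6⟩ := Groth.Agent.Lib.Helper65.FieldImg.main h𝒵 a' z' hzs' hzf' hzt'
  have hred' := Groth.Agent.Lib.Helper66.ResGerbe.reduced_of_fieldPt h2 a'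
    (Groth.Agent.Lib.Helper65.FieldImg.lift z') h4 h5
  have hnoeth' := Groth.Agent.Lib.Helper66.ResGerbe.noeth_of_fieldPt h2 a'
    (Groth.Agent.Lib.Helper65.FieldImg.lift z') h4 h5 h3
  obtain ⟨hne', hsub'⟩ := Groth.Agent.Lib.Helper66.ResGerbe.singleton_of_fieldPt h2 a'
    (Groth.Agent.Lib.Helper65.FieldImg.lift z') h4
  have hm : AlgSt.IsMono (BasedFunctor.comp
      (AlgSt.subIncl 𝒵 (Groth.Agent.Lib.Helper65.FieldImg.Q z')) f) :=
    Groth.Agent.Lib.Helper65.repByAlgSpWith_comp _ Groth.Agent.Lib.Helper65.stableBC_mono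
      Groth.Agent.Lib.Helper65.stableComp_mono Groth.Agent.Lib.Helper65.isLocalOnBase_fppf_mono
      h2.isStack.1 h𝒵.isStack.1 _ f h6 hf
  have hgx : ∀ p : AlgSt.Points (AlgSt.fullSub 𝒵 (Groth.Agent.Lib.Helper65.FieldImg.Q z')),
      AlgSt.Points.map (BasedFunctor.comp
        (AlgSt.subIncl 𝒵 (Groth.Agent.Lib.Helper65.FieldImg.Q z')) f) p = x := by
    intro p
    rw [Groth.Agent.Lib.Helper65.points_map_comp]
    exact hfx _
  obtain ⟨hQ, -⟩ := Groth.Agent.Lib.Helper66.ResGerbe.isResGerbe_essImage h𝒳 x h2 hred' hnoeth' hne' hsub'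
    _ hm hgx
  refine ⟨_, hQ, ?_⟩
  intro Q' hQ' ξ
  have hx : AlgSt.Points.map (BasedFunctor.id 𝒳) x = x := Groth.Agent.Lib.Helper65.points_map_id x
  constructor
  · intro h
    exact Groth.Agent.Lib.Helper66.ResGerbe.prop_map_of_isResGerbe h𝒳 h𝒳 (BasedFunctor.id 𝒳) x Q' hQ'
      _ (by rw [hx]; exact hQ) ξ h
  · intro h
    exact Groth.Agent.Lib.Helper66.ResGerbe.prop_map_of_isResGerbe h𝒳 h𝒳 (BasedFunctor.id 𝒳) x _ hQ
      Q' (by rw [hx]; exact hQ') ξ h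

end Groth.Agent.S16810
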