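import Groth.Statements.S16811
import Groth.Agent.Lib.Helper66.ResGerbe3
import Groth.Agent.S1535
import Groth.Agent.S1563

set_option autoImplicit false
universe u
open CategoryTheory AlgebraicGeometry
open Gerb

namespace Groth.Agent.S16811

/-- A reduced, locally Noetherian algebraic stack with exactly one point is regular (all local rings of
all schemes smooth over it are regular local rings). -/
theorem result
    (S : Scheme.{u}) (𝒵 : AlgSt.Cat S) (h𝒵 : AlgSt.IsAlgStack Scheme.fppfPrecoverage 𝒵)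
    (hred : AlgSt.SmoothLocally (fun T => IsReduced T) 𝒵)
    (hnoeth : AlgSt.SmoothLocally (fun T => IsLocallyNoetherian T) 𝒵)
    (hne : Nonempty (AlgSt.Points 𝒵)) (hsub : Subsingleton (AlgSt.Points 𝒵)) :
    AlgSt.SmoothLocally (fun T => ∀ t : T, IsRegularLocalRing (T.presheaf.stalk t)) 𝒵 := by
  intro U x hx
  obtain ⟨k, hk, a, z, hzs, hzf⟩ :=
    Groth.Agent.Lib.Helper66.ResGerbe.exists_flat_fieldPt_of_reduced h𝒵 hred hne hsub
  obtain ⟨V, g, r, hgf, -, hgs, hrs, -⟩ :=
    Groth.Agent.Lib.Helper66.ResGerbe.exists_chart_pair @Flat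
      Groth.Agent.Lib.Helper66.ResGerbe.listed_flat h𝒵 (Over.mk a) z hzs hzf hzf U x hx
  intro t
  obtain ⟨v, rfl⟩ := hgs.surj t
  have h1 : Smooth (r.left : V.left ⟶ Spec (CommRingCat.of k)) := hrs
  let _ : V.left.Over (Spec (CommRingCat.of k)) := ⟨r.left⟩
  have h2 : Smooth (V.left ↘ Spec (CommRingCat.of k)) := h1
  have hreg : IsRegularLocalRing (V.left.presheaf.stalk v) := Groth.Agent.S1535.result k V.left v
  have hflat : (g.left.stalkMap v).hom.Flat := Flat.stalkMap g.left v
  exact Groth.Agent.S1563.isRegularLocalRing_of_flat_local (g.left.stalkMap v).hom hflat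

end Groth.Agent.S16811
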