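import Groth.Statements.S16828
import Groth.Agent.Lib.Helper66.QuasiAffineDiag
import Groth.Agent.Lib.Helper66.DMUnramK
import Groth.Agent.Lib.Helper65.SourceLocal
import Groth.Agent.Lib.Helper65.LocalProps

set_option autoImplicit false
universe u
open AlgSt

namespace Groth.Agent.S16828

open CategoryTheory AlgebraicGeometry in
/-- Let 𝒳 be a Deligne–Mumford stack over (Sch/S) for the etale topology whose diagonal 𝒳 → 𝒳
×_{(Sch/S)} 𝒳 is separated and quasi-compact (representable by algebraic spaces with these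
properties). Then the diagonal is quasi-affine: representable by algebraic spaces with every base
change to a scheme a quasi-affine morphism. The source states this for the absolute diagonal; the
diagonal over S is used here. -/
theorem result {S : Scheme.{u}} (𝒳 : AlgSt.Cat S)
    (h𝒳 : AlgSt.IsDM Scheme.etalePrecoverage 𝒳)
    (hsep : AlgSt.RepByAlgSpWith AlgSp.IsSeparatedMor (FibCat.diag (FibCat.toSelf 𝒳)))
    (hqc : AlgSt.RepByAlgSpWith AlgSp.IsQuasiCompactMor (FibCat.diag (FibCat.toSelf 𝒳))) :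
    AlgSt.RepByAlgSpWith AlgSp.IsQuasiAffineMor (FibCat.diag (FibCat.toSelf 𝒳)) := by
  open Groth.Agent.Lib.Helper65 in
  have hDM : AlgSt.IsDMOver 𝒳 :=
    Groth.Agent.Lib.Helper66.DMUnramK.isDMOver_of_etale_atlas h𝒳.1.isStack.1 h𝒳.1.diag h𝒳.2
  have hlqf : AlgSt.RepByAlgSpWith (AlgSp.LocP (@LocallyQuasiFinite ⊓ @LocallyOfFiniteType))
      (FibCat.diag (FibCat.toSelf 𝒳)) :=
    Groth.Agent.Lib.Helper65.repByAlgSpWith_mono
      (Groth.Agent.Lib.Helper65.locP_mono (fun A B φ hφ => by
        haveI : LocallyOfFiniteType φ := hφ.1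
        haveI : FormallyUnramified φ := hφ.2
        exact ⟨Groth.Agent.H53.locallyQuasiFinite_of_formallyUnramified φ, hφ.1⟩)) _ hDM
  have hsepBC : Groth.Agent.Lib.Helper65.StableBC (AlgSp.IsSeparatedMor (S := S)) :=
    fun _ _ _ _ _ _ _ _ _ _ _ _ sq ha =>
      Groth.Agent.H52.repWith_diagonal_of_isPullback @IsClosedImmersion sq ha
  have h12 := Groth.Agent.Lib.Helper65.repByAlgSpWith_and hsepBC _ hlqf hsep
  have h123 := Groth.Agent.Lib.Helper65.repByAlgSpWith_and
    Groth.Agent.Lib.Helper66.AlgStBridgeQS.stableBC_isQuasiCompactMor _ h12 hqc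
  intro U y
  obtain ⟨F, e, he, ⟨p1, p2⟩, p3⟩ := h123 U y
  exact ⟨F, e, he,
    Groth.Agent.Lib.Helper66.QuasiAffineDiag.isQuasiAffineMor_of_lqf_separated_qc F.property _ p1 p2 p3⟩

end Groth.Agent.S16828
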