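import Groth.Statements.S1683
import Groth.Agent.H8.EffCartier3

set_option autoImplicit false
universe u
open CategoryTheory CategoryTheory.Limits AlgebraicGeometry TopologicalSpace
open SDiv

namespace Groth.Agent.S1683

/-- Let 𝓘, 𝓙 be quasi-coherent ideal sheaves on X, b : X' ⟶ X a blowing-up along 𝓘 and b' : X'' ⟶ X' a
blowing-up along the inverse image ideal of 𝓙. Then b' ≫ b : X'' ⟶ X is a blowing-up of X along the
product ideal 𝓘𝓙. -/
theorem result {X X' X'' : Scheme.{u}} (𝓘 𝓙 : X.IdealSheafData) (b : X' ⟶ X) (hb : BlowUp.IsBlowUp b 𝓘)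
    (b' : X'' ⟶ X') (hb' : BlowUp.IsBlowUp b' (𝓙.comap b)) : BlowUp.IsBlowUp (b' ≫ b) (𝓘 * 𝓙) := by
  constructor
  · rw [Groth.Agent.Lib.Helper18.comap_mul, Scheme.IdealSheafData.comap_comp,
      Scheme.IdealSheafData.comap_comp]
    exact Groth.Agent.H8.EffCartier.isEffCartierIdeal_mul _ _
      (Groth.Agent.H8.EffCartier.isEffCartierIdeal_comap_of_isBlowUp (𝓙.comap b) (𝓘.comap b) b'
        hb' hb.1) hb'.1
  · intro Y g hg
    rw [Groth.Agent.Lib.Helper18.comap_mul] at hg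
    obtain ⟨h1, h2⟩ := Groth.Agent.H8.EffCartier.isEffCartierIdeal_of_mul _ _ hg
    obtain ⟨k, hk, hkuniq⟩ := hb.2 Y g h1
    have h2' : BlowUp.IsEffCartierIdeal ((𝓙.comap b).comap k) := by
      rw [← Scheme.IdealSheafData.comap_comp, hk]
      exact h2
    obtain ⟨k', hk', hk'uniq⟩ := hb'.2 Y k h2'
    refine ⟨k', by change k' ≫ b' ≫ b = g; rw [← Category.assoc, hk', hk], ?_⟩
    intro m hm
    have hm' : m ≫ b' ≫ b = g := hm
    apply hk'uniq
    apply hkuniq
    change (m ≫ b') ≫ b = g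
    rw [Category.assoc]
    exact hm'

end Groth.Agent.S1683
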