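import Groth.Statements.S16832
import Groth.Agent.Lib.Helper66.SmBootEt
import Groth.Agent.Lib.Helper66.AutPts
import Groth.Agent.Lib.Helper66.DMOfGeomAutK
import Groth.Agent.Lib.Helper66.DMOverAut
import Groth.Agent.Lib.Helper66.OpenCoverSetoid
import Groth.Agent.Lib.Helper65.FpStack
import Groth.Agent.Lib.Helper65.StkBasic
import Groth.Agent.Lib.Helper65.BasedPost

set_option autoImplicit false
universe u
open AlgSt

namespace Groth.Agent.S16832

open CategoryTheory AlgebraicGeometry in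
/-- Let 𝒳 be an algebraic stack over (Sch/S) for the etale topology. Then 𝒳 is an algebraic space
(equivalent over (Sch/S) to the category of sections of an algebraic space) if and only if every
point of 𝒳 has trivial stabilizer: for every field k, every morphism Spec k → S and every functor x
: (Sch/Spec k) → 𝒳 over (Sch/S), the group of automorphisms over the identity of the object x(T) is
trivial for every scheme T over Spec k (the stabilizer of x, a group algebraic space over k, has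
only the identity section over every T). -/
theorem result {S : Scheme.{u}} (𝒳 : AlgSt.Cat S)
    (h𝒳 : AlgSt.IsAlgStack Scheme.etalePrecoverage 𝒳) :
    AlgSt.RepByAlgSp 𝒳 ↔
      ∀ (k : Type u) [Field k] (sk : Spec (CommRingCat.of k) ⟶ S)
        (x : FibCat.overCat (Over.mk sk) ⥤ᵇ 𝒳) (T : Over (Over.mk sk)),
        Subsingleton (Gerb.AutO (x.obj T)) := by
  open CategoryTheory AlgebraicGeometry FibCat Groth.Agent.Lib.Helper65 in
  constructor
  · rintro ⟨F, e, he⟩ k _ sk x T
    have hset : IsFibSetoid 𝒳.p := isFibSetoid_of_equivOver e he (isFibSetoid_ofPsh _)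
    refine Groth.Agent.Lib.Helper66.AutPts.subsingleton_autO_of_eq_id _ (fun σ hσ => ?_)
    haveI := hσ
    haveI h2 : 𝒳.p.IsHomLift (𝟙 (𝒳.p.obj (x.obj T))) (𝟙 (x.obj T)) := IsHomLift.id rfl
    exact eq_of_isThin_fiber (U := 𝒳.p.obj (x.obj T)) hset.2 σ (𝟙 _)
  · intro H
    have hG : IsFibGrpd 𝒳.p := h𝒳.isStack.1
    have haut : ∀ (k : Type u) [Field k] [IsAlgClosed k] (x : 𝒳.obj)
        (_ : (𝒳.p.obj x).left ≅ Spec (CommRingCat.of k))
        (ξ : 𝒳.obj) (_ : ξ ⟶ x) (σ : ξ ⟶ ξ), 𝒳.p.map σ = 𝟙 (𝒳.p.obj ξ) → σ = 𝟙 ξ := by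
      intro k _ _ x e ξ φ σ hσ
      exact Groth.Agent.Lib.Helper66.AutPts.aut_trivial_of_functor_pts hG x
        (Over.mk (e.inv ≫ (𝒳.p.obj x).hom)) (Over.isoMk e.symm (by simp))
        (fun X T => H k (e.inv ≫ (𝒳.p.obj x).hom) X T) ξ φ σ hσ
    have hDM : AlgSt.IsDMOver 𝒳 :=
      Groth.Agent.Lib.Helper66.DMOfGeomAutK.isDMOver_of_geometric_aut_trivial' hG h𝒳.diag h𝒳.atlas haut
    have hset : IsFibSetoid 𝒳.p :=
      Groth.Agent.Lib.Helper66.OpenCoverSetoid.isFibSetoid_of_aut_trivial hG (fun t χ hχ =>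
        Groth.Agent.Lib.Helper66.DMOverAut.aut_trivial_of_isDMOver hG hDM
          (fun k _ _ s ξ hξ a ha =>
            haut k ξ ((Over.forget S).mapIso (eqToIso hξ)) ξ (𝟙 ξ) a
              (IsHomLift.eq_of_isHomLift 𝒳.p (𝟙 (𝒳.p.obj ξ)) a).symm) t χ hχ)
    exact Groth.Agent.Lib.Helper66.SmBoot.repByAlgSp_of_isStack_etale_of_isFibSetoid h𝒳.isStack h𝒳.atlas hset

end Groth.Agent.S16832
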