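import Groth.Statements.S16834
import Groth.Agent.Lib.Helper54.AffineDescent
import Groth.Agent.H52.QC5
import Groth.Agent.H52.QC
import Groth.Agent.S10519
import Groth.Agent.S10532
import Groth.Agent.S10535
import Mathlib.RingTheory.Flat.FaithfullyFlat.Basic

set_option autoImplicit false
universe u
open CategoryTheory CategoryTheory.Limits AlgebraicGeometry
open AlgSp

namespace Groth.Agent.S16834

/-- Let k be a field with algebraic closure k̄ and X an algebraic space over Spec k which is
quasi-separated over k and whose structure morphism is locally of finite type. If the base change X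
×_k Spec k̄ (product with h_{Spec k̄} in fppf sheaves over Spec k) is isomorphic to h_T for an
affine scheme T over k, then X is isomorphic to h_U for an affine scheme U over k. -/
theorem result (k : Type u) [Field k]
    (X : AlgSp.Space (Spec (CommRingCat.of k))) (hqs : AlgSp.IsQuasiSeparatedSp X.obj)
    (hlft : ∀ q : X.obj ⟶ (AlgSp.yon (Spec (CommRingCat.of k))).obj (Over.mk (𝟙 _)),
      AlgSp.LocP @LocallyOfFiniteType q)
    (kbar : Type u) [Field kbar] [Algebra k kbar] [IsAlgClosure k kbar]
    (T : Over (Spec (CommRingCat.of k))) (hT : IsAffine T.left)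
    (e : X.obj ⨯ (AlgSp.yon (Spec (CommRingCat.of k))).obj
        (Over.mk (Spec.map (CommRingCat.ofHom (algebraMap k kbar)))) ≅
      (AlgSp.yon (Spec (CommRingCat.of k))).obj T) :
    ∃ (U : Over (Spec (CommRingCat.of k))), IsAffine U.left ∧
      Nonempty (X.obj ≅ (AlgSp.yon (Spec (CommRingCat.of k))).obj U) := by
  let B : Scheme.{u} := Spec (CommRingCat.of k)
  let Z : Over B := Over.mk (𝟙 B)
  let Wk : Over B := Over.mk (Spec.map (CommRingCat.ofHom (algebraMap k kbar)))
  have tB := Groth.Agent.H52.yonBaseIsTerminal B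
  let c : Wk ⟶ Z := Over.homMk (Spec.map (CommRingCat.ofHom (algebraMap k kbar)))
    (Category.comp_id _)
  have hZaff : IsAffine Z.left := (inferInstance : IsAffine (Spec (CommRingCat.of k)))
  have hWaff : IsAffine Wk.left := (inferInstance : IsAffine (Spec (CommRingCat.of kbar)))
  have hTaff : IsAffine T.left := hT
  have hflat : Flat c.left := by
    change Flat (Spec.map (CommRingCat.ofHom (algebraMap k kbar)))
    rw [HasRingHomProperty.Spec_iff (P := @Flat)]
    change (algebraMap k kbar).Flat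
    rw [RingHom.flat_algebraMap_iff]
    infer_instance
  have hsurj : ∀ z : ↥Z.left, ∃ j : Fin 1, z ∈ Set.range (c).left := by
    intro z
    refine ⟨0, ?_⟩
    have hs : Function.Surjective
        (Spec.map (CommRingCat.ofHom (algebraMap k kbar))) := by
      have : Module.FaithfullyFlat k kbar := inferInstance
      exact PrimeSpectrum.comap_surjective_of_faithfullyFlat (A := k) (B := kbar)
    exact hs z
  -- the base change
  let fZ : X.obj ⟶ (AlgSp.yon B).obj Z := tB.from _
  have sqP : IsPullback (prod.fst : X.obj ⨯ (AlgSp.yon B).obj Wk ⟶ X.obj) prod.snd fZ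
      (tB.from ((AlgSp.yon B).obj Wk)) :=
    IsPullback.of_is_product (limit.isLimit (pair _ _)) tB
  have hc : tB.from ((AlgSp.yon B).obj Wk) = (AlgSp.yon B).map c := tB.hom_ext _ _
  rw [hc] at sqP
  obtain ⟨τ, hτ⟩ := (AlgSp.yon B).map_surjective (e.inv ≫ prod.snd)
  have sqT : IsPullback (e.inv ≫ prod.fst) ((AlgSp.yon B).map τ) fZ ((AlgSp.yon B).map c) := by
    rw [hτ]
    exact IsPullback.of_iso sqP e (Iso.refl _) (Iso.refl _) (Iso.refl _)
      (by rw [Iso.refl_hom, Category.comp_id, Iso.hom_inv_id_assoc])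
      (by rw [Iso.refl_hom, Category.comp_id, Iso.hom_inv_id_assoc])
      (by rw [Iso.refl_hom, Iso.refl_hom, Category.comp_id, Category.id_comp])
      (by rw [Iso.refl_hom, Iso.refl_hom, Category.comp_id, Category.id_comp])
  have hcov := Groth.Agent.Lib.Helper54.isFpqcCover_yon_of_finite_flat_family hZaff
    (fun _ : Fin 1 => Wk) (fun _ => c) (fun _ => hWaff) (fun _ => hflat) hsurj
  have hqcm : AlgSp.IsQuasiCompactMor fZ :=
    (Groth.Agent.S10519.result B (fun _ : ULift.{u} (Fin 1) => (AlgSp.yon B).obj Wk)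
      (fun _ => (AlgSp.yon B).map c) (IsAlgSpace.yon_obj Z) (fun _ => IsAlgSpace.yon_obj Wk) hcov fZ
      X.property (fun _ => (AlgSp.yon B).obj T) (fun _ => (AlgSp.yon B).map τ)
      (fun _ => e.inv ≫ prod.fst) (fun _ => IsAlgSpace.yon_obj T) (fun _ => sqT)).2 (fun _ =>
        Groth.Agent.H52.isQuasiCompactMor_of_repWith_quasiCompact _
          ((AlgSp.repWith_yon_map_iff _ _).2 (inferInstance : QuasiCompact τ.left)))
  have hqc : AlgSp.IsQuasiCompactSp X.obj :=
    hqcm (IsAlgSpace.yon_obj Z) (Groth.Agent.H52.isQuasiCompactSp_yon Z) (𝟙 _) (𝟙 _) fZ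
      (IsPullback.of_horiz_isIso ⟨by simp⟩)
  have hsep : AlgSp.IsSeparatedMor fZ :=
    (Groth.Agent.S10535.result B (fun _ : ULift.{u} (Fin 1) => (AlgSp.yon B).obj Wk)
      (fun _ => (AlgSp.yon B).map c) (IsAlgSpace.yon_obj Z) (fun _ => IsAlgSpace.yon_obj Wk) hcov fZ
      X.property (fun _ => (AlgSp.yon B).obj T) (fun _ => (AlgSp.yon B).map τ)
      (fun _ => e.inv ≫ prod.fst) (fun _ => IsAlgSpace.yon_obj T) (fun _ => sqT)).2 (fun _ =>
        (AlgSp.isSeparatedMor_yon_map_iff τ).2 (inferInstance : IsSeparated τ.left))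
  obtain ⟨V, v, e', hV, -⟩ := Groth.Agent.Lib.Helper54.exists_iso_yon_of_affine_family
    (Groth.Agent.S10532.result B) hZaff X.property fZ hqc hsep (fun _ : Fin 1 => Wk) (fun _ => c)
    (fun _ => hWaff) (fun _ => hflat) hsurj (fun _ => ⟨T, e.inv ≫ prod.fst, τ, sqT, hT⟩)
  exact ⟨V, hV, ⟨e'.symm⟩⟩

end Groth.Agent.S16834
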