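import Groth.Statements.S16836
import Mathlib
-- import your own Groth.Agent.* helpers here

set_option autoImplicit false
universe u v
open scoped Classical
open AbVar

namespace Groth.Agent.S16836

section helpers
open Polynomial UniqueFactorizationMonoid

lemma sum_ite_eq_count {α : Type*} [DecidableEq α] (s : Multiset α) (b : α) :
    (s.map (fun a => if a = b then 1 else 0)).sum = s.count b := by
  induction s using Multiset.induction with
  | empty => simp
  | cons a s ih =>
    rw [Multiset.map_cons, Multiset.sum_cons, ih, Multiset.count_cons]
    by_cases h : a = b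
    · subst h; simp [add_comm]
    · simp [h, Ne.symm h]

lemma pair_eq {F : Type*} [Field F] (s t : Multiset F[X]) :
    ∑ P ∈ s.toFinset, s.count P * t.count P * P.natDegree =
      (s.map (fun P => t.count P * P.natDegree)).sum := by
  rw [Finset.sum_multiset_map_count]
  refine Finset.sum_congr rfl (fun P _ => ?_)
  rw [smul_eq_mul, mul_assoc]

variable {K : Type u} {L : Type v} [Field K] [Field L] [Algebra K L]

lemma nf_map (f : K[X]) (hf : f ≠ 0) :
    normalizedFactors (f.map (algebraMap K L)) =
      (normalizedFactors f).bind (fun P => normalizedFactors (P.map (algebraMap K L))) := by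
  have h1 : C f.leadingCoeff * (normalizedFactors f).prod = f :=
    leadingCoeff_mul_prod_normalizedFactors f
  have hlc : f.leadingCoeff ≠ 0 := leadingCoeff_ne_zero.mpr hf
  have h2 : f.map (algebraMap K L) = C (algebraMap K L f.leadingCoeff) *
      ((normalizedFactors f).map (Polynomial.map (algebraMap K L))).prod := by
    conv_lhs => rw [← h1]
    rw [Polynomial.map_mul, Polynomial.map_C, Polynomial.map_multiset_prod]
  have hu : IsUnit (C (algebraMap K L f.leadingCoeff) : L[X]) :=
    Polynomial.isUnit_C.mpr ((isUnit_iff_ne_zero.mpr hlc).map _)
  have hassoc : Associated (f.map (algebraMap K L))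
      (((normalizedFactors f).map (Polynomial.map (algebraMap K L))).prod) := by
    rw [h2]
    exact (associated_isUnit_mul_left_iff hu).mpr (Associated.refl _)
  rw [hassoc.normalizedFactors_eq, normalizedFactors_multiset_prod, Multiset.map_map]
  · rfl
  · intro h0
    rw [Multiset.mem_map] at h0
    obtain ⟨P, hP, hP0⟩ := h0
    have hP00 : P = 0 := (Polynomial.map_eq_zero (algebraMap K L)).mp hP0
    exact (irreducible_of_normalized_factor P hP).ne_zero hP00

lemma count_nf_map [PerfectField K] {P P' : K[X]} (hP : Irreducible P) (hPm : P.Monic)
    (hP' : Irreducible P') (hP'm : P'.Monic)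
    {Q : L[X]} (hQ : Q ∈ normalizedFactors (P.map (algebraMap K L))) :
    (normalizedFactors (P'.map (algebraMap K L))).count Q = if P' = P then 1 else 0 := by
  split_ifs with h
  · subst h
    have hsq : Squarefree (P'.map (algebraMap K L)) :=
      ((PerfectField.separable_of_irreducible hP').map).squarefree
    have hnd := (squarefree_iff_nodup_normalizedFactors (hsq.ne_zero)).mp hsq
    exact Multiset.count_eq_one_of_mem hnd hQ
  · rw [Multiset.count_eq_zero]
    intro hQ'
    have hcop : IsCoprime P P' := by
      apply (hP.coprime_iff_not_dvd).mpr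
      intro hd
      exact h (Polynomial.eq_of_monic_of_associated hPm hP'm (hP.associated_of_dvd hP' hd)).symm
    have hcopL : IsCoprime (P.map (algebraMap K L)) (P'.map (algebraMap K L)) :=
      hcop.map (mapRingHom (algebraMap K L))
    have hd1 : Q ∣ P.map (algebraMap K L) := dvd_of_mem_normalizedFactors hQ
    have hd2 : Q ∣ P'.map (algebraMap K L) := dvd_of_mem_normalizedFactors hQ'
    have hun : IsUnit Q := hcopL.isUnit_of_dvd' hd1 hd2
    exact (irreducible_of_normalized_factor Q hQ).not_isUnit hun

lemma sum_natDegree_nf_map {P : K[X]} (hPm : P.Monic) :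
    ((normalizedFactors (P.map (algebraMap K L))).map natDegree).sum = P.natDegree := by
  have h1 := leadingCoeff_mul_prod_normalizedFactors (P.map (algebraMap K L))
  have hm : (P.map (algebraMap K L)).Monic := hPm.map _
  rw [hm.leadingCoeff, C_1, one_mul] at h1
  rw [← natDegree_multiset_prod_of_monic, h1, natDegree_map]
  intro Q hQ
  exact ((Polynomial.mem_normalizedFactors_iff hm.ne_zero).mp hQ).2.1

lemma main_aux [PerfectField K] (s₁ s₂ : Multiset K[X])
    (h₁ : ∀ P ∈ s₁, Irreducible P ∧ P.Monic) (h₂ : ∀ P ∈ s₂, Irreducible P ∧ P.Monic) :
    (((s₁.bind (fun P => normalizedFactors (P.map (algebraMap K L)))).map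
      (fun Q => (s₂.bind (fun P => normalizedFactors (P.map (algebraMap K L)))).count Q *
        Q.natDegree)).sum) = (s₁.map (fun P => s₂.count P * P.natDegree)).sum := by
  rw [Multiset.map_bind, Multiset.sum_bind]
  congr 1
  refine Multiset.map_congr rfl (fun P hP => ?_)
  have hPi := h₁ P hP
  have hcong : (normalizedFactors (P.map (algebraMap K L))).map
      (fun Q => (s₂.bind (fun P => normalizedFactors (P.map (algebraMap K L)))).count Q *
        Q.natDegree) =
      (normalizedFactors (P.map (algebraMap K L))).map (fun Q => s₂.count P * Q.natDegree) := by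
    refine Multiset.map_congr rfl (fun Q hQ => ?_)
    congr 1
    rw [Multiset.count_bind]
    rw [← sum_ite_eq_count s₂ P]
    congr 1
    refine Multiset.map_congr rfl (fun P' hP' => ?_)
    exact count_nf_map hPi.1 hPi.2 (h₂ P' hP').1 (h₂ P' hP').2 hQ
  rw [hcong, Multiset.sum_map_mul_left, sum_natDegree_nf_map hPi.2]

end helpers

open Polynomial UniqueFactorizationMonoid in
/-- Let K ⊆ L be a field extension and f₁, f₂ non-zero polynomials in K[t]. For a field F and
polynomials g₁, g₂ over F put r_F(g₁, g₂) = Σ_P mult_P(g₁) · mult_P(g₂) · deg P, the sum running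
over the monic irreducible polynomials P in F[t] (mult_P the multiplicity of P as an irreducible
factor). Assume K is perfect. Then r_K(f₁, f₂) = r_L(f₁, f₂): the number does not depend on the
field over which the factorisations are taken. (Perfectness of K cannot be dropped: for K = F_p(s),
L = K(s^{1/p}) and f₁ = f₂ = t^p − s the number is p over K and p² over L, since the irreducible t^p
− s becomes a p-th power over L; the published statement has no restriction on K, and its proof
requires the relevant K[t]-modules to remain semisimple after base change, which holds when every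
irreducible factor stays squarefree over L, in particular for K perfect.) -/
theorem result (K : Type u) (L : Type v) [Field K] [PerfectField K] [Field L] [Algebra K L]
    (f₁ f₂ : K[X]) (h₁ : f₁ ≠ 0) (h₂ : f₂ ≠ 0) :
    ∑ P ∈ (normalizedFactors (f₁.map (algebraMap K L))).toFinset,
        (normalizedFactors (f₁.map (algebraMap K L))).count P *
          (normalizedFactors (f₂.map (algebraMap K L))).count P * P.natDegree =
      ∑ P ∈ (normalizedFactors f₁).toFinset,
        (normalizedFactors f₁).count P * (normalizedFactors f₂).count P * P.natDegree := by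
  rw [pair_eq, pair_eq, nf_map f₁ h₁, nf_map f₂ h₂]
  refine main_aux _ _ (fun P hP => ?_) (fun P hP => ?_)
  · exact ⟨irreducible_of_normalized_factor P hP,
      ((Polynomial.mem_normalizedFactors_iff h₁).mp hP).2.1⟩
  · exact ⟨irreducible_of_normalized_factor P hP,
      ((Polynomial.mem_normalizedFactors_iff h₂).mp hP).2.1⟩

end Groth.Agent.S16836
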