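import Mathlib
import Groth.Statements.S16854
import Groth.Agent.Lib.Helper96.SigmaLinComplete
import Groth.Agent.Lib.Helper96.SigmaLinWitt
import Groth.Agent.Lib.Helper85.FrobPow
-- import your own Groth.Agent.* helpers here

set_option autoImplicit false
universe u v
open CAlg

namespace Groth.Agent.S16854

open Groth.Agent.Lib.Helper96.SigmaLin in
attribute [local instance] Ideal.Quotient.field in
/-- Let k be an algebraically closed field of characteristic p > 0, ν ≥ 1, W = W(k) the ring of
p-typical Witt vectors with its Frobenius endomorphism σ, M a finitely generated free W-module and F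
: M → M a bijective additive map that is σ^ν-semilinear, F(a·m) = σ^ν(a)·F(m). Then M admits a
W-basis consisting of F-fixed elements; in particular M is spanned over W by M₀ = {m | F(m) = m}, a
module over the Witt vectors of F_{p^ν}. (The copy allows ν < 0 as well, reducing to F⁻¹; stated
here for ν ≥ 1.) -/
theorem result (k : Type u) [Field k] [IsAlgClosed k]
    (p : ℕ) [Fact p.Prime] [CharP k p] (ν : ℕ) (hν : 1 ≤ ν)
    (M : Type v) [AddCommGroup M] [Module (WittVector p k) M]
    [Module.Finite (WittVector p k) M] [Module.Free (WittVector p k) M]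
    (F : M →+ M)
    (hF : ∀ (a : WittVector p k) (m : M), F (a • m) = ((⇑(WittVector.frobenius : WittVector p k →+* WittVector p k))^[ν] a) • F m)
    (hbij : Function.Bijective F) :
    ∃ (ι : Type v) (b : Module.Basis ι (WittVector p k) M), ∀ i, F (b i) = b i := by
  let R := WittVector p k
  let I : Ideal R := Ideal.span {(p : R)}
  let e : R ⧸ I ≃+* k := WittVector.quotientPEquiv (p := p) (k := k)
  have hI : I.IsMaximal :=
    Ideal.Quotient.maximal_of_isField I (e.toMulEquiv.isField (Field.toIsField k))
  let σ : R →+* R := (WittVector.frobenius : R →+* R) ^ ν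
  have hσ : ∀ a : R, σ a = (⇑(WittVector.frobenius : R →+* R))^[ν] a := fun a => rfl
  have hσp : σ (p : R) = (p : R) := map_natCast σ p
  have hIσ : I ≤ Ideal.comap σ I := by
    rw [Ideal.span_le]
    rintro _ rfl
    show σ (p : R) ∈ I
    rw [hσp]
    exact Ideal.subset_span rfl
  let σbar : (R ⧸ I) →+* (R ⧸ I) := Ideal.quotientMap I σ hIσ
  have hσbar : ∀ r : R, σbar (Ideal.Quotient.mk _ r) = Ideal.Quotient.mk _ (σ r) :=
    fun r => Ideal.quotientMap_mk
  have he : ∀ a, e (σbar a) = iterateFrobenius k p ν (e a) := by
    intro a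
    obtain ⟨x, rfl⟩ := Ideal.Quotient.mk_surjective a
    rw [hσbar]
    show WittVector.constantCoeff (σ x) = iterateFrobenius k p ν (WittVector.constantCoeff x)
    rw [iterateFrobenius_def]
    show (σ x).coeff 0 = (x.coeff 0) ^ p ^ ν
    rw [hσ, WittVector.iterate_frobenius_coeff]
  have h2 : Hyp2 σbar := hyp2_transfer e σbar (iterateFrobenius k p ν) he
    (Groth.Agent.Lib.Helper85.hyp2_iterateFrobenius p k ν hν)
  have h3 : Hyp3 σbar := hyp3_transfer e σbar (iterateFrobenius k p ν) he
    (Groth.Agent.Lib.Helper85.hyp3_iterateFrobenius p k ν hν)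
  have hsurj : Function.Surjective σbar := by
    apply surjective_transfer e σbar (iterateFrobenius k p ν) he
    intro y
    obtain ⟨z, hz⟩ := (bijective_iterateFrobenius (R := k) (p := p) (n := ν)).2 y
    exact ⟨z, hz⟩
  let T : M →ₛₗ[σ] M :=
    { toFun := F
      map_add' := F.map_add
      map_smul' := fun a m => hF a m }
  obtain ⟨b, hb⟩ := exists_basis_fixed_of_complete I σbar hσbar T (p : R) rfl hσp hbij.2
    hsurj h2 h3
  exact ⟨ULift.{v} (Fin (Module.finrank R M)), b.reindex Equiv.ulift.symm, fun i => by
    rw [Module.Basis.reindex_apply]; exact hb _⟩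

end Groth.Agent.S16854
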