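import Groth.Statements.S16860
import Groth.Agent.Lib.Helper65.GerbeDiagConv

set_option autoImplicit false
universe u
open CategoryTheory AlgebraicGeometry
open Gerb

namespace Groth.Agent.S16860

/-- For a morphism f of algebraic stacks, the source is a gerbe over the target along f if and only if f
and its diagonal are both surjective, flat and locally of finite presentation. -/
theorem result
    (S : Scheme.{u}) (𝒳 𝒴 : AlgSt.Cat S)
    (h𝒳 : AlgSt.IsAlgStack Scheme.fppfPrecoverage 𝒳) (h𝒴 : AlgSt.IsAlgStack Scheme.fppfPrecoverage 𝒴)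
    (f : 𝒳 ⥤ᵇ 𝒴) :
    Gerb.IsGerbeOver (QuotSh.J Scheme.fppfPrecoverage S) f ↔
      (AlgSt.IsSurjective f ∧ AlgSt.LocQ (AlgSp.LocP @Flat) f ∧
        AlgSt.LocQ (AlgSp.LocP @LocallyOfFinitePresentation) f) ∧
      (AlgSt.IsSurjective (FibCat.diag f) ∧ AlgSt.LocQ (AlgSp.LocP @Flat) (FibCat.diag f) ∧
        AlgSt.LocQ (AlgSp.LocP @LocallyOfFinitePresentation) (FibCat.diag f)) := by
  open Groth.Agent.Lib.Helper65 Groth.Agent.Lib.Helper66 Groth.Agent.Lib.Helper66.AlgStLocQSq FibCat in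
  have hfX : IsFibGrpd 𝒳.p := h𝒳.isStack.1
  have hfY : IsFibGrpd 𝒴.p := h𝒴.isStack.1
  have hFF : AlgSt.IsAlgStack Scheme.fppfPrecoverage (fp f f) :=
    Groth.Agent.S12763.result h𝒴.isStack h𝒴.diag h𝒳 h𝒳 f f
  constructor
  · intro hf
    have hsm := GerbeSmooth.locQ_smooth_of_isGerbeOver h𝒳 h𝒴 f hf
    obtain ⟨hΔ1, hΔ2, hΔ3⟩ := GerbeDiag.repByAlgSpWith_diag_of_isGerbeOver h𝒳 h𝒴 f hf
    exact ⟨⟨GerbeHomeo.surjective_of_locSurjObj hfX f hf.1,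
        GerbeDiag.locQ_mono (locP_mono smooth_le_flat) f hsm,
        GerbeDiag.locQ_mono (locP_mono smooth_le_lfp) f hsm⟩,
      isSurjective_of_repByAlgSpWith hfX hFF.isStack.1 _ hΔ3,
      locQ_of_repByAlgSpWith _ isSmoothLocalST_locP_flat hfX hFF.isStack.1 hFF.atlas _ hΔ1,
      locQ_of_repByAlgSpWith _ AlgSpSmLocalLft.isSmoothLocalST_locP_lfp hfX hFF.isStack.1
        hFF.atlas _ hΔ2⟩
  · rintro ⟨⟨h3, h1, h2⟩, hΔ3, hΔ1, hΔ2⟩
    exact GerbeDiag.isGerbeOver_of_fppf_diag h𝒳 h𝒴 f h1 h2 h3 hΔ1 hΔ2 hΔ3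

end Groth.Agent.S16860
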