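import Groth.Statements.S16862
import Groth.Agent.Lib.Helper65.GerbeDiag
import Groth.Agent.Lib.Helper66.AlgStInertia
import Groth.Agent.Lib.Helper65.BasedPost

set_option autoImplicit false
universe u
open CategoryTheory AlgebraicGeometry
open Gerb

namespace Groth.Agent.S16862

/-- If a morphism f of algebraic stacks makes its source a gerbe over its target, then the relative
inertia of f is flat and locally of finite presentation over the source. -/
theorem result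
    (S : Scheme.{u}) (𝒳 𝒴 : AlgSt.Cat S)
    (h𝒳 : AlgSt.IsAlgStack Scheme.fppfPrecoverage 𝒳) (h𝒴 : AlgSt.IsAlgStack Scheme.fppfPrecoverage 𝒴)
    (f : 𝒳 ⥤ᵇ 𝒴) (hf : Gerb.IsGerbeOver (QuotSh.J Scheme.fppfPrecoverage S) f) :
    AlgSt.LocQ (AlgSp.LocP @Flat) (FibCat.inertiaToBase f) ∧
      AlgSt.LocQ (AlgSp.LocP @LocallyOfFinitePresentation) (FibCat.inertiaToBase f) := by
  open Groth.Agent.Lib.Helper65 Groth.Agent.Lib.Helper66 Groth.Agent.Lib.Helper66.AlgStLocQSq FibCat in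
  have hfX : IsFibGrpd 𝒳.p := h𝒳.isStack.1
  have hfY : IsFibGrpd 𝒴.p := h𝒴.isStack.1
  obtain ⟨hΔ1, hΔ2, -⟩ := GerbeDiag.repByAlgSpWith_diag_of_isGerbeOver h𝒳 h𝒴 f hf
  have hFF : IsFibGrpd (fp f f).p := isFibGrpd_fp f f hfX hfX hfY
  have hsrc : IsFibGrpd (FibCat.inertia f).p :=
    (isFibGrpd_iff_of_equivOver (Groth.Agent.Lib.Helper31.InertiaFP.toFP f)
      (Groth.Agent.Lib.Helper31.InertiaFP.toFP_isEquivOver f)).2
      (isFibGrpd_fp (FibCat.diag f) (FibCat.diag f) hfX hfX hFF)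
  have h1 := AlgStInertia.repByAlgSpWith_inertiaToBase (AlgSp.LocP @Flat) f hΔ1
  have h2 := AlgStInertia.repByAlgSpWith_inertiaToBase (AlgSp.LocP @LocallyOfFinitePresentation) f hΔ2
  exact ⟨locQ_of_repByAlgSpWith _ isSmoothLocalST_locP_flat hsrc hfX h𝒳.atlas _ h1,
    locQ_of_repByAlgSpWith _ AlgSpSmLocalLft.isSmoothLocalST_locP_lfp hsrc hfX h𝒳.atlas _ h2⟩

end Groth.Agent.S16862
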