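import Groth.Statements.S16863
import Groth.Agent.Lib.Helper65.GerbeDiag

set_option autoImplicit false
universe u
open CategoryTheory AlgebraicGeometry
open Gerb

namespace Groth.Agent.S16863

/-- If f makes 𝒳 a gerbe over 𝒴, then for morphisms x₁ : T₁ → 𝒳, x₂ : T₂ → 𝒳 from algebraic spaces the
comparison morphism T₁ ×_𝒳 T₂ → T₁ ×_𝒴 T₂ (induced by the two projections and the 2-isomorphism
obtained by applying f to the canonical one) is surjective, flat and locally of finite presentation. -/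
theorem result
    (S : Scheme.{u}) (𝒳 𝒴 : AlgSt.Cat S)
    (h𝒳 : AlgSt.IsAlgStack Scheme.fppfPrecoverage 𝒳) (h𝒴 : AlgSt.IsAlgStack Scheme.fppfPrecoverage 𝒴)
    (f : 𝒳 ⥤ᵇ 𝒴) (hf : Gerb.IsGerbeOver (QuotSh.J Scheme.fppfPrecoverage S) f)
    (T₁ T₂ : AlgSp.Space S) (x₁ : AlgSt.ofSp T₁.obj ⥤ᵇ 𝒳) (x₂ : AlgSt.ofSp T₂.obj ⥤ᵇ 𝒳)
    (e : BasedFunctor.comp (FibCat.fpFst x₁ x₂) (BasedFunctor.comp x₁ f) ≅
      BasedFunctor.comp (FibCat.fpSnd x₁ x₂) (BasedFunctor.comp x₂ f))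
    (he : ∀ a, e.hom.toNatTrans.app a = f.map a.obj.iso.hom) :
    AlgSt.IsSurjective (FibCat.fpLift (FibCat.fpFst x₁ x₂) (FibCat.fpSnd x₁ x₂) e) ∧
      AlgSt.LocQ (AlgSp.LocP @Flat) (FibCat.fpLift (FibCat.fpFst x₁ x₂) (FibCat.fpSnd x₁ x₂) e) ∧
      AlgSt.LocQ (AlgSp.LocP @LocallyOfFinitePresentation)
        (FibCat.fpLift (FibCat.fpFst x₁ x₂) (FibCat.fpSnd x₁ x₂) e) := by
  open Groth.Agent.Lib.Helper65 Groth.Agent.Lib.Helper66 Groth.Agent.Lib.Helper66.AlgStLocQSq FibCat in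
  have hfX : IsFibGrpd 𝒳.p := h𝒳.isStack.1
  have hfY : IsFibGrpd 𝒴.p := h𝒴.isStack.1
  have hf1 : IsFibGrpd (AlgSt.ofSp T₁.obj).p := Stk.isFibGrpd_ofPsh _
  have hf2 : IsFibGrpd (AlgSt.ofSp T₂.obj).p := Stk.isFibGrpd_ofPsh _
  obtain ⟨hΔ1, hΔ2, hΔ3⟩ := GerbeDiag.repByAlgSpWith_diag_of_isGerbeOver h𝒳 h𝒴 f hf
  have hsrc : IsFibGrpd (fp x₁ x₂).p := isFibGrpd_fp x₁ x₂ hf1 hf2 hfX
  have htgt : AlgSt.IsAlgStack Scheme.fppfPrecoverage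
      (fp (BasedFunctor.comp x₁ f) (BasedFunctor.comp x₂ f)) :=
    Groth.Agent.S12763.result h𝒴.isStack h𝒴.diag (isAlgStack_ofSp T₁) (isAlgStack_ofSp T₂) _ _
  have h1 := AlgStCmp.repByAlgSpWith_fpComparison (AlgSp.LocP @Flat) x₁ x₂ f e he hΔ1
  have h2 := AlgStCmp.repByAlgSpWith_fpComparison (AlgSp.LocP @LocallyOfFinitePresentation)
    x₁ x₂ f e he hΔ2
  have h3 := AlgStCmp.repByAlgSpWith_fpComparison AlgSp.IsSurjectiveMor x₁ x₂ f e he hΔ3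
  exact ⟨isSurjective_of_repByAlgSpWith hsrc htgt.isStack.1 _ h3,
    locQ_of_repByAlgSpWith _ isSmoothLocalST_locP_flat hsrc htgt.isStack.1 htgt.atlas _ h1,
    locQ_of_repByAlgSpWith _ AlgSpSmLocalLft.isSmoothLocalST_locP_lfp hsrc htgt.isStack.1
      htgt.atlas _ h2⟩

end Groth.Agent.S16863
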