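import Groth.Statements.S16865
import Groth.Agent.Lib.Helper66.AlgStLocQCover
import Groth.Agent.Lib.Helper66.FppfEssSurj
import Groth.Agent.Lib.Helper65.GerbeBasic

set_option autoImplicit false
universe u
open CategoryTheory AlgebraicGeometry
open Gerb

namespace Groth.Agent.S16865

/-- Being a gerbe descends along a surjective, flat, locally finitely presented base change: if g : 𝒴' →
𝒴 is such a morphism of algebraic stacks and 𝒴' ×_𝒴 𝒳 is a gerbe over 𝒴' along the first projection,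
then 𝒳 is a gerbe over 𝒴 along f. -/
theorem result
    (S : Scheme.{u}) (𝒳 𝒴 𝒴' : AlgSt.Cat S)
    (h𝒳 : AlgSt.IsAlgStack Scheme.fppfPrecoverage 𝒳) (h𝒴 : AlgSt.IsAlgStack Scheme.fppfPrecoverage 𝒴)
    (h𝒴' : AlgSt.IsAlgStack Scheme.fppfPrecoverage 𝒴')
    (f : 𝒳 ⥤ᵇ 𝒴) (g : 𝒴' ⥤ᵇ 𝒴)
    (hg₁ : AlgSt.IsSurjective g) (hg₂ : AlgSt.LocQ (AlgSp.LocP @Flat) g)
    (hg₃ : AlgSt.LocQ (AlgSp.LocP @LocallyOfFinitePresentation) g)
    (h : Gerb.IsGerbeOver (QuotSh.J Scheme.fppfPrecoverage S) (FibCat.fpFst g f)) :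
    Gerb.IsGerbeOver (QuotSh.J Scheme.fppfPrecoverage S) f := by
  obtain ⟨𝒲, hW, p, hw₁, hw₂, hw₃⟩ :=
    Groth.Agent.Lib.Helper66.AlgStLocQCover.exists_rep_cover_of_locQ h𝒴 h𝒴' g hg₂ hg₃ hg₁
  have hL := Groth.Agent.Lib.Helper66.FppfEssSurj.locallyEssSurj_of_fppf h𝒴.isStack.1 hW.isStack.1
    (BasedFunctor.comp p g) hw₁ hw₂ hw₃
  have hG : Gerb.LocSurjObj (QuotSh.J Scheme.fppfPrecoverage S) g := by
    intro y
    obtain ⟨R, hR, h'⟩ := hL y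
    refine ⟨R, hR, fun V k hk => ?_⟩
    obtain ⟨w, φ, hφ⟩ := h' k hk
    exact ⟨p.obj w, φ, hφ⟩
  exact Groth.Agent.Lib.Helper65.isGerbeOver_of_fpFst _ h𝒳.isStack.1 h𝒴.isStack.1 h𝒴'.isStack.1 f g hG h

end Groth.Agent.S16865
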