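import Groth.Statements.S16871
import Groth.Agent.S10370
import Groth.Agent.S12763
import Groth.Agent.Lib.Helper65.GerbeHomeo
import Groth.Agent.Lib.Helper65.StUniv
import Groth.Agent.Lib.Helper65.MonoProps
import Groth.Agent.Lib.Helper65.StMono
import Groth.Agent.Lib.Helper65.StPoints2
import Groth.Agent.Lib.Helper66.AlgStBC
import Groth.Agent.Lib.Helper66.AlgStLocQSq2

set_option autoImplicit false
universe u
open CategoryTheory AlgebraicGeometry
open Gerb

namespace Groth.Agent.S16871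

/-- If an algebraic stack is a gerbe (over some algebraic space), then the residual gerbe exists at
every one of its points. (Non-triviality of the conclusion rests on the monomorphism condition.) -/
theorem result
    (S : Scheme.{u}) (𝒳 : AlgSt.Cat S) (h𝒳 : AlgSt.IsAlgStack Scheme.fppfPrecoverage 𝒳)
    (X : AlgSp.Space S) (π : 𝒳 ⥤ᵇ AlgSt.ofSp X.obj)
    (hπ : Gerb.IsGerbeOver (QuotSh.J Scheme.fppfPrecoverage S) π) (x : AlgSt.Points 𝒳) :
    Gerb.ResGerbeExists Scheme.fppfPrecoverage 𝒳 x := by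
  have hfX : FibCat.IsFibGrpd 𝒳.p := h𝒳.isStack.1
  have hX := Groth.Agent.Lib.Helper65.isAlgStack_ofSp X
  let x' : AlgSp.Points X.obj := Groth.Agent.Lib.Helper65.ptsEquiv X.obj (AlgSt.Points.map π x)
  obtain ⟨Z, i, hmono, hrange, -⟩ := Groth.Agent.S10370.result X x'
  have hZ := Groth.Agent.Lib.Helper65.isAlgStack_ofSp Z
  let j : AlgSt.ofSp Z.obj ⥤ᵇ AlgSt.ofSp X.obj := AlgSt.ofSpMap i.hom
  have hj : AlgSt.IsMono j :=
    Groth.Agent.Lib.Helper66.AlgStLocQSq.repByAlgSpWith_ofSpMap_of_prop _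
      Groth.Agent.Lib.Helper65.stableBC_mono (V := Z) (Z := X) i.hom hmono
  have h𝒵 : AlgSt.IsAlgStack Scheme.fppfPrecoverage (FibCat.fp j π) :=
    Groth.Agent.S12763.result hX.isStack hX.diag hZ h𝒳 j π
  have hι : AlgSt.IsMono (FibCat.fpSnd j π) :=
    Groth.Agent.Lib.Helper66.AlgStBC.repByAlgSpWith_fpSnd _ π j hj
  have hinjπ : Function.Injective (AlgSt.Points.map π) :=
    Groth.Agent.Lib.Helper65.GerbeHomeo.injective_of_locSurjHom hfX hX.isStack.1 π hπ.2
  have hinjι : Function.Injective (AlgSt.Points.map (FibCat.fpSnd j π)) :=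
    Groth.Agent.Lib.Helper65.points_map_injective_of_isMono h𝒵.isStack.1 hfX _ hι
  have hall : ∀ z, AlgSt.Points.map (FibCat.fpSnd j π) z = x := by
    intro z
    apply hinjπ
    have h1 : AlgSt.Points.map π (AlgSt.Points.map (FibCat.fpSnd j π) z) =
        AlgSt.Points.map j (AlgSt.Points.map (FibCat.fpFst j π) z) := by
      rw [← Groth.Agent.Lib.Helper65.points_map_comp, ← Groth.Agent.Lib.Helper65.points_map_comp]
      exact (Groth.Agent.Lib.Helper65.points_map_congr (FibCat.fpIso j π) z).symm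
    have h2 := Groth.Agent.Lib.Helper65.ptsEquiv_map i.hom (AlgSt.Points.map (FibCat.fpFst j π) z)
    have h3 : AlgSp.Points.map i.hom
        (Groth.Agent.Lib.Helper65.ptsEquiv Z.obj (AlgSt.Points.map (FibCat.fpFst j π) z)) ∈
        ({x'} : Set (AlgSp.Points X.obj)) := hrange ▸ Set.mem_range_self _
    have h4 := Set.mem_singleton_iff.1 h3
    apply (Groth.Agent.Lib.Helper65.ptsEquiv X.obj).injective
    rw [h1]
    exact h2.trans h4
  refine ⟨FibCat.fp j π, FibCat.fpSnd j π, h𝒵, hι, ?_, ?_, hall⟩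
  · have hx' : x' ∈ Set.range (AlgSp.Points.map i.hom) := by rw [hrange]; rfl
    obtain ⟨z₀, hz₀⟩ := hx'
    have h : AlgSt.Points.map j ((Groth.Agent.Lib.Helper65.ptsEquiv Z.obj).symm z₀) =
        AlgSt.Points.map π x := by
      apply (Groth.Agent.Lib.Helper65.ptsEquiv X.obj).injective
      have := Groth.Agent.Lib.Helper65.ptsEquiv_map i.hom
        ((Groth.Agent.Lib.Helper65.ptsEquiv Z.obj).symm z₀)
      rw [Equiv.apply_symm_apply] at this
      exact this.trans hz₀
    obtain ⟨w, -, -⟩ := Groth.Agent.Lib.Helper65.exists_points_fp hfX hX.isStack.1 hZ.isStack.1 π j _ x h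
    exact ⟨w⟩
  · constructor
    intro a b
    apply hinjι
    rw [hall a, hall b]

end Groth.Agent.S16871
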