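import Groth.Statements.S1688
import Groth.Agent.S16489
import Groth.Agent.Lib.Helper49.FinLocFree
import Groth.Agent.Lib.Helper49.FinitePresentation
import Groth.Agent.Lib.Helper12.QuasiFlat
import Groth.Agent.S0220

set_option autoImplicit false
universe u
open CategoryTheory CategoryTheory.Limits AlgebraicGeometry TopologicalSpace
open SDiv

namespace Groth.Agent.S1688


/-- Let X be a locally Noetherian integral scheme of dimension at most 1 all of whose local rings are
regular, and F a coherent module on X. Then F is torsion free (every stalk is a torsion-free module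
over the local ring) if and only if F is finite locally free. -/
theorem result (X : Scheme.{u}) [IsIntegral X] [IsLocallyNoetherian X] (hreg : ∀ x : ↥X, IsRegularLocalRing (X.presheaf.stalk x))
    (hdim : topologicalKrullDim ↥X ≤ 1) (F : X.Modules) (hF : Coh.IsCoh F) :
    (∀ x : ↥X, NoZeroSMulDivisors (X.presheaf.stalk x) (F.presheaf.stalk x)) ↔ FlatMod.IsFinLocFree F := by
  have hfp : SheafOfModules.IsFinitePresentation (R := X.ringCatSheaf) F := by
    have : F.IsQuasicoherent := hF.1
    exact Groth.Agent.Lib.Helper49.isFinitePresentation_of_isFiniteType_of_noetherian F hF.2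
  rw [Groth.Agent.Lib.Helper49.isFinLocFree_iff_isFinitePresentation_and_free_stalk]
  constructor
  · intro h
    refine ⟨hfp, fun x => ?_⟩
    have := hreg x
    have : Module.Finite (X.presheaf.stalk x) (F.presheaf.stalk x) :=
      Groth.Agent.Lib.Helper12.QuasiFlat.finite_stalk_of_isCoh F hF x
    have hx := h x
    have : Module.IsTorsionFree (X.presheaf.stalk x) (F.presheaf.stalk x) :=
      Module.IsTorsionFree.of_smul_eq_zero fun r m hrm =>
        hx.eq_zero_or_eq_zero_of_smul_eq_zero hrm
    exact Groth.Agent.S16489.free_of_isTorsionFree_of_dim_le_one _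
      ((Groth.Agent.S0220.ringKrullDim_stalk_le_topologicalKrullDim X x).trans hdim) _
  · rintro ⟨-, h⟩ x
    have := h x
    refine ⟨fun {c m} hcm => ?_⟩
    by_cases hc : c = 0
    · exact Or.inl hc
    · right
      have hreg' : IsSMulRegular (F.presheaf.stalk x) c :=
        Module.IsTorsionFree.isSMulRegular (isRegular_of_ne_zero hc)
      exact hreg' (show c • m = c • (0 : ↑(F.presheaf.stalk x)) by rw [hcm, smul_zero])

end Groth.Agent.S1688
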