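import Groth.Statements.S1689
import Groth.Agent.Lib.Helper80.ReflexiveFree
import Groth.Agent.Lib.Helper49.FinLocFree
import Groth.Agent.Lib.Helper49.FinitePresentation
import Groth.Agent.Lib.Helper12.QuasiFlat
import Groth.Agent.S0220

set_option autoImplicit false
universe u
open CategoryTheory CategoryTheory.Limits AlgebraicGeometry TopologicalSpace
open SDiv

namespace Groth.Agent.S1689


/-- Let X be a locally Noetherian scheme of dimension at most 2 all of whose local rings are regular,
and F a coherent module on X. Then F is reflexive (every stalk is a reflexive module over the local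
ring) if and only if F is finite locally free. -/
theorem result (X : Scheme.{u}) [IsLocallyNoetherian X]
    (hreg : ∀ x : ↥X, IsRegularLocalRing (X.presheaf.stalk x)) (hdim : topologicalKrullDim ↥X ≤ 2) (F : X.Modules)
    (hF : Coh.IsCoh F) : (∀ x : ↥X, Module.IsReflexive (X.presheaf.stalk x) (F.presheaf.stalk x)) ↔ FlatMod.IsFinLocFree F := by
  have hfp : SheafOfModules.IsFinitePresentation (R := X.ringCatSheaf) F := by
    have : F.IsQuasicoherent := hF.1
    exact Groth.Agent.Lib.Helper49.isFinitePresentation_of_isFiniteType_of_noetherian F hF.2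
  rw [Groth.Agent.Lib.Helper49.isFinLocFree_iff_isFinitePresentation_and_free_stalk]
  constructor
  · intro h
    refine ⟨hfp, fun x => ?_⟩
    have := hreg x
    have := h x
    have : Module.Finite (X.presheaf.stalk x) (F.presheaf.stalk x) :=
      Groth.Agent.Lib.Helper12.QuasiFlat.finite_stalk_of_isCoh F hF x
    exact Groth.Agent.Lib.Helper80.ReflexiveFree.free_of_isReflexive_of_dim_le_two _
      ((Groth.Agent.S0220.ringKrullDim_stalk_le_topologicalKrullDim X x).trans hdim) _
  · rintro ⟨-, h⟩ x
    have := h x
    have : Module.Finite (X.presheaf.stalk x) (F.presheaf.stalk x) :=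
      Groth.Agent.Lib.Helper12.QuasiFlat.finite_stalk_of_isCoh F hF x
    infer_instance

end Groth.Agent.S1689
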