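import Groth.Statements.S1690
import Groth.Agent.Lib.Helper80.FreeLocus
import Groth.Agent.Lib.Helper80.UnitIsoDepth
import Groth.Agent.Lib.Helper45.RefHullStalk
import Groth.Agent.Lib.Helper45.RefHullDepth
import Groth.Agent.Lib.Helper45.ReflexiveAlg
import Groth.Agent.Lib.Helper12.QuasiFlat
import Groth.Agent.Lib.Helper49.StalkNbhd2

set_option autoImplicit false
universe u
open CategoryTheory CategoryTheory.Limits AlgebraicGeometry TopologicalSpace
open SDiv

namespace Groth.Agent.S1690
theorem isPrincipalIdealRing_of_dim_le_one (R : Type u) [CommRing R] [IsNoetherianRing R]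
    [IsLocalRing R] [IsDomain R] [IsIntegrallyClosed R] (h : ringKrullDim R ≤ 1) :
    IsPrincipalIdealRing R := by
  have hdim : Ring.KrullDimLE 1 R := Ring.krullDimLE_iff.mpr (by exact_mod_cast h)
  have h4 : IsIntegrallyClosed R ∧
      ∀ P : Ideal R, P ≠ ⊥ → P.IsPrime → P = IsLocalRing.maximalIdeal R :=
    ⟨inferInstance, fun P hP hPp => IsLocalRing.eq_maximalIdeal (hPp.isMaximal_of_ne_bot hP)⟩
  exact ((tfae_of_isNoetherianRing_of_isLocalRing_of_isDomain (R := R)).out 3 0).mp h4

theorem withBot_enat_two_le_of_not_le_one {d : WithBot ℕ∞} (h : ¬ d ≤ 1) : (2 : WithBot ℕ∞) ≤ d := by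
  induction d using WithBot.recBotCoe with
  | bot => exact absurd bot_le h
  | coe d =>
    have h' : ¬ d ≤ 1 := fun h1 => h (WithBot.coe_le_coe.mpr h1)
    have : (2 : ℕ∞) ≤ d := by
      induction d using ENat.recTopCoe with
      | top => exact le_top
      | coe n =>
        have : ¬ n ≤ 1 := fun h1 => h' (by exact_mod_cast h1)
        have : 2 ≤ n := by omega
        exact_mod_cast this
    exact WithBot.coe_le_coe.mpr this

theorem not_le_one_of_two_le {d : WithBot ℕ∞} (h : (2 : WithBot ℕ∞) ≤ d) : ¬ d ≤ 1 := by
  intro h1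
  exact absurd (h.trans h1) (by decide)

open Groth.Agent.Lib.Helper45.RefHullStalk in
/-- stalks of the double dual are reflexive -/
theorem isReflexiveAt_ddual (X : Scheme.{u}) [IsIntegral X] [IsLocallyNoetherian X] (F : X.Modules)
    (hF : Coh.IsCoh F) (x : X) :
    Module.IsReflexive (X.presheaf.stalk x) ((RefHull.ddual F).presheaf.stalk x) := by
  have hDc := isCoh_dual F hF
  have : Module.Finite (X.presheaf.stalk x) ((RefHull.dual F).presheaf.stalk x) :=
    Groth.Agent.Lib.Helper12.QuasiFlat.finite_stalk_of_isCoh _ hDc x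
  have : IsNoetherianRing (X.presheaf.stalk x) := inferInstance
  have := Groth.Agent.Lib.Helper45.ReflexiveAlg.isReflexive_dual (X.presheaf.stalk x)
    ((RefHull.dual F).presheaf.stalk x)
  exact Module.equiv (dualStalkEquiv (RefHull.dual F) hDc x).symm



/-- (1) if and only if (3): let X be an integral locally Noetherian normal scheme and F a coherent
module. Then F is reflexive (stalkwise) if and only if there is an open subscheme j : U ⟶ X such
that every point outside U has local ring of dimension at least 2, the restriction of F to U is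
finite locally free, and the canonical map F ⟶ j_* j^* F is an isomorphism. -/
theorem result (X : Scheme.{u}) [IsIntegral X] [IsLocallyNoetherian X] (hX : Pi1.IsNormalScheme X)
    (F : X.Modules) (hF : Coh.IsCoh F) :
    (∀ x : ↥X, Module.IsReflexive (X.presheaf.stalk x) (F.presheaf.stalk x)) ↔
      ∃ U : X.Opens, (∀ x : ↥X, x ∉ U → (2 : WithBot ℕ∞) ≤ ringKrullDim (X.presheaf.stalk x)) ∧
        FlatMod.IsFinLocFree (F.restrict U.ι) ∧ IsIso ((Scheme.Modules.restrictAdjunction U.ι).unit.app F) := by
  have hfp : SheafOfModules.IsFinitePresentation (R := X.ringCatSheaf) F := by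
    have : F.IsQuasicoherent := hF.1
    exact Groth.Agent.Lib.Helper49.isFinitePresentation_of_isFiniteType_of_noetherian F hF.2
  have hq : F.IsQuasicoherent := hF.1
  have hdepthO : ∀ x : X, (2 : WithBot ℕ∞) ≤ ringKrullDim (X.presheaf.stalk x) →
      (2 : ℕ∞) ≤ LocCoh.depth (X.presheaf.stalk x) (X.presheaf.stalk x) := by
    intro x h2
    have := (hX x).2
    exact Groth.Agent.Lib.Helper45.RefHullDepth.two_le_depth_of_isIntegrallyClosed _
      (not_le_one_of_two_le h2)
  constructor
  · intro hr
    let U : X.Opens := ⟨{x : X | Module.Free (X.presheaf.stalk x) ↑(F.presheaf.stalk x)},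
      Groth.Agent.Lib.Helper80.FreeLocus.isOpen_setOf_free_stalk F hfp⟩
    have hcodim : ∀ x : ↥X, x ∉ U → (2 : WithBot ℕ∞) ≤ ringKrullDim (X.presheaf.stalk x) := by
      intro x hxU
      apply withBot_enat_two_le_of_not_le_one
      intro h1
      apply hxU
      change Module.Free (X.presheaf.stalk x) ↑(F.presheaf.stalk x)
      have := (hX x).2
      have := isPrincipalIdealRing_of_dim_le_one (X.presheaf.stalk x) h1
      have : Module.Finite (X.presheaf.stalk x) (F.presheaf.stalk x) :=
        Groth.Agent.Lib.Helper12.QuasiFlat.finite_stalk_of_isCoh F hF x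
      have := hr x
      have : Module.IsTorsionFree (X.presheaf.stalk x) (F.presheaf.stalk x) :=
        Function.Injective.moduleIsTorsionFree
          (Module.Dual.eval (X.presheaf.stalk x) (F.presheaf.stalk x))
          (Module.evalEquiv (X.presheaf.stalk x) (F.presheaf.stalk x)).injective
          (fun r m => map_smul _ r m)
      infer_instance
    refine ⟨U, hcodim, ?_, ?_⟩
    · exact Groth.Agent.Lib.Helper80.FreeLocus.isFinLocFree_restrict_of_free_stalk F hfp U
        (fun x hx => hx)
    · refine Groth.Agent.Lib.Helper80.isIso_unit_of_depth F hF U fun x hxU => ?_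
      exact Groth.Agent.Lib.Helper45.RefHullDepth.two_le_depth_stalk_of_isReflexiveAt F hF x (hr x)
        (hdepthO x (hcodim x hxU))
  · rintro ⟨U, hcodim, hfree, hiso⟩
    have hGc := Groth.Agent.Lib.Helper45.RefHullStalk.isCoh_ddual F hF
    refine (Groth.Agent.Lib.Helper45.RefHullStalk.isReflexive_iff_forall_isReflexiveAt F hF).mp ?_
    change IsIso (RefHull.bidualMap F)
    let η := (Scheme.Modules.restrictAdjunction U.ι).unit
    have hnat : RefHull.bidualMap F ≫ η.app (RefHull.ddual F) =
        η.app F ≫ (Scheme.Modules.restrictFunctor U.ι ⋙ Scheme.Modules.pushforward U.ι).map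
          (RefHull.bidualMap F) := η.naturality (RefHull.bidualMap F)
    have hG : IsIso (η.app (RefHull.ddual F)) := by
      refine Groth.Agent.Lib.Helper80.isIso_unit_of_depth _ hGc U fun x hxU => ?_
      exact Groth.Agent.Lib.Helper45.RefHullDepth.two_le_depth_stalk_of_isReflexiveAt _ hGc x
        (isReflexiveAt_ddual X F hF x) (hdepthO x (hcodim x hxU))
    have hres : IsIso ((Scheme.Modules.restrictFunctor U.ι).map (RefHull.bidualMap F)) := by
      refine Groth.Agent.Lib.Helper49.isIso_of_stalkMap_bijective _ fun y => ?_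
      have hfy : Module.Free (X.presheaf.stalk (U.ι y)) ↑(F.presheaf.stalk (U.ι y)) :=
        Groth.Agent.Lib.Helper80.FreeLocus.free_stalk_of_isFinLocFree_restrict F U hfree _ y.2
      have : Module.Finite (X.presheaf.stalk (U.ι y)) (F.presheaf.stalk (U.ι y)) :=
        Groth.Agent.Lib.Helper12.QuasiFlat.finite_stalk_of_isCoh F hF _
      have hry : RefHull.IsReflexiveAt F (U.ι y) := by
        unfold RefHull.IsReflexiveAt
        infer_instance
      have hb := (Groth.Agent.Lib.Helper45.RefHullStalk.stalkMap_bidualMap_bijective_iff F hF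
        (U.ι y)).mpr hry
      exact ⟨Groth.Agent.Lib.Helper49.stalkMap_restrict_injective U.ι _ y hb.1,
        Groth.Agent.Lib.Helper49.stalkMap_restrict_surjective U.ι _ y hb.2⟩
    have hmid : IsIso ((Scheme.Modules.restrictFunctor U.ι ⋙ Scheme.Modules.pushforward U.ι).map
        (RefHull.bidualMap F)) := by
      change IsIso ((Scheme.Modules.pushforward U.ι).map
        ((Scheme.Modules.restrictFunctor U.ι).map (RefHull.bidualMap F)))
      infer_instance
    have hiso' : IsIso (η.app F) := hiso
    have hcomp : IsIso (RefHull.bidualMap F ≫ η.app (RefHull.ddual F)) := by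
      rw [hnat]; infer_instance
    exact IsIso.of_isIso_comp_right _ (η.app (RefHull.ddual F))

end Groth.Agent.S1690
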