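import Groth.Statements.S1691
import Groth.Agent.Lib.Helper80.RefExtend
import Groth.Agent.Lib.Helper14.ParaFCover
import Groth.Agent.Lib.Helper29.DepthQuot
import Groth.Agent.Lib.Helper49.FiniteTypeLocal

set_option autoImplicit false
universe u
open CategoryTheory CategoryTheory.Limits AlgebraicGeometry TopologicalSpace
open SDiv

namespace Groth.Agent.S1691

open Groth.Agent.Lib.Helper80 Groth.Agent.Lib.Helper80.RefExtend in
/-- coherence of `j_* G` for `G` coherent with reflexive stalks on `U`, `X` locally Noetherian with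
depth ≥ 2 off `U`. -/
theorem isCoh_pushforward (X : Scheme.{u}) [IsLocallyNoetherian X] (U : X.Opens)
    (hU : ∀ x : ↥X, x ∉ U → (2 : ℕ∞) ≤ LocCoh.depth (X.presheaf.stalk x) (X.presheaf.stalk x))
    (G : (U : Scheme.{u}).Modules) (hG : Coh.IsCoh G)
    (hr : ∀ x : ↥(U : Scheme.{u}),
      Module.IsReflexive ((U : Scheme.{u}).presheaf.stalk x) (G.presheaf.stalk x)) :
    Coh.IsCoh ((Scheme.Modules.pushforward U.ι).obj G) := by
  have hGq : G.IsQuasicoherent := hG.1
  have hHq : ((Scheme.Modules.pushforward U.ι).obj G).IsQuasicoherent :=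
    Groth.Agent.Lib.Helper49.isQuasicoherent_pushforward G U.ι
  refine ⟨hHq, ?_⟩
  refine Groth.Agent.Lib.Helper49.isFiniteType_of_forall_restrict _ (ι := X.affineOpens)
    (fun N => (N.1 : Scheme.{u})) (fun N => N.1.ι) (fun x => ?_) (fun N => ?_)
  · obtain ⟨_, ⟨N, hN, rfl⟩, hxN, -⟩ :=
      X.isBasis_affineOpens.exists_subset_of_mem_open (Set.mem_univ x) isOpen_univ
    exact ⟨⟨N, hN⟩, by rw [Scheme.Opens.range_ι]; exact hxN⟩
  · obtain ⟨N, hN⟩ := N
    have hNaff : IsAffine (N : Scheme.{u}) := hN
    have hcomp : CompactSpace (N : Scheme.{u}) := inferInstance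
    have hqs : QuasiSeparatedSpace (N : Scheme.{u}) := inferInstance
    have hG'' : Coh.IsCoh (G.restrict (U.ι ⁻¹ᵁ N).ι) :=
      ⟨Scheme.Modules.isQuasicoherent_restrictFunctor _ _,
        Groth.Agent.Lib.Helper49.isFiniteType_restrict G _ hG.2⟩
    have hr'' : ∀ y : ↥((U.ι ⁻¹ᵁ N : (U : Scheme.{u}).Opens) : Scheme.{u}),
        Module.IsReflexive (((U.ι ⁻¹ᵁ N : (U : Scheme.{u}).Opens) : Scheme.{u}).presheaf.stalk y)
          ((G.restrict (U.ι ⁻¹ᵁ N).ι).presheaf.stalk y) := by
      intro y
      have := hr ((U.ι ⁻¹ᵁ N).ι y)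
      exact ReflexiveTransport.isReflexive_restrict_stalk (U.ι ⁻¹ᵁ N).ι G y
    have hdepth : ∀ x' : (N : Scheme.{u}), x' ∉ Set.range (U.ι ∣_ N) →
        (2 : ℕ∞) ≤ LocCoh.depth ((N : Scheme.{u}).presheaf.stalk x')
          ((N : Scheme.{u}).presheaf.stalk x') := by
      intro x' hx'
      have hxU : N.ι x' ∉ U := by
        intro hmem
        apply hx'
        have hmemN : N.ι x' ∈ N := x'.2
        let u : (U : Scheme.{u}) := ⟨N.ι x', hmem⟩
        have huN : u ∈ U.ι ⁻¹ᵁ N := hmemN
        let w : ((U.ι ⁻¹ᵁ N : (U : Scheme.{u}).Opens) : Scheme.{u}) := ⟨u, huN⟩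
        refine ⟨w, ?_⟩
        apply N.ι.isOpenEmbedding.injective
        have := congrArg (fun f => f.base w) (morphismRestrict_ι U.ι N)
        simp only [Scheme.Hom.comp_base, TopCat.comp_app] at this
        exact this
      rw [Groth.Agent.Lib.Helper29.depth_self_eq_of_ringEquiv
        (ReflexiveTransport.stalkRingEquiv N.ι x')]
      exact hU _ hxU
    have hcoh := isCoh_pushforward_of_isReflexive (U.ι ∣_ N) hdepth _ hG'' hr''
    exact Groth.Agent.Lib.Helper49.isFiniteType_of_iso
      ((Groth.Agent.Lib.Helper14.pushforwardRestrictIso U.ι N).app G).symm hcoh.2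



/-- Let X be an integral locally Noetherian scheme and j : U ⟶ X an open subscheme such that the local
ring of X at every point outside U has depth at least 2. Then (a) for every coherent reflexive
module F on X the canonical map F ⟶ j_* j^* F is an isomorphism, and (b) for every coherent
reflexive module G on U the direct image j_* G is coherent and reflexive (so that j^* and j_* are
mutually inverse equivalences). -/
theorem result (X : Scheme.{u}) [IsIntegral X] [IsLocallyNoetherian X] (U : X.Opens)
    (hU : ∀ x : ↥X, x ∉ U → (2 : ℕ∞) ≤ LocCoh.depth (X.presheaf.stalk x) (X.presheaf.stalk x)) :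
    (∀ F : X.Modules, Coh.IsCoh F → (∀ x : ↥X, Module.IsReflexive (X.presheaf.stalk x) (F.presheaf.stalk x)) →
        IsIso ((Scheme.Modules.restrictAdjunction U.ι).unit.app F)) ∧
      (∀ G : (U : Scheme.{u}).Modules, Coh.IsCoh G → (∀ x : ↥(U : Scheme.{u}), Module.IsReflexive ((U : Scheme.{u}).presheaf.stalk x) (G.presheaf.stalk x)) →
        Coh.IsCoh ((Scheme.Modules.pushforward U.ι).obj G) ∧
          (∀ x : ↥X, Module.IsReflexive (X.presheaf.stalk x) (((Scheme.Modules.pushforward U.ι).obj G).presheaf.stalk x))) := by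
  constructor
  · intro F hF hrF
    exact Groth.Agent.Lib.Helper80.isIso_unit_of_depth F hF U fun x hx =>
      Groth.Agent.Lib.Helper45.RefHullDepth.two_le_depth_stalk_of_isReflexiveAt F hF x (hrF x)
        (hU x hx)
  · intro G hG hr
    have hHc := isCoh_pushforward X U hU G hG hr
    refine ⟨hHc, ?_⟩
    set H := (Scheme.Modules.pushforward U.ι).obj G with hH
    let η := (Scheme.Modules.restrictAdjunction U.ι).unit
    -- the unit at `H = j_* G` is an isomorphism
    have hηH : IsIso (η.app H) := by
      have htri := (Scheme.Modules.restrictAdjunction U.ι).right_triangle_components G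
      have h2 : IsIso ((Scheme.Modules.pushforward U.ι).map
          ((Scheme.Modules.restrictAdjunction U.ι).counit.app G)) := inferInstance
      have h3 : IsIso (η.app H ≫ (Scheme.Modules.pushforward U.ι).map
          ((Scheme.Modules.restrictAdjunction U.ι).counit.app G)) := by
        rw [show η.app H ≫ _ = 𝟙 _ from htri]; infer_instance
      exact IsIso.of_isIso_comp_right _ ((Scheme.Modules.pushforward U.ι).map
          ((Scheme.Modules.restrictAdjunction U.ι).counit.app G))
    have hDc := Groth.Agent.Lib.Helper45.RefHullStalk.isCoh_ddual H hHc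
    have hηD : IsIso (η.app (RefHull.ddual H)) :=
      Groth.Agent.Lib.Helper80.isIso_unit_of_depth _ hDc U fun x hx =>
        Groth.Agent.Lib.Helper80.RefExtend.two_le_depth_ddual H hHc x (hU x hx)
    have hres : IsIso ((Scheme.Modules.restrictFunctor U.ι).map (RefHull.bidualMap H)) := by
      refine Groth.Agent.Lib.Helper49.isIso_of_stalkMap_bijective _ fun y => ?_
      have hry : RefHull.IsReflexiveAt H (U.ι y) := by
        unfold RefHull.IsReflexiveAt
        have hry' : Module.IsReflexive ((U : Scheme.{u}).presheaf.stalk y)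
            (((𝟭 (U : Scheme.{u}).Modules).obj G).presheaf.stalk y) := hr y
        have h1 : Module.IsReflexive ((U : Scheme.{u}).presheaf.stalk y)
            (((Scheme.Modules.restrictFunctor U.ι).obj H).presheaf.stalk y) :=
          Groth.Agent.Lib.Helper80.RefExtend.isReflexive_stalk_of_iso
            (asIso ((Scheme.Modules.restrictAdjunction U.ι).counit.app G)).symm y
        exact Groth.Agent.Lib.Helper80.ReflexiveTransport.isReflexive_stalk_of_restrict U.ι H y
      have hb := (Groth.Agent.Lib.Helper45.RefHullStalk.stalkMap_bidualMap_bijective_iff H hHc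
        (U.ι y)).mpr hry
      exact ⟨Groth.Agent.Lib.Helper49.stalkMap_restrict_injective U.ι _ y hb.1,
        Groth.Agent.Lib.Helper49.stalkMap_restrict_surjective U.ι _ y hb.2⟩
    have hnat : RefHull.bidualMap H ≫ η.app (RefHull.ddual H) =
        η.app H ≫ (Scheme.Modules.restrictFunctor U.ι ⋙ Scheme.Modules.pushforward U.ι).map
          (RefHull.bidualMap H) := η.naturality (RefHull.bidualMap H)
    have hmid : IsIso ((Scheme.Modules.restrictFunctor U.ι ⋙ Scheme.Modules.pushforward U.ι).map
        (RefHull.bidualMap H)) := by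
      change IsIso ((Scheme.Modules.pushforward U.ι).map
        ((Scheme.Modules.restrictFunctor U.ι).map (RefHull.bidualMap H)))
      infer_instance
    have hcomp : IsIso (RefHull.bidualMap H ≫ η.app (RefHull.ddual H)) := by
      rw [hnat]; infer_instance
    have hbi : IsIso (RefHull.bidualMap H) :=
      IsIso.of_isIso_comp_right _ (η.app (RefHull.ddual H))
    exact (Groth.Agent.Lib.Helper45.RefHullStalk.isReflexive_iff_forall_isReflexiveAt H hHc).mp hbi

end Groth.Agent.S1691
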