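import Groth.Statements.S16914
import Groth.Agent.Lib.Helper66.DMOfGeomAut
import Groth.Agent.Lib.Helper66.DMOverAut
import Groth.Agent.Lib.Helper66.OpenCoverSetoid
import Groth.Agent.Lib.Helper66.SmBoot10
import Groth.Agent.Lib.Helper65.BasedPost
import Groth.Agent.Lib.Helper65.StkBasic
import Groth.Agent.Lib.Helper65.FpStack

set_option autoImplicit false
universe u
open CategoryTheory CategoryTheory.Limits AlgebraicGeometry
open ResProp

namespace Groth.Agent.S16914

/-- Let `𝒳` be an algebraic stack over `S` (fppf topology) whose diagonal is representable by algebraic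
spaces, separated and quasi-compact. Then `𝒳` is representable by an algebraic space over `S` if and
only if its stabilizer groups vanish at all geometric points: whenever `x` is an object of `𝒳` whose
scheme is the spectrum of an algebraically closed field, `ξ` an object with a morphism to `x` (a
pullback of `x` to some scheme) and `σ` an endomorphism of `ξ` lying over the identity, `σ` is the
identity. -/
theorem result (S : Scheme.{u}) (𝒳 : AlgSt.Cat S)
    (h𝒳 : AlgSt.IsAlgStack Scheme.fppfPrecoverage 𝒳)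
    (hΔ : AlgSt.RepByAlgSpWith (AlgSp.IsSeparatedMor ⊓ AlgSp.IsQuasiCompactMor) (FibCat.diag (FibCat.toSelf 𝒳))) :
    AlgSt.RepByAlgSp 𝒳 ↔
      ∀ (k : Type u) [Field k] [IsAlgClosed k] (x : 𝒳.obj) (e : (𝒳.p.obj x).left ≅ Spec (CommRingCat.of k))
        (ξ : 𝒳.obj) (φ : ξ ⟶ x) (σ : ξ ⟶ ξ), 𝒳.p.map σ = 𝟙 (𝒳.p.obj ξ) → σ = 𝟙 ξ := by
  open CategoryTheory AlgebraicGeometry FibCat Groth.Agent.Lib.Helper65 in
  constructor
  · rintro ⟨F, e, he⟩ k _ _ x _ ξ _ σ hσ
    have hset : IsFibSetoid 𝒳.p := isFibSetoid_of_equivOver e he (isFibSetoid_ofPsh _)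
    haveI h1 : 𝒳.p.IsHomLift (𝟙 (𝒳.p.obj ξ)) σ := by
      have h0 := IsHomLift.map 𝒳.p σ
      rwa [hσ] at h0
    haveI h2 : 𝒳.p.IsHomLift (𝟙 (𝒳.p.obj ξ)) (𝟙 ξ) := IsHomLift.id rfl
    exact eq_of_isThin_fiber (U := 𝒳.p.obj ξ) hset.2 σ (𝟙 ξ)
  · intro haut
    have hG : IsFibGrpd 𝒳.p := h𝒳.isStack.1
    have hDM : AlgSt.IsDMOver 𝒳 :=
      Groth.Agent.Lib.Helper66.DMOfGeomAut.isDMOver_of_geometric_aut_trivial h𝒳 haut
    have hset : IsFibSetoid 𝒳.p :=
      Groth.Agent.Lib.Helper66.OpenCoverSetoid.isFibSetoid_of_aut_trivial hG (fun t χ hχ =>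
        Groth.Agent.Lib.Helper66.DMOverAut.aut_trivial_of_isDMOver hG hDM
          (fun k _ _ s ξ hξ a ha =>
            haut k ξ ((Over.forget S).mapIso (eqToIso hξ)) ξ (𝟙 ξ) a
              (IsHomLift.eq_of_isHomLift 𝒳.p (𝟙 (𝒳.p.obj ξ)) a).symm) t χ hχ)
    exact Groth.Agent.Lib.Helper66.SmBoot.repByAlgSp_of_isAlgStack_of_isFibSetoid h𝒳 hset

end Groth.Agent.S16914
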