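import Mathlib
import Groth.Statements.S16917
import Groth.Agent.S15237

set_option autoImplicit false
open CategoryTheory AlgebraicGeometry
universe u
open Variety

namespace Groth.Agent.S16917

open TopologicalSpace


lemma no_strictMono (X : Scheme.{u}) [IsLocallyNoetherian X] (f : ℕ → Closeds X)
    (hirr : ∀ n, IsIrreducible (f n : Set X)) (hf : StrictMono f) : False := by
  have hgen : ∀ n, ∃ x : X, IsGenericPoint x (f n : Set X) := fun n =>
    QuasiSober.sober (hirr n) (f n).isClosed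
  choose η hη using hgen
  have hspec : ∀ n, η (n + 1) ⤳ η n := by
    intro n
    rw [specializes_iff_mem_closure, (hη (n + 1)).def]
    exact (hf.monotone (Nat.le_succ n)) (hη n).mem
  have hne : ∀ n, η (n + 1) ≠ η n := by
    intro n h
    have h1 : (f (n + 1) : Set X) = f n := by rw [← (hη (n + 1)).def, ← (hη n).def, h]
    exact (hf (Nat.lt_succ_self n)).ne (SetLike.coe_injective h1.symm)
  have hspec0 : ∀ n, η n ⤳ η 0 := by
    intro n
    induction n with
    | zero => exact specializes_rfl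
    | succ n ih => exact (hspec n).trans ih
  obtain ⟨_, ⟨U, hU, rfl⟩, h0U, -⟩ :=
    X.isBasis_affineOpens.exists_subset_of_mem_open (Set.mem_univ (η 0)) isOpen_univ
  have hU' : IsAffineOpen U := hU
  have : IsNoetherianRing Γ(X, U) := IsLocallyNoetherian.component_noetherian ⟨U, hU⟩
  have hmem : ∀ n, η n ∈ U := fun n => (hspec0 n).mem_open U.2 h0U
  let p : ℕ → PrimeSpectrum Γ(X, U) := fun n => hU'.primeIdealOf ⟨η n, hmem n⟩
  have hj : ∀ n, hU'.fromSpec (p n) = η n := fun n => hU'.fromSpec_primeIdealOf ⟨η n, hmem n⟩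
  have hsp : ∀ n, p (n + 1) ⤳ p n := by
    intro n
    apply hU'.fromSpec.isOpenEmbedding.isInducing.specializes_iff.mp
    rw [hj, hj]
    exact hspec n
  have hlt : ∀ n, (p (n + 1)).asIdeal < (p n).asIdeal := by
    intro n
    rw [PrimeSpectrum.asIdeal_lt_asIdeal]
    refine lt_of_le_of_ne ((PrimeSpectrum.le_iff_specializes _ _).mpr (hsp n)) ?_
    intro h
    apply hne n
    rw [← hj, ← hj, h]
  have hht : ∀ n, (p (n + 1)).asIdeal.height < (p n).asIdeal.height := fun n =>
    Ideal.height_strict_mono_of_isPrime_of_isPrime (hlt n)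
  exact not_strictAnti_of_wellFoundedLT (fun n => (p n).asIdeal.height)
    (strictAnti_nat_of_succ_lt hht)

lemma exists_maximal_above (X : Scheme.{u}) [IsLocallyNoetherian X] (𝒞 : Set (Closeds X))
    (hirr : ∀ T ∈ 𝒞, IsIrreducible (T : Set X)) (T : Closeds X) (hT : T ∈ 𝒞) :
    ∃ T' ∈ 𝒞, T ≤ T' ∧ ∀ T'' ∈ 𝒞, T' ≤ T'' → T'' = T' := by
  by_contra hcon
  push Not at hcon
  have step : ∀ a : {T' : Closeds X // T' ∈ 𝒞 ∧ T ≤ T'},
      ∃ b : {T' : Closeds X // T' ∈ 𝒞 ∧ T ≤ T'}, a.1 < b.1 := by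
    intro a
    obtain ⟨T'', h1, h2, h3⟩ := hcon a.1 a.2.1 a.2.2
    exact ⟨⟨T'', h1, a.2.2.trans h2⟩, lt_of_le_of_ne h2 (Ne.symm h3)⟩
  choose nxt hnxt using step
  let g : ℕ → {T' : Closeds X // T' ∈ 𝒞 ∧ T ≤ T'} :=
    fun n => Nat.rec ⟨T, hT, le_rfl⟩ (fun _ a => nxt a) n
  have hg : StrictMono (fun n => (g n).1) := strictMono_nat_of_lt_succ (fun n => hnxt (g n))
  exact no_strictMono X (fun n => (g n).1) (fun n => hirr _ (g n).2.1) hg

lemma exists_le_of_points (k : Type u) [Field k] [Uncountable k] (X : Scheme.{u})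
    (sX : X ⟶ Spec (CommRingCat.of k)) [LocallyOfFiniteType sX]
    (S' : Set (Closeds X)) (hS'c : S'.Countable) (T : Closeds X) (hT : IsIrreducible (T : Set X))
    (hpts : ∀ x : X, IsClosed ({x} : Set X) → x ∈ T → ∃ T' ∈ S', x ∈ T') :
    ∃ T' ∈ S', T ≤ T' := by
  classical
  by_contra hcon
  push Not at hcon
  let I := Scheme.IdealSheafData.vanishingIdeal T
  let W := I.subscheme
  let ι : W ⟶ X := I.subschemeι
  have hrange : Set.range ι = (T : Set X) := by
    rw [Scheme.IdealSheafData.range_subschemeι]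
    exact Scheme.IdealSheafData.coe_support_vanishingIdeal T
  haveI : IrreducibleSpace W := by
    have e : W ≃ₜ Set.range ι := ι.isEmbedding.toHomeomorph
    haveI : IrreducibleSpace (Set.range ι) := Subtype.irreducibleSpace (hrange ▸ hT)
    exact e.irreducibleSpace_iff.mpr inferInstance
  obtain ⟨f, hf⟩ : ∃ f : ℕ → Closeds X, S' ⊆ Set.range f :=
    Set.countable_iff_exists_subset_range.mp hS'c
  let Zw : ℕ → Closeds W := fun n => if f n ∈ S' then (f n).preimage ι.continuous else ⊥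
  have hZw : ∀ n, (Zw n : Set W) ≠ Set.univ := by
    intro n h
    by_cases hn : f n ∈ S'
    · simp only [Zw, if_pos hn] at h
      apply hcon (f n) hn
      intro x hx
      obtain ⟨w, rfl⟩ : x ∈ Set.range ι := hrange ▸ hx
      have : w ∈ ((f n).preimage ι.continuous : Set W) := h ▸ Set.mem_univ w
      exact this
    · simp only [Zw, if_neg hn] at h
      obtain ⟨w⟩ := (inferInstance : Nonempty W)
      have : w ∈ ((⊥ : Closeds W) : Set W) := h ▸ Set.mem_univ w
      exact this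
  obtain ⟨w, hwcl, hw⟩ := Groth.Agent.S15237.main k W (ι ≫ sX) Zw hZw
  have hxcl : IsClosed ({ι w} : Set X) := by
    have := ι.isClosedEmbedding.isClosedMap _ hwcl
    rwa [Set.image_singleton] at this
  have hxT : ι w ∈ T := by
    rw [← SetLike.mem_coe, ← hrange]; exact Set.mem_range_self w
  obtain ⟨T', hT', hxT'⟩ := hpts (ι w) hxcl hxT
  obtain ⟨n, rfl⟩ := hf hT'
  apply hw n
  simp only [Zw, if_pos hT']
  exact hxT'

theorem main (k : Type u) [Field k] [Uncountable k] (X : Scheme.{u})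
    (sX : X ⟶ Spec (CommRingCat.of k)) [LocallyOfFiniteType sX] [QuasiCompact sX]
    (Z : ℕ → Closeds X) :
    ∃! S : Set (Closeds X), S.Countable ∧ (∀ T ∈ S, IsIrreducible (T : Set X)) ∧
      IsAntichain (· ≤ ·) S ∧
      {x : X | IsClosed ({x} : Set X) ∧ ∃ T ∈ S, x ∈ T} =
        {x : X | IsClosed ({x} : Set X) ∧ ∃ n, x ∈ Z n} := by
  haveI : IsLocallyNoetherian X := LocallyOfFiniteType.isLocallyNoetherian sX
  haveI : CompactSpace X := QuasiCompact.compactSpace_of_compactSpace sX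
  haveI : IsNoetherian X := {}
  have hdec : ∀ n, ∃ Sn : Set (Closeds X), Sn.Finite ∧
      (∀ t ∈ Sn, IsIrreducible (t : Set X)) ∧ Z n = sSup Sn :=
    fun n => NoetherianSpace.exists_finite_set_closeds_irreducible (Z n)
  choose Sn hfin hirrn hsup using hdec
  obtain ⟨𝒞, h𝒞⟩ : ∃ 𝒞 : Set (Closeds X), 𝒞 = ⋃ n, Sn n := ⟨_, rfl⟩
  have h𝒞mem : ∀ T, T ∈ 𝒞 ↔ ∃ n, T ∈ Sn n := fun T => by rw [h𝒞, Set.mem_iUnion]
  have h𝒞count : 𝒞.Countable := by
    rw [h𝒞]; exact Set.countable_iUnion (fun n => (hfin n).countable)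
  have h𝒞irr : ∀ T ∈ 𝒞, IsIrreducible (T : Set X) := by
    intro T hT
    obtain ⟨n, hn⟩ := (h𝒞mem T).mp hT
    exact hirrn n T hn
  have hmemZ : ∀ n (x : X), x ∈ Z n ↔ ∃ T ∈ Sn n, x ∈ T := by
    intro n x
    have hcl : IsClosed (⋃ T ∈ Sn n, (T : Set X)) :=
      (hfin n).isClosed_biUnion (fun T _ => T.isClosed)
    rw [← SetLike.mem_coe, hsup n, Closeds.coe_sSup, Set.sUnion_image, hcl.closure_eq]
    simp only [Set.mem_iUnion, SetLike.mem_coe, exists_prop]
  -- existence
  have hex : ∃ S : Set (Closeds X), S.Countable ∧ (∀ T ∈ S, IsIrreducible (T : Set X)) ∧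
      IsAntichain (· ≤ ·) S ∧
      {x : X | IsClosed ({x} : Set X) ∧ ∃ T ∈ S, x ∈ T} =
        {x : X | IsClosed ({x} : Set X) ∧ ∃ n, x ∈ Z n} := by
    refine ⟨{T | T ∈ 𝒞 ∧ ∀ T'' ∈ 𝒞, T ≤ T'' → T'' = T}, h𝒞count.mono (fun T hT => hT.1),
      fun T hT => h𝒞irr T hT.1, ?_, ?_⟩
    · intro a ha b hb hab hle
      exact hab (ha.2 b hb.1 hle).symm
    · ext x
      constructor
      · rintro ⟨hx, T, hT, hxT⟩
        obtain ⟨n, hn⟩ := (h𝒞mem T).mp hT.1
        exact ⟨hx, n, (hmemZ n x).mpr ⟨T, hn, hxT⟩⟩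
      · rintro ⟨hx, n, hxn⟩
        obtain ⟨T0, hT0, hxT0⟩ := (hmemZ n x).mp hxn
        obtain ⟨T', hT', hle, hmax⟩ := exists_maximal_above X 𝒞 h𝒞irr T0 ((h𝒞mem T0).mpr ⟨n, hT0⟩)
        exact ⟨hx, T', ⟨hT', hmax⟩, hle hxT0⟩
  -- uniqueness
  obtain ⟨S, hS1, hS2, hS3, hS4⟩ := hex
  refine ⟨S, ⟨hS1, hS2, hS3, hS4⟩, ?_⟩
  rintro S' ⟨hS'1, hS'2, hS'3, hS'4⟩
  have key : ∀ (A B : Set (Closeds X)), B.Countable → (∀ T ∈ A, IsIrreducible (T : Set X)) →
      {x : X | IsClosed ({x} : Set X) ∧ ∃ T ∈ A, x ∈ T} =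
        {x : X | IsClosed ({x} : Set X) ∧ ∃ T ∈ B, x ∈ T} →
      ∀ T ∈ A, ∃ T' ∈ B, T ≤ T' := by
    intro A B hB hA hAB T hT
    apply exists_le_of_points k X sX B hB T (hA T hT)
    intro x hx hxT
    have : x ∈ {x : X | IsClosed ({x} : Set X) ∧ ∃ T ∈ A, x ∈ T} := ⟨hx, T, hT, hxT⟩
    rw [hAB] at this
    exact this.2
  have sub : ∀ (A B : Set (Closeds X)), A.Countable → B.Countable →
      (∀ T ∈ A, IsIrreducible (T : Set X)) → (∀ T ∈ B, IsIrreducible (T : Set X)) →
      IsAntichain (· ≤ ·) A →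
      {x : X | IsClosed ({x} : Set X) ∧ ∃ T ∈ A, x ∈ T} =
        {x : X | IsClosed ({x} : Set X) ∧ ∃ T ∈ B, x ∈ T} → A ⊆ B := by
    intro A B hAc hBc hA hB hanti hAB T hT
    obtain ⟨T', hT', h1⟩ := key A B hBc hA hAB T hT
    obtain ⟨T'', hT'', h2⟩ := key B A hAc hB hAB.symm T' hT'
    have h3 : T = T'' := by
      by_contra hne
      exact hanti hT hT'' hne (h1.trans h2)
    have h4 : T = T' := le_antisymm h1 (h3 ▸ h2)
    rw [h4]; exact hT'
  have hSS' : {x : X | IsClosed ({x} : Set X) ∧ ∃ T ∈ S', x ∈ T} =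
      {x : X | IsClosed ({x} : Set X) ∧ ∃ T ∈ S, x ∈ T} := by rw [hS'4, hS4]
  exact Set.Subset.antisymm (sub S' S hS'1 hS1 hS'2 hS2 hS'3 hSS')
    (sub S S' hS1 hS'1 hS2 hS'2 hS3 hSS'.symm)


/-- Let k be an uncountable algebraically closed field, X a k-scheme of finite type and Z₀, Z₁, …
countably many closed subsets of X. Then the countable union of the Zₙ, read through closed points,
has a unique irredundant decomposition: there is exactly one countable family S of irreducible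
closed subsets of X, pairwise not contained in one another, such that a closed point of X lies in
some member of S if and only if it lies in some Zₙ. (The published statement is the existence and
uniqueness of the irredundant decomposition of a countable union of algebraic varieties into
c-components, a variety being read through its closed points; with all points of the scheme the
uniqueness would not need the uncountable field.) -/
theorem result (k : Type u) [Field k] [IsAlgClosed k]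
    [Uncountable k] (X : Scheme.{u}) (sX : X ⟶ Spec (CommRingCat.of k)) [LocallyOfFiniteType sX]
    [QuasiCompact sX] (Z : ℕ → TopologicalSpace.Closeds X) :
    ∃! S : Set (TopologicalSpace.Closeds X), S.Countable ∧ (∀ T ∈ S, IsIrreducible (T : Set X)) ∧
      IsAntichain (· ≤ ·) S ∧
      {x : X | IsClosed ({x} : Set X) ∧ ∃ T ∈ S, x ∈ T} =
        {x : X | IsClosed ({x} : Set X) ∧ ∃ n, x ∈ Z n} := by
  exact main k X sX Z

end Groth.Agent.S16917
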