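import Groth.Statements.S16919
import Mathlib

set_option autoImplicit false
universe u
open TensorProduct
open CAlg

namespace Groth.Agent.S16919

open Cardinal Algebra


theorem exists_ringEquiv_of_trdeg_eq (R₀ K L : Type u) [CommRing R₀] [IsDomain R₀] [Field K] [Field L]
    [IsAlgClosed K] [IsAlgClosed L] [Algebra R₀ K] [Algebra R₀ L]
    (hK : Function.Injective (algebraMap R₀ K)) (hL : Function.Injective (algebraMap R₀ L))
    (h : Algebra.trdeg R₀ K = Algebra.trdeg R₀ L) :
    ∃ e : K ≃+* L, ∀ r, e (algebraMap R₀ K r) = algebraMap R₀ L r := by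
  have : FaithfulSMul R₀ K := (faithfulSMul_iff_algebraMap_injective R₀ K).mpr hK
  have : FaithfulSMul R₀ L := (faithfulSMul_iff_algebraMap_injective R₀ L).mpr hL
  obtain ⟨ι, v, hv⟩ := exists_isTranscendenceBasis' R₀ K
  obtain ⟨κ, w, hw⟩ := exists_isTranscendenceBasis' R₀ L
  have hc : #ι = #κ := by rw [hv.cardinalMk_eq_trdeg, hw.cardinalMk_eq_trdeg, h]
  obtain ⟨e⟩ := Cardinal.eq.1 hc
  let e₀ : Algebra.adjoin R₀ (Set.range v) ≃ₐ[R₀] Algebra.adjoin R₀ (Set.range w) :=
    hv.1.aevalEquiv.symm.trans ((MvPolynomial.renameEquiv R₀ e).trans hw.1.aevalEquiv)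
  have := IsAlgClosed.isAlgClosure_of_transcendence_basis v hv
  have := IsAlgClosed.isAlgClosure_of_transcendence_basis w hw
  refine ⟨IsAlgClosure.equivOfEquiv K L e₀.toRingEquiv, fun r => ?_⟩
  rw [IsScalarTower.algebraMap_apply R₀ (Algebra.adjoin R₀ (Set.range v)) K,
    IsAlgClosure.equivOfEquiv_algebraMap]
  simp [← IsScalarTower.algebraMap_apply]

/-- Abstract form: all algebra structures involving `R₀ → R`, `R₀ → k`, `? → Ω` are given by
explicit ring homs to avoid instance clashes. -/
theorem abstract_main (k₀ k R₀ R Ω : Type u) [Field k₀] [Field k] [Field Ω] [CommRing R₀] [CommRing R]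
    [IsAlgClosed k] [IsAlgClosed Ω]
    [Algebra k₀ k] [Algebra k₀ R₀] [Algebra k R] [Algebra R Ω]
    [Algebra.FiniteType k₀ R₀] [Algebra.FiniteType k R] [Algebra.IsAlgebraic R Ω] [IsDomain R]
    (hRΩ : Function.Injective (algebraMap R Ω))
    (hinf : ∃ x : ℕ → k, AlgebraicIndependent k₀ x)
    (inc : R₀ →+* R) (evr : R →+* k)
    (hcompat : ∀ c : k₀, inc (algebraMap k₀ R₀ c) = algebraMap k R (algebraMap k₀ k c))
    (hev : ∀ c : k, evr (algebraMap k R c) = c)
    (hP : Function.Injective fun r : R₀ => evr (inc r)) :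
    ∃ e : Ω ≃+* k, ∀ r : R₀, e (algebraMap R Ω (inc r)) = evr (inc r) := by
  let φΩ : R₀ →+* Ω := (algebraMap R Ω).comp inc
  let φk : R₀ →+* k := evr.comp inc
  have hφk : Function.Injective φk := hP
  have hincinj : Function.Injective inc := fun a b hab => hP (by
    change evr (inc a) = evr (inc b)
    rw [hab])
  have hφΩ : Function.Injective φΩ := hRΩ.comp hincinj
  haveI : IsDomain R₀ := hφk.isDomain φk
  letI algΩ : Algebra R₀ Ω := φΩ.toAlgebra
  letI algk : Algebra R₀ k := φk.toAlgebra
  letI algkΩ : Algebra k Ω := ((algebraMap R Ω).comp (algebraMap k R)).toAlgebra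
  letI algk₀Ω : Algebra k₀ Ω := ((algebraMap k Ω).comp (algebraMap k₀ k)).toAlgebra
  have key : Algebra.trdeg R₀ Ω = Algebra.trdeg R₀ k := by
    -- the cardinal c = trdeg k₀ k is infinite
    obtain ⟨x, hx⟩ := hinf
    have hc : ℵ₀ ≤ Algebra.trdeg k₀ k := by
      have := hx.lift_cardinalMk_le_trdeg
      simpa using this
    have ha : Algebra.trdeg k₀ R₀ < ℵ₀ := trdeg_lt_aleph0_of_finiteType
    have f1 : FaithfulSMul k₀ R₀ :=
      (faithfulSMul_iff_algebraMap_injective k₀ R₀).mpr (algebraMap k₀ R₀).injective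
    have f2 : FaithfulSMul R₀ k := (faithfulSMul_iff_algebraMap_injective R₀ k).mpr hφk
    have f3 : FaithfulSMul R₀ Ω := (faithfulSMul_iff_algebraMap_injective R₀ Ω).mpr hφΩ
    have f4 : FaithfulSMul R Ω := (faithfulSMul_iff_algebraMap_injective R Ω).mpr hRΩ
    have f5 : FaithfulSMul k Ω :=
      (faithfulSMul_iff_algebraMap_injective k Ω).mpr (algebraMap k Ω).injective
    have f6 : FaithfulSMul k R :=
      (faithfulSMul_iff_algebraMap_injective k R).mpr (algebraMap k R).injective
    have t1 : IsScalarTower k₀ R₀ k := IsScalarTower.of_algebraMap_eq fun c => by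
      change algebraMap k₀ k c = evr (inc (algebraMap k₀ R₀ c))
      rw [hcompat, hev]
    have t3 : IsScalarTower k R Ω := IsScalarTower.of_algebraMap_eq fun c => rfl
    have t4 : IsScalarTower k₀ k Ω := IsScalarTower.of_algebraMap_eq fun c => rfl
    have t2 : IsScalarTower k₀ R₀ Ω := IsScalarTower.of_algebraMap_eq fun c => by
      change algebraMap k₀ Ω c = algebraMap R Ω (inc (algebraMap k₀ R₀ c))
      rw [hcompat]; rfl
    -- trdeg R₀ k = c
    have e1 : Algebra.trdeg R₀ k = Algebra.trdeg k₀ k :=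
      Cardinal.eq_of_add_eq_of_aleph0_le (trdeg_add_eq k₀ R₀ (A := k)) (ha.trans_le hc) hc
    -- trdeg k Ω finite
    have e2 : Algebra.trdeg k Ω < ℵ₀ := by
      have h1 := trdeg_add_eq k R (A := Ω)
      rw [trdeg_eq_zero (R := R) (A := Ω), add_zero] at h1
      rw [← h1]
      exact trdeg_lt_aleph0_of_finiteType
    have e3 : Algebra.trdeg k₀ Ω = Algebra.trdeg k₀ k := by
      rw [← trdeg_add_eq k₀ k (A := Ω)]
      exact Cardinal.add_eq_left hc (e2.le.trans hc)
    have e4 : Algebra.trdeg R₀ Ω = Algebra.trdeg k₀ Ω :=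
      Cardinal.eq_of_add_eq_of_aleph0_le (trdeg_add_eq k₀ R₀ (A := Ω))
        (ha.trans_le (e3 ▸ hc)) (e3 ▸ hc)
    rw [e4, e3, e1]
  obtain ⟨e, he⟩ := exists_ringEquiv_of_trdeg_eq R₀ Ω k hφΩ hφk key
  exact ⟨e, fun r => he r⟩


/-- Let k₀ → k be an extension of fields with k algebraically closed and of infinite transcendence
degree over k₀, R₀ a finitely generated k₀-algebra whose base change R = k ⊗ R₀ is an integral
domain (so Spec R is an integral affine k-scheme of finite type with the model Spec R₀ over k₀), and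
P a k-point of Spec R, i.e. a k-algebra homomorphism ev : R → k, lying over the generic point of
Spec R₀, i.e. with ev injective on R₀. Then there is a field isomorphism e from an algebraic closure
of the fraction field of R (the function field of Spec R) onto k such that e(1 ⊗ r) = ev(1 ⊗ r) for
every r in R₀: e extends evaluation at P on R₀. (The published setting has k algebraically closed of
characteristic zero and of infinite transcendence degree over its prime field, and k₀ the subfield
generated by the coefficients of equations of Spec R, which is finitely generated over the prime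
field, so that k has infinite transcendence degree over k₀; only this last property and no
characteristic assumption enter here. The isomorphism is not canonical.) -/
theorem result (k₀ k : Type u)
    [Field k₀] [Field k] [Algebra k₀ k] [IsAlgClosed k] (hinf : ∃ x : ℕ → k, AlgebraicIndependent k₀ x)
    (R₀ : Type u) [CommRing R₀] [Algebra k₀ R₀] [Algebra.FiniteType k₀ R₀] [IsDomain (k ⊗[k₀] R₀)]
    (ev : k ⊗[k₀] R₀ →ₐ[k] k) (hP : Function.Injective fun r : R₀ => ev (1 ⊗ₜ[k₀] r)) :
    ∃ e : AlgebraicClosure (FractionRing (k ⊗[k₀] R₀)) ≃+* k,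
      ∀ r : R₀, e (algebraMap (k ⊗[k₀] R₀) (AlgebraicClosure (FractionRing (k ⊗[k₀] R₀)))
        (1 ⊗ₜ[k₀] r)) = ev (1 ⊗ₜ[k₀] r) := by
  have hRΩ : Function.Injective (algebraMap (k ⊗[k₀] R₀)
      (AlgebraicClosure (FractionRing (k ⊗[k₀] R₀)))) := by
    rw [IsScalarTower.algebraMap_eq (k ⊗[k₀] R₀) (FractionRing (k ⊗[k₀] R₀))
      (AlgebraicClosure (FractionRing (k ⊗[k₀] R₀)))]
    exact (algebraMap (FractionRing (k ⊗[k₀] R₀)) _).injective.comp
      (IsFractionRing.injective (k ⊗[k₀] R₀) (FractionRing (k ⊗[k₀] R₀)))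
  have alg : Algebra.IsAlgebraic (k ⊗[k₀] R₀) (AlgebraicClosure (FractionRing (k ⊗[k₀] R₀))) :=
    (IsFractionRing.comap_isAlgebraic_iff (A := k ⊗[k₀] R₀) (K := FractionRing (k ⊗[k₀] R₀))
      (C := AlgebraicClosure (FractionRing (k ⊗[k₀] R₀)))).mpr inferInstance
  have hone : ∀ c : k₀, (1 : k) ⊗ₜ[k₀] (algebraMap k₀ R₀ c)
      = algebraMap k (k ⊗[k₀] R₀) (algebraMap k₀ k c) := by
    intro c
    rw [Algebra.TensorProduct.algebraMap_apply, Algebra.algebraMap_eq_smul_one,
      Algebra.algebraMap_eq_smul_one, TensorProduct.tmul_smul, TensorProduct.smul_tmul']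
    simp [Algebra.algebraMap_eq_smul_one]
  exact abstract_main k₀ k R₀ (k ⊗[k₀] R₀) (AlgebraicClosure (FractionRing (k ⊗[k₀] R₀))) hRΩ hinf
    (Algebra.TensorProduct.includeRight : R₀ →ₐ[k₀] k ⊗[k₀] R₀).toRingHom ev.toRingHom
    (fun c => hone c) (fun c => ev.commutes c) hP

end Groth.Agent.S16919
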