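import Groth.Statements.S16948
import Groth.Agent.Lib.Helper1.PullCalc.BCTranspose
import Groth.Agent.Lib.Helper1.QcqsLoc.ThetaUnique

set_option autoImplicit false
universe u
open Coherent

namespace Groth.Agent.S16948

open AlgebraicGeometry CategoryTheory Scheme.Modules in
/-- Take two cartesian squares of schemes side by side, f : X → Y over φ : U → V (vertical maps ξ : X →
U and η : Y → V, f ≫ η = ξ ≫ φ) and g : Y → Z over ψ : V → W (vertical map ζ : Z → W, g ≫ ζ = η ≫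
ψ), a quasi-coherent O_Z-module L and a natural number p. Write β for the degree-p base change maps
of higher direct images (R^p the p-th right derived functor of direct image on O-modules; the maps
are the pinned ones of the structure GenBC relative to pinned comparison data for ζ, η and ξ): B₂
for the right square, B₁ for the left square, B for the outer square. Then the composite of the
composition isomorphism φ^* ψ^* R^p ζ_* L ≅ (φ ≫ ψ)^* R^p ζ_* L with β_B(L) equals φ^* β_{B₂}(L)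
followed by β_{B₁}(g^* L) followed by R^p ξ_* of the composition isomorphism f^* g^* L ≅ (f ≫ g)^*
L. The source states this for arbitrary ζ and η; its verification evaluates both sides on sections
of R^p ζ_* L and R^p η_*(g^* L) over affine opens, identified with cohomology classes over their
preimages, and that identification is the one available for ζ and η quasi-compact and
quasi-separated, which are therefore assumed here. -/
theorem result
    {X Y Z U V W : Scheme.{u}} (f : X ⟶ Y) (g : Y ⟶ Z) (ξ : X ⟶ U) (η : Y ⟶ V) (ζ : Z ⟶ W)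
    (φ : U ⟶ V) (ψ : V ⟶ W) (h₁ : IsPullback f ξ η φ) (h₂ : IsPullback g η ζ ψ)
    (hw : (f ≫ g) ≫ ζ = ξ ≫ (φ ≫ ψ))
    [QuasiCompact ζ] [QuasiSeparated ζ] [QuasiCompact η] [QuasiSeparated η]
    [HasInjectiveResolutions X.Modules] [HasInjectiveResolutions Y.Modules] [HasInjectiveResolutions Z.Modules]
    (L : Z.Modules) [Coh.IsQCoh L] (p : ℕ)
    {Δζ : RDer.DerivedLES (pushforward ζ)} {Δη : RDer.DerivedLES (pushforward η)} {Δξ : RDer.DerivedLES (pushforward ξ)}
    (Eζ : CohCmp.SectCmp ζ Δζ) (Eη : CohCmp.SectCmp η Δη) (Eξ : CohCmp.SectCmp ξ Δξ)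
    (B₂ : CohCmp.GenBC ζ ψ η g h₂.w Eζ Eη) (B₁ : CohCmp.GenBC η φ ξ f h₁.w Eη Eξ)
    (B : CohCmp.GenBC ζ (φ ≫ ψ) ξ (f ≫ g) hw Eζ Eξ) :
    (pullbackComp φ ψ).hom.app ((Coh.Rpush ζ p).obj L) ≫ B.bc p L =
      (pullback φ).map (B₂.bc p L) ≫ B₁.bc p ((pullback g).obj L) ≫
        (Coh.Rpush ξ p).map ((pullbackComp f g).hom.app L) := by
    classical
    -- transpose along the composite adjunction `ψ^* ⋙ φ^* ⊣ φ_* ⋙ ψ_*`
    apply (((pullbackPushforwardAdjunction ψ).comp (pullbackPushforwardAdjunction φ)).homEquiv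
      _ _).injective
    apply Groth.Agent.Lib.Helper1.PullCalc.hom_ext_affine
    intro O hO s
    rw [Groth.Agent.Lib.Helper1.PullCalc.comp_homEquiv_app_apply,
      Groth.Agent.Lib.Helper1.PullCalc.comp_homEquiv_app_apply]
    -- the left hand side
    have hL : ((pullbackComp φ ψ).hom.app ((Coh.Rpush ζ p).obj L) ≫ B.bc p L).app (φ ⁻¹ᵁ (ψ ⁻¹ᵁ O))
        (((pullbackPushforwardAdjunction φ).unit.app ((pullback ψ).obj ((Coh.Rpush ζ p).obj L))).app
          (ψ ⁻¹ᵁ O)
          (((pullbackPushforwardAdjunction ψ).unit.app ((Coh.Rpush ζ p).obj L)).app O s)) =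
        (B.φ p L).app O s := by
      refine Eq.trans ?_ (Groth.Agent.Lib.Helper1.PullCalc.bc_app_unit B p L O s)
      exact congrArg (fun t => (B.bc p L).app ((φ ≫ ψ) ⁻¹ᵁ O) t)
        (Groth.Agent.Lib.Helper1.PullCalc.unit_comp_hom_apply φ ψ ((Coh.Rpush ζ p).obj L) O s)
    rw [hL]
    -- the right hand side
    have hR : ((pullback φ).map (B₂.bc p L) ≫ B₁.bc p ((pullback g).obj L) ≫
          (Coh.Rpush ξ p).map ((pullbackComp f g).hom.app L)).app (φ ⁻¹ᵁ (ψ ⁻¹ᵁ O))
        (((pullbackPushforwardAdjunction φ).unit.app ((pullback ψ).obj ((Coh.Rpush ζ p).obj L))).app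
          (ψ ⁻¹ᵁ O)
          (((pullbackPushforwardAdjunction ψ).unit.app ((Coh.Rpush ζ p).obj L)).app O s)) =
        ((Coh.Rpush ξ p).map ((pullbackComp f g).hom.app L)).app (φ ⁻¹ᵁ (ψ ⁻¹ᵁ O))
          ((B₁.φ p ((pullback g).obj L)).app (ψ ⁻¹ᵁ O) ((B₂.φ p L).app O s)) := by
      refine congrArg (fun t => ((Coh.Rpush ξ p).map ((pullbackComp f g).hom.app L)).app
        (φ ⁻¹ᵁ (ψ ⁻¹ᵁ O)) t) ?_
      refine Eq.trans (congrArg (fun t => (B₁.bc p ((pullback g).obj L)).app (φ ⁻¹ᵁ (ψ ⁻¹ᵁ O)) t)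
        (Groth.Agent.Lib.Helper1.PullCalc.unit_naturality_apply φ (B₂.bc p L) (ψ ⁻¹ᵁ O)
          (((pullbackPushforwardAdjunction ψ).unit.app ((Coh.Rpush ζ p).obj L)).app O s))) ?_
      refine Eq.trans (congrArg (fun t => (B₁.bc p ((pullback g).obj L)).app (φ ⁻¹ᵁ (ψ ⁻¹ᵁ O))
        (((pullbackPushforwardAdjunction φ).unit.app
          ((Coh.Rpush η p).obj ((pullback g).obj L))).app (ψ ⁻¹ᵁ O) t))
        (Groth.Agent.Lib.Helper1.PullCalc.bc_app_unit B₂ p L O s)) ?_
      exact Groth.Agent.Lib.Helper1.PullCalc.bc_app_unit B₁ p ((pullback g).obj L) (ψ ⁻¹ᵁ O) _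
    rw [hR]
    obtain ⟨x, rfl⟩ := (Groth.Agent.Lib.Helper1.QcqsLoc.eps_bijective ζ O Eζ L hO p).2 s
    rw [B.compat, B₂.compat, B₁.compat]
    refine Eq.trans ?_ (Eξ.natural (φ ⁻¹ᵁ (ψ ⁻¹ᵁ O)) ((pullbackComp f g).hom.app L) p _)
    exact congrArg (fun t => Eξ.ε (φ ⁻¹ᵁ (ψ ⁻¹ᵁ O)) ((pullback (f ≫ g)).obj L) p t)
      (Groth.Agent.Lib.Helper1.PullCalc.pullOn_comp f g L _ _ _ p x)

end Groth.Agent.S16948
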