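import Groth.Statements.S1695
import Groth.Agent.Lib.Helper93.AffineBlowUpAlg
import Groth.Agent.Lib.Helper93.BlowUpProj
import Groth.Agent.Lib.Helper93.BlowUpLocal

set_option autoImplicit false
universe u
open CategoryTheory CategoryTheory.Limits AlgebraicGeometry TopologicalSpace
open SDiv

namespace Groth.Agent.S1695

/-- Let A be a ring, I an ideal, and b : X' ⟶ Spec A a blowing-up of Spec A along the ideal sheaf of I.
Then every point of X' has an open neighbourhood which is isomorphic, over Spec A, to the spectrum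
of an affine blow-up algebra A[I/a] for some a ∈ I. -/
theorem result (A : Type u) [CommRing A] (I : Ideal A) {X' : Scheme.{u}}
    (b : X' ⟶ Spec (CommRingCat.of A)) (hb : BlowUp.IsBlowUp b (Scheme.IdealSheafData.ofIdealTop (I.map (Scheme.ΓSpecIso (CommRingCat.of A)).inv.hom))) (x' : ↥X') :
    ∃ (a : A) (_ : a ∈ I) (V : X'.Opens) (e : (V : Scheme.{u}) ≅ Spec (CommRingCat.of ↥(BlowUp.affineAlgebra A I a))),
      x' ∈ V ∧ e.hom ≫ Spec.map (CommRingCat.ofHom (algebraMap A ↥(BlowUp.affineAlgebra A I a))) = V.ι ≫ b := by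
  have hb' : BlowUp.IsBlowUp b (Groth.Agent.Lib.Helper93.BlowUpProj.idealSheaf I) := hb
  obtain ⟨θ, hθ⟩ := Groth.Agent.Lib.Helper93.BlowUpLocal.exists_iso_of_isBlowUp _ b hb'
    (Groth.Agent.Lib.Helper93.BlowUpProj.p I) Groth.Agent.Lib.Helper93.BlowUpProj.isBlowUp
  obtain ⟨⟨a, ha⟩, hx⟩ : ∃ a : I, θ.hom x' ∈
      (Groth.Agent.Lib.Helper93.BlowUpProj.chart a.1 a.2).opensRange := by
    have : θ.hom x' ∈ (⊤ : (Groth.Agent.Lib.Helper93.BlowUpProj.P I).Opens) := trivial
    rw [← Groth.Agent.Lib.Helper93.BlowUpProj.iSup_opensRange_chart] at this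
    exact TopologicalSpace.Opens.mem_iSup.mp this
  set ch := Groth.Agent.Lib.Helper93.BlowUpProj.chart a ha with hch
  let V : X'.Opens := θ.hom ⁻¹ᵁ ch.opensRange
  have hrange : Set.range (V.ι ≫ θ.hom) = Set.range ch := by
    rw [Scheme.Hom.comp_base, TopCat.coe_comp, Set.range_comp, Scheme.Opens.range_ι]
    change θ.hom '' (θ.hom ⁻¹' (Set.range ch)) = Set.range ch
    exact Set.image_preimage_eq _ θ.hom.surjective
  let e₁ : (V : Scheme.{u}) ≅
      Spec (CommRingCat.of (Groth.Agent.Lib.Helper93.BlowUpProjAlg.B a ha)) :=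
    IsOpenImmersion.isoOfRangeEq (V.ι ≫ θ.hom) ch hrange
  have he₁ : e₁.hom ≫ ch = V.ι ≫ θ.hom := IsOpenImmersion.isoOfRangeEq_hom_fac _ _ _
  let e₂ : Spec (CommRingCat.of (Groth.Agent.Lib.Helper93.BlowUpProjAlg.B a ha)) ≅
      Spec (CommRingCat.of ↥(BlowUp.affineAlgebra A I a)) :=
    { hom := Spec.map (CommRingCat.ofHom (Groth.Agent.Lib.Helper93.AffineBlowUpAlg.toChart a ha))
      inv := Spec.map (CommRingCat.ofHom (Groth.Agent.Lib.Helper93.AffineBlowUpAlg.ofChart a ha))
      hom_inv_id := by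
        rw [← Spec.map_comp, ← CommRingCat.ofHom_comp,
          Groth.Agent.Lib.Helper93.AffineBlowUpAlg.toChart_comp_ofChart]
        exact Spec.map_id _
      inv_hom_id := by
        rw [← Spec.map_comp, ← CommRingCat.ofHom_comp,
          Groth.Agent.Lib.Helper93.AffineBlowUpAlg.ofChart_comp_toChart]
        exact Spec.map_id _ }
  refine ⟨a, ha, V, e₁ ≪≫ e₂, hx, ?_⟩
  change (e₁.hom ≫ Spec.map (CommRingCat.ofHom
    (Groth.Agent.Lib.Helper93.AffineBlowUpAlg.toChart a ha))) ≫ _ = _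
  rw [Category.assoc, ← Spec.map_comp, ← CommRingCat.ofHom_comp,
    Groth.Agent.Lib.Helper93.AffineBlowUpAlg.toChart_comp_algebraMap,
    ← Groth.Agent.Lib.Helper93.BlowUpProj.chart_p a ha, ← Category.assoc, he₁, Category.assoc, hθ]

end Groth.Agent.S1695
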