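import Groth.Statements.S16953
import Groth.Agent.Lib.Lead.PushEdge
import Groth.Agent.S0028

set_option autoImplicit false
universe u
open Coherent

namespace Groth.Agent.S16953

open AlgebraicGeometry CategoryTheory Scheme.Modules in
/-- Let f : X → Y be an affine morphism of schemes and F a quasi-coherent O_X-module. Then the canonical
map H^1(Y, f_* F) → H^1(X, F) (the edge map: pullback of cohomology classes along f followed by the
map induced by the counit f^* f_* F → F) is bijective. -/
theorem result
    {X Y : Scheme.{u}} (f : X ⟶ Y) [IsAffineHom f] (F : X.Modules) [Coh.IsQCoh F] :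
    Function.Bijective (CohPull.pushEdge f F 1) := by
  have hz : ∀ q : ℕ, Limits.IsZero (((CohTop.push f.base).rightDerived (q + 1)).obj (Coh.toAb F)) :=
    fun q => Groth.Agent.S0028.result f F (q + 1) (Nat.succ_pos q)
  have hb := Groth.Agent.Lib.Lead.ExtAdj.Φ_bijective (CohPull.invPushAdj f.base)
    (CohPull.oneTo f.base) 1 (Coh.toAb F) hz
  have heq : ⇑(CohPull.pushEdge f F 1) =
      ⇑(Groth.Agent.Lib.Lead.ExtAdj.Φ (CohPull.invPushAdj f.base) (CohPull.oneTo f.base)
        (Coh.toAb F) 1) :=
    funext (Groth.Agent.Lib.Lead.PushEdge.pushEdge_eq_Φ f F 1)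
  rw [heq]
  exact hb

end Groth.Agent.S16953
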