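import Groth.Statements.S1696
import Mathlib
import Groth.Agent.Lib.Helper28.PullbackStalk
import Groth.Agent.Lib.Helper45.QCohStalk
import Groth.Agent.Lib.Helper45.ModulesBasic
import Groth.Agent.Lib.Helper49.QcqsModules

set_option autoImplicit false
set_option linter.style.haveILetI false
universe u
open CategoryTheory CategoryTheory.Limits AlgebraicGeometry TopologicalSpace
open SDiv

namespace Groth.Agent.S1696

open Groth.Agent.Lib.Helper28.SkyMod Groth.Agent.Lib.Helper45 Groth.Agent.Lib.Helper49

/-- the pullback of a module flat at `f x` is flat at `x`. -/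
theorem isFlatAt_pullback {X Y : Scheme.{u}} (f : X ⟶ Y) (M : Y.Modules) (x : X)
    (hM : FlatMod.IsFlatAt M (f.base x)) :
    FlatMod.IsFlatAt ((Scheme.Modules.pullback f).obj M) x := by
  let e := (pullbackStalkIso f x).app M
  have h1 : Module.Flat (Y.presheaf.stalk (f.base x))
      ((DerSch.stalkFunctor Y (f.base x)).obj M) := hM
  have h2 : Module.Flat (X.presheaf.stalk x) ((ModuleCat.extendScalars (f.stalkMap x).hom).obj
      ((DerSch.stalkFunctor Y (f.base x)).obj M)) := by
    letI := (f.stalkMap x).hom.toAlgebra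
    exact (inferInstance : Module.Flat (X.presheaf.stalk x)
      (TensorProduct (Y.presheaf.stalk (f.base x)) (X.presheaf.stalk x)
        ((DerSch.stalkFunctor Y (f.base x)).obj M)))
  exact (Module.Flat.equiv_iff e.toLinearEquiv).2 h2

/-- a section of a module, flat along an effective Cartier divisor, which is killed by a power of
the ideal of the divisor vanishes. -/
theorem eq_zero_of_killed {X : Scheme.{u}} (E : X.IdealSheafData)
    (hE : BlowUp.IsEffCartierIdeal E) (M : X.Modules)
    (hM : ∀ x : X, x ∈ E.support → FlatMod.IsFlatAt M x) (V : X.affineOpens) (m : Γ(M, V.1))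
    (n : ℕ) (hn : ∀ a : Γ(X, V.1), a ∈ (E ^ n).ideal V → a • m = 0) : m = 0 := by
  refine section_ext_germ M V.1 m 0 (fun x hxV => ?_)
  rw [map_zero]
  obtain ⟨U, hxU, t, ht, hEU⟩ := hE x
  obtain ⟨_, ⟨W₀, hW₀, rfl⟩, hxW, hWUV⟩ :=
    X.isBasis_affineOpens.exists_subset_of_mem_open (show x ∈ (U.1 ⊓ V.1 : X.Opens) from ⟨hxU, hxV⟩)
      (U.1 ⊓ V.1).2
  let W : X.affineOpens := ⟨W₀, hW₀⟩
  have hWU : W ≤ U := fun y hy => (hWUV hy).1
  have hWV : W ≤ V := fun y hy => (hWUV hy).2
  -- the ideal on `W`
  have hEW : E.ideal W = Ideal.span {fres hWU t} := by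
    rw [← E.map_ideal hWU, hEU, Ideal.map_span, Set.image_singleton]
    rfl
  have hpow : (fres hWU t) ^ n ∈ (E ^ n).ideal W := by
    rw [Scheme.IdealSheafData.ideal_pow, Pi.pow_apply, hEW, Ideal.span_singleton_pow]
    exact Ideal.mem_span_singleton_self _
  rw [← (E ^ n).map_ideal hWV] at hpow
  -- every element of the extended ideal kills the restriction of `m`
  have hkill : ∀ y ∈ ((E ^ n).ideal V).map (X.presheaf.map (homOfLE hWV).op).hom,
      y • mres M hWV m = 0 := by
    intro y hy
    refine Submodule.span_induction (p := fun y _ => y • mres M hWV m = 0) ?_ ?_ ?_ ?_ hy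
    · rintro _ ⟨a, ha, rfl⟩
      have h1 := mres_smul M hWV a m
      rw [hn a ha, map_zero] at h1
      exact h1.symm
    · exact zero_smul _ _
    · intro y z _ _ hy hz
      rw [add_smul, hy, hz, add_zero]
    · intro r y _ hy
      rw [smul_eq_mul, mul_smul, hy, smul_zero]
  have h0 : (fres hWU t) ^ n • mres M hWV m = 0 := hkill _ hpow
  -- pass to germs
  have hg := congrArg (M.presheaf.germ W.1 x hxW) h0
  have e1 : M.presheaf.germ W.1 x hxW (mres M hWV m) = M.presheaf.germ V.1 x hxV m :=
    TopCat.Presheaf.germ_res_apply M.presheaf (homOfLE hWV) x hxW m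
  have e2 : X.presheaf.germ W.1 x hxW (fres hWU t) = X.presheaf.germ U.1 x hxU t :=
    TopCat.Presheaf.germ_res_apply X.presheaf (homOfLE hWU) x hxW t
  rw [Groth.Agent.Lib.Helper45.germ_smul, map_zero, map_pow, e1, e2] at hg
  -- the germ of `t` is regular on the stalk of `M`
  have hreg : IsSMulRegular (M.presheaf.stalk x) (X.presheaf.germ U.1 x hxU t) := by
    by_cases hxE : x ∈ E.support
    · haveI : Module.Flat (X.presheaf.stalk x) (M.presheaf.stalk x) := hM x hxE
      letI : Algebra Γ(X, U.1) (X.presheaf.stalk x) :=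
        TopCat.Presheaf.algebra_section_stalk X.presheaf (⟨x, hxU⟩ : U.1)
      haveI : IsLocalization.AtPrime (X.presheaf.stalk x)
          (U.2.primeIdealOf ⟨x, hxU⟩).asIdeal := U.2.isLocalization_stalk ⟨x, hxU⟩
      have hnz : X.presheaf.germ U.1 x hxU t ∈ nonZeroDivisors (X.presheaf.stalk x) :=
        IsLocalization.map_nonZeroDivisors_le (U.2.primeIdealOf ⟨x, hxU⟩).asIdeal.primeCompl
          (X.presheaf.stalk x)
          (Submonoid.mem_map_of_mem (algebraMap Γ(X, U.1) (X.presheaf.stalk x)) ht)
      exact Module.Flat.isSMulRegular_of_nonZeroDivisors hnz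
    · rw [Scheme.IdealSheafData.mem_support_iff_of_mem (U := U) hxU, Scheme.mem_zeroLocus_iff] at hxE
      push Not at hxE
      obtain ⟨f, hf, hxf⟩ := hxE
      rw [hEU, SetLike.mem_coe, Ideal.mem_span_singleton'] at hf
      obtain ⟨r, rfl⟩ := hf
      rw [Scheme.mem_basicOpen _ _ _ hxU, map_mul] at hxf
      have hu : IsUnit (X.presheaf.germ U.1 x hxU t) := isUnit_of_mul_isUnit_right hxf
      exact hu.isSMulRegular _
  exact (hreg.pow n) (show _ • _ = _ • (0 : M.presheaf.stalk x) by rw [hg, smul_zero])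

/-- Let b : S' → S be the blowing-up of a scheme S in a quasi-coherent sheaf of ideals 𝓘 and F a
quasi-coherent O_S-module which is flat at every point of V(𝓘), the support of O_S/𝓘. Then the
pullback b^*F is its own strict transform (via the identity map): no nonzero local section of b^*F
is annihilated by a power of the exceptional ideal. -/
theorem result {S S' : Scheme.{u}} (𝓘 : S.IdealSheafData) (b : S' ⟶ S) (hb : BlowUp.IsBlowUp b 𝓘)
    (F : S.Modules) (hF : Coh.IsQCoh F) (hflat : ∀ s : ↥S, s ∈ 𝓘.support → FlatMod.IsFlatAt F s) :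
    BlowUp.IsStrictTransform b 𝓘 F ((Scheme.Modules.pullback b).obj F) (𝟙 _) := by
  refine ⟨inferInstance, fun V m => ⟨fun h => ?_, fun h => ?_⟩⟩
  · have hm : m = 0 := h
    exact ⟨0, fun a _ => by rw [hm, smul_zero]⟩
  · obtain ⟨n, hn⟩ := h
    change m = 0
    refine eq_zero_of_killed (BlowUp.exceptional b 𝓘) hb.1 _ (fun x hx => ?_) V m n hn
    refine isFlatAt_pullback b F x (hflat _ ?_)
    rw [Scheme.IdealSheafData.support_comap] at hx
    exact hx

end Groth.Agent.S1696
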