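import Groth.Statements.S16962
-- import your own Groth.Agent.* helpers here

set_option autoImplicit false
universe u
open ConstAct

namespace Groth.Agent.S16962

section Helpers

open TensorProduct

variable (R : Type u) [CommRing R] (B : Type u) [CommRing B] [Algebra R B]
variable (Γ : Type u) [Group Γ] [Fintype Γ] [DecidableEq Γ]

/-- `b ⊗ f ↦ f γ • b`, as an algebra map. -/
noncomputable def evAlg (γ : Γ) : B ⊗[R] ConstGrp.F R Γ →ₐ[R] B :=
  Algebra.TensorProduct.lift (AlgHom.id R B) ((Algebra.ofId R B).comp (ConstGrp.ev R γ))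
    (fun _ _ => Commute.all _ _)

theorem evAlg_tmul (γ : Γ) (b : B) (f : ConstGrp.F R Γ) :
    evAlg R B Γ γ (b ⊗ₜ[R] f) = f γ • b := by
  simp [evAlg, Algebra.smul_def, mul_comm]

theorem evAlg_tmul_e (γ g : Γ) (b : B) :
    evAlg R B Γ γ (b ⊗ₜ[R] ConstGrp.e R g) = if γ = g then b else 0 := by
  rw [evAlg_tmul, ConstGrp.e_apply]
  split_ifs <;> simp

/-- Every element of `B ⊗ F` is the sum of its coefficients against the indicator functions. -/
theorem eq_sum_evAlg (x : B ⊗[R] ConstGrp.F R Γ) :
    x = ∑ g : Γ, (evAlg R B Γ g x) ⊗ₜ[R] ConstGrp.e R g := by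
  induction x using TensorProduct.induction_on with
  | zero => simp
  | add x y hx hy =>
    conv_lhs => rw [hx, hy]
    rw [← Finset.sum_add_distrib]
    refine Finset.sum_congr rfl fun g _ => ?_
    rw [map_add, TensorProduct.add_tmul]
  | tmul b f =>
    conv_lhs => rw [ConstGrp.eq_sum_smul_e f, TensorProduct.tmul_sum]
    refine Finset.sum_congr rfl fun g _ => ?_
    rw [evAlg_tmul, TensorProduct.smul_tmul]

/-- coefficient of `e γ ⊗ e γ'` in `B ⊗ (F ⊗ F)`. -/
noncomputable def coef2 (γ γ' : Γ) : B ⊗[R] (ConstGrp.F R Γ ⊗[R] ConstGrp.F R Γ) →ₗ[R] B :=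
  (TensorProduct.rid R B).toLinearMap ∘ₗ
    ((TensorProduct.lid R R).toLinearMap ∘ₗ
      TensorProduct.map (ConstGrp.ev R γ).toLinearMap (ConstGrp.ev R γ').toLinearMap).lTensor B

theorem coef2_tmul (γ γ' : Γ) (b : B) (f f' : ConstGrp.F R Γ) :
    coef2 R B Γ γ γ' (b ⊗ₜ[R] (f ⊗ₜ[R] f')) = (f γ * f' γ') • b := by
  simp [coef2]

theorem coef2_comul (γ γ' : Γ) (x : B ⊗[R] ConstGrp.F R Γ) :
    coef2 R B Γ γ γ' ((Coalgebra.comul (R := R) (A := ConstGrp.F R Γ)).lTensor B x) =
      evAlg R B Γ (γ * γ') x := by
  induction x using TensorProduct.induction_on with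
  | zero => simp
  | add x y hx hy => simp only [map_add, hx, hy]
  | tmul b f =>
    rw [LinearMap.lTensor_tmul, ConstGrp.comul_eq_sum, evAlg_tmul]
    simp only [TensorProduct.tmul_sum, TensorProduct.tmul_smul, map_sum, map_smul, coef2_tmul,
      ConstGrp.e_apply]
    rw [Finset.sum_eq_single γ]
    · rw [Finset.sum_eq_single γ']
      · simp
      · intro b' _ hb'
        simp [Ne.symm hb']
      · intro h; exact absurd (Finset.mem_univ _) h
    · intro a _ ha
      apply Finset.sum_eq_zero
      intro b' _
      simp [Ne.symm ha]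
    · intro h; exact absurd (Finset.mem_univ _) h

theorem coef2_assoc (γ γ' : Γ) (y : B ⊗[R] ConstGrp.F R Γ) (f : ConstGrp.F R Γ) :
    coef2 R B Γ γ γ' ((TensorProduct.assoc R B (ConstGrp.F R Γ) (ConstGrp.F R Γ)) (y ⊗ₜ[R] f)) =
      f γ' • evAlg R B Γ γ y := by
  induction y using TensorProduct.induction_on with
  | zero => simp
  | add x y hx hy => simp only [add_tmul, map_add, hx, hy, smul_add]
  | tmul b f₁ =>
    rw [TensorProduct.assoc_tmul, coef2_tmul, evAlg_tmul, smul_smul, mul_comm]

end Helpers


section Action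

open TensorProduct

variable (R : Type u) [CommRing R] (B : Type u) [CommRing B] [Algebra R B]
variable (Γ : Type u) [Group Γ] [Fintype Γ] [DecidableEq Γ]
variable [HopfRep.Comod R (ConstGrp.F R Γ) B] [GLin.IsCoactAlg R (ConstGrp.F R Γ) B]

/-- the action of `γ` as an algebra endomorphism. -/
noncomputable def actHom (γ : Γ) : B →ₐ[R] B :=
  (evAlg R B Γ γ).comp (GLin.coactAlgHom R (ConstGrp.F R Γ) B)

theorem actHom_apply (γ : Γ) (b : B) :
    actHom R B Γ γ b = evAlg R B Γ γ (HopfRep.Comod.coact (k := R) (A := ConstGrp.F R Γ) b) := rfl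

theorem actHom_one (b : B) : actHom R B Γ 1 b = b := by
  have h := LinearMap.congr_fun
    (HopfRep.Comod.counit_comp (k := R) (A := ConstGrp.F R Γ) (V := B)) b
  simp only [LinearMap.comp_apply, LinearMap.flip_apply, TensorProduct.mk_apply] at h
  rw [actHom_apply]
  have h2 : ∀ x : B ⊗[R] ConstGrp.F R Γ, evAlg R B Γ 1 x =
      TensorProduct.rid R B ((Coalgebra.counit (R := R) (A := ConstGrp.F R Γ)).lTensor B x) := by
    intro x
    induction x using TensorProduct.induction_on with
    | zero => simp
    | add x y hx hy => simp only [map_add, hx, hy]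
    | tmul b f => rw [evAlg_tmul, LinearMap.lTensor_tmul, TensorProduct.rid_tmul,
        ConstGrp.counit_apply]
  rw [h2, h, TensorProduct.rid_tmul, one_smul]

theorem actHom_mul (γ γ' : Γ) (b : B) :
    actHom R B Γ (γ * γ') b = actHom R B Γ γ (actHom R B Γ γ' b) := by
  have h := LinearMap.congr_fun
    (HopfRep.Comod.coassoc (k := R) (A := ConstGrp.F R Γ) (V := B)) b
  simp only [LinearMap.comp_apply, LinearEquiv.coe_coe] at h
  have h' := congrArg (coef2 R B Γ γ γ') h
  rw [coef2_comul] at h'
  rw [actHom_apply, ← h']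
  -- compute the left side
  have key : ∀ x : B ⊗[R] ConstGrp.F R Γ,
      coef2 R B Γ γ γ' ((TensorProduct.assoc R B (ConstGrp.F R Γ) (ConstGrp.F R Γ))
        ((HopfRep.Comod.coact (k := R) (A := ConstGrp.F R Γ) (V := B)).rTensor (ConstGrp.F R Γ) x)) =
      evAlg R B Γ γ (HopfRep.Comod.coact (k := R) (A := ConstGrp.F R Γ)
        (evAlg R B Γ γ' x)) := by
    intro x
    induction x using TensorProduct.induction_on with
    | zero => simp
    | add x y hx hy => simp only [map_add, hx, hy]
    | tmul b f =>
      rw [LinearMap.rTensor_tmul, coef2_assoc, evAlg_tmul, map_smul, map_smul]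
  rw [key]
  rfl

/-- The group action attached to the comodule algebra structure. -/
noncomputable def theAction : MulSemiringAction Γ B where
  smul γ b := actHom R B Γ γ b
  one_smul b := actHom_one R B Γ b
  mul_smul γ γ' b := actHom_mul R B Γ γ γ' b
  smul_zero γ := map_zero (actHom R B Γ γ)
  smul_add γ x y := map_add (actHom R B Γ γ) x y
  smul_one γ := map_one (actHom R B Γ γ)
  smul_mul γ x y := map_mul (actHom R B Γ γ) x y

theorem theAction_smul (γ : Γ) (b : B) :
    (letI := theAction R B Γ; γ • b) = actHom R B Γ γ b := rfl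

end Action

theorem mulSemiringAction_ext {M A : Type*} [Monoid M] [Semiring A] (a a' : MulSemiringAction M A)
    (h : ∀ (g : M) (b : A), (letI := a; g • b) = (letI := a'; g • b)) : a = a' := by
  have h1 : a.toDistribMulAction = a'.toDistribMulAction := by
    apply DistribMulAction.ext
    funext g b
    exact h g b
  cases a
  cases a'
  congr

open TensorProduct in
/-- Let R be a commutative ring, Γ a finite group and B a commutative R-algebra equipped with a comodule
structure over the Hopf algebra of R-valued functions on Γ (the coordinate ring of the constant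
group scheme of Γ over Spec R, with basis the indicator functions e_γ) whose coaction B → B ⊗ Fun(Γ,
R) is a homomorphism of algebras, i.e. an action of the constant group scheme on Spec B. Then there
is exactly one action of Γ on B by R-algebra automorphisms whose associated coaction b ↦ Σ_γ (γ · b)
⊗ e_γ is the given coaction; and for that action the ring of invariants of the comodule algebra (the
b whose coaction is b ⊗ 1) equals the ring of elements fixed by Γ. (That the coaction associated
with an action is a comodule algebra structure is the other direction of the published equivalence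
and is a construction here.) -/
theorem result (R : Type u) [CommRing R]
    (B : Type u) [CommRing B] [Algebra R B] (Γ : Type u) [Group Γ] [Fintype Γ] [DecidableEq Γ]
    [HopfRep.Comod R (ConstGrp.F R Γ) B] [GLin.IsCoactAlg R (ConstGrp.F R Γ) B] :
    ∃! a : MulSemiringAction Γ B, ∃ _ : SMulCommClass Γ R B,
      ConstAct.coactLin R B Γ = HopfRep.Comod.coact (k := R) (A := ConstGrp.F R Γ) (V := B) ∧
        GLin.invariants R (ConstGrp.F R Γ) B = ConstAct.inv R B Γ := by
  have hcomm : @SMulCommClass Γ R B (theAction R B Γ).toSMul _ :=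
    @SMulCommClass.mk Γ R B (theAction R B Γ).toSMul _ (fun γ r b => map_smul (actHom R B Γ γ) r b)
  have hco : @ConstAct.coactLin R _ B _ _ Γ _ _ _ (theAction R B Γ) hcomm =
      HopfRep.Comod.coact (k := R) (A := ConstGrp.F R Γ) (V := B) := by
    let _ := theAction R B Γ
    apply LinearMap.ext
    intro b
    rw [ConstAct.coactLin_apply]
    exact (eq_sum_evAlg R B Γ _).symm
  refine ⟨theAction R B Γ, ⟨hcomm, hco, ?_⟩, ?_⟩
  · let _ := theAction R B Γ
    ext b
    rw [GLin.mem_invariants_iff, ConstAct.mem_inv]
    constructor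
    · intro hb g
      change actHom R B Γ g b = b
      rw [actHom_apply, hb, evAlg_tmul]
      simp
    · intro hb
      rw [← hco, ConstAct.coactLin_apply]
      simp only [hb]
      rw [← TensorProduct.tmul_sum, ConstGrp.sum_e]
  · rintro a' ⟨hcomm', hco', -⟩
    apply mulSemiringAction_ext
    intro g b
    change (letI := a'; g • b) = actHom R B Γ g b
    rw [actHom_apply, ← hco']
    let _ := a'
    rw [ConstAct.coactLin_apply, map_sum]
    simp only [evAlg_tmul_e]
    rw [Finset.sum_ite_eq, if_pos (Finset.mem_univ _)]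

end Groth.Agent.S16962
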