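import Groth.Statements.S16963
-- import your own Groth.Agent.* helpers here

set_option autoImplicit false
universe u
open scoped BigOperators
open ConstAct

namespace Groth.Agent.S16963


section Helpers

open TensorProduct

variable (R : Type u) [CommRing R] (B : Type u) [CommRing B] [Algebra R B]
variable (Γ : Type u) [Group Γ] [Fintype Γ] [DecidableEq Γ]

/-- `b ⊗ f ↦ f h • b`. -/
noncomputable def coeffAt (h : Γ) : B ⊗[R] ConstGrp.F R Γ →ₗ[R] B :=
  (TensorProduct.rid R B).toLinearMap ∘ₗ (ConstGrp.ev R h).toLinearMap.lTensor B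

theorem coeffAt_tmul (h : Γ) (b : B) (f : ConstGrp.F R Γ) :
    coeffAt R B Γ h (b ⊗ₜ[R] f) = f h • b := by
  simp [coeffAt]

theorem coeffAt_tmul_e (h g : Γ) (b : B) :
    coeffAt R B Γ h (b ⊗ₜ[R] ConstGrp.e R g) = if h = g then b else 0 := by
  rw [coeffAt_tmul, ConstGrp.e_apply]
  split_ifs <;> simp

variable [MulSemiringAction Γ B] [SMulCommClass Γ R B]

/-- The linear map `f ↦ Σ_g f g • (g⁻¹ • b₀)`. -/
noncomputable def alphaOf (b₀ : B) : ConstGrp.F R Γ →ₗ[R] B :=
  ∑ g : Γ, (ConstGrp.ev R g).toLinearMap.smulRight (g⁻¹ • b₀)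

theorem alphaOf_apply (b₀ : B) (f : ConstGrp.F R Γ) :
    alphaOf R B Γ b₀ f = ∑ g : Γ, f g • (g⁻¹ • b₀) := by
  simp [alphaOf, LinearMap.sum_apply]

theorem alphaOf_e (b₀ : B) (g : Γ) : alphaOf R B Γ b₀ (ConstGrp.e R g) = g⁻¹ • b₀ := by
  rw [alphaOf_apply, Finset.sum_eq_single g]
  · simp
  · intro h _ hh
    rw [ConstGrp.e_apply_of_ne hh, zero_smul]
  · intro hg; exact absurd (Finset.mem_univ g) hg

end Helpers

open TensorProduct in
/-- Let R be a commutative ring and Γ a finite group acting on a commutative R-algebra B by R-algebra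
automorphisms; regard B as a comodule algebra over the Hopf algebra of R-valued functions on Γ (the
constant group scheme of Γ acting on Spec B) through the coaction b ↦ Σ_γ (γ · b) ⊗ e_γ. Then the
action is tame — there is a comodule map α from the Hopf algebra, with its regular coaction, to B
with α(1) = 1 (a total integral) — if and only if the trace b ↦ Σ_γ γ · b, which takes values in the
ring of invariants B^Γ, maps B onto B^Γ. -/
theorem result (R : Type u) [CommRing R]
    (B : Type u) [CommRing B] [Algebra R B] (Γ : Type u) [Group Γ] [Fintype Γ] [DecidableEq Γ]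
    [MulSemiringAction Γ B] [SMulCommClass Γ R B] :
    letI := ConstAct.comod R B Γ
    (∃ α : ConstGrp.F R Γ →ₗ[R] B, Hoch.IsComodHom (ConstGrp.F R Γ) α ∧ α 1 = 1) ↔
      ∀ c : B, c ∈ ConstAct.inv R B Γ → ∃ b : B, ∑ γ : Γ, γ • b = c := by
  let _ := ConstAct.comod R B Γ
  show (∃ α : ConstGrp.F R Γ →ₗ[R] B, Hoch.IsComodHom (ConstGrp.F R Γ) α ∧ α 1 = 1) ↔
      ∀ c : B, c ∈ ConstAct.inv R B Γ → ∃ b : B, ∑ γ : Γ, γ • b = c
  constructor
  · rintro ⟨α, hα, hα1⟩ c hc
    -- the comodule condition on indicator functions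
    have key : ∀ g h : Γ, h • α (ConstGrp.e R g) = α (ConstGrp.e R (g * h⁻¹)) := by
      intro g h
      have h1 := LinearMap.congr_fun hα (ConstGrp.e R g)
      simp only [LinearMap.comp_apply] at h1
      have h2 := congrArg (coeffAt R B Γ h) h1
      have hL : (HopfRep.Comod.coact (k := R) (A := ConstGrp.F R Γ) (V := B)) (α (ConstGrp.e R g)) =
          ∑ γ : Γ, (γ • α (ConstGrp.e R g)) ⊗ₜ[R] ConstGrp.e R γ :=
        ConstAct.coactLin_apply R B Γ _
      have hR : (HopfRep.Comod.coact (k := R) (A := ConstGrp.F R Γ) (V := ConstGrp.F R Γ)) (ConstGrp.e R g) =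
          ∑ a : Γ, ConstGrp.e R a ⊗ₜ[R] ConstGrp.e R (a⁻¹ * g) := ConstGrp.comul_e R Γ g
      rw [hL, hR, map_sum, map_sum, map_sum] at h2
      simp only [LinearMap.rTensor_tmul, coeffAt_tmul_e] at h2
      rw [Finset.sum_ite_eq, if_pos (Finset.mem_univ _)] at h2
      rw [h2, Finset.sum_eq_single (g * h⁻¹)]
      · simp
      · intro a _ ha
        rw [if_neg]
        intro hh
        apply ha
        rw [hh]; group
      · intro hg; exact absurd (Finset.mem_univ _) hg
    set b₀ := α (ConstGrp.e R 1) with hb₀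
    have htr : ∑ γ : Γ, γ • b₀ = 1 := by
      have : ∀ γ : Γ, γ • b₀ = α (ConstGrp.e R γ⁻¹) := fun γ => by
        rw [hb₀, key 1 γ, one_mul]
      simp only [this]
      rw [← map_sum, ← hα1]
      congr 1
      rw [← ConstGrp.sum_e (R := R) (G := Γ)]
      exact Fintype.sum_equiv (Equiv.inv Γ) _ _ fun a => rfl
    refine ⟨c * b₀, ?_⟩
    have hc' : ∀ γ : Γ, γ • c = c := hc
    simp only [smul_mul', hc']
    rw [← Finset.mul_sum, htr, mul_one]
  · intro hsurj
    obtain ⟨b₀, hb₀⟩ := hsurj 1 (Subalgebra.one_mem _)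
    refine ⟨alphaOf R B Γ b₀, ?_, ?_⟩
    · apply ConstGrp.linearMap_ext
      intro g
      simp only [LinearMap.comp_apply]
      have hL : (HopfRep.Comod.coact (k := R) (A := ConstGrp.F R Γ) (V := B)) (alphaOf R B Γ b₀ (ConstGrp.e R g)) =
          ∑ γ : Γ, (γ • alphaOf R B Γ b₀ (ConstGrp.e R g)) ⊗ₜ[R] ConstGrp.e R γ :=
        ConstAct.coactLin_apply R B Γ _
      have hR : (HopfRep.Comod.coact (k := R) (A := ConstGrp.F R Γ) (V := ConstGrp.F R Γ)) (ConstGrp.e R g) =
          ∑ a : Γ, ConstGrp.e R a ⊗ₜ[R] ConstGrp.e R (a⁻¹ * g) := ConstGrp.comul_e R Γ g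
      rw [hL, hR, map_sum]
      simp only [LinearMap.rTensor_tmul, alphaOf_e]
      refine Fintype.sum_equiv ((Equiv.inv Γ).trans (Equiv.mulLeft g)) _ _ fun h => ?_
      simp [mul_smul]
    · rw [alphaOf_apply]
      simp only [ConstGrp.one_apply, one_smul]
      rw [← hb₀]
      exact Fintype.sum_equiv (Equiv.inv Γ) _ _ fun a => rfl

end Groth.Agent.S16963
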