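import Groth.Statements.S16979
import Mathlib.LinearAlgebra.Matrix.Charpoly.Eigs
import Mathlib.FieldTheory.IsAlgClosed.Spectrum
import Mathlib.FieldTheory.IsAlgClosed.AlgebraicClosure

set_option autoImplicit false
universe u v
open CAlg

namespace Groth.Agent.S16979

open Polynomial in
/-- Over an algebraically closed field, a polynomial killing a matrix with separable
characteristic polynomial is divisible by the characteristic polynomial. -/
theorem charpoly_dvd_of_aeval_eq_zero_of_separable
    {L : Type*} [Field L] [IsAlgClosed L] {n : Type*} [Fintype n] [DecidableEq n]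
    (A : Matrix n n L) (hsep : A.charpoly.Separable) (f : L[X])
    (hf : aeval A f = 0) : A.charpoly ∣ f := by
  by_cases hf0 : f = 0
  · simp [hf0]
  have hsplit : A.charpoly.Splits := IsAlgClosed.splits _
  have hmonic : A.charpoly.Monic := A.charpoly_monic
  have hprod := hsplit.eq_prod_roots_of_monic hmonic
  rw [hprod]
  rw [Multiset.prod_X_sub_C_dvd_iff_le_roots hf0]
  rw [Multiset.le_iff_subset (nodup_roots hsep)]
  intro μ hμ
  rw [mem_roots hf0]
  have hroot : A.charpoly.IsRoot μ := (mem_roots hmonic.ne_zero).1 hμ
  have hspec : μ ∈ spectrum L A := Matrix.mem_spectrum_iff_isRoot_charpoly.2 hroot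
  have := spectrum.subset_polynomial_aeval A f ⟨μ, hspec, rfl⟩
  rw [hf] at this
  by_cases hn : Nontrivial (Matrix n n L)
  · rw [spectrum.zero_eq] at this
    simpa using this
  · rw [not_nontrivial_iff_subsingleton] at hn
    have : spectrum L A = ∅ := spectrum.of_subsingleton A
    rw [this] at hspec
    exact hspec.elim

/-- Let R be an integral domain with fraction field K and φ a square matrix over R whose characteristic
polynomial becomes separable in K[T] (equivalently, K[T] modulo the characteristic polynomial is
geometrically reduced over K). Then a polynomial f over R satisfies f(φ) = 0 exactly when the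
characteristic polynomial of φ divides f in R[T]: the kernel of evaluation at φ (the minimal ideal
of φ) is the principal ideal generated by the characteristic polynomial. -/
theorem result
    {R : Type u} [CommRing R] [IsDomain R] {n : Type v} [Fintype n] [DecidableEq n]
    (φ : Matrix n n R)
    (hsep : (φ.charpoly.map (algebraMap R (FractionRing R))).Separable) :
    RingHom.ker (Polynomial.aeval (R := R) φ) = Ideal.span {φ.charpoly} := by
  classical
  apply le_antisymm
  · intro f hf
    rw [RingHom.mem_ker] at hf
    rw [Ideal.mem_span_singleton]
    let K := FractionRing R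
    let L := AlgebraicClosure K
    let ι : R →+* L := (algebraMap K L).comp (algebraMap R K)
    have hι : Function.Injective ι :=
      (algebraMap K L).injective.comp (IsFractionRing.injective R K)
    have hmonic : φ.charpoly.Monic := φ.charpoly_monic
    have hcharL : (φ.map ι).charpoly = φ.charpoly.map ι := Matrix.charpoly_map φ ι
    have hsepL : (φ.map ι).charpoly.Separable := by
      rw [hcharL, ← Polynomial.map_map]
      exact hsep.map
    have hfL : Polynomial.aeval (φ.map ι) (f.map ι) = 0 := by
      have h1 : ι.mapMatrix (Polynomial.aeval φ f) = Polynomial.aeval (ι.mapMatrix φ) (f.map ι) := by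
        apply Polynomial.map_aeval_eq_aeval_map
        ext r i j
        simp [Matrix.algebraMap_matrix_apply]
        split_ifs <;> simp
      have h3 : ι.mapMatrix φ = φ.map ι := rfl
      rw [← h3, ← h1, hf]; simp
    have hdvd := charpoly_dvd_of_aeval_eq_zero_of_separable (φ.map ι) hsepL (f.map ι) hfL
    rw [hcharL] at hdvd
    rw [← Polynomial.modByMonic_eq_zero_iff_dvd hmonic]
    have h2 : (f %ₘ φ.charpoly).map ι = 0 := by
      rw [Polynomial.map_modByMonic ι hmonic]
      exact (Polynomial.modByMonic_eq_zero_iff_dvd (hmonic.map ι)).2 hdvd
    exact (Polynomial.map_eq_zero_iff hι).1 h2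
  · rw [Ideal.span_le, Set.singleton_subset_iff]
    exact Matrix.aeval_self_charpoly φ

end Groth.Agent.S16979
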