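import Mathlib
import Groth.Statements.S16980

set_option autoImplicit false
universe u
open CAlg

namespace Groth.Agent.S16980


lemma psi_eq_zero {A B' L : Type u} [CommRing A] [CommRing B'] [Algebra A B'] [CommRing L]
    (I' : Ideal B') (Ψ ψ : B' →+* L)
    (h1 : ∀ a : A, Ψ (algebraMap A B' a) = ψ (algebraMap A B' a))
    (h2 : ∀ b b' : B', (Ψ b - ψ b) * (Ψ b' - ψ b') = 0) (h3 : ∀ i ∈ I', ψ i = 0)
    (i : RingHom.ker (algebraMap B' (B' ⧸ I')))
    (hi : KaehlerDifferential.kerToTensor A B' (B' ⧸ I') i = 0) : Ψ i = 0 := by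
  letI algB : Algebra B' L := ψ.toAlgebra
  letI algA : Algebra A L := (ψ.comp (algebraMap A B')).toAlgebra
  haveI : IsScalarTower A B' L := IsScalarTower.of_algebraMap_eq (fun a => rfl)
  letI algQ : Algebra (B' ⧸ I') L := (Ideal.Quotient.lift I' ψ h3).toAlgebra
  haveI : IsScalarTower B' (B' ⧸ I') L := IsScalarTower.of_algebraMap_eq (fun b => rfl)
  let d0 : B' →ₗ[A] L :=
    { toFun := fun b => Ψ b - ψ b
      map_add' := fun b b' => by simp only [map_add]; ring
      map_smul' := fun a b => by
        simp only [RingHom.id_apply, Algebra.smul_def, map_mul, h1]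
        show _ = ψ (algebraMap A B' a) * _
        ring }
  let d : Derivation A B' L := Derivation.mk' d0 (fun a b => by
    show Ψ (a * b) - ψ (a * b) = ψ a * (Ψ b - ψ b) + ψ b * (Ψ a - ψ a)
    rw [map_mul, map_mul]
    linear_combination h2 a b)
  have h := congrArg (LinearMap.liftBaseChange (B' ⧸ I') d.liftKaehlerDifferential) hi
  rw [KaehlerDifferential.kerToTensor_apply, LinearMap.liftBaseChange_tmul, one_smul,
    Derivation.liftKaehlerDifferential_comp_D, map_zero] at h
  have h4 : Ψ i - ψ i = 0 := h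
  have h5 : ψ i = 0 := h3 _ (Ideal.Quotient.eq_zero_iff_mem.mp (RingHom.mem_ker.mp i.2))
  rw [h5, sub_zero] at h4
  exact h4

section
variable (A : Type u) [CommRing A] (J : Type u) [AddCommGroup J] [Module A J] [Module Aᵐᵒᵖ J]
  [IsCentralScalar A J]

local notation "Λ" => TrivSqZeroExt A J

/-- `a + j ↦ a` -/
noncomputable def sig : Λ →+* Λ :=
  (TrivSqZeroExt.inlHom A J).comp (TrivSqZeroExt.fstHom A A J).toRingHom

lemma sig_apply (l : Λ) : sig A J l = TrivSqZeroExt.inl l.fst := rfl

lemma sub_sig_mem (l : Λ) : l - sig A J l ∈ TrivSqZeroExt.kerIdeal A J := by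
  rw [TrivSqZeroExt.kerIdeal, RingHom.mem_ker, map_sub]
  simp [sig_apply]

lemma sig_of_mem (l : Λ) (hl : l ∈ TrivSqZeroExt.kerIdeal A J) : sig A J l = 0 := by
  rw [TrivSqZeroExt.kerIdeal, RingHom.mem_ker] at hl
  have : l.fst = 0 := hl
  rw [sig_apply, this, TrivSqZeroExt.inl_zero]

lemma sig_algebraMap (a : A) : sig A J (algebraMap A Λ a) = algebraMap A Λ a := by
  rw [sig_apply, TrivSqZeroExt.algebraMap_eq_inl, TrivSqZeroExt.fst_inl]

/-- coefficientwise `sig` on Laurent polynomials -/
noncomputable def sigL : LaurentPolynomial Λ →+* LaurentPolynomial Λ :=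
  AddMonoidAlgebra.mapRingHom ℤ (sig A J)

lemma sigL_C_mul_T (a : Λ) (n : ℤ) :
    sigL A J (LaurentPolynomial.C a * LaurentPolynomial.T n) =
      LaurentPolynomial.C (sig A J a) * LaurentPolynomial.T n := by
  rw [← LaurentPolynomial.single_eq_C_mul_T, sigL, AddMonoidAlgebra.mapRingHom_single,
    LaurentPolynomial.single_eq_C_mul_T]

lemma sigL_C (a : Λ) : sigL A J (LaurentPolynomial.C a) = LaurentPolynomial.C (sig A J a) := by
  have := sigL_C_mul_T A J a 0
  simpa using this

lemma sub_sigL_mem (u : LaurentPolynomial Λ) :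
    u - sigL A J u ∈ Ideal.map (LaurentPolynomial.C (R := Λ)) (TrivSqZeroExt.kerIdeal A J) := by
  induction u using LaurentPolynomial.induction_on' with
  | add p q hp hq =>
    have : p + q - sigL A J (p + q) = (p - sigL A J p) + (q - sigL A J q) := by
      rw [map_add]; ring
    rw [this]
    exact Ideal.add_mem _ hp hq
  | C_mul_T n a =>
    have : LaurentPolynomial.C a * LaurentPolynomial.T n -
        sigL A J (LaurentPolynomial.C a * LaurentPolynomial.T n) =
        LaurentPolynomial.C (a - sig A J a) * LaurentPolynomial.T n := by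
      rw [sigL_C_mul_T, map_sub]; ring
    rw [this]
    exact Ideal.mul_mem_right _ _ (Ideal.mem_map_of_mem _ (sub_sig_mem A J a))

lemma sub_sigL_mul (u v : LaurentPolynomial Λ) :
    (u - sigL A J u) * (v - sigL A J v) = 0 := by
  have h := Ideal.mul_mem_mul (sub_sigL_mem A J u) (sub_sigL_mem A J v)
  rw [← Ideal.map_mul, ← pow_two, TrivSqZeroExt.kerIdeal_sq, Ideal.map_bot] at h
  exact h

lemma C_T_pow (τ : Λ) (n : ℕ) :
    (LaurentPolynomial.C τ * LaurentPolynomial.T (-1)) ^ n =
      LaurentPolynomial.C (τ ^ n) * LaurentPolynomial.T (-(n : ℤ)) := by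
  rw [mul_pow, ← map_pow, LaurentPolynomial.T_pow]
  congr 2
  ring

lemma trunc_neg (τ : Λ) (q : Polynomial Λ) :
    LaurentPolynomial.trunc (LaurentPolynomial.C τ * LaurentPolynomial.T (-1) *
      Polynomial.aeval (LaurentPolynomial.C τ * LaurentPolynomial.T (-1)) q) = 0 := by
  induction q using Polynomial.induction_on' with
  | add p q hp hq => rw [map_add, mul_add, map_add, hp, hq, add_zero]
  | monomial n a =>
    rw [Polynomial.aeval_monomial, ← LaurentPolynomial.C_eq_algebraMap, C_T_pow]
    have : LaurentPolynomial.C τ * LaurentPolynomial.T (-1) *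
        (LaurentPolynomial.C a * (LaurentPolynomial.C (τ ^ n) * LaurentPolynomial.T (-(n : ℤ)))) =
        LaurentPolynomial.C (τ * a * τ ^ n) * LaurentPolynomial.T (-1 + -(n : ℤ)) := by
      rw [map_mul, map_mul, LaurentPolynomial.T_add]; ring
    rw [this, LaurentPolynomial.trunc_C_mul_T, if_neg (by omega)]

lemma aeval_T_one (p : Polynomial Λ) :
    Polynomial.aeval (LaurentPolynomial.T 1 : LaurentPolynomial Λ) p = Polynomial.toLaurent p := by
  have := Polynomial.aeval_algHom_apply (Polynomial.toLaurentAlg (R := Λ)) Polynomial.X p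
  rw [Polynomial.aeval_X_left, AlgHom.id_apply] at this
  rw [← Polynomial.toLaurentAlg_apply, ← this, Polynomial.toLaurentAlg_apply,
    Polynomial.toLaurent_X]

theorem main (τ : Λ)
    (B' : Type u) [CommRing B'] [Algebra Λ B'] [Algebra A B']
    [IsScalarTower A Λ B'] (x y : B')
    (hsurj : Function.Surjective
      (MvPolynomial.aeval ![x, y] : MvPolynomial (Fin 2) Λ →ₐ[Λ] B'))
    (hker : RingHom.ker
      (MvPolynomial.aeval ![x, y] : MvPolynomial (Fin 2) Λ →ₐ[Λ] B') =
      Ideal.span {MvPolynomial.X 0 * MvPolynomial.X 1 - MvPolynomial.C τ}) :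
    Function.Injective (KaehlerDifferential.kerToTensor A B'
      (B' ⧸ Ideal.map (algebraMap Λ B') (TrivSqZeroExt.kerIdeal A J))) := by
  obtain ⟨π, hπ⟩ : ∃ π : MvPolynomial (Fin 2) Λ →ₐ[Λ] B', π = MvPolynomial.aeval ![x, y] :=
    ⟨_, rfl⟩
  rw [← hπ] at hsurj hker
  have hπX0 : π (MvPolynomial.X 0) = x := by rw [hπ]; simp
  have hπX1 : π (MvPolynomial.X 1) = y := by rw [hπ]; simp
  have hπC : ∀ a : Λ, π (MvPolynomial.C a) = algebraMap Λ B' a := fun a => by rw [hπ]; simp
  have hxy : x * y = algebraMap Λ B' τ := by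
    have : (MvPolynomial.X 0 * MvPolynomial.X 1 - MvPolynomial.C τ : MvPolynomial (Fin 2) Λ) ∈
        RingHom.ker π := by
      rw [hker]; exact Ideal.subset_span rfl
    rw [RingHom.mem_ker, map_sub, map_mul, hπX0, hπX1, hπC, sub_eq_zero] at this
    exact this
  obtain ⟨z, hz⟩ : ∃ z : LaurentPolynomial Λ,
      z = LaurentPolynomial.C τ * LaurentPolynomial.T (-1) := ⟨_, rfl⟩
  obtain ⟨t, ht⟩ : ∃ t : LaurentPolynomial Λ, t = LaurentPolynomial.T 1 := ⟨_, rfl⟩
  have htz : t * z = algebraMap Λ (LaurentPolynomial Λ) τ := by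
    rw [ht, hz, ← LaurentPolynomial.C_eq_algebraMap, mul_comm, mul_assoc,
      ← LaurentPolynomial.T_add]
    simp
  have hkerle : ∀ (u v : LaurentPolynomial Λ), u * v = algebraMap Λ (LaurentPolynomial Λ) τ →
      RingHom.ker π.toRingHom ≤ RingHom.ker (MvPolynomial.aeval ![u, v] :
        MvPolynomial (Fin 2) Λ →ₐ[Λ] LaurentPolynomial Λ).toRingHom := by
    intro u v huv F hF
    have hF' : F ∈ Ideal.span
        {(MvPolynomial.X 0 * MvPolynomial.X 1 - MvPolynomial.C τ : MvPolynomial (Fin 2) Λ)} := by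
      rw [← hker]; exact hF
    have hgen : (MvPolynomial.X 0 * MvPolynomial.X 1 - MvPolynomial.C τ :
        MvPolynomial (Fin 2) Λ) ∈ RingHom.ker (MvPolynomial.aeval ![u, v] :
        MvPolynomial (Fin 2) Λ →ₐ[Λ] LaurentPolynomial Λ).toRingHom := by
      rw [RingHom.mem_ker]; simp [huv]
    exact (Ideal.span_le.mpr (Set.singleton_subset_iff.mpr hgen)) hF'
  obtain ⟨Ψ1, hΨ1⟩ : ∃ Ψ1 : B' →ₐ[Λ] LaurentPolynomial Λ,
      ∀ F, Ψ1 (π F) = MvPolynomial.aeval ![t, z] F :=
    ⟨AlgHom.liftOfSurjective π hsurj (MvPolynomial.aeval ![t, z]) (hkerle t z htz),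
      fun F => AlgHom.liftOfSurjective_apply π hsurj _ _ F⟩
  obtain ⟨Ψ2, hΨ2⟩ : ∃ Ψ2 : B' →ₐ[Λ] LaurentPolynomial Λ,
      ∀ F, Ψ2 (π F) = MvPolynomial.aeval ![z, t] F :=
    ⟨AlgHom.liftOfSurjective π hsurj (MvPolynomial.aeval ![z, t])
      (hkerle z t (by rw [mul_comm]; exact htz)),
      fun F => AlgHom.liftOfSurjective_apply π hsurj _ _ F⟩
  have hΨ1x : Ψ1 x = t := by rw [← hπX0, hΨ1]; simp
  have hΨ1y : Ψ1 y = z := by rw [← hπX1, hΨ1]; simp
  have hΨ2y : Ψ2 y = t := by rw [← hπX1, hΨ2]; simp
  -- normal form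
  have hnf : ∀ b : B', ∃ p q : Polynomial Λ,
      b = Polynomial.aeval x p + y * Polynomial.aeval y q := by
    intro b
    obtain ⟨F, rfl⟩ := hsurj b
    induction F using MvPolynomial.induction_on with
    | C a => exact ⟨Polynomial.C a, 0, by simp [hπC]⟩
    | add F G hF hG =>
      obtain ⟨p, q, h⟩ := hF
      obtain ⟨p', q', h'⟩ := hG
      exact ⟨p + p', q + q', by rw [map_add, h, h', map_add, map_add]; ring⟩
    | mul_X F i hF =>
      obtain ⟨p, q, h⟩ := hF
      have hp : Polynomial.aeval x p =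
          x * Polynomial.aeval x p.divX + algebraMap Λ B' (p.coeff 0) := by
        conv_lhs => rw [← Polynomial.X_mul_divX_add p]
        simp only [map_add, map_mul, Polynomial.aeval_X, Polynomial.aeval_C]
      have hq : Polynomial.aeval y q =
          y * Polynomial.aeval y q.divX + algebraMap Λ B' (q.coeff 0) := by
        conv_lhs => rw [← Polynomial.X_mul_divX_add q]
        simp only [map_add, map_mul, Polynomial.aeval_X, Polynomial.aeval_C]
      fin_cases i
      · refine ⟨p * Polynomial.X + Polynomial.C (τ * q.coeff 0), Polynomial.C τ * q.divX, ?_⟩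
        have e1 : π (F * MvPolynomial.X (0 : Fin 2)) = π F * x := by rw [map_mul, hπX0]
        have e2 : Polynomial.aeval x (p * Polynomial.X + Polynomial.C (τ * q.coeff 0)) =
            Polynomial.aeval x p * x + algebraMap Λ B' τ * algebraMap Λ B' (q.coeff 0) := by simp
        have e3 : Polynomial.aeval y (Polynomial.C τ * q.divX) =
            algebraMap Λ B' τ * Polynomial.aeval y q.divX := by simp
        show π (F * MvPolynomial.X (0 : Fin 2)) = _
        rw [e1, h, e2, e3]
        linear_combination (y * x) * hq +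
          (y * Polynomial.aeval y q.divX + algebraMap Λ B' (q.coeff 0)) * hxy
      · refine ⟨Polynomial.C τ * p.divX, Polynomial.C (p.coeff 0) + q * Polynomial.X, ?_⟩
        have e1 : π (F * MvPolynomial.X (1 : Fin 2)) = π F * y := by rw [map_mul, hπX1]
        have e2 : Polynomial.aeval y (Polynomial.C (p.coeff 0) + q * Polynomial.X) =
            algebraMap Λ B' (p.coeff 0) + Polynomial.aeval y q * y := by simp
        have e3 : Polynomial.aeval x (Polynomial.C τ * p.divX) =
            algebraMap Λ B' τ * Polynomial.aeval x p.divX := by simp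
        show π (F * MvPolynomial.X (1 : Fin 2)) = _
        rw [e1, h, e2, e3]
        linear_combination y * hp + Polynomial.aeval x p.divX * hxy
  have hinj : ∀ b : B', Ψ1 b = 0 → Ψ2 b = 0 → b = 0 := by
    intro b h1 h2
    obtain ⟨p, q, rfl⟩ := hnf b
    have e1 : Ψ1 (Polynomial.aeval x p + y * Polynomial.aeval y q) =
        Polynomial.toLaurent p + z * Polynomial.aeval z q := by
      rw [map_add, map_mul, ← Polynomial.aeval_algHom_apply, ← Polynomial.aeval_algHom_apply,
        hΨ1x, hΨ1y, ht, aeval_T_one]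
    have hp : p = 0 := by
      have := congrArg LaurentPolynomial.trunc (e1.symm.trans h1)
      rw [map_add, Polynomial.trunc_toLaurent, hz, trunc_neg, add_zero, map_zero] at this
      exact this
    subst hp
    have e2 : Ψ2 (Polynomial.aeval x (0 : Polynomial (TrivSqZeroExt A J)) + y * Polynomial.aeval y q) =
        t * Polynomial.toLaurent q := by
      rw [map_zero, zero_add, map_mul, ← Polynomial.aeval_algHom_apply, hΨ2y, ht, aeval_T_one]
    have hq : q = 0 := by
      rw [e2] at h2
      have : Polynomial.toLaurent q = LaurentPolynomial.T (-1) * (t * Polynomial.toLaurent q) := by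
        rw [ht, ← mul_assoc, ← LaurentPolynomial.T_add]; simp
      rw [h2, mul_zero] at this
      exact Polynomial.toLaurent_eq_zero.mp this
    subst hq
    simp
  rw [injective_iff_map_eq_zero]
  intro i hi
  have hΨ : ∀ (Ψ : B' →ₐ[Λ] LaurentPolynomial Λ), Ψ i = 0 := by
    intro Ψ
    apply psi_eq_zero (A := A) (Ideal.map (algebraMap Λ B') (TrivSqZeroExt.kerIdeal A J))
      Ψ.toRingHom ((sigL A J).comp Ψ.toRingHom) ?_ ?_ ?_ i hi
    · intro a
      have : algebraMap A B' a = algebraMap Λ B' (algebraMap A Λ a) :=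
        IsScalarTower.algebraMap_apply A Λ B' a
      show Ψ (algebraMap A B' a) = sigL A J (Ψ (algebraMap A B' a))
      rw [this, AlgHom.commutes, ← LaurentPolynomial.C_eq_algebraMap, sigL_C, sig_algebraMap]
    · intro b b'
      exact sub_sigL_mul A J (Ψ b) (Ψ b')
    · intro j hj
      have hle : Ideal.map (algebraMap Λ B') (TrivSqZeroExt.kerIdeal A J) ≤
          RingHom.ker ((sigL A J).comp Ψ.toRingHom) := by
        rw [Ideal.map_le_iff_le_comap]
        intro l hl
        rw [Ideal.mem_comap, RingHom.mem_ker]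
        show sigL A J (Ψ (algebraMap Λ B' l)) = 0
        rw [AlgHom.commutes, ← LaurentPolynomial.C_eq_algebraMap, sigL_C, sig_of_mem A J l hl,
          map_zero]
      exact hle hj
  exact Subtype.ext (hinj i (hΨ Ψ1) (hΨ Ψ2))

end


/-- Let A be a commutative ring, J an A-module, A′ = A ⊕ εJ the trivial square-zero extension of A by J,
and τ any element of A′. Let B′ be the A′-algebra A′[x,y]/(xy − τ), presented by two generators x, y
with the evaluation map from the polynomial ring in two variables over A′ surjective and with kernel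
generated by XY − τ. Let I ⊆ B′ be the ideal generated by the square-zero ideal J of A′, so that B =
B′/I is A[x,y]/(xy − t) with t the A-component of τ. Then the first map of the conormal sequence of
B′ → B relative to A, namely I → B ⊗_{B′} Ω_{B′/A}, i ↦ 1 ⊗ di, is injective (so the sequence 0 → I
→ B ⊗_{B′} Ω_{B′/A} → Ω_{B/A} → 0 is exact on the left as well; this is the local computation at a
node for first-order deformations of nodal curves). -/
theorem result
    (A : Type u) [CommRing A] (J : Type u) [AddCommGroup J] [Module A J] [Module Aᵐᵒᵖ J]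
    [IsCentralScalar A J] (τ : TrivSqZeroExt A J)
    (B' : Type u) [CommRing B'] [Algebra (TrivSqZeroExt A J) B'] [Algebra A B']
    [IsScalarTower A (TrivSqZeroExt A J) B'] (x y : B')
    (hsurj : Function.Surjective
      (MvPolynomial.aeval ![x, y] : MvPolynomial (Fin 2) (TrivSqZeroExt A J) →ₐ[TrivSqZeroExt A J] B'))
    (hker : RingHom.ker
      (MvPolynomial.aeval ![x, y] : MvPolynomial (Fin 2) (TrivSqZeroExt A J) →ₐ[TrivSqZeroExt A J] B') =
      Ideal.span {MvPolynomial.X 0 * MvPolynomial.X 1 - MvPolynomial.C τ}) :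
    Function.Injective (KaehlerDifferential.kerToTensor A B'
      (B' ⧸ Ideal.map (algebraMap (TrivSqZeroExt A J) B') (TrivSqZeroExt.kerIdeal A J))) := by
  exact main A J τ B' x y hsurj hker

end Groth.Agent.S16980
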