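import Groth.Statements.S16981
import Mathlib.RingTheory.AdicCompletion.Basic
import Mathlib.RingTheory.AdicCompletion.Noetherian
import Mathlib.RingTheory.LocalRing.MaximalIdeal.Basic
import Mathlib.RingTheory.Noetherian.Basic
import Mathlib.RingTheory.Noetherian.OfPrime
import Mathlib.RingTheory.Ideal.Maps
import Mathlib.RingTheory.Ideal.Quotient.Nilpotent
import Mathlib.RingTheory.Filtration
import Mathlib.RingTheory.AdicCompletion.Topology
import Groth.Agent.Lib.Helper44.AdicQuot
import Groth.Agent.Lib.Helper89.AdicProj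
-- import your own Groth.Agent.* helpers here

set_option autoImplicit false
universe u v
open CAlg

namespace Groth.Agent.S16981


section
variable {A : Type u} {E : Type v} [CommRing A] [CommRing E]
  (f : E →+* A) (hf : Function.Surjective f)

include hf in
/-- a square-zero extension with f.g. kernel of a Noetherian ring is Noetherian -/
lemma isNoetherianRing_of_sqZero [IsNoetherianRing A]
    (hsq : RingHom.ker f ^ 2 = ⊥) (hfg : (RingHom.ker f).FG) : IsNoetherianRing E := by
  apply IsNoetherianRing.of_prime
  intro P hP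
  have hKP : RingHom.ker f ≤ P := by
    intro x hx
    have : x ^ 2 ∈ RingHom.ker f ^ 2 := Ideal.pow_mem_pow hx 2
    rw [hsq] at this
    exact hP.mem_of_pow_mem 2 (by rw [Ideal.mem_bot.mp this]; exact P.zero_mem)
  obtain ⟨S, hS⟩ := (inferInstance : IsNoetherianRing A).noetherian (P.map f)
  obtain ⟨T, hT⟩ := hfg
  -- lift generators
  have hlift : ∀ a ∈ S, ∃ p ∈ P, f p = a := by
    intro a ha
    have : a ∈ P.map f := hS ▸ Submodule.subset_span ha
    exact (Ideal.mem_map_iff_of_surjective f hf).mp this
  choose! g hgP hgf using hlift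
  classical
  refine ⟨S.image g ∪ T, le_antisymm ?_ ?_⟩
  · rw [Submodule.span_le]
    intro x hx
    simp only [Finset.coe_union, Finset.coe_image, Set.mem_union, Set.mem_image, Finset.mem_coe] at hx
    rcases hx with ⟨a, ha, rfl⟩ | hx
    · exact hgP a ha
    · exact hKP (hT ▸ Submodule.subset_span hx)
  · intro x hx
    have hfx : f x ∈ Submodule.span A (S : Set A) := hS ▸ Ideal.mem_map_of_mem f hx
    -- f x is a combination of S, lift it
    have key : ∀ z ∈ Submodule.span A (S : Set A),
        ∃ y ∈ Submodule.span E ((S.image g : Finset E) : Set E), f y = z := by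
      intro z hz
      induction hz using Submodule.span_induction with
      | mem a ha => exact ⟨g a, Submodule.subset_span (by simpa using ⟨a, ha, rfl⟩), hgf a ha⟩
      | zero => exact ⟨0, Submodule.zero_mem _, map_zero f⟩
      | add a b _ _ ha hb =>
        obtain ⟨ya, hya, hya'⟩ := ha
        obtain ⟨yb, hyb, hyb'⟩ := hb
        exact ⟨ya + yb, Submodule.add_mem _ hya hyb, by rw [map_add, hya', hyb']⟩
      | smul c a _ ha =>
        obtain ⟨ya, hya, hya'⟩ := ha
        obtain ⟨c', rfl⟩ := hf c
        exact ⟨c' * ya, Submodule.smul_mem _ c' hya, by rw [map_mul, hya', smul_eq_mul]⟩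
    obtain ⟨y, hy, hyx⟩ := key _ hfx
    have hxy : x - y ∈ RingHom.ker f := by rw [RingHom.mem_ker, map_sub, hyx, sub_self]
    rw [← hT] at hxy
    have : x = y + (x - y) := by ring
    rw [this]
    refine Submodule.add_mem _ (Submodule.span_mono ?_ hy) (Submodule.span_mono ?_ hxy)
    · simp
    · simp
end

section ext
open Groth.Agent.Lib.Helper44 Groth.Agent.Lib.Helper89
variable {R : Type*} [CommRing R] [IsNoetherianRing R] (I : Ideal R)
  {M : Type*} [AddCommGroup M] [Module R M] [Module.Finite R M]

/-- An extension of precomplete modules over a Noetherian ring is precomplete (Artin–Rees). -/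
lemma isPrecomplete_of_submodule_quotient (N : Submodule R M) [IsPrecomplete I N]
    [IsPrecomplete I (M ⧸ N)] : IsPrecomplete I M := by
  refine ⟨fun x hx => ?_⟩
  -- step 1: limit in the quotient
  have h1 : ∀ {i j}, i ≤ j → N.mkQ (x i) ≡ N.mkQ (x j) [SMOD (I ^ i • ⊤ : Submodule R (M ⧸ N))] := by
    intro i j hij
    rw [SModEq.sub_mem, ← map_sub]
    exact map_mem_smul_top (I ^ i) N.mkQ (SModEq.sub_mem.mp (hx hij))
  obtain ⟨abar, habar⟩ := IsPrecomplete.prec' (I := I) _ h1
  obtain ⟨e, rfl⟩ := N.mkQ_surjective abar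
  -- step 2
  have h2 : ∀ j, ∃ z ∈ (I ^ j • ⊤ : Submodule R M), x j - e - z ∈ N := by
    intro j
    have := SModEq.sub_mem.mp (habar j)
    rw [← map_sub, ← map_pow_smul_top_of_surjective I N.mkQ N.mkQ_surjective j] at this
    obtain ⟨z, hz, hz'⟩ := this
    refine ⟨z, hz, ?_⟩
    rw [← Submodule.Quotient.mk_eq_zero, Submodule.Quotient.mk_sub, ← Submodule.mkQ_apply,
      ← Submodule.mkQ_apply, hz', sub_self]
  choose z hz hk using h2
  -- step 3: Artin-Rees
  obtain ⟨c, hc⟩ := Ideal.exists_pow_inf_eq_pow_smul I N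
  have h3 : ∀ {i j}, i ≤ j → (x j - e - z j) - (x i - e - z i) ∈ (I ^ i • ⊤ : Submodule R M) ⊓ N := by
    intro i j hij
    refine ⟨?_, N.sub_mem (hk j) (hk i)⟩
    have e1 : (x j - e - z j) - (x i - e - z i) = -(x i - x j) - z j + z i := by abel
    rw [e1]
    refine Submodule.add_mem _ (Submodule.sub_mem _ (Submodule.neg_mem _ (SModEq.sub_mem.mp (hx hij))) ?_) (hz i)
    exact Submodule.smul_mono_left (Ideal.pow_le_pow_right hij) (hz j)
  -- step 4
  let k' : ℕ → N := fun i => ⟨x (i + c) - e - z (i + c), hk (i + c)⟩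
  have h4 : ∀ {i j}, i ≤ j → k' i ≡ k' j [SMOD (I ^ i • ⊤ : Submodule R N)] := by
    intro i j hij
    rw [SModEq.sub_mem]
    have hmem := h3 (Nat.add_le_add_right hij c)
    rw [hc (i + c) (Nat.le_add_left c i), Nat.add_sub_cancel] at hmem
    have hle : (I ^ i • ((I ^ c • ⊤ : Submodule R M) ⊓ N)) ≤ (I ^ i • ⊤ : Submodule R N).map N.subtype := by
      rw [Submodule.map_smul'', Submodule.map_top, Submodule.range_subtype]
      exact Submodule.smul_mono le_rfl inf_le_right
    obtain ⟨w, hw, hw'⟩ := hle hmem
    have : w = k' j - k' i := by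
      apply Subtype.ext
      rw [Submodule.subtype_apply] at hw'
      rw [hw']
      rfl
    rw [← neg_sub, ← this]
    exact Submodule.neg_mem _ hw
  obtain ⟨k, hk'⟩ := IsPrecomplete.prec' (I := I) _ h4
  refine ⟨e + k, fun j => ?_⟩
  -- step 6
  have h5 : x (j + c) - (e + k) ∈ (I ^ j • ⊤ : Submodule R M) := by
    have e1 : x (j + c) - (e + k) = z (j + c) + ((k' j : M) - k) := by
      simp only [k']; abel
    rw [e1]
    refine Submodule.add_mem _ (Submodule.smul_mono_left (Ideal.pow_le_pow_right (Nat.le_add_right j c)) (hz _)) ?_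
    have := SModEq.sub_mem.mp (hk' j)
    have := map_mem_smul_top (I ^ j) N.subtype this
    simpa using this
  rw [SModEq.sub_mem]
  have e2 : x j - (e + k) = (x j - x (j + c)) + (x (j + c) - (e + k)) := by abel
  rw [e2]
  exact Submodule.add_mem _ (SModEq.sub_mem.mp (hx (Nat.le_add_right j c))) h5

end ext

section final
open Groth.Agent.Lib.Helper44 Groth.Agent.Lib.Helper89
variable {A : Type u} {E : Type v} [CommRing A] [CommRing E]

lemma isPrecomplete_ker_of_sqZero (K : Ideal E) (hsq : K ^ 2 = ⊥) (hfg : K.FG) (n : Ideal E)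
    [IsAdicComplete (n.map (Ideal.Quotient.mk K)) (E ⧸ K)] : IsPrecomplete n K := by
  obtain ⟨r, κ, hκ⟩ := Submodule.fg_iff_exists_fin_generating_family.mp hfg
  have hκK : ∀ i, κ i ∈ K := fun i => hκ ▸ Submodule.subset_span ⟨i, rfl⟩
  let κ' : Fin r → K := fun i => ⟨κ i, hκK i⟩
  have hkill : ∀ i, (K : Submodule E E) ≤ LinearMap.ker (LinearMap.toSpanSingleton E K (κ' i)) := by
    intro i k hk
    rw [LinearMap.mem_ker, LinearMap.toSpanSingleton_apply]
    apply Subtype.ext
    have : k * κ i ∈ K ^ 2 := by rw [pow_two]; exact Ideal.mul_mem_mul hk (hκK i)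
    rw [hsq, Ideal.mem_bot] at this
    simpa [κ'] using this
  let φ : Fin r → ((E ⧸ K) →ₗ[E] K) := fun i =>
    Submodule.liftQ (K : Submodule E E) (LinearMap.toSpanSingleton E K (κ' i)) (hkill i)
  let Ψ : (Fin r → E ⧸ K) →ₗ[E] K := ∑ i, (φ i) ∘ₗ (LinearMap.proj i)
  have hΨ : Function.Surjective Ψ := by
    rintro ⟨y, hy⟩
    rw [← hκ] at hy
    obtain ⟨c, hc⟩ := (Submodule.mem_span_range_iff_exists_fun E).mp hy
    refine ⟨fun i => Ideal.Quotient.mk K (c i), ?_⟩
    apply Subtype.ext
    simp only [Ψ, LinearMap.sum_apply, LinearMap.coe_comp, Function.comp_apply, LinearMap.proj_apply,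
      φ]
    rw [← hc]
    have : ∀ i, (Submodule.liftQ (K : Submodule E E) (LinearMap.toSpanSingleton E K (κ' i)) (hkill i))
        (Ideal.Quotient.mk K (c i)) = c i • κ' i := fun i => by
      change (Submodule.liftQ (K : Submodule E E) _ _) (Submodule.Quotient.mk (c i)) = _
      rw [Submodule.liftQ_apply, LinearMap.toSpanSingleton_apply]
    simp only [this, AddSubmonoidClass.coe_finsetSum, Submodule.coe_smul, κ']
  haveI : IsAdicComplete (n.map (Ideal.Quotient.mk K)) (Fin r → E ⧸ K) :=
    isAdicComplete_pi_fin _ r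
  haveI : IsPrecomplete n (Fin r → E ⧸ K) :=
    (IsPrecomplete.map_algebraMap_iff (R := E) (S := E ⧸ K) (I := n)).mp inferInstance
  exact isPrecomplete_of_surjective n Ψ hΨ

end final

section final2
open Groth.Agent.Lib.Helper44 Groth.Agent.Lib.Helper89
variable {A : Type u} {E : Type v} [CommRing A] [CommRing E]

theorem main [IsNoetherianRing A] [IsLocalRing A]
    [IsAdicComplete (IsLocalRing.maximalIdeal A) A]
    (f : E →+* A) (hf : Function.Surjective f)
    (hsq : RingHom.ker f ^ 2 = ⊥) (hfg : (RingHom.ker f).FG) :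
    IsAdicComplete ((IsLocalRing.maximalIdeal A).comap f) E := by
  set K := RingHom.ker f with hK
  set m := IsLocalRing.maximalIdeal A with hm
  set n := m.comap f with hn
  haveI hE : IsNoetherianRing E := isNoetherianRing_of_sqZero f hf hsq hfg
  let e : (E ⧸ K) ≃+* A := RingHom.quotientKerEquivOfSurjective hf
  have he : ∀ x, e (Ideal.Quotient.mk K x) = f x := fun x => rfl
  have hmap : (n.map (Ideal.Quotient.mk K)).map (e : (E ⧸ K) →+* A) = m := by
    rw [Ideal.map_map]
    have : (e : (E ⧸ K) →+* A).comp (Ideal.Quotient.mk K) = f := RingHom.ext he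
    rw [this, hn, Ideal.map_comap_of_surjective f hf]
  haveI hA' : IsAdicComplete (n.map (Ideal.Quotient.mk K)) (E ⧸ K) := by
    have h1 : IsAdicComplete ((n.map (Ideal.Quotient.mk K)).map e) A := by
      have : (n.map (Ideal.Quotient.mk K)).map e = m := hmap
      rw [this]; infer_instance
    exact (IsAdicComplete.congr_ringEquiv _ e).mp h1
  -- Hausdorff
  have hjac : n ≤ Ideal.jacobson ⊥ := by
    intro x hx
    rw [Ideal.mem_jacobson_bot]
    intro y
    have hfx : f x ∈ Ideal.jacobson (⊥ : Ideal A) := by
      rw [IsLocalRing.jacobson_eq_maximalIdeal ⊥ bot_ne_top]; exact hx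
    have hu : IsUnit (f (x * y + 1)) := by
      rw [map_add, map_mul, map_one]
      exact Ideal.mem_jacobson_bot.mp hfx (f y)
    have hnil : IsNilpotent K := ⟨2, hsq⟩
    rw [← IsNilpotent.isUnit_quotient_mk_iff hnil]
    have : Ideal.Quotient.mk K (x * y + 1) = e.symm (f (x * y + 1)) := by
      rw [RingEquiv.eq_symm_apply, he]
    rw [this]
    exact hu.map e.symm
  haveI : IsHausdorff n E := IsHausdorff.of_le_jacobson n E hjac
  -- Precomplete
  haveI : IsPrecomplete n K := isPrecomplete_ker_of_sqZero K hsq hfg n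
  haveI : IsPrecomplete n (E ⧸ (K : Submodule E E)) :=
    (IsPrecomplete.map_algebraMap_iff (R := E) (S := E ⧸ K) (M := E ⧸ K) (I := n)).mp
      (inferInstance : IsPrecomplete (n.map (Ideal.Quotient.mk K)) (E ⧸ K))
  haveI : IsPrecomplete n E := isPrecomplete_of_submodule_quotient n (K : Submodule E E)
  exact {}

end final2


/-- Let A be a complete Noetherian local ring and f : E → A a surjective ring homomorphism whose kernel
has square zero and is finitely generated (equivalently, is a finite A-module for the induced module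
structure). Then E is separated and complete for the adic topology of the inverse image of the
maximal ideal of A. (The published statement takes A to be the completion of a local ring of a
scheme of finite type over an Artinian local ring and the kernel the completion of a finite module;
this row assumes only that A is complete Noetherian local and the kernel finitely generated.) -/
theorem result
    {A : Type u} {E : Type v} [CommRing A] [CommRing E] [IsNoetherianRing A] [IsLocalRing A]
    [IsAdicComplete (IsLocalRing.maximalIdeal A) A]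
    (f : E →+* A) (hf : Function.Surjective f)
    (hsq : RingHom.ker f ^ 2 = ⊥) (hfg : (RingHom.ker f).FG) :
    IsAdicComplete ((IsLocalRing.maximalIdeal A).comap f) E := by
  exact main f hf hsq hfg

end Groth.Agent.S16981
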