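import Groth.Statements.S16982
import Mathlib
import Groth.Agent.Lib.Helper90.PSUniv
import Groth.Agent.Lib.Helper90.PSIdeal
import Groth.Agent.S16981

set_option autoImplicit false
universe u v w w'
open CAlg

namespace Groth.Agent.S16982.Aux

set_option linter.style.haveILetI false

open MvPowerSeries Groth.Agent.Lib.Helper90

theorem mem_pow_of_coeff' {σ : Type v} [Finite σ] {B : Type u} [CommRing B] (n : ℕ)
    (f : MvPowerSeries σ B) (h : ∀ d : σ →₀ ℕ, d.degree < n → coeff d f = 0) :
    f ∈ Ideal.span (Set.range (X : σ → MvPowerSeries σ B)) ^ n := by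
  classical
  haveI := Fintype.ofFinite σ
  obtain ⟨m, ⟨e⟩⟩ := Finite.exists_equiv_fin σ
  letI : LinearOrder σ := LinearOrder.lift' e e.injective
  exact PSIdeal.mem_pow_of_coeff n f h

theorem main
    {R : Type u} [CommRing R] {σ : Type v} [Finite σ]
    {A : Type w} {E : Type w'} [CommRing A] [CommRing E] [Algebra R A] [Algebra R E]
    [IsNoetherianRing A] [IsLocalRing A] [IsAdicComplete (IsLocalRing.maximalIdeal A) A]
    (π : MvPowerSeries σ R →ₐ[R] A) (hπ : Function.Surjective π)
    (f : E →ₐ[R] A) (hf : Function.Surjective f)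
    (hsq : RingHom.ker f.toRingHom ^ 2 = ⊥) (hfg : (RingHom.ker f.toRingHom).FG) :
    ∃ l : MvPowerSeries σ R →ₐ[R] E, f.comp l = π := by
  classical
  haveI : IsAdicComplete ((IsLocalRing.maximalIdeal A).comap f.toRingHom) E :=
    Groth.Agent.S16981.result f.toRingHom hf hsq hfg
  -- the images of the variables lie in the maximal ideal
  have hX : ∀ i, π (X i) ∈ IsLocalRing.maximalIdeal A := by
    intro i
    by_contra hcon
    have hu : IsUnit (π (X i)) := by
      by_contra hnu
      exact hcon ((IsLocalRing.mem_maximalIdeal _).mpr hnu)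
    obtain ⟨a, ha⟩ := hu.exists_left_inv
    obtain ⟨g, rfl⟩ := hπ a
    have h1 : π (1 - g * X i) = 0 := by
      rw [map_sub, map_one, map_mul, ha, sub_self]
    have h2 : IsUnit (1 - g * X i : MvPowerSeries σ R) := by
      rw [MvPowerSeries.isUnit_iff_constantCoeff]
      simp
    have := h2.map π
    rw [h1] at this
    exact not_isUnit_zero this
  choose e he using fun i => hf (π (X i))
  have hemem : ∀ i, e i ∈ (IsLocalRing.maximalIdeal A).comap f.toRingHom := by
    intro i
    rw [Ideal.mem_comap]
    change f (e i) ∈ _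
    rw [he]
    exact hX i
  obtain ⟨φ, hφ1, hφ2⟩ := PSUniv.exists_eval (B := R)
    ((IsLocalRing.maximalIdeal A).comap f.toRingHom) e hemem
  refine ⟨φ, ?_⟩
  -- agreement on polynomials
  have hpoly : ∀ p : MvPolynomial σ R, f (φ (p : MvPowerSeries σ R)) = π (p : MvPowerSeries σ R) := by
    intro p
    rw [hφ1]
    have h1 : (f.comp (MvPolynomial.aeval e)) = π.comp (MvPolynomial.coeToMvPowerSeries.algHom R) := by
      apply MvPolynomial.algHom_ext
      intro i
      simp [he]
    exact DFunLike.congr_fun h1 p
  -- both maps send high order series into high powers of the maximal ideal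
  have hπn : ∀ (n : ℕ) (G : MvPowerSeries σ R), (∀ d : σ →₀ ℕ, d.degree < n → coeff d G = 0) →
      π G ∈ IsLocalRing.maximalIdeal A ^ n := by
    intro n G hG
    have h1 := mem_pow_of_coeff' n G hG
    have h2 : (Ideal.span (Set.range (X : σ → MvPowerSeries σ R)) ^ n).map π.toRingHom ≤
        IsLocalRing.maximalIdeal A ^ n := by
      rw [Ideal.map_pow]
      apply Ideal.pow_right_mono
      rw [Ideal.map_span, Ideal.span_le]
      rintro _ ⟨_, ⟨i, rfl⟩, rfl⟩
      exact hX i
    exact h2 (Ideal.mem_map_of_mem π.toRingHom h1)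
  have hφn : ∀ (n : ℕ) (G : MvPowerSeries σ R), (∀ d : σ →₀ ℕ, d.degree < n → coeff d G = 0) →
      f (φ G) ∈ IsLocalRing.maximalIdeal A ^ n := by
    intro n G hG
    have h1 := hφ2 n G hG
    have h2 : (((IsLocalRing.maximalIdeal A).comap f.toRingHom) ^ n).map f.toRingHom ≤
        IsLocalRing.maximalIdeal A ^ n := by
      rw [Ideal.map_pow]
      apply Ideal.pow_right_mono
      exact Ideal.map_comap_le
    exact h2 (Ideal.mem_map_of_mem f.toRingHom h1)
  ext F
  change f (φ F) = π F
  rw [← sub_eq_zero]
  apply IsHausdorff.haus (inferInstance : IsHausdorff (IsLocalRing.maximalIdeal A) A)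
  intro n
  rw [SModEq.zero, smul_eq_mul, Ideal.mul_top]
  obtain ⟨p, hp⟩ := PSUniv.exists_trunc n F
  have h3 : f (φ F) - π F = f (φ (F - p)) - π (F - p) := by
    rw [map_sub, map_sub, map_sub, hpoly]
    ring
  rw [h3]
  exact Ideal.sub_mem _ (hφn n _ hp) (hπn n _ hp)

end Groth.Agent.S16982.Aux

namespace Groth.Agent.S16982

/-- Let R be a commutative ring, A a complete Noetherian local R-algebra written as a quotient of a
power series ring over R in finitely many variables by a surjective R-algebra map π, and f : E → A a
surjective R-algebra map whose kernel has square zero and is finitely generated. Then π lifts along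
f to an R-algebra map λ from the power series ring to E with f ∘ λ = π. (The published statement
takes R Artinian local and asks for a lift that is continuous for the adic topologies; this row
allows any commutative R and asks for any lift.) -/
theorem result
    {R : Type u} [CommRing R] {σ : Type v} [Finite σ]
    {A : Type w} {E : Type w'} [CommRing A] [CommRing E] [Algebra R A] [Algebra R E]
    [IsNoetherianRing A] [IsLocalRing A] [IsAdicComplete (IsLocalRing.maximalIdeal A) A]
    (π : MvPowerSeries σ R →ₐ[R] A) (hπ : Function.Surjective π)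
    (f : E →ₐ[R] A) (hf : Function.Surjective f)
    (hsq : RingHom.ker f.toRingHom ^ 2 = ⊥) (hfg : (RingHom.ker f.toRingHom).FG) :
    ∃ l : MvPowerSeries σ R →ₐ[R] E, f.comp l = π := by
  exact Aux.main π hπ f hf hsq hfg

end Groth.Agent.S16982
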