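import Groth.Statements.S16983
import Mathlib.Tactic
-- import your own Groth.Agent.* helpers here

set_option autoImplicit false
universe u
open DeformData

namespace Groth.Agent.S16983


/-- If `p^i * (h/m)` is an integer and `m` is coprime to `p`, then `h/m` is an integer. -/
theorem fract_eq_zero_of_pow_mul (p : ℕ) (m : ℕ) (hm : 0 < m) (hmp : Nat.Coprime m p) (i : ℕ) (h : ℤ)
    (hz : Int.fract ((p : ℚ) ^ i * ((h : ℚ) / (m : ℚ))) = 0) : Int.fract ((h : ℚ) / (m : ℚ)) = 0 := by
  rw [Int.fract_eq_zero_iff] at hz ⊢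
  obtain ⟨z, hz⟩ := hz
  have hm0 : (m : ℚ) ≠ 0 := by exact_mod_cast hm.ne'
  have h1 : ((p : ℤ) ^ i * h : ℤ) = z * (m : ℤ) := by
    have : ((p : ℚ) ^ i * h) = z * m := by
      field_simp at hz
      linarith
    exact_mod_cast this
  have hdvd : (m : ℤ) ∣ (p : ℤ) ^ i * h := ⟨z, by rw [h1, mul_comm]⟩
  have hcop : IsCoprime (m : ℤ) ((p : ℤ) ^ i) := by
    apply IsCoprime.pow_right
    exact Nat.isCoprime_iff_coprime.2 hmp
  obtain ⟨w, hw⟩ := hcop.dvd_of_dvd_mul_left hdvd
  refine ⟨w, ?_⟩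
  rw [hw]
  push_cast
  field_simp

/-- Let p be a prime, s ≥ 1, B a finite index set with a subset B₀ of exactly three elements, m_j ≥ 1
integers coprime to p, and σ_{i,j} (i < s, j ∈ B) rational numbers with m_j σ_{i,j} an integer, such
that Σ_j (σ_{i,j} − 1) = −2 for every i, the fractional part of σ_{i,j} equals that of p^i σ_{0,j},
no σ_{i,j} equals 1, and the minimum over i of ⌊σ_{i,j}⌋ is 0 for j ∈ B₀ and 1 for j ∉ B₀. Then for
every i the fractional parts ⟨σ_{i,j}⟩ sum over j to 1 (purity), and ⌊σ_{i,j}⌋ is 0 on B₀ and 1 off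
B₀ for every i. (The hypotheses are exactly the properties of the signature of a special deformation
datum on the projective line: each entry is an integer divided by a stabilizer order m_j in a group
of order prime to p, the degree identity coming from Riemann–Hurwitz, the Frobenius-twist relation
between fractional parts, and the speciality conditions; the statement is given here for any such
tuple.) -/
theorem result
    {B : Type u} [Fintype B] [DecidableEq B] (B₀ : Finset B) (hB₀ : B₀.card = 3)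
    (p : ℕ) (hp : p.Prime) (s : ℕ) (hs : 0 < s)
    (m : B → ℕ) (hm : ∀ j, 0 < m j) (hmp : ∀ j, Nat.Coprime (m j) p)
    (σ : Fin s → B → ℚ) (hint : ∀ i j, ∃ h : ℤ, σ i j = (h : ℚ) / (m j : ℚ))
    (hsum : ∀ i, ∑ j, (σ i j - 1) = -2)
    (hfract : ∀ i j, Int.fract (σ i j) = Int.fract ((p : ℚ) ^ (i : ℕ) * σ ⟨0, hs⟩ j))
    (hne : ∀ i j, σ i j ≠ 1)
    (hB₀min : ∀ j ∈ B₀, (∃ i, ⌊σ i j⌋ = 0) ∧ ∀ i, 0 ≤ ⌊σ i j⌋)
    (hBmin : ∀ j ∉ B₀, (∃ i, ⌊σ i j⌋ = 1) ∧ ∀ i, 1 ≤ ⌊σ i j⌋) :
    (∀ i, ∑ j, Int.fract (σ i j) = 1) ∧ (∀ i j, ⌊σ i j⌋ = if j ∈ B₀ then 0 else 1) := by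
  classical
  -- the minimal floors
  set c : B → ℤ := fun j => if j ∈ B₀ then 0 else 1 with hc
  have hfloor_ge : ∀ i j, c j ≤ ⌊σ i j⌋ := by
    intro i j
    by_cases hj : j ∈ B₀
    · simp only [hc, if_pos hj]; exact (hB₀min j hj).2 i
    · simp only [hc, if_neg hj]; exact (hBmin j hj).2 i
  have hcsum : ∑ j : B, c j = (Fintype.card B : ℤ) - 3 := by
    have h1 : ∑ j : B, c j = ∑ j : B, ((1 : ℤ) - if j ∈ B₀ then 1 else 0) := by
      refine Finset.sum_congr rfl fun j _ => ?_
      simp only [hc]; split_ifs <;> simp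
    rw [h1, Finset.sum_sub_distrib, Finset.sum_ite_mem, Finset.univ_inter]
    simp [hB₀]
  have hsumσ : ∀ i, ∑ j, σ i j = (Fintype.card B : ℚ) - 2 := by
    intro i
    have := hsum i
    rw [Finset.sum_sub_distrib] at this
    simp only [Finset.sum_const, Finset.card_univ, nsmul_eq_mul, mul_one] at this
    linarith
  -- decomposition floor + fract
  have hdecomp : ∀ i, ((∑ j, (⌊σ i j⌋ - c j) : ℤ) : ℚ) + ∑ j, Int.fract (σ i j) = 1 := by
    intro i
    have h1 : ∑ j, σ i j = ∑ j, ((⌊σ i j⌋ : ℚ) + Int.fract (σ i j)) :=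
      Finset.sum_congr rfl fun j _ => (Int.floor_add_fract (σ i j)).symm
    rw [Finset.sum_add_distrib] at h1
    have h2 := hsumσ i
    rw [Finset.sum_sub_distrib, hcsum]
    push_cast
    linarith
  have hDnonneg : ∀ i, 0 ≤ ∑ j, (⌊σ i j⌋ - c j) := fun i =>
    Finset.sum_nonneg fun j _ => sub_nonneg.2 (hfloor_ge i j)
  have hFnonneg : ∀ i, 0 ≤ ∑ j, Int.fract (σ i j) := fun i =>
    Finset.sum_nonneg fun j _ => Int.fract_nonneg _
  -- the fractional sum cannot vanish
  have hFne : ∀ i, ∑ j, Int.fract (σ i j) ≠ 0 := by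
    intro i hF0
    have hall : ∀ j, Int.fract (σ i j) = 0 := by
      intro j
      exact (Finset.sum_eq_zero_iff_of_nonneg (fun j _ => Int.fract_nonneg _)).1 hF0 j (Finset.mem_univ j)
    -- all entries of row zero are integers, hence all entries
    have hint0 : ∀ j, Int.fract (σ ⟨0, hs⟩ j) = 0 := by
      intro j
      obtain ⟨h, hh⟩ := hint ⟨0, hs⟩ j
      rw [hh]
      apply fract_eq_zero_of_pow_mul p (m j) (hm j) (hmp j) (i : ℕ) h
      rw [← hh, ← hfract i j]
      exact hall j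
    have hintall : ∀ i' j, Int.fract (σ i' j) = 0 := by
      intro i' j
      rw [hfract i' j]
      rw [Int.fract_eq_zero_iff] at *
      obtain ⟨z, hz⟩ := (Int.fract_eq_zero_iff.1 (hint0 j))
      refine ⟨(p : ℤ) ^ (i' : ℕ) * z, ?_⟩
      rw [← hz]; push_cast; ring
    have hval : ∀ i' j, σ i' j = (⌊σ i' j⌋ : ℚ) := by
      intro i' j
      have := Int.floor_add_fract (σ i' j)
      rw [hintall i' j, add_zero] at this
      exact this.symm
    by_cases hex : ∃ j, j ∉ B₀
    · obtain ⟨j, hj⟩ := hex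
      obtain ⟨i', hi'⟩ := (hBmin j hj).1
      apply hne i' j
      rw [hval i' j, hi']
      norm_num
    · push Not at hex
      -- B = B₀, all entries nonnegative integers different from one, summing to one
      have hcard : (Fintype.card B : ℚ) = 3 := by
        have : B₀ = Finset.univ := Finset.eq_univ_iff_forall.2 hex
        rw [this, Finset.card_univ] at hB₀
        exact_mod_cast hB₀
      have hsum1 : ∑ j, ⌊σ i j⌋ = 1 := by
        have h1 := hsumσ i
        rw [hcard] at h1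
        have h2 : ∑ j, σ i j = ((∑ j, ⌊σ i j⌋ : ℤ) : ℚ) := by
          push_cast
          exact Finset.sum_congr rfl fun j _ => hval i j
        rw [h2] at h1
        have : ((∑ j, ⌊σ i j⌋ : ℤ) : ℚ) = ((1 : ℤ) : ℚ) := by rw [h1]; norm_num
        exact_mod_cast this
      have hz0 : ∀ j, 0 ≤ ⌊σ i j⌋ := fun j => (hB₀min j (hex j)).2 i
      have hz1 : ∀ j, ⌊σ i j⌋ ≠ 1 := by
        intro j hj
        apply hne i j
        rw [hval i j, hj]; norm_num
      by_cases hallz : ∀ j, ⌊σ i j⌋ = 0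
      · simp [hallz] at hsum1
      · push Not at hallz
        obtain ⟨j, hj⟩ := hallz
        have h2 : 2 ≤ ⌊σ i j⌋ := by
          have := hz0 j; have := hz1 j; omega
        have h3 : ⌊σ i j⌋ ≤ ∑ j, ⌊σ i j⌋ :=
          Finset.single_le_sum (fun j _ => hz0 j) (Finset.mem_univ j)
        omega
  -- hence the integer defect vanishes
  have hD0 : ∀ i, ∑ j, (⌊σ i j⌋ - c j) = 0 := by
    intro i
    have h1 := hdecomp i
    have h2 := hDnonneg i
    have h3 : 0 < ∑ j, Int.fract (σ i j) := lt_of_le_of_ne (hFnonneg i) (Ne.symm (hFne i))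
    have h4 : ((∑ j, (⌊σ i j⌋ - c j) : ℤ) : ℚ) < 1 := by linarith
    have h5 : (∑ j, (⌊σ i j⌋ - c j) : ℤ) < 1 := by exact_mod_cast h4
    omega
  constructor
  · intro i
    have h1 := hdecomp i
    rw [hD0 i] at h1
    simpa using h1
  · intro i j
    have h1 : ⌊σ i j⌋ - c j = 0 :=
      (Finset.sum_eq_zero_iff_of_nonneg (fun j _ => sub_nonneg.2 (hfloor_ge i j))).1 (hD0 i) j
        (Finset.mem_univ j)
    have : ⌊σ i j⌋ = c j := by omega
    rw [this]

end Groth.Agent.S16983
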