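import Groth.Statements.S16984
-- import your own Groth.Agent.* helpers here

set_option autoImplicit false
universe u v w
open Hoch

namespace Groth.Agent.S16984

open TensorProduct in
/-- `(p ⊗ a) ⊗ b ↦ ε(a) • (p ⊗ b)`: contract the middle factor with the counit. -/
noncomputable def contractMid (k : Type u) [CommRing k] (A : Type v) [CommRing A] [Bialgebra k A]
    (P : Type w) [AddCommGroup P] [Module k P] : (P ⊗[k] A) ⊗[k] A →ₗ[k] P ⊗[k] A :=
  ((TensorProduct.rid k P).toLinearMap ∘ₗ (Coalgebra.counit (R := k) (A := A)).lTensor P).rTensor A

open TensorProduct in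
theorem contractMid_tmul (k : Type u) [CommRing k] (A : Type v) [CommRing A] [Bialgebra k A]
    (P : Type w) [AddCommGroup P] [Module k P] (x : P ⊗[k] A) (b : A) :
    contractMid k A P (x ⊗ₜ[k] b) =
      ((TensorProduct.rid k P) ((Coalgebra.counit (R := k) (A := A)).lTensor P x)) ⊗ₜ[k] b := by
  simp [contractMid]

open TensorProduct in
theorem contractMid_coactAux (k : Type u) [CommRing k] (A : Type v) [CommRing A] [Bialgebra k A]
    (P : Type w) [AddCommGroup P] [Module k P] (x : P ⊗[k] A) :
    contractMid k A P (Hoch.Ind.coactAux k A P x) = x := by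
  induction x using TensorProduct.induction_on with
  | zero => simp
  | add x y hx hy => rw [map_add, map_add, hx, hy]
  | tmul p a =>
    rw [Hoch.Ind.coactAux_tmul]
    have key : ∀ y : A ⊗[k] A, contractMid k A P ((TensorProduct.assoc k P A A).symm (p ⊗ₜ y)) =
        p ⊗ₜ[k] (TensorProduct.lid k A ((Coalgebra.counit (R := k) (A := A)).rTensor A y)) := by
      intro y
      induction y using TensorProduct.induction_on with
      | zero => simp
      | add y z hy hz => simp only [tmul_add, map_add, hy, hz]
      | tmul a b =>
        rw [TensorProduct.assoc_symm_tmul, contractMid_tmul]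
        simp only [LinearMap.lTensor_tmul, TensorProduct.rid_tmul, LinearMap.rTensor_tmul,
          TensorProduct.lid_tmul]
        rw [TensorProduct.smul_tmul]
    rw [key, Coalgebra.rTensor_counit_comul]
    simp

open TensorProduct in
theorem eq_tmul_one_of_coactAux (k : Type u) [CommRing k] (A : Type v) [CommRing A] [Bialgebra k A]
    (P : Type w) [AddCommGroup P] [Module k P] (x : P ⊗[k] A)
    (hx : Hoch.Ind.coactAux k A P x = x ⊗ₜ[k] (1 : A)) :
    x = ((TensorProduct.rid k P) ((Coalgebra.counit (R := k) (A := A)).lTensor P x)) ⊗ₜ[k] (1 : A) := by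
  have h1 := congrArg (contractMid k A P) hx
  rwa [contractMid_coactAux, contractMid_tmul] at h1

open TensorProduct in
/-- Let k be a commutative ring, A a commutative k-bialgebra that is flat over k (the coordinate ring of
a flat affine group scheme over Spec k; flatness and commutativity are the standing hypotheses of
the appendix and are not needed for the assertion) and P a k-module. Then p ↦ p ⊗ 1 is an injection
of P into the induced comodule P ⊗ A (coaction id ⊗ Δ) whose image is exactly the submodule of
invariants, i.e. the elements with coaction x ↦ x ⊗ 1. (The published statement writes the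
coordinate-ring factor on the left and calls this module coinduced; this row is its degree-zero
part, the identification of P with the invariants of the coinduced module.) -/
theorem result (k : Type u) [CommRing k] (A : Type v) [CommRing A] [Bialgebra k A]
    [Module.Flat k A] (P : Type w) [AddCommGroup P] [Module k P] :
    Function.Injective ((Hoch.Ind.equiv k A P).toLinearMap ∘ₗ (TensorProduct.mk k P A).flip (1 : A)) ∧
    LinearMap.range ((Hoch.Ind.equiv k A P).toLinearMap ∘ₗ (TensorProduct.mk k P A).flip (1 : A)) =
      HopfRep.fixedPts k A (Hoch.Ind k A P) := by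
  have hval : ∀ p : P, ((Hoch.Ind.equiv k A P).toLinearMap ∘ₗ (TensorProduct.mk k P A).flip (1 : A)) p
      = Hoch.Ind.equiv k A P (p ⊗ₜ[k] (1 : A)) := fun p => rfl
  constructor
  · intro p q h
    rw [hval, hval] at h
    have h' := congrArg (Hoch.Ind.counit k A P) h
    rw [Hoch.Ind.counit_equiv_tmul, Hoch.Ind.counit_equiv_tmul] at h'
    simpa [Bialgebra.counit_one] using h'
  · apply le_antisymm
    · rintro _ ⟨p, rfl⟩
      rw [hval]
      change HopfRep.Comod.coact (k := k) (A := A) (V := Hoch.Ind k A P) _ = _
      rw [Hoch.Ind.coact_equiv_tmul, Bialgebra.comul_one, Algebra.TensorProduct.one_def,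
        TensorProduct.assoc_symm_tmul]
      rfl
    · intro x hx
      have h1 := eq_tmul_one_of_coactAux k A P x hx
      refine ⟨(TensorProduct.rid k P) ((Coalgebra.counit (R := k) (A := A)).lTensor P x), ?_⟩
      rw [hval]
      exact h1.symm

end Groth.Agent.S16984
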