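import Groth.Statements.S16985
import Groth.Agent.S16984
-- import your own Groth.Agent.* helpers here

set_option autoImplicit false
universe u v
open Hoch

namespace Groth.Agent.S16985

open TensorProduct

section General

variable (k : Type u) [CommRing k] (A : Type v) [Ring A] [Bialgebra k A]

/-- Naturality of `Hoch.tail` in the module. -/
theorem tail_natural {M N : Type v} [AddCommGroup M] [Module k M] [AddCommGroup N] [Module k N]
    (f : M →ₗ[k] N) :
    (f.rTensor A).rTensor A ∘ₗ Hoch.tail k A M = Hoch.tail k A N ∘ₗ f.rTensor A := by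
  apply TensorProduct.ext'
  intro m a
  simp only [LinearMap.comp_apply, Hoch.tail_tmul, LinearMap.rTensor_tmul]
  generalize (Coalgebra.comul (R := k) a - a ⊗ₜ[k] 1 - 1 ⊗ₜ[k] a : A ⊗[k] A) = y
  induction y using TensorProduct.induction_on with
  | zero => simp
  | add y z hy hz => simp only [tmul_add, map_add, hy, hz]
  | tmul b c => simp

variable (V : Type v) [AddCommGroup V] [Module k V] [HopfRep.Comod k A V]

/-- The family of homotopy operators obtained from a degree-zero one by tensoring with `A`. -/
noncomputable def hs (s0 : V ⊗[k] A →ₗ[k] V) :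
    (n : ℕ) → ((Hoch.cochain k A V (n + 1) : Type v) →ₗ[k] (Hoch.cochain k A V n : Type v))
  | 0 => s0
  | n + 1 => (hs s0 n).rTensor A

theorem hs_succ (s0 : V ⊗[k] A →ₗ[k] V) (n : ℕ) :
    hs k A V s0 (n + 1) = (hs k A V s0 n).rTensor A := rfl

/-- If `s0` is a contracting homotopy in the lowest degree, the family `hs` is one in all degrees. -/
theorem homotopy (s0 : V ⊗[k] A →ₗ[k] V)
    (h0 : (s0.rTensor A) ∘ₗ Hoch.d k A V 1 + Hoch.d k A V 0 ∘ₗ s0 = LinearMap.id) (n : ℕ) :
    hs k A V s0 (n + 1) ∘ₗ Hoch.d k A V (n + 1) + Hoch.d k A V n ∘ₗ hs k A V s0 n = LinearMap.id := by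
  induction n with
  | zero => exact h0
  | succ n ih =>
    have hnat := tail_natural k A (hs k A V s0 n)
    rw [← hs_succ k A V s0 n] at hnat
    have hsign : ((-1 : k) ^ (n + 1 + 1)) = -((-1 : k) ^ (n + 1)) := by ring
    have e1 : hs k A V s0 (n + 1 + 1) ∘ₗ Hoch.d k A V (n + 1 + 1) =
        (hs k A V s0 (n + 1) ∘ₗ Hoch.d k A V (n + 1)).rTensor A +
          (-((-1 : k) ^ (n + 1))) • (Hoch.tail k A (Hoch.cochain k A V n) ∘ₗ hs k A V s0 (n + 1)) := by
      rw [hs_succ k A V s0 (n + 1), Hoch.d_succ k A V (n + 1), LinearMap.comp_add,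
        LinearMap.comp_smul, hnat, ← LinearMap.rTensor_comp, hsign]
    have e2 : Hoch.d k A V (n + 1) ∘ₗ hs k A V s0 (n + 1) =
        (Hoch.d k A V n ∘ₗ hs k A V s0 n).rTensor A +
          ((-1 : k) ^ (n + 1)) • (Hoch.tail k A (Hoch.cochain k A V n) ∘ₗ hs k A V s0 (n + 1)) := by
      conv_lhs => rw [Hoch.d_succ k A V n, LinearMap.add_comp, LinearMap.smul_comp]
      congr 1
      rw [hs_succ k A V s0 n, ← LinearMap.rTensor_comp]
    have e3 : ((hs k A V s0 (n + 1) ∘ₗ Hoch.d k A V (n + 1)).rTensor A) +
        ((Hoch.d k A V n ∘ₗ hs k A V s0 n).rTensor A) = LinearMap.id := by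
      rw [← LinearMap.rTensor_add, ih, LinearMap.rTensor_id]
    rw [e1, e2, ← e3]
    module

end General

section Induced

variable (k : Type u) [CommRing k] (A : Type v) [CommRing A] [Bialgebra k A]
variable (P : Type v) [AddCommGroup P] [Module k P]

/-- The degree-zero homotopy operator on (the underlying module of) the induced comodule. -/
noncomputable abbrev c0 : (P ⊗[k] A) ⊗[k] A →ₗ[k] P ⊗[k] A :=
  Groth.Agent.S16984.contractMid k A P

theorem c0_tmul (x : P ⊗[k] A) (b : A) :
    c0 k A P (x ⊗ₜ[k] b) =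
      ((TensorProduct.rid k P) ((Coalgebra.counit (R := k) (A := A)).lTensor P x)) ⊗ₜ[k] b :=
  Groth.Agent.S16984.contractMid_tmul k A P x b

theorem c0_key (p : P) (b : A) (y : A ⊗[k] A) :
    ((c0 k A P).rTensor A) ((TensorProduct.assoc k (P ⊗[k] A) A A).symm ((p ⊗ₜ[k] b) ⊗ₜ[k] y)) =
      (Coalgebra.counit (R := k) b) • (TensorProduct.assoc k P A A).symm (p ⊗ₜ[k] y) := by
  induction y using TensorProduct.induction_on with
  | zero => simp
  | add y z hy hz => simp only [tmul_add, map_add, hy, hz, smul_add]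
  | tmul a1 a2 =>
    rw [TensorProduct.assoc_symm_tmul, TensorProduct.assoc_symm_tmul, LinearMap.rTensor_tmul, c0_tmul]
    simp only [LinearMap.lTensor_tmul, TensorProduct.rid_tmul]
    rw [TensorProduct.smul_tmul', TensorProduct.smul_tmul']

theorem coact_c0 (x : (P ⊗[k] A) ⊗[k] A) :
    Hoch.Ind.coactAux k A P (c0 k A P x) =
      ((c0 k A P).rTensor A) ((TensorProduct.assoc k (P ⊗[k] A) A A).symm
        ((Coalgebra.comul (R := k) (A := A)).lTensor (P ⊗[k] A) x)) := by
  induction x using TensorProduct.induction_on with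
  | zero => simp
  | add x y hx hy => simp only [map_add, hx, hy]
  | tmul v a =>
    induction v using TensorProduct.induction_on with
    | zero => simp
    | add v w hv hw => simp only [add_tmul, map_add, hv, hw]
    | tmul p b =>
      rw [LinearMap.lTensor_tmul, c0_key, c0_tmul]
      simp only [LinearMap.lTensor_tmul, TensorProduct.rid_tmul]
      rw [← TensorProduct.smul_tmul', map_smul, Hoch.Ind.coactAux_tmul]

theorem base_plain (v : P ⊗[k] A) (a : A) :
    ((c0 k A P).rTensor A) ((Hoch.Ind.coactAux k A P v - v ⊗ₜ[k] (1 : A)) ⊗ₜ[k] a +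
        ((-1 : k) ^ (0 + 1)) • (TensorProduct.assoc k (P ⊗[k] A) A A).symm
          (v ⊗ₜ[k] (Coalgebra.comul (R := k) a - a ⊗ₜ[k] 1 - 1 ⊗ₜ[k] a))) +
      (Hoch.Ind.coactAux k A P (c0 k A P (v ⊗ₜ[k] a)) - (c0 k A P (v ⊗ₜ[k] a)) ⊗ₜ[k] (1 : A)) =
    v ⊗ₜ[k] a := by
  rw [coact_c0]
  simp only [LinearMap.lTensor_tmul, tmul_sub, map_sub, sub_tmul, map_add, map_smul,
    TensorProduct.assoc_symm_tmul, LinearMap.rTensor_tmul,
    Groth.Agent.S16984.contractMid_coactAux]
  simp only [pow_one, zero_add, neg_smul, one_smul]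
  module

/-- The degree-zero homotopy operator on the induced comodule. -/
noncomputable def s0 : (Hoch.Ind k A P) ⊗[k] A →ₗ[k] Hoch.Ind k A P :=
  Groth.Agent.S16984.contractMid k A P

theorem base_homotopy :
    ((s0 k A P).rTensor A) ∘ₗ Hoch.d k A (Hoch.Ind k A P) 1 +
      Hoch.d k A (Hoch.Ind k A P) 0 ∘ₗ s0 k A P = LinearMap.id := by
  apply TensorProduct.ext'
  intro v a
  exact base_plain k A P v a

end Induced

open TensorProduct in
/-- Let k be a commutative ring, A a commutative k-bialgebra flat over k (the coordinate ring of a flat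
affine group scheme over Spec k; flatness and commutativity are the standing hypotheses of the
appendix and are not needed for the assertion) and P a k-module. Then the cochain complex of the
induced comodule P ⊗ A (coaction id ⊗ Δ), with n-cochains (P ⊗ A) ⊗ A ⊗ ⋯ ⊗ A, has every
(n+1)-cocycle an (n+1)-coboundary, for all n. (The published statement is the vanishing of the
higher derived functors of invariants on coinduced modules; this row states the vanishing in
positive degrees of the cohomology of the cochain complex above, which the same appendix identifies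
with those derived functors. P is taken in the universe of A, as the cochain modules require.) -/
theorem result (k : Type u) [CommRing k] (A : Type v) [CommRing A]
    [Bialgebra k A] [Module.Flat k A] (P : Type v) [AddCommGroup P] [Module k P] (n : ℕ) :
    Hoch.cocycles k A (Hoch.Ind k A P) (n + 1) ≤ Hoch.coboundaries k A (Hoch.Ind k A P) (n + 1) := by
  intro z hz
  have hz' : Hoch.d k A (Hoch.Ind k A P) (n + 1) z = 0 := hz
  have h := homotopy k A (Hoch.Ind k A P) (s0 k A P) (base_homotopy k A P) n
  have h1 := LinearMap.congr_fun h z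
  rw [LinearMap.add_apply, LinearMap.comp_apply, LinearMap.comp_apply, hz', map_zero, zero_add,
    LinearMap.id_apply] at h1
  exact ⟨hs k A (Hoch.Ind k A P) (s0 k A P) n z, h1⟩

end Groth.Agent.S16985
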