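import Groth.Statements.S16986
import Groth.Agent.Lib.Helper25.OrthSmooth

set_option autoImplicit false
universe u
open CategoryTheory AlgebraicGeometry
open QuadGrp

namespace Groth.Agent.S16986

/-- Let Q be a quadratic form on R^n, n ≥ 1, over a commutative ring R, non-degenerate in the sense that
its polar form is a perfect pairing when n is even and its half-discriminant (in the standard basis)
is a unit when n is odd, and let G be a group scheme over Spec R which is the orthogonal group of Q
(its A-valued points are the isometries of the base change Q_A, naturally in the R-algebra A). Then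
G is smooth over Spec R if and only if n is even or 2 is a unit in R. (The published statement is
for a line-bundle-valued form on a vector bundle over an arbitrary scheme; the case of a free module
over an affine base with trivialised values is stated.) -/
theorem result (R : Type u) [CommRing R] (n : ℕ) (hn : 1 ≤ n)
    (Q : QuadraticForm R (Fin n → R))
    (hQ : QuadGrp.IsNondeg (Pi.basisFun R (Fin n)) (LinearEquiv.refl R R) Q)
    (G : Over (Spec (CommRingCat.of R))) [GrpObj G] (D : QuadGrp.OrthRep Q G) :
    AlgebraicGeometry.Smooth G.hom ↔ (Even n ∨ IsUnit (2 : R)) := by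
  classical
  obtain ⟨N, hN'⟩ := Helper25.Cliff.exists_matrix_of_basis Q (Pi.basisFun R (Fin n))
  have hN : ∀ v, Q v = Helper25.QuadMat.qf N v := fun v => by
    rw [← hN' v, Helper25.Cliff.qfForm_apply]
    rfl
  rw [Helper25.GLsub.smooth_iff_lifting (Helper25.GLsub.orthRels N) D
    (fun A _ _ g => Helper25.GLsub.mem_orth_iff Q N hN g)]
  constructor
  · intro H
    by_contra hcon
    rw [not_or] at hcon
    have hodd : Odd n := Nat.not_even_iff_odd.mp hcon.1
    have hh : IsUnit (Helper25.QuadMat.hdetE (Equiv.refl (Fin n)) N) := by
      refine Helper25.QuadMat.isUnit_hdetE_of_isSemiregular (Pi.basisFun R (Fin n)) Q (hQ.2 hodd)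
        (Equiv.refl (Fin n)) N (fun v => ?_)
      rw [← hN' v]
      rfl
    exact Helper25.GLsub.not_lifting_of_odd hodd (Equiv.refl (Fin n)) N hh hcon.2 H
  · intro h
    have hP : IsUnit (N + N.transpose).det := by
      rcases Nat.even_or_odd n with he | ho
      · exact Helper25.Cliff.isUnit_det_of_regular Q (Pi.basisFun R (Fin n)) N hN' (hQ.1 he).2
      · have h2 : IsUnit (2 : R) := h.resolve_left (Nat.not_even_iff_odd.mpr ho)
        have hh : IsUnit (Helper25.QuadMat.hdetE (Equiv.refl (Fin n)) N) := by
          refine Helper25.QuadMat.isUnit_hdetE_of_isSemiregular (Pi.basisFun R (Fin n)) Q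
            (hQ.2 ho) (Equiv.refl (Fin n)) N (fun v => ?_)
          rw [← hN' v]
          rfl
        rw [← Helper25.QuadMat.two_mul_hdetE ho (Equiv.refl (Fin n)) N]
        exact h2.mul hh
    intro A _ _ I hI g' hg'
    exact Helper25.GLsub.lifting_orth N hP A I hI g' hg'

end Groth.Agent.S16986
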