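import Groth.Statements.S16987
import Groth.Agent.Lib.Helper25.OrthOddSmooth

set_option autoImplicit false
universe u
open CategoryTheory AlgebraicGeometry
open QuadGrp

namespace Groth.Agent.S16987

/-- Let Q be a quadratic form on R^n, n ≥ 1, over a commutative ring R, non-degenerate (perfect polar
pairing for even n, unit half-discriminant in the standard basis for odd n), and let G be a group
scheme over Spec R which is the naive special orthogonal group of Q (its A-valued points are the
isometries of Q_A of determinant one, naturally in A). If n is odd or 2 is a unit in R, then G is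
smooth over Spec R. (The published statement also asserts the converse, that smoothness forces n odd
or 2 a unit; the converse fails over any base of characteristic 2: there every isometry of a
non-degenerate form of even rank has determinant one, so the naive group is the whole orthogonal
group, which is smooth — for instance the split form x₀x₁ over the field with two elements. Only the
implication the published proof establishes is stated. The published statement is for a
line-bundle-valued form on a vector bundle over an arbitrary scheme; the free affine case is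
stated.) -/
theorem result (R : Type u) [CommRing R] (n : ℕ) (hn : 1 ≤ n)
    (Q : QuadraticForm R (Fin n → R))
    (hQ : QuadGrp.IsNondeg (Pi.basisFun R (Fin n)) (LinearEquiv.refl R R) Q)
    (G : Over (Spec (CommRingCat.of R))) [GrpObj G] (D : QuadGrp.SOrth'Rep Q G)
    (h : Odd n ∨ IsUnit (2 : R)) :
    AlgebraicGeometry.Smooth G.hom := by
  classical
  obtain ⟨N, hN'⟩ := Helper25.Cliff.exists_matrix_of_basis Q (Pi.basisFun R (Fin n))
  have hN : ∀ v, Q v = Helper25.QuadMat.qf N v := fun v => by
    rw [← hN' v, Helper25.Cliff.qfForm_apply]
    rfl
  have hS : ∀ (A : Type u) [CommRing A] [Algebra R A]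
      (g : (TensorProduct R A (Fin n → R)) ≃ₗ[A] (TensorProduct R A (Fin n → R))),
      g ∈ QuadGrp.sorth' Q A ↔ Helper25.GLsub.toMat g ∈
        Helper25.GLsub.pts (Helper25.GLsub.sorthRels N) A :=
    fun A _ _ g => Helper25.GLsub.mem_sorth'_iff Q N hN g
  have hsemi : Odd n → IsUnit (Helper25.QuadMat.hdetE (Equiv.refl (Fin n)) N) := fun ho => by
    refine Helper25.QuadMat.isUnit_hdetE_of_isSemiregular (Pi.basisFun R (Fin n)) Q
      (hQ.2 ho) (Equiv.refl (Fin n)) N (fun v => ?_)
    rw [← hN' v]
    rfl
  by_cases h2 : IsUnit (2 : R)
  · have hP : IsUnit (N + N.transpose).det := by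
      rcases Nat.even_or_odd n with he | ho
      · exact Helper25.Cliff.isUnit_det_of_regular Q (Pi.basisFun R (Fin n)) N hN' (hQ.1 he).2
      · rw [← Helper25.QuadMat.two_mul_hdetE ho (Equiv.refl (Fin n)) N]
        exact h2.mul (hsemi ho)
    rw [Helper25.GLsub.smooth_iff_lifting (Helper25.GLsub.sorthRels N) D hS]
    intro A _ _ I hI g' hg'
    exact Helper25.GLsub.lifting_sorth_of_two N hP h2 A I hI g' hg'
  · have ho : Odd n := h.resolve_right h2
    obtain ⟨m, rfl⟩ := ho
    rw [Helper25.GLsub.smooth_iff_alg (Helper25.GLsub.sorthRels N) D hS]
    exact Helper25.GLsub.smooth_sorth_odd m N (hsemi ⟨m, rfl⟩)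

end Groth.Agent.S16987
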