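import Groth.Statements.S16990
import Groth.Agent.Lib.Helper47.CliffGlob

set_option autoImplicit false
universe u v
open QuadGrp

namespace Groth.Agent.S16990

/-- Comparison with SO′: over a commutative ring in which 2 is invertible, for a quadratic form Q on a
finite free module of even rank 2m ≥ 2 whose polar form is a perfect pairing, the isometries
satisfying the Dickson condition are exactly the isometries of determinant one. -/
theorem result {R : Type u} [CommRing R] [Invertible (2 : R)]
    {M : Type v} [AddCommGroup M] [Module R M] [Module.Free R M] [Module.Finite R M]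
    (m : ℕ) (hm : 1 ≤ m) (hM : Module.finrank R M = 2 * m) (Q : QuadraticForm R M) (hQ : QuadGrp.IsRegular Q) :
    QuadGrp.SOeven Q = QuadGrp.SO' Q := by
  classical
  haveI : Nontrivial R := Helper25.Cliff.nontrivial_of_finrank_eq_two_mul m hM
  apply le_antisymm
  · rintro g ⟨hg, hD⟩
    refine ⟨hg, MonoidHom.mem_ker.mpr ?_⟩
    exact Groth.Agent.Lib.Helper47.CliffLoc.det_eq_one_of_isDicksonTrivial m hm hM Q hQ.2 g hg hD
  · rintro g ⟨hg, hdet⟩
    have hdet' : LinearEquiv.det g = 1 := MonoidHom.mem_ker.mp hdet
    refine ⟨hg, ?_⟩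
    let b : Module.Basis (Fin (2 * m)) R M := Module.finBasisOfFinrankEq R M hM
    refine Groth.Agent.Lib.Helper47.CliffGlob.isDicksonTrivial_of_local b Q g hg fun J hJ => ?_
    by_contra hD
    have h1 := (Groth.Agent.Lib.Helper47.CliffLoc.det_of_local (R := Localization.AtPrime J)
      (M := Fin (2 * m) → Localization.AtPrime J) m hm
      (Groth.Agent.Lib.Helper47.CliffLoc.finrank_pi _ m)
      (Groth.Agent.Lib.Helper47.CliffLoc.QS b (Localization.AtPrime J) Q)
      (Groth.Agent.Lib.Helper47.CliffLoc.polarBilin_QS_surjective b _ Q hQ.2)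
      (Groth.Agent.Lib.Helper47.CliffLoc.gS b _ g)
      (Groth.Agent.Lib.Helper47.CliffLoc.gS_mem_O b _ Q g hg)).2 hD
    have h2 := Groth.Agent.Lib.Helper47.CliffLoc.det_gS b (Localization.AtPrime J) g
    rw [h1, hdet', Units.val_neg, Units.val_one, Units.val_one, map_one] at h2
    have h3 : (2 : Localization.AtPrime J) = 0 := by
      have : (1 : Localization.AtPrime J) + 1 = 0 := by
        nth_rewrite 1 [← h2]; ring
      rw [← this]; norm_num
    have h4 : IsUnit (2 : Localization.AtPrime J) := by
      have := (isUnit_of_invertible (2 : R)).map (algebraMap R (Localization.AtPrime J))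
      rwa [map_ofNat] at this
    rw [h3] at h4
    exact not_isUnit_zero h4

end Groth.Agent.S16990
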