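import Groth.Statements.S16991
import Mathlib
import Groth.Agent.Lib.Helper1.AzInv.GramSympl
-- import your own Groth.Agent.* helpers here

set_option autoImplicit false
universe u v
open QuadGrp

namespace Groth.Agent.S16991

open Matrix Groth.Agent.Lib.Helper1.AzInvLib

set_option linter.unusedSimpArgs false
set_option linter.style.haveILetI false

section Alt

variable {K : Type*} [CommRing K] {ι : Type*} [Fintype ι] [DecidableEq ι]

/-- an alternating matrix gives an alternating form (no assumption on `2`) -/
theorem B_self_of_alt {u : Matrix ι ι K} (hs : uᵀ = -u) (hd : ∀ i, u i i = 0) (x : ι → K) :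
    B u x x = 0 := by
  have h1 : B u x x = ∑ p ∈ (Finset.univ : Finset (ι × ι)), x p.1 * (u p.1 p.2 * x p.2) := by
    simp only [B, dotProduct, Matrix.mulVec, Finset.mul_sum]
    rw [← Finset.univ_product_univ, Finset.sum_product]
  rw [h1]
  have hji : ∀ i j, u j i = - u i j := by
    intro i j
    have := congrFun (congrFun hs i) j
    simpa using this
  apply Finset.sum_involution (fun p _ => (p.2, p.1))
  · intro p _
    simp only
    rw [hji p.1 p.2]
    ring
  · intro p _ hne heq
    apply hne
    have h12 : p.2 = p.1 := congrArg Prod.fst heq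
    rw [h12, hd, zero_mul, mul_zero]
  · intro p _
    exact Finset.mem_univ _
  · intro p _
    rfl

theorem exists_symplectic_local [IsLocalRing K] (u : Matrix ι ι K) (hs : uᵀ = -u)
    (hd : ∀ i, u i i = 0) (hdet : IsUnit u.det) :
    ∀ k, 2 * k ≤ Fintype.card ι → ∃ v w : Fin k → ι → K,
      (∀ i j, B u (v i) (w j) = if i = j then 1 else 0) ∧
      (∀ i j, B u (v i) (v j) = 0) ∧ (∀ i j, B u (w i) (w j) = 0) := by
  intro k
  induction k with
  | zero =>
    intro _
    exact ⟨Fin.elim0, Fin.elim0, fun i => i.elim0, fun i => i.elim0, fun i => i.elim0⟩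
  | succ k ih =>
    intro hk
    obtain ⟨v, w, hvw, hvv, hww⟩ := ih (by omega)
    have hdet' : u.det ∉ IsLocalRing.maximalIdeal K := by
      intro h
      exact (IsLocalRing.mem_maximalIdeal _).mp h hdet
    obtain ⟨x, y, hxv, hxw, hyv, hyw, hxy⟩ :=
      exists_next_sympl (IsLocalRing.maximalIdeal K) u hs hdet' (by omega) v w hvw hvv hww
    have hunit : IsUnit (B u x y) := by
      by_contra h
      exact hxy ((IsLocalRing.mem_maximalIdeal _).mpr h)
    obtain ⟨ci, hci⟩ := hunit.exists_left_inv
    let vnew : Fin (k + 1) → ι → K := Fin.snoc (α := fun _ => ι → K) v (ci • x)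
    let wnew : Fin (k + 1) → ι → K := Fin.snoc (α := fun _ => ι → K) w y
    have hvx : ∀ i, B u (v i) x = 0 := fun i => by rw [B_skew hs, hxv, neg_zero]
    have hwx : ∀ i, B u (w i) x = 0 := fun i => by rw [B_skew hs, hxw, neg_zero]
    have hvy : ∀ i, B u (v i) y = 0 := fun i => by rw [B_skew hs, hyv, neg_zero]
    have hwy : ∀ i, B u (w i) y = 0 := fun i => by rw [B_skew hs, hyw, neg_zero]
    refine ⟨vnew, wnew, ?_, ?_, ?_⟩
    · intro i j
      refine Fin.lastCases ?_ (fun i => ?_) i <;> refine Fin.lastCases ?_ (fun j => ?_) j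
      · simp only [vnew, wnew, Fin.snoc_last]
        rw [B_smul_left, hci]
        simp
      · simp only [vnew, wnew, Fin.snoc_last, Fin.snoc_castSucc]
        rw [if_neg (Fin.castSucc_lt_last j).ne', B_smul_left, hxw, mul_zero]
      · simp only [vnew, wnew, Fin.snoc_last, Fin.snoc_castSucc]
        rw [if_neg (Fin.castSucc_lt_last i).ne, hvy]
      · simp only [vnew, wnew, Fin.snoc_castSucc]
        rw [hvw]
        by_cases hij : i = j
        · subst hij; simp
        · rw [if_neg hij, if_neg (fun h => hij (Fin.castSucc_inj.1 h))]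
    · intro i j
      refine Fin.lastCases ?_ (fun i => ?_) i <;> refine Fin.lastCases ?_ (fun j => ?_) j
      · exact B_self_of_alt hs hd _
      · simp only [vnew, Fin.snoc_last, Fin.snoc_castSucc]
        rw [B_smul_left, hxv, mul_zero]
      · simp only [vnew, Fin.snoc_last, Fin.snoc_castSucc]
        rw [B_smul_right, hvx, mul_zero]
      · simp only [vnew, Fin.snoc_castSucc]
        rw [hvv]
    · intro i j
      refine Fin.lastCases ?_ (fun i => ?_) i <;> refine Fin.lastCases ?_ (fun j => ?_) j
      · exact B_self_of_alt hs hd _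
      · simp only [wnew, Fin.snoc_last, Fin.snoc_castSucc]
        rw [hyw]
      · simp only [wnew, Fin.snoc_last, Fin.snoc_castSucc]
        rw [hwy]
      · simp only [wnew, Fin.snoc_castSucc]
        rw [hww]

end Alt

section Det

/-- over a local ring an alternating matrix with unit determinant is congruent to the standard
symplectic matrix -/
theorem exists_normal_form {K : Type*} [CommRing K] [IsLocalRing K] (m : ℕ)
    (u : Matrix (Fin m ⊕ Fin m) (Fin m ⊕ Fin m) K)
    (hs : uᵀ = -u) (hd : ∀ i, u i i = 0) (hdet : IsUnit u.det) :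
    ∃ P : Matrix (Fin m ⊕ Fin m) (Fin m ⊕ Fin m) K, P * u * Pᵀ = Matrix.J (Fin m) K := by
  obtain ⟨v, w, hvw, hvv, hww⟩ := exists_symplectic_local u hs hd hdet m
    (by simp [two_mul])
  have hwv : ∀ i j, B u (w i) (v j) = if i = j then -1 else 0 := by
    intro i j
    rw [B_skew hs, hvw]
    by_cases hij : i = j
    · subst hij; simp
    · rw [if_neg hij, if_neg (Ne.symm hij), neg_zero]
  refine ⟨Matrix.of (Sum.elim w v), ?_⟩
  ext p p'
  rw [Groth.Agent.Lib.Helper1.AzInvLib.gram_apply]
  rcases p with i | i <;> rcases p' with j | j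
  · simp [Matrix.J, hww]
  · by_cases hij : i = j <;> simp [Matrix.J, hwv, hij]
  · by_cases hij : i = j <;> simp [Matrix.J, hvw, hij]
  · simp [Matrix.J, hvv]

theorem det_eq_one_local {K : Type*} [CommRing K] [IsLocalRing K] (m : ℕ)
    (u G : Matrix (Fin m ⊕ Fin m) (Fin m ⊕ Fin m) K)
    (hs : uᵀ = -u) (hd : ∀ i, u i i = 0) (hdet : IsUnit u.det) (hG : Gᵀ * u * G = u) :
    G.det = 1 := by
  obtain ⟨P, hP⟩ := exists_normal_form m u hs hd hdet
  have hPdet : IsUnit P.det := by
    have h1 := congrArg Matrix.det hP
    rw [Matrix.det_mul, Matrix.det_mul, Matrix.det_transpose, mul_assoc] at h1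
    have h2 : IsUnit (P.det * (u.det * P.det)) := by
      rw [h1]; exact Matrix.isUnit_det_J (Fin m) K
    exact isUnit_of_mul_isUnit_left h2
  have hinv : P⁻¹ * P = 1 := Matrix.nonsing_inv_mul P hPdet
  have hinvT : Pᵀ * (P⁻¹)ᵀ = 1 := by
    rw [← Matrix.transpose_mul, hinv, Matrix.transpose_one]
  have hA : (P * Gᵀ * P⁻¹) * (P * u * Pᵀ) * (P * Gᵀ * P⁻¹)ᵀ = P * u * Pᵀ := by
    rw [Matrix.transpose_mul, Matrix.transpose_mul, Matrix.transpose_transpose]
    calc P * Gᵀ * P⁻¹ * (P * u * Pᵀ) * ((P⁻¹)ᵀ * (G * Pᵀ))
        = P * Gᵀ * (P⁻¹ * P) * u * (Pᵀ * (P⁻¹)ᵀ) * G * Pᵀ := by simp only [Matrix.mul_assoc]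
      _ = P * (Gᵀ * u * G) * Pᵀ := by
          rw [hinv, hinvT]; simp only [Matrix.mul_one, Matrix.mul_assoc]
      _ = P * u * Pᵀ := by rw [hG]
  have hmem : P * Gᵀ * P⁻¹ ∈ Matrix.symplecticGroup (Fin m) K := by
    rw [SymplecticGroup.mem_iff, ← hP]
    exact hA
  have h1 := SymplecticGroup.det_eq_one hmem
  rw [Matrix.det_mul, Matrix.det_mul, Matrix.det_transpose, Matrix.det_nonsing_inv] at h1
  calc G.det = P.det * G.det * Ring.inverse P.det := by
        rw [mul_comm P.det, mul_assoc, Ring.mul_inverse_cancel _ hPdet, mul_one]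
    _ = 1 := h1

theorem det_eq_one_of_alt {R : Type*} [CommRing R] (m : ℕ)
    (u G : Matrix (Fin m ⊕ Fin m) (Fin m ⊕ Fin m) R)
    (hs : uᵀ = -u) (hd : ∀ i, u i i = 0) (hdet : IsUnit u.det) (hG : Gᵀ * u * G = u) :
    G.det = 1 := by
  refine sub_eq_zero.1 <| eq_zero_of_localization _ fun J hJ => ?_
  haveI := hJ
  have h1 : (G.map (algebraMap R (Localization.AtPrime J))).det = 1 := by
    apply det_eq_one_local m (u.map (algebraMap R (Localization.AtPrime J)))
      (G.map (algebraMap R (Localization.AtPrime J)))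
    · rw [← Matrix.transpose_map, hs]
      ext a b
      simp
    · intro i
      simp [Matrix.map_apply, hd]
    · have : (u.map (algebraMap R (Localization.AtPrime J))).det =
          algebraMap R (Localization.AtPrime J) u.det :=
        (RingHom.map_det (algebraMap R (Localization.AtPrime J)) u).symm
      rw [this]
      exact hdet.map _
    · rw [← Matrix.transpose_map, ← Matrix.map_mul, ← Matrix.map_mul, hG]
  rw [map_sub, map_one, RingHom.map_det, RingHom.mapMatrix_apply, h1, sub_self]

end Det

/-- Over a commutative ring in which 2 = 0, for a quadratic form Q on a finite free module of even rank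
2m ≥ 2 whose polar form is a perfect pairing, every isometry of Q has determinant one. (The
published statement is the equality of the naive special orthogonal group with the orthogonal group
on fibres in characteristic 2; its proof gives this equality over every base of characteristic 2,
which is the form stated.) -/
theorem result {R : Type u} [CommRing R] [CharP R 2]
    {M : Type v} [AddCommGroup M] [Module R M] [Module.Free R M] [Module.Finite R M]
    (m : ℕ) (hm : 1 ≤ m) (hM : Module.finrank R M = 2 * m) (Q : QuadraticForm R M) (hQ : QuadGrp.IsRegular Q) :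
    QuadGrp.O Q = QuadGrp.SO' Q := by
  classical
  haveI : Nontrivial R := CharP.nontrivial_of_char_ne_one (R := R) (v := 2) (by norm_num)
  apply le_antisymm
  · intro g hg
    refine Subgroup.mem_inf.mpr ⟨hg, ?_⟩
    let e : Fin (Module.finrank R M) ≃ Fin m ⊕ Fin m :=
      (finCongr (hM.trans (two_mul m))).trans finSumFinEquiv.symm
    let b : Module.Basis (Fin m ⊕ Fin m) R M := (Module.finBasis R M).reindex e
    let Ω : Matrix (Fin m ⊕ Fin m) (Fin m ⊕ Fin m) R :=
      LinearMap.BilinForm.toMatrix b (QuadraticMap.polarBilin Q)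
    have hΩ : ∀ i j, Ω i j = QuadraticMap.polar Q (b i) (b j) := fun i j =>
      LinearMap.BilinForm.toMatrix_apply b _ i j
    have h2 : (2 : R) = 0 := CharTwo.two_eq_zero
    have hd : ∀ i, Ω i i = 0 := by
      intro i
      rw [hΩ, QuadraticMap.polar_self, two_smul, ← two_mul, h2, zero_mul]
    have hs : Ωᵀ = -Ω := by
      ext i j
      rw [Matrix.transpose_apply, Matrix.neg_apply, CharTwo.neg_eq, hΩ, hΩ]
      exact QuadraticMap.polar_comm Q _ _
    have hdet : IsUnit Ω.det := by
      let E : M ≃ₗ[R] (M →ₗ[R] R) := LinearEquiv.ofBijective (QuadraticMap.polarBilin Q) hQ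
      let y : Fin m ⊕ Fin m → M := fun i => E.symm (b.coord i)
      have hy : ∀ i, QuadraticMap.polarBilin Q (y i) = b.coord i := fun i =>
        E.apply_symm_apply (b.coord i)
      let Ψ : Matrix (Fin m ⊕ Fin m) (Fin m ⊕ Fin m) R := Matrix.of fun i k => b.repr (y i) k
      have hΨ : Ψ * Ω = 1 := by
        ext i j
        rw [Matrix.mul_apply]
        calc ∑ k, Ψ i k * Ω k j
            = ∑ k, b.repr (y i) k * (QuadraticMap.polarBilin Q (b k)) (b j) := by
              refine Finset.sum_congr rfl fun k _ => ?_
              rw [hΩ]; rfl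
          _ = (QuadraticMap.polarBilin Q (∑ k, b.repr (y i) k • b k)) (b j) := by
              rw [map_sum, LinearMap.sum_apply]
              refine Finset.sum_congr rfl fun k _ => ?_
              rw [map_smul, LinearMap.smul_apply, smul_eq_mul]
          _ = (QuadraticMap.polarBilin Q (y i)) (b j) := by rw [b.sum_repr]
          _ = (1 : Matrix (Fin m ⊕ Fin m) (Fin m ⊕ Fin m) R) i j := by
              rw [hy, Module.Basis.coord_apply, Module.Basis.repr_self, Finsupp.single_apply,
                Matrix.one_apply]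
              by_cases hij : i = j
              · subst hij; simp
              · rw [if_neg hij, if_neg (Ne.symm hij)]
      exact Matrix.isUnit_det_of_left_inverse hΨ
    have hcomp : LinearMap.BilinForm.comp (QuadraticMap.polarBilin Q : LinearMap.BilinForm R M)
        (g : M →ₗ[R] M) (g : M →ₗ[R] M) = QuadraticMap.polarBilin Q := by
      ext x y
      rw [LinearMap.BilinForm.comp_apply]
      show QuadraticMap.polar Q (g x) (g y) = QuadraticMap.polar Q x y
      unfold QuadraticMap.polar
      rw [← map_add, hg, hg, hg]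
    have hG : (LinearMap.toMatrix b b (g : M →ₗ[R] M))ᵀ * Ω *
        LinearMap.toMatrix b b (g : M →ₗ[R] M) = Ω := by
      rw [← LinearMap.BilinForm.toMatrix_comp b b, hcomp]
    have h1 := det_eq_one_of_alt m Ω (LinearMap.toMatrix b b (g : M →ₗ[R] M)) hs hd hdet hG
    rw [MonoidHom.mem_ker]
    apply Units.ext
    rw [LinearEquiv.coe_det, Units.val_one, ← LinearMap.det_toMatrix b]
    exact h1
  · exact inf_le_left

end Groth.Agent.S16991
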