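import Groth.Statements.S17000
import Groth.Agent.Lib.Helper25.SOSplitMain

set_option autoImplicit false
open CategoryTheory AlgebraicGeometry
open QuadGrp

namespace Groth.Agent.S17000

/-- For m ≥ 1, a group scheme over Spec ℤ which is the naive special orthogonal group (kernel of the
determinant on the orthogonal group) of the standard split quadratic form in 2m variables is a
reduced scheme and is not flat over ℤ. (The published statement also identifies the complement of
the Dickson special orthogonal group inside it with the non-identity component of the orthogonal
group in characteristic 2.) -/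
theorem result (m : ℕ) (hm : 1 ≤ m)
    (G : Over (Spec (CommRingCat.of ℤ))) [GrpObj G] (D : QuadGrp.SOrth'Rep (QuadGrp.splitForm ℤ (2 * m)) G) :
    AlgebraicGeometry.IsReduced G.left ∧ ¬ AlgebraicGeometry.Flat G.hom := by
  obtain ⟨h1, h2, h3⟩ := Helper25.SOSplit.int_facts
  exact Helper25.SOSplit.main' h1 h2 h3 (2 * m) m (Nat.mul_comm 2 m) hm G D

end Groth.Agent.S17000
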