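import Groth.Statements.S17001
import Groth.Agent.Lib.Helper25.SOEvenMain

set_option autoImplicit false
universe u
open CategoryTheory AlgebraicGeometry
open QuadGrp

namespace Groth.Agent.S17001

/-- Let Q be a quadratic form on R^{2m}, m ≥ 1, over a commutative ring R, whose polar form is a perfect
pairing, and let G be a group scheme over Spec R which is its special orthogonal group in the sense
of the Dickson condition (its A-valued points are the isometries of Q_A acting trivially on the
centre of the even Clifford algebra, naturally in A). Then G is smooth over Spec R of relative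
dimension m(2m−1), with connected fibres. (The published statement is over an arbitrary base scheme;
the affine free case is stated. Its assertions on the centre are stated separately.) -/
theorem result (R : Type u) [CommRing R] (m : ℕ) (hm : 1 ≤ m)
    (Q : QuadraticForm R (Fin (2 * m) → R)) (hQ : QuadGrp.IsRegular Q)
    (G : Over (Spec (CommRingCat.of R))) [GrpObj G] (D : QuadGrp.SOrthRep Q G) :
    AlgebraicGeometry.SmoothOfRelativeDimension (m * (2 * m - 1)) G.hom ∧
      ∀ s : ↥(Spec (CommRingCat.of R)), ConnectedSpace ↥(G.hom.fiber s) := by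
  classical
  obtain ⟨N, hN'⟩ := Helper25.Cliff.exists_matrix_of_basis Q (Pi.basisFun R (Fin (2 * m)))
  have hN : ∀ v, Q v = Helper25.QuadMat.qf N v := fun v => by
    rw [← hN' v, Helper25.Cliff.qfForm_apply]
    rfl
  have hP : IsUnit (N + N.transpose).det :=
    Helper25.Cliff.isUnit_det_of_regular Q (Pi.basisFun R (Fin (2 * m))) N hN' hQ.2
  obtain ⟨y₀, hy₀⟩ := Helper25.SOEven.exists_isIso_BSO m hN hm hQ.2 D
  have hsm : Algebra.Smooth R (Helper25.SOEven.BSO m hN) :=
    Helper25.SOEven.smooth_BSO m hN hm hQ.2 hP
  refine ⟨?_, ?_⟩
  · apply Helper25.RelDim.smoothOfRelativeDimension_of_isIso (Helper25.SOEven.BSO m hN) y₀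
    apply Helper25.RelDim.locally_isStandardSmoothOfRelativeDimension
    intro K _ _ _ _ _
    exact Helper25.SOEven.finrank_der_BSO m hN hm hQ.2 hP
  · exact Helper25.FibreConn.connectedSpace_fiber_of_isIso (Helper25.SOEven.BSO m hN) y₀
      (fun κ _ _ => Helper25.SOEven.connectedSpace_tensor_BSO m hN hm hQ.2 hP κ)

end Groth.Agent.S17001
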