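import Groth.Statements.S17002
import Groth.Agent.Lib.Helper25.SOOddMain

set_option autoImplicit false
universe u
open CategoryTheory AlgebraicGeometry
open QuadGrp

namespace Groth.Agent.S17002

/-- Let Q be a quadratic form on R^{2m+1} over a commutative ring R whose half-discriminant in the
standard basis is a unit, and let G be a group scheme over Spec R which is its special orthogonal
group (for odd rank: the isometries of determinant one; its A-valued points are those of Q_A,
naturally in A). Then G is smooth over Spec R of relative dimension m(2m+1), with connected fibres.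
(The published statement is over an arbitrary base scheme; the affine free case is stated. Its
assertions on the centre are stated separately.) -/
theorem result (R : Type u) [CommRing R] (m : ℕ)
    (Q : QuadraticForm R (Fin (2 * m + 1) → R))
    (hQ : QuadGrp.IsSemiregular (Pi.basisFun R (Fin (2 * m + 1))) (LinearEquiv.refl R R) Q)
    (G : Over (Spec (CommRingCat.of R))) [GrpObj G] (D : QuadGrp.SOrthRep Q G) :
    AlgebraicGeometry.SmoothOfRelativeDimension (m * (2 * m + 1)) G.hom ∧
      ∀ s : ↥(Spec (CommRingCat.of R)), ConnectedSpace ↥(G.hom.fiber s) := by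
  classical
  obtain ⟨N, hN'⟩ := Helper25.Cliff.exists_matrix_of_basis Q (Pi.basisFun R (Fin (2 * m + 1)))
  have hN : ∀ v, Q v = Helper25.QuadMat.qf N v := fun v => by
    rw [← hN' v, Helper25.Cliff.qfForm_apply]
    rfl
  have hS : ∀ (A : Type u) [CommRing A] [Algebra R A]
      (g : (TensorProduct R A (Fin (2 * m + 1) → R)) ≃ₗ[A]
        (TensorProduct R A (Fin (2 * m + 1) → R))),
      g ∈ QuadGrp.sorth Q A ↔ Helper25.GLsub.toMat g ∈
        Helper25.GLsub.pts (Helper25.GLsub.sorthRels N) A :=
    fun A _ _ g => Helper25.SOOdd.mem_sorth_odd_iff m Q N hN g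
  have hsemi : IsUnit (Helper25.QuadMat.hdetE (Equiv.refl (Fin (2 * m + 1))) N) := by
    refine Helper25.QuadMat.isUnit_hdetE_of_isSemiregular (Pi.basisFun R (Fin (2 * m + 1))) Q
      hQ (Equiv.refl (Fin (2 * m + 1))) N (fun v => ?_)
    rw [← hN' v]
    rfl
  obtain ⟨y₀, hy₀⟩ := Helper25.GLsub.exists_isIso (Helper25.GLsub.sorthRels N) D hS
  have hsm : Algebra.Smooth R (Helper25.GLsub.Alg (Helper25.GLsub.sorthRels N)) :=
    Helper25.GLsub.smooth_sorth_odd m N hsemi
  refine ⟨?_, ?_⟩
  · apply Helper25.RelDim.smoothOfRelativeDimension_of_isIso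
      (Helper25.GLsub.Alg (Helper25.GLsub.sorthRels N)) y₀
    apply Helper25.RelDim.locally_isStandardSmoothOfRelativeDimension
    intro K _ _ _ _ _
    rw [Helper25.SOTangent.finrank_der_sorth, Helper25.LieDim.finrank_Lie_odd]
    exact Helper25.SOFam.hdetE_map_ne_zero m N hsemi
  · exact Helper25.FibreConn.connectedSpace_fiber_of_isIso
      (Helper25.GLsub.Alg (Helper25.GLsub.sorthRels N)) y₀
      (fun κ _ _ => Helper25.SOFam.connectedSpace_tensor_sorth_odd m N hsemi κ)

end Groth.Agent.S17002
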