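import Groth.Statements.S17008
import Groth.Agent.Lib.Helper25.CliffAz

set_option autoImplicit false
universe u v
open QuadGrp

namespace Groth.Agent.S17008

/-- Over a local ring, let Q be a quadratic form on a finite free module M of even rank 2m ≥ 2 whose
polar form is a perfect pairing. Then every isometry of Q satisfying the Dickson condition is
conjugation by a point of the even Clifford group: an even, locally homogeneous unit u of C(Q)
normalising M with u v u⁻¹ = g v for all v in M. (Points-level form over a local base of: the even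
Clifford group is a central extension of the special orthogonal group by the multiplicative group.) -/
theorem result {R : Type u} [CommRing R] [IsLocalRing R]
    {M : Type v} [AddCommGroup M] [Module R M] [Module.Free R M] [Module.Finite R M]
    (m : ℕ) (hm : 1 ≤ m) (hM : Module.finrank R M = 2 * m) (Q : QuadraticForm R M) (hQ : QuadGrp.IsRegular Q)
    (g : M ≃ₗ[R] M) (hg : g ∈ QuadGrp.SOeven Q) :
    ∃ u ∈ QuadGrp.GSpin Q, ∀ v : M,
      (u : CliffordAlgebra Q) * CliffordAlgebra.ι Q v * ↑u⁻¹ = CliffordAlgebra.ι Q (g v) := by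
  obtain ⟨hgO, hD⟩ := hg
  obtain ⟨u, hconj, hu⟩ := Helper25.Cliff.exists_conj_unit_of_mem_O Q m hM hQ.2 g hgO
  obtain ⟨-, -, hcz⟩ := Helper25.Cliff.clifford_even_rank_structure R M m hm hM Q hQ.2
  have heven : (u : CliffordAlgebra Q) ∈ CliffordAlgebra.even Q := by
    rw [← hcz, Subalgebra.mem_centralizer_iff]
    rintro _ ⟨z, hz, rfl⟩
    have h1 := hD z hz
    rw [hconj] at h1
    have h2 := congrArg (fun y => y * (u : CliffordAlgebra Q)) h1
    simp only [mul_assoc, Units.inv_mul, mul_one] at h2
    exact h2.symm
  have heven' : (u : CliffordAlgebra Q) ∈ CliffordAlgebra.evenOdd Q 0 := heven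
  refine ⟨u, ⟨⟨Helper25.Cliff.mem_GPin'_of_conj Q u g hu, ?_⟩, heven'⟩, hu⟩
  show u ∈ QuadGrp.LH Q
  rw [QuadGrp.mem_LH]
  refine ⟨1, IsIdempotentElem.one, ?_, ?_⟩
  · rw [one_smul]; exact heven'
  · rw [sub_self, zero_smul]; exact Submodule.zero_mem _

end Groth.Agent.S17008
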