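import Groth.Statements.S17016
import Groth.Agent.Lib.Helper41.SplitClifford

set_option autoImplicit false
universe u
open QuadGrp
open Groth.Agent.Lib.Helper41.SplitClifford

namespace Groth.Agent.S17016

/-- For the standard split quadratic form Σ x_{2i} x_{2i+1} on R^{2m} over any commutative ring R, with
standard basis vectors e_j in the Clifford algebra, the product w of the elements 1 − 2 e_{2i}
e_{2i+1} (i < m, which pairwise commute) satisfies w² = 1 and anticommutes with every e_j. (Hence w
is central in the even Clifford algebra; over rings in which 2 is invertible (1 − w)/2 is the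
non-trivial central idempotent of the even part.) -/
theorem result (R : Type u) [CommRing R] (m : ℕ) :
    let Q := QuadGrp.splitForm R (m * 2)
    let e : Fin (m * 2) → CliffordAlgebra Q := fun j => CliffordAlgebra.ι Q (Pi.single j 1)
    let w : CliffordAlgebra Q :=
      ((List.finRange m).map fun i => 1 - 2 * (e (finProdFinEquiv (i, 0)) * e (finProdFinEquiv (i, 1)))).prod
    w * w = 1 ∧ ∀ j : Fin (m * 2), e j * w = -(w * e j) := by
  intro Q e w
  have hw : w = W (Ev R m) (List.finRange m) := rfl
  refine ⟨?_, fun j => ?_⟩
  · rw [hw]
    exact W_mul_W _ (Ev_sq R m) (Ev_pair R m) (Ev_anti R m) _ (List.nodup_finRange m)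
  · have hj : e j = Ev R m (finProdFinEquiv.symm j) := by
      change CliffordAlgebra.ι Q (Pi.single j 1) =
        CliffordAlgebra.ι Q (Pi.single (finProdFinEquiv (finProdFinEquiv.symm j)) 1)
      rw [Equiv.apply_symm_apply]
    rw [hj, hw]
    exact E_mul_W_of_mem _ (Ev_sq R m) (Ev_pair R m) (Ev_anti R m) _ _ (List.nodup_finRange m)
      (List.mem_finRange _)

end Groth.Agent.S17016
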