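import Groth.Statements.S17018
import Groth.Agent.Lib.Helper24.SpecialFibreStalk

set_option autoImplicit false
universe u
open CategoryTheory CategoryTheory.Limits AlgebraicGeometry
open scoped TensorProduct
open Models

namespace Groth.Agent.S17018

/-- Let R be a discrete valuation ring with algebraically closed residue field and f : X → Spec R a
proper flat morphism whose generic fibre (base change to the fraction field of R) is smooth of
relative dimension 1 and connected and whose special fibre (base change to the residue field) is
connected and reduced; let ξ be the generic point of an irreducible component of the special fibre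
and B a discrete valuation ring given with an isomorphism from the local ring of X at ξ under which
R → B is the map induced by f. Then the maximal ideal of B is the extension of the maximal ideal of
R: a uniformizer of R maps to a uniformizer of B. (The published setting takes everything
essentially of finite type over a field of characteristic zero; the printed argument does not use
this and it is not imposed here.) -/
theorem result
    (R : Type u) [CommRing R] [IsDomain R] [IsDiscreteValuationRing R]
    [IsAlgClosed (IsLocalRing.ResidueField R)]
    (X : Scheme.{u}) (f : X ⟶ Spec (CommRingCat.of R)) [IsProper f] [Flat f]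
    (XK : Scheme.{u}) (gK : XK ⟶ X) (fK : XK ⟶ Spec (CommRingCat.of (FractionRing R)))
    (hK : IsPullback gK fK f (Spec.map (CommRingCat.ofHom (algebraMap R (FractionRing R)))))
    [SmoothOfRelativeDimension 1 fK] [ConnectedSpace XK]
    (Xs : Scheme.{u}) (gs : Xs ⟶ X) (fs : Xs ⟶ Spec (CommRingCat.of (IsLocalRing.ResidueField R)))
    (hs : IsPullback gs fs f (Spec.map (CommRingCat.ofHom (IsLocalRing.residue R))))
    [ConnectedSpace Xs] [IsReduced Xs]
    (ξ : Xs) (hξ : closure ({ξ} : Set Xs) ∈ irreducibleComponents Xs)
    (B : Type u) [CommRing B] [IsDomain B] [IsDiscreteValuationRing B] [Algebra R B]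
    (e : X.presheaf.stalk (gs.base ξ) ≅ CommRingCat.of B)
    (he : e.hom.hom.comp ((X.presheaf.germ ⊤ (gs.base ξ) trivial).hom.comp (Coh.toGlobal f)) =
      algebraMap R B) :
    IsLocalRing.maximalIdeal B = Ideal.map (algebraMap R B) (IsLocalRing.maximalIdeal R) := by
  have hξ' : ∀ z : Xs, z ⤳ ξ → z = ξ := fun z hz =>
    Groth.Agent.Lib.Helper24.SpecialFibreStalk.eq_of_specializes_of_closure_mem_irreducibleComponents
      ξ hξ z hz
  have h1 := Groth.Agent.Lib.Helper24.SpecialFibreStalk.map_maximalIdeal_eq_of_isPullback_residue
    R f gs fs hs ξ hξ'
  have hloc : IsLocalHom e.hom.hom := isLocalHom_of_isIso _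
  have heq : (e.commRingCatIsoToRingEquiv : X.presheaf.stalk (gs.base ξ) →+* B) = e.hom.hom := rfl
  have h2 : IsLocalRing.maximalIdeal B =
      Ideal.map e.hom.hom (IsLocalRing.maximalIdeal (X.presheaf.stalk (gs.base ξ))) := by
    have hmax : (Ideal.map (e.commRingCatIsoToRingEquiv : X.presheaf.stalk (gs.base ξ) →+* B)
        (IsLocalRing.maximalIdeal (X.presheaf.stalk (gs.base ξ)))).IsMaximal :=
      Ideal.map_isMaximal_of_equiv e.commRingCatIsoToRingEquiv
    rw [heq] at hmax
    exact (IsLocalRing.eq_maximalIdeal hmax).symm
  rw [h2, ← h1, Ideal.map_map, ← he]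
  rfl

end Groth.Agent.S17018
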