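import Groth.Statements.S1703
import Groth.Agent.Lib.Helper82.RelH1Reg

set_option autoImplicit false
universe u
open CategoryTheory CategoryTheory.Limits AlgebraicGeometry TopologicalSpace
open SDiv

namespace Groth.Agent.S1703

/-- Let f : X ⟶ S be locally of finite presentation and 𝓘 the ideal sheaf of an effective Cartier
divisor D ⊂ X with D ⟶ S flat. Then there is an open subscheme U of X containing D such that U ⟶ S
is flat. -/
theorem result {X S : Scheme.{u}} (f : X ⟶ S) [LocallyOfFinitePresentation f] (𝓘 : X.IdealSheafData)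
    (hD : (BlowUp.IsEffCartierIdeal 𝓘 ∧ Flat (𝓘.subschemeι ≫ f))) : ∃ U : X.Opens, (𝓘.support : Set ↥X) ⊆ U ∧ Flat (U.ι ≫ f) := by
  obtain ⟨hC, hflat⟩ := hD
  have hq : RegImm.IsRegularImmersion RegImm.Kind.quasi 𝓘.subschemeι := by
    refine ⟨inferInstance, fun z => ?_⟩
    obtain ⟨U, hzU, t, ht, hI⟩ := hC (𝓘.subschemeι z)
    refine ⟨U, hzU, inferInstance, [t], ?_, ?_⟩
    · show CAlgX.IsQuasiRegular [t].get
      apply Groth.Agent.Lib.Helper18.isQuasiRegular_of_isWeaklyRegular
      rw [List.ofFn_get, RingTheory.Sequence.isWeaklyRegular_cons_iff]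
      exact ⟨Module.Flat.isSMulRegular_of_nonZeroDivisors ht,
        RingTheory.Sequence.IsWeaklyRegular.nil _ _⟩
    · rw [← Scheme.Hom.ker_apply, Scheme.IdealSheafData.ker_subschemeι, hI,
        Ideal.ofList_singleton]
  obtain ⟨⟨U, hU, hUf⟩, -⟩ :=
    Groth.Agent.Lib.Helper82.RelH1Reg.exists_flat_and_isRegularImmersion_of_relQuasi f
      𝓘.subschemeι ⟨hq, hflat⟩
  refine ⟨U, ?_, hUf⟩
  intro x hx
  rw [← Scheme.IdealSheafData.range_subschemeι] at hx
  exact hU hx

end Groth.Agent.S1703
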