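import Groth.Statements.S1705
import Groth.Agent.Lib.Helper45.AssPoint

set_option autoImplicit false
universe u
open CategoryTheory CategoryTheory.Limits AlgebraicGeometry TopologicalSpace
open SDiv

namespace Groth.Agent.S1705

/-- Let X be a locally Noetherian scheme, F a quasi-coherent module and U an open subset containing
every associated point of F. Then the restriction map Γ(X, F) → Γ(U, F) is injective. -/
theorem result (X : Scheme.{u}) [IsLocallyNoetherian X] (F : X.Modules) (hF : Coh.IsQCoh F)
    (U : X.Opens) (hU : ∀ x : ↥X, Curv2.IsAssPoint F x → x ∈ U) :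
    Function.Injective (F.presheaf.map (homOfLE (le_top : U ≤ ⊤)).op) := by
  have : F.IsQuasicoherent := hF
  rw [injective_iff_map_eq_zero]
  intro s hs
  exact Groth.Agent.Lib.Helper45.eq_zero_of_restrict_eq_zero F U
    (fun x hx => hU x ((Groth.Agent.Lib.Helper45.isAssPoint_iff_isWeakAssPoint F x).mpr hx)) s hs

end Groth.Agent.S1705
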