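import Groth.Statements.S17065
import Mathlib.RingTheory.Nakayama
-- import your own Groth.Agent.* helpers here

set_option autoImplicit false
universe u
open CAlg

namespace Groth.Agent.S17065


/-- From `J^n Â ⊆ I Â` (with `Â` the `J`-adic completion) one gets `J^n ⊆ I + J^(n+1)` in `A`. -/
theorem pow_le_sup_pow_succ (A : Type u) [CommRing A] (I J : Ideal A) (n : ℕ)
    (h : (J ^ n).map (algebraMap A (AdicCompletion J A)) ≤ I.map (algebraMap A (AdicCompletion J A))) :
    J ^ n ≤ I ⊔ J ^ (n + 1) := by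
  intro x hx
  have h1 : algebraMap A (AdicCompletion J A) x ∈ I.map (algebraMap A (AdicCompletion J A)) :=
    h (Ideal.mem_map_of_mem _ hx)
  -- push forward along evalₐ (n+1)
  have h2 : (AdicCompletion.evalₐ J (n + 1)).toRingHom (algebraMap A (AdicCompletion J A) x) ∈
      (I.map (algebraMap A (AdicCompletion J A))).map (AdicCompletion.evalₐ J (n + 1)).toRingHom :=
    Ideal.mem_map_of_mem _ h1
  rw [Ideal.map_map] at h2
  have h3 : (AdicCompletion.evalₐ J (n + 1)).toRingHom.comp (algebraMap A (AdicCompletion J A)) =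
      Ideal.Quotient.mk (J ^ (n + 1)) := by
    ext a
    simp [AdicCompletion.algebraMap_apply]
  rw [h3] at h2
  have h4 : (AdicCompletion.evalₐ J (n + 1)).toRingHom (algebraMap A (AdicCompletion J A) x) =
      Ideal.Quotient.mk (J ^ (n + 1)) x := by
    rw [← h3]; rfl
  rw [h4] at h2
  rw [Ideal.mem_map_iff_of_surjective _ Ideal.Quotient.mk_surjective] at h2
  obtain ⟨y, hy, hxy⟩ := h2
  have h5 : x - y ∈ J ^ (n + 1) := by
    rw [← Ideal.Quotient.eq]; exact hxy.symm
  have : x = y + (x - y) := by ring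
  rw [this]
  exact Ideal.add_mem _ (Ideal.mem_sup_left hy) (Ideal.mem_sup_right h5)

/-- Nakayama step: there is `r ≡ 1 mod J` with `r J^n ⊆ I`. -/
theorem exists_sub_one_mem_and_mul_mem (A : Type u) [CommRing A] [IsNoetherianRing A]
    (I J : Ideal A) (n : ℕ) (h : J ^ n ≤ I ⊔ J ^ (n + 1)) :
    ∃ r : A, r - 1 ∈ J ∧ ∀ x ∈ J ^ n, r * x ∈ I := by
  let N : Submodule A (A ⧸ I) := Submodule.map (Submodule.mkQ I) (J ^ n)
  have hfg : N.FG := Submodule.FG.map _ (IsNoetherian.noetherian _)
  have hle : N ≤ J • N := by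
    rintro _ ⟨x, hx, rfl⟩
    obtain ⟨y, hy, z, hz, rfl⟩ := Submodule.mem_sup.1 (h hx)
    have hy0 : Submodule.mkQ I y = 0 := by
      simpa using (Submodule.Quotient.mk_eq_zero I).2 hy
    rw [map_add, hy0, zero_add]
    have : (J • N : Submodule A (A ⧸ I)) = Submodule.map (Submodule.mkQ I) (J • (J ^ n)) := by
      rw [Submodule.map_smul'']
    rw [this]
    refine ⟨z, ?_, rfl⟩
    rw [pow_succ'] at hz
    exact hz
  obtain ⟨r, hr1, hr2⟩ := Submodule.exists_sub_one_mem_and_smul_eq_zero_of_fg_of_le_smul J N hfg hle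
  refine ⟨r, hr1, fun x hx => ?_⟩
  have := hr2 (Submodule.mkQ I x) ⟨x, hx, rfl⟩
  rw [← map_smul, Submodule.mkQ_apply, Submodule.Quotient.mk_eq_zero] at this
  simpa using this

/-- The local algebraic statement its proof establishes: let A be a Noetherian ring, I ≤ J radical
ideals and Â the J-adic completion of A. If J^n Â ⊆ I Â for some n, then the closed set V(J) is open
inside V(I) ⊆ Spec A. (Globally: if X₂ ⊆ X₁ are the completions of a locally Noetherian scheme along
nested closed subsets Z₂ ⊆ Z₁ and the ideal of Z₁ generates an ideal of definition of X₂, then X₂ is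
a union of connected components of X₁.) -/
theorem result (A : Type u) [CommRing A] [IsNoetherianRing A]
    (I J : Ideal A) (hIJ : I ≤ J) (hI : I.IsRadical) (hJ : J.IsRadical) (n : ℕ)
    (h : (J ^ n).map (algebraMap A (AdicCompletion J A)) ≤ I.map (algebraMap A (AdicCompletion J A))) :
    IsOpen ((fun x : PrimeSpectrum.zeroLocus (I : Set A) => (x : PrimeSpectrum A)) ⁻¹'
      PrimeSpectrum.zeroLocus (J : Set A)) := by
  obtain ⟨r, hr1, hr2⟩ := exists_sub_one_mem_and_mul_mem A I J n (pow_le_sup_pow_succ A I J n h)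
  have heq : ((fun x : PrimeSpectrum.zeroLocus (I : Set A) => (x : PrimeSpectrum A)) ⁻¹'
      PrimeSpectrum.zeroLocus (J : Set A)) =
      ((fun x : PrimeSpectrum.zeroLocus (I : Set A) => (x : PrimeSpectrum A)) ⁻¹'
        (PrimeSpectrum.basicOpen r : Set (PrimeSpectrum A))) := by
    ext ⟨p, hp⟩
    simp only [Set.mem_preimage, PrimeSpectrum.mem_zeroLocus, SetLike.mem_coe,
      PrimeSpectrum.mem_basicOpen]
    have hpI : I ≤ p.asIdeal := (PrimeSpectrum.mem_zeroLocus _ _).1 hp
    constructor
    · intro hJ hr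
      have h1 : r - 1 ∈ p.asIdeal := hJ hr1
      have : (1 : A) ∈ p.asIdeal := by
        have := p.asIdeal.sub_mem hr h1
        simpa using this
      exact p.isPrime.ne_top ((Ideal.eq_top_iff_one _).2 this)
    · intro hr x hx
      have h1 : r * x ^ n ∈ p.asIdeal := hpI (hr2 _ (Ideal.pow_mem_pow hx n))
      rcases p.isPrime.mem_or_mem h1 with h2 | h2
      · exact absurd h2 hr
      · exact p.isPrime.mem_of_pow_mem n h2
  rw [heq]
  exact (PrimeSpectrum.basicOpen r).isOpen.preimage continuous_subtype_val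

end Groth.Agent.S17065
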