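import Groth.Statements.S17073
import Groth.Agent.Lib.Helper15.LcWatts

set_option autoImplicit false
open CategoryTheory
universe u
open LocCoh

namespace Groth.Agent.S17073

/-- Let R → S be a homomorphism of Noetherian rings, J an ideal of S containing elements u₁, …, u_d such
that S/(u₁, …, u_d) is a finite R-module and J lies in the radical of (u₁, …, u_d), and let F be a
finite R-module. Then the functor sending an S-module E to the set Hom_R(H^d_J(E), F) (d-th local
cohomology supported in J, scalars restricted to R) is representable by an S-module. (The published
statement gives the representing module as the degree −d cohomology of RHom_R(RΓ_J S, F) and a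
bifunctorial isomorphism; only representability is asserted here.) -/
theorem result
    (R S : Type u) [CommRing R] [CommRing S] [IsNoetherianRing R] [IsNoetherianRing S] [Algebra R S]
    (J : Ideal S) (d : ℕ) (u : Fin d → S) (hu : ∀ i, u i ∈ J)
    (hJ : J ≤ (Ideal.span (Set.range u)).radical) [Module.Finite R (S ⧸ Ideal.span (Set.range u))]
    (F : Type u) [AddCommGroup F] [Module R F] [Module.Finite R F] :
    ((localCohomology J d ⋙ ModuleCat.restrictScalars (algebraMap R S)).op ⋙
      yoneda.obj (ModuleCat.of R F)).IsRepresentable := by
  classical
  have hrad : J.radical = (Ideal.span (Set.range u)).radical := by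
    apply le_antisymm
    · exact Ideal.radical_le_radical_iff.mpr hJ
    · apply Ideal.radical_mono
      rw [Ideal.span_le]
      rintro _ ⟨i, rfl⟩
      exact hu i
  have hvan : ∀ (N : Type u) [AddCommGroup N] [Module S N],
      Subsingleton ((localCohomology J (d + 1)).obj (ModuleCat.of S N)) := by
    intro N _ _
    have h1 := Groth.Agent.Lib.Helper60.lc_subsingleton_of_card_lt N (Finset.univ.image u) (d + 1)
      (by
        calc (Finset.univ.image u).card ≤ (Finset.univ : Finset (Fin d)).card := Finset.card_image_le
          _ = d := by simp
          _ < d + 1 := Nat.lt_succ_self d)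
    have e : Ideal.span ((Finset.univ.image u : Finset S) : Set S) = Ideal.span (Set.range u) := by
      simp
    rw [e] at h1
    exact ((localCohomology.isoOfSameRadical hrad (d + 1)).app
      (ModuleCat.of S N)).toLinearEquiv.toEquiv.subsingleton
  let a := (Groth.Agent.Lib.Helper15.LcWatts.adj J d hvan).comp
    (ModuleCat.restrictCoextendScalarsAdj.{u, u, u} (algebraMap R S))
  exact (a.representableBy (ModuleCat.of R F)).isRepresentable

end Groth.Agent.S17073
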