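import Groth.Statements.S17077
import Mathlib.RingTheory.Nullstellensatz
import Mathlib.Algebra.MvPolynomial.Division
-- import your own Groth.Agent.* helpers here

set_option autoImplicit false
universe u
open RatCurve

namespace Groth.Agent.S17077


open MvPolynomial in
/-- Scaling the point scales the value of a homogeneous polynomial. -/
theorem aeval_mul_of_isHomogeneous {σ R S : Type*} [CommSemiring R] [CommSemiring S] [Algebra R S]
    {φ : MvPolynomial σ R} {m : ℕ} (hφ : φ.IsHomogeneous m) (c : S) (g : σ → S) :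
    aeval (fun i => c * g i) φ = c ^ m * aeval g φ := by
  rw [aeval_def, eval₂_eq, aeval_def, eval₂_eq, Finset.mul_sum]
  refine Finset.sum_congr rfl fun d hd => ?_
  have hdeg : d.degree = m := by
    by_contra h
    exact (mem_support_iff.1 hd) (hφ.coeff_eq_zero h)
  simp_rw [mul_pow]
  rw [Finset.prod_mul_distrib, Finset.prod_pow_eq_pow_sum, ← Finsupp.degree_apply, hdeg]
  ring

open MvPolynomial in
/-- A binary form vanishing at a nonzero point is divisible by the linear form of that point. -/
theorem linear_dvd_of_eval_eq_zero {k : Type u} [Field k] {φ : MvPolynomial (Fin 2) k} {m : ℕ}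
    (hφ : φ.IsHomogeneous m) (a : Fin 2 → k) (ha : a ≠ 0) (h0 : eval a φ = 0) :
    (C (a 1) * X 0 - C (a 0) * X 1 : MvPolynomial (Fin 2) k) ∣ φ := by
  set L : MvPolynomial (Fin 2) k := C (a 1) * X 0 - C (a 0) * X 1 with hL
  -- pick an index with nonzero coordinate
  obtain ⟨j, hj⟩ : ∃ j, a j ≠ 0 := by
    by_contra hcon
    push Not at hcon
    exact ha (funext hcon)
  -- the differences of the two families lie in the ideal generated by L
  have hmem : ∀ i : Fin 2, (C (a j) * X i - X j * C (a i) : MvPolynomial (Fin 2) k) ∈ Ideal.span {L} := by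
    intro i
    rw [Ideal.mem_span_singleton]
    have hi01 : i = 0 ∨ i = 1 := by fin_cases i <;> simp
    have hj01 : j = 0 ∨ j = 1 := by fin_cases j <;> simp
    rcases hi01 with rfl | rfl <;> rcases hj01 with rfl | rfl
    · exact ⟨0, by ring⟩
    · exact ⟨1, by rw [hL]; ring⟩
    · exact ⟨-1, by rw [hL]; ring⟩
    · exact ⟨0, by ring⟩
  -- evaluate in the quotient
  have h1 : aeval (fun i => C (a j) * X i) φ = C (a j) ^ m * φ := by
    rw [aeval_mul_of_isHomogeneous hφ]
    congr 1
    exact aeval_X_left_apply φ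
  have h2 : aeval (fun i => X j * C (a i)) φ = (0 : MvPolynomial (Fin 2) k) := by
    rw [aeval_mul_of_isHomogeneous hφ]
    have : aeval (fun i => (C (a i) : MvPolynomial (Fin 2) k)) φ = C (eval a φ) :=
      MvPolynomial.aeval_algebraMap_apply (A := k) (B := MvPolynomial (Fin 2) k) a φ
    rw [this, h0]
    simp
  have h3 : Ideal.Quotient.mk (Ideal.span {L}) (aeval (fun i => C (a j) * X i) φ) =
      Ideal.Quotient.mk (Ideal.span {L}) (aeval (fun i => X j * C (a i)) φ) := by
    have e1 : ∀ g : Fin 2 → MvPolynomial (Fin 2) k,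
        Ideal.Quotient.mk (Ideal.span {L}) (aeval g φ) =
          aeval (fun i => Ideal.Quotient.mk (Ideal.span {L}) (g i)) φ := by
      intro g
      exact MvPolynomial.comp_aeval_apply (R := k) g (Ideal.Quotient.mkₐ k (Ideal.span {L})) φ
    rw [e1, e1]
    have e2 : (fun i => Ideal.Quotient.mk (Ideal.span {L}) (C (a j) * X i)) =
        (fun i => Ideal.Quotient.mk (Ideal.span {L}) (X j * C (a i))) := by
      funext i
      rw [Ideal.Quotient.eq]
      exact hmem i
    rw [e2]
  rw [h1, h2, map_zero, Ideal.Quotient.eq_zero_iff_mem, Ideal.mem_span_singleton] at h3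
  have hu : IsUnit (C (a j) ^ m : MvPolynomial (Fin 2) k) :=
    (IsUnit.map C (IsUnit.mk0 _ hj)).pow m
  exact (hu.dvd_mul_left).1 h3


open MvPolynomial in
/-- A polynomial in two variables over an algebraically closed field with no zero away from the
origin is a unit. -/
theorem isUnit_of_forall_eval_ne_zero {k : Type u} [Field k] [IsAlgClosed k]
    (H : MvPolynomial (Fin 2) k) (hH : ∀ a : Fin 2 → k, a ≠ 0 → eval a H ≠ 0) : IsUnit H := by
  -- each variable lies in the radical of (H)
  have hrad : ∀ j : Fin 2, (X j : MvPolynomial (Fin 2) k) ∈ (Ideal.span {H}).radical := by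
    intro j
    rw [← vanishingIdeal_zeroLocus_eq_radical (K := k), mem_vanishingIdeal_iff]
    intro x hx
    have hx0 : x = 0 := by
      by_contra hne
      apply hH x hne
      have := (mem_zeroLocus_iff.1 hx) H (Ideal.subset_span rfl)
      simpa using this
    rw [hx0]
    simp
  obtain ⟨N, hN⟩ := hrad 0
  obtain ⟨M, hM⟩ := hrad 1
  rw [Ideal.mem_span_singleton] at hN hM
  obtain ⟨i, -, hi⟩ := (dvd_prime_pow (X_prime (R := k) (i := (0 : Fin 2))) N).1 hN
  obtain ⟨j, -, hj⟩ := (dvd_prime_pow (X_prime (R := k) (i := (1 : Fin 2))) M).1 hM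
  -- compare at the point (0, 1)
  by_cases hi0 : i = 0
  · rw [hi0, pow_zero] at hi
    exact hi.symm.isUnit isUnit_one
  · exfalso
    have hass : Associated ((X 0 : MvPolynomial (Fin 2) k) ^ i) (X 1 ^ j) := hi.symm.trans hj
    obtain ⟨u, hu⟩ := hass
    have h1 := congrArg (eval (![0, 1] : Fin 2 → k)) hu
    simp only [map_mul, map_pow, eval_X, Matrix.cons_val_zero, Matrix.cons_val_one,
      zero_pow hi0, zero_mul, one_pow] at h1
    exact one_ne_zero h1.symm

/-- Let k be an algebraically closed field and F_0, …, F_{n-1} homogeneous polynomials in k[u, v] (of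
possibly different degrees). Then the F_i have a common factor which is not a unit if and only if
they have a common zero (a, b) ≠ (0, 0) in k², that is, a common zero in the projective line. -/
theorem result
    {k : Type u} [Field k] [IsAlgClosed k] {n : ℕ} (F : Fin n → MvPolynomial (Fin 2) k)
    (d : Fin n → ℕ) (hF : ∀ i, (F i).IsHomogeneous (d i)) :
    (∃ H : MvPolynomial (Fin 2) k, ¬ IsUnit H ∧ ∀ i, H ∣ F i) ↔
      ∃ a : Fin 2 → k, a ≠ 0 ∧ ∀ i, MvPolynomial.eval a (F i) = 0 := by
  constructor
  · rintro ⟨H, hH, hdvd⟩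
    by_contra hcon
    push Not at hcon
    apply hH
    apply isUnit_of_forall_eval_ne_zero
    intro a ha h0
    obtain ⟨i, hi⟩ := hcon a ha
    apply hi
    obtain ⟨G, hG⟩ := hdvd i
    rw [hG, map_mul, h0, zero_mul]
  · rintro ⟨a, ha, h0⟩
    refine ⟨MvPolynomial.C (a 1) * MvPolynomial.X 0 - MvPolynomial.C (a 0) * MvPolynomial.X 1, ?_, ?_⟩
    · intro hu
      have h1 := hu.map (MvPolynomial.eval a)
      have h2 : MvPolynomial.eval a (MvPolynomial.C (a 1) * MvPolynomial.X 0 -
          MvPolynomial.C (a 0) * MvPolynomial.X 1) = 0 := by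
        simp; ring
      rw [h2] at h1
      exact not_isUnit_zero h1
    · intro i
      exact linear_dvd_of_eval_eq_zero (hF i) a ha (h0 i)

end Groth.Agent.S17077
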