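import Groth.Statements.S17078
import Groth.Agent.S17077
import Mathlib.RingTheory.Nullstellensatz
-- import your own Groth.Agent.* helpers here

set_option autoImplicit false
universe u
open RatCurve

namespace Groth.Agent.S17078


open MvPolynomial in
/-- The degree-`m` component of `F * G` for `F` homogeneous of degree `d ≤ m`. -/
theorem homogeneousComponent_mul_of_isHomogeneous {σ R : Type*} [CommSemiring R]
    {F : MvPolynomial σ R} (G : MvPolynomial σ R) {d m : ℕ} (hF : F.IsHomogeneous d) (hdm : d ≤ m) :
    homogeneousComponent m (F * G) = F * homogeneousComponent (m - d) G := by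
  conv_lhs => rw [← sum_homogeneousComponent G, Finset.mul_sum, map_sum]
  have h1 : ∀ j, homogeneousComponent m (F * homogeneousComponent j G) =
      if m = d + j then F * homogeneousComponent j G else 0 := fun j =>
    homogeneousComponent_of_mem (hF.mul (homogeneousComponent_isHomogeneous j G))
  simp_rw [h1]
  by_cases h : m - d ∈ Finset.range (G.totalDegree + 1)
  · rw [Finset.sum_eq_single (m - d)]
    · rw [if_pos (by omega)]
    · intro j _ hj
      rw [if_neg (by omega)]
    · intro h'; exact absurd h h'
  · rw [Finset.sum_eq_zero]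
    · rw [homogeneousComponent_eq_zero, mul_zero]
      rw [Finset.mem_range] at h
      omega
    · intro j hj
      rw [Finset.mem_range] at hj h
      rw [if_neg (by omega)]

/-- Let k be an algebraically closed field and F_0, …, F_{n-1} homogeneous polynomials of degree d in
k[u, v]. Then the F_i have no common factor other than units if and only if there is an integer m ≥
d such that every homogeneous polynomial of degree m can be written Σ_i F_i G_i with each G_i
homogeneous of degree m − d, i.e. the k-linear map (G_i)_i ↦ Σ_i F_i G_i from n copies of k[u,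
v]_{m−d} to k[u, v]_m is surjective. -/
theorem result
    {k : Type u} [Field k] [IsAlgClosed k] {n : ℕ} (F : Fin n → MvPolynomial (Fin 2) k)
    (d : ℕ) (hF : ∀ i, (F i).IsHomogeneous d) :
    (¬ ∃ H : MvPolynomial (Fin 2) k, ¬ IsUnit H ∧ ∀ i, H ∣ F i) ↔
      ∃ m : ℕ, d ≤ m ∧ ∀ P : MvPolynomial (Fin 2) k, P.IsHomogeneous m →
        ∃ G : Fin n → MvPolynomial (Fin 2) k, (∀ i, (G i).IsHomogeneous (m - d)) ∧
          P = ∑ i, F i * G i := by
  classical
  constructor
  · intro hno
    -- no common zero away from the origin
    have hzero : ∀ a : Fin 2 → k, a ≠ 0 → ∃ i, MvPolynomial.eval a (F i) ≠ 0 := by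
      intro a ha
      by_contra hcon
      push Not at hcon
      exact hno ((Groth.Agent.S17077.result F (fun _ => d) hF).2 ⟨a, ha, hcon⟩)
    set I : Ideal (MvPolynomial (Fin 2) k) := Ideal.span (Set.range F) with hI
    have hrad : ∀ j : Fin 2, (MvPolynomial.X j : MvPolynomial (Fin 2) k) ∈ I.radical := by
      intro j
      rw [← MvPolynomial.vanishingIdeal_zeroLocus_eq_radical (K := k),
        MvPolynomial.mem_vanishingIdeal_iff]
      intro x hx
      have hx0 : x = 0 := by
        by_contra hne
        obtain ⟨i, hi⟩ := hzero x hne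
        apply hi
        have := (MvPolynomial.mem_zeroLocus_iff.1 hx) (F i) (Ideal.subset_span ⟨i, rfl⟩)
        simpa using this
      rw [hx0]
      simp
    obtain ⟨N0, hN0⟩ := hrad 0
    obtain ⟨N1, hN1⟩ := hrad 1
    refine ⟨d + N0 + N1, by omega, fun P hP => ?_⟩
    have hPI : P ∈ I := by
      rw [P.as_sum]
      apply Ideal.sum_mem
      intro s hs
      have hdeg : s.degree = d + N0 + N1 := by
        by_contra h
        exact (MvPolynomial.mem_support_iff.1 hs) (hP.coeff_eq_zero h)
      rw [Finsupp.degree_eq_sum, Fin.sum_univ_two] at hdeg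
      have hmon : MvPolynomial.monomial s (MvPolynomial.coeff s P) =
          MvPolynomial.C (MvPolynomial.coeff s P) *
            (MvPolynomial.X 0 ^ s 0 * MvPolynomial.X 1 ^ s 1) := by
        rw [MvPolynomial.monomial_eq, Finsupp.prod_fintype _ _ (fun i => pow_zero _),
          Fin.prod_univ_two]
      rw [hmon]
      by_cases h0 : N0 ≤ s 0
      · have : (MvPolynomial.X 0 : MvPolynomial (Fin 2) k) ^ s 0 ∈ I := by
          obtain ⟨t, ht⟩ := Nat.exists_eq_add_of_le h0
          rw [ht, pow_add]
          exact I.mul_mem_right _ hN0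
        exact I.mul_mem_left _ (I.mul_mem_right _ this)
      · have h1 : N1 ≤ s 1 := by omega
        have : (MvPolynomial.X 1 : MvPolynomial (Fin 2) k) ^ s 1 ∈ I := by
          obtain ⟨t, ht⟩ := Nat.exists_eq_add_of_le h1
          rw [ht, pow_add]
          exact I.mul_mem_right _ hN1
        exact I.mul_mem_left _ (I.mul_mem_left _ this)
    obtain ⟨c, hc⟩ := (Ideal.mem_span_range_iff_exists_fun).1 hPI
    refine ⟨fun i => MvPolynomial.homogeneousComponent (d + N0 + N1 - d) (c i),
      fun i => MvPolynomial.homogeneousComponent_isHomogeneous _ _, ?_⟩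
    have h1 : P = MvPolynomial.homogeneousComponent (d + N0 + N1) P :=
      (MvPolynomial.homogeneousComponent_eq_self hP).symm
    rw [h1, ← hc, map_sum]
    refine Finset.sum_congr rfl fun i _ => ?_
    rw [mul_comm (c i) (F i)]
    exact homogeneousComponent_mul_of_isHomogeneous (c i) (hF i) (by omega)
  · rintro ⟨m, hdm, hm⟩ ⟨H, hH, hdvd⟩
    obtain ⟨a, ha, h0⟩ := (Groth.Agent.S17077.result F (fun _ => d) hF).1 ⟨H, hH, hdvd⟩
    obtain ⟨j, hj⟩ : ∃ j, a j ≠ 0 := by
      by_contra hcon
      push Not at hcon
      exact ha (funext hcon)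
    obtain ⟨G, -, hG⟩ := hm (MvPolynomial.X j ^ m) (MvPolynomial.isHomogeneous_X_pow j m)
    have h1 := congrArg (MvPolynomial.eval a) hG
    simp only [map_pow, MvPolynomial.eval_X, map_sum, map_mul, h0, zero_mul,
      Finset.sum_const_zero] at h1
    exact pow_ne_zero m hj h1

end Groth.Agent.S17078
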