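import Groth.Statements.S17084
import Mathlib.CategoryTheory.Extensive
import Mathlib.CategoryTheory.Limits.VanKampen

set_option autoImplicit false
universe u
open CategoryTheory CategoryTheory.Limits AlgebraicGeometry
open MorSch

namespace Groth.Agent.S17084

/-- Let (X_i)_{i ∈ ι} be a finite family of schemes over S with structure morphisms g_i : X_i → S, let Y
→ S be a scheme over S and T an S-scheme. Then for every family of S-morphisms a_i : T ×_S X_i → Y
there is a unique S-morphism b : T ×_S (∐_i X_i) → Y whose restriction along each T ×_S X_i → T ×_S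
(∐_i X_i) is a_i. In other words the canonical map Mor_S(∐_i X_i, Y) → ∏_i Mor_S(X_i, Y) of functors
on S-schemes is an isomorphism. -/
theorem result
    {S Y : Scheme.{u}} {ι : Type u} [Finite ι] (X : ι → Scheme.{u}) (g : ∀ i, X i ⟶ S)
    (gY : Y ⟶ S) (T : Over S) (a : ∀ i, (Flatn.morS (g i) gY).obj (Opposite.op T)) :
    ∃! b : (Flatn.morS (Sigma.desc g) gY).obj (Opposite.op T),
      ∀ i, pullback.map T.hom (g i) T.hom (Sigma.desc g) (𝟙 T.left) (Sigma.ι X i) (𝟙 S)
          ((Category.comp_id _).trans (Category.id_comp _).symm)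
          ((Category.comp_id _).trans (Sigma.ι_desc g i).symm) ≫ b.left = (a i).left := by
  set d := Sigma.desc g with hd
  let m : ∀ i, pullback T.hom (g i) ⟶ pullback T.hom d := fun i =>
    pullback.map T.hom (g i) T.hom d (𝟙 T.left) (Sigma.ι X i) (𝟙 S)
      ((Category.comp_id _).trans (Category.id_comp _).symm)
      ((Category.comp_id _).trans (Sigma.ι_desc g i).symm)
  have hm1 : ∀ i, m i ≫ pullback.fst T.hom d = pullback.fst T.hom (g i) := fun i =>
    (pullback.lift_fst _ _ _).trans (Category.comp_id _)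
  have hm2 : ∀ i, m i ≫ pullback.snd T.hom d = pullback.snd T.hom (g i) ≫ Sigma.ι X i := fun i =>
    pullback.lift_snd _ _ _
  -- the squares are cartesian
  have hpb : ∀ i, IsPullback (m i) (pullback.snd T.hom (g i)) (pullback.snd T.hom d)
      (Sigma.ι X i) := by
    intro i
    refine IsPullback.of_right ?_ (hm2 i) (IsPullback.of_hasPullback T.hom d)
    rw [hm1 i]
    have : Sigma.ι X i ≫ d = g i := Sigma.ι_desc g i
    rw [this]
    exact IsPullback.of_hasPullback T.hom (g i)
  -- universality of finite coproducts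
  have huniv : IsUniversalColimit (Cofan.mk (∐ X) (Sigma.ι X)) :=
    FinitaryPreExtensive.isUniversal_finiteCoproducts (coproductIsCoproduct X)
  obtain ⟨hcolim⟩ : Nonempty (IsColimit (Cofan.mk (pullback T.hom d) m)) := by
    refine huniv (Cofan.mk (pullback T.hom d) m)
      (Discrete.natTrans (fun i => pullback.snd T.hom (g i.as))) (pullback.snd T.hom d) ?_
      (NatTrans.Equifibered.of_discrete _) ?_
    · ext ⟨i⟩
      exact (hm2 i).symm
    · rintro ⟨i⟩
      exact hpb i
  -- the glued morphism
  let b₀ : pullback T.hom d ⟶ Y := Cofan.IsColimit.desc hcolim (fun i => (a i).left)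
  have hb₀ : ∀ i, m i ≫ b₀ = (a i).left := fun i => Cofan.IsColimit.fac hcolim _ i
  have hb₀Y : b₀ ≫ gY = pullback.snd T.hom d ≫ d := by
    refine Cofan.IsColimit.hom_ext hcolim _ _ (fun i => ?_)
    change m i ≫ b₀ ≫ gY = m i ≫ pullback.snd T.hom d ≫ d
    rw [← Category.assoc, hb₀, ← Category.assoc, hm2, Category.assoc, Sigma.ι_desc]
    exact Over.w (a i)
  let b : (Flatn.morS d gY).obj (Opposite.op T) := Over.homMk b₀ hb₀Y
  refine ⟨b, fun i => hb₀ i, fun b' hb' => ?_⟩
  apply Over.OverMorphism.ext
  refine Cofan.IsColimit.hom_ext hcolim _ _ (fun i => ?_)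
  change m i ≫ b'.left = m i ≫ b₀
  rw [hb₀]
  exact hb' i

end Groth.Agent.S17084
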