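import Groth.Statements.S17088

set_option autoImplicit false
universe u
open CategoryTheory CategoryTheory.Limits AlgebraicGeometry
open MorSch

namespace Groth.Agent.S17088

/-- Let f : X → S be a separated morphism, ι : W → X an immersion and T an S-scheme. For every closed
subscheme V of W ×_S T which is proper and flat over T — a T-point of the Hilbert functor of W over
S — the composite V → W ×_S T → X ×_S T is a closed immersion, and the map sending V to the ideal
sheaf of this composite, from T-points of the Hilbert functor of W to ideal sheaves on X ×_S T, is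
injective: an immersion induces a monomorphism of Hilbert functors. -/
theorem result
    {W X S : Scheme.{u}} (f : X ⟶ S) [IsSeparated f] (ι : W ⟶ X) [IsImmersion ι]
    (T : Over S) :
    (∀ V : FGA.HilbSet (ι ≫ f) T,
      IsClosedImmersion (V.1.subschemeι ≫ pullback.map (ι ≫ f) T.hom f T.hom ι (𝟙 T.left) (𝟙 S)
          (Category.comp_id _) ((Category.comp_id _).trans (Category.id_comp _).symm))) ∧
    Function.Injective (fun V : FGA.HilbSet (ι ≫ f) T =>
      (V.1.subschemeι ≫ pullback.map (ι ≫ f) T.hom f T.hom ι (𝟙 T.left) (𝟙 S)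
          (Category.comp_id _) ((Category.comp_id _).trans (Category.id_comp _).symm)).ker) := by
  have hιT : IsImmersion (pullback.map (ι ≫ f) T.hom f T.hom ι (𝟙 T.left) (𝟙 S)
      (Category.comp_id _) ((Category.comp_id _).trans (Category.id_comp _).symm)) := by
    have hpb : IsPullback (pullback.map (ι ≫ f) T.hom f T.hom ι (𝟙 T.left) (𝟙 S)
        (Category.comp_id _) ((Category.comp_id _).trans (Category.id_comp _).symm))
        (pullback.fst (ι ≫ f) T.hom) (pullback.fst f T.hom) ι := by
      have h1 : IsPullback (pullback.fst (ι ≫ f) T.hom) (pullback.snd (ι ≫ f) T.hom) (ι ≫ f) T.hom :=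
        IsPullback.of_hasPullback _ _
      have h2 : IsPullback (pullback.fst f T.hom) (pullback.snd f T.hom) f T.hom :=
        IsPullback.of_hasPullback _ _
      have hsq : pullback.map (ι ≫ f) T.hom f T.hom ι (𝟙 T.left) (𝟙 S)
          (Category.comp_id _) ((Category.comp_id _).trans (Category.id_comp _).symm) ≫
          pullback.fst f T.hom = pullback.fst (ι ≫ f) T.hom ≫ ι :=
        pullback.lift_fst _ _ _
      have hsq2 : pullback.map (ι ≫ f) T.hom f T.hom ι (𝟙 T.left) (𝟙 S)
          (Category.comp_id _) ((Category.comp_id _).trans (Category.id_comp _).symm) ≫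
          pullback.snd f T.hom = pullback.snd (ι ≫ f) T.hom :=
        (pullback.lift_snd _ _ _).trans (Category.comp_id _)
      refine IsPullback.of_right ?_ hsq h2.flip
      rw [hsq2]; exact h1.flip
    exact MorphismProperty.of_isPullback hpb.flip inferInstance
  have hsepT : IsSeparated (pullback.snd f T.hom) := inferInstance
  have hcl : ∀ V : FGA.HilbSet (ι ≫ f) T,
      IsClosedImmersion (V.1.subschemeι ≫ pullback.map (ι ≫ f) T.hom f T.hom ι (𝟙 T.left) (𝟙 S)
          (Category.comp_id _) ((Category.comp_id _).trans (Category.id_comp _).symm)) := by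
    intro V
    have hVp : IsProper (V.1.subschemeι ≫ pullback.snd (ι ≫ f) T.hom) := V.2.1
    have hcomp : (V.1.subschemeι ≫ pullback.map (ι ≫ f) T.hom f T.hom ι (𝟙 T.left) (𝟙 S)
          (Category.comp_id _) ((Category.comp_id _).trans (Category.id_comp _).symm)) ≫
          pullback.snd f T.hom = V.1.subschemeι ≫ pullback.snd (ι ≫ f) T.hom := by
      rw [Category.assoc]
      congr 1
      exact (pullback.lift_snd _ _ _).trans (Category.comp_id _)
    have hprop : IsProper ((V.1.subschemeι ≫ pullback.map (ι ≫ f) T.hom f T.hom ι (𝟙 T.left) (𝟙 S)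
          (Category.comp_id _) ((Category.comp_id _).trans (Category.id_comp _).symm)) ≫
          pullback.snd f T.hom) := by
      rw [hcomp]; exact hVp
    have hp : IsProper (V.1.subschemeι ≫ pullback.map (ι ≫ f) T.hom f T.hom ι (𝟙 T.left) (𝟙 S)
          (Category.comp_id _) ((Category.comp_id _).trans (Category.id_comp _).symm)) :=
      IsProper.of_comp _ (pullback.snd f T.hom)
    have himm : IsImmersion (V.1.subschemeι ≫ pullback.map (ι ≫ f) T.hom f T.hom ι (𝟙 T.left) (𝟙 S)
          (Category.comp_id _) ((Category.comp_id _).trans (Category.id_comp _).symm)) :=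
      inferInstance
    exact IsClosedImmersion.of_isPreimmersion _
      (Scheme.Hom.isClosedMap _).isClosed_range
  refine ⟨hcl, ?_⟩
  intro V₁ V₂ h
  have h' : (V₁.1.subschemeι ≫ pullback.map (ι ≫ f) T.hom f T.hom ι (𝟙 T.left) (𝟙 S)
          (Category.comp_id _) ((Category.comp_id _).trans (Category.id_comp _).symm)).ker =
      (V₂.1.subschemeι ≫ pullback.map (ι ≫ f) T.hom f T.hom ι (𝟙 T.left) (𝟙 S)
          (Category.comp_id _) ((Category.comp_id _).trans (Category.id_comp _).symm)).ker := h
  have hc1 := hcl V₁
  have hc2 := hcl V₂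
  have hiso := IsClosedImmersion.isIso_lift _ _ h'
  have hfac := IsClosedImmersion.lift_fac _ _ h'.le
  have hmono : Mono (pullback.map (ι ≫ f) T.hom f T.hom ι (𝟙 T.left) (𝟙 S)
          (Category.comp_id _) ((Category.comp_id _).trans (Category.id_comp _).symm)) :=
    inferInstance
  rw [← Category.assoc] at hfac
  have hfac' := (cancel_mono _).mp hfac
  apply Subtype.ext
  rw [← V₁.1.ker_subschemeι, ← V₂.1.ker_subschemeι, ← hfac',
    Scheme.Hom.ker_comp_of_isIso]

end Groth.Agent.S17088
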