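import Groth.Statements.S17139
import Mathlib
import Groth.Prelude.Def_Isoc
import Groth.Agent.Lib.Helper86.Isoc
import Groth.Agent.Lib.Helper86.Isoc3

set_option autoImplicit false
universe u v
open Isoc

namespace Groth.Agent.S17139

open Groth.Agent.Lib.Helper86

theorem result (p : ℕ) [Fact p.Prime] (k : Type u) [Field k] [CharP k p] [PerfectRing k p] (a : ℤ)
    (N : Type v) [AddCommGroup N] [Module (WittVector p k) N] [Module (FractionRing (WittVector p k)) N]
    [IsScalarTower (WittVector p k) (FractionRing (WittVector p k)) N]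
    [Nontrivial N] (F : N →ₛₗ[Isoc.frob p k a] N) (hF : Isoc.IsIsoc F)
    (h : ℕ) (b : Module.Basis (Fin h) (FractionRing (WittVector p k)) N)
    (d : ℤ) (hd : Isoc.IsOrdP (Isoc.detCoeff b F) d)
    (M : Submodule (WittVector p k) N) (hM : M.IsLattice (FractionRing (WittVector p k)))
    (r : ℤ) (s : ℕ) (hs : 0 < s) (hFM : Isoc.latImg F s M = Isoc.pPow r M) :
    Isoc.IsFirstSlope F ((r : ℝ) / s) ∧ r * h = s * d := by
  have hτ := WCompat.frob (p := p) (k := k) a
  refine ⟨?_, le_antisymm (latImg_le_det hτ b F hd hM hFM.le) (det_le_latImg hτ b F hd hM hFM.ge)⟩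
  obtain ⟨o, ho, lam, hlam⟩ := exists_ord_tendsto hτ hF.bijective hM
  refine ⟨M, hM, o, fun n _ => ho n, ?_⟩
  -- identify the limit along the subsequence `s * j`
  have hsub : ∀ j : ℕ, o (s * j) = r * j := by
    intro j
    have h1 : Isoc.latImg F (s * j) M = Isoc.pPow (r * j) M :=
      le_antisymm (latImg_le_pPow_mul hτ hFM.le j) (pPow_le_latImg_mul hτ hFM.ge j)
    have h2 : Isoc.IsOrd M F (s * j) (r * j) := by
      refine ⟨h1.le, fun hcon => ?_⟩
      rw [h1] at hcon
      have := le_of_pPow_le_pPow hM hcon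
      omega
    exact isOrd_unique (ho _) h2
  have hmul : Filter.Tendsto (fun j : ℕ => s * (j + 1)) Filter.atTop Filter.atTop := by
    apply Filter.tendsto_atTop_mono (f := fun j : ℕ => j)
    · intro j
      show j ≤ s * (j + 1)
      nlinarith
    · exact Filter.tendsto_id
  have h3 := hlam.comp hmul
  have h4 : (fun j : ℕ => ((o (s * (j + 1)) : ℤ) : ℝ) / ((s * (j + 1) : ℕ) : ℝ)) =
      fun _ => (r : ℝ) / s := by
    funext j
    rw [hsub]
    push_cast
    have hs' : (s : ℝ) ≠ 0 := by exact_mod_cast hs.ne'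
    have hj : ((j : ℝ) + 1) ≠ 0 := by positivity
    field_simp
  have h5 : Filter.Tendsto (fun _ : ℕ => (r : ℝ) / s) Filter.atTop (nhds lam) := by
    rw [← h4]
    exact h3
  have := tendsto_nhds_unique h5 tendsto_const_nhds
  rw [← this]
  exact hlam

end Groth.Agent.S17139
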