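import Groth.Statements.S17142
import Mathlib
import Groth.Agent.Lib.Helper86.Isoc

set_option autoImplicit false
universe u v
open Isoc

namespace Groth.Agent.S17142

open Groth.Agent.Lib.Helper86

variable {p : ℕ} [Fact p.Prime] {k : Type u} [Field k] [CharP k p] [PerfectRing k p]
variable {N : Type v} [AddCommGroup N] [Module (WittVector p k) N] [Module (FractionRing (WittVector p k)) N]
  [IsScalarTower (WittVector p k) (FractionRing (WittVector p k)) N]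

/-- Comparison of orders with respect to two commensurable submodules. -/
theorem ord_compare {τ : FractionRing (WittVector p k) →+* FractionRing (WittVector p k)}
    {e : WittVector p k ≃+* WittVector p k} (h : WCompat τ e) {F : N →ₛₗ[τ] N}
    {M₁ M₂ : Submodule (WittVector p k) N} {c : ℤ}
    (h12 : Isoc.pPow c M₁ ≤ M₂) (h21 : Isoc.pPow c M₂ ≤ M₁) {n : ℕ} {o₁ o₂ : ℤ}
    (ho₁ : Isoc.IsOrd M₁ F n o₁) (ho₂ : Isoc.IsOrd M₂ F n o₂) : o₁ - 2 * c ≤ o₂ := by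
  rw [← isOrd_le_iff ho₂]
  have h1 : M₂ ≤ Isoc.pPow (-c) M₁ := by rwa [← pPow_le_iff]
  have h2 : M₁ ≤ Isoc.pPow (-c) M₂ := by rwa [← pPow_le_iff]
  calc Isoc.latImg F n M₂ ≤ Isoc.latImg F n (Isoc.pPow (-c) M₁) := latImg_mono F n h1
    _ = Isoc.pPow (-c) (Isoc.latImg F n M₁) := latImg_pPow h F n _ _
    _ ≤ Isoc.pPow (-c) (Isoc.pPow o₁ M₁) := pPow_mono _ ho₁.1
    _ ≤ Isoc.pPow (-c) (Isoc.pPow o₁ (Isoc.pPow (-c) M₂)) := pPow_mono _ (pPow_mono _ h2)
    _ = Isoc.pPow (o₁ - 2 * c) M₂ := by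
      rw [pPow_pPow, pPow_pPow]; congr 1; ring

theorem result (p : ℕ) [Fact p.Prime] (k : Type u) [Field k] [CharP k p] [PerfectRing k p] (a : ℤ)
    (N : Type v) [AddCommGroup N] [Module (WittVector p k) N] [Module (FractionRing (WittVector p k)) N]
    [IsScalarTower (WittVector p k) (FractionRing (WittVector p k)) N]
    (F : N →ₛₗ[Isoc.frob p k a] N) (hF : Isoc.IsIsoc F)
    (M₁ M₂ : Submodule (WittVector p k) N) (hM₁ : M₁.IsLattice (FractionRing (WittVector p k))) (hM₂ : M₂.IsLattice (FractionRing (WittVector p k)))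
    (o₁ o₂ : ℕ → ℤ) (ho₁ : ∀ n : ℕ, 1 ≤ n → Isoc.IsOrd M₁ F n (o₁ n))
    (ho₂ : ∀ n : ℕ, 1 ≤ n → Isoc.IsOrd M₂ F n (o₂ n)) (lam₁ lam₂ : ℝ)
    (h₁ : Filter.Tendsto (fun n : ℕ => (o₁ n : ℝ) / n) Filter.atTop (nhds lam₁))
    (h₂ : Filter.Tendsto (fun n : ℕ => (o₂ n : ℝ) / n) Filter.atTop (nhds lam₂)) :
    lam₁ = lam₂ := by
  have hW := WCompat.frob (p := p) (k := k) a
  obtain ⟨c₁, hc₁⟩ := exists_pPow_le_of_fg hM₁.fg hM₂.span_eq_top
  obtain ⟨c₂, hc₂⟩ := exists_pPow_le_of_fg hM₂.fg hM₁.span_eq_top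
  set c : ℤ := max (c₁ : ℤ) (c₂ : ℤ) with hc
  have h12 : Isoc.pPow c M₁ ≤ M₂ := (pPow_anti (le_max_left _ _) M₁).trans hc₁
  have h21 : Isoc.pPow c M₂ ≤ M₁ := (pPow_anti (le_max_right _ _) M₂).trans hc₂
  have hbound : ∀ n : ℕ, 1 ≤ n → |(o₁ n : ℝ) - o₂ n| ≤ 2 * c := by
    intro n hn
    have a1 := ord_compare hW h12 h21 (ho₁ n hn) (ho₂ n hn)
    have a2 := ord_compare hW h21 h12 (ho₂ n hn) (ho₁ n hn)
    rw [abs_le]
    constructor
    · have : ((o₂ n - 2 * c : ℤ) : ℝ) ≤ (o₁ n : ℝ) := by exact_mod_cast a2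
      push_cast at this; linarith
    · have : ((o₁ n - 2 * c : ℤ) : ℝ) ≤ (o₂ n : ℝ) := by exact_mod_cast a1
      push_cast at this; linarith
  -- the difference tends to 0
  have hdiff : Filter.Tendsto (fun n : ℕ => ((o₁ n : ℝ) - o₂ n) / n) Filter.atTop (nhds 0) := by
    have hlim : Filter.Tendsto (fun n : ℕ => (2 * (c : ℝ)) / n) Filter.atTop (nhds 0) :=
      tendsto_const_div_atTop_nhds_zero_nat _
    apply squeeze_zero_norm' _ hlim
    filter_upwards [Filter.eventually_ge_atTop 1] with n hn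
    rw [Real.norm_eq_abs, abs_div, Nat.abs_cast]
    have hn' : (0 : ℝ) < n := by exact_mod_cast hn
    exact div_le_div_of_nonneg_right (hbound n hn) hn'.le
  have hdiff' : Filter.Tendsto (fun n : ℕ => ((o₁ n : ℝ) - o₂ n) / n) Filter.atTop
      (nhds (lam₁ - lam₂)) := by
    have := h₁.sub h₂
    refine this.congr (fun n => ?_)
    ring
  have := tendsto_nhds_unique hdiff' hdiff
  linarith

end Groth.Agent.S17142
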