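import Groth.Statements.S17144
import Mathlib
import Groth.Prelude.Def_Isoc
import Groth.Agent.Lib.Helper86.Isoc
import Groth.Agent.Lib.Helper86.Isoc5

set_option autoImplicit false
universe u v
open Isoc

namespace Groth.Agent.S17144

open Groth.Agent.Lib.Helper86

theorem result (p : ℕ) [Fact p.Prime] (k : Type u) [Field k] [CharP k p] [PerfectRing k p] (a : ℤ)
    (N : Type v) [AddCommGroup N] [Module (WittVector p k) N] [Module (FractionRing (WittVector p k)) N]
    [IsScalarTower (WittVector p k) (FractionRing (WittVector p k)) N]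
    (F : N →ₛₗ[Isoc.frob p k a] N) (hF : Isoc.IsIsoc F) (h : ℕ) (hh : Module.finrank (FractionRing (WittVector p k)) N = h)
    (M : Submodule (WittVector p k) N) (hM : M.IsLattice (FractionRing (WittVector p k)))
    (hFM : Isoc.latImg F (h + 1) M ≤ Isoc.pPow (-1) M) : Isoc.IsEffective F := by
  have hτ := WCompat.frob (p := p) (k := k) a
  haveI := hF.finite
  exact ⟨sumIt F M h, isLattice_sumIt hτ F hM h, latImg_sumIt_le_of_le_pPow_neg_one hτ hh F hFM⟩

end Groth.Agent.S17144
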