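import Groth.Statements.S17146
import Mathlib
import Groth.Prelude.Def_Isoc
import Groth.Agent.Lib.Helper86.Isoc
import Groth.Agent.Lib.Helper86.Isoc3
import Groth.Agent.Lib.Helper86.Isoc6
import Groth.Agent.Lib.Helper86.Isoc7

set_option autoImplicit false
universe u v
open Isoc

namespace Groth.Agent.S17146

open Groth.Agent.Lib.Helper86

theorem result (p : ℕ) [Fact p.Prime] (k : Type u) [Field k] [CharP k p] [PerfectRing k p] (a : ℤ)
    (N : Type v) [AddCommGroup N] [Module (WittVector p k) N] [Module (FractionRing (WittVector p k)) N]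
    [IsScalarTower (WittVector p k) (FractionRing (WittVector p k)) N]
    (F : N →ₛₗ[Isoc.frob p k a] N) (hF : Isoc.IsIsoc F)
    (h : ℕ) (b : Module.Basis (Fin h) (FractionRing (WittVector p k)) N)
    (d : ℤ) (hd : Isoc.IsOrdP (Isoc.detCoeff b F) d)
    (lam : ℝ) (hlam : Isoc.IsFirstSlope F lam) :
    ∃ (r : ℤ) (s : ℕ) (M : Submodule (WittVector p k) N), 0 < s ∧ s ≤ h ∧ lam = (r : ℝ) / s ∧
      M.IsLattice (FractionRing (WittVector p k)) ∧ Isoc.IsOrd M F s r ∧ r * h ≤ s * d := by
  have hτ := WCompat.frob (p := p) (k := k) a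
  have := hF.finite
  have hfr : Module.finrank (FractionRing (WittVector p k)) N = h := by
    rw [Module.finrank_eq_card_basis b, Fintype.card_fin]
  obtain ⟨r, s, hs, hsle, hrs⟩ := slope_rational hτ F hlam
  rw [hfr] at hsle
  obtain ⟨M, hM, hle⟩ := exists_lattice_of_le_slope hτ F hlam s hs r hrs.ge
  have hord : Isoc.IsOrd M F s r := by
    refine ⟨hle, fun hcon => ?_⟩
    have h1 := le_slope_of_latImg_le hτ hlam hM hs hcon
    rw [hrs] at h1
    have hs' : (0 : ℝ) < s := by exact_mod_cast hs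
    rw [div_le_div_iff_of_pos_right hs'] at h1
    push_cast at h1
    linarith
  exact ⟨r, s, M, hs, hsle, hrs, hM, hord, latImg_le_det hτ b F hd hM hle⟩

end Groth.Agent.S17146
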