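import Groth.Statements.S17147
import Mathlib
import Groth.Prelude.Def_Isoc
import Groth.Agent.Lib.Helper86.Isoc
import Groth.Agent.Lib.Helper86.Isoc3
import Groth.Agent.Lib.Helper86.Isoc6
import Groth.Agent.Lib.Helper86.Isoc7
import Groth.Agent.Lib.Helper86.Isoc8

set_option autoImplicit false
universe u v
open Isoc

namespace Groth.Agent.S17147

open Groth.Agent.Lib.Helper86

theorem result (p : ℕ) [Fact p.Prime] (k : Type u) [Field k] [CharP k p] [PerfectRing k p] (a : ℤ)
    (N : Type v) [AddCommGroup N] [Module (WittVector p k) N] [Module (FractionRing (WittVector p k)) N]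
    [IsScalarTower (WittVector p k) (FractionRing (WittVector p k)) N]
    (F : N →ₛₗ[Isoc.frob p k a] N) (hF : Isoc.IsIsoc F)
    (h : ℕ) (b : Module.Basis (Fin h) (FractionRing (WittVector p k)) N)
    (d : ℤ) (hd : Isoc.IsOrdP (Isoc.detCoeff b F) d)
    (hlam : Isoc.IsFirstSlope F ((d : ℝ) / h)) :
    ∃ M : Submodule (WittVector p k) N, M.IsLattice (FractionRing (WittVector p k)) ∧ Isoc.latImg F h M = Isoc.pPow d M := by
  have hτ := WCompat.frob (p := p) (k := k) a
  have := hF.finite
  have hnt := nontrivial_of_isFirstSlope hlam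
  have hfr : Module.finrank (FractionRing (WittVector p k)) N = h := by
    rw [Module.finrank_eq_card_basis b, Fintype.card_fin]
  have hpos : 0 < h := by
    rw [← hfr]
    exact Module.finrank_pos
  obtain ⟨M, hM, hle⟩ := exists_lattice_of_le_slope hτ F hlam h hpos d le_rfl
  obtain ⟨b', rfl⟩ := exists_basis_stdLat_eq hM hfr
  refine ⟨stdLat b', hM, le_antisymm hle ?_⟩
  have hd' := isOrdP_detCoeff_basis_indep hτ b b' F hd
  have hdet := isOrdP_detCoeff_iter hτ b' F hd' h
  rw [mul_comm] at hdet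
  have hG : ∀ j, (Isoc.iter F h) (b' j) ∈ Isoc.pPow d (stdLat b') := fun j =>
    hle ((mem_latImg hτ).mpr ⟨b' j, basis_mem_stdLat b' j, rfl⟩)
  have hpre := exists_preimage_of_det (hτ.pow h) b' (Isoc.iter F h) d hG hdet
  apply pPow_stdLat_le_of_forall_mem
  intro i
  obtain ⟨x, hx, hxi⟩ := hpre i
  exact (mem_latImg hτ).mpr ⟨x, hx, hxi⟩

end Groth.Agent.S17147
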