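import Groth.Statements.S17149
import Mathlib
import Groth.Agent.Lib.Helper86.Isoc2

set_option autoImplicit false
universe u v
open Isoc

namespace Groth.Agent.S17149

open Groth.Agent.Lib.Helper86

theorem result (p : ℕ) [Fact p.Prime] (k : Type u) [Field k] [CharP k p] [PerfectRing k p] (a : ℤ)
    (N : Type v) [AddCommGroup N] [Module (WittVector p k) N] [Module (FractionRing (WittVector p k)) N]
    [IsScalarTower (WittVector p k) (FractionRing (WittVector p k)) N]
    (F : N →ₛₗ[Isoc.frob p k a] N) (hF : Isoc.IsIsoc F) (μ : ℚ) (hμ : Isoc.IsIsoclinic F μ)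
    (P : Submodule (FractionRing (WittVector p k)) N) (hP : P ≤ P.comap F) :
    Isoc.IsIsoclinic (P.mapQ P F hP) μ := by
  have hW := WCompat.frob (p := p) (k := k) a
  rw [isIsoclinic_iff_amb_top]
  obtain ⟨r, s, hs, hrs, hamb⟩ := (isIsoclinic_iff_amb_top F μ).mp hμ
  refine ⟨r, s, hs, hrs, ?_⟩
  have := hamb.map hW (F' := P.mapQ P F hP) P.mkQ (fun x => rfl)
  rwa [Submodule.map_top, Submodule.range_mkQ] at this

end Groth.Agent.S17149
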