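import Groth.Statements.S17150
import Mathlib
import Groth.Agent.Lib.Helper86.Isoc2

set_option autoImplicit false
universe u v w
open Isoc

namespace Groth.Agent.S17150

open Groth.Agent.Lib.Helper86

theorem result (p : ℕ) [Fact p.Prime] (k : Type u) [Field k] [CharP k p] [PerfectRing k p] (a : ℤ)
    (N₁ : Type v) [AddCommGroup N₁] [Module (WittVector p k) N₁] [Module (FractionRing (WittVector p k)) N₁]
    [IsScalarTower (WittVector p k) (FractionRing (WittVector p k)) N₁]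
    (N₂ : Type w) [AddCommGroup N₂] [Module (WittVector p k) N₂] [Module (FractionRing (WittVector p k)) N₂]
    [IsScalarTower (WittVector p k) (FractionRing (WittVector p k)) N₂]
    (F₁ : N₁ →ₛₗ[Isoc.frob p k a] N₁) (F₂ : N₂ →ₛₗ[Isoc.frob p k a] N₂)
    (h₁ : Isoc.IsIsoc F₁) (h₂ : Isoc.IsIsoc F₂)
    (μ₁ μ₂ : ℚ) (hμ₁ : Isoc.IsIsoclinic F₁ μ₁) (hμ₂ : Isoc.IsIsoclinic F₂ μ₂) (hne : μ₁ ≠ μ₂)
    (f : N₁ →ₗ[(FractionRing (WittVector p k))] N₂) (hf : ∀ x : N₁, f (F₁ x) = F₂ (f x)) : f = 0 := by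
  have hW := WCompat.frob (p := p) (k := k) a
  haveI := h₂.finite
  obtain ⟨r₁, s₁, hs₁, hrs₁, hamb₁⟩ := (isIsoclinic_iff_amb_top F₁ μ₁).mp hμ₁
  obtain ⟨r₂, s₂, hs₂, hrs₂, hamb₂⟩ := (isIsoclinic_iff_amb_top F₂ μ₂).mp hμ₂
  have hstable : ∀ y ∈ LinearMap.range f, F₂ y ∈ LinearMap.range f := by
    rintro _ ⟨x, rfl⟩
    exact ⟨F₁ x, hf x⟩
  have a1 : AmbIsoclinic F₂ (LinearMap.range f) r₁ s₁ := by
    have := hamb₁.map hW f hf
    rwa [Submodule.map_top] at this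
  have a2 : AmbIsoclinic F₂ (LinearMap.range f) r₂ s₂ :=
    hamb₂.sub hW h₂.bijective.injective _ hstable
  by_contra hf0
  have hrange : LinearMap.range f ≠ ⊥ := by
    rwa [Ne, LinearMap.range_eq_bot]
  have hslope := a1.slope_unique hW a2 hrange
  apply hne
  rw [← hrs₁, ← hrs₂]
  have hs₁' : (s₁ : ℚ) ≠ 0 := by exact_mod_cast hs₁.ne'
  have hs₂' : (s₂ : ℚ) ≠ 0 := by exact_mod_cast hs₂.ne'
  rw [div_eq_div_iff hs₁' hs₂']
  exact_mod_cast hslope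

end Groth.Agent.S17150
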