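import Groth.Statements.S17152
import Mathlib
import Groth.Prelude.Def_Isoc
import Groth.Agent.Lib.Helper86.Isoc
import Groth.Agent.Lib.Helper86.Isoc12
import Groth.Agent.Lib.Helper86.Isoc13

set_option autoImplicit false
universe u v
open Isoc

namespace Groth.Agent.S17152

open Groth.Agent.Lib.Helper86

theorem result (p : ℕ) [Fact p.Prime] (k : Type u) [Field k] [CharP k p] [PerfectRing k p] (a : ℤ)
    (N : Type v) [AddCommGroup N] [Module (WittVector p k) N] [Module (FractionRing (WittVector p k)) N]
    [IsScalarTower (WittVector p k) (FractionRing (WittVector p k)) N]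
    (F : N →ₛₗ[Isoc.frob p k a] N) (hF : Isoc.IsIsoc F) :
    DirectSum.IsInternal (fun μ : ℚ => Isoc.slopePart F μ) := by
  have hτ := WCompat.frob (p := p) (k := k) a
  have := hF.finite
  exact DirectSum.isInternal_submodule_of_iSupIndep_of_iSup_eq_top
    (iSupIndep_slopePart hτ F hF.bijective.injective)
    (iSup_slopePart_eq_top hτ _ N F hF.bijective.injective rfl)

end Groth.Agent.S17152
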