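import Groth.Statements.S17157
import Mathlib
import Groth.Prelude.Def_Isoc

set_option autoImplicit false
universe u
open Isoc

namespace Groth.Agent.S17157

open scoped Isocrystal

theorem frobenius_iterate_eq_self (p : ℕ) [Fact p.Prime] (k : Type u) [Field k] [CharP k p] [Fintype k]
    (m : ℕ) (hm : Fintype.card k = p ^ m) (w : WittVector p k) :
    (WittVector.frobenius)^[m] w = w := by
  have key : ∀ (j : ℕ) (n : ℕ), ((WittVector.frobenius)^[j] w).coeff n = w.coeff n ^ p ^ j := by
    intro j
    induction j with
    | zero => intro n; simp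
    | succ j ih =>
      intro n
      rw [Function.iterate_succ_apply', WittVector.coeff_frobenius_charP, ih, ← pow_mul, ← pow_succ]
  ext n
  rw [key, ← hm, FiniteField.pow_card]

theorem frob_iterate_eq_self (p : ℕ) [Fact p.Prime] (k : Type u) [Field k] [CharP k p] [PerfectRing k p]
    [Fintype k] (m : ℕ) (hm : Fintype.card k = p ^ m) (x : FractionRing (WittVector p k)) :
    (Isoc.frob p k 1)^[m] x = x := by
  have h1 : ∀ (j : ℕ) (w : WittVector p k),
      (Isoc.frob p k 1)^[j] (algebraMap (WittVector p k) (FractionRing (WittVector p k)) w) =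
        algebraMap _ _ ((WittVector.frobenius)^[j] w) := by
    intro j
    induction j with
    | zero => intro w; rfl
    | succ j ih =>
      intro w
      rw [Function.iterate_succ_apply', ih, Isoc.frob_algebraMap, zpow_one,
        Function.iterate_succ_apply']
      rfl
  obtain ⟨a, b, hb, rfl⟩ := IsFractionRing.div_surjective (A := WittVector p k) x
  rw [← RingHom.coe_pow, map_div₀, RingHom.coe_pow, h1, h1, frobenius_iterate_eq_self p k m hm,
    frobenius_iterate_eq_self p k m hm]

theorem charZero_witt (p : ℕ) [Fact p.Prime] (k : Type u) [Field k] [CharP k p] :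
    CharZero (WittVector p k) := by
  have hp : p.Prime := Fact.out
  rcases CharP.char_is_prime_or_zero (WittVector p k) (ringChar (WittVector p k)) with hq | hq
  · exfalso
    have h0 : ((ringChar (WittVector p k) : ℕ) : WittVector p k) = 0 := CharP.cast_eq_zero _ _
    have h1 := congrArg (WittVector.constantCoeff (p := p) (R := k)) h0
    rw [map_natCast, map_zero] at h1
    have h2 : p ∣ ringChar (WittVector p k) := (CharP.cast_eq_zero_iff k p _).mp h1
    have h3 : p = ringChar (WittVector p k) := (Nat.prime_dvd_prime_iff_eq hp hq).mp h2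
    rw [← h3] at h0
    exact WittVector.p_nonzero p k h0
  · haveI : CharP (WittVector p k) 0 := by rw [← hq]; infer_instance
    exact CharP.charP_to_charZero _

theorem no_solution (p : ℕ) [Fact p.Prime] (k : Type u) [Field k] [CharP k p] [PerfectRing k p]
    [Finite k] (α : FractionRing (WittVector p k)) : Isoc.frob p k 1 α - α ≠ 1 := by
  classical
  haveI := Fintype.ofFinite k
  obtain ⟨⟨m, hmpos⟩, -, hm⟩ := FiniteField.card k p
  intro h
  set σ := Isoc.frob p k 1 with hσ
  have hm' : Fintype.card k = p ^ m := hm
  have key : ∀ j : ℕ, σ^[j] α - α = j := by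
    intro j
    induction j with
    | zero => simp
    | succ j ih =>
      rw [Function.iterate_succ_apply']
      have : σ (σ^[j] α) = σ (α + j) := by rw [← ih]; ring_nf
      rw [this, map_add, map_natCast]
      push_cast
      linear_combination h
  have h0 := key m
  rw [frob_iterate_eq_self p k m hm', sub_self] at h0
  have : (m : FractionRing (WittVector p k)) ≠ 0 := by
    haveI := charZero_witt p k
    haveI : CharZero (FractionRing (WittVector p k)) :=
      charZero_of_injective_algebraMap (IsFractionRing.injective (WittVector p k) _)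
    exact Nat.cast_ne_zero.mpr hmpos.ne'
  exact this h0.symm

theorem result
    (p : ℕ) [Fact p.Prime] (k : Type u) [Field k] [CharP k p] [PerfectRing k p] [Finite k]
    (U : (Fin 2 → (FractionRing (WittVector p k))) →ₛₗ[Isoc.frob p k 1] (Fin 2 → (FractionRing (WittVector p k))))
    (hU0 : U (Pi.single 0 1) = Pi.single 0 1)
    (hU1 : U (Pi.single 1 1) = Pi.single 0 1 + Pi.single 1 1)
    (Q : Submodule (FractionRing (WittVector p k)) (Fin 2 → (FractionRing (WittVector p k)))) (hQ : ∀ x ∈ Q, U x ∈ Q) :
    ¬ IsCompl (Submodule.span (FractionRing (WittVector p k)) {(Pi.single 0 1 : Fin 2 → (FractionRing (WittVector p k)))}) Q := by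
  intro hc
  set e₀ : Fin 2 → (FractionRing (WittVector p k)) := Pi.single 0 1 with he₀
  set e₁ : Fin 2 → (FractionRing (WittVector p k)) := Pi.single 1 1 with he₁
  have htop : e₁ ∈ Submodule.span (FractionRing (WittVector p k)) {e₀} ⊔ Q := by
    rw [hc.sup_eq_top]; trivial
  obtain ⟨y, hy, q, hq, hyq⟩ := Submodule.mem_sup.mp htop
  obtain ⟨α, rfl⟩ := Submodule.mem_span_singleton.mp hy
  have hq' : q = e₁ - α • e₀ := by rw [← hyq]; abel
  have hUq : U q = e₀ + e₁ - (Isoc.frob p k 1 α) • e₀ := by
    rw [hq', map_sub, map_smulₛₗ, hU0, hU1]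
  have hdiff : U q - q ∈ Q := Q.sub_mem (hQ q hq) hq
  have hdiff' : U q - q = (1 - Isoc.frob p k 1 α + α) • e₀ := by
    rw [hUq, hq']
    simp only [sub_smul, add_smul, one_smul]
    abel
  have hmem : U q - q ∈ Submodule.span (FractionRing (WittVector p k)) {e₀} := by
    rw [hdiff']
    exact Submodule.smul_mem _ _ (Submodule.mem_span_singleton_self _)
  have hzero : U q - q = 0 := by
    have := hc.inf_eq_bot
    have hmem2 : U q - q ∈ Submodule.span (FractionRing (WittVector p k)) {e₀} ⊓ Q := ⟨hmem, hdiff⟩
    rw [this] at hmem2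
    exact hmem2
  rw [hdiff'] at hzero
  have he₀ne : e₀ ≠ 0 := by
    intro h
    have := congrFun h 0
    simp [he₀] at this
  have hcoef : 1 - Isoc.frob p k 1 α + α = 0 := by
    rcases smul_eq_zero.mp hzero with h | h
    · exact h
    · exact absurd h he₀ne
  apply no_solution p k α
  linear_combination -hcoef

end Groth.Agent.S17157
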