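import Groth.Statements.S17158
import Mathlib
import Groth.Prelude.Def_Isoc
import Groth.Agent.Lib.Helper86.Isoc
import Groth.Agent.Lib.Helper86.Isoc2
import Groth.Agent.Lib.Helper86.Isoc3
import Groth.Agent.Lib.Helper86.Isoc4
import Groth.Agent.Lib.Helper86.Isoc8
import Groth.Agent.Lib.Helper86.Isoc11
import Groth.Agent.Lib.Helper86.Isoc12
import Groth.Agent.Lib.Helper86.Isoc13
import Groth.Agent.Lib.Helper86.Isoc14
import Groth.Agent.S17151

set_option autoImplicit false
universe u v
open Isoc

namespace Groth.Agent.S17158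

open Groth.Agent.Lib.Helper86 Groth.Agent.S17151

theorem result (p : ℕ) [Fact p.Prime] (k : Type u) [Field k] [CharP k p] [PerfectRing k p] (a : ℤ)
    (N : Type v) [AddCommGroup N] [Module (WittVector p k) N] [Module (FractionRing (WittVector p k)) N]
    [IsScalarTower (WittVector p k) (FractionRing (WittVector p k)) N]
    (F : N →ₛₗ[Isoc.frob p k a] N) (hF : Isoc.IsIsoc F)
    (h : ℕ) (b : Module.Basis (Fin h) (FractionRing (WittVector p k)) N)
    (d : ℤ) (hd : Isoc.IsOrdP (Isoc.detCoeff b F) d) :
    ∑ᶠ μ : ℚ, μ * (Isoc.newtonMult F μ : ℚ) = d := by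
  classical
  have hτ := WCompat.frob (p := p) (k := k) a
  have := hF.finite
  have hFinj := hF.bijective.injective
  have hindep := iSupIndep_slopePart hτ F hFinj
  have htop := iSup_slopePart_eq_top hτ _ N F hFinj rfl
  have hgood : ∀ μ, Good F μ (Isoc.slopePart F μ) := fun μ => good_slopePart hτ F μ
  have hN : {μ : ℚ | Isoc.slopePart F μ ≠ ⊥}.Finite :=
    WellFoundedGT.finite_ne_bot_of_iSupIndep hindep
  set s := hN.toFinset with hs
  have hmem : ∀ μ, μ ∈ s ↔ Isoc.slopePart F μ ≠ ⊥ := fun μ => by
    rw [hs, Set.Finite.mem_toFinset, Set.mem_ofPred_eq]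
  -- internal direct sum over the finite index set
  have hint : DirectSum.IsInternal (fun i : s => Isoc.slopePart F i) := by
    apply DirectSum.isInternal_submodule_of_iSupIndep_of_iSup_eq_top
    · exact hindep.comp Subtype.val_injective
    · rw [eq_top_iff, ← htop]
      refine iSup_le fun μ => ?_
      by_cases hμ : μ ∈ s
      · exact le_iSup (fun i : s => Isoc.slopePart F i) ⟨μ, hμ⟩
      · have : Isoc.slopePart F μ = ⊥ := by
          by_contra hne
          exact hμ ((hmem μ).mpr hne)
        rw [this]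
        exact bot_le
  -- bases
  let m : s → ℕ := fun i => Module.finrank (FractionRing (WittVector p k)) (Isoc.slopePart F i)
  let v : ∀ i : s, Module.Basis (Fin (m i)) (FractionRing (WittVector p k)) (Isoc.slopePart F i) :=
    fun i => Module.finBasis _ _
  let B := hint.collectedBasis v
  have hfr : Module.finrank (FractionRing (WittVector p k)) N = h := by
    rw [Module.finrank_eq_card_basis b, Fintype.card_fin]
  have hcard : Fintype.card (Σ i : s, Fin (m i)) = h := by
    rw [← hfr, Module.finrank_eq_card_basis B]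
  let ε := Fintype.equivFinOfCardEq hcard
  have hd' := isOrdP_detCoeff_basis_indep hτ b (B.reindex ε) F hd
  rw [detCoeff_reindex] at hd'
  -- block diagonal form
  have hblock : matG B F = Matrix.blockDiagonal'
      (fun i : s => mat (v i) (F.restrict (hgood i).1)) := by
    ext ⟨i, x⟩ ⟨j, y⟩
    have hBy : B ⟨j, y⟩ = ((v j y : Isoc.slopePart F j) : N) := by
      rw [DirectSum.IsInternal.collectedBasis_coe]
    have hFmem : F (B ⟨j, y⟩) ∈ Isoc.slopePart F j := by
      rw [hBy]
      exact (hgood j).1 _ (Subtype.mem _)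
    show B.repr (F (B ⟨j, y⟩)) ⟨i, x⟩ = _
    by_cases hij : i = j
    · subst hij
      rw [Matrix.blockDiagonal'_apply_eq, hint.collectedBasis_repr_of_mem v hFmem, mat_apply]
      congr 2
      apply Subtype.ext
      show F (B ⟨i, y⟩) = F (v i y)
      rw [hBy]
    · rw [Matrix.blockDiagonal'_apply_ne _ _ _ hij]
      exact hint.collectedBasis_repr_of_mem_ne v (Ne.symm hij) hFmem
  rw [hblock, det_blockDiagonal'_eq] at hd'
  -- orders of the blocks
  have hex : ∀ i : s, ∃ di : ℤ, Isoc.IsOrdP (Isoc.detCoeff (v i) (F.restrict (hgood i).1)) di :=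
    fun i => exists_isOrdP_detCoeff hτ (v i) _
      ⟨restrict_injective hFinj _,
        surjective_of_injective_semilinear hτ.surjective _ (restrict_injective hFinj _)⟩
  choose dd hdd using hex
  have hprod := isOrdP_prod Finset.univ
    (fun i : s => Isoc.detCoeff (v i) (F.restrict (hgood i).1)) dd (fun i _ => hdd i)
  have hdsum : d = ∑ i : s, dd i := IsOrdP.unique hd' hprod
  have hslope : ∀ i : s, (i : ℚ) * (m i : ℚ) = dd i := fun i =>
    orddet_of_good hτ (hgood i) (v i) (hdd i)
  -- the finsum
  have hsupp : Function.support (fun μ : ℚ => μ * (Isoc.newtonMult F μ : ℚ)) ⊆ ↑s := by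
    intro μ hμ
    rw [Finset.mem_coe, hmem]
    intro hbot
    apply hμ
    show μ * (Isoc.newtonMult F μ : ℚ) = 0
    unfold Isoc.newtonMult
    rw [hbot, finrank_bot]
    simp
  rw [finsum_eq_sum_of_support_subset _ hsupp, ← Finset.sum_coe_sort, hdsum]
  push_cast
  exact Finset.sum_congr rfl fun i _ => hslope i

end Groth.Agent.S17158
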