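import Groth.Statements.S17171
import Mathlib
import Groth.Statements.S17171

set_option autoImplicit false
open QSymFn

namespace Groth.Agent.S17171

open Finsupp

/-- normal form of a finitely supported function on a linear order -/
theorem normal_form {σ : Type*} [LinearOrder σ] (e : σ →₀ ℕ) :
    e = ∑ t : Fin e.support.card,
      Finsupp.single (e.support.orderEmbOfFin rfl t) (e (e.support.orderEmbOfFin rfl t)) := by
  classical
  ext x
  rw [Finsupp.coe_finsetSum, Finset.sum_apply]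
  by_cases hx : x ∈ e.support
  · obtain ⟨t, ht⟩ : ∃ t, e.support.orderEmbOfFin rfl t = x := by
      have := Finset.range_orderEmbOfFin e.support rfl
      have hx' : x ∈ Set.range (e.support.orderEmbOfFin rfl) := by rw [this]; exact hx
      exact hx'
    rw [Finset.sum_eq_single t]
    · rw [ht, Finsupp.single_eq_same]
    · intro s _ hst
      rw [Finsupp.single_apply, if_neg]
      intro h
      apply hst
      exact (e.support.orderEmbOfFin rfl).injective (h.trans ht.symm)
    · intro h; exact absurd (Finset.mem_univ t) h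
  · rw [Finsupp.notMem_support_iff.1 hx]
    symm
    apply Finset.sum_eq_zero
    intro t _
    rw [Finsupp.single_apply, if_neg]
    intro h
    apply hx
    rw [← h]
    exact Finset.orderEmbOfFin_mem _ _ _

theorem normal_pos {σ : Type*} [LinearOrder σ] (e : σ →₀ ℕ) (t : Fin e.support.card) :
    0 < e (e.support.orderEmbOfFin rfl t) := by
  have := Finset.orderEmbOfFin_mem e.support rfl t
  rw [Finsupp.mem_support_iff] at this
  omega

theorem mapDomain_normal {σ τ : Type*} [LinearOrder σ] (g : σ → τ) (e : σ →₀ ℕ) :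
    Finsupp.mapDomain g e = ∑ t : Fin e.support.card,
      Finsupp.single (g (e.support.orderEmbOfFin rfl t)) (e (e.support.orderEmbOfFin rfl t)) := by
  conv_lhs => rw [normal_form e]
  rw [Finsupp.mapDomain_finsetSum]
  simp only [Finsupp.mapDomain_single]

/-- the quasisymmetry condition -/
def QS (F : MvPowerSeries ℕ ℤ) : Prop :=
  ∀ (ℓ : ℕ) (i j : Fin ℓ → ℕ) (a : Fin ℓ → ℕ), StrictMono i → StrictMono j → (∀ t, 0 < a t) →
    MvPowerSeries.coeff (∑ t : Fin ℓ, Finsupp.single (i t) (a t)) F =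
      MvPowerSeries.coeff (∑ t : Fin ℓ, Finsupp.single (j t) (a t)) F

theorem partA (F : MvPowerSeries ℕ ℤ) (hF : QS F) (n m : ℕ) (φ : Fin n ↪o Fin m)
    (e : Fin n →₀ ℕ) :
    MvPowerSeries.coeff (Finsupp.mapDomain Fin.val e) F =
      MvPowerSeries.coeff (Finsupp.mapDomain Fin.val (Finsupp.mapDomain φ e)) F := by
  rw [← Finsupp.mapDomain_comp, mapDomain_normal, mapDomain_normal]
  apply hF
  · intro s t hst
    exact Fin.val_fin_lt.2 ((e.support.orderEmbOfFin rfl).strictMono hst)
  · intro s t hst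
    simp only [Function.comp_apply]
    exact Fin.val_fin_lt.2 (φ.strictMono ((e.support.orderEmbOfFin rfl).strictMono hst))
  · exact normal_pos e


/-- bound on the support -/
def bd (e : ℕ →₀ ℕ) : ℕ := e.support.sup id + 1

/-- restriction to an initial segment -/
noncomputable def low (e : ℕ →₀ ℕ) : Fin (bd e) →₀ ℕ :=
  Finsupp.comapDomain Fin.val e Fin.val_injective.injOn

theorem mapDomain_low (e : ℕ →₀ ℕ) : Finsupp.mapDomain Fin.val (low e) = e := by
  apply Finsupp.mapDomain_comapDomain _ Fin.val_injective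
  intro x hx
  have : x < bd e := by
    have := Finset.le_sup (f := id) hx
    simp only [id] at this
    unfold bd
    omega
  exact ⟨⟨x, this⟩, rfl⟩

section B

variable (f : (n : ℕ) → MvPolynomial (Fin n) ℤ)
  (hcomp : ∀ (n m : ℕ) (φ : Fin n ↪o Fin m) (e : Fin n →₀ ℕ),
        MvPolynomial.coeff e (f n) = MvPolynomial.coeff (Finsupp.mapDomain φ e) (f m))

include hcomp in
theorem keyK (n m : ℕ) (e : Fin n →₀ ℕ) (e' : Fin m →₀ ℕ)
    (h : Finsupp.mapDomain Fin.val e = Finsupp.mapDomain Fin.val e') :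
    MvPolynomial.coeff e (f n) = MvPolynomial.coeff e' (f m) := by
  rw [hcomp n (max n m) (Fin.castLEOrderEmb (le_max_left n m)) e,
    hcomp m (max n m) (Fin.castLEOrderEmb (le_max_right n m)) e']
  congr 1
  apply Finsupp.mapDomain_injective (Fin.val_injective (n := max n m))
  rw [← Finsupp.mapDomain_comp, ← Finsupp.mapDomain_comp]
  exact h

/-- the limit series -/
noncomputable def limF : MvPowerSeries ℕ ℤ :=
  fun e => MvPolynomial.coeff (low e) (f (bd e))

theorem coeff_limF (e : ℕ →₀ ℕ) :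
    MvPowerSeries.coeff e (limF f) = MvPolynomial.coeff (low e) (f (bd e)) := rfl

include hcomp in
theorem coeff_limF_mapDomain (n : ℕ) (e : Fin n →₀ ℕ) :
    MvPowerSeries.coeff (Finsupp.mapDomain Fin.val e) (limF f) = MvPolynomial.coeff e (f n) := by
  rw [coeff_limF]
  apply keyK f hcomp
  rw [mapDomain_low]

include hcomp in
theorem qs_limF : QS (limF f) := by
  have key : ∀ (ℓ : ℕ) (i : Fin ℓ → ℕ) (a : Fin ℓ → ℕ), StrictMono i →
      MvPowerSeries.coeff (∑ t : Fin ℓ, Finsupp.single (i t) (a t)) (limF f) =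
        MvPolynomial.coeff (∑ t : Fin ℓ, Finsupp.single t (a t)) (f ℓ) := by
    intro ℓ i a hi
    set M := Finset.univ.sup i + 1 with hM
    have hlt : ∀ t, i t < M := by
      intro t
      have := Finset.le_sup (f := i) (Finset.mem_univ t)
      omega
    let i' : Fin ℓ → Fin M := fun t => ⟨i t, hlt t⟩
    have hi' : StrictMono i' := fun s t hst => Fin.mk_lt_mk.2 (hi hst)
    let φ : Fin ℓ ↪o Fin M := OrderEmbedding.ofStrictMono i' hi'
    have h1 : (∑ t : Fin ℓ, Finsupp.single (i t) (a t)) =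
        Finsupp.mapDomain Fin.val (Finsupp.mapDomain φ (∑ t : Fin ℓ, Finsupp.single t (a t))) := by
      rw [Finsupp.mapDomain_finsetSum, Finsupp.mapDomain_finsetSum]
      simp only [Finsupp.mapDomain_single]
      rfl
    rw [h1, coeff_limF_mapDomain f hcomp, ← hcomp]
  intro ℓ i j a hi hj _
  rw [key ℓ i a hi, key ℓ j a hj]

theorem deg_limF (d : ℕ) (hhom : ∀ n, (f n).IsHomogeneous d) (e : ℕ →₀ ℕ)
    (he : MvPowerSeries.coeff e (limF f) ≠ 0) : e.degree = d := by
  rw [coeff_limF] at he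
  by_contra hne
  apply he
  apply (hhom (bd e)).coeff_eq_zero
  rw [← Finsupp.degree_mapDomain Fin.val (low e), mapDomain_low]
  exact hne

end B

theorem result (d : ℕ) :
    (∀ F : MvPowerSeries ℕ ℤ,
      (∀ (ℓ : ℕ) (i j : Fin ℓ → ℕ) (a : Fin ℓ → ℕ), StrictMono i → StrictMono j → (∀ t, 0 < a t) →
        MvPowerSeries.coeff (∑ t : Fin ℓ, Finsupp.single (i t) (a t)) F =
          MvPowerSeries.coeff (∑ t : Fin ℓ, Finsupp.single (j t) (a t)) F) →
      (∀ e : ℕ →₀ ℕ, MvPowerSeries.coeff e F ≠ 0 → e.degree = d) →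
      ∀ (n m : ℕ) (φ : Fin n ↪o Fin m) (e : Fin n →₀ ℕ),
        MvPowerSeries.coeff (Finsupp.mapDomain Fin.val e) F =
          MvPowerSeries.coeff (Finsupp.mapDomain Fin.val (Finsupp.mapDomain φ e)) F) ∧
    (∀ f : (n : ℕ) → MvPolynomial (Fin n) ℤ,
      (∀ n, (f n).IsHomogeneous d) →
      (∀ (n m : ℕ) (φ : Fin n ↪o Fin m) (e : Fin n →₀ ℕ),
        MvPolynomial.coeff e (f n) = MvPolynomial.coeff (Finsupp.mapDomain φ e) (f m)) →
      ∃! F : MvPowerSeries ℕ ℤ,
        (∀ (ℓ : ℕ) (i j : Fin ℓ → ℕ) (a : Fin ℓ → ℕ), StrictMono i → StrictMono j → (∀ t, 0 < a t) →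
          MvPowerSeries.coeff (∑ t : Fin ℓ, Finsupp.single (i t) (a t)) F =
            MvPowerSeries.coeff (∑ t : Fin ℓ, Finsupp.single (j t) (a t)) F) ∧
        (∀ e : ℕ →₀ ℕ, MvPowerSeries.coeff e F ≠ 0 → e.degree = d) ∧
        (∀ (n : ℕ) (e : Fin n →₀ ℕ),
          MvPowerSeries.coeff (Finsupp.mapDomain Fin.val e) F = MvPolynomial.coeff e (f n))) := by
  refine ⟨fun F hF _ n m φ e => partA F hF n m φ e, ?_⟩
  intro f hhom hcomp
  refine ⟨limF f, ⟨qs_limF f hcomp, deg_limF f d hhom, coeff_limF_mapDomain f hcomp⟩, ?_⟩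
  rintro F' ⟨-, -, h3⟩
  ext e
  rw [← mapDomain_low e, h3, coeff_limF_mapDomain f hcomp]

end Groth.Agent.S17171
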