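import Groth.Statements.S17173
import Mathlib
import Groth.Agent.Lib.Helper86.LabG

set_option autoImplicit false
universe u
open LabGraph

namespace Groth.Agent.S17173

open Groth.Agent.Lib.Helper86.LabG

section

variable {V E : Type u} [Fintype V] [Fintype E] [DecidableEq V] [DecidableEq E]

/-- Differences of vertex values are integer combinations of edge differences. -/
theorem exists_edge_coeffs_vertex (ends : E → V × V)
    (hconn : ∀ v w : V, Relation.ReflTransGen (Adj ends) v w) (v₀ v : V) :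
    ∃ c : E → ℤ, ∀ φ : V → ℤ, φ v - φ v₀ = ∑ e : E, c e * (φ (ends e).2 - φ (ends e).1) := by
  have key : ∀ v, Relation.ReflTransGen (Adj ends) v₀ v →
      ∃ c : E → ℤ, ∀ φ : V → ℤ, φ v - φ v₀ = ∑ e : E, c e * (φ (ends e).2 - φ (ends e).1) := by
    intro v hv
    induction hv with
    | refl => exact ⟨0, fun φ => by simp⟩
    | @tail v' v'' _ hadj ih =>
      obtain ⟨c, hc⟩ := ih
      obtain ⟨e₀, he | he⟩ := hadj
      · refine ⟨fun e => c e + (if e = e₀ then 1 else 0), fun φ => ?_⟩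
        simp only [add_mul, Finset.sum_add_distrib, ite_mul, one_mul, zero_mul, Finset.sum_ite_eq',
          Finset.mem_univ, if_true, ← hc φ, he]
        ring
      · refine ⟨fun e => c e + (if e = e₀ then -1 else 0), fun φ => ?_⟩
        simp only [add_mul, Finset.sum_add_distrib, ite_mul, neg_mul, one_mul, zero_mul,
          Finset.sum_ite_eq', Finset.mem_univ, if_true, ← hc φ, he]
        ring
  exact key v (hconn v₀ v)

theorem exists_edge_coeffs (ends : E → V × V) (hne : Nonempty V)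
    (hconn : ∀ v w : V, Relation.ReflTransGen (Adj ends) v w) (ξ : V → ℤ)
    (hξ : ∑ v : V, ξ v = 0) :
    ∃ c : E → ℤ, ∀ φ : V → ℤ, ∑ v : V, φ v * ξ v =
      ∑ e : E, c e * (φ (ends e).2 - φ (ends e).1) := by
  obtain ⟨v₀⟩ := hne
  choose cc hcc using fun v => exists_edge_coeffs_vertex ends hconn v₀ v
  refine ⟨fun e => ∑ v : V, ξ v * cc v e, fun φ => ?_⟩
  have h1 : ∑ v : V, φ v * ξ v = ∑ v : V, (φ v - φ v₀) * ξ v := by
    have : ∑ v : V, (φ v - φ v₀) * ξ v = ∑ v : V, φ v * ξ v - φ v₀ * ∑ v : V, ξ v := by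
      rw [Finset.mul_sum, ← Finset.sum_sub_distrib]
      exact Finset.sum_congr rfl fun v _ => by ring
    rw [this, hξ, mul_zero, sub_zero]
  rw [h1]
  simp only [hcc, Finset.sum_mul, Finset.mul_sum]
  rw [Finset.sum_comm]
  refine Finset.sum_congr rfl fun e _ => Finset.sum_congr rfl fun v _ => by ring

/-- The energy functional. -/
def Psi (ends : E → V × V) (K : ℤ) (ξ : V → ℤ) (φ : V → ℤ) : ℤ :=
  K * ∑ e : E, (φ (ends e).2 - φ (ends e).1) ^ 2 - 2 * ∑ v : V, φ v * ξ v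

theorem Psi_add (ends : E → V × V) (K : ℤ) (ξ φ ψ : V → ℤ) :
    Psi ends K ξ (fun v => φ v + ψ v) = Psi ends K ξ φ +
      2 * K * ∑ e : E, (φ (ends e).2 - φ (ends e).1) * (ψ (ends e).2 - ψ (ends e).1) +
      K * ∑ e : E, (ψ (ends e).2 - ψ (ends e).1) ^ 2 - 2 * ∑ v : V, ψ v * ξ v := by
  unfold Psi
  have h1 : ∑ e : E, (φ (ends e).2 + ψ (ends e).2 - (φ (ends e).1 + ψ (ends e).1)) ^ 2 =
      ∑ e : E, (φ (ends e).2 - φ (ends e).1) ^ 2 +
      2 * ∑ e : E, (φ (ends e).2 - φ (ends e).1) * (ψ (ends e).2 - ψ (ends e).1) +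
      ∑ e : E, (ψ (ends e).2 - ψ (ends e).1) ^ 2 := by
    rw [Finset.mul_sum, ← Finset.sum_add_distrib, ← Finset.sum_add_distrib]
    exact Finset.sum_congr rfl fun e _ => by ring
  have h2 : ∑ v : V, (φ v + ψ v) * ξ v = ∑ v : V, φ v * ξ v + ∑ v : V, ψ v * ξ v := by
    rw [← Finset.sum_add_distrib]
    exact Finset.sum_congr rfl fun v _ => by ring
  rw [h1, h2]
  ring

theorem Psi_bdd (ends : E → V × V) (K : ℤ) (hK : 0 < K) (ξ : V → ℤ) (c : E → ℤ)
    (hc : ∀ φ : V → ℤ, ∑ v : V, φ v * ξ v = ∑ e : E, c e * (φ (ends e).2 - φ (ends e).1))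
    (φ : V → ℤ) : -∑ e : E, c e ^ 2 ≤ Psi ends K ξ φ := by
  unfold Psi
  rw [hc φ, Finset.mul_sum, Finset.mul_sum, ← Finset.sum_sub_distrib, ← Finset.sum_neg_distrib]
  refine Finset.sum_le_sum fun e _ => ?_
  nlinarith [sq_nonneg (φ (ends e).2 - φ (ends e).1 - c e), sq_nonneg (φ (ends e).2 - φ (ends e).1)]

/-- Indicator function of a vertex set. -/
def ind (Y : Finset V) (v : V) : ℤ := if v ∈ Y then 1 else 0

theorem sum_ind_sq (ends : E → V × V) (Y : Finset V) :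
    ∑ e : E, (ind Y (ends e).2 - ind Y (ends e).1) ^ 2 = (cut ends Y : ℤ) := by
  rw [cut_eq_sum]
  refine Finset.sum_congr rfl fun e _ => ?_
  unfold ind cind
  by_cases h1 : (ends e).1 ∈ Y <;> by_cases h2 : (ends e).2 ∈ Y <;> simp [h1, h2]

theorem sum_mul_ind (ends : E → V × V) (φ : V → ℤ) (Y : Finset V) :
    ∑ e : E, (φ (ends e).2 - φ (ends e).1) * (ind Y (ends e).2 - ind Y (ends e).1) =
      -∑ v ∈ Y, twist ends φ v := by
  rw [sum_twist, ← Finset.sum_neg_distrib]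
  refine Finset.sum_congr rfl fun e _ => ?_
  unfold ind
  by_cases h1 : (ends e).1 ∈ Y <;> by_cases h2 : (ends e).2 ∈ Y <;> simp [h1, h2]

theorem sum_ind_mul (ξ : V → ℤ) (Y : Finset V) : ∑ v : V, ind Y v * ξ v = ∑ v ∈ Y, ξ v := by
  unfold ind
  simp [ite_mul, Finset.sum_ite_mem]

end

open LabGraph in
theorem result {V E : Type u} [Fintype V] [Fintype E]
    [DecidableEq V] [DecidableEq E] (ends : E → V × V) (w : V → ℕ) (hX : IsQuasistableGraph ends w)
    (hg : 3 ≤ genus ends w) (d : V → ℤ) :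
    ∃ d' : V → ℤ, TwistEquiv ends d' d ∧ SatisfiesBI ends w d' := by
  have hK := canDeg_univ_pos ends w hg
  obtain ⟨hne, hconn⟩ := hX.1.1
  set K := canDeg ends w Finset.univ with hKdef
  set ξ := xi ends w d with hξdef
  obtain ⟨c, hc⟩ := exists_edge_coeffs ends hne hconn ξ (sum_xi_univ ends w d)
  obtain ⟨z₀, ⟨φ, hφ⟩, hmin⟩ := Int.exists_least_of_bdd (P := fun z => ∃ φ, Psi ends K ξ φ = z)
    ⟨-∑ e : E, c e ^ 2, fun z hz => by
      obtain ⟨φ, rfl⟩ := hz
      exact Psi_bdd ends K hK ξ c hc φ⟩ ⟨_, 0, rfl⟩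
  have hmin' : ∀ ψ, Psi ends K ξ φ ≤ Psi ends K ξ ψ := fun ψ => by
    rw [hφ]; exact hmin _ ⟨ψ, rfl⟩
  refine ⟨fun v => d v + twist ends φ v, ⟨φ, fun v => by ring⟩, ?_⟩
  rw [satisfiesBI_iff]
  intro Y
  rw [sum_xi_add_twist]
  have h1 := hmin' (fun v => φ v + ind Y v)
  rw [Psi_add, sum_ind_sq, sum_mul_ind, sum_ind_mul] at h1
  have h2 := hmin' (fun v => φ v + (-ind Y v))
  have e1 : ∑ e : E, (φ (ends e).2 - φ (ends e).1) * (-ind Y (ends e).2 - -ind Y (ends e).1) =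
      ∑ v ∈ Y, twist ends φ v := by
    rw [← neg_neg (∑ v ∈ Y, twist ends φ v), ← sum_mul_ind, ← Finset.sum_neg_distrib]
    exact Finset.sum_congr rfl fun e _ => by ring
  have e2 : ∑ e : E, (-ind Y (ends e).2 - -ind Y (ends e).1) ^ 2 = (cut ends Y : ℤ) := by
    rw [← sum_ind_sq]
    exact Finset.sum_congr rfl fun e _ => by ring
  have e3 : ∑ v : V, -ind Y v * ξ v = -∑ v ∈ Y, ξ v := by
    have : ∑ v : V, -ind Y v * ξ v = -∑ v : V, ind Y v * ξ v := by
      rw [← Finset.sum_neg_distrib]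
      exact Finset.sum_congr rfl fun v _ => by ring
    rw [this, sum_ind_mul]
  rw [Psi_add, e1, e2, e3] at h2
  rw [show (2 : ℤ) * |∑ v ∈ Y, xi ends w d v + K * ∑ v ∈ Y, twist ends φ v| =
    |2 * (∑ v ∈ Y, xi ends w d v + K * ∑ v ∈ Y, twist ends φ v)| by rw [abs_mul, abs_two], abs_le]
  constructor
  · nlinarith
  · nlinarith

end Groth.Agent.S17173
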