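import Groth.Statements.S17174
import Mathlib
import Groth.Agent.Lib.Helper86.LabG

set_option autoImplicit false
universe u
open LabGraph

namespace Groth.Agent.S17174

open Groth.Agent.Lib.Helper86.LabG

theorem exists_crossing {V E : Type u} [DecidableEq V] (ends : E → V × V)
    (hconn : ∀ v w : V, Relation.ReflTransGen (Adj ends) v w) (U : Finset V) {a b : V}
    (ha : a ∈ U) (hb : b ∉ U) :
    ∃ e : E, ((ends e).1 ∈ U ∧ (ends e).2 ∉ U) ∨ ((ends e).1 ∉ U ∧ (ends e).2 ∈ U) := by
  have key : ∀ v, Relation.ReflTransGen (Adj ends) a v → v ∉ U →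
      ∃ e : E, ((ends e).1 ∈ U ∧ (ends e).2 ∉ U) ∨ ((ends e).1 ∉ U ∧ (ends e).2 ∈ U) := by
    intro v hv
    induction hv with
    | refl => intro h; exact absurd ha h
    | @tail v' v'' _ hadj ih =>
      intro hv''
      by_cases hv' : v' ∈ U
      · obtain ⟨e, he | he⟩ := hadj
        · exact ⟨e, Or.inl (by rw [he]; exact ⟨hv', hv''⟩)⟩
        · exact ⟨e, Or.inr (by rw [he]; exact ⟨hv'', hv'⟩)⟩
      · exact ih hv'
  exact key b (hconn a b) hb

theorem twist_shift {V E : Type u} [Fintype E] [DecidableEq V] (ends : E → V × V) (φ : V → ℤ)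
    (m : ℤ) (v : V) : twist ends (fun u => φ u - m) v = twist ends φ v := by
  unfold twist
  refine Finset.sum_congr rfl fun e _ => ?_
  congr 1 <;> (split_ifs <;> ring)

/-- Edges crossing a level set of `φ` have difference exactly one. -/
theorem crossing_diff {V E : Type u} [Fintype V] [Fintype E]
    [DecidableEq V] [DecidableEq E] (ends : E → V × V) (w : V → ℕ)
    (hK : 0 < canDeg ends w Finset.univ) (d d' : V → ℤ)
    (hBI : SatisfiesBI ends w d) (hBI' : SatisfiesBI ends w d') (φ : V → ℤ)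
    (hφ : ∀ v : V, d v - d' v = twist ends φ v) (c : ℤ) (e : E) :
    (φ (ends e).1 ≤ c → c < φ (ends e).2 → φ (ends e).2 - φ (ends e).1 = 1) ∧
    (φ (ends e).2 ≤ c → c < φ (ends e).1 → φ (ends e).1 - φ (ends e).2 = 1) := by
  set K := canDeg ends w Finset.univ with hKdef
  rw [satisfiesBI_iff] at hBI hBI'
  set U : Finset V := Finset.univ.filter (fun v => c < φ v) with hU
  have hmem : ∀ v, v ∈ U ↔ c < φ v := fun v => by rw [hU]; simp
  have hd : d = fun u => d' u + twist ends φ u := by
    funext u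
    have := hφ u
    linarith
  have h1 := sum_xi_add_twist ends w d' φ U
  rw [← hd, sum_twist] at h1
  set T : ℤ := ∑ e : E, ((if (ends e).1 ∈ U then φ (ends e).2 - φ (ends e).1 else 0) +
        (if (ends e).2 ∈ U then φ (ends e).1 - φ (ends e).2 else 0)) with hT
  have b1 := hBI U
  have b2 := hBI' U
  have a1 := neg_abs_le (∑ v ∈ U, xi ends w d v)
  have a2 := le_abs_self (∑ v ∈ U, xi ends w d' v)
  have hTcut : 0 ≤ T + (cut ends U : ℤ) := by
    have : 0 ≤ K * (T + (cut ends U : ℤ)) := by nlinarith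
    exact nonneg_of_mul_nonneg_right this hK
  have hterm : ∀ e : E, ((if (ends e).1 ∈ U then φ (ends e).2 - φ (ends e).1 else 0) +
        (if (ends e).2 ∈ U then φ (ends e).1 - φ (ends e).2 else 0)) +
        cind U (ends e).1 (ends e).2 ≤ 0 := by
    intro e
    unfold cind
    by_cases hx : (ends e).1 ∈ U <;> by_cases hy : (ends e).2 ∈ U
    · simp [hx, hy]
    · have h1 := (hmem _).mp hx
      have h2 : ¬ c < φ (ends e).2 := fun h => hy ((hmem _).mpr h)
      simp [hx, hy]
      omega
    · have h1 := (hmem _).mp hy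
      have h2 : ¬ c < φ (ends e).1 := fun h => hx ((hmem _).mpr h)
      simp [hx, hy]
      omega
    · simp [hx, hy]
  have hsum : ∑ e : E, (((if (ends e).1 ∈ U then φ (ends e).2 - φ (ends e).1 else 0) +
        (if (ends e).2 ∈ U then φ (ends e).1 - φ (ends e).2 else 0)) +
        cind U (ends e).1 (ends e).2) = 0 := by
    apply le_antisymm (Finset.sum_nonpos fun e _ => hterm e)
    rw [Finset.sum_add_distrib, ← cut_eq_sum]
    exact hTcut
  have hzero := (Finset.sum_eq_zero_iff_of_nonpos (fun e _ => hterm e)).mp hsum e (Finset.mem_univ e)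
  unfold cind at hzero
  constructor
  · intro hx hy
    have hx' : (ends e).1 ∉ U := fun h => by have := (hmem _).mp h; omega
    have hy' : (ends e).2 ∈ U := (hmem _).mpr hy
    simp [hx', hy'] at hzero
    omega
  · intro hy hx
    have hy' : (ends e).2 ∉ U := fun h => by have := (hmem _).mp h; omega
    have hx' : (ends e).1 ∈ U := (hmem _).mpr hx
    simp [hx', hy'] at hzero
    omega

open LabGraph in
theorem result {V E : Type u} [Fintype V] [Fintype E]
    [DecidableEq V] [DecidableEq E] (ends : E → V × V) (w : V → ℕ) (hX : IsSemistableGraph ends w)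
    (hg : 3 ≤ genus ends w) (d d' : V → ℤ)
    (hBI : SatisfiesBI ends w d) (hBI' : SatisfiesBI ends w d') (heq : TwistEquiv ends d d') :
    ∃ (q : ℕ) (h : V → ℕ), (∀ v : V, h v ≤ q) ∧ (∀ i : ℕ, i ≤ q → ∃ v : V, h v = i) ∧
      (∀ v : V, d v - d' v = twist ends (fun u => (h u : ℤ)) v) ∧
      (∀ i j : ℕ, i ≤ q → j ≤ q → i ≠ j →
        ((∃ e : E, (h (ends e).1 = i ∧ h (ends e).2 = j) ∨ (h (ends e).1 = j ∧ h (ends e).2 = i)) ↔
          (i + 1 = j ∨ j + 1 = i))) := by
  have hK := canDeg_univ_pos ends w hg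
  obtain ⟨hne, hconn⟩ := hX.1
  obtain ⟨φ, hφ⟩ := heq
  obtain ⟨v₀, -, hv₀⟩ := Finset.exists_min_image Finset.univ φ Finset.univ_nonempty
  set m := φ v₀ with hm
  let h : V → ℕ := fun v => (φ v - m).toNat
  have hh : ∀ v, (h v : ℤ) = φ v - m := fun v =>
    Int.toNat_of_nonneg (by linarith [hv₀ v (Finset.mem_univ v)])
  have hcd := crossing_diff ends w hK d d' hBI hBI' φ hφ
  have hedge : ∀ e, h (ends e).1 ≤ h (ends e).2 + 1 ∧ h (ends e).2 ≤ h (ends e).1 + 1 := by
    intro e
    have h1 := hh (ends e).1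
    have h2 := hh (ends e).2
    constructor
    · by_contra hlt
      push Not at hlt
      have := (hcd (φ (ends e).2) e).2 le_rfl (by omega)
      omega
    · by_contra hlt
      push Not at hlt
      have := (hcd (φ (ends e).1) e).1 le_rfl (by omega)
      omega
  have hcross : ∀ i : ℕ, (∃ a, i < h a) → (∃ b, h b ≤ i) →
      ∃ e, (h (ends e).1 ≤ i ∧ i < h (ends e).2) ∨ (h (ends e).2 ≤ i ∧ i < h (ends e).1) := by
    rintro i ⟨a, ha⟩ ⟨b, hb⟩
    obtain ⟨e, he⟩ := exists_crossing ends hconn (Finset.univ.filter (fun v => i < h v))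
      (a := a) (b := b) (by simp [ha]) (by simp; omega)
    refine ⟨e, ?_⟩
    simp only [Finset.mem_filter, Finset.mem_univ, true_and] at he
    rcases he with ⟨h1, h2⟩ | ⟨h1, h2⟩
    · right; exact ⟨by omega, h1⟩
    · left; exact ⟨by omega, h2⟩
  set q := Finset.univ.sup h with hqdef
  have hq : ∀ v, h v ≤ q := fun v => Finset.le_sup (Finset.mem_univ v)
  obtain ⟨vq, -, hvq⟩ := Finset.exists_mem_eq_sup Finset.univ Finset.univ_nonempty h
  have hv₀0 : h v₀ = 0 := by
    have := hh v₀
    omega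
  have hsurj : ∀ i, i ≤ q → ∃ v, h v = i := by
    intro i hi
    by_contra hcon
    push Not at hcon
    have hi0 : i ≠ 0 := fun h0 => hcon v₀ (by rw [hv₀0, h0])
    have hiq : i ≠ q := fun h' => hcon vq (by rw [h', hqdef, hvq])
    obtain ⟨e, he⟩ := hcross i ⟨vq, by rw [← hvq, ← hqdef]; omega⟩ ⟨v₀, by omega⟩
    have := hedge e
    rcases he with ⟨h1, h2⟩ | ⟨h1, h2⟩
    · have := hcon (ends e).1
      omega
    · have := hcon (ends e).2
      omega
  refine ⟨q, h, hq, hsurj, ?_, ?_⟩
  · intro v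
    rw [hφ v, ← twist_shift ends φ m v]
    congr 1
    funext u
    exact (hh u).symm
  · intro i j hi hj hij
    constructor
    · rintro ⟨e, ⟨h1, h2⟩ | ⟨h1, h2⟩⟩ <;> have := hedge e <;> omega
    · rintro (h1 | h1)
      · obtain ⟨a, ha⟩ := hsurj j hj
        obtain ⟨b, hb⟩ := hsurj i hi
        obtain ⟨e, he⟩ := hcross i ⟨a, by omega⟩ ⟨b, by omega⟩
        refine ⟨e, ?_⟩
        have := hedge e
        rcases he with ⟨h2, h3⟩ | ⟨h2, h3⟩
        · left; constructor <;> omega
        · right; constructor <;> omega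
      · obtain ⟨a, ha⟩ := hsurj i hi
        obtain ⟨b, hb⟩ := hsurj j hj
        obtain ⟨e, he⟩ := hcross j ⟨a, by omega⟩ ⟨b, by omega⟩
        refine ⟨e, ?_⟩
        have := hedge e
        rcases he with ⟨h2, h3⟩ | ⟨h2, h3⟩
        · right; constructor <;> omega
        · left; constructor <;> omega

end Groth.Agent.S17174
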