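import Groth.Statements.S17175
import Mathlib

set_option autoImplicit false
universe u
open CAlg

namespace Groth.Agent.S17175

open PowerSeries in
theorem result (k : Type u) [Field k]
    (φ : (k⟦X⟧ × k⟦X⟧) →+ (k⟦X⟧ × k⟦X⟧))
    (hφ : ∀ a s : k⟦X⟧ × k⟦X⟧, constantCoeff a.1 = constantCoeff a.2 → φ (a * s) = a * φ s) :
    ∃! b : k⟦X⟧ × k⟦X⟧, ∀ s : k⟦X⟧ × k⟦X⟧, φ s = b * s := by
  refine ⟨φ 1, ?_, ?_⟩
  · intro s
    -- multiply by (X, 0) and (0, X)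
    have h1 : ((X : k⟦X⟧), (0 : k⟦X⟧)) * φ s = ((X : k⟦X⟧), (0 : k⟦X⟧)) * s * φ 1 := by
      rw [← hφ _ _ (by simp), ← hφ _ _ (by simp), mul_one]
    have h2 : ((0 : k⟦X⟧), (X : k⟦X⟧)) * φ s = ((0 : k⟦X⟧), (X : k⟦X⟧)) * s * φ 1 := by
      rw [← hφ _ _ (by simp), ← hφ _ _ (by simp), mul_one]
    have h1' := congrArg Prod.fst h1
    have h2' := congrArg Prod.snd h2
    simp only [Prod.fst_mul, Prod.snd_mul, mul_assoc] at h1' h2'
    have hX : (X : k⟦X⟧) ≠ 0 := X_ne_zero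
    ext : 1
    · simp only [Prod.fst_mul]
      rw [mul_comm]
      exact mul_left_cancel₀ hX h1'
    · simp only [Prod.snd_mul]
      rw [mul_comm]
      exact mul_left_cancel₀ hX h2'
  · intro b hb
    rw [hb 1, mul_one]

end Groth.Agent.S17175
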