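import Groth.Statements.S17176
import Mathlib

set_option autoImplicit false
open Curves

namespace Groth.Agent.S17176

theorem result (g d : ℤ) (hg : 3 ≤ g) :
    Int.gcd (d - g + 1) (2 * g - 2) = 1 ↔
      ∀ gY k : ℤ, 0 < gY → gY < g - 1 → 1 ≤ k → k + 2 * gY - 2 < 2 * g - 2 →
        ¬ (2 * (g - 1) ∣ d * (2 * gY - 2 + k) - k * (g - 1)) := by
  constructor
  · intro hgcd gY k h1 h2 h3 h4 hdvd
    have e1 : d * (2 * gY - 2 + k) - k * (g - 1) =
        (d - g + 1) * (2 * gY - 2 + k) + (2 * g - 2) * (gY - 1) := by ring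
    have hdvd' : (2 * g - 2) ∣ (d - g + 1) * (2 * gY - 2 + k) := by
      have h5 : (2 * g - 2) ∣ (d - g + 1) * (2 * gY - 2 + k) + (2 * g - 2) * (gY - 1) := by
        rw [← e1]; convert hdvd using 1; ring
      exact (Int.dvd_add_left (Dvd.intro _ rfl)).mp h5
    have hcop : Int.gcd (2 * g - 2) (d - g + 1) = 1 := by rw [Int.gcd_comm]; exact hgcd
    have hw : (2 * g - 2) ∣ (2 * gY - 2 + k) := Int.dvd_of_dvd_mul_right_of_gcd_one hdvd' hcop
    have hpos : 0 < 2 * gY - 2 + k := by omega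
    have := Int.le_of_dvd hpos hw
    omega
  · intro h
    by_contra hne
    set h' := Int.gcd (d - g + 1) (2 * g - 2) with hh'
    have hn : (0 : ℤ) < 2 * g - 2 := by omega
    have hdn : (h' : ℤ) ∣ 2 * g - 2 := Int.gcd_dvd_right _ _
    have hde : (h' : ℤ) ∣ d - g + 1 := Int.gcd_dvd_left _ _
    have hpos : 0 < h' := Int.gcd_pos_of_ne_zero_right _ (by omega)
    have h2 : (2 : ℤ) ≤ h' := by
      have : 2 ≤ h' := by omega
      exact_mod_cast this
    obtain ⟨k, hk⟩ := hdn
    obtain ⟨e', he'⟩ := hde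
    have hkpos : 0 < k := by
      by_contra hk0
      push Not at hk0
      have : (h' : ℤ) * k ≤ 0 := mul_nonpos_of_nonneg_of_nonpos (by omega) hk0
      omega
    have hklt : k < 2 * g - 2 := by
      rw [hk]
      nlinarith
    apply h 1 k (by norm_num) (by omega) (by omega) (by omega)
    refine ⟨e', ?_⟩
    have : d * (2 * 1 - 2 + k) - k * (g - 1) = k * (d - g + 1) := by ring
    rw [this, he']
    have : 2 * (g - 1) = (h' : ℤ) * k := by rw [← hk]; ring
    rw [this]; ring

end Groth.Agent.S17176
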