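import Groth.Statements.S17179
import Mathlib
import Groth.Agent.Lib.Helper86.LabG

set_option autoImplicit false
universe u
open LabGraph

namespace Groth.Agent.S17179

open Groth.Agent.Lib.Helper86.LabG

theorem edge_upper {V : Type u} [DecidableEq V] (Y Z : Finset V) (x y : V) :
    cind (Y ∪ Z) x y - cind Z x y + cind (Y ∩ Z) x y +
      2 * ((if x ∈ Y then (if y ∈ Z then (1 : ℤ) else 0) - (if x ∈ Z then 1 else 0) else 0) +
        (if y ∈ Y then (if x ∈ Z then (1 : ℤ) else 0) - (if y ∈ Z then 1 else 0) else 0)) -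
      cind Y x y ≤ 0 := by
  unfold cind
  simp only [Finset.mem_union, Finset.mem_inter]
  by_cases h1 : x ∈ Y <;> by_cases h2 : x ∈ Z <;> by_cases h3 : y ∈ Y <;> by_cases h4 : y ∈ Z <;>
    simp [h1, h2, h3, h4]

theorem edge_lower {V : Type u} [DecidableEq V] (Y Z : Finset V) (x y : V) :
    0 ≤ cind Z x y - cind (Z \ Y) x y - cind (Y \ Z) x y +
      2 * ((if x ∈ Y then (if y ∈ Z then (1 : ℤ) else 0) - (if x ∈ Z then 1 else 0) else 0) +
        (if y ∈ Y then (if x ∈ Z then (1 : ℤ) else 0) - (if y ∈ Z then 1 else 0) else 0)) +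
      cind Y x y := by
  unfold cind
  simp only [Finset.mem_sdiff]
  by_cases h1 : x ∈ Y <;> by_cases h2 : x ∈ Z <;> by_cases h3 : y ∈ Y <;> by_cases h4 : y ∈ Z <;>
    simp [h1, h2, h3, h4]

open LabGraph in
theorem result {V E : Type u} [Fintype V] [Fintype E]
    [DecidableEq V] [DecidableEq E] (ends : E → V × V) (w : V → ℕ) (hX : IsSemistableGraph ends w)
    (hg : 3 ≤ genus ends w) (d : V → ℤ) (hBI : SatisfiesBI ends w d) (Z : Finset V)
    (hZ : 2 * (canDeg ends w Finset.univ * (∑ v ∈ Z, d v) - (∑ v : V, d v) * canDeg ends w Z) =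
      (cut ends Z : ℤ) * canDeg ends w Finset.univ) :
    SatisfiesBI ends w (fun v => d v + twist ends (fun u => if u ∈ Z then 1 else 0) v) := by
  have hK := canDeg_univ_pos ends w hg
  set K := canDeg ends w Finset.univ with hKdef
  rw [satisfiesBI_iff] at hBI ⊢
  rw [qf_eq_sum] at hZ
  intro Y
  rw [sum_xi_add_twist, sum_twist]
  set T : ℤ := ∑ e : E, ((if (ends e).1 ∈ Y then
      (if (ends e).2 ∈ Z then (1 : ℤ) else 0) - (if (ends e).1 ∈ Z then 1 else 0) else 0) +
    (if (ends e).2 ∈ Y then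
      (if (ends e).1 ∈ Z then (1 : ℤ) else 0) - (if (ends e).2 ∈ Z then 1 else 0) else 0)) with hT
  -- additivity
  have a1 := Finset.sum_union_inter (s₁ := Y) (s₂ := Z) (f := xi ends w d)
  have a2 := Finset.sum_inter_add_sum_sdiff Y Z (xi ends w d)
  have a3 := Finset.sum_inter_add_sum_sdiff Z Y (xi ends w d)
  rw [Finset.inter_comm Z Y] at a3
  -- BI instances
  have bu : ∀ S : Finset V, 2 * ∑ v ∈ S, xi ends w d v ≤ (cut ends S : ℤ) * K := fun S => by
    have := hBI S
    have h := le_abs_self (∑ v ∈ S, xi ends w d v)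
    linarith
  have bl : ∀ S : Finset V, -((cut ends S : ℤ) * K) ≤ 2 * ∑ v ∈ S, xi ends w d v := fun S => by
    have := hBI S
    have h := neg_abs_le (∑ v ∈ S, xi ends w d v)
    linarith
  -- edge inequalities
  have eu : (cut ends (Y ∪ Z) : ℤ) - (cut ends Z : ℤ) + (cut ends (Y ∩ Z) : ℤ) + 2 * T -
      (cut ends Y : ℤ) ≤ 0 := by
    rw [cut_eq_sum, cut_eq_sum, cut_eq_sum, cut_eq_sum, hT, Finset.mul_sum,
      ← Finset.sum_sub_distrib, ← Finset.sum_add_distrib, ← Finset.sum_add_distrib,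
      ← Finset.sum_sub_distrib]
    exact Finset.sum_nonpos fun e _ => edge_upper Y Z (ends e).1 (ends e).2
  have el : 0 ≤ (cut ends Z : ℤ) - (cut ends (Z \ Y) : ℤ) - (cut ends (Y \ Z) : ℤ) + 2 * T +
      (cut ends Y : ℤ) := by
    rw [cut_eq_sum, cut_eq_sum, cut_eq_sum, cut_eq_sum, hT, Finset.mul_sum,
      ← Finset.sum_sub_distrib, ← Finset.sum_sub_distrib, ← Finset.sum_add_distrib,
      ← Finset.sum_add_distrib]
    exact Finset.sum_nonneg fun e _ => edge_lower Y Z (ends e).1 (ends e).2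
  have eu' := mul_nonneg hK.le (neg_nonneg.mpr eu)
  have el' := mul_nonneg hK.le el
  rw [show (2 : ℤ) * |∑ v ∈ Y, xi ends w d v + K * T| = |2 * (∑ v ∈ Y, xi ends w d v + K * T)| by
    rw [abs_mul, abs_two], abs_le]
  have u1 := bu (Y ∪ Z)
  have u2 := bu (Y ∩ Z)
  have l1 := bu (Z \ Y)
  have l2 := bl (Y \ Z)
  constructor
  · nlinarith
  · nlinarith

end Groth.Agent.S17179
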