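import Groth.Statements.S17181
-- import your own Groth.Agent.* helpers here

set_option autoImplicit false
universe u
open CategoryTheory CategoryTheory.Limits AlgebraicGeometry
open FBase

namespace Groth.Agent.S17181

/-- Lemma F' -/
theorem irreducibleSpace_pullback_of_point' {X C : Scheme.{u}} (f : X ⟶ C) {L : Type u} [Field L]
    (c : C) (φ : C.residueField c ⟶ .of L)
    [GeometricallyIrreducible (f.fiberToSpecResidueField c)] :
    IrreducibleSpace ↥(pullback f (Spec.map φ ≫ C.fromSpecResidueField c)) := by
  have h := (GeometricallyIrreducible.geometrically_irreducibleSpace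
    (f := f.fiberToSpecResidueField c))
  have := pullback_of_geometrically h L (Spec.map φ)
  rw [← (pullbackLeftPullbackSndIso f (C.fromSpecResidueField c)
    (Spec.map φ)).hom.homeomorph.irreducibleSpace_iff]
  exact this

/-- Lemma F -/
theorem irreducibleSpace_pullback_of_point {X C : Scheme.{u}} (f : X ⟶ C) {L : Type u} [Field L]
    (y : Spec (.of L) ⟶ C) (c : C) (z : Spec (.of L)) (hc : y z = c)
    [GeometricallyIrreducible (f.fiberToSpecResidueField c)] :
    IrreducibleSpace ↥(pullback f y) := by
  obtain ⟨⟨c', φ⟩, hy⟩ := (Scheme.SpecToEquivOfField _ _).symm.surjective y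
  have hy' : y = Spec.map φ ≫ C.fromSpecResidueField c' := by
    rw [← hy]; rfl
  subst hy'
  obtain rfl : c' = c := by
    rw [← hc, Scheme.Hom.comp_apply, Scheme.fromSpecResidueField_apply]
  exact irreducibleSpace_pullback_of_point' f c' φ

theorem irreducibleSpace_of_flat_of_genericFibre {X C : Scheme.{u}} (f : X ⟶ C) [Flat f]
    [IrreducibleSpace C] [IrreducibleSpace (f.fiber (genericPoint C))] : IrreducibleSpace X := by
  have hgen : GeneralizingMap f := Flat.generalizingMap f
  have hirr : IsIrreducible (Set.range (f.fiberι (genericPoint C))) := by
    rw [← Set.image_univ]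
    exact (IrreducibleSpace.isIrreducible_univ _).image _ (f.fiberι _).continuous.continuousOn
  have hcl : closure (Set.range (f.fiberι (genericPoint C))) = Set.univ := by
    rw [Set.eq_univ_iff_forall]
    intro x
    have h1 : genericPoint C ⤳ f x := (genericPoint_spec C).specializes (by simp)
    obtain ⟨x', hx', hfx'⟩ := hgen h1
    refine hx'.mem_closed isClosed_closure (subset_closure ?_)
    rw [Scheme.Hom.range_fiberι]
    exact hfx'
  rw [irreducibleSpace_def, Set.top_eq_univ, ← hcl]
  exact hirr.closure

/-- Let k be a field, C an irreducible k-scheme which is geometrically irreducible over k, and f : X → C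
a flat k-morphism locally of finite type with X irreducible. If the generic fibre of f is
geometrically irreducible over the residue field of the generic point of C, then X is geometrically
irreducible over k. (The published setting is a regular proper surface mapping onto a smooth
projective geometrically irreducible curve with smooth projective geometrically irreducible generic
fibre; the printed argument uses only the hypotheses kept here.) -/
theorem result (k : Type u) [Field k]
    (X C : Scheme.{u}) [X.Over (Spec (CommRingCat.of k))] [C.Over (Spec (CommRingCat.of k))]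
    (f : X ⟶ C) [f.IsOver (Spec (CommRingCat.of k))] [IrreducibleSpace X] [IrreducibleSpace C]
    [GeometricallyIrreducible (C ↘ Spec (CommRingCat.of k))] [Flat f] [LocallyOfFiniteType f]
    [GeometricallyIrreducible (f.fiberToSpecResidueField (genericPoint C))] :
    GeometricallyIrreducible (X ↘ Spec (CommRingCat.of k)) := by
  rw [geometricallyIrreducible_iff, geometrically_iff_of_isClosedUnderIsomorphisms]
  intro K _ x
  have hcomp : f ≫ (C ↘ Spec (CommRingCat.of k)) = X ↘ Spec (CommRingCat.of k) :=
    comp_over f _
  have hCK : IrreducibleSpace ↥(pullback (C ↘ Spec (.of k)) x) :=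
    pullback_of_geometrically (GeometricallyIrreducible.geometrically_irreducibleSpace) K x
  have hx : Surjective x := ⟨fun y => ⟨Classical.arbitrary _, Subsingleton.elim _ _⟩⟩
  have hg : Surjective (pullback.fst (C ↘ Spec (.of k)) x) := inferInstance
  rw [← hcomp, ← (pullbackRightPullbackFstIso (C ↘ Spec (.of k)) x
    f).hom.homeomorph.irreducibleSpace_iff]
  have hη : (pullback.fst (C ↘ Spec (.of k)) x) (genericPoint _) = genericPoint C := by
    refine IsGenericPoint.eq ?_ (genericPoint_spec C)
    rw [isGenericPoint_def, Set.eq_univ_iff_forall]
    intro c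
    obtain ⟨c', rfl⟩ := (pullback.fst (C ↘ Spec (.of k)) x).surjective c
    have h1 : genericPoint _ ⤳ c' := (genericPoint_spec _).specializes (by simp)
    exact (h1.map (pullback.fst (C ↘ Spec (.of k)) x).continuous).mem_closed isClosed_closure
      (subset_closure rfl)
  have hfl : Flat (pullback.snd f (pullback.fst (C ↘ Spec (.of k)) x)) := inferInstance
  have : IrreducibleSpace ((pullback.snd f (pullback.fst (C ↘ Spec (.of k)) x)).fiber
      (genericPoint _)) := by
    unfold Scheme.Hom.fiber
    rw [(pullbackLeftPullbackSndIso f (pullback.fst (C ↘ Spec (.of k)) x)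
      (Scheme.fromSpecResidueField _ (genericPoint _))).hom.homeomorph.irreducibleSpace_iff]
    refine irreducibleSpace_pullback_of_point f _ (genericPoint C) (Classical.arbitrary _) ?_
    refine Eq.trans ?_ hη
    exact congrArg (pullback.fst (C ↘ Spec (.of k)) x) (Scheme.fromSpecResidueField_apply _ _)
  exact irreducibleSpace_of_flat_of_genericFibre (pullback.snd f (pullback.fst (C ↘ Spec (.of k)) x))

end Groth.Agent.S17181
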