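import Groth.Statements.S1719
import Groth.Agent.S0364
import Groth.Agent.S1722
import Groth.Agent.Lib.Helper6.LocDual2
import Groth.Agent.Lib.Helper6.DimFun

set_option autoImplicit false
universe u
open CategoryTheory
attribute [local instance] HasDerivedCategory.standard
open Dual

namespace Groth.Agent.S1719

/-- Let A be a Noetherian local ring with a normalized dualizing complex ω and p a minimal prime of A
with dim(A/p) = e. Then the cohomology module H^i(ω) localized at p is nonzero if and only if i =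
−e. -/
theorem result (A : Type u) [CommRing A] [IsLocalRing A] [IsNoetherianRing A] (ω : Dual.D A) (hω : Dual.IsDualizing A ω) (hn : Dual.IsNormalized A ω) (p : Ideal A) (hp : p ∈ minimalPrimes A) (e : ℕ) (he : ringKrullDim (A ⧸ p) = e) (i : ℤ) : Nontrivial (LocalizedModule (Ideal.primeCompl p (hp := hp.1.1)) (Dual.HD A ω i)) ↔ i = -(e : ℤ) := by
  classical
  haveI : p.IsPrime := hp.1.1
  let P : PrimeSpectrum A := ⟨p, hp.1.1⟩
  obtain ⟨δ, hδ1, hδ2⟩ := Groth.Agent.S1722.result A ω hω
  -- δ ⊤ = 0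
  have htop : δ ⊤ = 0 := by
    by_contra hne
    have hnt := (hδ1 ⊤ (-δ ⊤)).2 rfl
    have hs : Subsingleton (Dual.inD A (A ⧸ (⊤ : PrimeSpectrum A).asIdeal) ⟶ ω⟦-δ ⊤⟧) :=
      hn (-δ ⊤) (by omega)
    have hs' : Subsingleton (LocalizedModule (⊤ : PrimeSpectrum A).asIdeal.primeCompl
        (Dual.inD A (A ⧸ (⊤ : PrimeSpectrum A).asIdeal) ⟶ ω⟦-δ ⊤⟧)) := by
      rw [LocalizedModule.subsingleton_iff]
      intro m
      exact ⟨1, Submonoid.one_mem _, by rw [Subsingleton.elim m 0, smul_zero]⟩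
    exact not_subsingleton _ hs'
  obtain ⟨n, hn1, hn2⟩ := Lib.Helper6.DimFun.exists_nat δ hδ2 P
  have hne : n = e := by
    have h1 : ((n : ℕ) : WithBot ℕ∞) = (e : WithBot ℕ∞) := hn1.symm.trans he
    exact_mod_cast h1
  subst hne
  have hδP : δ P = n := by rw [hn2, htop, zero_add]
  -- the degree from `S0364`
  obtain ⟨k, hk1, hk2⟩ := Groth.Agent.S0364.result (Localization.AtPrime p)
    (Lib.Helper6.LocDual.Gat p ω) (Lib.Helper6.LocDual.isDualizing_Gat p ω hω)
    (IsLocalRing.maximalIdeal (Localization.AtPrime p))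
  have hk : k = -δ P := by
    by_contra hne
    have hnt := (hδ1 P (-δ P)).2 rfl
    obtain ⟨e1⟩ := Lib.Helper6.LocDual.nonempty_locHomEquiv_residue ω hω p (-δ P)
    have := hk1 (-δ P) (fun h => hne h.symm)
    have hs : Subsingleton (LocalizedModule p.primeCompl (Dual.inD A (A ⧸ p) ⟶ ω⟦-δ P⟧)) :=
      e1.subsingleton
    exact not_subsingleton _ hs
  rw [Lib.Helper6.LocDual.minimalPrime_HD_nontrivial_iff ω hω p hp k hk1 i, hk, hδP]

end Groth.Agent.S1719
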