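import Groth.Statements.S1720
import Groth.Agent.S0332
import Groth.Agent.S1777
import Groth.Agent.Lib.Helper35.CdDual
import Groth.Agent.Lib.Helper35.CdDualB
import Groth.Agent.Lib.Helper35.NilTA
import Groth.Agent.Lib.Helper29.CplFlat

set_option autoImplicit false
universe u
open CategoryTheory
attribute [local instance] HasDerivedCategory.standard
open LocCoh

namespace Groth.Agent.S1720

open IsLocalRing

/-- if every prime containing `K` is the maximal ideal, a power of the maximal ideal lies in `K` -/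
theorem exists_pow_le_of_not_one_le {C : Type u} [CommRing C] [IsLocalRing C] [IsNoetherianRing C]
    (K : Ideal C) (hK : K ≠ ⊤) (h : ¬ (1 : WithBot ℕ∞) ≤ ringKrullDim (C ⧸ K)) :
    ∃ N : ℕ, maximalIdeal C ^ N ≤ K := by
  have hall : ∀ Q : PrimeSpectrum C, K ≤ Q.asIdeal → Q.asIdeal = maximalIdeal C := by
    intro Q hQ
    by_contra hne
    apply h
    have hlt : Q.asIdeal < maximalIdeal C :=
      lt_of_le_of_ne (IsLocalRing.le_maximalIdeal Q.2.ne_top) hne
    have hmK : K ≤ maximalIdeal C := IsLocalRing.le_maximalIdeal hK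
    rw [ringKrullDim_quotient]
    let x0 : PrimeSpectrum.zeroLocus (K : Set C) := ⟨Q, hQ⟩
    let x1 : PrimeSpectrum.zeroLocus (K : Set C) := ⟨IsLocalRing.closedPoint _, hmK⟩
    have hx : x0 < x1 := hlt
    let s : LTSeries (PrimeSpectrum.zeroLocus (K : Set C)) :=
      RelSeries.fromListIsChain [x0, x1] (by simp) (by simp [hx])
    have := Order.LTSeries.length_le_krullDim s
    have hl : s.length = 1 := by simp [s]
    rw [hl] at this
    exact_mod_cast this
  have hrad : K.radical = maximalIdeal C := by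
    rw [Ideal.radical_eq_sInf]
    apply le_antisymm
    · exact sInf_le ⟨IsLocalRing.le_maximalIdeal hK, inferInstance⟩
    · refine le_sInf ?_
      rintro Q ⟨hKQ, hQ⟩
      rw [← hall ⟨Q, hQ⟩ hKQ]
  obtain ⟨N, hN⟩ := Ideal.exists_radical_pow_le_of_fg K
    ((isNoetherianRing_iff_ideal_fg C).1 inferInstance _)
  exact ⟨N, by rw [← hrad]; exact hN⟩


/-- Let A be a Noetherian local ring with a normalized dualizing complex ω and I an ideal. If the
degree-0 local cohomology of ω with support in I is zero, then the cohomological dimension of I is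
less than dim A: for every A-module M, H^i_I(M) = 0 for all i ≥ dim A. -/
theorem result (A : Type u) [CommRing A] [IsLocalRing A] [IsNoetherianRing A] (ω : Dual.D A) (hω : Dual.IsDualizing A ω) (hn : Dual.IsNormalized A ω) (I : Ideal A) (h0 : Subsingleton (Dual2.HDI A I ω 0)) (M : Type u) [AddCommGroup M] [Module A M] (i : ℕ) (hi : ringKrullDim A ≤ (i : WithBot ℕ∞)) : Subsingleton (LocCoh.H I i M) := by
  by_cases hI : I = ⊤
  · subst hI
    refine ⟨fun x y => ?_⟩
    have key : ∀ z : LocCoh.H (⊤ : Ideal A) i M, z = 0 := by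
      intro z
      obtain ⟨n, hn⟩ := Groth.Agent.Lib.Helper60.lc_isPowerTorsion (⊤ : Ideal A) i
        (ModuleCat.of A M) z
      have := hn 1 (by rw [Ideal.top_pow]; trivial)
      rwa [one_smul] at this
    rw [key x, key y]
  obtain ⟨d, hd⟩ : ∃ d : ℕ, ringKrullDim A = d := by
    rw [← IsLocalRing.maximalIdeal_height_eq_ringKrullDim]
    have hne : (maximalIdeal A).height ≠ ⊤ := Ideal.height_ne_top_of_isPrime
    obtain ⟨n, hn⟩ := ENat.ne_top_iff_exists.mp hne
    exact ⟨n, by rw [← hn]; rfl⟩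
  have hmtop : maximalIdeal A ≠ ⊤ := Ideal.IsPrime.ne_top inferInstance
  haveI : IsLocalRing (EGA4.Cpl A) := Groth.Agent.Lib.Helper29.isLocalRing_cpl A
  haveI : IsNoetherianRing (EGA4.Cpl A) := Groth.Agent.Lib.Helper29.isNoetherianRing_cpl A
  haveI : IsLocalHom (algebraMap A (EGA4.Cpl A)) :=
    Groth.Agent.Lib.Helper29.isLocalHom_algebraMap_adicCompletion A (maximalIdeal A) hmtop
  have hm : (maximalIdeal A).map (algebraMap A (EGA4.Cpl A)) = maximalIdeal (EGA4.Cpl A) :=
    (Groth.Agent.Lib.Helper29.maximalIdeal_adicCompletion_eq_map A (maximalIdeal A) hmtop).symm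
  let φ : A →+* EGA4.Cpl A := algebraMap A (EGA4.Cpl A)
  haveI : DRing.HasLBaseChange φ := Groth.Agent.Lib.Helper35.TA.hasLBaseChange φ
  haveI : DRing.HasRgammaI I := Groth.Agent.Lib.Helper35.LD.hasRgammaI I
  haveI : DRing.HasRgammaI (I.map φ) := Groth.Agent.Lib.Helper35.LD.hasRgammaI _
  have hφ : φ.Flat := RingHom.flat_algebraMap_iff.mpr inferInstance
  obtain ⟨hωC, hnC⟩ := Groth.Agent.S1777.result A (EGA4.Cpl A) hm ω hω hn
  have hC0 := Groth.Agent.Lib.Helper35.CdDualB.subsingleton_HDI_lbc φ I hφ ω 0 h0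
  have hJtop : I.map φ ≠ ⊤ := by
    intro htop
    have h1 : I.map φ ≤ maximalIdeal (EGA4.Cpl A) := by
      rw [← hm]
      exact Ideal.map_mono (IsLocalRing.le_maximalIdeal hI)
    rw [htop] at h1
    exact (Ideal.IsPrime.ne_top inferInstance) (top_le_iff.mp h1)
  refine Groth.Agent.S0332.result A I d hd ?_ M i (by rw [hd] at hi; exact_mod_cast hi)
  intro P hP _
  by_contra hlt
  have hKtop : I.map φ ⊔ P ≠ ⊤ := by
    intro htop
    have h1 : I.map φ ⊔ P ≤ maximalIdeal (EGA4.Cpl A) :=
      sup_le (IsLocalRing.le_maximalIdeal hJtop) (IsLocalRing.le_maximalIdeal hP.1.1.ne_top)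
    rw [htop] at h1
    exact (Ideal.IsPrime.ne_top inferInstance) (top_le_iff.mp h1)
  obtain ⟨N, hN⟩ := exists_pow_le_of_not_one_le (I.map φ ⊔ P) hKtop hlt
  exact Groth.Agent.Lib.Helper35.CdDual.not_subsingleton_HDI_of_minimalPrime
    ((DRing.LBaseChange φ).obj ω) hωC hnC (I.map φ) P hP N hN hJtop hC0

end Groth.Agent.S1720
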