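import Groth.Statements.S1776
import Groth.Agent.Lib.Helper6.InjDimMax7

set_option autoImplicit false
universe u
open CategoryTheory
attribute [local instance] HasDerivedCategory.standard
open scoped Polynomial
open Dual

namespace Groth.Agent.S1776

/-- Let A be a Noetherian ring with a dualizing complex ω. Assuming the derived base change functor D(A)
→ D(A[x]) exists, the derived base change of ω to the polynomial ring A[x] is a dualizing complex
for A[x]. -/
theorem result (A : Type u) [CommRing A] [IsNoetherianRing A] [DRing.HasLBaseChange (algebraMap A A[X])] (ω : Dual.D A) (hω : Dual.IsDualizing A ω) : Dual.IsDualizing A[X] ((DRing.LBaseChange (algebraMap A A[X])).obj ω) := by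
  have hflat : Module.Flat A A[X] := inferInstance
  have hN : IsNoetherianRing A[X] := inferInstance
  have hG := Lib.Helper6.InjDimMax.isDualizing_G_of_ses (B := A[X]) ω hω
    (fun n hn => Lib.Helper6.InjDimMax.exists_ses_polynomial A n hn)
  exact Lib.Helper6.HomBC.isDualizing_of_iso
    ((Lib.Helper6.HomBC.lbcIsoG A A[X]).app ω).symm hG

end Groth.Agent.S1776
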