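import Groth.Statements.S1721
import Groth.Agent.S1722
import Groth.Agent.S1776
import Groth.Agent.Lib.Helper35.NilTA
import Groth.Agent.Lib.Helper29.DimFunCatenary

set_option autoImplicit false
universe u
open CategoryTheory
attribute [local instance] HasDerivedCategory.standard
open Dual

namespace Groth.Agent.S1721

/-- A Noetherian ring admitting a dualizing complex is universally catenary. (Finiteness of the
dimension is a separate, earlier result.) -/
theorem result (A : Type u) [CommRing A] [IsNoetherianRing A] (ω : Dual.D A) (hω : Dual.IsDualizing A ω) : CAlg.IsUniversallyCatenary A := by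
  open Groth.Agent.Lib.Helper29 in
  refine isUniversallyCatenary_of_stable_polynomial
    (fun B _ => ∃ (_ : IsNoetherianRing B) (ω : Dual.D B), Dual.IsDualizing B ω)
    ?_ ?_ ?_ A ⟨inferInstance, ω, hω⟩
  · rintro B _ ⟨_, ω', hω'⟩
    obtain ⟨δ, -, hδ⟩ := Groth.Agent.S1722.result B ω' hω'
    exact isCatenary_of_dimFun B δ hδ
  · rintro B _ ⟨h, -⟩
    exact h
  · rintro B _ ⟨_, ω', hω'⟩
    have : DRing.HasLBaseChange (algebraMap B (Polynomial B)) :=
      Groth.Agent.Lib.Helper35.TA.hasLBaseChange _
    exact ⟨inferInstance, _, Groth.Agent.S1776.result B ω' hω'⟩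

end Groth.Agent.S1721
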