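import Groth.Statements.S17241
import Groth.Agent.Lib.Helper88.PolarDiff3

set_option autoImplicit false
open W4c4effdivwronsk2

namespace Groth.Agent.S17241

open Polynomial in
/-- Let `k` be a field of characteristic zero and take, on the projective line over `k`, the point `∞`
and `m` further distinct points `r_1, …, r_m` of the affine line, with positive integers `b` (at
`∞`) and `a_1, …, a_m`; put `N = b + ∑ a_j`. The sum of the spaces of differentials with a single
pole, of order at most `b + 1` at `∞`, resp. at most `a_j + 1` at `r_j`, `V = H⁰(ω((b+1)∞)) + ∑_j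
H⁰(ω((a_j+1)r_j)) ⊆ H⁰(ω((b+1)∞ + ∑_j (a_j+1)r_j)) ≅ H⁰(O(d))`, `d = b - 1 + ∑ (a_j+1)`, becomes,
after multiplying by `dX⁻¹ ∏_j (X - r_j)^(a_j+1)`, the subspace of `k[X]_{≤ d}` spanned by
`D·k[X]_{<b}` and the `D_i·k[X]_{<a_i}`, where `D = ∏_j (X - r_j)^(a_j+1)` and `D_i` omits the
`i`-th factor; a member `h` vanishes to order `n` at a point `q` of the affine line when `(X - q)^n
∣ h`, and to order `d - deg h` at `∞`. Then `dim V = N`, and at each marked point the vanishing
orders of the members of `V` are `0, …, e - 1, e + 1, …, N`, where `e = a_i` at `r_i` and `e = b` at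
`∞`: the subspace vanishing to order at least `n` there has dimension `N - n` for `n ≤ e` and `N + 1
- n` for `n > e` (so the weight at `r_i` is `∑_{j ≠ i} a_j + b`). (The published statement is over
the complex numbers, with all marked points arbitrary; one of them is placed at `∞` here.) -/
theorem result
    (k : Type*) [Field k] [CharZero k] (m : ℕ) (r : Fin m → k) (hr : Function.Injective r)
    (a : Fin m → ℕ) (ha : ∀ j, 1 ≤ a j) (b : ℕ) (hb : 1 ≤ b) (N d : ℕ)
    (hN : N = (∑ j, a j) + b) (hd : d + 1 = (∑ j, (a j + 1)) + b)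
    (V : Submodule k (Polynomial k))
    (hV : V = (Polynomial.degreeLT k b).map (LinearMap.mulLeft k (∏ j, (X - C (r j)) ^ (a j + 1))) ⊔
      ⨆ i, (Polynomial.degreeLT k (a i)).map
        (LinearMap.mulLeft k (∏ j ∈ Finset.univ.erase i, (X - C (r j)) ^ (a j + 1)))) :
    Module.finrank k ↥V = N ∧
    (∀ (i : Fin m) (n : ℕ), Module.finrank k ↥(V ⊓ (Ideal.span {(X - C (r i)) ^ n}).restrictScalars k) =
        if n ≤ a i then N - n else N + 1 - n) ∧
    (∀ n : ℕ, Module.finrank k ↥(V ⊓ Polynomial.degreeLT k (d + 1 - n)) =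
        if n ≤ b then N - n else N + 1 - n) := by
  classical
  have hA : ∑ j ∈ Finset.univ, a j < N + 1 := by omega
  have hVeq : V = (Polynomial.degreeLT k (N + 1)).map
      (Groth.Agent.Lib.Helper88.pdPhi r a Finset.univ) := by
    rw [hV]
    have h1 := Groth.Agent.Lib.Helper88.pd_span_eq r a hr b
    have e : (∑ j, a j) + b + 1 = N + 1 := by omega
    rw [e] at h1
    exact h1
  have hcard : (Finset.univ : Finset (Fin m)).card = m := by simp
  have hd' : d + 1 = (∑ j, a j) + m + b := by
    rw [hd, Finset.sum_add_distrib]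
    simp
  refine ⟨?_, ?_, ?_⟩
  · rw [hVeq]
    have := Groth.Agent.Lib.Helper88.finrank_map_pdPhi_degreeLT r a Finset.univ (N + 1) hA
    omega
  · intro i n
    rw [hVeq, Groth.Agent.Lib.Helper88.finrank_pd_inf_span_pow_marked r a (Finset.mem_univ i)
      (fun j _ hji => hr.ne hji.symm) (N + 1) n hA]
    simp
  · intro n
    rw [hVeq]
    by_cases hn : n ≤ N
    · have e : d + 1 - n = (N + 1 - n) + (Finset.univ : Finset (Fin m)).card - 1 := by
        rw [hcard]; omega
      rw [e, Groth.Agent.Lib.Helper88.finrank_pd_inf_degreeLT r a Finset.univ (N + 1) (N + 1 - n)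
        (by omega)]
      split_ifs <;> omega
    · have hle : (Polynomial.degreeLT k (N + 1)).map
          (Groth.Agent.Lib.Helper88.pdPhi r a Finset.univ) ⊓ Polynomial.degreeLT k (d + 1 - n) ≤
          (Polynomial.degreeLT k (N + 1)).map
            (Groth.Agent.Lib.Helper88.pdPhi r a Finset.univ) ⊓
            Polynomial.degreeLT k (0 + (Finset.univ : Finset (Fin m)).card - 1) :=
        inf_le_inf_left _ (Polynomial.degreeLT_mono (by rw [hcard]; omega))
      rw [Groth.Agent.Lib.Helper88.pd_inf_degreeLT_eq r a Finset.univ (N + 1) 0 (by omega)] at hle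
      have h0 : (Polynomial.degreeLT k 0).map
          (Groth.Agent.Lib.Helper88.pdPhi r a Finset.univ) = ⊥ := by
        rw [eq_bot_iff]
        rintro _ ⟨P, hP, rfl⟩
        have hP' : P ∈ Polynomial.degreeLT k 0 := hP
        have hP0 : P = 0 := by
          rw [Groth.Agent.Lib.Helper88.mem_degreeLT_iff_natDegree] at hP'
          rcases hP' with hP' | hP'
          · exact hP'
          · omega
        rw [hP0, map_zero]
        exact Submodule.zero_mem _
      rw [h0, le_bot_iff] at hle
      rw [hle, finrank_bot]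
      split_ifs <;> omega

end Groth.Agent.S17241
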