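import Groth.Statements.S17243
import Groth.Agent.Lib.Helper88.PolarDiff2

set_option autoImplicit false
open W4c4effdivwronsk2

namespace Groth.Agent.S17243

open Polynomial in
/-- Let `k` be a field of characteristic zero and take, on the projective line over `k`, the point `∞`
and `m` further distinct points `r_1, …, r_m` of the affine line, with positive integers `b` (at
`∞`) and `a_1, …, a_m`; put `N = b + ∑ a_j`. The sum of the spaces of differentials with a single
pole, of order at most `b + 1` at `∞`, resp. at most `a_j + 1` at `r_j`, `V = H⁰(ω((b+1)∞)) + ∑_j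
H⁰(ω((a_j+1)r_j)) ⊆ H⁰(ω((b+1)∞ + ∑_j (a_j+1)r_j)) ≅ H⁰(O(d))`, `d = b - 1 + ∑ (a_j+1)`, becomes,
after multiplying by `dX⁻¹ ∏_j (X - r_j)^(a_j+1)`, the subspace of `k[X]_{≤ d}` spanned by
`D·k[X]_{<b}` and the `D_i·k[X]_{<a_i}`, where `D = ∏_j (X - r_j)^(a_j+1)` and `D_i` omits the
`i`-th factor; a member `h` vanishes to order `n` at a point `q` of the affine line when `(X - q)^n
∣ h`, and to order `d - deg h` at `∞`. Let `V₁ ⊆ V` be a hyperplane (`dim V₁ = N - 1`) containing
`H⁰(ω((b-1)∞)) + ∑_j H⁰(ω((a_j+1)r_j))`, i.e. containing `D·k[X]_{<b-2}` and every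
`D_i·k[X]_{<a_i}`. Then `V₁` has at most one ramification point off the marked points, and that
point is simple: at every point `q` of the affine line other than the `r_j` the weight of `V₁` is at
most one (no nonzero member divisible by `(X - q)^N`, at most a line of members divisible by `(X -
q)^(N-2)`), and at most one such `q` has positive weight (a nonzero member divisible by `(X -
q)^(N-1)`). (The published statement is over the complex numbers with the distinguished marked point
arbitrary; it is placed at `∞` here, so that the unmarked points are the points of the affine line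
other than the `r_j`.) -/
theorem result
    (k : Type*) [Field k] [CharZero k] (m : ℕ) (r : Fin m → k) (hr : Function.Injective r)
    (a : Fin m → ℕ) (ha : ∀ j, 1 ≤ a j) (b : ℕ) (hb : 1 ≤ b) (N d : ℕ)
    (hN : N = (∑ j, a j) + b) (hd : d + 1 = (∑ j, (a j + 1)) + b)
    (V : Submodule k (Polynomial k))
    (hV : V = (Polynomial.degreeLT k b).map (LinearMap.mulLeft k (∏ j, (X - C (r j)) ^ (a j + 1))) ⊔
      ⨆ i, (Polynomial.degreeLT k (a i)).map
        (LinearMap.mulLeft k (∏ j ∈ Finset.univ.erase i, (X - C (r j)) ^ (a j + 1))))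
    (V₁ : Submodule k (Polynomial k)) (hV₁ : V₁ ≤ V) (hfin : Module.finrank k ↥V₁ + 1 = N)
    (hU : (Polynomial.degreeLT k (b - 2)).map (LinearMap.mulLeft k (∏ j, (X - C (r j)) ^ (a j + 1))) ⊔
      (⨆ i, (Polynomial.degreeLT k (a i)).map
        (LinearMap.mulLeft k (∏ j ∈ Finset.univ.erase i, (X - C (r j)) ^ (a j + 1)))) ≤ V₁) :
    (∀ q : k, (∀ j, q ≠ r j) →
      (V₁ ⊓ (Ideal.span {(X - C q) ^ N}).restrictScalars k) = ⊥ ∧
      Module.finrank k ↥(V₁ ⊓ (Ideal.span {(X - C q) ^ (N - 2)}).restrictScalars k) ≤ 1) ∧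
    (∀ q q' : k, (∀ j, q ≠ r j) → (∀ j, q' ≠ r j) →
      (V₁ ⊓ (Ideal.span {(X - C q) ^ (N - 1)}).restrictScalars k) ≠ ⊥ →
      (V₁ ⊓ (Ideal.span {(X - C q') ^ (N - 1)}).restrictScalars k) ≠ ⊥ → q = q') := by
  classical
  obtain ⟨M, hM⟩ : ∃ M, N = M + 1 := ⟨N - 1, by omega⟩
  subst hM
  have hA : ∑ j ∈ Finset.univ, a j < M + 2 := by omega
  have hVeq : V = (Polynomial.degreeLT k (M + 2)).map
      (Groth.Agent.Lib.Helper88.pdPhi r a Finset.univ) := by
    rw [hV]
    have h1 := Groth.Agent.Lib.Helper88.pd_span_eq r a hr b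
    have e : (∑ j, a j) + b + 1 = M + 2 := by omega
    rw [e] at h1
    exact h1
  have hUle : (Polynomial.degreeLT k M).map (Groth.Agent.Lib.Helper88.pdPhi r a Finset.univ) ≤
      V₁ := by
    refine le_trans ?_ hU
    have h1 := Groth.Agent.Lib.Helper88.pd_span_eq r a hr (b - 2)
    refine le_trans ?_ (le_of_eq h1.symm)
    exact Submodule.map_mono (Polynomial.degreeLT_mono (by omega))
  have hV₁' : V₁ ≤ (Polynomial.degreeLT k (M + 2)).map
      (Groth.Agent.Lib.Helper88.pdPhi r a Finset.univ) := hVeq ▸ hV₁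
  have hfinV₁ : FiniteDimensional k V₁ := Submodule.finiteDimensional_of_le hV₁'
  have hfin' : Module.finrank k V₁ = M := by omega
  refine ⟨fun q hq => ⟨?_, ?_⟩, fun q q' hq hq' hne hne' => ?_⟩
  · rw [eq_bot_iff]
    refine le_trans (inf_le_inf_right _ hV₁') ?_
    rw [Groth.Agent.Lib.Helper88.pd_inf_span_pow_eq_bot r a Finset.univ q (fun j _ => hq j)
      (M + 2) hA (M + 1) (by omega)]
  · rcases Nat.lt_or_ge M 2 with hM2 | hM2
    · calc Module.finrank k ↥(V₁ ⊓ (Ideal.span {(X - C q) ^ (M + 1 - 2)}).restrictScalars k)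
          ≤ Module.finrank k V₁ := Submodule.finrank_mono inf_le_left
        _ = M := hfin'
        _ ≤ 1 := by omega
    · obtain ⟨M', rfl⟩ : ∃ M', M = M' + 1 := ⟨M - 1, by omega⟩
      have e : M' + 1 + 1 - 2 = M' := by omega
      rw [e]
      have hle : V₁ ⊓ (Ideal.span {(X - C q) ^ M'}).restrictScalars k ≤
          V₁ ⊓ ((Polynomial.degreeLT k 2).map
            (LinearMap.mulLeft k ((X - C q) ^ (M' + 1)))).map
              (Groth.Agent.Lib.Helper88.pdPhi r a Finset.univ) :=
        le_inf inf_le_left (le_trans (inf_le_inf_right _ hV₁')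
          (Groth.Agent.Lib.Helper88.pd_inf_span_pow_le r a Finset.univ q (fun j _ => hq j)
            (M' + 1 + 2) M' 2 hA (by omega)))
      by_contra hcon
      push Not at hcon
      have h2 := le_trans hcon (Submodule.finrank_mono hle)
      have h3 := Groth.Agent.Lib.Helper88.finrank_map_map_degreeLT_le r a Finset.univ
        ((X - C q) ^ (M' + 1)) 2
      have h4 := Submodule.eq_of_le_of_finrank_le (inf_le_right (a := V₁)
        (b := ((Polynomial.degreeLT k 2).map
            (LinearMap.mulLeft k ((X - C q) ^ (M' + 1)))).map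
              (Groth.Agent.Lib.Helper88.pdPhi r a Finset.univ))) (by omega)
      have h5 : ((Polynomial.degreeLT k 2).map
            (LinearMap.mulLeft k ((X - C q) ^ (M' + 1)))).map
              (Groth.Agent.Lib.Helper88.pdPhi r a Finset.univ) ≤ V₁ := by
        rw [← h4]; exact inf_le_left
      have hX : (X : Polynomial k) ∈ Polynomial.degreeLT k 2 := by
        rw [Groth.Agent.Lib.Helper88.mem_degreeLT_iff_natDegree]
        right; rw [Polynomial.natDegree_X]; norm_num
      have h1' : (1 : Polynomial k) ∈ Polynomial.degreeLT k 2 := by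
        rw [Groth.Agent.Lib.Helper88.mem_degreeLT_iff_natDegree]
        right; rw [Polynomial.natDegree_one]; norm_num
      exact Groth.Agent.Lib.Helper88.pd_hyperplane_absurd r a Finset.univ (M' + 1) hA V₁ hfin'
        hUle ((X - C q) ^ (M' + 1) * X) ((X - C q) ^ (M' + 1))
        (Groth.Agent.Lib.Helper88.X_sub_C_pow_mul_X_mem_degreeLT q (M' + 1))
        (by rw [Groth.Agent.Lib.Helper88.coeff_X_sub_C_pow_mul_X]; exact one_ne_zero)
        (Groth.Agent.Lib.Helper88.X_sub_C_pow_mem_degreeLT q (M' + 1))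
        (by rw [Groth.Agent.Lib.Helper88.coeff_X_sub_C_pow_self]; exact one_ne_zero)
        (h5 ⟨_, ⟨X, hX, rfl⟩, rfl⟩)
        (h5 ⟨_, ⟨1, h1', by simp⟩, rfl⟩)
  · by_contra hqq
    have e : M + 1 - 1 = M := by omega
    rw [e] at hne hne'
    have m1 := Groth.Agent.Lib.Helper88.pd_mem_of_inf_ne_bot r a Finset.univ q
      (fun j _ => hq j) M hA V₁ hV₁' hne
    have m2 := Groth.Agent.Lib.Helper88.pd_mem_of_inf_ne_bot r a Finset.univ q'
      (fun j _ => hq' j) M hA V₁ hV₁' hne'
    exact Groth.Agent.Lib.Helper88.pd_hyperplane_absurd r a Finset.univ M hA V₁ hfin' hUle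
      ((X - C q) ^ (M + 1)) ((X - C q) ^ (M + 1) - (X - C q') ^ (M + 1))
      (Groth.Agent.Lib.Helper88.X_sub_C_pow_mem_degreeLT q (M + 1))
      (by rw [Groth.Agent.Lib.Helper88.coeff_X_sub_C_pow_self]; exact one_ne_zero)
      (Groth.Agent.Lib.Helper88.X_sub_C_pow_sub_mem q q' M)
      (Groth.Agent.Lib.Helper88.coeff_X_sub_C_pow_sub q q' hqq M) m1
      (by rw [map_sub]; exact Submodule.sub_mem _ m1 m2)

end Groth.Agent.S17243
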