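import Groth.Statements.S17244
import Groth.Agent.Lib.Helper88.PolarDiff4

set_option autoImplicit false
open W4c4effdivwronsk2

namespace Groth.Agent.S17244

theorem sum_range_eq_of_zero (φ : ℕ → ℕ) (d N : ℕ)
    (h : ∀ n, min d N ≤ n → n < max d N → φ n = 0) :
    ∑ n ∈ Finset.range d, φ n = ∑ n ∈ Finset.range N, φ n := by
  rcases le_total d N with hdN | hdN
  · rw [← Finset.sum_range_add_sum_Ico φ hdN]
    have : ∑ n ∈ Finset.Ico d N, φ n = 0 := by
      refine Finset.sum_eq_zero fun n hn => ?_
      rw [Finset.mem_Ico] at hn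
      exact h n (by rw [min_eq_left hdN]; exact hn.1) (by rw [max_eq_right hdN]; exact hn.2)
    rw [this, add_zero]
  · rw [← Finset.sum_range_add_sum_Ico φ hdN]
    have : ∑ n ∈ Finset.Ico N d, φ n = 0 := by
      refine Finset.sum_eq_zero fun n hn => ?_
      rw [Finset.mem_Ico] at hn
      exact h n (by rw [min_eq_right hdN]; exact hn.1) (by rw [max_eq_left hdN]; exact hn.2)
    rw [this, add_zero]

open Polynomial in
/-- Let `k` be a field of characteristic zero and take, on the projective line over `k`, the point `∞`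
and `m` further distinct points `r_1, …, r_m` of the affine line, with positive integers `b` (at
`∞`) and `a_1, …, a_m`; put `N = b + ∑ a_j`. The sum of the spaces of differentials with a single
pole, of order at most `b + 1` at `∞`, resp. at most `a_j + 1` at `r_j`, `V = H⁰(ω((b+1)∞)) + ∑_j
H⁰(ω((a_j+1)r_j)) ⊆ H⁰(ω((b+1)∞ + ∑_j (a_j+1)r_j)) ≅ H⁰(O(d))`, `d = b - 1 + ∑ (a_j+1)`, becomes,
after multiplying by `dX⁻¹ ∏_j (X - r_j)^(a_j+1)`, the subspace of `k[X]_{≤ d}` spanned by
`D·k[X]_{<b}` and the `D_i·k[X]_{<a_i}`, where `D = ∏_j (X - r_j)^(a_j+1)` and `D_i` omits the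
`i`-th factor; a member `h` vanishes to order `n` at a point `q` of the affine line when `(X - q)^n
∣ h`, and to order `d - deg h` at `∞`. Let `V₁ ⊆ V` be a hyperplane (`dim V₁ = N - 1`) containing
`D·k[X]_{<b-2}` and every `D_i·k[X]_{<a_i}` (that is, containing `H⁰(ω((b-1)∞)) + ∑_j
H⁰(ω((a_j+1)r_j))`). The weight of `V₁` at a point is `∑_{n=1}^{d} dim V₁(-n·point) - (N-1 choose
2)` (the sum of the vanishing orders minus `0 + 1 + ⋯ + (N-2)`). Then the weight of `V₁` at `r_i` is
`∑_{j≠i} a_j + b - 1 + ε_i` and its weight at `∞` is `∑_j a_j + N - 2 + ε`, with `ε_i, ε ∈ {0, 1}`.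
(The published statement is over the complex numbers with the distinguished marked point arbitrary;
it is placed at `∞` here.) -/
theorem result
    (k : Type*) [Field k] [CharZero k] (m : ℕ) (r : Fin m → k) (hr : Function.Injective r)
    (a : Fin m → ℕ) (ha : ∀ j, 1 ≤ a j) (b : ℕ) (hb : 1 ≤ b) (N d : ℕ)
    (hN : N = (∑ j, a j) + b) (hd : d + 1 = (∑ j, (a j + 1)) + b)
    (V : Submodule k (Polynomial k))
    (hV : V = (Polynomial.degreeLT k b).map (LinearMap.mulLeft k (∏ j, (X - C (r j)) ^ (a j + 1))) ⊔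
      ⨆ i, (Polynomial.degreeLT k (a i)).map
        (LinearMap.mulLeft k (∏ j ∈ Finset.univ.erase i, (X - C (r j)) ^ (a j + 1))))
    (V₁ : Submodule k (Polynomial k)) (hV₁ : V₁ ≤ V) (hfin : Module.finrank k ↥V₁ + 1 = N)
    (hU : (Polynomial.degreeLT k (b - 2)).map (LinearMap.mulLeft k (∏ j, (X - C (r j)) ^ (a j + 1))) ⊔
      (⨆ i, (Polynomial.degreeLT k (a i)).map
        (LinearMap.mulLeft k (∏ j ∈ Finset.univ.erase i, (X - C (r j)) ^ (a j + 1)))) ≤ V₁) :
    (∀ i : Fin m, ∃ ε : ℕ, ε ≤ 1 ∧
      (∑ n ∈ Finset.range d, Module.finrank k ↥(V₁ ⊓ (Ideal.span {(X - C (r i)) ^ (n + 1)}).restrictScalars k)) + 1 =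
        (N - 1).choose 2 + (N - a i) + ε) ∧
    (∃ ε : ℕ, ε ≤ 1 ∧
      (∑ n ∈ Finset.range d, Module.finrank k ↥(V₁ ⊓ Polynomial.degreeLT k (d - n))) =
        (N - 1).choose 2 + (N - b) + (N - 2) + ε) := by
  classical
  obtain ⟨M, hM⟩ : ∃ M, N = M + 1 := ⟨N - 1, by omega⟩
  subst hM
  have hA : ∑ j ∈ Finset.univ, a j < M + 2 := by omega
  have hVeq : V = (Polynomial.degreeLT k (M + 1 + 1)).map
      (Groth.Agent.Lib.Helper88.pdPhi r a Finset.univ) := by
    rw [hV]
    have h1 := Groth.Agent.Lib.Helper88.pd_span_eq r a hr b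
    have e : (∑ j, a j) + b + 1 = M + 1 + 1 := by omega
    rw [e] at h1
    exact h1
  have hUle : (Polynomial.degreeLT k M).map (Groth.Agent.Lib.Helper88.pdPhi r a Finset.univ) ≤
      V₁ := by
    refine le_trans ?_ hU
    have h1 := Groth.Agent.Lib.Helper88.pd_span_eq r a hr (b - 2)
    refine le_trans ?_ (le_of_eq h1.symm)
    exact Submodule.map_mono (Polynomial.degreeLT_mono (by omega))
  have hV₁' : V₁ ≤ (Polynomial.degreeLT k (M + 1 + 1)).map
      (Groth.Agent.Lib.Helper88.pdPhi r a Finset.univ) := hVeq ▸ hV₁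
  have hfinV₁ : FiniteDimensional k V₁ := Submodule.finiteDimensional_of_le hV₁'
  have hfin' : Module.finrank k V₁ = M := by omega
  have hcard : (Finset.univ : Finset (Fin m)).card = m := by simp
  have hd' : d + 1 = (∑ j, a j) + m + b := by
    rw [hd, Finset.sum_add_distrib]
    simp
  refine ⟨fun i => ?_, ?_⟩
  · refine Groth.Agent.Lib.Helper88.pd_weight_marked r a (Finset.mem_univ i)
      (fun j _ hji => hr.ne hji.symm) (M + 1) d (by omega) (by omega) V₁ hV₁' hfin ?_
    have e : M + 1 - 1 = M := by omega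
    rw [e]
    by_cases h2 : Groth.Agent.Lib.Helper88.pdPhi r a Finset.univ ((X - C (r i)) ^ M) ∈ V₁
    · by_cases h1 : Groth.Agent.Lib.Helper88.pdPhi r a Finset.univ ((X - C (r i)) ^ M * X) ∈ V₁
      · exfalso
        exact Groth.Agent.Lib.Helper88.pd_hyperplane_absurd r a Finset.univ M hA V₁ hfin'
          hUle ((X - C (r i)) ^ M * X) ((X - C (r i)) ^ M)
          (Groth.Agent.Lib.Helper88.X_sub_C_pow_mul_X_mem_degreeLT (r i) M)
          (by rw [Groth.Agent.Lib.Helper88.coeff_X_sub_C_pow_mul_X]; exact one_ne_zero)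
          (Groth.Agent.Lib.Helper88.X_sub_C_pow_mem_degreeLT (r i) M)
          (by rw [Groth.Agent.Lib.Helper88.coeff_X_sub_C_pow_self]; exact one_ne_zero) h1 h2
      · exact ⟨(X - C (r i)) ^ M * X, Dvd.intro _ rfl,
          Groth.Agent.Lib.Helper88.X_sub_C_pow_mul_X_mem_degreeLT (r i) M, h1⟩
    · exact ⟨(X - C (r i)) ^ M, dvd_refl _,
        Polynomial.degreeLT_mono (by omega)
          (Groth.Agent.Lib.Helper88.X_sub_C_pow_mem_degreeLT (r i) M), h2⟩
  · -- weight at infinity
    have hG : ∀ n, Module.finrank k ↥((Polynomial.degreeLT k (M + 1 + 1)).map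
        (Groth.Agent.Lib.Helper88.pdPhi r a Finset.univ) ⊓ Polynomial.degreeLT k (d - n)) =
        if n + 1 ≤ b then M + 1 - 1 - n else M + 1 - n := by
      intro n
      have h1 := Groth.Agent.Lib.Helper88.finrank_pd_inf_degreeLT_all r a Finset.univ (M + 1)
        (by omega) (n + 1)
      rw [hcard] at h1
      have h2 : M + 1 - ∑ j, a j = b := by omega
      have h3 : M + 1 + m - (n + 1) = d - n := by omega
      rw [h2, h3] at h1
      rw [h1]
      split_ifs <;> omega
    have hUeq : (Polynomial.degreeLT k (M + 1 + 1)).map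
        (Groth.Agent.Lib.Helper88.pdPhi r a Finset.univ) ⊓ Polynomial.degreeLT k (M + m - 1) =
        (Polynomial.degreeLT k M).map (Groth.Agent.Lib.Helper88.pdPhi r a Finset.univ) := by
      have := Groth.Agent.Lib.Helper88.pd_inf_degreeLT_eq r a Finset.univ (M + 1 + 1) M
        (by omega)
      rw [hcard] at this
      exact this
    have hFG : ∀ n, 1 ≤ n → V₁ ⊓ Polynomial.degreeLT k (d - n) =
        (Polynomial.degreeLT k (M + 1 + 1)).map
          (Groth.Agent.Lib.Helper88.pdPhi r a Finset.univ) ⊓ Polynomial.degreeLT k (d - n) := by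
      intro n hn
      apply le_antisymm (inf_le_inf_right _ hV₁')
      refine le_inf ?_ inf_le_right
      refine le_trans ?_ hUle
      rw [← hUeq]
      exact inf_le_inf_left _ (Polynomial.degreeLT_mono (by omega))
    have hF0lo : M - 1 ≤ Module.finrank k ↥(V₁ ⊓ Polynomial.degreeLT k d) := by
      have hle : (Polynomial.degreeLT k M).map
          (Groth.Agent.Lib.Helper88.pdPhi r a Finset.univ) ≤ V₁ ⊓ Polynomial.degreeLT k d := by
        refine le_inf hUle ?_
        rw [← hUeq]
        exact le_trans inf_le_right (Polynomial.degreeLT_mono (by omega))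
      have h1 := Submodule.finrank_mono hle
      by_cases hAM : ∑ j ∈ Finset.univ, a j < M
      · have := Groth.Agent.Lib.Helper88.finrank_map_pdPhi_degreeLT r a Finset.univ M hAM
        omega
      · have := Groth.Agent.Lib.Helper88.finrank_map_pdPhi_degreeLT' r a Finset.univ M
          (by omega)
        omega
    have hF0hi : Module.finrank k ↥(V₁ ⊓ Polynomial.degreeLT k d) ≤ M := by
      have := Submodule.finrank_mono (inf_le_left (a := V₁) (b := Polynomial.degreeLT k d))
      omega
    have e1 : M + 1 - 1 = M := by omega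
    have e2 : M + 1 - 2 = M - 1 := by omega
    rw [e1, e2]
    rcases Nat.eq_zero_or_pos d with hd0 | hdpos
    · subst hd0
      refine ⟨0, by omega, ?_⟩
      have hM0 : M = 0 := by omega
      subst hM0
      have hb1 : b = 1 := by omega
      subst hb1
      simp
    · refine ⟨Module.finrank k ↥(V₁ ⊓ Polynomial.degreeLT k d) - (M - 1), by omega, ?_⟩
      have hsumG : ∑ n ∈ Finset.range d, (if n + 1 ≤ b then M + 1 - 1 - n else M + 1 - n) =
          (M + 1).choose 2 + (M + 1 - b) := by
        rw [← Groth.Agent.Lib.Helper88.sum_range_ite (M + 1) b]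
        apply sum_range_eq_of_zero
        intro n hn1 hn2
        rcases le_total d (M + 1) with hdM | hdM
        · rw [min_eq_left hdM] at hn1
          rw [max_eq_right hdM] at hn2
          have hm0 : m = 0 := by omega
          have hA0 : ∑ j, a j = 0 := by
            subst hm0
            simp
          rw [if_pos (by omega)]
          omega
        · rw [min_eq_right hdM] at hn1
          rw [if_neg (by omega)]
          omega
      rw [Finset.sum_range_eq_add_Ico _ hdpos] at hsumG ⊢
      have hIco : ∑ n ∈ Finset.Ico 1 d, Module.finrank k ↥(V₁ ⊓ Polynomial.degreeLT k (d - n)) =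
          ∑ n ∈ Finset.Ico 1 d, (if n + 1 ≤ b then M + 1 - 1 - n else M + 1 - n) := by
        refine Finset.sum_congr rfl fun n hn => ?_
        rw [Finset.mem_Ico] at hn
        rw [hFG n hn.1, hG n]
      rw [hIco]
      have hch : (M + 1).choose 2 = M + M.choose 2 := by
        rw [Nat.choose_succ_succ' M 1, Nat.choose_one_right]
      rw [if_pos (by omega)] at hsumG
      simp only [Nat.sub_zero] at hsumG ⊢
      omega

end Groth.Agent.S17244
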