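import Groth.Statements.S17245
import Groth.Agent.Lib.Helper88.PolarDiff2

set_option autoImplicit false
open W4c4effdivwronsk2

namespace Groth.Agent.S17245

open Polynomial in
/-- Let `k` be a field of characteristic zero and take, on the projective line over `k`, the point `∞`
and `m` further distinct points `r_1, …, r_m` of the affine line, with positive integers `b` (at
`∞`) and `a_1, …, a_m`; put `N = b + ∑ a_j`. The sum of the spaces of differentials with a single
pole, of order at most `b + 1` at `∞`, resp. at most `a_j + 1` at `r_j`, `V = H⁰(ω((b+1)∞)) + ∑_j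
H⁰(ω((a_j+1)r_j)) ⊆ H⁰(ω((b+1)∞ + ∑_j (a_j+1)r_j)) ≅ H⁰(O(d))`, `d = b - 1 + ∑ (a_j+1)`, becomes,
after multiplying by `dX⁻¹ ∏_j (X - r_j)^(a_j+1)`, the subspace of `k[X]_{≤ d}` spanned by
`D·k[X]_{<b}` and the `D_i·k[X]_{<a_i}`, where `D = ∏_j (X - r_j)^(a_j+1)` and `D_i` omits the
`i`-th factor; a member `h` vanishes to order `n` at a point `q` of the affine line when `(X - q)^n
∣ h`, and to order `d - deg h` at `∞`. Let `p` be a further point of the affine line, distinct from
the `r_j`, and `V₁ = V(-p)` the members divisible by `X - p`, an `(N-1)`-dimensional system in the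
line bundle twisted down by `p` (its vanishing orders at points `q ≠ p`, and at `∞`, are read off
exactly as for `V`; at `p` itself they are one less than the order of divisibility by `X - p`). Then
`dim V₁ = N - 1`, the point `p` is not a ramification point of `V₁` (no nonzero member of `V₁` is
divisible by `(X - p)^N`), and `V₁` has at most one ramification point off the marked points, a
simple one: at every `q` other than `p` and the `r_j`, no nonzero member is divisible by `(X - q)^N`
and at most a line of members is divisible by `(X - q)^(N-2)`, and at most one such `q` has a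
nonzero member divisible by `(X - q)^(N-1)`. (The published statement is over the complex numbers
with all points arbitrary; one marked point is placed at `∞` here and `p` is taken distinct from the
marked points.) -/
theorem result
    (k : Type*) [Field k] [CharZero k] (m : ℕ) (r : Fin m → k) (hr : Function.Injective r)
    (a : Fin m → ℕ) (ha : ∀ j, 1 ≤ a j) (b : ℕ) (hb : 1 ≤ b) (N d : ℕ)
    (hN : N = (∑ j, a j) + b) (hd : d + 1 = (∑ j, (a j + 1)) + b)
    (V : Submodule k (Polynomial k))
    (hV : V = (Polynomial.degreeLT k b).map (LinearMap.mulLeft k (∏ j, (X - C (r j)) ^ (a j + 1))) ⊔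
      ⨆ i, (Polynomial.degreeLT k (a i)).map
        (LinearMap.mulLeft k (∏ j ∈ Finset.univ.erase i, (X - C (r j)) ^ (a j + 1))))
    (p : k) (hp : ∀ j, p ≠ r j) (V₁ : Submodule k (Polynomial k))
    (hV₁ : V₁ = V ⊓ (Ideal.span {X - C p}).restrictScalars k) :
    Module.finrank k ↥V₁ + 1 = N ∧
    (V₁ ⊓ (Ideal.span {(X - C p) ^ N}).restrictScalars k) = ⊥ ∧
    (∀ q : k, (∀ j, q ≠ r j) → q ≠ p →
      (V₁ ⊓ (Ideal.span {(X - C q) ^ N}).restrictScalars k) = ⊥ ∧
      Module.finrank k ↥(V₁ ⊓ (Ideal.span {(X - C q) ^ (N - 2)}).restrictScalars k) ≤ 1) ∧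
    (∀ q q' : k, (∀ j, q ≠ r j) → q ≠ p → (∀ j, q' ≠ r j) → q' ≠ p →
      (V₁ ⊓ (Ideal.span {(X - C q) ^ (N - 1)}).restrictScalars k) ≠ ⊥ →
      (V₁ ⊓ (Ideal.span {(X - C q') ^ (N - 1)}).restrictScalars k) ≠ ⊥ → q = q') := by
  classical
  obtain ⟨M, hM⟩ : ∃ M, N = M + 1 := ⟨N - 1, by omega⟩
  subst hM
  have hA : ∑ j ∈ Finset.univ, a j < M + 2 := by omega
  have hVeq : V = (Polynomial.degreeLT k (M + 2)).map
      (Groth.Agent.Lib.Helper88.pdPhi r a Finset.univ) := by
    rw [hV]
    have h1 := Groth.Agent.Lib.Helper88.pd_span_eq r a hr b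
    have e : (∑ j, a j) + b + 1 = M + 2 := by omega
    rw [e] at h1
    exact h1
  have hfinV : FiniteDimensional k V := by rw [hVeq]; infer_instance
  have hfinrankV : Module.finrank k V = M + 1 := by
    rw [hVeq]
    have := Groth.Agent.Lib.Helper88.finrank_map_pdPhi_degreeLT r a Finset.univ (M + 2) hA
    omega
  have hX : (X : Polynomial k) ∈ Polynomial.degreeLT k 2 := by
    rw [Groth.Agent.Lib.Helper88.mem_degreeLT_iff_natDegree]
    right; rw [Polynomial.natDegree_X]; norm_num
  have h₀mem : Groth.Agent.Lib.Helper88.pdD r a Finset.univ ∈ V := by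
    rw [hVeq]
    refine ⟨Groth.Agent.Lib.Helper88.pdE r a Finset.univ * X, ?_, ?_⟩
    · have := Groth.Agent.Lib.Helper88.mul_mem_degreeLT (m := ∑ j, a j)
        (Groth.Agent.Lib.Helper88.natDegree_pdE r a Finset.univ).le hX
      exact Polynomial.degreeLT_mono (by omega) this
    · rw [Groth.Agent.Lib.Helper88.pdPhi_pdE_mul]; simp
  have h₀p : (Groth.Agent.Lib.Helper88.pdD r a Finset.univ).eval p ≠ 0 := by
    rw [Groth.Agent.Lib.Helper88.pdD_eq, Polynomial.eval_mul]
    exact mul_ne_zero
      (Groth.Agent.Lib.Helper88.pdE_eval_ne_zero r a Finset.univ p (fun j _ => hp j))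
      (Groth.Agent.Lib.Helper88.pdR_eval_ne_zero r Finset.univ p (fun j _ => hp j))
  have hfin1 : Module.finrank k V₁ + 1 = M + 1 := by
    rw [hV₁, Groth.Agent.Lib.Helper88.finrank_inf_span_X_sub_C V p _ h₀mem h₀p, hfinrankV]
  have hV₁le : V₁ ≤ V := hV₁ ▸ inf_le_left
  have hV₁' : V₁ ≤ (Polynomial.degreeLT k (M + 2)).map
      (Groth.Agent.Lib.Helper88.pdPhi r a Finset.univ) := hVeq ▸ hV₁le
  have hfinV₁ : FiniteDimensional k V₁ := Submodule.finiteDimensional_of_le hV₁'
  have hfin' : Module.finrank k V₁ = M := by omega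
  have hV₁M : V₁ ≤ (Ideal.span {X - C p}).restrictScalars k := hV₁ ▸ inf_le_right
  have hV₁p : ∀ h ∈ V₁, h.eval p = 0 := by
    intro h hh
    have := hV₁M hh
    rw [Submodule.restrictScalars_mem, Ideal.mem_span_singleton,
      Polynomial.dvd_iff_isRoot] at this
    exact this
  have hbot : ∀ q : k, (∀ j, q ≠ r j) →
      V₁ ⊓ (Ideal.span {(X - C q) ^ (M + 1)}).restrictScalars k = ⊥ := by
    intro q hq
    rw [eq_bot_iff]
    refine le_trans (inf_le_inf_right _ hV₁') ?_
    rw [Groth.Agent.Lib.Helper88.pd_inf_span_pow_eq_bot r a Finset.univ q (fun j _ => hq j)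
      (M + 2) hA (M + 1) (by omega)]
  refine ⟨hfin1, hbot p hp, fun q hq hqp => ⟨hbot q hq, ?_⟩,
    fun q q' hq hqp hq' hqp' hne hne' => ?_⟩
  · rcases Nat.lt_or_ge M 2 with hM2 | hM2
    · calc Module.finrank k ↥(V₁ ⊓ (Ideal.span {(X - C q) ^ (M + 1 - 2)}).restrictScalars k)
          ≤ Module.finrank k V₁ := Submodule.finrank_mono inf_le_left
        _ = M := hfin'
        _ ≤ 1 := by omega
    · obtain ⟨M', rfl⟩ : ∃ M', M = M' + 1 := ⟨M - 1, by omega⟩
      have e : M' + 1 + 1 - 2 = M' := by omega
      rw [e]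
      have hle : V₁ ⊓ (Ideal.span {(X - C q) ^ M'}).restrictScalars k ≤
          ((Polynomial.degreeLT k 2).map
            (LinearMap.mulLeft k ((X - C q) ^ (M' + 1)))).map
              (Groth.Agent.Lib.Helper88.pdPhi r a Finset.univ) ⊓
            (Ideal.span {X - C p}).restrictScalars k :=
        le_inf (le_trans (inf_le_inf_right _ hV₁')
          (Groth.Agent.Lib.Helper88.pd_inf_span_pow_le r a Finset.univ q (fun j _ => hq j)
            (M' + 1 + 2) M' 2 hA (by omega))) (le_trans inf_le_left hV₁M)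
      have h3 := Groth.Agent.Lib.Helper88.finrank_map_map_degreeLT_le r a Finset.univ
        ((X - C q) ^ (M' + 1)) 2
      have hXp : (X - C p : Polynomial k) ∈ Polynomial.degreeLT k 2 := by
        rw [Groth.Agent.Lib.Helper88.mem_degreeLT_iff_natDegree]
        right; rw [Polynomial.natDegree_X_sub_C]; norm_num
      have hmem0 : (X - C q) ^ (M' + 1) * (X - C p) ∈ (Polynomial.degreeLT k 2).map
            (LinearMap.mulLeft k ((X - C q) ^ (M' + 1))) :=
        ⟨X - C p, hXp, LinearMap.mulLeft_apply _ _ _⟩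
      have hmem : Groth.Agent.Lib.Helper88.pdPhi r a Finset.univ
          ((X - C q) ^ (M' + 1) * (X - C p)) ∈ ((Polynomial.degreeLT k 2).map
            (LinearMap.mulLeft k ((X - C q) ^ (M' + 1)))).map
              (Groth.Agent.Lib.Helper88.pdPhi r a Finset.univ) :=
        Submodule.mem_map_of_mem hmem0
      have h4 := Groth.Agent.Lib.Helper88.finrank_inf_span_X_sub_C
        (((Polynomial.degreeLT k 2).map
            (LinearMap.mulLeft k ((X - C q) ^ (M' + 1)))).map
              (Groth.Agent.Lib.Helper88.pdPhi r a Finset.univ)) p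
        (Groth.Agent.Lib.Helper88.pdPhi r a Finset.univ ((X - C q) ^ (M' + 1) * (X - C p)))
        hmem
        (Groth.Agent.Lib.Helper88.pd_eval_ne_zero r a Finset.univ p q (fun j _ => hp j) hqp
          (M' + 1))
      have h5 := Submodule.finrank_mono hle
      omega
  · have e : M + 1 - 1 = M := by omega
    rw [e] at hne hne'
    have m1 := Groth.Agent.Lib.Helper88.pd_mem_of_inf_ne_bot r a Finset.univ q
      (fun j _ => hq j) M hA V₁ hV₁' hne
    have m2 := Groth.Agent.Lib.Helper88.pd_mem_of_inf_ne_bot r a Finset.univ q'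
      (fun j _ => hq' j) M hA V₁ hV₁' hne'
    exact Groth.Agent.Lib.Helper88.pd_eq_of_eval_eq_zero r a Finset.univ p q q'
      (fun j _ => hp j) hqp hqp' M (hV₁p _ m1) (hV₁p _ m2)

end Groth.Agent.S17245
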