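import Groth.Statements.S17246
import Groth.Agent.Lib.Helper88.PolarDiff4

set_option autoImplicit false
open W4c4effdivwronsk2

namespace Groth.Agent.S17246

open Polynomial in
/-- Let `k` be a field of characteristic zero and take, on the projective line over `k`, the point `∞`
and `m` further distinct points `r_1, …, r_m` of the affine line, with positive integers `b` (at
`∞`) and `a_1, …, a_m`; put `N = b + ∑ a_j`. The sum of the spaces of differentials with a single
pole, of order at most `b + 1` at `∞`, resp. at most `a_j + 1` at `r_j`, `V = H⁰(ω((b+1)∞)) + ∑_j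
H⁰(ω((a_j+1)r_j)) ⊆ H⁰(ω((b+1)∞ + ∑_j (a_j+1)r_j)) ≅ H⁰(O(d))`, `d = b - 1 + ∑ (a_j+1)`, becomes,
after multiplying by `dX⁻¹ ∏_j (X - r_j)^(a_j+1)`, the subspace of `k[X]_{≤ d}` spanned by
`D·k[X]_{<b}` and the `D_i·k[X]_{<a_i}`, where `D = ∏_j (X - r_j)^(a_j+1)` and `D_i` omits the
`i`-th factor; a member `h` vanishes to order `n` at a point `q` of the affine line when `(X - q)^n
∣ h`, and to order `d - deg h` at `∞`. Let `p` be a further point of the affine line, distinct from
the `r_j`, and `V₁ = V(-p)` the members divisible by `X - p` (an `(N-1)`-dimensional system in the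
line bundle twisted down by `p`, with vanishing orders at the marked points read off as for `V`).
With the weight of `V₁` at a marked point defined as `∑_{n=1}^{d} dim V₁(-n·point) - (N-1 choose
2)`: the weight at `r_i` is `∑_{j≠i} a_j + b - 1 + ε_i` and the weight at `∞` is `∑_j a_j - 1 + ε`,
with all `ε` in `{0, 1}`. (The published statement is over the complex numbers with all points
arbitrary; one marked point is placed at `∞` here and `p` is taken distinct from the marked points.) -/
theorem result
    (k : Type*) [Field k] [CharZero k] (m : ℕ) (r : Fin m → k) (hr : Function.Injective r)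
    (a : Fin m → ℕ) (ha : ∀ j, 1 ≤ a j) (b : ℕ) (hb : 1 ≤ b) (N d : ℕ)
    (hN : N = (∑ j, a j) + b) (hd : d + 1 = (∑ j, (a j + 1)) + b)
    (V : Submodule k (Polynomial k))
    (hV : V = (Polynomial.degreeLT k b).map (LinearMap.mulLeft k (∏ j, (X - C (r j)) ^ (a j + 1))) ⊔
      ⨆ i, (Polynomial.degreeLT k (a i)).map
        (LinearMap.mulLeft k (∏ j ∈ Finset.univ.erase i, (X - C (r j)) ^ (a j + 1))))
    (p : k) (hp : ∀ j, p ≠ r j) (V₁ : Submodule k (Polynomial k))
    (hV₁ : V₁ = V ⊓ (Ideal.span {X - C p}).restrictScalars k) :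
    (∀ i : Fin m, ∃ ε : ℕ, ε ≤ 1 ∧
      (∑ n ∈ Finset.range d, Module.finrank k ↥(V₁ ⊓ (Ideal.span {(X - C (r i)) ^ (n + 1)}).restrictScalars k)) + 1 =
        (N - 1).choose 2 + (N - a i) + ε) ∧
    (∃ ε : ℕ, ε ≤ 1 ∧
      (∑ n ∈ Finset.range d, Module.finrank k ↥(V₁ ⊓ Polynomial.degreeLT k (d - n))) + 1 =
        (N - 1).choose 2 + (N - b) + ε) := by
  classical
  have hA : ∑ j ∈ Finset.univ, a j < N + 1 := by omega
  have hVeq : V = (Polynomial.degreeLT k (N + 1)).map
      (Groth.Agent.Lib.Helper88.pdPhi r a Finset.univ) := by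
    rw [hV]
    have h1 := Groth.Agent.Lib.Helper88.pd_span_eq r a hr b
    have e : (∑ j, a j) + b + 1 = N + 1 := by omega
    rw [e] at h1
    exact h1
  have hcard : (Finset.univ : Finset (Fin m)).card = m := by simp
  have hd' : d + 1 = (∑ j, a j) + m + b := by
    rw [hd, Finset.sum_add_distrib]
    simp
  have hfinV : FiniteDimensional k V := by rw [hVeq]; infer_instance
  have hfinrankV : Module.finrank k V = N := by
    rw [hVeq]
    have := Groth.Agent.Lib.Helper88.finrank_map_pdPhi_degreeLT r a Finset.univ (N + 1) hA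
    omega
  have hX : (X : Polynomial k) ∈ Polynomial.degreeLT k 2 := by
    rw [Groth.Agent.Lib.Helper88.mem_degreeLT_iff_natDegree]
    right; rw [Polynomial.natDegree_X]; norm_num
  have hXp : (X - C p : Polynomial k) ∈ Polynomial.degreeLT k 2 := by
    rw [Groth.Agent.Lib.Helper88.mem_degreeLT_iff_natDegree]
    right; rw [Polynomial.natDegree_X_sub_C]; norm_num
  have h₀mem : Groth.Agent.Lib.Helper88.pdD r a Finset.univ ∈ V := by
    rw [hVeq]
    refine ⟨Groth.Agent.Lib.Helper88.pdE r a Finset.univ * X, ?_, ?_⟩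
    · have := Groth.Agent.Lib.Helper88.mul_mem_degreeLT (m := ∑ j, a j)
        (Groth.Agent.Lib.Helper88.natDegree_pdE r a Finset.univ).le hX
      exact Polynomial.degreeLT_mono (by omega) this
    · rw [Groth.Agent.Lib.Helper88.pdPhi_pdE_mul]; simp
  have h₀p : (Groth.Agent.Lib.Helper88.pdD r a Finset.univ).eval p ≠ 0 := by
    rw [Groth.Agent.Lib.Helper88.pdD_eq, Polynomial.eval_mul]
    exact mul_ne_zero
      (Groth.Agent.Lib.Helper88.pdE_eval_ne_zero r a Finset.univ p (fun j _ => hp j))
      (Groth.Agent.Lib.Helper88.pdR_eval_ne_zero r Finset.univ p (fun j _ => hp j))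
  have hfin1 : Module.finrank k V₁ + 1 = N := by
    rw [hV₁, Groth.Agent.Lib.Helper88.finrank_inf_span_X_sub_C V p _ h₀mem h₀p, hfinrankV]
  have hV₁le : V₁ ≤ V := hV₁ ▸ inf_le_left
  have hV₁' : V₁ ≤ (Polynomial.degreeLT k (N + 1)).map
      (Groth.Agent.Lib.Helper88.pdPhi r a Finset.univ) := hVeq ▸ hV₁le
  have hV₁M : V₁ ≤ (Ideal.span {X - C p}).restrictScalars k := hV₁ ▸ inf_le_right
  have hV₁p : ∀ h ∈ V₁, h.eval p = 0 := by
    intro h hh
    have := hV₁M hh
    rw [Submodule.restrictScalars_mem, Ideal.mem_span_singleton,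
      Polynomial.dvd_iff_isRoot] at this
    exact this
  refine ⟨fun i => ?_, ?_⟩
  · refine Groth.Agent.Lib.Helper88.pd_weight_marked r a (Finset.mem_univ i)
      (fun j _ hji => hr.ne hji.symm) N d (by omega) (by omega) V₁ hV₁' hfin1 ?_
    refine ⟨(X - C (r i)) ^ (N - 1) * (X - C p), Dvd.intro _ rfl, ?_, ?_⟩
    · have := Groth.Agent.Lib.Helper88.mul_mem_degreeLT (p := (X - C (r i)) ^ (N - 1))
        (m := N - 1)
        (by rw [(Polynomial.monic_X_sub_C (r i)).natDegree_pow, Polynomial.natDegree_X_sub_C,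
          mul_one]) hXp
      exact Polynomial.degreeLT_mono (by omega) this
    · intro hmem
      exact Groth.Agent.Lib.Helper88.pd_eval_ne_zero r a Finset.univ p (r i) (fun j _ => hp j)
        (hp i).symm (N - 1) (hV₁p _ hmem)
  · have key : ∀ n, d - n = N + m - (n + 1) := fun n => by omega
    have hsum : ∑ n ∈ Finset.range d, Module.finrank k ↥(V₁ ⊓ Polynomial.degreeLT k (d - n)) =
        ∑ n ∈ Finset.range d, Module.finrank k
          ↥(V₁ ⊓ (fun n => Polynomial.degreeLT k (N + m - n)) (n + 1)) :=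
      Finset.sum_congr rfl fun n _ => by rw [key n]
    rw [hsum]
    have hw := Groth.Agent.Lib.Helper88.weight_sum_hyperplane
      ((Polynomial.degreeLT k (N + 1)).map (Groth.Agent.Lib.Helper88.pdPhi r a Finset.univ)) V₁
      (fun n => Polynomial.degreeLT k (N + m - n)) N b d hV₁' (hVeq ▸ hfinrankV) hfin1
      (by omega) (by omega) ?_ ?_
    · exact hw
    · intro n
      have h1 := Groth.Agent.Lib.Helper88.finrank_pd_inf_degreeLT_all r a Finset.univ N
        (by omega) n
      rw [hcard] at h1
      have h2 : N - ∑ j, a j = b := by omega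
      rw [h2] at h1
      exact h1
    · intro n hn hle
      have h1 : Groth.Agent.Lib.Helper88.pdPhi r a Finset.univ (X - C p) ∈ V₁ := by
        apply hle
        refine ⟨⟨X - C p, Polynomial.degreeLT_mono (by omega) hXp, rfl⟩, ?_⟩
        have h2 := Groth.Agent.Lib.Helper88.pdPhi_mem_degreeLT r a Finset.univ 2 (X - C p) hXp
        rw [hcard] at h2
        exact Polynomial.degreeLT_mono (by omega) h2
      have h3 := hV₁p _ h1
      rw [Groth.Agent.Lib.Helper88.pdPhi_apply] at h3
      simp only [Polynomial.derivative_sub, Polynomial.derivative_X, Polynomial.derivative_C,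
        sub_zero, mul_one, Polynomial.eval_sub, Polynomial.eval_mul, Polynomial.eval_X,
        Polynomial.eval_C, sub_self, mul_zero] at h3
      exact Groth.Agent.Lib.Helper88.pdR_eval_ne_zero r Finset.univ p (fun j _ => hp j) h3

end Groth.Agent.S17246
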