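import Groth.Statements.S17247
import Groth.Agent.FunFld.EllWeights2

set_option autoImplicit false
open FunFld

namespace Groth.Agent.S17247

/-- Let `K/k` be a function field of one variable of genus one over an algebraically closed field `k` of
characteristic zero (an elliptic curve `E`), `A` a place, and `g ≥ 3` an odd integer. Inside
`H⁰(O_E((2g-2)A)) = L((2g-2)A)` consider `V = L(gA)` (dimension `g`) and any hyperplane `V₁` of it
containing `L((g-2)A)`: `L((g-2)A) ⊆ V₁ ⊆ L(gA)`, `dim V₁ = g - 1`. Vanishing orders are those of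
sections of `O_E((2g-2)A)`: a member `f` vanishes to order at least `n` at a place `Q` when `f ∈
L((2g-2)A - nQ)`, and the weight of `V₁` at `Q` is `∑_{n=1}^{2g-2} dim (V₁ ∩ L((2g-2)A - nQ)) - (g-1
choose 2)` (the sum of the `g - 1` vanishing orders minus `0 + 1 + ⋯ + (g-2)`). Then the weight of
`V₁` at every place `Q ≠ A` is at most `2`. (The published statement is for a smooth elliptic curve
over the complex numbers and allows every odd positive `g`; for `g = 1` the inclusion `O(gA) ⊆
O((2g-2)A)` it uses fails, so `g ≥ 3` here.) -/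
theorem result
    (k K : Type*) [Field k] [IsAlgClosed k] [CharZero k] [Field K] [Algebra k K]
    (hK : FunFld.IsFunctionField k K) (hg1 : FunFld.genus k K = 1)
    (g : ℕ) (hodd : Odd g) (h3 : 3 ≤ g) (A : FunFld.Place k K)
    (V₁ : Submodule k K) (hlo : FunFld.L (Finsupp.single A ((g : ℤ) - 2)) ≤ V₁)
    (hhi : V₁ ≤ FunFld.L (Finsupp.single A (g : ℤ))) (hdim : Module.finrank k ↥V₁ + 1 = g)
    (Q : FunFld.Place k K) (hQ : Q ≠ A) :
    (∑ n ∈ Finset.range (2 * g - 2), Module.finrank k
        ↥(V₁ ⊓ FunFld.L (Finsupp.single A (2 * (g : ℤ) - 2) - Finsupp.single Q ((n : ℤ) + 1)))) ≤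
      (g - 1).choose 2 + 2 := by
  classical
  obtain ⟨t, rfl⟩ : ∃ t, g = t + 3 := ⟨g - 3, by omega⟩
  have ht : Even t := by
    rcases Nat.even_or_odd t with h | h
    · exact h
    · exfalso
      have : Even (t + 3) := by
        obtain ⟨s, hs⟩ := h
        exact ⟨s + 2, by omega⟩
      exact (Nat.not_even_iff_odd.mpr hodd) this
  have hlo' : FunFld.L (Finsupp.single A ((t : ℤ) + 1) : FunFld.Divisor k K) ≤ V₁ := by
    have e : ((t + 3 : ℕ) : ℤ) - 2 = (t : ℤ) + 1 := by push_cast; ring
    rwa [e] at hlo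
  have hhi' : V₁ ≤ FunFld.L (Finsupp.single A ((t : ℤ) + 3) : FunFld.Divisor k K) := by
    have e : ((t + 3 : ℕ) : ℤ) = (t : ℤ) + 3 := by push_cast; ring
    rwa [e] at hhi
  have hdim' : Module.finrank k ↥V₁ = t + 2 := by omega
  have e1 : 2 * (t + 3) - 2 = 2 * t + 4 := by omega
  have e2 : t + 3 - 1 = t + 2 := by omega
  rw [e1, e2]
  exact Groth.Agent.FF.sum_finrank_inf_atQ hK hg1 A Q hQ t V₁ hlo' hhi' hdim' ht _

end Groth.Agent.S17247
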