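import Groth.Statements.S17249
import Groth.Agent.FunFld.Genus2

set_option autoImplicit false
open FunFld

namespace Groth.Agent.S17249

/-- Let `K/k` be a function field of one variable of genus two over an algebraically closed field `k` of
characteristic zero (a smooth curve `X` of genus `2`), `C` a canonical divisor, `A` a place with
`ℓ(2A) = 1` (not a Weierstrass point), and `P`, `Q` places with `Q ≠ A`. Then `ℓ(C + 2A - P - 3Q) =
1` and `ℓ(C + 2A - P - Q) = 2` do not both hold: the two-dimensional complete system `H⁰(ω_X(2A -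
P))` (of degree `3`) has no point `Q ≠ A` of weight three. (The published statement concerns a
general pointed curve `(X, A)` of genus two over the complex numbers and a point `P` of `X`; this
row assumes only `ℓ(2A) = 1`.) -/
theorem result
    (k K : Type*) [Field k] [IsAlgClosed k] [CharZero k] [Field K] [Algebra k K]
    (hK : FunFld.IsFunctionField k K) (hg : FunFld.genus k K = 2)
    (C : FunFld.Divisor k K) (hC : FunFld.IsCanonical k K C)
    (A P Q : FunFld.Place k K) (hA : Module.finrank k ↥(FunFld.L (Finsupp.single A (2 : ℤ))) = 1) (hQ : Q ≠ A) :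
    ¬ (Module.finrank k ↥(FunFld.L (C + Finsupp.single A (2 : ℤ) - Finsupp.single P (1 : ℤ) - Finsupp.single Q (3 : ℤ))) = 1 ∧
       Module.finrank k ↥(FunFld.L (C + Finsupp.single A (2 : ℤ) - Finsupp.single P (1 : ℤ) - Finsupp.single Q (1 : ℤ))) = 2) := by
  classical
  rintro ⟨-, h2⟩
  have hdegC := Groth.Agent.FF.deg_canonical hK hC
  rw [hg] at hdegC
  have hA1 := Groth.Agent.FF.deg_eq_one_of_isAlgClosed hK A
  have hP1 := Groth.Agent.FF.deg_eq_one_of_isAlgClosed hK P
  have hQ1 := Groth.Agent.FF.deg_eq_one_of_isAlgClosed hK Q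
  set E : FunFld.Divisor k K :=
    C + Finsupp.single A (2 : ℤ) - Finsupp.single P (1 : ℤ) - Finsupp.single Q (1 : ℤ) with hE
  have hdegE : E.deg = 2 := by
    rw [hE, Groth.Agent.FF.deg_sub, Groth.Agent.FF.deg_sub, Groth.Agent.FF.deg_add,
      Groth.Agent.FF.deg_single, Groth.Agent.FF.deg_single, Groth.Agent.FF.deg_single,
      hdegC, hA1, hP1, hQ1]
    norm_num
  have hrr := Groth.Agent.FF.riemann_roch hK hC E
  have hellE : FunFld.ell E = 2 := h2
  rw [hellE, hdegE, hg] at hrr
  have hCE : C - E = Finsupp.single P (1 : ℤ) + Finsupp.single Q (1 : ℤ) -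
      Finsupp.single A (2 : ℤ) := by rw [hE]; abel
  have hell1 : FunFld.ell (C - E) = 1 := by
    have : (FunFld.ell (C - E) : ℤ) = 1 := by push_cast at hrr; linarith
    exact_mod_cast this
  have hdeg0 : (C - E).deg = 0 := by
    rw [Groth.Agent.FF.deg_sub, hdegC, hdegE]; norm_num
  obtain ⟨z, hz0, hz⟩ := Groth.Agent.FF.exists_div_eq_neg_of_ell_pos hK hdeg0 (by omega)
  -- `z⁻¹` lies in `L(2A)`, hence is constant
  have hzinv : z⁻¹ ∈ FunFld.L (Finsupp.single A (2 : ℤ) : FunFld.Divisor k K) := by
    rw [Groth.Agent.FF.mem_L_iff_div hK _ (inv_ne_zero hz0), Groth.Agent.FF.div_inv hK, hz, hCE]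
    intro R
    simp only [Finsupp.coe_add, Finsupp.coe_sub, Finsupp.coe_neg, Pi.add_apply, Pi.sub_apply,
      Pi.neg_apply, Finsupp.coe_zero, Pi.zero_apply, Finsupp.single_apply]
    split_ifs <;> norm_num
  have hAnn : (0 : FunFld.Divisor k K) ≤ Finsupp.single A (2 : ℤ) := by
    intro R
    simp only [Finsupp.coe_zero, Pi.zero_apply, Finsupp.single_apply]
    split_ifs <;> norm_num
  have hdiv0 := Groth.Agent.FF.div_eq_zero_of_mem_L_of_ell_eq_one hK hAnn hA hzinv
  rw [Groth.Agent.FF.div_inv hK, hz, hCE, neg_neg] at hdiv0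
  have := DFunLike.congr_fun hdiv0 Q
  simp only [Finsupp.coe_add, Finsupp.coe_sub, Pi.add_apply, Pi.sub_apply,
    Finsupp.coe_zero, Pi.zero_apply, Finsupp.single_apply, if_neg (Ne.symm hQ)] at this
  split_ifs at this <;> omega

end Groth.Agent.S17249
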