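import Groth.Statements.S17250
import Groth.Agent.FunFld.Genus2

set_option autoImplicit false
open FunFld

namespace Groth.Agent.S17250

/-- Let `K/k` be a function field of one variable of genus two over an algebraically closed field `k` of
characteristic zero (a smooth curve `X` of genus `2`), `C` a canonical divisor, `A` a place with
`ℓ(2A) = 1`, and `P`, `Q` places different from `A`. Then `ℓ(C + 3A - P - 4Q) = 1` and `ℓ(C + 3A - P
- 2Q) = 2` do not both hold (the three-dimensional complete system `H⁰(ω_X(3A - P))`, of degree `4`,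
has no point `Q ≠ A` with two independent sections vanishing to order at least `2` there and one
vanishing to order at least `4`). (The published statement concerns a general pointed curve `(X, A)`
of genus two over the complex numbers and a point `P ≠ A`; this row assumes `ℓ(2A) = 1` in place of
generality.) -/
theorem result
    (k K : Type*) [Field k] [IsAlgClosed k] [CharZero k] [Field K] [Algebra k K]
    (hK : FunFld.IsFunctionField k K) (hg : FunFld.genus k K = 2)
    (C : FunFld.Divisor k K) (hC : FunFld.IsCanonical k K C)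
    (A P Q : FunFld.Place k K) (hA : Module.finrank k ↥(FunFld.L (Finsupp.single A (2 : ℤ))) = 1) (hP : P ≠ A) (hQ : Q ≠ A) :
    ¬ (Module.finrank k ↥(FunFld.L (C + Finsupp.single A (3 : ℤ) - Finsupp.single P (1 : ℤ) - Finsupp.single Q (4 : ℤ))) = 1 ∧
       Module.finrank k ↥(FunFld.L (C + Finsupp.single A (3 : ℤ) - Finsupp.single P (1 : ℤ) - Finsupp.single Q (2 : ℤ))) = 2) := by
  classical
  rintro ⟨h1, h2⟩
  have hdegC := Groth.Agent.FF.deg_canonical hK hC
  rw [hg] at hdegC
  have hA1 := Groth.Agent.FF.deg_eq_one_of_isAlgClosed hK A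
  have hP1 := Groth.Agent.FF.deg_eq_one_of_isAlgClosed hK P
  have hQ1 := Groth.Agent.FF.deg_eq_one_of_isAlgClosed hK Q
  set E₁ : FunFld.Divisor k K :=
    C + Finsupp.single A (3 : ℤ) - Finsupp.single P (1 : ℤ) - Finsupp.single Q (4 : ℤ) with hE₁
  set E₂ : FunFld.Divisor k K :=
    C + Finsupp.single A (3 : ℤ) - Finsupp.single P (1 : ℤ) - Finsupp.single Q (2 : ℤ) with hE₂
  have hdegE₁ : E₁.deg = 0 := by
    rw [hE₁, Groth.Agent.FF.deg_sub, Groth.Agent.FF.deg_sub, Groth.Agent.FF.deg_add,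
      Groth.Agent.FF.deg_single, Groth.Agent.FF.deg_single, Groth.Agent.FF.deg_single,
      hdegC, hA1, hP1, hQ1]
    norm_num
  have hdegE₂ : E₂.deg = 2 := by
    rw [hE₂, Groth.Agent.FF.deg_sub, Groth.Agent.FF.deg_sub, Groth.Agent.FF.deg_add,
      Groth.Agent.FF.deg_single, Groth.Agent.FF.deg_single, Groth.Agent.FF.deg_single,
      hdegC, hA1, hP1, hQ1]
    norm_num
  have hellE₁ : FunFld.ell E₁ = 1 := h1
  have hellE₂ : FunFld.ell E₂ = 2 := h2
  obtain ⟨z₁, hz₁0, hz₁⟩ := Groth.Agent.FF.exists_div_eq_neg_of_ell_pos hK hdegE₁ (by omega)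
  have hrr := Groth.Agent.FF.riemann_roch hK hC E₂
  rw [hellE₂, hdegE₂, hg] at hrr
  have hell1 : FunFld.ell (C - E₂) = 1 := by
    have : (FunFld.ell (C - E₂) : ℤ) = 1 := by push_cast at hrr; linarith
    exact_mod_cast this
  have hdeg0 : (C - E₂).deg = 0 := by
    rw [Groth.Agent.FF.deg_sub, hdegC, hdegE₂]; norm_num
  obtain ⟨z₂, hz₂0, hz₂⟩ := Groth.Agent.FF.exists_div_eq_neg_of_ell_pos hK hdeg0 (by omega)
  -- `3A - P = C + div (z₁ z₂²)`
  have hz0 : z₁ * (z₂ * z₂) ≠ 0 := mul_ne_zero hz₁0 (mul_ne_zero hz₂0 hz₂0)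
  have hdivz : FunFld.div k (z₁ * (z₂ * z₂)) = -E₁ + (-(C - E₂) + -(C - E₂)) := by
    rw [Groth.Agent.FF.div_mul hK hz₁0 (mul_ne_zero hz₂0 hz₂0), Groth.Agent.FF.div_mul hK hz₂0 hz₂0,
      hz₁, hz₂]
  have hD : Finsupp.single A (3 : ℤ) - Finsupp.single P (1 : ℤ) =
      C + FunFld.div k (z₁ * (z₂ * z₂)) := by
    rw [hdivz, hE₁, hE₂]
    have h42 : (Finsupp.single Q (4 : ℤ) : FunFld.Divisor k K) =
        Finsupp.single Q (2 : ℤ) + Finsupp.single Q (2 : ℤ) := by
      rw [← Finsupp.single_add]; norm_num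
    rw [h42]
    abel
  have hell3AP : FunFld.ell (Finsupp.single A (3 : ℤ) - Finsupp.single P (1 : ℤ) :
      FunFld.Divisor k K) = 2 := by
    rw [hD, Groth.Agent.FF.ell_add_div hK C hz0, Groth.Agent.FF.ell_canonical hK hC, hg]
  have hdeg3A : FunFld.Divisor.deg (Finsupp.single A (3 : ℤ) : FunFld.Divisor k K) = 3 := by
    rw [Groth.Agent.FF.deg_single, hA1]; norm_num
  have hell3A : FunFld.ell (Finsupp.single A (3 : ℤ) : FunFld.Divisor k K) = 2 := by
    have := Groth.Agent.FF.ell_eq_of_deg_ge hK (Finsupp.single A (3 : ℤ) : FunFld.Divisor k K)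
      (by rw [hdeg3A, hg]; norm_num)
    rw [hdeg3A, hg] at this
    have h' : (FunFld.ell (Finsupp.single A (3 : ℤ) : FunFld.Divisor k K) : ℤ) = 2 := by
      push_cast at this; linarith
    exact_mod_cast h'
  have hle : (Finsupp.single A (3 : ℤ) - Finsupp.single P (1 : ℤ) : FunFld.Divisor k K) ≤
      Finsupp.single A (3 : ℤ) := by
    intro R
    simp only [Finsupp.coe_sub, Pi.sub_apply, Finsupp.single_apply]
    split_ifs <;> norm_num
  have hfin := Groth.Agent.FF.finite_L hK (Finsupp.single A (3 : ℤ) : FunFld.Divisor k K)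
  have heq : FunFld.L (Finsupp.single A (3 : ℤ) - Finsupp.single P (1 : ℤ) : FunFld.Divisor k K) =
      FunFld.L (Finsupp.single A (3 : ℤ) : FunFld.Divisor k K) := by
    apply Submodule.eq_of_le_of_finrank_eq (Groth.Agent.FF.L_mono hle)
    have e1 := hell3AP
    have e2 := hell3A
    unfold FunFld.ell at e1 e2
    rw [e1, e2]
  have h1mem : (1 : K) ∈ FunFld.L (Finsupp.single A (3 : ℤ) : FunFld.Divisor k K) := by
    intro R
    rw [map_one, Finsupp.single_apply]
    split_ifs
    · rw [← WithZero.exp_zero]; exact WithZero.exp_le_exp.mpr (by norm_num)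
    · rw [WithZero.exp_zero]
  rw [← heq] at h1mem
  have := h1mem P
  rw [map_one, Finsupp.sub_apply, Finsupp.single_apply, Finsupp.single_apply, if_neg (Ne.symm hP),
    if_pos rfl, ← WithZero.exp_zero, WithZero.exp_le_exp] at this
  norm_num at this

end Groth.Agent.S17250
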