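import Groth.Statements.S17251
import Groth.Agent.FunFld.Genus2
import Groth.Agent.FunFld.Elliptic

set_option autoImplicit false
open FunFld

namespace Groth.Agent.S17251

/-- Let `K/k` be a function field of one variable of genus two over an algebraically closed field `k` of
characteristic zero (a smooth curve `Y` of genus `2`), `C` a canonical divisor, `B` a place with
`ℓ(2B) = 1` (not a Weierstrass point) and `Q ≠ B` a place. Then `ℓ(C + B - 2Q) = 1` and `ℓ(C + 3B -
4Q) = 1` do not both hold: the complete systems `H⁰(ω_Y(B))` (dimension `2`, degree `3`) and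
`H⁰(ω_Y(3B))` (dimension `4`, degree `5`) have no ramification point in common on `Y` minus `B`.
(The published statement concerns a general pointed curve `(Y, B)` of genus two over the complex
numbers; this row assumes only `ℓ(2B) = 1`.) -/
theorem result
    (k K : Type*) [Field k] [IsAlgClosed k] [CharZero k] [Field K] [Algebra k K]
    (hK : FunFld.IsFunctionField k K) (hg : FunFld.genus k K = 2)
    (C : FunFld.Divisor k K) (hC : FunFld.IsCanonical k K C)
    (B Q : FunFld.Place k K) (hB : Module.finrank k ↥(FunFld.L (Finsupp.single B (2 : ℤ))) = 1) (hQ : Q ≠ B) :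
    ¬ (Module.finrank k ↥(FunFld.L (C + Finsupp.single B (1 : ℤ) - Finsupp.single Q (2 : ℤ))) = 1 ∧
       Module.finrank k ↥(FunFld.L (C + Finsupp.single B (3 : ℤ) - Finsupp.single Q (4 : ℤ))) = 1) := by
  classical
  rintro ⟨h1, h2⟩
  have hdegC := Groth.Agent.FF.deg_canonical hK hC
  rw [hg] at hdegC
  have hB1 := Groth.Agent.FF.deg_eq_one_of_isAlgClosed hK B
  have hQ1 := Groth.Agent.FF.deg_eq_one_of_isAlgClosed hK Q
  have hellC : FunFld.ell C = 2 := by rw [Groth.Agent.FF.ell_canonical hK hC, hg]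
  -- `L(C + B) = L(C)`
  have hdegCB : (C + Finsupp.single B (1 : ℤ)).deg = 3 := by
    rw [Groth.Agent.FF.deg_add, Groth.Agent.FF.deg_single, hdegC, hB1]; norm_num
  have hellCB : FunFld.ell (C + Finsupp.single B (1 : ℤ)) = 2 := by
    have := Groth.Agent.FF.ell_eq_of_deg_ge hK (C + Finsupp.single B (1 : ℤ))
      (by rw [hdegCB, hg]; norm_num)
    rw [hdegCB, hg] at this
    have h' : (FunFld.ell (C + Finsupp.single B (1 : ℤ)) : ℤ) = 2 := by
      push_cast at this; linarith
    exact_mod_cast h'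
  have hleCB : C ≤ C + Finsupp.single B (1 : ℤ) := by
    intro R
    simp only [Finsupp.coe_add, Pi.add_apply, Finsupp.single_apply]
    split_ifs <;> norm_num
  have hfinCB := Groth.Agent.FF.finite_L hK (C + Finsupp.single B (1 : ℤ))
  have heqCB : FunFld.L C = FunFld.L (C + Finsupp.single B (1 : ℤ)) := by
    apply Submodule.eq_of_le_of_finrank_eq (Groth.Agent.FF.L_mono hleCB)
    have e1 := hellC
    have e2 := hellCB
    unfold FunFld.ell at e1 e2
    rw [e1, e2]
  -- `L(C + B - 2Q) ≤ L(C - 2Q)`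
  have hsub : FunFld.L (C + Finsupp.single B (1 : ℤ) - Finsupp.single Q (2 : ℤ)) ≤
      FunFld.L (C - Finsupp.single Q (2 : ℤ)) := by
    intro f hf
    have hle2 : C + Finsupp.single B (1 : ℤ) - Finsupp.single Q (2 : ℤ) ≤
        C + Finsupp.single B (1 : ℤ) := by
      intro R
      simp only [Finsupp.coe_add, Finsupp.coe_sub, Pi.add_apply, Pi.sub_apply, Finsupp.single_apply]
      split_ifs <;> norm_num
    have hfC : f ∈ FunFld.L C := by
      rw [heqCB]; exact Groth.Agent.FF.L_mono hle2 hf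
    intro R
    by_cases hRQ : Q = R
    · subst hRQ
      have := hf Q
      rw [Finsupp.sub_apply, Finsupp.add_apply, Finsupp.single_apply, if_neg (Ne.symm hQ),
        add_zero] at this
      rw [Finsupp.sub_apply]
      exact this
    · have := hfC R
      rw [Finsupp.sub_apply, Finsupp.single_apply, if_neg hRQ, sub_zero]
      exact this
  have hfin2 := Groth.Agent.FF.finite_L hK (C - Finsupp.single Q (2 : ℤ))
  have hpos1 : 0 < FunFld.ell (C - Finsupp.single Q (2 : ℤ)) := by
    have := Submodule.finrank_mono hsub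
    unfold FunFld.ell
    omega
  have hdeg1 : (C - Finsupp.single Q (2 : ℤ)).deg = 0 := by
    rw [Groth.Agent.FF.deg_sub, Groth.Agent.FF.deg_single, hdegC, hQ1]; norm_num
  obtain ⟨z₁, hz₁0, hz₁⟩ := Groth.Agent.FF.exists_div_eq_neg_of_ell_pos hK hdeg1 hpos1
  -- `ℓ(3B - C) = 1`
  have hw0 : z₁⁻¹ * z₁⁻¹ ≠ 0 := mul_ne_zero (inv_ne_zero hz₁0) (inv_ne_zero hz₁0)
  have hdivw : FunFld.div k (z₁⁻¹ * z₁⁻¹) =
      (C - Finsupp.single Q (2 : ℤ)) + (C - Finsupp.single Q (2 : ℤ)) := by
    rw [Groth.Agent.FF.div_mul hK (inv_ne_zero hz₁0) (inv_ne_zero hz₁0), Groth.Agent.FF.div_inv hK,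
      hz₁, neg_neg]
  have hE₂ : C + Finsupp.single B (3 : ℤ) - Finsupp.single Q (4 : ℤ) =
      (Finsupp.single B (3 : ℤ) - C) + FunFld.div k (z₁⁻¹ * z₁⁻¹) := by
    rw [hdivw]
    have h42 : (Finsupp.single Q (4 : ℤ) : FunFld.Divisor k K) =
        Finsupp.single Q (2 : ℤ) + Finsupp.single Q (2 : ℤ) := by
      rw [← Finsupp.single_add]; norm_num
    rw [h42]
    abel
  have hell3 : FunFld.ell (Finsupp.single B (3 : ℤ) - C) = 1 := by
    have : FunFld.ell (C + Finsupp.single B (3 : ℤ) - Finsupp.single Q (4 : ℤ)) = 1 := h2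
    rw [hE₂, Groth.Agent.FF.ell_add_div hK _ hw0] at this
    exact this
  obtain ⟨h, hh0, hh⟩ := Groth.Agent.FF.exists_ne_zero_mem_L (D := Finsupp.single B (3 : ℤ) - C)
    (by omega)
  have heff := (Groth.Agent.FF.mem_L_iff_div hK _ hh0).mp hh
  have hdegeff : FunFld.Divisor.deg ((Finsupp.single B (3 : ℤ) - C) + FunFld.div k h) = 1 := by
    rw [Groth.Agent.FF.deg_add, Groth.Agent.FF.deg_sub, Groth.Agent.FF.deg_single,
      Groth.Agent.FF.deg_div_eq_zero hK, hdegC, hB1]; norm_num
  obtain ⟨R, -, hR⟩ := Groth.Agent.FF.eq_single_of_nonneg_of_deg_eq_one hK heff hdegeff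
  have h3BR : Finsupp.single B (3 : ℤ) - Finsupp.single R (1 : ℤ) = C + FunFld.div k h⁻¹ := by
    rw [Groth.Agent.FF.div_inv hK, ← hR]; abel
  have hell3BR : FunFld.ell (Finsupp.single B (3 : ℤ) - Finsupp.single R (1 : ℤ) :
      FunFld.Divisor k K) = 2 := by
    rw [h3BR, Groth.Agent.FF.ell_add_div hK C (inv_ne_zero hh0), hellC]
  have hdeg3B : FunFld.Divisor.deg (Finsupp.single B (3 : ℤ) : FunFld.Divisor k K) = 3 := by
    rw [Groth.Agent.FF.deg_single, hB1]; norm_num
  have hell3B : FunFld.ell (Finsupp.single B (3 : ℤ) : FunFld.Divisor k K) = 2 := by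
    have := Groth.Agent.FF.ell_eq_of_deg_ge hK (Finsupp.single B (3 : ℤ) : FunFld.Divisor k K)
      (by rw [hdeg3B, hg]; norm_num)
    rw [hdeg3B, hg] at this
    have h' : (FunFld.ell (Finsupp.single B (3 : ℤ) : FunFld.Divisor k K) : ℤ) = 2 := by
      push_cast at this; linarith
    exact_mod_cast h'
  have hle : (Finsupp.single B (3 : ℤ) - Finsupp.single R (1 : ℤ) : FunFld.Divisor k K) ≤
      Finsupp.single B (3 : ℤ) := by
    intro S
    simp only [Finsupp.coe_sub, Pi.sub_apply, Finsupp.single_apply]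
    split_ifs <;> norm_num
  have hfin := Groth.Agent.FF.finite_L hK (Finsupp.single B (3 : ℤ) : FunFld.Divisor k K)
  have heq : FunFld.L (Finsupp.single B (3 : ℤ) - Finsupp.single R (1 : ℤ) : FunFld.Divisor k K) =
      FunFld.L (Finsupp.single B (3 : ℤ) : FunFld.Divisor k K) := by
    apply Submodule.eq_of_le_of_finrank_eq (Groth.Agent.FF.L_mono hle)
    have e1 := hell3BR
    have e2 := hell3B
    unfold FunFld.ell at e1 e2
    rw [e1, e2]
  have h1mem : (1 : K) ∈ FunFld.L (Finsupp.single B (3 : ℤ) : FunFld.Divisor k K) := by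
    intro S
    rw [map_one, Finsupp.single_apply]
    split_ifs
    · rw [← WithZero.exp_zero]; exact WithZero.exp_le_exp.mpr (by norm_num)
    · rw [WithZero.exp_zero]
  rw [← heq] at h1mem
  have hRB : R = B := by
    by_contra hne
    have := h1mem R
    rw [map_one, Finsupp.sub_apply, Finsupp.single_apply, Finsupp.single_apply,
      if_neg (Ne.symm hne), if_pos rfl, ← WithZero.exp_zero, WithZero.exp_le_exp] at this
    norm_num at this
  rw [hRB] at hell3BR
  have h31 : (Finsupp.single B (3 : ℤ) - Finsupp.single B (1 : ℤ) : FunFld.Divisor k K) =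
      Finsupp.single B (2 : ℤ) := by
    rw [← Finsupp.single_sub]; norm_num
  rw [h31] at hell3BR
  have : FunFld.ell (Finsupp.single B (2 : ℤ) : FunFld.Divisor k K) = 1 := hB
  omega

end Groth.Agent.S17251
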