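import Groth.Statements.S17255
import Groth.Agent.Lib.Helper14.IsogenyFinite2

set_option autoImplicit false
universe u
open CategoryTheory CategoryTheory.Limits MonoidalCategory CartesianMonoidalCategory MonObj GrpObj AlgebraicGeometry
open AbVar

namespace Groth.Agent.S17255

open Groth.Agent.Lib.Helper14

/-- Let k be a field, A and B abelian varieties over k (smooth proper k-group schemes with geometrically
connected fibres) with dim A = dim B (Krull dimensions of the underlying spaces), and f : A → B a
homomorphism. Then flatness of f is equivalent to finiteness of f. -/
theorem result (k : Type u) [Field k]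
    (A B : Over (Spec (CommRingCat.of k)))
    [GrpObj A] [Smooth A.hom] [IsProper A.hom] [GeometricallyConnected A.hom]
    [GrpObj B] [Smooth B.hom] [IsProper B.hom] [GeometricallyConnected B.hom]
    (f : A ⟶ B) [IsMonHom f] (hdim : topologicalKrullDim A.left = topologicalKrullDim B.left) :
    Flat f.left ↔ IsFinite f.left := by
  have hsub : Subsingleton (Spec (CommRingCat.of k)) :=
    inferInstanceAs (Subsingleton (PrimeSpectrum k))
  have hfprop : IsProper f.left := by
    have : IsProper (f.left ≫ B.hom) := by rw [Over.w]; infer_instance
    exact IsProper.of_comp f.left B.hom
  constructor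
  · intro hflat
    have hlqf : LocallyQuasiFinite f.left := locallyQuasiFinite_of_flat_of_dim_eq f hdim
    exact IsFinite.of_isProper_of_locallyQuasiFinite f.left
  · intro hfin
    have hconn : ConnectedSpace B.left :=
      GeometricallyConnected.connectedSpace_of_subsingleton B.hom
    have hcpt : CompactSpace B.left := QuasiCompact.compactSpace_of_compactSpace B.hom
    have hirr : IrreducibleSpace B.left := irreducibleSpace_of_grpObj_of_connectedSpace B
    have hsurj := surjective_of_isFinite_of_dim_eq f hdim
    have hred : IsReduced B.left := Groth.Agent.Lib.Helper54.isReduced_of_smooth_scheme B.hom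
    exact flat_of_denseRange_grpHom f hsurj.denseRange

end Groth.Agent.S17255
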