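import Groth.Statements.S17259
import Mathlib

set_option autoImplicit false
open CAlg

namespace Groth.Agent.S17259

theorem result {A B C : Type*} [Ring A] [Ring B] [Ring C]
    (f : B →+* A) (g : B →+* C) (φ : A →+ B) (a : A)
    (hc : ∀ x : A, Commute a x) (ha : a ∈ nonZeroDivisors A)
    (hex : Function.Exact φ g) (hg : Function.Surjective g)
    (hφ : ∀ x : A, f (φ x) = a * x)
    [(Ideal.span ({a} : Set A)).IsTwoSided] :
    ∃ q : C →+* A ⧸ Ideal.span ({a} : Set A),
      q.comp g = (Ideal.Quotient.mk (Ideal.span ({a} : Set A))).comp f ∧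
      Function.Injective (f.prod g) ∧
      (f.prod g).range = (Ideal.Quotient.mk (Ideal.span ({a} : Set A))).pullback q := by
  have hgφ : ∀ x, g (φ x) = 0 := fun x => (hex (φ x)).mpr ⟨x, rfl⟩
  have hker : RingHom.ker g ≤ RingHom.ker ((Ideal.Quotient.mk (Ideal.span ({a} : Set A))).comp f) := by
    intro b hb
    rw [RingHom.mem_ker] at hb
    obtain ⟨x, rfl⟩ := (hex b).mp hb
    rw [RingHom.mem_ker, RingHom.comp_apply, hφ, Ideal.Quotient.eq_zero_iff_mem,
      Ideal.mem_span_singleton']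
    exact ⟨x, ((hc x).eq).symm⟩
  let q : C →+* A ⧸ Ideal.span ({a} : Set A) :=
    RingHom.liftOfSurjective g hg ⟨(Ideal.Quotient.mk (Ideal.span ({a} : Set A))).comp f, hker⟩
  have hq : q.comp g = (Ideal.Quotient.mk (Ideal.span ({a} : Set A))).comp f :=
    RingHom.liftOfSurjective_comp g hg _
  refine ⟨q, hq, ?_, ?_⟩
  · rw [injective_iff_map_eq_zero]
    intro b hb
    have hb' : (f b, g b) = 0 := hb
    rw [Prod.mk_eq_zero] at hb'
    obtain ⟨x, rfl⟩ := (hex b).mp hb'.2
    have h1 : a * x = 0 := by rw [← hφ]; exact hb'.1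
    have h2 : x * a = 0 := by rw [← (hc x).eq]; exact h1
    have hx : x = 0 := (mem_nonZeroDivisors_iff.mp ha).2 x h2
    rw [hx, map_zero]
  · ext ⟨x, c⟩
    constructor
    · rintro ⟨b, hb⟩
      have hb' : (f b, g b) = (x, c) := hb
      rw [Prod.mk.injEq] at hb'
      obtain ⟨rfl, rfl⟩ := hb'
      exact (RingHom.congr_fun hq b).symm
    · intro hxc
      have hxc' : Ideal.Quotient.mk (Ideal.span ({a} : Set A)) x = q c := hxc
      obtain ⟨b, rfl⟩ := hg c
      have h1 : q (g b) = Ideal.Quotient.mk (Ideal.span ({a} : Set A)) (f b) := RingHom.congr_fun hq b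
      rw [h1, Ideal.Quotient.eq, Ideal.mem_span_singleton'] at hxc'
      obtain ⟨r, hr⟩ := hxc'
      refine ⟨b + φ r, ?_⟩
      show (f (b + φ r), g (b + φ r)) = (x, g b)
      rw [map_add, map_add, hφ, hgφ, add_zero, (hc r).eq, hr]
      simp

end Groth.Agent.S17259
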