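import Groth.Statements.S17260
import Mathlib

set_option autoImplicit false
open CAlg

namespace Groth.Agent.S17260

theorem result {A₁ A₂ B : Type*} [Ring A₁] [Ring A₂] [Ring B]
    (I₁ : Ideal A₁) (I₂ : Ideal A₂) [I₁.IsTwoSided] [I₂.IsTwoSided]
    (u₁ : A₁ ⧸ I₁ →+* B) (u₂ : A₂ ⧸ I₂ →+* B) :
    Subring.map ((Ideal.Quotient.mk I₁).prodMap (Ideal.Quotient.mk I₂))
        ((u₁.comp (Ideal.Quotient.mk I₁)).pullback (u₂.comp (Ideal.Quotient.mk I₂))) = u₁.pullback u₂ ∧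
      ∀ x ∈ (u₁.comp (Ideal.Quotient.mk I₁)).pullback (u₂.comp (Ideal.Quotient.mk I₂)),
        ((Ideal.Quotient.mk I₁).prodMap (Ideal.Quotient.mk I₂)) x = 0 ↔ (x.1 ∈ I₁ ∧ x.2 ∈ I₂) := by
  have hpm : ∀ x₁ x₂, ((Ideal.Quotient.mk I₁).prodMap (Ideal.Quotient.mk I₂)) (x₁, x₂) =
      (Ideal.Quotient.mk I₁ x₁, Ideal.Quotient.mk I₂ x₂) := fun _ _ => rfl
  constructor
  · ext ⟨y₁, y₂⟩
    constructor
    · rintro ⟨⟨x₁, x₂⟩, hx, hxy⟩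
      rw [hpm, Prod.mk.injEq] at hxy
      obtain ⟨rfl, rfl⟩ := hxy
      exact hx
    · intro hy
      obtain ⟨x₁, rfl⟩ := Ideal.Quotient.mk_surjective y₁
      obtain ⟨x₂, rfl⟩ := Ideal.Quotient.mk_surjective y₂
      exact ⟨(x₁, x₂), hy, rfl⟩
  · rintro ⟨x₁, x₂⟩ -
    rw [hpm, Prod.mk_eq_zero, Ideal.Quotient.eq_zero_iff_mem, Ideal.Quotient.eq_zero_iff_mem]

end Groth.Agent.S17260
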