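import Groth.Statements.S17264
import Groth.Agent.Lib.Helper66.StackSect
import Groth.Agent.Lib.Helper65.FpPaste

set_option autoImplicit false
open CategoryTheory
universe v u
open FibCat

namespace Groth.Agent.S17264

/-- Let C be a category with fibre products and let f : 𝒳 → 𝒴 and g : 𝒴 → 𝒵 be functors over C between
categories fibred in groupoids over C. If the composite g ∘ f is a representable 1-morphism (its
2-fibre product with every slice category C/U is equivalent over C to a slice category) and the
diagonal 𝒴 → 𝒴 ×_𝒵 𝒴 of g is a representable 1-morphism, then f is a representable 1-morphism. This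
is the case of the source's lemma in which the class of test objects is the class of representable
categories over C. -/
theorem result {C : Type u} [Category.{v} C]
    [Limits.HasPullbacks C] {𝒳 𝒴 𝒵 : BasedCategory.{v, max u v} C}
    (h𝒳 : FibCat.IsFibGrpd 𝒳.p) (h𝒴 : FibCat.IsFibGrpd 𝒴.p) (h𝒵 : FibCat.IsFibGrpd 𝒵.p)
    (f : 𝒳 ⥤ᵇ 𝒴) (g : 𝒴 ⥤ᵇ 𝒵)
    (hgf : FibCat.IsRepresentable1 (BasedFunctor.comp f g))
    (hΔ : FibCat.IsRepresentable1 (FibCat.diag g)) :
    FibCat.IsRepresentable1 f := by
  open Groth.Agent.Lib.Helper65 Groth.Agent.Lib.Helper66.StackBC Groth.Agent.Lib.Helper66.StackDiag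
    Groth.Agent.Lib.Helper66.StackSect in
  -- the graph `Γ : 𝒳 ⟶ 𝒳 ×_𝒵 𝒴`, a section of the base change `p` of `g`
  let p := FibCat.fpFst (BasedFunctor.comp f g) g
  let Γ : 𝒳 ⥤ᵇ FibCat.fp (BasedFunctor.comp f g) g :=
    FibCat.fpLift (BasedFunctor.id 𝒳) f (Iso.refl _)
  have e : BasedFunctor.comp Γ p ≅ BasedFunctor.id 𝒳 := Iso.refl _
  -- the second projection is a base change of `g ∘ f`
  have h2 : FibCat.IsRepresentable1 (FibCat.fpSnd (BasedFunctor.comp f g) g) := fun U x =>
    (isRepresentable_iff_of_equivOver _ (isEquivOver_bcE' g (BasedFunctor.comp f g) x)).mp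
      (hgf U (BasedFunctor.comp x g))
  -- the diagonal of `p` is a base change of the diagonal of `g`
  have hΔp : FibCat.IsRepresentable1 (FibCat.diag p) := fun U y =>
    (isRepresentable_iff_of_equivOver _ (isEquivOver_dTh g (BasedFunctor.comp f g) y)).mp
      (hΔ U (BasedFunctor.comp y (dQ g (BasedFunctor.comp f g))))
  -- the section `Γ` is a base change of the diagonal of `p`
  have hΓ : FibCat.IsRepresentable1 Γ := fun U y =>
    (isRepresentable_iff_of_equivOver _ (isEquivOver_sTh p Γ e y)).mp
      (hΔp U (BasedFunctor.comp y (sG p Γ e)))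
  exact isRepresentable1_comp Γ (FibCat.fpSnd (BasedFunctor.comp f g) g) hΓ h2

end Groth.Agent.S17264
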