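import Groth.Statements.S17274
import Groth.Agent.Lib.Helper66.AlgStEtale
import Groth.Agent.Lib.Helper66.AlgStDiag
import Groth.Agent.Lib.Helper66.AlgStBridge
import Groth.Agent.Lib.Helper65.FpSwap
import Groth.Agent.Lib.Helper65.FpPaste
import Groth.Agent.Lib.Helper65.FpFib

set_option autoImplicit false
open CategoryTheory CategoryTheory.Limits AlgebraicGeometry
universe u
open AlgSt

namespace Groth.Agent.S17274

/-- Let S be a scheme, P a property of morphisms of algebraic spaces over S (fppf sheaves on (Sch/S)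
with representable diagonal and an etale surjective map from a scheme) which is stable under base
change (along every pullback square of sheaves whose corners are algebraic spaces) and under
composition, and assume moreover that P is local on the base for etale coverings of algebraic
spaces. Let 𝒳, 𝒳′, 𝒴, 𝒴′, 𝒵 be algebraic stacks over (Sch/S) for the etale topology (stacks in
groupoids with diagonal representable by algebraic spaces and a smooth surjective presentation by a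
scheme), with functors p′ : 𝒳′ → 𝒵, q′ : 𝒴′ → 𝒵, f : 𝒳 → 𝒳′ and g : 𝒴 → 𝒴′ over (Sch/S), 𝒳 and 𝒴
being regarded over 𝒵 through p′ ∘ f and q′ ∘ g. If the diagonals of f and of g are representable by
algebraic spaces and have property P, then so does the diagonal of the induced functor f ×_𝒵 g : 𝒳
×_𝒵 𝒴 → 𝒳′ ×_𝒵 𝒴′, namely the functor into the 2-fibre product given by the first projection
followed by f, the second projection followed by g, and the 2-isomorphism whose component at an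
object (x, y, α) is α itself. As in the composition case, locality of P on the base is an added
hypothesis under which testing representable morphisms on schemes agrees with testing them on
algebraic spaces. -/
theorem result (S : Scheme.{u}) (𝒳 𝒳' 𝒴 𝒴' 𝒵 : AlgSt.Cat S)
    (h𝒳 : AlgSt.IsAlgStack Scheme.etalePrecoverage 𝒳) (h𝒳' : AlgSt.IsAlgStack Scheme.etalePrecoverage 𝒳') (h𝒴 : AlgSt.IsAlgStack Scheme.etalePrecoverage 𝒴) (h𝒴' : AlgSt.IsAlgStack Scheme.etalePrecoverage 𝒴') (h𝒵 : AlgSt.IsAlgStack Scheme.etalePrecoverage 𝒵)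
    (P : MorphismProperty (AlgSp.Sp S))
    (hPb : ∀ ⦃X₁ Y₁ X₂ Y₂ : AlgSp.Sp S⦄, AlgSp.IsAlgSpace X₁ → AlgSp.IsAlgSpace Y₁ → AlgSp.IsAlgSpace X₂ →
      AlgSp.IsAlgSpace Y₂ → ∀ (a : X₁ ⟶ Y₁) (b : Y₂ ⟶ Y₁) (a' : X₂ ⟶ Y₂) (b' : X₂ ⟶ X₁),
      IsPullback b' a' a b → P a → P a')
    (hPc : ∀ ⦃X Y Z : AlgSp.Sp S⦄, AlgSp.IsAlgSpace X → AlgSp.IsAlgSpace Y → AlgSp.IsAlgSpace Z →
      ∀ (a : X ⟶ Y) (b : Y ⟶ Z), P a → P b → P (a ≫ b))
    (hP : AlgSp.IsLocalOnBase AlgSp.IsEtCover P)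
    (p' : 𝒳' ⥤ᵇ 𝒵) (q' : 𝒴' ⥤ᵇ 𝒵) (f : 𝒳 ⥤ᵇ 𝒳') (g : 𝒴 ⥤ᵇ 𝒴')
    (e : BasedFunctor.comp (BasedFunctor.comp (FibCat.fpFst (BasedFunctor.comp f p') (BasedFunctor.comp g q')) f) p' ≅
      BasedFunctor.comp (BasedFunctor.comp (FibCat.fpSnd (BasedFunctor.comp f p') (BasedFunctor.comp g q')) g) q')
    (he : ∀ x, e.hom.toNatTrans.app x = x.obj.iso.hom) :
    AlgSt.RepByAlgSpWith P (FibCat.diag f) → AlgSt.RepByAlgSpWith P (FibCat.diag g) →
      AlgSt.RepByAlgSpWith P (FibCat.diag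
        (FibCat.fpLift (BasedFunctor.comp (FibCat.fpFst (BasedFunctor.comp f p') (BasedFunctor.comp g q')) f)
          (BasedFunctor.comp (FibCat.fpSnd (BasedFunctor.comp f p') (BasedFunctor.comp g q')) g) e)) := by
  intro hf hg
  have hDet : Groth.Agent.Lib.Helper66.RepWithPDet.Detected P :=
    Groth.Agent.Lib.Helper66.AlgStEtale.detected_of_isLocalOnBase_et P hP
  -- notation
  let yy : FibCat.fp p' (BasedFunctor.comp g q') ⥤ᵇ 𝒳' := FibCat.fpFst p' (BasedFunctor.comp g q')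
  let zz : FibCat.fp p' q' ⥤ᵇ 𝒴' := FibCat.fpSnd p' q'
  let E₁ := Groth.Agent.Lib.Helper65.fpPasteFst f p' (BasedFunctor.comp g q')
  let E₂ := Groth.Agent.Lib.Helper65.fpPasteSnd p' q' g
  let G₁ : FibCat.fp f yy ⥤ᵇ FibCat.fp p' (BasedFunctor.comp g q') := FibCat.fpSnd f yy
  let G₂ : FibCat.fp zz g ⥤ᵇ FibCat.fp p' q' := FibCat.fpFst zz g
  let F₂ : FibCat.fp p' (BasedFunctor.comp g q') ⥤ᵇ FibCat.fp p' q' :=
    FibCat.fpLift yy (BasedFunctor.comp (FibCat.fpSnd p' (BasedFunctor.comp g q')) g)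
      (FibCat.fpIso p' (BasedFunctor.comp g q'))
  -- diagonals of the two base changes
  have hG₂ : AlgSt.RepByAlgSpWith P (FibCat.diag G₂) :=
    Groth.Agent.Lib.Helper66.AlgStDiag.repByAlgSpWith_diag_fpFst P g zz hg
  have hG₁' : AlgSt.RepByAlgSpWith P (FibCat.diag (FibCat.fpFst yy f)) :=
    Groth.Agent.Lib.Helper66.AlgStDiag.repByAlgSpWith_diag_fpFst P f yy hf
  have hG₁ : AlgSt.RepByAlgSpWith P (FibCat.diag G₁) :=
    (Groth.Agent.Lib.Helper66.AlgStBridge.repByAlgSpWith_diag_of_equiv P (F := FibCat.fpFst yy f)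
      (F' := FibCat.fpSnd f yy) (Groth.Agent.Lib.Helper65.fpSwap yy f) (BasedFunctor.id _)
      (Groth.Agent.Lib.Helper65.fpSwap_isEquivOver yy f) (Groth.Agent.Lib.Helper65.isEquivOver_id _)
      (Iso.refl _)).2 hG₁'
  -- `F₂` is equivalent to `G₂`
  have hF₂ : AlgSt.RepByAlgSpWith P (FibCat.diag F₂) := by
    refine (Groth.Agent.Lib.Helper66.AlgStBridge.repByAlgSpWith_diag_of_equiv P (F := G₂) (F' := F₂)
      E₂ (BasedFunctor.id _) (Groth.Agent.Lib.Helper65.fpPasteSnd_isEquivOver p' q' g)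
      (Groth.Agent.Lib.Helper65.isEquivOver_id _) ?_).2 hG₂
    refine Groth.Agent.Lib.Helper90.LiftSqFp.fpIsoMk (Iso.refl _) (FibCat.fpIso zz g) (fun w => ?_)
    change p'.map (𝟙 _) ≫ (w.obj.fst.obj.iso.hom ≫ q'.map w.obj.iso.hom) =
      w.obj.fst.obj.iso.hom ≫ q'.map w.obj.iso.hom
    rw [p'.map_id, Category.id_comp]
  -- the composite
  have hcomp : AlgSt.RepByAlgSpWith P (FibCat.diag (BasedFunctor.comp G₁ F₂)) :=
    Groth.Agent.Lib.Helper66.AlgStEtale.repByAlgSpWith_diag_comp_det P hPb hPc hDet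
      (Groth.Agent.Lib.Helper65.isFibGrpd_fp f yy h𝒳.1.1 (Groth.Agent.Lib.Helper65.isFibGrpd_fp p' (BasedFunctor.comp g q') h𝒳'.1.1 h𝒴.1.1 h𝒵.1.1) h𝒳'.1.1)
      (Groth.Agent.Lib.Helper65.isFibGrpd_fp p' (BasedFunctor.comp g q') h𝒳'.1.1 h𝒴.1.1 h𝒵.1.1)
      G₁ F₂ hG₁ hF₂
  refine (Groth.Agent.Lib.Helper66.AlgStBridge.repByAlgSpWith_diag_of_equiv P (F := BasedFunctor.comp G₁ F₂)
    E₁ (BasedFunctor.id _) (Groth.Agent.Lib.Helper65.fpPasteFst_isEquivOver f p' (BasedFunctor.comp g q'))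
    (Groth.Agent.Lib.Helper65.isEquivOver_id _) ?_).2 hcomp
  refine Groth.Agent.Lib.Helper90.LiftSqFp.fpIsoMk (FibCat.fpIso f yy).symm (Iso.refl _) (fun w => ?_)
  have h1 : ((FibCat.fpLift (BasedFunctor.comp (FibCat.fpFst (BasedFunctor.comp f p') (BasedFunctor.comp g q')) f)
      (BasedFunctor.comp (FibCat.fpSnd (BasedFunctor.comp f p') (BasedFunctor.comp g q')) g) e).obj (E₁.obj w)).obj.iso.hom =
      p'.map w.obj.iso.hom ≫ w.obj.snd.obj.iso.hom := (he (E₁.obj w)).trans rfl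
  change p'.map w.obj.iso.inv ≫ _ = w.obj.snd.obj.iso.hom ≫ q'.map (𝟙 _)
  refine (congrArg (fun t => p'.map w.obj.iso.inv ≫ t) h1).trans ?_
  change p'.map w.obj.iso.inv ≫ p'.map w.obj.iso.hom ≫ w.obj.snd.obj.iso.hom = w.obj.snd.obj.iso.hom ≫ q'.map (𝟙 _)
  rw [← Category.assoc, ← p'.map_comp, Iso.inv_hom_id, p'.map_id, Category.id_comp, q'.map_id]
  exact (Category.comp_id _).symm

end Groth.Agent.S17274
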