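import Groth.Statements.S17276
import Groth.Agent.Lib.Helper67.GenCurve7

set_option autoImplicit false
universe u
open CategoryTheory CategoryTheory.Limits AlgebraicGeometry TopologicalSpace
open Variety

namespace Groth.Agent.S17276

/-- Let X be a proper scheme over a field k of dimension one (possibly reducible or non-reduced) and L
an invertible O_X-module that is nef, meaning χ(O_C ⊗ L) - χ(O_C) ≥ 0 for every integral closed
subscheme C ⊆ X of dimension one. Then the degree of L on X, namely χ(L) - χ(O_X), is nonnegative. -/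
theorem result (k : Type u) [Field k] (X : Scheme.{u})
    [X.Over (Spec (CommRingCat.of k))] [IsProper (X ↘ (Spec (CommRingCat.of k)))]
    (hdim : topologicalKrullDim X = 1) (L : X.Modules) (hL : PicF.IsInvertible L)
    (hnef : ∀ C : X.IdealSheafData, IsIntegral C.subscheme →
      topologicalKrullDim (C.support : Set X) = 1 →
        0 ≤ Curv2.euler k X (CohB1.tensorMod (ClSub.quotMod C) L) - Curv2.euler k X (ClSub.quotMod C)) :
    0 ≤ Curv2.deg k X L 1 := by
  haveI : IsNoetherian X :=
    Groth.Agent.Lib.Helper67.CurveP1.isNoetherian_of_proper k (X ↘ Spec (CommRingCat.of k))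
  have hL1 := Groth.Agent.Lib.Helper67.CurveTors.rank_one_of_isInvertible hL
  have hdim' : topologicalKrullDim X ≤ 1 := hdim.le
  rcases isEmpty_or_nonempty X with hemp | hne
  · unfold Curv2.deg
    rw [Groth.Agent.Lib.Helper67.CurveDeg.euler_eq_zero_of_isEmpty,
      Groth.Agent.Lib.Helper67.CurveDeg.euler_eq_zero_of_isEmpty]
    simp
  rw [← Groth.Agent.Lib.Helper67.GenCurve.delta_structureModule]
  refine Groth.Agent.S0027.result X
    (fun F => 0 ≤ Groth.Agent.Lib.Helper67.GenCurve.delta k X L 1 F) ?_ ?_ ?_ _
    (Groth.Agent.Lib.Helper67.GenCurve.isCoh_structureModule X)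
  · rintro M N ⟨e⟩ hM
    change 0 ≤ Groth.Agent.Lib.Helper67.GenCurve.delta k X L 1 N
    rw [← Groth.Agent.Lib.Helper67.GenCurve.delta_eq_of_iso k X L 1 e]
    exact hM
  · intro S hS c1 c2 c3 h1 h3
    change 0 ≤ Groth.Agent.Lib.Helper67.GenCurve.delta k X L 1 S.X₂
    rw [Groth.Agent.Lib.Helper67.GenCurve.delta_additive k X hdim' L hL1 hS c1 c2 c3]
    exact add_nonneg h1 h3
  · intro Z' i hi hZ' I ι hι hI
    haveI := hi
    haveI := hZ'
    haveI := hι
    haveI : IsLocallyNoetherian Z' := LocallyOfFiniteType.isLocallyNoetherian i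
    have hIcoh : Coh.IsCoh I := by
      haveI := Groth.Agent.Lib.Helper67.CurveCoh.isQuasicoherent_structureModule Z'
      exact ⟨hI, Groth.Agent.Lib.Helper49.isFiniteType_of_mono ι
        (Groth.Agent.Lib.Helper49.isFiniteType_unit Z')⟩
    change 0 ≤ Groth.Agent.Lib.Helper67.GenCurve.delta k X L 1
      ((Scheme.Modules.pushforward i).obj I)
    rw [Groth.Agent.Lib.Helper67.GenCurve.delta_push k hdim' L hL1 i I hIcoh,
      Groth.Agent.Lib.Helper67.GenCurve.deg_pull_eq_delta k hdim' L hL1 i]
    apply mul_nonneg (Int.natCast_nonneg _)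
    by_cases hd : topologicalKrullDim (Set.range i : Set X) = 1
    · rw [Groth.Agent.Lib.Helper67.GenCurve.delta_eq_of_iso k X L 1
        (Groth.Agent.Lib.Helper67.GenCurve.pushUnitImageIso i)]
      haveI : Nonempty i.ker.subscheme := ⟨i.toImage (genericPoint Z')⟩
      have hint : IsIntegral i.ker.subscheme := isIntegral_of_isOpenImmersion (inv i.toImage)
      have hsupp : (i.ker.support : Set X) = Set.range i := by
        rw [i.support_ker, i.isClosedEmbedding.isClosed_range.closure_eq]
      have h := hnef i.ker hint (by rw [hsupp]; exact hd)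
      unfold Groth.Agent.Lib.Helper67.GenCurve.delta
      simpa using h
    · have h0 := Groth.Agent.Lib.Helper67.GenCurve.le_zero_of_le_one_of_ne_one
        ((topologicalKrullDim_subspace_le X _).trans hdim') hd
      rw [Groth.Agent.Lib.Helper67.GenCurve.delta_eq_zero_of_closedSupp k X L hL1 _
        (Groth.Agent.S0019.result i _ (Groth.Agent.Lib.Helper67.GenCurve.isCoh_structureModule Z'))
        (Groth.Agent.Lib.Helper67.GenCurve.closedSupp_push_of_dim_le_zero i h0 _)]

end Groth.Agent.S17276
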