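import Groth.Statements.S17280
import Groth.Agent.Lib.Helper67.SmCurve16

set_option autoImplicit false
universe u
open CategoryTheory CategoryTheory.Limits AlgebraicGeometry TopologicalSpace
open Variety

namespace Groth.Agent.S17280

/-- Scheme case, curve-test form of nefness: let X be a proper scheme over a field k and 0 → E' → E →
E'' → 0 a short exact sequence whose three terms are finite locally free O_X-modules. Assume that E'
and E'' are nef in the curve-test sense: for every regular projective curve C over k (integral,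
proper over k, of dimension one, all local rings regular), every k-morphism f : C → X and every
invertible quotient M of the pulled-back module, deg M = χ(M) - χ(O_C) ≥ 0. Then E is nef in the
same sense. (The source states this for proper algebraic spaces and nefness of O(1) on P(E); on
proper schemes the two senses agree by the Barton–Kleiman criterion.) -/
theorem result (k : Type u) [Field k] (X : Scheme.{u})
    [X.Over (Spec (CommRingCat.of k))] [IsProper (X ↘ (Spec (CommRingCat.of k)))] (S : ShortComplex X.Modules) (hS : S.ShortExact)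
    (h₁ : FlatMod.IsFinLocFree S.X₁) (h₂ : FlatMod.IsFinLocFree S.X₂) (h₃ : FlatMod.IsFinLocFree S.X₃)
    (hnef₁ : ∀ (C : Scheme.{u}) [C.Over (Spec (CommRingCat.of k))] [IsProper (C ↘ (Spec (CommRingCat.of k)))] [IsIntegral C],
      topologicalKrullDim C = 1 → (∀ x : C, IsRegularLocalRing (C.presheaf.stalk x)) →
      ∀ (f : C ⟶ X), f ≫ (X ↘ (Spec (CommRingCat.of k))) = C ↘ (Spec (CommRingCat.of k)) →
      ∀ (M : C.Modules), PicF.IsInvertible M →
      ∀ (q : (Scheme.Modules.pullback f).obj S.X₁ ⟶ M), Epi q → 0 ≤ Curv2.deg k C M 1)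
    (hnef₃ : ∀ (C : Scheme.{u}) [C.Over (Spec (CommRingCat.of k))] [IsProper (C ↘ (Spec (CommRingCat.of k)))] [IsIntegral C],
      topologicalKrullDim C = 1 → (∀ x : C, IsRegularLocalRing (C.presheaf.stalk x)) →
      ∀ (f : C ⟶ X), f ≫ (X ↘ (Spec (CommRingCat.of k))) = C ↘ (Spec (CommRingCat.of k)) →
      ∀ (M : C.Modules), PicF.IsInvertible M →
      ∀ (q : (Scheme.Modules.pullback f).obj S.X₃ ⟶ M), Epi q → 0 ≤ Curv2.deg k C M 1) :
    ∀ (C : Scheme.{u}) [C.Over (Spec (CommRingCat.of k))] [IsProper (C ↘ (Spec (CommRingCat.of k)))] [IsIntegral C],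
    topologicalKrullDim C = 1 → (∀ x : C, IsRegularLocalRing (C.presheaf.stalk x)) →
    ∀ (f : C ⟶ X), f ≫ (X ↘ (Spec (CommRingCat.of k))) = C ↘ (Spec (CommRingCat.of k)) →
    ∀ (M : C.Modules), PicF.IsInvertible M →
    ∀ (q : (Scheme.Modules.pullback f).obj S.X₂ ⟶ M), Epi q → 0 ≤ Curv2.deg k C M 1 := by
  intro C _ _ _ hdimC hregC f hf M hM q hq
  haveI := hq
  haveI : (Scheme.Modules.pullback f).IsLeftAdjoint :=
    (Scheme.Modules.pullbackPushforwardAdjunction f).isLeftAdjoint
  haveI : (Scheme.Modules.pullback f).PreservesZeroMorphisms :=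
    Functor.preservesZeroMorphisms_of_isLeftAdjoint _
  haveI := hS.epi_g
  have hSF : (S.map (Scheme.Modules.pullback f)).Exact :=
    hS.exact.map_of_epi_of_preservesCokernel (Scheme.Modules.pullback f) hS.epi_g inferInstance
  haveI : Epi (S.map (Scheme.Modules.pullback f)).g :=
    inferInstanceAs (Epi ((Scheme.Modules.pullback f).map S.g))
  have hA : ((Scheme.Modules.pullback f).obj S.X₁).IsQuasicoherent :=
    Groth.Agent.Lib.Helper49.isQuasicoherent_of_isFinLocFree _
      (Groth.Agent.Lib.Helper18.LimFinLocFree.isFinLocFree_pullback f S.X₁ h₁)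
  haveI : Epi (show (S.map (Scheme.Modules.pullback f)).X₂ ⟶ M from q) := hq
  exact Groth.Agent.Lib.Helper67.SmCurve.deg_nonneg_of_quot_ext k C hregC hdimC.le
    (S.map (Scheme.Modules.pullback f)).f (S.map (Scheme.Modules.pullback f)).g
    (S.map (Scheme.Modules.pullback f)).zero hSF.gIsCokernel hA
    (fun N hN p hp => hnef₁ C hdimC hregC f hf N hN p hp)
    (fun N hN p hp => hnef₃ C hdimC hregC f hf N hN p hp) M hM
    (show (S.map (Scheme.Modules.pullback f)).X₂ ⟶ M from q)

end Groth.Agent.S17280
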