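import Groth.Statements.S17287
import Groth.Agent.Lib.Helper78.FibreIrredMain
import Groth.Agent.S2285

set_option autoImplicit false
universe u
open CategoryTheory CategoryTheory.Limits AlgebraicGeometry TopologicalSpace
open Variety

namespace Groth.Agent.S17287

/-- Let f : Y → X be a surjective k-morphism of proper schemes over a field k and C ⊆ X an integral
closed subscheme of dimension one. Then there is an integral closed subscheme C' ⊆ Y of dimension
one with f(C') = C as closed subsets. (The source states this for proper algebraic spaces over k;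
this is the case of schemes.) -/
theorem result (k : Type u) [Field k] (X Y : Scheme.{u})
    [X.Over (Spec (CommRingCat.of k))] [IsProper (X ↘ (Spec (CommRingCat.of k)))] [Y.Over (Spec (CommRingCat.of k))] [IsProper (Y ↘ (Spec (CommRingCat.of k)))]
    (f : Y ⟶ X) (hf : f ≫ (X ↘ (Spec (CommRingCat.of k))) = Y ↘ (Spec (CommRingCat.of k))) [Surjective f]
    (C : X.IdealSheafData) [IsIntegral C.subscheme] (hC : topologicalKrullDim (C.support : Set X) = 1) :
    ∃ C' : Y.IdealSheafData, IsIntegral C'.subscheme ∧ topologicalKrullDim (C'.support : Set Y) = 1 ∧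
      f.base '' (C'.support : Set Y) = (C.support : Set X) := by
  have hlft : LocallyOfFiniteType f :=
    Groth.Agent.Lib.Helper78.FibreIrred.lft_of_comp_eq _ (X ↘ (Spec (CommRingCat.of k))) f hf
  have hfp : IsProper f := by
    have : IsProper (f ≫ (X ↘ (Spec (CommRingCat.of k)))) := by rw [hf]; infer_instance
    exact IsProper.of_comp f (X ↘ (Spec (CommRingCat.of k)))
  -- the generic point of `C`
  have hCirr : IsIrreducible (C.support : Set X) := by
    have h1 := (IrreducibleSpace.isIrreducible_univ ↥C.subscheme).image C.subschemeι
      C.subschemeι.continuous.continuousOn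
    rwa [Set.image_univ, Scheme.IdealSheafData.range_subschemeι] at h1
  have hCcl : IsClosed (C.support : Set X) := C.support.isClosed
  have hgen : closure {hCirr.genericPoint} = (C.support : Set X) :=
    (hCirr.isGenericPoint_genericPoint hCcl).def
  set η := hCirr.genericPoint with hη
  obtain ⟨x₀, hx₀⟩ := f.surjective η
  obtain ⟨y, hy1, hy2⟩ := Groth.Agent.Lib.Helper55.exists_mem_fiber_trdeg_eq_zero f x₀
  rw [hx₀] at hy1
  obtain ⟨a, b, ha, hb, hab⟩ :=
    Groth.Agent.Lib.Helper55.exists_dim_closure_eq_add (X ↘ (Spec (CommRingCat.of k))) f y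
  obtain ⟨n, hn1, hn2⟩ := Groth.Agent.Lib.Helper55.exists_dim_closure_asFiber_eq_trdeg f y
  have hn0 : n = 0 := by
    rw [hy2] at hn2
    exact_mod_cast hn2.symm
  have hb0 : b = 0 := by
    have := hb.symm.trans hn1
    have h3 : b = n := by exact_mod_cast this
    omega
  have ha1 : a = 1 := by
    rw [hy1, hgen, hC] at ha
    exact_mod_cast ha.symm
  rw [ha1, hb0] at hab
  refine ⟨Scheme.IdealSheafData.vanishingIdeal ⟨closure {y}, isClosed_closure⟩, ?_, ?_, ?_⟩
  · have hred := Groth.Agent.S2285.isReduced_subscheme_vanishingIdeal
      (⟨closure {y}, isClosed_closure⟩ : TopologicalSpace.Closeds Y)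
    set I := Scheme.IdealSheafData.vanishingIdeal
      (⟨closure {y}, isClosed_closure⟩ : TopologicalSpace.Closeds Y) with hI
    have hrange : Set.range I.subschemeι = closure {y} := by
      rw [Scheme.IdealSheafData.range_subschemeι, hI,
        Scheme.IdealSheafData.coe_support_vanishingIdeal]
      rfl
    have hirr : IrreducibleSpace ↥I.subscheme := by
      have h1 : IsIrreducible (Set.range I.subschemeι) :=
        hrange ▸ isIrreducible_singleton.closure
      have h2 : IrreducibleSpace ↥(Set.range I.subschemeι) := Subtype.irreducibleSpace h1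
      exact Groth.Agent.Lib.Helper78.FibreIrred.irreducibleSpace_of_homeomorph
        I.subschemeι.isEmbedding.toHomeomorph
    exact isIntegral_of_irreducibleSpace_of_isReduced _
  · rw [Scheme.IdealSheafData.coe_support_vanishingIdeal]
    exact hab
  · rw [Scheme.IdealSheafData.coe_support_vanishingIdeal]
    show f '' closure {y} = (C.support : Set X)
    rw [← hgen, ← hy1]
    apply subset_antisymm
    · exact (image_closure_subset_closure_image f.continuous).trans (by rw [Set.image_singleton])
    · have hcl : IsClosed (f '' closure {y}) := f.isClosedMap _ isClosed_closure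
      exact hcl.closure_subset_iff.mpr
        (Set.singleton_subset_iff.mpr ⟨y, subset_closure rfl, rfl⟩)

end Groth.Agent.S17287
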