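import Groth.Statements.S1729
import Groth.Agent.H8.ProjCover

set_option autoImplicit false
universe u
open Dual2

namespace Groth.Agent.S1729

/-- Over a local ring, every finite module M admits a projective cover: a surjection from a projective
module P onto M such that no proper submodule of P maps onto M. -/
theorem result (R : Type u) [CommRing R] [IsLocalRing R] (M : Type u) [AddCommGroup M] [Module R M] [Module.Finite R M] : ∃ (P : Type u) (_ : AddCommGroup P) (_ : Module R P) (f : P →ₗ[R] M), Dual2.IsProjectiveCover f := by
  obtain ⟨n, f, hf⟩ := Groth.Agent.H8.exists_projectiveCover R M
  exact ⟨Fin n → R, inferInstance, inferInstance, f, hf⟩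

end Groth.Agent.S1729
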