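import Groth.Statements.S9729
import Groth.Agent.Lib.Helper10.LciMor

set_option autoImplicit false
universe u
open FlatMor

namespace Groth.Agent.S9729

open Groth.Agent.Lib.Helper10.LciComp Groth.Agent.Lib.Helper10.LciSmooth
open Groth.Agent.Lib.Helper10.LciMor

open AlgebraicGeometry CategoryTheory Limits in
/-- Let f : X ⟶ Y and g : Y ⟶ S be morphisms with g smooth. If f ≫ g is a local complete intersection
morphism (Koszul at every point of X) then f is a local complete intersection morphism. -/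
theorem result {X Y S : Scheme.{u}} (f : X ⟶ Y) (g : Y ⟶ S) [Smooth g]
    (h : ∀ x : X, Synt.IsKoszulAt (f ≫ g) x) (x : X) : Synt.IsKoszulAt f x := by
  have hlci : lciMor (f ≫ g) := lciMor_of_forall_isKoszulAt _ h
  obtain ⟨W, hW, hxW, -⟩ := (TopologicalSpace.Opens.isBasis_iff_nbhd.mp S.isBasis_affineOpens)
    (TopologicalSpace.Opens.mem_top (g (f x)))
  obtain ⟨V, hV, hxV, hVW⟩ := (TopologicalSpace.Opens.isBasis_iff_nbhd.mp Y.isBasis_affineOpens)
    (show f x ∈ g ⁻¹ᵁ W from hxW)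
  obtain ⟨U, hU, hxU, hUV⟩ := (TopologicalSpace.Opens.isBasis_iff_nbhd.mp X.isBasis_affineOpens)
    (show x ∈ f ⁻¹ᵁ V from hxV)
  have eUW : U ≤ (f ≫ g) ⁻¹ᵁ W := fun y hy => hVW (hUV hy)
  have hQ := HasRingHomProperty.appLE lciMor _ hlci ⟨W, hW⟩ ⟨U, hU⟩ eUW
  have hcomp : ((f ≫ g).appLE W U eUW).hom =
      (f.appLE V U hUV).hom.comp (g.appLE W V hVW).hom := by
    rw [← CommRingCat.hom_comp, Scheme.Hom.appLE_comp_appLE]
  rw [hcomp] at hQ
  exact isKoszulAt_of_appLE f ⟨U, hU⟩ ⟨V, hV⟩ hUV x hxU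
    (isLCIHom_of_comp_smooth _ (g.smooth_appLE hW hV hVW) _ hQ)

end Groth.Agent.S9729
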