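import Groth.Statements.S17309
import Groth.Agent.Lib.Helper24.GeomFibPlumbing

set_option autoImplicit false
universe u
open CurvSt

namespace Groth.Agent.S17309

open CategoryTheory AlgebraicGeometry in
/-- Let X be a proper scheme of dimension at most 1 over a field k with structure morphism p, and Spec k
→ S a point of the base. The classifying object of X in the stack of curves over S lies in the open
substack of curves with geometrically reduced fibres — by definition: every geometric fibre of the
family h_X → h_{Spec k}, realised as a scheme over an algebraically closed field through a cartesian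
square of sheaves, is reduced — if and only if X is geometrically reduced over k. -/
theorem result (S : Scheme.{u}) (k : Type u) [Field k] (t : Spec (CommRingCat.of k) ⟶ S)
    (X : Scheme.{u}) (p : X ⟶ Spec (CommRingCat.of k)) [IsProper p] (hdim : topologicalKrullDim ↥X ≤ 1) :
    CurvSt.GeomFib (fun _ _ _ X' _ _ => IsReduced X') ((CurvSt.toSpFam S 0).obj ⟨Over.mk t, X, p, Fin.elim0, fun i => i.elim0⟩) ↔ GeometricallyReduced p := by
  rw [show ((CurvSt.toSpFam S 0).obj ⟨Over.mk t, X, p, Fin.elim0, fun i => i.elim0⟩) =
    Groth.Agent.Lib.Helper24.spFamOf S t X p from rfl]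
  rw [Groth.Agent.Lib.Helper24.geomFib_spFamOf_iff t X p (fun _ _ _ X' _ => IsReduced X')]
  constructor
  · intro h
    refine ⟨fun K _ y Z fst snd hZ => ?_⟩
    let Ω : Type u := AlgebraicClosure K
    let ι : Spec (CommRingCat.of Ω) ⟶ Spec (CommRingCat.of K) :=
      Spec.map (CommRingCat.ofHom (algebraMap K Ω))
    have hpb : IsPullback (Limits.pullback.fst snd ι) (Limits.pullback.snd snd ι) snd ι :=
      IsPullback.of_hasPullback snd ι
    have hpaste : IsPullback (Limits.pullback.fst snd ι ≫ fst) (Limits.pullback.snd snd ι) p (ι ≫ y) :=
      hpb.paste_horiz hZ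
    have hred : IsReduced (Limits.pullback snd ι) := h Ω (ι ≫ y) _ _ _ hpaste
    have hdom : IsDominant ι := by
      have : Surjective ι := by
        rw [show ι = Spec.map (CommRingCat.ofHom (algebraMap K Ω)) from rfl]
        refine ⟨fun x => ?_⟩
        exact ⟨IsLocalRing.closedPoint Ω, Subsingleton.elim _ _⟩
      infer_instance
    have hK : _root_.IsReduced (CommRingCat.of K) := by
      change _root_.IsReduced K
      infer_instance
    have hredK : IsReduced (Spec (CommRingCat.of K)) :=
      (AlgebraicGeometry.affine_isReduced_iff (CommRingCat.of K)).mpr hK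
    have hsd : IsSchemeTheoreticallyDominant ι := IsSchemeTheoreticallyDominant.of_isDominant ι
    have : IsSchemeTheoreticallyDominant (Limits.pullback.fst snd ι) := inferInstance
    exact IsSchemeTheoreticallyDominant.isReduced (Limits.pullback.fst snd ι)
  · intro h Ω _ _ t' X' q i₀ hi
    exact h.geometrically_isReduced t' i₀ q hi

end Groth.Agent.S17309
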