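import Groth.Statements.S17310
import Groth.Agent.Lib.Helper24.GeomFibField
import Groth.Agent.Lib.Helper13.FibreDimField

set_option autoImplicit false
universe u
open CurvSt

namespace Groth.Agent.S17310

open CategoryTheory AlgebraicGeometry in
/-- Let X be a proper scheme of dimension at most 1 over a field k with structure morphism p, and Spec k
→ S a point of the base. The classifying object of X in the stack of curves over S lies in the open
substack of curves with geometrically reduced, connected fibres of dimension 1 — by definition: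
every geometric fibre of h_X → h_{Spec k}, realised as a scheme over an algebraically closed field
through a cartesian square of sheaves, is reduced, connected and of Krull dimension 1 — if and only
if X is geometrically reduced and geometrically connected over k and has Krull dimension 1. -/
theorem result (S : Scheme.{u}) (k : Type u) [Field k] (t : Spec (CommRingCat.of k) ⟶ S)
    (X : Scheme.{u}) (p : X ⟶ Spec (CommRingCat.of k)) [IsProper p] (hdim : topologicalKrullDim ↥X ≤ 1) :
    CurvSt.GeomFib (fun _ _ _ X' _ _ => IsReduced X' ∧ ConnectedSpace ↥X' ∧ topologicalKrullDim ↥X' = 1) ((CurvSt.toSpFam S 0).obj ⟨Over.mk t, X, p, Fin.elim0, fun i => i.elim0⟩) ↔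
      GeometricallyReduced p ∧ GeometricallyConnected p ∧ topologicalKrullDim ↥X = 1 := by
  rw [show ((CurvSt.toSpFam S 0).obj ⟨Over.mk t, X, p, Fin.elim0, fun i => i.elim0⟩) =
    Groth.Agent.Lib.Helper24.spFamOf S t X p from rfl]
  rw [Groth.Agent.Lib.Helper24.geomFib_spFamOf_iff t X p
    (fun _ _ _ X' _ => IsReduced X' ∧ ConnectedSpace ↥X' ∧ topologicalKrullDim ↥X' = 1)]
  have hdimeq : ∀ (Ω : Type u) [Field Ω] (t' : Spec (CommRingCat.of Ω) ⟶ Spec (CommRingCat.of k))
      (X' : Scheme.{u}) (q : X' ⟶ Spec (CommRingCat.of Ω)) (i₀ : X' ⟶ X), IsPullback i₀ q p t' →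
      topologicalKrullDim ↥X' = topologicalKrullDim ↥X := by
    intro Ω _ t' X' q i₀ hi
    exact Groth.Agent.Lib.Helper13.FibreDimField.topologicalKrullDim_eq_of_isPullback_field p q i₀ t' hi
  constructor
  · intro h
    refine ⟨?_, ?_, ?_⟩
    · exact Groth.Agent.Lib.Helper24.geometricallyReduced_of_forall_algClosed p
        (fun Ω _ _ t' X' q i₀ hi => (h Ω t' X' q i₀ hi).1)
    · exact Groth.Agent.Lib.Helper24.geometricallyConnected_of_forall_algClosed p
        (fun Ω _ _ t' X' q i₀ hi => (h Ω t' X' q i₀ hi).2.1)
    · have hpb := IsPullback.of_hasPullback p (Groth.Agent.Lib.Helper24.specAlgClosure k)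
      rw [← hdimeq (AlgebraicClosure k) _ _ _ _ hpb]
      exact (h (AlgebraicClosure k) _ _ _ _ hpb).2.2
  · rintro ⟨h1, h2, h3⟩ Ω _ _ t' X' q i₀ hi
    refine ⟨h1.geometrically_isReduced t' i₀ q hi, h2.geometrically_connectedSpace t' i₀ q hi, ?_⟩
    rw [hdimeq Ω t' X' q i₀ hi]
    exact h3

end Groth.Agent.S17310
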