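import Groth.Statements.S17311
import Groth.Agent.Lib.Helper24.GeomFibField
import Groth.Agent.Lib.Helper24.FinitePreimageField

set_option autoImplicit false
universe u
open CurvSt

namespace Groth.Agent.S17311

open CategoryTheory AlgebraicGeometry in
/-- Let X be a proper scheme of dimension at most 1 over a field k with structure morphism p, and Spec k
→ S a point of the base. The classifying object of X in the stack of curves over S lies in the open
substack of curves with isolated singularities — by definition: every geometric fibre of h_X →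
h_{Spec k}, realised as a scheme over an algebraically closed field Ω through a cartesian square of
sheaves, is smooth over Ω outside a finite set of points — if and only if p : X → Spec k is smooth
outside a finite set of points of X. -/
theorem result (S : Scheme.{u}) (k : Type u) [Field k] (t : Spec (CommRingCat.of k) ⟶ S)
    (X : Scheme.{u}) (p : X ⟶ Spec (CommRingCat.of k)) [IsProper p] (hdim : topologicalKrullDim ↥X ≤ 1) :
    CurvSt.GeomFib (fun _ _ _ X' q _ => Set.Finite {x : ↥X' | ¬ ∃ U : X'.Opens, x ∈ U ∧ Smooth (U.ι ≫ q)}) ((CurvSt.toSpFam S 0).obj ⟨Over.mk t, X, p, Fin.elim0, fun i => i.elim0⟩) ↔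
      Set.Finite {x : ↥X | ¬ ∃ U : X.Opens, x ∈ U ∧ Smooth (U.ι ≫ p)} := by
  rw [show ((CurvSt.toSpFam S 0).obj ⟨Over.mk t, X, p, Fin.elim0, fun i => i.elim0⟩) =
    Groth.Agent.Lib.Helper24.spFamOf S t X p from rfl]
  rw [Groth.Agent.Lib.Helper24.geomFib_spFamOf_iff t X p
    (fun _ _ _ X' q => Set.Finite {x : ↥X' | ¬ ∃ U : X'.Opens, x ∈ U ∧ Smooth (U.ι ≫ q)})]
  change (∀ (Ω : Type u) [Field Ω] [IsAlgClosed Ω] (t' : Spec (CommRingCat.of Ω) ⟶ Spec (CommRingCat.of k))
      (X' : Scheme.{u}) (q : X' ⟶ Spec (CommRingCat.of Ω)) (i₀ : X' ⟶ X), IsPullback i₀ q p t' →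
      Set.Finite (Groth.Agent.Lib.Helper24.nonSmoothSet q)) ↔
    Set.Finite (Groth.Agent.Lib.Helper24.nonSmoothSet p)
  have hlfp : LocallyOfFinitePresentation p := inferInstance
  constructor
  · intro h
    have hpb := IsPullback.of_hasPullback p (Groth.Agent.Lib.Helper24.specAlgClosure k)
    have hfin := h (AlgebraicClosure k) _ _ _ _ hpb
    have hint : IsIntegralHom (Groth.Agent.Lib.Helper24.specAlgClosure k) := by
      rw [IsIntegralHom.SpecMap_iff]
      exact algebraMap_isIntegral_iff.mpr inferInstance
    have hcl : IsClosedMap (Limits.pullback.fst p (Groth.Agent.Lib.Helper24.specAlgClosure k)) :=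
      (Limits.pullback.fst p (Groth.Agent.Lib.Helper24.specAlgClosure k)).isClosedMap
    have hsub := Groth.Agent.Lib.Helper24.nonSmoothSet_subset_image hpb hcl
    exact (hfin.image _).subset hsub
  · intro h Ω _ _ t' X' q i₀ hi
    have hcl := Groth.Agent.Lib.Helper24.isClosed_nonSmoothSet p
    have hfin := Groth.Agent.Lib.Helper24.finite_preimage_of_finite_of_isClosed hi _ h hcl
    exact hfin.subset (Groth.Agent.Lib.Helper24.nonSmoothSet_subset_preimage hi)

end Groth.Agent.S17311
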