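import Groth.Statements.S17335
import Mathlib

set_option autoImplicit false
universe u v
open CAlg

namespace Groth.Agent.S17335

variable (k : Type u) [Field k] (A : Type v) [CommRing A] [Algebra k A]

theorem sub_algebraMap_mem_ker (f : A →ₐ[k] k) (a : A) : a - algebraMap k A (f a) ∈ RingHom.ker f := by
  rw [RingHom.mem_ker, map_sub, AlgHom.commutes]
  simp

instance ker_isMaximal (f : A →ₐ[k] k) : (RingHom.ker f).IsMaximal := by
  apply RingHom.ker_isMaximal_of_surjective
  intro c
  exact ⟨algebraMap k A c, by simp⟩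

theorem ker_injective : Function.Injective (fun f : A →ₐ[k] k => RingHom.ker f) := by
  intro f g hfg
  ext a
  have h1 := sub_algebraMap_mem_ker k A f a
  have hfg' : RingHom.ker f = RingHom.ker g := hfg
  rw [hfg', RingHom.mem_ker, map_sub, AlgHom.commutes] at h1
  rw [sub_eq_zero] at h1
  exact h1.symm

theorem exists_algHom_ker_eq [IsAlgClosed k] [Module.Finite k A] (m : Ideal A) [hm : m.IsMaximal] :
    ∃ f : A →ₐ[k] k, RingHom.ker f = m := by
  letI : Field (A ⧸ m) := Ideal.Quotient.field m
  haveI : Module.Finite k (A ⧸ m) := Module.Finite.of_surjective (Ideal.Quotient.mkₐ k m).toLinearMap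
    (Ideal.Quotient.mkₐ_surjective k m)
  haveI : Algebra.IsIntegral k (A ⧸ m) := Algebra.IsIntegral.of_finite k (A ⧸ m)
  have hb : Function.Bijective (algebraMap k (A ⧸ m)) := IsAlgClosed.algebraMap_bijective_of_isIntegral
  let e : k ≃ₐ[k] (A ⧸ m) := AlgEquiv.ofBijective (Algebra.ofId k (A ⧸ m)) hb
  refine ⟨(e.symm : (A ⧸ m) →ₐ[k] k).comp (Ideal.Quotient.mkₐ k m), ?_⟩
  ext a
  rw [RingHom.mem_ker]
  show e.symm (Ideal.Quotient.mk m a) = 0 ↔ a ∈ m
  rw [EmbeddingLike.map_eq_zero_iff, Ideal.Quotient.eq_zero_iff_mem]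

theorem result (k : Type u) [Field k]
    [IsAlgClosed k] (A : Type v) [CommRing A] [Algebra k A] [Module.Finite k A] :
    Finite (A →ₐ[k] k) ∧
      Function.Surjective (AlgHom.pi (R := k) (fun f : A →ₐ[k] k => f)) ∧
      RingHom.ker (AlgHom.pi (R := k) (fun f : A →ₐ[k] k => f)) = nilradical A := by
  haveI : IsArtinianRing A := isArtinian_of_tower k inferInstance
  have hfin : Finite (A →ₐ[k] k) := by
    let φ : (A →ₐ[k] k) → MaximalSpectrum A := fun f => ⟨RingHom.ker f, ker_isMaximal k A f⟩
    apply Finite.of_injective φ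
    intro f g hfg
    apply ker_injective k A
    exact congrArg MaximalSpectrum.asIdeal hfg
  refine ⟨hfin, ?_, ?_⟩
  · intro t
    have hcop : Pairwise (Function.onFun IsCoprime (fun f : A →ₐ[k] k => RingHom.ker f)) := by
      intro f g hfg
      exact Ideal.isCoprime_of_isMaximal (fun h => hfg (ker_injective k A h))
    obtain ⟨x, hx⟩ := Ideal.quotientInfToPiQuotient_surj hcop
      (fun f => Ideal.Quotient.mk (RingHom.ker f) (algebraMap k A (t f)))
    obtain ⟨a, rfl⟩ := Ideal.Quotient.mk_surjective x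
    refine ⟨a, ?_⟩
    funext f
    have h1 := congrFun hx f
    simp only [Ideal.quotientInfToPiQuotient, Ideal.Quotient.lift_mk, RingHom.pi_apply] at h1
    rw [Ideal.Quotient.eq, RingHom.mem_ker, map_sub, AlgHom.commutes] at h1
    simpa [sub_eq_zero] using h1
  · ext a
    rw [RingHom.mem_ker]
    constructor
    · intro ha
      rw [nilradical, ← IsArtinianRing.jacobson_eq_radical, Ideal.jacobson, Ideal.mem_sInf]
      rintro m ⟨-, hm⟩
      haveI := hm
      obtain ⟨f, rfl⟩ := exists_algHom_ker_eq k A m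
      rw [RingHom.mem_ker]
      exact congrFun ha f
    · intro ha
      funext f
      have : IsNilpotent (f a) := (mem_nilradical.mp ha).map f
      exact this.eq_zero

end Groth.Agent.S17335
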