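import Groth.Statements.S17336
import Mathlib
import Groth.Agent.S17335

set_option autoImplicit false
universe u v
open CAlg

namespace Groth.Agent.S17336

theorem formallyEtale_quotient_nilradical (k : Type u) [Field k]
    [IsAlgClosed k] (A : Type v) [CommRing A] [Algebra k A] [Module.Finite k A] :
    Algebra.FormallyEtale k (A ⧸ nilradical A) := by
  obtain ⟨hfin, hsurj, hker⟩ := Groth.Agent.S17335.result k A
  haveI := hfin
  let ev : A →ₐ[k] ((A →ₐ[k] k) → k) := AlgHom.pi (R := k) (fun f : A →ₐ[k] k => f)
  have hker' : RingHom.ker ev = nilradical A := hker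
  let e1 : (A ⧸ RingHom.ker ev) ≃ₐ[k] ((A →ₐ[k] k) → k) :=
    Ideal.quotientKerAlgEquivOfSurjective hsurj
  let e2 : (A ⧸ nilradical A) ≃ₐ[k] (A ⧸ RingHom.ker ev) :=
    Ideal.quotientEquivAlgOfEq k hker'.symm
  exact Algebra.FormallyEtale.of_equiv (e2.trans e1).symm

theorem result (k : Type u) [Field k]
    [IsAlgClosed k] (A : Type v) [CommRing A] [Algebra k A] [Module.Finite k A] :
    ∃! s : (A ⧸ nilradical A) →ₐ[k] A,
      (Ideal.Quotient.mkₐ k (nilradical A)).comp s = AlgHom.id k (A ⧸ nilradical A) := by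
  haveI : IsArtinianRing A := isArtinian_of_tower k inferInstance
  haveI := formallyEtale_quotient_nilradical k A
  have hnil : IsNilpotent (nilradical A) := IsArtinianRing.isNilpotent_nilradical
  refine ⟨Algebra.FormallySmooth.lift (nilradical A) hnil (AlgHom.id k _),
    Algebra.FormallySmooth.comp_lift (nilradical A) hnil (AlgHom.id k _), ?_⟩
  intro s hs
  apply Algebra.FormallyUnramified.lift_unique (nilradical A) hnil
  rw [hs, Algebra.FormallySmooth.comp_lift]

end Groth.Agent.S17336
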