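import Groth.Statements.S17321
import Mathlib
import Groth.Agent.S17336

set_option autoImplicit false
universe u v
open CAlg

namespace Groth.Agent.S17321

/-- Over a commutative Artinian ring, every maximal ideal is the annihilator of an element. -/
theorem exists_colon_eq_of_isMaximal {A : Type v} [CommRing A] [IsArtinianRing A]
    (m : Ideal A) [hm : m.IsMaximal] : ∃ x : A, ∀ a : A, a ∈ m ↔ a * x = 0 := by
  haveI := hm.isPrime
  have h0 : Module.annihilator A A = ⊥ := by
    rw [eq_bot_iff]
    intro a ha
    rw [Module.mem_annihilator] at ha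
    simpa using ha 1
  have h1 : m ∈ (Module.annihilator A A).minimalPrimes :=
    IsArtinianRing.mem_minimalPrimes (by rw [h0]; exact bot_le)
  have h2 : m ∈ associatedPrimes A A :=
    Module.associatedPrimes.minimalPrimes_annihilator_subset_associatedPrimes A A h1
  obtain ⟨-, x, hx⟩ := isAssociatedPrime_iff.mp h2
  refine ⟨x, fun a => ?_⟩
  rw [hx, Submodule.mem_colon_singleton]
  simp

theorem subsingleton_of_subsingleton_hom {A : Type v} [CommRing A] [IsArtinianRing A]
    {M : Type v} [AddCommGroup M] [Module A M] [Module.Finite A M]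
    (h : Subsingleton (M →ₗ[A] A)) : Subsingleton M := by
  by_contra hM
  rw [not_subsingleton_iff_nontrivial] at hM
  obtain ⟨M', hM', -⟩ := (eq_top_or_exists_le_coatom (⊥ : Submodule A M)).resolve_left bot_ne_top
  have hs : IsSimpleModule A (M ⧸ M') := isSimpleModule_iff_isCoatom.mpr hM'
  obtain ⟨m, hm, ⟨e⟩⟩ := isSimpleModule_iff_quot_maximal.mp hs
  obtain ⟨x, hx⟩ := exists_colon_eq_of_isMaximal m
  -- the map A/m → A, 1 ↦ x
  let g : (A ⧸ m) →ₗ[A] A := Submodule.liftQ m (LinearMap.toSpanSingleton A A x) (by
    intro a ha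
    rw [LinearMap.mem_ker, LinearMap.toSpanSingleton_apply, smul_eq_mul]
    exact (hx a).mp ha)
  have hg : Function.Injective g := by
    rw [← LinearMap.ker_eq_bot, Submodule.ker_liftQ_eq_bot']
    ext a
    rw [LinearMap.mem_ker, LinearMap.toSpanSingleton_apply, smul_eq_mul]
    exact hx a
  let φ : M →ₗ[A] A := g ∘ₗ e.toLinearMap ∘ₗ M'.mkQ
  have hφ : φ = 0 := Subsingleton.elim _ _
  -- but φ is nonzero since M' ≠ ⊤
  obtain ⟨y, hy⟩ : ∃ y : M, y ∉ M' := by
    by_contra hcon
    push Not at hcon
    exact hM'.1 (eq_top_iff.mpr fun y _ => hcon y)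
  apply hy
  have h0 : φ y = 0 := by rw [hφ]; rfl
  have h1 : g (e (M'.mkQ y)) = 0 := h0
  rw [← map_zero g] at h1
  have h2 := hg h1
  rw [EmbeddingLike.map_eq_zero_iff] at h2
  exact (Submodule.Quotient.mk_eq_zero M').mp h2

theorem result (k : Type u) [Field k] [IsAlgClosed k]
    (A : Type v) [CommRing A] [Algebra k A] [Module.Finite k A] :
    Subsingleton (Derivation k A A) ↔ IsReduced A := by
  haveI : IsArtinianRing A := isArtinian_of_tower k inferInstance
  constructor
  · intro h
    have h1 : Subsingleton (Ω[A⁄k] →ₗ[A] A) :=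
      (KaehlerDifferential.linearMapEquivDerivation k A (M := A)).toEquiv.subsingleton
    have h2 : Subsingleton Ω[A⁄k] := subsingleton_of_subsingleton_hom h1
    haveI : Algebra.FormallyUnramified k A := ⟨h2⟩
    exact Algebra.FormallyUnramified.isReduced_of_field k A
  · intro h
    haveI := Groth.Agent.S17336.formallyEtale_quotient_nilradical k A
    have hnil : nilradical A = ⊥ := nilradical_eq_zero A
    let e : (A ⧸ nilradical A) ≃ₐ[k] A :=
      (Ideal.quotientEquivAlgOfEq k hnil).trans (AlgEquiv.quotientBot k A)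
    haveI : Algebra.FormallyEtale k A := Algebra.FormallyEtale.of_equiv e
    haveI : Subsingleton Ω[A⁄k] := Algebra.FormallyUnramified.subsingleton_kaehlerDifferential
    exact (KaehlerDifferential.linearMapEquivDerivation k A (M := A)).toEquiv.symm.subsingleton

end Groth.Agent.S17321
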