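import Groth.Statements.S17322
import Mathlib
import Groth.Statements.S17322
import Groth.Agent.Lib.Helper86.HopfInv2

set_option autoImplicit false
universe u v w
open Hopf

namespace Groth.Agent.S17322

open Groth.Agent.Lib.Helper86.HopfInv in
theorem result (k : Type u) [Field k] [IsAlgClosed k]
    (A : Type v) [CommRing A] [HopfAlgebra k A] [Module.Finite k A]
    (R : Type w) [CommRing R] [Algebra k R] [Algebra.FiniteType k R]
    [HopfRep.Comod k A R] [GLin.IsCoactAlg k A R] :
    Algebra.FiniteType k ↥(GLin.invariants k A R) ∧ Module.Finite ↥(GLin.invariants k A R) R := by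
  have hint : Algebra.IsIntegral (GLin.invariants k A R) R := ⟨isIntegral_invariants k A R⟩
  have hft : Algebra.FiniteType (GLin.invariants k A R) R :=
    Algebra.FiniteType.of_restrictScalars_finiteType k _ _
  have hfin : Module.Finite (GLin.invariants k A R) R := Algebra.IsIntegral.finite
  refine ⟨⟨?_⟩, hfin⟩
  refine fg_of_fg_of_fg k (GLin.invariants k A R) R (Algebra.FiniteType.out) hfin.1 ?_
  exact Subtype.val_injective

end Groth.Agent.S17322
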