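import Groth.Statements.S17323
import Mathlib
import Groth.Agent.S17336

set_option autoImplicit false
universe u v
open CAlg

namespace Groth.Agent.S17323

theorem formallyEtale_of_isReduced (k : Type u) [Field k] [IsAlgClosed k]
    (C : Type v) [CommRing C] [Algebra k C] [Module.Finite k C] [IsReduced C] :
    Algebra.FormallyEtale k C := by
  haveI := Groth.Agent.S17336.formallyEtale_quotient_nilradical k C
  have hnil : nilradical C = ⊥ := nilradical_eq_zero C
  let e : (C ⧸ nilradical C) ≃ₐ[k] C :=
    (Ideal.quotientEquivAlgOfEq k hnil).trans (AlgEquiv.quotientBot k C)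
  exact Algebra.FormallyEtale.of_equiv e

theorem result (k : Type u) [Field k] [IsAlgClosed k]
    (A : Type v) [CommRing A] [Algebra k A] [Module.Finite k A] :
    ∃ B : Subalgebra k A, IsReduced ↥B ∧ (∀ C : Subalgebra k A, IsReduced ↥C → C ≤ B) ∧
      Function.Bijective ((Ideal.Quotient.mkₐ k (nilradical A)).comp B.val) := by
  haveI : IsArtinianRing A := isArtinian_of_tower k inferInstance
  have hnil : IsNilpotent (nilradical A) := IsArtinianRing.isNilpotent_nilradical
  obtain ⟨s, hs, -⟩ := Groth.Agent.S17336.result k A
  have hs' : ∀ y, Ideal.Quotient.mk (nilradical A) (s y) = y := fun y => AlgHom.congr_fun hs y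
  have hbij : Function.Bijective ((Ideal.Quotient.mkₐ k (nilradical A)).comp s.range.val) := by
    constructor
    · rw [injective_iff_map_eq_zero]
      rintro ⟨x, y, rfl⟩ hx
      have : Ideal.Quotient.mk (nilradical A) (s y) = 0 := hx
      rw [hs'] at this
      ext
      show s y = 0
      rw [this, map_zero]
    · intro y
      exact ⟨⟨s y, y, rfl⟩, hs' y⟩
  refine ⟨s.range, ?_, ?_, hbij⟩
  · haveI : IsReduced (A ⧸ nilradical A) :=
      (Ideal.isRadical_iff_quotient_reduced _).mp (Ideal.radical_isRadical _)
    exact isReduced_of_injective ((Ideal.Quotient.mkₐ k (nilradical A)).comp s.range.val) hbij.1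
  · intro C hC
    haveI : Module.Finite k C := inferInstance
    haveI := formallyEtale_of_isReduced k C
    have := Algebra.FormallyUnramified.lift_unique (nilradical A) hnil C.val
      ((s.comp (Ideal.Quotient.mkₐ k (nilradical A))).comp C.val) (by
        rw [← AlgHom.comp_assoc, ← AlgHom.comp_assoc, hs, AlgHom.id_comp])
    intro x hx
    have hx' := AlgHom.congr_fun this ⟨x, hx⟩
    exact ⟨_, hx'.symm⟩

end Groth.Agent.S17323
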