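import Groth.Statements.S17324
import Mathlib
import Groth.Agent.S17335

set_option autoImplicit false
universe u v
open CAlg

namespace Groth.Agent.S17324

theorem result (k : Type u) [Field k] [IsAlgClosed k]
    (A : Type v) [CommRing A] [Algebra k A] [Module.Finite k A] [IsLocalRing A]
    (m : ℕ) (a : Fin m → A) (ha : ∀ i, a i ∈ IsLocalRing.maximalIdeal A) :
    Algebra.adjoin k (Set.range a) = ⊤ ↔ Ideal.span (Set.range a) = IsLocalRing.maximalIdeal A := by
  haveI : IsArtinianRing A := isArtinian_of_tower k inferInstance
  have hJ : Ideal.span (Set.range a) ≤ IsLocalRing.maximalIdeal A := by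
    rw [Ideal.span_le]
    rintro _ ⟨i, rfl⟩
    exact ha i
  constructor
  · intro h
    refine le_antisymm hJ ?_
    -- every element of the adjoin is a scalar plus an element of the span
    have key : ∀ x ∈ Algebra.adjoin k (Set.range a),
        ∃ c : k, x - algebraMap k A c ∈ Ideal.span (Set.range a) := by
      intro x hx
      induction hx using Algebra.adjoin_induction with
      | mem x hx => exact ⟨0, by simpa using Ideal.subset_span hx⟩
      | algebraMap r => exact ⟨r, by simp⟩
      | add x y _ _ hx hy =>
        obtain ⟨c, hc⟩ := hx
        obtain ⟨d, hd⟩ := hy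
        refine ⟨c + d, ?_⟩
        have : x + y - algebraMap k A (c + d) = (x - algebraMap k A c) + (y - algebraMap k A d) := by
          rw [map_add]; ring
        rw [this]
        exact add_mem hc hd
      | mul x y _ _ hx hy =>
        obtain ⟨c, hc⟩ := hx
        obtain ⟨d, hd⟩ := hy
        refine ⟨c * d, ?_⟩
        have : x * y - algebraMap k A (c * d) =
            (x - algebraMap k A c) * y + algebraMap k A c * (y - algebraMap k A d) := by
          rw [map_mul]; ring
        rw [this]
        exact add_mem (Ideal.mul_mem_right _ _ hc) (Ideal.mul_mem_left _ _ hd)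
    intro x hx
    obtain ⟨c, hc⟩ := key x (by rw [h]; trivial)
    have hc' : algebraMap k A c ∈ IsLocalRing.maximalIdeal A := by
      have : algebraMap k A c = x - (x - algebraMap k A c) := by ring
      rw [this]
      exact sub_mem hx (hJ hc)
    have hc0 : c = 0 := by
      by_contra hne
      have hu : IsUnit (algebraMap k A c) := (IsUnit.mk0 c hne).map (algebraMap k A)
      exact (IsLocalRing.mem_maximalIdeal _).mp hc' hu
    simpa [hc0] using hc
  · intro h
    -- Nakayama over the subalgebra B
    set B : Subalgebra k A := Algebra.adjoin k (Set.range a) with hB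
    haveI : Module.Finite B A := Module.Finite.of_restrictScalars_finite k B A
    obtain ⟨f, hf⟩ := Groth.Agent.S17335.exists_algHom_ker_eq k A (IsLocalRing.maximalIdeal A)
    let b : Fin m → B := fun i => ⟨a i, Algebra.subset_adjoin ⟨i, rfl⟩⟩
    let I : Ideal B := Ideal.span (Set.range b)
    have hnilA : ∀ i, IsNilpotent (a i) := by
      intro i
      have h1 : a i ∈ (⊥ : Ideal A).jacobson := by
        rw [IsLocalRing.jacobson_eq_maximalIdeal ⊥ bot_ne_top]
        exact ha i
      rw [IsArtinianRing.jacobson_eq_radical] at h1
      exact mem_nilradical.mp h1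
    have hI : I ≤ Ideal.jacobson ⊥ := by
      rw [Ideal.span_le]
      rintro _ ⟨i, rfl⟩
      have hnil : IsNilpotent (b i) := by
        obtain ⟨n, hn⟩ := hnilA i
        refine ⟨n, ?_⟩
        ext
        simpa using hn
      rw [Ideal.jacobson_bot]
      exact (nilradical_le_jacobson B) (mem_nilradical.mpr hnil)
    let N : Submodule B A := LinearMap.range (Algebra.linearMap B A)
    have hNN : (⊤ : Submodule B A) ≤ N ⊔ I • ⊤ := by
      intro x _
      have hx : x - algebraMap k A (f x) ∈ Ideal.span (Set.range a) := by
        rw [h, ← hf]
        exact Groth.Agent.S17335.sub_algebraMap_mem_ker k A f x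
      obtain ⟨r, hr⟩ := (Ideal.mem_span_range_iff_exists_fun).mp hx
      have hx' : x = algebraMap k A (f x) + ∑ i, r i * a i := by
        rw [hr]; ring
      rw [hx']
      apply Submodule.add_mem_sup
      · exact ⟨algebraMap k B (f x), rfl⟩
      · apply Submodule.sum_mem
        intro i _
        have : r i * a i = b i • r i := by
          rw [mul_comm]; rfl
        rw [this]
        exact Submodule.smul_mem_smul (Ideal.subset_span ⟨i, rfl⟩) trivial
    have htop := Submodule.le_of_le_smul_of_le_jacobson_bot (Module.finite_def.mp inferInstance) hI hNN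
    rw [eq_top_iff]
    intro x _
    obtain ⟨y, hy⟩ := htop (Submodule.mem_top : x ∈ ⊤)
    rw [← hy]
    exact y.2

end Groth.Agent.S17324
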