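import Groth.Statements.S17326
import Mathlib
import Groth.Agent.S17335

set_option autoImplicit false
universe u v
open CAlg

namespace Groth.Agent.S17326

theorem result (k : Type u) [Field k] [IsAlgClosed k]
    (p : ℕ) [Fact p.Prime] [CharP k p] (A : Type v) [CommRing A] [Algebra k A] [Module.Finite k A]
    (n : ℕ) (hn : 1 ≤ n) :
    Function.Bijective (fun a : A => a ^ p ^ n) ↔ IsReduced A := by
  have hp : p.Prime := Fact.out
  have hpn : 1 < p ^ n := Nat.one_lt_pow (by omega) hp.one_lt
  constructor
  · intro h
    constructor
    intro a ha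
    obtain ⟨N, hN⟩ := ha
    -- iterate
    have hiter : ∀ j : ℕ, Function.Injective (fun a : A => a ^ (p ^ n) ^ j) := by
      intro j
      induction j with
      | zero => intro x y hxy; simpa using hxy
      | succ j ih =>
        intro x y hxy
        simp only [pow_succ, pow_mul] at hxy
        exact ih (h.1 hxy)
    have hlt : N < (p ^ n) ^ N := Nat.lt_pow_self hpn
    apply hiter N
    show a ^ (p ^ n) ^ N = 0 ^ (p ^ n) ^ N
    rw [zero_pow (by positivity), ← Nat.sub_add_cancel hlt.le, pow_add, hN, mul_zero]
  · intro h
    obtain ⟨hfin, hsurj, hker⟩ := Groth.Agent.S17335.result k A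
    have hinj : Function.Injective (AlgHom.pi (R := k) (fun f : A →ₐ[k] k => f)) := by
      rw [injective_iff_map_eq_zero]
      intro a ha
      have : a ∈ nilradical A := by rw [← hker]; exact ha
      rw [nilradical_eq_zero] at this
      exact this
    haveI : ExpChar k p := ExpChar.prime hp
    constructor
    · intro a b hab
      apply hinj
      funext f
      have h1 : f (a ^ p ^ n) = f (b ^ p ^ n) := congrArg f hab
      rw [map_pow, map_pow] at h1
      exact iterateFrobenius_inj k p n h1
    · intro a
      have hroot : ∀ f : A →ₐ[k] k, ∃ z : k, z ^ p ^ n = f a := fun f =>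
        IsAlgClosed.exists_pow_nat_eq (f a) (by positivity)
      choose t ht using hroot
      obtain ⟨b, hb⟩ := hsurj t
      refine ⟨b, ?_⟩
      apply hinj
      funext f
      have hbf : f b = t f := congrFun hb f
      show f (b ^ p ^ n) = f a
      rw [map_pow, hbf, ht]

end Groth.Agent.S17326
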