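import Groth.Statements.S18472
import Mathlib
-- import your own Groth.Agent.* helpers here

set_option autoImplicit false
universe u v
open Hopf

namespace Groth.Agent.S18472

open TensorProduct WithConv

section
variable (R : Type u) [CommRing R] (A : Type v) [CommRing A] [HopfAlgebra R A]

/-- i₁ -/
noncomputable abbrev i1 : WithConv (A →ₐ[R] A ⊗[R] A) := toConv Algebra.TensorProduct.includeLeft
noncomputable abbrev i2 : WithConv (A →ₐ[R] A ⊗[R] A) := toConv Algebra.TensorProduct.includeRight

noncomputable def psi : WithConv (A →ₐ[R] A ⊗[R] A) := (i1 R A)⁻¹ * i2 R A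

theorem i1_mul_psi : i1 R A * psi R A = i2 R A := by
  unfold psi
  exact mul_inv_cancel_left (i1 R A) (i2 R A)

theorem lmul_comp_psi :
    (Algebra.TensorProduct.lmul' R (S := A)).comp (psi R A).ofConv =
      (1 : WithConv (A →ₐ[R] A)).ofConv := by
  unfold psi
  rw [AlgHom.comp_convMul_distrib]
  have h1 : (Algebra.TensorProduct.lmul' R (S := A)).comp ((i1 R A)⁻¹).ofConv =
      HopfAlgebra.antipodeAlgHom R A := by
    ext a
    show Algebra.TensorProduct.lmul' R (S := A) ((HopfAlgebra.antipodeAlgHom R A a) ⊗ₜ 1) = _
    simp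
  have h2 : (Algebra.TensorProduct.lmul' R (S := A)).comp (i2 R A).ofConv = AlgHom.id R A := by
    ext a
    simp
  rw [h1, h2, AlgHom.antipode_id_cancel]

theorem psi_mem (x : A) (hx : x ∈ RingHom.ker (Bialgebra.counitAlgHom R A)) :
    (psi R A).ofConv x ∈ KaehlerDifferential.ideal R A := by
  rw [RingHom.mem_ker] at hx ⊢
  have := DFunLike.congr_fun (lmul_comp_psi R A) x
  rw [AlgHom.comp_apply] at this
  rw [this]
  show (1 : WithConv (A →ₐ[R] A)) x = 0
  rw [AlgHom.convOne_apply]
  have hx' : Coalgebra.counit (R := R) x = 0 := hx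
  rw [hx', map_zero]

end

section
variable (R : Type u) [CommRing R] (A : Type v) [CommRing A] [HopfAlgebra R A]

/-- the ideal generated by ψ(I) -/
noncomputable def Kid : Ideal (A ⊗[R] A) :=
  Ideal.span ((psi R A).ofConv '' (RingHom.ker (Bialgebra.counitAlgHom R A) : Set A))

theorem Kid_le : Kid R A ≤ KaehlerDifferential.ideal R A := by
  unfold Kid
  rw [Ideal.span_le]
  rintro _ ⟨x, hx, rfl⟩
  exact psi_mem R A x hx

theorem lift_sub_mem (t : A ⊗[R] A) :
    Algebra.TensorProduct.lift (i1 R A).ofConv (psi R A).ofConv (fun _ _ => Commute.all _ _) t -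
      (i1 R A).ofConv (TensorProduct.rid R A (LinearMap.lTensor A (Coalgebra.counit (R := R)) t))
      ∈ Kid R A := by
  induction t using TensorProduct.induction_on with
  | zero => simp
  | add t t' ht ht' =>
    simp only [map_add]
    have := (Kid R A).add_mem ht ht'
    convert this using 1
    ring
  | tmul b c =>
    rw [Algebra.TensorProduct.lift_tmul, LinearMap.lTensor_tmul, TensorProduct.rid_tmul, map_smul]
    have h1 : (i1 R A).ofConv b * (psi R A).ofConv c - Coalgebra.counit (R := R) c • (i1 R A).ofConv b =
        (i1 R A).ofConv b * (psi R A).ofConv (c - algebraMap R A (Coalgebra.counit (R := R) c)) := by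
      rw [map_sub, AlgHom.commutes, mul_sub, Algebra.algebraMap_eq_smul_one, mul_smul_comm, mul_one]
    rw [h1]
    apply Ideal.mul_mem_left
    apply Ideal.subset_span
    refine ⟨_, ?_, rfl⟩
    rw [SetLike.mem_coe, RingHom.mem_ker, map_sub, AlgHom.commutes]
    show Coalgebra.counit (R := R) c - _ = 0
    simp

theorem diff_mem_Kid (a : A) : (1 : A) ⊗ₜ[R] a - a ⊗ₜ[R] (1 : A) ∈ Kid R A := by
  have h := lift_sub_mem R A (Coalgebra.comul (R := R) a)
  rw [← AlgHom.convMul_apply, i1_mul_psi, Coalgebra.lTensor_counit_comul, TensorProduct.rid_tmul,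
    one_smul] at h
  exact h

theorem ideal_le_Kid : KaehlerDifferential.ideal R A ≤ Kid R A := by
  rw [← KaehlerDifferential.span_range_eq_ideal, Ideal.span_le]
  rintro _ ⟨a, rfl⟩
  exact diff_mem_Kid R A a

theorem Kid_eq : Kid R A = KaehlerDifferential.ideal R A :=
  le_antisymm (Kid_le R A) (ideal_le_Kid R A)

theorem unramified_of_sq
    (h : RingHom.ker (Bialgebra.counitAlgHom R A) ^ 2 = RingHom.ker (Bialgebra.counitAlgHom R A)) :
    Algebra.FormallyUnramified R A := by
  constructor
  show Subsingleton (KaehlerDifferential.ideal R A).Cotangent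
  rw [Ideal.cotangent_subsingleton_iff]
  set I := RingHom.ker (Bialgebra.counitAlgHom R A) with hI
  set J := KaehlerDifferential.ideal R A with hJ
  have hle : J ≤ J * J := by
    refine (ideal_le_Kid R A).trans ?_
    unfold Kid
    rw [Ideal.span_le]
    rintro _ ⟨x, hx, rfl⟩
    rw [SetLike.mem_coe, ← hI, ← h, pow_two] at hx
    refine Submodule.mul_induction_on hx ?_ ?_
    · intro m hm n hn
      rw [map_mul]
      exact Ideal.mul_mem_mul (psi_mem R A m hm) (psi_mem R A n hn)
    · intro x y hx hy
      rw [map_add]
      exact (J * J).add_mem hx hy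
  exact le_antisymm Ideal.mul_le_right hle

end

section
variable (R : Type u) [CommRing R] (A : Type v) [CommRing A] [Bialgebra R A]

noncomputable def augLin : A →ₗ[R] A ⧸ (RingHom.ker (Bialgebra.counitAlgHom R A)) ^ 2 :=
  ((Ideal.Quotient.mkₐ R _).toLinearMap) ∘ₗ
    (LinearMap.id - (Algebra.linearMap R A) ∘ₗ (Coalgebra.counit : A →ₗ[R] R))

theorem augLin_apply (a : A) : augLin R A a =
    Ideal.Quotient.mk _ (a - algebraMap R A (Coalgebra.counit (R := R) a)) := rfl

noncomputable def augDer : Derivation R A (A ⧸ (RingHom.ker (Bialgebra.counitAlgHom R A)) ^ 2) :=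
  Derivation.mk' (augLin R A) (by
    intro a b
    rw [augLin_apply, augLin_apply, augLin_apply]
    rw [← sub_eq_zero]
    set ea := algebraMap R A (Coalgebra.counit (R := R) a) with hea
    set eb := algebraMap R A (Coalgebra.counit (R := R) b) with heb
    have hab : algebraMap R A (Coalgebra.counit (R := R) (a * b)) = ea * eb := by
      rw [Bialgebra.counit_mul, map_mul]
    rw [hab]
    have h1 : a • (Ideal.Quotient.mk (RingHom.ker (Bialgebra.counitAlgHom R A) ^ 2)) (b - eb) =
        Ideal.Quotient.mk _ (a * (b - eb)) := rfl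
    have h2 : b • (Ideal.Quotient.mk (RingHom.ker (Bialgebra.counitAlgHom R A) ^ 2)) (a - ea) =
        Ideal.Quotient.mk _ (b * (a - ea)) := rfl
    rw [h1, h2, ← map_add, ← map_sub, Ideal.Quotient.eq_zero_iff_mem]
    have : a * b - ea * eb - (a * (b - eb) + b * (a - ea)) = - ((a - ea) * (b - eb)) := by ring
    rw [this, pow_two]
    apply Ideal.neg_mem_iff _ |>.2
    apply Ideal.mul_mem_mul
    · rw [RingHom.mem_ker, map_sub, AlgHom.commutes]
      show Coalgebra.counit (R := R) a - _ = 0
      simp
    · rw [RingHom.mem_ker, map_sub, AlgHom.commutes]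
      show Coalgebra.counit (R := R) b - _ = 0
      simp)

theorem sq_of_unramified [Algebra.FormallyUnramified R A] :
    RingHom.ker (Bialgebra.counitAlgHom R A) ^ 2 = RingHom.ker (Bialgebra.counitAlgHom R A) := by
  apply le_antisymm (Ideal.pow_le_self two_ne_zero)
  intro x hx
  have h0 : augDer R A = 0 := by
    rw [← Derivation.liftKaehlerDifferential_comp (augDer R A)]
    ext a
    simp only [Derivation.coe_comp, LinearMap.coe_comp, Function.comp_apply]
    have : ((KaehlerDifferential.D R A : A →ₗ[R] Ω[A⁄R]) a) = 0 := Subsingleton.elim _ _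
    rw [this, map_zero]
    rfl
  have h1 : augDer R A x = 0 := by rw [h0]; rfl
  change augLin R A x = 0 at h1
  rw [augLin_apply] at h1
  rw [RingHom.mem_ker] at hx
  have hx' : Coalgebra.counit (R := R) x = 0 := hx
  rw [hx', map_zero, sub_zero, Ideal.Quotient.eq_zero_iff_mem] at h1
  exact h1

end

/-- Let R be a commutative ring and A a commutative Hopf algebra over R which is finitely generated and
projective as an R-module (a finite locally free group scheme G = Spec A over Spec R), and let I =
ker ε be its augmentation ideal. Then A is étale over R if and only if I² = I. (The published text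
calls G finite flat, meaning that A is finitely generated and projective.) -/
theorem result
    (R : Type u) [CommRing R] (A : Type v) [CommRing A] [HopfAlgebra R A]
    [Module.Finite R A] [Module.Projective R A] :
    Algebra.Etale R A ↔
      RingHom.ker (Bialgebra.counitAlgHom R A) ^ 2 = RingHom.ker (Bialgebra.counitAlgHom R A) := by
  constructor
  · intro h
    haveI : Algebra.FormallyUnramified R A := inferInstance
    exact sq_of_unramified R A
  · intro h
    haveI : Algebra.FormallyUnramified R A := unramified_of_sq R A h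
    haveI : Module.FinitePresentation R A := Module.finitePresentation_of_projective R A
    haveI : Algebra.FinitePresentation R A := Algebra.FinitePresentation.of_finitePresentation R A
    exact Algebra.Etale.of_formallyUnramified_of_flat

end Groth.Agent.S18472
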