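import Groth.Statements.S17327
import Mathlib
import Groth.Agent.S17326
import Groth.Agent.S18472

set_option autoImplicit false
universe u v
open Hopf

namespace Groth.Agent.S17327

theorem result (k : Type u) [Field k] [IsAlgClosed k]
    (p : ℕ) [Fact p.Prime] [CharP k p] (A : Type v) [CommRing A] [HopfAlgebra k A] [Module.Finite k A]
    (n : ℕ) (hn : 1 ≤ n) :
    Ideal.span ((fun f : A => f ^ p ^ n) '' (RingHom.ker (Bialgebra.counitAlgHom k A) : Set A)) =
      RingHom.ker (Bialgebra.counitAlgHom k A) ↔ IsReduced A := by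
  have hp : p.Prime := Fact.out
  have hpn : 2 ≤ p ^ n := by
    calc 2 ≤ p := hp.two_le
      _ = p ^ 1 := (pow_one p).symm
      _ ≤ p ^ n := Nat.pow_le_pow_right hp.pos hn
  set I := RingHom.ker (Bialgebra.counitAlgHom k A) with hI
  constructor
  · intro h
    have hsq : I ^ 2 = I := by
      have hle : Ideal.span ((fun f : A => f ^ p ^ n) '' (I : Set A)) ≤ I ^ 2 := by
        rw [Ideal.span_le]
        rintro _ ⟨f, hf, rfl⟩
        have : f ^ p ^ n = f ^ 2 * f ^ (p ^ n - 2) := by
          rw [← pow_add]; congr 1; omega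
        show f ^ p ^ n ∈ I ^ 2
        rw [this]
        exact Ideal.mul_mem_right _ _ (Ideal.pow_mem_pow hf 2)
      exact le_antisymm (Ideal.pow_le_self (by norm_num)) (le_of_eq_of_le h.symm hle)
    have hetale : Algebra.Etale k A := (Groth.Agent.S18472.result k A).mpr hsq
    exact Algebra.FormallyUnramified.isReduced_of_field k A
  · intro hred
    have hbij := (Groth.Agent.S17326.result k p A n hn).mpr hred
    apply le_antisymm
    · rw [Ideal.span_le]
      rintro _ ⟨f, hf, rfl⟩
      exact Ideal.pow_mem_of_mem I hf _ (by omega)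
    · intro f hf
      obtain ⟨g, hg⟩ := hbij.2 f
      have hg' : g ^ p ^ n = f := hg
      apply Ideal.subset_span
      refine ⟨g, ?_, hg'⟩
      have h1 : (Bialgebra.counitAlgHom k A) f = 0 := hf
      rw [← hg', map_pow] at h1
      exact pow_eq_zero_iff (by omega) |>.mp h1
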