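import Groth.Statements.S17332
import Mathlib

set_option autoImplicit false
universe u v w
open CAlg

namespace Groth.Agent.S17332

theorem algHom_pi_eq_eval (k : Type u) [Field k] (F : Type w) [Finite F] (χ : (F → k) →ₐ[k] k) :
    ∃ f : F, ∀ g : F → k, χ g = g f := by
  classical
  haveI := Fintype.ofFinite F
  -- some δ_f has χ δ_f ≠ 0
  have h1 : χ 1 = 1 := map_one χ
  have hsum : (1 : F → k) = ∑ f : F, Pi.single f (1 : k) := by
    funext x
    simp [Finset.sum_apply, Pi.single_apply]
  have : ∃ f : F, χ (Pi.single f 1) ≠ 0 := by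
    by_contra hcon
    push_neg at hcon
    rw [hsum, map_sum] at h1
    simp [hcon] at h1
  obtain ⟨f, hf⟩ := this
  refine ⟨f, fun g => ?_⟩
  -- (g - g f • 1) * δ_f = 0
  have hmul : (g - algebraMap k (F → k) (g f)) * Pi.single f (1 : k) = 0 := by
    funext x
    by_cases hx : x = f
    · subst hx; simp
    · simp [Pi.single_apply, hx]
  have := congrArg χ hmul
  rw [map_mul, map_zero, map_sub, AlgHom.commutes] at this
  rcases mul_eq_zero.mp this with h | h
  · simpa [sub_eq_zero] using h
  · exact absurd h hf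

theorem result (k : Type u) [Field k] (E : Type v) [Finite E]
    (F : Type w) [Finite F] (u : (F → k) →ₐ[k] (E → k)) :
    ∃! φ : E → F, ∀ g : F → k, u g = g ∘ φ := by
  classical
  have key : ∀ e : E, ∃ f : F, ∀ g : F → k, u g e = g f := by
    intro e
    exact algHom_pi_eq_eval k F ((Pi.evalAlgHom k (fun _ : E => k) e).comp u)
  choose φ hφ using key
  refine ⟨φ, fun g => funext fun e => hφ e g, ?_⟩
  intro ψ hψ
  funext e
  by_contra hne
  have h1 := congrFun (hψ (Pi.single (φ e) (1 : k))) e
  rw [hφ e] at h1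
  simp [Pi.single_apply, hne] at h1

end Groth.Agent.S17332
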