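import Groth.Statements.S17333
import Mathlib

set_option autoImplicit false
universe u v w
open CAlg

namespace Groth.Agent.S17333

theorem derivation_idem_eq_zero {k : Type u} [CommRing k] {A : Type v} [CommRing A] [Algebra k A]
    (D : Derivation k A A) (e : A) (he : e * e = e) : D e = 0 := by
  have h1 : D e = e * D e + e * D e := by
    conv_lhs => rw [← he]
    rw [Derivation.leibniz]
    simp
  have h2 : e * D e = 0 := by
    have h3 : e * D e = e * (e * D e + e * D e) := congrArg (fun x => e * x) h1
    rw [mul_add, ← mul_assoc, he] at h3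
    simpa using h3
  rw [h1, h2, add_zero]

theorem result (k : Type u) [Field k] (B : Type v) [CommRing B] [Algebra k B]
    (C : Type w) [CommRing C] [Algebra k C] (D : Derivation k (B × C) (B × C)) :
    ∃! P : Derivation k B B × Derivation k C C, ∀ (b : B) (c : C), D (b, c) = (P.1 b, P.2 c) := by
  have he1 : D (1, 0) = 0 := derivation_idem_eq_zero D (1, 0) (by ext <;> simp)
  have he2 : D (0, 1) = 0 := derivation_idem_eq_zero D (0, 1) (by ext <;> simp)
  have hB : ∀ b : B, (D (b, 0)).2 = 0 := by
    intro b
    have : ((b, 0) : B × C) = (1, 0) * (b, 0) := by ext <;> simp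
    rw [this, Derivation.leibniz, he1]
    simp
  have hC : ∀ c : C, (D (0, c)).1 = 0 := by
    intro c
    have : ((0, c) : B × C) = (0, 1) * (0, c) := by ext <;> simp
    rw [this, Derivation.leibniz, he2]
    simp
  let D₁ : Derivation k B B :=
    { toFun := fun b => (D (b, 0)).1
      map_add' := fun x y => by
        have : ((x + y, 0) : B × C) = (x, 0) + (y, 0) := by ext <;> simp
        rw [this, map_add]; rfl
      map_smul' := fun r x => by
        have : ((r • x, 0) : B × C) = r • (x, 0) := by ext <;> simp
        rw [this, Derivation.map_smul]; rfl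
      map_one_eq_zero' := by
        show (D (1, 0)).1 = 0
        rw [he1]; rfl
      leibniz' := fun x y => by
        show (D (x * y, 0)).1 = x • (D (y, 0)).1 + y • (D (x, 0)).1
        have : ((x * y, 0) : B × C) = (x, 0) * (y, 0) := by ext <;> simp
        rw [this, Derivation.leibniz]
        simp }
  let D₂ : Derivation k C C :=
    { toFun := fun c => (D (0, c)).2
      map_add' := fun x y => by
        have : ((0, x + y) : B × C) = (0, x) + (0, y) := by ext <;> simp
        rw [this, map_add]; rfl
      map_smul' := fun r x => by
        have : ((0, r • x) : B × C) = r • (0, x) := by ext <;> simp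
        rw [this, Derivation.map_smul]; rfl
      map_one_eq_zero' := by
        show (D (0, 1)).2 = 0
        rw [he2]; rfl
      leibniz' := fun x y => by
        show (D (0, x * y)).2 = x • (D (0, y)).2 + y • (D (0, x)).2
        have : ((0, x * y) : B × C) = (0, x) * (0, y) := by ext <;> simp
        rw [this, Derivation.leibniz]
        simp }
  refine ⟨(D₁, D₂), ?_, ?_⟩
  · intro b c
    have : ((b, c) : B × C) = (b, 0) + (0, c) := by ext <;> simp
    rw [this, map_add]
    ext
    · show (D (b, 0)).1 + (D (0, c)).1 = (D (b, 0)).1
      rw [hC, add_zero]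
    · show (D (b, 0)).2 + (D (0, c)).2 = (D (0, c)).2
      rw [hB, zero_add]
  · rintro ⟨P₁, P₂⟩ hP
    ext x
    · show P₁ x = (D (x, 0)).1
      rw [hP x 0]
    · show P₂ x = (D (0, x)).2
      rw [hP 0 x]

end Groth.Agent.S17333
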