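import Groth.Statements.S17337
import Groth.Agent.Lib.Helper84.RLie.RestrEnv
-- import your own Groth.Agent.* helpers here

set_option autoImplicit false
universe u v
open PLie

namespace Groth.Agent.S17337

/-- Let k be a field of characteristic p > 0 and (L, x ↦ x^[p]) a finite-dimensional restricted Lie
algebra over k. Then L is isomorphic to a restricted Lie subalgebra of gl_n(k) for some n: there is
an injective k-linear map e : L → M_n(k) with e[x, y] = e(x)e(y) − e(y)e(x) and e(x^[p]) = e(x)^p
for all x, y. (The published statement takes k algebraically closed; this row takes any field of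
characteristic p.) -/
theorem result (k : Type u) [Field k] (p : ℕ) [Fact p.Prime] [CharP k p]
    (L : Type v) [LieRing L] [LieAlgebra k L] [Module.Finite k L] (φ : PLie.PMap k p L) :
    ∃ (n : ℕ) (e : L →ₗ[k] Matrix (Fin n) (Fin n) k), PLie.IsPSubOfAssoc φ e := by
  classical
  let b : Module.Basis (Fin (Module.finrank k L)) k L := Module.finBasis k L
  haveI hfin : Module.Finite k (Groth.Agent.Lib.Helper84.RLie.uL φ) :=
    Groth.Agent.Lib.Helper84.RLie.finite_uL φ b
  let bu : Module.Basis (Fin (Module.finrank k (Groth.Agent.Lib.Helper84.RLie.uL φ))) k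
      (Groth.Agent.Lib.Helper84.RLie.uL φ) := Module.finBasis k _
  let ρ : Groth.Agent.Lib.Helper84.RLie.uL φ →ₐ[k]
      Matrix (Fin (Module.finrank k (Groth.Agent.Lib.Helper84.RLie.uL φ)))
        (Fin (Module.finrank k (Groth.Agent.Lib.Helper84.RLie.uL φ))) k :=
    (LinearMap.toMatrixAlgEquiv bu).toAlgHom.comp (Algebra.lmul k (Groth.Agent.Lib.Helper84.RLie.uL φ))
  have hρ : Function.Injective ρ := by
    intro a a' h
    have h1 : Algebra.lmul k (Groth.Agent.Lib.Helper84.RLie.uL φ) a =
        Algebra.lmul k (Groth.Agent.Lib.Helper84.RLie.uL φ) a' :=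
      (LinearMap.toMatrixAlgEquiv bu).injective h
    have h2 := LinearMap.congr_fun h1 1
    simpa using h2
  refine ⟨_, ρ.toLinearMap ∘ₗ Groth.Agent.Lib.Helper84.RLie.ιu φ, ?_, ?_, ?_⟩
  · exact hρ.comp (Groth.Agent.Lib.Helper84.RLie.ιu_injective φ b)
  · intro x y
    simp only [LinearMap.coe_comp, Function.comp_apply, AlgHom.toLinearMap_apply]
    rw [Groth.Agent.Lib.Helper84.RLie.ιu_lie, map_sub, map_mul, map_mul]
  · intro x
    simp only [LinearMap.coe_comp, Function.comp_apply, AlgHom.toLinearMap_apply]
    rw [Groth.Agent.Lib.Helper84.RLie.ιu_pmap, map_pow]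

end Groth.Agent.S17337
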