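import Groth.Statements.S1735
-- import your own Groth.Agent.* helpers here
import Mathlib
import Groth.Agent.Lib.Helper62.ChevalleySymbolic

set_option autoImplicit false
universe u
open LocCoh

namespace Groth.Agent.S1735

open IsLocalRing Groth.Agent.Lib.Helper62.ChevalleySymbolic

section aux

set_option linter.unusedSectionVars false

variable {A : Type u} [CommRing A] [IsDomain A] [IsLocalRing A] [IsNoetherianRing A]
  (p : Ideal A) [p.IsPrime]

/-- the `m`-th symbolic power of `p` -/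
noncomputable abbrev symb (m : ℕ) : Ideal A :=
  ((Ideal.map (algebraMap A (Localization.AtPrime p)) p) ^ m).comap
    (algebraMap A (Localization.AtPrime p))

theorem symb_antitone : Antitone (symb p) := fun _ _ hab =>
  Ideal.comap_mono (Ideal.pow_le_pow_right hab)

theorem pow_le_symb (m : ℕ) : p ^ m ≤ symb p m := by
  rw [symb, ← Ideal.map_pow]
  exact Ideal.le_comap_map

theorem iInf_symb : ⨅ m, symb p m = ⊥ := by
  rw [eq_bot_iff]
  intro x hx
  rw [Ideal.mem_iInf] at hx
  have h1 : algebraMap A (Localization.AtPrime p) x ∈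
      ⨅ m : ℕ, (Ideal.map (algebraMap A (Localization.AtPrime p)) p) ^ m := by
    rw [Ideal.mem_iInf]
    exact fun m => hx m
  rw [Ideal.iInf_pow_eq_bot_of_isLocalRing _ (by
    rw [Localization.AtPrime.map_eq_maximalIdeal]
    exact (IsLocalRing.maximalIdeal.isMaximal _).ne_top), Ideal.mem_bot] at h1
  have hinj : Function.Injective (algebraMap A (Localization.AtPrime p)) :=
    IsLocalization.injective (Localization.AtPrime p) p.primeCompl_le_nonZeroDivisors
  exact (Ideal.mem_bot).mpr (hinj (by rw [h1, map_zero]))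

/-- elements of the symbolic power are multiplied into the ordinary power by some `s ∉ p` -/
theorem exists_mul_mem_pow (n : ℕ) (x : A) (hx : x ∈ symb p n) :
    ∃ s : A, s ∉ p ∧ s * x ∈ p ^ n := by
  rw [symb, ← Ideal.map_pow, Ideal.mem_comap,
    IsLocalization.mem_map_algebraMap_iff p.primeCompl] at hx
  obtain ⟨⟨⟨y, hy⟩, ⟨t, ht⟩⟩, h⟩ := hx
  have hinj : Function.Injective (algebraMap A (Localization.AtPrime p)) :=
    IsLocalization.injective (Localization.AtPrime p) p.primeCompl_le_nonZeroDivisors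
  simp only at h
  rw [← map_mul] at h
  have := hinj h
  refine ⟨t, ht, ?_⟩
  rw [mul_comm, this]
  exact hy

theorem exists_smul_le_pow (n : ℕ) : ∃ s : A, s ∉ p ∧ ∀ x ∈ symb p n, s * x ∈ p ^ n := by
  classical
  obtain ⟨S, hS⟩ := (isNoetherianRing_iff_ideal_fg A).mp inferInstance (symb p n)
  have key : ∀ T : Finset A, (∀ x ∈ T, x ∈ symb p n) →
      ∃ s : A, s ∉ p ∧ ∀ x ∈ T, s * x ∈ p ^ n := by
    intro T
    induction T using Finset.induction_on with
    | empty => exact fun _ => ⟨1, (Ideal.ne_top_iff_one p).mp (Ideal.IsPrime.ne_top ‹_›), by simp⟩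
    | insert a T ha ih =>
      intro h
      obtain ⟨s, hs, hsT⟩ := ih (fun x hx => h x (Finset.mem_insert_of_mem hx))
      obtain ⟨t, ht, hta⟩ := exists_mul_mem_pow p n a (h a (Finset.mem_insert_self a T))
      refine ⟨s * t, fun hst => ?_, fun x hx => ?_⟩
      · rcases (Ideal.IsPrime.mem_or_mem ‹_› hst) with h1 | h1
        · exact hs h1
        · exact ht h1
      · rcases Finset.mem_insert.mp hx with rfl | hx
        · rw [mul_assoc]
          exact Ideal.mul_mem_left _ _ hta
        · rw [mul_comm s t, mul_assoc]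
          exact Ideal.mul_mem_left _ _ (hsT x hx)
  obtain ⟨s, hs, hsS⟩ := key S (fun x hx => by
    rw [← hS]
    exact Ideal.subset_span hx)
  refine ⟨s, hs, fun x hx => ?_⟩
  rw [← hS] at hx
  refine Submodule.span_induction ?_ ?_ ?_ ?_ hx
  · exact fun y hy => hsS y hy
  · simp
  · intro y z _ _ hy hz
    rw [mul_add]
    exact Ideal.add_mem _ hy hz
  · intro a y _ hy
    rw [smul_eq_mul, mul_left_comm]
    exact Ideal.mul_mem_left _ _ hy

/-- the symbolic power is `p`-primary -/
theorem mem_symb_of_mul_mem (n : ℕ) (s a : A) (hs : s ∉ p) (h : s * a ∈ symb p n) :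
    a ∈ symb p n := by
  rw [symb, Ideal.mem_comap, map_mul] at h
  rw [symb, Ideal.mem_comap]
  have hu : IsUnit (algebraMap A (Localization.AtPrime p) s) :=
    IsLocalization.map_units (Localization.AtPrime p) (⟨s, hs⟩ : p.primeCompl)
  exact (Ideal.unit_mul_mem_iff_mem _ hu).mp h

/-- primes strictly containing `p` are the maximal ideal, when `dim A/p = 1` -/
theorem eq_maximalIdeal_of_lt (hp : ringKrullDim (A ⧸ p) = 1) (P : Ideal A) [P.IsPrime]
    (h : p < P) : P = maximalIdeal A := by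
  have hdim : Ring.KrullDimLE 1 (A ⧸ p) := Ring.krullDimLE_iff.mpr (by rw [hp]; rfl)
  have hP' : (P.map (Ideal.Quotient.mk p)).IsPrime :=
    Ideal.map_isPrime_of_surjective Ideal.Quotient.mk_surjective (by
      rw [Ideal.mk_ker]
      exact h.le)
  have hne : P.map (Ideal.Quotient.mk p) ≠ ⊥ := by
    intro h0
    rw [Ideal.map_eq_bot_iff_le_ker, Ideal.mk_ker] at h0
    exact absurd h0 (not_le_of_gt h)
  have hmax := Ideal.IsPrime.isMaximal_of_ne_bot hP' hne
  have h2 : (Ideal.comap (Ideal.Quotient.mk p) (P.map (Ideal.Quotient.mk p))).IsMaximal :=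
    Ideal.comap_isMaximal_of_surjective _ Ideal.Quotient.mk_surjective
  rw [Ideal.comap_map_of_surjective' _ Ideal.Quotient.mk_surjective, Ideal.mk_ker,
    sup_of_le_left h.le] at h2
  exact IsLocalRing.eq_maximalIdeal h2

theorem isArtinianRing_quot (hp : ringKrullDim (A ⧸ p) = 1) (n : ℕ) (s : A) (hs : s ∉ p) :
    IsArtinianRing (A ⧸ (p ^ n ⊔ Ideal.span {s})) := by
  rw [isArtinianRing_iff_krullDimLE_zero]
  refine Ring.KrullDimLE.mk₀ fun P hP => ?_
  let P' := P.comap (Ideal.Quotient.mk (p ^ n ⊔ Ideal.span {s}))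
  have hP' : P'.IsPrime := Ideal.comap_isPrime _ _
  have hle : p ^ n ⊔ Ideal.span {s} ≤ P' := by
    intro x hx
    show Ideal.Quotient.mk _ x ∈ P
    rw [Ideal.Quotient.eq_zero_iff_mem.mpr hx]
    exact P.zero_mem
  have hpP : p ≤ P' := Ideal.IsPrime.le_of_pow_le (le_sup_left.trans hle)
  have hsP : s ∈ P' := hle (Ideal.mem_sup_right (Ideal.mem_span_singleton_self s))
  have hlt : p < P' := lt_of_le_of_ne hpP (fun h => hs (h ▸ hsP))
  have hm := eq_maximalIdeal_of_lt p hp P' hlt
  have hPmap : P'.map (Ideal.Quotient.mk _) = P :=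
    Ideal.map_comap_of_surjective _ Ideal.Quotient.mk_surjective P
  have hP'max : P'.IsMaximal := hm ▸ IsLocalRing.maximalIdeal.isMaximal A
  rcases Ideal.map_eq_top_or_isMaximal_of_surjective _
    (Ideal.Quotient.mk_surjective (I := p ^ n ⊔ Ideal.span {s})) hP'max with h | h
  · exfalso
    rw [hPmap] at h
    exact hP.ne_top h
  · rwa [hPmap] at h

/-- the key separation statement: a power of the maximal ideal meets the symbolic power inside the
ordinary power. -/
theorem exists_pow_inf_symb_le (hp : ringKrullDim (A ⧸ p) = 1) (n : ℕ) :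
    ∃ k : ℕ, maximalIdeal A ^ k ⊓ symb p n ≤ p ^ n := by
  obtain ⟨s, hs, hsQ⟩ := exists_smul_le_pow p n
  have hart := isArtinianRing_quot p hp n s hs
  let K : ℕ → Ideal A := fun k => (maximalIdeal A ^ k ⊓ symb p n) ⊔ p ^ n
  have hKanti : Antitone K := fun a b hab =>
    sup_le_sup (inf_le_inf (Ideal.pow_le_pow_right hab) le_rfl) le_rfl
  have hKQ : ∀ k, K k ≤ symb p n := fun k => sup_le inf_le_right (pow_le_symb p n)
  let f : ℕ →o (Ideal (A ⧸ (p ^ n ⊔ Ideal.span {s})))ᵒᵈ :=
    ⟨fun q => OrderDual.toDual ((K q).map (Ideal.Quotient.mk (p ^ n ⊔ Ideal.span {s}))),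
      fun a b hab => Ideal.map_mono (hKanti hab)⟩
  obtain ⟨k₀, hk₀⟩ := IsArtinian.monotone_stabilizes f
  have hstab : ∀ k, k₀ ≤ k → K k₀ ≤ K k := by
    intro k hk
    have h1 : (K k₀).map (Ideal.Quotient.mk (p ^ n ⊔ Ideal.span {s})) =
        (K k).map (Ideal.Quotient.mk (p ^ n ⊔ Ideal.span {s})) := hk₀ k hk
    have h2 := congrArg (Ideal.comap (Ideal.Quotient.mk (p ^ n ⊔ Ideal.span {s}))) h1
    rw [Ideal.comap_map_of_surjective' _ Ideal.Quotient.mk_surjective,
      Ideal.comap_map_of_surjective' _ Ideal.Quotient.mk_surjective, Ideal.mk_ker] at h2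
    intro x hx
    have hx' : x ∈ K k ⊔ (p ^ n ⊔ Ideal.span {s}) := by
      rw [← h2]
      exact Ideal.mem_sup_left hx
    obtain ⟨y, hy, z, hz, hyz⟩ := Submodule.mem_sup.mp hx'
    obtain ⟨w, hw, t, ht, hwt⟩ := Submodule.mem_sup.mp hz
    obtain ⟨a, rfl⟩ := Ideal.mem_span_singleton'.mp ht
    -- `x = y + w + a * s`, with `y ∈ K k`, `w ∈ p ^ n`
    have hw' : w ∈ K k := Ideal.mem_sup_right hw
    have hsa : s * a ∈ symb p n := by
      have e : s * a = x - y - w := by
        rw [← hyz, ← hwt]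
        ring
      rw [e]
      exact Ideal.sub_mem _ (Ideal.sub_mem _ (hKQ k₀ hx) (hKQ k hy)) (pow_le_symb p n hw)
    have ha : a ∈ symb p n := mem_symb_of_mul_mem p n s a hs hsa
    have hsa' : a * s ∈ K k := by
      rw [mul_comm]
      exact Ideal.mem_sup_right (hsQ a ha)
    rw [← hyz, ← hwt]
    exact Ideal.add_mem _ hy (Ideal.add_mem _ hw' hsa')
  refine ⟨k₀, (le_sup_left : _ ≤ K k₀).trans ?_⟩
  -- `K k₀ ≤ ⨅ k, p ^ n ⊔ m ^ k = p ^ n`
  have hfin : K k₀ ≤ ⨅ k : ℕ, p ^ n ⊔ maximalIdeal A ^ k := by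
    refine le_iInf fun k => ?_
    have h3 : K (max k₀ k) ≤ p ^ n ⊔ maximalIdeal A ^ k := by
      refine sup_le (inf_le_left.trans ?_) le_sup_left
      exact (Ideal.pow_le_pow_right (le_max_right k₀ k)).trans le_sup_right
    exact (hstab _ (le_max_left k₀ k)).trans h3
  rwa [iInf_sup_pow_eq (p ^ n)] at hfin

end aux

/-- Let A be a complete Noetherian local domain and p a prime ideal with dim(A/p) = 1. For every n ≥ 1
there is m ≥ n such that the m-th symbolic power of p (the contraction of p^m A_p to A) is contained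
in p^n. -/
theorem result (A : Type u) [CommRing A] [IsDomain A] [IsLocalRing A] [IsNoetherianRing A] [IsAdicComplete (IsLocalRing.maximalIdeal A) A] (p : Ideal A) [p.IsPrime] (hp : ringKrullDim (A ⧸ p) = 1) (n : ℕ) (hn : 1 ≤ n) : ∃ m : ℕ, n ≤ m ∧ ((Ideal.map (algebraMap A (Localization.AtPrime p)) p) ^ m).comap (algebraMap A (Localization.AtPrime p)) ≤ p ^ n := by
  have _ := hn
  obtain ⟨k, hk⟩ := exists_pow_inf_symb_le p hp n
  obtain ⟨m₀, hm₀⟩ := chevalley_general (symb p) (symb_antitone p) (iInf_symb p) k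
  refine ⟨max m₀ n, le_max_right _ _, ?_⟩
  refine le_trans (le_inf ?_ ?_) hk
  · exact (symb_antitone p (le_max_left m₀ n)).trans hm₀
  · exact symb_antitone p (le_max_right m₀ n)

end Groth.Agent.S1735
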