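import Groth.Statements.S17353
import Groth.Agent.Lib.Helper25.AzInvOdd

set_option autoImplicit false
universe u v w
open scoped TensorProduct
open AzInv

namespace Groth.Agent.S17353

/-- Let `R` be a commutative ring with an involution `lam` whose fixed ring is exactly `S`, and assume
that units have square roots locally for the etale topology of `S` (every unit of an etale
`S`-algebra becomes a square in some etale faithfully flat extension). Let `A` be an Azumaya
`R`-algebra of odd degree `n` with a `lam`-involution `t`. Then `t` has the same type as the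
involution `lam` of `R` itself (the neutral type): for some positive sizes `m`, `m'` the matrix
algebras of size `m` over `A` and of size `m'` over `R`, with the involutions induced by `t` and by
`lam`, become isomorphic as `R`-algebras with involution after an etale faithfully flat base change
of `S`. (The source states this for an exact quotient of a locally ringed topos with involution; the
row is the affine case `Spec R → Spec S`, with etale coverings of `Spec S` replaced by a single
etale faithfully flat `S`-algebra.) -/
theorem result (S : Type u) (R : Type v) [CommRing S] [CommRing R] [Algebra S R]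
    (lam : R ≃ₐ[S] R) (hlam : ∀ r, lam (lam r) = r) (hfix : RInv.IsFixedRing S R lam.toRingEquiv)
    (hsq : ∀ (S₁ : Type u) [CommRing S₁] [Algebra S S₁] [Algebra.Etale S S₁] (x : S₁ˣ),
      ∃ (S₂ : Type u) (_ : CommRing S₂) (_ : Algebra S₁ S₂) (_ : Algebra.Etale S₁ S₂)
        (_ : Module.FaithfullyFlat S₁ S₂) (y : S₂), y * y = algebraMap S₁ S₂ ↑x)
    (A : Type w) [Ring A] [Algebra S A] [Algebra R A] [IsScalarTower S R A]
    (n : ℕ) (hn : Odd n) (hA : AzInv.IsAzumayaDeg R A n) (t : AzInv.LamInv R A lam) :
    AzInv.SameType S lam t (AzInv.LamInv.self lam hlam) := by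
  classical
  obtain ⟨hAz, hrk⟩ := hA
  have eX : Matrix (Fin 1) (Fin 1) A ≃ₐ[R] A :=
    { toFun := fun M => M 0 0
      invFun := fun a => Matrix.of fun _ _ => a
      left_inv := fun M => by
        ext i j
        rw [Subsingleton.elim i 0, Subsingleton.elim j 0]
        rfl
      right_inv := fun a => rfl
      map_mul' := fun M N => by
        rw [Matrix.mul_apply, Fin.sum_univ_one]
      map_add' := fun M N => rfl
      commutes' := fun r => by
        rw [Matrix.algebraMap_matrix_apply, if_pos rfl] }
  haveI : IsAzumaya R (Matrix (Fin 1) (Fin 1) A) :=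
    IsAzumaya.of_AlgEquiv R A (Matrix (Fin 1) (Fin 1) A) eX.symm
  have hrkX : ∀ p : PrimeSpectrum R,
      Module.rankAtStalk (R := R) (Matrix (Fin 1) (Fin 1) A) p = n ^ 2 := fun p => by
    rw [Module.rankAtStalk_eq_of_equiv eX.toLinearEquiv]
    exact hrk p
  have hτ : (AzInv.LamInv.self lam hlam).matrix (Fin n) = AzInv.LamInv.transpose lam (Fin n) hlam :=
    AzInv.LamInv.ext fun M => rfl
  refine ⟨1, n, one_pos, hn.pos, ?_⟩
  rw [hτ]
  exact Groth.Agent.Lib.Helper25.AzInvOdd.locIsoEt_transpose_of_odd S R (Matrix (Fin 1) (Fin 1) A)
    lam hlam hfix hsq n hn hrkX (t.matrix (Fin 1))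

end Groth.Agent.S17353
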