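import Groth.Statements.S17359
import Groth.Agent.Lib.Helper1.AzInv.Main

set_option autoImplicit false
universe u w
open scoped TensorProduct
open AzInv

namespace Groth.Agent.S17359

/-- Let `R` be a nontrivial commutative ring with connected spectrum in which `2` is a unit, with the
trivial involution (so that the involutions considered are of the first kind and the quotient is the
trivial one). Then there are exactly two types, the orthogonal and the symplectic one; this row
states the first half: every involution of the first kind `t` of an Azumaya `R`-algebra `A` of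
degree `n ≥ 1` has the same type either as the identity of `R` or as the standard symplectic
involution `x ↦ J xᵀ J⁻¹` of the `2 × 2` matrix algebra, `J` the matrix with rows `(0, -1)` and `(1,
0)` (same type: suitable matrix algebras over the two, with the induced involutions, become
isomorphic as `R`-algebras with involution after an etale faithfully flat base change of `R`). (The
source states that the monoid of types is isomorphic to the group of global square roots of `1`, for
a locally ringed topos with trivial involution and `2` invertible; the row is the affine case with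
connected spectrum, where that group is `{1, -1}`.) -/
theorem result (R : Type u) [CommRing R] (hlam : ∀ r : R, (AlgEquiv.refl : R ≃ₐ[R] R) ((AlgEquiv.refl : R ≃ₐ[R] R) r) = r)
    [Nontrivial R] [ConnectedSpace (PrimeSpectrum R)] (h2 : IsUnit (2 : R))
    (J : (Matrix (Fin 2) (Fin 2) R)ˣ) (hJ : (↑J : Matrix (Fin 2) (Fin 2) R) = Matrix.of ![![0, -1], ![1, 0]])
    (hJt : AzInv.LamInv.transpose (AlgEquiv.refl : R ≃ₐ[R] R) (Fin 2) hlam (↑J : Matrix (Fin 2) (Fin 2) R) = (-1 : R) • (↑J : Matrix (Fin 2) (Fin 2) R))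
    (hneg : (AlgEquiv.refl : R ≃ₐ[R] R) (-1) * (-1) = 1)
    (A : Type w) [Ring A] [Algebra R A]
    (n : ℕ) (hn : 0 < n) (hA : AzInv.IsAzumayaDeg R A n) (t : AzInv.LamInv R A (AlgEquiv.refl : R ≃ₐ[R] R)) :
    AzInv.SameType R (AlgEquiv.refl : R ≃ₐ[R] R) t (AzInv.LamInv.self (AlgEquiv.refl : R ≃ₐ[R] R) hlam) ∨
      AzInv.SameType R (AlgEquiv.refl : R ≃ₐ[R] R) t ((AzInv.LamInv.transpose (AlgEquiv.refl : R ≃ₐ[R] R) (Fin 2) hlam).conj J (-1) hJt hneg) := by
    classical
    obtain ⟨hAz, hrk⟩ := hA
    have eX : Matrix (Fin 1) (Fin 1) A ≃ₐ[R] A :=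
      { toFun := fun M => M 0 0
        invFun := fun a => Matrix.of fun _ _ => a
        left_inv := fun M => by
          ext i j
          rw [Subsingleton.elim i 0, Subsingleton.elim j 0]
          rfl
        right_inv := fun a => rfl
        map_mul' := fun M N => by
          rw [Matrix.mul_apply, Fin.sum_univ_one]
        map_add' := fun M N => rfl
        commutes' := fun r => by
          rw [Matrix.algebraMap_matrix_apply, if_pos rfl] }
    haveI : IsAzumaya R (Matrix (Fin 1) (Fin 1) A) :=
      IsAzumaya.of_AlgEquiv R A (Matrix (Fin 1) (Fin 1) A) eX.symm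
    have hrkX : ∀ p : PrimeSpectrum R,
        Module.rankAtStalk (R := R) (Matrix (Fin 1) (Fin 1) A) p = n ^ 2 := fun p => by
      rw [Module.rankAtStalk_eq_of_equiv eX.toLinearEquiv]
      exact hrk p
    set σ : Matrix (Fin 1) (Fin 1) A →ₗ[R] Matrix (Fin 1) (Fin 1) A :=
      (t.matrix (Fin 1)).linS R (AlgEquiv.refl : R ≃ₐ[R] R) with hσ
    have hmul : ∀ a b, σ (a * b) = σ b * σ a := fun a b => (t.matrix (Fin 1)).map_mul a b
    have hinv : ∀ a, σ (σ a) = a := fun a => (t.matrix (Fin 1)).invol a
    -- compatibility with the `R`-action is automatic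
    have hcompat : ∀ (K : Type u) [CommRing K] [Algebra R K] (Y : Type u) [Ring Y] [Algebra R Y]
        (f : K ⊗[R] Matrix (Fin 1) (Fin 1) A ≃ₐ[K] K ⊗[R] Y) (r : R)
        (x : K ⊗[R] Matrix (Fin 1) (Fin 1) A),
        f (((1 : K) ⊗ₜ[R] algebraMap R (Matrix (Fin 1) (Fin 1) A) r) * x) =
          ((1 : K) ⊗ₜ[R] algebraMap R Y r) * f x := by
      intro K _ _ Y _ _ f r x
      have e1 : (1 : K) ⊗ₜ[R] algebraMap R (Matrix (Fin 1) (Fin 1) A) r =
          algebraMap K (K ⊗[R] Matrix (Fin 1) (Fin 1) A) (algebraMap R K r) := by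
        calc (1 : K) ⊗ₜ[R] algebraMap R (Matrix (Fin 1) (Fin 1) A) r
            = (1 : K) ⊗ₜ[R] (r • (1 : Matrix (Fin 1) (Fin 1) A)) := by
              rw [Algebra.algebraMap_eq_smul_one]
          _ = r • ((1 : K) ⊗ₜ[R] (1 : Matrix (Fin 1) (Fin 1) A)) := by rw [TensorProduct.tmul_smul]
          _ = (r • (1 : K)) ⊗ₜ[R] (1 : Matrix (Fin 1) (Fin 1) A) := by rw [TensorProduct.smul_tmul']
          _ = (algebraMap R K r) ⊗ₜ[R] (1 : Matrix (Fin 1) (Fin 1) A) := by
              rw [← Algebra.algebraMap_eq_smul_one]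
          _ = _ := (Algebra.TensorProduct.algebraMap_apply _).symm
      have e2 : (1 : K) ⊗ₜ[R] algebraMap R Y r =
          algebraMap K (K ⊗[R] Y) (algebraMap R K r) := by
        calc (1 : K) ⊗ₜ[R] algebraMap R Y r
            = (1 : K) ⊗ₜ[R] (r • (1 : Y)) := by rw [Algebra.algebraMap_eq_smul_one]
          _ = r • ((1 : K) ⊗ₜ[R] (1 : Y)) := by rw [TensorProduct.tmul_smul]
          _ = (r • (1 : K)) ⊗ₜ[R] (1 : Y) := by rw [TensorProduct.smul_tmul']
          _ = (algebraMap R K r) ⊗ₜ[R] (1 : Y) := by rw [← Algebra.algebraMap_eq_smul_one]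
          _ = _ := (Algebra.TensorProduct.algebraMap_apply _).symm
      rw [e1, e2, map_mul, f.commutes]
    rcases Groth.Agent.Lib.Helper1.AzInvLib.main n hn hrkX h2 σ hmul hinv with
      ⟨K, i1, i2, i3, i4, f, hf⟩ | ⟨m, hm, K, i1, i2, i3, i4, f, hf⟩
    · left
      refine ⟨1, n, one_pos, hn, K, i1, i2, i3, i4, f, fun r x => hcompat K _ f r x, ?_⟩
      intro x
      have e : ((AzInv.LamInv.self (AlgEquiv.refl : R ≃ₐ[R] R) hlam).matrix (Fin n)).linS R
          (AlgEquiv.refl : R ≃ₐ[R] R) =
          Groth.Agent.Lib.Helper1.AzInvLib.transposeLin R (Fin n) := by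
        refine LinearMap.ext fun M => Matrix.ext fun i j => ?_
        rfl
      change f (σ.baseChange K x) = LinearMap.baseChange K
        (((AzInv.LamInv.self (AlgEquiv.refl : R ≃ₐ[R] R) hlam).matrix (Fin n)).linS R
          (AlgEquiv.refl : R ≃ₐ[R] R)) (f x)
      rw [e]
      exact hf x
    · right
      have hJinv : (↑J⁻¹ : Matrix (Fin 2) (Fin 2) R) = Matrix.of ![![0, 1], ![-1, 0]] := by
        apply Units.inv_eq_of_mul_eq_one_right
        rw [hJ]
        ext i j
        fin_cases i <;> fin_cases j <;> simp [Matrix.mul_apply, Fin.sum_univ_two]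
      refine ⟨1, m, one_pos, by omega, K, i1, i2, i3, i4, f, fun r x => hcompat K _ f r x, ?_⟩
      intro x
      have e : (((AzInv.LamInv.transpose (AlgEquiv.refl : R ≃ₐ[R] R) (Fin 2) hlam).conj J (-1) hJt
          hneg).matrix (Fin m)).linS R (AlgEquiv.refl : R ≃ₐ[R] R) =
          Groth.Agent.Lib.Helper1.AzInvLib.symplLin R m := by
        refine LinearMap.ext fun X => Matrix.ext fun i j => ?_
        rw [AzInv.LamInv.linS_apply, AzInv.LamInv.matrix_apply, AzInv.LamInv.conj_apply, hJ, hJinv,
          Groth.Agent.Lib.Helper1.AzInvLib.symplLin_apply]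
        have ht : ∀ a b, (AzInv.LamInv.transpose (AlgEquiv.refl : R ≃ₐ[R] R) (Fin 2) hlam (X j i)) a b
            = X j i b a := fun a b => rfl
        generalize (AzInv.LamInv.transpose (AlgEquiv.refl : R ≃ₐ[R] R) (Fin 2) hlam (X j i)) = T at ht
        ext α β
        fin_cases α <;> fin_cases β <;>
          simp only [Matrix.mul_apply, Fin.sum_univ_two] <;> simp [← ht]
      change f (σ.baseChange K x) = LinearMap.baseChange K
        ((((AzInv.LamInv.transpose (AlgEquiv.refl : R ≃ₐ[R] R) (Fin 2) hlam).conj J (-1) hJt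
          hneg).matrix (Fin m)).linS R (AlgEquiv.refl : R ≃ₐ[R] R)) (f x)
      rw [e]
      exact hf x

end Groth.Agent.S17359
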