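import Groth.Statements.S17362
import Mathlib
import Groth.Agent.Lib.Helper95.AzSign
-- import your own Groth.Agent.* helpers here

set_option autoImplicit false
universe u v w
open scoped TensorProduct
open AzInv Groth.Agent.Lib.Helper95.AzSign

namespace Groth.Agent.S17362

/-- Let `R` be a commutative ring with an involution `lam` whose fixed ring is exactly `S`, with `2` a
unit in `S`, and let `(A, t)` be an Azumaya `R`-algebra of degree `n ≥ 1` with a `lam`-involution.
For a prime `q` of `R` in the ramification locus (`lam` is the identity modulo `q`) call `t`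
orthogonal at `q` when the images of the `t`-symmetric elements of `A` span a subspace of `k(q) ⊗_R
A` of dimension `n (n + 1) / 2` over `k(q)` (the induced involution of the central simple algebra
`k(q) ⊗_R A` is then orthogonal, and symplectic otherwise). Then this orthogonal/symplectic sign is
locally constant on the ramification locus: every such `q` has a basic open neighbourhood `D(f)`
such that at every prime of the ramification locus inside `D(f)` the sign is the same as at `q`.
(The source states this for a good quotient of schemes by an involution with `2` invertible, as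
local constancy of a sign function on the ramification locus; the row is the affine case with the
sign spelled out by dimensions of symmetric elements.) -/
theorem result (S : Type u) (R : Type v) [CommRing S] [CommRing R] [Algebra S R]
    (lam : R ≃ₐ[S] R) (hlam : ∀ r, lam (lam r) = r) (hfix : RInv.IsFixedRing S R lam.toRingEquiv)
    (h2 : IsUnit (2 : S))
    (A : Type w) [Ring A] [Algebra S A] [Algebra R A] [IsScalarTower S R A]
    (n : ℕ) (hn : 0 < n) (hA : AzInv.IsAzumayaDeg R A n) (t : AzInv.LamInv R A lam)
    (q : PrimeSpectrum R) (hq : ∀ r : R, lam r - r ∈ q.asIdeal) :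
    ∃ f : R, f ∉ q.asIdeal ∧ ∀ q' : PrimeSpectrum R, (∀ r : R, lam r - r ∈ q'.asIdeal) → f ∉ q'.asIdeal →
      (Module.finrank q'.asIdeal.ResidueField
          (Submodule.span q'.asIdeal.ResidueField
            (Set.range fun a : {a : A // t a = a} => (1 : q'.asIdeal.ResidueField) ⊗ₜ[R] (a : A))) = Nat.choose (n + 1) 2 ↔
        Module.finrank q.asIdeal.ResidueField
            (Submodule.span q.asIdeal.ResidueField
              (Set.range fun a : {a : A // t a = a} => (1 : q.asIdeal.ResidueField) ⊗ₜ[R] (a : A))) = Nat.choose (n + 1) 2) := by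
  classical
  -- inverse of two
  obtain ⟨u, hu⟩ := h2
  set h₀ : R := algebraMap S R ↑u⁻¹ with hh₀
  have h2h : (2 : R) * h₀ = 1 := by
    have : (2 : S) * ↑u⁻¹ = 1 := by rw [← hu]; exact u.mul_inv
    have := congrArg (algebraMap S R) this
    rwa [map_mul, map_ofNat, map_one] at this
  obtain ⟨hAz, -⟩ := hA
  -- the ramification ideal
  set I : Ideal R := Ideal.span (Set.range fun r : R => lam r - r) with hI
  have hK₀ : ∀ r, algebraMap R (R ⧸ I) (lam r) = algebraMap R (R ⧸ I) r := by
    intro r
    exact Ideal.Quotient.eq.mpr (Ideal.subset_span ⟨r, rfl⟩)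
  set tt : A →+ A := t.toAddMonoidHom with htt
  have ht : ∀ r a, tt (r • a) = lam r • tt a := fun r a => t.map_smul r a
  have hinv : ∀ a, tt (tt a) = a := fun a => t.invol a
  set e := eK tt lam ht (R ⧸ I) hK₀ h₀ with he
  have hidem : e ∘ₗ e = e := eK_idem tt lam ht (R ⧸ I) hK₀ hinv h₀ h2h
  haveI := finite_range e
  haveI := projective_range e hidem
  haveI : Module.FinitePresentation (R ⧸ I) (LinearMap.range e) :=
    Module.finitePresentation_of_projective _ _
  -- local description of the dimension
  have key : ∀ q' : PrimeSpectrum R, (∀ r : R, lam r - r ∈ q'.asIdeal) →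
      ∃ qb : PrimeSpectrum (R ⧸ I), (∀ f : R, Ideal.Quotient.mk I f ∈ qb.asIdeal ↔ f ∈ q'.asIdeal) ∧
        Module.finrank q'.asIdeal.ResidueField
          (Submodule.span q'.asIdeal.ResidueField
            (Set.range fun a : {a : A // t a = a} => (1 : q'.asIdeal.ResidueField) ⊗ₜ[R] (a : A))) =
        Module.rankAtStalk (R := R ⧸ I) (LinearMap.range e) qb := by
    intro q' hq'
    have hle : ∀ a ∈ I, algebraMap R q'.asIdeal.ResidueField a = 0 := by
      intro a ha
      rw [Ideal.algebraMap_residueField_eq_zero]
      exact (Ideal.span_le.mpr (by rintro _ ⟨r, rfl⟩; exact hq' r)) ha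
    let φ : R ⧸ I →+* q'.asIdeal.ResidueField := Ideal.Quotient.lift I (algebraMap R _) hle
    letI : Algebra (R ⧸ I) q'.asIdeal.ResidueField := φ.toAlgebra
    haveI : IsScalarTower R (R ⧸ I) q'.asIdeal.ResidueField :=
      IsScalarTower.of_algebraMap_eq (fun r => rfl)
    have hK' : ∀ r, algebraMap R q'.asIdeal.ResidueField (lam r) =
        algebraMap R q'.asIdeal.ResidueField r := by
      intro r
      have := hle _ (Ideal.subset_span ⟨r, rfl⟩)
      rwa [map_sub, sub_eq_zero] at this
    refine ⟨PrimeSpectrum.comap (algebraMap (R ⧸ I) q'.asIdeal.ResidueField) ⊥, ?_, ?_⟩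
    · intro f
      have h0 : Ideal.Quotient.mk I f ∈
          (PrimeSpectrum.comap (algebraMap (R ⧸ I) q'.asIdeal.ResidueField) ⊥).asIdeal ↔
          φ (Ideal.Quotient.mk I f) = 0 := Iff.rfl
      rw [h0, Ideal.Quotient.lift_mk, Ideal.algebraMap_residueField_eq_zero]
    · have h1 := span_sym_eq_range tt lam ht q'.asIdeal.ResidueField hK' hinv h₀ h2h
      have h1' : Submodule.span q'.asIdeal.ResidueField
            (Set.range fun a : {a : A // t a = a} => (1 : q'.asIdeal.ResidueField) ⊗ₜ[R] (a : A)) =
          LinearMap.range (eK tt lam ht q'.asIdeal.ResidueField hK' h₀) := h1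
      rw [h1', finrank_range_eK_eq tt lam ht (R ⧸ I) hK₀ q'.asIdeal.ResidueField hK' h₀]
      exact finrank_range_baseChange_idem e hidem q'.asIdeal.ResidueField
  -- local constancy
  obtain ⟨qb, hqb, hdq⟩ := key q hq
  have hlc : IsLocallyConstant (Module.rankAtStalk (R := R ⧸ I) (LinearMap.range e)) :=
    Module.isLocallyConstant_rankAtStalk
  obtain ⟨U, hUo, hqU, hU⟩ := (IsLocallyConstant.iff_exists_open _).mp hlc qb
  obtain ⟨v, ⟨fb, rfl⟩, hqv, hvU⟩ :=
    PrimeSpectrum.isTopologicalBasis_basic_opens.exists_subset_of_mem_open hqU hUo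
  obtain ⟨f, rfl⟩ := Ideal.Quotient.mk_surjective fb
  refine ⟨f, fun hf => hqv ((hqb f).mpr hf), ?_⟩
  · intro q' hq' hfq'
    obtain ⟨qb', hqb', hdq'⟩ := key q' hq'
    have : qb' ∈ U := hvU (fun hmem => hfq' ((hqb' f).mp hmem))
    rw [hdq', hdq, hU qb' this]

end Groth.Agent.S17362
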