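import Groth.Statements.S17365
import Groth.Agent.Lib.Helper80.FlatHartogs
import Groth.Agent.H46.SmoothPairCodim
import Groth.Agent.H46.CIntDepth
import Groth.Agent.Lib.Helper73.RegularNormal
import Groth.Agent.Lib.Helper49.FinLocFree
import Groth.Agent.Lib.Helper49.FreeMod

set_option autoImplicit false
universe u
open CategoryTheory CategoryTheory.Limits AlgebraicGeometry TopologicalSpace
open CInt

namespace Groth.Agent.S17365


/-- Let k be an algebraically closed field, X a smooth proper k-scheme admitting an ample invertible
sheaf, and S a locally Noetherian k-scheme. Let E be a finite locally free module on S ×_k X and Z a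
closed subset of S ×_k X whose intersection with every fibre {s} × X has codimension at least 2
there, i.e. at every point of Z the local ring of the fibre of the projection S ×_k X ⟶ S has Krull
dimension at least 2. Then, with j the inclusion of the complement of Z, the natural map E ⟶ j_*
(E|_{S × X ∖ Z}) is an isomorphism. -/
theorem result
    (k : Type u) [Field k] [IsAlgClosed k] (S X : Scheme.{u})
    (b : S ⟶ Spec (CommRingCat.of k)) (a : X ⟶ Spec (CommRingCat.of k))
    [IsLocallyNoetherian S] [Smooth a] [IsProper a]
    (hproj : ∃ H : X.Modules, CohB1.IsAmple H)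
    (E : (pullback b a).Modules) (hE : FlatMod.IsFinLocFree E)
    (Z : Closeds ↥(pullback b a))
    (hZ : ∀ x : ↥(pullback b a), x ∈ Z →
      (2 : WithBot ℕ∞) ≤ ringKrullDim ↑(CInt.fiberStalk (pullback.fst b a) x)) :
    IsIso ((Scheme.Modules.restrictAdjunction (Scheme.Opens.ι (Z.compl : (pullback b a).Opens))).unit.app E) := by
  have hsm : Smooth (pullback.fst b a) := inferInstance
  have hft : LocallyOfFiniteType (pullback.fst b a) := inferInstance
  have hfl : Flat (pullback.fst b a) := inferInstance
  have hN : IsLocallyNoetherian (pullback b a) :=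
    LocallyOfFiniteType.isLocallyNoetherian (pullback.fst b a)
  have hq : E.IsQuasicoherent := Groth.Agent.Lib.Helper49.isQuasicoherent_of_isFinLocFree E hE
  have hEfl : FlatMod.IsFlat E := Groth.Agent.Lib.Helper49.isFlat_of_isFinLocFree E hE
  refine Groth.Agent.Lib.Helper80.isIso_unit_of_flat E hEfl _ fun x hxU => ?_
  have hxZ : x ∈ Z := by
    by_contra hx
    exact hxU hx
  have h2 := hZ x hxZ
  have hreg := Groth.Agent.H46.SmoothPairCodim.isRegularLocalRing_fiberStalk (pullback.fst b a) x
  have hd := Groth.Agent.Lib.Helper73.RegularNormal.depth_self_of_isRegularLocalRing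
    (CInt.fiberStalk (pullback.fst b a) x)
  rw [← hd] at h2
  have h2' : (2 : ℕ∞) ≤ LocCoh.depth (CInt.fiberStalk (pullback.fst b a) x)
      (CInt.fiberStalk (pullback.fst b a) x) := WithBot.coe_le_coe.mp h2
  rw [Groth.Agent.H46.CIntDepth.depth_stalk_eq_add (pullback.fst b a) x]
  exact h2'.trans le_add_self

end Groth.Agent.S17365
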