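import Groth.Statements.S17376
import Mathlib
import Groth.Agent.Lib.Helper68.NormBC

set_option autoImplicit false
universe u
open scoped TensorProduct
open CAlg

namespace Groth.Agent.S17376

/-- Let k be a field, A an integrally closed domain over k with fraction field K, L a finite extension
of K, B the integral closure of A in L, and R an arbitrary commutative k-algebra; view L ⊗_k R as an
algebra over K ⊗_k R through K → L. Then L ⊗_k R is finite free over K ⊗_k R, so the norm
(determinant of multiplication) L ⊗_k R → K ⊗_k R is defined; the norm of any element β of B ⊗_k R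
(mapped into L ⊗_k R) lies in the image of A ⊗_k R; and β is a nonzerodivisor in B ⊗_k R if and only
if its norm is a nonzerodivisor in K ⊗_k R. (Nonzerodivisors of A ⊗_k R are exactly its elements
that are nonzerodivisors in K ⊗_k R, the latter being a localisation of the former at
nonzerodivisors, so this is the source's formulation with the norm regarded in A ⊗_k R.) -/
theorem result (k A K L R : Type u) [Field k]
    [CommRing A] [IsDomain A] [IsIntegrallyClosed A] [Algebra k A]
    [Field K] [Algebra A K] [IsFractionRing A K] [Algebra k K] [IsScalarTower k A K]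
    [Field L] [Algebra K L] [FiniteDimensional K L] [Algebra A L] [IsScalarTower A K L]
    [Algebra k L] [IsScalarTower k K L] [IsScalarTower k A L]
    [CommRing R] [Algebra k R] :
    letI : Algebra (K ⊗[k] R) (L ⊗[k] R) :=
      (Algebra.TensorProduct.map (IsScalarTower.toAlgHom k K L) (AlgHom.id k R)).toRingHom.toAlgebra
    Module.Free (K ⊗[k] R) (L ⊗[k] R) ∧ Module.Finite (K ⊗[k] R) (L ⊗[k] R) ∧
      ∀ b : (integralClosure A L) ⊗[k] R,
        Algebra.norm (K ⊗[k] R)
            (Algebra.TensorProduct.map ((integralClosure A L).val.restrictScalars k) (AlgHom.id k R) b) ∈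
          Set.range (Algebra.TensorProduct.map (IsScalarTower.toAlgHom k A K) (AlgHom.id k R)) ∧
        (IsRegular b ↔ IsRegular (Algebra.norm (K ⊗[k] R)
            (Algebra.TensorProduct.map ((integralClosure A L).val.restrictScalars k) (AlgHom.id k R) b))) := by
  classical
  letI inst : Algebra (K ⊗[k] R) (L ⊗[k] R) := Groth.Agent.Lib.Helper68.NormBC.algKL k K L R
  let bL : Module.Basis (Fin (Module.finrank K L)) K L := Module.finBasis K L
  let b' := Groth.Agent.Lib.Helper68.NormBC.basisKL k K L R bL
  have hinj : Function.Injective (algebraMap A L) := by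
    rw [IsScalarTower.algebraMap_eq A K L]
    exact (algebraMap K L).injective.comp (IsFractionRing.injective A K)
  haveI halg : Algebra.IsAlgebraic A L :=
    (IsFractionRing.comap_isAlgebraic_iff (A := A) (K := K) (C := L)).mpr inferInstance
  refine ⟨Module.Free.of_basis b', Module.Finite.of_basis b', fun β => ⟨?_, ?_⟩⟩
  · obtain ⟨S, hS⟩ := TensorProduct.exists_finset β
    have h1 : Algebra.TensorProduct.map ((integralClosure A L).val.restrictScalars k)
        (AlgHom.id k R) β =
        ∑ j : {i // i ∈ S}, ((j.1.1 : integralClosure A L) : L) ⊗ₜ[k] (j.1.2 : R) := by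
      rw [hS, map_sum, ← Finset.sum_coe_sort S]
      refine Finset.sum_congr rfl fun j _ => ?_
      simp
    rw [h1]
    exact Groth.Agent.Lib.Helper68.NormBC.norm_sum_mem_range k A K L R bL
      (fun j : {i // i ∈ S} => ((j.1.1 : integralClosure A L) : L))
      (fun j => j.1.1.2) (fun j => j.1.2)
  · rw [Groth.Agent.Lib.Helper68.NormBC.isRegular_iotaB_iff k A L R hinj β]
    exact Groth.Agent.Lib.Helper68.NormBC.isRegular_iff_isRegular_norm b' _

end Groth.Agent.S17376
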