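import Groth.Statements.S17392
import Groth.Agent.Lib.Helper93.FiniteTypeExtend
import Groth.Agent.Lib.Helper93.BlowUpClosureSep
import Groth.Agent.Lib.Helper93.FiniteTypeIdeal

set_option autoImplicit false
universe u
open BlowUp

namespace Groth.Agent.S17392

open AlgebraicGeometry CategoryTheory Limits in
/-- Let X₁ and X₂ be quasi-compact quasi-separated schemes, q : X₂ → X₁ a quasi-compact separated
morphism, V₁ ⊆ X₁ a quasi-compact open subscheme and U ⊆ q⁻¹(V₁) an open subscheme of X₂ on which q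
restricts to an open immersion (so U is identified with an open of V₁). Let Z₁ ⊆ X₁ be a closed
subset whose open complement is quasi-compact, put Y₁ = Z₁ ∩ V₁, and let Z₂ ⊆ X₂ be a closed subset
whose open complement is also quasi-compact, with q⁻¹(Y₁) ⊆ Z₂. Then there is a quasi-coherent ideal
E of finite type on X₁ with support contained in Z₁ ∖ V₁ (so that blowing up E is V₁-admissible)
such that, for every blowing up c : X₁' → X₁ of X₁ in E with base change q' : X₂' = X₂ ×_{X₁} X₁' →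
X₁' and c₂ : X₂' → X₂, one has q'⁻¹(closure of c⁻¹(Y₁)) ∩ closure(c₂⁻¹(U)) ⊆ c₂⁻¹(Z₂) as subsets of
X₂'. -/
theorem result
    {X₁ X₂ : Scheme.{u}} [CompactSpace X₁] [QuasiSeparatedSpace X₁] [CompactSpace X₂] [QuasiSeparatedSpace X₂]
    (q : X₂ ⟶ X₁) [QuasiCompact q] [IsSeparated q]
    (V₁ : X₁.Opens) (hV₁ : IsCompact (V₁ : Set X₁))
    (U : X₂.Opens) (hU : U ≤ q ⁻¹ᵁ V₁) [IsOpenImmersion (U.ι ≫ q)]
    (Z₁ : Set X₁) (hZ₁ : IsClosed Z₁) (hZ₁c : IsCompact Z₁ᶜ)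
    (Z₂ : Set X₂) (hZ₂ : IsClosed Z₂) (hZ₂c : IsCompact Z₂ᶜ)
    (hYZ : (fun x => q x) ⁻¹' (Z₁ ∩ (V₁ : Set X₁)) ⊆ Z₂) :
    ∃ 𝓔 : X₁.IdealSheafData, BlowUp.IsFiniteTypeIdeal 𝓔 ∧ (𝓔.support : Set X₁) ⊆ Z₁ \ (V₁ : Set X₁) ∧
      ∀ (X₁' : Scheme.{u}) (c : X₁' ⟶ X₁), BlowUp.IsBlowUp c 𝓔 →
        (fun z => (pullback.snd q c) z) ⁻¹' closure ((fun x => c x) ⁻¹' (Z₁ ∩ (V₁ : Set X₁))) ∩
            closure ((fun z => (pullback.fst q c) z) ⁻¹' (U : Set X₂)) ⊆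
          (fun z => (pullback.fst q c) z) ⁻¹' Z₂ := by
  classical
  obtain ⟨𝓘₁, hI1, hI1s⟩ :=
    Groth.Agent.Lib.Helper93.FiniteTypeExtend.exists_isFiniteTypeIdeal_support_eq Z₁ hZ₁ hZ₁c
  obtain ⟨𝓙, hJ, hJs⟩ :=
    Groth.Agent.Lib.Helper93.FiniteTypeExtend.exists_isFiniteTypeIdeal_support_eq
      ((V₁ : Set X₁)ᶜ) V₁.2.isClosed_compl (by rwa [compl_compl])
  let W : X₂.Opens := ⟨Z₂ᶜ, hZ₂.isOpen_compl⟩
  have hsuppq : ∀ 𝓚 : X₁.IdealSheafData,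
      ((𝓚.comap q).support : Set X₂) = q ⁻¹' (𝓚.support : Set X₁) := by
    intro 𝓚
    rw [Scheme.IdealSheafData.support_comap]
    rfl
  obtain ⟨n, hn⟩ := Groth.Agent.Lib.Helper93.IdealPowerLe.exists_pow_ideal_le W hZ₂c
    (𝓘₁.comap q) (𝓙.comap q)
    (Groth.Agent.Lib.Helper93.FiniteTypeIdeal.isFiniteTypeIdeal_comap 𝓙 hJ q) (by
      rintro x ⟨hx1, hx2⟩
      rw [hsuppq, Set.mem_preimage, hI1s] at hx1
      rw [hsuppq, Set.mem_preimage, hJs]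
      intro hxV
      exact hx2 (hYZ ⟨hx1, hxV⟩))
  have hsuppJ : ((𝓙 ^ n).support : Set X₁) ⊆ (V₁ : Set X₁)ᶜ := by
    rcases Nat.eq_zero_or_pos n with rfl | hpos
    · rw [pow_zero, Scheme.IdealSheafData.one_eq_top, Scheme.IdealSheafData.support_top]
      exact fun x hx => hx.elim
    · rw [Scheme.IdealSheafData.support_pow _ _ hpos.ne', hJs]
  have hsuppE : ((𝓘₁ ⊔ 𝓙 ^ n).support : Set X₁) ⊆ Z₁ \ (V₁ : Set X₁) := by
    rw [Scheme.IdealSheafData.support_sup]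
    intro x hx
    exact ⟨hI1s ▸ hx.1, hsuppJ hx.2⟩
  refine ⟨𝓘₁ ⊔ 𝓙 ^ n, ?_, hsuppE, ?_⟩
  · intro A
    rw [Scheme.IdealSheafData.ideal_sup, Pi.sup_apply, Scheme.IdealSheafData.ideal_pow,
      Pi.pow_apply]
    exact Submodule.FG.sup (hI1 A) (Submodule.FG.pow (hJ A) n)
  · intro X₁' c hc z hz
    obtain ⟨hz1, hz2⟩ := hz
    by_contra hzZ₂
    have hzW : (pullback.fst q c) z ∈ W := hzZ₂
    obtain ⟨A, hzA, hAW, hAle⟩ := hn _ hzW
    refine Groth.Agent.Lib.Helper93.BlowUpClosureSep.false_of_mem_closure q c (pullback.fst q c)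
      (pullback.snd q c) pullback.condition 𝓘₁ (𝓙 ^ n) hc.1 (Z₁ ∩ (V₁ : Set X₁)) ?_ ?_ z hz1 A hzA
      ?_ ((fun z => (pullback.fst q c) z) ⁻¹' (U : Set X₂)) hz2 ?_
    · rw [hI1s]
      exact Set.inter_subset_left
    · rw [Set.disjoint_left]
      intro x hx hx'
      exact (hsuppE hx').2 hx.2
    · rw [Groth.Agent.Lib.Helper93.IdealPowerLe.comap_pow, Scheme.IdealSheafData.ideal_pow,
        Pi.pow_apply]
      exact hAle
    · intro y hy hy'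
      have h1 : c ((pullback.snd q c) y) = q ((pullback.fst q c) y) := by
        rw [← Scheme.Hom.comp_apply, ← Scheme.Hom.comp_apply, pullback.condition]
      rw [h1] at hy'
      exact (hsuppE hy').2 (hU hy)

end Groth.Agent.S17392
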