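import Groth.Statements.S17393
import Groth.Agent.H8.EffCartier

set_option autoImplicit false
universe u
open BlowUp

namespace Groth.Agent.S17393

open AlgebraicGeometry CategoryTheory Limits in
/-- Let X be any scheme, I and I' quasi-coherent ideals on X (of closed subschemes Y and Y'), b : X' → X
a blowing up of X in I + I' (the ideal of Y ∩ Y'), b' : Ỹ → Y a blowing up of Y = V(I) in the
inverse image of I + I' and k : Ỹ → X' the morphism with k ≫ b = b' ≫ (Y → X), whose image is the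
strict transform of Y. For an affine open V of X, a section s of I over V, and an affine open V' ⊆
b⁻¹(V) of X' which meets the image of k, the ideal of the inverse image ideal sheaf (I + I')·O_X' on
V' is not the principal ideal generated by the pullback of s. Equivalently the strict transform of Y
does not meet the open locus U(s) where s generates the (invertible) inverse image ideal; since the
U(s) for s ranging over local sections of I and of I' cover X', the strict transform of Y lies in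
the union of the U(s) with s a local section of I'. -/
theorem result
    {X X' Yt : Scheme.{u}} (𝓘 𝓘' : X.IdealSheafData) (b : X' ⟶ X) (hb : BlowUp.IsBlowUp b (𝓘 ⊔ 𝓘'))
    (b' : Yt ⟶ 𝓘.subscheme) (hb' : BlowUp.IsBlowUp b' ((𝓘 ⊔ 𝓘').comap 𝓘.subschemeι))
    (k : Yt ⟶ X') (hk : k ≫ b = b' ≫ 𝓘.subschemeι)
    (V : X.affineOpens) (s : Γ(X, V.1)) (hs : s ∈ 𝓘.ideal V)
    (V' : X'.affineOpens) (hV' : V'.1 ≤ b ⁻¹ᵁ V.1)
    (hmeet : (Set.range (fun y => k y) ∩ (V'.1 : Set X')).Nonempty) :
    ((𝓘 ⊔ 𝓘').comap b).ideal V' ≠ Ideal.span {(b.appLE V.1 V'.1 hV').hom s} := by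
  intro heq
  obtain ⟨_, ⟨y, rfl⟩, hyV'⟩ := hmeet
  -- the exceptional ideal of `b'` as a pullback along `k`
  have hE' : ((𝓘 ⊔ 𝓘').comap 𝓘.subschemeι).comap b' = ((𝓘 ⊔ 𝓘').comap b).comap k := by
    rw [← Scheme.IdealSheafData.comap_comp, ← Scheme.IdealSheafData.comap_comp, hk]
  have hI0 : 𝓘.comap 𝓘.subschemeι = ⊥ := by
    rw [eq_bot_iff, ← Scheme.IdealSheafData.le_map_iff_comap_le, Scheme.IdealSheafData.map_bot,
      Scheme.IdealSheafData.ker_subschemeι]
  have hIk : (𝓘.comap b).comap k = ⊥ := by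
    rw [← Scheme.IdealSheafData.comap_comp, hk, Scheme.IdealSheafData.comap_comp, hI0,
      Scheme.IdealSheafData.comap_bot]
  obtain ⟨W, hyW, hWV', t, ht, hW⟩ := Groth.Agent.H8.EffCartier.exists_generator_le _ hb'.1 y
    (k ⁻¹ᵁ V'.1) hyV'
  -- `E'(W) ≤ ((𝓘.comap b).comap k)(W) = ⊥`
  have h1 : ((𝓘 ⊔ 𝓘').comap b).ideal V' ≤ (𝓘.comap b).ideal V' := by
    rw [heq, Ideal.span_singleton_le_iff_mem,
      Groth.Agent.Lib.Helper18.ideal_comap_of_le b 𝓘 V' V hV']
    exact Ideal.mem_map_of_mem _ hs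
  have h2 : (((𝓘 ⊔ 𝓘').comap 𝓘.subschemeι).comap b').ideal W ≤ (⊥ : Ideal Γ(Yt, W.1)) := by
    rw [hE', Groth.Agent.Lib.Helper18.ideal_comap_of_le k _ W V' hWV']
    have h3 := Ideal.map_mono (f := (k.appLE V'.1 W.1 hWV').hom) h1
    rw [← Groth.Agent.Lib.Helper18.ideal_comap_of_le k (𝓘.comap b) W V' hWV', hIk] at h3
    exact h3
  rw [hW, Ideal.span_singleton_le_iff_mem, Ideal.mem_bot] at h2
  rw [h2] at ht
  have hsub : Subsingleton Γ(Yt, W.1) := by
    by_contra hns
    rw [not_subsingleton_iff_nontrivial] at hns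
    exact zero_notMem_nonZeroDivisors ht
  have hW0 : W.1 = ⊥ := by
    rw [← Scheme.basicOpen_of_isUnit Yt (isUnit_one : IsUnit (1 : Γ(Yt, W.1))),
      Subsingleton.elim (1 : Γ(Yt, W.1)) 0, Scheme.basicOpen_zero]
  rw [hW0] at hyW
  exact hyW

end Groth.Agent.S17393
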