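import Groth.Statements.S1741
import Groth.Agent.Lib.Helper47.ExtTorKillMain

set_option autoImplicit false
universe u
open CategoryTheory
attribute [local instance] HasDerivedCategory.standard
open LocCoh

namespace Groth.Agent.S1741

/-- Equivalence of (4) and (7) in the Noetherian case. Let R be a Noetherian ring, α : M → M' a map of
R-modules with M finite, and e ≥ 0. Then precomposition with α kills all classes in Ext^{e+1}(M', N)
(maps M' → N[e+1] in D(R)) for every module N if and only if the map Tor_{e+1}(M, N) → Tor_{e+1}(M',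
N) induced by α is zero for every module N. -/
theorem result (R : Type u) [CommRing R] [IsNoetherianRing R] (M M' : Type u) [AddCommGroup M] [Module R M] [Module.Finite R M] [AddCommGroup M'] [Module R M'] (α : M →ₗ[R] M') (e : ℕ) : (∀ (N : Type u) [AddCommGroup N] [Module R N] (φ : Dual.inD R M' ⟶ (Dual.inD R N)⟦((e : ℤ) + 1)⟧), (DerivedCategory.singleFunctor (ModuleCat.{u} R) 0).map (ModuleCat.ofHom α) ≫ φ = 0) ↔ (∀ (N : Type u) [AddCommGroup N] [Module R N], ((CategoryTheory.Tor (ModuleCat.{u} R) (e + 1)).map (ModuleCat.ofHom α)).app (ModuleCat.of R N) = 0) := by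
  open Groth.Agent.Lib.Helper47.ExtTorKill Abelian in
  have key : (∀ (N : Type u) [AddCommGroup N] [Module R N]
      (φ : Dual.inD R M' ⟶ (Dual.inD R N)⟦((e : ℤ) + 1)⟧),
      (DerivedCategory.singleFunctor (ModuleCat.{u} R) 0).map (ModuleCat.ofHom α) ≫ φ = 0) ↔
      ExtKill (ModuleCat.ofHom α) e := by
    constructor
    · intro h N x
      apply Ext.ext
      rw [Ext.comp_hom, Ext.mk₀_hom, ShiftedHom.mk₀_comp, Ext.zero_hom]
      exact h N x.hom
    · intro h N _ _ φ
      have h1 := h (ModuleCat.of R N) (Ext.homEquiv.symm φ)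
      have h2 := congrArg Ext.hom h1
      rw [Ext.comp_hom, Ext.mk₀_hom, ShiftedHom.mk₀_comp, Ext.zero_hom] at h2
      change _ ≫ Ext.homEquiv (Ext.homEquiv.symm φ) = 0 at h2
      rw [Equiv.apply_symm_apply] at h2
      exact h2
  rw [key, Groth.Agent.Lib.Helper47.ExtTorKill.extKill_iff_torKill e M M' α]
  constructor
  · intro h N _ _
    exact h (ModuleCat.of R N)
  · intro h N
    exact h N

end Groth.Agent.S1741
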