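import Groth.Statements.S17411
import Groth.Agent.Lib.Helper78.FibreIrredMain

set_option autoImplicit false
universe u
open CategoryTheory AlgebraicGeometry
open Prym5

namespace Groth.Agent.S17411

open Topology TopologicalSpace Groth.Agent.Lib.Helper78.FibreIrred Groth.Agent.Lib.Helper55 in
/-- A dominant morphism of finite type between irreducible schemes of finite type over a field
of the same dimension does not map a proper closed subset onto a dense subset. -/
theorem closed_eq_univ_of_dense_image {k : Type u} [Field k] {Y Z : Scheme.{u}}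
    (qY : Y ⟶ Spec (CommRingCat.of k)) (qZ : Z ⟶ Spec (CommRingCat.of k))
    [LocallyOfFiniteType qY] [QuasiCompact qY] [LocallyOfFiniteType qZ] [QuasiCompact qZ]
    [IrreducibleSpace Y] [IrreducibleSpace Z] (hdim : topologicalKrullDim Y = topologicalKrullDim Z)
    (η : Y ⟶ Z) (hη : η ≫ qZ = qY) (T : Set Y) (hT : IsClosed T) (hd : Dense (η '' T)) :
    T = Set.univ := by
  have := lft_of_comp_eq qY qZ η hη
  have hYN := isNoetherian_of_finiteType qY
  have hZN := isNoetherian_of_finiteType qZ
  by_contra hne
  have hlt := Groth.Agent.S4644.topologicalKrullDim_lt_of_ssubset T Set.univ hT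
    (IrreducibleSpace.isIrreducible_univ Y) (Set.subset_univ _) hne (by
      rw [dim_univ]
      exact dim_ne_top_of_irreducible qY)
  rw [dim_univ] at hlt
  have hTc : IsConstructible T := by
    have h1 : IsConstructible Tᶜ :=
      (NoetherianSpace.isCompact Tᶜ).isConstructible hT.isOpen_compl
    exact h1.of_compl
  have hc : IsConstructible (η '' T) := η.isConstructible_image hTc
  obtain ⟨V, hVo, hVne, hVsub⟩ := (Groth.Agent.S2395.result hc).mp hd
  have hζ : genericPoint Z ∈ V := ((genericPoint_spec Z).mem_open_set_iff hVo).mpr (by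
    rw [Set.univ_inter]; exact hVne)
  obtain ⟨t, htT, ht⟩ := hVsub hζ
  obtain ⟨a, b, ha, -, hab⟩ := exists_dim_closure_eq_add qZ η t
  rw [ht, (genericPoint_spec Z).def, dim_univ] at ha
  have h1 : topologicalKrullDim ↥(closure ({t} : Set Y)) ≤ topologicalKrullDim ↥T :=
    topologicalKrullDim_mono_set (hT.closure_subset_iff.mpr (Set.singleton_subset_iff.mpr htT))
  have h2 : (a : WithBot ℕ∞) ≤ ((a + b : ℕ) : WithBot ℕ∞) := by
    exact_mod_cast Nat.le_add_right a b
  rw [hab] at h1
  rw [hdim, ha] at hlt
  exact absurd (h2.trans h1) (not_le.mpr hlt)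

/-- Let k be an algebraically closed field of characteristic zero and X, Y, Z schemes of finite type
over k, with Y and Z irreducible of the same dimension, η : Y → Z a dominant k-morphism and ρ : X →
Y a k-morphism. Then the composite ρ ≫ η is dominant exactly when ρ is dominant. (The published
statement concerns the forgetful map from the moduli space of étale double covers of genus-five
curves to the moduli space of genus-five curves, both irreducible of dimension 12, and a morphism
into the former; its argument uses only the hypotheses kept here.) -/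
theorem result (k : Type u) [Field k] [IsAlgClosed k]
    [CharZero k] (X Y Z : Scheme.{u}) [X.Over (Spec (CommRingCat.of k))] [Y.Over (Spec (CommRingCat.of k))]
    [Z.Over (Spec (CommRingCat.of k))]
    [LocallyOfFiniteType (X ↘ Spec (CommRingCat.of k))] [QuasiCompact (X ↘ Spec (CommRingCat.of k))]
    [LocallyOfFiniteType (Y ↘ Spec (CommRingCat.of k))] [QuasiCompact (Y ↘ Spec (CommRingCat.of k))]
    [LocallyOfFiniteType (Z ↘ Spec (CommRingCat.of k))] [QuasiCompact (Z ↘ Spec (CommRingCat.of k))]
    [IrreducibleSpace Y] [IrreducibleSpace Z] (hdim : topologicalKrullDim Y = topologicalKrullDim Z)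
    (ρ : X ⟶ Y) [ρ.IsOver (Spec (CommRingCat.of k))] (η : Y ⟶ Z) [η.IsOver (Spec (CommRingCat.of k))]
    [IsDominant η] :
    IsDominant (ρ ≫ η) ↔ IsDominant ρ := by
  constructor
  · intro h
    have hη : η ≫ (Z ↘ Spec (CommRingCat.of k)) = (Y ↘ Spec (CommRingCat.of k)) :=
      comp_over η (Spec (CommRingCat.of k))
    have hT := closed_eq_univ_of_dense_image (Y ↘ Spec (CommRingCat.of k))
      (Z ↘ Spec (CommRingCat.of k)) hdim η hη (closure (Set.range ρ)) isClosed_closure (by
        have h1 : DenseRange (ρ ≫ η) := (ρ ≫ η).denseRange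
        refine Dense.mono ?_ h1
        rintro _ ⟨x, rfl⟩
        exact ⟨ρ x, subset_closure ⟨x, rfl⟩, (Scheme.Hom.comp_apply ρ η x).symm⟩)
    exact ⟨dense_iff_closure_eq.mpr hT⟩
  · intro h
    infer_instance

end Groth.Agent.S17411
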