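import Groth.Statements.S17413
import Mathlib
import Groth.Agent.S1561
import Groth.Agent.S10930
import Groth.Agent.S16256
import Groth.Agent.S10867
import Groth.Agent.S0558
import Groth.Agent.Lib.Helper78.CotangentSmooth
import Groth.Agent.Lib.Helper78.CotangentInjective

set_option autoImplicit false
universe u
open CategoryTheory AlgebraicGeometry
open Prym5

namespace Groth.Agent.S17413

section helpers

open CategoryTheory CategoryTheory.Limits AlgebraicGeometry TopologicalSpace IsLocalRing

theorem lfp_of_isLocallyNoetherian {X Y : Scheme.{u}} (f : X ⟶ Y)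
    [LocallyOfFiniteType f] [IsLocallyNoetherian Y] : LocallyOfFinitePresentation f := by
  rw [HasRingHomProperty.iff_appLE (P := @LocallyOfFinitePresentation)]
  intro U V e
  have : IsNoetherianRing Γ(Y, U.1) := IsLocallyNoetherian.component_noetherian U
  exact RingHom.FinitePresentation.of_finiteType.1
    (HasRingHomProperty.appLE (P := @LocallyOfFiniteType) f inferInstance U V e)

/-- The generic point of `Spec` of a stalk of an integral scheme maps to the generic point. -/
theorem fromSpecStalk_bot {Y : Scheme.{u}} [IsIntegral Y] (y : Y) :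
    Y.fromSpecStalk y (⟨⊥, Ideal.isPrime_bot⟩ : PrimeSpectrum (Y.presheaf.stalk y)) =
      genericPoint Y := by
  have hgen : genericPoint Y ⤳ y := genericPoint_specializes y
  have hmem : genericPoint Y ∈ Set.range (Y.fromSpecStalk y) := by
    rw [Scheme.range_fromSpecStalk]; exact hgen
  obtain ⟨q, hq⟩ := hmem
  let q' : PrimeSpectrum (Y.presheaf.stalk y) := q
  have h1 : (⟨⊥, Ideal.isPrime_bot⟩ : PrimeSpectrum (Y.presheaf.stalk y)) ⤳ q' :=
    (PrimeSpectrum.le_iff_specializes _ _).mp bot_le
  have h2 : (Y.fromSpecStalk y) (⟨⊥, Ideal.isPrime_bot⟩ : PrimeSpectrum (Y.presheaf.stalk y)) ⤳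
      (Y.fromSpecStalk y) q := h1.map (Y.fromSpecStalk y).continuous
  rw [hq] at h2
  exact (h2.antisymm (genericPoint_specializes _)).eq

/-- If the stalk map at `P` is injective and `X` is integral at `P`, the generic point is hit. -/
theorem genericPoint_mem_range_of_injective_stalkMap {X Y : Scheme.{u}} [IsIntegral Y] (u : X ⟶ Y)
    (P : X) [IsDomain (X.presheaf.stalk P)] (hinj : Function.Injective (u.stalkMap P).hom) :
    genericPoint Y ∈ Set.range u := by
  let pt : ↥(Spec (X.presheaf.stalk P)) :=
    show PrimeSpectrum (X.presheaf.stalk P) from ⟨⊥, Ideal.isPrime_bot⟩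
  refine ⟨X.fromSpecStalk P pt, ?_⟩
  have h1 := Scheme.SpecMap_stalkMap_fromSpecStalk u (x := P)
  have h2 : u (X.fromSpecStalk P pt) = Y.fromSpecStalk (u P) (Spec.map (u.stalkMap P) pt) := by
    rw [← Scheme.Hom.comp_apply, ← Scheme.Hom.comp_apply, h1]
  rw [h2, ← fromSpecStalk_bot (u P)]
  congr 1
  apply PrimeSpectrum.ext
  change Ideal.comap (u.stalkMap P).hom ⊥ = ⊥
  rw [← RingHom.ker_eq_comap_bot]
  exact (RingHom.injective_iff_ker_eq_bot _).mp hinj

theorem dominant_of_point (k : Type u) [Field k] [IsAlgClosed k] (X Y : Scheme.{u})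
    [X.Over (Spec (CommRingCat.of k))] [Y.Over (Spec (CommRingCat.of k))]
    [LocallyOfFiniteType (X ↘ Spec (CommRingCat.of k))]
    [LocallyOfFiniteType (Y ↘ Spec (CommRingCat.of k))]
    [IsIntegral Y] (u : X ⟶ Y) [u.IsOver (Spec (CommRingCat.of k))]
    (P : X) (hP : IsClosed ({P} : Set X)) (hreg : IsRegularLocalRing (X.presheaf.stalk P))
    (hcot : ∀ a ∈ maximalIdeal (Y.presheaf.stalk (u P)),
      (u.stalkMap P).hom a ∈ maximalIdeal (X.presheaf.stalk P) ^ 2 →
        a ∈ maximalIdeal (Y.presheaf.stalk (u P)) ^ 2) :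
    IsDominant u := by
  have hlnY : IsLocallyNoetherian Y :=
    LocallyOfFiniteType.isLocallyNoetherian (Y ↘ Spec (CommRingCat.of k))
  have hdom : IsDomain (X.presheaf.stalk P) := Groth.Agent.S0558.result _
  have hlft : LocallyOfFiniteType (u ≫ (Y ↘ Spec (CommRingCat.of k))) := by
    rw [comp_over]; infer_instance
  have hres := Groth.Agent.S10867.exists_sub_mem k u (Y ↘ Spec (CommRingCat.of k)) P hP
  algebraize [(u.stalkMap P).hom]
  have hloc : IsLocalHom (algebraMap (Y.presheaf.stalk (u P)) (X.presheaf.stalk P)) :=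
    inferInstanceAs (IsLocalHom (u.stalkMap P).hom)
  have hinj : Function.Injective (u.stalkMap P).hom :=
    Groth.Agent.Lib.Helper78.injective_of_cotangent_injective
      (A := Y.presheaf.stalk (u P)) (B := X.presheaf.stalk P) hres hcot
  obtain ⟨x, hx⟩ := genericPoint_mem_range_of_injective_stalkMap u P hinj
  constructor
  rw [DenseRange, dense_iff_closure_eq, ← Set.univ_subset_iff]
  have h1 : closure ({genericPoint Y} : Set Y) = Set.univ :=
    (genericPoint_spec Y).def
  rw [← h1]
  apply closure_mono
  rintro _ rfl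
  exact ⟨x, hx⟩

set_option maxHeartbeats 800000 in
theorem exists_point_of_dominant (k : Type u) [Field k] [IsAlgClosed k] [CharZero k]
    (X Y : Scheme.{u})
    [X.Over (Spec (CommRingCat.of k))] [Y.Over (Spec (CommRingCat.of k))]
    [LocallyOfFiniteType (X ↘ Spec (CommRingCat.of k))] [QuasiCompact (X ↘ Spec (CommRingCat.of k))]
    [LocallyOfFiniteType (Y ↘ Spec (CommRingCat.of k))]
    [IsReduced X] [IsIntegral Y] (u : X ⟶ Y) [u.IsOver (Spec (CommRingCat.of k))] [IsDominant u] :
    ∃ P : X, IsClosed ({P} : Set X) ∧ IsRegularLocalRing (X.presheaf.stalk P) ∧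
      ∀ a ∈ maximalIdeal (Y.presheaf.stalk (u P)),
        (u.stalkMap P).hom a ∈ maximalIdeal (X.presheaf.stalk P) ^ 2 →
          a ∈ maximalIdeal (Y.presheaf.stalk (u P)) ^ 2 := by
  have hlnX : IsLocallyNoetherian X :=
    LocallyOfFiniteType.isLocallyNoetherian (X ↘ Spec (CommRingCat.of k))
  have hlnY : IsLocallyNoetherian Y :=
    LocallyOfFiniteType.isLocallyNoetherian (Y ↘ Spec (CommRingCat.of k))
  have hcX : CompactSpace X :=
    QuasiCompact.compactSpace_of_compactSpace (X ↘ Spec (CommRingCat.of k))
  have hnX : IsNoetherian X := ⟨⟩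
  have hlftu : LocallyOfFiniteType u := by
    have : LocallyOfFiniteType (u ≫ (Y ↘ Spec (CommRingCat.of k))) := by
      rw [comp_over]; infer_instance
    exact locallyOfFiniteType_of_comp u (Y ↘ Spec (CommRingCat.of k))
  have hJ : JacobsonSpace X := LocallyOfFiniteType.jacobsonSpace (X ↘ Spec (CommRingCat.of k))
  obtain ⟨hiff, hdense⟩ := Groth.Agent.S1561.result k X
  set Xreg : X.Opens := (X ↘ Spec (CommRingCat.of k)).smoothLocus with hXreg
  -- the regular locus as a scheme
  have hreg' : ∀ x : Xreg.toScheme, IsRegularLocalRing (Xreg.toScheme.presheaf.stalk x) := by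
    intro x
    have h1 : IsRegularLocalRing (X.presheaf.stalk (Xreg.ι x)) := (hiff _).mp x.2
    exact IsRegularLocalRing.of_ringEquiv (asIso (Xreg.ι.stalkMap x)).commRingCatIsoToRingEquiv
  have hcz : CharZero Y.functionField := by
    let φ : k →+* Y.functionField :=
      ((Y.presheaf.germ ⊤ (genericPoint Y) trivial).hom.comp
        ((Y ↘ Spec (CommRingCat.of k)).appTop.hom)).comp
        (Scheme.ΓSpecIso (CommRingCat.of k)).inv.hom
    exact charZero_of_injective_ringHom φ.injective
  have hns : NoetherianSpace Xreg.toScheme := inferInstanceAs (NoetherianSpace (Xreg : Set X))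
  obtain ⟨V, hVdense, hVsmooth⟩ :=
    Groth.Agent.S10930.exists_dense_smooth_morphismRestrict hreg' (Xreg.ι ≫ u)
  -- a point of the regular locus over `V`
  have hne : ((Xreg ⊓ u ⁻¹ᵁ V : X.Opens) : Set X).Nonempty := by
    have hd : Dense (u '' (Xreg : Set X)) :=
      (Scheme.Hom.denseRange u).dense_image u.continuous hdense
    obtain ⟨y, hyV, x, hx, rfl⟩ := hd.inter_open_nonempty V V.2 hVdense.nonempty
    exact ⟨x, hx, hyV⟩
  -- a closed point there
  have hdc : Dense (closedPoints X) := by
    rw [dense_iff_closure_eq]; exact closure_closedPoints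
  obtain ⟨P, ⟨hPreg, hPV⟩, hPcl⟩ := hdc.inter_open_nonempty _ (Xreg ⊓ u ⁻¹ᵁ V).2 hne
  have hPclosed : IsClosed ({P} : Set X) := hPcl
  refine ⟨P, hPclosed, (hiff P).mp hPreg, ?_⟩
  -- smoothness at P
  let W' : Xreg.toScheme.Opens := (Xreg.ι ≫ u) ⁻¹ᵁ V
  have hsm1 : Smooth (W'.ι ≫ Xreg.ι ≫ u) := by
    have : W'.ι ≫ Xreg.ι ≫ u = ((Xreg.ι ≫ u) ∣_ V) ≫ V.ι := (morphismRestrict_ι _ _).symm
    rw [this]; infer_instance
  let j : W'.toScheme ⟶ X := W'.ι ≫ Xreg.ι
  have hsm2 : Smooth (j.opensRange.ι ≫ u) := by
    have : j.opensRange.ι ≫ u = j.isoOpensRange.inv ≫ W'.ι ≫ Xreg.ι ≫ u := by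
      rw [← Scheme.Hom.isoOpensRange_inv_comp j, Category.assoc, Category.assoc]
    rw [this]; infer_instance
  have hPj : P ∈ j.opensRange := by
    refine ⟨⟨⟨P, hPreg⟩, hPV⟩, rfl⟩
  have hfs : (u.stalkMap P).hom.FormallySmooth :=
    (Groth.Agent.S16256.exists_smooth_nhd_iff u P).mp ⟨_, hPj, hsm2⟩
  -- the lifting trick
  have hlft : LocallyOfFiniteType (u ≫ (Y ↘ Spec (CommRingCat.of k))) := by
    rw [comp_over]; infer_instance
  have hres := Groth.Agent.S10867.exists_sub_mem k u (Y ↘ Spec (CommRingCat.of k)) P hPclosed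
  algebraize [(u.stalkMap P).hom]
  have hloc : IsLocalHom (algebraMap (Y.presheaf.stalk (u P)) (X.presheaf.stalk P)) :=
    inferInstanceAs (IsLocalHom (u.stalkMap P).hom)
  intro a _ hab
  exact Groth.Agent.Lib.Helper78.mem_sq_of_formallySmooth
    (A := Y.presheaf.stalk (u P)) (B := X.presheaf.stalk P) hres a hab

end helpers

/-- Let k be an algebraically closed field of characteristic zero, X a reduced scheme of finite type
over k, Y an integral scheme of finite type over k and u : X → Y a k-morphism. Then u is dominant if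
and only if there is a closed point P of X such that X is regular at P and the differential of u at
P is surjective onto the tangent space of Y at u(P); surjectivity of the differential is written
dually as injectivity of the map of cotangent spaces m_{u(P)}/m_{u(P)}² → m_P/m_P² induced by the
local homomorphism of u at P. (The published statement asks only that Y be irreducible, puts no
condition on P and concludes that the scheme-theoretic image is all of Y. Without regularity at P
the backward implication fails: the inclusion of the union of the two coordinate axes into the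
affine plane induces a bijection of tangent spaces at the origin and is not dominant. Without
reducedness of Y the forward implication fails: the reduced line inside the doubled line y² = 0 is
dominant but its differential is nowhere surjective. For Y integral and u quasi-compact, dominance
is the same as the scheme-theoretic image being Y.) -/
theorem result (k : Type u) [Field k]
    [IsAlgClosed k] [CharZero k] (X Y : Scheme.{u})
    [X.Over (Spec (CommRingCat.of k))] [Y.Over (Spec (CommRingCat.of k))]
    [LocallyOfFiniteType (X ↘ Spec (CommRingCat.of k))] [QuasiCompact (X ↘ Spec (CommRingCat.of k))]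
    [LocallyOfFiniteType (Y ↘ Spec (CommRingCat.of k))] [QuasiCompact (Y ↘ Spec (CommRingCat.of k))]
    [AlgebraicGeometry.IsReduced X] [AlgebraicGeometry.IsIntegral Y] (u : X ⟶ Y) [u.IsOver (Spec (CommRingCat.of k))] :
    IsDominant u ↔
      ∃ P : X, IsClosed ({P} : Set X) ∧ IsRegularLocalRing (X.presheaf.stalk P) ∧
        ∀ a ∈ IsLocalRing.maximalIdeal (Y.presheaf.stalk (u P)),
          (u.stalkMap P).hom a ∈ IsLocalRing.maximalIdeal (X.presheaf.stalk P) ^ 2 →
            a ∈ IsLocalRing.maximalIdeal (Y.presheaf.stalk (u P)) ^ 2 := by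
  constructor
  · intro h
    exact exists_point_of_dominant k X Y u
  · rintro ⟨P, hP, hreg, hcot⟩
    exact dominant_of_point k X Y u P hP hreg hcot

end Groth.Agent.S17413
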