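import Groth.Statements.S17414
import Mathlib
import Groth.Agent.Lib.Helper87.Prym5

set_option autoImplicit false
universe u
open Prym5

namespace Groth.Agent.S17414

/-- Over a perfect field K of characteristic different from 2 and 3, let G₂, G₃, G₄ be polynomials in x,
y, let h = G₂ z² + 2 G₃ z + G₄ in K[x, y, z] and D = G₃² − G₂ G₄ in K[x, y]. Suppose h ∈ (x, y, z) —
the origin Q lies on the surface h = 0 — and D ∈ (x, y) — the image of Q under (x, y, z) ↦ (x, y)
lies on the discriminant curve D = 0. Then D ∈ (x, y)², i.e. the image point is singular on the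
discriminant curve, if and only if either h ∈ (x, y, z)², i.e. Q is a singular point of the surface,
or G₂, G₃, G₄ ∈ (x, y), i.e. Q lies on all three cones G₂ = G₃ = G₄ = 0. (Affine-local form, in a
chart where the node projected from sits at infinity on the z-axis and Q at the origin, of the
published claim: for a point Q ≠ P of the nodal quartic whose projection lies on the branch sextic,
the projection is singular on the sextic exactly when Q is singular on the quartic or lies on the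
cones u₂ = u₃ = u₄ = 0.) -/
theorem result (K : Type u) [Field K] [PerfectField K]
    (h2 : (2 : K) ≠ 0) (h3 : (3 : K) ≠ 0) (G₂ G₃ G₄ : MvPolynomial (Fin 2) K)
    (hQ : MvPolynomial.rename (Fin.castSucc : Fin 2 → Fin 3) G₂ * MvPolynomial.X (2 : Fin 3) ^ 2
        + 2 * MvPolynomial.rename (Fin.castSucc : Fin 2 → Fin 3) G₃ * MvPolynomial.X (2 : Fin 3)
        + MvPolynomial.rename (Fin.castSucc : Fin 2 → Fin 3) G₄
        ∈ Ideal.span (Set.range (MvPolynomial.X : Fin 3 → MvPolynomial (Fin 3) K)))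
    (hD : G₃ ^ 2 - G₂ * G₄ ∈ Ideal.span (Set.range (MvPolynomial.X : Fin 2 → MvPolynomial (Fin 2) K))) :
    G₃ ^ 2 - G₂ * G₄ ∈ (Ideal.span (Set.range (MvPolynomial.X : Fin 2 → MvPolynomial (Fin 2) K))) ^ 2 ↔
      (MvPolynomial.rename (Fin.castSucc : Fin 2 → Fin 3) G₂ * MvPolynomial.X (2 : Fin 3) ^ 2
          + 2 * MvPolynomial.rename (Fin.castSucc : Fin 2 → Fin 3) G₃ * MvPolynomial.X (2 : Fin 3)
          + MvPolynomial.rename (Fin.castSucc : Fin 2 → Fin 3) G₄
          ∈ (Ideal.span (Set.range (MvPolynomial.X : Fin 3 → MvPolynomial (Fin 3) K))) ^ 2 ∨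
        (G₂ ∈ Ideal.span (Set.range (MvPolynomial.X : Fin 2 → MvPolynomial (Fin 2) K)) ∧
          G₃ ∈ Ideal.span (Set.range (MvPolynomial.X : Fin 2 → MvPolynomial (Fin 2) K)) ∧
          G₄ ∈ Ideal.span (Set.range (MvPolynomial.X : Fin 2 → MvPolynomial (Fin 2) K)))) := by
  have hQ' : Groth.Agent.Lib.Helper87.quad G₂ G₃ G₄ ∈ Groth.Agent.Lib.Helper87.mm (Fin 3) K := hQ
  -- `G₄ ∈ 𝔪`
  have h4 : G₄ ∈ Groth.Agent.Lib.Helper87.mm (Fin 2) K := by
    have := Groth.Agent.Lib.Helper87.psi_mem 1 _ (by simpa using hQ')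
    rw [Groth.Agent.Lib.Helper87.psi_quad] at this
    simpa using this
  have h4c : MvPolynomial.constantCoeff G₄ = 0 := (Groth.Agent.Lib.Helper87.mem_mm_iff _).1 h4
  -- `G₃ ∈ 𝔪`
  have h3c : MvPolynomial.constantCoeff G₃ = 0 := by
    have := (Groth.Agent.Lib.Helper87.mem_mm_iff _).1 hD
    simp only [map_sub, map_pow, map_mul, h4c, mul_zero, sub_zero] at this
    exact pow_eq_zero_iff (two_ne_zero) |>.1 this
  have h3m : G₃ ∈ Groth.Agent.Lib.Helper87.mm (Fin 2) K := (Groth.Agent.Lib.Helper87.mem_mm_iff _).2 h3c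
  have h3sq : G₃ ^ 2 ∈ Groth.Agent.Lib.Helper87.mm (Fin 2) K ^ 2 := by
    rw [sq G₃, sq]
    exact Ideal.mul_mem_mul h3m h3m
  constructor
  · intro hDsq
    have h24 : G₂ * G₄ ∈ Groth.Agent.Lib.Helper87.mm (Fin 2) K ^ 2 := by
      have := Ideal.sub_mem _ h3sq hDsq
      simpa using this
    by_cases ha : MvPolynomial.constantCoeff G₂ = 0
    · right
      exact ⟨(Groth.Agent.Lib.Helper87.mem_mm_iff _).2 ha, h3m, h4⟩
    · left
      have h2' : G₂ - MvPolynomial.C (MvPolynomial.constantCoeff G₂) ∈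
          Groth.Agent.Lib.Helper87.mm (Fin 2) K := Groth.Agent.Lib.Helper87.sub_C_mem_mm G₂
      have h5 : (G₂ - MvPolynomial.C (MvPolynomial.constantCoeff G₂)) * G₄ ∈
          Groth.Agent.Lib.Helper87.mm (Fin 2) K ^ 2 := by
        rw [sq]
        exact Ideal.mul_mem_mul h2' h4
      have h6 : MvPolynomial.C (MvPolynomial.constantCoeff G₂) * G₄ ∈
          Groth.Agent.Lib.Helper87.mm (Fin 2) K ^ 2 := by
        have := Ideal.sub_mem _ h24 h5
        have e : G₂ * G₄ - (G₂ - MvPolynomial.C (MvPolynomial.constantCoeff G₂)) * G₄ =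
            MvPolynomial.C (MvPolynomial.constantCoeff G₂) * G₄ := by ring
        rwa [e] at this
      have h7 : G₄ ∈ Groth.Agent.Lib.Helper87.mm (Fin 2) K ^ 2 := by
        have := Ideal.mul_mem_left _ (MvPolynomial.C (MvPolynomial.constantCoeff G₂)⁻¹) h6
        rwa [← mul_assoc, ← MvPolynomial.C_mul, inv_mul_cancel₀ ha, MvPolynomial.C_1, one_mul] at this
      exact Groth.Agent.Lib.Helper87.quad_mem_sq G₂ G₃ G₄ h7 h3m
  · rintro (hsq | ⟨hG2, -, -⟩)
    · obtain ⟨h4', h3'⟩ := Groth.Agent.Lib.Helper87.of_quad_mem_sq h2 G₂ G₃ G₄ hsq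
      exact Ideal.sub_mem _ h3sq (Ideal.mul_mem_left _ _ h4')
    · refine Ideal.sub_mem _ h3sq ?_
      rw [sq]
      exact Ideal.mul_mem_mul hG2 h4

end Groth.Agent.S17414
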