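import Groth.Statements.S17426
import Groth.Agent.Lib.Helper62.GGStage
-- import your own Groth.Agent.* helpers here

set_option autoImplicit false
set_option linter.style.haveILetI false
universe u
open CategoryTheory AlgebraicGeometry
open Lim

namespace Groth.Agent.S17426

/-- Let S = lim S_i be a cofiltered limit of schemes with affine transition morphisms, with S_{i₀} a
quasi-compact quasi-separated stage; let X₀ and Y₀ be schemes of finite presentation over S_{i₀}, f₀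
: X₀ → Y₀ an S_{i₀}-morphism and L₀ an invertible O_{X₀}-module. Let f : X → Y be the base change of
f₀ along S → S_{i₀} and L the pullback of L₀ to X (base changes are expressed by pullback squares).
Call an invertible module generated relative to a morphism when the counit of the
pullback–pushforward adjunction, f^*f_*L → L, is an epimorphism. If L is generated relative to f,
then there is an index j over i₀ such that for every index k over j and every base change f_k : X_k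
→ Y_k of f₀ along S_k → S_{i₀}, the pullback L_k of L₀ to X_k is generated relative to f_k. (Stated
for X₀, Y₀ of finite presentation over the quasi-compact quasi-separated stage, the setting in which
all the schemes involved are quasi-compact and quasi-separated; the semi-ample variant of the
source, some positive tensor power generated, is not restated.) -/
theorem result {I : Type u} [SmallCategory I] [IsCofiltered I]
    (D : I ⥤ Scheme.{u}) (c : Limits.Cone D) (hc : Limits.IsLimit c)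
    [∀ (i j : I) (u : i ⟶ j), IsAffineHom (D.map u)] (i₀ : I) [CompactSpace (D.obj i₀)] [QuasiSeparatedSpace (D.obj i₀)]
    {X₀ Y₀ : Scheme.{u}} (f₀ : X₀ ⟶ Y₀) (g₀ : Y₀ ⟶ D.obj i₀)
    [LocallyOfFinitePresentation g₀] [QuasiCompact g₀] [QuasiSeparated g₀]
    [LocallyOfFinitePresentation (f₀ ≫ g₀)] [QuasiCompact (f₀ ≫ g₀)] [QuasiSeparated (f₀ ≫ g₀)]
    (L₀ : X₀.Modules) (hL₀ : PicF.IsInvertible L₀)
    {X Y : Scheme.{u}} (f : X ⟶ Y) (g : Y ⟶ c.pt) (qY : Y ⟶ Y₀) (qX : X ⟶ X₀)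
    (hY : IsPullback qY g g₀ (c.π.app i₀)) (hX : IsPullback qX f f₀ qY)
    (hgen : Epi ((Scheme.Modules.pullbackPushforwardAdjunction f).counit.app ((Scheme.Modules.pullback qX).obj L₀))) :
    ∃ (j : I) (φ : j ⟶ i₀), ∀ (k : I) (ψ : k ⟶ j) (Xk Yk : Scheme.{u}) (fk : Xk ⟶ Yk) (gk : Yk ⟶ D.obj k)
      (pY : Yk ⟶ Y₀) (pX : Xk ⟶ X₀), IsPullback pY gk g₀ (D.map (ψ ≫ φ)) → IsPullback pX fk f₀ pY →
        Epi ((Scheme.Modules.pullbackPushforwardAdjunction fk).counit.app ((Scheme.Modules.pullback pX).obj L₀)) := by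
  classical
  -- basic instances
  haveI : CompactSpace Y₀ := QuasiCompact.compactSpace_of_compactSpace g₀
  haveI : QuasiSeparatedSpace X₀ := quasiSeparatedSpace_of_quasiSeparated (f₀ ≫ g₀)
  haveI : QuasiCompact f₀ := QuasiCompact.of_comp f₀ g₀
  haveI : QuasiSeparated f₀ := QuasiSeparated.of_comp f₀ g₀
  haveI : QuasiCompact f := MorphismProperty.of_isPullback (P := @QuasiCompact) hX inferInstance
  haveI : QuasiSeparated f := MorphismProperty.of_isPullback (P := @QuasiSeparated) hX inferInstance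
  haveI : IsAffineHom qY := MorphismProperty.of_isPullback (P := @IsAffineHom) hY.flip
    (isAffineHom_π_app D c hc i₀)
  set L := (Scheme.Modules.pullback qX).obj L₀ with hLdef
  have hLinv : PicF.IsInvertible L :=
    Groth.Agent.Lib.Helper11.PullbackTensor.isInvertible_pullback _ hL₀
  haveI : L.IsQuasicoherent := Groth.Agent.Lib.Helper45.isQuasicoherent_of_isInvertible hLinv
  have hbig : IsPullback qX (f ≫ g) (f₀ ≫ g₀) (c.π.app i₀) := hX.paste_vert hY
  -- the stage attached to an affine open of `Y₀`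
  have key : ∀ V₀ : Y₀.Opens, IsAffineOpen V₀ →
      ∃ j : Over i₀, ∀ (k : Over i₀) (_ : k ⟶ j) {Zk : Scheme.{u}} (p : Zk ⟶ ↑(f₀ ⁻¹ᵁ V₀))
        (rk : Zk ⟶ D.obj k.left), p ≫ ((f₀ ⁻¹ᵁ V₀).ι ≫ f₀ ≫ g₀) = rk ≫ D.map k.hom →
          Curv2.IsGloballyGenerated
            ((Scheme.Modules.pullback p).obj (L₀.restrict (f₀ ⁻¹ᵁ V₀).ι)) := by
    intro V₀ hV₀
    set U₀ := f₀ ⁻¹ᵁ V₀ with hU₀
    have hV : IsAffineOpen (qY ⁻¹ᵁ V₀) := hV₀.preimage qY
    have h1 := Groth.Agent.Lib.Helper11.CounitEpi.isGloballyGenerated_restrict_of_epi_counit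
      f L hgen (qY ⁻¹ᵁ V₀) hV
    have hopen : f ⁻¹ᵁ (qY ⁻¹ᵁ V₀) = qX ⁻¹ᵁ U₀ := by
      rw [hU₀, ← Scheme.Hom.comp_preimage, ← Scheme.Hom.comp_preimage, hX.w]
    rw [hopen] at h1
    have h2 : Curv2.IsGloballyGenerated
        ((Scheme.Modules.pullback (qX ∣_ U₀)).obj (L₀.restrict U₀.ι)) :=
      Groth.Agent.Lib.Helper11.CounitEpi.IsGloballyGenerated.of_iso
        (Groth.Agent.Lib.Helper11.CounitEpi.pullbackRestrictIso qX U₀ L₀) h1
    haveI : CompactSpace ↑U₀ :=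
      isCompact_iff_compactSpace.mp (QuasiCompact.isCompact_preimage (f := f₀) V₀ V₀.2
        hV₀.isCompact)
    haveI : QuasiSeparatedSpace ↑U₀ := U₀.ι.isOpenEmbedding.quasiSeparatedSpace
    have hsq : IsPullback (qX ∣_ U₀) ((qX ⁻¹ᵁ U₀).ι ≫ f ≫ g) (U₀.ι ≫ f₀ ≫ g₀) (c.π.app i₀) :=
      (isPullback_morphismRestrict qX U₀).paste_vert hbig
    exact Groth.Agent.Lib.Helper62.GGStage.exists_stage_forall D c i₀ (U₀.ι ≫ f₀ ≫ g₀) hc
      (L₀.restrict U₀.ι) (Groth.Agent.Lib.Helper11.GenLocus.isInvertible_restrict hL₀ U₀)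
      (qX ∣_ U₀) ((qX ⁻¹ᵁ U₀).ι ≫ f ≫ g) hsq h2
  -- a finite affine cover of `Y₀`
  have hcov : ∀ y : Y₀, ∃ V₀ : Y₀.Opens, IsAffineOpen V₀ ∧ y ∈ V₀ := by
    intro y
    obtain ⟨_, ⟨V, hV, rfl⟩, hyV, -⟩ :=
      Y₀.isBasis_affineOpens.exists_subset_of_mem_open (Set.mem_univ y) isOpen_univ
    exact ⟨V, hV, hyV⟩
  choose V₀ hV₀ hyV₀ using hcov
  obtain ⟨t, ht⟩ := isCompact_univ.elim_finite_subcover (fun y => ((V₀ y : Y₀.Opens) : Set Y₀))
    (fun y => (V₀ y).isOpen) (fun y _ => Set.mem_iUnion.mpr ⟨y, hyV₀ y⟩)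
  choose js hjs using fun y => key (V₀ y) (hV₀ y)
  obtain ⟨j, hj⟩ := IsCofiltered.inf_objs_exists (t.image js)
  refine ⟨j.left, j.hom, ?_⟩
  intro k ψ Xk Yk fk gk pY pX sqY sqX
  apply Groth.Agent.Lib.Helper62.GGStage.epi_counit_of_locally_isGloballyGenerated
  intro x
  have hx := ht (Set.mem_univ (pY.base (fk.base x)))
  simp only [Set.mem_iUnion] at hx
  obtain ⟨y, hyt, hxy⟩ := hx
  refine ⟨pY ⁻¹ᵁ V₀ y, hxy, ?_⟩
  set U₀ := f₀ ⁻¹ᵁ V₀ y with hU₀
  have hopen : fk ⁻¹ᵁ (pY ⁻¹ᵁ V₀ y) = pX ⁻¹ᵁ U₀ := by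
    rw [hU₀, ← Scheme.Hom.comp_preimage, ← Scheme.Hom.comp_preimage, sqX.w]
  rw [hopen]
  refine Groth.Agent.Lib.Helper11.CounitEpi.IsGloballyGenerated.of_iso
    (Groth.Agent.Lib.Helper11.CounitEpi.pullbackRestrictIso pX U₀ L₀).symm ?_
  obtain ⟨θ⟩ := hj (Finset.mem_image_of_mem js hyt)
  let k' : Over i₀ := Over.mk (ψ ≫ j.hom)
  let ψ' : k' ⟶ js y := Over.homMk (ψ ≫ θ.left) (by
    change (ψ ≫ θ.left) ≫ (js y).hom = ψ ≫ j.hom
    rw [Category.assoc, Over.w θ])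
  refine hjs y k' ψ' (pX ∣_ U₀) ((pX ⁻¹ᵁ U₀).ι ≫ fk ≫ gk) ?_
  change (pX ∣_ U₀) ≫ (U₀.ι ≫ f₀ ≫ g₀) = ((pX ⁻¹ᵁ U₀).ι ≫ fk ≫ gk) ≫ D.map (ψ ≫ j.hom)
  rw [← Category.assoc, morphismRestrict_ι, Category.assoc, Category.assoc, Category.assoc,
    ← sqY.w, ← Category.assoc pX, sqX.w, Category.assoc]

end Groth.Agent.S17426
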