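import Groth.Statements.S1743
import Groth.Agent.Lib.Helper60.LocalCohAdditive
open Groth.Agent.Lib.Helper60

set_option autoImplicit false
universe u
open LocCoh

namespace Groth.Agent.S1743

/-- Let A be a Noetherian ring, J ⊆ I ideals and i ≥ 0. If H^i_I(A) is annihilated by J^n for some n,
then for every finite A-module M such that M_f is a projective A_f-module for every f in I, the
module H^i_I(M) is annihilated by J^m for some m. (The source allows any ring with finitely
generated ideals and finitely presented M.) -/
theorem result (A : Type u) [CommRing A] [IsNoetherianRing A] (J I : Ideal A) (hJI : J ≤ I) (i n : ℕ) (hA : ∀ a ∈ J ^ n, ∀ x : LocCoh.H I i A, a • x = 0) (M : Type u) [AddCommGroup M] [Module A M] [Module.Finite A M] (hM : ∀ f ∈ I, Module.Projective (Localization.Away f) (LocalizedModule (Submonoid.powers f) M)) : ∃ m : ℕ, ∀ a ∈ J ^ m, ∀ x : LocCoh.H I i M, a • x = 0 := by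
  have hrad : J ≤ (Module.annihilator A (LocCoh.H I i M)).radical := by
    intro f hf
    have := hM f (hJI hf)
    obtain ⟨t, α, β, N, hβα⟩ := exists_factor_through_free_of_projective_away M f
    refine ⟨n + N, ?_⟩
    rw [Module.mem_annihilator]
    intro y
    rw [pow_add]
    exact lc_smul_eq_zero_of_factor I i t α β (f ^ N) hβα (f ^ n)
      (hA _ (Ideal.pow_mem_pow hf n)) y
  obtain ⟨m, hm⟩ := Ideal.exists_pow_le_of_le_radical_of_fg hrad (IsNoetherian.noetherian J)
  exact ⟨m, fun a ha x => Module.mem_annihilator.mp (hm ha) x⟩

end Groth.Agent.S1743
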