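import Groth.Statements.S17435
import Mathlib
import Groth.Agent.Lib.Helper61.DefoExt
import Groth.Agent.Lib.Helper69.ExtIso
import Groth.Agent.Lib.Helper6.Blend

set_option autoImplicit false
set_option linter.style.haveILetI false
set_option linter.unusedSectionVars false
universe u
open CategoryTheory AlgebraicGeometry
open DefoSh

namespace Groth.Agent.S17435

open Groth.Agent.Lib.Helper61.DefoExt CategoryTheory.Abelian CategoryTheory.Limits

section Helpers

variable {k : Type u} [Field k] {X : Scheme.{u}} [X.Over (Spec (CommRingCat.of k))]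
  {E : X.Modules} [HasExt.{u} X.Modules]

/-- the extension class of a first-order deformation -/
noncomputable def cls (D : DefoSh.Defo E (ArtFun.Art.dual k k)) : Abelian.Ext E E 1 :=
  (shortExact D).extClass

theorem cls_eq (D : DefoSh.Defo E (ArtFun.Art.dual k k)) (i : E ⟶ D.sheaf)
    (hi : D.π ≫ i = D.act (DualNumber.eps : DualNumber k)) (h0 : i ≫ D.π = 0)
    (hS : (ShortComplex.mk i D.π h0).ShortExact) : cls D = hS.extClass := by
  have h : i = iota D := iota_unique D i hi
  subst h
  rfl

theorem iota_comp_iso {D D' : DefoSh.Defo E (ArtFun.Art.dual k k)} (e : DefoSh.Defo.Iso D D') :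
    iota D ≫ e.iso.hom = iota D' := by
  haveI := epi_π D
  rw [← cancel_epi D.π, ← Category.assoc, π_iota, ← e.hom_π, Category.assoc, π_iota]
  exact e.act_hom (epsA k)

theorem cls_iso {D D' : DefoSh.Defo E (ArtFun.Art.dual k k)} (e : DefoSh.Defo.Iso D D') :
    cls D = cls D' := by
  let φ : ShortComplex.mk (iota D) D.π (iota_π D) ⟶ ShortComplex.mk (iota D') D'.π (iota_π D') :=
    { τ₁ := 𝟙 E
      τ₂ := e.iso.hom
      τ₃ := 𝟙 E
      comm₁₂ := by
        change 𝟙 E ≫ iota D' = iota D ≫ e.iso.hom
        rw [Category.id_comp, iota_comp_iso]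
      comm₂₃ := by
        change e.iso.hom ≫ D'.π = D.π ≫ 𝟙 E
        rw [Category.comp_id, e.hom_π] }
  have h := ShortComplex.ShortExact.extClass_naturality (shortExact D) (shortExact D') φ
  change (cls D).comp (Ext.mk₀ (𝟙 E)) (add_zero 1) = (Ext.mk₀ (𝟙 E)).comp (cls D') (zero_add 1) at h
  rw [Ext.mk₀_id_comp, Ext.comp_mk₀_id] at h
  exact h

/-- an isomorphism of extensions gives an isomorphism of deformations -/
theorem iso_of_cls_eq {D D' : DefoSh.Defo E (ArtFun.Art.dual k k)} (h : cls D = cls D') :
    Nonempty (DefoSh.Defo.Iso D D') := by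
  obtain ⟨e, he, he₁, he₂⟩ := Groth.Agent.Lib.Helper69.ExtIso.exists_iso_of_extClass_eq
    (iota D) D.π (iota_π D) (iota D') D'.π (iota_π D') (shortExact D) (shortExact D') h
  haveI := he
  have hε : epsEnd D ≫ e = e ≫ epsEnd D' := by
    rw [← π_iota, ← π_iota, Category.assoc, he₁, ← Category.assoc, he₂]
  refine ⟨⟨asIso e, fun a => ?_, he₂⟩⟩
  rw [asIso_hom, act_eq D a, act_eq D' a, Preadditive.add_comp, Preadditive.comp_add,
    Linear.smul_comp, Linear.smul_comp, Linear.comp_smul, Linear.comp_smul, Category.id_comp,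
    Category.comp_id, hε]

omit [Field k] [X.Over (Spec (CommRingCat.of k))] in
theorem extClass_eq_zero_of_retraction {S : ShortComplex X.Modules} (hS : S.ShortExact)
    (r : S.X₂ ⟶ S.X₁) (hr : S.f ≫ r = 𝟙 _) : hS.extClass = 0 := by
  have h1 := hS.extClass_comp
  have h2 : (hS.extClass.comp (Ext.mk₀ S.f) (add_zero 1)).comp (Ext.mk₀ r) (add_zero 1) = 0 := by
    rw [h1, Ext.zero_comp]
  rw [Ext.comp_assoc_of_third_deg_zero, Ext.mk₀_comp_mk₀, hr, Ext.comp_mk₀_id] at h2
  exact h2

theorem cls_trivDual : cls (DefoSh.Defo.trivDual k E) = 0 := by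
  have hi : iota (DefoSh.Defo.trivDual k E) = (biprod.inr : E ⟶ E ⊞ E) :=
    (iota_unique (DefoSh.Defo.trivDual k E) biprod.inr (DefoSh.dualAct_eps E).symm).symm
  refine extClass_eq_zero_of_retraction (shortExact (DefoSh.Defo.trivDual k E))
    (biprod.snd : E ⊞ E ⟶ E) ?_
  change iota (DefoSh.Defo.trivDual k E) ≫ (biprod.snd : E ⊞ E ⟶ E) = 𝟙 E
  rw [hi]
  exact biprod.inr_snd

end Helpers

/-- Let k be a field, X a locally Noetherian scheme over k and E a coherent O_X-module. There is a
bijection e between the isomorphism classes of deformations of E over the dual numbers k[ε]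
(O_X-modules with a k[ε]-action, flat stalkwise, with reduction identified with E) and Ext¹(E, E)
such that, for every such deformation D with reduction π : D.sheaf → E and for the map i : E →
D.sheaf with π ≫ i = ε (multiplication by ε), e sends the class of D to the extension class of the
short exact sequence 0 → E → D.sheaf → E → 0 formed by i and π; and e sends the class of the trivial
deformation E ⊕ εE to 0. The published statement takes X to be any scheme over k; this row assumes X
locally Noetherian, so that coherent means quasi-coherent of finite type. -/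
theorem result (k : Type u) [Field k] (X : Scheme.{u})
    [X.Over (Spec (CommRingCat.of k))] [IsLocallyNoetherian X] (E : X.Modules) (hE : Coh.IsCoh E)
    [HasExt.{u} X.Modules] :
    ∃ e : DefoSh.FirstOrder k E ≃ Abelian.Ext E E 1,
      e (DefoSh.Defo.trivDual k E).cl = 0 ∧
      ∀ (D : DefoSh.Defo E (ArtFun.Art.dual k k)) (i : E ⟶ D.sheaf)
        (hi : D.π ≫ i = D.act (DualNumber.eps : DualNumber k))
        (h0 : i ≫ D.π = 0) (hS : (ShortComplex.mk i D.π h0).ShortExact),
        e D.cl = hS.extClass := by
  classical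
  let f : DefoSh.FirstOrder k E → Abelian.Ext E E 1 :=
    Quotient.lift (s := DefoSh.Defo.setoid E (ArtFun.Art.dual k k)) (fun D => cls D)
      (fun D D' h => by
        obtain ⟨e⟩ := h
        exact cls_iso e)
  have hf : ∀ D : DefoSh.Defo E (ArtFun.Art.dual k k), f D.cl = cls D := fun D => rfl
  have hinj : Function.Injective f := by
    intro a b hab
    induction a using Quotient.inductionOn with
    | h D =>
      induction b using Quotient.inductionOn with
      | h D' =>
        apply Quotient.sound
        exact iso_of_cls_eq hab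
  have hsurj : Function.Surjective f := by
    intro x
    obtain ⟨F, i, π, w, hS, hx⟩ := Groth.Agent.Lib.Helper6.Blend.exists_shortExact_extClass_eq x
    refine ⟨(ofExt k i π w hS).cl, ?_⟩
    rw [hf, ← hx]
    exact cls_eq (ofExt k i π w hS) i (extAct_eps k i π w).symm w hS
  have hbij : Function.Bijective f := ⟨hinj, hsurj⟩
  refine ⟨Equiv.ofBijective f hbij, ?_, ?_⟩
  · show f (DefoSh.Defo.trivDual k E).cl = 0
    rw [hf]
    exact cls_trivDual
  · intro D i hi h0 hS
    show f D.cl = hS.extClass
    rw [hf]
    exact cls_eq D i hi h0 hS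

end Groth.Agent.S17435
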