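import Groth.Statements.S1744
import Groth.Agent.Lib.Helper60.UnivExt
open Groth.Agent.Lib.Helper60

set_option autoImplicit false
universe u
open CategoryTheory
attribute [local instance] HasDerivedCategory.standard
open LocCoh

namespace Groth.Agent.S1744

/-- Let I be an ideal of a Noetherian ring A and e a natural number with cd(A, I) ≤ e. For every n ≥ 1
there is m > n such that for every A-module N and every i > e, precomposing with A/I^m → A/I^n kills
every map A/I^n → N[i] in D(A), i.e. the transition maps annihilate Ext^i_A(A/I^n, N) for i > e. -/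
theorem result (A : Type u) [CommRing A] [IsNoetherianRing A] (I : Ideal A) (e : ℕ) (he : LocCoh.CdLE A I e) (n : ℕ) (hn : 1 ≤ n) : ∃ (m : ℕ) (hm : n < m), ∀ (N : Type u) [AddCommGroup N] [Module A N] (i : ℕ), e < i → ∀ φ : Dual.inD A (A ⧸ I ^ n) ⟶ (Dual.inD A N)⟦(i : ℤ)⟧, (DerivedCategory.singleFunctor (ModuleCat.{u} A) 0).map (ModuleCat.ofHom (Submodule.mapQ (I ^ m) (I ^ n) LinearMap.id (Ideal.pow_le_pow_right (Nat.le_of_lt hm)))) ≫ φ = 0 := by
  obtain ⟨Y, Ξ, hΞ⟩ := exists_universal_ext (e + 1) (quotPow I n)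
  have hsub : Subsingleton ((localCohomology I (e + 1)).obj Y) := he Y (e + 1) (Nat.lt_succ_self e)
  obtain ⟨k, hk, hres⟩ := (lcMk_eq_zero_iff I (e + 1) Y Ξ).mp (Subsingleton.elim _ _)
  refine ⟨k + 1, by omega, ?_⟩
  intro N _ _ i hi φ
  have hres' : lcRes I (hk.trans (Nat.le_succ k)) Ξ = 0 :=
    lcRes_eq_zero_of_le I hk (Nat.le_succ k) Ξ hres
  obtain ⟨α, rfl⟩ : ∃ α : Abelian.Ext (quotPow I n) (ModuleCat.of A N) i, α.hom = φ :=
    ⟨Abelian.Ext.homEquiv.symm φ, Equiv.apply_symm_apply _ _⟩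
  obtain ⟨β, rfl⟩ := hΞ (ModuleCat.of A N) (i - (e + 1)) i (by omega) α
  have key : (Abelian.Ext.mk₀ (quotPowMap I (hk.trans (Nat.le_succ k)))).comp
      (Ξ.comp β (show e + 1 + (i - (e + 1)) = i by omega)) (zero_add i) = 0 := by
    rw [← Abelian.Ext.comp_assoc _ _ _ (zero_add (e + 1)) (show e + 1 + (i - (e + 1)) = i by omega)
      (show 0 + (e + 1) + (i - (e + 1)) = i by omega)]
    have : (Abelian.Ext.mk₀ (quotPowMap I (hk.trans (Nat.le_succ k)))).comp Ξ (zero_add (e + 1)) = 0 :=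
      hres'
    rw [this, Abelian.Ext.zero_comp]
  have h2 := Abelian.Ext.singleFunctor_map_comp_hom (quotPowMap I (hk.trans (Nat.le_succ k)))
    (Ξ.comp β (show e + 1 + (i - (e + 1)) = i by omega))
  rw [key, Abelian.Ext.zero_hom] at h2
  exact h2

end Groth.Agent.S1744
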