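import Groth.Statements.S17441
-- import your own Groth.Agent.* helpers here
import Mathlib
import Groth.Agent.Lib.Helper58.FlatNilpIso
import Groth.Agent.Lib.Helper49.StalkNbhd

set_option autoImplicit false
universe u
open CategoryTheory AlgebraicGeometry
open DefoSh

namespace Groth.Agent.S17441

/-- Let k be a field, X a scheme over k, E an O_X-module and A a local Artinian k-algebra with residue
field k. If D and D′ are deformations of E over A (O_X-modules with an action of A, flat over A
stalkwise, with reductions π, π′ to E whose stalkwise kernels are m_A times the stalk), then every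
O_X-linear map φ : D.sheaf → D′.sheaf that commutes with the actions of A and satisfies φ ≫ π′ = π
is an isomorphism. The printed remark is the first-order case A = k[ε]; this row states it for every
local Artinian k-algebra A with residue field k. -/
theorem result (k : Type u) [Field k] (X : Scheme.{u})
    [X.Over (Spec (CommRingCat.of k))] (E : X.Modules) (A : ArtFun.Art k k)
    (D D' : DefoSh.Defo E A) (φ : D.sheaf ⟶ D'.sheaf)
    (hact : ∀ a : A, D.act a ≫ φ = φ ≫ D'.act a) (hπ : φ ≫ D'.π = D.π) :
    IsIso φ := by
  classical
  apply Groth.Agent.Lib.Helper49.isIso_of_stalkMap_bijective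
  intro p
  letI iM : Module A ↑(D.sheaf.presheaf.stalk p) := D.stalkMod p
  letI iN : Module A ↑(D'.sheaf.presheaf.stalk p) := D'.stalkMod p
  haveI : Module.Flat A ↑(D'.sheaf.presheaf.stalk p) := D'.flat p
  -- the stalk map as an `A`-linear map
  let f : ↑(D.sheaf.presheaf.stalk p) →ₗ[A] ↑(D'.sheaf.presheaf.stalk p) :=
    { toFun := RefHull.stalkMapₗ φ p
      map_add' := map_add _
      map_smul' := fun a v => by
        change RefHull.stalkMapₗ φ p (RefHull.stalkMapₗ (D.act a) p v) =
          RefHull.stalkMapₗ (D'.act a) p (RefHull.stalkMapₗ φ p v)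
        rw [← DefoSh.stalkMapₗ_comp_apply, ← DefoSh.stalkMapₗ_comp_apply, hact a] }
  have hfπ : ∀ v, RefHull.stalkMapₗ D'.π p (f v) = RefHull.stalkMapₗ D.π p v := by
    intro v
    change RefHull.stalkMapₗ D'.π p (RefHull.stalkMapₗ φ p v) = _
    rw [← DefoSh.stalkMapₗ_comp_apply, hπ]
  have hnil : IsNilpotent (IsLocalRing.maximalIdeal A) :=
    (isArtinianRing_iff_isNilpotent_maximalIdeal A).1 inferInstance
  have hbij : Function.Bijective f := by
    apply Groth.Agent.Lib.Helper58.FlatNilpIso.bijective_of_flat (IsLocalRing.maximalIdeal A) hnil f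
    · intro n
      obtain ⟨m, hm⟩ := D.surj p (RefHull.stalkMapₗ D'.π p n)
      refine ⟨m, ?_⟩
      apply D'.ker_le p
      rw [map_sub, hfπ, hm, sub_self]
    · intro m hm
      apply D.ker_le p
      rw [← hfπ, hm, map_zero]
  exact hbij

end Groth.Agent.S17441
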