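import Groth.Statements.S17444
import Mathlib

set_option autoImplicit false
universe u v
open SSRed

namespace Groth.Agent.S17444

/-- Let K be a field of characteristic zero, V a K-vector space and g a K-linear endomorphism of V such
that g - 1 is nilpotent (a unipotent automorphism). Then for every integer n > 0 the endomorphisms
gⁿ - 1 and g - 1 have the same kernel: a vector fixed by gⁿ is fixed by g. (The published statement
assumes V finite-dimensional; this row allows any V.) -/
theorem result (K : Type u) (V : Type v) [Field K] [CharZero K]
    [AddCommGroup V] [Module K V] (g : Module.End K V) (hg : IsNilpotent (g - 1)) (n : ℕ) (hn : 0 < n) :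
    LinearMap.ker (g ^ n - 1) = LinearMap.ker (g - 1) := by
  obtain ⟨m, hm⟩ := hg
  set q : Polynomial K := ∑ i ∈ Finset.range n, Polynomial.X ^ i with hq
  have h1 : q * (Polynomial.X - 1) = Polynomial.X ^ n - 1 := geom_sum_mul _ _
  have hq1 : q.eval 1 = n := by simp [hq, Polynomial.eval_finsetSum]
  have hcop : IsCoprime q ((Polynomial.X - Polynomial.C 1) ^ m) := by
    apply IsCoprime.pow_right
    apply IsCoprime.symm
    rw [(Polynomial.irreducible_X_sub_C 1).coprime_iff_not_dvd, Polynomial.dvd_iff_isRoot]
    simp only [Polynomial.IsRoot.def, hq1]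
    exact_mod_cast hn.ne'
  obtain ⟨a, b, hab⟩ := hcop
  have h2 := congrArg (Polynomial.aeval g) hab
  have h3 := congrArg (Polynomial.aeval g) h1
  simp only [map_add, map_mul, map_pow, map_sub, Polynomial.aeval_X, map_one, hm, mul_zero, add_zero] at h2 h3
  ext v
  simp only [LinearMap.mem_ker]
  constructor
  · intro hv
    rw [← h3] at hv
    have : (Polynomial.aeval g a * Polynomial.aeval g q) ((g - 1) v) = 0 := by
      rw [Module.End.mul_apply]
      rw [Module.End.mul_apply] at hv
      rw [hv, map_zero]
    rwa [h2] at this
  · intro hv
    rw [← h3, Module.End.mul_apply, hv, map_zero]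

end Groth.Agent.S17444
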