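import Groth.Statements.S17446
import Mathlib

set_option autoImplicit false
universe u v
open SSRed

namespace Groth.Agent.S17446

variable {K : Type u} {V : Type v} [Field K] [AddCommGroup V] [Module K V]

/-- the endomorphism `g - 1` -/
noncomputable abbrev em (g : V ≃ₗ[K] V) : Module.End K V := ((g : V ≃ₗ[K] V) : Module.End K V) - 1

lemma em_apply (g : V ≃ₗ[K] V) (v : V) : em g v = g v - v := by
  simp [em]

/-- `D H W` is the span of the `(h - 1) w`, `h ∈ H`, `w ∈ W`. -/
noncomputable def D (H : Subgroup (V ≃ₗ[K] V)) (W : Submodule K V) : Submodule K V :=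
  ⨆ h : H, W.map (em (h : V ≃ₗ[K] V))

lemma mem_D {H : Subgroup (V ≃ₗ[K] V)} {W : Submodule K V} {h : V ≃ₗ[K] V} (hh : h ∈ H) {w : V}
    (hw : w ∈ W) : em h w ∈ D H W :=
  (le_iSup (fun h : H => W.map (em (h : V ≃ₗ[K] V))) ⟨h, hh⟩) (Submodule.mem_map_of_mem hw)

lemma D_le_iff {H : Subgroup (V ≃ₗ[K] V)} {W U : Submodule K V} :
    D H W ≤ U ↔ ∀ h ∈ H, ∀ w ∈ W, em h w ∈ U := by
  unfold D
  rw [iSup_le_iff]
  constructor
  · intro hle h hh w hw
    exact hle ⟨h, hh⟩ (Submodule.mem_map_of_mem hw)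
  · rintro hall ⟨h, hh⟩ _ ⟨w, hw, rfl⟩
    exact hall h hh w hw

lemma D_mono (H : Subgroup (V ≃ₗ[K] V)) : Monotone (D (K := K) (V := V) H) := by
  intro W W' hWW'
  rw [D_le_iff]
  intro h hh w hw
  exact mem_D hh (hWW' hw)

lemma D_sup (H : Subgroup (V ≃ₗ[K] V)) (W W' : Submodule K V) :
    D H (W ⊔ W') = D H W ⊔ D H W' := by
  apply le_antisymm
  · rw [D_le_iff]
    intro h hh w hw
    obtain ⟨a, ha, b, hb, rfl⟩ := Submodule.mem_sup.1 hw
    rw [map_add]
    exact Submodule.add_mem _ (Submodule.mem_sup_left (mem_D hh ha))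
      (Submodule.mem_sup_right (mem_D hh hb))
  · exact sup_le (D_mono H le_sup_left) (D_mono H le_sup_right)

lemma D_iterate_mono (H : Subgroup (V ≃ₗ[K] V)) (j : ℕ) :
    Monotone ((D (K := K) (V := V) H)^[j]) :=
  (D_mono H).iterate j

/-- if all `n`-fold products of the `h - 1` vanish then the `n`-th iterate of `D H` kills `⊤`. -/
lemma D_iterate_top_eq_bot (H : Subgroup (V ≃ₗ[K] V)) (n : ℕ)
    (hn : ∀ f : Fin n → ↥H,
      (List.ofFn fun i => (((f i : ↥H) : V ≃ₗ[K] V) : Module.End K V) - 1).prod = 0) :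
    (D H)^[n] ⊤ = ⊥ := by
  have key : ∀ (j : ℕ) (a : Module.End K V),
      (∀ f : Fin j → ↥H,
        a * (List.ofFn fun i => (((f i : ↥H) : V ≃ₗ[K] V) : Module.End K V) - 1).prod = 0) →
      ∀ y ∈ (D H)^[j] ⊤, a y = 0 := by
    intro j
    induction j with
    | zero =>
      intro a ha y _
      have := ha Fin.elim0
      simp only [List.ofFn_zero, List.prod_nil, mul_one] at this
      rw [this, LinearMap.zero_apply]
    | succ j ih =>
      intro a ha y hy
      rw [Function.iterate_succ_apply'] at hy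
      have hle : D H ((D H)^[j] ⊤) ≤ LinearMap.ker a := by
        rw [D_le_iff]
        intro h hh w hw
        rw [LinearMap.mem_ker, ← Module.End.mul_apply]
        apply ih (a * em h) _ w hw
        intro f
        have := ha (Fin.cons ⟨h, hh⟩ f)
        rw [List.ofFn_succ, List.prod_cons] at this
        simp only [Fin.cons_zero, Fin.cons_succ] at this
        rw [mul_assoc]
        exact this
      exact hle hy
  rw [eq_bot_iff]
  intro y hy
  have := key n 1 (by simpa using hn) y hy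
  simpa using this

theorem result (K : Type u) (V : Type v) [Field K]
    [AddCommGroup V] [Module K V] [FiniteDimensional K V]
    (H₁ H₂ : Subgroup (V ≃ₗ[K] V)) (hnorm : ∀ g ∈ H₂, ∀ h ∈ H₁, g * h * g⁻¹ ∈ H₁)
    (h₁ : ∃ n : ℕ, ∀ f : Fin n → ↥H₁,
      (List.ofFn fun i => (((f i : ↥H₁) : V ≃ₗ[K] V) : Module.End K V) - 1).prod = 0)
    (h₂ : ∃ n : ℕ, ∀ f : Fin n → ↥H₂,
      (List.ofFn fun i => (((f i : ↥H₂) : V ≃ₗ[K] V) : Module.End K V) - 1).prod = 0) :
    ∃ n : ℕ, ∀ f : Fin n → ↥(H₁ ⊔ H₂),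
      (List.ofFn fun i => (((f i : ↥(H₁ ⊔ H₂)) : V ≃ₗ[K] V) : Module.End K V) - 1).prod = 0 := by
  classical
  obtain ⟨n₁, hn₁⟩ := h₁
  obtain ⟨n₂, hn₂⟩ := h₂
  have hD₁ : (D H₁)^[n₁] (⊤ : Submodule K V) = ⊥ := D_iterate_top_eq_bot H₁ n₁ hn₁
  have hD₂ : (D H₂)^[n₂] (⊤ : Submodule K V) = ⊥ := D_iterate_top_eq_bot H₂ n₂ hn₂
  -- stability
  let Stab : Submodule K V → Prop := fun W =>
    (∀ g ∈ H₁, ∀ w ∈ W, g w ∈ W) ∧ (∀ g ∈ H₂, ∀ w ∈ W, g w ∈ W)
  let F : Submodule K V → Submodule K V := fun W => D H₁ W ⊔ D H₂ W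
  -- `(g - 1) w ∈ F W` for `g` in `H₁` or `H₂`
  have hF1 : ∀ W, ∀ g ∈ H₁, ∀ w ∈ W, em g w ∈ F W :=
    fun W g hg w hw => Submodule.mem_sup_left (mem_D hg hw)
  have hF2 : ∀ W, ∀ g ∈ H₂, ∀ w ∈ W, em g w ∈ F W :=
    fun W g hg w hw => Submodule.mem_sup_right (mem_D hg hw)
  -- `F W ≤ W` for stable `W`
  have hFle : ∀ W, Stab W → F W ≤ W := by
    intro W hW
    refine sup_le ?_ ?_
    · rw [D_le_iff]
      intro h hh w hw
      rw [em_apply]
      exact W.sub_mem (hW.1 h hh w hw) hw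
    · rw [D_le_iff]
      intro h hh w hw
      rw [em_apply]
      exact W.sub_mem (hW.2 h hh w hw) hw
  -- `F W` is stable for stable `W`
  have hFstab : ∀ W, Stab W → Stab (F W) := by
    intro W hW
    have hFW := hFle W hW
    -- general: if `(g - 1) x ∈ F W` for all `x ∈ W`, then `g` preserves `F W`
    have gen : ∀ g : V ≃ₗ[K] V, (∀ x ∈ W, em g x ∈ F W) → ∀ x ∈ F W, g x ∈ F W := by
      intro g hg x hx
      have : g x = x + em g x := by rw [em_apply]; abel
      rw [this]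
      exact (F W).add_mem hx (hg x (hFW hx))
    exact ⟨fun g hg => gen g (hF1 W g hg), fun g hg => gen g (hF2 W g hg)⟩
  -- `D H₁ W` is `H₂`-stable (normalisation)
  have hnormD : ∀ W, Stab W → ∀ g ∈ H₂, ∀ x ∈ D H₁ W, g x ∈ D H₁ W := by
    intro W hW g hg x hx
    have hle : D H₁ W ≤ (D H₁ W).comap (g : V ≃ₗ[K] V).toLinearMap := by
      rw [D_le_iff]
      intro h hh w hw
      rw [Submodule.mem_comap]
      have hconj : g * h * g⁻¹ ∈ H₁ := hnorm g hg h hh
      have := mem_D (W := W) hconj (hW.2 g hg w hw)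
      have e : em (g * h * g⁻¹) (g w) = g (em h w) := by
        have hgw : g⁻¹ (g w) = w := LinearEquiv.symm_apply_apply g w
        simp only [em_apply, LinearEquiv.mul_apply, map_sub, hgw]
      rw [e] at this
      exact this
    exact hle hx
  -- key claim: a nonzero stable subspace is not fixed by `F`
  have hkey : ∀ W, Stab W → F W = W → W = ⊥ := by
    intro W hW hFW
    have hDD : D H₂ (D H₁ W) ≤ D H₁ W := by
      rw [D_le_iff]
      intro g hg x hx
      rw [em_apply]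
      exact (D H₁ W).sub_mem (hnormD W hW g hg x hx) hx
    have h1 : ∀ j : ℕ, W ≤ D H₁ W ⊔ (D H₂)^[j] W := by
      intro j
      induction j with
      | zero => exact le_sup_right
      | succ j ih =>
        calc W = D H₁ W ⊔ D H₂ W := hFW.symm
          _ ≤ D H₁ W ⊔ D H₂ (D H₁ W ⊔ (D H₂)^[j] W) := sup_le_sup_left (D_mono H₂ ih) _
          _ = D H₁ W ⊔ (D H₂ (D H₁ W) ⊔ D H₂ ((D H₂)^[j] W)) := by rw [D_sup]
          _ ≤ D H₁ W ⊔ (D H₁ W ⊔ (D H₂)^[j + 1] W) := by
              refine sup_le_sup_left (sup_le_sup hDD ?_) _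
              rw [Function.iterate_succ_apply']
          _ = D H₁ W ⊔ (D H₂)^[j + 1] W := by rw [← sup_assoc, sup_idem]
    have h2 : W ≤ D H₁ W := by
      have := h1 n₂
      have hbot : (D H₂)^[n₂] W = ⊥ := by
        rw [eq_bot_iff, ← hD₂]
        exact D_iterate_mono H₂ n₂ le_top
      rwa [hbot, sup_bot_eq] at this
    have h3 : ∀ j : ℕ, W ≤ (D H₁)^[j] W := by
      intro j
      induction j with
      | zero => exact le_rfl
      | succ j ih =>
        rw [Function.iterate_succ_apply']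
        exact h2.trans (D_mono H₁ ih)
    rw [eq_bot_iff]
    calc W ≤ (D H₁)^[n₁] W := h3 n₁
      _ ≤ (D H₁)^[n₁] ⊤ := D_iterate_mono H₁ n₁ le_top
      _ = ⊥ := hD₁
  -- the chain
  have hStabTop : Stab ⊤ := ⟨fun _ _ _ _ => Submodule.mem_top, fun _ _ _ _ => Submodule.mem_top⟩
  have hStabIter : ∀ j : ℕ, Stab (F^[j] ⊤) := by
    intro j
    induction j with
    | zero => exact hStabTop
    | succ j ih =>
      rw [Function.iterate_succ_apply']
      exact hFstab _ ih
  have hrank : ∀ j : ℕ, Module.finrank K ↥(F^[j] ⊤) + j ≤ Module.finrank K V ∨ F^[j] ⊤ = ⊥ := by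
    intro j
    induction j with
    | zero =>
      left
      simp only [Function.iterate_zero, id_eq, add_zero]
      exact (finrank_top K V).le
    | succ j ih =>
      rw [Function.iterate_succ_apply']
      by_cases hbot : F^[j] ⊤ = ⊥
      · right
        rw [hbot, eq_bot_iff]
        have := hFle ⊥ ⟨fun _ _ w hw => by simp [(Submodule.mem_bot K).1 hw],
          fun _ _ w hw => by simp [(Submodule.mem_bot K).1 hw]⟩
        exact this
      · left
        rcases ih with ih | ih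
        · have hlt : F (F^[j] ⊤) < F^[j] ⊤ := by
            refine lt_of_le_of_ne (hFle _ (hStabIter j)) ?_
            intro heq
            exact hbot (hkey _ (hStabIter j) heq)
          have := Submodule.finrank_lt_finrank_of_lt hlt
          omega
        · exact absurd ih hbot
  have hN : F^[Module.finrank K V + 1] ⊤ = ⊥ := by
    rcases hrank (Module.finrank K V + 1) with h | h
    · omega
    · exact h
  -- `(g - 1) w ∈ F W` for `g ∈ H₁ ⊔ H₂` and stable `W`
  have hFsup : ∀ W, Stab W → ∀ g ∈ H₁ ⊔ H₂, (∀ w ∈ W, g w ∈ W) ∧ (∀ w ∈ W, g⁻¹ w ∈ W) ∧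
      (∀ w ∈ W, em g w ∈ F W) ∧ (∀ w ∈ W, em g⁻¹ w ∈ F W) := by
    intro W hW g hg
    rw [Subgroup.sup_eq_closure] at hg
    induction hg using Subgroup.closure_induction with
    | mem g hg =>
      rcases hg with hg | hg
      · exact ⟨hW.1 g hg, hW.1 g⁻¹ (H₁.inv_mem hg), hF1 W g hg, hF1 W g⁻¹ (H₁.inv_mem hg)⟩
      · exact ⟨hW.2 g hg, hW.2 g⁻¹ (H₂.inv_mem hg), hF2 W g hg, hF2 W g⁻¹ (H₂.inv_mem hg)⟩
    | one =>
      refine ⟨fun w hw => hw, fun w hw => by simpa using hw, fun w _ => ?_, fun w _ => ?_⟩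
      · simp
      · simp
    | mul g h _ _ ihg ihh =>
      obtain ⟨g1, g2, g3, g4⟩ := ihg
      obtain ⟨k1, k2, k3, k4⟩ := ihh
      refine ⟨fun w hw => g1 _ (k1 w hw), fun w hw => ?_, fun w hw => ?_, fun w hw => ?_⟩
      · rw [mul_inv_rev]
        exact k2 _ (g2 w hw)
      · have e : em (g * h) w = em g (h w) + em h w := by
          simp only [em_apply, LinearEquiv.mul_apply]
          abel
        rw [e]
        exact (F W).add_mem (g3 _ (k1 w hw)) (k3 w hw)
      · rw [mul_inv_rev]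
        have e : em (h⁻¹ * g⁻¹) w = em h⁻¹ (g⁻¹ w) + em g⁻¹ w := by
          simp only [em_apply, LinearEquiv.mul_apply]
          abel
        rw [e]
        exact (F W).add_mem (k4 _ (g2 w hw)) (g4 w hw)
    | inv g _ ih =>
      obtain ⟨g1, g2, g3, g4⟩ := ih
      exact ⟨g2, by simpa using g1, g4, by simpa using g3⟩
  -- products land in the chain
  have hprod : ∀ (j : ℕ) (f : Fin j → ↥(H₁ ⊔ H₂)) (v : V),
      (List.ofFn fun i => (((f i : ↥(H₁ ⊔ H₂)) : V ≃ₗ[K] V) : Module.End K V) - 1).prod v ∈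
        F^[j] ⊤ := by
    intro j
    induction j with
    | zero => intro f v; simp
    | succ j ih =>
      intro f v
      rw [List.ofFn_succ, List.prod_cons, Module.End.mul_apply, Function.iterate_succ_apply']
      exact (hFsup _ (hStabIter j) (f 0 : V ≃ₗ[K] V) (f 0).2).2.2.1 _ (ih (fun i => f i.succ) v)
  refine ⟨Module.finrank K V + 1, fun f => ?_⟩
  ext v
  have := hprod _ f v
  rw [hN, Submodule.mem_bot] at this
  rw [this, LinearMap.zero_apply]

end Groth.Agent.S17446
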