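import Groth.Statements.S17447
import Groth.Agent.Lib.Helper7.HensSection

set_option autoImplicit false
universe u
open CategoryTheory CategoryTheory.Limits AlgebraicGeometry
open Hensel

namespace Groth.Agent.S17447

/-- Let R be a henselian local ring and X → Spec R a quasi-finite separated morphism (locally of finite
type, quasi-compact, with discrete fibres). Then X decomposes uniquely as the disjoint union of an
open and closed subscheme finite over Spec R and an open and closed subscheme with empty special
fibre: there is exactly one open subset W of X which is closed, finite over Spec R (as an open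
subscheme) and contains every point lying over the closed point of Spec R. (No Noetherian hypothesis
on R.) -/
theorem result (R : Type u) [CommRing R] [HenselianLocalRing R]
    {X : Scheme.{u}} (f : X ⟶ Spec (CommRingCat.of R))
    [LocallyQuasiFinite f] [LocallyOfFiniteType f] [QuasiCompact f] [IsSeparated f] :
    ∃! W : X.Opens, IsClosed (W : Set X) ∧ IsFinite (W.ι ≫ f) ∧
      ∀ x : X, f.base x = IsLocalRing.closedPoint R → x ∈ W := by
  classical
  have key : ∀ W W' : X.Opens, IsFinite (W.ι ≫ f) →
      (∀ x : X, f.base x = IsLocalRing.closedPoint R → x ∈ W') → W ≤ W' := by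
    intro W W' hWf hW' x hxW
    by_contra hxW'
    let D : Set ↥W := W.ι ⁻¹' ((W' : Set X)ᶜ)
    have hD : IsClosed D := (W'.2.isClosed_compl).preimage W.ι.continuous
    have hfD : IsClosed ((W.ι ≫ f) '' D) := (W.ι ≫ f).isClosedMap _ hD
    have hmem : (W.ι ≫ f) ⟨x, hxW⟩ ∈ (W.ι ≫ f) '' D := ⟨⟨x, hxW⟩, hxW', rfl⟩
    have hc : IsLocalRing.closedPoint R ∈ (W.ι ≫ f) '' D :=
      (IsLocalRing.specializes_closedPoint _).mem_closed hfD hmem
    obtain ⟨z, hzD, hz⟩ := hc
    exact hzD (hW' (W.ι z) hz)
  obtain ⟨W, hWc, hWf, hW⟩ :=
    Groth.Agent.Lib.Helper7.HensSection.exists_clopen_finite_of_henselian R f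
      (f.finite_preimage_singleton _)
  refine ⟨W, ⟨hWc, hWf, hW⟩, fun W' ⟨_, hW'f, hW'⟩ => ?_⟩
  exact le_antisymm (key W' W hW'f hW) (key W W' hWf hW')

end Groth.Agent.S17447
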