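import Groth.Statements.S1745
import Groth.Agent.H8.InjBC.Main

set_option autoImplicit false
universe u
open scoped TensorProduct
open InjHull

namespace Groth.Agent.S1745

/-- Let A → B be a flat homomorphism of Noetherian rings such that for every prime q of B with
contraction p, the ideal p B_q equals the maximal ideal q B_q of B_q (for instance an étale map).
Then for every injective A-module I the B-module B ⊗_A I is injective. -/
theorem result (A B : Type u) [CommRing A] [CommRing B] [Algebra A B] [IsNoetherianRing A] [IsNoetherianRing B] [Module.Flat A B] (h : ∀ q : PrimeSpectrum B, Ideal.map (algebraMap B (Localization.AtPrime q.asIdeal)) ((q.asIdeal.comap (algebraMap A B)).map (algebraMap A B)) = IsLocalRing.maximalIdeal (Localization.AtPrime q.asIdeal)) (I : Type u) [AddCommGroup I] [Module A I] [Module.Injective A I] : Module.Injective B (B ⊗[A] I) := by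
  classical
  obtain ⟨ι, E, hint, hE⟩ := Groth.Agent.S0307.result A I inferInstance
  -- each summand base-changes to an injective module
  have hsum : ∀ i, Module.Injective B (B ⊗[A] ↥(E i)) := by
    intro i
    obtain ⟨p, hp, f, hf⟩ :=
      Groth.Agent.Lib.Helper2.exists_isInjectiveHull_quot_of_isIndecomposable (hE i).1 (hE i).2
    exact Groth.Agent.H8.InjBC.injective_baseChange_hull h p hf
  have hds : Module.Injective B (DirectSum ι fun i => B ⊗[A] ↥(E i)) :=
    Groth.Agent.S0300.result B _ hsum
  let e₁ : (DirectSum ι fun i => ↥(E i)) ≃ₗ[A] I :=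
    LinearEquiv.ofBijective (DirectSum.coeLinearMap E) hint
  let e₂ : B ⊗[A] I ≃ₗ[B] B ⊗[A] (DirectSum ι fun i => ↥(E i)) :=
    TensorProduct.AlgebraTensorModule.congr (LinearEquiv.refl B B) e₁.symm
  let e₃ : B ⊗[A] (DirectSum ι fun i => ↥(E i)) ≃ₗ[B] DirectSum ι fun i => B ⊗[A] ↥(E i) :=
    TensorProduct.directSumRight A B B fun i => ↥(E i)
  exact Module.Baer.injective
    (Module.Baer.of_equiv (e₂ ≪≫ₗ e₃).symm (Module.Baer.of_injective hds))

end Groth.Agent.S1745
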