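import Groth.Statements.S17459
import Groth.Agent.Lib.Helper14.IsogenyFinite2
import Groth.Agent.Lib.Helper14.GroupFibreLoci5

set_option autoImplicit false
universe u
open CategoryTheory CategoryTheory.Limits AlgebraicGeometry MonObj
open SGA7

namespace Groth.Agent.S17459

/-- Let R be a discrete valuation ring with fraction field K, let N and N' be group schemes over Spec R
which are Néron models of their generic fibres A = N_K and B = N'_K, abelian varieties (proper and
geometrically integral) of the same dimension, and let u : N → N' be a homomorphism (the extension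
of u_K : A → B). If the homomorphism induced by u on the special fibres is locally quasi-finite — as
it is when it restricts to an isogeny between the identity components, the printed hypothesis, which
also forces dim A = dim B — then u_K is an isogeny: its underlying map is surjective and its kernel
is finite. -/
theorem result (R K : Type u) [CommRing R] [IsDomain R]
    [IsDiscreteValuationRing R] [Field K] [Algebra R K] [IsFractionRing R K]
    (N N' : Over (Spec (CommRingCat.of R))) [GrpObj N] [GrpObj N']
    (hN : SGA7.IsNeron R K N) (hN' : SGA7.IsNeron R K N')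
    [IsProper ((SGA7.genFib R K).obj N).hom] [GeometricallyIntegral ((SGA7.genFib R K).obj N).hom]
    [IsProper ((SGA7.genFib R K).obj N').hom] [GeometricallyIntegral ((SGA7.genFib R K).obj N').hom]
    (hdim : topologicalKrullDim ↥((SGA7.genFib R K).obj N).left = topologicalKrullDim ↥((SGA7.genFib R K).obj N').left)
    (u : N ⟶ N') [IsMonHom u]
    [LocallyQuasiFinite (SGA7.fibreHom (IsLocalRing.closedPoint R) u).left] :
    SGA7.IsIsogenyOver ((SGA7.genFib R K).map u) := by
  have hs₀' : LocallyQuasiFinite (SGA7.fibreHom (IsLocalRing.closedPoint R) u).left := inferInstance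
  obtain ⟨hsmN, hsepN, hqcN, -⟩ := hN
  obtain ⟨hsmN', hsepN', hqcN', -⟩ := hN'
  have hlftu : LocallyOfFiniteType u.left := by
    have : LocallyOfFiniteType (u.left ≫ N'.hom) := by rw [Over.w]; infer_instance
    exact locallyOfFiniteType_of_comp u.left N'.hom
  let gK : Spec (CommRingCat.of K) ⟶ Spec (CommRingCat.of R) :=
    Spec.map (CommRingCat.ofHom (algebraMap R K))
  let AK : Over (Spec (CommRingCat.of K)) := (SGA7.genFib R K).obj N
  let BK : Over (Spec (CommRingCat.of K)) := (SGA7.genFib R K).obj N'
  let uK : AK ⟶ BK := (SGA7.genFib R K).map u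
  haveI : Subsingleton ↥(Spec (CommRingCat.of K)) :=
    inferInstanceAs (Subsingleton (PrimeSpectrum K))
  let ptK : ↥(Spec (CommRingCat.of K)) := IsLocalRing.closedPoint K
  let g : ↥(Spec (CommRingCat.of R)) := gK ptK
  let s₀ : ↥(Spec (CommRingCat.of R)) := IsLocalRing.closedPoint R
  -- the generic point specialises to the closed point
  have hspec : g ⤳ s₀ := by
    haveI hptp : ptK.asIdeal.IsPrime := ptK.2
    refine (PrimeSpectrum.le_iff_specializes
      (⟨Ideal.comap (algebraMap R K) ptK.asIdeal, inferInstance⟩ : PrimeSpectrum R)
      (s₀ : PrimeSpectrum R)).mp ?_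
    show Ideal.comap (algebraMap R K) ptK.asIdeal ≤ (IsLocalRing.closedPoint R).asIdeal
    have hpt : ptK.asIdeal = ⊥ := Ideal.eq_bot_of_prime ptK.asIdeal
    rw [hpt, ← RingHom.ker_eq_comap_bot,
      (RingHom.injective_iff_ker_eq_bot _).mp (IsFractionRing.injective R K)]
    exact bot_le
  -- the locus of quasi-finite fibres is open and contains the closed point
  have hopen := (Groth.Agent.Lib.Helper14.isOpen_setOf_locallyQuasiFinite_fibre_and_eq u).1
  have hs₀ : s₀ ∈ {s : ↥(Spec (CommRingCat.of R)) | LocallyQuasiFinite
      ((Over.pullback ((Spec (CommRingCat.of R)).fromSpecResidueField s)).map u).left} := by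
    exact hs₀'
  have hg : LocallyQuasiFinite
      ((Over.pullback ((Spec (CommRingCat.of R)).fromSpecResidueField g)).map u).left :=
    hspec.mem_open hopen hs₀
  have hqfg := (Groth.Agent.Lib.Helper14.locallyQuasiFinite_fibre_iff_unit u g).mp hg
  haveI hqfK : LocallyQuasiFinite uK.left :=
    (Groth.Agent.Lib.Helper14.locallyQuasiFinite_fibre_iff_unit_aux u gK g
      (fun t => congrArg gK (Subsingleton.elim t ptK)) ptK).mpr hqfg
  -- `u_K` is finite
  haveI : IsSeparated BK.hom := by
    show IsSeparated (pullback.snd _ _); infer_instance
  haveI : IsProper uK.left := by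
    have h1 : IsProper (uK.left ≫ BK.hom) := by rw [Over.w uK]; infer_instance
    exact IsProper.of_comp uK.left BK.hom
  haveI : IsFinite uK.left := IsFinite.of_isProper_of_locallyQuasiFinite uK.left
  refine ⟨?_, ?_⟩
  · haveI : IrreducibleSpace ↥BK.left :=
      GeometricallyIrreducible.irreducibleSpace_of_subsingleton (f := BK.hom)
    haveI : CompactSpace ↥BK.left :=
      (quasiCompact_iff_compactSpace BK.hom).mp inferInstance
    exact ⟨Groth.Agent.Lib.Helper14.surjective_of_isFinite_of_dim_eq uK hdim⟩
  · intro N₀ i hK
    have h' : IsPullback i.left (CartesianMonoidalCategory.toUnit N₀).left uK.left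
        (η[BK] : MonoidalCategory.tensorUnit _ ⟶ BK).left := hK.map (Over.forget _)
    have hfin : IsFinite (CartesianMonoidalCategory.toUnit N₀).left :=
      MorphismProperty.of_isPullback (P := @IsFinite) h' inferInstance
    have hsnd : (CartesianMonoidalCategory.toUnit N₀).left = N₀.hom := by
      have := Over.w (CartesianMonoidalCategory.toUnit N₀)
      rw [← this]
      exact (Category.comp_id _).symm
    rw [← hsnd]
    exact hfin

end Groth.Agent.S17459
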