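import Groth.Statements.S17461
import Mathlib

set_option autoImplicit false
universe u
open CategoryTheory CategoryTheory.Limits AlgebraicGeometry
open Hensel

namespace Groth.Agent.S17461

/-- Let R be a henselian local ring and let X and Y be quasi-finite separated schemes over Spec R
(locally of finite type, quasi-compact, with discrete fibres, separated). Let W_X ⊆ X and W_Y ⊆ Y be
their finite parts: open and closed subsets which are finite over Spec R as open subschemes and
contain every point over the closed point. Then every morphism g : X → Y over Spec R carries W_X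
into W_Y. -/
theorem result (R : Type u) [CommRing R] [HenselianLocalRing R]
    {X Y : Scheme.{u}} (f : X ⟶ Spec (CommRingCat.of R)) (f' : Y ⟶ Spec (CommRingCat.of R))
    [LocallyQuasiFinite f] [LocallyOfFiniteType f] [QuasiCompact f] [IsSeparated f]
    [LocallyQuasiFinite f'] [LocallyOfFiniteType f'] [QuasiCompact f'] [IsSeparated f']
    (WX : X.Opens) (hWX : (IsClosed (WX : Set ↥X) ∧ IsFinite (WX.ι ≫ f) ∧ ∀ x : ↥X, f.base x = IsLocalRing.closedPoint R → x ∈ WX))
    (WY : Y.Opens) (hWY : (IsClosed (WY : Set ↥Y) ∧ IsFinite (WY.ι ≫ f') ∧ ∀ x : ↥Y, f'.base x = IsLocalRing.closedPoint R → x ∈ WY))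
    (g : X ⟶ Y) (hg : g ≫ f' = f) (x : X) (hx : x ∈ WX) :
    g.base x ∈ WY := by
  classical
  by_contra hgx
  obtain ⟨-, hfin, hcl⟩ := hWX
  obtain ⟨-, -, hclY⟩ := hWY
  have : IsFinite (WX.ι ≫ f) := hfin
  -- the closed subset of `WX` of points not mapping into `WY`
  let Z : Set ↥(WX : Scheme) := (WX.ι ≫ g).base ⁻¹' ((WY : Set Y)ᶜ)
  have hZ : IsClosed Z := (WY.isOpen.isClosed_compl).preimage (WX.ι ≫ g).continuous
  have hT : IsClosed ((WX.ι ≫ f).base '' Z) := (WX.ι ≫ f).isClosedMap _ hZ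
  have hxZ : (⟨x, hx⟩ : ↥(WX : Scheme)) ∈ Z := by
    show (WX.ι ≫ g).base ⟨x, hx⟩ ∈ ((WY : Set Y)ᶜ)
    simpa using hgx
  have hmem : (WX.ι ≫ f).base ⟨x, hx⟩ ∈ (WX.ι ≫ f).base '' Z := Set.mem_image_of_mem _ hxZ
  have hcp : IsLocalRing.closedPoint R ∈ (WX.ι ≫ f).base '' Z :=
    hT.stableUnderSpecialization (IsLocalRing.specializes_closedPoint _) hmem
  obtain ⟨z, hz, hzc⟩ := hcp
  apply hz
  show (WX.ι ≫ g).base z ∈ WY
  apply hclY
  rw [← Scheme.Hom.comp_apply, Category.assoc, hg]
  exact hzc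

end Groth.Agent.S17461
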