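import Groth.Statements.S17462
import Mathlib

set_option autoImplicit false
universe u
open CategoryTheory CategoryTheory.Limits AlgebraicGeometry
open Hensel

namespace Groth.Agent.S17462

/-- General form: if `P → X → Spec R` is a closed map and `WY` is an open of `Y` containing the
closed fibre, then every map `X → Y` over `Spec R` sends the image of `P` into `WY`. -/
theorem aux (R : Type u) [CommRing R] [IsLocalRing R]
    {P X Y : Scheme.{u}} (f : X ⟶ Spec (CommRingCat.of R)) (f' : Y ⟶ Spec (CommRingCat.of R))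
    (j : P ⟶ X) (hj : IsClosedMap (j ≫ f).base)
    (WY : Y.Opens)
    (hWY : ∀ x : ↥Y, f'.base x = IsLocalRing.closedPoint R → x ∈ WY)
    (g : X ⟶ Y) (hg : g ≫ f' = f) (p : P) :
    g.base (j.base p) ∈ WY := by
  classical
  by_contra hgx
  let Z : Set ↥P := (j ≫ g).base ⁻¹' ((WY : Set Y)ᶜ)
  have hZ : IsClosed Z := (WY.isOpen.isClosed_compl).preimage (j ≫ g).continuous
  have hT : IsClosed ((j ≫ f).base '' Z) := hj _ hZ
  have hxZ : p ∈ Z := by
    show (j ≫ g).base p ∈ ((WY : Set Y)ᶜ)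
    simpa using hgx
  have hmem : (j ≫ f).base p ∈ (j ≫ f).base '' Z := Set.mem_image_of_mem _ hxZ
  have hcp : IsLocalRing.closedPoint R ∈ (j ≫ f).base '' Z :=
    hT.stableUnderSpecialization (IsLocalRing.specializes_closedPoint _) hmem
  obtain ⟨z, hz, hzc⟩ := hcp
  apply hz
  show (j ≫ g).base z ∈ WY
  apply hWY
  rw [← Scheme.Hom.comp_apply, Category.assoc, hg]
  exact hzc

theorem result (R : Type u) [CommRing R] [HenselianLocalRing R]
    {X Y : Scheme.{u}} (f : X ⟶ Spec (CommRingCat.of R)) (f' : Y ⟶ Spec (CommRingCat.of R))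
    [LocallyQuasiFinite f] [LocallyOfFiniteType f] [QuasiCompact f] [IsSeparated f]
    [LocallyQuasiFinite f'] [LocallyOfFiniteType f'] [QuasiCompact f'] [IsSeparated f']
    (WX : X.Opens) (hWX : (IsClosed (WX : Set ↥X) ∧ IsFinite (WX.ι ≫ f) ∧ ∀ x : ↥X, f.base x = IsLocalRing.closedPoint R → x ∈ WX))
    (WY : Y.Opens) (hWY : (IsClosed (WY : Set ↥Y) ∧ IsFinite (WY.ι ≫ f') ∧ ∀ x : ↥Y, f'.base x = IsLocalRing.closedPoint R → x ∈ WY))
    (W : (pullback f f').Opens)
    (hW : (IsClosed (W : Set ↥(pullback f f')) ∧ IsFinite (W.ι ≫ (pullback.fst f f' ≫ f)) ∧ ∀ x : ↥(pullback f f'), (pullback.fst f f' ≫ f).base x = IsLocalRing.closedPoint R → x ∈ W))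
    (z : ↥(pullback f f')) :
    z ∈ W ↔ ((pullback.fst f f').base z ∈ WX ∧ (pullback.snd f f').base z ∈ WY) := by
  obtain ⟨-, hfinX, hclX⟩ := hWX
  obtain ⟨-, hfinY, hclY⟩ := hWY
  obtain ⟨-, hfinW, hclW⟩ := hW
  constructor
  · intro hz
    have hcm : IsClosedMap (W.ι ≫ (pullback.fst f f' ≫ f)).base :=
      (W.ι ≫ (pullback.fst f f' ≫ f)).isClosedMap
    constructor
    · have := aux R (pullback.fst f f' ≫ f) f W.ι hcm WX hclX (pullback.fst f f') rfl ⟨z, hz⟩
      simpa using this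
    · have := aux R (pullback.fst f f' ≫ f) f' W.ι hcm WY hclY (pullback.snd f f')
        pullback.condition.symm ⟨z, hz⟩
      simpa using this
  · rintro ⟨h1, h2⟩
    let j : pullback (WX.ι ≫ f) (WY.ι ≫ f') ⟶ pullback f f' :=
      pullback.map (WX.ι ≫ f) (WY.ι ≫ f') f f' WX.ι WY.ι (𝟙 _) (by simp) (by simp)
    have hjf : j ≫ (pullback.fst f f' ≫ f) = pullback.fst (WX.ι ≫ f) (WY.ι ≫ f') ≫ (WX.ι ≫ f) := by
      simp only [j]
      rw [← Category.assoc, pullback.lift_fst, Category.assoc]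
    have hcm : IsClosedMap (j ≫ (pullback.fst f f' ≫ f)).base := by
      rw [hjf]
      exact (pullback.fst (WX.ι ≫ f) (WY.ι ≫ f') ≫ (WX.ι ≫ f)).isClosedMap
    have hr : z ∈ Set.range j.base := by
      have := AlgebraicGeometry.Scheme.Pullback.range_map (WX.ι ≫ f) (WY.ι ≫ f') f f' WX.ι WY.ι (𝟙 _)
        (by simp) (by simp)
      show z ∈ Set.range (pullback.map (WX.ι ≫ f) (WY.ι ≫ f') f f' WX.ι WY.ι (𝟙 _) (by simp) (by simp))
      rw [this]
      refine ⟨?_, ?_⟩
      · simpa using h1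
      · simpa using h2
    obtain ⟨p, rfl⟩ := hr
    have := aux R (pullback.fst f f' ≫ f) (pullback.fst f f' ≫ f) j hcm W hclW (𝟙 _) (by simp) p
    simpa using this

end Groth.Agent.S17462
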