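import Groth.Statements.S17468
import Groth.Agent.Lib.Helper87.Sl2Trace

set_option autoImplicit false
universe u v w
open LieRep

namespace Groth.Agent.S17468

/-- Let k be an algebraically closed field of characteristic zero, L a Lie algebra over k spanned by an
sl_2-triple (h, e, f), and V a finite-dimensional L-module written as an internal direct sum of
finitely many irreducible Lie submodules V_i. Then the trace on V of the square of the action of h
is 2 Σ_i C(dim V_i + 1, 3). (The published statement concerns a finite-dimensional representation V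
of a simple Lie algebra restricted to the copy of sl_2 attached to the highest root θ, with h the
coroot θ^∨; there Σ_i C(dim V_i + 1, 3) is the index of V, and the trace is the sum over the weights
λ of V, with multiplicity, of ⟨λ, θ^∨⟩².) -/
theorem result
    (k : Type u) [Field k] [IsAlgClosed k] [CharZero k]
    (L : Type v) [LieRing L] [LieAlgebra k L]
    (h e f : L) (t : IsSl2Triple h e f) (hspan : t.toLieSubalgebra k = ⊤)
    (V : Type w) [AddCommGroup V] [Module k V] [LieRingModule L V] [LieModule k L V]
    [FiniteDimensional k V]
    (ι : Type) [Fintype ι] [DecidableEq ι] (W : ι → LieSubmodule k L V)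
    (hW : DirectSum.IsInternal fun i => (W i).toSubmodule)
    (hirr : ∀ i, LieModule.IsIrreducible k L (W i)) :
    LinearMap.trace k V ((LieModule.toEnd k L V h) ^ 2) =
      2 * ∑ i, (((Module.finrank k (W i) + 1).choose 3 : ℕ) : k) := by
  classical
  have hf : ∀ i, Set.MapsTo (((LieModule.toEnd k L V h) ^ 2 : Module.End k V))
      ((W i).toSubmodule : Set V) ((W i).toSubmodule : Set V) := by
    intro i x hx
    have e1 : (((LieModule.toEnd k L V h) ^ 2 : Module.End k V)) x = ⁅h, ⁅h, x⁆⁆ := by
      rw [pow_two, Module.End.mul_apply, LieModule.toEnd_apply_apply,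
        LieModule.toEnd_apply_apply]
    rw [e1]
    exact (W i).lie_mem ((W i).lie_mem hx)
  have hsum := LinearMap.trace_eq_sum_trace_restrict hW hf
  have hterm : ∀ i, 3 * LinearMap.trace k (W i)
      ((((LieModule.toEnd k L V h) ^ 2 : Module.End k V)).restrict (hf i)) =
      6 * (((Module.finrank k (W i) + 1).choose 3 : ℕ) : k) := by
    intro i
    have := hirr i
    have hres : (((LieModule.toEnd k L V h) ^ 2 : Module.End k V)).restrict (hf i) =
        (LieModule.toEnd k L (W i) h) ^ 2 := by
      refine LinearMap.ext fun w => Subtype.ext ?_
      simp only [pow_two, LinearMap.coe_restrict_apply, Module.End.mul_apply,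
        LieModule.toEnd_apply_apply]
      rfl
    have := Groth.Agent.Lib.Helper87.sl2_irred_trace k L h e f t hspan (W i)
    rw [← this]
    congr 2
  have h3 : (3 : k) ≠ 0 := three_ne_zero
  apply mul_left_cancel₀ h3
  rw [hsum, Finset.mul_sum]
  have h6 : 3 * (2 * ∑ i, (((Module.finrank k (W i) + 1).choose 3 : ℕ) : k)) =
      ∑ i, 6 * (((Module.finrank k (W i) + 1).choose 3 : ℕ) : k) := by
    rw [Finset.mul_sum, Finset.mul_sum]
    exact Finset.sum_congr rfl fun i _ => by ring
  rw [h6]
  exact Finset.sum_congr rfl fun i _ => hterm i

end Groth.Agent.S17468
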