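import Groth.Statements.S17471
import Mathlib

set_option autoImplicit false
universe u v w x
open RootCh

namespace Groth.Agent.S17471

/-- Let Φ be a finite, reduced, crystallographic, irreducible root system with a base, and θ a positive
root such that θ + β is a root for no positive root β (so θ is the highest root). Then Σ_{β>0} ⟨β,
θ^∨⟩² = 2 + Σ_{β>0} ⟨β, θ^∨⟩ = 2(1 + ⟨ρ, θ^∨⟩), ρ being half the sum of the positive roots; in the
source the left side is the index of the adjoint representation obtained from its formal character,
and 1 + ⟨ρ, θ^∨⟩ is the dual Coxeter number. -/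
theorem result
    {ι : Type u} {R : Type v} {M : Type w} {N : Type x}
    [Field R] [LinearOrder R] [IsStrictOrderedRing R]
    [AddCommGroup M] [Module R M] [AddCommGroup N] [Module R N] [Fintype ι]
    (P : RootPairing ι R M N) [P.IsRootSystem] [P.IsCrystallographic] [P.IsReduced]
    [P.IsIrreducible] (b : P.Base) (θ : ι) (hθ : b.IsPos θ)
    (hmax : ∀ i : ι, b.IsPos i → P.root θ + P.root i ∉ Set.range P.root) :
    ∑ i ∈ Finset.univ.filter (fun i => 0 < b.height i), P.pairing i θ ^ 2 =
      2 + ∑ i ∈ Finset.univ.filter (fun i => 0 < b.height i), P.pairing i θ := by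
  classical
  let _ := P.indexNeg
  -- pairings of positive roots other than θ with θ are 0 or 1
  have key : ∀ i : ι, b.IsPos i → i ≠ θ → P.pairing i θ = 0 ∨ P.pairing i θ = 1 := by
    intro i hi hiθ
    -- linear independence
    have hli : LinearIndependent R ![P.root θ, P.root i] := by
      by_contra hnot
      rcases RootPairing.IsReduced.eq_or_eq_neg θ i hnot with h | h
      · exact hiθ (P.root.injective h).symm
      · rw [RootPairing.root_eq_neg_iff] at h
        have h1 : b.IsPos (-i) := by
          have : (-i : ι) = P.reflectionPerm i i := rfl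
          rw [this, ← h]
          exact hθ
        exact ((RootPairing.Base.IsPos.neg_iff_not b i).1 h1) hi
    have htop : P.chainTopCoeff θ i = 0 := by
      rw [RootPairing.chainTopCoeff_eq_zero_iff]
      right
      rw [add_comm]
      exact hmax i hi
    have hbot : (P.chainBotCoeff θ i : ℤ) = P.pairingIn ℤ i θ := by
      have := RootPairing.chainBotCoeff_sub_chainTopCoeff hli
      rw [htop] at this
      simpa using this
    have hq : P.chainBotCoeff θ i ≤ 1 := by
      by_contra hlt
      push Not at hlt
      have h1 : P.root i - (1 : ℕ) • P.root θ ∈ Set.range P.root :=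
        (RootPairing.root_sub_nsmul_mem_range_iff_le_chainBotCoeff hli).2 (by omega)
      have h2 : P.root i - (2 : ℕ) • P.root θ ∈ Set.range P.root :=
        (RootPairing.root_sub_nsmul_mem_range_iff_le_chainBotCoeff hli).2 (by omega)
      obtain ⟨l, hl⟩ := h1
      rw [one_smul] at hl
      rcases RootPairing.Base.IsPos.or_neg b l with hlpos | hlneg
      · apply hmax l hlpos
        rw [hl]
        exact ⟨i, by abel⟩
      · apply hmax (-l) hlneg
        have hnegl : P.root (-l) = - P.root l := by
          have : (-l : ι) = P.reflectionPerm l l := rfl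
          rw [this]
          simp
        rw [hnegl, hl]
        have e : P.root θ + -(P.root i - P.root θ) = -(P.root i - (2 : ℕ) • P.root θ) := by
          rw [two_smul]
          abel
        rw [e, RootPairing.neg_mem_range_root_iff]
        exact h2
    have hpair : P.pairing i θ = ((P.chainBotCoeff θ i : ℤ) : R) := by
      rw [hbot, ← P.algebraMap_pairingIn ℤ i θ]
      simp
    rw [hpair]
    interval_cases (P.chainBotCoeff θ i)
    · left; simp
    · right; simp
  have hθmem : θ ∈ Finset.univ.filter (fun i => 0 < b.height i) := by
    simp only [Finset.mem_filter, Finset.mem_univ, true_and]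
    exact hθ
  rw [← Finset.add_sum_erase _ _ hθmem, ← Finset.add_sum_erase _ (fun i => P.pairing i θ) hθmem]
  have hsum : ∑ i ∈ (Finset.univ.filter (fun i => 0 < b.height i)).erase θ, P.pairing i θ ^ 2 =
      ∑ i ∈ (Finset.univ.filter (fun i => 0 < b.height i)).erase θ, P.pairing i θ := by
    refine Finset.sum_congr rfl fun i hi => ?_
    rw [Finset.mem_erase, Finset.mem_filter] at hi
    rcases key i hi.2.2 hi.1 with h | h <;> rw [h] <;> norm_num
  rw [hsum, P.pairing_same]
  ring

end Groth.Agent.S17471
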