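import Groth.Statements.S1748
-- import your own Groth.Agent.* helpers here
import Mathlib
import Groth.Agent.S6965

set_option autoImplicit false
universe u
open CategoryTheory
open scoped TensorProduct Polynomial
attribute [local instance] HasDerivedCategory.standard
open InjHull

namespace Groth.Agent.S1748

open CategoryTheory.Limits DerivedCategory Polynomial TensorProduct

section BassPapp

variable {A : Type u} [CommRing A] [IsNoetherianRing A] {E : Type u} [AddCommGroup E] [Module A E]

/-- Over a Noetherian ring, a direct sum of copies of an injective module satisfies Baer's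
criterion. -/
lemma baer_finsupp (ι : Type*) (hE : Module.Baer A E) : Module.Baer A (ι →₀ E) := by
  classical
  intro I g
  obtain ⟨s, hs⟩ := (isNoetherianRing_iff_ideal_fg A).1 inferInstance I
  -- the finite set of indices involved
  have hsI : ∀ x ∈ s, x ∈ I := fun x hx => hs ▸ Ideal.subset_span hx
  let S : Finset ι := s.attach.biUnion (fun x => (g ⟨x.1, hsI x.1 x.2⟩).support)
  have hsupp : ∀ (x : I), (g x).support ⊆ S := by
    intro x
    have hx : (x : A) ∈ Ideal.span (s : Set A) := hs ▸ x.2
    have key : ∀ y (hy : y ∈ Ideal.span (s : Set A)), ∀ hyI : y ∈ I, (g ⟨y, hyI⟩).support ⊆ S := by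
      intro y hy
      induction hy using Submodule.span_induction with
      | mem y hy =>
        intro hyI i hi
        exact Finset.mem_biUnion.2 ⟨⟨y, hy⟩, Finset.mem_attach _ _, hi⟩
      | zero =>
        intro hyI
        have : g ⟨0, hyI⟩ = 0 := map_zero g
        rw [this]
        simp
      | add y z hy hz ihy ihz =>
        intro hyI
        have hyI' : y ∈ I := hs ▸ hy
        have hzI' : z ∈ I := hs ▸ hz
        have : g ⟨y + z, hyI⟩ = g ⟨y, hyI'⟩ + g ⟨z, hzI'⟩ := map_add g ⟨y, hyI'⟩ ⟨z, hzI'⟩
        rw [this]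
        exact (Finsupp.support_add).trans (Finset.union_subset (ihy hyI') (ihz hzI'))
      | smul a y hy ihy =>
        intro hyI
        have hyI' : y ∈ I := hs ▸ hy
        have : g ⟨a • y, hyI⟩ = a • g ⟨y, hyI'⟩ := map_smul g a ⟨y, hyI'⟩
        rw [this]
        exact (Finsupp.support_smul).trans (ihy hyI')
    exact key x hx x.2
  -- extend each coordinate
  choose g' hg' using fun i : ι => hE I ((Finsupp.lapply i : (ι →₀ E) →ₗ[A] E) ∘ₗ g)
  refine ⟨∑ i ∈ S, (Finsupp.lsingle i : E →ₗ[A] (ι →₀ E)) ∘ₗ g' i, fun x hx => ?_⟩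
  ext j
  rw [LinearMap.sum_apply, Finsupp.finsetSum_apply]
  simp only [LinearMap.coe_comp, Function.comp_apply, Finsupp.lsingle_apply, Finsupp.single_apply]
  rw [Finset.sum_ite_eq' S j]
  by_cases hj : j ∈ S
  · rw [if_pos hj, hg' j x hx]
    rfl
  · rw [if_neg hj]
    have := hsupp ⟨x, hx⟩
    by_contra hne
    exact hj (this (Finsupp.mem_support_iff.2 (Ne.symm hne)))

variable (A E) in
lemma injective_tensor [Module.Injective A E] :
    Injective (ModuleCat.of A (A[X] ⊗[A] E)) := by
  have hE : Module.Baer A E := Module.Baer.of_injective inferInstance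
  have h1 : Module.Baer A (ℕ →₀ E) := baer_finsupp ℕ hE
  let e : (A[X] ⊗[A] E) ≃ₗ[A] (ℕ →₀ E) :=
    (TensorProduct.congr (basisMonomials A).repr (LinearEquiv.refl A E)) ≪≫ₗ
      TensorProduct.finsuppScalarLeft A E ℕ
  have h2 : Module.Baer A (A[X] ⊗[A] E) := Module.Baer.of_equiv e.symm h1
  haveI : Module.Injective A (A[X] ⊗[A] E) := h2.injective
  exact Module.injective_object_of_injective_module (R := A) (M := A[X] ⊗[A] E)

variable (A E) in
/-- The coinduced module `Hom_A(A[X], A[X] ⊗ E)`. -/
noncomputable abbrev J : ModuleCat.{u} A[X] :=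
  (ModuleCat.coextendScalars (C : A →+* A[X])).obj (ModuleCat.of A (A[X] ⊗[A] E))

variable (A E) in
lemma injective_J [Module.Injective A E] : Injective (J A E) := by
  haveI := injective_tensor A E
  exact Injective.injective_of_adjoint (ModuleCat.restrictCoextendScalarsAdj (C : A →+* A[X]))
    (ModuleCat.of A (A[X] ⊗[A] E))

end BassPapp

section SES

variable (A : Type u) [CommRing A] (E : Type u) [AddCommGroup E] [Module A E]

/-- Elements of `J` from `A`-linear maps. -/
noncomputable def mkJ (φ : A[X] →ₗ[A] (A[X] ⊗[A] E)) : J A E :=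
  (ModuleCat.CoextendScalars.equiv (C : A →+* A[X]) (ModuleCat.of A (A[X] ⊗[A] E))).symm
    { toFun := φ
      map_add' := φ.map_add
      map_smul' := fun a f => by
        have h1 : φ (C a * (show A[X] from f)) = a • φ (show A[X] from f) := by
          rw [← Polynomial.smul_eq_C_mul, map_smul]
        exact h1 }

variable {A E} in
/-- Evaluation of an element of `J` at a polynomial. -/
noncomputable def ev (g : J A E) (f : A[X]) : A[X] ⊗[A] E :=
  (ModuleCat.CoextendScalars.equiv (C : A →+* A[X]) (ModuleCat.of A (A[X] ⊗[A] E)) g)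
    (show ↑((ModuleCat.restrictScalars (C : A →+* A[X])).obj (ModuleCat.of A[X] A[X])) from f)

lemma mkJ_apply (φ : A[X] →ₗ[A] (A[X] ⊗[A] E)) (f : A[X]) : ev (mkJ A E φ) f = φ f := rfl

variable {A E} in
lemma J_ext {g g' : J A E} (h : ∀ f : A[X], ev g f = ev g' f) : g = g' := by
  apply ModuleCat.CoextendScalars.ext
  apply LinearMap.ext
  exact h

variable {A E} in
lemma J_map_add (g : J A E) (f f' : A[X]) : ev g (f + f') = ev g f + ev g f' :=
  map_add (ModuleCat.CoextendScalars.equiv (C : A →+* A[X]) _ g) _ _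

variable {A E} in
lemma J_map_smul (g : J A E) (a : A) (f : A[X]) : ev g (C a * f) = a • ev g f :=
  (ModuleCat.CoextendScalars.equiv (C : A →+* A[X]) (ModuleCat.of A (A[X] ⊗[A] E)) g).map_smul a
    (show ↑((ModuleCat.restrictScalars (C : A →+* A[X])).obj (ModuleCat.of A[X] A[X])) from f)

variable {A E} in
lemma J_add_apply (g g' : J A E) (f : A[X]) : ev (g + g') f = ev g f + ev g' f := rfl

variable {A E} in
lemma J_sub_apply (g g' : J A E) (f : A[X]) : ev (g - g') f = ev g f - ev g' f := rfl

variable {A E} in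
lemma J_smul_apply (b : A[X]) (g : J A E) (f : A[X]) : ev (b • g) f = ev g (f * b) := rfl

variable {A E} in
lemma J_zero_apply (f : A[X]) : ev (0 : J A E) f = 0 := rfl

/-- `p ↦ (f ↦ f • p)`. -/
noncomputable def ιlin : (A[X] ⊗[A] E) →ₗ[A[X]] J A E where
  toFun p := mkJ A E ((LinearMap.toSpanSingleton A[X] (A[X] ⊗[A] E) p).restrictScalars A)
  map_add' p q := by
    apply J_ext
    intro f
    rw [J_add_apply, mkJ_apply, mkJ_apply, mkJ_apply]
    simp [smul_add]
  map_smul' b p := by
    apply J_ext
    intro f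
    rw [RingHom.id_apply, J_smul_apply, mkJ_apply, mkJ_apply]
    simp [mul_smul]

lemma ιlin_apply (p : A[X] ⊗[A] E) (f : A[X]) : ev (ιlin A E p) f = f • p := by
  change ev (mkJ A E _) f = _
  rw [mkJ_apply]
  simp

/-- Multiplication by `X`, as an `A`-linear endomorphism. -/
noncomputable def μ : ModuleCat.of A (A[X] ⊗[A] E) ⟶ ModuleCat.of A (A[X] ⊗[A] E) :=
  ModuleCat.ofHom ((LinearMap.lsmul A[X] (A[X] ⊗[A] E) X).restrictScalars A)

/-- `φ ↦ (f ↦ φ (X f) - X φ(f))`. -/
noncomputable def δ : J A E ⟶ J A E :=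
  (X : A[X]) • 𝟙 _ - (ModuleCat.coextendScalars (C : A →+* A[X])).map (μ A E)

lemma δ_apply (g : J A E) (f : A[X]) :
    ev (δ A E g) f = ev g (f * X) - (X : A[X]) • ev g f := rfl

lemma ι_injective : Function.Injective (ιlin A E) := by
  intro p q h
  have h1 := congrArg (fun g : J A E => ev g 1) h
  simp only [ιlin_apply, one_smul] at h1
  exact h1

lemma δ_ι (p : A[X] ⊗[A] E) : δ A E (ιlin A E p) = 0 := by
  apply J_ext
  intro f
  rw [δ_apply, ιlin_apply, ιlin_apply, J_zero_apply, mul_comm, mul_smul, sub_self]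

lemma C_smul' (a : A) (v : A[X] ⊗[A] E) : (C a : A[X]) • v = a • v := by
  rw [← Polynomial.algebraMap_eq, algebraMap_smul]

lemma exists_of_δ_eq_zero (g : J A E) (h : δ A E g = 0) : ∃ p, ιlin A E p = g := by
  have hX : ∀ f : A[X], ev g (f * X) = (X : A[X]) • ev g f := by
    intro f
    have h1 := congrArg (fun g' : J A E => ev g' f) h
    simp only [δ_apply, J_zero_apply] at h1
    exact sub_eq_zero.1 h1
  have hpow : ∀ n : ℕ, ev g (X ^ n) = (X ^ n : A[X]) • ev g 1 := by
    intro n
    induction n with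
    | zero => simp
    | succ n ih => rw [pow_succ, hX, ih, ← mul_smul, mul_comm]
  refine ⟨ev g 1, J_ext (fun f => ?_)⟩
  rw [ιlin_apply]
  induction f using Polynomial.induction_on' with
  | add p q hp hq => rw [J_map_add, add_smul, hp, hq]
  | monomial n a =>
    rw [← Polynomial.C_mul_X_pow_eq_monomial, J_map_smul, hpow, mul_smul, C_smul']

lemma δ_surjective : Function.Surjective (δ A E) := by
  intro ψ
  let e : ℕ → A[X] ⊗[A] E := fun n => Nat.rec 0 (fun k ek => (X : A[X]) • ek + ev ψ (X ^ k)) n
  let φ : A[X] →ₗ[A] (A[X] ⊗[A] E) := (basisMonomials A).constr A e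
  have hφ : ∀ n, φ (X ^ n) = e n := by
    intro n
    have h1 := (basisMonomials A).constr_basis A e n
    rw [coe_basisMonomials] at h1
    simpa [Polynomial.monomial_one_right_eq_X_pow] using h1
  have key : ∀ n : ℕ, ev (δ A E (mkJ A E φ)) (X ^ n) = ev ψ (X ^ n) := by
    intro n
    rw [δ_apply, mkJ_apply, mkJ_apply, ← pow_succ, hφ, hφ]
    change (X : A[X]) • e n + ev ψ (X ^ n) - (X : A[X]) • e n = ev ψ (X ^ n)
    abel
  refine ⟨mkJ A E φ, J_ext ?_⟩
  intro f
  induction f using Polynomial.induction_on' with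
  | add p q hp hq => rw [J_map_add, J_map_add, hp, hq]
  | monomial n a =>
    rw [← Polynomial.C_mul_X_pow_eq_monomial, J_map_smul, J_map_smul, key]

end SES

/-- Let A be a Noetherian ring and E an injective A-module. Then A[x] ⊗_A E, as an object of D(A[x]) in
degree 0, has injective amplitude in [0, 1]: it is quasi-isomorphic to a complex of injective
A[x]-modules concentrated in degrees 0 and 1. In particular it has finite injective dimension. -/
theorem result (A : Type u) [CommRing A] [IsNoetherianRing A] (E : Type u) [AddCommGroup E] [Module A E] [Module.Injective A E] : DRing.HasInjAmplitudeIn A[X] 0 1 (Dual.inD A[X] (A[X] ⊗[A] E)) := by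
  let S : ShortComplex (ModuleCat.{u} A[X]) :=
    ShortComplex.mk (ModuleCat.ofHom (ιlin A E)) (δ A E) (by
      apply ModuleCat.hom_ext
      apply LinearMap.ext
      intro p
      exact δ_ι A E p)
  have hS : S.ShortExact :=
    { exact := by
        rw [ShortComplex.moduleCat_exact_iff]
        intro g hg
        exact exists_of_δ_eq_zero A E g hg
      mono_f := (ModuleCat.mono_iff_injective _).2 (ι_injective A E)
      epi_g := (ModuleCat.epi_iff_surjective _).2 (δ_surjective A E) }
  haveI := injective_J A E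
  have hJ : Groth.Agent.Lib.Helper35.KL.IA 0 0
      ((DerivedCategory.singleFunctor (ModuleCat.{u} A[X]) 0).obj (J A E)) :=
    Groth.Agent.Lib.Helper35.KL.IA.single (J A E)
  have hT := hS.singleTriangle_distinguished
  have hrot := Pretriangulated.rot_of_distTriang _ hT
  have h3 : Groth.Agent.Lib.Helper35.KL.IA (-1) 0 hS.singleTriangle.rotate.obj₃ :=
    Groth.Agent.Lib.Helper35.KL.IA.obj₃ (a := -1) (b := 0) _ hrot
      (hJ.mono (by norm_num) (by norm_num)) (hJ.mono (by norm_num) (by norm_num))
  have h4 := h3.shift (-1)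
  have h5 : Groth.Agent.Lib.Helper35.KL.IA 0 1
      ((DerivedCategory.singleFunctor (ModuleCat.{u} A[X]) 0).obj
        (ModuleCat.of A[X] (A[X] ⊗[A] E))) :=
    (h4.of_iso ((shiftEquiv (DerivedCategory (ModuleCat.{u} A[X])) (1 : ℤ)).unitIso.symm.app _)).mono
      (by norm_num) (by norm_num)
  exact (Groth.Agent.Lib.Helper35.KL.IA_iff 0 1 _).1 h5

end Groth.Agent.S1748
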