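import Groth.Statements.S17500
import Mathlib

set_option autoImplicit false
universe u
open TorsMod

namespace Groth.Agent.S17500

open TensorProduct

/-- ideals of `ZMod (p ^ n)` are generated by powers of `p`. -/
theorem ideal_eq_span_pow (p n : ℕ) (hp : p.Prime) (I : Ideal (ZMod (p ^ n))) :
    ∃ i ≤ n, I = Ideal.span {((p : ZMod (p ^ n)) ^ i)} := by
  set R := ZMod (p ^ n)
  let J : Ideal ℤ := I.comap (Int.castRingHom R)
  have hIJ : I = J.map (Int.castRingHom R) :=
    (Ideal.map_comap_of_surjective _ (ZMod.intCast_surjective) I).symm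
  obtain ⟨d, hd⟩ : ∃ d : ℤ, J = Ideal.span {d} :=
    ⟨_, (Ideal.span_singleton_generator J).symm⟩
  have hmem : ((p ^ n : ℕ) : ℤ) ∈ J := by
    show Int.castRingHom R ((p ^ n : ℕ) : ℤ) ∈ I
    have : Int.castRingHom R ((p ^ n : ℕ) : ℤ) = 0 := by
      simp only [eq_intCast, Int.cast_natCast]
      exact ZMod.natCast_self _
    rw [this]
    exact I.zero_mem
  rw [hd, Ideal.mem_span_singleton] at hmem
  have hdvd : d.natAbs ∣ p ^ n := by
    have := Int.natAbs_dvd_natAbs.2 hmem
    simpa using this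
  obtain ⟨i, hi, hdi⟩ := (Nat.dvd_prime_pow hp).1 hdvd
  refine ⟨i, hi, ?_⟩
  have hJ : J = Ideal.span {((p ^ i : ℕ) : ℤ)} := by
    rw [hd, ← hdi]
    rw [Ideal.span_singleton_eq_span_singleton]
    exact Int.associated_natAbs d
  rw [hIJ, hJ, Ideal.map_span, Set.image_singleton]
  simp
  rfl

theorem result (p n : ℕ) [Fact p.Prime]
    (H : Type u) [AddCommGroup H] [Module (ZMod (p ^ n)) H] :
    Module.Flat (ZMod (p ^ n)) H ↔
      ∀ i : ℕ, i ≤ n →
        LinearMap.ker ((p ^ i : ZMod (p ^ n)) • (LinearMap.id : H →ₗ[ZMod (p ^ n)] H)) =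
          LinearMap.range ((p ^ (n - i) : ZMod (p ^ n)) • (LinearMap.id : H →ₗ[ZMod (p ^ n)] H)) := by
  classical
  have hp : p.Prime := Fact.out
  have : NeZero (p ^ n) := ⟨pow_ne_zero _ hp.ne_zero⟩
  have hpn : ((p : ZMod (p ^ n))) ^ n = 0 := by
    rw [← Nat.cast_pow]
    exact ZMod.natCast_self _
  have h3 : ∀ i ≤ n, ∀ a : ZMod (p ^ n), (p : ZMod (p ^ n)) ^ i * a = 0 →
      ∃ b : ZMod (p ^ n), a = (p : ZMod (p ^ n)) ^ (n - i) * b := by
    intro i hi a ha
    obtain ⟨m, rfl⟩ : ∃ m : ℕ, (m : ZMod (p ^ n)) = a := ⟨a.val, ZMod.natCast_zmod_val a⟩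
    rw [← Nat.cast_pow, ← Nat.cast_mul, ZMod.natCast_eq_zero_iff] at ha
    have hdvd : p ^ (n - i) ∣ m := by
      have e : p ^ n = p ^ i * p ^ (n - i) := by rw [← pow_add, Nat.add_sub_cancel' hi]
      rw [e] at ha
      exact (Nat.mul_dvd_mul_iff_left (pow_pos hp.pos i)).1 ha
    obtain ⟨c, rfl⟩ := hdvd
    exact ⟨c, by push_cast; ring⟩
  constructor
  · intro hflat i hi
    ext h
    simp only [LinearMap.mem_ker, LinearMap.smul_apply, LinearMap.id_apply, LinearMap.mem_range]
    constructor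
    · intro hh
      have hrel : ∑ j : Fin 1, (fun _ => (p : ZMod (p ^ n)) ^ i) j • (fun _ => h) j = 0 := by
        simpa using hh
      obtain ⟨k, a, y, hy, ha⟩ := Module.Flat.isTrivialRelation_of_sum_smul_eq_zero hrel
      have ha' : ∀ j, (p : ZMod (p ^ n)) ^ i * a 0 j = 0 := by
        intro j
        simpa using ha j
      choose b hb using fun j => h3 i hi (a 0 j) (ha' j)
      refine ⟨∑ j, b j • y j, ?_⟩
      have hy0 : h = ∑ j, a 0 j • y j := hy 0
      rw [hy0, Finset.smul_sum]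
      refine Finset.sum_congr rfl fun j _ => ?_
      rw [smul_smul, ← hb j]
    · rintro ⟨h', rfl⟩
      rw [smul_smul, ← pow_add, Nat.add_sub_cancel' hi, hpn, zero_smul]
  · intro hcond
    rw [Module.Flat.iff_rTensor_injective']
    intro I
    obtain ⟨i, hi, rfl⟩ := ideal_eq_span_pow p n hp I
    set x : (Ideal.span {((p : ZMod (p ^ n)) ^ i)} : Ideal (ZMod (p ^ n))) :=
      ⟨(p : ZMod (p ^ n)) ^ i, Ideal.mem_span_singleton_self _⟩ with hx
    have hrep : ∀ t : (Ideal.span {((p : ZMod (p ^ n)) ^ i)} : Ideal (ZMod (p ^ n))) ⊗[ZMod (p ^ n)] H,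
        ∃ h : H, t = x ⊗ₜ[ZMod (p ^ n)] h := by
      intro t
      induction t using TensorProduct.induction_on with
      | zero => exact ⟨0, by simp⟩
      | tmul y h =>
        obtain ⟨y, hy⟩ := y
        obtain ⟨r, rfl⟩ := Ideal.mem_span_singleton'.1 hy
        refine ⟨r • h, ?_⟩
        rw [TensorProduct.tmul_smul, TensorProduct.smul_tmul']
        congr 1
      | add t t' ih ih' =>
        obtain ⟨h, rfl⟩ := ih
        obtain ⟨h', rfl⟩ := ih'
        exact ⟨h + h', by rw [TensorProduct.tmul_add]⟩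
    rw [injective_iff_map_eq_zero]
    intro t ht
    obtain ⟨h, rfl⟩ := hrep t
    simp only [LinearMap.rTensor_tmul, Submodule.subtype_apply] at ht
    have h0 : (p : ZMod (p ^ n)) ^ i • h = 0 := by
      have := congrArg (TensorProduct.lid (ZMod (p ^ n)) H) ht
      simpa [hx] using this
    have hmem : h ∈ LinearMap.ker (((p : ZMod (p ^ n)) ^ i) • (LinearMap.id : H →ₗ[ZMod (p ^ n)] H)) := by
      simpa using h0
    rw [hcond i hi] at hmem
    obtain ⟨h', rfl⟩ := hmem
    simp only [LinearMap.smul_apply, LinearMap.id_apply]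
    rw [TensorProduct.tmul_smul, TensorProduct.smul_tmul']
    have hz : ((p : ZMod (p ^ n)) ^ (n - i)) • x = 0 := by
      apply Subtype.ext
      simp [hx, ← pow_add, Nat.sub_add_cancel hi, hpn]
    rw [hz, TensorProduct.zero_tmul]

end Groth.Agent.S17500
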