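import Groth.Statements.S17526
import Groth.Agent.Lib.Helper59.LinRedAlg

set_option autoImplicit false
universe u
open GLin

namespace Groth.Agent.S17526

/-- Let `k` be a field, `H` a commutative Hopf algebra of finite type over `k` which is linearly
reductive (every finite-dimensional comodule is semisimple; `G = Spec H` is a linearly reductive
affine group), and `A` a Noetherian commutative `k`-algebra with a coaction of `H` that is an
algebra map (an action of `G` on `Spec A`). Then the ring of invariants `A^G` is Noetherian. (The
published corollary is stated over an algebraically closed field; it is the affine case of a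
statement about good moduli spaces valid over any field, and is stated here over any field.) -/
theorem result
    (k : Type u) [Field k] (H : Type u) [CommRing H] [HopfAlgebra k H] [Algebra.FiniteType k H]
    (hG : HopfRep.IsLinearlyReductive k H)
    (A : Type u) [CommRing A] [Algebra k A] [IsNoetherianRing A]
    [HopfRep.Comod k H A] [GLin.IsCoactAlg k H A] :
    IsNoetherianRing ↥(GLin.invariants k H A) := by
  classical
  obtain ⟨ER, hER⟩ := Groth.Agent.Lib.Helper59.LinRed.exists_isReynolds (k := k) (A := H) (V := A) hG
  have hmul : ∀ f g : A, HopfRep.Comod.coact (k := k) (A := H) (f * g) =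
      HopfRep.Comod.coact (k := k) (A := H) f * HopfRep.Comod.coact (k := k) (A := H) g :=
    GLin.IsCoactAlg.coact_mul (k := k)
  -- the Reynolds operator as a retraction linear over the invariants
  let E : A →ₗ[GLin.invariants k H A] GLin.invariants k H A :=
    { toFun := fun a => ⟨ER a, hER.apply_mem a⟩
      map_add' := fun x y => Subtype.ext (map_add ER x y)
      map_smul' := fun c x => by
        apply Subtype.ext
        simp only [RingHom.id_apply]
        have h1 : c • x = (c : A) * x := rfl
        rw [h1, hER.map_mul_of_mem' hG hmul c.2 x]
        rfl }
  have hE : ∀ c : GLin.invariants k H A, E (algebraMap (GLin.invariants k H A) A c) = c :=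
    fun c => Subtype.ext (hER.apply_of_mem c.2)
  have hcm : ∀ c : Ideal (GLin.invariants k H A),
      (c.map (algebraMap (GLin.invariants k H A) A)).comap (algebraMap (GLin.invariants k H A) A) = c := by
    intro c
    refine le_antisymm ?_ Ideal.le_comap_map
    intro x hx
    rw [Ideal.mem_comap] at hx
    have key : ∀ y ∈ c.map (algebraMap (GLin.invariants k H A) A), ∀ b : A, E (b * y) ∈ c := by
      intro y hy
      unfold Ideal.map at hy
      induction hy using Submodule.span_induction with
      | mem y hy =>
        obtain ⟨c₀, hc₀, rfl⟩ := hy
        intro b
        have : b * algebraMap (GLin.invariants k H A) A c₀ = c₀ • b := by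
          rw [Algebra.smul_def, mul_comm]
        rw [this, map_smul]
        exact c.mul_mem_right _ hc₀
      | zero => intro b; simp
      | add y z _ _ hy hz => intro b; rw [mul_add, map_add]; exact c.add_mem (hy b) (hz b)
      | smul b' y _ hy => intro b; rw [smul_eq_mul, ← mul_assoc]; exact hy (b * b')
    have := key _ hx 1
    rwa [one_mul, hE] at this
  have hinj : Function.Injective
      (Ideal.map (algebraMap (GLin.invariants k H A) A) : Ideal (GLin.invariants k H A) → Ideal A) := by
    intro c d hcd
    rw [← hcm c, ← hcm d, hcd]
  have hsm : StrictMono
      (Ideal.map (algebraMap (GLin.invariants k H A) A) : Ideal (GLin.invariants k H A) → Ideal A) :=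
    (show Monotone (Ideal.map (algebraMap (GLin.invariants k H A) A)) from
      fun _ _ hab => Ideal.map_mono hab).strictMono_of_injective hinj
  have hwf : WellFoundedGT (Ideal A) := (isNoetherian_iff'.mp (inferInstance : IsNoetherian A A))
  have : WellFoundedGT (Ideal (GLin.invariants k H A)) := hsm.wellFoundedGT
  exact isNoetherianRing_iff.mpr (isNoetherian_iff'.mpr this)

end Groth.Agent.S17526
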