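import Groth.Statements.S17534
import Mathlib
import Groth.Agent.Lib.Helper68.AffQuot
import Groth.Agent.Lib.Helper68.LinRedExact2
import Groth.Agent.Lib.Helper84.LinRedInt
import Groth.Agent.Lib.Helper84.LinRedKL

set_option autoImplicit false
universe u
open CategoryTheory MonoidalCategory CartesianMonoidalCategory AlgebraicGeometry
open HopfRep

namespace Groth.Agent.S17534

open TensorProduct Opposite MonObj in
open Groth.Agent.Lib.Helper68.AffQuot Groth.Agent.Lib.Helper68.LinRedExact2 WithConv CoactBr in
/-- ring-level assembly: the quotient square over an affine `Q ≅ Spec B` gives the fixed-vector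
criterion for `AH` from an integral on `AG`. -/
theorem cond_of_quotient {k : Type u} [Field k] {AG AH : Type u} [CommRing AG] [HopfAlgebra k AG]
    [CommRing AH] [HopfAlgebra k AH] (ψ : AG →ₐc[k] AH) (hψ : Function.Surjective ψ)
    {Q : Over (Spec (CommRingCat.of k))} (q : sp k AG ⟶ Q)
    (hpb : IsPullback (fst (sp k AG) (sp k AH))
      ((sp k AG ◁ pt (ψ : AG →ₐ[k] AH)) ≫ μ[sp k AG]) q q)
    {B : Type u} [CommRing B] [Algebra k B] (e : Q ≅ sp k B) (f : B →ₐ[k] AG)
    (hf : q ≫ e.hom = pt f) (hff : f.toRingHom.FaithfullyFlat)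
    (hG : Groth.Agent.Lib.Helper84.LinRedInt.HasIntegral k AG) :
    Groth.Agent.Lib.Helper84.LinRedKL.Cond k AH := by
  let S : AG →ₐ[k] AG := HopfAlgebra.antipodeAlgHom k AG
  let f' : B →ₐ[k] AG := S.comp f
  letI : Algebra B AG := f'.toRingHom.toAlgebra
  haveI : IsScalarTower k B AG := IsScalarTower.of_algebraMap_eq (fun x => (f'.commutes x).symm)
  have hSb : Function.Bijective (S : AG →+* AG) := by
    refine Function.bijective_iff_has_inverse.2 ⟨HopfAlgebra.antipode k, ?_, ?_⟩
    · intro a; exact Groth.Agent.Lib.Helper68.LinRedExact.antipode_antipode a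
    · intro a; exact Groth.Agent.Lib.Helper68.LinRedExact.antipode_antipode a
  haveI : Module.FaithfullyFlat B AG :=
    RingHom.FaithfullyFlat.stableUnderComposition _ _ hff (.of_bijective hSb)
  obtain ⟨et, het⟩ := exists_eta ψ q hpb e f hf (R' := AG ⊗[B] AG)
    ((inR (k := k) (B := B)).comp S) ((inL (k := k) (B := B)).comp S) (by
      apply AlgHom.ext
      intro b
      change (1 : AG) ⊗ₜ[B] (algebraMap B AG b) = (algebraMap B AG b) ⊗ₜ[B] (1 : AG)
      rw [Algebra.algebraMap_eq_smul_one, TensorProduct.tmul_smul, TensorProduct.smul_tmul'])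
  exact cond_of_torsor ψ hψ f (fun b => rfl) (lTensor_comul_f ψ q hpb e f hf) et het hG

/-- the `k`-algebra structure on the global sections of an affine `k`-scheme. -/
@[reducible] noncomputable def algQ (k : Type u) [Field k] (Q : Over (Spec (CommRingCat.of k)))
    [IsAffine Q.left] : Algebra k Γ(Q.left, ⊤) :=
  @AlgebraicGeometry.instAlgebraCarrierObjOppositeOpensCarrierCarrierCommRingCatPresheafOpOpensTopOfOverSpecOfIsAffine
    (CommRingCat.of k) Q.left _ _

/-- Let `k` be an algebraically closed field, `AG` a commutative Hopf algebra of finite type over `k`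
which is linearly reductive (every finite-dimensional comodule semisimple; `G = Spec AG`), `AH` a
commutative Hopf algebra of finite type and `ψ : AG → AH` a surjective bialgebra map, so that `H =
Spec AH → G` is a closed subgroup (assumed a homomorphism of group schemes), and let `q : G ⟶ Q`
present the `k`-scheme `Q` as the fppf quotient `G/H` (`q` surjective, flat and locally of finite
presentation, and the square with the projection and the multiplication `G × H → G` cartesian). If
`Q` is affine, then `H` is linearly reductive. (The direct direction — `Q` affine whenever `H` is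
linearly reductive — holds without hypothesis on `G`; together they form the published equivalence.) -/
theorem result
    (k : Type u) [Field k] [IsAlgClosed k]
    (AG AH : Type u) [CommRing AG] [HopfAlgebra k AG] [Algebra.FiniteType k AG]
    [CommRing AH] [HopfAlgebra k AH] [Algebra.FiniteType k AH]
    (hG : HopfRep.IsLinearlyReductive k AG)
    (ψ : AG →ₐc[k] AH) (hψ : Function.Surjective ψ)
    [IsMonHom (CoactBr.pt (ψ : AG →ₐ[k] AH))]
    (Q : Over (Spec (CommRingCat.of k))) (q : CoactBr.sp k AG ⟶ Q)
    (hq : RedSub.IsQuotient (CoactBr.pt (ψ : AG →ₐ[k] AH)) q) :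
    IsAffine Q.left → HopfRep.IsLinearlyReductive k AH := by
  intro hQ
  letI := algQ k Q
  let e : Q ≅ CoactBr.sp k Γ(Q.left, ⊤) := Q.left.isoSpec.asOver (Spec (CommRingCat.of k))
  obtain ⟨f, hf⟩ := Groth.Agent.Lib.Helper68.AffQuot.exists_pt_eq (q ≫ e.hom)
  obtain ⟨hs, hfl, -, hpb⟩ := hq
  have hff := Groth.Agent.Lib.Helper68.AffQuot.faithfullyFlat_f q e f hf.symm hs hfl
  apply Groth.Agent.Lib.Helper84.LinRedKL.isLinearlyReductive_of_cond
  exact cond_of_quotient ψ hψ q hpb e f hf.symm hff
    (Groth.Agent.Lib.Helper84.LinRedInt.isLinearlyReductive_iff_hasIntegral.1 hG)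

end Groth.Agent.S17534
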