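import Groth.Statements.S17543
import Mathlib
import Groth.Agent.Lib.Helper87.Decaying3

set_option autoImplicit false
universe u v w
open W4c5adicflatcompl
open CAlg

namespace Groth.Agent.S17543

open Groth.Agent.Lib.Helper87 TensorProduct

theorem result {A : Type u} [CommRing A] [IsNoetherianRing A] (I : Ideal A)
    [IsAdicComplete I A] (Z : Type v) (M : Type w) [AddCommGroup M] [Module A M]
    [Module.Finite A M] :
    Function.Injective
        ((TensorProduct.piScalarRightHom A A M Z) ∘ₗ ((decaying I Z A).subtype.lTensor M)) ∧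
      LinearMap.range
        ((TensorProduct.piScalarRightHom A A M Z) ∘ₗ ((decaying I Z A).subtype.lTensor M)) =
        decaying I Z M := by
  classical
  set Φ := (TensorProduct.piScalarRightHom A A M Z) ∘ₗ ((decaying I Z A).subtype.lTensor M) with hΦ
  have hΦt : ∀ (x : M) (g : decaying I Z A), Φ (x ⊗ₜ g) = fun z => (g : Z → A) z • x := by
    intro x g
    simp [hΦ]
  obtain ⟨r, m, hm⟩ := Module.Finite.exists_fin (R := A) (M := M)
  -- (1) every tensor is a combination of the generators
  have h1 : ∀ t : M ⊗[A] decaying I Z A, ∃ y : Fin r → decaying I Z A, t = ∑ j, m j ⊗ₜ y j := by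
    intro t
    induction t using TensorProduct.induction_on with
    | zero => exact ⟨0, by simp⟩
    | tmul x g =>
      have hx : x ∈ Submodule.span A (Set.range m) := hm ▸ Submodule.mem_top
      obtain ⟨c, rfl⟩ := (Submodule.mem_span_range_iff_exists_fun A).1 hx
      refine ⟨fun j => c j • g, ?_⟩
      rw [TensorProduct.sum_tmul]
      refine Finset.sum_congr rfl fun j _ => ?_
      rw [TensorProduct.smul_tmul]
    | add t t' ih ih' =>
      obtain ⟨y, rfl⟩ := ih
      obtain ⟨y', rfl⟩ := ih'
      refine ⟨y + y', ?_⟩
      simp [TensorProduct.tmul_add, Finset.sum_add_distrib]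
  -- (2) the value on such a combination
  have h2 : ∀ y : Fin r → decaying I Z A,
      Φ (∑ j, m j ⊗ₜ y j) = fun z => ∑ j, ((y j : decaying I Z A) : Z → A) z • m j := by
    intro y
    rw [map_sum]
    funext z
    simp [hΦt, Finset.sum_apply]
  -- the surjection `A^r → M`
  let π : (Fin r → A) →ₗ[A] M := Fintype.linearCombination A m
  have hπ : Function.Surjective π := by
    rw [← LinearMap.range_eq_top, Fintype.range_linearCombination]
    exact hm
  have hMH : IsHausdorff I M := IsHausdorff.of_le_jacobson I M (IsAdicComplete.le_jacobson_bot I)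
  constructor
  · -- injectivity
    rw [injective_iff_map_eq_zero]
    intro t ht
    obtain ⟨y, rfl⟩ := h1 t
    rw [h2] at ht
    have hK : ∀ z, (fun i => ((y i : decaying I Z A) : Z → A) z) ∈ LinearMap.ker π := by
      intro z
      have := congrFun ht z
      simpa [π, Fintype.linearCombination_apply] using this
    obtain ⟨k, w, c, hwK, hyc⟩ := exists_decaying_coeffs I (LinearMap.ker π) y hK
    have hw0 : ∀ j, ∑ i, w j i • m i = 0 := by
      intro j
      have := hwK j
      simpa [π, Fintype.linearCombination_apply] using this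
    calc ∑ i, m i ⊗ₜ[A] y i = ∑ i, m i ⊗ₜ[A] (∑ j, w j i • c j) := by
          refine Finset.sum_congr rfl fun i _ => by rw [hyc i]
      _ = ∑ i, ∑ j, (w j i • m i) ⊗ₜ[A] c j := by
          refine Finset.sum_congr rfl fun i _ => ?_
          rw [TensorProduct.tmul_sum]
          refine Finset.sum_congr rfl fun j _ => ?_
          rw [TensorProduct.tmul_smul, TensorProduct.smul_tmul']
      _ = ∑ j, (∑ i, w j i • m i) ⊗ₜ[A] c j := by
          rw [Finset.sum_comm]
          refine Finset.sum_congr rfl fun j _ => ?_
          rw [TensorProduct.sum_tmul]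
      _ = 0 := by
          simp [hw0]
  · -- range
    apply le_antisymm
    · rintro _ ⟨t, rfl⟩
      obtain ⟨y, rfl⟩ := h1 t
      rw [h2]
      intro n
      refine (Set.finite_iUnion fun j => (y j).2 n).subset ?_
      intro z hz
      simp only [Set.mem_ofPred_eq] at hz
      simp only [Set.mem_iUnion, Set.mem_ofPred_eq]
      by_contra hcon
      push Not at hcon
      apply hz
      refine Submodule.sum_mem _ fun j _ => Submodule.smul_mem_smul ?_ Submodule.mem_top
      rw [← smul_top_self]
      exact hcon j
    · intro h hh
      obtain ⟨Y, hYdec, hYh⟩ := exists_decaying_lift π hπ h hh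
      refine ⟨∑ j, m j ⊗ₜ (⟨fun z => Y z j, decaying_coord I hYdec j⟩ : decaying I Z A), ?_⟩
      rw [h2]
      funext z
      rw [← hYh z]
      simp [π, Fintype.linearCombination_apply]

end Groth.Agent.S17543
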