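import Groth.Statements.S17544
import Mathlib
import Groth.Agent.Lib.Helper87.Decaying

set_option autoImplicit false
universe u v w
open W4c5adicflatcompl
open CAlg

namespace Groth.Agent.S17544

/-- For a Noetherian ring A which is I-adically complete, a set Z and n ≥ 0, reduction modulo I^n maps
the decaying functions Z → A onto the finitely supported functions Z → A/I^n, and its kernel, the
decaying functions with all values in I^n, equals I^n times the module of decaying functions; so
(A/I^n) ⊗ F_dec(Z, A) → F_fin(Z, A/I^n) is bijective. -/
theorem result {A : Type u} [CommRing A] [IsNoetherianRing A]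
    (I : Ideal A) [IsAdicComplete I A] (Z : Type v) (n : ℕ) :
    (∀ g : Z →₀ A ⧸ I ^ n, ∃ f : decaying I Z A,
        ∀ z, Ideal.Quotient.mk (I ^ n) ((f : Z → A) z) = g z) ∧
      ∀ f : decaying I Z A,
        f ∈ (I ^ n • ⊤ : Submodule A (decaying I Z A)) ↔ ∀ z, (f : Z → A) z ∈ I ^ n := by
  classical
  have hsm : ∀ k : ℕ, (I ^ k • ⊤ : Submodule A A) = I ^ k := fun k => by
    rw [smul_eq_mul, Ideal.mul_top]
  constructor
  · intro g
    choose lift hlift using fun x : A ⧸ I ^ n => Ideal.Quotient.mk_surjective x
    refine ⟨⟨fun z => if z ∈ g.support then lift (g z) else 0, ?_⟩, ?_⟩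
    · intro k
      refine g.support.finite_toSet.subset ?_
      intro z hz
      by_contra hzs
      apply hz
      simp only [Finset.mem_coe] at hzs
      simp [hzs]
    · intro z
      by_cases hz : z ∈ g.support
      · simp [hz, hlift]
      · have : g z = 0 := by simpa using hz
        simp [hz, this]
  · intro f
    have hI : (I ^ n).FG := IsNoetherian.noetherian _
    rw [Groth.Agent.Lib.Helper87.mem_smul_top_iff_forall hI f]
    simp only [hsm]

end Groth.Agent.S17544
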