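import Groth.Statements.S17545
import Mathlib
import Groth.Agent.Lib.Helper87.Decaying2
import Groth.Agent.S17541

set_option autoImplicit false
universe u v
open W4c5adicflatcompl
open CAlg

namespace Groth.Agent.S17545

open Groth.Agent.Lib.Helper87

theorem result {A : Type u} [CommRing A] [IsNoetherianRing A]
    (I : Ideal A) [IsAdicComplete I A] (Z : Type v) :
    Module.Flat A (decaying I Z A) := by
  classical
  apply Module.Flat.of_forall_isTrivialRelation
  intro l f x hfx
  -- the kernel of `f`
  let F : (Fin l → A) →ₗ[A] A := Fintype.linearCombination A f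
  have hF : ∀ v : Fin l → A, F v = ∑ i, v i * f i := fun v => by
    simp [F, Fintype.linearCombination_apply, smul_eq_mul]
  let K : Submodule A (Fin l → A) := LinearMap.ker F
  have hKfg : K.FG := IsNoetherian.noetherian K
  obtain ⟨k, w, hw⟩ := Submodule.fg_iff_exists_fin_generating_family.1 hKfg
  have hwK : ∀ j, w j ∈ K := fun j => hw ▸ Submodule.subset_span ⟨j, rfl⟩
  -- the surjection `A^k → K`
  let π : (Fin k → A) →ₗ[A] K := Fintype.linearCombination A (fun j => (⟨w j, hwK j⟩ : K))
  have hπ : Function.Surjective π := by
    rw [← LinearMap.range_eq_top, Fintype.range_linearCombination]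
    apply Submodule.map_injective_of_injective K.subtype_injective
    rw [Submodule.map_span, Submodule.map_top, Submodule.range_subtype, ← Set.range_comp]
    exact hw
  -- the function `X : Z → K`
  have hXK : ∀ z, (fun i => ((x i : decaying I Z A) : Z → A) z) ∈ K := by
    intro z
    show F _ = 0
    rw [hF]
    have := congrArg (fun g : decaying I Z A => (g : Z → A) z) hfx
    simp only [Submodule.coe_sum, Submodule.coe_smul, Finset.sum_apply, Pi.smul_apply,
      smul_eq_mul, Submodule.coe_zero, Pi.zero_apply] at this
    rw [← this]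
    exact Finset.sum_congr rfl fun i _ => mul_comm _ _
  let X : Z → K := fun z => ⟨fun i => ((x i : decaying I Z A) : Z → A) z, hXK z⟩
  -- `X` is decaying in `A^l`
  have hsmA : ∀ n : ℕ, (I ^ n • ⊤ : Submodule A A) = I ^ n := fun n => by
    rw [smul_eq_mul, Ideal.mul_top]
  have hXdecM : (fun z => ((X z : K) : Fin l → A)) ∈ decaying I Z (Fin l → A) := by
    intro n
    refine (Set.finite_iUnion fun i => (x i).2 n).subset ?_
    intro z hz
    simp only [Set.mem_ofPred_eq] at hz
    simp only [Set.mem_iUnion, Set.mem_ofPred_eq]
    by_contra hcon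
    push Not at hcon
    apply hz
    have e : (fun i => ((x i : decaying I Z A) : Z → A) z) =
        ∑ i, ((x i : decaying I Z A) : Z → A) z • (Pi.single i (1 : A) : Fin l → A) := by
      funext i'
      simp [Finset.sum_apply, Pi.single_apply]
    show (fun i => ((x i : decaying I Z A) : Z → A) z) ∈ _
    rw [e]
    refine Submodule.sum_mem _ fun i _ => Submodule.smul_mem_smul ?_ Submodule.mem_top
    rw [← hsmA]
    exact hcon i
  have hXdec : X ∈ decaying I Z K := (Groth.Agent.S17541.result I Z (Fin l → A) K X).2 hXdecM
  -- lift to `A^k`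
  have hKfin : Module.Finite A K := Module.Finite.iff_fg.2 hKfg
  have hKH : IsHausdorff I K := IsHausdorff.of_le_jacobson I K (IsAdicComplete.le_jacobson_bot I)
  obtain ⟨Y, hYdec, hYX⟩ := exists_decaying_lift π hπ X hXdec
  have hydec : ∀ j, (fun z => Y z j) ∈ decaying I Z A := by
    intro j n
    refine (hYdec n).subset ?_
    intro z hz
    simp only [Set.mem_ofPred_eq] at hz ⊢
    exact fun h => hz (map_mem_smul_top (LinearMap.proj j : (Fin k → A) →ₗ[A] A) _ h)
  refine ⟨k, fun i j => w j i, fun j => ⟨fun z => Y z j, hydec j⟩, ?_, ?_⟩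
  · intro i
    apply Subtype.ext
    funext z
    have h1 := congrArg (fun v : K => (v : Fin l → A) i) (hYX z)
    simp only [π, Fintype.linearCombination_apply, X] at h1
    rw [← h1]
    simp [Finset.sum_apply, mul_comm]
  · intro j
    have := hwK j
    change F (w j) = 0 at this
    rw [hF] at this
    rw [← this]
    exact Finset.sum_congr rfl fun i _ => mul_comm _ _

end Groth.Agent.S17545
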