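import Groth.Statements.S17549
import Mathlib
import Groth.Agent.Lib.Helper87.DecayingUniv

set_option autoImplicit false
universe u
open W4c5adicflatcompl
open CAlg

namespace Groth.Agent.S17549

open Groth.Agent.Lib.Helper87

/-- a retract of an adically complete module is adically complete -/
theorem isAdicComplete_of_retract {A : Type u} [CommRing A] (I : Ideal A)
    {P D : Type*} [AddCommGroup P] [Module A P] [AddCommGroup D] [Module A D]
    [IsAdicComplete I D] (i : P →ₗ[A] D) (r : D →ₗ[A] P) (hri : r ∘ₗ i = LinearMap.id) :
    IsAdicComplete I P := by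
  have hri' : ∀ x, r (i x) = x := fun x => by
    have := LinearMap.congr_fun hri x
    simpa using this
  refine { toIsHausdorff := ⟨fun x hx => ?_⟩, toIsPrecomplete := ⟨fun s hs => ?_⟩ }
  · have h0 : i x = 0 := by
      apply IsHausdorff.haus (I := I) (M := D) inferInstance
      intro n
      rw [SModEq.zero]
      have := hx n
      rw [SModEq.zero] at this
      exact map_mem_smul_top i _ this
    rw [← hri' x, h0, map_zero]
  · obtain ⟨L, hL⟩ := IsPrecomplete.prec (I := I) (M := D) inferInstance (f := fun n => i (s n)) (by
      intro m n hmn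
      rw [SModEq.sub_mem, ← map_sub]
      exact map_mem_smul_top i _ ((SModEq.sub_mem).1 (hs hmn)))
    refine ⟨r L, fun n => ?_⟩
    rw [SModEq.sub_mem]
    have := map_mem_smul_top r _ ((SModEq.sub_mem).1 (hL n))
    rwa [map_sub, hri'] at this

theorem result {A : Type u} [CommRing A] [IsNoetherianRing A]
    (I : Ideal A) (P : Type u) [AddCommGroup P] [Module A P] :
    IsAdicProjective I P ↔
      ∃ (Z : Type u) (i : P →ₗ[A] decaying I Z (AdicCompletion I A))
        (r : decaying I Z (AdicCompletion I A) →ₗ[A] P), r ∘ₗ i = LinearMap.id := by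
  classical
  have hI : I.FG := IsNoetherian.noetherian I
  have hAhat : IsAdicComplete I (AdicCompletion I A) := AdicCompletion.isAdicComplete hI
  have hD : ∀ Z : Type u, IsAdicComplete I (decaying I Z (AdicCompletion I A)) :=
    fun Z => isAdicComplete_decaying hI
  constructor
  · rintro ⟨hP, hlift⟩
    have hsurj : Function.Surjective (decLift I (fun p : P => p)) := by
      intro p
      exact ⟨single I p 1, decLift_single I _ p⟩
    obtain ⟨χ, hχ⟩ := hlift (decaying I P (AdicCompletion I A)) P (hD P) hP
      (decLift I (fun p : P => p)) hsurj LinearMap.id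
    exact ⟨P, χ, decLift I (fun p : P => p), hχ⟩
  · rintro ⟨Z, i, r, hri⟩
    have := hD Z
    have hP : IsAdicComplete I P := isAdicComplete_of_retract I i r hri
    refine ⟨hP, ?_⟩
    intro M N _ _ _ _ hM hN φ hφ ψ
    choose m hm using fun z : Z => hφ ((ψ ∘ₗ r) (single I z (1 : AdicCompletion I A)))
    have hagree : φ ∘ₗ decLift I m = ψ ∘ₗ r := by
      apply decaying_hom_ext I
      intro z
      rw [LinearMap.comp_apply, decLift_single, hm z]
    refine ⟨decLift I m ∘ₗ i, ?_⟩
    rw [← LinearMap.comp_assoc, hagree, LinearMap.comp_assoc, hri, LinearMap.comp_id]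

end Groth.Agent.S17549
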