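import Groth.Statements.S17551
import Mathlib
import Groth.Agent.Lib.Helper87.Tower2
import Groth.Agent.Lib.Helper87.LocalBasis

set_option autoImplicit false
universe u
open W4c5adicflatcompl
open CAlg

namespace Groth.Agent.S17551

open Groth.Agent.Lib.Helper87 IsLocalRing

theorem result {A : Type u} [CommRing A] [IsNoetherianRing A] [IsLocalRing A]
    [IsAdicComplete (IsLocalRing.maximalIdeal A) A]
    (M : ℕ → Type u) [∀ n, AddCommGroup (M n)] [∀ n, Module A (M n)]
    [∀ n, Module (A ⧸ IsLocalRing.maximalIdeal A ^ (n + 1)) (M n)]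
    [∀ n, IsScalarTower A (A ⧸ IsLocalRing.maximalIdeal A ^ (n + 1)) (M n)]
    [∀ n, Module.Flat (A ⧸ IsLocalRing.maximalIdeal A ^ (n + 1)) (M n)]
    (ψ : ∀ n, M (n + 1) →ₗ[A] M n) (hψ : ∀ n, Function.Surjective (ψ n))
    (hker : ∀ n, LinearMap.ker (ψ n) =
      (IsLocalRing.maximalIdeal A ^ (n + 1) • ⊤ : Submodule A (M (n + 1)))) :
    IsAdicFree (IsLocalRing.maximalIdeal A) (sysLim M ψ) ∧
      ∀ n, Function.Surjective (sysProj M ψ n) ∧
        LinearMap.ker (sysProj M ψ n) =
          (IsLocalRing.maximalIdeal A ^ (n + 1) • ⊤ : Submodule A (sysLim M ψ)) := by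
  classical
  have hI : (maximalIdeal A).FG := IsNoetherian.noetherian (maximalIdeal A)
  -- `(maximalIdeal A) ^ (n + 1)` kills `M n`
  have hsm : ∀ (n : ℕ) (a : A) (x : M n), a • x = (Ideal.Quotient.mk ((maximalIdeal A) ^ (n + 1)) a) • x := by
    intro n a x
    rw [← Ideal.Quotient.algebraMap_eq, algebraMap_smul]
  have hkill : ∀ (n : ℕ) (a : A), a ∈ (maximalIdeal A) ^ (n + 1) → ∀ x : M n, a • x = 0 := by
    intro n a ha x
    rw [hsm, Ideal.Quotient.eq_zero_iff_mem.2 ha, zero_smul]
  have hsurjP : ∀ n, Function.Surjective (sysProj M ψ n) := sysProj_surjective hψ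
  have hkerP : ∀ n, LinearMap.ker (sysProj M ψ n) = ((maximalIdeal A) ^ (n + 1) • ⊤ : Submodule A (sysLim M ψ)) :=
    ker_sysProj_eq (maximalIdeal A) hkill hψ hker hI
  refine ⟨?_, fun n => ⟨hsurjP n, hkerP n⟩⟩
  have hcomp : IsAdicComplete (maximalIdeal A) (sysLim M ψ) := isAdicComplete_sysLim (maximalIdeal A) hkill hψ hker hI
  obtain ⟨Z, φ, hφsurj, hφmm⟩ := exists_surj_decaying (A := A) (sysLim M ψ)
  -- the kernel of `φ` lies in every power of `(maximalIdeal A)`
  have hK : ∀ n : ℕ, LinearMap.ker φ ≤ ((maximalIdeal A) ^ n • ⊤ : Submodule A (decaying (maximalIdeal A) Z A)) := by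
    intro n
    induction n with
    | zero => simp
    | succ n ih =>
      intro g hg
      have hg0 : φ g = 0 := hg
      obtain ⟨r, a, ha⟩ := Submodule.fg_iff_exists_fin_generating_family.1 (Ideal.FG.pow (n := n) hI)
      have ha' : Ideal.span (Set.range a) = (maximalIdeal A) ^ n := ha
      have hamem : ∀ i, a i ∈ (maximalIdeal A) ^ n := fun i => ha' ▸ Ideal.subset_span ⟨i, rfl⟩
      have hgn := ih hg
      rw [← ha'] at hgn
      obtain ⟨d, -, hgd⟩ := exists_sum_of_mem_span_smul a ⊤ hgn
      -- the relation in `M n`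
      have hrel : ∑ i, (Ideal.Quotient.mk ((maximalIdeal A) ^ (n + 1)) (a i)) • sysProj M ψ n (φ (d i)) = 0 := by
        have : sysProj M ψ n (φ g) = 0 := by rw [hg0, map_zero]
        rw [hgd, map_sum, map_sum] at this
        rw [← this]
        refine Finset.sum_congr rfl fun i _ => ?_
        rw [map_smul, map_smul, hsm]
      obtain ⟨k, b, y, hy, hb⟩ := Module.Flat.isTrivialRelation_of_sum_smul_eq_zero hrel
      have hy' : ∀ i, sysProj M ψ n (φ (d i)) = ∑ l, b i l • y l := hy
      choose bt hbt using fun i l => Ideal.Quotient.mk_surjective (I := (maximalIdeal A) ^ (n + 1)) (b i l)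
      choose e he using fun l => hφsurj ((hsurjP n (y l)).choose)
      have he' : ∀ l, sysProj M ψ n (φ (e l)) = y l := fun l => by
        rw [he l]
        exact (hsurjP n (y l)).choose_spec
      -- corrected elements
      have hd' : ∀ i, d i - ∑ l, bt i l • e l ∈ ((maximalIdeal A) • ⊤ : Submodule A (decaying (maximalIdeal A) Z A)) := by
        intro i
        apply hφmm
        have h1 : φ (d i - ∑ l, bt i l • e l) ∈ LinearMap.ker (sysProj M ψ n) := by
          rw [LinearMap.mem_ker, map_sub, map_sub, hy' i, map_sum, map_sum, sub_eq_zero]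
          refine Finset.sum_congr rfl fun l _ => ?_
          rw [map_smul, map_smul, he', hsm, hbt]
        rw [hkerP n] at h1
        exact Submodule.smul_mono (Ideal.pow_le_self (by omega)) le_rfl h1
      have hcoef : ∀ l, ∑ i, a i * bt i l ∈ (maximalIdeal A) ^ (n + 1) := by
        intro l
        rw [← Ideal.Quotient.eq_zero_iff_mem, map_sum, ← hb l]
        refine Finset.sum_congr rfl fun i _ => ?_
        rw [map_mul, hbt]
      have hg' : g = ∑ i, a i • (d i - ∑ l, bt i l • e l) + ∑ l, (∑ i, a i * bt i l) • e l := by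
        rw [hgd]
        simp only [smul_sub, Finset.sum_sub_distrib, Finset.smul_sum, smul_smul, Finset.sum_smul]
        rw [Finset.sum_comm (f := fun l i => (a i * bt i l) • e l)]
        abel
      rw [hg']
      refine Submodule.add_mem _ (Submodule.sum_mem _ fun i _ => ?_)
        (Submodule.sum_mem _ fun l _ => Submodule.smul_mem_smul (hcoef l) Submodule.mem_top)
      rw [pow_succ, Submodule.mul_smul]
      exact Submodule.smul_mem_smul (hamem i) (hd' i)
  have hDH : IsHausdorff (maximalIdeal A) (decaying (maximalIdeal A) Z A) := isHausdorff_decaying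
  have hinj : Function.Injective φ := by
    rw [← LinearMap.ker_eq_bot, eq_bot_iff]
    intro g hg
    rw [Submodule.mem_bot]
    apply IsHausdorff.haus (I := (maximalIdeal A)) hDH
    intro n
    rw [SModEq.zero]
    exact hK n hg
  let eA : A ≃ₗ[A] AdicCompletion (maximalIdeal A) A := AdicCompletion.ofLinearEquiv (maximalIdeal A) A
  exact ⟨Z, ⟨(LinearEquiv.ofBijective φ ⟨hinj, hφsurj⟩).symm.trans (decayingCongr (maximalIdeal A) Z eA)⟩⟩

end Groth.Agent.S17551
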