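import Groth.Statements.S17552
import Mathlib
import Groth.Agent.Lib.Helper87.FlatKer
import Groth.Agent.Lib.Helper87.AdicSum
import Groth.Agent.S17540
import Groth.Agent.S17545
import Groth.Agent.S17549
import Groth.Agent.S17553

set_option autoImplicit false
universe u
open W4c5adicflatcompl
open CAlg

namespace Groth.Agent.S17552

open Groth.Agent.Lib.Helper87 IsLocalRing

/-- the backward direction: a flat complete module over a complete Noetherian local ring is
isomorphic to a module of decaying functions `Z → A`. -/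
theorem exists_equiv_decaying {A : Type u} [CommRing A] [IsNoetherianRing A] [IsLocalRing A]
    [IsAdicComplete (maximalIdeal A) A]
    (M : Type u) [AddCommGroup M] [Module A M] [Module.Flat A M]
    [IsAdicComplete (maximalIdeal A) M] :
    ∃ Z : Type u, Nonempty (decaying (maximalIdeal A) Z A ≃ₗ[A] M) := by
  classical
  set 𝔪 := maximalIdeal A with h𝔪
  have hI : 𝔪.FG := IsNoetherian.noetherian 𝔪
  -- the quotient `M / 𝔪 M` as a vector space over the residue field
  let _ : Field (A ⧸ 𝔪) := Ideal.Quotient.field 𝔪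
  let k := A ⧸ 𝔪
  let Q := M ⧸ (𝔪 • ⊤ : Submodule A M)
  have hsmul : ∀ (a : A) (q : Q), (Ideal.Quotient.mk 𝔪 a : k) • q = a • q := by
    intro a q
    obtain ⟨x, rfl⟩ := Submodule.Quotient.mk_surjective _ q
    rfl
  let b := Module.Basis.ofVectorSpace k Q
  let Z := Module.Basis.ofVectorSpaceIndex k Q
  -- lifts of the basis
  choose m hm using fun z : Z => Submodule.Quotient.mk_surjective (𝔪 • ⊤ : Submodule A M) (b z)
  -- (ii) linear independence modulo `𝔪`
  have hindep : ∀ (S : Finset Z) (c : Z → A), (∑ z ∈ S, c z • m z) ∈ (𝔪 • ⊤ : Submodule A M) →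
      ∀ z ∈ S, c z ∈ 𝔪 := by
    intro S c hc z hz
    have h0 : ∑ z ∈ S, (Ideal.Quotient.mk 𝔪 (c z) : k) • b z = 0 := by
      have := (Submodule.Quotient.mk_eq_zero (𝔪 • ⊤ : Submodule A M)).2 hc
      rw [← Submodule.mkQ_apply, map_sum] at this
      rw [← this]
      refine Finset.sum_congr rfl fun z _ => ?_
      rw [hsmul, map_smul, Submodule.mkQ_apply, hm]
    have := linearIndependent_iff'.1 b.linearIndependent S (fun z => (Ideal.Quotient.mk 𝔪 (c z) : k)) h0 z hz
    exact Ideal.Quotient.eq_zero_iff_mem.1 this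
  -- (i) spanning modulo `𝔪`
  have hspan : Submodule.span A (Set.range m) ⊔ 𝔪 • ⊤ = ⊤ := by
    rw [sup_comm, ← Submodule.map_mkQ_eq_top, Submodule.map_span, ← Set.range_comp]
    have h1 : (⇑(𝔪 • ⊤ : Submodule A M).mkQ ∘ m) = b := by
      funext z
      exact hm z
    rw [h1]
    have h2 := Submodule.restrictScalars_span A k (Ideal.Quotient.mk_surjective (I := 𝔪)) (Set.range b) (M := Q)
    rw [← h2, b.span_eq]
    rfl
  -- the map
  obtain ⟨φ, hφ⟩ := Groth.Agent.S17553.result 𝔪 Z M m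
  have hφsum : ∀ g : decaying 𝔪 Z A, IsAdicSum 𝔪 (fun z => (g : Z → A) z • m z) (φ g) :=
    fun g n => hφ g n
  -- surjectivity
  have hsurj : Function.Surjective φ := by
    intro x
    obtain ⟨g, hgdec, hg⟩ := Groth.Agent.S17540.aux 𝔪 M Z m hspan x
    exact ⟨⟨g, hgdec⟩, IsAdicSum.unique (hφsum ⟨g, hgdec⟩) hg⟩
  -- the kernel lies in `𝔪 • ⊤`
  have hK1 : LinearMap.ker φ ≤ (𝔪 • ⊤ : Submodule A (decaying 𝔪 Z A)) := by
    intro g hg
    have hg0 : φ g = 0 := hg
    obtain ⟨S, hS1, hS2⟩ := hφ g 1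
    rw [hg0, zero_sub, pow_one, Submodule.neg_mem_iff] at hS2
    rw [pow_one] at hS1
    have hall : ∀ z, (g : Z → A) z ∈ 𝔪 := by
      intro z
      by_cases hz : z ∈ S
      · exact hindep S _ hS2 z hz
      · have := hS1 z hz
        exact hindep {z} (fun z => (g : Z → A) z) (by simpa using this) z (by simp)
    have := mem_smul_top_of_forall (I := 𝔪) (n := 1) (by simpa using hI) g
      (fun z => by rw [pow_one, smul_eq_mul, Ideal.mul_top]; exact hall z)
    simpa using this
  -- flatness: `K ≤ 𝔪 • K`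
  have hK2 : LinearMap.ker φ ≤ 𝔪 • LinearMap.ker φ := by
    intro g hg
    exact ker_inf_smul_top_le φ hsurj 𝔪 hI ⟨hg, hK1 hg⟩
  have hK3 : ∀ n : ℕ, LinearMap.ker φ ≤ 𝔪 ^ n • LinearMap.ker φ := by
    intro n
    induction n with
    | zero => simp
    | succ n ih =>
      calc LinearMap.ker φ ≤ 𝔪 • LinearMap.ker φ := hK2
        _ ≤ 𝔪 • (𝔪 ^ n • LinearMap.ker φ) := Submodule.smul_mono le_rfl ih
        _ = 𝔪 ^ (n + 1) • LinearMap.ker φ := by rw [← Submodule.mul_smul, ← pow_succ']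
  have hDH : IsHausdorff 𝔪 (decaying 𝔪 Z A) := isHausdorff_decaying
  have hinj : Function.Injective φ := by
    rw [← LinearMap.ker_eq_bot, eq_bot_iff]
    intro g hg
    rw [Submodule.mem_bot]
    apply IsHausdorff.haus (I := 𝔪) hDH
    intro n
    rw [SModEq.zero]
    exact Submodule.smul_mono le_rfl le_top (hK3 n hg)
  exact ⟨Z, ⟨LinearEquiv.ofBijective φ ⟨hinj, hsurj⟩⟩⟩

theorem result {A : Type u} [CommRing A] [IsNoetherianRing A] [IsLocalRing A]
    [IsAdicComplete (IsLocalRing.maximalIdeal A) A]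
    (M : Type u) [AddCommGroup M] [Module A M] :
    IsAdicFree (IsLocalRing.maximalIdeal A) M ↔
      Module.Flat A M ∧ IsAdicComplete (IsLocalRing.maximalIdeal A) M := by
  set 𝔪 := maximalIdeal A with h𝔪
  have hI : 𝔪.FG := IsNoetherian.noetherian 𝔪
  have hAhat : IsAdicComplete 𝔪 (AdicCompletion 𝔪 A) := AdicCompletion.isAdicComplete hI
  let eA : A ≃ₗ[A] AdicCompletion 𝔪 A := AdicCompletion.ofLinearEquiv 𝔪 A
  constructor
  · rintro ⟨Z, ⟨e⟩⟩
    constructor
    · have h1 : Module.Flat A (decaying 𝔪 Z A) := Groth.Agent.S17545.result 𝔪 Z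
      exact Module.Flat.of_linearEquiv (e.trans (decayingCongr 𝔪 Z eA).symm)
    · have h2 : IsAdicComplete 𝔪 (decaying 𝔪 Z (AdicCompletion 𝔪 A)) := isAdicComplete_decaying hI
      exact Groth.Agent.S17549.isAdicComplete_of_retract 𝔪 e.toLinearMap e.symm.toLinearMap
        (by ext x; simp)
  · rintro ⟨hflat, hcomp⟩
    obtain ⟨Z, ⟨e⟩⟩ := exists_equiv_decaying (A := A) M
    exact ⟨Z, ⟨e.symm.trans (decayingCongr 𝔪 Z eA)⟩⟩

end Groth.Agent.S17552
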