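import Groth.Statements.S6484
import Mathlib

set_option autoImplicit false
universe u
open CategoryTheory AlgebraicGeometry
open CategoryTheory.Limits
open Cyc

namespace Groth.Agent.S6484

/-- If f : Y → X is completely decomposed (this prelude's Cyc.IsCompletelyDecomposed: over every point
of X lies a point of Y with trivial residue field extension) and g : X' → X is any morphism of
schemes, then the base change Y ×_X X' → X' is completely decomposed. Consequently the base change
of an envelope (a proper completely decomposed morphism) is an envelope, properness being preserved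
by base change. (The published envelope statement takes X′ → X between schemes locally of finite
type over a base; this row allows any g.) -/
theorem result (X X' Y : Scheme.{u}) (f : Y ⟶ X) (g : X' ⟶ X) (hcd : Cyc.IsCompletelyDecomposed f) : Cyc.IsCompletelyDecomposed (pullback.snd f g) := by
  intro x'
  obtain ⟨y, hy, hs⟩ := hcd (g x')
  -- the residue field map at y is an isomorphism
  have hbij : Function.Bijective (f.residueFieldMap y).hom :=
    ⟨(f.residueFieldMap y).hom.injective, hs⟩
  have hiso : IsIso (f.residueFieldMap y) := by
    rw [ConcreteCategory.isIso_iff_bijective]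
    exact hbij
  let K : Type u := X'.residueField x'
  let ψ : Y.residueField y ⟶ X.residueField (f y) := inv (f.residueFieldMap y)
  let b : Spec (X'.residueField x') ⟶ Y :=
    Spec.map (ψ ≫ (X.residueFieldCongr hy).hom ≫ g.residueFieldMap x') ≫
      Y.fromSpecResidueField y
  have hcomm : b ≫ f = X'.fromSpecResidueField x' ≫ g := by
    simp only [b, Category.assoc]
    rw [← Scheme.Hom.SpecMap_residueFieldMap_fromSpecResidueField f y,
      ← Spec.map_comp_assoc]
    simp only [ψ, IsIso.hom_inv_id_assoc]
    rw [Spec.map_comp_assoc, Scheme.residueFieldCongr_fromSpecResidueField,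
      Scheme.Hom.SpecMap_residueFieldMap_fromSpecResidueField]
  let l : Spec (CommRingCat.of K) ⟶ pullback f g := pullback.lift b (X'.fromSpecResidueField x') hcomm
  have hl : l ≫ pullback.snd f g = X'.fromSpecResidueField x' := pullback.lift_snd _ _ _
  refine ⟨l (IsLocalRing.closedPoint K), ?_, ?_⟩
  · change (l ≫ pullback.snd f g) _ = x'
    have := Scheme.fromSpecResidueField_apply x' (IsLocalRing.closedPoint K)
    rw [← hl] at this
    exact this
  · have h1 := Scheme.descResidueField_stalkClosedPointTo_comp (f := pullback.snd f g) l
    have h2 : Scheme.SpecToEquivOfField K X' (l ≫ pullback.snd f g) =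
        ⟨x', 𝟙 _⟩ := by
      rw [hl]
      have := (Scheme.SpecToEquivOfField K X').apply_symm_apply ⟨x', 𝟙 _⟩
      simp only [Scheme.SpecToEquivOfField_symm_apply, Spec.map_id] at this
      exact this
    rw [Scheme.SpecToEquivOfField_eq_iff] at h2
    obtain ⟨e, he⟩ := h2
    simp only [Scheme.SpecToEquivOfField_apply_snd, Category.comp_id] at he
    have h1' := h1.symm.trans he
    intro z
    set φ := Scheme.descResidueField (Scheme.stalkClosedPointTo l) with hφ
    refine ⟨(X'.residueFieldCongr e).inv (φ z), ?_⟩
    apply φ.hom.injective
    have h3 := congrArg (fun m => m.hom ((X'.residueFieldCongr e).inv (φ z))) h1'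
    refine h3.trans ?_
    exact Iso.inv_hom_id_apply (X'.residueFieldCongr e) _

end Groth.Agent.S6484
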