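import Groth.Statements.S17576
import Mathlib
import Groth.Agent.Lib.Helper71.PushRatJ
import Groth.Agent.S6484

set_option autoImplicit false
universe u
open CategoryTheory AlgebraicGeometry
open Bivar

namespace Groth.Agent.S17576

-- HELPERS BEGIN
open Groth.Agent.Lib.Helper71.PushRat CategoryTheory.Limits
-- HELPERS END


/-- Let f : X → Y be locally of finite type, g : Y' → Y an envelope (a proper, completely decomposed
morphism: over every point of Y lies a point of Y' with trivial residue field extension) and X' = Y'
×_Y X. Then a bivariant class c ∈ A^p(X → Y) is determined by its restriction res(c) ∈ A^p(X' → Y'):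
two classes with the same restriction along the square (g, X') are equal. (The existence part — a
class c' on X' → Y' whose two restrictions to X' ×_X X' → Y' ×_Y Y' agree descends — is not stated
here.) Here a pair (X, δ) with Cyc.IsSetup plays the role of a scheme locally of finite type over
the base (S, δ) (X locally Noetherian with universally catenary local rings, δ a dimension
function), Cyc.DeltaCompat records that a dimension function is the induced one, and bivariant
classes are taken in the operational sense of the prelude: additive operations on the Chow groups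
CH_k (k-cycles modulo rational equivalence) of all test schemes, compatible with proper pushforward,
flat pullback and the Gysin maps of zero schemes of sections of invertible modules in representative
form (Bivar.Cl for A^p(X → Y), Bivar.OpCl for A^p(X)). -/
theorem result (X Y : Scheme.{u}) (δX : X → ℤ) (δY : Y → ℤ) (hX : Cyc.IsSetup X δX) (hY : Cyc.IsSetup Y δY) (f : X ⟶ Y) [LocallyOfFiniteType f] (hδ : Cyc.DeltaCompat f δX δY) (p : ℤ) (s₀ : Bivar.Sq f δX δY) [IsProper s₀.g] (hcd : Cyc.IsCompletelyDecomposed s₀.g) (c₁ c₂ : Bivar.Cl p f δX δY) (heq : c₁.res s₀ = c₂.res s₀) : c₁ = c₂ := by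
  apply Bivar.Cl.ext
  funext s k
  have := s.lft
  have := s₀.lft
  have hcond : pullback.fst s₀.g s.g ≫ s₀.g = pullback.snd s₀.g s.g ≫ s.g := pullback.condition
  have hcd_h : Cyc.IsCompletelyDecomposed (pullback.snd s₀.g s.g) :=
    Groth.Agent.S6484.result _ _ _ s₀.g s.g hcd
  obtain ⟨δ₁, hδ₁⟩ := exists_deltaCompat (pullback.fst s₀.g s.g ≫ s₀.g) δY
  have hδ₁0 : Cyc.DeltaCompat (pullback.fst s₀.g s.g) δ₁ s₀.δY' :=
    deltaCompat_of_comp _ s₀.g δ₁ s₀.δY' δY hδ₁ s₀.compatY
  have : LocallyOfFiniteType (pullback.snd (pullback.fst s₀.g s.g) s₀.f') :=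
    inferInstance
  obtain ⟨δX₁, hδX₁⟩ := exists_deltaCompat (pullback.snd (pullback.fst s₀.g s.g) s₀.f') s₀.δX'
  let t' : Bivar.Sq s₀.f' s₀.δX' s₀.δY' :=
    { Y' := pullback s₀.g s.g
      X' := pullback (pullback.fst s₀.g s.g) s₀.f'
      g := pullback.fst s₀.g s.g
      f' := pullback.fst (pullback.fst s₀.g s.g) s₀.f'
      g' := pullback.snd (pullback.fst s₀.g s.g) s₀.f'
      isPullback := IsPullback.of_hasPullback _ _
      lft := inferInstance
      δY' := δ₁
      δX' := δX₁
      compatY := hδ₁0
      compatX := hδX₁ }
  have heq' : c₁.op (s₀.paste t') k = c₂.op (s₀.paste t') k :=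
    congrArg (fun c => c.op t' k) heq
  exact op_eq_of_envelope hX hY c₁ c₂ s (s₀.paste t') (pullback.snd s₀.g s.g) hcd_h hcond.symm k heq'

end Groth.Agent.S17576
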