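import Groth.Statements.S17577
import Mathlib
import Groth.Agent.Lib.Helper71.PushRatO

set_option autoImplicit false
universe u
open CategoryTheory AlgebraicGeometry
open Bivar

namespace Groth.Agent.S17577

-- HELPERS BEGIN
open Groth.Agent.Lib.Helper71.PushRat CategoryTheory.Limits

theorem residueFieldMap_surjective_of_isIso_stalkMap {A B : Scheme.{u}} (g : A ⟶ B) (x : A)
    [IsIso (g.stalkMap x)] : Function.Surjective (g.residueFieldMap x).hom := by
  intro z
  obtain ⟨a, rfl⟩ := Scheme.residue_surjective A x z
  obtain ⟨b, rfl⟩ := (ConcreteCategory.bijective_of_isIso (g.stalkMap x)).2 a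
  refine ⟨(B.residue (g x)).hom b, ?_⟩
  have h := Scheme.residue_residueFieldMap g x
  exact congr(($h).hom b)
-- HELPERS END


/-- (3) ⇒ (1): let f : X → Y be locally of finite type and c ∈ A^p(X → Y) a bivariant class. Suppose
that for every cartesian square whose test scheme Y' is integral (Y' → Y locally of finite type, X'
= Y' ×_Y X) there is a proper birational morphism Y'' → Y' (Y'' irreducible, not necessarily
reduced, its generic point mapping to the generic point of Y' with an isomorphism of local rings
there) such that c ∩ [Y''] = 0 in CH_*(X''), where X'' = Y'' ×_Y X and [Y''] is the cycle with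
coefficient 1 at the generic point of Y'' and 0 elsewhere. Then c = 0. Taking Y'' = Y' shows in
particular that c vanishes as soon as c ∩ [Y'] = 0 for every such square with Y' integral. The
squares are the prelude's Bivar.Sq (any fibre products), the second one pasted onto the first. Here
a pair (X, δ) with Cyc.IsSetup plays the role of a scheme locally of finite type over the base (S,
δ) (X locally Noetherian with universally catenary local rings, δ a dimension function),
Cyc.DeltaCompat records that a dimension function is the induced one, and bivariant classes are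
taken in the operational sense of the prelude: additive operations on the Chow groups CH_k (k-cycles
modulo rational equivalence) of all test schemes, compatible with proper pushforward, flat pullback
and the Gysin maps of zero schemes of sections of invertible modules in representative form
(Bivar.Cl for A^p(X → Y), Bivar.OpCl for A^p(X)). -/
theorem result (X Y : Scheme.{u}) (δX : X → ℤ) (δY : Y → ℤ) (hX : Cyc.IsSetup X δX) (hY : Cyc.IsSetup Y δY) (f : X ⟶ Y) [LocallyOfFiniteType f] (hδ : Cyc.DeltaCompat f δX δY) (p : ℤ) (c : Bivar.Cl p f δX δY) (h3 : ∀ (s : Bivar.Sq f δX δY) [AlgebraicGeometry.IsIntegral s.Y'], ∃ (t : Bivar.Sq s.f' s.δX' s.δY') (_ : IrreducibleSpace t.Y') (_ : IsProper t.g), t.g (genericPoint t.Y') = genericPoint s.Y' ∧ IsIso (t.g.stalkMap (genericPoint t.Y')) ∧ ∀ (k : ℤ) (α : AlgebraicCycle t.Y' ℤ) (hα : α ∈ Cyc.Zk t.Y' t.δY' k), α (genericPoint t.Y') = 1 → (∀ y : t.Y', y ≠ genericPoint t.Y' → α y = 0) → c.op (s.paste t) k (ChowOps.cl α hα) = 0) : c = 0 := by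
  apply Bivar.Cl.ext
  funext s k
  apply AddMonoidHom.ext
  intro a
  obtain ⟨α, hα, rfl⟩ := Bivar.exists_rep a
  rw [Bivar.Cl.zero_op, AddMonoidHom.zero_apply]
  refine op_eq_zero_of_ptData hX hY c s k α hα ?_
  intro y _
  have := s.lft
  have : LocallyOfFiniteType (pullback.snd (clι y) s.f') := inferInstance
  obtain ⟨δXW, hδXW⟩ := exists_deltaCompat (pullback.snd (clι y) s.f') s.δX'
  let tW : Bivar.Sq s.f' s.δX' s.δY' :=
    { Y' := clSub y
      X' := pullback (clι y) s.f'
      g := clι y
      f' := pullback.fst _ _
      g' := pullback.snd _ _
      isPullback := IsPullback.of_hasPullback _ _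
      lft := inferInstance
      δY' := fun w => s.δY' (clι y w)
      δX' := δXW
      compatY := ci_deltaCompat (clι y) s.δY'
      compatX := hδXW }
  have : IsIntegral (s.paste tW).Y' := isIntegral_clSub y
  obtain ⟨t, hirr, hprop, hgen, hiso, hzero⟩ := h3 (s.paste tW)
  have := hirr
  have := hprop
  have := hiso
  refine ⟨{ S := (s.paste tW).paste t
            G := t.g ≫ clι y
            proper := inferInstance
            w := ?_
            gen := ?_
            surj := ?_
            zero := hzero }⟩
  · exact Category.assoc _ _ _
  · rw [Scheme.Hom.comp_apply]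
    change (clι y) (t.g (genericPoint t.Y')) = y
    rw [hgen]
    exact genericPoint_clSub y
  · have h1 : Function.Surjective (t.g.residueFieldMap (genericPoint t.Y')).hom :=
      residueFieldMap_surjective_of_isIso_stalkMap t.g (genericPoint t.Y')
    have h2 : Function.Surjective ((clι y).residueFieldMap (t.g (genericPoint t.Y'))).hom :=
      (ci_residueFieldMap_bijective (clι y) _).2
    have h3 := Scheme.residueFieldMap_comp t.g (clι y) (genericPoint t.Y')
    change Function.Surjective ((t.g ≫ clι y).residueFieldMap (genericPoint t.Y')).hom
    rw [h3]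
    exact h1.comp h2

end Groth.Agent.S17577
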