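import Groth.Statements.S17583
import Groth.Agent.Lib.Helper20.PullbackUnit
import Groth.Agent.Lib.Helper45.Dev.SerreVanish

set_option autoImplicit false
open CategoryTheory CategoryTheory.Limits AlgebraicGeometry
open PosLin

namespace Groth.Agent.S17583

/-- Let X and Y each be a projective variety over the complex numbers (an integral scheme, proper over
ℂ, with an ample invertible module), and let f : X → Y be an algebraic fibre space: a surjective
morphism over ℂ such that the canonical map O_Y → f_*O_X is an isomorphism. Then for every
invertible O_Y-module L the unit L → f_* f^* L of the pullback–pushforward adjunction is an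
isomorphism; taking global sections, H^0(X, f^*L) = H^0(Y, L) (the printed statement is this
equality for the powers L^⊗m, m > 0, and adds the equality of Iitaka dimensions, which is not stated
here). -/
theorem result (X : Scheme.{0}) [X.Over (Spec (CommRingCat.of ℂ))] [IsIntegral X] [IsProper (X ↘ Spec (CommRingCat.of ℂ))]
    (HX : X.Modules) (hHX : CohB1.IsAmple HX)
    (Y : Scheme.{0}) [Y.Over (Spec (CommRingCat.of ℂ))] [IsIntegral Y] [IsProper (Y ↘ Spec (CommRingCat.of ℂ))]
    (HY : Y.Modules) (hHY : CohB1.IsAmple HY)
    (f : X ⟶ Y) (hf : f ≫ (Y ↘ Spec (CommRingCat.of ℂ)) = X ↘ Spec (CommRingCat.of ℂ)) [Surjective f]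
    (hfs : IsIso (ClSub.unitToPush f))
    (L : Y.Modules) (hL : PicF.IsInvertible L) :
    IsIso ((Scheme.Modules.pullbackPushforwardAdjunction f).unit.app L) := by
  have hb : ∀ V : Y.Opens, Function.Bijective (f.app V) := by
    intro V
    have h1 : IsIso ((ClSub.unitToPush f).app V) :=
      Scheme.Modules.Hom.isIso_iff_isIso_app.mp hfs V
    have h2 : Function.Bijective ((ClSub.unitToPush f).app V) :=
      (ConcreteCategory.isIso_iff_bijective _).mp h1
    exact h2
  exact Groth.Agent.Lib.Helper20.PullbackUnit.isIso_unit_of_isFinLocFree f hb L
    (Groth.Agent.Lib.Helper45.SerreVanish.isFinLocFree_of_isInvertible hL)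

end Groth.Agent.S17583
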