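import Groth.Statements.S17584
import Groth.Agent.Lib.Helper97.NormalSch
-- import your own Groth.Agent.* helpers here

set_option autoImplicit false
open CategoryTheory CategoryTheory.Limits AlgebraicGeometry
open PosLin

namespace Groth.Agent.S17584

/-- Let X and Y each be a projective variety over the complex numbers (an integral scheme, proper over
ℂ, with an ample invertible module), and f : X → Y an algebraic fibre space (a surjective morphism
over ℂ with O_Y → f_*O_X an isomorphism). If X is normal, then Y is normal. -/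
theorem result (X : Scheme.{0}) [X.Over (Spec (CommRingCat.of ℂ))] [IsIntegral X] [IsProper (X ↘ Spec (CommRingCat.of ℂ))]
    (HX : X.Modules) (hHX : CohB1.IsAmple HX)
    (Y : Scheme.{0}) [Y.Over (Spec (CommRingCat.of ℂ))] [IsIntegral Y] [IsProper (Y ↘ Spec (CommRingCat.of ℂ))]
    (HY : Y.Modules) (hHY : CohB1.IsAmple HY)
    (f : X ⟶ Y) (hf : f ≫ (Y ↘ Spec (CommRingCat.of ℂ)) = X ↘ Spec (CommRingCat.of ℂ)) [Surjective f]
    (hfs : IsIso (ClSub.unitToPush f))
    (hX : Pi1.IsNormalScheme X) : Pi1.IsNormalScheme Y := by
  have hLN : IsLocallyNoetherian X :=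
    LocallyOfFiniteType.isLocallyNoetherian (X ↘ Spec (CommRingCat.of ℂ))
  have hC : CompactSpace X :=
    QuasiCompact.compactSpace_of_compactSpace (X ↘ Spec (CommRingCat.of ℂ))
  have hN : IsNoetherian X := {}
  refine Groth.Agent.Lib.Helper97.NormalSch.isNormalScheme_of_fibration f
    (fun y => ‹Surjective f›.surj y) (fun V => ?_) hX
  have h1 : IsIso ((ClSub.unitToPush f).app V) :=
    Scheme.Modules.Hom.isIso_iff_isIso_app.mp hfs V
  have h2 : Function.Bijective ((ClSub.unitToPush f).app V) :=
    (ConcreteCategory.isIso_iff_bijective _).mp h1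
  exact (ConcreteCategory.isIso_iff_bijective _).mpr h2

end Groth.Agent.S17584
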