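import Groth.Statements.S2328
import Mathlib
import Groth.Agent.Lib.Helper11.AmpleBasis

set_option autoImplicit false
universe u
open CategoryTheory CategoryTheory.Limits AlgebraicGeometry
open EGA2

namespace Groth.Agent.S2328

section helpers

open AlgebraicGeometry CategoryTheory Limits TopologicalSpace
open Groth.Agent.Lib.Helper11.GenLocus

theorem main_S2328 (X : Scheme.{u}) [CompactSpace X] (L L' : X.Modules)
    (hL : CohB1.IsAmple L) (hL' : PicF.IsInvertible L')
    (h : ∀ x : X, ∃ (n : ℕ) (s' : Coh.structureModule X ⟶ CohB1.tensorPow L' (n + 1)),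
      x ∈ CohB1.genLocus _ s') :
    CohB1.IsAmple (CohB1.tensorMod L L') := by
  have hqs := quasiSeparatedSpace_of_isAmple hL
  obtain ⟨hinv, hc, hamp⟩ := hL
  refine ⟨isInvertible_tensorMod hinv hL', hc, fun x => ?_⟩
  obtain ⟨m, s', hxs'⟩ := h x
  obtain ⟨k, s, hxs, hA⟩ := hamp x
  obtain ⟨N, σ, hxσ, hσle, hσaff⟩ := exists_genLocus_le_of_affine_genLocus L hinv k s hA
    (CohB1.genLocus _ s') x hxs' hxs
  have e1 : CohB1.genLocus _ (SecTwist.tmulHom (SecTwist.powHom σ (m + 1))
      (SecTwist.powHom s' (N + 1))) = CohB1.genLocus _ σ := by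
    rw [genLocus_tmulHom X _ _
      (isInvertible_tensorPow (isInvertible_tensorPow hinv (N + 1)) (m + 1))
      (isInvertible_tensorPow (isInvertible_tensorPow hL' (m + 1)) (N + 1)),
      genLocus_powHom (isInvertible_tensorPow hinv (N + 1)) σ m,
      genLocus_powHom (isInvertible_tensorPow hL' (m + 1)) s' N, inf_eq_left.mpr hσle]
  obtain ⟨P, hP⟩ : ∃ P, (N + 1) * (m + 1) = P + 1 :=
    Nat.exists_eq_succ_of_ne_zero (Nat.mul_ne_zero (Nat.succ_ne_zero _) (Nat.succ_ne_zero _))
  let ι : CohB1.tensorMod (CohB1.tensorPow (CohB1.tensorPow L (N + 1)) (m + 1))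
      (CohB1.tensorPow (CohB1.tensorPow L' (m + 1)) (N + 1)) ≅
      CohB1.tensorPow (CohB1.tensorMod L L') (P + 1) :=
    tensorModCongr (tensorPowMul L (N + 1) (m + 1))
      (tensorPowMul L' (m + 1) (N + 1) ≪≫
        eqToIso (congrArg (CohB1.tensorPow L') (Nat.mul_comm (m + 1) (N + 1)))) ≪≫
    tensorPowTensor L L' ((N + 1) * (m + 1)) ≪≫
    eqToIso (congrArg (CohB1.tensorPow (CohB1.tensorMod L L')) hP)
  have e2 := genLocus_comp_iso (SecTwist.tmulHom (SecTwist.powHom σ (m + 1))
      (SecTwist.powHom s' (N + 1))) ι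
  refine ⟨P, SecTwist.tmulHom (SecTwist.powHom σ (m + 1)) (SecTwist.powHom s' (N + 1)) ≫ ι.hom,
    ?_, ?_⟩
  · rw [e2, e1]; exact hxσ
  · rw [e2, e1]; exact hσaff

end helpers


/-- Let X be a quasi-compact separated scheme, L an ample invertible module and L' an invertible module
such that every point of X lies in the generating locus X_{s'} of some global section s' of some
positive power of L'. Then L ⊗ L' is ample. -/
theorem result (X : Scheme.{u}) [CompactSpace X] [X.IsSeparated] (L L' : X.Modules) (hL : CohB1.IsAmple L) (hL' : PicF.IsInvertible L')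
    (h : ∀ x : X, ∃ (n : ℕ) (s' : Coh.structureModule X ⟶ CohB1.tensorPow L' (n + 1)), x ∈ CohB1.genLocus _ s') :
    CohB1.IsAmple (CohB1.tensorMod L L') := by
  exact main_S2328 X L L' hL hL' h

end Groth.Agent.S2328
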