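import Groth.Statements.S2329
import Mathlib
import Groth.Agent.Lib.Helper11.GlobalGen
import Groth.Agent.S2327
import Groth.Agent.S2328

set_option autoImplicit false
universe u
open CategoryTheory CategoryTheory.Limits AlgebraicGeometry
open EGA2

namespace Groth.Agent.S2329

section helpers

open AlgebraicGeometry CategoryTheory Limits TopologicalSpace
open Groth.Agent.Lib.Helper11.GenLocus Groth.Agent.Lib.Helper45 Groth.Agent.Lib.Helper49

theorem main_S2329 (X : Scheme.{u}) [CompactSpace X] (L L' : X.Modules) (hL : CohB1.IsAmple L)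
    (hL' : PicF.IsInvertible L') :
    ∃ n₀ : ℕ, 0 < n₀ ∧ ∀ n, n₀ ≤ n →
      CohB1.IsAmple (CohB1.tensorMod (CohB1.tensorPow L n) L') ∧
        Curv2.IsGloballyGenerated (CohB1.tensorMod (CohB1.tensorPow L n) L') := by
  have hcoh : Coh.IsCoh L' := ⟨isQuasicoherent_of_isInvertible hL', isFiniteType_of_isInvertible hL'⟩
  obtain ⟨N₁, hN₁⟩ := eventually_genOn_top X L hL L' hcoh
  have hgen : ∀ n, N₁ ≤ n → GenOn (CohB1.tensorMod (CohB1.tensorPow L n) L') ⊤ := fun n hn =>
    (hN₁ n hn).of_iso (tensorModBraid _ _)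
  refine ⟨N₁ + 1, Nat.succ_pos _, fun n hn => ⟨?_, isGloballyGenerated_of_genOn_top
    (hgen n (Nat.le_of_succ_le hn))⟩⟩
  -- ampleness
  obtain ⟨j, rfl⟩ : ∃ j, n = (j + 1) + N₁ := ⟨n - N₁ - 1, by omega⟩
  have hM' : PicF.IsInvertible (CohB1.tensorMod (CohB1.tensorPow L N₁) L') :=
    isInvertible_tensorMod (isInvertible_tensorPow hL.1 N₁) hL'
  have h1 : CohB1.IsAmple (CohB1.tensorPow L (j + 1)) :=
    (Groth.Agent.S2327.main_S2327 X L hL.1 (j + 1) (Nat.succ_pos j)).mp hL
  have h2 := Groth.Agent.S2328.main_S2328 X (CohB1.tensorPow L (j + 1))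
    (CohB1.tensorMod (CohB1.tensorPow L N₁) L') h1 hM' (fun x => by
      obtain ⟨s, hs⟩ := exists_mem_genLocus_of_genOn hM' (hgen N₁ le_rfl) x
      obtain ⟨s', hs'⟩ := exists_tensorPow_one_genLocus_eq s
      exact ⟨0, s', hs' ▸ hs⟩)
  exact isAmple_of_iso ((tensorModAssoc _ _ _).symm ≪≫
    tensorModCongr (tensorPowAdd L (j + 1) N₁).symm (Iso.refl L')) h2


end helpers

/-- Let X be a quasi-compact separated scheme, L an ample invertible module and L' an invertible module.
Then there is n₀ > 0 such that L^{⊗n} ⊗ L' is ample and globally generated for every n ≥ n₀. -/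
theorem result (X : Scheme.{u}) [CompactSpace X] [X.IsSeparated] (L L' : X.Modules) (hL : CohB1.IsAmple L) (hL' : PicF.IsInvertible L') :
    ∃ n₀ : ℕ, 0 < n₀ ∧ ∀ n, n₀ ≤ n →
      CohB1.IsAmple (CohB1.tensorMod (CohB1.tensorPow L n) L') ∧ Curv2.IsGloballyGenerated (CohB1.tensorMod (CohB1.tensorPow L n) L') := by
  exact main_S2329 X L L' hL hL'

end Groth.Agent.S2329
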