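import Groth.Statements.S17587
import Groth.Agent.Lib.Helper62.BigSections
import Groth.Agent.S2329
-- import your own Groth.Agent.* helpers here

set_option autoImplicit false
open CategoryTheory CategoryTheory.Limits AlgebraicGeometry
open PosLin

namespace Groth.Agent.S17587

/-- Let X be a projective variety over the complex numbers (an integral scheme, proper over ℂ, with an
ample invertible module), and L an invertible O_X-module which is big, bigness being expressed
through the equivalent condition that every ample invertible O_X-module A admits a monomorphism A →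
L^⊗m for some m > 0. Then the exponent of L is 1, that is, H^0(X, L^⊗m) ≠ 0 for every sufficiently
large m. -/
theorem result (X : Scheme.{0}) [X.Over (Spec (CommRingCat.of ℂ))] [IsIntegral X]
    [IsProper (X ↘ Spec (CommRingCat.of ℂ))] (H : X.Modules) (hH : CohB1.IsAmple H)
    (L : X.Modules) (hL : PicF.IsInvertible L)
    (hbig : ∀ A : X.Modules, CohB1.IsAmple A → ∃ (m : ℕ) (φ : A ⟶ CohB1.tensorPow L m), 0 < m ∧ Mono φ) :
    ∃ m₁ : ℕ, ∀ m : ℕ, m₁ ≤ m → Nontrivial (Coh.HH X (CohB1.tensorPow L m) 0) := by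
  classical
  let f := X ↘ Spec (CommRingCat.of ℂ)
  have : CompactSpace X := QuasiCompact.compactSpace_of_compactSpace f
  have : X.IsSeparated := by
    rw [Scheme.isSeparated_iff, ← terminal.comp_from f]
    infer_instance
  obtain ⟨n₁, -, hn₁⟩ := Groth.Agent.S2329.result X H (Coh.structureModule X) hH
    (Groth.Agent.Lib.Helper11.GenLocus.isInvertible_structureModule X)
  obtain ⟨n₂, -, hn₂⟩ := Groth.Agent.S2329.result X H L hH hL
  obtain ⟨hA1, hgg1⟩ := hn₁ (max n₁ n₂) (le_max_left _ _)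
  obtain ⟨hA2, hgg2⟩ := hn₂ (max n₁ n₂) (le_max_right _ _)
  obtain ⟨m, φ, hm, hφ⟩ := hbig _ hA1
  obtain ⟨s₁, hs₁⟩ :=
    Groth.Agent.Lib.Helper62.BigSections.exists_ne_zero_of_globallyGenerated hA1.1 hgg1
  have hs : s₁ ≫ φ ≠ 0 := fun h => hs₁ (zero_of_comp_mono φ h)
  let e : CohB1.tensorMod (CohB1.tensorMod (CohB1.tensorPow H (max n₁ n₂)) (Coh.structureModule X)) L ≅
      CohB1.tensorMod (CohB1.tensorPow H (max n₁ n₂)) L :=
    Groth.Agent.Lib.Helper11.GenLocus.tensorModCongr
      (Groth.Agent.Lib.Helper11.GenLocus.tensorUnitIso _) (Iso.refl L)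
  obtain ⟨t₂, ht₂⟩ :=
    Groth.Agent.Lib.Helper62.BigSections.exists_ne_zero_of_globallyGenerated hA2.1 hgg2
  have := Groth.Agent.Lib.Helper11.TensorMap.mono_tensorModMap φ hL
  have ht : (t₂ ≫ e.inv) ≫ Groth.Agent.Lib.Helper11.TensorMap.tensorModMap φ (𝟙 L) ≠ 0 := by
    intro h
    apply ht₂
    have h1 := zero_of_comp_mono _ h
    have h2 := congrArg (· ≫ e.hom) h1
    simpa using h2
  refine ⟨m * m, fun k hk => ?_⟩
  obtain ⟨u, hu⟩ := Groth.Agent.Lib.Helper62.BigSections.exists_pow_ne_zero_of hL m hm _ hs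
    ((t₂ ≫ e.inv) ≫ Groth.Agent.Lib.Helper11.TensorMap.tensorModMap φ (𝟙 L)) ht k hk
  exact Groth.Agent.Lib.Helper62.BigSections.nontrivial_HH_zero_of_ne_zero u hu

end Groth.Agent.S17587
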