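import Groth.Statements.S1760
import Groth.Agent.Lib.Helper24.GorenFibre

set_option autoImplicit false
universe u
open scoped TensorProduct
open Goren

namespace Groth.Agent.S1760

/-- First assertion, written for the local ring B = O_{X,x}. Let k'/k be a finitely generated field
extension, B a Noetherian local k-algebra, and q a prime of B ⊗_k k' lying over the maximal ideal of
B. Then B is Gorenstein if and only if the localization of B ⊗_k k' at q is Gorenstein. -/
theorem result (k k' : Type u) [Field k] [Field k'] [Algebra k k'] (hfg : ∃ s : Finset k', IntermediateField.adjoin k (s : Set k') = ⊤) (B : Type u) [CommRing B] [IsLocalRing B] [IsNoetherianRing B] [Algebra k B] (q : PrimeSpectrum (B ⊗[k] k')) (hq : q.asIdeal.comap (algebraMap B (B ⊗[k] k')) = IsLocalRing.maximalIdeal B) : LocCoh.IsGorensteinLocalRing B ↔ LocCoh.IsGorensteinLocalRing (Localization.AtPrime q.asIdeal) := by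
  classical
  have hess : Algebra.EssFiniteType k k' := IntermediateField.fg_top_iff.mp hfg
  have hNT : IsNoetherianRing (B ⊗[k] k') := Algebra.EssFiniteType.isNoetherianRing B (B ⊗[k] k')
  have h1 := Groth.Agent.Lib.Helper24.isGorensteinLocalRing_tensor_field_iff_of_essFiniteType
    k k' B q.asIdeal
  have key : ∀ (r : Ideal B) [r.IsPrime], r = IsLocalRing.maximalIdeal B →
      (LocCoh.IsGorensteinLocalRing (Localization.AtPrime r) ↔ LocCoh.IsGorensteinLocalRing B) := by
    rintro r hr rfl
    have hu : (IsLocalRing.maximalIdeal B).primeCompl ≤ IsUnit.submonoid B := by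
      intro x hx
      exact IsLocalRing.notMem_maximalIdeal.mp hx
    let e : B ≃ₐ[B] Localization.AtPrime (IsLocalRing.maximalIdeal B) :=
      IsLocalization.atUnits B (IsLocalRing.maximalIdeal B).primeCompl hu
    exact (Groth.Agent.Lib.Helper24.isGorensteinLocalRing_iff_of_ringEquiv e.toRingEquiv).symm
  rw [h1]
  exact (key _ hq).symm

end Groth.Agent.S1760
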