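import Groth.Statements.S17604
import Groth.Agent.Lib.Helper9.Hens.PairEtale

set_option autoImplicit false
universe u
open Hensel

namespace Groth.Agent.S17604

/-- Let (A, I) be a Henselian pair, R and R' étale A-algebras, and B, B' Henselizations of the pairs (R,
IR), (R', IR') with their induced A-algebra structures (so B and B' are h-étale over A). Then
reduction modulo I is a bijection from A-algebra maps B → B' to A-algebra maps B/IB → B'/IB': two
A-algebra maps B → B' that agree modulo IB' are equal, and every A-algebra map B/IB → B'/IB' is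
induced by an A-algebra map B → B'. -/
theorem result (A : Type u) [CommRing A]
    (I : Ideal A) [HenselianRing A I]
    (R : Type u) [CommRing R] [Algebra A R] [Algebra.Etale A R]
    (B : Type u) [CommRing B] [Algebra R B] [Algebra A B] [IsScalarTower A R B]
    (hB : Hens2.IsPairHenselization R (I.map (algebraMap A R)) B)
    (R' : Type u) [CommRing R'] [Algebra A R'] [Algebra.Etale A R']
    (B' : Type u) [CommRing B'] [Algebra R' B'] [Algebra A B'] [IsScalarTower A R' B']
    (hB' : Hens2.IsPairHenselization R' (I.map (algebraMap A R')) B') :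
    (∀ φ ψ : B →ₐ[A] B', (∀ b : B, φ b - ψ b ∈ I.map (algebraMap A B')) → φ = ψ) ∧
    ∀ χ : (B ⧸ I.map (algebraMap A B)) →ₐ[A] (B' ⧸ I.map (algebraMap A B')),
      ∃ φ : B →ₐ[A] B', ∀ b : B,
        Ideal.Quotient.mk (I.map (algebraMap A B')) (φ b) = χ (Ideal.Quotient.mk (I.map (algebraMap A B)) b) := by
  open Groth.Agent.Lib.Helper9.Hens in
  have hmapB : I.map (algebraMap A B) = (I.map (algebraMap A R)).map (algebraMap R B) := by
    rw [Ideal.map_map, ← IsScalarTower.algebraMap_eq]
  have hmapB' : I.map (algebraMap A B') = (I.map (algebraMap A R')).map (algebraMap R' B') := by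
    rw [Ideal.map_map, ← IsScalarTower.algebraMap_eq]
  have hH' : HenselianRing B' (I.map (algebraMap A B')) := hmapB' ▸ hB'.1
  -- any `A`-algebra map `R → B'` sends `IR` into `IB'`
  have hρ : ∀ ρ : R →ₐ[A] B', (I.map (algebraMap A R)).map (ρ : R →+* B') ≤
      (I.map (algebraMap A R')).map (algebraMap R' B') := by
    intro ρ
    rw [Ideal.map_map, ← hmapB']
    have : ((ρ : R →+* B').comp (algebraMap A R)) = algebraMap A B' := by
      ext a
      exact ρ.commutes a
    rw [this]
  constructor
  · intro φ ψ h
    let φR : R →ₐ[A] B' := φ.comp (IsScalarTower.toAlgHom A R B)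
    let ψR : R →ₐ[A] B' := ψ.comp (IsScalarTower.toAlgHom A R B)
    have h1 : φR = ψR := by
      apply Groth.Agent.Lib.Helper3.algHom_ext_of_comp_mk_eq (I.map (algebraMap A B')) hH'.jac
      ext x
      change Ideal.Quotient.mk _ (φ (algebraMap R B x)) = Ideal.Quotient.mk _ (ψ (algebraMap R B x))
      rw [Ideal.Quotient.eq]
      exact h _
    obtain ⟨g, -, hg⟩ := hB.2 B' _ (φR : R →+* B') hB'.1 (hρ φR)
    have h2 : (φ : B →+* B') = g := hg _ (by ext x; rfl)
    have h3 : (ψ : B →+* B') = g := hg _ (by
      ext x
      change ψ (algebraMap R B x) = φR x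
      rw [h1]
      rfl)
    ext b
    exact DFunLike.congr_fun (h2.trans h3.symm) b
  · intro χ
    let τ : R →ₐ[A] B' ⧸ I.map (algebraMap A B') :=
      χ.comp ((Ideal.Quotient.mkₐ A (I.map (algebraMap A B))).comp (IsScalarTower.toAlgHom A R B))
    obtain ⟨ρ, hρ1, -⟩ := Groth.Agent.Lib.Helper3.existsUnique_algHom_lift_of_etale R B'
      (I.map (algebraMap A B')) τ
    obtain ⟨g, hg, -⟩ := hB.2 B' _ (ρ : R →+* B') hB'.1 (hρ ρ)
    have hgR : ∀ x : R, g (algebraMap R B x) = ρ x := fun x => DFunLike.congr_fun hg x
    let φ : B →ₐ[A] B' :=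
      { g with
        commutes' := fun a => by
          change g (algebraMap A B a) = algebraMap A B' a
          rw [IsScalarTower.algebraMap_apply A R B, hgR, AlgHom.commutes] }
    refine ⟨φ, fun b => ?_⟩
    obtain ⟨x, hx⟩ := exists_sub_mem_map_of_isPairHenselization hB b
    rw [← hmapB] at hx
    have h1 : φ (b - algebraMap R B x) ∈ I.map (algebraMap A B') := by
      have := Ideal.mem_map_of_mem (φ : B →+* B') hx
      rw [Ideal.map_map] at this
      have h2 : ((φ : B →+* B').comp (algebraMap A B)) = algebraMap A B' := by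
        ext a
        exact φ.commutes a
      rw [h2] at this
      exact this
    have h3 : Ideal.Quotient.mk (I.map (algebraMap A B')) (φ b) =
        Ideal.Quotient.mk (I.map (algebraMap A B')) (φ (algebraMap R B x)) := by
      rw [Ideal.Quotient.eq, ← map_sub]
      exact h1
    have h4 : Ideal.Quotient.mk (I.map (algebraMap A B)) b =
        Ideal.Quotient.mk (I.map (algebraMap A B)) (algebraMap R B x) := by
      rw [Ideal.Quotient.eq]
      exact hx
    rw [h3, h4]
    have h5 : φ (algebraMap R B x) = ρ x := hgR x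
    rw [h5]
    exact DFunLike.congr_fun hρ1 x

end Groth.Agent.S17604
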