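import Groth.Statements.S17605
import Mathlib.Tactic
-- import your own Groth.Agent.* helpers here

set_option autoImplicit false
universe u
open Hensel

namespace Groth.Agent.S17605

/-- Let A be a ring with an ideal I and let f₁, f₂ be elements of A such that D(f₂) ∩ V(I) ⊆ D(f₁) ∩
V(I) in Spec A. If H₁ is a Henselization of the pair (A_{f₁}, IA_{f₁}) and H₂ a Henselization of the
pair (A_{f₂}, IA_{f₂}), with their induced A-algebra structures, then there is exactly one A-algebra
map H₁ → H₂. -/
theorem result (A : Type u) [CommRing A]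
    (I : Ideal A) (f₁ f₂ : A)
    (h : (PrimeSpectrum.basicOpen f₂ : Set (PrimeSpectrum A)) ∩ PrimeSpectrum.zeroLocus (I : Set A) ⊆
      (PrimeSpectrum.basicOpen f₁ : Set (PrimeSpectrum A)) ∩ PrimeSpectrum.zeroLocus (I : Set A))
    (H₁ : Type u) [CommRing H₁] [Algebra (Localization.Away f₁) H₁] [Algebra A H₁]
    [IsScalarTower A (Localization.Away f₁) H₁]
    (hH₁ : Hens2.IsPairHenselization (Localization.Away f₁)
      (I.map (algebraMap A (Localization.Away f₁))) H₁)
    (H₂ : Type u) [CommRing H₂] [Algebra (Localization.Away f₂) H₂] [Algebra A H₂]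
    [IsScalarTower A (Localization.Away f₂) H₂]
    (hH₂ : Hens2.IsPairHenselization (Localization.Away f₂)
      (I.map (algebraMap A (Localization.Away f₂))) H₂) :
    Nonempty (H₁ →ₐ[A] H₂) ∧ Subsingleton (H₁ →ₐ[A] H₂) := by
  classical
  set J : Ideal H₂ := (I.map (algebraMap A (Localization.Away f₂))).map
    (algebraMap (Localization.Away f₂) H₂) with hJ
  have hHens : HenselianRing H₂ J := hH₂.1
  have hJeq : J = I.map (algebraMap A H₂) := by
    rw [hJ, Ideal.map_map, ← IsScalarTower.algebraMap_eq]
  -- `f₂` is a unit in `H₂`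
  have hf₂ : IsUnit (algebraMap A H₂ f₂) := by
    rw [IsScalarTower.algebraMap_apply A (Localization.Away f₂) H₂]
    exact (IsLocalization.Away.algebraMap_isUnit f₂).map _
  -- `f₁` is a unit in `H₂`
  have hf₁ : IsUnit (algebraMap A H₂ f₁) := by
    by_contra hnu
    obtain ⟨m, hm, hfm⟩ := exists_max_ideal_of_mem_nonunits (mem_nonunits_iff.mpr hnu)
    have hJm : J ≤ m := by
      refine hHens.jac.trans ?_
      rw [Ideal.jacobson]
      exact sInf_le ⟨bot_le, hm⟩
    set p : PrimeSpectrum A := ⟨m.comap (algebraMap A H₂), Ideal.IsPrime.comap _⟩ with hp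
    have hp2 : p ∈ (PrimeSpectrum.basicOpen f₂ : Set (PrimeSpectrum A)) := by
      change f₂ ∉ p.asIdeal
      intro hmem
      have : algebraMap A H₂ f₂ ∈ m := hmem
      exact hm.ne_top (Ideal.eq_top_of_isUnit_mem _ this hf₂)
    have hpI : p ∈ PrimeSpectrum.zeroLocus (I : Set A) := by
      intro x hx
      change algebraMap A H₂ x ∈ m
      apply hJm
      rw [hJeq]
      exact Ideal.mem_map_of_mem _ hx
    have := (h ⟨hp2, hpI⟩).1
    exact this hfm
  -- the induced map `A_{f₁} → H₂`
  set φ : Localization.Away f₁ →+* H₂ := IsLocalization.Away.lift f₁ hf₁ with hφ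
  have hφcomp : φ.comp (algebraMap A (Localization.Away f₁)) = algebraMap A H₂ :=
    IsLocalization.Away.lift_comp f₁ hf₁
  have hle : (I.map (algebraMap A (Localization.Away f₁))).map φ ≤ J := by
    rw [Ideal.map_map, hφcomp, hJeq]
  obtain ⟨g, hg, hguniq⟩ := hH₁.2 H₂ J φ hHens hle
  have key : ∀ g' : H₁ →ₐ[A] H₂, (g' : H₁ →+* H₂) = g := by
    intro g'
    apply hguniq
    apply IsLocalization.ringHom_ext (Submonoid.powers f₁)
    rw [RingHom.comp_assoc, hφcomp, ← IsScalarTower.algebraMap_eq]
    ext a
    simp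
  constructor
  · refine ⟨{ g with commutes' := ?_ }⟩
    intro a
    have := congrArg (fun ψ => ψ (algebraMap A (Localization.Away f₁) a)) hg
    simp only [RingHom.comp_apply] at this
    change g (algebraMap A H₁ a) = algebraMap A H₂ a
    rw [IsScalarTower.algebraMap_apply A (Localization.Away f₁) H₁, this, ← RingHom.comp_apply,
      hφcomp]
  · constructor
    intro g₁ g₂
    apply AlgHom.coe_ringHom_injective
    rw [key g₁, key g₂]

end Groth.Agent.S17605
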