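import Groth.Statements.S17607
import Groth.Agent.Lib.Helper9.Hens.PairQuotient

set_option autoImplicit false
universe u
open Hensel

namespace Groth.Agent.S17607

/-- Let (A, I) and (B, IB) be Henselian pairs with B an A-algebra. Then the following are equivalent:
(i) A → B is Henselian finitely presented, i.e. there are n, a Henselization P of the pair
(A[X₁,…,Xₙ], I·A[X₁,…,Xₙ]) (a Henselized polynomial ring) and a surjective A-algebra map P → B with
finitely generated kernel; (ii) there are a finitely presented A-algebra R and an R-algebra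
structure on B compatible with that of A for which B is a Henselization of the pair (R, IR). -/
theorem result (A : Type u) [CommRing A] (I : Ideal A)
    [HenselianRing A I] (B : Type u) [CommRing B] [Algebra A B]
    [HenselianRing B (I.map (algebraMap A B))] :
    (∃ (n : ℕ) (P : Type u) (_ : CommRing P) (_ : Algebra (MvPolynomial (Fin n) A) P) (_ : Algebra A P)
        (_ : IsScalarTower A (MvPolynomial (Fin n) A) P),
        Hens2.IsPairHenselization (MvPolynomial (Fin n) A)
          (I.map (algebraMap A (MvPolynomial (Fin n) A))) P ∧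
        ∃ φ : P →ₐ[A] B, Function.Surjective φ ∧ (RingHom.ker φ).FG) ↔
    ∃ (R : Type u) (_ : CommRing R) (_ : Algebra A R) (_ : Algebra R B) (_ : IsScalarTower A R B),
      Algebra.FinitePresentation A R ∧ Hens2.IsPairHenselization R (I.map (algebraMap A R)) B := by
  open Groth.Agent.Lib.Helper9.Hens in
  constructor
  · -- (i) ⇒ (ii)
    rintro ⟨n, P, _, _, _, _, hP, φ, hφsurj, hφfg⟩
    obtain ⟨m, x, hx⟩ := (Submodule.fg_iff_exists_fin_generating_family).mp hφfg
    obtain ⟨E, _, _, _, hq, ψ, s, hs⟩ := exists_etale_bijective_algHom_apply_eq_fin hP x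
    letI algEP : Algebra E P := ψ.toRingHom.toAlgebra
    haveI towerQEP : IsScalarTower (MvPolynomial (Fin n) A) E P :=
      IsScalarTower.of_algebraMap_eq (fun r => (ψ.commutes r).symm)
    have hPE := isPairHenselization_of_etale_of_bijective' hP hq
    letI algAE : Algebra A E :=
      ((algebraMap (MvPolynomial (Fin n) A) E).comp (algebraMap A (MvPolynomial (Fin n) A))).toAlgebra
    haveI towerAQE : IsScalarTower A (MvPolynomial (Fin n) A) E :=
      IsScalarTower.of_algebraMap_eq (fun r => rfl)
    have hAEP : ∀ a : A, algebraMap E P (algebraMap A E a) = algebraMap A P a := by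
      intro a
      change algebraMap E P (algebraMap (MvPolynomial (Fin n) A) E (algebraMap A _ a)) = _
      rw [← IsScalarTower.algebraMap_apply (MvPolynomial (Fin n) A) E P,
        ← IsScalarTower.algebraMap_apply A (MvPolynomial (Fin n) A) P]
    set K : Ideal E := Ideal.span (Set.range s) with hK
    have hKfg : K.FG := Submodule.fg_span (Set.finite_range s)
    have hKmap : K.map (algebraMap E P) = RingHom.ker φ := by
      rw [hK, Ideal.map_span]
      have : (algebraMap E P) '' Set.range s = Set.range x := by
        ext z
        constructor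
        · rintro ⟨_, ⟨i, rfl⟩, rfl⟩
          exact ⟨i, (hs i).symm⟩
        · rintro ⟨i, rfl⟩
          exact ⟨s i, ⟨i, rfl⟩, hs i⟩
      rw [this]
      exact hx
    have hquot := isPairHenselization_quotient hPE K
    -- the map `E/K → B`
    have hkillE : ∀ a ∈ K, ((φ : P →+* B).comp (algebraMap E P)) a = 0 := by
      intro a ha
      have h1 : algebraMap E P a ∈ K.map (algebraMap E P) := Ideal.mem_map_of_mem _ ha
      rw [hKmap] at h1
      exact h1
    let β : E ⧸ K →+* B := Ideal.Quotient.lift K ((φ : P →+* B).comp (algebraMap E P)) hkillE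
    letI algRB : Algebra (E ⧸ K) B := β.toAlgebra
    have htower : IsScalarTower A (E ⧸ K) B := IsScalarTower.of_algebraMap_eq (fun a => by
      change algebraMap A B a = β (Ideal.Quotient.mk K (algebraMap A E a))
      change _ = φ (algebraMap E P (algebraMap A E a))
      rw [hAEP, φ.commutes])
    haveI : Algebra.FinitePresentation (MvPolynomial (Fin n) A) E := inferInstance
    haveI : Algebra.FinitePresentation A E :=
      Algebra.FinitePresentation.trans A (MvPolynomial (Fin n) A) E
    have hfp : Algebra.FinitePresentation A (E ⧸ K) := Algebra.FinitePresentation.quotient hKfg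
    refine ⟨E ⧸ K, inferInstance, inferInstance, algRB, htower, hfp, ?_⟩
    -- the isomorphism `P/KP ≅ B`
    have hkillP : ∀ a ∈ K.map (algebraMap E P), (φ : P →+* B) a = 0 := by
      intro a ha
      rw [hKmap] at ha
      exact ha
    let Θ₀ : P ⧸ K.map (algebraMap E P) →+* B := Ideal.Quotient.lift _ (φ : P →+* B) hkillP
    have hΘinj : Function.Injective Θ₀ := by
      rw [injective_iff_map_eq_zero]
      intro z hz
      obtain ⟨p, rfl⟩ := Ideal.Quotient.mk_surjective z
      have h1 : φ p = 0 := hz
      have h2 : p ∈ RingHom.ker φ := h1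
      rw [← hKmap] at h2
      exact Ideal.Quotient.eq_zero_iff_mem.mpr h2
    have hΘsurj : Function.Surjective Θ₀ := by
      intro b
      obtain ⟨p, rfl⟩ := hφsurj b
      exact ⟨Ideal.Quotient.mk _ p, rfl⟩
    let Θ : (P ⧸ K.map (algebraMap E P)) ≃ₐ[E ⧸ K] B :=
      { RingEquiv.ofBijective Θ₀ ⟨hΘinj, hΘsurj⟩ with
        commutes' := fun r => by
          obtain ⟨e, rfl⟩ := Ideal.Quotient.mk_surjective r
          rfl }
    have hideal : (Ideal.map (algebraMap (MvPolynomial (Fin n) A) E)
        (I.map (algebraMap A (MvPolynomial (Fin n) A)))).map (Ideal.Quotient.mk K) =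
        I.map (algebraMap A (E ⧸ K)) := by
      rw [Ideal.map_map, Ideal.map_map]
      rfl
    rw [hideal] at hquot
    exact isPairHenselization_of_algEquiv Θ hquot
  · -- (ii) ⇒ (i)
    rintro ⟨R, _, _, _, _, hRfp, hRB⟩
    obtain ⟨n, f, hfsurj, hffg⟩ := Algebra.FinitePresentation.out (R := A) (A := R)
    let P := PairHens (MvPolynomial (Fin n) A) (I.map (algebraMap A (MvPolynomial (Fin n) A)))
    have hP : Hens2.IsPairHenselization (MvPolynomial (Fin n) A)
        (I.map (algebraMap A (MvPolynomial (Fin n) A))) P := PairHens.isPairHenselization _ _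
    letI algAP : Algebra A P :=
      ((algebraMap (MvPolynomial (Fin n) A) P).comp (algebraMap A (MvPolynomial (Fin n) A))).toAlgebra
    have towerP : IsScalarTower A (MvPolynomial (Fin n) A) P :=
      IsScalarTower.of_algebraMap_eq (fun r => rfl)
    have hcomp : ((algebraMap R B).comp f.toRingHom).comp (algebraMap A (MvPolynomial (Fin n) A)) =
        algebraMap A B := by
      ext a
      change algebraMap R B (f (algebraMap A _ a)) = _
      rw [f.commutes, ← IsScalarTower.algebraMap_apply]
    have hJ : (I.map (algebraMap A (MvPolynomial (Fin n) A))).map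
        ((algebraMap R B).comp f.toRingHom) ≤ I.map (algebraMap A B) := by
      rw [Ideal.map_map, hcomp]
    obtain ⟨φ₀, hφ₀, -⟩ := hP.2 B (I.map (algebraMap A B)) ((algebraMap R B).comp f.toRingHom)
      inferInstance hJ
    have hidealR : (I.map (algebraMap A (MvPolynomial (Fin n) A))).map f.toRingHom =
        I.map (algebraMap A R) := by
      rw [Ideal.map_map]
      congr 1
      ext a
      exact f.commutes a
    have hRB' : Hens2.IsPairHenselization R
        ((I.map (algebraMap A (MvPolynomial (Fin n) A))).map f.toRingHom) B := by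
      rw [hidealR]; exact hRB
    obtain ⟨hsurj, hker⟩ := surjective_and_ker_eq_of_isPairHenselization hP f.toRingHom hfsurj
      hRB' φ₀ hφ₀
    let φ : P →ₐ[A] B :=
      { φ₀ with
        commutes' := fun a => by
          change φ₀ (algebraMap (MvPolynomial (Fin n) A) P (algebraMap A _ a)) = _
          have h1 := DFunLike.congr_fun hφ₀ (algebraMap A (MvPolynomial (Fin n) A) a)
          rw [RingHom.comp_apply] at h1
          rw [h1]
          exact DFunLike.congr_fun hcomp a }
    refine ⟨n, P, inferInstance, inferInstance, algAP, towerP, hP, φ, hsurj, ?_⟩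
    have hkerφ : RingHom.ker φ = RingHom.ker φ₀ := by
      ext z; rfl
    rw [hkerφ, hker]
    exact Ideal.FG.map hffg _

end Groth.Agent.S17607
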