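import Groth.Statements.S17608
import Groth.Agent.Lib.Helper9.Hens.PairBaseChange
import Mathlib.RingTheory.Extension.Presentation.Core

set_option autoImplicit false
universe u
open Hensel

namespace Groth.Agent.S17608

open Groth.Agent.Lib.Helper9.Hens TensorProduct in
/-- Auxiliary: passing from a model over `E` to the henselization. -/
theorem aux {A : Type u} [CommRing A] (I : Ideal A) {E B S C M : Type u} [CommRing E] [CommRing B]
    [CommRing S] [CommRing C] [CommRing M] [Algebra A E] [Algebra E B] [Algebra A B]
    [IsScalarTower A E B] [Algebra B S] [Algebra A S] [IsScalarTower A B S] [Algebra E S]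
    [IsScalarTower E B S] [Algebra S C] [Algebra B C] [Algebra A C] [IsScalarTower B S C]
    [IsScalarTower A B C] (hBE : Hens2.IsPairHenselization E (I.map (algebraMap A E)) B)
    (hC : Hens2.IsPairHenselization S (I.map (algebraMap A S)) C)
    [Algebra E M] [Algebra A M] [IsScalarTower A E M] (e : B ⊗[E] M ≃ₐ[B] S) :
    ∃ (_ : Algebra M C) (_ : IsScalarTower A M C),
      Hens2.IsPairHenselization M (I.map (algebraMap A M)) C := by
  letI algMC : Algebra M C :=
    ((algebraMap S C).comp ((e : B ⊗[E] M →+* S).comp
      (Algebra.TensorProduct.includeRight : M →ₐ[E] B ⊗[E] M).toRingHom)).toAlgebra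
  have hAES : ∀ a : A, algebraMap E S (algebraMap A E a) = algebraMap A S a := by
    intro a
    rw [IsScalarTower.algebraMap_apply E B S, ← IsScalarTower.algebraMap_apply A E B,
      ← IsScalarTower.algebraMap_apply A B S]
  have hidealS : (I.map (algebraMap A E)).map (algebraMap E S) = I.map (algebraMap A S) := by
    rw [Ideal.map_map]
    congr 1
    ext a
    exact hAES a
  have hC' : Hens2.IsPairHenselization S ((I.map (algebraMap A E)).map (algebraMap E S)) C := by
    rw [hidealS]; exact hC
  have hCM := isPairHenselization_of_tensor_equiv hBE e hC' (fun x => rfl)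
  have hidealM : (I.map (algebraMap A E)).map (algebraMap E M) = I.map (algebraMap A M) := by
    rw [Ideal.map_map, ← IsScalarTower.algebraMap_eq]
  rw [hidealM] at hCM
  have htower : IsScalarTower A M C := IsScalarTower.of_algebraMap_eq (fun a => by
    change algebraMap A C a = algebraMap S C (e (1 ⊗ₜ algebraMap A M a))
    have h1 : (1 : B) ⊗ₜ[E] algebraMap A M a =
        algebraMap B (B ⊗[E] M) (algebraMap A B a) := by
      rw [IsScalarTower.algebraMap_apply A E M, ← Algebra.TensorProduct.tmul_one_eq_one_tmul,
        Algebra.TensorProduct.algebraMap_apply, ← IsScalarTower.algebraMap_apply A E B]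
      rfl
    rw [h1, e.commutes, ← IsScalarTower.algebraMap_apply B S C,
      ← IsScalarTower.algebraMap_apply A B C])
  exact ⟨algMC, htower, hCM⟩

/-- Let (A, I) be a Henselian pair, let B be a Henselization of the pair (R, IR) for a finitely
presented A-algebra R, and let C be a Henselization of the pair (S, IS) for a finitely presented
B-algebra S, all algebra structures being compatible (so A → B and B → C are Henselian finitely
presented maps of Henselian pairs). Then the composite A → C is Henselian finitely presented: there
are a finitely presented A-algebra T and a T-algebra structure on C compatible with that of A for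
which C is a Henselization of the pair (T, IT). -/
theorem result (A : Type u) [CommRing A] (I : Ideal A) [HenselianRing A I]
    (R : Type u) [CommRing R] [Algebra A R] [Algebra.FinitePresentation A R]
    (B : Type u) [CommRing B] [Algebra R B] [Algebra A B] [IsScalarTower A R B]
    (hB : Hens2.IsPairHenselization R (I.map (algebraMap A R)) B)
    (S : Type u) [CommRing S] [Algebra B S] [Algebra A S] [IsScalarTower A B S] [Algebra.FinitePresentation B S]
    (C : Type u) [CommRing C] [Algebra S C] [Algebra B C] [Algebra A C] [IsScalarTower B S C]
    [IsScalarTower A B C]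
    (hC : Hens2.IsPairHenselization S (I.map (algebraMap A S)) C) :
    ∃ (T : Type u) (_ : CommRing T) (_ : Algebra A T) (_ : Algebra T C) (_ : IsScalarTower A T C),
      Algebra.FinitePresentation A T ∧ Hens2.IsPairHenselization T (I.map (algebraMap A T)) C := by
  open Groth.Agent.Lib.Helper9.Hens TensorProduct in
  -- a finite presentation of `S` over `B` and its finitely many coefficients
  let P := Algebra.Presentation.ofFinitePresentation B S
  haveI hfin : Finite P.coeffs := P.finite_coeffs.to_subtype
  obtain ⟨E, _, _, _, hq, ψ, s, hs⟩ :=
    exists_etale_bijective_algHom_apply_eq_fin hB (fun c : P.coeffs => (c : B))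
  -- algebra structures
  letI algEB : Algebra E B := ψ.toRingHom.toAlgebra
  haveI towerREB : IsScalarTower R E B := IsScalarTower.of_algebraMap_eq (fun r => (ψ.commutes r).symm)
  letI algAE : Algebra A E := ((algebraMap R E).comp (algebraMap A R)).toAlgebra
  haveI towerARE : IsScalarTower A R E := IsScalarTower.of_algebraMap_eq (fun r => rfl)
  have hAEB : ∀ a : A, algebraMap E B (algebraMap A E a) = algebraMap A B a := by
    intro a
    change algebraMap E B (algebraMap R E (algebraMap A R a)) = _
    rw [← IsScalarTower.algebraMap_apply R E B, ← IsScalarTower.algebraMap_apply A R B]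
  haveI towerAEB : IsScalarTower A E B := IsScalarTower.of_algebraMap_eq (fun a => (hAEB a).symm)
  letI algES : Algebra E S := ((algebraMap B S).comp (algebraMap E B)).toAlgebra
  haveI towerEBS : IsScalarTower E B S := IsScalarTower.of_algebraMap_eq (fun r => rfl)
  haveI hcoeffs : P.HasCoeffs E := ⟨fun c hc => ⟨s ⟨c, hc⟩, hs ⟨c, hc⟩⟩⟩
  -- `B` is a henselization of `(E, IE)`
  have hBE := isPairHenselization_of_etale_of_bijective' hB hq
  have hidealE : (I.map (algebraMap A R)).map (algebraMap R E) = I.map (algebraMap A E) := by
    rw [Ideal.map_map]; rfl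
  rw [hidealE] at hBE
  haveI : Algebra.FinitePresentation R E := inferInstance
  haveI : Algebra.FinitePresentation A E := Algebra.FinitePresentation.trans A R E
  haveI : Algebra.FinitePresentation E (P.ModelOfHasCoeffs E) := inferInstance
  have hfp : Algebra.FinitePresentation A (P.ModelOfHasCoeffs E) :=
    Algebra.FinitePresentation.trans A E (P.ModelOfHasCoeffs E)
  obtain ⟨algMC, htower, hCM⟩ := aux I hBE hC (P.tensorModelOfHasCoeffsEquiv E)
  exact ⟨P.ModelOfHasCoeffs E, inferInstance, inferInstance, algMC, htower, hfp, hCM⟩

end Groth.Agent.S17608
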