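import Groth.Statements.S17616
import Groth.Agent.Lib.Helper3.NbhdLocus

set_option autoImplicit false
universe u
open Hensel

namespace Groth.Agent.S17616

/-- Let P be a property of ring maps (between rings in a fixed universe), and say that f : B → B' has P
at a prime q of B' if the composite B → B' → B'_g has P for some g ∉ q. Assume (i) for every
finitely presented f : B → B' the set of primes of B' at which f has P is ind-constructible in Spec
B', and f has P as soon as it has P at every prime; (ii) every étale ring map has P; (iii) for g : C
→ C' and h : C' → C'', if h has P at a prime q of C'' and g has P at the inverse image of q in C',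
then h ∘ g has P at q. Now suppose (A, I) is a Henselian pair, and take an A-algebra R of finite
presentation for which A → R has P at each prime of R that contains IR. Then there is an étale
R-algebra R' with R/IR → R'/IR' bijective such that A → R' has P. -/
theorem result
    (P : ∀ ⦃B B' : Type u⦄ [CommRing B] [CommRing B'], (B →+* B') → Prop)
    (PAt : ∀ ⦃B B' : Type u⦄ [CommRing B] [CommRing B'], (B →+* B') → Ideal B' → Prop)
    (hPAt : ∀ ⦃B B' : Type u⦄ [CommRing B] [CommRing B'] (f : B →+* B') (q : Ideal B'),
      PAt f q ↔ ∃ g : B', g ∉ q ∧ P ((algebraMap B' (Localization.Away g)).comp f))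
    (h₁ : ∀ ⦃B B' : Type u⦄ [CommRing B] [CommRing B'] (f : B →+* B'), f.FinitePresentation →
      ProCons.IsIndConstructible {q : PrimeSpectrum B' | PAt f q.asIdeal} ∧
        ((∀ q : PrimeSpectrum B', PAt f q.asIdeal) → P f))
    (h₂ : ∀ ⦃B B' : Type u⦄ [CommRing B] [CommRing B'] (f : B →+* B'), f.Etale → P f)
    (h₃ : ∀ ⦃C C' C'' : Type u⦄ [CommRing C] [CommRing C'] [CommRing C''] (g : C →+* C')
      (h : C' →+* C'') (q : Ideal C'') [q.IsPrime],
      PAt h q → PAt g (q.comap h) → PAt (h.comp g) q)
    (A : Type u) [CommRing A] (I : Ideal A) [HenselianRing A I]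
    (R : Type u) [CommRing R] [Algebra A R] [Algebra.FinitePresentation A R]
    (hR : ∀ (p : Ideal R) [p.IsPrime], I.map (algebraMap A R) ≤ p → PAt (algebraMap A R) p) :
    ∃ (R' : Type u) (_ : CommRing R') (_ : Algebra R R') (_ : Algebra A R') (_ : IsScalarTower A R R'),
      Algebra.Etale R R' ∧
      Function.Bijective (Ideal.quotientMap ((I.map (algebraMap A R)).map (algebraMap R R'))
        (algebraMap R R') Ideal.le_comap_map) ∧ P (algebraMap A R') := by
  classical
  let E : Set (PrimeSpectrum R) := {q | PAt (algebraMap A R) q.asIdeal}
  have hEopen : IsOpen E := by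
    rw [isOpen_iff_forall_mem_open]
    intro q hq
    obtain ⟨g₁, hg₁q, hg₁P⟩ := (hPAt (algebraMap A R) q.asIdeal).mp hq
    refine ⟨PrimeSpectrum.basicOpen g₁, ?_, (PrimeSpectrum.basicOpen g₁).isOpen, hg₁q⟩
    intro q' hq'
    exact (hPAt (algebraMap A R) q'.asIdeal).mpr ⟨g₁, hq', hg₁P⟩
  obtain ⟨g, hg, hgE⟩ := Groth.Agent.Lib.Helper3.exists_basicOpen_subset_of_zeroLocus_subset
    (I.map (algebraMap A R)) E hEopen (fun x hx => hR x.asIdeal hx)
  refine ⟨Localization.Away g, inferInstance, inferInstance, inferInstance, inferInstance,
    Algebra.Etale.of_isLocalizationAway g,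
    Groth.Agent.Lib.Helper3.quotientMap_away_bijective_of_one_sub_mem _ g hg _, ?_⟩
  have hfp : (algebraMap A (Localization.Away g)).FinitePresentation := by
    rw [RingHom.finitePresentation_algebraMap]
    have : Algebra.FinitePresentation R (Localization.Away g) :=
      IsLocalization.Away.finitePresentation g
    exact Algebra.FinitePresentation.trans A R (Localization.Away g)
  refine (h₁ (algebraMap A (Localization.Away g)) hfp).2 ?_
  intro q'
  have hcomp : (algebraMap R (Localization.Away g)).comp (algebraMap A R) =
      algebraMap A (Localization.Away g) := (IsScalarTower.algebraMap_eq A R _).symm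
  rw [← hcomp]
  refine h₃ (algebraMap A R) (algebraMap R (Localization.Away g)) q'.asIdeal ?_ ?_
  · refine (hPAt _ _).mpr ⟨1, ?_, ?_⟩
    · intro h1
      exact q'.isPrime.ne_top ((Ideal.eq_top_iff_one _).mpr h1)
    · apply h₂
      have hc : (algebraMap (Localization.Away g)
          (Localization.Away (1 : Localization.Away g))).comp
          (algebraMap R (Localization.Away g)) =
          algebraMap R (Localization.Away (1 : Localization.Away g)) :=
        (IsScalarTower.algebraMap_eq R _ _).symm
      rw [hc, RingHom.etale_algebraMap]
      have e1 : Algebra.Etale R (Localization.Away g) := Algebra.Etale.of_isLocalizationAway g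
      have e2 : Algebra.Etale (Localization.Away g)
          (Localization.Away (1 : Localization.Away g)) :=
        Algebra.Etale.of_isLocalizationAway (1 : Localization.Away g)
      exact Algebra.Etale.comp R (Localization.Away g) _
  · have hmem : (PrimeSpectrum.comap (algebraMap R (Localization.Away g)) q') ∈
        (↑(PrimeSpectrum.basicOpen g) : Set (PrimeSpectrum R)) := by
      intro hmem
      have hu : IsUnit (algebraMap R (Localization.Away g) g) :=
        IsLocalization.Away.algebraMap_isUnit g
      exact q'.isPrime.ne_top (Ideal.eq_top_of_isUnit_mem _ hmem hu)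
    exact hgE hmem

end Groth.Agent.S17616
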