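import Groth.Statements.S17617
import Groth.Agent.Lib.Helper9.Hens.PairQuotient
import Groth.Agent.Lib.Helper45.WeakAssFlat

set_option autoImplicit false
universe u
open Hensel

namespace Groth.Agent.S17617

/-- Let (A, I) be a Henselian pair and let M' → M → M'' be A-linear maps with zero composite. Then M' →
M → M'' is exact if and only if for every prime ideal p of A containing I and every Henselization H
of the pair (A_p, IA_p), the sequence H ⊗_A M' → H ⊗_A M → H ⊗_A M'' is exact. (The modules H ⊗_A M
are the stalks at p of the sheaf associated to M on the affine Henselian scheme of (A, I), and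
exactness of a sequence of such sheaves is exactness at every stalk, so this is the statement that
the sequence of modules is exact exactly when the associated sequence of sheaves is.) -/
theorem result (A : Type u) [CommRing A]
    (I : Ideal A) [HenselianRing A I]
    (M' M M'' : Type u) [AddCommGroup M'] [Module A M'] [AddCommGroup M] [Module A M]
    [AddCommGroup M''] [Module A M''] (f : M' →ₗ[A] M) (g : M →ₗ[A] M'') (hfg : g.comp f = 0) :
    Function.Exact f g ↔
    ∀ (p : Ideal A) [p.IsPrime], I ≤ p →
      ∀ (H : Type u) [CommRing H] [Algebra (Localization.AtPrime p) H] [Algebra A H]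
        [IsScalarTower A (Localization.AtPrime p) H],
        Hens2.IsPairHenselization (Localization.AtPrime p)
          (I.map (algebraMap A (Localization.AtPrime p))) H →
        Function.Exact (f.baseChange H) (g.baseChange H) := by
  open Groth.Agent.Lib.Helper9.Hens Groth.Agent.Lib.Helper45 TensorProduct in
  constructor
  · -- flat base change preserves exactness
    intro hex p _ hIp H _ _ _ _ hH
    haveI : Module.Flat (Localization.AtPrime p) H := flat_of_isPairHenselization hH
    haveI : Module.Flat A (Localization.AtPrime p) := IsLocalization.flat _ p.primeCompl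
    haveI : Module.Flat A H := Module.Flat.trans A (Localization.AtPrime p) H
    have h1 : Function.Exact (f.lTensor H) (g.lTensor H) := Module.Flat.lTensor_exact H hex
    intro y
    exact h1 y
  · intro h m
    constructor
    · intro hm
      by_contra hnot
      -- the colon ideal
      let N : Submodule A M := LinearMap.range f
      let mbar : M ⧸ N := N.mkQ m
      have hmbar : mbar ≠ 0 := by
        intro h0
        apply hnot
        have : m ∈ N := (Submodule.Quotient.mk_eq_zero N).mp h0
        exact this
      have hne : annEl A mbar ≠ ⊤ := fun htop => hmbar (annEl_eq_top_iff.mp htop)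
      obtain ⟨𝔪, h𝔪max, h𝔪⟩ := Ideal.exists_le_maximal _ hne
      haveI : 𝔪.IsPrime := h𝔪max.isPrime
      have hI𝔪 : I ≤ 𝔪 := by
        have hjac : I ≤ Ideal.jacobson ⊥ := HenselianRing.jac
        refine hjac.trans ?_
        exact sInf_le ⟨bot_le, h𝔪max⟩
      -- the henselization of the local ring at `𝔪`
      let H := PairHens (Localization.AtPrime 𝔪) (I.map (algebraMap A (Localization.AtPrime 𝔪)))
      have hH : Hens2.IsPairHenselization (Localization.AtPrime 𝔪)
          (I.map (algebraMap A (Localization.AtPrime 𝔪))) H := PairHens.isPairHenselization _ _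
      letI algAH : Algebra A H :=
        ((algebraMap (Localization.AtPrime 𝔪) H).comp (algebraMap A (Localization.AtPrime 𝔪))).toAlgebra
      haveI towerH : IsScalarTower A (Localization.AtPrime 𝔪) H :=
        IsScalarTower.of_algebraMap_eq (fun r => rfl)
      haveI : Module.Flat (Localization.AtPrime 𝔪) H := flat_of_isPairHenselization hH
      haveI : Module.Flat A (Localization.AtPrime 𝔪) := IsLocalization.flat _ 𝔪.primeCompl
      haveI : Module.Flat A H := Module.Flat.trans A (Localization.AtPrime 𝔪) H
      have hex := h 𝔪 hI𝔪 H hH
      -- `1 ⊗ m` lies in the image of `f ⊗ H`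
      have h1 : (g.baseChange H) ((1 : H) ⊗ₜ[A] m) = 0 := by
        rw [LinearMap.baseChange_tmul, hm, tmul_zero]
      obtain ⟨z, hz⟩ := (hex _).mp h1
      have hπf : N.mkQ.comp f = 0 := by
        ext x
        rw [LinearMap.comp_apply, LinearMap.zero_apply]
        exact (Submodule.Quotient.mk_eq_zero N).mpr ⟨x, rfl⟩
      have h2 : (1 : H) ⊗ₜ[A] mbar = 0 := by
        have h3 : (N.mkQ.baseChange H) ((f.baseChange H) z) = 0 := by
          rw [← LinearMap.comp_apply, ← LinearMap.baseChange_comp, hπf, LinearMap.baseChange_zero,
            LinearMap.zero_apply]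
        rw [hz, LinearMap.baseChange_tmul] at h3
        exact h3
      have h4 : (annEl A mbar).map (algebraMap A H) = ⊤ := by
        rw [← annEl_one_tmul_of_flat, annEl_eq_top_iff]
        exact h2
      have h5 : 𝔪.map (algebraMap A H) = ⊤ := by
        rw [eq_top_iff, ← h4]
        exact Ideal.map_mono h𝔪
      -- contradiction: `𝔪 H ≠ H`
      have h6 : (IsLocalRing.maximalIdeal (Localization.AtPrime 𝔪)).map
          (algebraMap (Localization.AtPrime 𝔪) H) = ⊤ := by
        rw [← Localization.AtPrime.map_eq_maximalIdeal, Ideal.map_map, ← IsScalarTower.algebraMap_eq]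
        exact h5
      have hquot := isPairHenselization_quotient hH (IsLocalRing.maximalIdeal (Localization.AtPrime 𝔪))
      have h7 : (I.map (algebraMap A (Localization.AtPrime 𝔪))).map
          (Ideal.Quotient.mk (IsLocalRing.maximalIdeal (Localization.AtPrime 𝔪))) = ⊥ := by
        rw [Ideal.map_map, Ideal.map_eq_bot_iff_le_ker]
        intro a ha
        rw [RingHom.mem_ker, RingHom.comp_apply, Ideal.Quotient.eq_zero_iff_mem,
          ← Localization.AtPrime.map_eq_maximalIdeal]
        exact Ideal.mem_map_of_mem _ (hI𝔪 ha)
      have hsub : Subsingleton (H ⧸ (IsLocalRing.maximalIdeal (Localization.AtPrime 𝔪)).map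
          (algebraMap (Localization.AtPrime 𝔪) H)) := Ideal.Quotient.subsingleton_iff.mpr h6
      have h8 := mem_of_algebraMap_mem_map_of_isPairHenselization hquot 1 (by
        rw [Subsingleton.elim (algebraMap _ (H ⧸ (IsLocalRing.maximalIdeal
          (Localization.AtPrime 𝔪)).map (algebraMap (Localization.AtPrime 𝔪) H)) 1) 0]
        exact Ideal.zero_mem _)
      rw [h7] at h8
      exact one_ne_zero ((Submodule.mem_bot _).mp h8)
    · rintro ⟨x, rfl⟩
      exact DFunLike.congr_fun hfg x

end Groth.Agent.S17617
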