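import Groth.Statements.S17619
import Groth.Agent.Lib.Helper31.JAdicUnivInj
import Groth.Agent.S2069

set_option autoImplicit false
universe u
open FlatMor

namespace Groth.Agent.S17619

/-- Let A be a Noetherian ring and B a smooth A-algebra whose fibres are geometrically integral, and let
u : B → A be an A-algebra retraction with kernel I (the situation reached, after a faithfully flat
base change, in the proof that flat and pure modules are projective). Let B̂ be the I-adic
completion of B, presented as a B-algebra, compatibly an A-algebra, that is I B̂-adically complete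
and for which every truncation B/I^n → B̂/I^n B̂ is bijective. Then the canonical map B → B̂ is
universally injective over A: it remains injective after tensoring over A with any A-module (modules
in the universe of A). -/
theorem result (A : Type u) [CommRing A]
    [IsNoetherianRing A] (B : Type u) [CommRing B] [Algebra A B] [Algebra.Smooth A B]
    (hfib : FlatCA.GeomIntegralFibres A B) (u : B →ₐ[A] A)
    (Bh : Type u) [CommRing Bh] [Algebra B Bh] [Algebra A Bh] [IsScalarTower A B Bh]
    [IsAdicComplete ((RingHom.ker u).map (algebraMap B Bh)) Bh]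
    (hq : ∀ n : ℕ, Function.Bijective (Ideal.quotientMap ((RingHom.ker u ^ n).map (algebraMap B Bh))
      (algebraMap B Bh) Ideal.le_comap_map)) :
    FlatCA.UnivInj A (IsScalarTower.toAlgHom A B Bh).toLinearMap := by
  open AlgebraicGeometry CategoryTheory CategoryTheory.Limits TensorProduct in
  have hdom : ∀ (p : Ideal A) [p.IsPrime], IsDomain (B ⊗[A] (A ⧸ p)) := by
    intro p _
    let f := Spec.map (CommRingCat.ofHom (algebraMap A B))
    let g := Spec.map (CommRingCat.ofHom (algebraMap A (A ⧸ p)))
    have hgi : GeometricallyIntegral f := hfib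
    have hflat : Flat f := by
      rw [Flat.SpecMap_iff]
      show (algebraMap A B).Flat
      exact (RingHom.flat_algebraMap_iff).mpr inferInstance
    have hfp : LocallyOfFinitePresentation f := by
      rw [LocallyOfFinitePresentation.SpecMap_iff]
      show (algebraMap A B).FinitePresentation
      exact (RingHom.finitePresentation_algebraMap).mpr inferInstance
    have : IsDomain (CommRingCat.of (A ⧸ p)) := inferInstanceAs (IsDomain (A ⧸ p))
    have : IsNoetherianRing (CommRingCat.of (A ⧸ p)) := inferInstanceAs (IsNoetherianRing (A ⧸ p))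
    have hint : IsIntegral (pullback f g) := inferInstance
    have h2 : IsIntegral (Spec (.of <| B ⊗[A] (A ⧸ p))) :=
      IsIntegral.of_isIso (pullbackSpecIso A B (A ⧸ p)).hom
    exact (affine_isIntegral_iff _).mp h2
  have hBN : IsNoetherianRing B := Algebra.FiniteType.isNoetherianRing A B
  apply Groth.Agent.Lib.Helper31.JAdicUnivInj.univInj_of (RingHom.ker u) Bh hq
  intro Q _ _ hQ q hqass
  rw [Groth.Agent.S2069.result (R := A) (S := B) (M := Q) (N := B)] at hqass
  simp only [Set.mem_iUnion] at hqass
  obtain ⟨p, hp, hq'⟩ := hqass
  have hpp : p.IsPrime := hp.isPrime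
  have hd := hdom p
  -- `pB` is prime
  have hprime : (p.map (algebraMap A B)).IsPrime := by
    rw [← Ideal.Quotient.isDomain_iff_prime]
    exact (Algebra.TensorProduct.quotIdealMapEquivTensorQuot B p).toMulEquiv.isDomain _
  -- `q ≤ pB`
  obtain ⟨hqp, xbar, hx⟩ := (isAssociatedPrime_iff).mp hq'
  obtain ⟨x, rfl⟩ := Submodule.Quotient.mk_surjective _ xbar
  have htop : (p.map (algebraMap A B) • ⊤ : Submodule B B) = p.map (algebraMap A B) := by
    rw [Ideal.smul_eq_mul, Ideal.mul_top]
  have key : ∀ s : B, s ∈ q ↔ s * x ∈ p.map (algebraMap A B) := by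
    intro s
    rw [hx, Submodule.mem_colon_singleton, ← Submodule.Quotient.mk_smul, Submodule.mem_bot,
      Submodule.Quotient.mk_eq_zero, htop, smul_eq_mul]
  have hxne : x ∉ p.map (algebraMap A B) := by
    intro hmem
    apply hqp.ne_top
    rw [Ideal.eq_top_iff_one, key, one_mul]
    exact hmem
  have hle : q ≤ p.map (algebraMap A B) := by
    intro s hs
    exact (hprime.mem_or_mem ((key s).mp hs)).resolve_right hxne
  intro hJq
  have h1 : (1 : B) ∈ RingHom.ker u ⊔ q := by rw [hJq]; trivial
  obtain ⟨j, hj, b, hb, hjb⟩ := Submodule.mem_sup.mp h1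
  have hub : u b ∈ p := by
    have hle2 : p.map (algebraMap A B) ≤ p.comap u.toRingHom := by
      rw [Ideal.map_le_iff_le_comap]
      intro a ha
      show u (algebraMap A B a) ∈ p
      rw [u.commutes]
      exact ha
    exact hle2 (hle hb)
  have huj : u j = 0 := hj
  have : u (j + b) = 1 := by rw [hjb, map_one]
  rw [map_add, huj, zero_add] at this
  rw [this] at hub
  exact hpp.ne_top ((Ideal.eq_top_iff_one p).mpr hub)

end Groth.Agent.S17619
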