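import Groth.Statements.S1762
import Groth.Agent.S0364
import Groth.Agent.Lib.Helper6.FinLenDual
import Groth.Agent.Lib.Helper6.HomBC8
import Groth.Agent.Lib.Helper35.TwoTerm

set_option autoImplicit false
universe u
open CategoryTheory
attribute [local instance] HasDerivedCategory.standard
open Dual

namespace Groth.Agent.S1762

/-- Let A be a Noetherian ring with a dualizing complex ω and p a minimal prime of A. Then there is
exactly one integer i for which H^i(ω) localized at p is nonzero. -/
theorem result (A : Type u) [CommRing A] [IsNoetherianRing A] (ω : Dual.D A) (hω : Dual.IsDualizing A ω) (p : Ideal A) (hp : p ∈ minimalPrimes A) : ∃! i : ℤ, Nontrivial (LocalizedModule (Ideal.primeCompl p (hp := hp.1.1)) (Dual.HD A ω i)) := by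
  haveI : p.IsPrime := hp.1.1
  have hNB : IsNoetherianRing (Localization.AtPrime p) :=
    IsLocalization.isNoetherianRing p.primeCompl (Localization.AtPrime p) inferInstance
  have hcyc : ∀ J : Ideal (Localization.AtPrime p), ∃ (N : Type u) (_ : AddCommGroup N)
      (_ : Module A N) (_ : Module.Finite A N),
      Nonempty ((TensorProduct A (Localization.AtPrime p) N) ≃ₗ[Localization.AtPrime p]
        (Localization.AtPrime p ⧸ J)) := by
    intro J
    let I : Ideal A := J.comap (algebraMap A (Localization.AtPrime p))
    have hIJ : I.map (algebraMap A (Localization.AtPrime p)) = J :=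
      IsLocalization.map_comap p.primeCompl _ J
    refine ⟨A ⧸ I, inferInstance, inferInstance, inferInstance, ⟨?_⟩⟩
    exact (Algebra.TensorProduct.quotIdealMapEquivTensorQuot
      (Localization.AtPrime p) I).symm.toLinearEquiv ≪≫ₗ Submodule.quotEquivOfEq _ _ hIJ
  set Gω : Dual.D (Localization.AtPrime p) :=
    (Lib.Helper35.FlatBC.G A (Localization.AtPrime p)).obj ω with hGω
  have hG : Dual.IsDualizing (Localization.AtPrime p) Gω :=
    Lib.Helper6.HomBC.isDualizing_G (B := Localization.AtPrime p) hcyc ω hω
  have hH : ∀ i : ℤ, Nonempty (LocalizedModule p.primeCompl (Dual.HD A ω i)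
      ≃ₗ[Localization.AtPrime p] Dual.HD (Localization.AtPrime p) Gω i) := fun i =>
    ⟨(LocalizedModule.equivTensorProduct p.primeCompl _).trans
      (Lib.Helper6.HomBC.homologyGEquiv (B := Localization.AtPrime p) ω i).symm⟩
  have hK0 : Ring.KrullDimLE 0 (Localization.AtPrime p) :=
    Ring.KrullDimLE.of_isLocalization p hp (Localization.AtPrime p)
  have hArt : IsArtinianRing (Localization.AtPrime p) :=
    isArtinianRing_iff_isNoetherianRing_krullDimLE_zero.2 ⟨hNB, hK0⟩
  have hFL : IsFiniteLength (Localization.AtPrime p) (Localization.AtPrime p) :=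
    isFiniteLength_iff_isNoetherian_isArtinian.2 ⟨inferInstance, inferInstance⟩
  obtain ⟨n, hn1, -⟩ := Groth.Agent.S0364.result (Localization.AtPrime p) Gω hG
    (IsLocalRing.maximalIdeal (Localization.AtPrime p))
  have hvan : ∀ i : ℤ, i ≠ n → Subsingleton (Dual.HD (Localization.AtPrime p) Gω i) := by
    intro i hi
    have h1 : Subsingleton (Dual.inD (Localization.AtPrime p) (Localization.AtPrime p) ⟶ Gω⟦i⟧) :=
      Lib.Helper6.FinLenDual.subsingleton_hom_of_isFiniteLength (Gω⟦i⟧) (fun n' hn' => by
        rw [IsLocalRing.eq_maximalIdeal hn']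
        exact hn1 i hi) (Localization.AtPrime p) hFL
    obtain ⟨e⟩ := Lib.Helper6.HomSingle.nonempty_homSingleEquiv Gω i
    exact e.symm.toEquiv.subsingleton
  have hnz : Nontrivial (Dual.HD (Localization.AtPrime p) Gω n) := by
    by_contra hcon
    rw [not_nontrivial_iff_subsingleton] at hcon
    have hz : Limits.IsZero Gω := by
      have h := Lib.Helper35.KL.isGE_and_isLE_of_subsingleton Gω 1 0 (fun i _ => by
        by_cases hi : i = n
        · subst hi
          exact hcon
        · exact hvan i hi)
      haveI := h.1
      haveI := h.2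
      exact DerivedCategory.TStructure.t.isZero Gω 0 1 (by omega)
    have h1 : (1 : Localization.AtPrime p) = 0 := hG.toEnd_bijective.1 (hz.eq_of_src _ _)
    exact one_ne_zero h1
  refine ⟨n, ?_, ?_⟩
  · obtain ⟨e⟩ := hH n
    exact e.toEquiv.nontrivial
  · intro i hi
    by_contra hne
    have := hvan i hne
    obtain ⟨e⟩ := hH i
    have hs : Subsingleton (LocalizedModule p.primeCompl (Dual.HD A ω i)) :=
      e.toEquiv.subsingleton
    exact not_subsingleton _ hs

end Groth.Agent.S1762
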