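import Groth.Statements.S17620
import Groth.Agent.Lib.Helper9.Hens.PairUniversal

set_option autoImplicit false
universe u
open Hensel

namespace Groth.Agent.S17620

/-- Let R be a local ring and J an ideal of R contained in the maximal ideal, let H be a Henselization
of the pair (R, J) which is a local ring with local structure map R → H, and let S be a strict
Henselization of the local ring H. Then S, with its composite R-algebra structure, is a strict
Henselization of the local ring R. (This is the identification of the strict Henselization of the
local ring of a scheme at a point with that of the local ring of its Henselization along a closed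
subscheme through the point.) -/
theorem result
    (R : Type u) [CommRing R] [IsLocalRing R] (J : Ideal R) (hJ : J ≤ IsLocalRing.maximalIdeal R)
    (H : Type u) [CommRing H] [IsLocalRing H] [Algebra R H] [IsLocalHom (algebraMap R H)]
    (hH : Hens2.IsPairHenselization R J H)
    (S : Type u) [CommRing S] [IsLocalRing S] [Algebra H S] [IsLocalHom (algebraMap H S)]
    [Hensel.IsStrictHenselization H S]
    [Algebra R S] [IsScalarTower R H S] [IsLocalHom (algebraMap R S)] :
    Hensel.IsStrictHenselization R S := by
  open IsLocalRing in
  have hJH : J.map (algebraMap R H) ≤ maximalIdeal H := by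
    rw [Ideal.map_le_iff_le_comap]
    intro x hx
    rw [Ideal.mem_comap]
    have hx' : x ∈ maximalIdeal R := hJ hx
    rw [mem_maximalIdeal, mem_nonunits_iff] at hx' ⊢
    exact fun h => hx' (isUnit_of_map_unit (algebraMap R H) x h)
  -- the residue field extension `κ(R) → κ(H)` is surjective
  have hsurj : Function.Surjective (ResidueField.map (algebraMap R H)) := by
    intro y
    obtain ⟨h, rfl⟩ := residue_surjective y
    obtain ⟨r, hr⟩ := Groth.Agent.Lib.Helper9.Hens.exists_sub_mem_map_of_isPairHenselization hH h
    refine ⟨residue R r, ?_⟩
    rw [ResidueField.map_residue]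
    symm
    rw [← sub_eq_zero, ← map_sub, residue_eq_zero_iff]
    exact hJH hr
  have hstr : Hensel.IsStrictHenselization H S := inferInstance
  refine ⟨hstr.henselian, ?_, ?_⟩
  · -- separable closure
    have hsc : IsSepClosure (ResidueField H) (ResidueField S) := hstr.isSepClosure
    have hsepRH : Algebra.IsSeparable (ResidueField R) (ResidueField H) := by
      refine ⟨fun x => ?_⟩
      obtain ⟨y, rfl⟩ := hsurj x
      have : ResidueField.map (algebraMap R H) y = algebraMap (ResidueField R) (ResidueField H) y := by
        obtain ⟨r, rfl⟩ := residue_surjective y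
        rfl
      rw [this]
      exact isSeparable_algebraMap y
    have hsepHS : Algebra.IsSeparable (ResidueField H) (ResidueField S) := hsc.separable
    exact ⟨hsc.sep_closed, Algebra.IsSeparable.trans (ResidueField R) (ResidueField H) (ResidueField S)⟩
  · intro T _ _ f _ τ hτ
    have hJT : J.map f ≤ maximalIdeal T := by
      rw [Ideal.map_le_iff_le_comap]
      intro x hx
      rw [Ideal.mem_comap]
      have hx' : x ∈ maximalIdeal R := hJ hx
      rw [mem_maximalIdeal, mem_nonunits_iff] at hx' ⊢
      exact fun h => hx' (isUnit_of_map_unit f x h)
    obtain ⟨fH, hfH, hfHuniq⟩ := hH.2 T (maximalIdeal T) f inferInstance hJT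
    have hfH' : ∀ r, fH (algebraMap R H r) = f r := fun r => DFunLike.congr_fun hfH r
    -- `fH` is local
    have hJfH : ∀ j ∈ J.map (algebraMap R H), fH j ∈ maximalIdeal T := by
      intro j hj
      have h1 := Ideal.mem_map_of_mem fH hj
      rw [Ideal.map_map, hfH] at h1
      exact hJT h1
    have hloc : IsLocalHom fH := by
      refine ⟨fun h hu => ?_⟩
      by_contra hnu
      have hm : h ∈ maximalIdeal H := (mem_maximalIdeal h).mpr hnu
      obtain ⟨r, hr⟩ := Groth.Agent.Lib.Helper9.Hens.exists_sub_mem_map_of_isPairHenselization hH h
      have hrm : algebraMap R H r ∈ maximalIdeal H := by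
        have := (maximalIdeal H).sub_mem hm (hJH hr)
        rwa [sub_sub_cancel] at this
      have hrR : r ∈ maximalIdeal R := by
        rw [mem_maximalIdeal, mem_nonunits_iff] at hrm ⊢
        exact fun hu' => hrm (hu'.map _)
      have hfr : f r ∈ maximalIdeal T := by
        rw [mem_maximalIdeal, mem_nonunits_iff] at hrR ⊢
        exact fun h => hrR (isUnit_of_map_unit f r h)
      have hmem : fH h ∈ maximalIdeal T := by
        have h1 : fH h = fH (h - algebraMap R H r) + f r := by
          rw [map_sub, hfH', sub_add_cancel]
        rw [h1]
        exact (maximalIdeal T).add_mem (hJfH _ hr) hfr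
      exact (mem_maximalIdeal _).mp hmem hu
    -- compatibility of `τ` with `fH`
    have hτH : τ.comp (ResidueField.map (algebraMap H S)) = ResidueField.map fH := by
      apply RingHom.ext
      intro y
      obtain ⟨x, rfl⟩ := hsurj y
      have h1 := DFunLike.congr_fun hτ x
      rw [RingHom.comp_apply] at h1 ⊢
      rw [ResidueField.map_map, ResidueField.map_map]
      have e1 : (algebraMap H S).comp (algebraMap R H) = algebraMap R S :=
        (IsScalarTower.algebraMap_eq R H S).symm
      obtain ⟨r, rfl⟩ := residue_surjective x
      rw [ResidueField.map_residue] at h1 ⊢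
      rw [ResidueField.map_residue]
      rw [RingHom.comp_apply, RingHom.comp_apply, hfH', ← IsScalarTower.algebraMap_apply]
      rw [h1, ResidueField.map_residue]
    obtain ⟨g, ⟨hg1, hg2⟩, hguniq⟩ := hstr.universal T fH τ hτH
    refine ⟨g, ⟨?_, hg2⟩, ?_⟩
    · rw [IsScalarTower.algebraMap_eq R H S, ← RingHom.comp_assoc, hg1, hfH]
    · rintro g' ⟨hg'1, hg'2⟩
      apply hguniq
      refine ⟨?_, hg'2⟩
      apply hfHuniq
      rw [RingHom.comp_assoc, ← IsScalarTower.algebraMap_eq R H S, hg'1]

end Groth.Agent.S17620
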