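import Groth.Statements.S17630
import Mathlib
import Groth.Agent.S0002
import Groth.Agent.Lib.Helper45.Dev.GraphTrick
import Groth.Agent.Lib.Helper88.LESDim.Basic

set_option autoImplicit false
set_option linter.style.haveILetI false
universe u
open CategoryTheory CategoryTheory.Limits AlgebraicGeometry
open Coherent

namespace Groth.Agent.S17630

/-- Let X be a scheme proper over a field k and 0 → C_0 → C_1 → C_2 → ⋯ an exact sequence of coherent
O_X-modules: the composite of consecutive maps is zero, the sequence is exact at every C_j with j ≥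
1, and C_0 → C_1 is a monomorphism (the source numbers the sequence from C_{−1}; its argument and
its application use that the first map is injective). Then for every i ≥ 0, |dim_k H^i(X, C_0) −
dim_k H^i(X, C_1)| ≤ Σ_{j=1}^{i+1} dim_k H^{i+1−j}(X, C_{j+1}) + Σ_{j=1}^{i} dim_k H^{i−j}(X,
C_{j+1}). (The published bound is 2 · Σ_{j=1}^{i+1} dim_k H^{i+1−j}(X, C_{j+1}); the argument given
yields the two sums here, and the published form fails for the sequence 0 → O(−3) → O(−1) → O_Z → 0
on the projective line, Z a subscheme of length 2, with i = 1: the left side is 2 and the published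
right side is 0.) -/
theorem result (k : Type u) [Field k] (X : Scheme.{u})
    [X.Over (Spec (CommRingCat.of k))] [IsProper (X ↘ Spec (CommRingCat.of k))]
    (C : ℕ → X.Modules) (hC : ∀ j, Coh.IsCoh (C j)) (d : ∀ j, C j ⟶ C (j + 1))
    (hd : ∀ j, d j ≫ d (j + 1) = 0) [Mono (d 0)]
    (hex : ∀ j, (ShortComplex.mk (d j) (d (j + 1)) (hd j)).Exact) (i : ℕ) :
    |(Module.finrank k (Coh.HH X (C 0) i) : ℤ) - (Module.finrank k (Coh.HH X (C 1) i) : ℤ)| ≤
      (Finset.Icc 1 (i + 1)).sum (fun j => ((Module.finrank k (Coh.HH X (C (j + 1)) (i + 1 - j))) : ℤ)) +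
        (Finset.Icc 1 i).sum (fun j => ((Module.finrank k (Coh.HH X (C (j + 1)) (i - j))) : ℤ)) := by
  classical
  haveI : IsLocallyNoetherian X :=
    LocallyOfFiniteType.isLocallyNoetherian (X ↘ Spec (CommRingCat.of k))
  have hfinC : ∀ j p, Module.Finite k (Coh.HH X (C j) p) :=
    fun j p => Groth.Agent.S0002.result k X (C j) (hC j) p
  have hZ : ∀ j, Coh.IsCoh (kernel (d j)) :=
    fun j => Groth.Agent.Lib.Helper45.GraphTrick.isCoh_kernel (d j) (hC j) (hC (j + 1)).1
  have hfinZ : ∀ j p, Module.Finite k (Coh.HH X (kernel (d j)) p) :=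
    fun j p => Groth.Agent.S0002.result k X _ (hZ j) p
  have hZ0 : ∀ p, Module.finrank k (Coh.HH X (kernel (d 0)) p) = 0 := by
    intro p
    haveI := Groth.Agent.Lib.Helper1.subsingleton_HH_of_isZero (isZero_kernel_of_mono (d 0)) p
    exact Module.finrank_zero_of_subsingleton
  -- bound for the cohomology of `Z_2`
  have hU : ∀ m : ℕ, (Module.finrank k (Coh.HH X (kernel (d 2)) m) : ℤ) ≤
      (Finset.Icc 1 (m + 1)).sum
        (fun j => ((Module.finrank k (Coh.HH X (C (j + 1)) (m + 1 - j))) : ℤ)) := by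
    intro m
    rw [Groth.Agent.Lib.Helper88.LESDim.sum_Icc_one]
    have h1 := Groth.Agent.Lib.Helper88.LESDim.finrank_cycles_le k d hd hex hfinC hfinZ m 2
    have h2 : (Finset.range (m + 1)).sum
        (fun t => Module.finrank k (Coh.HH X (C (2 + t)) (m - t))) =
        (Finset.range (m + 1)).sum
          (fun t => Module.finrank k (Coh.HH X (C (t + 1 + 1)) (m + 1 - (t + 1)))) := by
      refine Finset.sum_congr rfl fun t _ => ?_
      rw [show 2 + t = t + 1 + 1 by omega, show m + 1 - (t + 1) = m - t by omega]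
    rw [h2] at h1
    exact_mod_cast h1
  have hnn : ∀ m : ℕ, (0 : ℤ) ≤ (Finset.Icc 1 (m + 1)).sum
      (fun j => ((Module.finrank k (Coh.HH X (C (j + 1)) (m + 1 - j))) : ℤ)) :=
    fun m => Finset.sum_nonneg fun j _ => Int.natCast_nonneg _
  -- `h^i(C_0) = h^i(Z_1)`
  have e1 : Module.finrank k (Coh.HH X (C 0) i) ≤
      Module.finrank k (Coh.HH X (kernel (d 0)) i) +
        Module.finrank k (Coh.HH X (kernel (d 1)) i) :=
    Groth.Agent.Lib.Helper88.LESDim.cyc_X₂_le k d hd hex hfinC hfinZ 0 i
  have e2 : Module.finrank k (Coh.HH X (kernel (d 1)) i) ≤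
      Module.finrank k (Coh.HH X (C 0) i) +
        Module.finrank k (Coh.HH X (kernel (d 0)) (i + 1)) :=
    Groth.Agent.Lib.Helper88.LESDim.cyc_X₃_le k d hd hex hfinC hfinZ 0 i
  have e3 : Module.finrank k (Coh.HH X (C 1) i) ≤
      Module.finrank k (Coh.HH X (kernel (d 1)) i) +
        Module.finrank k (Coh.HH X (kernel (d 2)) i) :=
    Groth.Agent.Lib.Helper88.LESDim.cyc_X₂_le k d hd hex hfinC hfinZ 1 i
  rw [hZ0] at e1 e2
  have hUi := hU i
  have hnni := hnn i
  rw [abs_le]
  cases i with
  | zero =>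
    have e4 : Module.finrank k (Coh.HH X (kernel (d 1)) 0) ≤
        Module.finrank k (Coh.HH X (C 1) 0) :=
      Groth.Agent.Lib.Helper88.LESDim.cyc_X₁_zero_le k d hd hex hfinC 1
    simp only [Finset.Icc_eq_empty_of_lt Nat.zero_lt_one, Finset.sum_empty, add_zero]
    constructor <;> omega
  | succ i' =>
    have e4 : Module.finrank k (Coh.HH X (kernel (d 1)) (i' + 1)) ≤
        Module.finrank k (Coh.HH X (kernel (d 2)) i') +
          Module.finrank k (Coh.HH X (C 1) (i' + 1)) :=
      Groth.Agent.Lib.Helper88.LESDim.cyc_X₁_succ_le k d hd hex hfinC hfinZ 1 i'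
    have hUi' := hU i'
    have hnni' := hnn i'
    constructor <;> omega

end Groth.Agent.S17630
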