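import Groth.Statements.S17635
import Mathlib.Tactic
import Mathlib.Analysis.Normed.Module.Basic
-- import your own Groth.Agent.* helpers here

set_option autoImplicit false
open Finset
open Variety

namespace Groth.Agent.S17635

/-- The sup norm of a rational vector, computed in `ℝ`. -/
noncomputable def N {r : ℕ} (v : Fin r → ℚ) : ℝ := ‖(fun j => ((v j : ℚ) : ℝ))‖

/-- The comparison sum `∑_{q=1}^n a^(n-q) b^q`. -/
noncomputable def S (n : ℕ) (a b : ℝ) : ℝ := (Finset.Icc 1 n).sum (fun q => a ^ (n - q) * b ^ q)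

theorem S_nonneg (n : ℕ) {a b : ℝ} (ha : 0 ≤ a) (hb : 0 ≤ b) : 0 ≤ S n a b := by
  unfold S
  apply Finset.sum_nonneg
  intro q _
  positivity

theorem S_mono (n : ℕ) {a a' b b' : ℝ} (ha : 0 ≤ a) (haa : a ≤ a') (hb : 0 ≤ b) (hbb : b ≤ b') :
    S n a b ≤ S n a' b' := by
  unfold S
  apply Finset.sum_le_sum
  intro q _
  apply mul_le_mul (pow_le_pow_left₀ ha haa _) (pow_le_pow_left₀ hb hbb _) (by positivity)
  exact pow_nonneg (ha.trans haa) _

theorem S_smul (n : ℕ) (t a b : ℝ) : S n (t * a) (t * b) = t ^ n * S n a b := by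
  unfold S
  rw [Finset.mul_sum]
  apply Finset.sum_congr rfl
  intro q hq
  rw [Finset.mem_Icc] at hq
  have : t ^ n = t ^ (n - q) * t ^ q := by
    rw [← pow_add]; congr 1; omega
  rw [this, mul_pow, mul_pow]; ring

theorem N_nonneg {r : ℕ} (v : Fin r → ℚ) : 0 ≤ N v := norm_nonneg _

theorem abs_le_N {r : ℕ} (v : Fin r → ℚ) (j : Fin r) : |((v j : ℚ) : ℝ)| ≤ N v := by
  have := norm_le_pi_norm (fun j => ((v j : ℚ) : ℝ)) j
  rw [Real.norm_eq_abs] at this
  exact this

theorem N_le {r : ℕ} (v : Fin r → ℚ) {M : ℝ} (hM : 0 ≤ M) (h : ∀ j, |((v j : ℚ) : ℝ)| ≤ M) :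
    N v ≤ M := by
  unfold N
  rw [pi_norm_le_iff_of_nonneg hM]
  intro j
  rw [Real.norm_eq_abs]
  exact h j

theorem N_smul {r : ℕ} (d : ℚ) (hd : 0 ≤ d) (v : Fin r → ℚ) : N (d • v) = (d : ℝ) * N v := by
  unfold N
  have h1 : (fun j => (((d • v) j : ℚ) : ℝ)) = (d : ℝ) • (fun j => ((v j : ℚ) : ℝ)) := by
    ext j
    simp
  rw [h1, norm_smul, Real.norm_of_nonneg (by exact_mod_cast hd)]

/-- single integral step in direction `i` -/
theorem step {r n : ℕ} (f : (Fin r → ℚ) → ℝ) (i : Fin r) (Ci : ℝ)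
    (hCi : ∀ (v : Fin r → ℚ) (b : ℕ), 1 ≤ b →
      |f (v - (b : ℚ) • Pi.single i 1) - f v| ≤ Ci * S n (N v) (b : ℝ))
    (u : Fin r → ℚ) (z : ℤ) :
    |f (u - (z : ℚ) • Pi.single i 1) - f u| ≤
      |Ci| * S n (max (N u) (N (u - (z : ℚ) • Pi.single i 1))) |(z : ℝ)| := by
  have hmaxnn : 0 ≤ max (N u) (N (u - (z : ℚ) • Pi.single i 1)) :=
    le_max_of_le_left (N_nonneg u)
  rcases lt_trichotomy z 0 with hz | hz | hz
  · -- negative
    set b : ℕ := (-z).toNat with hb
    have hb1 : 1 ≤ b := by omega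
    have hbz : ((b : ℕ) : ℚ) = -(z : ℚ) := by
      have : ((b : ℕ) : ℤ) = -z := by omega
      exact_mod_cast this
    set u' := u - (z : ℚ) • Pi.single i (1 : ℚ) with hu'
    have hback : u' - (b : ℚ) • Pi.single i (1 : ℚ) = u := by
      rw [hu', hbz]; ext j; simp
    have h1 := hCi u' b hb1
    rw [hback] at h1
    rw [abs_sub_comm] at h1
    refine h1.trans ?_
    have hbabs : ((b : ℕ) : ℝ) = |(z : ℝ)| := by
      have : ((b : ℕ) : ℝ) = -(z : ℝ) := by exact_mod_cast hbz
      rw [this, abs_of_neg (by exact_mod_cast hz)]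
    calc Ci * S n (N u') (b : ℝ) ≤ |Ci| * S n (N u') (b : ℝ) :=
          mul_le_mul_of_nonneg_right (le_abs_self _) (S_nonneg n (N_nonneg _) (by positivity))
      _ ≤ |Ci| * S n (max (N u) (N u')) |(z : ℝ)| := by
          apply mul_le_mul_of_nonneg_left _ (abs_nonneg _)
          rw [hbabs]
          exact S_mono n (N_nonneg _) (le_max_right _ _) (abs_nonneg _) le_rfl
  · subst hz
    simp only [Int.cast_zero, zero_smul, sub_zero, sub_self, abs_zero]
    exact mul_nonneg (abs_nonneg _) (S_nonneg n (le_max_of_le_left (N_nonneg u)) le_rfl)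
  · -- positive
    set b : ℕ := z.toNat with hb
    have hb1 : 1 ≤ b := by omega
    have hbz : ((b : ℕ) : ℚ) = (z : ℚ) := by
      have : ((b : ℕ) : ℤ) = z := by omega
      exact_mod_cast this
    have h1 := hCi u b hb1
    rw [hbz] at h1
    refine h1.trans ?_
    have hbabs : ((b : ℕ) : ℝ) = |(z : ℝ)| := by
      have : ((b : ℕ) : ℝ) = (z : ℝ) := by exact_mod_cast hbz
      rw [this, abs_of_pos (by exact_mod_cast hz)]
    calc Ci * S n (N u) (b : ℝ) ≤ |Ci| * S n (N u) (b : ℝ) :=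
          mul_le_mul_of_nonneg_right (le_abs_self _) (S_nonneg n (N_nonneg _) (by positivity))
      _ ≤ |Ci| * S n (max (N u) (N (u - (z : ℚ) • Pi.single i 1))) |(z : ℝ)| := by
          apply mul_le_mul_of_nonneg_left _ (abs_nonneg _)
          rw [hbabs]
          exact S_mono n (N_nonneg _) (le_max_left _ _) (abs_nonneg _) le_rfl

/-- integral difference vectors -/
theorem integral_case {r n : ℕ} (f : (Fin r → ℚ) → ℝ) (Cf : Fin r → ℝ)
    (hCf : ∀ (i : Fin r) (v : Fin r → ℚ) (b : ℕ), 1 ≤ b →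
      |f (v - (b : ℚ) • Pi.single i 1) - f v| ≤ Cf i * S n (N v) (b : ℝ))
    (u u' : Fin r → ℚ) (z : Fin r → ℤ) (hz : ∀ j, u j - u' j = (z j : ℚ)) :
    |f u - f u'| ≤ (∑ i, |Cf i|) * S n (max (N u) (N u')) (N (u - u')) := by
  classical
  set M := max (N u) (N u') with hM
  set D := N (u - u') with hD
  have hMnn : 0 ≤ M := le_max_of_le_left (N_nonneg u)
  have hDnn : 0 ≤ D := N_nonneg _
  -- hybrid points
  set h : Finset (Fin r) → (Fin r → ℚ) := fun T j => if j ∈ T then u' j else u j with hh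
  have hNh : ∀ T, N (h T) ≤ M := by
    intro T
    apply N_le _ hMnn
    intro j
    by_cases hj : j ∈ T
    · simp only [hh, if_pos hj]
      exact (abs_le_N u' j).trans (le_max_right _ _)
    · simp only [hh, if_neg hj]
      exact (abs_le_N u j).trans (le_max_left _ _)
  have hzD : ∀ j, |((z j : ℤ) : ℝ)| ≤ D := by
    intro j
    have := abs_le_N (u - u') j
    have e : (((u - u') j : ℚ) : ℝ) = ((z j : ℤ) : ℝ) := by
      rw [Pi.sub_apply, hz j]; push_cast; rfl
    rw [e] at this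
    exact this
  have key : ∀ T : Finset (Fin r), |f u - f (h T)| ≤ (∑ i ∈ T, |Cf i|) * S n M D := by
    intro T
    induction T using Finset.induction_on with
    | empty =>
      have : h ∅ = u := by ext j; simp [hh]
      rw [this]; simp
    | insert a T ha ih =>
      have hins : h (insert a T) = h T - ((z a : ℤ) : ℚ) • Pi.single a (1 : ℚ) := by
        ext j
        by_cases hja : j = a
        · subst hja
          simp only [hh, Finset.mem_insert, true_or, if_true, if_neg ha, Pi.sub_apply,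
            Pi.smul_apply, Pi.single_eq_same, smul_eq_mul, mul_one]
          rw [← hz j]; ring
        · by_cases hjT : j ∈ T
          · simp [hh, hja, hjT]
          · simp [hh, hja, hjT]
      have hstep := step (n := n) f a (Cf a) (hCf a) (h T) (z a)
      rw [← hins] at hstep
      have hstep' : |f (h (insert a T)) - f (h T)| ≤ |Cf a| * S n M D := by
        refine hstep.trans ?_
        apply mul_le_mul_of_nonneg_left _ (abs_nonneg _)
        apply S_mono n (le_max_of_le_left (N_nonneg _)) (max_le (hNh T) (hNh _)) (abs_nonneg _)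
          (hzD a)
      rw [Finset.sum_insert ha, add_mul]
      calc |f u - f (h (insert a T))|
          = |(f u - f (h T)) - (f (h (insert a T)) - f (h T))| := by congr 1; ring
        _ ≤ |f u - f (h T)| + |f (h (insert a T)) - f (h T)| := abs_sub _ _
        _ ≤ (∑ i ∈ T, |Cf i|) * S n M D + |Cf a| * S n M D := add_le_add ih hstep'
        _ = |Cf a| * S n M D + (∑ i ∈ T, |Cf i|) * S n M D := by ring
  have huniv : h Finset.univ = u' := by ext j; simp [hh]
  have := key Finset.univ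
  rwa [huniv] at this

/-- Let r and n be natural numbers and f : ℚ^r → ℝ a nonnegative function which is homogeneous of degree
n for positive rational scalars, f(q · v) = q^n · f(v) for q > 0; give ℚ^r the maximum norm ‖v‖ =
max_j |v_j| of its standard basis. Suppose that for every standard basis vector e_i there is a
constant C_i with |f(v − b · e_i) − f(v)| ≤ C_i · Σ_{q=1}^{n} ‖v‖^{n−q} · b^q for all v ∈ ℚ^r and
all integers b ≥ 1. Then there is a constant C > 0 such that |f(v) − f(w)| ≤ C · Σ_{q=1}^{n}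
max(‖v‖, ‖w‖)^{n−q} · ‖v − w‖^q for all v, w ∈ ℚ^r. (The source allows any norm on an r-dimensional
rational vector space with a chosen basis and argues with the maximum norm of that basis, which is
the case stated here.) -/
theorem result (r n : ℕ) (f : (Fin r → ℚ) → ℝ)
    (hf0 : ∀ v, 0 ≤ f v)
    (hhom : ∀ (q : ℚ) (v : Fin r → ℚ), 0 < q → f (q • v) = (q : ℝ) ^ n * f v)
    (hdir : ∀ i : Fin r, ∃ Ci : ℝ, ∀ (v : Fin r → ℚ) (b : ℕ), 1 ≤ b →
      |f (v - (b : ℚ) • Pi.single i 1) - f v| ≤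
        Ci * (Finset.Icc 1 n).sum (fun q => ‖(fun j => ((v j : ℚ) : ℝ))‖ ^ (n - q) * (b : ℝ) ^ q)) :
    ∃ C : ℝ, 0 < C ∧ ∀ v w : Fin r → ℚ,
      |f v - f w| ≤ C * (Finset.Icc 1 n).sum (fun q =>
        (max ‖(fun j => ((v j : ℚ) : ℝ))‖ ‖(fun j => ((w j : ℚ) : ℝ))‖) ^ (n - q) *
          ‖(fun j => ((v j - w j : ℚ) : ℝ))‖ ^ q) := by
  classical
  choose Cf hCf using hdir
  refine ⟨1 + ∑ i, |Cf i|, by positivity, ?_⟩
  intro v w
  change |f v - f w| ≤ (1 + ∑ i, |Cf i|) * S n (max (N v) (N w)) (N (v - w))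
  -- common denominator of the differences
  set d : ℕ := ∏ j, (v j - w j).den with hd
  have hdpos : 0 < d := Finset.prod_pos (fun j _ => Rat.den_pos _)
  have hdq : (0 : ℚ) < (d : ℚ) := by exact_mod_cast hdpos
  have hdr : (0 : ℝ) < ((d : ℚ) : ℝ) := by exact_mod_cast hdpos
  have hint : ∀ j, ∃ zj : ℤ, ((d : ℚ) • v) j - ((d : ℚ) • w) j = (zj : ℚ) := by
    intro j
    refine ⟨(∏ i ∈ Finset.univ.erase j, ((v i - w i).den : ℤ)) * (v j - w j).num, ?_⟩
    have h1 : (d : ℚ) = ((v j - w j).den : ℚ) * ∏ i ∈ Finset.univ.erase j, ((v i - w i).den : ℚ) := by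
      rw [hd]
      push_cast
      exact (Finset.mul_prod_erase _ _ (Finset.mem_univ j)).symm
    have h2 : ((v j - w j).den : ℚ) * (v j - w j) = ((v j - w j).num : ℚ) := by
      rw [mul_comm]; exact Rat.mul_den_eq_num _
    simp only [Pi.smul_apply, smul_eq_mul]
    push_cast
    rw [← mul_sub, h1, ← h2]; ring
  choose z hz using hint
  have hB := integral_case (n := n) f Cf hCf ((d : ℚ) • v) ((d : ℚ) • w) z hz
  rw [hhom _ v hdq, hhom _ w hdq, ← smul_sub, N_smul _ hdq.le, N_smul _ hdq.le, N_smul _ hdq.le,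
    ← mul_max_of_nonneg _ _ hdr.le, S_smul, ← mul_sub, abs_mul] at hB
  have hdn : (0 : ℝ) < ((d : ℚ) : ℝ) ^ n := by positivity
  rw [abs_of_pos hdn] at hB
  have hS := S_nonneg n (le_max_of_le_left (N_nonneg v) : 0 ≤ max (N v) (N w)) (N_nonneg (v - w))
  have hB' : |f v - f w| ≤ (∑ i, |Cf i|) * S n (max (N v) (N w)) (N (v - w)) := by
    have h3 : ((d : ℚ) : ℝ) ^ n * |f v - f w| ≤
        ((d : ℚ) : ℝ) ^ n * ((∑ i, |Cf i|) * S n (max (N v) (N w)) (N (v - w))) := by
      have e : (∑ i, |Cf i|) * (((d : ℚ) : ℝ) ^ n * S n (max (N v) (N w)) (N (v - w))) =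
          ((d : ℚ) : ℝ) ^ n * ((∑ i, |Cf i|) * S n (max (N v) (N w)) (N (v - w))) := by ring
      rw [← e]
      convert hB using 3
    exact le_of_mul_le_mul_left h3 hdn
  calc |f v - f w| ≤ (∑ i, |Cf i|) * S n (max (N v) (N w)) (N (v - w)) := hB'
    _ ≤ (1 + ∑ i, |Cf i|) * S n (max (N v) (N w)) (N (v - w)) := by
      apply mul_le_mul_of_nonneg_right _ hS
      linarith

end Groth.Agent.S17635
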