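import Groth.Statements.S17639
-- import your own Groth.Agent.* helpers here
import Groth.Agent.Lib.Helper32.RGammaColoc
import Groth.Agent.Lib.Helper32.GlueTwo

set_option autoImplicit false
universe u
open CategoryTheory CategoryTheory.Limits AlgebraicGeometry
attribute [local instance] HasDerivedCategory.standard
open Dual3

namespace Groth.Agent.S17639

open Groth.Agent.Lib.Helper32.RGammaColoc Groth.Agent.Lib.Helper32.RGammaTri
  Groth.Agent.Lib.Helper32.RGammaZ Groth.Agent.Lib.Helper32.OpenSupp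
  Groth.Agent.Lib.Helper32.OpenKInj Pretriangulated

/-- objects vanishing on `U` have no maps to objects vanishing on `V` when `U ∪ V` is everything. -/
lemma subsingleton_hom_of_cover {T : Scheme.{u}} (U V : T.Opens) (hUV : U ⊔ V = ⊤)
    (A C : DCoh.D T) (hA : IsZero ((DCoh.restrictD U.ι).obj A))
    (hC : IsZero ((DCoh.restrictD V.ι).obj C)) : Subsingleton (A ⟶ C) := by
  haveI : DCoh.HasRpush U.ι := hasRightDerivedFunctor (hasKInjRes _) _
  have hUV0 : IsZero ((DCoh.restrictD (U ⊓ V).ι).obj C) :=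
    isZero_restrictD_of_range_subset (U ⊓ V).ι V.ι
      (by simp only [Scheme.Opens.range_ι]; exact fun x hx => hx.2) C hC
  obtain ⟨e⟩ := nonempty_iso_Rpush_restrictD U V hUV C hC hUV0
  exact subsingleton_hom_of_iso_Rpush (j := U.ι) hA _ e

lemma isIso_restrictD_unit' {P X : Scheme.{u}} (j : P ⟶ X) [IsOpenImmersion j] [DCoh.HasRpush j]
    (adjj : DCoh.restrictD j ⊣ DCoh.Rpush j) (A : DCoh.D X) :
    IsIso ((DCoh.restrictD j).map (adjj.unit.app A)) := by
  obtain ⟨ff⟩ := nonempty_fullyFaithful_Rpush j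
  haveI := ff.full
  haveI := ff.faithful
  have h := adjj.left_triangle_components A
  haveI : IsIso ((DCoh.restrictD j).map (adjj.unit.app A) ≫
      adjj.counit.app ((DCoh.restrictD j).obj A)) := by
    rw [h]; exact IsIso.id _
  exact IsIso.of_isIso_comp_right _ (adjj.counit.app ((DCoh.restrictD j).obj A))

lemma bijective_comp_unit {P X : Scheme.{u}} (j : P ⟶ X) [IsOpenImmersion j] [DCoh.HasRpush j]
    (adjj : DCoh.restrictD j ⊣ DCoh.Rpush j) (W : X.Opens)
    (hW : (W : Set X)ᶜ ⊆ Set.range j.base) (A N₀ : DCoh.D X) (hA : PZ W.ι A) :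
    Function.Bijective (fun ξ : A ⟶ N₀ => ξ ≫ adjj.unit.app N₀) := by
  obtain ⟨C, m₂, m₃, hT⟩ := distinguished_cocone_triangle (adjj.unit.app N₀)
  have hu := isIso_restrictD_unit' j adjj N₀
  have hC : IsZero ((DCoh.restrictD j).obj C) :=
    (Triangle.isZero₃_iff_isIso₁ _ ((DCoh.restrictD j).map_distinguished _ hT)).mpr hu
  have hC' : IsZero ((DCoh.restrictD j.opensRange.ι).obj C) :=
    isZero_restrictD_of_range_subset j.opensRange.ι j
      (by simp only [Scheme.Opens.range_ι]; exact fun x hx => hx) C hC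
  have hUV : W ⊔ j.opensRange = ⊤ := by
    apply TopologicalSpace.Opens.ext
    ext x
    simp only [TopologicalSpace.Opens.coe_sup, TopologicalSpace.Opens.coe_top, Set.mem_union,
      Set.mem_univ, iff_true]
    by_cases hx : x ∈ (W : Set X)
    · exact Or.inl hx
    · exact Or.inr (hW hx)
  exact bijective_comp_mor₁ (Triangle.mk (adjj.unit.app N₀) m₂ m₃) hT A
    (subsingleton_hom_of_cover W j.opensRange hUV A C hA hC')
    (subsingleton_hom_of_cover W j.opensRange hUV _ C (PZ_shift hA 1) hC')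

/-- Let f : X ⟶ Y be a separated morphism of finite type of Noetherian schemes, factored as f = f̄ ∘ j
with j : X ⟶ X̄ an open immersion and f̄ : X̄ ⟶ Y proper. Let Z ⊆ Y be a closed subset with open
complement U, and Z' ⊆ X a closed subset which is proper over Y and contained in f⁻¹(Z); such a Z'
has closed image in X̄, and it is given here as Z' = j⁻¹(X̄ ∖ W) for an open W ⊆ X̄ with X̄ ∖ W ⊆
j(X) and f⁻¹(U) ⊆ j⁻¹(W). Let Rf̄_* and Rj_* exist and preserve complexes with quasi-coherent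
cohomology, let a be a right adjoint of Rf̄_* on D_qc with its adjunction (whose counit is the trace
map of f̄), let an adjunction j^* ⊣ Rj_* be given, put f^!G = (a G)|_X, and let θ : RΓ_{Z'}(j^* aG)
⟶ j^*RΓ_{j(Z')}(aG) be the comparison morphism compatible with the two maps to j^*(aG), the unit
RΓ_{j(Z')}(aG) ⟶ Rj_* j^* RΓ_{j(Z')}(aG) being an isomorphism. Then for every F in D(O_X) with
quasi-coherent cohomology sheaves, bounded above and supported on Z', and every G in D_qc(O_Y),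
bounded below with cohomology supported on Z, the map sending φ : F ⟶ RΓ_{Z'}(f^!G) to the composite
Rf̄_* Rj_* F ⟶ Rf̄_* Rj_* RΓ_{Z'}(f^!G) ⟶ Rf̄_* Rj_* j^* RΓ_{j(Z')}(aG) ⟶ Rf̄_* RΓ_{j(Z')}(aG) ⟶
Rf̄_*(aG) ⟶ G (Rf̄_*Rj_* of φ and θ, inverse of the unit, the canonical map out of RΓ, the trace) is
a bijection from Hom(F, RΓ_{Z'} f^!G) onto Hom(Rf_* F, G), with Rf_* computed as Rf̄_* ∘ Rj_*: the
functor Rf_* is left adjoint to RΓ_{Z'} f^! on these objects. (Throughout, RΓ with support is the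
total right derived functor of the sheaf of sections supported in the closed subset. The published
statement derives instead the functor of sections killed by some power of a defining ideal; on
complexes with quasi-coherent cohomology sheaves over a Noetherian scheme the two derived functors
agree.) -/
theorem result {X Y : Scheme.{u}} [IsNoetherian X] [IsNoetherian Y]
    (f : X ⟶ Y) [IsSeparated f] [LocallyOfFiniteType f] (c : DEt.Compactification f)
    (U : Y.Opens) (W : c.Xbar.Opens) (hW : (W : Set c.Xbar)ᶜ ⊆ Set.range c.j.base) (hZ : f ⁻¹ᵁ U ≤ c.j ⁻¹ᵁ W)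
    [DCoh.HasRpush c.fbar] [DCoh.HasRpush c.j] (hfbar : DCoh.RpushPreservesQCoh c.fbar) (hj : DCoh.RpushPreservesQCoh c.j)
    (a : DCoh.DQCoh Y ⥤ DCoh.DQCoh c.Xbar) (adj : DCoh.RpushQ c.fbar hfbar ⊣ a)
    (adjj : DCoh.restrictD c.j ⊣ DCoh.Rpush c.j)
    [CxOX.HasRgammaZ W.ι] [CxOX.HasRgammaZ (c.j ⁻¹ᵁ W).ι]
    (G : DCoh.DQCoh Y) (n : ℤ) (hGn : DerivedCategory.IsGE G.obj n) (hGZ : CxOX.IsSuppD U.ι G.obj)
    (θ : (CxOX.RgammaZ (c.j ⁻¹ᵁ W).ι).obj ((Dual3.shriekC c a).obj G) ⟶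
      (DCoh.restrictD c.j).obj ((CxOX.RgammaZ W.ι).obj (a.obj G).obj))
    (hθ : θ ≫ (DCoh.restrictD c.j).map ((CxOX.RgammaZToId W.ι).app (a.obj G).obj) =
      (CxOX.RgammaZToId (c.j ⁻¹ᵁ W).ι).app ((Dual3.shriekC c a).obj G))
    [IsIso (adjj.unit.app ((CxOX.RgammaZ W.ι).obj (a.obj G).obj))]
    (F : DCoh.D X) (hF : DCoh.IsQCohD F) (m : ℤ) (hFm : DerivedCategory.IsLE F m)
    (hFZ : CxOX.IsSuppD (c.j ⁻¹ᵁ W).ι F) :
    Function.Bijective (fun φ : F ⟶ (CxOX.RgammaZ (c.j ⁻¹ᵁ W).ι).obj ((Dual3.shriekC c a).obj G) =>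
      (DCoh.Rpush c.fbar).map ((DCoh.Rpush c.j).map (φ ≫ θ) ≫
          inv (adjj.unit.app ((CxOX.RgammaZ W.ι).obj (a.obj G).obj)) ≫
          (CxOX.RgammaZToId W.ι).app (a.obj G).obj) ≫
        (adj.counit.app G).hom) := by
  have hF0 : IsZero ((DCoh.restrictD (c.j ⁻¹ᵁ W).ι).obj F) :=
    isZero_restrictD_of_support (c.j ⁻¹ᵁ W) F (fun i x hx hs => hFZ i hs ⟨⟨x, hx⟩, rfl⟩)
  have hA : PZ W.ι ((DCoh.Rpush c.j).obj F) := isZero_restrictD_Rpush' c.j W F hF0
  have hε := isColoc_RgammaZToId (c.j ⁻¹ᵁ W) ((Dual3.shriekC c a).obj G)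
  have hbij1 := hε.bij F hF0
  obtain ⟨ff⟩ := nonempty_fullyFaithful_Rpush c.j
  let Ψ : (F ⟶ (CxOX.RgammaZ (c.j ⁻¹ᵁ W).ι).obj ((Dual3.shriekC c a).obj G)) →
      ((DCoh.Rpush c.j).obj F ⟶ (a.obj G).obj) := fun φ =>
    (DCoh.Rpush c.j).map (φ ≫ θ) ≫
      inv (adjj.unit.app ((CxOX.RgammaZ W.ι).obj (a.obj G).obj)) ≫
      (CxOX.RgammaZToId W.ι).app (a.obj G).obj
  have hΨ : ∀ φ, Ψ φ ≫ adjj.unit.app (a.obj G).obj =
      (DCoh.Rpush c.j).map (φ ≫ (CxOX.RgammaZToId (c.j ⁻¹ᵁ W).ι).app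
        ((Dual3.shriekC c a).obj G)) := by
    intro φ
    have hnat := adjj.unit.naturality ((CxOX.RgammaZToId W.ι).app (a.obj G).obj)
    simp only [Functor.id_obj, Functor.id_map, Functor.comp_obj, Functor.comp_map] at hnat
    rw [← hθ]
    simp only [Ψ, Category.assoc]
    rw [hnat, IsIso.inv_hom_id_assoc, ← Functor.map_comp, Category.assoc]
  have hΨbij : Function.Bijective Ψ := by
    have h1 : Function.Bijective
        ((fun ξ : (DCoh.Rpush c.j).obj F ⟶ (a.obj G).obj => ξ ≫ adjj.unit.app (a.obj G).obj) ∘ Ψ) := by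
      have : ((fun ξ : (DCoh.Rpush c.j).obj F ⟶ (a.obj G).obj =>
          ξ ≫ adjj.unit.app (a.obj G).obj) ∘ Ψ) =
          (fun ψ : F ⟶ (Dual3.shriekC c a).obj G => (DCoh.Rpush c.j).map ψ) ∘
          (fun g : F ⟶ (CxOX.RgammaZ (c.j ⁻¹ᵁ W).ι).obj ((Dual3.shriekC c a).obj G) =>
            g ≫ (CxOX.RgammaZToId (c.j ⁻¹ᵁ W).ι).app ((Dual3.shriekC c a).obj G)) := by
        funext φ
        exact hΨ φ
      rw [this]
      exact (ff.map_bijective _ _).comp hbij1
    exact (Function.Bijective.of_comp_iff'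
      (bijective_comp_unit c.j adjj W hW _ (a.obj G).obj hA) Ψ).mp h1
  have hfinal : ∀ φ, (DCoh.Rpush c.fbar).map (Ψ φ) ≫ (adj.counit.app G).hom =
      ((adj.homEquiv (⟨(DCoh.Rpush c.j).obj F, hj F hF⟩ : DCoh.DQCoh c.Xbar) G).symm
        (ObjectProperty.homMk (Ψ φ))).hom := by
    intro φ
    rw [Adjunction.homEquiv_counit]
    rfl
  have hcomp : (fun φ : F ⟶ (CxOX.RgammaZ (c.j ⁻¹ᵁ W).ι).obj ((Dual3.shriekC c a).obj G) =>
      (DCoh.Rpush c.fbar).map ((DCoh.Rpush c.j).map (φ ≫ θ) ≫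
          inv (adjj.unit.app ((CxOX.RgammaZ W.ι).obj (a.obj G).obj)) ≫
          (CxOX.RgammaZToId W.ι).app (a.obj G).obj) ≫
        (adj.counit.app G).hom) =
      (fun g : (DCoh.RpushQ c.fbar hfbar).obj
          (⟨(DCoh.Rpush c.j).obj F, hj F hF⟩ : DCoh.DQCoh c.Xbar) ⟶ G => g.hom) ∘
      (adj.homEquiv (⟨(DCoh.Rpush c.j).obj F, hj F hF⟩ : DCoh.DQCoh c.Xbar) G).symm ∘
      (fun ξ : (DCoh.Rpush c.j).obj F ⟶ (a.obj G).obj =>
        (ObjectProperty.homMk ξ :
          (⟨(DCoh.Rpush c.j).obj F, hj F hF⟩ : DCoh.DQCoh c.Xbar) ⟶ a.obj G)) ∘ Ψ := by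
    funext φ
    exact hfinal φ
  rw [hcomp]
  refine Function.Bijective.comp ?_ (Function.Bijective.comp (Equiv.bijective _)
    (Function.Bijective.comp ?_ hΨbij))
  · exact ⟨fun g₁ g₂ h => ObjectProperty.hom_ext _ h, fun g => ⟨ObjectProperty.homMk g, rfl⟩⟩
  · exact ⟨fun g₁ g₂ h => congrArg (fun t => t.hom) h, fun g => ⟨g.hom, rfl⟩⟩

end Groth.Agent.S17639
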