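import Groth.Statements.S17642
import Groth.Agent.Lib.Helper69.PnAffine
import Groth.Agent.Lib.Helper69.ImmAffineSpace

set_option autoImplicit false
universe u
open CategoryTheory AlgebraicGeometry
open DerSch

namespace Groth.Agent.S17642

/-- Consider Noetherian schemes X and Y together with a morphism f : X ⟶ Y that is locally of finite
type. Given affine open subsets U ⊆ X and V ⊆ Y such that f(U) ⊆ V, the restriction of f to U can be
written as a composite U ⟶ W ⟶ P ⟶ Y in which the first map U ⟶ W is an open immersion, the middle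
map W ⟶ P is a closed immersion, and the last map P ⟶ Y is both smooth and proper. In the published
section every morphism is taken to be separated as a standing convention; since the printed proof
never uses this, no separatedness hypothesis appears here. -/
theorem result {X Y : Scheme.{u}}
    [IsNoetherian X] [IsNoetherian Y] (f : X ⟶ Y) [LocallyOfFiniteType f]
    (U : X.Opens) (hU : IsAffineOpen U) (V : Y.Opens) (hV : IsAffineOpen V) (hUV : U ≤ f ⁻¹ᵁ V) :
    ∃ (W P : Scheme.{u}) (g : (U : Scheme.{u}) ⟶ W) (h : W ⟶ P) (k : P ⟶ Y),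
      IsOpenImmersion g ∧ IsClosedImmersion h ∧ Smooth k ∧ IsProper k ∧ g ≫ h ≫ k = U.ι ≫ f := by
  have hUa : IsAffine (U : Scheme.{u}) := hU
  obtain ⟨n, i, hi, hcomp⟩ := Groth.Agent.Lib.Helper69.exists_immersion_affineSpace (U.ι ≫ f)
  have hj : IsImmersion (i ≫ Groth.Agent.Lib.Helper69.PnAffine.chart n Y) := inferInstance
  have hNS : TopologicalSpace.NoetherianSpace X := inferInstance
  have hNU : TopologicalSpace.NoetherianSpace (U : Scheme.{u}) :=
    TopologicalSpace.NoetherianSpace.set (U : Set X)
  have hqc : QuasiCompact (i ≫ Groth.Agent.Lib.Helper69.PnAffine.chart n Y) := inferInstance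
  refine ⟨_, CohB1.ProjSpaceOver n Y, (i ≫ Groth.Agent.Lib.Helper69.PnAffine.chart n Y).toImage,
    (i ≫ Groth.Agent.Lib.Helper69.PnAffine.chart n Y).imageι, CohB1.ProjSpaceOver.toBase n Y,
    inferInstance, inferInstance, Groth.Agent.Lib.Helper69.PnAffine.smooth_toBase n Y,
    Groth.Agent.Lib.Helper17.ProjSpaceProper.isProper_toBase n Y, ?_⟩
  rw [Scheme.Hom.toImage_imageι_assoc, Category.assoc,
    Groth.Agent.Lib.Helper69.PnAffine.chart_toBase, hcomp]

end Groth.Agent.S17642
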