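import Groth.Statements.S17646
import Mathlib
import Groth.Agent.Lib.Helper74.Uniform

set_option autoImplicit false
universe w v u
open CategoryTheory CategoryTheory.Limits
open GabLoc

namespace Groth.Agent.S17646

/-- Let C be a Grothendieck abelian category, E an indecomposable injective object of C (E is nonzero
and whenever E ≅ A ⊞ B one of A, B is zero) and S₁, S₂ localizing classes of objects (Serre classes
closed under coproducts). If there are an object of S₁ with a nonzero morphism to E and an object of
S₂ with a nonzero morphism to E, then there is an object belonging to both S₁ and S₂ with a nonzero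
morphism to E. Thus, on the set of isomorphism classes of indecomposable injectives, the subsets of
those having S-torsion, S localizing, are closed under finite intersections (they are also closed
under unions, and form a topology). The published definition of the injective spectrum says
injective objects without the word indecomposable; the published proof of this step uses that each
point of the spectrum is uniform, which is the indecomposable reading taken here. -/
theorem result {C : Type u} [Category.{v} C] [Abelian C]
    [IsGrothendieckAbelian.{w} C] (E : C) [Injective E] (hE : ¬ IsZero E)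
    (hind : ∀ (A B : C), Nonempty (E ≅ A ⊞ B) → IsZero A ∨ IsZero B)
    (S₁ S₂ : ObjectProperty C) (h₁ : GabLoc.IsLocalizing.{w} S₁) (h₂ : GabLoc.IsLocalizing.{w} S₂)
    (ht₁ : GabLoc.HasTorsion S₁ E) (ht₂ : GabLoc.HasTorsion S₂ E) :
    GabLoc.HasTorsion (S₁ ⊓ S₂) E := by
  open Groth.Agent.Lib.Helper74.Uniform in
  obtain ⟨A₁, hA₁, f₁, hf₁⟩ := ht₁
  obtain ⟨A₂, hA₂, f₂, hf₂⟩ := ht₂
  haveI := h₁.isSerreClass
  haveI := h₂.isSerreClass
  have hi₁ : Abelian.image.ι f₁ ≠ 0 := fun h => hf₁ (by
    rw [← Abelian.image.fac f₁, h, comp_zero])
  have hi₂ : Abelian.image.ι f₂ ≠ 0 := fun h => hf₂ (by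
    rw [← Abelian.image.fac f₂, h, comp_zero])
  have hS₁ : S₁ (Abelian.image f₁) := S₁.prop_of_epi (Abelian.factorThruImage f₁) hA₁
  have hS₂ : S₂ (Abelian.image f₂) := S₂.prop_of_epi (Abelian.factorThruImage f₂) hA₂
  have hnd := not_disj_of_indecomposable.{w} E hind (Abelian.image.ι f₁) (Abelian.image.ι f₂)
    hi₁ hi₂
  refine ⟨pullback (Abelian.image.ι f₁) (Abelian.image.ι f₂),
    ⟨S₁.prop_of_mono (pullback.fst _ _) hS₁, S₂.prop_of_mono (pullback.snd _ _) hS₂⟩,
    pullback.fst _ _ ≫ Abelian.image.ι f₁, ?_⟩
  intro h0
  apply hnd
  intro Z x y hxy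
  have h1 : pullback.lift x y hxy ≫ pullback.fst _ _ = x := pullback.lift_fst _ _ _
  have hp : pullback.fst (Abelian.image.ι f₁) (Abelian.image.ι f₂) = 0 :=
    (cancel_mono (Abelian.image.ι f₁)).1 (by rw [h0, zero_comp])
  rw [← h1, hp, comp_zero]

end Groth.Agent.S17646
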