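import Mathlib
import Groth.Statements.S17647
import Groth.Agent.Lib.Helper49.StalkKerCoker

set_option autoImplicit false
universe u
open CategoryTheory CategoryTheory.Limits AlgebraicGeometry
open QCohCat

namespace Groth.Agent.S17647

/-- Let X be a scheme and U ⊆ X an open subset whose inclusion U ⟶ X is quasi-compact, Z = X ∖ U. Then
the restriction functor QCoh(X) ⥤ QCoh(U) between the categories of quasi-coherent modules is a
localization functor for the class of morphisms of quasi-coherent O_X-modules whose kernel and
cokernel (computed in O_X-modules) have support contained in Z: the category QCoh(U) is the quotient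
of QCoh(X) by the localizing subcategory of quasi-coherent modules supported in Z, the direct image
along U ⟶ X being the fully faithful right adjoint. No hypothesis is made on X beyond the
quasi-compactness of U ⟶ X. -/
theorem result (X : Scheme.{u})
    (U : X.Opens) [QuasiCompact U.ι] :
    (ObjectProperty.lift (QCohCat.isQCoh (↑U : Scheme.{u}))
        (ObjectProperty.ι (QCohCat.isQCoh X) ⋙ Scheme.Modules.restrictFunctor U.ι)
        (fun M => @Scheme.Modules.isQuasicoherent_restrictFunctor (↑U : Scheme.{u}) X U.ι
          inferInstance M.obj M.property)).IsLocalization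
      (fun (A B : QCohCat.QCoh X) (f : A ⟶ B) =>
        CohB1.support (kernel f.hom) ⊆ (↑U : Set X)ᶜ ∧
          CohB1.support (cokernel f.hom) ⊆ (↑U : Set X)ᶜ) := by
  -- the right adjoint: direct image along `U ⟶ X` on quasi-coherent modules
  let G : QCohCat.QCoh X ⥤ QCohCat.QCoh (↑U : Scheme.{u}) :=
    ObjectProperty.lift (QCohCat.isQCoh (↑U : Scheme.{u}))
        (ObjectProperty.ι (QCohCat.isQCoh X) ⋙ Scheme.Modules.restrictFunctor U.ι)
        (fun M => @Scheme.Modules.isQuasicoherent_restrictFunctor (↑U : Scheme.{u}) X U.ι
          inferInstance M.obj M.property)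
  let F : QCohCat.QCoh (↑U : Scheme.{u}) ⥤ QCohCat.QCoh X :=
    ObjectProperty.lift (QCohCat.isQCoh X)
        (ObjectProperty.ι (QCohCat.isQCoh (↑U : Scheme.{u})) ⋙ Scheme.Modules.pushforward U.ι)
        (fun M => by
          have : M.obj.IsQuasicoherent := M.property
          exact Groth.Agent.Lib.Helper49.isQuasicoherent_pushforward M.obj U.ι)
  let adj : G ⊣ F := (Scheme.Modules.restrictAdjunction U.ι).restrictFullyFaithful
    (ObjectProperty.fullyFaithfulι _) (ObjectProperty.fullyFaithfulι _) (Iso.refl _) (Iso.refl _)
  have hFι : (F ⋙ ObjectProperty.ι (QCohCat.isQCoh X)).Full :=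
    inferInstanceAs (ObjectProperty.ι (QCohCat.isQCoh (↑U : Scheme.{u})) ⋙
      Scheme.Modules.pushforward U.ι).Full
  have hFι' : (F ⋙ ObjectProperty.ι (QCohCat.isQCoh X)).Faithful :=
    inferInstanceAs (ObjectProperty.ι (QCohCat.isQCoh (↑U : Scheme.{u})) ⋙
      Scheme.Modules.pushforward U.ι).Faithful
  have hFfull : F.Full := Functor.Full.of_comp_faithful F (ObjectProperty.ι (QCohCat.isQCoh X))
  have hFfaith : F.Faithful := Functor.Faithful.of_comp F (ObjectProperty.ι (QCohCat.isQCoh X))
  have hloc := adj.isLocalization
  have hW : (fun (A B : QCohCat.QCoh X) (f : A ⟶ B) =>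
        CohB1.support (kernel f.hom) ⊆ (↑U : Set X)ᶜ ∧
          CohB1.support (cokernel f.hom) ⊆ (↑U : Set X)ᶜ) =
      (MorphismProperty.isomorphisms (QCohCat.QCoh (↑U : Scheme.{u}))).inverseImage G := by
    ext A B f
    change _ ↔ IsIso (G.map f)
    have h1 : IsIso (G.map f) ↔ IsIso ((Scheme.Modules.restrictFunctor U.ι).map f.hom) :=
      ⟨fun h => inferInstanceAs (IsIso ((ObjectProperty.ι _).map (G.map f))),
        fun h => by
          have : IsIso ((ObjectProperty.ι (QCohCat.isQCoh (↑U : Scheme.{u}))).map (G.map f)) := h
          exact isIso_of_fully_faithful (ObjectProperty.ι _) (G.map f)⟩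
    rw [h1, Groth.Agent.Lib.Helper49.isIso_restrict_iff]
    constructor
    · rintro ⟨hk, hc⟩ x hx
      constructor
      · rw [← Groth.Agent.Lib.Helper49.subsingleton_stalk_kernel_iff]
        by_contra hne
        exact hk hne hx
      · rw [← Groth.Agent.Lib.Helper49.subsingleton_stalk_cokernel_iff]
        by_contra hne
        exact hc hne hx
    · intro h
      constructor
      · intro x hx hxU
        exact hx ((Groth.Agent.Lib.Helper49.subsingleton_stalk_kernel_iff f.hom x).mpr (h x hxU).1)
      · intro x hx hxU
        exact hx ((Groth.Agent.Lib.Helper49.subsingleton_stalk_cokernel_iff f.hom x).mpr (h x hxU).2)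
  rw [hW]
  exact hloc

end Groth.Agent.S17647
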