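import Groth.Statements.S17648
-- import your own Groth.Agent.* helpers here
import Groth.Agent.Lib.Helper32.GabLocFilt

set_option autoImplicit false
universe w v u
open CategoryTheory CategoryTheory.Limits
open GabLoc

namespace Groth.Agent.S17648



open ZeroObject in
/-- Let C be a Grothendieck abelian category, P a class of objects and X an object of C. Then X belongs
to the localizing closure of P (the smallest Serre class containing P and closed under coproducts)
if and only if the morphism 0 ⟶ X is a transfinite composition — indexed by a small well-ordered
type, continuous at limit stages — of monomorphisms whose cokernels are subquotients of coproducts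
of objects of P. Equivalently: X has an exhaustive continuous transfinite filtration 0 = X₀ ⊆ X₁ ⊆ ⋯
by subobjects with every X_{β+1}/X_β a subquotient of a direct sum of objects of P. -/
theorem result {C : Type u} [Category.{v} C] [Abelian C]
    [IsGrothendieckAbelian.{w} C] (P : ObjectProperty C) (X : C) :
    GabLoc.locClosure.{w} P X ↔
      MorphismProperty.transfiniteCompositions.{w} (GabLoc.monoModSubquot.{w} P) (0 : (0 : C) ⟶ X) := by
  constructor
  · intro hX
    exact Groth.Agent.Lib.Helper32.GabLocFilt.transfiniteCompositions_of_locClosure hX
  · intro h
    rw [MorphismProperty.transfiniteCompositions_iff] at h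
    obtain ⟨J, _, _, _, _, ⟨h⟩⟩ := h
    exact Groth.Agent.Lib.Helper32.GabLocFilt.locClosure_of_transfiniteCompositionOfShape P h

end Groth.Agent.S17648
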