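import Mathlib
import Groth.Statements.S17649
import Groth.Agent.Lib.Helper49.SupportSplit2

set_option autoImplicit false
universe u
open CategoryTheory CategoryTheory.Limits AlgebraicGeometry
open QCohCat

namespace Groth.Agent.S17649

/-- Suppose the scheme X is quasi-compact and quasi-separated, and take two quasi-compact opens U, V ⊆
X. Given a quasi-compact open W, denote by S_W the class of quasi-coherent O_X-modules that restrict
to zero on W. Then S_{U ∩ V} is the smallest localizing subcategory of Qcoh(X) that contains both
S_U and S_V; concretely (this is the inclusion that is not formal): any quasi-coherent O_X-module F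
satisfying F|_{U ∩ V} = 0 arises as an extension of a quasi-coherent module that is zero on V by a
quasi-coherent submodule that is zero on U — one can find a monomorphism A ⟶ F where A is
quasi-coherent, A|_U = 0 and (F/A)|_V = 0. -/
theorem result {X : Scheme.{u}}
    [CompactSpace X] [QuasiSeparatedSpace X] (U V : X.Opens) [QuasiCompact U.ι] [QuasiCompact V.ι]
    (F : X.Modules) (hF : Coh.IsQCoh F) (h : IsZero ((Scheme.Modules.restrictFunctor (U ⊓ V).ι).obj F)) :
    ∃ (A : X.Modules) (i : A ⟶ F), Mono i ∧ Coh.IsQCoh A ∧
      IsZero ((Scheme.Modules.restrictFunctor U.ι).obj A) ∧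
      IsZero ((Scheme.Modules.restrictFunctor V.ι).obj (cokernel i)) := by
  have hF' : F.IsQuasicoherent := hF
  have hqr : (F.restrict U.ι).IsQuasicoherent := Scheme.Modules.isQuasicoherent_restrictFunctor _ _
  have hqN : ((Scheme.Modules.pushforward U.ι).obj (F.restrict U.ι)).IsQuasicoherent :=
    Groth.Agent.Lib.Helper49.isQuasicoherent_pushforward (F.restrict U.ι) U.ι
  have hqK : (kernel (Groth.Agent.Lib.Helper49.toPushRestrict F U)).IsQuasicoherent :=
    Groth.Agent.Lib.Helper49.isQuasicoherent_kernel _ hF' hqN
  refine ⟨kernel (Groth.Agent.Lib.Helper49.toPushRestrict F U),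
    kernel.ι (Groth.Agent.Lib.Helper49.toPushRestrict F U), inferInstance, hqK, ?_, ?_⟩
  · exact Groth.Agent.Lib.Helper49.isZero_restrict_of_stalk _ U fun x hx =>
      Groth.Agent.Lib.Helper49.subsingleton_stalk_kernel_toPushRestrict F U x hx
  · refine Groth.Agent.Lib.Helper49.isZero_restrict_of_stalk _ V fun x hx => ?_
    refine Groth.Agent.Lib.Helper49.subsingleton_stalk_cokernel_kernel_toPushRestrict F U x V hx
      fun y hy => ?_
    exact Groth.Agent.Lib.Helper49.subsingleton_stalk_of_isZero_restrict F (U ⊓ V) h y ⟨hy.2, hy.1⟩

end Groth.Agent.S17649
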