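import Groth.Statements.S1765
import Groth.Agent.S1711
import Groth.Agent.Lib.Helper60.HTClosed

set_option autoImplicit false
universe u
open CategoryTheory
attribute [local instance] HasDerivedCategory.standard
open LocCoh

namespace Groth.Agent.S1765

/-- Let A be a Noetherian ring with a dualizing complex, I an ideal, M a finite A-module, p a prime not
containing I and s ≥ 0. Suppose that for all primes p' ⊆ p and all primes q ⊇ I with p' ⊆ q,
depth(M_{p'}) plus the Krull dimension of the interval of primes [p', q] exceeds s. Then there is f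
∉ p annihilating H^i_I(M) for all i ≤ s. -/
theorem result (A : Type u) [CommRing A] [IsNoetherianRing A] (hA : ∃ ω : Dual.D A, Dual.IsDualizing A ω) (I : Ideal A) (M : Type u) [AddCommGroup M] [Module A M] [Module.Finite A M] (p : PrimeSpectrum A) (hp : ¬ I ≤ p.asIdeal) (s : ℕ) (h : ∀ p' q : PrimeSpectrum A, p' ≤ p → I ≤ q.asIdeal → p' ≤ q → (s : WithBot ℕ∞) < ((LocCoh.depth (Localization.AtPrime p'.asIdeal) (LocalizedModule p'.asIdeal.primeCompl M) : ℕ∞) : WithBot ℕ∞) + Order.krullDim (Set.Icc p' q)) : ∃ f : A, f ∉ p.asIdeal ∧ ∀ i : ℕ, i ≤ s → ∀ x : LocCoh.H I i M, f • x = 0 := by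
  let T : Set (PrimeSpectrum A) := PrimeSpectrum.zeroLocus (I : Set A)
  let T' : Set (PrimeSpectrum A) := {p' | ¬ p' ≤ p}
  have hT : StableUnderSpecialization T := by
    intro q q' hqq' hq
    have hle : q ≤ q' := (PrimeSpectrum.le_iff_specializes q q').mpr hqq'
    rw [PrimeSpectrum.mem_zeroLocus] at hq ⊢
    exact hq.trans hle
  have hT' : StableUnderSpecialization T' := by
    intro q q' hqq' hq hq'
    have hle : q ≤ q' := (PrimeSpectrum.le_iff_specializes q q').mpr hqq'
    exact hq (hle.trans hq')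
  have hTT' : T ⊆ T' := by
    intro q hq hqp
    rw [PrimeSpectrum.mem_zeroLocus] at hq
    exact hp (hq.trans hqp)
  obtain ⟨J, hJV, hJ⟩ := (Groth.Agent.S1711.result A hA T T' hT hT' hTT' s M).2 (by
    intro p' q hp' hq hp'q
    have hp'p : p' ≤ p := not_not.mp hp'
    have hq' : I ≤ q.asIdeal := by
      rw [PrimeSpectrum.mem_zeroLocus] at hq
      exact hq
    exact h p' q hp'p hq' hp'q)
  have hJp : ¬ J ≤ p.asIdeal := by
    intro hle
    have : p ∈ T' := hJV (by
      rw [PrimeSpectrum.mem_zeroLocus]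
      exact hle)
    exact this le_rfl
  obtain ⟨f, hfJ, hfp⟩ := Set.not_subset.mp hJp
  refine ⟨f, hfp, fun i hi x => ?_⟩
  let e := Groth.Agent.Lib.Helper60.HTClosed.equivLc I i (ModuleCat.of A M)
  have h1 : f • e.symm x = 0 := hJ i hi f hfJ (e.symm x)
  have h2 : e (f • e.symm x) = f • x := by rw [map_smul, e.apply_symm_apply]
  rw [← h2, h1, map_zero]

end Groth.Agent.S1765
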