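import Groth.Statements.S17653
import Groth.Agent.Lib.Helper78.FibreIrredMain
import Groth.Agent.S10831

set_option autoImplicit false
universe u
open CategoryTheory CategoryTheory.Limits AlgebraicGeometry TopologicalSpace
open Variety

namespace Groth.Agent.S17653

open Topology TopologicalSpace Groth.Agent.Lib.Helper78.FibreIrred Groth.Agent.Lib.Helper55 in
/-- A point isolated in its fibre has local fibre dimension at most zero. -/
theorem fibreDimAt_le_zero_of_isolated {X Y : Scheme.{u}} (f : X ⟶ Y) (x : X) (U : X.Opens)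
    (hxU : x ∈ U) (hU : ∀ x' ∈ U, f x' = f x → x' = x) : FlatMor.fibreDimAt f x ≤ 0 := by
  unfold FlatMor.fibreDimAt FlatMor.localDim
  have hmem : f.asFiber x ∈ (f.fiberι (f x)) ⁻¹ᵁ U := by
    show (f.fiberι (f x)) (f.asFiber x) ∈ U
    rw [f.fiberι_asFiber]
    exact hxU
  refine iInf_le_of_le ⟨(f.fiberι (f x)) ⁻¹ᵁ U, hmem⟩ ?_
  have hsub : Subsingleton ↥(((f.fiberι (f x)) ⁻¹ᵁ U : (f.fiber (f x)).Opens) :
      Set ↥(f.fiber (f x))) := by
    refine ⟨fun a b => Subtype.ext ?_⟩
    have key : ∀ w : ↥(f.fiber (f x)), w ∈ (f.fiberι (f x)) ⁻¹ᵁ U → w = f.asFiber x := by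
      intro w hw
      apply (f.fiberι (f x)).isEmbedding.injective
      rw [f.fiberι_asFiber]
      refine hU _ hw ?_
      have : f.fiberι (f x) w ∈ Set.range (f.fiberι (f x)) := ⟨w, rfl⟩
      rw [f.range_fiberι] at this
      exact this
    rw [key a.1 a.2, key b.1 b.2]
  exact topologicalKrullDim_zero_of_discreteTopology _

open Topology TopologicalSpace Groth.Agent.Lib.Helper78.FibreIrred Groth.Agent.Lib.Helper55 in
/-- A proper morphism from an irreducible scheme with a point isolated in its fibre does not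
lower the dimension. -/
theorem dim_le_dim_range_of_isolated {X Y : Scheme.{u}} [IrreducibleSpace X]
    [IsLocallyNoetherian Y] (g : X ⟶ Y) [IsProper g] (z₀ : X) (U : X.Opens) (hz₀ : z₀ ∈ U)
    (hU : ∀ z ∈ U, g z = g z₀ → z = z₀) :
    topologicalKrullDim X ≤ topologicalKrullDim ↥(Set.range g) := by
  have hfac : g.toImage ≫ g.imageι = g := g.toImage_imageι
  have hN : IsLocallyNoetherian g.image := LocallyOfFiniteType.isLocallyNoetherian g.imageι
  have hlft : LocallyOfFiniteType g.toImage := by
    have : LocallyOfFiniteType (g.toImage ≫ g.imageι) := by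
      rw [hfac]
      infer_instance
    exact locallyOfFiniteType_of_comp g.toImage g.imageι
  have hU₁ : ∀ z ∈ U, g.toImage z = g.toImage z₀ → z = z₀ := by
    intro z hz h
    refine hU z hz ?_
    have h1 : ∀ w : X, g w = g.imageι (g.toImage w) := fun w => by
      rw [← Scheme.Hom.comp_apply, hfac]
    rw [h1, h1, h]
  have hfd := fibreDimAt_le_zero_of_isolated g.toImage z₀ U hz₀ hU₁
  set ξ := genericPoint X with hξ
  obtain ⟨m, hm⟩ := exists_trdeg_residueField_eq_natCast g.toImage ξ
  have hm0 : m = 0 := by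
    have h1 := trdeg_le_fibreDimAt_of_specializes g.toImage ξ z₀ (genericPoint_specializes z₀) m hm
    have h2 : (m : WithBot ℕ∞) ≤ ((0 : ℕ) : WithBot ℕ∞) := by exact_mod_cast h1.trans hfd
    have h3 : m ≤ 0 := by exact_mod_cast h2
    omega
  subst hm0
  have hdimY₁ : topologicalKrullDim ↥g.image = topologicalKrullDim ↥(Set.range g) := by
    have h1 : Set.range g.imageι = Set.range g := by
      rw [Scheme.IdealSheafData.range_subschemeι, Scheme.Hom.support_ker]
      exact g.isClosedMap.isClosed_range.closure_eq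
    rw [← h1]
    exact IsHomeomorph.topologicalKrullDim_eq _
      g.imageι.isEmbedding.toHomeomorph.isHomeomorph
  rw [← hdimY₁, topologicalKrullDim_eq_iSup_ringKrullDim_stalk X]
  refine iSup_le fun z => ?_
  obtain ⟨n, hn⟩ := exists_trdeg_residueField_eq_natCast g.toImage z
  have h := ringKrullDim_stalk_add_trdeg_le_of_irreducible g.toImage z n 0 hn hm
  have h0 : (0 : WithBot ℕ∞) ≤ (n : WithBot ℕ∞) := by exact_mod_cast Nat.zero_le n
  calc ringKrullDim (X.presheaf.stalk z) ≤ ringKrullDim (X.presheaf.stalk z) + n :=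
        le_add_of_nonneg_right h0
    _ ≤ ringKrullDim (g.image.presheaf.stalk (g.toImage z)) + ((0 : ℕ) : WithBot ℕ∞) := h
    _ = ringKrullDim (g.image.presheaf.stalk (g.toImage z)) := by simp
    _ ≤ _ := ringKrullDim_stalk_le_topologicalKrullDim _ _

/-- Suppose X and Y are locally Noetherian schemes of the same pure dimension d (every irreducible
component of X and every irreducible component of Y has topological Krull dimension d), and π : X →
Y is a proper morphism between them. If there is a point x of X which is isolated in its fibre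
π⁻¹(π(x)), i.e. some open neighbourhood of x meets that fibre only in x, then the image of π, with
the subspace topology, has the same dimension as Y. -/
theorem result
    (X Y : Scheme.{u}) [IsLocallyNoetherian X] [IsLocallyNoetherian Y] (π : X ⟶ Y) [IsProper π]
    (d : WithBot ℕ∞) (hX : ∀ Z ∈ irreducibleComponents ↥X, topologicalKrullDim ↥Z = d)
    (hY : ∀ Z ∈ irreducibleComponents ↥Y, topologicalKrullDim ↥Z = d)
    (x : ↥X) (hx : ∃ U : X.Opens, x ∈ U ∧ ∀ x' ∈ U, π x' = π x → x' = x) :
    topologicalKrullDim ↥(Set.range (fun z : ↥X => π z)) = topologicalKrullDim ↥Y := by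
  obtain ⟨U, hxU, hU⟩ := hx
  apply le_antisymm (topologicalKrullDim_subspace_le Y _)
  have hYd : topologicalKrullDim ↥Y ≤ d := by
    rw [Groth.Agent.S10831.result]
    exact iSup₂_le fun Z hZ => (hY Z hZ).le
  refine hYd.trans ?_
  -- the component through `x`
  have hX₁ := irreducibleComponent_mem_irreducibleComponents x
  have hcl : IsClosed (irreducibleComponent x) := isClosed_of_mem_irreducibleComponents _ hX₁
  obtain ⟨X', ι, hι, hrange⟩ :=
    Groth.Agent.Lib.Helper78.FibreIrred.exists_isClosedImmersion_range_eq (irreducibleComponent x) hcl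
  have hemb : Topology.IsClosedEmbedding ι := ι.isClosedEmbedding
  have hirr : IrreducibleSpace X' := by
    have h1 : IsIrreducible (Set.range ι) := hrange ▸ hX₁.1
    have h2 : IrreducibleSpace ↥(Set.range ι) := Subtype.irreducibleSpace h1
    exact Groth.Agent.Lib.Helper78.FibreIrred.irreducibleSpace_of_homeomorph
      hemb.isEmbedding.toHomeomorph
  have hdimX' : topologicalKrullDim ↥X' = d := by
    rw [← hX _ hX₁, ← hrange]
    exact IsHomeomorph.topologicalKrullDim_eq _ hemb.isEmbedding.toHomeomorph.isHomeomorph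
  obtain ⟨z₀, hz₀⟩ : ∃ z, ι z = x := by
    have : x ∈ Set.range ι := hrange ▸ mem_irreducibleComponent
    exact this
  have hz₀U : z₀ ∈ ι ⁻¹ᵁ U := by
    show ι z₀ ∈ U
    rw [hz₀]; exact hxU
  have hU' : ∀ z ∈ ι ⁻¹ᵁ U, (ι ≫ π) z = (ι ≫ π) z₀ → z = z₀ := by
    intro z hz h
    rw [Scheme.Hom.comp_apply, Scheme.Hom.comp_apply, hz₀] at h
    apply hemb.isEmbedding.injective
    rw [hz₀]
    exact hU _ hz h
  have key := dim_le_dim_range_of_isolated (ι ≫ π) z₀ (ι ⁻¹ᵁ U) hz₀U hU'
  rw [hdimX'] at key
  refine key.trans ?_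
  refine Groth.Agent.Lib.Helper55.topologicalKrullDim_mono_set ?_
  rintro _ ⟨z, rfl⟩
  exact ⟨ι z, (Scheme.Hom.comp_apply ι π z).symm⟩

end Groth.Agent.S17653
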