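import Groth.Statements.S17658
import Mathlib.RingTheory.MvPolynomial.Groebner
import Mathlib.Tactic
-- import your own Groth.Agent.* helpers here

set_option autoImplicit false
universe u
open Surf

namespace Groth.Agent.S17658

open MvPolynomial
open scoped Pointwise

/-- If a subspace `P` of the span `Q` of the monomials with exponents in `Δ` contains, for every
`d ∈ Δ`, a nonzero element with leading exponent `d`, then `P = Q`. -/
theorem eq_of_leading {σ : Type*} {k : Type u} [Field k] (mo : MonomialOrder σ)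
    (Δ : Set (σ →₀ ℕ)) (P : Submodule k (MvPolynomial σ k)) (hPQ : P ≤ restrictSupport k Δ)
    (hlead : ∀ d ∈ Δ, ∃ p ∈ P, p ≠ 0 ∧ mo.degree p = d) :
    P = restrictSupport k Δ := by
  classical
  apply le_antisymm hPQ
  intro q hq
  induction' h : mo.toSyn (mo.degree q) using WellFoundedLT.induction with s ih generalizing q
  by_cases hq0 : q = 0
  · rw [hq0]; exact P.zero_mem
  have hdsupp : mo.degree q ∈ q.support := mo.degree_mem_support hq0
  have hdΔ : mo.degree q ∈ Δ := ((MvPolynomial.mem_restrictSupport_iff k).1 hq) (Finset.mem_coe.mpr hdsupp)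
  obtain ⟨p, hpP, hp0, hpd⟩ := hlead _ hdΔ
  have hlc : IsUnit (mo.leadingCoeff p) :=
    isUnit_iff_ne_zero.mpr (mo.leadingCoeff_ne_zero_iff.mpr hp0)
  have hred : q = mo.reduce hlc q +
      monomial (mo.degree q - mo.degree p) (hlc.unit⁻¹ * mo.leadingCoeff q) * p := by
    simp [MonomialOrder.reduce]
  have hmon : monomial (mo.degree q - mo.degree p) (hlc.unit⁻¹ * mo.leadingCoeff q) * p ∈ P := by
    rw [hpd, tsub_self]
    have : (monomial (0 : σ →₀ ℕ) ((hlc.unit⁻¹ : kˣ) * mo.leadingCoeff q) : MvPolynomial σ k) * p =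
        (((hlc.unit⁻¹ : kˣ) : k) * mo.leadingCoeff q) • p := by
      rw [← C_apply, C_mul']
    rw [this]
    exact P.smul_mem _ hpP
  by_cases hd0 : mo.degree q = 0
  · -- `q` is a constant
    obtain ⟨a, ha⟩ : ∃ a, q = C a := ⟨_, mo.eq_C_of_degree_eq_zero hd0⟩
    obtain ⟨b, hb⟩ : ∃ b, p = C b := ⟨_, mo.eq_C_of_degree_eq_zero (hpd.trans hd0)⟩
    have hb0 : b ≠ 0 := by
      rintro rfl
      exact hp0 (by rw [hb, C_0])
    have hqp : q = (a / b) • p := by
      rw [ha, hb, smul_eq_C_mul, ← C_mul, div_mul_cancel₀ a hb0]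
    rw [hqp]
    exact P.smul_mem _ hpP
  · have hlt : mo.toSyn (mo.degree (mo.reduce hlc q)) < mo.toSyn (mo.degree q) :=
      MonomialOrder.degree_reduce_lt hlc (le_of_eq hpd) hd0
    have hredQ : mo.reduce hlc q ∈ restrictSupport k Δ := by
      have : mo.reduce hlc q = q -
          monomial (mo.degree q - mo.degree p) (hlc.unit⁻¹ * mo.leadingCoeff q) * p := rfl
      rw [this]
      exact Submodule.sub_mem _ hq (hPQ hmon)
    have := ih (mo.toSyn (mo.degree (mo.reduce hlc q))) (h ▸ hlt) hredQ rfl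
    rw [hred]
    exact P.add_mem this hmon

theorem span_eq_restrictSupport (k : Type u) [Field k] (Δ : Set (Fin 4 →₀ ℕ)) :
    Submodule.span k {f : MvPolynomial (Fin 4) k | ∃ e : Fin 4 →₀ ℕ, e ∈ Δ ∧ f = monomial e 1} =
      restrictSupport k Δ := by
  rw [restrictSupport_eq_span]
  congr 1
  ext f
  simp only [Set.mem_ofPred_eq, Set.mem_image]
  constructor
  · rintro ⟨e, he, rfl⟩; exact ⟨e, he, rfl⟩
  · rintro ⟨e, he, rfl⟩; exact ⟨e, he, rfl⟩

/-- In the polynomial ring k[T₀,T₁,U,V] over a field k, bigraded by deg T₀ = deg T₁ = (0,1), deg U =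
(1,−1), deg V = (1,0) (the Cox ring of the Hirzebruch surface F₁; its piece of bidegree (a,b) is the
space of sections of O(a(E+F)+bF)), let S_(a,b) denote the k-span of the monomials of bidegree
(a,b), so that S_(0,c) is the space of forms of degree c in T₀, T₁. A subspace W ⊆ S_(a,b) is called
c-generating when W·S_(0,c) = S_(a,b+c). Fix a monomial order and natural numbers a, b, c, and let
W₀(a,b,c) be the set of monomials U^i V^(a−i) T₀^(b+i−j(c+1)) T₁^(j(c+1)) with 0 ≤ i ≤ a, j ≥ 0 and
j(c+1) < b+i, together with the monomials U^i V^(a−i) T₁^(b+i) with 0 ≤ i ≤ a. If every monomial of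
W₀(a,b,c) is the leading monomial of some nonzero element of W, then W is c-generating. (The source
fixes the graded lexicographic order with U > V > T₀ > T₁ and works over the complex numbers; its
argument uses only that leading monomials are multiplicative and that W₀(a,b,c)·S_(0,c) contains
every monomial of S_(a,b+c), so any monomial order and any field are allowed here. The printed index
j runs from 1; with that range the statement fails already for a = 0, b = c = 1 and W spanned by T₁,
and the range from 0 used here is the one matching the accompanying dimension count.) Variables are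
indexed T₀ = 0, T₁ = 1, U = 2, V = 3. -/
theorem result (k : Type u) [Field k]
    (mo : MonomialOrder (Fin 4)) (a b c : ℕ) (W : Submodule k (MvPolynomial (Fin 4) k))
    (hW : W ≤ Submodule.span k {f : MvPolynomial (Fin 4) k | ∃ e : Fin 4 →₀ ℕ, e 2 + e 3 = a ∧ e 0 + e 1 = b + e 2 ∧ f = MvPolynomial.monomial e 1})
    (h₁ : ∀ i j : ℕ, i ≤ a → j * (c + 1) < b + i → ∃ w ∈ W, w ≠ 0 ∧
      mo.degree w = Finsupp.single 0 (b + i - j * (c + 1)) + Finsupp.single 1 (j * (c + 1)) +
        Finsupp.single 2 i + Finsupp.single 3 (a - i))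
    (h₂ : ∀ i : ℕ, i ≤ a → ∃ w ∈ W, w ≠ 0 ∧
      mo.degree w = Finsupp.single 1 (b + i) + Finsupp.single 2 i + Finsupp.single 3 (a - i)) :
    W * Submodule.span k {f : MvPolynomial (Fin 4) k | ∃ e : Fin 4 →₀ ℕ, e 2 + e 3 = 0 ∧ e 0 + e 1 = c + e 2 ∧ f = MvPolynomial.monomial e 1} =
      Submodule.span k {f : MvPolynomial (Fin 4) k | ∃ e : Fin 4 →₀ ℕ, e 2 + e 3 = a ∧ e 0 + e 1 = (b + c) + e 2 ∧ f = MvPolynomial.monomial e 1} := by
  classical
  -- exponent sets
  set ΔW : Set (Fin 4 →₀ ℕ) := {e | e 2 + e 3 = a ∧ e 0 + e 1 = b + e 2} with hΔW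
  set ΔS : Set (Fin 4 →₀ ℕ) := {e | e 2 + e 3 = 0 ∧ e 0 + e 1 = c + e 2} with hΔS
  set ΔQ : Set (Fin 4 →₀ ℕ) := {e | e 2 + e 3 = a ∧ e 0 + e 1 = (b + c) + e 2} with hΔQ
  have eW : Submodule.span k {f : MvPolynomial (Fin 4) k | ∃ e : Fin 4 →₀ ℕ, e 2 + e 3 = a ∧ e 0 + e 1 = b + e 2 ∧ f = MvPolynomial.monomial e 1} = restrictSupport k ΔW := by
    rw [← span_eq_restrictSupport]
    congr 1
    ext f
    simp only [Set.mem_ofPred_eq, hΔW, and_assoc]
  have eS : Submodule.span k {f : MvPolynomial (Fin 4) k | ∃ e : Fin 4 →₀ ℕ, e 2 + e 3 = 0 ∧ e 0 + e 1 = c + e 2 ∧ f = MvPolynomial.monomial e 1} = restrictSupport k ΔS := by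
    rw [← span_eq_restrictSupport]
    congr 1
    ext f
    simp only [Set.mem_ofPred_eq, hΔS, and_assoc]
  have eQ : Submodule.span k {f : MvPolynomial (Fin 4) k | ∃ e : Fin 4 →₀ ℕ, e 2 + e 3 = a ∧ e 0 + e 1 = (b + c) + e 2 ∧ f = MvPolynomial.monomial e 1} = restrictSupport k ΔQ := by
    rw [← span_eq_restrictSupport]
    congr 1
    ext f
    simp only [Set.mem_ofPred_eq, hΔQ, and_assoc]
  rw [eW] at hW
  rw [eS, eQ]
  have hadd : ΔW + ΔS ⊆ ΔQ := by
    rintro _ ⟨e, he, e', he', rfl⟩
    simp only [hΔW, hΔS, hΔQ, Set.mem_ofPred_eq, Finsupp.add_apply] at he he' ⊢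
    omega
  apply eq_of_leading mo
  · calc W * restrictSupport k ΔS ≤ restrictSupport k ΔW * restrictSupport k ΔS :=
          mul_le_mul' hW le_rfl
      _ = restrictSupport k (ΔW + ΔS) := (restrictSupport_add k ΔW ΔS).symm
      _ ≤ restrictSupport k ΔQ := restrictSupport_mono k hadd
  · intro d hd
    simp only [hΔQ, Set.mem_ofPred_eq] at hd
    obtain ⟨hd1, hd2⟩ := hd
    set i := d 2 with hi
    set y := d 1 with hy
    set x := d 0 with hx
    have hia : i ≤ a := by omega
    set j := y / (c + 1) with hj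
    set ρ := y % (c + 1) with hρ
    have hyj : y = j * (c + 1) + ρ := by
      rw [hj, hρ, mul_comm]; exact (Nat.div_add_mod y (c + 1)).symm
    have hρc : ρ ≤ c := by
      have := Nat.mod_lt y (show 0 < c + 1 by omega)
      omega
    have hone : (1 : k) ≠ 0 := one_ne_zero
    by_cases hcase : j * (c + 1) < b + i
    · obtain ⟨w, hwW, hw0, hwd⟩ := h₁ i j hia hcase
      set t : MvPolynomial (Fin 4) k :=
        monomial (Finsupp.single 0 (c - ρ) + Finsupp.single 1 ρ) 1 with ht
      have htS : t ∈ restrictSupport k ΔS := by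
        rw [ht, monomial_mem_restrictSupport]
        left
        simp only [hΔS, Set.mem_ofPred_eq, Finsupp.add_apply]
        simp
        omega
      have ht0 : t ≠ 0 := by
        rw [ht]; simp
      have htd : mo.degree t = Finsupp.single 0 (c - ρ) + Finsupp.single 1 ρ := by
        rw [ht, MonomialOrder.degree_monomial, if_neg hone]
      refine ⟨w * t, Submodule.mul_mem_mul hwW htS, mul_ne_zero hw0 ht0, ?_⟩
      rw [MonomialOrder.degree_mul hw0 ht0, hwd, htd]
      ext z
      fin_cases z <;> simp <;> omega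
    · obtain ⟨w, hwW, hw0, hwd⟩ := h₂ i hia
      set t : MvPolynomial (Fin 4) k :=
        monomial (Finsupp.single 0 x + Finsupp.single 1 (y - (b + i))) 1 with ht
      have htS : t ∈ restrictSupport k ΔS := by
        rw [ht, monomial_mem_restrictSupport]
        left
        simp only [hΔS, Set.mem_ofPred_eq, Finsupp.add_apply]
        simp
        omega
      have ht0 : t ≠ 0 := by
        rw [ht]; simp
      have htd : mo.degree t = Finsupp.single 0 x + Finsupp.single 1 (y - (b + i)) := by
        rw [ht, MonomialOrder.degree_monomial, if_neg hone]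
      refine ⟨w * t, Submodule.mul_mem_mul hwW htS, mul_ne_zero hw0 ht0, ?_⟩
      rw [MonomialOrder.degree_mul hw0 ht0, hwd, htd]
      ext z
      fin_cases z <;> simp <;> omega

end Groth.Agent.S17658
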