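import Groth.Statements.S17662
import Groth.Agent.Lib.Helper88.CauchyBinet
import Mathlib.LinearAlgebra.Matrix.NonsingularInverse
-- import your own Groth.Agent.* helpers here

set_option autoImplicit false
universe u
open CIDisc

namespace Groth.Agent.S17662

open Groth.Agent.Lib.Helper88 in
/-- Let R be a commutative ring, M an r × n matrix over R and e ≥ 0; for each e-element set L of row
indices let A_L be an e × r matrix over R, and form the square matrix, indexed by the e-element sets
of row indices, whose (L, L') entry is the e × e minor of A_L on the columns L'. If the determinant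
of that square matrix is a unit, then the sum over L of the ideals generated by the e × e minors of
the products A_L · M is the ideal generated by all e × e minors of M. (In the source R is the
coordinate ring of an affine scheme X of codimension e cut out by f_1, …, f_r in affine n-space, M
is the image of the Jacobian matrix of the f_j, the A_L have entries in the ground field and cut out
complete intersections Z_L = V(A_L · f), so that the two sides are Σ_L Jac(Z_L) and Jac(X); the
source states the equality for general A_L and establishes it under the present invertibility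
condition, which it shows to be generic.) -/
theorem result {R : Type u} [CommRing R] (e r n : ℕ)
    (M : Matrix (Fin r) (Fin n) R)
    (A : {s : Finset (Fin r) // s.card = e} → Matrix (Fin e) (Fin r) R)
    (hA : IsUnit (Matrix.det (Matrix.of fun i j : {s : Finset (Fin r) // s.card = e} =>
      ((A i).submatrix id (j.1.orderEmbOfFin j.2)).det))) :
    (⨆ i, Ideal.span (Set.range fun t : {s : Finset (Fin n) // s.card = e} =>
        ((A i * M).submatrix id (t.1.orderEmbOfFin t.2)).det)) =
      Ideal.span (Set.range fun p : {s : Finset (Fin r) // s.card = e} × {s : Finset (Fin n) // s.card = e} =>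
        (M.submatrix (p.1.1.orderEmbOfFin p.1.2) (p.2.1.orderEmbOfFin p.2.2)).det) := by
  set D : Matrix {s : Finset (Fin r) // s.card = e} {s : Finset (Fin r) // s.card = e} R :=
    Matrix.of fun i j : {s : Finset (Fin r) // s.card = e} =>
      ((A i).submatrix id (j.1.orderEmbOfFin j.2)).det with hD
  -- the minors
  set m : {s : Finset (Fin r) // s.card = e} → {s : Finset (Fin n) // s.card = e} → R :=
    fun S t => (M.submatrix (S.1.orderEmbOfFin S.2) (t.1.orderEmbOfFin t.2)).det with hm
  set a : {s : Finset (Fin r) // s.card = e} → {s : Finset (Fin n) // s.card = e} → R :=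
    fun i t => ((A i * M).submatrix id (t.1.orderEmbOfFin t.2)).det with ha
  have hCB : ∀ i t, a i t = ∑ S, D i S * m S t := by
    intro i t
    have h1 : (A i * M).submatrix id (t.1.orderEmbOfFin t.2) =
        A i * M.submatrix id (t.1.orderEmbOfFin t.2) := by
      ext x y
      simp [Matrix.mul_apply]
    simp only [ha, hm, hD]
    rw [h1, cauchy_binet]
    rfl
  have hinv : ∀ S t, m S t = ∑ i, D⁻¹ S i * a i t := by
    intro S t
    have h1 : (fun i => a i t) = D.mulVec (fun S => m S t) := by
      funext i
      rw [hCB i t]
      rfl
    have h2 : D⁻¹.mulVec (fun i => a i t) = fun S => m S t := by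
      rw [h1, Matrix.mulVec_mulVec, Matrix.nonsing_inv_mul D hA, Matrix.one_mulVec]
    have := congrFun h2 S
    rw [← this]
    rfl
  apply le_antisymm
  · apply iSup_le
    intro i
    rw [Ideal.span_le]
    rintro _ ⟨t, rfl⟩
    change a i t ∈ _
    rw [hCB i t]
    apply Ideal.sum_mem
    intro S _
    apply Ideal.mul_mem_left
    exact Ideal.subset_span ⟨(S, t), rfl⟩
  · rw [Ideal.span_le]
    rintro _ ⟨⟨S, t⟩, rfl⟩
    change m S t ∈ _
    rw [hinv S t]
    apply Ideal.sum_mem
    intro i _
    apply Ideal.mul_mem_left
    apply Ideal.mem_iSup_of_mem i
    exact Ideal.subset_span ⟨t, rfl⟩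

end Groth.Agent.S17662
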