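import Groth.Statements.S1767
-- import your own Groth.Agent.* helpers here
import Groth.Agent.S1035
import Groth.Agent.H57.RpushBound
import Groth.Agent.Lib.Helper32.WayOut

set_option autoImplicit false
universe u
open CategoryTheory CategoryTheory.Limits AlgebraicGeometry
attribute [local instance] HasDerivedCategory.standard
open Dual

namespace Groth.Agent.S1767

open Pretriangulated DerivedCategory DerivedCategory.TStructure
open Groth.Agent.Lib.Helper32.WayOut Groth.Agent.H57.RpushBound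

/-- Let f : X → Y be a morphism between quasi-compact quasi-separated schemes. Assume the derived direct
image Rf_* exists and preserves quasi-coherence of cohomology sheaves (both known results), so that
it restricts to a functor D_QCoh(O_X) → D_QCoh(O_Y), and let a : D_QCoh(O_Y) → D_QCoh(O_X) be a
right adjoint of this restricted functor. Then there is an integer N ≥ 0 such that for every K in
D_QCoh(O_Y) and every integer c, if H^i(K) = 0 for all i ≤ c then H^i(a(K)) = 0 for all i ≤ c − N;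
in particular a sends bounded-below objects to bounded-below objects. -/
theorem result (X Y : Scheme.{u}) [CompactSpace X] [QuasiSeparatedSpace X] [CompactSpace Y] [QuasiSeparatedSpace Y] (f : X ⟶ Y) [DCoh.HasRpush f] (h : ∀ K : DCoh.D X, DCoh.IsQCohD K → DCoh.IsQCohD ((DCoh.Rpush f).obj K)) (a : DCoh.DQCoh Y ⥤ DCoh.DQCoh X) (adj : (ObjectProperty.lift DCoh.IsQCohD (ObjectProperty.ι DCoh.IsQCohD ⋙ DCoh.Rpush f) (fun K => h K.obj K.property)) ⊣ a) : ∃ N : ℕ, ∀ (K : DCoh.DQCoh Y) (c : ℤ), (∀ i : ℤ, i ≤ c → IsZero (DCoh.HD K.obj i)) → ∀ i : ℤ, i ≤ c - N → IsZero (DCoh.HD (a.obj K).obj i) := by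
  obtain ⟨N0, hN0⟩ := exists_bound f
  refine ⟨N0.toNat, fun K c hK i hi => ?_⟩
  let A : DCoh.D X := (a.obj K).obj
  have hA : DCoh.IsQCohD A := (a.obj K).property
  let n : ℤ := c - (N0.toNat : ℤ)
  let Δ := (t.triangleLEGE n (n + 1) rfl).obj A
  have hΔ : Δ ∈ distTriang _ := t.triangleLEGE_distinguished n (n + 1) rfl A
  have hΔ₁LE : Δ.obj₁.IsLE n := by
    change ((t.truncLE n).obj A).IsLE n
    infer_instance
  have hΔ₃GE : Δ.obj₃.IsGE (n + 1) := by
    change ((t.truncGE (n + 1)).obj A).IsGE (n + 1)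
    infer_instance
  have hiso : ∀ j : ℤ, j ≤ n → IsIso ((homologyFunctor X.Modules j).map Δ.mor₁) := fun j hj =>
    isIso_homologyMap_mor₁ Δ hΔ (n + 1) j (by omega) hΔ₃GE
  have hτ : DCoh.IsQCohD Δ.obj₁ := by
    intro j
    by_cases hj : j ≤ n
    · haveI := hiso j hj
      exact Groth.Agent.Lib.Helper49.isQuasicoherent_of_iso
        (asIso ((homologyFunctor X.Modules j).map Δ.mor₁)).symm (hA j)
    · exact Groth.Agent.Lib.Helper1.isQuasicoherent_of_isZero _
        (DerivedCategory.isZero_of_isLE _ n j (by omega))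
  let τ' : DCoh.DQCoh X := ⟨Δ.obj₁, hτ⟩
  -- `Rf_* τ ∈ D^{≤ c}`
  have hLE : ((DCoh.Rpush f).obj Δ.obj₁).IsLE c := by
    rw [DerivedCategory.isLE_iff]
    intro m hm
    exact Groth.Agent.S1035.isZero_HD_Rpush_of_bound f N0 hN0 Δ.obj₁ hτ n hΔ₁LE m
      (by have := Int.self_le_toNat N0; omega)
  have hGE : K.obj.IsGE (c + 1) := by
    rw [DerivedCategory.isGE_iff]
    intro m hm
    exact hK m (by omega)
  let F := ObjectProperty.lift DCoh.IsQCohD (ObjectProperty.ι DCoh.IsQCohD ⋙ DCoh.Rpush f)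
    (fun K => h K.obj K.property)
  haveI : Subsingleton (F.obj τ' ⟶ K) := by
    refine ⟨fun ψ ψ' => ObjectProperty.hom_ext _ ?_⟩
    have h1 : ψ.hom = 0 := t.zero_of_isLE_of_isGE ψ.hom c (c + 1) (by omega) hLE hGE
    have h2 : ψ'.hom = 0 := t.zero_of_isLE_of_isGE ψ'.hom c (c + 1) (by omega) hLE hGE
    rw [h1, h2]
  haveI : Subsingleton (τ' ⟶ a.obj K) := (adj.homEquiv τ' K).symm.subsingleton
  have h0 : Δ.mor₁ = 0 := by
    have := Subsingleton.elim (ObjectProperty.homMk Δ.mor₁ : τ' ⟶ a.obj K)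
      (ObjectProperty.homMk 0 : τ' ⟶ a.obj K)
    exact congrArg (fun φ => φ.hom) this
  haveI := hiso i hi
  have h3 : (homologyFunctor X.Modules i).map Δ.mor₁ = 0 := by
    rw [h0, Functor.map_zero]
  exact (IsZero.of_epi_eq_zero _ h3 : IsZero ((homologyFunctor X.Modules i).obj Δ.obj₂))

end Groth.Agent.S1767
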