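import Mathlib
import Groth.Statements.S17677

set_option autoImplicit false
universe u
open Hoch

namespace Groth.Agent.S17677

section Helpers

open TensorProduct

variable (k : Type u) [CommRing k] (M : Type u) [AddCommMonoid M]

/-- The coefficient at `0` as a linear functional on `k[M]`. -/
noncomputable def pi0 : AddMonoidAlgebra k M →ₗ[k] k :=
  Finsupp.lapply 0 ∘ₗ (AddMonoidAlgebra.coeffLinearEquiv k).toLinearMap

theorem pi0_single (x : M) (r : k) [Decidable (x = 0)] :
    pi0 k M (AddMonoidAlgebra.single x r) = if x = 0 then r else 0 := by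
  simp [pi0, Finsupp.single_apply]

theorem pi0_one : pi0 k M 1 = 1 := by
  classical
  rw [AddMonoidAlgebra.one_def, pi0_single, if_pos rfl]

/-- Contraction of the last tensor factor with `pi0`. -/
noncomputable def Theta (N : Type u) [AddCommGroup N] [Module k N] :
    N ⊗[k] AddMonoidAlgebra k M →ₗ[k] N :=
  (TensorProduct.rid k N).toLinearMap ∘ₗ (pi0 k M).lTensor N

theorem Theta_tmul (N : Type u) [AddCommGroup N] [Module k N] (n : N) (a : AddMonoidAlgebra k M) :
    Theta k M N (n ⊗ₜ[k] a) = pi0 k M a • n := by
  simp [Theta]

theorem Theta_comul (a : AddMonoidAlgebra k M) :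
    Theta k M (AddMonoidAlgebra k M) (Coalgebra.comul (R := k) a) = pi0 k M a • 1 := by
  classical
  have h : Theta k M (AddMonoidAlgebra k M) ∘ₗ Coalgebra.comul (R := k) =
      (LinearMap.toSpanSingleton k (AddMonoidAlgebra k M) 1) ∘ₗ pi0 k M := by
    apply AddMonoidAlgebra.lhom_ext'
    intro x
    apply LinearMap.ext_ring
    simp only [LinearMap.comp_apply, AddMonoidAlgebra.lsingle_apply,
      AddMonoidAlgebra.comul_single, LinearMap.toSpanSingleton_apply]
    rw [pi0_single]
    simp only [CommSemiring.comul_apply, TensorProduct.map_tmul, AddMonoidAlgebra.lsingle_apply,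
      Theta_tmul, pi0_single]
    split_ifs with hx
    · subst hx
      rw [AddMonoidAlgebra.one_def]
    · simp
  exact LinearMap.congr_fun h a

theorem Theta_rTensor {N N' : Type u} [AddCommGroup N] [Module k N] [AddCommGroup N'] [Module k N']
    (f : N →ₗ[k] N') (z : N ⊗[k] AddMonoidAlgebra k M) :
    Theta k M N' (f.rTensor (AddMonoidAlgebra k M) z) = f (Theta k M N z) := by
  induction z using TensorProduct.induction_on with
  | zero => simp
  | tmul n a => rw [LinearMap.rTensor_tmul, Theta_tmul, Theta_tmul, map_smul]
  | add x y hx hy => rw [map_add, map_add, hx, hy, map_add, map_add]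

theorem Theta_assoc_symm (N : Type u) [AddCommGroup N] [Module k N] (n : N)
    (t : AddMonoidAlgebra k M ⊗[k] AddMonoidAlgebra k M) :
    Theta k M (N ⊗[k] AddMonoidAlgebra k M)
      ((TensorProduct.assoc k N (AddMonoidAlgebra k M) (AddMonoidAlgebra k M)).symm (n ⊗ₜ[k] t)) =
      n ⊗ₜ[k] Theta k M (AddMonoidAlgebra k M) t := by
  induction t using TensorProduct.induction_on with
  | zero => simp
  | tmul a b =>
    rw [TensorProduct.assoc_symm_tmul, Theta_tmul, Theta_tmul, TensorProduct.tmul_smul]
  | add x y hx hy =>
    rw [TensorProduct.tmul_add, map_add, map_add, hx, hy, map_add, TensorProduct.tmul_add]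

theorem Theta_tail (N : Type u) [AddCommGroup N] [Module k N]
    (z : N ⊗[k] AddMonoidAlgebra k M) :
    Theta k M (N ⊗[k] AddMonoidAlgebra k M) (Hoch.tail k (AddMonoidAlgebra k M) N z) = -z := by
  induction z using TensorProduct.induction_on with
  | zero => simp
  | tmul n a =>
    rw [Hoch.tail_tmul, Theta_assoc_symm, map_sub, map_sub, Theta_comul, Theta_tmul, Theta_tmul,
      pi0_one, one_smul, sub_sub, add_comm, ← sub_sub, sub_self, zero_sub, TensorProduct.tmul_neg]
  | add x y hx hy => rw [map_add, map_add, hx, hy, neg_add]

end Helpers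

/-- Let k be a commutative ring, M a commutative monoid and V a right comodule over the monoid bialgebra
k[M] (a quasi-coherent module with an action of the diagonalizable monoid scheme Spec k[M]). Then
every 1-cocycle of the Hochschild complex of V is a 1-coboundary, i.e. the first Hochschild
cohomology module of the diagonalizable monoid with coefficients in V is zero. (The source works
over an algebraic space with M finitely generated and cancellative, hypotheses it uses only to
identify modules under the monoid with comodules; the cocycle computation, which is the affine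
statement given here, uses neither.) -/
theorem result (k : Type u) [CommRing k] (M : Type u)
    [AddCommMonoid M] (V : Type u) [AddCommGroup V] [Module k V]
    [HopfRep.Comod k (AddMonoidAlgebra k M) V] :
    Hoch.cocycles k (AddMonoidAlgebra k M) V 1 ≤ Hoch.coboundaries k (AddMonoidAlgebra k M) V 1 := by
  intro z hz
  have hz' : Hoch.d k (AddMonoidAlgebra k M) V 1 z = 0 := hz
  rw [Hoch.d_succ, LinearMap.add_apply, LinearMap.smul_apply, pow_one, neg_one_smul] at hz'
  have h1 := congrArg (Theta k M (TensorProduct k V (AddMonoidAlgebra k M))) hz'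
  rw [map_add, map_neg, map_zero, Theta_rTensor, Theta_tail, neg_neg] at h1
  refine ⟨-(Theta k M V z), ?_⟩
  rw [map_neg]
  exact (eq_neg_of_add_eq_zero_right h1).symm

end Groth.Agent.S17677
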