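import Groth.Statements.S17679
import Mathlib.LinearAlgebra.Dimension.OrzechProperty
import Mathlib.LinearAlgebra.Dimension.Constructions
import Mathlib.LinearAlgebra.Dimension.Free
import Mathlib.LinearAlgebra.FreeModule.Finite.Basic
import Mathlib.RingTheory.OrzechProperty
import Mathlib.Tactic
-- import your own Groth.Agent.* helpers here

set_option autoImplicit false
open DiagMon

namespace Groth.Agent.S17679

theorem exists_part (n : ℕ) (hn : 1 ≤ n) :
    ∃ s : Finset (Fin n → ℤ), s.card = n + 1 ∧ AddSubmonoid.closure (s : Set (Fin n → ℤ)) = ⊤ := by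
  classical
  set e : Fin n → (Fin n → ℤ) := fun i => Pi.single i 1 with he
  set w : Fin n → ℤ := -∑ j, e j with hw
  have hsum : ∀ i : Fin n, (∑ j, e j) i = 1 := by
    intro i
    rw [Finset.sum_apply]
    simp [e, Pi.single_apply]
  have hwi : ∀ i : Fin n, w i = -1 := by
    intro i
    rw [hw, Pi.neg_apply, hsum]
  have hinj : Function.Injective e := by
    intro i j hij
    by_contra hne
    have := congrFun hij i
    simp [e, Pi.single_apply, hne] at this
  have hwnot : w ∉ Finset.univ.image e := by
    intro h
    obtain ⟨i, _, hi⟩ := Finset.mem_image.mp h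
    have := congrFun hi i
    rw [hwi] at this
    simp [e] at this
  refine ⟨insert w (Finset.univ.image e), ?_, ?_⟩
  · rw [Finset.card_insert_of_notMem hwnot, Finset.card_image_of_injective _ hinj]
    simp
  · set C := AddSubmonoid.closure ((insert w (Finset.univ.image e) : Finset (Fin n → ℤ)) :
      Set (Fin n → ℤ)) with hC
    have hwC : w ∈ C := AddSubmonoid.subset_closure (by simp)
    have heC : ∀ i, e i ∈ C := fun i => AddSubmonoid.subset_closure (by simp)
    have hnegC : ∀ i, -e i ∈ C := by
      intro i
      have h1 : -e i = w + ∑ j ∈ Finset.univ.erase i, e j := by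
        have h2 : ∑ j, e j = e i + ∑ j ∈ Finset.univ.erase i, e j :=
          (Finset.add_sum_erase _ _ (Finset.mem_univ i)).symm
        rw [hw, h2]; abel
      rw [h1]
      exact C.add_mem hwC (AddSubmonoid.sum_mem _ fun j _ => heC j)
    rw [eq_top_iff]
    intro v _
    have hv : v = ∑ i, v i • e i := by
      ext k
      rw [Finset.sum_apply]
      simp [e, Pi.single_apply]
    rw [hv]
    apply AddSubmonoid.sum_mem
    intro i _
    rcases le_total 0 (v i) with h | h
    · have : v i • e i = (v i).toNat • e i := by
        conv_lhs => rw [← Int.toNat_of_nonneg h]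
        rw [natCast_zsmul]
      rw [this]
      exact AddSubmonoid.nsmul_mem _ (heC i) _
    · have : v i • e i = (-v i).toNat • (-e i) := by
        have h' : 0 ≤ -v i := by omega
        have : v i = -((-v i).toNat : ℤ) := by rw [Int.toNat_of_nonneg h']; ring
        conv_lhs => rw [this]
        rw [neg_smul, natCast_zsmul, smul_neg]
      rw [this]
      exact AddSubmonoid.nsmul_mem _ (hnegC i) _

theorem lower_part (n : ℕ) (hn : 1 ≤ n) (s : Finset (Fin n → ℤ))
    (hs : AddSubmonoid.closure (s : Set (Fin n → ℤ)) = ⊤) : n + 1 ≤ s.card := by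
  classical
  by_contra hlt
  push Not at hlt
  set b : s → (Fin n → ℤ) := Subtype.val with hb
  have hspan : ⊤ ≤ Submodule.span ℤ (Set.range b) := by
    rw [hb, Subtype.range_coe]
    intro x _
    have hx : x ∈ AddSubmonoid.closure (s : Set (Fin n → ℤ)) := by rw [hs]; trivial
    have hle : AddSubmonoid.closure (s : Set (Fin n → ℤ)) ≤
        (Submodule.span ℤ (s : Set (Fin n → ℤ))).toAddSubmonoid :=
      AddSubmonoid.closure_le.mpr Submodule.subset_span
    exact hle hx
  have hcard : Fintype.card s ≤ Module.finrank ℤ (Fin n → ℤ) := by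
    simp only [Fintype.card_coe, Module.finrank_pi, Fintype.card_fin]
    omega
  have hli := linearIndependent_of_top_le_span_of_card_le_finrank hspan hcard
  set B := Module.Basis.mk hli hspan with hB
  haveI : Nonempty (Fin n) := ⟨⟨0, hn⟩⟩
  obtain ⟨v₀, hv₀⟩ : s.Nonempty := by
    by_contra hempty
    rw [Finset.not_nonempty_iff_eq_empty] at hempty
    subst hempty
    simp only [Finset.coe_empty, AddSubmonoid.closure_empty] at hs
    exact bot_ne_top hs
  set φ := B.coord ⟨v₀, hv₀⟩ with hφ
  have hBv : ∀ v : s, B v = (v : Fin n → ℤ) := by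
    intro v
    rw [hB, Module.Basis.mk_apply]
  have hnonneg : ∀ x ∈ AddSubmonoid.closure (s : Set (Fin n → ℤ)), 0 ≤ φ x := by
    intro x hx
    induction hx using AddSubmonoid.closure_induction with
    | mem x hx =>
      have : x = B ⟨x, hx⟩ := (hBv ⟨x, hx⟩).symm
      rw [this, hφ, Module.Basis.coord_apply, Module.Basis.repr_self, Finsupp.single_apply]
      split_ifs <;> norm_num
    | zero => simp
    | add x y _ _ hx hy => rw [map_add]; omega
  have hneg : φ (-v₀) = -1 := by
    have : v₀ = B ⟨v₀, hv₀⟩ := (hBv ⟨v₀, hv₀⟩).symm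
    rw [map_neg, this, hφ, Module.Basis.coord_apply, Module.Basis.repr_self, Finsupp.single_apply]
    simp
  have := hnonneg (-v₀) (by rw [hs]; trivial)
  omega

/-- For n ≥ 1 the minimal number of generators of ℤ^n as an additive monoid is n + 1: some n + 1
elements generate ℤ^n as a monoid, and every finite set generating ℤ^n as a monoid has at least n +
1 elements. (For n = 0 the empty set generates the zero monoid, so the count n + 1 is stated for n ≥
1 only.) -/
theorem result (n : ℕ) (hn : 1 ≤ n) :
    (∃ s : Finset (Fin n → ℤ), s.card = n + 1 ∧ AddSubmonoid.closure (s : Set (Fin n → ℤ)) = ⊤) ∧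
    ∀ s : Finset (Fin n → ℤ), AddSubmonoid.closure (s : Set (Fin n → ℤ)) = ⊤ → n + 1 ≤ s.card :=
  ⟨exists_part n hn, lower_part n hn⟩

end Groth.Agent.S17679
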