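import Groth.Statements.S17682
import Mathlib.Algebra.MonoidAlgebra.Module
import Mathlib.Algebra.DirectSum.Algebra
-- import your own Groth.Agent.* helpers here

set_option autoImplicit false
universe u v w u'
open DiagMon

namespace Groth.Agent.S17682

open DirectSum

/-- The degree-`m` piece of the graded map: `a ↦ X^m · F a`. -/
noncomputable def piece {R : Type u} [CommRing R]
    {A : Type v} [CommRing A] [Algebra R A] {M : Type w} [AddCommMonoid M]
    (𝒜 : M → Submodule R A) {R' : Type u'} [CommRing R']
    [Algebra R R'] (F : A →ₐ[R] R') (m : M) : 𝒜 m →ₗ[R] AddMonoidAlgebra R' M where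
  toFun a := AddMonoidAlgebra.single m (F a)
  map_add' a b := by simp [AddMonoidAlgebra.single_add]
  map_smul' r a := by
    simp only [Submodule.coe_smul, map_smul, RingHom.id_apply]
    rw [AddMonoidAlgebra.smul_single]

theorem piece_one {R : Type u} [CommRing R]
    {A : Type v} [CommRing A] [Algebra R A] {M : Type w} [AddCommMonoid M] [DecidableEq M]
    (𝒜 : M → Submodule R A) [GradedAlgebra 𝒜] {R' : Type u'} [CommRing R']
    [Algebra R R'] (F : A →ₐ[R] R') :
    piece 𝒜 F 0 (GradedMonoid.GOne.one (A := fun i => 𝒜 i)) = 1 := by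
  change AddMonoidAlgebra.single (0 : M) (F 1) = 1
  rw [map_one]; rfl

theorem piece_mul {R : Type u} [CommRing R]
    {A : Type v} [CommRing A] [Algebra R A] {M : Type w} [AddCommMonoid M] [DecidableEq M]
    (𝒜 : M → Submodule R A) [GradedAlgebra 𝒜] {R' : Type u'} [CommRing R']
    [Algebra R R'] (F : A →ₐ[R] R') {i j : M} (ai : 𝒜 i) (aj : 𝒜 j) :
    piece 𝒜 F (i + j) (GradedMonoid.GMul.mul (A := fun i => 𝒜 i) ai aj) =
      piece 𝒜 F i ai * piece 𝒜 F j aj := by
  change AddMonoidAlgebra.single (i + j) (F ((ai : A) * (aj : A))) =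
    AddMonoidAlgebra.single i (F ai) * AddMonoidAlgebra.single j (F aj)
  rw [AddMonoidAlgebra.single_mul_single, map_mul]

/-- The graded algebra map `A → R'[M]`, `a ↦ ∑ F(a_m) X^m`. -/
noncomputable def gradedHom {R : Type u} [CommRing R]
    {A : Type v} [CommRing A] [Algebra R A] {M : Type w} [AddCommMonoid M] [DecidableEq M]
    (𝒜 : M → Submodule R A) [GradedAlgebra 𝒜] {R' : Type u'} [CommRing R']
    [Algebra R R'] (F : A →ₐ[R] R') : A →ₐ[R] AddMonoidAlgebra R' M :=
  (DirectSum.toAlgebra R (fun i => 𝒜 i) (piece 𝒜 F) (piece_one 𝒜 F)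
    (fun ai aj => piece_mul 𝒜 F ai aj)).comp
    (DirectSum.decomposeAlgEquiv 𝒜).toAlgHom

theorem gradedHom_of_mem {R : Type u} [CommRing R]
    {A : Type v} [CommRing A] [Algebra R A] {M : Type w} [AddCommMonoid M] [DecidableEq M]
    (𝒜 : M → Submodule R A) [GradedAlgebra 𝒜] {R' : Type u'} [CommRing R']
    [Algebra R R'] (F : A →ₐ[R] R') (m : M) (a : A) (ha : a ∈ 𝒜 m) :
    gradedHom 𝒜 F a = AddMonoidAlgebra.single m (F a) := by
  simp only [gradedHom, AlgHom.coe_comp, Function.comp_apply]
  change (toAlgebra R (fun i => 𝒜 i) (piece 𝒜 F) _ _) (decompose 𝒜 a) = _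
  rw [decompose_of_mem 𝒜 ha]
  exact toSemiring_of (fun i => (piece 𝒜 F i).toAddMonoidHom) (piece_one 𝒜 F)
    (fun ai aj => piece_mul 𝒜 F ai aj) m ⟨a, ha⟩

/-- Let R be a commutative ring, A a commutative R-algebra graded by a commutative monoid M, N a
submonoid of M and R' a commutative R-algebra. For every R-algebra homomorphism F : A → R' vanishing
on the homogeneous elements of degree outside N there is a unique R-algebra homomorphism f : A →
R'[M] which is graded (a homogeneous element of degree m goes to a multiple of X^m), vanishes on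
homogeneous elements of degree outside N, and composes with the augmentation X^m ↦ 1 to F. In the
dictionary where an M-grading of A is an action of the diagonalizable monoid scheme Spec R[M] on
Spec A and graded maps A → R'[M] supported on N are equivariant maps from the monoid scheme of N
over R', this says that the attractor of Spec A for the magnet N is represented by the closed
subscheme of Spec A defined by the homogeneous elements of degree outside N. -/
theorem result (R : Type u) [CommRing R]
    (A : Type v) [CommRing A] [Algebra R A] (M : Type w) [AddCommMonoid M] [DecidableEq M]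
    (𝒜 : M → Submodule R A) [GradedAlgebra 𝒜] (N : AddSubmonoid M) (R' : Type u') [CommRing R']
    [Algebra R R'] (F : A →ₐ[R] R') (hF : ∀ m, m ∉ N → ∀ a ∈ 𝒜 m, F a = 0) :
    ∃! f : A →ₐ[R] AddMonoidAlgebra R' M,
      (∀ m, ∀ a ∈ 𝒜 m, f a =
          AddMonoidAlgebra.single m (Bialgebra.counitAlgHom R' (AddMonoidAlgebra R' M) (f a))) ∧
      (∀ m, m ∉ N → ∀ a ∈ 𝒜 m, f a = 0) ∧
      ∀ a, Bialgebra.counitAlgHom R' (AddMonoidAlgebra R' M) (f a) = F a := by
  have hcounit : ∀ (m : M) (x : R'), Bialgebra.counitAlgHom R' (AddMonoidAlgebra R' M)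
      (AddMonoidAlgebra.single m x) = x := by
    intro m x
    simp
  refine ⟨gradedHom 𝒜 F, ⟨?_, ?_, ?_⟩, ?_⟩
  · intro m a ha
    rw [gradedHom_of_mem 𝒜 F m a ha, hcounit]
  · intro m hm a ha
    rw [gradedHom_of_mem 𝒜 F m a ha, hF m hm a ha, AddMonoidAlgebra.single_zero]
  · intro a
    induction a using DirectSum.Decomposition.inductionOn 𝒜 with
    | zero => simp
    | homogeneous a =>
      rw [gradedHom_of_mem 𝒜 F _ a a.2, hcounit]
    | add a b ha hb => rw [map_add, map_add, ha, hb, map_add]
  · rintro g ⟨hg1, _, hg3⟩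
    apply AlgHom.ext
    intro a
    induction a using DirectSum.Decomposition.inductionOn 𝒜 with
    | zero => simp
    | homogeneous a =>
      rw [gradedHom_of_mem 𝒜 F _ a a.2, hg1 _ a a.2, hg3]
    | add a b ha hb => rw [map_add, map_add, ha, hb]

end Groth.Agent.S17682
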