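import Groth.Statements.S17683
-- import your own Groth.Agent.* helpers here

set_option autoImplicit false
universe u
open DiagMon

namespace Groth.Agent.S17683

theorem comap_single_of_mem {N : Type u} [AddCommMonoid N] (F : AddSubmonoid N) (x : N) (hx : x ∈ F)
    (r : ℤ) :
    AddMonoidAlgebra.comapDomain ((↑) : F → N) Subtype.val_injective (AddMonoidAlgebra.single x r) =
      AddMonoidAlgebra.single (⟨x, hx⟩ : F) r :=
  AddMonoidAlgebra.comapDomain_single_map ((↑) : F → N) Subtype.val_injective ⟨x, hx⟩ r

theorem comap_single_of_not_mem {N : Type u} [AddCommMonoid N] (F : AddSubmonoid N) (x : N)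
    (hx : x ∉ F) (r : ℤ) :
    AddMonoidAlgebra.comapDomain ((↑) : F → N) Subtype.val_injective (AddMonoidAlgebra.single x r) =
      0 := by
  classical
  apply AddMonoidAlgebra.coeff_injective
  ext ⟨y, hy⟩
  simp only [AddMonoidAlgebra.coeff_comapDomain, Finsupp.comapDomain_apply,
    AddMonoidAlgebra.coeff_single, AddMonoidAlgebra.coeff_zero, Finsupp.coe_zero, Pi.zero_apply]
  rw [Finsupp.single_apply, if_neg]
  rintro rfl
  exact hx hy

/-- Let N be a commutative monoid and F a submonoid of N. The additive projection ℤ[N] → ℤ[F] of monoid
algebras keeping the monomials with exponent in F and killing the others is multiplicative, i.e. F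
is a face of N, if and only if for all x, y in N the sum x + y lies in F exactly when both x and y
do. -/
theorem result {N : Type u} [AddCommMonoid N] (F : AddSubmonoid N) :
    (∀ a b : AddMonoidAlgebra ℤ N,
        AddMonoidAlgebra.comapDomain ((↑) : F → N) Subtype.val_injective (a * b) =
          AddMonoidAlgebra.comapDomain ((↑) : F → N) Subtype.val_injective a *
            AddMonoidAlgebra.comapDomain ((↑) : F → N) Subtype.val_injective b) ↔
      ∀ x y : N, x + y ∈ F ↔ (x ∈ F ∧ y ∈ F) := by
  constructor
  · intro h x y
    have hxy := h (AddMonoidAlgebra.single x 1) (AddMonoidAlgebra.single y 1)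
    rw [AddMonoidAlgebra.single_mul_single] at hxy
    constructor
    · intro hmem
      rw [comap_single_of_mem F _ hmem] at hxy
      by_contra hcon
      have hzero : AddMonoidAlgebra.comapDomain ((↑) : F → N) Subtype.val_injective
            (AddMonoidAlgebra.single x (1 : ℤ)) *
          AddMonoidAlgebra.comapDomain ((↑) : F → N) Subtype.val_injective
            (AddMonoidAlgebra.single y (1 : ℤ)) = 0 := by
        by_cases hx : x ∈ F
        · have hy : y ∉ F := fun hy => hcon ⟨hx, hy⟩
          rw [comap_single_of_not_mem F y hy, mul_zero]
        · rw [comap_single_of_not_mem F x hx, zero_mul]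
      rw [hzero] at hxy
      exact (AddMonoidAlgebra.single_ne_zero.mpr (by simp)) hxy
    · rintro ⟨hx, hy⟩
      by_contra hcon
      rw [comap_single_of_not_mem F _ hcon, comap_single_of_mem F x hx, comap_single_of_mem F y hy,
        AddMonoidAlgebra.single_mul_single] at hxy
      exact (AddMonoidAlgebra.single_ne_zero.mpr (by simp)) hxy.symm
  · intro h a b
    induction a using AddMonoidAlgebra.induction_linear with
    | zero => simp
    | add a₁ a₂ h₁ h₂ => rw [add_mul, AddMonoidAlgebra.comapDomain_add, h₁, h₂,
        AddMonoidAlgebra.comapDomain_add, add_mul]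
    | single x r =>
      induction b using AddMonoidAlgebra.induction_linear with
      | zero => simp
      | add b₁ b₂ h₁ h₂ => rw [mul_add, AddMonoidAlgebra.comapDomain_add, h₁, h₂,
          AddMonoidAlgebra.comapDomain_add, mul_add]
      | single y s =>
        rw [AddMonoidAlgebra.single_mul_single]
        by_cases hxy : x + y ∈ F
        · obtain ⟨hx, hy⟩ := (h x y).mp hxy
          rw [comap_single_of_mem F _ hxy, comap_single_of_mem F x hx, comap_single_of_mem F y hy,
            AddMonoidAlgebra.single_mul_single]
          rfl
        · rw [comap_single_of_not_mem F _ hxy]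
          by_cases hx : x ∈ F
          · have hy : y ∉ F := fun hy => hxy ((h x y).mpr ⟨hx, hy⟩)
            rw [comap_single_of_not_mem F y hy, mul_zero]
          · rw [comap_single_of_not_mem F x hx, zero_mul]

end Groth.Agent.S17683
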