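import Groth.Statements.S17687
import Mathlib.RingTheory.GradedAlgebra.Homogeneous.Ideal
-- import your own Groth.Agent.* helpers here

set_option autoImplicit false
universe u v w
open DiagMon

namespace Groth.Agent.S17687

open DirectSum in
/-- Key lemma: the attractor ideal is generated by homogeneous elements whose degree lies in the
finite set `D` of degrees of the components of a finite generating set. -/
theorem key (R : Type u) [CommRing R] (A : Type v) [CommRing A]
    [Algebra R A] (M : Type w) [AddCommMonoid M] [DecidableEq M]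
    (𝒜 : M → Submodule R A) [GradedAlgebra 𝒜] (S : Finset A) (hS : Algebra.adjoin R (S : Set A) = ⊤)
    (D : Finset M)
    (hD : ∀ a ∈ S, ∀ m, (decompose 𝒜 a m : A) ≠ 0 → m ∈ D)
    (N : AddSubmonoid M) (m : M) (hm : m ∉ N) (a : A) (ha : a ∈ 𝒜 m) :
    a ∈ Ideal.span {a : A | ∃ m ∈ D, m ∉ N ∧ a ∈ 𝒜 m} := by
  classical
  set I : Ideal A := Ideal.span {a : A | ∃ m ∈ D, m ∉ N ∧ a ∈ 𝒜 m} with hI
  set B : Submodule R A := ⨆ n : N, 𝒜 n.1 with hB
  have hIhom : I.IsHomogeneous 𝒜 := by
    apply Ideal.homogeneous_span
    rintro x ⟨m, _, _, hx⟩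
    exact ⟨m, hx⟩
  have hBmul : ∀ x ∈ B, ∀ y ∈ B, x * y ∈ B := by
    intro x hx y hy
    induction hx using Submodule.iSup_induction' with
    | mem n x hx =>
      induction hy using Submodule.iSup_induction' with
      | mem n' y hy =>
        have : x * y ∈ 𝒜 ((n + n' : N) : M) := SetLike.mul_mem_graded hx hy
        exact (le_iSup (fun n : N => 𝒜 n.1) (n + n')) this
      | zero => rw [mul_zero]; exact B.zero_mem
      | add y y' _ _ h h' => rw [mul_add]; exact B.add_mem h h'
    | zero => rw [zero_mul]; exact B.zero_mem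
    | add x x' _ _ h h' => rw [add_mul]; exact B.add_mem h h'
  have hBproj : ∀ b ∈ B, ∀ m, m ∉ N → (decompose 𝒜 b m : A) = 0 := by
    intro b hb m hm
    induction hb using Submodule.iSup_induction' with
    | mem n x hx =>
      have hne : (n : M) ≠ m := fun h => hm (h ▸ n.2)
      exact decompose_of_mem_ne 𝒜 hx hne
    | zero => simp
    | add x y _ _ h h' => rw [decompose_add, DirectSum.add_apply, Submodule.coe_add, h, h', add_zero]
  set Cm : Submodule R A := B ⊔ I.restrictScalars R with hCm
  have hone : (1 : A) ∈ Cm := by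
    apply Submodule.mem_sup_left
    have : (1 : A) ∈ 𝒜 ((0 : N) : M) := SetLike.GradedOne.one_mem
    exact (le_iSup (fun n : N => 𝒜 n.1) 0) this
  have hmul : ∀ x y, x ∈ Cm → y ∈ Cm → x * y ∈ Cm := by
    intro x y hx hy
    obtain ⟨b, hb, i, hi, rfl⟩ := Submodule.mem_sup.mp hx
    obtain ⟨b', hb', i', hi', rfl⟩ := Submodule.mem_sup.mp hy
    have hi0 : i ∈ I := hi
    have hi0' : i' ∈ I := hi'
    have e : (b + i) * (b' + i') = b * b' + (b * i' + i * b' + i * i') := by ring
    rw [e]
    apply Submodule.add_mem
    · exact Submodule.mem_sup_left (hBmul b hb b' hb')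
    · apply Submodule.mem_sup_right
      change b * i' + i * b' + i * i' ∈ I
      exact I.add_mem (I.add_mem (I.mul_mem_left _ hi0') (I.mul_mem_right _ hi0))
        (I.mul_mem_left _ hi0')
  set C : Subalgebra R A := Cm.toSubalgebra hone hmul with hC
  have hSC : (S : Set A) ⊆ C := by
    intro s hs
    change s ∈ Cm
    rw [← sum_support_decompose 𝒜 s]
    apply Submodule.sum_mem
    intro m hm
    have hne : (decompose 𝒜 s m : A) ≠ 0 := by
      rw [DFinsupp.mem_support_iff] at hm
      exact fun h => hm (Subtype.ext h)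
    have hmD := hD s hs m hne
    by_cases hmN : m ∈ N
    · apply Submodule.mem_sup_left
      exact (le_iSup (fun n : N => 𝒜 n.1) ⟨m, hmN⟩) (decompose 𝒜 s m).2
    · apply Submodule.mem_sup_right
      change (decompose 𝒜 s m : A) ∈ I
      exact Ideal.subset_span ⟨m, hmD, hmN, (decompose 𝒜 s m).2⟩
  have hCtop : C = ⊤ := by
    rw [eq_top_iff, ← hS]
    exact Algebra.adjoin_le hSC
  have haC : a ∈ Cm := by
    have : a ∈ C := by rw [hCtop]; trivial
    exact this
  obtain ⟨b, hb, i, hi, rfl⟩ := Submodule.mem_sup.mp haC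
  have hi0 : i ∈ I := hi
  have h1 : (decompose 𝒜 (b + i) m : A) = b + i := decompose_of_mem_same 𝒜 ha
  rw [decompose_add, DirectSum.add_apply, Submodule.coe_add, hBproj b hb m hm, zero_add] at h1
  rw [← h1]
  exact hIhom m hi0

open DirectSum in
/-- Let R be a commutative ring and A a commutative R-algebra of finite type graded by a commutative
monoid M. Then the set of ideals J_N, N running over all submonoids of M, where J_N is generated by
the homogeneous elements of degree not in N (the ideal of the attractor of Spec A for the magnet N),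
is finite: Spec A has finitely many attractors and hence finitely many pure magnets. (The source
assumes Spec A of finite presentation over the base; its proof uses only a finite set of homogeneous
algebra generators, so finite type is assumed here.) -/
theorem result (R : Type u) [CommRing R] (A : Type v) [CommRing A]
    [Algebra R A] [Algebra.FiniteType R A] (M : Type w) [AddCommMonoid M] [DecidableEq M]
    (𝒜 : M → Submodule R A) [GradedAlgebra 𝒜] :
    (Set.range fun N : AddSubmonoid M => Ideal.span {a : A | ∃ m : M, m ∉ N ∧ a ∈ 𝒜 m}).Finite := by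
  classical
  obtain ⟨S, hS⟩ := (Algebra.FiniteType.out : (⊤ : Subalgebra R A).FG)
  set D : Finset M := S.biUnion (fun a => (decompose 𝒜 a).support) with hDdef
  have hD : ∀ a ∈ S, ∀ m, (decompose 𝒜 a m : A) ≠ 0 → m ∈ D := by
    intro a ha m hm
    rw [hDdef, Finset.mem_biUnion]
    refine ⟨a, ha, ?_⟩
    rw [DFinsupp.mem_support_iff]
    intro h
    exact hm (by rw [h]; rfl)
  have hfin : ((fun F : Finset M => Ideal.span {a : A | ∃ m ∈ F, a ∈ 𝒜 m}) ''
      (D.powerset : Set (Finset M))).Finite := Set.Finite.image _ (Finset.finite_toSet _)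
  refine hfin.subset ?_
  rintro _ ⟨N, rfl⟩
  refine ⟨D.filter (fun m => m ∉ N), ?_, ?_⟩
  · simp only [Finset.coe_powerset, Set.mem_preimage, Set.mem_powerset_iff, Finset.coe_subset]
    exact Finset.filter_subset _ _
  · apply le_antisymm
    · apply Ideal.span_mono
      rintro a ⟨m, hm, ha⟩
      rw [Finset.mem_filter] at hm
      exact ⟨m, hm.2, ha⟩
    · rw [Ideal.span_le]
      rintro a ⟨m, hm, ha⟩
      have := key R A M 𝒜 S hS D hD N m hm a ha
      refine Ideal.span_mono ?_ this
      rintro a ⟨m, hmD, hmN, ha⟩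
      exact ⟨m, Finset.mem_filter.mpr ⟨hmD, hmN⟩, ha⟩

end Groth.Agent.S17687
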