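import Groth.Statements.S17688
import Mathlib
import Groth.Agent.Lib.Helper70.NeronClosC

set_option autoImplicit false
universe u
open CategoryTheory CategoryTheory.Limits AlgebraicGeometry MonObj
open Neron

namespace Groth.Agent.S17688

/-- Let R be a discrete valuation ring whose fraction field K has characteristic p > 0, and let U be a
flat, separated, commutative group scheme over Spec R whose generic fibre U_K is annihilated by a
power p^N of p (in the group of endomorphisms of U_K as a K-scheme, the p^N-th power of the identity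
is the unit). Then for every prime ℓ invertible in R the ℓ-th power map of U (the ℓ-th power of the
identity in the group of R-morphisms U → U) is an isomorphism. -/
theorem result
    (R : Type u) [CommRing R] [IsDomain R] [IsDiscreteValuationRing R]
    (p : ℕ) (hp : p.Prime) [CharP (FractionRing R) p]
    (U : Over (Spec (CommRingCat.of R))) [GrpObj U] [IsCommMonObj U] [Flat U.hom] [IsSeparated U.hom]
    (N : ℕ) (hN : (𝟙 (Red.bc (Neron.genPt R) U) : Red.bc (Neron.genPt R) U ⟶ Red.bc (Neron.genPt R) U) ^ (p ^ N) = 1)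
    (ℓ : ℕ) (hℓ : ℓ.Prime) (hℓu : IsUnit (ℓ : R)) :
    IsIso ((𝟙 U : U ⟶ U) ^ ℓ) := by
  -- `U` is killed by `p ^ N`
  have hP : (𝟙 U : U ⟶ U) ^ (p ^ N) = 1 := by
    apply Groth.Agent.Lib.Helper70.NeronClosC.hom_ext_of_genericFibre R (FractionRing R) U U
    have e1 := map_pow (Functor.homMonoidHom (X := U) (M := U) (Over.pullback (genPt R)))
      (𝟙 U) (p ^ N)
    have e2 := map_one (Functor.homMonoidHom (X := U) (M := U) (Over.pullback (genPt R)))
    simp only [Functor.homMonoidHom_apply] at e1 e2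
    rw [e1, e2, CategoryTheory.Functor.map_id]
    exact hN
  -- `ℓ` is prime to `p`
  have hne : ℓ ≠ p := by
    rintro rfl
    have h0 : ((ℓ : ℕ) : FractionRing R) = 0 := CharP.cast_eq_zero _ _
    have h1 : ((ℓ : ℕ) : R) = 0 := by
      apply IsFractionRing.injective R (FractionRing R)
      rw [map_natCast, h0, map_zero]
    rw [h1] at hℓu
    exact not_isUnit_zero hℓu
  have hcop : Nat.Coprime ℓ (p ^ N) := Nat.Coprime.pow_right _ ((Nat.coprime_primes hℓ hp).mpr hne)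
  have hbez : (ℓ : ℤ) * Nat.gcdA ℓ (p ^ N) + ((p ^ N : ℕ) : ℤ) * Nat.gcdB ℓ (p ^ N) = 1 := by
    have := Nat.gcd_eq_gcd_ab ℓ (p ^ N)
    rw [hcop] at this
    exact_mod_cast this.symm
  set a := Nat.gcdA ℓ (p ^ N) with ha
  set b := Nat.gcdB ℓ (p ^ N) with hb
  have key : ((𝟙 U : U ⟶ U) ^ ℓ) ^ a = 𝟙 U := by
    have h2 : ((𝟙 U : U ⟶ U) ^ ((p ^ N : ℕ) : ℤ)) = 1 := by rw [zpow_natCast, hP]
    calc ((𝟙 U : U ⟶ U) ^ ℓ) ^ a = (𝟙 U : U ⟶ U) ^ ((ℓ : ℤ) * a) := by
          rw [← zpow_natCast, ← zpow_mul]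
      _ = (𝟙 U : U ⟶ U) ^ (1 - ((p ^ N : ℕ) : ℤ) * b) := by
          congr 1; linarith
      _ = 𝟙 U := by
          rw [zpow_sub, zpow_one, zpow_mul, h2, one_zpow, inv_one, _root_.mul_one]
  have key' : ((𝟙 U : U ⟶ U) ^ a) ^ ℓ = 𝟙 U := by
    calc ((𝟙 U : U ⟶ U) ^ a) ^ ℓ = (𝟙 U : U ⟶ U) ^ (a * (ℓ : ℤ)) := by
          rw [← zpow_natCast, ← zpow_mul]
      _ = (𝟙 U : U ⟶ U) ^ ((ℓ : ℤ) * a) := by rw [mul_comm]
      _ = ((𝟙 U : U ⟶ U) ^ ℓ) ^ a := by rw [zpow_mul, zpow_natCast]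
      _ = 𝟙 U := key
  refine ⟨(𝟙 U : U ⟶ U) ^ a, ?_, ?_⟩
  · rw [GrpObj.comp_zpow, Category.comp_id, key]
  · rw [MonObj.comp_pow, Category.comp_id, key']

end Groth.Agent.S17688
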