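import Groth.Statements.S17713
import Groth.Agent.Lib.Helper88.Todd
-- import your own Groth.Agent.* helpers here

set_option autoImplicit false
open MoretBailly

namespace Groth.Agent.S17713

open Groth.Agent.Lib.Helper88 in
/-- Let n ≥ 2 and d ≥ 1 be natural numbers and s an integer, and write B(x) = x/(1 - e^(-x)) for the
exponential generating series of the Bernoulli numbers B'_i (convention B'_1 = 1/2). For a natural
number p consider the product B(-dx)^(-1) B(-dpx) B(x)^(n+1) e^((dp-d-n-1+s)x) in ℚ[[x]] (the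
Todd-class integrand of a Hirzebruch–Riemann–Roch computation) and let λ_n(p) be its coefficient of
x^n. Then λ_n(p) is a polynomial in p whose two top terms are B'_n (dp)^n/n! and ((2s-d-n-1)/2)
B'_(n-1) (dp)^(n-1)/(n-1)!: there is a polynomial P over ℚ of degree at most n - 2 with λ_n(p) equal
to the sum of these two terms and P(p), for every p. -/
theorem result (n d : ℕ) (s : ℤ) (hn : 2 ≤ n) (hd : 1 ≤ d) :
    ∃ P : Polynomial ℚ, P.natDegree ≤ n - 2 ∧ ∀ p : ℕ,
      PowerSeries.coeff n ((PowerSeries.rescale (-(d : ℚ)) (bernoulli'PowerSeries ℚ))⁻¹ * PowerSeries.rescale (-((d : ℚ) * p)) (bernoulli'PowerSeries ℚ) * bernoulli'PowerSeries ℚ ^ (n + 1) * PowerSeries.rescale ((d : ℚ) * p - d - n - 1 + s) (PowerSeries.exp ℚ)) =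
        bernoulli' n * ((d : ℚ) * p) ^ n / (Nat.factorial n : ℚ) +
          (2 * (s : ℚ) - d - n - 1) / 2 * bernoulli' (n - 1) * ((d : ℚ) * p) ^ (n - 1) / (Nat.factorial (n - 1) : ℚ) +
          P.eval (p : ℚ) := by
  obtain ⟨n', rfl⟩ : ∃ n', n = n' + 2 := ⟨n - 2, by omega⟩
  set c : ℚ := -(d : ℚ) - ((n' + 2 : ℕ) : ℚ) - 1 + s with hc
  refine ⟨∑ k ∈ Finset.range (n' + 1),
    Polynomial.C ((d : ℚ) ^ k * (bernoulli' k / (k.factorial : ℚ)) *
      PowerSeries.coeff (n' + 2 - k) (Gser (n' + 2 + 1) d c)) * Polynomial.X ^ k, ?_, ?_⟩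
  · apply Polynomial.natDegree_sum_le_of_forall_le
    intro k hk
    refine (Polynomial.natDegree_C_mul_X_pow_le _ _).trans ?_
    rw [Finset.mem_range] at hk
    omega
  · intro p
    have hexp : (d : ℚ) * p - d - ((n' + 2 : ℕ) : ℚ) - 1 + s = (d : ℚ) * p + c := by
      rw [hc]; ring
    rw [hexp, coeff_todd, Finset.sum_range_succ, Finset.sum_range_succ]
    have h1 : n' + 2 - (n' + 2) = 0 := by omega
    have h2 : n' + 2 - (n' + 1) = 1 := by omega
    have h3 : n' + 2 - 1 = n' + 1 := by omega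
    rw [h1, h2, h3, coeff_zero_Gser, coeff_one_Gser, Polynomial.eval_finsetSum]
    simp only [Polynomial.eval_mul, Polynomial.eval_C, Polynomial.eval_pow, Polynomial.eval_X]
    have hsum : ∑ x ∈ Finset.range (n' + 1),
        ((d : ℚ) * p) ^ x * (bernoulli' x / (x.factorial : ℚ)) *
          PowerSeries.coeff (n' + 2 - x) (Gser (n' + 2 + 1) d c) =
        ∑ x ∈ Finset.range (n' + 1),
          (d : ℚ) ^ x * (bernoulli' x / (x.factorial : ℚ)) *
            PowerSeries.coeff (n' + 2 - x) (Gser (n' + 2 + 1) d c) * (p : ℚ) ^ x := by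
      apply Finset.sum_congr rfl
      intro x _
      rw [mul_pow]; ring
    rw [hsum, hc]
    push_cast
    ring

end Groth.Agent.S17713
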