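import Groth.Statements.S17714
import Groth.Agent.S17713
import Groth.Agent.Lib.Helper88.ToddSign
-- import your own Groth.Agent.* helpers here

set_option autoImplicit false
open MoretBailly

namespace Groth.Agent.S17714

open Groth.Agent.Lib.Helper88 in
/-- Let n ≥ 2 and d ≥ 1 be natural numbers with n congruent to 0 or 1 modulo 4, and s an integer with 2s
> n + d + 1. Write B(x) = x/(1 - e^(-x)) for the exponential generating series of the Bernoulli
numbers (B'_1 = 1/2). Then for all sufficiently large natural numbers p the coefficient of x^n in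
B(-dx)^(-1) B(-dpx) B(x)^(n+1) e^((dp-d-n-1+s)x) is strictly negative. (The published statement
asserts this for every n ≥ 2 not congruent to 2 modulo 4. For n congruent to 3 modulo 4 the
coefficient is a polynomial in p of degree n - 1 with leading coefficient (2s-d-n-1) B'_(n-1)
d^(n-1)/(2 (n-1)!) > 0, so it is eventually positive: for n = 3, d = 1, s = 3 it equals (p^2 -
1)/24. The residues 0 and 1 are exactly the ones the leading-term argument gives.) -/
theorem result (n d : ℕ) (s : ℤ) (hn : 2 ≤ n)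
    (hmod : n % 4 = 0 ∨ n % 4 = 1) (hd : 1 ≤ d) (hs : (n : ℤ) + d + 1 < 2 * s) :
    ∃ P : ℕ, ∀ p : ℕ, P ≤ p →
      PowerSeries.coeff n ((PowerSeries.rescale (-(d : ℚ)) (bernoulli'PowerSeries ℚ))⁻¹ * PowerSeries.rescale (-((d : ℚ) * p)) (bernoulli'PowerSeries ℚ) * bernoulli'PowerSeries ℚ ^ (n + 1) * PowerSeries.rescale ((d : ℚ) * p - d - n - 1 + s) (PowerSeries.exp ℚ)) < 0 := by
  obtain ⟨Q, hQdeg, hQ⟩ := Groth.Agent.S17713.result n d s hn hd
  have hdpos : (0 : ℚ) < d := by exact_mod_cast hd
  rcases hmod with h0 | h1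
  · -- n ≡ 0 mod 4
    have hn4 : 4 ≤ n := by omega
    have hodd : bernoulli' (n - 1) = 0 :=
      bernoulli'_eq_zero_of_odd (by rw [Nat.odd_iff]; omega) (by omega)
    have hneg : bernoulli' n < 0 := bernoulli'_neg_of_four_dvd n (by omega) h0
    set a : ℚ := bernoulli' n * (d : ℚ) ^ n / (n.factorial : ℚ) with ha
    have ha_neg : a < 0 := by
      rw [ha]
      apply div_neg_of_neg_of_pos
      · exact mul_neg_of_neg_of_pos hneg (by positivity)
      · positivity
    obtain ⟨P₀, hP₀⟩ := eventually_neg_of_lead a ha_neg n (by omega) Q (by omega)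
    refine ⟨P₀, fun p hp => ?_⟩
    rw [hQ p, hodd]
    have := hP₀ p hp
    have heq : bernoulli' n * ((d : ℚ) * p) ^ n / (n.factorial : ℚ) +
        (2 * (s : ℚ) - d - n - 1) / 2 * 0 * ((d : ℚ) * p) ^ (n - 1) / ((n - 1).factorial : ℚ) +
        Polynomial.eval (p : ℚ) Q = a * (p : ℚ) ^ n + Polynomial.eval (p : ℚ) Q := by
      rw [ha, mul_pow]; ring
    rw [heq]; exact this
  · -- n ≡ 1 mod 4
    have hn5 : 5 ≤ n := by omega
    have hodd : bernoulli' n = 0 :=
      bernoulli'_eq_zero_of_odd (by rw [Nat.odd_iff]; omega) (by omega)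
    have hneg : bernoulli' (n - 1) < 0 := bernoulli'_neg_of_four_dvd (n - 1) (by omega) (by omega)
    have hs' : (0 : ℚ) < 2 * (s : ℚ) - d - n - 1 := by
      have : ((n : ℤ) : ℚ) + ((d : ℤ) : ℚ) + 1 < 2 * (s : ℚ) := by exact_mod_cast hs
      push_cast at this
      linarith
    set b : ℚ := (2 * (s : ℚ) - d - n - 1) / 2 * bernoulli' (n - 1) * (d : ℚ) ^ (n - 1) /
      ((n - 1).factorial : ℚ) with hb
    have hb_neg : b < 0 := by
      rw [hb]
      apply div_neg_of_neg_of_pos
      · apply mul_neg_of_neg_of_pos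
        · exact mul_neg_of_pos_of_neg (by positivity) hneg
        · positivity
      · positivity
    obtain ⟨P₀, hP₀⟩ := eventually_neg_of_lead b hb_neg (n - 1) (by omega) Q (by omega)
    refine ⟨P₀, fun p hp => ?_⟩
    rw [hQ p, hodd]
    have := hP₀ p hp
    have heq : 0 * ((d : ℚ) * p) ^ n / (n.factorial : ℚ) +
        (2 * (s : ℚ) - d - n - 1) / 2 * bernoulli' (n - 1) * ((d : ℚ) * p) ^ (n - 1) /
          ((n - 1).factorial : ℚ) +
        Polynomial.eval (p : ℚ) Q = b * (p : ℚ) ^ (n - 1) + Polynomial.eval (p : ℚ) Q := by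
      rw [hb, mul_pow]; ring
    rw [heq]; exact this

end Groth.Agent.S17714
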