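import Groth.Statements.S17715
import Groth.Agent.Lib.Helper88.Todd
-- import your own Groth.Agent.* helpers here

set_option autoImplicit false
open MoretBailly

namespace Groth.Agent.S17715

open Groth.Agent.Lib.Helper88 in
/-- Write B(x) = x/(1 - e^(-x)) for the exponential generating series of the Bernoulli numbers (B'_1 =
1/2). For all natural numbers d and p the coefficient of x^3 in B(-dx)^(-1) B(-dpx) B(x)^4
e^((dp-d-3)x), i.e. the case n = 3, s = 1 of the Todd-class integrand, equals
-d(d+2)(p-1)(dp-d-2)/24 = -(d^3+2d^2) p^2/24 + (d^3+3d^2+2d) p/12 - (d^3+4d^2+4d)/24. (The published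
closed form has the same p^2 and p coefficients but constant term -(d^3+2d^2+2d)/24; direct
expansion gives the value stated here, which vanishes at p = 1.) -/
theorem result (d p : ℕ) :
    PowerSeries.coeff 3 ((PowerSeries.rescale (-(d : ℚ)) (bernoulli'PowerSeries ℚ))⁻¹ * PowerSeries.rescale (-((d : ℚ) * p)) (bernoulli'PowerSeries ℚ) * bernoulli'PowerSeries ℚ ^ (4) * PowerSeries.rescale ((d : ℚ) * p - d - 3) (PowerSeries.exp ℚ)) =
      -((d : ℚ) * (d + 2) * (p - 1) * (d * p - d - 2)) / 24 := by
  have hexp : (d : ℚ) * p - d - 3 = (d : ℚ) * p + (-(d : ℚ) - 3) := by ring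
  rw [hexp, coeff_todd]
  simp only [Finset.sum_range_succ, Finset.sum_range_zero, zero_add, Nat.sub_zero, Nat.sub_self,
    Nat.reduceSub, coeff_zero_Gser, coeff_one_Gser,
    bernoulli'_zero, bernoulli'_one, bernoulli'_two, bernoulli'_three]
  simp only [Gser, pow_succ, pow_zero, one_mul, coeff_three_mul', coeff_two_mul', coeff_one_mul',
    coeff_zero_mul', coeff_zero_bernoulli', coeff_one_bernoulli', coeff_two_bernoulli',
    coeff_three_bernoulli', PowerSeries.coeff_rescale, coeff_Wser, PowerSeries.coeff_exp,
    Nat.factorial]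
  simp only [Algebra.algebraMap_self, RingHom.id_apply]
  push_cast
  ring

end Groth.Agent.S17715
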