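import Groth.Statements.S17718
import Groth.Agent.S17713
import Groth.Agent.S17714
import Groth.Agent.Lib.Helper88.ToddSign
-- import your own Groth.Agent.* helpers here

set_option autoImplicit false
open MoretBailly

namespace Groth.Agent.S17718

open Groth.Agent.Lib.Helper88 in
/-- Let n ≥ 2 and d ≥ 1 be natural numbers with n not congruent to 2 modulo 4, and write B(x) = x/(1 -
e^(-x)) for the exponential generating series of the Bernoulli numbers (B'_1 = 1/2). Then there is
an integer s ≥ 1 such that for all sufficiently large natural numbers p the coefficient of x^n in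
B(-dx)^(-1) B(-dpx) B(x)^(n+1) e^((dp-d-n-1+s)x) is strictly negative. (The published argument fixes
any s with 2s > n + d + 1, which gives the sign only for n congruent to 0 or 1 modulo 4; for n
congruent to 3 modulo 4 the choice s = 1 makes the leading coefficient (2s-d-n-1) B'_(n-1)
d^(n-1)/(2 (n-1)!) negative instead.) -/
theorem result (n d : ℕ) (hn : 2 ≤ n)
    (hmod : n % 4 ≠ 2) (hd : 1 ≤ d) :
    ∃ s : ℤ, 1 ≤ s ∧ ∃ P : ℕ, ∀ p : ℕ, P ≤ p →
      PowerSeries.coeff n ((PowerSeries.rescale (-(d : ℚ)) (bernoulli'PowerSeries ℚ))⁻¹ * PowerSeries.rescale (-((d : ℚ) * p)) (bernoulli'PowerSeries ℚ) * bernoulli'PowerSeries ℚ ^ (n + 1) * PowerSeries.rescale ((d : ℚ) * p - d - n - 1 + s) (PowerSeries.exp ℚ)) < 0 := by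
  by_cases h01 : n % 4 = 0 ∨ n % 4 = 1
  · refine ⟨(n : ℤ) + d + 1, by omega, ?_⟩
    exact Groth.Agent.S17714.result n d ((n : ℤ) + d + 1) hn h01 hd (by omega)
  · have h3 : n % 4 = 3 := by omega
    refine ⟨1, le_refl _, ?_⟩
    obtain ⟨Q, hQdeg, hQ⟩ := Groth.Agent.S17713.result n d 1 hn hd
    have hdpos : (0 : ℚ) < d := by exact_mod_cast hd
    have hnpos : (0 : ℚ) < n := by exact_mod_cast (by omega : 0 < n)
    have hodd : bernoulli' n = 0 :=
      bernoulli'_eq_zero_of_odd (by rw [Nat.odd_iff]; omega) (by omega)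
    have hpos : 0 < bernoulli' (n - 1) := bernoulli'_pos_of_two_mod_four (n - 1) (by omega)
    have hd1 : (1 : ℚ) ≤ d := by exact_mod_cast hd
    have hs' : 2 * ((1 : ℤ) : ℚ) - d - n - 1 < 0 := by
      push_cast; linarith
    set b : ℚ := (2 * ((1 : ℤ) : ℚ) - d - n - 1) / 2 * bernoulli' (n - 1) * (d : ℚ) ^ (n - 1) /
      ((n - 1).factorial : ℚ) with hb
    have hb_neg : b < 0 := by
      rw [hb]
      apply div_neg_of_neg_of_pos
      · apply mul_neg_of_neg_of_pos
        · apply mul_neg_of_neg_of_pos _ hpos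
          exact div_neg_of_neg_of_pos hs' (by norm_num)
        · positivity
      · positivity
    obtain ⟨P₀, hP₀⟩ := eventually_neg_of_lead b hb_neg (n - 1) (by omega) Q (by omega)
    refine ⟨P₀, fun p hp => ?_⟩
    rw [hQ p, hodd]
    have := hP₀ p hp
    have heq : 0 * ((d : ℚ) * p) ^ n / (n.factorial : ℚ) +
        (2 * ((1 : ℤ) : ℚ) - d - n - 1) / 2 * bernoulli' (n - 1) * ((d : ℚ) * p) ^ (n - 1) /
          ((n - 1).factorial : ℚ) +
        Polynomial.eval (p : ℚ) Q = b * (p : ℚ) ^ (n - 1) + Polynomial.eval (p : ℚ) Q := by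
      rw [hb, mul_pow]; ring
    rw [heq]; exact this

end Groth.Agent.S17718
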