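import Groth.Statements.S17720
import Mathlib.RingTheory.MvPowerSeries.Derivative
import Mathlib.Tactic
-- import your own Groth.Agent.* helpers here

set_option autoImplicit false
universe u
open CAlg

namespace Groth.Agent.S17720

open MvPowerSeries

/-- The ideal generated by the values of all `A`-derivations of `B` into itself. -/
def dIdeal (A B : Type*) [CommRing A] [CommRing B] [Algebra A B] : Ideal B :=
  Ideal.span {b' | ∃ (D : Derivation A B B) (b : B), D b = b'}

theorem dIdeal_map_le {A B B' : Type*} [CommRing A] [CommRing B] [CommRing B'] [Algebra A B]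
    [Algebra A B'] (φ : B ≃ₐ[A] B') : (dIdeal A B).map (φ : B →+* B') ≤ dIdeal A B' := by
  rw [Ideal.map_le_iff_le_comap, dIdeal, Ideal.span_le]
  rintro _ ⟨D, b, rfl⟩
  change φ (D b) ∈ dIdeal A B'
  apply Ideal.subset_span
  have hd : ∀ x, φ x = 0 → φ (D x) = 0 := by
    intro x hx
    have : x = 0 := by simpa using hx
    rw [this]; simp
  refine ⟨Derivation.liftOfSurjective (f := φ) φ.surjective hd, φ b, ?_⟩
  rw [Derivation.liftOfSurjective_apply]

theorem comap_dIdeal_eq {A B B' : Type*} [CommRing A] [CommRing B] [CommRing B'] [Algebra A B]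
    [Algebra A B'] (φ : B ≃ₐ[A] B') :
    (dIdeal A B).comap (algebraMap A B) = (dIdeal A B').comap (algebraMap A B') := by
  apply le_antisymm
  · intro a ha
    rw [Ideal.mem_comap] at ha ⊢
    have := dIdeal_map_le φ (Ideal.mem_map_of_mem (φ : B →+* B') ha)
    simpa using this
  · intro a ha
    rw [Ideal.mem_comap] at ha ⊢
    have := dIdeal_map_le φ.symm (Ideal.mem_map_of_mem (φ.symm : B' →+* B) ha)
    simpa using this

section Node

variable {A : Type u} [CommRing A] (β : A)

/-- Every power series in two variables is a constant plus a multiple of `X 0` plus a multiple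
of `X 1`. -/
theorem exists_decomp (f : MvPowerSeries (Fin 2) A) :
    ∃ g h : MvPowerSeries (Fin 2) A, f = C (constantCoeff f) + X 0 * g + X 1 * h := by
  classical
  set f₁ : MvPowerSeries (Fin 2) A := fun m => if m 0 = 0 then 0 else coeff m f with hf₁
  have h1 : (X 0 : MvPowerSeries (Fin 2) A) ∣ f₁ := by
    rw [X_dvd_iff]
    intro m hm
    change (if m 0 = 0 then 0 else coeff m f) = 0
    rw [if_pos hm]
  have h2 : (X 1 : MvPowerSeries (Fin 2) A) ∣ f - C (constantCoeff f) - f₁ := by
    rw [X_dvd_iff]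
    intro m hm
    rw [map_sub, map_sub]
    change coeff m f - coeff m (C (constantCoeff f)) - (if m 0 = 0 then 0 else coeff m f) = 0
    by_cases h0 : m 0 = 0
    · have hm0 : m = 0 := by
        ext i
        fin_cases i
        · exact h0
        · exact hm
      rw [if_pos h0, hm0, coeff_zero_C]
      simp
    · rw [if_neg h0, coeff_C, if_neg (fun h => h0 (by rw [h]; rfl))]
      ring
  obtain ⟨g, hg⟩ := h1
  obtain ⟨h, hh⟩ := h2
  refine ⟨g, h, ?_⟩
  rw [← hg, ← hh]
  ring

/-- The relation `X 0 * X 1 - C β`. -/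
noncomputable abbrev rel : MvPowerSeries (Fin 2) A := X 0 * X 1 - C β

/-- The node algebra. -/
abbrev Q : Type u := MvPowerSeries (Fin 2) A ⧸ Ideal.span {(rel β : MvPowerSeries (Fin 2) A)}

/-- The ideal generated by the two coordinates. -/
noncomputable abbrev nIdeal : Ideal (Q β) :=
  Ideal.span {Ideal.Quotient.mk _ (X 0), Ideal.Quotient.mk _ (X 1)}

theorem mk_C_mem (a : A) : Ideal.Quotient.mk (Ideal.span {(rel β : MvPowerSeries (Fin 2) A)})
    (C (β * a)) ∈ nIdeal β := by
  have h : Ideal.Quotient.mk (Ideal.span {(rel β : MvPowerSeries (Fin 2) A)}) (C β) =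
      Ideal.Quotient.mk _ (X 0) * Ideal.Quotient.mk _ (X 1) := by
    rw [← map_mul, eq_comm, Ideal.Quotient.eq]
    exact Ideal.mem_span_singleton_self _
  rw [map_mul, map_mul, h]
  apply Ideal.mul_mem_right
  apply Ideal.mul_mem_right
  exact Ideal.subset_span (Set.mem_insert _ _)

theorem mk_mem_of_constantCoeff (p : MvPowerSeries (Fin 2) A) (c : A)
    (hp : constantCoeff p = β * c) :
    Ideal.Quotient.mk (Ideal.span {(rel β : MvPowerSeries (Fin 2) A)}) p ∈ nIdeal β := by
  obtain ⟨g, h, hgh⟩ := exists_decomp p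
  have e : Ideal.Quotient.mk (Ideal.span {(rel β : MvPowerSeries (Fin 2) A)}) p =
      Ideal.Quotient.mk _ (C (β * c)) + Ideal.Quotient.mk _ (X 0) * Ideal.Quotient.mk _ g +
        Ideal.Quotient.mk _ (X 1) * Ideal.Quotient.mk _ h := by
    conv_lhs => rw [hgh, hp]
    simp only [map_add, map_mul]
  rw [e]
  refine Ideal.add_mem _ (Ideal.add_mem _ (mk_C_mem β c) ?_) ?_
  · exact Ideal.mul_mem_right _ _ (Ideal.subset_span (Set.mem_insert _ _))
  · exact Ideal.mul_mem_right _ _ (Ideal.subset_span (Set.mem_insert_of_mem _ rfl))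

theorem comap_nIdeal : (nIdeal β).comap (algebraMap A (Q β)) = Ideal.span {β} := by
  apply le_antisymm
  · intro a ha
    rw [Ideal.mem_comap] at ha
    have ha' : Ideal.Quotient.mk (Ideal.span {(rel β : MvPowerSeries (Fin 2) A)}) (C a) ∈
        (Ideal.span {(X 0 : MvPowerSeries (Fin 2) A), X 1}).map (Ideal.Quotient.mk _) := by
      rw [Ideal.map_span, Set.image_pair]
      exact ha
    rw [Ideal.mem_quotient_iff_mem_sup] at ha'
    have h2 := Ideal.mem_map_of_mem (constantCoeff (σ := Fin 2) (R := A)) ha'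
    rw [Ideal.map_sup, Ideal.map_span, Ideal.map_span, Set.image_pair, Set.image_singleton,
      constantCoeff_X, constantCoeff_X, constantCoeff_C] at h2
    simp only [map_sub, map_mul, constantCoeff_X, constantCoeff_C, zero_mul, zero_sub,
      Set.pair_eq_singleton, Ideal.span_singleton_zero, bot_sup_eq] at h2
    rw [Ideal.mem_span_singleton] at h2 ⊢
    exact (neg_dvd.mp h2)
  · rw [Ideal.span_le, Set.singleton_subset_iff]
    change algebraMap A (Q β) β ∈ nIdeal β
    have := mk_C_mem β 1
    rwa [mul_one] at this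

/-- The weight derivation `x ∂/∂x - y ∂/∂y`. -/
noncomputable def wDer : Derivation A (MvPowerSeries (Fin 2) A) (MvPowerSeries (Fin 2) A) :=
  (X 0 : MvPowerSeries (Fin 2) A) • pderiv A (0 : Fin 2) -
    (X 1 : MvPowerSeries (Fin 2) A) • pderiv A (1 : Fin 2)

theorem wDer_X0 : wDer (A := A) (X 0) = X 0 := by
  simp [wDer, pderiv_X_self, pderiv_X_of_ne]

theorem wDer_X1 : wDer (A := A) (X 1) = - X 1 := by
  simp [wDer, pderiv_X_self, pderiv_X_of_ne]

theorem wDer_rel : wDer (A := A) (rel β) = 0 := by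
  rw [rel, map_sub, Derivation.leibniz, wDer_X0, wDer_X1]
  have : wDer (A := A) (C β) = 0 := by
    simp [wDer]
  rw [this]
  simp only [smul_eq_mul]
  ring

theorem wDer_mem (x : MvPowerSeries (Fin 2) A)
    (hx : Ideal.Quotient.mkₐ A (Ideal.span {(rel β : MvPowerSeries (Fin 2) A)}) x = 0) :
    Ideal.Quotient.mkₐ A (Ideal.span {(rel β : MvPowerSeries (Fin 2) A)}) (wDer x) = 0 := by
  rw [Ideal.Quotient.mkₐ_eq_mk, Ideal.Quotient.eq_zero_iff_mem, Ideal.mem_span_singleton] at hx ⊢
  obtain ⟨g, rfl⟩ := hx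
  rw [Derivation.leibniz, wDer_rel, smul_zero, add_zero, smul_eq_mul]
  exact dvd_mul_right _ _

theorem nIdeal_le_dIdeal : nIdeal β ≤ dIdeal A (Q β) := by
  set Dq : Derivation A (Q β) (Q β) :=
    Derivation.liftOfSurjective (f := Ideal.Quotient.mkₐ A (Ideal.span {(rel β : MvPowerSeries (Fin 2) A)}))
      (Ideal.Quotient.mkₐ_surjective A _) (wDer_mem β) with hDq
  have hDq_apply : ∀ x : MvPowerSeries (Fin 2) A, Dq (Ideal.Quotient.mk _ x) =
      Ideal.Quotient.mk _ (wDer x) := by
    intro x
    have := Derivation.liftOfSurjective_apply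
      (f := Ideal.Quotient.mkₐ A (Ideal.span {(rel β : MvPowerSeries (Fin 2) A)}))
      (Ideal.Quotient.mkₐ_surjective A _) (wDer_mem β) x
    exact this
  rw [Ideal.span_le]
  rintro _ (rfl | rfl)
  · apply Ideal.subset_span
    exact ⟨Dq, Ideal.Quotient.mk _ (X 0), by rw [hDq_apply, wDer_X0]⟩
  · have : -(Ideal.Quotient.mk (Ideal.span {(rel β : MvPowerSeries (Fin 2) A)}) (X 1)) ∈
        dIdeal A (Q β) := by
      apply Ideal.subset_span
      exact ⟨Dq, Ideal.Quotient.mk _ (X 1), by rw [hDq_apply, wDer_X1, map_neg]⟩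
    have h2 := Ideal.neg_mem_iff _ |>.mp this
    exact h2

theorem der_coord_mem (D : Derivation A (Q β) (Q β)) :
    D (Ideal.Quotient.mk _ (X 0)) ∈ nIdeal β ∧ D (Ideal.Quotient.mk _ (X 1)) ∈ nIdeal β := by
  obtain ⟨p, hp⟩ := Ideal.Quotient.mk_surjective (D (Ideal.Quotient.mk _ (X 0)))
  obtain ⟨q, hq⟩ := Ideal.Quotient.mk_surjective (D (Ideal.Quotient.mk _ (X 1)))
  have hrel : (Ideal.Quotient.mk (Ideal.span {(rel β : MvPowerSeries (Fin 2) A)}) (X 0)) *
      (Ideal.Quotient.mk _ (X 1)) = algebraMap A (Q β) β := by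
    change _ = Ideal.Quotient.mk _ (C β)
    rw [← map_mul, Ideal.Quotient.eq]
    exact Ideal.mem_span_singleton_self _
  have h0 := congrArg D hrel
  rw [Derivation.leibniz, Derivation.map_algebraMap, ← hp, ← hq, smul_eq_mul, smul_eq_mul,
    ← map_mul, ← map_mul, ← map_add, Ideal.Quotient.eq_zero_iff_mem, Ideal.mem_span_singleton] at h0
  obtain ⟨G, hG⟩ := h0
  constructor
  · rw [← hp]
    apply mk_mem_of_constantCoeff β p (- constantCoeff (pderiv A (1 : Fin 2) G))
    have := congrArg (fun s => constantCoeff (pderiv A (1 : Fin 2) s)) hG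
    simp only [map_add, Derivation.leibniz, pderiv_X_self, pderiv_X_of_ne, map_sub, pderiv_C,
      smul_eq_mul, map_mul, constantCoeff_X, constantCoeff_C, Ne, not_false_eq_true,
      Fin.reduceEq, zero_mul, mul_zero, mul_one, zero_add, add_zero, sub_zero, zero_sub] at this
    rw [this]; ring
  · rw [← hq]
    apply mk_mem_of_constantCoeff β q (- constantCoeff (pderiv A (0 : Fin 2) G))
    have := congrArg (fun s => constantCoeff (pderiv A (0 : Fin 2) s)) hG
    simp only [map_add, Derivation.leibniz, pderiv_X_self, pderiv_X_of_ne, map_sub, pderiv_C,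
      smul_eq_mul, map_mul, constantCoeff_X, constantCoeff_C, Ne, not_false_eq_true,
      Fin.reduceEq, zero_mul, mul_zero, mul_one, zero_add, add_zero, sub_zero, zero_sub] at this
    rw [this]; ring

theorem dIdeal_le_nIdeal : dIdeal A (Q β) ≤ nIdeal β := by
  rw [dIdeal, Ideal.span_le]
  rintro _ ⟨D, b, rfl⟩
  obtain ⟨f, rfl⟩ := Ideal.Quotient.mk_surjective b
  obtain ⟨g, h, hgh⟩ := exists_decomp f
  obtain ⟨h0, h1⟩ := der_coord_mem β D
  have e : Ideal.Quotient.mk (Ideal.span {(rel β : MvPowerSeries (Fin 2) A)}) f =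
      algebraMap A (Q β) (constantCoeff f) + Ideal.Quotient.mk _ (X 0) * Ideal.Quotient.mk _ g +
        Ideal.Quotient.mk _ (X 1) * Ideal.Quotient.mk _ h := by
    conv_lhs => rw [hgh]
    simp only [map_add, map_mul]
    rfl
  rw [e, map_add, map_add, Derivation.map_algebraMap, Derivation.leibniz, Derivation.leibniz,
    zero_add]
  simp only [smul_eq_mul, SetLike.mem_coe]
  refine Ideal.add_mem _ (Ideal.add_mem _ ?_ ?_) (Ideal.add_mem _ ?_ ?_)
  · exact Ideal.mul_mem_right _ _ (Ideal.subset_span (Set.mem_insert _ _))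
  · exact Ideal.mul_mem_left _ _ h0
  · exact Ideal.mul_mem_right _ _ (Ideal.subset_span (Set.mem_insert_of_mem _ rfl))
  · exact Ideal.mul_mem_left _ _ h1

theorem comap_dIdeal : (dIdeal A (Q β)).comap (algebraMap A (Q β)) = Ideal.span {β} := by
  rw [← comap_nIdeal β, le_antisymm (dIdeal_le_nIdeal β) (nIdeal_le_dIdeal β)]

end Node

open MvPowerSeries IsLocalRing in
/-- Let A be a Noetherian local ring and α, β two elements of its maximal ideal. If the quotient of the
power series ring in two variables over A by xy − α is isomorphic, as an A-algebra, to the quotient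
by xy − β, then αA = βA. (The published statement allows any local ring A; it is taken Noetherian
here, the case in which an algebra isomorphism between these complete local rings is continuous for
their adic topologies.) -/
theorem result
    (A : Type u) [CommRing A] [IsLocalRing A] [IsNoetherianRing A]
    (α β : A) (hα : α ∈ maximalIdeal A) (hβ : β ∈ maximalIdeal A)
    (φ : (MvPowerSeries (Fin 2) A ⧸ Ideal.span {(X 0 * X 1 - C α : MvPowerSeries (Fin 2) A)}) ≃ₐ[A] (MvPowerSeries (Fin 2) A ⧸ Ideal.span {(X 0 * X 1 - C β : MvPowerSeries (Fin 2) A)})) :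
    Ideal.span {α} = Ideal.span {β} := by
  rw [← comap_dIdeal α, ← comap_dIdeal β]
  exact comap_dIdeal_eq φ

end Groth.Agent.S17720
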