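import Groth.Statements.S17721
import Mathlib.Tactic
import Mathlib.RingTheory.PowerSeries.NoZeroDivisors
import Mathlib.RingTheory.DiscreteValuationRing.Basic
-- import your own Groth.Agent.* helpers here

set_option autoImplicit false
universe u
open CAlg

namespace Groth.Agent.S17721

open PowerSeries in
/-- If all coefficients of a power series are divisible by `p`, the series is `C p` times
another one. -/
theorem exists_eq_C_mul {R : Type*} [CommRing R] (p : R) (g : PowerSeries R)
    (h : ∀ n, p ∣ coeff n g) : ∃ g' : PowerSeries R, g = C p * g' := by
  choose c hc using h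
  refine ⟨PowerSeries.mk c, ?_⟩
  ext n
  rw [coeff_C_mul, coeff_mk, hc n]

open PowerSeries in
/-- A prime element `p` of a domain: if `p` divides all coefficients of a product of power series,
it divides all coefficients of one of the factors. -/
theorem dvd_coeff_or_of_mul {R : Type*} [CommRing R] [IsDomain R] {p : R} (hp : Prime p)
    (g f : PowerSeries R) (h : ∀ n, p ∣ coeff n (g * f)) :
    (∀ n, p ∣ coeff n g) ∨ (∀ n, p ∣ coeff n f) := by
  have hprime : (Ideal.span {p}).IsPrime := (Ideal.span_singleton_prime hp.ne_zero).mpr hp
  set ρ : PowerSeries R →+* PowerSeries (R ⧸ Ideal.span {p}) :=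
    PowerSeries.map (Ideal.Quotient.mk (Ideal.span {p})) with hρ
  have key : ∀ s : PowerSeries R, ρ s = 0 ↔ ∀ n, p ∣ coeff n s := by
    intro s
    constructor
    · intro hs n
      have := congrArg (coeff n) hs
      rw [hρ, coeff_map, map_zero, Ideal.Quotient.eq_zero_iff_mem,
        Ideal.mem_span_singleton] at this
      exact this
    · intro hs
      ext n
      rw [hρ, coeff_map, map_zero, Ideal.Quotient.eq_zero_iff_mem, Ideal.mem_span_singleton]
      exact hs n
  have h0 : ρ (g * f) = 0 := (key _).mpr h
  rw [map_mul] at h0
  rcases mul_eq_zero.mp h0 with h1 | h1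
  · exact Or.inl ((key g).mp h1)
  · exact Or.inr ((key f).mp h1)

open PowerSeries IsLocalRing in
/-- In a discrete valuation ring, if a power series `f` divides a non-zero constant, then its
constant coefficient divides all of its coefficients. -/
theorem coeff_zero_dvd_of_mul_eq_C (R : Type u) [CommRing R] [IsDomain R]
    [IsDiscreteValuationRing R] {p : R} (hp : Irreducible p) :
    ∀ (m : ℕ) (f g : PowerSeries R) (w : Rˣ), g * f = C ((w : R) * p ^ m) →
      ∀ i, coeff 0 f ∣ coeff i f := by
  have hpp : Prime p := hp.prime
  have hCp : (C p : PowerSeries R) ≠ 0 := by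
    intro h
    have := congrArg (coeff 0) h
    simp at this
    exact hpp.ne_zero this
  intro m
  induction m with
  | zero =>
    intro f g w h i
    have hu : IsUnit f := by
      have : IsUnit (g * f) := by
        rw [h, pow_zero, mul_one]
        exact (w.isUnit).map C
      exact isUnit_of_mul_isUnit_right this
    have : IsUnit (constantCoeff f) := hu.map constantCoeff
    rw [← coeff_zero_eq_constantCoeff_apply] at this
    exact this.dvd
  | succ m ih =>
    intro f g w h i
    by_cases hu : IsUnit (coeff 0 f)
    · exact hu.dvd
    have hall : ∀ n, p ∣ coeff n (g * f) := by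
      intro n
      rw [h, coeff_C]
      split_ifs
      · exact Dvd.dvd.mul_left (dvd_pow_self p (Nat.succ_ne_zero m)) _
      · exact dvd_zero p
    rcases dvd_coeff_or_of_mul hpp g f hall with h1 | h1
    · obtain ⟨g', rfl⟩ := exists_eq_C_mul p g h1
      have h' : g' * f = C ((w : R) * p ^ m) := by
        apply mul_left_cancel₀ hCp
        rw [← mul_assoc, h, ← map_mul]
        congr 1
        ring
      exact ih f g' w h' i
    · obtain ⟨f', rfl⟩ := exists_eq_C_mul p f h1
      have h' : g * f' = C ((w : R) * p ^ m) := by
        apply mul_left_cancel₀ hCp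
        have e : (p * ((w : R) * p ^ m)) = (w : R) * p ^ (m + 1) := by ring
        rw [← map_mul, e, ← h]
        ring
      have := ih f' g w h' i
      rw [coeff_C_mul, coeff_C_mul]
      exact mul_dvd_mul_left p this

open Polynomial IsLocalRing in
/-- Let R be a complete discrete valuation ring with fraction field K, and f a polynomial over R with
non-zero constant term a₀ such that a₀ does not divide some coefficient of f of positive degree
(equivalently, the Newton polygon of f has a side of negative slope). Let b be the power series over
K with b · f = a₀, the expansion of the geometric series in 1 − f/a₀. Then the valuations of the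
coefficients b_j are not bounded below: for every non-zero c in R there is an index j with c · b_j
outside R. -/
theorem result
    (R : Type u) [CommRing R] [IsDomain R] [IsDiscreteValuationRing R]
    [IsAdicComplete (maximalIdeal R) R]
    (K : Type u) [Field K] [Algebra R K] [IsFractionRing R K]
    (f : R[X]) (h0 : f.coeff 0 ≠ 0) (hslope : ∃ i : ℕ, 0 < i ∧ ¬ (f.coeff 0 ∣ f.coeff i))
    (b : PowerSeries K)
    (hb : b * ((f.map (algebraMap R K) : K[X]) : PowerSeries K) = PowerSeries.C (algebraMap R K (f.coeff 0))) :
    ∀ c : R, c ≠ 0 → ∃ j : ℕ, algebraMap R K c * PowerSeries.coeff j b ∉ (algebraMap R K).range := by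
  intro c hc
  by_contra hcon
  push Not at hcon
  choose gc hgc using hcon
  set g : PowerSeries R := PowerSeries.mk gc with hg
  have hinj : Function.Injective (algebraMap R K) := IsFractionRing.injective R K
  have hmapinj : Function.Injective (PowerSeries.map (algebraMap R K)) := by
    intro s t hst
    ext n
    apply hinj
    have := congrArg (PowerSeries.coeff n) hst
    simpa using this
  have hgmap : PowerSeries.map (algebraMap R K) g = PowerSeries.C (algebraMap R K c) * b := by
    ext n
    rw [PowerSeries.coeff_map, hg, PowerSeries.coeff_mk, PowerSeries.coeff_C_mul]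
    exact hgc n
  have hprod : g * (f : PowerSeries R) = PowerSeries.C (c * f.coeff 0) := by
    apply hmapinj
    rw [map_mul, hgmap, ← Polynomial.polynomial_map_coe, mul_assoc, hb, ← map_mul,
      PowerSeries.map_C, ← map_mul]
  obtain ⟨p, hp⟩ := IsDiscreteValuationRing.exists_irreducible R
  obtain ⟨m, w, hw⟩ := IsDiscreteValuationRing.eq_unit_mul_pow_irreducible (mul_ne_zero hc h0) hp
  rw [hw] at hprod
  obtain ⟨i, -, hi⟩ := hslope
  apply hi
  have := coeff_zero_dvd_of_mul_eq_C R hp m (f : PowerSeries R) g w hprod i
  simpa using this

end Groth.Agent.S17721
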