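import Groth.Statements.S17722
import Mathlib.RingTheory.Flat.FaithfullyFlat.Algebra
import Mathlib.RingTheory.Nakayama
import Mathlib.RingTheory.LocalRing.MaximalIdeal.Basic
import Mathlib.RingTheory.Jacobson.Ideal
-- import your own Groth.Agent.* helpers here

set_option autoImplicit false
universe u
open CAlg

namespace Groth.Agent.S17722

/-- Let R → R' be a faithfully flat ring map between Noetherian integrally closed local domains, and p
an ideal of R. If the ideal pR' generated by the image of p is principal, then p is principal. (The
second assertion of the published lemma, descent of unique factorization, is not part of this row.) -/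
theorem result
    (R R' : Type u) [CommRing R] [CommRing R'] [IsDomain R] [IsDomain R']
    [IsNoetherianRing R] [IsNoetherianRing R'] [IsLocalRing R] [IsLocalRing R']
    [IsIntegrallyClosed R] [IsIntegrallyClosed R']
    [Algebra R R'] [Module.FaithfullyFlat R R']
    (p : Ideal R) (hp : (p.map (algebraMap R R')).IsPrincipal) :
    p.IsPrincipal := by
  obtain ⟨x, hx⟩ := hp
  change p.map (algebraMap R R') = Ideal.span {x} at hx
  -- it suffices to find `a` with `map p = map (span {a})`
  suffices h : ∃ a : R, p.map (algebraMap R R') = (Ideal.span {a}).map (algebraMap R R') by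
    obtain ⟨a, ha⟩ := h
    refine ⟨a, ?_⟩
    change p = Ideal.span {a}
    rw [← Ideal.comap_map_eq_self_of_faithfullyFlat (B := R') p, ha,
      Ideal.comap_map_eq_self_of_faithfullyFlat]
  by_cases hx0 : x = 0
  · refine ⟨0, ?_⟩
    rw [hx, hx0]
    simp
  · -- some element of `p` maps outside `m' * (x)`
    have hex : ∃ a ∈ p, algebraMap R R' a ∉ IsLocalRing.maximalIdeal R' * Ideal.span {x} := by
      by_contra hcon
      push Not at hcon
      have hle : p.map (algebraMap R R') ≤
          IsLocalRing.maximalIdeal R' • p.map (algebraMap R R') := by
        rw [Ideal.map_le_iff_le_comap]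
        intro a ha
        rw [Ideal.mem_comap, hx]
        exact hcon a ha
      have hbot := Submodule.eq_bot_of_le_smul_of_le_jacobson_bot
        (IsLocalRing.maximalIdeal R') (p.map (algebraMap R R'))
        (IsNoetherian.noetherian _) hle
        (IsLocalRing.maximalIdeal_le_jacobson _)
      rw [hx] at hbot
      exact hx0 (Ideal.span_singleton_eq_bot.mp hbot)
    obtain ⟨a, hap, hna⟩ := hex
    have hmem : algebraMap R R' a ∈ Ideal.span {x} := by
      rw [← hx]; exact Ideal.mem_map_of_mem _ hap
    rw [Ideal.mem_span_singleton'] at hmem
    obtain ⟨c, hc⟩ := hmem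
    have hcu : IsUnit c := by
      by_contra hcn
      apply hna
      rw [← hc]
      exact Ideal.mul_mem_mul ((IsLocalRing.mem_maximalIdeal c).mpr hcn)
        (Ideal.mem_span_singleton_self x)
    refine ⟨a, ?_⟩
    rw [hx, Ideal.map_span, Set.image_singleton, ← hc, Ideal.span_singleton_mul_left_unit hcu]

end Groth.Agent.S17722
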