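import Groth.Statements.S17723
import Mathlib.Tactic
import Mathlib.RingTheory.Int.Basic
import Mathlib.RingTheory.Ideal.Maximal
import Mathlib.RingTheory.PrincipalIdealDomain
import Mathlib.Data.Nat.Factorization.Basic
-- import your own Groth.Agent.* helpers here

set_option autoImplicit false
universe u
open LabGraph

namespace Groth.Agent.S17723

/-- The set of elementary-Cartier functions. -/
def ElemSet {V E : Type u} (ends : E → V × V) (l : E → ℕ) : Set (V → ℤ) :=
  {g : V → ℤ | ∃ n : ℕ, 0 < n ∧ (∀ v, (n : ℤ) ∣ g v) ∧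
      ∀ e, ¬ (l e ∣ n) → g (ends e).1 = g (ends e).2}

theorem chain_step {V E : Type u} [Fintype V] [Fintype E] [DecidableEq V] [DecidableEq E]
    (ends : E → V × V) (l : E → ℕ) (n p : ℕ) (hn : 0 < n)
    (hlcm : ∀ e, ¬ (l e ∣ n) → (n * p) ∣ Nat.lcm (l e) n)
    (f : V → ℤ) (hf : IsCartier ends l f) (hdiv : ∀ v, (n : ℤ) ∣ f v) :
    ∃ g : V → ℤ, g ∈ ElemSet ends l ∧ IsCartier ends l (f - g) ∧
      ∀ v, ((n * p : ℕ) : ℤ) ∣ (f - g) v := by
  classical
  set adj : V → V → Prop := fun v w => ∃ e, ¬ (l e ∣ n) ∧ (ends e = (v, w) ∨ ends e = (w, v))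
    with hadj
  let s : Setoid V := Relation.EqvGen.setoid adj
  let rep : V → V := fun v => (Quotient.mk s v).out
  have hrep : ∀ v, Relation.EqvGen adj (rep v) v := fun v => Quotient.mk_out (s := s) v
  have key : ∀ v w, Relation.EqvGen adj v w → ((n * p : ℕ) : ℤ) ∣ f v - f w := by
    intro v w h
    induction h with
    | rel v w hvw =>
      obtain ⟨e, he, hends⟩ := hvw
      have h1 : (l e : ℤ) ∣ f v - f w := by
        have := hf e
        rcases hends with h | h
        · rw [h] at this; exact this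
        · rw [h] at this
          have h' : f v - f w = -(f w - f v) := by ring
          rw [h']; exact (dvd_neg).mpr this
      have h2 : (n : ℤ) ∣ f v - f w := dvd_sub (hdiv v) (hdiv w)
      rw [Int.natCast_dvd] at h1 h2 ⊢
      exact dvd_trans (hlcm e he) (Nat.lcm_dvd h1 h2)
    | refl v => simp
    | symm v w _ ih =>
      have h' : f w - f v = -(f v - f w) := by ring
      rw [h']; exact (dvd_neg).mpr ih
    | trans u v w _ _ ih1 ih2 =>
      have h' : f u - f w = (f u - f v) + (f v - f w) := by ring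
      rw [h']; exact dvd_add ih1 ih2
  have hrepeq : ∀ e, ¬ (l e ∣ n) → rep (ends e).1 = rep (ends e).2 := by
    intro e he
    have : Quotient.mk s (ends e).1 = Quotient.mk s (ends e).2 :=
      Quotient.sound (Relation.EqvGen.rel _ _ ⟨e, he, Or.inl rfl⟩)
    change (Quotient.mk s (ends e).1).out = (Quotient.mk s (ends e).2).out
    rw [this]
  have hval : ∀ v, ((n * p : ℕ) : ℤ) ∣ (f - fun v => f (rep v)) v := by
    intro v
    exact key v (rep v) (Relation.EqvGen.symm _ _ (hrep v))
  refine ⟨fun v => f (rep v), ⟨n, hn, fun v => hdiv _, fun e he => ?_⟩, ?_, hval⟩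
  · exact congrArg f (hrepeq e he)
  · intro e
    by_cases he : l e ∣ n
    · have hle : (l e : ℤ) ∣ ((n * p : ℕ) : ℤ) :=
        Int.natCast_dvd_natCast.mpr (dvd_trans he (dvd_mul_right n p))
      exact dvd_sub (dvd_trans hle (hval _)) (dvd_trans hle (hval _))
    · have hg := hrepeq e he
      simp only [Pi.sub_apply, hg]
      have := hf e
      have h' : f (ends e).1 - f (rep (ends e).2) - (f (ends e).2 - f (rep (ends e).2)) =
          f (ends e).1 - f (ends e).2 := by ring
      rw [h']; exact this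

theorem lcm_lemma (p j k c le : ℕ) (hp : p.Prime) (hc : ¬ p ∣ c) (hle0 : le ≠ 0)
    (hle : le ∣ p ^ k * c) (hnd : ¬ le ∣ c * p ^ j) :
    (c * p ^ j * p) ∣ Nat.lcm le (c * p ^ j) := by
  obtain ⟨a, m, hm, rfl⟩ := Nat.exists_eq_pow_mul_and_not_dvd hle0 p hp.ne_one
  have hcop : Nat.Coprime m (p ^ k) :=
    Nat.Coprime.pow_right k ((Nat.Coprime.symm ((Nat.Prime.coprime_iff_not_dvd hp).mpr hm)))
  have hmc : m ∣ c := by
    have : m ∣ p ^ k * c := dvd_trans (dvd_mul_left m (p ^ a)) hle
    exact hcop.dvd_of_dvd_mul_left this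
  have haj : j + 1 ≤ a := by
    by_contra hcon
    push Not at hcon
    apply hnd
    rw [mul_comm c]
    exact Nat.mul_dvd_mul (pow_dvd_pow p (by omega)) hmc
  have h1 : p ^ (j + 1) ∣ Nat.lcm (p ^ a * m) (c * p ^ j) :=
    dvd_trans (dvd_trans (pow_dvd_pow p haj) (dvd_mul_right _ m)) (Nat.dvd_lcm_left _ _)
  have h2 : c ∣ Nat.lcm (p ^ a * m) (c * p ^ j) :=
    dvd_trans (dvd_mul_right c _) (Nat.dvd_lcm_right _ _)
  have hcop2 : Nat.Coprime c (p ^ (j + 1)) :=
    Nat.Coprime.pow_right _ ((Nat.Coprime.symm ((Nat.Prime.coprime_iff_not_dvd hp).mpr hc)))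
  have := hcop2.mul_dvd_of_dvd_of_dvd h2 h1
  have e : c * p ^ j * p = c * p ^ (j + 1) := by rw [pow_succ]; ring
  rw [e]; exact this

theorem prime_part {V E : Type u} [Fintype V] [Fintype E] [DecidableEq V] [DecidableEq E]
    (ends : E → V × V) (l : E → ℕ) (hl : ∀ e, 0 < l e) (p : ℕ) (hp : p.Prime) :
    ∃ c : ℕ, ¬ p ∣ c ∧ ∀ f : V → ℤ, IsCartier ends l f →
      (c : ℤ) • f ∈ Submodule.span ℤ (ElemSet ends l) := by
  classical
  set L : ℕ := Finset.univ.lcm l with hL
  have hL0 : L ≠ 0 := by
    rw [hL, Ne, Finset.lcm_eq_zero_iff]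
    rintro ⟨e, _, he⟩
    exact (hl e).ne' he
  have hlL : ∀ e, l e ∣ L := fun e => Finset.dvd_lcm (Finset.mem_univ e)
  obtain ⟨k, c, hc, hLk⟩ := Nat.exists_eq_pow_mul_and_not_dvd hL0 p hp.ne_one
  have hc0 : 0 < c := by
    rcases Nat.eq_zero_or_pos c with h | h
    · exfalso; apply hL0; rw [hLk, h, mul_zero]
    · exact h
  refine ⟨c, hc, ?_⟩
  -- downward induction
  have P : ∀ i, i ≤ k → ∀ f : V → ℤ, IsCartier ends l f →
      (∀ v, ((c * p ^ (k - i) : ℕ) : ℤ) ∣ f v) → f ∈ Submodule.span ℤ (ElemSet ends l) := by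
    intro i
    induction i with
    | zero =>
      intro _ f _ hdiv
      apply Submodule.subset_span
      refine ⟨c * p ^ k, Nat.mul_pos hc0 (pow_pos hp.pos k), ?_, ?_⟩
      · simpa using hdiv
      · intro e he
        exfalso; apply he
        rw [mul_comm, ← hLk]; exact hlL e
    | succ i ih =>
      intro hik f hf hdiv
      set n := c * p ^ (k - (i + 1)) with hn
      have hnpos : 0 < n := Nat.mul_pos hc0 (pow_pos hp.pos _)
      have hlcm : ∀ e, ¬ (l e ∣ n) → (n * p) ∣ Nat.lcm (l e) n := by
        intro e he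
        exact lcm_lemma p (k - (i + 1)) k c (l e) hp hc (hl e).ne' (hLk ▸ hlL e) he
      obtain ⟨g, hg, hfg, hval⟩ := chain_step ends l n p hnpos hlcm f hf hdiv
      have hnp : n * p = c * p ^ (k - i) := by
        rw [hn, mul_assoc, ← pow_succ]
        congr 2
        omega
      have h1 : f - g ∈ Submodule.span ℤ (ElemSet ends l) := by
        apply ih (by omega) (f - g) hfg
        intro v
        rw [← hnp]; exact hval v
      have h2 : g ∈ Submodule.span ℤ (ElemSet ends l) := Submodule.subset_span hg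
      have : f = (f - g) + g := by ring
      rw [this]
      exact Submodule.add_mem _ h1 h2
  intro f hf
  apply P k le_rfl ((c : ℤ) • f)
  · intro e
    simp only [Pi.smul_apply, smul_eq_mul]
    rw [← mul_sub]
    exact Dvd.dvd.mul_left (hf e) _
  · intro v
    simp only [Nat.sub_self, pow_zero, mul_one, Pi.smul_apply, smul_eq_mul]
    exact dvd_mul_right _ _

/-- Let G be a finite connected multigraph with endpoint map ends and edge labels l taking positive
integer values. We say g : V → ℤ is elementary-Cartier if, for some integer n ≥ 1, all values of g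
are multiples of n and, for each edge whose label fails to divide n, g agrees at its two endpoints
(equivalently, once the edges with label dividing n are removed, g takes a single value on each
connected piece of what remains). Then every Cartier function f (for each edge, the label divides
the difference of the values of f at its endpoints) lies in the ℤ-span of the elementary-Cartier
functions. -/
theorem result
    {V E : Type u} [Fintype V] [Fintype E] [DecidableEq V] [DecidableEq E]
    (ends : E → V × V) (l : E → ℕ) (hl : ∀ e, 0 < l e) (hconn : LabGraph.Connected ends)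
    (f : V → ℤ) (hf : LabGraph.IsCartier ends l f) :
    f ∈ Submodule.span ℤ {g : V → ℤ | ∃ n : ℕ, 0 < n ∧ (∀ v, (n : ℤ) ∣ g v) ∧
      ∀ e, ¬ (l e ∣ n) → g (ends e).1 = g (ends e).2} := by
  change f ∈ Submodule.span ℤ (ElemSet ends l)
  -- the ideal of integers `c` with `c • f` in the span
  let A : Ideal ℤ :=
    { carrier := {c : ℤ | c • f ∈ Submodule.span ℤ (ElemSet ends l)}
      add_mem' := by
        intro a b ha hb
        change (a + b) • f ∈ Submodule.span ℤ (ElemSet ends l)
        rw [add_smul]; exact Submodule.add_mem _ ha hb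
      zero_mem' := by
        change (0 : ℤ) • f ∈ Submodule.span ℤ (ElemSet ends l)
        rw [zero_smul]; exact Submodule.zero_mem _
      smul_mem' := by
        intro c a ha
        change (c • a) • f ∈ Submodule.span ℤ (ElemSet ends l)
        rw [smul_eq_mul, mul_smul]; exact Submodule.smul_mem _ c ha }
  by_cases hA : A = ⊤
  · have : (1 : ℤ) ∈ A := by rw [hA]; trivial
    have h1 : (1 : ℤ) • f ∈ Submodule.span ℤ (ElemSet ends l) := this
    rwa [one_smul] at h1
  · exfalso
    obtain ⟨M, hM, hAM⟩ := Ideal.exists_le_maximal A hA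
    have hMne : M ≠ ⊥ := Ring.ne_bot_of_isMaximal_of_not_isField hM Int.not_isField
    obtain ⟨g, hg⟩ : ∃ g : ℤ, M = Ideal.span {g} :=
      ⟨_, (Submodule.IsPrincipal.span_singleton_generator M).symm⟩
    have hg0 : g ≠ 0 := by
      rintro rfl
      apply hMne
      rw [hg]; simp
    have hgprime : Prime g := by
      rw [← Ideal.span_singleton_prime hg0, ← hg]
      exact hM.isPrime
    have hq : Nat.Prime g.natAbs := Int.prime_iff_natAbs_prime.mp hgprime
    obtain ⟨c, hc, hcf⟩ := prime_part ends l hl g.natAbs hq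
    have hcA : (c : ℤ) ∈ A := hcf f hf
    have hcM : (c : ℤ) ∈ M := hAM hcA
    rw [hg, Ideal.mem_span_singleton] at hcM
    apply hc
    have := Int.natAbs_dvd_natAbs.mpr hcM
    simpa using this

end Groth.Agent.S17723
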