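import Groth.Statements.S17724
import Mathlib.Tactic
-- import your own Groth.Agent.* helpers here

set_option autoImplicit false
universe u v
open LabGraph

namespace Groth.Agent.S17724

section Aux

set_option linter.unusedSectionVars false

variable {V E : Type u} [Fintype V] [Fintype E] [DecidableEq V] [DecidableEq E]

/-- The boundary (mod 2) of a single edge. -/
def be (ends : E → V × V) (e : E) (x : V) : ZMod 2 :=
  (if (ends e).1 = x then 1 else 0) + (if (ends e).2 = x then 1 else 0)

/-- The boundary (mod 2) of an edge set: parity of the number of edge-ends. -/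
def bd (ends : E → V × V) (C : Finset E) (x : V) : ZMod 2 := ∑ e ∈ C, be ends e x

theorem bd_eq_cast (ends : E → V × V) (C : Finset E) (x : V) :
    bd ends C x = (endCount ends C x : ZMod 2) := by
  unfold bd be endCount
  push_cast
  rfl

theorem bd_eq_zero_iff (ends : E → V × V) (C : Finset E) (x : V) :
    bd ends C x = 0 ↔ Even (endCount ends C x) := by
  rw [bd_eq_cast, ZMod.natCast_eq_zero_iff_even]

theorem add_self_zmod2 (a : ZMod 2) : a + a = 0 := by
  revert a; decide

theorem neg_zmod2 (a : ZMod 2) : -a = a := by
  revert a; decide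

theorem bd_empty (ends : E → V × V) (x : V) : bd ends ∅ x = 0 := by
  simp [bd]

theorem bd_insert (ends : E → V × V) (C : Finset E) (e : E) (he : e ∉ C) (x : V) :
    bd ends (insert e C) x = be ends e x + bd ends C x := by
  unfold bd
  rw [Finset.sum_insert he]

theorem bd_erase (ends : E → V × V) (C : Finset E) (e : E) (he : e ∈ C) (x : V) :
    bd ends (C.erase e) x = be ends e x + bd ends C x := by
  have h := Finset.add_sum_erase C (fun e => be ends e x) he
  unfold bd
  rw [← h, ← add_assoc, add_self_zmod2, zero_add]

theorem bd_sdiff (ends : E → V × V) (C C' : Finset E) (h : C' ⊆ C) (x : V) :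
    bd ends (C \ C') x = bd ends C x + bd ends C' x := by
  have := Finset.sum_sdiff (f := fun e => be ends e x) h
  unfold bd
  rw [← this, add_assoc, add_self_zmod2, add_zero]

/-- Adjacency through edges of `A`. -/
def adjA (ends : E → V × V) (A : Finset E) (x y : V) : Prop :=
  ∃ e ∈ A, ends e = (x, y) ∨ ends e = (y, x)

theorem adjA_symm (ends : E → V × V) (A : Finset E) (x y : V) (h : adjA ends A x y) :
    adjA ends A y x := by
  obtain ⟨e, he, h⟩ := h
  exact ⟨e, he, h.symm⟩

/-- A chain of `A`-edges from `u` to `v` yields a set of `A`-edges with boundary `u + v`. -/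
theorem exists_of_conn (ends : E → V × V) (A : Finset E) (u : V) :
    ∀ v, Relation.ReflTransGen (adjA ends A) u v → ∃ D ⊆ A, ∀ x,
      bd ends D x = (if u = x then 1 else 0) + (if v = x then 1 else 0) := by
  intro v h
  induction h with
  | refl =>
    refine ⟨∅, Finset.empty_subset _, fun x => ?_⟩
    rw [bd_empty, add_self_zmod2]
  | @tail w v' _ hadj ih =>
    obtain ⟨D, hDA, hD⟩ := ih
    obtain ⟨e, heA, he⟩ := hadj
    have hbe : ∀ x, be ends e x = (if w = x then 1 else 0) + (if v' = x then 1 else 0) := by
      intro x
      unfold be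
      rcases he with he | he
      · rw [he]
      · rw [he]; exact add_comm _ _
    by_cases heD : e ∈ D
    · refine ⟨D.erase e, (Finset.erase_subset _ _).trans hDA, fun x => ?_⟩
      rw [bd_erase ends D e heD, hD, hbe]
      have := add_self_zmod2 (if w = x then 1 else 0)
      linear_combination this
    · refine ⟨insert e D, Finset.insert_subset heA hDA, fun x => ?_⟩
      rw [bd_insert ends D e heD, hD, hbe]
      have := add_self_zmod2 (if w = x then 1 else 0)
      linear_combination this

/-- Every edge of an even edge set lies on a circuit inside that set. -/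
theorem exists_circuit (ends : E → V × V) (S : Finset E) (hS : ∀ x, bd ends S x = 0)
    (e : E) (he : e ∈ S) : ∃ C ⊆ S, e ∈ C ∧ IsCircuit ends C := by
  classical
  set T : Finset (Finset E) := S.powerset.filter (fun C => e ∈ C ∧ ∀ x, bd ends C x = 0) with hT
  have hTne : T.Nonempty := ⟨S, by
    rw [hT, Finset.mem_filter, Finset.mem_powerset]
    exact ⟨subset_rfl, he, hS⟩⟩
  obtain ⟨C, hCT, hCmin⟩ := Finset.exists_min_image T Finset.card hTne
  rw [hT, Finset.mem_filter, Finset.mem_powerset] at hCT
  obtain ⟨hCS, heC, hCev⟩ := hCT
  refine ⟨C, hCS, heC, ⟨e, heC⟩, fun x => (bd_eq_zero_iff ends C x).mp (hCev x), ?_⟩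
  intro C' hC' hC'ne
  by_contra hcon
  push Not at hcon
  have hC'ev : ∀ x, bd ends C' x = 0 := fun x => (bd_eq_zero_iff ends C' x).mpr (hcon x)
  by_cases heC' : e ∈ C'
  · have hmem : C' ∈ T := by
      rw [hT, Finset.mem_filter, Finset.mem_powerset]
      exact ⟨hC'.subset.trans hCS, heC', hC'ev⟩
    have := hCmin C' hmem
    have hlt := Finset.card_lt_card hC'
    omega
  · have hmem : C \ C' ∈ T := by
      rw [hT, Finset.mem_filter, Finset.mem_powerset]
      refine ⟨Finset.sdiff_subset.trans hCS, Finset.mem_sdiff.mpr ⟨heC, heC'⟩, fun x => ?_⟩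
      rw [bd_sdiff ends C C' hC'.subset, hCev, hC'ev, add_zero]
    have := hCmin (C \ C') hmem
    have hlt : (C \ C').card < C.card :=
      Finset.card_lt_card (Finset.sdiff_ssubset hC'.subset hC'ne)
    omega

/-- Handshake lemma: over a vertex set `X` not separated by `D`, the boundary of `D` sums to 0. -/
theorem handshake (ends : E → V × V) (D : Finset E) (X : Finset V)
    (hX : ∀ e ∈ D, ((ends e).1 ∈ X ↔ (ends e).2 ∈ X)) : ∑ x ∈ X, bd ends D x = 0 := by
  unfold bd
  rw [Finset.sum_comm]
  apply Finset.sum_eq_zero
  intro e he
  unfold be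
  rw [Finset.sum_add_distrib, Finset.sum_ite_eq, Finset.sum_ite_eq]
  by_cases h1 : (ends e).1 ∈ X
  · rw [if_pos h1, if_pos ((hX e he).mp h1)]; decide
  · rw [if_neg h1, if_neg (fun h2 => h1 ((hX e he).mpr h2))]; decide

/-- A function constant across the edges of a set `D` with boundary `u + v` takes the same value
at `u` and `v`. -/
theorem eq_of_bd (ends : E → V × V) (D : Finset E) (u v : V)
    (hD : ∀ x, bd ends D x = (if u = x then 1 else 0) + (if v = x then 1 else 0))
    (h : V → ℤ) (hh : ∀ e ∈ D, h (ends e).1 = h (ends e).2) : h u = h v := by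
  classical
  set X : Finset V := Finset.univ.filter (fun x => h x = h u) with hX
  have hs := handshake ends D X (fun e he => by
    rw [hX, Finset.mem_filter, Finset.mem_filter, hh e he]
    simp)
  simp only [hD] at hs
  rw [Finset.sum_add_distrib, Finset.sum_ite_eq, Finset.sum_ite_eq] at hs
  have hu : u ∈ X := by rw [hX, Finset.mem_filter]; exact ⟨Finset.mem_univ _, rfl⟩
  rw [if_pos hu] at hs
  by_contra hne
  have hv : v ∉ X := by
    rw [hX, Finset.mem_filter]
    rintro ⟨-, h2⟩
    exact hne h2.symm
  rw [if_neg hv] at hs
  revert hs
  decide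

/-- Symmetry of the reachability relation. -/
theorem conn_symm (ends : E → V × V) (A : Finset E) {x y : V}
    (h : Relation.ReflTransGen (adjA ends A) x y) : Relation.ReflTransGen (adjA ends A) y x := by
  induction h with
  | refl => exact Relation.ReflTransGen.refl
  | @tail w v' _ hadj ih =>
    exact Relation.ReflTransGen.head (adjA_symm ends A _ _ hadj) ih

/-- Existence of the `ℓ`-part potential on the subgraph with edge set `A`. -/
theorem exists_potential {L : Type v} [DecidableEq L] (ends : E → V × V) (lab : E → L)
    (hcirc : ∀ C : Finset E, LabGraph.IsCircuit ends C → ∀ e ∈ C, ∀ e' ∈ C, lab e = lab e')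
    (f : V → ℤ) (ℓ : L) (A : Finset E) :
    ∃ g : V → ℤ, ∀ e ∈ A, g (ends e).1 - g (ends e).2 =
      if lab e = ℓ then f (ends e).1 - f (ends e).2 else 0 := by
  classical
  induction A using Finset.induction_on with
  | empty => exact ⟨0, fun e he => absurd he (Finset.notMem_empty e)⟩
  | insert e₀ A he₀ ih =>
    obtain ⟨g, hg⟩ := ih
    set u := (ends e₀).1 with hu
    set w := (ends e₀).2 with hw
    by_cases hconn : Relation.ReflTransGen (adjA ends A) u w
    · -- the new edge closes a circuit: `g` already works
      refine ⟨g, fun e he => ?_⟩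
      rw [Finset.mem_insert] at he
      rcases he with rfl | he
      swap
      · exact hg e he
      by_cases huw : u = w
      · rw [← hu, ← hw, huw]; simp
      obtain ⟨D, hDA, hD⟩ := exists_of_conn ends A u w hconn
      have he₀D : e ∉ D := fun h => he₀ (hDA h)
      have hbe : ∀ x, be ends e x = (if u = x then 1 else 0) + (if w = x then 1 else 0) :=
        fun x => rfl
      have hS : ∀ x, bd ends (insert e D) x = 0 := by
        intro x
        rw [bd_insert ends D e he₀D, hD, hbe]
        have h1 := add_self_zmod2 (if u = x then 1 else 0)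
        have h2 := add_self_zmod2 (if w = x then 1 else 0)
        linear_combination h1 + h2
      obtain ⟨C, hCS, heC, hCcirc⟩ := exists_circuit ends (insert e D) hS e (Finset.mem_insert_self _ _)
      have hlab : ∀ e' ∈ C, lab e' = lab e := fun e' he' => hcirc C hCcirc e' he' e heC
      have hCev : ∀ x, bd ends C x = 0 := fun x => (bd_eq_zero_iff ends C x).mpr (hCcirc.2.1 x)
      have hD' : ∀ x, bd ends (C.erase e) x = (if u = x then 1 else 0) + (if w = x then 1 else 0) := by
        intro x
        rw [bd_erase ends C e heC, hCev, add_zero, hbe]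
      have hD'A : ∀ e' ∈ C.erase e, e' ∈ A := by
        intro e' he'
        rw [Finset.mem_erase] at he'
        have := hCS he'.2
        rw [Finset.mem_insert] at this
        rcases this with h | h
        · exact absurd h he'.1
        · exact hDA h
      have key := eq_of_bd ends (C.erase e) u w hD'
        (fun x => g x - (if lab e = ℓ then f x else 0)) (by
          intro e' he'
          have h1 := hg e' (hD'A e' he')
          have h2 := hlab e' (Finset.mem_of_mem_erase he')
          rw [h2] at h1
          by_cases hl : lab e = ℓ
          · simp only [if_pos hl] at h1 ⊢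
            linarith
          · simp only [if_neg hl] at h1 ⊢
            linarith)
      beta_reduce at key
      by_cases hl : lab e = ℓ
      · simp only [if_pos hl] at key ⊢
        linarith
      · simp only [if_neg hl] at key ⊢
        linarith
    · -- the new edge joins two components: shift `g` on the component of `w`
      set target : ℤ := if lab e₀ = ℓ then f u - f w else 0 with htarget
      set c : ℤ := g u - g w - target with hc
      refine ⟨fun x => g x + (if Relation.ReflTransGen (adjA ends A) w x then c else 0),
        fun e he => ?_⟩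
      rw [Finset.mem_insert] at he
      rcases he with rfl | he
      · have h1 : ¬ Relation.ReflTransGen (adjA ends A) w u := fun h => hconn (conn_symm ends A h)
        have h2 : Relation.ReflTransGen (adjA ends A) w w := Relation.ReflTransGen.refl
        simp only
        rw [← hu, ← hw, if_neg h1, if_pos h2, hc, htarget]
        ring
      · have hiff : Relation.ReflTransGen (adjA ends A) w (ends e).1 ↔
            Relation.ReflTransGen (adjA ends A) w (ends e).2 := by
          have hadj : adjA ends A (ends e).1 (ends e).2 := ⟨e, he, Or.inl rfl⟩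
          constructor
          · intro h; exact Relation.ReflTransGen.tail h hadj
          · intro h; exact Relation.ReflTransGen.tail h (adjA_symm ends A _ _ hadj)
        simp only
        by_cases h1 : Relation.ReflTransGen (adjA ends A) w (ends e).1
        · rw [if_pos h1, if_pos (hiff.mp h1), ← hg e he]; ring
        · rw [if_neg h1, if_neg (fun h => h1 (hiff.mpr h)), ← hg e he]; ring

/-- A function with zero differences across all edges of a connected graph is constant. -/
theorem const_of_connected (ends : E → V × V) (hconn : LabGraph.Connected ends) (h : V → ℤ)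
    (hh : ∀ e, h (ends e).1 = h (ends e).2) (x y : V) : h x = h y := by
  have := hconn.2 x y
  induction this with
  | refl => rfl
  | @tail w v' _ hadj ih =>
    obtain ⟨e, he | he⟩ := hadj
    · have := hh e; rw [he] at this; exact ih.trans this
    · have := hh e; rw [he] at this; exact ih.trans this.symm

end Aux

/-- Let G be a finite connected multigraph with endpoint map ends, whose edges carry labels lab in a set
L and positive integer labels n, and suppose the L-labels are constant along every circuit. Say g :
V → ℤ is pre-achievable when for some finite set B of edges all carrying the same L-label, g takes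
equal values at the two endpoints of every edge outside B (so g is constant on the connected
components of the graph with B deleted); say g is Cartier when for every edge e the integer n(e)
divides the difference of the values of g at its endpoints. Then every Cartier function f is a
finite sum of functions each of which is Cartier and pre-achievable, and when f vanishes at a vertex
v₀ the summands can all be taken to vanish at v₀. -/
theorem result
    {V E : Type u} [Fintype V] [Fintype E] [DecidableEq V] [DecidableEq E] {L : Type v}
    (ends : E → V × V) (lab : E → L) (n : E → ℕ) (hn : ∀ e, 0 < n e)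
    (hconn : LabGraph.Connected ends)
    (hcirc : ∀ C : Finset E, LabGraph.IsCircuit ends C → ∀ e ∈ C, ∀ e' ∈ C, lab e = lab e')
    (f : V → ℤ) (hf : LabGraph.IsCartier ends n f) :
    f ∈ AddSubmonoid.closure {g : V → ℤ | LabGraph.IsCartier ends n g ∧ (∃ B : Finset E, (∀ e ∈ B, ∀ e' ∈ B, lab e = lab e') ∧ ∀ e, e ∉ B → g (ends e).1 = g (ends e).2)} ∧
    ∀ v₀ : V, f v₀ = 0 →
      f ∈ AddSubmonoid.closure {g : V → ℤ | LabGraph.IsCartier ends n g ∧ (∃ B : Finset E, (∀ e ∈ B, ∀ e' ∈ B, lab e = lab e') ∧ ∀ e, e ∉ B → g (ends e).1 = g (ends e).2) ∧ g v₀ = 0} := by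
  classical
  -- the main claim: decomposition with all summands vanishing at `v₀`
  have main : ∀ (f : V → ℤ), LabGraph.IsCartier ends n f → ∀ v₀ : V, f v₀ = 0 →
      f ∈ AddSubmonoid.closure {g : V → ℤ | LabGraph.IsCartier ends n g ∧ (∃ B : Finset E, (∀ e ∈ B, ∀ e' ∈ B, lab e = lab e') ∧ ∀ e, e ∉ B → g (ends e).1 = g (ends e).2) ∧ g v₀ = 0} := by
    intro f hf v₀ hfv₀
    choose g₀ hg₀ using fun ℓ : L => exists_potential ends lab hcirc f ℓ Finset.univ
    set g : L → V → ℤ := fun ℓ x => g₀ ℓ x - g₀ ℓ v₀ with hg
    have hgd : ∀ ℓ e, g ℓ (ends e).1 - g ℓ (ends e).2 =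
        if lab e = ℓ then f (ends e).1 - f (ends e).2 else 0 := by
      intro ℓ e
      rw [← hg₀ ℓ e (Finset.mem_univ e)]
      simp only [hg]; ring
    have hgv₀ : ∀ ℓ, g ℓ v₀ = 0 := fun ℓ => by simp only [hg]; ring
    set labels : Finset L := Finset.univ.image lab with hlabels
    have hsum : f = ∑ ℓ ∈ labels, g ℓ := by
      funext x
      have hconst := const_of_connected ends hconn (fun x => (∑ ℓ ∈ labels, g ℓ) x - f x) (by
        intro e
        have h1 : (∑ ℓ ∈ labels, g ℓ) (ends e).1 - (∑ ℓ ∈ labels, g ℓ) (ends e).2 =
            f (ends e).1 - f (ends e).2 := by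
          rw [Finset.sum_apply, Finset.sum_apply, ← Finset.sum_sub_distrib]
          simp only [hgd]
          rw [Finset.sum_ite_eq]
          rw [if_pos (by rw [hlabels]; exact Finset.mem_image_of_mem lab (Finset.mem_univ e))]
        linarith) x v₀
      beta_reduce at hconst
      have h0 : (∑ ℓ ∈ labels, g ℓ) v₀ = 0 := by
        rw [Finset.sum_apply]
        exact Finset.sum_eq_zero (fun ℓ _ => hgv₀ ℓ)
      rw [h0, hfv₀] at hconst
      linarith
    rw [hsum]
    apply AddSubmonoid.sum_mem
    intro ℓ _
    apply AddSubmonoid.subset_closure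
    refine ⟨?_, ⟨Finset.univ.filter (fun e => lab e = ℓ), ?_, ?_⟩, hgv₀ ℓ⟩
    · intro e
      rw [hgd]
      split_ifs
      · exact hf e
      · exact dvd_zero _
    · intro e he e' he'
      rw [Finset.mem_filter] at he he'
      rw [he.2, he'.2]
    · intro e he
      have := hgd ℓ e
      rw [Finset.mem_filter] at he
      rw [if_neg (fun h => he ⟨Finset.mem_univ e, h⟩)] at this
      linarith
  refine ⟨?_, fun v₀ hv₀ => main f hf v₀ hv₀⟩
  obtain ⟨v₀⟩ := hconn.1
  -- split off the constant `f v₀`
  have hdec : f = (fun x => f x - f v₀) + (fun _ => f v₀) := by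
    funext x; simp
  rw [hdec]
  apply AddSubmonoid.add_mem
  · have h1 : LabGraph.IsCartier ends n (fun x => f x - f v₀) := by
      intro e
      have := hf e
      simpa using this
    have h2 := main (fun x => f x - f v₀) h1 v₀ (by simp)
    refine AddSubmonoid.closure_mono ?_ h2
    rintro g ⟨hg1, hg2, -⟩
    exact ⟨hg1, hg2⟩
  · apply AddSubmonoid.subset_closure
    refine ⟨?_, ∅, ?_, ?_⟩
    · intro e; simp
    · intro e he; exact absurd he (Finset.notMem_empty e)
    · intro e _; rfl

end Groth.Agent.S17724
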