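import Groth.Statements.S17725
import Mathlib.AlgebraicGeometry.Properties
import Mathlib.Topology.NoetherianSpace
import Mathlib.Topology.Sober
-- import your own Groth.Agent.* helpers here

set_option autoImplicit false
universe u
open SpecSp

namespace Groth.Agent.S17725

theorem eqvGen_specializes_top (X : Type u) [TopologicalSpace X] [QuasiSober X]
    [TopologicalSpace.NoetherianSpace X] [ConnectedSpace X] (p q : X) :
    Relation.EqvGen (fun x y : X => x ⤳ y) p q := by
  set r : X → X → Prop := Relation.EqvGen (fun x y : X => x ⤳ y) with hr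
  -- every irreducible component meeting the class of `p` lies in it
  have hcomp : ∀ Z ∈ irreducibleComponents X, ∀ y ∈ Z, ∀ z ∈ Z, r y z := by
    intro Z hZ y hy z hz
    obtain ⟨η, hη⟩ := QuasiSober.sober (hZ.1) (isClosed_of_mem_irreducibleComponents Z hZ)
    have h1 : r η y := Relation.EqvGen.rel _ _ (hη.specializes hy)
    have h2 : r η z := Relation.EqvGen.rel _ _ (hη.specializes hz)
    exact Relation.EqvGen.trans _ _ _ (Relation.EqvGen.symm _ _ h1) h2
  have hfin : (irreducibleComponents X).Finite :=
    TopologicalSpace.NoetherianSpace.finite_irreducibleComponents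
  set C : Set X := {y | r p y} with hC
  have hC1 : C = ⋃ Z ∈ {Z ∈ irreducibleComponents X | (Z ∩ C).Nonempty}, Z := by
    ext y
    simp only [Set.mem_iUnion, Set.mem_ofPred_eq, exists_prop]
    constructor
    · intro hy
      exact ⟨irreducibleComponent y, ⟨irreducibleComponent_mem_irreducibleComponents y,
        ⟨y, mem_irreducibleComponent, hy⟩⟩, mem_irreducibleComponent⟩
    · rintro ⟨Z, ⟨hZ, ⟨z, hzZ, hzC⟩⟩, hyZ⟩
      exact Relation.EqvGen.trans _ _ _ hzC (hcomp Z hZ z hzZ y hyZ)
  have hC2 : Cᶜ = ⋃ Z ∈ {Z ∈ irreducibleComponents X | ¬ (Z ∩ C).Nonempty}, Z := by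
    ext y
    simp only [Set.mem_iUnion, Set.mem_ofPred_eq, exists_prop, Set.mem_compl_iff]
    constructor
    · intro hy
      refine ⟨irreducibleComponent y, ⟨irreducibleComponent_mem_irreducibleComponents y, ?_⟩,
        mem_irreducibleComponent⟩
      rintro ⟨z, hzZ, hzC⟩
      apply hy
      exact Relation.EqvGen.trans _ _ _ hzC
        (hcomp _ (irreducibleComponent_mem_irreducibleComponents y) z hzZ y mem_irreducibleComponent)
    · rintro ⟨Z, ⟨hZ, hne⟩, hyZ⟩ hy
      exact hne ⟨y, hyZ, hy⟩
  have hclosed : IsClosed C := by
    rw [hC1]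
    apply Set.Finite.isClosed_biUnion (hfin.subset (fun Z hZ => hZ.1))
    intro Z hZ
    exact isClosed_of_mem_irreducibleComponents Z hZ.1
  have hopen : IsOpen C := by
    rw [← isClosed_compl_iff, hC2]
    apply Set.Finite.isClosed_biUnion (hfin.subset (fun Z hZ => hZ.1))
    intro Z hZ
    exact isClosed_of_mem_irreducibleComponents Z hZ.1
  have huniv : C = Set.univ :=
    IsClopen.eq_univ ⟨hclosed, hopen⟩ ⟨p, Relation.EqvGen.refl p⟩
  have : q ∈ C := by rw [huniv]; trivial
  exact this

open AlgebraicGeometry in
/-- In a connected Noetherian scheme any two points p, q are linked by a finite chain of points p = x₁,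
…, xₙ = q such that for each i one of x_i, x_{i+1} is a specialization of the other; equivalently, p
and q are related by the equivalence relation generated by the specialization relation. -/
theorem result
    (X : Scheme.{u}) [IsNoetherian X] [ConnectedSpace X] (p q : X) :
    Relation.EqvGen (fun x y : X => x ⤳ y) p q :=
  eqvGen_specializes_top X p q

end Groth.Agent.S17725
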