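import Groth.Statements.S17726
import Mathlib.RingTheory.Ideal.Operations
import Mathlib.Algebra.Ring.NonZeroDivisors
import Mathlib.Tactic.Ring
-- import your own Groth.Agent.* helpers here

set_option autoImplicit false
universe u
open CAlg

namespace Groth.Agent.S17726

theorem isUnit_of_span_pow_eq_of_lt {A : Type u} [CommRing A] (x : A)
    (hx : x ∈ nonZeroDivisors A) (a b : ℕ) (hab : a < b)
    (h : Ideal.span {x ^ a} = Ideal.span {x ^ b}) : IsUnit x := by
  have h1 : x ^ a ∈ Ideal.span {x ^ b} := by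
    rw [← h]; exact Ideal.mem_span_singleton_self _
  rw [Ideal.mem_span_singleton'] at h1
  obtain ⟨c, hc⟩ := h1
  obtain ⟨d, rfl⟩ := Nat.exists_eq_add_of_lt hab
  have hxa : x ^ a ∈ nonZeroDivisors A := pow_mem hx a
  have h2 : (c * x ^ (d + 1)) * x ^ a = 1 * x ^ a := by
    rw [one_mul]; nth_rewrite 2 [← hc]; ring
  have h3 : c * x ^ (d + 1) = 1 := (mul_cancel_right_mem_nonZeroDivisors hxa).mp h2
  have h4 : IsUnit (x ^ (d + 1)) := IsUnit.of_mul_eq_one c (by rw [mul_comm]; exact h3)
  exact (isUnit_pow_iff (Nat.succ_ne_zero d)).mp h4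

theorem isUnit_of_span_pow_eq_of_ne {A : Type u} [CommRing A] (x : A)
    (hx : x ∈ nonZeroDivisors A) (a b : ℕ) (hab : a ≠ b)
    (h : Ideal.span {x ^ a} = Ideal.span {x ^ b}) : IsUnit x := by
  rcases lt_or_gt_of_ne hab with h' | h'
  · exact isUnit_of_span_pow_eq_of_lt x hx a b h' h
  · exact isUnit_of_span_pow_eq_of_lt x hx b a h' h.symm

/-- Let f and g be non-zero-divisors of a commutative ring A, not both units; think of them as local
equations, at a point of the union of the supports, of two effective Cartier divisors E and D. If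
the ideals generated by g^{m₁} and f^{n₁} coincide, and likewise for g^{m₂} and f^{n₂}, then m₁ n₂ =
m₂ n₁. So all pairs (m, n) with m D = n E locally at the point are proportional, and the saturation
of the monoid they form is generated by a single element. -/
theorem result
    (A : Type u) [CommRing A] (f g : A)
    (hf : f ∈ nonZeroDivisors A) (hg : g ∈ nonZeroDivisors A) (hfg : ¬ (IsUnit f ∧ IsUnit g))
    (m₁ n₁ m₂ n₂ : ℕ)
    (h₁ : Ideal.span {g ^ m₁} = Ideal.span {f ^ n₁})
    (h₂ : Ideal.span {g ^ m₂} = Ideal.span {f ^ n₂}) :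
    m₁ * n₂ = m₂ * n₁ := by
  by_contra hne
  have e1 : Ideal.span {g ^ (m₁ * n₂)} = Ideal.span {f ^ (n₁ * n₂)} := by
    rw [pow_mul, pow_mul, ← Ideal.span_singleton_pow _ n₂, ← Ideal.span_singleton_pow _ n₂, h₁]
  have e2 : Ideal.span {g ^ (m₂ * n₁)} = Ideal.span {f ^ (n₁ * n₂)} := by
    rw [mul_comm n₁ n₂, pow_mul, pow_mul, ← Ideal.span_singleton_pow _ n₁, ← Ideal.span_singleton_pow _ n₁, h₂]
  have hgu : IsUnit g := isUnit_of_span_pow_eq_of_ne g hg _ _ hne (e1.trans e2.symm)
  have hfu : ¬ IsUnit f := fun h => hfg ⟨h, hgu⟩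
  have hn₁ : n₁ = 0 := by
    by_contra hn
    apply hfu
    have : IsUnit (f ^ n₁) := by
      rw [← Ideal.span_singleton_eq_top, ← h₁, Ideal.span_singleton_eq_top]
      exact hgu.pow _
    exact (isUnit_pow_iff hn).mp this
  have hn₂ : n₂ = 0 := by
    by_contra hn
    apply hfu
    have : IsUnit (f ^ n₂) := by
      rw [← Ideal.span_singleton_eq_top, ← h₂, Ideal.span_singleton_eq_top]
      exact hgu.pow _
    exact (isUnit_pow_iff hn).mp this
  apply hne
  rw [hn₁, hn₂]; simp

end Groth.Agent.S17726
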