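import Groth.Statements.S17727
import Mathlib.AlgebraicGeometry.Restrict
import Mathlib.AlgebraicGeometry.AffineScheme
import Mathlib.Tactic
-- import your own Groth.Agent.* helpers here

set_option autoImplicit false
universe u
open Neron

namespace Groth.Agent.S17727

open CategoryTheory AlgebraicGeometry

theorem inj_of_dense {X : Scheme.{u}} (D : X.Opens) (hD : CInt.IsSchematicallyDense D)
    (A B : X.Opens) (i : A ⟶ B) (hA : A = B ⊓ D) :
    Function.Injective (X.presheaf.map i.op) := by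
  subst hA
  have : i = homOfLE inf_le_left := Subsingleton.elim _ _
  rw [this]
  exact hD B

theorem eq_of_dense {X Y : Scheme.{u}} [IsAffine Y] (D W : X.Opens)
    (hD : CInt.IsSchematicallyDense D) (g₁ g₂ : W.toScheme ⟶ Y)
    (h : X.homOfLE (inf_le_left : W ⊓ D ≤ W) ≫ g₁ = X.homOfLE inf_le_left ≫ g₂) : g₁ = g₂ := by
  apply ext_of_isAffine
  have h' := congrArg Scheme.Hom.appTop h
  rw [Scheme.Hom.comp_appTop, Scheme.Hom.comp_appTop] at h'
  have hinj : Function.Injective ((X.homOfLE (inf_le_left : W ⊓ D ≤ W)).appTop) := by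
    rw [Scheme.homOfLE_appTop]
    apply inj_of_dense D hD
    rw [Scheme.ι_image_homOfLE_eq_ι_image_inf, Scheme.Opens.ι_image_top]
    ext x
    simp only [TopologicalSpace.Opens.coe_inf, Set.mem_inter_iff, SetLike.mem_coe]
    tauto
  ext x
  apply hinj
  have := congrArg (fun φ => φ.hom x) h'
  simpa using this

/-- On the preimage of `U`, where `f` is an isomorphism, `σ ∘ f` is the identity. -/
theorem ι_comp_f_comp_σ {E S : Scheme.{u}} (f : E ⟶ S) (U : S.Opens)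
    (hiso : IsIso (morphismRestrict f U)) (σ : S ⟶ E) (hσ : σ ≫ f = 𝟙 S) :
    (f ⁻¹ᵁ U).ι ≫ f ≫ σ = (f ⁻¹ᵁ U).ι := by
  have hrange : Set.range (U.ι ≫ σ) ⊆ Set.range (f ⁻¹ᵁ U).ι := by
    rintro _ ⟨x, rfl⟩
    rw [Scheme.Opens.range_ι]
    change f ((U.ι ≫ σ) x) ∈ U
    have : f ((U.ι ≫ σ) x) = (U.ι ≫ σ ≫ f) x := by simp
    rw [this, hσ]
    simpa using x.2
  set τ := IsOpenImmersion.lift (f ⁻¹ᵁ U).ι (U.ι ≫ σ) hrange with hτ
  have hτfac : τ ≫ (f ⁻¹ᵁ U).ι = U.ι ≫ σ := IsOpenImmersion.lift_fac _ _ _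
  have h1 : τ ≫ (f ∣_ U) = 𝟙 _ := by
    rw [← cancel_mono U.ι, Category.assoc, morphismRestrict_ι, ← Category.assoc, hτfac,
      Category.assoc, hσ]
    simp
  have h2 : (f ∣_ U) ≫ τ = 𝟙 _ := by
    have : τ = inv (f ∣_ U) := by
      rw [← cancel_mono (f ∣_ U), h1]; simp
    rw [this]; simp
  calc (f ⁻¹ᵁ U).ι ≫ f ≫ σ = ((f ⁻¹ᵁ U).ι ≫ f) ≫ σ := by rw [Category.assoc]
    _ = ((f ∣_ U) ≫ U.ι) ≫ σ := by rw [morphismRestrict_ι]
    _ = (f ∣_ U) ≫ (τ ≫ (f ⁻¹ᵁ U).ι) := by rw [hτfac, Category.assoc]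
    _ = (f ⁻¹ᵁ U).ι := by rw [← Category.assoc, h2, Category.id_comp]

open CategoryTheory AlgebraicGeometry in
/-- Let f : E → S be a morphism of schemes and U ⊆ S a schematically dense open subscheme such that f
restricts to an isomorphism over U and the preimage of U is schematically dense in E. Then for every
section σ of f and every point s of S there is an open neighbourhood W of σ(s) in E on which f
restricts to an open immersion. (The published statements conclude that the section lands in the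
étale locus of f, in one published form for an algebraic space E, in another for f locally of finite
type over a Noetherian base; the affine-local argument gives the sharper conclusion recorded here,
for schemes.) -/
theorem result
    {E S : Scheme.{u}} (f : E ⟶ S) (U : S.Opens) (hU : CInt.IsSchematicallyDense U)
    (hiso : IsIso (morphismRestrict f U)) (hdense : CInt.IsSchematicallyDense (f ⁻¹ᵁ U))
    (σ : S ⟶ E) (hσ : σ ≫ f = 𝟙 S) (s : S) :
    ∃ W : E.Opens, σ.base s ∈ W ∧ IsOpenImmersion (W.ι ≫ f) := by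
  -- an affine open neighbourhood of `σ s`
  obtain ⟨W₀, hW₀aff, hsW₀, -⟩ :=
    exists_isAffineOpen_mem_and_subset (X := E) (U := ⊤) (x := σ s) (by simp)
  set V : S.Opens := σ ⁻¹ᵁ W₀ with hV
  set W : E.Opens := W₀ ⊓ f ⁻¹ᵁ V with hW
  have hfσ : ∀ x : S, f (σ x) = x := by
    intro x
    have : f (σ x) = (σ ≫ f) x := by simp
    rw [this, hσ]; simp
  have hsV : s ∈ V := hsW₀
  have hsW : σ s ∈ W := ⟨hsW₀, by change f (σ s) ∈ V; rw [hfσ]; exact hsV⟩
  refine ⟨W, hsW, ?_⟩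
  -- the restricted morphisms
  have hr1 : Set.range (W.ι ≫ f) ⊆ Set.range V.ι := by
    rintro _ ⟨x, rfl⟩
    rw [Scheme.Opens.range_ι]
    have hx : (W.ι x) ∈ W := by simpa using x.2
    have : (W.ι ≫ f) x = f (W.ι x) := by simp
    rw [this]
    exact hx.2
  have hr2 : Set.range (V.ι ≫ σ) ⊆ Set.range W.ι := by
    rintro _ ⟨x, rfl⟩
    rw [Scheme.Opens.range_ι]
    have hx : (V.ι x) ∈ V := by simpa using x.2
    have : (V.ι ≫ σ) x = σ (V.ι x) := by simp
    rw [this]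
    refine ⟨hx, ?_⟩
    change f (σ (V.ι x)) ∈ V
    rw [hfσ]; exact hx
  set f' := IsOpenImmersion.lift V.ι (W.ι ≫ f) hr1 with hf'
  set σ' := IsOpenImmersion.lift W.ι (V.ι ≫ σ) hr2 with hσ'
  have hf'fac : f' ≫ V.ι = W.ι ≫ f := IsOpenImmersion.lift_fac _ _ _
  have hσ'fac : σ' ≫ W.ι = V.ι ≫ σ := IsOpenImmersion.lift_fac _ _ _
  have h1 : σ' ≫ f' = 𝟙 _ := by
    rw [← cancel_mono V.ι, Category.assoc, hf'fac, ← Category.assoc, hσ'fac, Category.assoc, hσ]
    simp
  -- the key: `W.ι ≫ f ≫ σ = W.ι`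
  have hkey : W.ι ≫ f ≫ σ = W.ι := by
    have hWW₀ : W ≤ W₀ := inf_le_left
    have hW₀ : IsAffine W₀.toScheme := hW₀aff
    -- both sides factor through `W₀`
    have hr3 : Set.range (W.ι ≫ f ≫ σ) ⊆ Set.range W₀.ι := by
      rintro _ ⟨x, rfl⟩
      rw [Scheme.Opens.range_ι]
      have hx : (W.ι x) ∈ W := by simpa using x.2
      have : (W.ι ≫ f ≫ σ) x = σ (f (W.ι x)) := by simp
      rw [this]
      exact hx.2
    set g₂ := IsOpenImmersion.lift W₀.ι (W.ι ≫ f ≫ σ) hr3 with hg₂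
    have hg₂fac : g₂ ≫ W₀.ι = W.ι ≫ f ≫ σ := IsOpenImmersion.lift_fac _ _ _
    have hg : E.homOfLE hWW₀ = g₂ := by
      apply eq_of_dense (f ⁻¹ᵁ U) W hdense
      rw [← cancel_mono W₀.ι, Category.assoc, Category.assoc, hg₂fac, Scheme.homOfLE_ι,
        Scheme.homOfLE_ι]
      have hle : W ⊓ f ⁻¹ᵁ U ≤ f ⁻¹ᵁ U := inf_le_right
      have e1 : E.homOfLE (inf_le_left : W ⊓ f ⁻¹ᵁ U ≤ W) ≫ W.ι = E.homOfLE hle ≫ (f ⁻¹ᵁ U).ι := by
        rw [Scheme.homOfLE_ι, Scheme.homOfLE_ι]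
      rw [← Category.assoc, e1, Category.assoc, ι_comp_f_comp_σ f U hiso σ hσ, Scheme.homOfLE_ι]
    rw [← hg₂fac, ← hg, Scheme.homOfLE_ι]
  have h2 : f' ≫ σ' = 𝟙 _ := by
    rw [← cancel_mono W.ι, Category.assoc, hσ'fac, ← Category.assoc, hf'fac, Category.assoc, hkey]
    simp
  have : IsIso f' := ⟨σ', h2, h1⟩
  rw [← hf'fac]
  infer_instance

end Groth.Agent.S17727
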