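import Groth.Statements.S17728
import Mathlib
import Groth.Agent.Lib.Helper70.BirSecB

set_option autoImplicit false
universe u
open Neron

namespace Groth.Agent.S17728

open CategoryTheory AlgebraicGeometry in
/-- Let S be a Noetherian scheme, U ⊆ S a dense open subscheme and f : X → S a morphism locally of
finite type which restricts to an isomorphism over U and for which the preimage of U is
schematically dense in X. For a point x of X the following are equivalent: f is étale on some open
neighbourhood of x; f is flat at x, that is, the local ring of X at x is flat over the local ring of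
S at f(x); some open neighbourhood V of f(x) carries a section σ of f over V passing through x. -/
theorem result
    {X S : Scheme.{u}} [IsNoetherian S] (f : X ⟶ S) [LocallyOfFiniteType f]
    (U : S.Opens) (hU : Dense (U : Set S))
    (hiso : IsIso (morphismRestrict f U)) (hdense : CInt.IsSchematicallyDense (f ⁻¹ᵁ U))
    (x : X) :
    List.TFAE [
      ∃ W : X.Opens, x ∈ W ∧ Etale (W.ι ≫ f),
      (f.stalkMap x).hom.Flat,
      ∃ (V : S.Opens) (hV : f.base x ∈ V) (σ : (V : Scheme.{u}) ⟶ X),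
        σ ≫ f = V.ι ∧ σ.base ⟨f.base x, hV⟩ = x] := by
  have h12 : (∃ W : X.Opens, x ∈ W ∧ Etale (W.ι ≫ f)) → (f.stalkMap x).hom.Flat := by
    rintro ⟨W, hxW, hW⟩
    exact Groth.Agent.Lib.Helper70.BirSecB.flat_stalkMap_of_nhd f W ⟨x, hxW⟩
  have h4 : ∀ (W : X.Opens), x ∈ W → IsOpenImmersion (W.ι ≫ f) →
      ∃ (V : S.Opens) (hV : f.base x ∈ V) (σ : (V : Scheme.{u}) ⟶ X),
        σ ≫ f = V.ι ∧ σ.base ⟨f.base x, hV⟩ = x := by
    intro W hxW hW
    have hV : f.base x ∈ (W.ι ≫ f).opensRange := ⟨⟨x, hxW⟩, rfl⟩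
    refine ⟨(W.ι ≫ f).opensRange, hV, (W.ι ≫ f).isoOpensRange.inv ≫ W.ι, ?_, ?_⟩
    · rw [Category.assoc]
      exact Scheme.Hom.isoOpensRange_inv_comp _
    · have e : (⟨f.base x, hV⟩ : (W.ι ≫ f).opensRange) =
          (W.ι ≫ f).isoOpensRange.hom ⟨x, hxW⟩ := by
        apply (W.ι ≫ f).opensRange.ι.injective
        have h1 := congrArg (fun q : (W : Scheme.{u}) ⟶ S => q ⟨x, hxW⟩)
          (Scheme.Hom.isoOpensRange_hom_ι (W.ι ≫ f))
        exact h1.symm
      rw [e]
      have h2 := congrArg (fun q : (W : Scheme.{u}) ⟶ (W : Scheme.{u}) => W.ι (q ⟨x, hxW⟩))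
        (W.ι ≫ f).isoOpensRange.hom_inv_id
      exact h2
  tfae_have 1 → 2 := h12
  tfae_have 2 → 3 := fun h => by
    obtain ⟨W, hxW, hW⟩ :=
      Groth.Agent.Lib.Helper70.BirSecB.exists_isOpenImmersion_of_flat f U hiso hdense x h
    exact h4 W hxW hW
  tfae_have 3 → 1 := fun ⟨V, hV, σ, hσ, hσx⟩ => by
    obtain ⟨W, hxW, hW⟩ :=
      Groth.Agent.Lib.Helper70.BirSecB.exists_isOpenImmersion_of_section f U hiso hdense x V hV σ
        hσ hσx
    exact ⟨W, hxW, inferInstance⟩
  tfae_finish

end Groth.Agent.S17728
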