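import Groth.Statements.S17730
import Groth.Agent.Lib.Helper10.BranchSmoothPrime

set_option autoImplicit false
universe u
open Hensel

namespace Groth.Agent.S17730

open IsLocalRing in
/-- Let R be a Noetherian local ring which is strictly henselian (henselian with separably closed
residue field), Δ a prime element of R, R' a smooth R-algebra, q a prime ideal of R' containing the
image of the maximal ideal of R, and T a strict henselization of the localization R'_q. Then the
image of Δ in T is a prime element of T. (This is the published statement, that a prime element of
the étale local ring of the base at a geometric point remains prime in the étale local ring of a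
smooth scheme over it at a geometric point above, written for the base the spectrum of R; the
published hypothesis that the base be smooth-factorial, meaning that all its smooth schemes are
locally factorial, is not used by the argument and is omitted; R is taken Noetherian, which the
published statement does not state and the argument requires.) -/
theorem result
    (R R' T : Type u) [CommRing R] [IsNoetherianRing R] [HenselianLocalRing R]
    [IsSepClosed (ResidueField R)]
    [CommRing R'] [Algebra R R'] [Algebra.Smooth R R']
    (q : Ideal R') [q.IsPrime] (hq : (maximalIdeal R).map (algebraMap R R') ≤ q)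
    [CommRing T] [IsLocalRing T] [Algebra (Localization.AtPrime q) T]
    [IsLocalHom (algebraMap (Localization.AtPrime q) T)]
    [Hensel.IsStrictHenselization (Localization.AtPrime q) T]
    (Δ : R) (hΔ : Prime Δ) :
    Prime (algebraMap (Localization.AtPrime q) T
      (algebraMap R' (Localization.AtPrime q) (algebraMap R R' Δ))) := by
  haveI hqm : q.LiesOver (maximalIdeal R) := by
    constructor
    rw [Ideal.under_def]
    exact (maximalIdeal.isMaximal R).eq_of_le (Ideal.comap_ne_top _ (Ideal.IsPrime.ne_top'))
      (Ideal.map_le_iff_le_comap.mp hq)
  haveI h𝔭 : (Ideal.span {Δ}).IsPrime := (Ideal.span_singleton_prime hΔ.ne_zero).mpr hΔ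
  have hP := Groth.Agent.Lib.Helper10.BranchSmooth.isPrime_map_strictHenselization_of_smooth q
    (Bsh := T) (Ideal.span {Δ})
  rw [Ideal.map_span, Ideal.map_span, Set.image_singleton, Set.image_singleton,
    IsScalarTower.algebraMap_apply R R' (Localization.AtPrime q)] at hP
  refine (Ideal.span_singleton_prime ?_).mp hP
  -- injectivity of `R → T`
  haveI : IsLocalHom (algebraMap R (Localization.AtPrime q)) :=
    Groth.Agent.Lib.Helper10.BranchSmooth.isLocalHom_algebraMap_atPrime q
  haveI : Module.Flat R (Localization.AtPrime q) := Module.Flat.trans R R' _
  haveI : Module.FaithfullyFlat R (Localization.AtPrime q) :=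
    Module.FaithfullyFlat.of_flat_of_isLocalHom
  haveI : Module.FaithfullyFlat (Localization.AtPrime q) T := Groth.Agent.S0539.result _ _
  have h1 : Function.Injective (algebraMap R (Localization.AtPrime q)) :=
    FaithfulSMul.algebraMap_injective _ _
  have h2 : Function.Injective (algebraMap (Localization.AtPrime q) T) :=
    FaithfulSMul.algebraMap_injective _ _
  intro h0
  rw [← IsScalarTower.algebraMap_apply R R' (Localization.AtPrime q)] at h0
  exact hΔ.ne_zero (h1 (h2 (by rw [h0, map_zero, map_zero])))

end Groth.Agent.S17730
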