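import Groth.Statements.S17731
import Mathlib.AlgebraicGeometry.PullbackCarrier
import Mathlib.Tactic
-- import your own Groth.Agent.* helpers here

set_option autoImplicit false
universe u
open Neron

namespace Groth.Agent.S17731

open CategoryTheory AlgebraicGeometry Limits

/-- Equality of base changes of over-morphisms is equality after composing with the first
projection. -/
theorem pullback_map_eq_iff {C : Type*} [Category C] [HasPullbacks C] {X Y : C} (f : X ⟶ Y)
    {A B : Over Y} (a b : A ⟶ B) :
    (Over.pullback f).map a = (Over.pullback f).map b ↔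
      pullback.fst A.hom f ≫ a.left = pullback.fst A.hom f ≫ b.left := by
  have e1 : ∀ c : A ⟶ B, ((Over.pullback f).map c).left ≫ pullback.fst B.hom f =
      pullback.fst A.hom f ≫ c.left := fun c => pullback.lift_fst _ _ _
  have e2 : ∀ c : A ⟶ B, ((Over.pullback f).map c).left ≫ pullback.snd B.hom f =
      pullback.snd A.hom f := fun c => pullback.lift_snd _ _ _
  constructor
  · intro h
    rw [← e1, ← e1, h]
  · intro h
    apply Over.OverMorphism.ext
    apply pullback.hom_ext
    · exact (e1 a).trans (h.trans (e1 b).symm)
    · exact (e2 a).trans (e2 b).symm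

open CategoryTheory AlgebraicGeometry in
/-- Let S be a scheme, U ⊆ S a schematically dense open subscheme and N → S a smooth S-scheme having
uniqueness in the Néron mapping property with respect to U: for every smooth S-scheme Y, restriction
to U is injective on S-morphisms Y → N. Then for every smooth morphism g : S' → S the base change N
×_S S' → S' has uniqueness in the Néron mapping property with respect to g⁻¹(U): for every smooth
S'-scheme Y', restriction to g⁻¹(U) is injective on S'-morphisms Y' → N ×_S S'. (The published
statement is for models which are algebraic spaces, tested against smooth algebraic spaces; this row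
states the case of a scheme model tested against smooth schemes. The companion assertion that Néron
models are preserved by smooth base change is not restated here.) -/
theorem result
    {S S' : Scheme.{u}} (g : S' ⟶ S) [Smooth g]
    (U : S.Opens) (hU : CInt.IsSchematicallyDense U) (N : Over S) [Smooth N.hom]
    (hN : ∀ Y : Over S, Smooth Y.hom →
      Function.Injective (fun f : Y ⟶ N => (Over.pullback U.ι).map f))
    (Y' : Over S') [Smooth Y'.hom] :
    Function.Injective (fun f : Y' ⟶ (Over.pullback g).obj N => (Over.pullback (g ⁻¹ᵁ U).ι).map f) := by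
  intro a b hab
  simp only at hab
  rw [pullback_map_eq_iff] at hab
  -- `Y'` as an `S`-scheme
  set Y : Over S := Over.mk (Y'.hom ≫ g) with hY
  have hYs : Smooth Y.hom := by
    change Smooth (Y'.hom ≫ g)
    infer_instance
  have hwa : a.left ≫ pullback.snd N.hom g = Y'.hom := Over.w a
  have hwb : b.left ≫ pullback.snd N.hom g = Y'.hom := Over.w b
  set a' : Y ⟶ N := Over.homMk (a.left ≫ pullback.fst N.hom g) (by
    change (a.left ≫ pullback.fst N.hom g) ≫ N.hom = Y'.hom ≫ g
    rw [Category.assoc, pullback.condition, ← Category.assoc, hwa]) with ha'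
  set b' : Y ⟶ N := Over.homMk (b.left ≫ pullback.fst N.hom g) (by
    change (b.left ≫ pullback.fst N.hom g) ≫ N.hom = Y'.hom ≫ g
    rw [Category.assoc, pullback.condition, ← Category.assoc, hwb]) with hb'
  have hrange : Set.range (pullback.fst Y.hom U.ι) ⊆
      Set.range (pullback.fst Y'.hom (g ⁻¹ᵁ U).ι) := by
    rw [Scheme.Pullback.range_fst, Scheme.Pullback.range_fst, Scheme.Opens.range_ι,
      Scheme.Opens.range_ι]
    intro y hy
    change (Y'.hom ≫ g) y ∈ U at hy
    change g (Y'.hom y) ∈ U
    simpa using hy
  set l := IsOpenImmersion.lift (pullback.fst Y'.hom (g ⁻¹ᵁ U).ι) (pullback.fst Y.hom U.ι) hrange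
    with hl
  have hlfac : l ≫ pullback.fst Y'.hom (g ⁻¹ᵁ U).ι = pullback.fst Y.hom U.ι :=
    IsOpenImmersion.lift_fac _ _ _
  have hab' : a' = b' := by
    apply hN Y hYs
    simp only
    rw [pullback_map_eq_iff]
    change pullback.fst Y.hom U.ι ≫ (a.left ≫ pullback.fst N.hom g) =
      pullback.fst Y.hom U.ι ≫ (b.left ≫ pullback.fst N.hom g)
    rw [← hlfac, Category.assoc, Category.assoc, ← Category.assoc _ a.left, hab, Category.assoc]
  apply Over.OverMorphism.ext
  apply pullback.hom_ext
  · exact congrArg (fun φ => φ.left) hab'
  · rw [hwa, hwb]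

end Groth.Agent.S17731
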