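import Groth.Statements.S17732
import Groth.Agent.S17726
import Mathlib.AlgebraicGeometry.IdealSheaf.Basic
import Mathlib.AlgebraicGeometry.Noetherian
import Mathlib.Tactic
-- import your own Groth.Agent.* helpers here

set_option autoImplicit false
universe u
open CDiv

namespace Groth.Agent.S17732

open AlgebraicGeometry CategoryTheory

/-- Stalk ideals are independent of the affine neighbourhood (nested case). -/
theorem germ_map_ideal_of_le {X : Scheme.{u}} (I : X.IdealSheafData) {U V : X.affineOpens}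
    (h : V ≤ U) (x : X) (hx : x ∈ (V : X.Opens)) :
    (I.ideal V).map (X.presheaf.germ V x hx).hom =
      (I.ideal U).map (X.presheaf.germ U x (h hx)).hom := by
  rw [← I.map_ideal h, Ideal.map_map, ← CommRingCat.hom_comp]
  have := X.presheaf.germ_res (homOfLE (show (V : X.Opens) ≤ (U : X.Opens) from h)) x hx
  rw [← this]
  rfl

/-- Stalk ideals are independent of the affine neighbourhood. -/
theorem germ_map_ideal {X : Scheme.{u}} (I : X.IdealSheafData) (U V : X.affineOpens)
    (x : X) (hxU : x ∈ (U : X.Opens)) (hxV : x ∈ (V : X.Opens)) :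
    (I.ideal V).map (X.presheaf.germ V x hxV).hom =
      (I.ideal U).map (X.presheaf.germ U x hxU).hom := by
  obtain ⟨W, hW, hxW, hWUV⟩ := exists_isAffineOpen_mem_and_subset (X := X)
    (U := (U : X.Opens) ⊓ (V : X.Opens)) (x := x) ⟨hxU, hxV⟩
  have h1 := germ_map_ideal_of_le I (U := U) (V := ⟨W, hW⟩) (fun y hy => (hWUV hy).1) x hxW
  have h2 := germ_map_ideal_of_le I (U := V) (V := ⟨W, hW⟩) (fun y hy => (hWUV hy).2) x hxW
  rw [← h1, ← h2]

/-- An ideal sheaf whose support misses an affine open is the unit ideal there. -/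
theorem ideal_eq_top_of_support_inter {X : Scheme.{u}} (I : X.IdealSheafData) (U : X.affineOpens)
    (h : (I.support : Set X) ∩ (U : X.Opens) = ∅) : I.ideal U = ⊤ := by
  rw [I.coe_support_inter U, ← U.2.fromSpec_image_zeroLocus, Set.image_eq_empty] at h
  exact PrimeSpectrum.zeroLocus_empty_iff_eq_top.mp h

/-- A generator of the stalk of a locally principal ideal sheaf. -/
theorem stalk_gen {X : Scheme.{u}} (I : X.IdealSheafData) (U : X.affineOpens) (g : Γ(X, U))
    (hg : g ∈ nonZeroDivisors Γ(X, U)) (hI : I.ideal U = Ideal.span {g}) (x : X)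
    (hx : x ∈ (U : X.Opens)) :
    (I.ideal U).map (X.presheaf.germ U x hx).hom = Ideal.span {X.presheaf.germ U x hx g} ∧
      X.presheaf.germ U x hx g ∈ nonZeroDivisors (X.presheaf.stalk x) ∧
      (x ∈ I.support → ¬ IsUnit (X.presheaf.germ U x hx g)) := by
  refine ⟨?_, ?_, ?_⟩
  · rw [hI, Ideal.map_span, Set.image_singleton]
  · let _ : Algebra Γ(X, (U : X.Opens)) (X.presheaf.stalk x) :=
      X.presheaf.algebra_section_stalk (U := (U : X.Opens)) ⟨x, hx⟩
    have hloc : IsLocalization.AtPrime (X.presheaf.stalk x)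
        (U.2.primeIdealOf ⟨x, hx⟩).asIdeal := U.2.isLocalization_stalk ⟨x, hx⟩
    have := IsLocalization.map_nonZeroDivisors_le (U.2.primeIdealOf ⟨x, hx⟩).asIdeal.primeCompl
      (X.presheaf.stalk x)
    apply this
    exact ⟨g, hg, rfl⟩
  · intro hxs hu
    rw [I.mem_support_iff_of_mem (U := U) hx, Scheme.mem_zeroLocus_iff] at hxs
    have hgI : g ∈ (I.ideal U : Set Γ(X, U)) := by
      rw [hI]; exact Ideal.mem_span_singleton_self g
    exact hxs g hgI ((X.mem_basicOpen g x hx).mpr hu)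

/-- Local proportionality at a point of the union of the supports. -/
theorem prop_of_mem_support {X : Scheme.{u}} (D E : X.IdealSheafData)
    (hD : (∀ x : X, ∃ U : X.affineOpens, x ∈ (U : X.Opens) ∧ ∃ g : Γ(X, U), g ∈ nonZeroDivisors Γ(X, U) ∧ D.ideal U = Ideal.span {g}))
    (hE : (∀ x : X, ∃ U : X.affineOpens, x ∈ (U : X.Opens) ∧ ∃ g : Γ(X, U), g ∈ nonZeroDivisors Γ(X, U) ∧ E.ideal U = Ideal.span {g}))
    (x : X) (hxS : x ∈ (D.support : Set X) ∪ (E.support : Set X))
    (m n m' n' : ℕ)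
    (h₁ : ∃ U : X.affineOpens, x ∈ (U : X.Opens) ∧ D.ideal U ^ m = E.ideal U ^ n)
    (h₂ : ∃ U : X.affineOpens, x ∈ (U : X.Opens) ∧ D.ideal U ^ m' = E.ideal U ^ n') :
    m * n' = m' * n := by
  obtain ⟨U₁, hx₁, hU₁⟩ := h₁
  obtain ⟨U₂, hx₂, hU₂⟩ := h₂
  obtain ⟨U₃, hx₃, d, hd, hDd⟩ := hD x
  obtain ⟨U₄, hx₄, e, he, hEe⟩ := hE x
  obtain ⟨hd1, hd2, hd3⟩ := stalk_gen D U₃ d hd hDd x hx₃
  obtain ⟨he1, he2, he3⟩ := stalk_gen E U₄ e he hEe x hx₄
  set γd := X.presheaf.germ U₃ x hx₃ d with hγd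
  set γe := X.presheaf.germ U₄ x hx₄ e with hγe
  have key : ∀ (U : X.affineOpens) (hx : x ∈ (U : X.Opens)) (a b : ℕ),
      D.ideal U ^ a = E.ideal U ^ b → Ideal.span {γd ^ a} = Ideal.span {γe ^ b} := by
    intro U hx a b hab
    have := congrArg (Ideal.map (X.presheaf.germ U x hx).hom) hab
    rw [Ideal.map_pow, Ideal.map_pow, germ_map_ideal D U₃ U x hx₃ hx, germ_map_ideal E U₄ U x hx₄ hx,
      hd1, he1, Ideal.span_singleton_pow, Ideal.span_singleton_pow] at this
    exact this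
  have hnot : ¬ (IsUnit γe ∧ IsUnit γd) := by
    rintro ⟨hue, hud⟩
    rcases hxS with h | h
    · exact hd3 h hud
    · exact he3 h hue
  exact Groth.Agent.S17726.result (X.presheaf.stalk x) γe γd he2 hd2 hnot m n m' n'
    (key U₁ hx₁ m n hU₁) (key U₂ hx₂ m' n' hU₂)

open AlgebraicGeometry in
/-- Let X be a Noetherian scheme and D, E effective Cartier divisors on X, encoded by their ideal
sheaves, each locally generated on an affine open by a single non-zero-divisor. Assume that the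
union of the supports of D and E is connected (or empty) and that every point of X has an affine
open neighbourhood on which the m-th power of the ideal of D equals the n-th power of the ideal of E
for some (m, n) ≠ (0, 0). Then there is a pair (m, n) ≠ (0, 0) for which this equality holds on
every affine open of X, that is, m D = n E globally. -/
theorem result
    (X : Scheme.{u}) [IsNoetherian X] (D E : X.IdealSheafData)
    (hD : (∀ x : X, ∃ U : X.affineOpens, x ∈ (U : X.Opens) ∧ ∃ g : Γ(X, U), g ∈ nonZeroDivisors Γ(X, U) ∧ D.ideal U = Ideal.span {g}))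
    (hE : (∀ x : X, ∃ U : X.affineOpens, x ∈ (U : X.Opens) ∧ ∃ g : Γ(X, U), g ∈ nonZeroDivisors Γ(X, U) ∧ E.ideal U = Ideal.span {g}))
    (hconn : IsPreconnected ((D.support : Set X) ∪ (E.support : Set X)))
    (hloc : ∀ x : X, ∃ U : X.affineOpens, x ∈ (U : X.Opens) ∧
      ∃ m n : ℕ, (m, n) ≠ (0, 0) ∧ D.ideal U ^ m = E.ideal U ^ n) :
    ∃ m n : ℕ, (m, n) ≠ (0, 0) ∧ ∀ U : X.affineOpens, D.ideal U ^ m = E.ideal U ^ n := by
  classical
  set S : Set X := (D.support : Set X) ∪ (E.support : Set X) with hS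
  have hprop := prop_of_mem_support D E hD hE
  -- ideals are trivial on affine opens missing `S`
  have htop : ∀ U : X.affineOpens, ((U : X.Opens) : Set X) ∩ S = ∅ →
      D.ideal U = ⊤ ∧ E.ideal U = ⊤ := by
    intro U hU
    constructor
    · apply ideal_eq_top_of_support_inter
      rw [Set.eq_empty_iff_forall_notMem] at hU ⊢
      rintro y ⟨hy1, hy2⟩
      exact hU y ⟨hy2, Or.inl hy1⟩
    · apply ideal_eq_top_of_support_inter
      rw [Set.eq_empty_iff_forall_notMem] at hU ⊢
      rintro y ⟨hy1, hy2⟩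
      exact hU y ⟨hy2, Or.inr hy1⟩
  by_cases hSe : S = ∅
  · refine ⟨1, 1, by simp, fun U => ?_⟩
    obtain ⟨h1, h2⟩ := htop U (by rw [hSe, Set.inter_empty])
    rw [h1, h2]
  obtain ⟨x₀, hx₀⟩ := Set.nonempty_iff_ne_empty.mpr hSe
  obtain ⟨U₀, hxU₀, m₀, n₀, hmn₀, hU₀⟩ := hloc x₀
  -- all good pairs at points of `S` are proportional to `(m₀, n₀)`
  have hall : ∀ y ∈ S, ∀ m n : ℕ,
      (∃ U : X.affineOpens, y ∈ (U : X.Opens) ∧ D.ideal U ^ m = E.ideal U ^ n) →
      m * n₀ = m₀ * n := by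
    by_contra hcon
    push Not at hcon
    obtain ⟨y, hyS, m, n, hg, hne⟩ := hcon
    set A : Set X := {z | ∃ m n : ℕ,
      (∃ U : X.affineOpens, z ∈ (U : X.Opens) ∧ D.ideal U ^ m = E.ideal U ^ n) ∧
        m * n₀ = m₀ * n} with hA
    set B : Set X := {z | ∃ m n : ℕ,
      (∃ U : X.affineOpens, z ∈ (U : X.Opens) ∧ D.ideal U ^ m = E.ideal U ^ n) ∧
        m * n₀ ≠ m₀ * n} with hB
    have hAo : IsOpen A := by
      rw [isOpen_iff_forall_mem_open]
      rintro z ⟨m, n, ⟨U, hzU, hU⟩, hmn⟩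
      exact ⟨(U : X.Opens), fun w hw => ⟨m, n, ⟨U, hw, hU⟩, hmn⟩, (U : X.Opens).2, hzU⟩
    have hBo : IsOpen B := by
      rw [isOpen_iff_forall_mem_open]
      rintro z ⟨m, n, ⟨U, hzU, hU⟩, hmn⟩
      exact ⟨(U : X.Opens), fun w hw => ⟨m, n, ⟨U, hw, hU⟩, hmn⟩, (U : X.Opens).2, hzU⟩
    have hcov : S ⊆ A ∪ B := by
      intro z _
      obtain ⟨U, hzU, m, n, -, hU⟩ := hloc z
      by_cases h : m * n₀ = m₀ * n
      · exact Or.inl ⟨m, n, ⟨U, hzU, hU⟩, h⟩
      · exact Or.inr ⟨m, n, ⟨U, hzU, hU⟩, h⟩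
    obtain ⟨z, hzS, hzA, hzB⟩ := hconn A B hAo hBo hcov
      ⟨x₀, hx₀, m₀, n₀, ⟨U₀, hxU₀, hU₀⟩, rfl⟩ ⟨y, hyS, m, n, hg, hne⟩
    obtain ⟨m₁, n₁, hg₁, h₁⟩ := hzA
    obtain ⟨m₂, n₂, hg₂, h₂⟩ := hzB
    have h12 : m₁ * n₂ = m₂ * n₁ := hprop z hzS m₁ n₁ m₂ n₂ hg₁ hg₂
    -- `(m₁, n₁)` is nonzero?  it may be zero; use `(m₀, n₀)` through `z` instead
    have h0 : ∃ U : X.affineOpens, z ∈ (U : X.Opens) ∧ D.ideal U ^ 0 = E.ideal U ^ 0 := by
      obtain ⟨U, hzU, -⟩ := hg₁
      exact ⟨U, hzU, by simp⟩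
    -- find a nonzero good pair at `z` proportional to `(m₀, n₀)`
    obtain ⟨U₃, hzU₃, m₃, n₃, hmn₃, hU₃⟩ := hloc z
    have h32 : m₃ * n₂ = m₂ * n₃ := hprop z hzS m₃ n₃ m₂ n₂ ⟨U₃, hzU₃, hU₃⟩ hg₂
    -- is `(m₃, n₃)` proportional to `(m₀, n₀)`?
    by_cases h3 : m₃ * n₀ = m₀ * n₃
    · -- then `(m₂, n₂)` is proportional to `(m₀, n₀)`, contradiction
      apply h₂
      rcases Nat.eq_zero_or_pos n₃ with hn3 | hn3
      · -- n₃ = 0, so m₃ ≠ 0
        have hm3 : m₃ ≠ 0 := by
          intro h; apply hmn₃; rw [h, hn3]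
        rw [hn3, mul_zero] at h3 h32
        have hn0 : n₀ = 0 := by
          rcases Nat.mul_eq_zero.mp h3 with h | h
          · exact absurd h hm3
          · exact h
        have hn2 : n₂ = 0 := by
          rcases Nat.mul_eq_zero.mp h32 with h | h
          · exact absurd h hm3
          · exact h
        rw [hn0, hn2]; simp
      · apply Nat.eq_of_mul_eq_mul_right hn3
        calc m₂ * n₀ * n₃ = (m₂ * n₃) * n₀ := by ring
          _ = (m₃ * n₂) * n₀ := by rw [h32]
          _ = (m₃ * n₀) * n₂ := by ring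
          _ = (m₀ * n₃) * n₂ := by rw [h3]
          _ = m₀ * n₂ * n₃ := by ring
    · -- `(m₃, n₃)` is a nonzero pair at `z`, not proportional to `(m₀, n₀)`; compare with
      -- `(m₁, n₁)`
      have h31 : m₃ * n₁ = m₁ * n₃ := hprop z hzS m₃ n₃ m₁ n₁ ⟨U₃, hzU₃, hU₃⟩ hg₁
      -- the pair `(m₀, n₀)` itself need not be good at `z`; use `(m₁, n₁)`
      -- if `(m₁, n₁) ≠ 0` we conclude as above; otherwise replace it
      by_cases h10 : (m₁, n₁) = (0, 0)
      · -- then use the chain through `x₀`: apply preconnectedness again with nonzero pairs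
        -- we argue directly: restrict `A` to nonzero pairs
        simp only [Prod.mk.injEq] at h10
        obtain ⟨rfl, rfl⟩ := h10
        -- refine the sets to nonzero pairs
        set A' : Set X := {z | ∃ m n : ℕ, (m, n) ≠ (0, 0) ∧
          (∃ U : X.affineOpens, z ∈ (U : X.Opens) ∧ D.ideal U ^ m = E.ideal U ^ n) ∧
            m * n₀ = m₀ * n} with hA'
        set B' : Set X := {z | ∃ m n : ℕ, (m, n) ≠ (0, 0) ∧
          (∃ U : X.affineOpens, z ∈ (U : X.Opens) ∧ D.ideal U ^ m = E.ideal U ^ n) ∧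
            m * n₀ ≠ m₀ * n} with hB'
        have hAo' : IsOpen A' := by
          rw [isOpen_iff_forall_mem_open]
          rintro z ⟨m, n, h0, ⟨U, hzU, hU⟩, hmn⟩
          exact ⟨(U : X.Opens), fun w hw => ⟨m, n, h0, ⟨U, hw, hU⟩, hmn⟩, (U : X.Opens).2, hzU⟩
        have hBo' : IsOpen B' := by
          rw [isOpen_iff_forall_mem_open]
          rintro z ⟨m, n, h0, ⟨U, hzU, hU⟩, hmn⟩
          exact ⟨(U : X.Opens), fun w hw => ⟨m, n, h0, ⟨U, hw, hU⟩, hmn⟩, (U : X.Opens).2, hzU⟩
        have hcov' : S ⊆ A' ∪ B' := by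
          intro z _
          obtain ⟨U, hzU, m, n, h0, hU⟩ := hloc z
          by_cases h : m * n₀ = m₀ * n
          · exact Or.inl ⟨m, n, h0, ⟨U, hzU, hU⟩, h⟩
          · exact Or.inr ⟨m, n, h0, ⟨U, hzU, hU⟩, h⟩
        obtain ⟨w, hwS, hwA, hwB⟩ := hconn A' B' hAo' hBo' hcov'
          ⟨x₀, hx₀, m₀, n₀, hmn₀, ⟨U₀, hxU₀, hU₀⟩, rfl⟩ ⟨z, hzS, m₃, n₃, hmn₃, ⟨U₃, hzU₃, hU₃⟩, h3⟩
        obtain ⟨a₁, b₁, hab₁, hga, ha⟩ := hwA
        obtain ⟨a₂, b₂, hab₂, hgb, hb⟩ := hwB
        have hab : a₁ * b₂ = a₂ * b₁ := hprop w hwS a₁ b₁ a₂ b₂ hga hgb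
        apply hb
        rcases Nat.eq_zero_or_pos b₁ with hb1 | hb1
        · have ha1 : a₁ ≠ 0 := by
            intro h; apply hab₁; rw [h, hb1]
          rw [hb1, mul_zero] at ha hab
          have hn0 : n₀ = 0 := by
            rcases Nat.mul_eq_zero.mp ha with h | h
            · exact absurd h ha1
            · exact h
          have hb2 : b₂ = 0 := by
            rcases Nat.mul_eq_zero.mp hab with h | h
            · exact absurd h ha1
            · exact h
          rw [hn0, hb2]; simp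
        · apply Nat.eq_of_mul_eq_mul_right hb1
          calc a₂ * n₀ * b₁ = (a₂ * b₁) * n₀ := by ring
            _ = (a₁ * b₂) * n₀ := by rw [hab]
            _ = (a₁ * n₀) * b₂ := by ring
            _ = (m₀ * b₁) * b₂ := by rw [ha]
            _ = m₀ * b₂ * b₁ := by ring
      · apply h3
        have h10' : m₁ ≠ 0 ∨ n₁ ≠ 0 := by
          by_contra hc
          push Not at hc
          exact h10 (by rw [hc.1, hc.2])
        rcases Nat.eq_zero_or_pos n₁ with hn1 | hn1
        · have hm1 : m₁ ≠ 0 := by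
            rcases h10' with h | h
            · exact h
            · exact absurd hn1 h
          rw [hn1, mul_zero] at h₁ h31
          have hn0 : n₀ = 0 := by
            rcases Nat.mul_eq_zero.mp h₁ with h | h
            · exact absurd h hm1
            · exact h
          have hn3 : n₃ = 0 := by
            rcases Nat.mul_eq_zero.mp h31.symm with h | h
            · exact absurd h hm1
            · exact h
          rw [hn0, hn3]; simp
        · apply Nat.eq_of_mul_eq_mul_right hn1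
          calc m₃ * n₀ * n₁ = (m₃ * n₁) * n₀ := by ring
            _ = (m₁ * n₃) * n₀ := by rw [h31]
            _ = (m₁ * n₀) * n₃ := by ring
            _ = (m₀ * n₁) * n₃ := by rw [h₁]
            _ = m₀ * n₃ * n₁ := by ring
  -- a finite affine cover with local pairs
  choose U hxU m n hmn hU using hloc
  obtain ⟨t, ht⟩ := isCompact_univ.elim_finite_subcover (fun x => ((U x : X.Opens) : Set X))
    (fun x => (U x : X.Opens).2) (fun x _ => Set.mem_iUnion.mpr ⟨x, hxU x⟩)
  set P : ℕ := ∏ x ∈ t, (m x + n x) with hP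
  have hPpos : P ≠ 0 := by
    rw [hP, Finset.prod_ne_zero_iff]
    intro x _ h0
    apply hmn x
    have h1 : m x = 0 := by omega
    have h2 : n x = 0 := by omega
    rw [h1, h2]
  refine ⟨m₀ * P, n₀ * P, ?_, ?_⟩
  · intro h
    simp only [Prod.mk.injEq, Nat.mul_eq_zero] at h
    apply hmn₀
    rcases h with ⟨h1 | h1, h2 | h2⟩
    · rw [h1, h2]
    · exact absurd h2 hPpos
    · exact absurd h1 hPpos
    · exact absurd h1 hPpos
  -- the equality on the members of the cover
  have hcover : ∀ x ∈ t, D.ideal (U x) ^ (m₀ * P) = E.ideal (U x) ^ (n₀ * P) := by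
    intro x hxt
    by_cases hUS : ((U x : X.Opens) : Set X) ∩ S = ∅
    · obtain ⟨h1, h2⟩ := htop (U x) hUS
      rw [h1, h2, Ideal.top_pow, Ideal.top_pow]
    · obtain ⟨y, hyU, hyS⟩ := Set.nonempty_iff_ne_empty.mpr hUS
      have hpr : m x * n₀ = m₀ * n x := hall y hyS (m x) (n x) ⟨U x, hyU, hU x⟩
      set Qx : ℕ := ∏ z ∈ t.erase x, (m z + n z) with hQx
      have hPQ : P = (m x + n x) * Qx := by
        rw [hP, hQx, Finset.mul_prod_erase t (fun z => m z + n z) hxt]
      set k : ℕ := (m₀ + n₀) * Qx with hk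
      have hM : m₀ * P = m x * k := by
        rw [hPQ, hk]
        have : m₀ * (m x + n x) = m x * (m₀ + n₀) := by
          calc m₀ * (m x + n x) = m₀ * m x + m₀ * n x := by ring
            _ = m₀ * m x + m x * n₀ := by rw [hpr]
            _ = m x * (m₀ + n₀) := by ring
        calc m₀ * ((m x + n x) * Qx) = (m₀ * (m x + n x)) * Qx := by ring
          _ = (m x * (m₀ + n₀)) * Qx := by rw [this]
          _ = m x * ((m₀ + n₀) * Qx) := by ring
      have hN : n₀ * P = n x * k := by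
        rw [hPQ, hk]
        have : n₀ * (m x + n x) = n x * (m₀ + n₀) := by
          calc n₀ * (m x + n x) = m x * n₀ + n₀ * n x := by ring
            _ = m₀ * n x + n₀ * n x := by rw [hpr]
            _ = n x * (m₀ + n₀) := by ring
        calc n₀ * ((m x + n x) * Qx) = (n₀ * (m x + n x)) * Qx := by ring
          _ = (n x * (m₀ + n₀)) * Qx := by rw [this]
          _ = n x * ((m₀ + n₀) * Qx) := by ring
      calc D.ideal (U x) ^ (m₀ * P) = (D.ideal (U x) ^ m x) ^ k := by rw [hM, pow_mul]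
        _ = (E.ideal (U x) ^ n x) ^ k := by rw [hU x]
        _ = E.ideal (U x) ^ (n₀ * P) := by rw [hN, ← pow_mul]
  -- pass to all affine opens
  have hsup : ⨆ i : t, ((U i.1 : X.Opens)) = ⊤ := by
    rw [eq_top_iff]
    intro y _
    have := ht (Set.mem_univ y)
    simp only [Set.mem_iUnion] at this
    obtain ⟨x, hxt, hyx⟩ := this
    exact TopologicalSpace.Opens.mem_iSup.mpr ⟨⟨x, hxt⟩, hyx⟩
  have hDE : D ^ (m₀ * P) = E ^ (n₀ * P) := by
    apply Scheme.IdealSheafData.ext_of_iSup_eq_top (fun i : t => U i.1) hsup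
    intro i
    exact hcover i.1 i.2
  intro V
  have := congrArg (fun I : X.IdealSheafData => I.ideal V) hDE
  exact this

end Groth.Agent.S17732
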