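import Groth.Statements.S17734
import Groth.Agent.Lib.Helper62.GGStage
import Groth.Agent.Lib.Helper62.InvDescent
import Groth.Agent.Lib.Helper2.StalkLimit
import Groth.Agent.S4788
import Groth.Agent.S4792
-- import your own Groth.Agent.* helpers here

set_option autoImplicit false
set_option linter.style.haveILetI false
universe u
open PicF
open Groth.Agent.Lib.Helper2.StalkLimit Groth.Agent.Lib.Helper62.GGStage Groth.Agent.Lib.Helper11.CounitEpi
  Groth.Agent.Lib.Helper62.LimPres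

namespace Groth.Agent.S17734

open CategoryTheory AlgebraicGeometry Limits in
/-- Let f : X → S be a proper morphism of finite presentation, s a point of S, and L an invertible
module on the base change X^s of X to the spectrum of the local ring of S at s. Then there are an
open neighbourhood V of s in S and an invertible module L' on the open subscheme f⁻¹(V) = X ×_S V
such that the pullback of L' along the canonical morphism X^s → f⁻¹(V) (the unique one compatible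
with the projection X^s → X) is isomorphic to L. -/
theorem result
    {X S : Scheme.{u}} (f : X ⟶ S) [IsProper f] [LocallyOfFinitePresentation f] (s : S)
    (L : (pullback f (S.fromSpecStalk s)).Modules) (hL : PicF.IsInvertible L) :
    ∃ (V : S.Opens) (_ : s ∈ V) (L' : (↑(f ⁻¹ᵁ V) : Scheme.{u}).Modules), PicF.IsInvertible L' ∧
      ∀ (ι : pullback f (S.fromSpecStalk s) ⟶ ↑(f ⁻¹ᵁ V)),
        ι ≫ (f ⁻¹ᵁ V).ι = pullback.fst f (S.fromSpecStalk s) →
        Nonempty ((Scheme.Modules.pullback ι).obj L' ≅ L) := by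
  classical
  haveI : IsCofiltered (AffNhd S s) := isCofiltered_of_directed_ge_nonempty _
  obtain ⟨N₀⟩ : Nonempty (AffNhd S s) := inferInstance
  haveI : IsAffine (N₀.1 : Scheme.{u}) := N₀.2.1
  let U₀ : X.Opens := f ⁻¹ᵁ N₀.1
  haveI : CompactSpace (U₀ : Scheme.{u}) :=
    QuasiCompact.compactSpace_of_compactSpace (f ∣_ N₀.1)
  haveI : QuasiSeparatedSpace (U₀ : Scheme.{u}) :=
    quasiSeparatedSpace_of_quasiSeparated (f ∣_ N₀.1)
  let D := Groth.Agent.Lib.Helper2.StalkLimit.D S s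
  let c := Groth.Agent.Lib.Helper2.StalkLimit.cone S s
  have hc : IsLimit c := isLimitCone S s
  let h₀ : (U₀ : Scheme.{u}) ⟶ D.obj N₀ := (f ∣_ N₀.1) ≫ N₀.2.1.isoSpec.hom
  have hh₀ : h₀ ≫ toX S s N₀ = U₀.ι ≫ f := by
    change ((f ∣_ N₀.1) ≫ N₀.2.1.isoSpec.hom) ≫ N₀.2.1.fromSpec = _
    rw [Category.assoc, IsAffineOpen.isoSpec_hom_fromSpec]
    exact (isPullback_morphismRestrict f N₀.1).w
  -- the right-hand pullback square
  have hR : IsPullback U₀.ι h₀ f (toX S s N₀) := by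
    have h1 : IsPullback U₀.ι (f ∣_ N₀.1) f N₀.1.ι := (isPullback_morphismRestrict f N₀.1).flip
    refine h1.of_iso (Iso.refl _) (Iso.refl _) N₀.2.1.isoSpec (Iso.refl _) (by simp) (by simp [h₀])
      (by simp) ?_
    change N₀.1.ι ≫ 𝟙 _ = N₀.2.1.isoSpec.hom ≫ N₀.2.1.fromSpec
    rw [IsAffineOpen.isoSpec_hom_fromSpec, Category.comp_id]
  let Z : Scheme.{u} := pullback f (S.fromSpecStalk s)
  let π : ∀ N : AffNhd S s, Spec (S.presheaf.stalk s) ⟶ D.obj N := fun N => c.π.app N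
  have hπ : ∀ N, π N ≫ toX S s N = S.fromSpecStalk s := fun N => cone_π_toX S s N
  let q : Z ⟶ (U₀ : Scheme.{u}) :=
    hR.lift (pullback.fst f (S.fromSpecStalk s))
      (pullback.snd f (S.fromSpecStalk s) ≫ π N₀) (by
        rw [Category.assoc, hπ]
        exact pullback.condition)
  have hq1 : q ≫ U₀.ι = pullback.fst f (S.fromSpecStalk s) := hR.lift_fst _ _ _
  have hq2 : q ≫ h₀ = pullback.snd f (S.fromSpecStalk s) ≫ π N₀ := hR.lift_snd _ _ _
  have hsq : IsPullback q (pullback.snd f (S.fromSpecStalk s)) h₀ (π N₀) := by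
    refine IsPullback.of_right ?_ hq2 hR
    rw [hq1, hπ]
    exact IsPullback.of_hasPullback f (S.fromSpecStalk s)
  -- the limit system
  let e : Z ≅ pullback (π N₀) h₀ := hsq.flip.isoPullback
  have he1 : e.hom ≫ pullback.fst (π N₀) h₀ = pullback.snd f (S.fromSpecStalk s) :=
    hsq.flip.isoPullback_hom_fst
  have he2 : e.hom ≫ pullback.snd (π N₀) h₀ = q := hsq.flip.isoPullback_hom_snd
  let DZ' : Over N₀ ⥤ Scheme.{u} := DZ D N₀ h₀
  let cZ' : Cone DZ' := cZ D c N₀ h₀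
  have hcZ : IsLimit cZ' := isLimitCZ D c N₀ h₀ hc
  let L₁ : cZ'.pt.Modules := (Scheme.Modules.pullback e.inv).obj L
  have hL₁ : PicF.IsInvertible L₁ :=
    Groth.Agent.Lib.Helper11.PullbackTensor.isInvertible_pullback e.inv hL
  haveI hL₁q : Coh.IsQCoh L₁ := Groth.Agent.Lib.Helper45.isQuasicoherent_of_isInvertible hL₁
  have hL₁fp : CohB1.IsFP L₁ :=
    Groth.Agent.Lib.Helper49.isFinitePresentation_of_isFinLocFree _
      (Groth.Agent.Lib.Helper18.LimFinLocFree.isFinLocFree_of_isFinLocFreeOfRank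
        (Groth.Agent.Lib.Helper62.InvDescent.isFinLocFreeOfRank_one_of_isInvertible hL₁))
  let j₀ : Over N₀ := Over.mk (𝟙 N₀)
  haveI : CompactSpace (DZ'.obj j₀) := compactSpace_DZ D N₀ h₀ j₀
  haveI : QuasiSeparatedSpace (DZ'.obj j₀) := quasiSeparatedSpace_DZ D N₀ h₀ j₀
  obtain ⟨k, _, Fk, hFq, hFfp, ⟨e1⟩⟩ := Groth.Agent.S4788.result DZ' cZ' hcZ j₀ L₁ hL₁fp
  haveI : CompactSpace (DZ'.obj k) := compactSpace_DZ D N₀ h₀ k
  haveI : Coh.IsQCoh Fk := hFq
  have hrk : FlatMod.IsFinLocFreeOfRank 1 ((Scheme.Modules.pullback (cZ'.π.app k)).obj Fk) :=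
    Groth.Agent.Lib.Helper18.LimFinLocFree.isFinLocFreeOfRank_of_iso e1.symm
      (Groth.Agent.Lib.Helper62.InvDescent.isFinLocFreeOfRank_one_of_isInvertible hL₁)
  obtain ⟨k', φ, hk'⟩ := (Groth.Agent.S4792.result DZ' cZ' hcZ k Fk hFfp 1).mp hrk
  let Fk' : (pullback (D.map k.hom) h₀).Modules := Fk
  let δ : pullback (D.map k'.hom) h₀ ⟶ pullback (D.map k.hom) h₀ := DZ'.map φ
  let L'' : (pullback (D.map k'.hom) h₀).Modules := (Scheme.Modules.pullback δ).obj Fk'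
  have hL'' : PicF.IsInvertible L'' :=
    Groth.Agent.Lib.Helper62.InvDescent.isInvertible_of_isFinLocFreeOfRank_one hk'
  let N₁ : AffNhd S s := k'.left
  refine ⟨N₁.1, N₁.2.2, ?_⟩
  have hle : N₁.1 ≤ N₀.1 := leOfHom k'.hom
  have hle' : f ⁻¹ᵁ N₁.1 ≤ U₀ := fun x hx => hle hx
  let p : ((f ⁻¹ᵁ N₁.1 : X.Opens) : Scheme.{u}) ⟶ (U₀ : Scheme.{u}) := X.homOfLE hle'
  let rk : ((f ⁻¹ᵁ N₁.1 : X.Opens) : Scheme.{u}) ⟶ D.obj N₁ :=
    (f ∣_ N₁.1) ≫ N₁.2.1.isoSpec.hom
  have hrk1 : rk ≫ toX S s N₁ = (f ⁻¹ᵁ N₁.1).ι ≫ f := by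
    change ((f ∣_ N₁.1) ≫ N₁.2.1.isoSpec.hom) ≫ N₁.2.1.fromSpec = _
    rw [Category.assoc, IsAffineOpen.isoSpec_hom_fromSpec]
    exact (isPullback_morphismRestrict f N₁.1).w
  have hpι : p ≫ U₀.ι = (f ⁻¹ᵁ N₁.1).ι := X.homOfLE_ι hle'
  have hcomm : rk ≫ D.map k'.hom = p ≫ h₀ := by
    haveI : Mono (toX S s N₀) := inferInstance
    rw [← cancel_mono (toX S s N₀), Category.assoc rk, Category.assoc p, hh₀, D_map_toX, hrk1,
      ← Category.assoc, hpι]
  let θ : ((f ⁻¹ᵁ N₁.1 : X.Opens) : Scheme.{u}) ⟶ pullback (D.map k'.hom) h₀ :=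
    pullback.lift rk p hcomm
  have hθ1 : θ ≫ pullback.fst (D.map k'.hom) h₀ = rk := pullback.lift_fst _ _ _
  have hθ2 : θ ≫ pullback.snd (D.map k'.hom) h₀ = p := pullback.lift_snd _ _ _
  refine ⟨(Scheme.Modules.pullback θ).obj L'',
    Groth.Agent.Lib.Helper11.PullbackTensor.isInvertible_pullback θ hL'', ?_⟩
  intro ι hι
  let γ : pullback (π N₀) h₀ ⟶ pullback (D.map k.hom) h₀ := cZ'.π.app k
  have h1 : δ ≫ pullback.fst (D.map k.hom) h₀ =
      pullback.fst (D.map k'.hom) h₀ ≫ D.map φ.left := G_map_fst h₀ ((DOver D N₀).map φ)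
  have h2 : γ ≫ pullback.fst (D.map k.hom) h₀ =
      pullback.fst (π N₀) h₀ ≫ π k.left := G_map_fst h₀ ((coneOver D c N₀).π.app k)
  have h3 : δ ≫ pullback.snd (D.map k.hom) h₀ = pullback.snd (D.map k'.hom) h₀ :=
    DZ_map_eZ D N₀ h₀ φ
  have h4 : γ ≫ pullback.snd (D.map k.hom) h₀ = pullback.snd (π N₀) h₀ :=
    cZ_π_eZ D c N₀ h₀ k
  have key : (ι ≫ θ) ≫ δ = e.hom ≫ γ := by
    refine pullback.hom_ext ?_ ?_
    · haveI : Mono (toX S s k.left) := inferInstance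
      refine (cancel_mono (toX S s k.left)).mp ?_
      calc (((ι ≫ θ) ≫ δ) ≫ pullback.fst (D.map k.hom) h₀) ≫ toX S s k.left
          = ι ≫ (θ ≫ pullback.fst (D.map k'.hom) h₀) ≫ D.map φ.left ≫ toX S s k.left := by
            rw [Category.assoc (ι ≫ θ), h1]; simp only [Category.assoc]
        _ = ι ≫ (f ⁻¹ᵁ N₁.1).ι ≫ f := by
            rw [hθ1, D_map_toX, hrk1]
        _ = pullback.fst f (S.fromSpecStalk s) ≫ f := by rw [← Category.assoc, hι]
        _ = pullback.snd f (S.fromSpecStalk s) ≫ S.fromSpecStalk s := pullback.condition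
        _ = (e.hom ≫ pullback.fst (π N₀) h₀) ≫ π k.left ≫ toX S s k.left := by
            rw [he1, hπ]
        _ = ((e.hom ≫ γ) ≫ pullback.fst (D.map k.hom) h₀) ≫ toX S s k.left := by
            rw [Category.assoc e.hom γ, h2]; simp only [Category.assoc]
    · haveI : Mono U₀.ι := inferInstance
      refine (cancel_mono U₀.ι).mp ?_
      calc (((ι ≫ θ) ≫ δ) ≫ pullback.snd (D.map k.hom) h₀) ≫ U₀.ι
          = ι ≫ (θ ≫ pullback.snd (D.map k'.hom) h₀) ≫ U₀.ι := by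
            rw [Category.assoc (ι ≫ θ), h3]; simp only [Category.assoc]
        _ = pullback.fst f (S.fromSpecStalk s) := by rw [hθ2, hpι, hι]
        _ = (e.hom ≫ pullback.snd (π N₀) h₀) ≫ U₀.ι := by rw [he2, hq1]
        _ = ((e.hom ≫ γ) ≫ pullback.snd (D.map k.hom) h₀) ≫ U₀.ι := by
            rw [Category.assoc e.hom γ, h4]
  refine ⟨?_⟩
  exact Groth.Agent.Lib.Helper18.TransSec.compIso ι θ _ rfl L'' ≪≫
    Groth.Agent.Lib.Helper18.TransSec.compIso (ι ≫ θ) δ _ key Fk' ≪≫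
    (Groth.Agent.Lib.Helper18.TransSec.compIso e.hom γ _ rfl Fk').symm ≪≫
    (Scheme.Modules.pullback e.hom).mapIso e1 ≪≫
    Groth.Agent.Lib.Helper18.TransSec.compIso e.hom e.inv (𝟙 _) e.hom_inv_id L ≪≫
    (Scheme.Modules.pullbackId _).app L

end Groth.Agent.S17734
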