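import Groth.Statements.S17737
import Groth.Agent.S17720
import Mathlib.RingTheory.AdicCompletion.Completeness
import Mathlib.RingTheory.Filtration
import Mathlib.Tactic
-- import your own Groth.Agent.* helpers here

set_option autoImplicit false
universe u
open DualGr

namespace Groth.Agent.S17737

open MvPowerSeries Groth.Agent.S17720

section General

variable {R A : Type u} [CommRing R] [CommRing A] [Algebra R A] (a : R) (β : A)

/-- The constant `a` in the node algebra. -/
theorem algebraMap_Q (r : R) : algebraMap R (Q β) r =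
    Ideal.Quotient.mk _ (C (algebraMap R A r)) := by
  rw [IsScalarTower.algebraMap_apply R A (Q β)]
  rfl

theorem der_coord_mem' (hβ : algebraMap R A a = β) (D : Derivation R (Q β) (Q β)) :
    D (Ideal.Quotient.mk _ (X 0)) ∈ nIdeal β ∧
      D (Ideal.Quotient.mk _ (X 1)) ∈ nIdeal β := by
  obtain ⟨p, hp⟩ := Ideal.Quotient.mk_surjective (D (Ideal.Quotient.mk _ (X 0)))
  obtain ⟨q, hq⟩ := Ideal.Quotient.mk_surjective (D (Ideal.Quotient.mk _ (X 1)))
  have hrel : (Ideal.Quotient.mk (Ideal.span {(rel β : MvPowerSeries (Fin 2) A)}) (X 0)) *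
      (Ideal.Quotient.mk _ (X 1)) = algebraMap R (Q β) a := by
    rw [algebraMap_Q, hβ, ← map_mul, Ideal.Quotient.eq]
    exact Ideal.mem_span_singleton_self _
  have h0 := congrArg D hrel
  rw [Derivation.leibniz, Derivation.map_algebraMap, ← hp, ← hq, smul_eq_mul, smul_eq_mul,
    ← map_mul, ← map_mul, ← map_add, Ideal.Quotient.eq_zero_iff_mem, Ideal.mem_span_singleton] at h0
  obtain ⟨G, hG⟩ := h0
  constructor
  · rw [← hp]
    apply mk_mem_of_constantCoeff β p (- constantCoeff (pderiv A (1 : Fin 2) G))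
    have := congrArg (fun s => constantCoeff (pderiv A (1 : Fin 2) s)) hG
    simp only [map_add, Derivation.leibniz, pderiv_X_self, pderiv_X_of_ne, map_sub, pderiv_C,
      smul_eq_mul, map_mul, constantCoeff_X, constantCoeff_C, Ne, not_false_eq_true,
      Fin.reduceEq, zero_mul, mul_zero, mul_one, zero_add, add_zero, sub_zero, zero_sub] at this
    rw [this]; ring
  · rw [← hq]
    apply mk_mem_of_constantCoeff β q (- constantCoeff (pderiv A (0 : Fin 2) G))
    have := congrArg (fun s => constantCoeff (pderiv A (0 : Fin 2) s)) hG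
    simp only [map_add, Derivation.leibniz, pderiv_X_self, pderiv_X_of_ne, map_sub, pderiv_C,
      smul_eq_mul, map_mul, constantCoeff_X, constantCoeff_C, Ne, not_false_eq_true,
      Fin.reduceEq, zero_mul, mul_zero, mul_one, zero_add, add_zero, sub_zero, zero_sub] at this
    rw [this]; ring

theorem nIdeal_le_dIdeal' :
    nIdeal β ≤ dIdeal R (Q β) := by
  refine (nIdeal_le_dIdeal β).trans ?_
  rw [dIdeal, Ideal.span_le]
  rintro _ ⟨D, b, rfl⟩
  apply Ideal.subset_span
  exact ⟨D.restrictScalars R, b, rfl⟩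

theorem dIdeal_le' (hβ : algebraMap R A a = β) (I : Ideal R) (n : ℕ)
    (hdense : ∀ x : A, ∃ r : R, x - algebraMap R A r ∈ (I ^ n • ⊤ : Submodule R A)) :
    dIdeal R (Q β) ≤ nIdeal β ⊔ (I ^ n).map (algebraMap R (Q β)) := by
  rw [dIdeal, Ideal.span_le]
  rintro _ ⟨D, b, rfl⟩
  obtain ⟨f, rfl⟩ := Ideal.Quotient.mk_surjective b
  obtain ⟨g, h, hgh⟩ := exists_decomp f
  obtain ⟨h0, h1⟩ := der_coord_mem' a β hβ D
  have e : Ideal.Quotient.mk (Ideal.span {(rel β : MvPowerSeries (Fin 2) A)}) f =
      algebraMap A (Q β) (constantCoeff f) + Ideal.Quotient.mk _ (X 0) * Ideal.Quotient.mk _ g +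
        Ideal.Quotient.mk _ (X 1) * Ideal.Quotient.mk _ h := by
    conv_lhs => rw [hgh]
    simp only [map_add, map_mul]
    rfl
  -- the constant term
  have hconst : D (algebraMap A (Q β) (constantCoeff f)) ∈
      (I ^ n).map (algebraMap R (Q β)) := by
    obtain ⟨r, hr⟩ := hdense (constantCoeff f)
    set L : A →ₗ[R] Q β :=
      (D : Q β →ₗ[R] Q β).comp (IsScalarTower.toAlgHom R A (Q β)).toLinearMap with hL
    have hLr : L (algebraMap R A r) = 0 := by
      change D (algebraMap A (Q β) (algebraMap R A r)) = 0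
      rw [← IsScalarTower.algebraMap_apply R A (Q β), Derivation.map_algebraMap]
    have hL1 : L (constantCoeff f) = L (constantCoeff f - algebraMap R A r) := by
      rw [map_sub, hLr, sub_zero]
    change L (constantCoeff f) ∈ _
    rw [hL1]
    have h2 : L (constantCoeff f - algebraMap R A r) ∈
        Submodule.map L (I ^ n • ⊤ : Submodule R A) := Submodule.mem_map_of_mem hr
    rw [Submodule.map_smul''] at h2
    have h3 : (I ^ n • Submodule.map L ⊤ : Submodule R (Q β)) ≤
        ((I ^ n).map (algebraMap R (Q β))).restrictScalars R := by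
      rw [Submodule.smul_le]
      intro μ hμ t _
      change μ • t ∈ (I ^ n).map (algebraMap R (Q β))
      have hsm : μ • t = algebraMap R (Q β) μ * t := Algebra.smul_def μ t
      rw [hsm]
      exact Ideal.mul_mem_right _ _ (Ideal.mem_map_of_mem _ hμ)
    exact h3 h2
  rw [e, map_add, map_add, Derivation.leibniz, Derivation.leibniz]
  simp only [smul_eq_mul, SetLike.mem_coe]
  have hn : ∀ z, z ∈ nIdeal β → z ∈ nIdeal β ⊔ (I ^ n).map (algebraMap R (Q β)) :=
    fun z hz => Ideal.mem_sup_left hz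
  refine Ideal.add_mem _ (Ideal.add_mem _ (Ideal.mem_sup_right hconst) (Ideal.add_mem _ ?_ ?_))
    (Ideal.add_mem _ ?_ ?_)
  · exact hn _ (Ideal.mul_mem_right _ _ (Ideal.subset_span (Set.mem_insert _ _)))
  · exact hn _ (Ideal.mul_mem_left _ _ h0)
  · exact hn _ (Ideal.mul_mem_right _ _ (Ideal.subset_span (Set.mem_insert_of_mem _ rfl)))
  · exact hn _ (Ideal.mul_mem_left _ _ h1)

theorem comap_le' (hβ : algebraMap R A a = β) (I : Ideal R) (n : ℕ) (ε : A →+* R ⧸ I ^ n)
    (hε : ∀ r : R, ε (algebraMap R A r) = Ideal.Quotient.mk _ r) :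
    (nIdeal β ⊔ (I ^ n).map (algebraMap R (Q β))).comap
      (algebraMap R (Q β)) ≤ Ideal.span {a} ⊔ I ^ n := by
  intro r hr
  rw [Ideal.mem_comap, algebraMap_Q] at hr
  have hr' : Ideal.Quotient.mk (Ideal.span {(rel β : MvPowerSeries (Fin 2) A)})
      (C (algebraMap R A r)) ∈
      (Ideal.span {(X 0 : MvPowerSeries (Fin 2) A), X 1} ⊔
        (I ^ n).map (algebraMap R (MvPowerSeries (Fin 2) A))).map (Ideal.Quotient.mk _) := by
    rw [Ideal.map_sup, Ideal.map_span, Set.image_pair, Ideal.map_map]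
    exact hr
  rw [Ideal.mem_quotient_iff_mem_sup] at hr'
  set θ : MvPowerSeries (Fin 2) A →+* R ⧸ I ^ n := ε.comp (constantCoeff (σ := Fin 2) (R := A))
    with hθ
  have h2 := Ideal.mem_map_of_mem θ hr'
  have hθC : ∀ x : A, θ (C x) = ε x := fun x => by rw [hθ, RingHom.comp_apply, constantCoeff_C]
  have hθX : ∀ i : Fin 2, θ (X i) = 0 := fun i => by
    rw [hθ, RingHom.comp_apply, constantCoeff_X, map_zero]
  have hθalg : θ.comp (algebraMap R (MvPowerSeries (Fin 2) A)) = Ideal.Quotient.mk (I ^ n) := by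
    ext x
    rw [RingHom.comp_apply, MvPowerSeries.algebraMap_apply, hθC]
    exact hε x
  rw [Ideal.map_sup, Ideal.map_sup, Ideal.map_span, Ideal.map_span, Set.image_pair,
    Set.image_singleton, Ideal.map_map, hθalg, hθX, hθX, hθC, hε] at h2
  have h3 : θ (rel β) = - Ideal.Quotient.mk (I ^ n) a := by
    rw [rel, map_sub, map_mul, hθX, zero_mul, zero_sub, hθC, ← hβ, hε]
  rw [h3, Ideal.map_quotient_self] at h2
  simp only [Set.pair_eq_singleton, Ideal.span_singleton_zero, bot_sup_eq, sup_bot_eq] at h2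
  rw [Ideal.mem_span_singleton, neg_dvd] at h2
  obtain ⟨c, hc⟩ := h2
  obtain ⟨c', rfl⟩ := Ideal.Quotient.mk_surjective c
  rw [← map_mul, Ideal.Quotient.eq] at hc
  have : r = a * c' + (r - a * c') := by ring
  rw [this]
  exact Ideal.add_mem _ (Ideal.mem_sup_left (Ideal.mul_mem_right _ _ (Ideal.mem_span_singleton_self a)))
    (Ideal.mem_sup_right hc)

end General

section Completion

open IsLocalRing

variable (R : Type u) [CommRing R] [IsLocalRing R] [IsNoetherianRing R]

theorem dense_cpl (n : ℕ) (x : Curv2.cpl R) :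
    ∃ r : R, x - algebraMap R (Curv2.cpl R) r ∈
      ((maximalIdeal R) ^ n • ⊤ : Submodule R (Curv2.cpl R)) := by
  have hfg : (maximalIdeal R).FG := (isNoetherianRing_iff_ideal_fg R).mp inferInstance _
  obtain ⟨r, hr⟩ := Submodule.Quotient.mk_surjective _
    (AdicCompletion.eval (maximalIdeal R) R n x)
  refine ⟨r, ?_⟩
  rw [AdicCompletion.pow_smul_top_eq_ker_eval hfg, LinearMap.mem_ker, map_sub,
    AdicCompletion.algebraMap_apply, AdicCompletion.eval_of]
  rw [sub_eq_zero]
  exact hr.symm

theorem krull_mem (a b : R) (h : ∀ n : ℕ, a ∈ Ideal.span {b} ⊔ (maximalIdeal R) ^ n) :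
    a ∈ Ideal.span {b} := by
  have hK := Ideal.iInf_pow_smul_eq_bot_of_isLocalRing (R := R) (M := R ⧸ Ideal.span {b})
    (maximalIdeal R) (Ideal.IsPrime.ne_top inferInstance)
  have hmem : (Ideal.Quotient.mk (Ideal.span {b}) a : R ⧸ Ideal.span {b}) ∈
      (⨅ i : ℕ, (maximalIdeal R) ^ i • ⊤ : Submodule R (R ⧸ Ideal.span {b})) := by
    rw [Submodule.mem_iInf]
    intro n
    obtain ⟨y, hy, z, hz, hyz⟩ := Submodule.mem_sup.mp (h n)
    have e : (Ideal.Quotient.mk (Ideal.span {b}) a : R ⧸ Ideal.span {b}) =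
        z • (Ideal.Quotient.mk (Ideal.span {b}) 1) := by
      rw [← hyz, map_add, Ideal.Quotient.eq_zero_iff_mem.mpr hy, zero_add]
      change _ = Ideal.Quotient.mk (Ideal.span {b}) (z • 1)
      rw [smul_eq_mul, mul_one]
    rw [e]
    exact Submodule.smul_mem_smul hz Submodule.mem_top
  rw [hK, Submodule.mem_bot] at hmem
  exact Ideal.Quotient.eq_zero_iff_mem.mp hmem

theorem span_le_of_thick {A : Type u} [CommRing A] [IsLocalRing A]
    (φ : R →+* A) (a b : R)
    (h₁ : DualGr.IsThickNode φ a) (h₂ : DualGr.IsThickNode φ b) :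
    Ideal.span {a} ≤ Ideal.span {b} := by
  obtain ⟨e₁, he₁⟩ := h₁
  obtain ⟨e₂, he₂⟩ := h₂
  set ιa : Curv2.cpl R := algebraMap R (Curv2.cpl R) a with hιa
  set ιb : Curv2.cpl R := algebraMap R (Curv2.cpl R) b with hιb
  -- the `R`-algebra isomorphism between the two node rings
  have hcomm : ∀ r : R, (e₁.symm.trans e₂) (algebraMap R (Q ιa) r) = algebraMap R (Q ιb) r := by
    intro r
    rw [algebraMap_Q, algebraMap_Q, RingEquiv.trans_apply]
    have : e₁.symm (Ideal.Quotient.mk _ (C (algebraMap R (Curv2.cpl R) r))) =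
        algebraMap A (Curv2.cpl A) (φ r) := by
      rw [RingEquiv.symm_apply_eq]
      exact (he₁ r).symm
    rw [this]
    exact he₂ r
  set ψ : Q ιa ≃ₐ[R] Q ιb := AlgEquiv.ofRingEquiv (f := e₁.symm.trans e₂) hcomm with hψ
  have hcomap := comap_dIdeal_eq ψ
  rw [Ideal.span_le, Set.singleton_subset_iff]
  apply krull_mem R a b
  intro n
  have ha1 : a ∈ (dIdeal R (Q ιa)).comap (algebraMap R (Q ιa)) := by
    rw [Ideal.mem_comap, algebraMap_Q]
    apply nIdeal_le_dIdeal' ιa
    have := mk_C_mem ιa 1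
    rwa [mul_one] at this
  rw [hcomap] at ha1
  have ha2 : a ∈ (nIdeal ιb ⊔ ((maximalIdeal R) ^ n).map (algebraMap R (Q ιb))).comap
      (algebraMap R (Q ιb)) :=
    Ideal.comap_mono (dIdeal_le' b ιb rfl (maximalIdeal R) n (dense_cpl R n)) ha1
  exact comap_le' b ιb rfl (maximalIdeal R) n
    (AdicCompletion.evalₐ (maximalIdeal R) n).toRingHom
    (fun r => (AdicCompletion.evalₐ (maximalIdeal R) n).commutes r) ha2

end Completion

open IsLocalRing in
/-- Let R be a Noetherian local ring, A a local ring with a ring map φ : R → A, and a, b two elements of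
the maximal ideal of R such that A is formally a node over R both of thickness (a) and of thickness
(b): the completion of A is isomorphic, compatibly with R, to R̂[[x,y]]/(xy − a) and also to
R̂[[x,y]]/(xy − b). Then aR = bR. (This is the uniqueness assertion: the element in a node
presentation is not unique but the principal ideal it generates is; it is stated for presentations
with the element taken in R, whose ideal in R is then determined.) -/
theorem result
    (R A : Type u) [CommRing R] [IsLocalRing R] [IsNoetherianRing R] [CommRing A] [IsLocalRing A]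
    (φ : R →+* A) (a b : R) (ha : a ∈ maximalIdeal R) (hb : b ∈ maximalIdeal R)
    (h₁ : DualGr.IsThickNode φ a) (h₂ : DualGr.IsThickNode φ b) :
    Ideal.span {a} = Ideal.span {b} := by
  exact le_antisymm (span_le_of_thick R φ a b h₁ h₂) (span_le_of_thick R φ b a h₂ h₁)

end Groth.Agent.S17737
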