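import Mathlib
import Groth.Statements.S17743

set_option autoImplicit false
universe u
open CategoryTheory AlgebraicGeometry
open QsChow

namespace Groth.Agent.S17743


/-- the evaluation ring hom `K → κ(x)` for a point of `Spec K`. -/
noncomputable def evK (K : Type u) [Field K] (x : Spec (CommRingCat.of K)) :
    K →+* (Spec (CommRingCat.of K)).residueField x :=
  ((Scheme.ΓSpecIso (CommRingCat.of K)).inv ≫ (Spec (CommRingCat.of K)).Γevaluation x).hom

theorem evK_bijective (K : Type u) [Field K] (x : Spec (CommRingCat.of K)) :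
    Function.Bijective (evK K x) := by
  refine ⟨(evK K x).injective, ?_⟩
  have h := Scheme.Spec.algebraMap_residueFieldIso_inv (CommRingCat.of K) x
  have hmax : x.asIdeal.IsMaximal := by
    have : x.asIdeal = ⊥ := by
      rcases Ideal.eq_bot_or_top x.asIdeal with h | h
      · exact h
      · exact absurd h x.2.ne_top
    rw [this]; exact Ideal.bot_isMaximal
  have hs : Function.Surjective (algebraMap K x.asIdeal.ResidueField) :=
    Ideal.algebraMap_residueField_surjective _
  intro y
  obtain ⟨a, ha⟩ := hs ((Scheme.Spec.residueFieldIso (CommRingCat.of K) x).hom y)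
  refine ⟨a, ?_⟩
  have h2 := congrArg (fun g => g.hom a) h
  simp only [CommRingCat.hom_comp, RingHom.comp_apply, CommRingCat.hom_ofHom] at h2
  change (Spec (CommRingCat.of K)).residue x ((Spec (CommRingCat.of K)).presheaf.germ ⊤ x trivial
    ((Scheme.ΓSpecIso (CommRingCat.of K)).inv a)) = y
  rw [← h2, ha]
  exact (Scheme.Spec.residueFieldIso (CommRingCat.of K) x).hom_inv_id_apply y


theorem residueDegree_specMap (k F : Type u) [Field k] [Field F] [Algebra k F]
    (x : Spec (CommRingCat.of F)) :
    (Spec.map (CommRingCat.ofHom (algebraMap k F))).residueDegree x = Module.finrank k F := by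
  set f := Spec.map (CommRingCat.ofHom (algebraMap k F)) with hf
  unfold Scheme.Hom.residueDegree
  letI := (f.residueFieldMap x).hom.toAlgebra
  symm
  refine Algebra.finrank_eq_of_equiv_equiv (RingEquiv.ofBijective _ (evK_bijective k (f x)))
    (RingEquiv.ofBijective _ (evK_bijective F x)) ?_
  ext a
  change (f.residueFieldMap x).hom (evK k (f x) a) = evK F x (algebraMap k F a)
  unfold evK
  have h1 := Scheme.Γevaluation_naturality f x
  have h2 := Scheme.ΓSpecIso_inv_naturality (CommRingCat.ofHom (algebraMap k F))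
  have h3 : (Scheme.ΓSpecIso (CommRingCat.of k)).inv ≫ (Spec (CommRingCat.of k)).Γevaluation (f x) ≫
      f.residueFieldMap x = CommRingCat.ofHom (algebraMap k F) ≫
        (Scheme.ΓSpecIso (CommRingCat.of F)).inv ≫ (Spec (CommRingCat.of F)).Γevaluation x := by
    rw [h1, ← Category.assoc, ← h2, Category.assoc]
  have h4 := congrArg (fun g => g.hom a) h3
  simp only [CommRingCat.hom_comp, RingHom.comp_apply, CommRingCat.hom_ofHom] at h4 ⊢
  exact h4


section pt
variable (k : Type u) [Field k]

noncomputable instance : Unique (Spec (CommRingCat.of k)) :=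
  inferInstanceAs (Unique (PrimeSpectrum k))

/-- the constant cycle with value `n` on `Spec k`. -/
noncomputable def constCycle (n : ℤ) : AlgebraicCycle (Spec (CommRingCat.of k)) ℤ where
  toFun := fun _ => n
  supportWithinDomain' := fun _ _ => trivial
  supportLocallyFiniteWithinDomain' := fun z _ => ⟨Set.univ, Filter.univ_mem, Set.toFinite _⟩

theorem cycle_ext {a b : AlgebraicCycle (Spec (CommRingCat.of k)) ℤ}
    (h : a default = b default) : a = b := by
  apply DFunLike.ext
  intro x
  rw [Subsingleton.elim x default]; exact h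

theorem mem_Zk (a : AlgebraicCycle (Spec (CommRingCat.of k)) ℤ) :
    a ∈ Cyc.Zk (Spec (CommRingCat.of k)) (fun _ => 0) 0 :=
  fun x hx => absurd rfl hx

theorem ratTriv_eq_bot :
    ChowOps.ratTriv (Spec (CommRingCat.of k)) (fun _ => 0) 0 = ⊥ := by
  rw [ChowOps.ratTriv, AddSubgroup.closure_eq_bot_iff]
  rintro a ⟨ι, ξ, f, hδ, hf, hfin, hα⟩
  have hι : IsEmpty ι := ⟨fun i => by simpa using hδ i⟩
  rw [Set.mem_singleton_iff]
  apply Subtype.ext
  apply cycle_ext
  rw [hα default]
  exact finsum_of_isEmpty _

/-- evaluation at the point, on 0-cycles. -/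
noncomputable def evZ : ↥(ChowOps.zk (Spec (CommRingCat.of k)) (fun _ => 0) 0) →+ ℤ where
  toFun a := (a : AlgebraicCycle (Spec (CommRingCat.of k)) ℤ) default
  map_zero' := rfl
  map_add' _ _ := rfl

noncomputable def evCH : ChowOps.CH (Spec (CommRingCat.of k)) (fun _ => 0) 0 →+ ℤ :=
  QuotientAddGroup.lift _ (evZ k) (by
    rw [ratTriv_eq_bot]
    intro a ha
    rw [AddSubgroup.mem_bot] at ha
    rw [ha]; rfl)

theorem evCH_cl (a : AlgebraicCycle (Spec (CommRingCat.of k)) ℤ)
    (h : a ∈ Cyc.Zk (Spec (CommRingCat.of k)) (fun _ => 0) 0) :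
    evCH k (ChowOps.cl a h) = a default := rfl

theorem evCH_bijective : Function.Bijective (evCH k) := by
  constructor
  · rw [injective_iff_map_eq_zero]
    intro c hc
    obtain ⟨a, rfl⟩ := QuotientAddGroup.mk_surjective c
    have h0 : (a : AlgebraicCycle (Spec (CommRingCat.of k)) ℤ) default = 0 := hc
    have : a = 0 := by
      apply Subtype.ext
      apply cycle_ext
      exact h0
    rw [this]; rfl
  · intro n
    exact ⟨ChowOps.cl (constCycle k n) (mem_Zk k _), rfl⟩

end pt

theorem map_apply_default (k F : Type u) [Field k] [Field F] [Algebra k F]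
    (α : AlgebraicCycle (Spec (CommRingCat.of F)) ℤ) :
    AlgebraicCycle.map (Spec.map (CommRingCat.ofHom (algebraMap k F)))
      (fun _ => (0 : ℤ)) (fun _ => (0 : ℤ)) α default = α default * (Module.finrank k F : ℤ) := by
  change ∑ᶠ x ∈ (Spec.map (CommRingCat.ofHom (algebraMap k F))) ⁻¹' {default}, α x *
    ((AlgebraicCycle.mapCoeff (Spec.map (CommRingCat.ofHom (algebraMap k F)))
      (fun _ => (0 : ℤ)) (fun _ => (0 : ℤ)) x : ℕ) : ℤ) = _
  rw [finsum_mem_def, finsum_unique]
  rw [Set.indicator_of_mem (show (default : Spec (CommRingCat.of F)) ∈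
    (Spec.map (CommRingCat.ofHom (algebraMap k F))) ⁻¹' {default} from Subsingleton.elim _ _)]
  congr 2
  unfold AlgebraicCycle.mapCoeff
  rw [if_pos rfl]
  exact residueDegree_specMap k F default


section bridge
variable (k : Type u) [Field k] (K : Type u) [Field K] [Algebra k K]

/-- the set of degrees of the nontrivial finite intermediate fields. -/
def degSet : Set ℤ :=
  {m | ∃ F : IntermediateField k K, FiniteDimensional k F ∧ F ≠ ⊥ ∧ m = (Module.finrank k F : ℤ)}

theorem map_ptNormSubgroup :
    (QsChow.ptNormSubgroup k K).map (evCH k) = AddSubgroup.closure (degSet k K) := by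
  unfold QsChow.ptNormSubgroup
  rw [AddMonoidHom.map_closure]
  apply le_antisymm
  · rw [AddSubgroup.closure_le]
    rintro _ ⟨c, ⟨F, hfd, hne, α, h, rfl⟩, rfl⟩
    rw [evCH_cl, map_apply_default]
    have hmem : (Module.finrank k F : ℤ) ∈ AddSubgroup.closure (degSet k K) :=
      AddSubgroup.subset_closure ⟨F, hfd, hne, rfl⟩
    have := AddSubgroup.zsmul_mem _ hmem (α default)
    rwa [smul_eq_mul] at this
  · rw [AddSubgroup.closure_le]
    rintro _ ⟨F, hfd, hne, rfl⟩
    apply AddSubgroup.subset_closure
    refine ⟨ChowOps.cl _ (mem_Zk k (AlgebraicCycle.map (Spec.map (CommRingCat.ofHom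
      (algebraMap k F))) (fun _ => (0 : ℤ)) (fun _ => (0 : ℤ)) (constCycle F 1))),
      ⟨F, hfd, hne, constCycle F 1, mem_Zk k _, rfl⟩, ?_⟩
    rw [evCH_cl, map_apply_default]
    change (1 : ℤ) * _ = _
    rw [one_mul]

end bridge

section galois
variable {k : Type u} [Field k] {K : Type u} [Field K] [Algebra k K]

/-- a subgroup of the Galois group of a finite Galois intermediate field gives an intermediate
field of `K/k` of degree its index. -/
theorem exists_intermediate_of_subgroup (L : IntermediateField k K) [FiniteDimensional k L]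
    [IsGalois k L] (H : Subgroup (L ≃ₐ[k] L)) :
    ∃ F : IntermediateField k K, FiniteDimensional k F ∧ Module.finrank k F = H.index := by
  let E : IntermediateField k L := IntermediateField.fixedField H
  refine ⟨IntermediateField.lift E, ?_, ?_⟩
  · exact Module.Finite.equiv (IntermediateField.liftAlgEquiv E).toLinearEquiv
  · rw [← (IntermediateField.liftAlgEquiv E).toLinearEquiv.finrank_eq,
      IntermediateField.finrank_eq_fixingSubgroup_index, IntermediateField.fixingSubgroup_fixedField]

theorem index_mem_degSet (L : IntermediateField k K) [FiniteDimensional k L]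
    [IsGalois k L] (H : Subgroup (L ≃ₐ[k] L)) (hH : H.index ≠ 1) :
    (H.index : ℤ) ∈ degSet k K := by
  obtain ⟨F, hfd, hF⟩ := exists_intermediate_of_subgroup L H
  refine ⟨F, hfd, ?_, by rw [hF]⟩
  intro hbot
  apply hH
  rw [← hF, IntermediateField.finrank_eq_one_iff]
  exact hbot

end galois

theorem main1 (k : Type u) [Field k] (K : Type u) [Field K] [Algebra k K]
    (L : IntermediateField k K) [FiniteDimensional k L] [IsGalois k L]
    (hL : ∀ p n : ℕ, p.Prime → Module.finrank k L ≠ p ^ n) :
    QsChow.ptNormSubgroup k K = ⊤ := by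
  have hinj := (evCH_bijective k).1
  suffices h : AddSubgroup.closure (degSet k K) = ⊤ by
    rw [← AddSubgroup.comap_map_eq_self_of_injective hinj (QsChow.ptNormSubgroup k K),
      map_ptNormSubgroup, h, AddSubgroup.comap_top]
  set n := Nat.card (L ≃ₐ[k] L) with hn
  have hnL : n = Module.finrank k L := IsGalois.card_aut_eq_finrank k L
  have hn0 : n ≠ 0 := by rw [hnL]; exact Module.finrank_pos.ne'
  -- for each prime p, ordCompl[p] n is in the closure
  have hmem : ∀ p : ℕ, p.Prime → ((ordCompl[p] n : ℕ) : ℤ) ∈ AddSubgroup.closure (degSet k K) := by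
    intro p hp
    haveI : Fact p.Prime := ⟨hp⟩
    obtain ⟨P⟩ : Nonempty (Sylow p (L ≃ₐ[k] L)) := inferInstance
    have hcard : Nat.card P = p ^ n.factorization p := P.card_eq_multiplicity
    have hidx : (P : Subgroup (L ≃ₐ[k] L)).index = ordCompl[p] n := by
      have h1 := (P : Subgroup (L ≃ₐ[k] L)).card_mul_index
      rw [hcard] at h1
      have hpos : 0 < p ^ n.factorization p := pow_pos hp.pos _
      rw [← hn] at h1
      exact (Nat.div_eq_of_eq_mul_right hpos h1.symm).symm
    apply AddSubgroup.subset_closure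
    rw [← hidx]
    apply index_mem_degSet L
    rw [hidx]
    intro h1
    apply hL p (n.factorization p) hp
    rw [← hnL]
    have := Nat.ordProj_mul_ordCompl_eq_self n p
    rw [h1, mul_one] at this
    exact this.symm
  obtain ⟨g, hg⟩ := Int.subgroup_cyclic (AddSubgroup.closure (degSet k K))
  have hgdvd : ∀ p : ℕ, p.Prime → g.natAbs ∣ ordCompl[p] n := by
    intro p hp
    have h1 := hmem p hp
    rw [hg, AddSubgroup.mem_closure_singleton] at h1
    obtain ⟨c, hc⟩ := h1
    have : g ∣ ((ordCompl[p] n : ℕ) : ℤ) := ⟨c, by rw [← hc, smul_eq_mul, mul_comm]⟩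
    exact Int.natAbs_dvd_natAbs.mpr this
  have hg1 : g.natAbs = 1 := by
    by_contra hne
    obtain ⟨q, hq, hqg⟩ := Nat.exists_prime_and_dvd hne
    exact Nat.not_dvd_ordCompl hq hn0 (hqg.trans (hgdvd q hq))
  rw [eq_top_iff]
  intro x _
  rw [hg, AddSubgroup.mem_closure_singleton]
  rcases Int.natAbs_eq g with h | h
  · exact ⟨x, by rw [h, hg1]; simp⟩
  · exact ⟨-x, by rw [h, hg1]; simp⟩

theorem main2 (k : Type u) [Field k] (K : Type u) [Field K] [Algebra k K]
    (L : IntermediateField k K) [FiniteDimensional k L] [IsGalois k L]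
    (p n : ℕ) (hp : p.Prime) (hn : 1 ≤ n) (hL : Module.finrank k L = p ^ n)
    (hF : ∀ F : IntermediateField k K, FiniteDimensional k F → ∃ e : ℕ, Module.finrank k F = p ^ e) :
    (QsChow.ptNormSubgroup k K).index = p := by
  haveI : Fact p.Prime := ⟨hp⟩
  rw [← AddSubgroup.index_map_of_bijective (evCH_bijective k), map_ptNormSubgroup]
  suffices h : AddSubgroup.closure (degSet k K) = AddSubgroup.zmultiples (p : ℤ) by
    rw [h, Int.index_zmultiples, Int.natAbs_natCast]
  apply le_antisymm
  · rw [AddSubgroup.closure_le]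
    rintro _ ⟨F, hfd, hne, rfl⟩
    obtain ⟨e, he⟩ := hF F hfd
    have he0 : e ≠ 0 := by
      rintro rfl
      rw [pow_zero, IntermediateField.finrank_eq_one_iff] at he
      exact hne he
    obtain ⟨e', rfl⟩ := Nat.exists_eq_succ_of_ne_zero he0
    rw [he]
    change ((p ^ (e' + 1) : ℕ) : ℤ) ∈ AddSubgroup.zmultiples (p : ℤ)
    rw [Int.mem_zmultiples_iff]
    exact ⟨p ^ e', by push_cast; ring⟩
  · apply AddSubgroup.zmultiples_le_of_mem
    have hcard : Nat.card (L ≃ₐ[k] L) = p ^ n := by
      rw [IsGalois.card_aut_eq_finrank, hL]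
    obtain ⟨m, rfl⟩ := Nat.exists_eq_succ_of_ne_zero (Nat.one_le_iff_ne_zero.mp hn)
    obtain ⟨H, hH⟩ := Sylow.exists_subgroup_card_pow_prime (G := L ≃ₐ[k] L) p (n := m)
      (by rw [hcard]; exact pow_dvd_pow p (Nat.le_succ m))
    have hidx : H.index = p := by
      have h1 := H.card_mul_index
      rw [hH, hcard, pow_succ] at h1
      exact Nat.eq_of_mul_eq_mul_left (pow_pos hp.pos m) h1
    apply AddSubgroup.subset_closure
    rw [← hidx]
    apply index_mem_degSet L
    rw [hidx]
    exact hp.one_lt.ne'


/-- Let K be a separable algebraic field extension of k and suppose that some intermediate field L of K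
over k is finite Galois over k with degree [L:k] not of the form p^n for a prime p and n ≥ 0 (so
[L:k] has at least two prime factors). Then the subgroup of the Chow group of zero-cycles of Spec k
generated by the classes of push-forwards from Spec F, over the intermediate fields F of K over k
that are finite over k and different from k, is the whole group; that is, the conormed Chow group of
the point relative to K over k is zero. (Degree 1 = p^0 must be excluded: for L = K = k the quotient
is ℤ.) -/
theorem result
    (k : Type u) [Field k] (K : Type u) [Field K] [Algebra k K] [Algebra.IsSeparable k K]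
    (L : IntermediateField k K) [FiniteDimensional k L] [IsGalois k L]
    (hL : ∀ p n : ℕ, p.Prime → Module.finrank k L ≠ p ^ n) :
    QsChow.ptNormSubgroup k K = ⊤ := by
  exact main1 k K L hL

end Groth.Agent.S17743
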