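import Mathlib
import Groth.Statements.S17745
import Groth.Agent.Lib.Helper55.CyclePush

set_option autoImplicit false
universe u
open CategoryTheory AlgebraicGeometry
open QsChow

namespace Groth.Agent.S17745


theorem map_eq_of_eq_id {X : Scheme.{u}} (δ : X → ℤ) (β : AlgebraicCycle X ℤ)
    (f : X ⟶ X) [QuasiCompact f] (hf : f = 𝟙 X) : AlgebraicCycle.map f δ δ β = β := by
  subst hf
  exact AlgebraicCycle.map_id δ β

theorem cl_congr {X : Scheme.{u}} {δ : X → ℤ} {j : ℤ} (β γ : AlgebraicCycle X ℤ)
    (hβ : β ∈ Cyc.Zk X δ j) (e : γ = β) :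
    ∃ h : γ ∈ Cyc.Zk X δ j, ChowOps.cl β hβ = ChowOps.cl γ h := by
  subst e
  exact ⟨hβ, rfl⟩

theorem main
    (k : Type u) [Field k] (K : Type u) [Field K] [Algebra k K]
    (F : IntermediateField k K) [FiniteDimensional k F] (hF : F ≠ ⊥)
    (X : Scheme.{u}) [X.Over (Spec (CommRingCat.of k))] (g : X ⟶ Spec (CommRingCat.of F))
    (hg : g ≫ Spec.map (CommRingCat.ofHom (algebraMap k F)) = X ↘ Spec (CommRingCat.of k))
    (δ : X → ℤ) (j : ℤ) :
    QsChow.normSubgroup k K X δ j = ⊤ := by
  rw [eq_top_iff]
  intro c _
  obtain ⟨⟨β, hβ⟩, rfl⟩ := QuotientAddGroup.mk_surjective c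
  unfold QsChow.normSubgroup
  apply AddSubgroup.subset_closure
  -- the section
  let π := Curv2.bcFst k X F
  let s : X ⟶ Curv2.bc k X F := Limits.pullback.lift (𝟙 X) g (by rw [Category.id_comp, hg])
  have hsπ : s ≫ π = 𝟙 X := Limits.pullback.lift_fst _ _ _
  haveI : QuasiCompact (s ≫ π) := by rw [hsπ]; infer_instance
  haveI : QuasiCompact s := QuasiCompact.of_comp s π
  have hπs : ∀ x : X, π (s x) = x := by
    intro x
    have := congrArg (fun f : X ⟶ X => f x) hsπ
    simpa using this
  let α := AlgebraicCycle.map s δ (δ ∘ ⇑π.base) β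
  have hα : α ∈ Cyc.Zk (Curv2.bc k X F) (δ ∘ ⇑π.base) j := by
    intro z hz
    change ∑ᶠ x ∈ s ⁻¹' {z}, β x * ((AlgebraicCycle.mapCoeff s δ (δ ∘ ⇑π.base) x : ℕ) : ℤ) = 0
    apply finsum_mem_eq_zero_of_forall_eq_zero
    intro x hx
    have hx' : s x = z := hx
    have : δ x ≠ j := by
      intro h
      apply hz
      change δ (π z) = j
      rw [← hx', hπs, h]
    rw [hβ x this, zero_mul]
  have e : AlgebraicCycle.map π (δ ∘ ⇑π.base) δ α = β := by
    change AlgebraicCycle.map π (δ ∘ ⇑π.base) δ (AlgebraicCycle.map s δ (δ ∘ ⇑π.base) β) = β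
    rw [Groth.Agent.Lib.Helper55.map_map_of_le s π δ (δ ∘ ⇑π.base) δ
      (fun x => by change δ (π (s x)) ≤ δ x; rw [hπs]) (fun y => le_refl _) β]
    exact map_eq_of_eq_id δ β (s ≫ π) hsπ
  obtain ⟨h, hcl⟩ := cl_congr β _ hβ e
  exact ⟨F, inferInstance, hF, α, hα, h, hcl⟩


/-- For a field extension K of k (separable algebraic) and a k-scheme X with weight function δ, call
norm subgroup of CH_j(X) the subgroup generated by the classes of the push-forwards to X of j-cycles
on the base changes X_F, over the intermediate fields F of K over k that are finite over k and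
different from k (the quotient by it is the degree-j part of the conormed Chow group of X relative
to K over k). Let F be an intermediate field of K over k, finite over k and different from k, and
let X be a smooth variety over F (a scheme with a smooth, separated and quasi-compact morphism g to
Spec F), regarded as a k-scheme by composing g with Spec F → Spec k. Then for every weight function
δ on X (a dimension function induced from weight 0 on Spec k) and every integer j the norm subgroup
of CH_j(X) relative to K over k is the whole Chow group: all conormed Chow groups of X vanish. (The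
source's F is tacitly different from k; for F = k the assertion fails, e.g. with K = k.) -/
theorem result
    (k : Type u) [Field k] (K : Type u) [Field K] [Algebra k K] [Algebra.IsSeparable k K]
    (F : IntermediateField k K) [FiniteDimensional k F] (hF : F ≠ ⊥)
    (X : Scheme.{u}) [X.Over (Spec (CommRingCat.of k))] (g : X ⟶ Spec (CommRingCat.of F))
    (hg : g ≫ Spec.map (CommRingCat.ofHom (algebraMap k F)) = X ↘ Spec (CommRingCat.of k))
    (hsm : Smooth g) [IsSeparated g] [QuasiCompact g]
    (δ : X → ℤ) (hδ : Cyc.IsSetup X δ)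
    (hcompat : Cyc.DeltaCompat (X ↘ Spec (CommRingCat.of k)) δ (fun _ => 0)) (j : ℤ) :
    QsChow.normSubgroup k K X δ j = ⊤ := by
  exact main k K F hF X g hg δ j

end Groth.Agent.S17745
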