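import Mathlib
import Groth.Statements.S17746
import Groth.Agent.S17745
import Groth.Agent.Lib.Helper96.GaloisIdem

set_option autoImplicit false
universe u
open CategoryTheory AlgebraicGeometry
open QsChow

namespace Groth.Agent.S17746

open TensorProduct CategoryTheory.Limits Opposite

lemma idem_trivial (X : Scheme.{u}) [ConnectedSpace X] [CompactSpace X] (e : Γ(X, ⊤))
    (he : e * e = e) : e = 0 ∨ e = 1 := by
  have hdisj : X.basicOpen e ⊓ X.basicOpen (1 - e) = ⊥ := by
    rw [← Scheme.basicOpen_mul]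
    have : e * (1 - e) = 0 := by rw [mul_sub, mul_one, he, sub_self]
    rw [this, Scheme.basicOpen_zero]
  have hcov : ∀ x : X, x ∈ X.basicOpen e ∨ x ∈ X.basicOpen (1 - e) := by
    intro x
    rw [Scheme.mem_basicOpen_top, Scheme.mem_basicOpen_top]
    apply IsLocalRing.isUnit_or_isUnit_of_add_one
    rw [← map_add]
    simp
  have hnil : ∀ a : Γ(X, ⊤), a * a = a → X.basicOpen a = ⊥ → a = 0 := by
    intro a ha hb
    obtain ⟨n, hn⟩ := (Scheme.isNilpotent_iff_basicOpen_eq_bot a).mpr hb
    cases n with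
    | zero => rw [pow_zero] at hn; rw [← mul_one a, hn, mul_zero]
    | succ n => rwa [IsIdempotentElem.pow_succ_eq n ha] at hn
  by_cases h1 : X.basicOpen e = ⊥
  · left; exact hnil e he h1
  by_cases h2 : X.basicOpen (1 - e) = ⊥
  · right
    have h3 : (1 - e) * (1 - e) = 1 - e := by
      have : (1 - e) * (1 - e) = 1 - e - e + e * e := by ring
      rw [this, he]; ring
    have := hnil (1 - e) h3 h2
    exact (sub_eq_zero.mp this).symm
  exfalso
  have n1 := (TopologicalSpace.Opens.ne_bot_iff_nonempty _).mp h1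
  have n2 := (TopologicalSpace.Opens.ne_bot_iff_nonempty _).mp h2
  have hpc := isPreconnected_univ (α := X) _ _ (X.basicOpen e).2 (X.basicOpen (1 - e)).2
    (fun x _ => hcov x) (by simpa using n1) (by simpa using n2)
  obtain ⟨x, -, hx1, hx2⟩ := hpc
  have : x ∈ X.basicOpen e ⊓ X.basicOpen (1 - e) := ⟨hx1, hx2⟩
  rw [hdisj] at this
  exact this

lemma exists_idem (Y : Scheme.{u}) [Nonempty Y] (hY : ¬ ConnectedSpace Y) :
    ∃ e : Γ(Y, ⊤), e * e = e ∧ e ≠ 0 ∧ e ≠ 1 := by
  have hpre : ¬ ∀ s : Set Y, IsClopen s → s = ∅ ∨ s = Set.univ := by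
    intro h
    exact hY (connectedSpace_iff_clopen.mpr ⟨inferInstance, h⟩)
  push Not at hpre
  obtain ⟨s, hs, hs0, hs1⟩ := hpre
  obtain ⟨U, hU⟩ : ∃ U : Y.Opens, (U : Set Y) = s := ⟨⟨s, hs.isOpen⟩, rfl⟩
  obtain ⟨V, hV⟩ : ∃ V : Y.Opens, (V : Set Y) = sᶜ := ⟨⟨sᶜ, hs.compl.isOpen⟩, rfl⟩
  have hUV : U ⊓ V = ⊥ := by
    ext x
    simp only [TopologicalSpace.Opens.coe_inf, hU, hV, Set.inter_compl_self,
      TopologicalSpace.Opens.coe_bot]
  have hVU : V ⊓ U = ⊥ := by rw [inf_comm, hUV]
  have : Nonempty U := by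
    obtain ⟨x, hx⟩ := hs0
    exact ⟨⟨x, by rw [← SetLike.mem_coe, hU]; exact hx⟩⟩
  have : Nonempty V := by
    obtain ⟨x, hx⟩ := Set.nonempty_compl.mpr hs1
    exact ⟨⟨x, by rw [← SetLike.mem_coe, hV]; exact hx⟩⟩
  let Uf : Bool → Y.Opens := fun b => bif b then U else V
  let sf : ∀ b : Bool, Γ(Y, Uf b) := fun b => Bool.rec (0 : Γ(Y, V)) (1 : Γ(Y, U)) b
  have hcov : (⊤ : Y.Opens) ≤ iSup Uf := by
    intro x _
    rw [TopologicalSpace.Opens.mem_iSup]
    by_cases hx : x ∈ s
    · exact ⟨true, by show x ∈ U; rw [← SetLike.mem_coe, hU]; exact hx⟩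
    · exact ⟨false, by show x ∈ V; rw [← SetLike.mem_coe, hV]; exact hx⟩
  have hcompat : TopCat.Presheaf.IsCompatible Y.presheaf Uf sf := by
    intro i j
    cases i <;> cases j
    · simp [sf]
    · have : Subsingleton Γ(Y, Uf false ⊓ Uf true) := by
        show Subsingleton Γ(Y, V ⊓ U); rw [hVU]; infer_instance
      exact Subsingleton.elim _ _
    · have : Subsingleton Γ(Y, Uf true ⊓ Uf false) := by
        show Subsingleton Γ(Y, U ⊓ V); rw [hUV]; infer_instance
      exact Subsingleton.elim _ _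
    · simp [sf]
  obtain ⟨e, he, -⟩ := Y.sheaf.existsUnique_gluing' Uf ⊤ (fun b => homOfLE le_top) hcov sf hcompat
  obtain ⟨e, heU, heV⟩ : ∃ e : Γ(Y, ⊤),
      (Y.presheaf.map (homOfLE (le_top : U ≤ ⊤)).op).hom e = 1 ∧
      (Y.presheaf.map (homOfLE (le_top : V ≤ ⊤)).op).hom e = 0 := ⟨e, he true, he false⟩
  refine ⟨e, ?_, ?_, ?_⟩
  · apply Y.sheaf.eq_of_locally_eq' Uf ⊤ (fun b => homOfLE le_top) hcov
    intro b
    cases b
    · show (Y.presheaf.map (homOfLE (le_top : V ≤ ⊤)).op).hom (e * e) =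
        (Y.presheaf.map (homOfLE (le_top : V ≤ ⊤)).op).hom e
      rw [map_mul, heV, mul_zero]
    · show (Y.presheaf.map (homOfLE (le_top : U ≤ ⊤)).op).hom (e * e) =
        (Y.presheaf.map (homOfLE (le_top : U ≤ ⊤)).op).hom e
      rw [map_mul, heU, mul_one]
  · intro h
    rw [h, map_zero] at heU
    exact zero_ne_one (α := Γ(Y, U)) heU
  · intro h
    rw [h, map_one] at heV
    exact one_ne_zero (α := Γ(Y, V)) heV

lemma appLE_top_top {X Y : Scheme.{u}} (f : X ⟶ Y)
    (h : (⊤ : X.Opens) ≤ f ⁻¹ᵁ (⊤ : Y.Opens)) : f.appLE ⊤ ⊤ h = f.appTop :=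
  (Scheme.Hom.app_eq_appLE f (U := ⊤)).symm

lemma tensor_equiv (k : Type u) [Field k] (L : Type u) [Field L] [Algebra k L]
    (X : Scheme.{u}) [X.Over (Spec (CommRingCat.of k))] [CompactSpace X] [QuasiSeparatedSpace X]
    (φ : k →+* Γ(X, ⊤))
    (hφ : φ = ((Scheme.ΓSpecIso (CommRingCat.of k)).inv ≫
      (X ↘ Spec (CommRingCat.of k)).appTop).hom) :
    letI := φ.toAlgebra
    Nonempty (Γ(X, ⊤) ⊗[k] L ≃+* Γ(Curv2.bc k X L, ⊤)) := by
  letI := φ.toAlgebra
  let S := Spec (CommRingCat.of k)
  let T := Spec (CommRingCat.of L)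
  let f : T ⟶ S := Spec.map (CommRingCat.ofHom (algebraMap k L))
  let iX : X ⟶ S := X ↘ S
  have H : IsPullback (pullback.fst iX f) (pullback.snd iX f) iX f := IsPullback.of_hasPullback iX f
  haveI : Flat f := by
    rw [Flat.SpecMap_iff]
    simp only [CommRingCat.hom_ofHom]
    rw [RingHom.flat_algebraMap_iff]; infer_instance
  have hUST : (⊤ : T.Opens) ≤ f ⁻¹ᵁ (⊤ : S.Opens) := by simp
  have hUSX : (⊤ : X.Opens) ≤ iX ⁻¹ᵁ (⊤ : S.Opens) := by simp
  have hUY : (⊤ : (pullback iX f).Opens) =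
      (pullback.fst iX f) ⁻¹ᵁ ⊤ ⊓ (pullback.snd iX f) ⁻¹ᵁ ⊤ := by simp
  have hiso := isIso_pushoutSection_of_isQuasiSeparated_of_flat_right H hUST hUSX hUY
    (isAffineOpen_top S) (isAffineOpen_top T) (by simpa using isCompact_univ)
    (by simpa using isQuasiSeparated_univ)
  have P := (isIso_pushoutSection_iff H hUST hUSX hUY).mp hiso
  have P' : IsPushout (CommRingCat.ofHom (algebraMap k Γ(X, ⊤)))
      (CommRingCat.ofHom (algebraMap k L))
      ((pullback.fst iX f).appLE ⊤ ⊤ (by simp))
      ((Scheme.ΓSpecIso (CommRingCat.of L)).inv ≫ (pullback.snd iX f).appLE ⊤ ⊤ (by simp)) := by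
    refine P.of_iso (Scheme.ΓSpecIso (CommRingCat.of k)) (Iso.refl _)
      (Scheme.ΓSpecIso (CommRingCat.of L)) (Iso.refl _) ?_ ?_ ?_ ?_
    · have h1 : CommRingCat.ofHom (algebraMap k Γ(X, ⊤)) =
          (Scheme.ΓSpecIso (CommRingCat.of k)).inv ≫ iX.appTop := by
        rw [RingHom.algebraMap_toAlgebra, hφ]; rfl
      rw [h1, Iso.hom_inv_id_assoc, Iso.refl_hom, Category.comp_id, appLE_top_top]
    · rw [appLE_top_top]
      exact Scheme.ΓSpecIso_naturality (CommRingCat.ofHom (algebraMap k L))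
    · simp
    · simp
  have P0 := CommRingCat.isPushout_tensorProduct k Γ(X, ⊤) L
  exact ⟨(P0.isoIsPushout _ _ P').commRingCatIsoToRingEquiv⟩

theorem main
    (k : Type u) [Field k] (K : Type u) [Field K] [Algebra k K]
    (L : IntermediateField k K) [FiniteDimensional k L] [IsGalois k L]
    (X : Scheme.{u}) [X.Over (Spec (CommRingCat.of k))]
    [IsSeparated (X ↘ Spec (CommRingCat.of k))]
    [QuasiCompact (X ↘ Spec (CommRingCat.of k))]
    [ConnectedSpace X] (hdisc : ¬ ConnectedSpace ↥(Curv2.bc k X L))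
    (δ : X → ℤ) (j : ℤ) :
    QsChow.normSubgroup k K X δ j = ⊤ := by
  haveI : CompactSpace X :=
    QuasiCompact.compactSpace_of_compactSpace (X ↘ Spec (CommRingCat.of k))
  haveI : QuasiSeparatedSpace X :=
    quasiSeparatedSpace_of_quasiSeparated (X ↘ Spec (CommRingCat.of k))
  let φ : k →+* Γ(X, ⊤) := ((Scheme.ΓSpecIso (CommRingCat.of k)).inv ≫
    (X ↘ Spec (CommRingCat.of k)).appTop).hom
  letI algA : Algebra k Γ(X, ⊤) := φ.toAlgebra
  haveI hsurj : Surjective (Spec.map (CommRingCat.ofHom (algebraMap k L))) := by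
    have := (flat_and_surjective_SpecMap_iff (CommRingCat.ofHom (algebraMap k L))).mpr (by
      simp only [CommRingCat.hom_ofHom]
      rw [RingHom.faithfullyFlat_algebraMap_iff]; infer_instance)
    exact this.2
  haveI : Nonempty ↥(Curv2.bc k X L) := by
    obtain ⟨x⟩ := (inferInstance : Nonempty X)
    obtain ⟨y, -⟩ := (Curv2.bcFst k X L).surjective x
    exact ⟨y⟩
  obtain ⟨eY, heY, heY0, heY1⟩ := exists_idem (Curv2.bc k X L) hdisc
  obtain ⟨Ψ⟩ := tensor_equiv k L X φ rfl
  obtain ⟨H, hH, ⟨ψ⟩⟩ := Groth.Agent.Lib.Helper96.GaloisIdem.exists_subgroup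
    (k := k) (L := L) (A := Γ(X, ⊤))
    (idem_trivial X) (Ψ.symm eY) (by rw [← map_mul, heY])
    (fun h => heY0 (by simpa using congrArg Ψ h)) (fun h => heY1 (by simpa using congrArg Ψ h))
  let E : IntermediateField k L := IntermediateField.fixedField H
  let F : IntermediateField k K := IntermediateField.lift E
  haveI : FiniteDimensional k F :=
    Module.Finite.equiv (IntermediateField.liftAlgEquiv E).toLinearEquiv
  have hF : F ≠ ⊥ := by
    intro hbot
    apply hH
    have h1 : Module.finrank k F = H.index := by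
      rw [← (IntermediateField.liftAlgEquiv E).toLinearEquiv.finrank_eq,
        IntermediateField.finrank_eq_fixingSubgroup_index,
        IntermediateField.fixingSubgroup_fixedField]
    have h2 : Module.finrank k F = 1 := IntermediateField.finrank_eq_one_iff.mpr hbot
    exact Subgroup.index_eq_one.mp (h1 ▸ h2)
  let ψF : F →ₐ[k] Γ(X, ⊤) := ψ.comp (IntermediateField.liftAlgEquiv E).symm.toAlgHom
  let g : X ⟶ Spec (CommRingCat.of F) := X.toSpecΓ ≫ Spec.map (CommRingCat.ofHom ψF.toRingHom)
  have hg : g ≫ Spec.map (CommRingCat.ofHom (algebraMap k F)) = X ↘ Spec (CommRingCat.of k) := by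
    have h1 : CommRingCat.ofHom (algebraMap k F) ≫ CommRingCat.ofHom ψF.toRingHom =
        (Scheme.ΓSpecIso (CommRingCat.of k)).inv ≫ (X ↘ Spec (CommRingCat.of k)).appTop := by
      apply CommRingCat.hom_ext
      apply RingHom.ext
      intro r
      show ψF (algebraMap k F r) = φ r
      rw [AlgHom.commutes]; rfl
    rw [Category.assoc, ← Spec.map_comp, h1, Spec.map_comp, ← Scheme.toSpecΓ_naturality_assoc,
      ← SpecMap_ΓSpecIso_hom, ← Spec.map_comp, Iso.inv_hom_id, Spec.map_id, Category.comp_id]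
  exact Groth.Agent.S17745.main k K F hF X g hg δ j


/-- For a field extension K of k (separable algebraic) and a k-scheme X with weight function δ, call
norm subgroup of CH_j(X) the subgroup generated by the classes of the push-forwards to X of j-cycles
on the base changes X_F, over the intermediate fields F of K over k that are finite over k and
different from k (the quotient by it is the degree-j part of the conormed Chow group of X relative
to K over k). Let L be an intermediate field of K over k that is finite Galois over k, and let X be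
a smooth variety over k (smooth, separated and quasi-compact structure morphism) that is connected
and whose base change X_L is not connected. Then for every weight function δ on X (a dimension
function induced from weight 0 on Spec k) and every integer j the norm subgroup of CH_j(X) relative
to K over k is the whole Chow group: all conormed Chow groups of X vanish. -/
theorem result
    (k : Type u) [Field k] (K : Type u) [Field K] [Algebra k K] [Algebra.IsSeparable k K]
    (L : IntermediateField k K) [FiniteDimensional k L] [IsGalois k L]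
    (X : Scheme.{u}) [X.Over (Spec (CommRingCat.of k))]
    (hsm : Smooth (X ↘ Spec (CommRingCat.of k))) [IsSeparated (X ↘ Spec (CommRingCat.of k))]
    [QuasiCompact (X ↘ Spec (CommRingCat.of k))]
    [ConnectedSpace X] (hdisc : ¬ ConnectedSpace ↥(Curv2.bc k X L))
    (δ : X → ℤ) (hδ : Cyc.IsSetup X δ)
    (hcompat : Cyc.DeltaCompat (X ↘ Spec (CommRingCat.of k)) δ (fun _ => 0)) (j : ℤ) :
    QsChow.normSubgroup k K X δ j = ⊤ := by
  exact main k K L X hdisc δ j

end Groth.Agent.S17746
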