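import Groth.Statements.S1775
import Groth.Agent.Lib.Helper6.HomBC8

set_option autoImplicit false
universe u
open CategoryTheory
attribute [local instance] HasDerivedCategory.standard
open Dual

namespace Groth.Agent.S1775

/-- Let A be a Noetherian ring, S a multiplicative subset and ω a dualizing complex for A. Assuming the
derived base change functor D(A) → D(S⁻¹A) exists, the derived base change of ω is a dualizing
complex for S⁻¹A. -/
theorem result (A : Type u) [CommRing A] [IsNoetherianRing A] (S : Submonoid A) [DRing.HasLBaseChange (algebraMap A (Localization S))] (ω : Dual.D A) (hω : Dual.IsDualizing A ω) : Dual.IsDualizing (Localization S) ((DRing.LBaseChange (algebraMap A (Localization S))).obj ω) := by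
  have hflat : Module.Flat A (Localization S) := inferInstance
  have hN : IsNoetherianRing (Localization S) :=
    IsLocalization.isNoetherianRing S (Localization S) inferInstance
  have hcyc : ∀ J : Ideal (Localization S), ∃ (N : Type u) (_ : AddCommGroup N) (_ : Module A N)
      (_ : Module.Finite A N),
      Nonempty ((TensorProduct A (Localization S) N) ≃ₗ[Localization S] (Localization S ⧸ J)) := by
    intro J
    let I : Ideal A := J.comap (algebraMap A (Localization S))
    have hIJ : I.map (algebraMap A (Localization S)) = J := IsLocalization.map_comap S _ J
    refine ⟨A ⧸ I, inferInstance, inferInstance, inferInstance, ⟨?_⟩⟩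
    exact (Algebra.TensorProduct.quotIdealMapEquivTensorQuot (Localization S) I).symm.toLinearEquiv ≪≫ₗ
      Submodule.quotEquivOfEq _ _ hIJ
  have hG := Lib.Helper6.HomBC.isDualizing_G (B := Localization S) hcyc ω hω
  exact Lib.Helper6.HomBC.isDualizing_of_iso
    ((Lib.Helper6.HomBC.lbcIsoG A (Localization S)).app ω).symm hG

end Groth.Agent.S1775
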