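import Groth.Statements.S17750
import Mathlib
import Groth.Agent.Lib.Helper79.CanonUFDB
import Groth.Agent.S7703
import Groth.Agent.S7701
import Groth.Agent.S7708
import Groth.Agent.S0342
-- import your own Groth.Agent.* helpers here

set_option autoImplicit false
universe u
open Goren

namespace Groth.Agent.S17750

/-- Let B be a regular local ring and p a prime ideal of B such that the integral domain B ⧸ p is a
unique factorization domain. If the local ring B ⧸ p is Cohen–Macaulay then it is Gorenstein, i.e.
has finite injective dimension as a module over itself. (For a unique factorization domain that is a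
quotient of a regular local ring, Cohen–Macaulay and Gorenstein are equivalent; the converse
implication holds for every Noetherian local ring.) -/
theorem result (B : Type u) [CommRing B] [IsRegularLocalRing B] (p : Ideal B) [p.IsPrime] [UniqueFactorizationMonoid (B ⧸ p)] [LocCoh.IsCohenMacaulayLocalRing (B ⧸ p)] : LocCoh.IsGorensteinLocalRing (B ⧸ p) := by
  classical
  haveI : IsNoetherianRing (B ⧸ p) := inferInstance
  haveI : IsLocalRing (B ⧸ p) := inferInstance
  haveI : IsDomain (B ⧸ p) := Ideal.Quotient.isDomain p
  obtain ⟨n, hn⟩ := Groth.Agent.Lib.Helper79.CanonUFD.exists_ringKrullDim_eq (B ⧸ p)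
  obtain ⟨E, _, _, f, hf⟩ :=
    Groth.Agent.Lib.Helper79.CanonUFD.exists_injectiveHull_residueField (B ⧸ p)
  haveI : LocCoh.IsGorensteinLocalRing B := Groth.Agent.S0342.result B
  obtain ⟨K, hKfin, ⟨eK⟩⟩ := Groth.Agent.S7708.result (B ⧸ p) n hn E f hf B
    (Ideal.Quotient.mk p) Ideal.Quotient.mk_surjective
  haveI : Module.Finite (B ⧸ p) K := hKfin
  have hEnd := Groth.Agent.S7703.result (B ⧸ p) n hn E f hf K eK
  have hiso := Groth.Agent.Lib.Helper79.CanonUFD.nonempty_equiv_self n hn f hf eK hEnd
  exact (Groth.Agent.S7701.result (B ⧸ p) n hn E f hf K eK).mpr hiso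

end Groth.Agent.S17750
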