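import Groth.Statements.S17751
import Mathlib.RingTheory.Ideal.MinimalPrime.Noetherian
import Mathlib.RingTheory.Ideal.Operations
import Mathlib.Tactic
-- import your own Groth.Agent.* helpers here

set_option autoImplicit false
universe u
open CategoryTheory
open LocCoh

namespace Groth.Agent.S17751

theorem aux (R : Type u) [CommRing R] [IsNoetherianRing R] (I : Ideal R) (r : ℕ) :
    ∃ f : Fin r → R, (∀ i, f i ∈ I) ∧ ∀ (p : Ideal R) [p.IsPrime], p.height < r →
      Ideal.span (Set.range f) ≤ p → I ≤ p := by
  classical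
  induction r with
  | zero =>
    refine ⟨Fin.elim0, fun i => i.elim0, ?_⟩
    intro p _ hp
    simp at hp
  | succ r ih =>
    obtain ⟨f, hfI, hf⟩ := ih
    set J : Ideal R := Ideal.span (Set.range f) with hJ
    have hfin : {q : Ideal R | q ∈ Ideal.minimalPrimes J ∧ ¬ I ≤ q}.Finite :=
      (Ideal.finite_minimalPrimes_of_isNoetherianRing R J).subset (fun q hq => hq.1)
    set Q : Finset (Ideal R) := hfin.toFinset with hQ
    have hQmem : ∀ q, q ∈ Q ↔ q ∈ Ideal.minimalPrimes J ∧ ¬ I ≤ q := by
      intro q
      rw [hQ, Set.Finite.mem_toFinset]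
      rfl
    have havoid : ¬ ((I : Set R) ⊆ ⋃ q ∈ (Q : Set (Ideal R)), (q : Set R)) := by
      intro hsub
      have hprime : ∀ q ∈ Q, q ≠ (⊥ : Ideal R) → q ≠ (⊥ : Ideal R) → q.IsPrime := by
        intro q hq _ _
        exact ((hQmem q).mp hq).1.1.1
      obtain ⟨q, hq, hIq⟩ := (Ideal.subset_union_prime (f := fun q : Ideal R => q)
        (⊥ : Ideal R) (⊥ : Ideal R) hprime).mp hsub
      exact ((hQmem q).mp hq).2 hIq
    rw [Set.not_subset] at havoid
    obtain ⟨x, hxI, hxQ⟩ := havoid
    have hxq : ∀ q ∈ Q, x ∉ q := by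
      intro q hq hxq
      apply hxQ
      simp only [Set.mem_iUnion]
      exact ⟨q, hq, hxq⟩
    refine ⟨Fin.snoc f x, ?_, ?_⟩
    · intro i
      refine Fin.lastCases ?_ (fun j => ?_) i
      · simpa using hxI
      · simpa using hfI j
    · intro p hp hht hle
      by_contra hIp
      have hJp : J ≤ p := by
        rw [hJ, Ideal.span_le]
        rintro _ ⟨j, rfl⟩
        apply hle
        apply Ideal.subset_span
        exact ⟨j.castSucc, by simp⟩
      have hxp : x ∈ p := by
        apply hle
        apply Ideal.subset_span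
        exact ⟨Fin.last r, by simp⟩
      obtain ⟨q, hqmin, hqp⟩ := Ideal.exists_minimalPrimes_le hJp
      have hqprime : q.IsPrime := hqmin.1.1
      have hIq : ¬ I ≤ q := fun h => hIp (h.trans hqp)
      have hqQ : q ∈ Q := (hQmem q).mpr ⟨hqmin, hIq⟩
      have hxnq : x ∉ q := hxq q hqQ
      have hlt : q < p := lt_of_le_of_ne hqp (fun h => hxnq (h ▸ hxp))
      have hpfin : p.FiniteHeight := by
        rw [Ideal.finiteHeight_iff]
        right
        exact (lt_of_lt_of_le hht le_top).ne
      have hhtq : q.height < p.height := Ideal.height_strict_mono_of_isPrime_of_isPrime hlt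
      have hple : p.height ≤ r := by
        have : p.height < (r : ℕ∞) + 1 := by exact_mod_cast hht
        exact (ENat.lt_add_one_iff (ENat.natCast_ne_top r)).mp this
      have hqr : q.height < r := lt_of_lt_of_le hhtq hple
      exact hIq (hf q hqr hqmin.1.2)

/-- Suppose R is a Noetherian ring, r is a natural number, and I is an ideal of R. Then there are
elements f_1, …, f_r of I such that for every prime ideal p of R of height less than r, p contains I
if and only if p contains f_1, …, f_r. (For r = 0 there is nothing to prove.) -/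
theorem result (R : Type u) [CommRing R] [IsNoetherianRing R] (I : Ideal R) (r : ℕ) : ∃ f : Fin r → R, (∀ i, f i ∈ I) ∧ ∀ (p : Ideal R) [p.IsPrime], p.height < r → (I ≤ p ↔ Ideal.span (Set.range f) ≤ p) := by
  obtain ⟨f, hfI, hf⟩ := aux R I r
  refine ⟨f, hfI, ?_⟩
  intro p _ hp
  refine ⟨fun hIp => ?_, hf p hp⟩
  rw [Ideal.span_le]
  rintro _ ⟨j, rfl⟩
  exact hIp (hfI j)

end Groth.Agent.S17751
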