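import Groth.Statements.S17753
import Groth.Agent.S17751
-- import your own Groth.Agent.* helpers here

set_option autoImplicit false
universe u
open CategoryTheory
open LocCoh

namespace Groth.Agent.S17753

/-- Let R be a Noetherian local ring of Krull dimension d and I a proper ideal of R. Then there are d
elements f_1, …, f_d of I such that I and the ideal they generate have the same radical, so the
arithmetic rank of I is at most d. (The published statement has no properness hypothesis; for the
unit ideal of a field, d = 0 and no empty family generates the unit ideal up to radical, and the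
published proof uses that the maximal ideal contains I.) -/
theorem result (R : Type u) [CommRing R] [IsNoetherianRing R] [IsLocalRing R] (d : ℕ) (hd : ringKrullDim R = d) (I : Ideal R) (hI : I ≠ ⊤) : ∃ f : Fin d → R, (∀ i, f i ∈ I) ∧ I.radical = (Ideal.span (Set.range f)).radical := by
  obtain ⟨f, hfI, hf⟩ := Groth.Agent.S17751.result R I d
  refine ⟨f, hfI, ?_⟩
  have hfle : Ideal.span (Set.range f) ≤ I := by
    rw [Ideal.span_le]
    rintro _ ⟨j, rfl⟩
    exact hfI j
  have hmle : (IsLocalRing.maximalIdeal R).height ≤ (d : ℕ∞) := by
    have h1 : ((IsLocalRing.maximalIdeal R).height : WithBot ℕ∞) ≤ ringKrullDim R :=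
      Ideal.height_le_ringKrullDim_of_ne_top Ideal.IsPrime.ne_top'
    rw [hd] at h1
    exact_mod_cast h1
  have hmfin : (IsLocalRing.maximalIdeal R).FiniteHeight := by
    rw [Ideal.finiteHeight_iff]
    right
    exact (lt_of_le_of_lt hmle (ENat.natCast_lt_top d)).ne
  have key : ∀ (p : Ideal R) [p.IsPrime], I ≤ p ↔ Ideal.span (Set.range f) ≤ p := by
    intro p hp
    by_cases hpm : p = IsLocalRing.maximalIdeal R
    · subst hpm
      exact ⟨fun _ => hfle.trans (IsLocalRing.le_maximalIdeal hI),
        fun _ => IsLocalRing.le_maximalIdeal hI⟩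
    · have hlt : p < IsLocalRing.maximalIdeal R :=
        lt_of_le_of_ne (IsLocalRing.le_maximalIdeal Ideal.IsPrime.ne_top') hpm
      have hht : p.height < (IsLocalRing.maximalIdeal R).height :=
        Ideal.height_strict_mono_of_isPrime_of_isPrime hlt
      exact hf p (lt_of_lt_of_le hht hmle)
  rw [Ideal.radical_eq_sInf, Ideal.radical_eq_sInf]
  congr 1
  ext p
  constructor
  · rintro ⟨hIp, hp⟩
    exact ⟨(key p).mp hIp, hp⟩
  · rintro ⟨hfp, hp⟩
    exact ⟨(key p).mpr hfp, hp⟩

end Groth.Agent.S17753
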