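import Groth.Statements.S17754
import Mathlib.RingTheory.AdicCompletion.Noetherian
import Mathlib.RingTheory.HopkinsLevitzki
import Mathlib.RingTheory.LocalRing.Quotient
import Mathlib.RingTheory.Artinian.Module
import Mathlib.Tactic
-- import your own Groth.Agent.* helpers here

set_option autoImplicit false
universe u
open CategoryTheory
open LocCoh

namespace Groth.Agent.S17754

open IsLocalRing

theorem artinian_quot (R : Type u) [CommRing R] [IsNoetherianRing R] [IsLocalRing R] (k : ℕ)
    (hk : k ≠ 0) : IsArtinianRing (R ⧸ maximalIdeal R ^ k) := by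
  have hne : maximalIdeal R ^ k ≠ ⊤ := by
    intro h
    have h1 : maximalIdeal R ^ k ≤ maximalIdeal R := Ideal.pow_le_self hk
    rw [h] at h1
    exact (Ideal.IsPrime.ne_top' (I := maximalIdeal R)) (top_le_iff.mp h1)
  have : Nontrivial (R ⧸ maximalIdeal R ^ k) := Ideal.Quotient.nontrivial_iff.mpr hne
  have : IsLocalRing (R ⧸ maximalIdeal R ^ k) :=
    IsLocalRing.of_surjective' (Ideal.Quotient.mk _) Ideal.Quotient.mk_surjective
  have : IsLocalHom (Ideal.Quotient.mk (maximalIdeal R ^ k)) :=
    IsLocalHom.of_surjective (Ideal.Quotient.mk _) Ideal.Quotient.mk_surjective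
  rw [isArtinianRing_iff_isNilpotent_maximalIdeal]
  have hmap : (maximalIdeal R).map (Ideal.Quotient.mk (maximalIdeal R ^ k)) =
      maximalIdeal (R ⧸ maximalIdeal R ^ k) := by
    ext x
    obtain ⟨x, rfl⟩ := Ideal.Quotient.mk_surjective x
    simp [sup_eq_left.mpr (le_maximalIdeal hne)]
  refine ⟨k, ?_⟩
  rw [← hmap, ← Ideal.map_pow, Ideal.zero_eq_bot, Ideal.map_eq_bot_iff_le_ker, Ideal.mk_ker]

theorem stab (R : Type u) [CommRing R] [IsNoetherianRing R] [IsLocalRing R]
    (I : ℕ → Ideal R) (hI : Antitone I) (k : ℕ) :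
    ∃ t, ∀ s, t ≤ s → I s ⊔ maximalIdeal R ^ k = I t ⊔ maximalIdeal R ^ k := by
  by_cases hk : k = 0
  · subst hk
    exact ⟨0, fun s _ => by simp⟩
  · have := artinian_quot R k hk
    let f : ℕ →o (Ideal (R ⧸ maximalIdeal R ^ k))ᵒᵈ :=
      ⟨fun s => OrderDual.toDual ((I s).map (Ideal.Quotient.mk (maximalIdeal R ^ k))),
        fun a b hab => Ideal.map_mono (hI hab)⟩
    obtain ⟨t, ht⟩ := IsArtinian.monotone_stabilizes f
    refine ⟨t, fun s hs => ?_⟩
    have h1 : (I t).map (Ideal.Quotient.mk (maximalIdeal R ^ k)) =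
        (I s).map (Ideal.Quotient.mk (maximalIdeal R ^ k)) := ht s hs
    have h2 := congrArg (Ideal.comap (Ideal.Quotient.mk (maximalIdeal R ^ k))) h1
    rw [Ideal.comap_map_of_surjective _ Ideal.Quotient.mk_surjective,
      Ideal.comap_map_of_surjective _ Ideal.Quotient.mk_surjective,
      ← RingHom.ker_eq_comap_bot, Ideal.mk_ker] at h2
    exact h2.symm

/-- Krull: ideals of a Noetherian local ring are closed. -/
theorem krull_closed (R : Type u) [CommRing R] [IsNoetherianRing R] [IsLocalRing R]
    (J : Ideal R) (y : R) (hy : ∀ k, y ∈ J ⊔ maximalIdeal R ^ k) : y ∈ J := by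
  have hH : IsHausdorff (maximalIdeal R) (R ⧸ J) := inferInstance
  have h0 : (Ideal.Quotient.mk J y : R ⧸ J) = 0 := by
    apply hH.haus
    intro k
    rw [SModEq.zero]
    obtain ⟨a, ha, b, hb, rfl⟩ := Submodule.mem_sup.mp (hy k)
    have : (Ideal.Quotient.mk J (a + b) : R ⧸ J) = b • (Ideal.Quotient.mk J 1 : R ⧸ J) := by
      rw [map_add, Ideal.Quotient.eq_zero_iff_mem.mpr ha, zero_add]
      rw [Algebra.smul_def]
      simp
    rw [this]
    exact Submodule.smul_mem_smul hb Submodule.mem_top
  exact Ideal.Quotient.eq_zero_iff_mem.mp h0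

/-- Let R be a complete Noetherian local ring with maximal ideal m, and let I_0 ⊇ I_1 ⊇ I_2 ⊇ ⋯ be a
descending sequence of ideals of R whose intersection is zero. Then for every natural number n there
is an index s with I_s contained in m^n; that is, the filtration by the I_s is at least as fine as
the m-adic one. -/
theorem result (R : Type u) [CommRing R] [IsNoetherianRing R] [IsLocalRing R] [IsAdicComplete (IsLocalRing.maximalIdeal R) R] (I : ℕ → Ideal R) (hI : Antitone I) (hinf : ⨅ s, I s = ⊥) (n : ℕ) : ∃ s : ℕ, I s ≤ IsLocalRing.maximalIdeal R ^ n := by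
  classical
  set m := maximalIdeal R with hm
  -- stabilization indices
  choose t ht using stab R I hI
  set J : ℕ → Ideal R := fun k => I (t k) ⊔ m ^ k with hJ
  have J1 : ∀ k s, J k ≤ I s ⊔ m ^ k := by
    intro k s
    have h1 : I (max s (t k)) ⊔ m ^ k = I (t k) ⊔ m ^ k := ht k _ (le_max_right _ _)
    change I (t k) ⊔ m ^ k ≤ _
    rw [← h1]
    exact sup_le_sup_right (hI (le_max_left _ _)) _
  have J2 : ∀ k s, t k ≤ s → I s ⊔ m ^ k = J k := fun k s hs => ht k s hs
  have J3 : ∀ k, m ^ k ≤ J k := fun k => le_sup_right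
  have step : ∀ k y, y ∈ J k → ∃ z, z ∈ J (k + 1) ∧ y - z ∈ m ^ k := by
    intro k y hy
    set s := max (t k) (t (k + 1)) with hs
    rw [← J2 k s (le_max_left _ _)] at hy
    obtain ⟨a, ha, b, hb, rfl⟩ := Submodule.mem_sup.mp hy
    refine ⟨a, ?_, ?_⟩
    · rw [← J2 (k + 1) s (le_max_right _ _)]
      exact Ideal.mem_sup_left ha
    · simpa using hb
  -- main claim
  have main : ∀ x, x ∈ J n → x ∈ m ^ n := by
    intro x hx
    -- build the sequence
    let g : ℕ → R := fun j =>
      Nat.rec (motive := fun _ => R) x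
        (fun j y => if h : y ∈ J (n + j) then Classical.choose (step (n + j) y h) else 0) j
    have hg0 : g 0 = x := rfl
    have hgsucc : ∀ j, g (j + 1) =
        if h : g j ∈ J (n + j) then Classical.choose (step (n + j) (g j) h) else 0 := fun j => rfl
    have hgmem : ∀ j, g j ∈ J (n + j) := by
      intro j
      induction j with
      | zero => exact hx
      | succ j ih =>
        rw [hgsucc j, dif_pos ih]
        exact (Classical.choose_spec (step (n + j) (g j) ih)).1
    have hGstep : ∀ j, g j - g (j + 1) ∈ m ^ (n + j) := by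
      intro j
      rw [hgsucc j, dif_pos (hgmem j)]
      exact (Classical.choose_spec (step (n + j) (g j) (hgmem j))).2
    have hGtel : ∀ i d, g i - g (i + d) ∈ m ^ (n + i) := by
      intro i d
      induction d with
      | zero => simp
      | succ d ih =>
        have h1 : g i - g (i + (d + 1)) =
            (g i - g (i + d)) + (g (i + d) - g (i + d + 1)) := by
          rw [← add_assoc]; ring
        rw [h1]
        apply Ideal.add_mem _ ih
        exact Ideal.pow_le_pow_right (by omega) (hGstep (i + d))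
    set f : ℕ → R := fun k => g (k - n) with hf
    have hcauchy : ∀ {a b}, a ≤ b → f a ≡ f b [SMOD (m ^ a • ⊤ : Submodule R R)] := by
      intro a b hab
      rw [SModEq.sub_mem, smul_eq_mul, Ideal.mul_top]
      obtain ⟨d, hd⟩ : ∃ d, b - n = (a - n) + d := ⟨(b - n) - (a - n), by omega⟩
      change g (a - n) - g (b - n) ∈ m ^ a
      rw [hd]
      exact Ideal.pow_le_pow_right (by omega) (hGtel (a - n) d)
    obtain ⟨L, hL⟩ := IsPrecomplete.prec' (I := m) f hcauchy
    have hL' : ∀ k, f k - L ∈ m ^ k := by
      intro k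
      have := hL k
      rwa [SModEq.sub_mem, smul_eq_mul, Ideal.mul_top] at this
    have hLJ : ∀ k, n ≤ k → L ∈ J k := by
      intro k hk
      have h1 : f k ∈ J k := by
        have := hgmem (k - n)
        have e : n + (k - n) = k := by omega
        rw [e] at this
        exact this
      have h2 : L = f k - (f k - L) := by ring
      rw [h2]
      exact Ideal.sub_mem _ h1 (J3 k (hL' k))
    have hLI : ∀ s, L ∈ I s := by
      intro s
      apply krull_closed R (I s) L
      intro k
      by_cases hk : n ≤ k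
      · exact J1 k s (hLJ k hk)
      · have h1 : L ∈ I s ⊔ m ^ n := J1 n s (hLJ n le_rfl)
        have h2 : I s ⊔ m ^ n ≤ I s ⊔ m ^ k :=
          sup_le_sup_left (Ideal.pow_le_pow_right (show k ≤ n by omega)) (I s)
        exact h2 h1
    have hL0 : L = 0 := by
      have : L ∈ ⨅ s, I s := by
        rw [Ideal.mem_iInf]; exact hLI
      rw [hinf] at this
      exact this
    have := hL' n
    rw [hL0, sub_zero] at this
    have hfn : f n = x := by
      change g (n - n) = x
      rw [Nat.sub_self]
      exact hg0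
    rwa [hfn] at this
  refine ⟨t n, ?_⟩
  intro x hx
  exact main x (Ideal.mem_sup_left hx)

end Groth.Agent.S17754
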