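import Groth.Statements.S17765
import Groth.Agent.Lib.Helper73.RegularPd
import Groth.Agent.S0564

set_option autoImplicit false
universe u
open CategoryTheory
open LocCoh

namespace Groth.Agent.S17765

/-- Let B be a regular local ring, M a finitely generated B-module and p an associated prime ideal of M.
Then the height of p is at most the projective dimension of M: for every n such that M has
projective dimension at most n, ht p ≤ n. -/
theorem result (B : Type u) [CommRing B] [IsRegularLocalRing B] (M : Type u) [AddCommGroup M] [Module B M] [Module.Finite B M] (p : Ideal B) (hp : p ∈ associatedPrimes B M) (n : ℕ) (hn : HasProjectiveDimensionLE (ModuleCat.of B M) n) : p.height ≤ n := by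
  have hpp : p.IsPrime := hp.isPrime
  have hreg : IsRegularLocalRing (Localization.AtPrime p) := Groth.Agent.S0564.result B p
  have hdim : ringKrullDim (Localization.AtPrime p) = p.height :=
    IsLocalization.AtPrime.ringKrullDim_eq_height p _
  obtain ⟨d, hd⟩ : ∃ d : ℕ, p.height = d :=
    ENat.ne_top_iff_exists.mp (Ideal.height_ne_top_of_isPrime) |>.imp fun _ h => h.symm
  have hdim' : ringKrullDim (Localization.AtPrime p) = d := by rw [hdim, hd]; rfl
  have hk := Groth.Agent.S0563.pd_residueField (Localization.AtPrime p) d hdim'
  have hk' : ¬ HasProjectiveDimensionLT (ModuleCat.of (Localization.AtPrime p)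
      (IsLocalRing.ResidueField (Localization.AtPrime p))) d := by
    rw [← projectiveDimension_lt_iff,
      Groth.Agent.Lib.Helper73.RegularPd.projectiveDimension_residueField _ d hdim']
    exact lt_irrefl _
  have hass := Module.associatedPrimes.mem_associatedPrimes_atPrime_of_mem_associatedPrimes hp
  have hloc := ModuleCat.localizedModule_hasProjectiveDimensionLE n p.primeCompl
    (ModuleCat.of B M)
  have hN : HasProjectiveDimensionLT (ModuleCat.of (Localization.AtPrime p)
      (LocalizedModule p.primeCompl M)) (n + 1) :=
    @hasProjectiveDimensionLT_of_iso _ _ _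
      ((ModuleCat.of B M).localizedModule p.primeCompl) _
      (Shrink.linearEquiv.{u} (Localization.AtPrime p)
        (LocalizedModule p.primeCompl M)).toModuleIso (n + 1) hloc
  have := Groth.Agent.Lib.Helper73.RegularPd.le_of_mem_associatedPrimes (Localization.AtPrime p) d
    hk hk' (LocalizedModule p.primeCompl M) hass n hN
  rw [hd]
  exact_mod_cast this

end Groth.Agent.S17765
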