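import Groth.Statements.S17767
import Groth.Agent.S13224
import Groth.Agent.Lib.Helper39.GrStarLocal
import Groth.Agent.Lib.Helper39.LcMaxArtinian
import Groth.Agent.Lib.Helper39.GrArtPieces
import Groth.Agent.Lib.Helper39.GrQuasi

set_option autoImplicit false
universe u
open GrLC

namespace Groth.Agent.S17767

/-- Let R = ⊕_{n ≥ 0} R_n be a Noetherian positively ℤ-graded ring which is *local, i.e. has a unique
homogeneous maximal ideal m (equivalently R_0 is local), and let M be a finitely generated graded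
R-module. Then for every i the homogeneous pieces H^i_m(M)_n of the graded local cohomology with
support in m, computed from any *injective resolution of M in the graded category, are zero for all
sufficiently large n. -/
theorem result (R : Type u) [CommRing R] [IsNoetherianRing R] (𝒜 : ℤ → AddSubgroup R) [GradedRing 𝒜] (hpos : ∀ n : ℤ, n < 0 → 𝒜 n = ⊥) (m : HomogeneousIdeal 𝒜) (hm : GrLC.IsStarLocal 𝒜 m) (M : Type u) [AddCommGroup M] [Module R M] [Module.Finite R M] (ℳ : ℤ → AddSubgroup M) [DirectSum.Decomposition ℳ] [SetLike.GradedSMul 𝒜 ℳ] (E : GrLC.StarInjRes 𝒜 ℳ) (i : ℕ) : ∃ N : ℤ, ∀ n : ℤ, N ≤ n → E.Hcomp m i n = ⊥ := by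
  classical
  open Groth.Agent.Lib.Helper39 Groth.Agent.Lib.Helper39.GrRegVanish in
  haveI hmax : m.toIdeal.IsMaximal := Groth.Agent.Lib.Helper39.GrStarLocal.isMaximal hpos hm
  obtain ⟨e⟩ := Groth.Agent.S13224.result R 𝒜 m M ℳ E i
  haveI : IsArtinian R (LocCoh.H m.toIdeal i M) :=
    Groth.Agent.Lib.Helper39.LcMaxArtinian.locCohH_isArtinian m.toIdeal i M
  haveI : IsArtinian R (E.H m i) := isArtinian_of_linearEquiv e.symm
  letI dec := (Hgr_isInternal E m i).chooseDecomposition
  haveI gs : SetLike.GradedSMul 𝒜 (E.Hgr m i) := ⟨fun {d n} x y hx hy => by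
    have := smul_mem_Hgr E m i hx hy
    rw [vadd_eq_add, add_comm]
    exact this⟩
  obtain ⟨n₀, h⟩ := Groth.Agent.Lib.Helper39.GrQuasi.eventually_bot_of_isArtinian 𝒜 (E.Hgr m i) hpos
  refine ⟨n₀, fun n hn => ?_⟩
  rw [eq_bot_iff]
  intro y hy
  have hy' : y ∈ E.Hgr m i n := hy
  rw [h n hn] at hy'
  exact hy'


end Groth.Agent.S17767
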