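import Groth.Statements.S17771
import Groth.Agent.Lib.Helper39.GrAInvHilb2

set_option autoImplicit false
universe u
open GrLC

namespace Groth.Agent.S17771

/-- Let R = ⊕_{n ≥ 0} R_n be a positively ℤ-graded ring which is standard graded (irrelevant ideal
generated by R_1), with R_0 Artinian, *local with unique homogeneous maximal ideal m, and
Cohen–Macaulay of Krull dimension d. Then the a-invariant of R is at least −d: the end (largest
nonzero degree) of the graded local cohomology module H^d_m(R), computed from any *injective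
resolution of R in the graded category, is ≥ −d. (Equality holds exactly for polynomial rings
R_0[T_1, …, T_d]; that characterisation is not part of this statement.) -/
theorem result (R : Type u) [CommRing R] [LocCoh.IsCohenMacaulayRing R] (𝒜 : ℤ → AddSubgroup R) [GradedRing 𝒜] (hpos : ∀ n : ℤ, n < 0 → 𝒜 n = ⊥) (hstd : Ideal.span (⋃ n ∈ Set.Ioi (0 : ℤ), (𝒜 n : Set R)) = Ideal.span ((𝒜 1 : AddSubgroup R) : Set R)) [IsArtinianRing (GrLC.deg0 𝒜)] (m : HomogeneousIdeal 𝒜) (hm : GrLC.IsStarLocal 𝒜 m) (d : ℕ) (hd : ringKrullDim R = d) (I : GrLC.StarInjRes 𝒜 𝒜) : (((-(d : ℤ) : ℤ) : WithTop ℤ) : WithBot (WithTop ℤ)) ≤ GrLC.endDeg (I.Hgr m d) := by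
  classical
  open Groth.Agent.Lib.Helper39 Groth.Agent.Lib.Helper39.GrSerre in
  obtain ⟨P, ⟨N, hP⟩, hμ, -, hiff⟩ := GrAInvHilb.hilb_facts R 𝒜 hpos m hm d hd I hstd
  open Groth.Agent.Lib.Helper39 Groth.Agent.Lib.Helper39.GrSerre in
  have hex : ∃ n : ℤ, -(d : ℤ) ≤ n ∧ I.Hgr m d n ≠ ⊥ := by
    by_contra hcon
    push_neg at hcon
    have hPe : ∀ n : ℤ, -(d : ℤ) ≤ n → P.eval (n : ℚ) = hfun 𝒜 𝒜 n := by
      intro n hn
      by_contra hne
      exact (hiff n).mpr hne (hcon n hn)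
    have hP0 : P = 0 := by
      apply GrAInvHilb.eq_zero_of_roots P d hμ
      intro k hk
      have := hPe (-((k : ℤ) + 1)) (by omega)
      rw [GrAInvHilb.hfun_neg R 𝒜 hpos _ (by omega)] at this
      push_cast at this
      exact this
    have h0 := hPe 0 (by omega)
    rw [hP0, Polynomial.eval_zero] at h0
    have hbot : 𝒜 0 = ⊥ := eq_bot_of_hfun_eq_zero hpos h0.symm
    have h1 : (1 : R) ∈ 𝒜 0 := SetLike.GradedOne.one_mem
    rw [hbot, AddSubgroup.mem_bot] at h1
    have : m.toIdeal = ⊤ := (Ideal.eq_top_iff_one _).mpr (by rw [h1]; exact zero_mem _)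
    exact (GrStarLocal.isMaximal hpos hm).ne_top this
  obtain ⟨n, hn, hne⟩ := hex
  unfold GrLC.endDeg
  calc (((-(d : ℤ) : ℤ) : WithTop ℤ) : WithBot (WithTop ℤ))
      ≤ ((n : WithTop ℤ) : WithBot (WithTop ℤ)) :=
        WithBot.coe_le_coe.mpr (WithTop.coe_le_coe.mpr hn)
    _ ≤ _ := le_iSup₂ (f := fun (n : ℤ) (_ : I.Hgr m d n ≠ ⊥) =>
        ((n : WithTop ℤ) : WithBot (WithTop ℤ))) n hne

end Groth.Agent.S17771
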