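import Groth.Statements.S17773
import Groth.Agent.Lib.Helper15.AcyclicRes
import Groth.Agent.S3527

set_option autoImplicit false
universe u
open CategoryTheory CategoryTheory.Limits
open CAlg

namespace Groth.Agent.S17773

/-- Let R be a commutative ring, M and N two R-modules, and F a flat resolution of M: a chain complex F
of flat R-modules concentrated in non-negative degrees together with a quasi-isomorphism from F to M
placed in degree 0. Then for every i ≥ 0 the i-th homology module of the complex F ⊗_R N is
isomorphic to Tor_i^R(M, N), the i-th left derived functor of − ⊗_R N evaluated at M (existence of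
an isomorphism of R-modules). -/
theorem result (R : Type u) [CommRing R] (M N : Type u) [AddCommGroup M] [Module R M] [AddCommGroup N] [Module R N] (F : ChainComplex (ModuleCat.{u} R) ℕ) (hF : ∀ i : ℕ, Module.Flat R (F.X i)) (φ : F ⟶ (ChainComplex.single₀ (ModuleCat.{u} R)).obj (ModuleCat.of R M)) [QuasiIso φ] (i : ℕ) : Nonempty ((((MonoidalCategory.tensorRight (ModuleCat.of R N)).mapHomologicalComplex (ComplexShape.down ℕ)).obj F).homology i ≅ ((Tor' (ModuleCat.{u} R) i).obj (ModuleCat.of R M)).obj (ModuleCat.of R N)) := by
  let G : ModuleCat.{u} R ⥤ ModuleCat.{u} R := MonoidalCategory.tensorRight (ModuleCat.of R N)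
  let G' : ModuleCat.{u} R ⥤ ModuleCat.{u} R := MonoidalCategory.tensorLeft (ModuleCat.of R N)
  let e : G' ≅ G := BraidedCategory.tensorLeftIsoTensorRight (ModuleCat.of R N)
  have hiso : ∀ n : ℕ, G'.leftDerived n ≅ G.leftDerived n := fun n =>
    { hom := NatTrans.leftDerived e.hom n
      inv := NatTrans.leftDerived e.inv n
      hom_inv_id := by
        rw [← NatTrans.leftDerived_comp, e.hom_inv_id, NatTrans.leftDerived_id]
      inv_hom_id := by
        rw [← NatTrans.leftDerived_comp, e.inv_hom_id, NatTrans.leftDerived_id] }
  have hac : ∀ n p, IsZero ((G.leftDerived (p + 1)).obj (F.X n)) := by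
    intro n p
    have := hF n
    have h := (Groth.Agent.S3527.result R (F.X n) N (p + 1) (Nat.succ_pos p)).2
    have hz : IsZero ((G'.leftDerived (p + 1)).obj (F.X n)) :=
      @ModuleCat.isZero_of_subsingleton _ _ _ h
    exact hz.of_iso ((hiso (p + 1)).app (F.X n)).symm
  exact Groth.Agent.Lib.Helper15.AcyclicRes.homology_iso_leftDerived F G (ModuleCat.of R M) φ hac i

end Groth.Agent.S17773
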