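import Groth.Statements.S17774
import Mathlib
import Groth.Agent.Lib.Helper79.LocalDualityF
-- import your own Groth.Agent.* helpers here

set_option autoImplicit false
universe u
open CategoryTheory Opposite
open LocCoh

namespace Groth.Agent.S17774

/-- Let (S, n) be a Gorenstein local ring, I an ideal of S of height g such that R = S ⧸ I is a
Cohen–Macaulay local ring, of Krull dimension d, and E an injective hull of the residue field of S.
Then the canonical module of R is Ext^g_S(R, S), in the following sense: the Matlis dual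
Hom_S(Ext^g_S(R, S), E) is isomorphic as an S-module to the top local cohomology H^d_n(R) of R
regarded as an S-module (existence of an S-linear isomorphism; Hom into E over S and local
cohomology with support in n agree with the corresponding notions over R for R-modules). -/
theorem result (S : Type u) [CommRing S] [LocCoh.IsGorensteinLocalRing S] (I : Ideal S) (g : ℕ) (hg : I.height = g) [LocCoh.IsCohenMacaulayLocalRing (S ⧸ I)] (d : ℕ) (hd : ringKrullDim (S ⧸ I) = d) (E : Type u) [AddCommGroup E] [Module S E] (f : IsLocalRing.ResidueField S →ₗ[S] E) (hf : InjHull.IsInjectiveHull f) : Nonempty ((((Ext S (ModuleCat.{u} S) g).obj (op (ModuleCat.of S (S ⧸ I)))).obj (ModuleCat.of S S) →ₗ[S] E) ≃ₗ[S] LocCoh.H (IsLocalRing.maximalIdeal S) d (S ⧸ I)) := by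
  classical
  have hCM : LocCoh.IsCohenMacaulayLocalRing S := Groth.Agent.S0341.result S
  -- `dim S` is a natural number
  obtain ⟨s, hs⟩ : ∃ s : ℕ, ringKrullDim S = s := by
    have h1 : ringKrullDim S ≠ ⊥ := by
      have : (0 : WithBot ℕ∞) ≤ ringKrullDim S := ringKrullDim_nonneg_of_nontrivial
      intro h; rw [h] at this; exact absurd this (by simp)
    have h2 : ringKrullDim S ≠ ⊤ :=
      (Groth.Agent.Lib.Helper29.ringKrullDim_lt_top_of_finite_maximalSpectrum S).ne
    exact Groth.Agent.Lib.Helper29.exists_nat_eq_of_ne_bot_of_ne_top h1 h2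
  -- `I ≠ ⊤`
  have hItop : I ≠ ⊤ := by
    have : Nontrivial (S ⧸ I) := inferInstance
    exact Ideal.Quotient.nontrivial_iff.mp this
  -- the dimension formula `g + d = s`
  have hsum : g + d = s := by
    have h1 := Groth.Agent.Lib.Helper29.supportDim_eq_add_idealDepth_of_isCohenMacaulayModule S I
      hItop S hCM.supportDim_eq_depth
    have hq : Module.supportDim S (S ⧸ (I • (⊤ : Submodule S S))) = ringKrullDim (S ⧸ I) := by
      have hI' : (I • (⊤ : Submodule S S)) = I := by rw [smul_eq_mul, Ideal.mul_top]
      rw [Module.supportDim_eq_of_equiv (Submodule.quotEquivOfEq _ _ hI'),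
        Module.supportDim_quotient_eq_ringKrullDim]
    rw [Module.supportDim_self_eq_ringKrullDim, hq, hs, hd] at h1
    have h2 := Groth.Agent.Lib.Helper79.DSeqPrime.height_add_ringKrullDim_quotient_le I
    rw [hg, hd, hs] at h2
    have h2' : g + d ≤ s := by exact_mod_cast h2
    -- `depth_I S ≤ ht I`
    have h3 : LocCoh.idealDepth I S ≤ (g : ℕ∞) := by
      obtain ⟨P, hP, hIP, hPg⟩ := Ideal.exists_isPrime_height_eq hg
      unfold LocCoh.idealDepth
      have hne : ¬ (I • (⊤ : Submodule S S) = ⊤) := by
        rw [smul_eq_mul, Ideal.mul_top]; exact hItop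
      rw [if_neg hne]
      apply iSup₂_le
      intro rs hrs
      rw [← hPg]
      exact Groth.Agent.Lib.Helper82.CISpreadA.length_le_height_of_isWeaklyRegular rs hrs.1 P
        (fun r hr => hIP (hrs.2 r hr))
    have hne : LocCoh.idealDepth I S ≠ ⊤ := fun h => by rw [h] at h3; simp at h3
    obtain ⟨e, he⟩ := ENat.ne_top_iff_exists.mp hne
    rw [← he] at h1 h3
    have h1' : s = d + e := by exact_mod_cast h1
    have h3' : e ≤ g := by exact_mod_cast h3
    omega
  have hds : d ≤ s := by omega
  have hsd : s - d = g := by omega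
  obtain ⟨e1⟩ := Groth.Agent.Lib.Helper79.LocalDuality.nonempty_linearEquiv_of_isGorensteinLocalRing
    S s hs (S ⧸ I) d hds
  rw [hsd] at e1
  obtain ⟨f', hf'⟩ := Groth.Agent.S11665.result S s hs
  obtain ⟨eD, -⟩ := Groth.Agent.Lib.Helper2.IsInjectiveHull.exists_equiv hf' hf
  let eB := Groth.Agent.Lib.Helper60.extBridge (ModuleCat.of S (S ⧸ I)) g (ModuleCat.of S S)
  exact ⟨(e1.trans (LinearEquiv.arrowCongr eB.symm eD)).symm⟩

end Groth.Agent.S17774
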