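import Groth.Statements.S17775
import Groth.Agent.Lib.Helper47.CechTop
import Groth.Agent.S11623
import Groth.Agent.S11665
import Groth.Agent.Lib.Helper47.ExtCechH0

set_option autoImplicit false
universe u
open BigOperators
open Goren

namespace Groth.Agent.S17775

open CategoryTheory CategoryTheory.Limits
open Groth.Agent.Lib.Helper47 Groth.Agent.Lib.Helper47.CechTop

section Helpers1

open Groth.Agent.Lib.Helper47

variable {R : Type u} [CommRing R]

theorem injective_of_linearEquiv' {M N : Type u} [AddCommGroup M] [Module R M] [AddCommGroup N]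
    [Module R N] (e : M ≃ₗ[R] N) (h : Module.Injective R M) : Module.Injective R N :=
  Module.Baer.injective (Module.Baer.of_equiv e (Module.Baer.of_injective h))

theorem isInjectiveHull_of_equiv {k H Q : Type u} [AddCommGroup k] [Module R k]
    [AddCommGroup H] [Module R H] [AddCommGroup Q] [Module R Q] (g₀ : k →ₗ[R] H)
    (hg : InjHull.IsInjectiveHull g₀) (ε : H ≃ₗ[R] Q) :
    InjHull.IsInjectiveHull (ε.toLinearMap ∘ₗ g₀) where
  injective := ε.injective.comp hg.injective
  essential := by
    intro N hN
    have h1 : N.comap ε.toLinearMap ≠ ⊥ := by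
      intro h0
      apply hN
      rw [eq_bot_iff]
      intro y hy
      have : ε.symm y ∈ N.comap ε.toLinearMap := by
        rw [Submodule.mem_comap]; simpa using hy
      rw [h0, Submodule.mem_bot] at this
      rw [Submodule.mem_bot, ← ε.apply_symm_apply y, this, map_zero]
    have h2 := hg.essential _ h1
    intro h0
    apply h2
    rw [eq_bot_iff]
    rintro z ⟨hz1, hz2⟩
    have : ε z ∈ N ⊓ LinearMap.range (ε.toLinearMap ∘ₗ g₀) := by
      refine ⟨hz1, ?_⟩
      obtain ⟨c, rfl⟩ := hz2
      exact ⟨c, rfl⟩
    rw [h0, Submodule.mem_bot] at this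
    rw [Submodule.mem_bot]
    exact ε.injective (this.trans (map_zero _).symm)
  isInjective := injective_of_linearEquiv' ε hg.isInjective

/-- The span in the statement is `fracSpan`. -/
theorem span_eq_fracSpan (d : ℕ) (x : Fin d → R) :
    Submodule.span R {y : Localization.Away (∏ i, x i) | ∃ (i : Fin d) (n : ℕ),
      y = algebraMap R (Localization.Away (∏ i, x i)) (x i ^ n) *
        IsLocalization.Away.invSelf (∏ i, x i) ^ n} =
    fracSpan (List.ofFn x) (Algebra.linearMap R (Localization.Away (∏ i, x i))) := by
  unfold fracSpan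
  congr 1
  ext y
  simp only [Set.mem_ofPred_eq, List.mem_ofFn, List.prod_ofFn]
  have hinv : ∀ n : ℕ, algebraMap R (Localization.Away (∏ i, x i)) ((∏ i, x i) ^ n) *
      IsLocalization.Away.invSelf (∏ i, x i) ^ n = 1 := by
    intro n
    rw [map_pow, ← mul_pow, IsLocalization.Away.mul_invSelf, one_pow]
  constructor
  · rintro ⟨i, n, rfl⟩
    refine ⟨x i, ⟨i, rfl⟩, n, ?_⟩
    rw [Algebra.smul_def, Algebra.linearMap_apply, mul_comm _ (IsLocalization.Away.invSelf _ ^ n),
      ← mul_assoc, hinv, one_mul]
  · rintro ⟨_, ⟨i, rfl⟩, n, hn⟩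
    refine ⟨i, n, ?_⟩
    rw [Algebra.linearMap_apply] at hn
    rw [← hn, Algebra.smul_def, mul_comm _ y, mul_assoc, hinv, mul_one]

end Helpers1

section Helpers2

open Groth.Agent.Lib.Helper47

variable {R : Type u} [CommRing R]

/-- The top extended Cech cohomology is the top local cohomology at the maximal ideal, for a
system of parameters. -/
theorem nonempty_top_equiv [IsNoetherianRing R] [IsLocalRing R] (d : ℕ) (x : Fin d → R)
    (hx : (Ideal.span (Set.range x)).radical = IsLocalRing.maximalIdeal R) :
    Nonempty ((DerCA.extCech (ModuleCat.of R R) (List.ofFn x)).homology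
        ((List.ofFn x).length : ℤ) ≃ₗ[R] LocCoh.H (IsLocalRing.maximalIdeal R) d R) := by
  have hlen : (List.ofFn x).length = d := List.length_ofFn
  have hset : ∀ fs : List R, fs = List.ofFn x → {y | y ∈ fs} = Set.range x := by
    rintro _ rfl
    ext y
    simp [List.mem_ofFn]
  rcases Nat.eq_zero_or_pos d with hd0 | hdpos
  · subst hd0
    -- `d = 0`: use the list `[0]`
    have h1 : List.ofFn x = [] := by simp
    rw [h1]
    obtain ⟨ι, hι, hr⟩ := exists_injective_extCechH_zero (ModuleCat.of R R) [(0 : R)]
    have hsurj : Function.Surjective ι := by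
      rw [← LinearMap.range_eq_top, hr, eq_top_iff]
      intro m _
      rw [mem_powTorsionList]
      intro f hf
      rw [List.mem_singleton] at hf
      exact ⟨1, by rw [hf, pow_one, zero_smul]⟩
    let e0 : DerCA.extCechH [(0 : R)] (ModuleCat.of R R) 0 ≃ₗ[R] R :=
      LinearEquiv.ofBijective ι ⟨hι, hsurj⟩
    let i1 : (DerCA.extCech (ModuleCat.of R R) []).homology ((([] : List R).length : ℕ) : ℤ) ≅
        ModuleCat.of R R :=
      (HomologicalComplex.singleObjHomologySelfIso (ComplexShape.up ℤ) 0 (ModuleCat.of R R))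
    obtain ⟨i2⟩ := Groth.Agent.S11623.result R [(0 : R)] (by simp) R 0
    have hrad : (Ideal.span {y : R | y ∈ [(0 : R)]}).radical =
        (IsLocalRing.maximalIdeal R).radical := by
      rw [Ideal.IsPrime.radical (IsLocalRing.maximalIdeal.isMaximal R).isPrime, ← hx]
      congr 1
      have : Set.range x = ∅ := Set.range_eq_empty x
      rw [this, Ideal.span_empty]
      have : {y : R | y ∈ [(0 : R)]} = {0} := by ext y; simp
      rw [this, Ideal.span_singleton_eq_bot.mpr rfl]
    let i3 := (localCohomology.isoOfSameRadical hrad 0).app (ModuleCat.of R R)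
    exact ⟨i1.toLinearEquiv.trans (e0.symm.trans ((i2 ≪≫ i3).toLinearEquiv))⟩
  · have hne : List.ofFn x ≠ [] := by
      intro h
      have := congrArg List.length h
      rw [hlen] at this
      simp at this
      omega
    obtain ⟨i2⟩ := Groth.Agent.S11623.result R (List.ofFn x) hne R d
    have hrad : (Ideal.span {y : R | y ∈ List.ofFn x}).radical =
        (IsLocalRing.maximalIdeal R).radical := by
      rw [Ideal.IsPrime.radical (IsLocalRing.maximalIdeal.isMaximal R).isPrime, ← hx,
        hset _ rfl]
    let i3 := (localCohomology.isoOfSameRadical hrad d).app (ModuleCat.of R R)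
    let i1 : (DerCA.extCech (ModuleCat.of R R) (List.ofFn x)).homology
        ((List.ofFn x).length : ℤ) ≅
        (DerCA.extCech (ModuleCat.of R R) (List.ofFn x)).homology (d : ℤ) :=
      eqToIso (by rw [hlen])
    exact ⟨(i1 ≪≫ i2 ≪≫ i3).toLinearEquiv⟩

end Helpers2


/-- Let R be a Gorenstein local ring of Krull dimension d with maximal ideal m and residue field k, and
let x_1, …, x_d be a system of parameters of R, i.e. d elements generating an ideal whose radical is
m. Put t = x_1 ⋯ x_d. Then the R-module R_t ⧸ Σ_i R_{x_1⋯x̂_i⋯x_d}, realised as the quotient of the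
localization R_t by the R-submodule spanned by the fractions x_i^n / t^n (i = 1, …, d, n ≥ 0), is an
injective hull of k: some R-linear map from k into it is an injective hull. -/
theorem result (R : Type u) [CommRing R] [LocCoh.IsGorensteinLocalRing R] (d : ℕ) (hd : ringKrullDim R = d) (x : Fin d → R) (hx : (Ideal.span (Set.range x)).radical = IsLocalRing.maximalIdeal R) : ∃ f : IsLocalRing.ResidueField R →ₗ[R] (Localization.Away (∏ i, x i) ⧸ Submodule.span R {y : Localization.Away (∏ i, x i) | ∃ (i : Fin d) (n : ℕ), y = algebraMap R (Localization.Away (∏ i, x i)) (x i ^ n) * IsLocalization.Away.invSelf (∏ i, x i) ^ n}), InjHull.IsInjectiveHull f := by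
  classical
  have hprod : (List.ofFn x).prod = ∏ i, x i := List.prod_ofFn
  haveI : IsLocalizedModule (Submonoid.powers (List.ofFn x).prod)
      (Algebra.linearMap R (Localization.Away (∏ i, x i))) := by
    rw [hprod]; infer_instance
  obtain ⟨ψ, hψs, hψk⟩ := exists_surjective_top (List.ofFn x)
    (Localization.Away (∏ i, x i)) (Algebra.linearMap R (Localization.Away (∏ i, x i)))
  rw [← span_eq_fracSpan] at hψk
  obtain ⟨e2⟩ := nonempty_top_equiv d x hx
  obtain ⟨g₀, hg₀⟩ := Groth.Agent.S11665.result R d hd
  let e1 := (Submodule.quotEquivOfEq _ _ hψk.symm).trans (ψ.quotKerEquivOfSurjective hψs)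
  exact ⟨_, isInjectiveHull_of_equiv g₀ hg₀ (e1.trans e2).symm⟩

end Groth.Agent.S17775
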