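import Groth.Statements.S9266
import Groth.Agent.Lib.Helper47.ExtCechSmul

set_option autoImplicit false
universe u
attribute [local instance] HasDerivedCategory.standard
open CategoryTheory
open DerCA

namespace Groth.Agent.S9266

/-- If some element f of the ideal (f_1, ..., f_r) acts invertibly on the module M, then the extended
alternating Cech complex of M with respect to f_1, ..., f_r has zero cohomology in every degree. -/
theorem result (R : Type u) [CommRing R] (fs : List R)
    (M : ModuleCat.{u} R) (f : R) (hf : f ∈ Ideal.span {a : R | a ∈ fs})
    (hbij : Function.Bijective (fun m : M => f • m)) (q : ℤ) :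
    Limits.IsZero (DerCA.extCechH fs M q) := by
  rw [ModuleCat.isZero_iff_subsingleton]
  refine ⟨fun x y => ?_⟩
  have hinj := (Groth.Agent.Lib.Helper47.bijective_smul_extCechH f M hbij fs q).1
  -- every element is killed by a power of `f`
  have key : ∀ z : DerCA.extCechH fs M q, z = 0 := by
    intro z
    have h1 : Ideal.span {a : R | a ∈ fs} ≤ (Module.annihilator R (Submodule.span R {z})).radical := by
      rw [Ideal.span_le]
      intro a ha
      obtain ⟨n, hn⟩ := Groth.Agent.Lib.Helper47.exists_pow_smul_extCechH_eq_zero M fs a ha q z
      refine ⟨n, ?_⟩
      rw [Submodule.mem_annihilator_span_singleton]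
      exact hn
    obtain ⟨N, hN⟩ := h1 hf
    rw [Submodule.mem_annihilator_span_singleton] at hN
    have hinjN : ∀ k : ℕ, ∀ w : DerCA.extCechH fs M q, f ^ k • w = 0 → w = 0 := by
      intro k
      induction k with
      | zero => intro w hw; simpa using hw
      | succ k ih =>
        intro w hw
        apply ih
        rw [pow_succ', mul_smul] at hw
        apply hinj
        change f • (f ^ k • w) = f • 0
        rw [hw, smul_zero]
    exact hinjN N z hN
  rw [key x, key y]

end Groth.Agent.S9266
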