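import Groth.Statements.S17779
import Mathlib.Algebra.Group.ForwardDiff
import Mathlib.Tactic

set_option autoImplicit false
open DRR

namespace Groth.Agent.S17779

private theorem two_mul_choose_two (m : ℕ) : ((m.choose 2 : ℕ) : ℤ) * 2 = (m : ℤ) * ((m : ℤ) - 1) := by
  induction m with
  | zero => simp
  | succ m ih =>
    rw [Nat.choose_succ_succ' m 1]
    push_cast
    rw [add_mul, ih]
    simp
    ring

open Finset fwdDiff Function in
private theorem fwdDiff_pow_succ_zero (n : ℕ) :
    (fwdDiff (1:ℤ))^[n] (fun (r : ℤ) ↦ r ^ (n + 1)) 0 = (((n + 1).choose 2 * n.factorial : ℕ) : ℤ) := by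
  induction n with
  | zero => simp
  | succ n IH =>
    have : (fwdDiff (1:ℤ) fun (r : ℤ) ↦ r ^ (n + 2)) =
      ∑ i ∈ range (n + 2), (n + 2).choose i • fun r ↦ r ^ i := by
      ext x
      simp [nsmul_eq_mul, fwdDiff, add_pow, sum_range_succ, mul_comm]
    rw [iterate_succ_apply, this, fwdDiff_iter_finsetSum]
    simp_rw [fwdDiff_iter_const_smul]
    rw [sum_range_succ, sum_range_succ, sum_eq_zero (fun i hi ↦ ?_), zero_add]
    · simp only [Pi.add_apply, Pi.smul_apply, IH, fwdDiff_iter_eq_factorial]
      have h1 : (n + 2).choose n = (n + 2).choose 2 :=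
        Nat.choose_symm_of_eq_add rfl
      have h2 : (n + 2).choose (n + 1) = n + 2 := by
        rw [Nat.choose_symm_of_eq_add (show n + 2 = (n + 1) + 1 by ring)]; simp
      rw [h1, h2]
      simp only [Nat.factorial_succ]
      simp only [nsmul_eq_mul, Pi.natCast_apply]
      have e1 := two_mul_choose_two (n + 2)
      have e2 := two_mul_choose_two (n + 1)
      have e3 := two_mul_choose_two (n + 1 + 1)
      have : (2:ℤ) ≠ 0 := by norm_num
      apply mul_left_cancel₀ this
      push_cast at e1 e2 e3 ⊢
      linear_combination (n.factorial : ℤ) * e1 + ((n:ℤ) + 2) * (n.factorial : ℤ) * e2 - ((n:ℤ) + 1) * (n.factorial : ℤ) * e3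
    · rw [fwdDiff_iter_pow_eq_zero_of_lt (mem_range.mp hi), smul_zero]

/-- For natural numbers n and k with k ≤ n + 1, the alternating sum over j = 0, …, n of (−1)^(n−j) C(n,
j) j^k (with the convention 0^0 = 1) equals n! · n(n+1)/2 when k = n + 1, equals n! when k = n, and
vanishes when k < n. (The published statement takes n ≥ 1 and divides through by n!; the case n = 0
holds as well and is included.) -/
theorem result (n k : ℕ) (hk : k ≤ n + 1) :
    (∑ j ∈ Finset.range (n + 1), (-1 : ℤ) ^ (n - j) * (n.choose j : ℤ) * (j : ℤ) ^ k) =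
      (if k = n + 1 then (((n + 1).choose 2 * n.factorial : ℕ) : ℤ)
        else if k = n then (n.factorial : ℤ) else 0) := by
  have key := fwdDiff_iter_eq_sum_shift (1:ℤ) (fun (r : ℤ) ↦ r ^ k) n 0
  simp only [smul_eq_mul, mul_one, zero_add, nsmul_eq_mul] at key
  rw [← key]
  split_ifs with h1 h2
  · subst h1
    exact fwdDiff_pow_succ_zero n
  · subst h2
    rw [fwdDiff_iter_eq_factorial]
    simp
  · rw [fwdDiff_iter_pow_eq_zero_of_lt (by omega)]
    simp

end Groth.Agent.S17779
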