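import Groth.Statements.S1778
import Groth.Agent.Lib.Helper6.InjDimMax3

set_option autoImplicit false
universe u
open CategoryTheory
attribute [local instance] HasDerivedCategory.standard
open Dual

namespace Groth.Agent.S1778

/-- Let A → B be a flat homomorphism of Noetherian rings and I an ideal of A such that A → B/IB is
surjective with kernel I (so A/I = B/IB) and IB lies in the Jacobson radical of B. Assuming the
derived base change functor D(A) → D(B) exists, the base change of a dualizing complex ω of A is a
dualizing complex for B. -/
theorem result (A B : Type u) [CommRing A] [CommRing B] [Algebra A B] [IsNoetherianRing A] [IsNoetherianRing B] [Module.Flat A B] (I : Ideal A) (hs : Function.Surjective ((Ideal.Quotient.mk (I.map (algebraMap A B))).comp (algebraMap A B))) (hk : RingHom.ker ((Ideal.Quotient.mk (I.map (algebraMap A B))).comp (algebraMap A B)) = I) (hJ : I.map (algebraMap A B) ≤ (⊥ : Ideal B).jacobson) [DRing.HasLBaseChange (algebraMap A B)] (ω : Dual.D A) (hω : Dual.IsDualizing A ω) : Dual.IsDualizing B ((DRing.LBaseChange (algebraMap A B)).obj ω) := by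
  have hflat : Module.Flat A B := inferInstance
  have hmaxN : ∀ n : Ideal B, n.IsMaximal → ∃ (N : Type u) (_ : AddCommGroup N) (_ : Module A N)
      (_ : Module.Finite A N), Nonempty ((TensorProduct A B N) ≃ₗ[B] (B ⧸ n)) := by
    intro n hn
    let p : Ideal A := n.comap (algebraMap A B)
    have hIn : I.map (algebraMap A B) ≤ n := by
      refine hJ.trans ?_
      rw [Ideal.jacobson_bot]
      exact Ring.jacobson_le_of_isMaximal n
    have hIp : I ≤ p := by
      intro a ha
      exact hIn (Ideal.mem_map_of_mem _ ha)
    have hpn : p.map (algebraMap A B) = n := by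
      apply le_antisymm
      · exact Ideal.map_comap_le
      · intro x hx
        obtain ⟨a, ha⟩ := hs (Ideal.Quotient.mk _ x)
        have h1 : algebraMap A B a - x ∈ I.map (algebraMap A B) := by
          rw [← Ideal.Quotient.eq]
          exact ha
        have h2 : algebraMap A B a ∈ n := by
          have := n.add_mem (hIn h1) hx
          simpa using this
        have h3 : algebraMap A B a ∈ p.map (algebraMap A B) := Ideal.mem_map_of_mem _ h2
        have h4 : algebraMap A B a - x ∈ p.map (algebraMap A B) := Ideal.map_mono hIp h1
        have := (p.map (algebraMap A B)).sub_mem h3 h4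
        simpa using this
    refine ⟨A ⧸ p, inferInstance, inferInstance, inferInstance, ⟨?_⟩⟩
    exact (Algebra.TensorProduct.quotIdealMapEquivTensorQuot B p).symm.toLinearEquiv ≪≫ₗ
      Submodule.quotEquivOfEq _ _ hpn
  have hG := Lib.Helper6.InjDimMax.isDualizing_G_of_max (B := B) hmaxN ω hω
  exact Lib.Helper6.HomBC.isDualizing_of_iso
    ((Lib.Helper6.HomBC.lbcIsoG A B).app ω).symm hG

end Groth.Agent.S1778
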