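import Groth.Statements.S17780
import Groth.Agent.S17779
import Mathlib.Tactic

set_option autoImplicit false
universe u
open DRR

namespace Groth.Agent.S17780

private theorem two_mul_choose_two' (m : ℕ) : m.choose 2 * 2 = m * (m - 1) := by
  rw [Nat.choose_two_right]
  exact Nat.div_mul_cancel (Nat.even_mul_pred_self m).two_dvd

private theorem aux_nat (n : ℕ) : n * (n + 1).factorial / 2 = (n + 1).choose 2 * n.factorial := by
  have h := two_mul_choose_two' (n + 1)
  simp only [Nat.add_sub_cancel] at h
  apply Nat.div_eq_of_eq_mul_left (by norm_num)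
  rw [Nat.factorial_succ]
  calc n * ((n + 1) * n.factorial) = ((n + 1) * n) * n.factorial := by ring
    _ = ((n + 1).choose 2 * 2) * n.factorial := by rw [h]
    _ = _ := by ring

/-- For x, y in a commutative ring and a natural number n, (n+1)! · x · y^n equals the sum over j = 0,
…, n of (−1)^(n−j) C(n, j) (x + j y)^(n+1), minus (n · (n+1)!/2) · y^(n+1). (The published identity
is stated in ℚ[x, y] with an overall factor 1/(n+1) and the coefficients C(n, j)(−1)^(n−j)/n!; it is
given here multiplied through by (n+1)!, which makes it an identity with integer coefficients valid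
in every commutative ring; n · (n+1)!/2 is an integer.) -/
theorem result (A : Type u) [CommRing A] (x y : A) (n : ℕ) :
    ((n + 1).factorial : A) * x * y ^ n =
      (∑ j ∈ Finset.range (n + 1), (-1 : A) ^ (n - j) * (n.choose j : A) * (x + (j : A) * y) ^ (n + 1))
        - ((n * (n + 1).factorial / 2 : ℕ) : A) * y ^ (n + 1) := by
  have S : ∀ m ≤ n + 1, (∑ j ∈ Finset.range (n + 1), (-1 : A) ^ (n - j) * (n.choose j : A) * (j : A) ^ m) =
      (if m = n + 1 then (((n + 1).choose 2 * n.factorial : ℕ) : A)
        else if m = n then (n.factorial : A) else 0) := by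
    intro m hm
    have := congrArg (Int.cast : ℤ → A) (Groth.Agent.S17779.result n m hm)
    push_cast at this
    rw [this]
    split_ifs <;> simp
  have expand : ∀ j : ℕ, (x + (j : A) * y) ^ (n + 1) =
      ∑ m ∈ Finset.range (n + 2), ((n + 1).choose m : A) * x ^ (n + 1 - m) * y ^ m * (j : A) ^ m := by
    intro j
    rw [add_comm, add_pow]
    apply Finset.sum_congr rfl
    intro m _
    rw [mul_pow]; ring
  simp_rw [expand, Finset.mul_sum]
  rw [Finset.sum_comm]
  have : ∀ m ∈ Finset.range (n + 2), (∑ j ∈ Finset.range (n + 1),
      (-1 : A) ^ (n - j) * (n.choose j : A) * (((n + 1).choose m : A) * x ^ (n + 1 - m) * y ^ m * (j : A) ^ m)) =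
      ((n + 1).choose m : A) * x ^ (n + 1 - m) * y ^ m *
        (if m = n + 1 then (((n + 1).choose 2 * n.factorial : ℕ) : A)
        else if m = n then (n.factorial : A) else 0) := by
    intro m hm
    rw [← S m (by simp at hm; omega), Finset.mul_sum]
    apply Finset.sum_congr rfl
    intro j _
    ring
  rw [Finset.sum_congr rfl this]
  rw [Finset.sum_range_succ, Finset.sum_range_succ]
  rw [Finset.sum_eq_zero]
  · simp only [if_true, if_false, Nat.succ_ne_self, Nat.choose_self, Nat.cast_one, one_mul,
      Nat.sub_self, pow_zero]
    have hn : n ≠ n + 1 := by omega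
    simp only [hn, if_false, if_true]
    rw [aux_nat]
    have h2 : (n + 1).choose n = n + 1 := by
      rw [Nat.choose_symm_of_eq_add (show n + 1 = n + 1 from rfl)]; simp
    rw [h2, Nat.factorial_succ]
    simp only [Nat.add_sub_cancel_left, pow_one]
    push_cast
    ring
  · intro m hm
    simp at hm
    have h1 : m ≠ n + 1 := by omega
    have h2 : m ≠ n := by omega
    simp [h1, h2]

end Groth.Agent.S17780
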