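import Groth.Statements.S17781
import Mathlib.Data.Nat.Choose.Lucas
import Mathlib.Tactic

set_option autoImplicit false
open Variety

namespace Groth.Agent.S17781

private theorem mul_pred_mod (p a : ℕ) (hp : 1 ≤ p) (ha : 1 ≤ a) :
    (p * a - 1) % p = p - 1 ∧ (p * a - 1) / p = a - 1 := by
  obtain ⟨b, rfl⟩ : ∃ b, a = b + 1 := ⟨a - 1, by omega⟩
  have h : p * (b + 1) - 1 = (p - 1) + p * b := by
    rw [Nat.mul_succ]; omega
  rw [h]
  constructor
  · rw [Nat.add_mul_mod_self_left]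
    exact Nat.mod_eq_of_lt (by omega)
  · rw [Nat.add_mul_div_left _ _ (by omega : 0 < p)]
    rw [Nat.div_eq_of_lt (by omega)]
    simp

/-- Lucas-type lemma: `C(p^e m - 1, p^e - 1) ≡ 1 mod p`. -/
private theorem choose_pred_modEq_one (p : ℕ) [hp : Fact p.Prime] (e m : ℕ) (hm : 1 ≤ m) :
    Nat.choose (p ^ e * m - 1) (p ^ e - 1) ≡ 1 [MOD p] := by
  induction e with
  | zero => simp [Nat.ModEq.refl]
  | succ e ih =>
    have hp1 : 1 ≤ p := hp.out.one_lt.le
    have hpe : 1 ≤ p ^ e := Nat.one_le_pow _ _ (by omega)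
    have h := @Choose.choose_modEq_choose_mod_mul_choose_div_nat (p ^ (e+1) * m - 1) (p ^ (e+1) - 1) p _
    have e1 : p ^ (e + 1) * m = p * (p ^ e * m) := by ring
    have e2 : p ^ (e + 1) = p * (p ^ e) := by ring
    obtain ⟨a1, a2⟩ := mul_pred_mod p (p ^ e * m) hp1 (by nlinarith)
    obtain ⟨b1, b2⟩ := mul_pred_mod p (p ^ e) hp1 hpe
    rw [e1, a1, a2] at h
    rw [e1]
    rw [e2, b1, b2] at h
    rw [e2]
    refine h.trans ?_
    rw [Nat.choose_self, one_mul]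
    exact ih

/-- if `p^e ∣ d` then `C(d, p^e) = (d / p^e) * u` with `u ≡ 1 mod p`. -/
private theorem choose_prime_pow (p : ℕ) [hp : Fact p.Prime] (e m : ℕ) (hm : 1 ≤ m) :
    Nat.choose (p ^ e * m) (p ^ e) = m * Nat.choose (p ^ e * m - 1) (p ^ e - 1) := by
  have hp1 : 1 ≤ p := hp.out.one_lt.le
  have hpe : 1 ≤ p ^ e := Nat.one_le_pow _ _ (by omega)
  have h := Nat.add_one_mul_choose_eq (p ^ e * m - 1) (p ^ e - 1)
  have h1 : p ^ e * m - 1 + 1 = p ^ e * m := by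
    have : 1 ≤ p ^ e * m := by nlinarith
    omega
  have h2 : p ^ e - 1 + 1 = p ^ e := by omega
  rw [h1, h2] at h
  have : p ^ e * (m * Nat.choose (p ^ e * m - 1) (p ^ e - 1)) = p ^ e * Nat.choose (p ^ e * m) (p ^ e) := by
    rw [← mul_assoc, h, mul_comm]
  exact (Nat.eq_of_mul_eq_mul_left (by omega) this).symm

/-- Key direction: a common divisor of `C(d,1..N)` divides `d/δ` for each divisor `δ ≤ N` of `d`. -/
private theorem dvd_quot (d N a : ℕ) (hd : 1 ≤ d) (h : ∀ n, 1 ≤ n → n ≤ N → a ∣ d.choose n)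
    (δ : ℕ) (hδ : δ ∣ d) (hδN : δ ≤ N) : a ∣ d / δ := by
  rw [Nat.dvd_iff_prime_pow_dvd_dvd]
  intro p k hp hpk
  haveI : Fact p.Prime := ⟨hp⟩
  have hδ0 : δ ≠ 0 := by
    rintro rfl
    simp at hδ; omega
  -- write δ = p^e * δ' with p ∤ δ'
  obtain ⟨e, δ', hδ', rfl⟩ := Nat.exists_eq_pow_mul_and_not_dvd hδ0 p hp.ne_one
  obtain ⟨m', rfl⟩ := hδ
  have hpe : 1 ≤ p ^ e := Nat.one_le_pow _ _ hp.pos
  have hδ'0 : 0 < δ' := by
    rcases Nat.eq_zero_or_pos δ' with h0 | h0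
    · simp [h0] at hδ0
    · exact h0
  have hm'0 : 0 < m' := by
    rcases Nat.eq_zero_or_pos m' with h0 | h0
    · simp [h0] at hd
    · exact h0
  have hle : p ^ e ≤ N := le_trans (Nat.le_mul_of_pos_right _ hδ'0) hδN
  have h1 := h (p ^ e) hpe hle
  have h2 : p ^ e * δ' * m' = p ^ e * (δ' * m') := by ring
  rw [h2, choose_prime_pow p e (δ' * m') (by nlinarith)] at h1
  have h3 : p ^ k ∣ δ' * m' * (p ^ e * (δ' * m') - 1).choose (p ^ e - 1) := dvd_trans hpk h1
  have hu := choose_pred_modEq_one p e (δ' * m') (by nlinarith)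
  have hcop : Nat.Coprime (p ^ k) ((p ^ e * (δ' * m') - 1).choose (p ^ e - 1)) := by
    apply Nat.Coprime.pow_left
    rw [Nat.Prime.coprime_iff_not_dvd hp]
    intro hdvd
    have : (p ^ e * (δ' * m') - 1).choose (p ^ e - 1) ≡ 0 [MOD p] := (Nat.modEq_zero_iff_dvd).2 hdvd
    have h10 : 1 ≡ 0 [MOD p] := hu.symm.trans this
    rw [Nat.modEq_zero_iff_dvd] at h10
    exact hp.one_lt.ne' (Nat.dvd_one.1 h10)
  have h4 : p ^ k ∣ δ' * m' := hcop.dvd_of_dvd_mul_right h3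
  have hcop2 : Nat.Coprime (p ^ k) δ' := by
    apply Nat.Coprime.pow_left
    rwa [Nat.Prime.coprime_iff_not_dvd hp]
  have h5 : p ^ k ∣ m' := hcop2.dvd_of_dvd_mul_left h4
  have : p ^ e * δ' * m' / (p ^ e * δ') = m' := Nat.mul_div_cancel_left _ (by positivity)
  rw [this]
  exact h5

/-- Easy direction. -/
private theorem quot_dvd_choose (d N a : ℕ) (hd : 1 ≤ d)
    (h : ∀ δ, δ ∣ d → 1 ≤ δ → δ ≤ N → a ∣ d / δ) (n : ℕ) (hn1 : 1 ≤ n) (hnN : n ≤ N) :
    a ∣ d.choose n := by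
  set g := Nat.gcd d n with hg
  have hgpos : 0 < g := Nat.gcd_pos_of_pos_left _ hd
  have hgd : g ∣ d := Nat.gcd_dvd_left _ _
  have hgn : g ∣ n := Nat.gcd_dvd_right _ _
  have h1 : a ∣ d / g := h g hgd hgpos (le_trans (Nat.le_of_dvd hn1 hgn) hnN)
  refine dvd_trans h1 ?_
  -- d * C(d-1,n-1) = C(d,n) * n
  have h2 := Nat.add_one_mul_choose_eq (d - 1) (n - 1)
  rw [show d - 1 + 1 = d by omega, show n - 1 + 1 = n by omega] at h2
  obtain ⟨d', hd'⟩ := hgd
  obtain ⟨n', hn'⟩ := hgn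
  have hcop : Nat.Coprime d' n' := by
    have := Nat.coprime_div_gcd_div_gcd (m := d) (n := n) hgpos
    rw [← hg] at this
    rw [hd', hn'] at this
    rwa [Nat.mul_div_cancel_left _ hgpos, Nat.mul_div_cancel_left _ hgpos] at this
  have hdg : d / g = d' := by rw [hd', Nat.mul_div_cancel_left _ hgpos]
  rw [hdg]
  have h3 : d' * (d - 1).choose (n - 1) = d.choose n * n' := by
    apply Nat.eq_of_mul_eq_mul_left hgpos
    calc g * (d' * (d - 1).choose (n - 1)) = d * (d - 1).choose (n - 1) := by rw [← mul_assoc, ← hd']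
      _ = d.choose n * n := h2
      _ = g * (d.choose n * n') := by rw [hn']; ring
  have : d' ∣ d.choose n * n' := ⟨_, h3.symm⟩
  exact hcop.dvd_of_dvd_mul_right this

private noncomputable def chi (d n : ℕ) : ℤ := 1 - (-1 : ℤ) ^ n * ((d - 1).choose n : ℤ)

private theorem chi_zero (d : ℕ) : chi d 0 = 0 := by simp [chi]

private theorem chi_succ (d n : ℕ) (hd : 1 ≤ d) :
    chi d (n + 1) = chi d n + (-1 : ℤ) ^ n * (d.choose (n + 1) : ℤ) := by
  obtain ⟨d', rfl⟩ : ∃ d', d = d' + 1 := ⟨d - 1, by omega⟩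
  simp only [chi, Nat.add_sub_cancel]
  rw [Nat.choose_succ_succ' d' n]
  push_cast
  ring

private theorem chi_dvd_iff (d N : ℕ) (hd : 1 ≤ d) (a : ℤ) :
    (∀ n, 1 ≤ n → n ≤ N → a ∣ chi d n) ↔ (∀ n, 1 ≤ n → n ≤ N → a ∣ (d.choose n : ℤ)) := by
  constructor
  · intro h n hn1 hnN
    obtain ⟨n', rfl⟩ : ∃ n', n = n' + 1 := ⟨n - 1, by omega⟩
    have h1 := h (n' + 1) hn1 hnN
    have h0 : a ∣ chi d n' := by
      rcases Nat.eq_zero_or_pos n' with h0 | h0
      · subst h0; rw [chi_zero]; exact dvd_zero _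
      · exact h n' h0 (by omega)
    rw [chi_succ d n' hd] at h1
    have h2 : a ∣ (-1 : ℤ) ^ n' * (d.choose (n' + 1) : ℤ) := (dvd_add_right h0).1 h1
    rcases neg_one_pow_eq_or ℤ n' with h3 | h3 <;> rw [h3] at h2
    · simpa using h2
    · simpa using h2
  · intro h n
    induction n with
    | zero => intro h1; omega
    | succ n ih =>
      intro hn1 hnN
      rw [chi_succ d n hd]
      apply dvd_add
      · rcases Nat.eq_zero_or_pos n with h0 | h0
        · subst h0; rw [chi_zero]; exact dvd_zero _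
        · exact ih h0 (by omega)
      · exact Dvd.dvd.mul_left (h (n + 1) hn1 hnN) _

/-- Let d ≥ 1 and N ≥ 1 be integers and let I(d, N) be the greatest common divisor of the quotients d/δ
over the divisors δ of d with 1 ≤ δ ≤ N. Then I(d, N) equals the greatest common divisor of the
integers χ(d, n) = 1 − (−1)^n C(d − 1, n) for 1 ≤ n ≤ N (χ(d, n) is the Euler characteristic of O_H
for a degree-d hypersurface H in projective n-space). Both greatest common divisors are taken in ℤ,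
normalised to be non-negative. -/
theorem result (d N : ℕ) (hd : 1 ≤ d) (hN : 1 ≤ N) :
    (Finset.Icc 1 N).gcd (fun n => 1 - (-1 : ℤ) ^ n * ((d - 1).choose n : ℤ)) =
      ((Finset.Icc 1 N).filter (fun δ => δ ∣ d)).gcd (fun δ => ((d / δ : ℕ) : ℤ)) := by
  have key : ∀ a : ℤ, (∀ n, 1 ≤ n → n ≤ N → a ∣ chi d n) ↔
      (∀ δ, δ ∣ d → 1 ≤ δ → δ ≤ N → a ∣ ((d / δ : ℕ) : ℤ)) := by
    intro a
    rw [chi_dvd_iff d N hd a]
    constructor
    · intro h δ hδd hδ1 hδN
      rw [← Int.natAbs_dvd_natAbs, Int.natAbs_natCast]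
      apply dvd_quot d N a.natAbs hd _ δ hδd hδN
      intro n hn1 hnN
      have := h n hn1 hnN
      rwa [← Int.natAbs_dvd_natAbs, Int.natAbs_natCast] at this
    · intro h n hn1 hnN
      rw [← Int.natAbs_dvd_natAbs, Int.natAbs_natCast]
      apply quot_dvd_choose d N a.natAbs hd _ n hn1 hnN
      intro δ hδd hδ1 hδN
      have := h δ hδd hδ1 hδN
      rwa [← Int.natAbs_dvd_natAbs, Int.natAbs_natCast] at this
  apply dvd_antisymm_of_normalize_eq (Finset.normalize_gcd) (Finset.normalize_gcd)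
  · rw [Finset.dvd_gcd_iff]
    intro δ hδ
    simp only [Finset.mem_filter, Finset.mem_Icc] at hδ
    refine (key _).1 ?_ δ hδ.2 hδ.1.1 hδ.1.2
    intro n hn1 hnN
    exact Finset.gcd_dvd (f := fun n => 1 - (-1 : ℤ) ^ n * ((d - 1).choose n : ℤ))
      (Finset.mem_Icc.2 ⟨hn1, hnN⟩)
  · rw [Finset.dvd_gcd_iff]
    intro n hn
    simp only [Finset.mem_Icc] at hn
    refine (key _).2 ?_ n hn.1 hn.2
    intro δ hδd hδ1 hδN
    exact Finset.gcd_dvd (f := fun δ => ((d / δ : ℕ) : ℤ))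
      (Finset.mem_filter.2 ⟨Finset.mem_Icc.2 ⟨hδ1, hδN⟩, hδd⟩)

end Groth.Agent.S17781
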