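import Groth.Statements.S1779
import Groth.Agent.S1778
import Groth.Agent.S9602
import Groth.Agent.S0543

set_option autoImplicit false
universe u
open CategoryTheory
attribute [local instance] HasDerivedCategory.standard
open Dual

namespace Groth.Agent.S1779

/-- Let A be a Noetherian ring, I an ideal and ω a dualizing complex for A. Assuming the derived base
change functor to the I-adic completion exists, the base change of ω is a dualizing complex for the
I-adic completion of A. -/
theorem result (A : Type u) [CommRing A] [IsNoetherianRing A] (I : Ideal A) [DRing.HasLBaseChange (algebraMap A (AdicCompletion I A))] (ω : Dual.D A) (hω : Dual.IsDualizing A ω) : Dual.IsDualizing (AdicCompletion I A) ((DRing.LBaseChange (algebraMap A (AdicCompletion I A))).obj ω) := by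
  have hN : IsNoetherianRing (AdicCompletion I A) := Groth.Agent.S0543.result A I
  have hflat : Module.Flat A (AdicCompletion I A) := inferInstance
  have hfg : I.FG := IsNoetherian.noetherian I
  have hker := AdicCompletion.ker_evalOneₐ_eq_map I hfg
  have hJ := (Groth.Agent.S9602.result I).2.2
  have hev : ∀ a : A, AdicCompletion.evalOneₐ I (algebraMap A (AdicCompletion I A) a) =
      Ideal.Quotient.mk I a := by
    intro a
    rw [AdicCompletion.algebraMap_apply]
    simp only [Algebra.algebraMap_self, RingHom.id_apply, AdicCompletion.evalOneₐ_of]
  have hs : Function.Surjective ((Ideal.Quotient.mk (I.map (algebraMap A (AdicCompletion I A)))).comp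
      (algebraMap A (AdicCompletion I A))) := by
    intro y
    obtain ⟨x, rfl⟩ := Ideal.Quotient.mk_surjective y
    obtain ⟨a, ha⟩ := Ideal.Quotient.mk_surjective (AdicCompletion.evalOneₐ I x)
    refine ⟨a, ?_⟩
    rw [RingHom.comp_apply, Ideal.Quotient.eq, ← hker, RingHom.mem_ker]
    show AdicCompletion.evalOneₐ I (algebraMap A (AdicCompletion I A) a - x) = 0
    rw [map_sub, hev, ha, sub_self]
  have hk : RingHom.ker ((Ideal.Quotient.mk (I.map (algebraMap A (AdicCompletion I A)))).comp
      (algebraMap A (AdicCompletion I A))) = I := by
    ext a
    rw [RingHom.mem_ker, RingHom.comp_apply, Ideal.Quotient.eq_zero_iff_mem, ← hker,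
      RingHom.mem_ker]
    show AdicCompletion.evalOneₐ I (algebraMap A (AdicCompletion I A) a) = 0 ↔ _
    rw [hev, Ideal.Quotient.eq_zero_iff_mem]
  exact Groth.Agent.S1778.result A (AdicCompletion I A) I hs hk hJ ω hω

end Groth.Agent.S1779
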