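import Groth.Statements.S17797
import Mathlib
import Groth.Agent.Lib.Helper98.EssFiniteLocal

set_option autoImplicit false
universe u
open CAlg

namespace Groth.Agent.S17797

/-- Suppose k is a field of characteristic zero and S is a local domain that is an essentially
finite-type k-algebra. Then there are an extension field K of k, a K-algebra A of finite type and a
maximal ideal m of A such that S is isomorphic over k to the localization A_m. -/
theorem result (k : Type u) [Field k] [CharZero k] (S : Type u) [CommRing S] [IsDomain S] [IsLocalRing S] [Algebra k S] [Algebra.EssFiniteType k S] : ∃ (K : Type u) (_ : Field K) (_ : Algebra k K) (A : Type u) (_ : CommRing A) (_ : Algebra K A) (_ : Algebra k A) (_ : IsScalarTower k K A) (_ : Algebra.FiniteType K A) (m : Ideal A) (_ : m.IsMaximal), Nonempty (S ≃ₐ[k] Localization.AtPrime m) := by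
  obtain ⟨K, hK, hkK, hKS, htower, halg⟩ :=
    Groth.Agent.Lib.Helper98.EssFiniteLocal.exists_field_algebraic_residue k S
  haveI : Algebra.EssFiniteType K S := Algebra.EssFiniteType.of_comp k K S
  obtain ⟨B, hft, p, hmax, hloc⟩ :=
    Groth.Agent.Lib.Helper98.EssFiniteLocal.exists_localization_maximal K S
  refine ⟨K, hK, hkK, B, inferInstance, inferInstance, inferInstance, inferInstance, hft, p, hmax,
    ?_⟩
  exact ⟨(IsLocalization.algEquiv p.primeCompl S (Localization.AtPrime p)).restrictScalars k⟩

end Groth.Agent.S17797
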