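import Groth.Statements.S17803
import Groth.Agent.H8.ComplSurj
import Groth.Agent.H8.NormalHomPS
import Groth.Agent.H8.GRingLocal
import Groth.Agent.S0600
import Groth.Agent.S0543
import Groth.Agent.Lib.Helper73.RegularCompletion
import Groth.Agent.Lib.Helper73.RegularLocalization
import Groth.Agent.Lib.Helper24.SmoothNormal
import Groth.Agent.Lib.Helper50.NormalTensor

set_option autoImplicit false
universe u
open EGA4

namespace Groth.Agent.S17803

/-- Let A be an excellent normal domain which is a quotient of a regular ring, I an ideal of A and f ∈
A. Then the I-adic completion of the localization A_f is a normal ring (its localization at every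
prime ideal is an integrally closed domain), and it is a quotient of a regular ring. -/
theorem result (A : Type u) [CommRing A] [IsDomain A] [IsIntegrallyClosed A] (hexc : EGA4.IsExcellent A) (hreg : ∃ (R : Type u) (_ : CommRing R) (_ : IsRegularRing R) (φ : R →+* A), Function.Surjective φ) (I : Ideal A) (f : A) : EGA4.IsNormalRing (AdicCompletion (I.map (algebraMap A (Localization.Away f))) (Localization.Away f)) ∧ ∃ (R' : Type u) (_ : CommRing R') (_ : IsRegularRing R') (ψ : R' →+* AdicCompletion (I.map (algebraMap A (Localization.Away f))) (Localization.Away f)), Function.Surjective ψ := by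
  classical
  obtain ⟨hN, hUC, hG, hJ2⟩ := hexc
  haveI := hN
  haveI hNL : IsNoetherianRing (Localization.Away f) :=
    IsLocalization.isNoetherianRing (Submonoid.powers f) _ hN
  have hGL : CAlg.IsGRing (Localization.Away f) :=
    Groth.Agent.H8.GRing.isGRing_of_isLocalization A hG (Submonoid.powers f) _
  have hreg1 : CAlg.IsRegularHom (Localization.Away f)
      (AdicCompletion (I.map (algebraMap A (Localization.Away f))) (Localization.Away f)) :=
    Groth.Agent.S0600.result _ hGL _
  haveI hNC : IsNoetherianRing
      (AdicCompletion (I.map (algebraMap A (Localization.Away f))) (Localization.Away f)) :=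
    Groth.Agent.S0543.result _ _
  have hAn : EGA4.IsNormalRing A := Groth.Agent.Lib.Helper50.isNormalRing_of_isIntegrallyClosed' A
  have hLn : EGA4.IsNormalRing (Localization.Away f) :=
    Groth.Agent.Lib.Helper24.isNormalRing_of_isLocalization (Submonoid.powers f) hAn
  refine ⟨Groth.Agent.H8.ComplSurj.isNormalRing_of_isNormalHom hLn
    (Groth.Agent.H8.NormalHomPS.isNormalHom_of_isRegularHom hreg1), ?_⟩
  -- the completion is a quotient of a regular ring
  obtain ⟨R, _, _, φ, hφ⟩ := hreg
  obtain ⟨g, rfl⟩ := hφ f
  haveI : IsNoetherianRing R := inferInstance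
  have hφg : Function.Surjective (Localization.awayMap φ g) := by
    rw [Localization.awayMap_surjective_iff]
    intro a
    obtain ⟨b, rfl⟩ := hφ a
    exact ⟨b, 0, by simp⟩
  haveI : IsRegularRing (Localization.Away g) :=
    Groth.Agent.Lib.Helper73.RegularRing.isRegularRing_of_isLocalization (Submonoid.powers g) _
  haveI : IsNoetherianRing (Localization.Away g) :=
    IsLocalization.isNoetherianRing (Submonoid.powers g) _ inferInstance
  have hmap : ((I.map (algebraMap A (Localization.Away (φ g)))).comap
      (Localization.awayMap φ g)).map (Localization.awayMap φ g) =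
      I.map (algebraMap A (Localization.Away (φ g))) :=
    Ideal.map_comap_of_surjective _ hφg _
  refine ⟨AdicCompletion ((I.map (algebraMap A (Localization.Away (φ g)))).comap
      (Localization.awayMap φ g)) (Localization.Away g), inferInstance,
    Groth.Agent.Lib.Helper73.RegularRing.isRegularRing_adicCompletion _ _,
    FSch.complMap _ _ (Localization.awayMap φ g) hmap.le, ?_⟩
  exact Groth.Agent.H8.ComplSurj.complMap_surjective _ _ _ hmap.le hmap.ge hφg

end Groth.Agent.S17803
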