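import Groth.Statements.S1781
import Groth.Agent.Lib.Helper90.Shriek.AddVars

set_option autoImplicit false
set_option linter.style.haveILetI false
universe u
open CategoryTheory
attribute [local instance] HasDerivedCategory.standard
open Dual2

namespace Groth.Agent.S1781

/-- Let R → A be a ring map of finite type between Noetherian rings. Here φ^!(K) is formed from a
presentation ψ : R[x_1, …, x_n] → A as RHom_P(A, K ⊗^L_R P)[n], assuming the derived base change to
P exists and taking for RHom_P(A, −) a right adjoint of restriction of scalars along ψ. For two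
presentations (with n and m variables) the resulting objects of D(A) are isomorphic, for every K in
D(R). -/
theorem result (R A : Type u) [CommRing R] [CommRing A] [IsNoetherianRing R] [IsNoetherianRing A] [Algebra R A] (n : ℕ) (ψ : MvPolynomial (Fin n) R →ₐ[R] A) (hψ : Function.Surjective ψ) [DRing.HasLBaseChange (algebraMap R (MvPolynomial (Fin n) R))] (Rψ : Dual.D (MvPolynomial (Fin n) R) ⥤ Dual.D A) (adj : DRing.restrictD ψ.toRingHom ⊣ Rψ) (m : ℕ) (ψ' : MvPolynomial (Fin m) R →ₐ[R] A) (hψ' : Function.Surjective ψ') [DRing.HasLBaseChange (algebraMap R (MvPolynomial (Fin m) R))] (Rψ' : Dual.D (MvPolynomial (Fin m) R) ⥤ Dual.D A) (adj' : DRing.restrictD ψ'.toRingHom ⊣ Rψ') (K : Dual.D R) : Nonempty (Dual2.shriekVia n Rψ K ≅ Dual2.shriekVia m Rψ' K) := by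
  classical
  obtain ⟨K₀, hK₀, ⟨eK⟩⟩ := Groth.Agent.Lib.Helper32.LBC.exists_kproj_iso K
  haveI := hK₀
  -- the starting invariants
  have start : ∀ (k : ℕ) (χ : MvPolynomial (Fin k) R →ₐ[R] A)
      [DRing.HasLBaseChange (algebraMap R (MvPolynomial (Fin k) R))]
      (Rχ : Dual.D (MvPolynomial (Fin k) R) ⥤ Dual.D A)
      (_ : DRing.restrictD χ.toRingHom ⊣ Rχ),
      Groth.Agent.Lib.Helper90.Shriek.Inv K₀ (algebraMap R (MvPolynomial (Fin k) R))
        χ.toRingHom (k : ℤ) (Dual2.shriekVia k Rχ K) := by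
    intro k χ _ Rχ adjχ
    have h1 := Groth.Agent.Lib.Helper90.Shriek.isUniv_counit adjχ
      ((DRing.LBaseChange (algebraMap R (MvPolynomial (Fin k) R))).obj K)
    let eZ : (DRing.LBaseChange (algebraMap R (MvPolynomial (Fin k) R))).obj K ≅
        DerivedCategory.Q.obj ((DTen.extCx (algebraMap R (MvPolynomial (Fin k) R))).obj K₀) :=
      (DRing.LBaseChange (algebraMap R (MvPolynomial (Fin k) R))).mapIso eK.symm ≪≫
        Groth.Agent.Lib.Helper32.LBC.lbcIso (algebraMap R (MvPolynomial (Fin k) R)) K₀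
    exact ⟨_, (h1.of_iso_target eZ).shift (k : ℤ)⟩
  have h1 := (start n ψ Rψ adj).addVars K₀ _ _ _ _ m (fun j => ψ' (MvPolynomial.X j))
    (fun j => hψ _)
  have h2 := (start m ψ' Rψ' adj').addVars K₀ _ _ _ _ n (fun i => ψ (MvPolynomial.X i))
    (fun i => hψ' _)
  have h3 := h1.transport K₀ (MvPolynomial.commAlgEquiv R (Fin m) (Fin n)).toRingEquiv _ _ _ _
  have e1 : (MvPolynomial.commAlgEquiv R (Fin m) (Fin n)).toRingEquiv.toRingHom.comp
      ((MvPolynomial.C : MvPolynomial (Fin n) R →+* MvPolynomial (Fin m) (MvPolynomial (Fin n) R)).comp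
        (algebraMap R (MvPolynomial (Fin n) R))) =
      (MvPolynomial.C : MvPolynomial (Fin m) R →+* MvPolynomial (Fin n) (MvPolynomial (Fin m) R)).comp
        (algebraMap R (MvPolynomial (Fin m) R)) := by
    refine RingHom.ext (fun r => ?_)
    exact (MvPolynomial.commAlgEquiv R (Fin m) (Fin n)).commutes r
  have e2 : (MvPolynomial.eval₂Hom ψ.toRingHom (fun j => ψ' (MvPolynomial.X j))).comp
      (MvPolynomial.commAlgEquiv R (Fin m) (Fin n)).toRingEquiv.symm.toRingHom =
      MvPolynomial.eval₂Hom ψ'.toRingHom (fun i => ψ (MvPolynomial.X i)) := by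
    refine MvPolynomial.ringHom_ext' ?_ (fun i => ?_)
    · refine MvPolynomial.ringHom_ext (fun r => ?_) (fun j => ?_)
      · change (MvPolynomial.eval₂Hom ψ.toRingHom (fun j => ψ' (MvPolynomial.X j)))
          ((MvPolynomial.commAlgEquiv R (Fin m) (Fin n)).symm
            (MvPolynomial.C (MvPolynomial.C r))) =
          (MvPolynomial.eval₂Hom ψ'.toRingHom (fun i => ψ (MvPolynomial.X i)))
            (MvPolynomial.C (MvPolynomial.C r))
        have hc : (MvPolynomial.commAlgEquiv R (Fin m) (Fin n)).symm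
            (MvPolynomial.C (MvPolynomial.C r)) = MvPolynomial.C (MvPolynomial.C r) :=
          (MvPolynomial.commAlgEquiv R (Fin m) (Fin n)).symm.commutes r
        rw [hc, MvPolynomial.eval₂Hom_C, MvPolynomial.eval₂Hom_C]
        exact (ψ.commutes r).trans (ψ'.commutes r).symm
      · change (MvPolynomial.eval₂Hom ψ.toRingHom (fun j => ψ' (MvPolynomial.X j)))
          ((MvPolynomial.commAlgEquiv R (Fin m) (Fin n)).symm
            (MvPolynomial.C (MvPolynomial.X j))) =
          (MvPolynomial.eval₂Hom ψ'.toRingHom (fun i => ψ (MvPolynomial.X i)))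
            (MvPolynomial.C (MvPolynomial.X j))
        have hc : (MvPolynomial.commAlgEquiv R (Fin m) (Fin n)).symm
            (MvPolynomial.C (MvPolynomial.X j)) = MvPolynomial.X j := by
          rw [AlgEquiv.symm_apply_eq, MvPolynomial.commAlgEquiv_X]
        rw [hc, MvPolynomial.eval₂Hom_X', MvPolynomial.eval₂Hom_C]
        rfl
    · change (MvPolynomial.eval₂Hom ψ.toRingHom (fun j => ψ' (MvPolynomial.X j)))
          ((MvPolynomial.commAlgEquiv R (Fin m) (Fin n)).symm (MvPolynomial.X i)) =
          (MvPolynomial.eval₂Hom ψ'.toRingHom (fun i => ψ (MvPolynomial.X i))) (MvPolynomial.X i)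
      have hc : (MvPolynomial.commAlgEquiv R (Fin m) (Fin n)).symm (MvPolynomial.X i) =
          MvPolynomial.C (MvPolynomial.X i) := by
        rw [AlgEquiv.symm_apply_eq, MvPolynomial.commAlgEquiv_C_X]
      rw [hc, MvPolynomial.eval₂Hom_C, MvPolynomial.eval₂Hom_X']
      rfl
  rw [e1, e2, add_comm] at h3
  obtain ⟨c, hc⟩ := h3
  obtain ⟨c', hc'⟩ := h2
  obtain ⟨e, _⟩ := hc.exists_iso hc'
  exact ⟨e⟩

end Groth.Agent.S1781
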