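import Groth.Statements.S17825
import Mathlib.CategoryTheory.Limits.Yoneda
import Mathlib.CategoryTheory.Limits.Preserves.Shapes.Equalizers
import Mathlib.Tactic

set_option autoImplicit false
universe u
open CategoryTheory CategoryTheory.Limits AlgebraicGeometry
open JacVar

namespace Groth.Agent.S17825

/-- Let S be a scheme, Y an S-scheme separated over S, F a presheaf of sets on the category of
S-schemes, f : h_Y ⟶ F a morphism from the functor of points of Y, and s : F ⟶ h_Y a section of f (s
followed by f is the identity). Then F is represented by a closed subscheme of Y: there are an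
S-scheme Z, a morphism i : Z ⟶ Y over S which is a closed immersion, and an isomorphism F ≅ h_Z
whose composite with h_i : h_Z ⟶ h_Y is s. (The published lemma treats the case where Y is the r-th
symmetric power of a curve, F the functor of degree-r invertible families modulo twisting and f the
divisor-class map.) -/
theorem result {S : Scheme.{u}} (Y : Over S) [IsSeparated Y.hom]
    (F : (Over S)ᵒᵖ ⥤ Type u) (f : yoneda.obj Y ⟶ F) (s : F ⟶ yoneda.obj Y) (hsf : s ≫ f = 𝟙 F) :
    ∃ (Z : Over S) (i : Z ⟶ Y), IsClosedImmersion i.left ∧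
      ∃ e : F ≅ yoneda.obj Z, e.hom ≫ yoneda.map i = s := by
  -- the idempotent
  let p : yoneda.obj Y ⟶ yoneda.obj Y := f ≫ s
  let q : Y ⟶ Y := yoneda.preimage p
  have hq : yoneda.map q = p := yoneda.map_preimage p
  have hsp : s ≫ p = s := by
    show s ≫ f ≫ s = s
    rw [← Category.assoc, hsf, Category.id_comp]
  refine ⟨equalizer q (𝟙 Y), equalizer.ι q (𝟙 Y), inferInstance, ?_⟩
  -- F is an equalizer of yoneda.map q and yoneda.map (𝟙 Y)
  have wF : s ≫ yoneda.map q = s ≫ yoneda.map (𝟙 Y) := by
    rw [hq, hsp, yoneda.map_id, Category.comp_id]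
  have hF : IsLimit (Fork.ofι s wF) := by
    refine Fork.IsLimit.mk _ (fun c => c.ι ≫ f) ?_ ?_
    · intro c
      have hc : c.ι ≫ yoneda.map q = c.ι ≫ yoneda.map (𝟙 Y) := c.condition
      have e1 : c.ι ≫ p = c.ι ≫ yoneda.map q := congrArg (c.ι ≫ ·) hq.symm
      have e2 : c.ι ≫ yoneda.map (𝟙 Y) = c.ι :=
        (congrArg (c.ι ≫ ·) (yoneda.map_id Y)).trans (Category.comp_id _)
      show (c.ι ≫ f) ≫ s = c.ι
      rw [Category.assoc]
      exact e1.trans (hc.trans e2)
    · intro c m hm
      have hm' : m ≫ s = c.ι := hm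
      rw [← hm', Category.assoc, hsf]
      exact (Category.comp_id m).symm
  have hZ : IsLimit (Fork.ofι (yoneda.map (equalizer.ι q (𝟙 Y)))
      (by rw [← yoneda.map_comp, ← yoneda.map_comp, equalizer.condition]) :
      Fork (yoneda.map q) (yoneda.map (𝟙 Y))) :=
    isLimitForkMapOfIsLimit yoneda (equalizer.condition q (𝟙 Y)) (equalizerIsEqualizer q (𝟙 Y))
  refine ⟨IsLimit.conePointUniqueUpToIso hF hZ, ?_⟩
  exact IsLimit.conePointUniqueUpToIso_hom_comp hF hZ WalkingParallelPair.zero

end Groth.Agent.S17825
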