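import Groth.Statements.S1783
import Groth.Agent.Lib.Helper6.RestrLin2
import Groth.Agent.Lib.Helper6.HomBC6

set_option autoImplicit false
universe u
open CategoryTheory
attribute [local instance] HasDerivedCategory.standard
open Dual2

namespace Groth.Agent.S1783

/-- Let R → A be a ring map of finite type between Noetherian rings, where φ^!(K) is formed from a
presentation ψ : R[x_1, …, x_n] → A as RHom_P(A, K ⊗^L_R P)[n], assuming the derived base change to
P exists and taking for RHom_P(A, −) a right adjoint of restriction of scalars along ψ. If K in D(R)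
has vanishing cohomology below some degree, then so does φ^!(K); if moreover all cohomology modules
of K are finite R-modules, then all cohomology modules of φ^!(K) are finite A-modules. -/
theorem result (R A : Type u) [CommRing R] [CommRing A] [IsNoetherianRing R] [IsNoetherianRing A] [Algebra R A] (n : ℕ) (ψ : MvPolynomial (Fin n) R →ₐ[R] A) (hψ : Function.Surjective ψ) [DRing.HasLBaseChange (algebraMap R (MvPolynomial (Fin n) R))] (Rψ : Dual.D (MvPolynomial (Fin n) R) ⥤ Dual.D A) (adj : DRing.restrictD ψ.toRingHom ⊣ Rψ) (K : Dual.D R) (a : ℤ) (hKa : ∀ i : ℤ, i < a → Subsingleton (Dual.HD R K i)) : (∃ b : ℤ, ∀ i : ℤ, i < b → Subsingleton (Dual.HD A (Dual2.shriekVia n Rψ K) i)) ∧ ((∀ i : ℤ, Module.Finite R (Dual.HD R K i)) → ∀ i : ℤ, Module.Finite A (Dual.HD A (Dual2.shriekVia n Rψ K) i)) := by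
  classical
  set P := MvPolynomial (Fin n) R with hP
  set L : Dual.D P := (DRing.LBaseChange (algebraMap R P)).obj K with hL
  let eL : L ≅ (Lib.Helper35.FlatBC.G R P).obj K := (Lib.Helper6.HomBC.lbcIsoG R P).app K
  have eH : ∀ j : ℤ, Nonempty (Dual.HD P L j ≃ₗ[P] TensorProduct R P (Dual.HD R K j)) := fun j =>
    ⟨((DerivedCategory.homologyFunctor (ModuleCat.{u} P) j).mapIso eL).toLinearEquiv ≪≫ₗ
      Lib.Helper6.HomBC.homologyGEquiv (B := P) K j⟩
  have hLa : ∀ j : ℤ, j < a → Subsingleton (Dual.HD P L j) := by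
    intro j hj
    obtain ⟨e⟩ := eH j
    have := hKa j hj
    exact e.toEquiv.subsingleton
  have hφ : ψ.toRingHom.Finite := RingHom.Finite.of_surjective ψ.toRingHom hψ
  -- shift
  have eS : ∀ i : ℤ, Nonempty (Dual.HD A (Dual2.shriekVia n Rψ K) i ≃ₗ[A]
      Dual.HD A (Rψ.obj L) (i + n)) := fun i =>
    ⟨(((DerivedCategory.homologyFunctor (ModuleCat.{u} A) 0).shiftIso (n : ℤ) i (i + n)
      (by omega)).app (Rψ.obj L)).toLinearEquiv⟩
  refine ⟨⟨a - n, ?_⟩, ?_⟩
  · intro i hi
    obtain ⟨e⟩ := eS i
    have := Lib.Helper6.RestrLin.subsingleton_HD_rightAdjoint ψ.toRingHom adj L a hLa (i + n)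
      (by omega)
    exact e.toEquiv.subsingleton
  · intro hK i
    obtain ⟨e⟩ := eS i
    have hLf : ∀ j : ℤ, Module.Finite P (Dual.HD P L j) := by
      intro j
      obtain ⟨e⟩ := eH j
      have := hK j
      exact Module.Finite.equiv e.symm
    have := Lib.Helper6.RestrLin.finite_HD_rightAdjoint ψ.toRingHom adj hφ L a hLa hLf (i + n)
    exact Module.Finite.equiv e.symm

end Groth.Agent.S1783
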