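import Groth.Statements.S17833
import Groth.Agent.Lib.Helper75.AbVarOfSmooth
import Groth.Agent.Lib.Helper75.ConstAffine
import Groth.Agent.Lib.Helper54.Reduced
-- import your own Groth.Agent.* helpers here

set_option autoImplicit false
universe u
open CategoryTheory MonoidalCategory CartesianMonoidalCategory MonObj GrpObj AlgebraicGeometry
open AlgGrp

namespace Groth.Agent.S17833

/-- Over an algebraically closed field k, let G be a connected smooth k-group scheme of finite type (in
the terminology of the notes, a smooth connected algebraic group), and H an affine normal subgroup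
scheme of G such that the quotient G/H is an abelian variety: here j : H → G is the kernel of a flat
surjective homomorphism q : G → Q of k-group schemes with Q proper over k, and H is affine. Then an
automorphism u of the algebraic group G which fixes H pointwise (j ∘ u = j) and induces the identity
of Q (q ∘ u = q) is the identity. Equivalently, the map from the group of automorphisms of G fixing
H pointwise to the automorphism group of G/H is injective. -/
theorem result (k : Type u) [Field k] [IsAlgClosed k]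
    (G H Q : Over (Spec (CommRingCat.of k))) [GrpObj G] [GrpObj H] [GrpObj Q]
    [Smooth G.hom] [QuasiCompact G.hom] [ConnectedSpace ↥G.left]
    [IsAffine H.left] [IsProper Q.hom]
    (j : H ⟶ G) [IsMonHom j] (q : G ⟶ Q) [IsMonHom q] [Flat q.left] [Surjective q.left]
    (hker : AlgGrp.IsKernel j q)
    (u : G ≅ G) [IsMonHom u.hom] (hH : j ≫ u.hom = j) (hQ : u.hom ≫ q = q) :
    u.hom = 𝟙 G := by
  have hjmono : Mono j := by
    constructor
    intro Z a b hab
    exact hker.hom_ext hab (toUnit_unique _ _)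
  -- the morphism g ↦ u(g) g⁻¹
  obtain ⟨φ, hφdef⟩ : ∃ φ : G ⟶ G, φ = u.hom * (𝟙 G)⁻¹ := ⟨_, rfl⟩
  have hφq : φ ≫ q = toUnit G ≫ η[Q] := by
    rw [hφdef, mul_comp, GrpObj.inv_comp, hQ, Category.id_comp, mul_inv_cancel, Hom.one_def]
  obtain ⟨φ', hφ'⟩ : ∃ φ' : G ⟶ H, φ' ≫ j = φ := ⟨hker.lift φ (toUnit G) hφq, hker.lift_fst _ _ _⟩
  -- invariance under the kernel
  have hinv : ∀ (Z : Over (Spec (CommRingCat.of k))) (g₁ g₂ : Z ⟶ G), g₁ ≫ q = g₂ ≫ q →
      g₁ ≫ φ' = g₂ ≫ φ' := by
    intro Z g₁ g₂ hg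
    have h1 : (g₁⁻¹ * g₂) ≫ q = toUnit Z ≫ η[Q] := by
      rw [mul_comp, GrpObj.inv_comp, hg, inv_mul_cancel, Hom.one_def]
    obtain ⟨h, hh⟩ : ∃ h : Z ⟶ H, h ≫ j = g₁⁻¹ * g₂ := ⟨hker.lift _ (toUnit Z) h1, hker.lift_fst _ _ _⟩
    have hg₂ : g₂ = g₁ * (h ≫ j) := by rw [hh, mul_inv_cancel_left]
    have hhu : (h ≫ j) ≫ u.hom = h ≫ j := by rw [Category.assoc, hH]
    rw [← cancel_mono j, Category.assoc, Category.assoc, hφ', hφdef, comp_mul, comp_mul,
      GrpObj.comp_inv, GrpObj.comp_inv, Category.comp_id, Category.comp_id, hg₂, mul_comp, hhu,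
      _root_.mul_inv_rev, ← _root_.mul_assoc, mul_inv_cancel_right]
  -- scheme-level invariance
  have hinv' : ∀ {Z : Scheme.{u}} (g₁ g₂ : Z ⟶ G.left), g₁ ≫ q.left = g₂ ≫ q.left →
      g₁ ≫ φ'.left = g₂ ≫ φ'.left := by
    intro Z g₁ g₂ hg
    have hG : g₂ ≫ G.hom = g₁ ≫ G.hom := by
      rw [← Over.w q, ← Category.assoc, ← hg, Category.assoc]
    have := hinv (Over.mk (g₁ ≫ G.hom)) (Over.homMk g₁ rfl) (Over.homMk g₂ hG)
      (by ext; simpa using hg)
    simpa using congrArg (fun t => t.left) this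
  -- q is an fpqc covering
  have hQsep : IsSeparated Q.hom := inferInstance
  have hqqc : QuasiCompact q.left := by
    have : QuasiCompact (q.left ≫ Q.hom) := by rw [Over.w q]; infer_instance
    exact QuasiCompact.of_comp q.left Q.hom
  obtain ⟨ψ, hψ⟩ : ∃ ψ : Q.left ⟶ H.left, q.left ≫ ψ = φ'.left :=
    ⟨EffectiveEpi.desc q.left φ'.left hinv', EffectiveEpi.fac _ _ _⟩
  -- Q is integral
  have hGred : IsReduced G.left := Groth.Agent.Lib.Helper41.SepPoints3.isReduced_of_smooth G
  have hQred : IsReduced Q.left := Groth.Agent.Lib.Helper54.isReduced_of_flat_of_surjective q.left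
  have hGirr : IrreducibleSpace G.left :=
    Groth.Agent.Lib.Helper75.AbVarOfSmooth.irreducibleSpace_of_grpObj G
  have hQirr : IrreducibleSpace Q.left :=
    q.left.surjective.irreducibleSpace q.left.continuous
  have hQint : IsIntegral Q.left := isIntegral_of_irreducibleSpace_of_isReduced Q.left
  have hσ : η[Q].left ≫ Q.hom = 𝟙 _ := Over.w η[Q]
  have hψc := Groth.Agent.Lib.Helper75.ConstAffine.eq_comp_of_isAffine k Q.hom η[Q].left hσ ψ
  have hηφ' : η[G] ≫ φ' = η[H] := by
    rw [← cancel_mono j, Category.assoc, hφ', hφdef, comp_mul, GrpObj.comp_inv, Category.comp_id,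
      IsMonHom.one_hom, IsMonHom.one_hom, mul_inv_cancel, MonObj.one_eq_one]
  have hηψ : η[Q].left ≫ ψ = η[H].left := by
    rw [← IsMonHom.one_hom q, Over.comp_left, Category.assoc, hψ, ← Over.comp_left, hηφ']
  have hφ'c : φ' = toUnit G ≫ η[H] := by
    ext
    rw [Over.comp_left, CategoryTheory.Over.toUnit_left, ← hψ, hψc, hηψ, ← Category.assoc, Over.w q]
  have hφ1 : φ = 1 := by
    rw [← hφ', hφ'c, Category.assoc, IsMonHom.one_hom, Hom.one_def]
  rw [hφdef] at hφ1
  exact mul_inv_eq_one.mp hφ1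

end Groth.Agent.S17833
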