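import Groth.Statements.S17843
import Mathlib

set_option autoImplicit false
universe u v
open CAlg

namespace Groth.Agent.S17843

open Polynomial

section helpers
variable {R : Type u} [CommRing R] (r : R)

/-- scaling on `R[X]` -/
noncomputable def σ (n : ℕ) : R[X] →ₐ[R] R[X] := Polynomial.aeval (C (r ^ n) * X)

/-- scaling on `R_r[X]` -/
noncomputable def φ (n : ℕ) :
    (Localization.Away r)[X] →ₐ[Localization.Away r] (Localization.Away r)[X] :=
  Polynomial.aeval (C (algebraMap R (Localization.Away r) (r ^ n)) * X)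

lemma coeff_σ (n : ℕ) (Q : R[X]) (j : ℕ) : ((σ r n) Q).coeff j = Q.coeff j * (r ^ n) ^ j := by
  unfold σ; rw [← Polynomial.comp_eq_aeval, comp_C_mul_X_coeff]

lemma coeff_φ (n : ℕ) (P : (Localization.Away r)[X]) (j : ℕ) :
    ((φ r n) P).coeff j = P.coeff j * (algebraMap R (Localization.Away r) (r ^ n)) ^ j := by
  unfold φ; rw [← Polynomial.comp_eq_aeval, comp_C_mul_X_coeff]

lemma map_σ (n : ℕ) (Q : R[X]) :
    ((σ r n) Q).map (algebraMap R (Localization.Away r)) =
      (φ r n) (Q.map (algebraMap R (Localization.Away r))) := by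
  ext j
  rw [coeff_map, coeff_σ, coeff_φ, coeff_map, map_mul, map_pow]

lemma φ_φ (a b : ℕ) (P : (Localization.Away r)[X]) : (φ r a) ((φ r b) P) = (φ r (a + b)) P := by
  ext j
  rw [coeff_φ, coeff_φ, coeff_φ, mul_assoc, ← mul_pow, ← map_mul, ← pow_add, add_comm]

/-- lifting a single polynomial after rescaling -/
lemma exists_lift (P : (Localization.Away r)[X]) (a : R)
    (ha : P.coeff 0 = algebraMap R (Localization.Away r) a) :
    ∃ (n : ℕ) (Q : R[X]), Q.map (algebraMap R (Localization.Away r)) = (φ r n) P ∧ Q.coeff 0 = a := by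
  classical
  choose k b hkb using fun j => IsLocalization.Away.surj (S := Localization.Away r) r (P.coeff j)
  let n := P.support.sup k
  refine ⟨n, C a + ∑ j ∈ P.support.erase 0, monomial j (b j * r ^ (n * j - k j)), ?_, ?_⟩
  · ext j
    rw [coeff_map, coeff_add, coeff_C, finsetSum_coeff, coeff_φ]
    simp only [coeff_monomial]
    rw [Finset.sum_ite_eq' (P.support.erase 0) j]
    by_cases hj : j = 0
    · subst hj
      simp [ha]
    · rw [if_neg hj, zero_add]
      by_cases hjs : j ∈ P.support
      · rw [if_pos (Finset.mem_erase.mpr ⟨hj, hjs⟩)]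
        have hkn : k j ≤ n * j := by
          have h1 : k j ≤ n := Finset.le_sup hjs
          have h2 : 1 ≤ j := Nat.one_le_iff_ne_zero.mpr hj
          nlinarith
        rw [map_mul, ← hkb j, mul_assoc]
        congr 1
        simp only [map_pow]
        rw [← pow_add, ← pow_mul, Nat.add_sub_cancel' hkn]
      · rw [if_neg (fun h => hjs (Finset.mem_erase.mp h).2)]
        rw [notMem_support_iff.mp hjs, zero_mul, map_zero]
  · rw [coeff_add, coeff_C_zero, finsetSum_coeff]
    simp only [coeff_monomial]
    rw [Finset.sum_eq_zero, add_zero]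
    intro j hj
    rw [if_neg (Finset.mem_erase.mp hj).1]

/-- uniform lifting of finitely many polynomials -/
lemma exists_lift_fin {m : ℕ} (P : Fin m → (Localization.Away r)[X]) (a : Fin m → R)
    (ha : ∀ i, (P i).coeff 0 = algebraMap R (Localization.Away r) (a i)) :
    ∃ (n : ℕ) (Q : Fin m → R[X]), ∀ i,
      (Q i).map (algebraMap R (Localization.Away r)) = (φ r n) (P i) ∧ (Q i).coeff 0 = a i := by
  choose n Q hQ using fun i => exists_lift r (P i) (a i) (ha i)
  refine ⟨Finset.univ.sup n, fun i => (σ r (Finset.univ.sup n - n i)) (Q i), fun i => ⟨?_, ?_⟩⟩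
  · rw [map_σ, (hQ i).1, φ_φ, Nat.sub_add_cancel (Finset.le_sup (Finset.mem_univ i))]
  · rw [coeff_σ, pow_zero, mul_one, (hQ i).2]

/-- a polynomial in the kernel of the localisation map with zero constant term is killed by
all sufficiently large rescalings. -/
lemma exists_σ_eq_zero (G : R[X]) (hG : G.map (algebraMap R (Localization.Away r)) = 0)
    (h0 : G.coeff 0 = 0) : ∃ e : ℕ, ∀ e', e ≤ e' → (σ r e') G = 0 := by
  classical
  have h1 : ∀ j, ∃ e : ℕ, r ^ e * G.coeff j = 0 := by
    intro j
    have : algebraMap R (Localization.Away r) (G.coeff j) = algebraMap R (Localization.Away r) 0 := by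
      rw [← coeff_map, hG, coeff_zero, map_zero]
    obtain ⟨e, he⟩ := IsLocalization.Away.exists_of_eq (S := Localization.Away r) r this
    exact ⟨e, by rw [he, mul_zero]⟩
  choose e he using h1
  refine ⟨G.support.sup e, fun e' he' => ?_⟩
  ext j
  rw [coeff_σ, coeff_zero]
  by_cases hj : j = 0
  · subst hj; rw [h0, zero_mul]
  by_cases hjs : j ∈ G.support
  · have h2 : e j ≤ e' * j := by
      have h1 : e j ≤ e' := (Finset.le_sup hjs).trans he'
      have h2 : 1 ≤ j := Nat.one_le_iff_ne_zero.mpr hj
      nlinarith
    rw [← pow_mul, ← Nat.add_sub_cancel' h2, pow_add, ← mul_assoc, mul_comm (G.coeff j), he j,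
      zero_mul]
  · rw [notMem_support_iff.mp hjs, zero_mul]

end helpers


/-- In the case of an affine scheme of finite presentation, let B be a finitely presented R-algebra, r ∈
R, and x : B → R[1/r][T] an R-algebra homomorphism whose value at T = 0, a homomorphism B → R[1/r],
is induced by a homomorphism x̃₀ : B → R. Then for every large enough n, the homomorphism x(rⁿT) : B
→ R[1/r][T] is induced by a homomorphism x̃ : B → R[T] whose value at T = 0 is x̃₀. The published
statement is for algebraic spaces locally of finite presentation over R; this row takes an affine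
scheme of finite presentation. -/
theorem result
    (R : Type u) (B : Type v) [CommRing R] [CommRing B] [Algebra R B]
    [Algebra.FinitePresentation R B] (r : R)
    (x : B →ₐ[R] Polynomial (Localization.Away r))
    (x₀ : B →ₐ[R] R)
    (hx₀ : (algebraMap R (Localization.Away r)).comp x₀.toRingHom =
      (Polynomial.evalRingHom 0).comp x.toRingHom) :
    ∃ N : ℕ, ∀ n : ℕ, N ≤ n →
      ∃ y : B →ₐ[R] Polynomial R,
        (Polynomial.evalRingHom 0).comp y.toRingHom = x₀.toRingHom ∧
        (Polynomial.mapRingHom (algebraMap R (Localization.Away r))).comp y.toRingHom =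
          (Polynomial.aeval (Polynomial.C (algebraMap R (Localization.Away r) (r ^ n)) * Polynomial.X) :
              Polynomial (Localization.Away r) →ₐ[Localization.Away r] Polynomial (Localization.Away r)).toRingHom.comp
            x.toRingHom := by
  classical
  obtain ⟨m, π, hπ, s, hs⟩ := Algebra.FinitePresentation.out (R := R) (A := B)
  have ha : ∀ i, (x (π (MvPolynomial.X i))).coeff 0 =
      algebraMap R (Localization.Away r) (x₀ (π (MvPolynomial.X i))) := by
    intro i
    have := RingHom.congr_fun hx₀ (π (MvPolynomial.X i))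
    rw [coeff_zero_eq_eval_zero]
    exact this.symm
  obtain ⟨n₁, Q, hQ⟩ := exists_lift_fin r (fun i => x (π (MvPolynomial.X i)))
    (fun i => x₀ (π (MvPolynomial.X i))) ha
  let yt : MvPolynomial (Fin m) R →ₐ[R] R[X] := MvPolynomial.aeval Q
  have B1 : ∀ p, (yt p).map (algebraMap R (Localization.Away r)) = (φ r n₁) (x (π p)) := by
    have : ((Polynomial.mapRingHom (algebraMap R (Localization.Away r))).comp yt.toRingHom) =
        ((φ r n₁).toRingHom.comp (x.toRingHom.comp π.toRingHom)) := by
      apply MvPolynomial.ringHom_ext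
      · intro c
        simp [yt, φ]
      · intro i
        simp [yt, (hQ i).1]
    intro p; exact RingHom.congr_fun this p
  have B2 : ∀ p, (yt p).coeff 0 = x₀ (π p) := by
    have : ((Polynomial.evalRingHom 0).comp yt.toRingHom) = (x₀.toRingHom.comp π.toRingHom) := by
      apply MvPolynomial.ringHom_ext
      · intro c; simp [yt]
      · intro i; simp [yt, ← coeff_zero_eq_eval_zero, (hQ i).2]
    intro p; rw [coeff_zero_eq_eval_zero]; exact RingHom.congr_fun this p
  have hgen : ∀ F ∈ s, ∃ e, ∀ e', e ≤ e' → (σ r e') (yt F) = 0 := by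
    intro F hF
    have hFker : π F = 0 := by
      have : F ∈ RingHom.ker π.toRingHom := by rw [← hs]; exact Ideal.subset_span hF
      exact this
    apply exists_σ_eq_zero
    · rw [B1, hFker, map_zero, map_zero]
    · rw [B2, hFker, map_zero]
  choose! e he using hgen
  refine ⟨n₁ + s.sup e, fun n hn => ?_⟩
  have hle : ∀ F ∈ s, e F ≤ n - n₁ := fun F hF => (Finset.le_sup hF).trans (by omega)
  let y' : MvPolynomial (Fin m) R →ₐ[R] R[X] := (σ r (n - n₁)).comp yt
  have hker : RingHom.ker π.toRingHom ≤ RingHom.ker y'.toRingHom := by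
    rw [← hs, Ideal.span_le]
    intro F hF
    exact he F hF (n - n₁) (hle F hF)
  refine ⟨AlgHom.liftOfSurjective π hπ y' hker, ?_, ?_⟩
  · refine RingHom.ext fun b => ?_
    obtain ⟨p, rfl⟩ := hπ b
    change eval 0 (AlgHom.liftOfSurjective π hπ y' hker (π p)) = x₀ (π p)
    rw [AlgHom.liftOfSurjective_apply]
    change eval 0 ((σ r (n - n₁)) (yt p)) = _
    rw [← coeff_zero_eq_eval_zero, coeff_σ, pow_zero, mul_one, B2]
  · refine RingHom.ext fun b => ?_
    obtain ⟨p, rfl⟩ := hπ b
    change (AlgHom.liftOfSurjective π hπ y' hker (π p)).map (algebraMap R (Localization.Away r)) =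
      (φ r n) (x (π p))
    rw [AlgHom.liftOfSurjective_apply]
    change ((σ r (n - n₁)) (yt p)).map (algebraMap R (Localization.Away r)) = _
    rw [map_σ, B1, φ_φ, Nat.sub_add_cancel (by omega)]

end Groth.Agent.S17843
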