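import Mathlib
import Groth.Statements.S17849

set_option autoImplicit false
open CategoryTheory
open GalLat

namespace Groth.Agent.S17849

open CategoryTheory CategoryTheory.Limits groupCohomology

universe u
variable {k G : Type u} [CommRing k] [Group G]

section Dir1
variable (A : Rep.{u} k G) (X : Type u) [MulAction G X]
  (E₂ : Rep.{u} k G) (j : A ⟶ E₂) (q : E₂ ⟶ Rep.ofMulAction k G X)
  (hj : Function.Injective j.hom) (hjq : ∀ a, q.hom (j.hom a) = 0)
  (hex : ∀ e, q.hom e = 0 → ∃ a, j.hom a = e)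

include hj hex hjq in
lemma exists_fixed_lift (hq : Function.Surjective q.hom)
    (x : X) (hH : IsZero (groupCohomology (Rep.res (MulAction.stabilizer G x).subtype A) 1)) :
    ∃ e : E₂.V, q.hom e = MonoidAlgebra.single x 1 ∧
      ∀ γ ∈ MulAction.stabilizer G x, E₂.ρ γ e = e := by
  obtain ⟨e₀, he₀⟩ := hq (MonoidAlgebra.single x 1)
  have key : ∀ γ ∈ MulAction.stabilizer G x, q.hom (E₂.ρ γ e₀ - e₀) = 0 := by
    intro γ hγ
    rw [map_sub, Rep.hom_comm_apply, he₀]
    have : (Rep.ofMulAction k G X).ρ γ (MonoidAlgebra.single x 1) = MonoidAlgebra.single x 1 := by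
      show Representation.ofMulAction k G X γ (MonoidAlgebra.single x 1) = _
      rw [Representation.ofMulAction_single, MulAction.mem_stabilizer_iff.1 hγ]
    rw [this, sub_self]
  choose a ha using fun (γ : MulAction.stabilizer G x) => hex _ (key γ γ.2)
  have hcoc : a ∈ cocycles₁ (Rep.res (MulAction.stabilizer G x).subtype A) := by
    rw [mem_cocycles₁_iff]
    intro g h
    apply hj
    rw [map_add, ha]
    show _ = j.hom (A.ρ (g : G) (a h)) + j.hom (a g)
    rw [Rep.hom_comm_apply, ha, ha]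
    simp only [Subgroup.coe_mul, map_mul, Module.End.mul_apply, map_sub]
    abel
  have hsub := (ModuleCat.isZero_iff_subsingleton).1 hH
  have h0 : H1π (Rep.res (MulAction.stabilizer G x).subtype A) ⟨a, hcoc⟩ = 0 := Subsingleton.elim _ _
  rw [H1π_eq_zero_iff] at h0
  obtain ⟨b, hb⟩ := h0
  refine ⟨e₀ - j.hom b, ?_, ?_⟩
  · rw [map_sub, he₀, hjq, sub_zero]
  · intro γ hγ
    have h1 := ha ⟨γ, hγ⟩
    have h2 : A.ρ γ b - b = a ⟨γ, hγ⟩ := congrFun hb ⟨γ, hγ⟩
    rw [map_sub, ← Rep.hom_comm_apply]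
    have h3 : j.hom (A.ρ γ b) = j.hom b + j.hom (a ⟨γ, hγ⟩) := by
      rw [← h2, map_sub]; abel
    rw [h3, h1]
    abel


include hj hex hjq in
lemma exists_section (hq : Function.Surjective q.hom)
    (hH : ∀ H : Subgroup G, IsZero (groupCohomology (Rep.res H.subtype A) 1)) :
    ∃ s : Rep.ofMulAction k G X ⟶ E₂, s ≫ q = 𝟙 _ := by
  classical
  choose et het1 het2 using fun x : X => exists_fixed_lift A X E₂ j q hj hjq hex hq x (hH _)
  let r : X → X := fun x => (Quotient.mk'' x : MulAction.orbitRel.Quotient G X).out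
  have hr : ∀ x, ∃ g : G, g • r x = x := by
    intro x
    have h1 : (Quotient.mk'' (r x) : MulAction.orbitRel.Quotient G X) = Quotient.mk'' x :=
      Quotient.out_eq' _
    have h2 := Quotient.exact' h1
    rw [MulAction.orbitRel_apply] at h2
    obtain ⟨g, hg⟩ := h2
    exact ⟨g⁻¹, by rw [← hg, inv_smul_smul]⟩
  have hrr : ∀ (h : G) (x : X), r (h • x) = r x := by
    intro h x
    show Quotient.out _ = Quotient.out _
    congr 1
    apply Quotient.sound'
    rw [MulAction.orbitRel_apply]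
    exact MulAction.mem_orbit x h
  choose gx hgx using hr
  let e : X → E₂.V := fun x => E₂.ρ (gx x) (et (r x))
  have hsingle : ∀ (g : G) (x : X), (Rep.ofMulAction k G X).ρ g (MonoidAlgebra.single x 1) =
      MonoidAlgebra.single (g • x) 1 := fun g x => Representation.ofMulAction_single g x 1
  have he_q : ∀ x, q.hom (e x) = MonoidAlgebra.single x 1 := by
    intro x
    show q.hom (E₂.ρ (gx x) (et (r x))) = _
    rw [Rep.hom_comm_apply, het1, hsingle, hgx]
  have he_eq : ∀ (h : G) (x : X), E₂.ρ h (e x) = e (h • x) := by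
    intro h x
    have hmem : (gx (h • x))⁻¹ * h * gx x ∈ MulAction.stabilizer G (r x) := by
      rw [MulAction.mem_stabilizer_iff, mul_smul, mul_smul, hgx, inv_smul_eq_iff, ← hrr h x, hgx]
    have h3 := het2 (r x) _ hmem
    show E₂.ρ h (E₂.ρ (gx x) (et (r x))) = E₂.ρ (gx (h • x)) (et (r (h • x)))
    rw [hrr]
    conv_rhs => rw [← h3]
    simp only [← Module.End.mul_apply, ← map_mul]
    congr 2
    group
  let L : MonoidAlgebra k X →ₗ[k] E₂.V :=
    Finsupp.lift E₂.V k X e ∘ₗ (MonoidAlgebra.coeffLinearEquiv k).toLinearMap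
  have hL : ∀ (x : X) (c : k), L (MonoidAlgebra.single x c) = c • e x := by
    intro x c
    simp [L]
  let s : Rep.ofMulAction k G X ⟶ E₂ := Rep.ofHom ⟨L, fun g => by
    ext x
    simp only [LinearMap.coe_comp, Function.comp_apply]
    rw [MonoidAlgebra.lsingle_apply, Representation.ofMulAction_single, hL, hL, one_smul, one_smul]
    exact (he_eq g x).symm⟩
  refine ⟨s, ?_⟩
  refine Rep.hom_ext (Representation.IntertwiningMap.ext ?_)
  refine MonoidAlgebra.lhom_ext' fun x => LinearMap.ext_ring ?_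
  show q.hom (L (MonoidAlgebra.single x 1)) = MonoidAlgebra.single x 1
  rw [hL, one_smul, he_q]

end Dir1

theorem dir1 (A : Rep.{u} k G)
    (hH : ∀ H : Subgroup G, IsZero (groupCohomology (Rep.res H.subtype A) 1))
    (X : Type u) [MulAction G X] (E : ShortComplex (Rep.{u} k G)) (hE : E.ShortExact)
    (α : E.X₁ ≅ A) (β : E.X₃ ≅ Rep.ofMulAction k G X) : Nonempty E.Splitting := by
  have hmono := hE.mono_f
  have hepi := hE.epi_g
  have hexact : ∀ e, E.g.hom e = 0 → ∃ a, E.f.hom a = e := by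
    have h1 := hE.exact.map (forget₂ (Rep.{u} k G) (ModuleCat.{u} k))
    rw [ShortComplex.moduleCat_exact_iff] at h1
    intro e he
    exact h1 e he
  have hβ : Function.Injective β.hom.hom := (Rep.mono_iff_injective _).1 inferInstance
  have hz : (α.inv ≫ E.f) ≫ (E.g ≫ β.hom) = 0 := by simp
  obtain ⟨s, hs⟩ := exists_section A X E.X₂ (α.inv ≫ E.f) (E.g ≫ β.hom)
    ((Rep.mono_iff_injective _).1 inferInstance)
    (fun a => by
      exact congrArg (fun t => t.hom a) hz)
    (fun e he => by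
      have he' : β.hom.hom (E.g.hom e) = 0 := he
      have he'' : E.g.hom e = 0 := hβ (by rw [he', map_zero])
      obtain ⟨a₁, ha₁⟩ := hexact e he''
      refine ⟨α.hom.hom a₁, ?_⟩
      show E.f.hom (α.inv.hom (α.hom.hom a₁)) = e
      rw [Rep.inv_hom_apply, ha₁])
    ((Rep.epi_iff_surjective _).1 inferInstance) hH
  have hs' : (β.hom ≫ s) ≫ E.g = 𝟙 _ := by
    have : s ≫ E.g = β.inv := by
      rw [← cancel_mono β.hom, Category.assoc, hs, Iso.inv_hom_id]
    rw [Category.assoc, this, Iso.hom_inv_id]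
  exact ⟨ShortComplex.Splitting.ofExactOfSection E hE.exact (β.hom ≫ s) hs' hE.mono_f⟩


lemma shortExact_of_concrete (X : ShortComplex (Rep.{u} k G))
    (hf : Function.Injective X.f.hom) (hg : Function.Surjective X.g.hom)
    (hex : ∀ b, X.g.hom b = 0 → ∃ a, X.f.hom a = b) : X.ShortExact where
  exact := by
    rw [← ShortComplex.exact_map_iff_of_faithful X (forget₂ (Rep.{u} k G) (ModuleCat.{u} k))]
    rw [ShortComplex.moduleCat_exact_iff]
    intro b hb
    exact hex b hb
  mono_f := (Rep.mono_iff_injective _).2 hf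
  epi_g := (Rep.epi_iff_surjective _).2 hg

section Dir2
variable (A : Rep.{u} k G) (H : Subgroup G)

open Classical in
noncomputable def sig (x : G ⧸ H) : G := if x = ((1 : G) : G ⧸ H) then 1 else x.out

lemma sig_spec (x : G ⧸ H) : ((sig H x : G) : G ⧸ H) = x := by
  unfold sig; split_ifs with h
  · exact h.symm
  · exact QuotientGroup.out_eq' x

lemma sig_one : sig H ((1 : G) : G ⧸ H) = 1 := by simp [sig]

noncomputable def gam (g : G) (x : G ⧸ H) : G := (sig H (g • x))⁻¹ * g * sig H x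

lemma gam_mem (g : G) (x : G ⧸ H) : gam H g x ∈ H := by
  have h1 : ((sig H (g • x) : G) : G ⧸ H) = ((g * sig H x : G) : G ⧸ H) := by
    rw [sig_spec, ← smul_eq_mul, ← MulAction.Quotient.smul_coe, sig_spec]
  rw [QuotientGroup.eq] at h1
  unfold gam; rwa [mul_assoc]

lemma gam_mul (g h : G) (x : G ⧸ H) : gam H (g * h) x = gam H g (h • x) * gam H h x := by
  unfold gam
  rw [mul_smul]
  group

lemma sig_mul_gam (g : G) (x : G ⧸ H) : sig H (g • x) * gam H g x = g * sig H x := by
  unfold gam; group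

variable (c : H → A.V) (hc : ∀ g h : H, c (g * h) = A.ρ (g : G) (c h) + c g)

open Classical in
noncomputable def cext (g : G) : A.V := if h : g ∈ H then c ⟨g, h⟩ else 0

lemma cext_coe (γ : H) : cext A H c γ = c γ := by
  unfold cext; rw [dif_pos γ.2]

include hc in
lemma cext_mul {g h : G} (hg : g ∈ H) (hh : h ∈ H) :
    cext A H c (g * h) = A.ρ g (cext A H c h) + cext A H c g := by
  have := hc ⟨g, hg⟩ ⟨h, hh⟩
  unfold cext
  rw [dif_pos hg, dif_pos hh, dif_pos (H.mul_mem hg hh)]
  exact this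

noncomputable def f (g : G) (x : G ⧸ H) : A.V := A.ρ (sig H (g • x)) (cext A H c (gam H g x))

include hc in
lemma f_mul (g h : G) (x : G ⧸ H) :
    f A H c (g * h) x = A.ρ g (f A H c h x) + f A H c g (h • x) := by
  unfold f
  rw [gam_mul, cext_mul A H c hc (gam_mem H g (h • x)) (gam_mem H h x), map_add]
  congr 1
  · rw [← Module.End.mul_apply, ← map_mul, ← Module.End.mul_apply, ← map_mul, mul_smul,
      sig_mul_gam]
  · rw [mul_smul]

include hc in
lemma f_one (x : G ⧸ H) : f A H c 1 x = 0 := by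
  have h := f_mul A H c hc 1 1 x
  rw [one_mul, map_one, Module.End.one_apply, one_smul] at h
  exact left_eq_add.mp h |>.symm ▸ rfl


noncomputable def F (g : G) : MonoidAlgebra k (G ⧸ H) →ₗ[k] A.V :=
  Finsupp.lift A.V k (G ⧸ H) (f A H c g) ∘ₗ (MonoidAlgebra.coeffLinearEquiv k).toLinearMap

lemma F_single (g : G) (x : G ⧸ H) (r : k) :
    F A H c g (MonoidAlgebra.single x r) = r • f A H c g x := by
  simp [F]

include hc in
lemma F_one : F A H c 1 = 0 := by
  refine MonoidAlgebra.lhom_ext' fun x => LinearMap.ext_ring ?_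
  show F A H c 1 (MonoidAlgebra.single x 1) = 0
  rw [F_single, f_one A H c hc, smul_zero]

include hc in
lemma F_mul (g h : G) (ξ : MonoidAlgebra k (G ⧸ H)) :
    F A H c (g * h) ξ = A.ρ g (F A H c h ξ) +
      F A H c g (Representation.ofMulAction k G (G ⧸ H) h ξ) := by
  have : F A H c (g * h) = A.ρ g ∘ₗ F A H c h +
      F A H c g ∘ₗ Representation.ofMulAction k G (G ⧸ H) h := by
    refine MonoidAlgebra.lhom_ext' fun x => LinearMap.ext_ring ?_
    show F A H c (g * h) (MonoidAlgebra.single x 1) =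
      A.ρ g (F A H c h (MonoidAlgebra.single x 1)) +
        F A H c g (Representation.ofMulAction k G (G ⧸ H) h (MonoidAlgebra.single x 1))
    rw [Representation.ofMulAction_single, F_single, F_single, F_single, one_smul, one_smul,
      one_smul, f_mul A H c hc]
  exact LinearMap.congr_fun this ξ

noncomputable def rhoEfun (g : G) :
    (A.V × MonoidAlgebra k (G ⧸ H)) →ₗ[k] (A.V × MonoidAlgebra k (G ⧸ H)) where
  toFun p := (A.ρ g p.1 + F A H c g p.2, Representation.ofMulAction k G (G ⧸ H) g p.2)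
  map_add' p q := by
    refine Prod.ext ?_ ?_
    · show A.ρ g (p.1 + q.1) + F A H c g (p.2 + q.2) =
        (A.ρ g p.1 + F A H c g p.2) + (A.ρ g q.1 + F A H c g q.2)
      rw [map_add, map_add]; abel
    · show Representation.ofMulAction k G (G ⧸ H) g (p.2 + q.2) = _ + _
      rw [map_add]
  map_smul' r p := by
    refine Prod.ext ?_ ?_
    · show A.ρ g (r • p.1) + F A H c g (r • p.2) = r • (A.ρ g p.1 + F A H c g p.2)
      rw [map_smul, map_smul, smul_add]
    · show Representation.ofMulAction k G (G ⧸ H) g (r • p.2) = r • _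
      rw [map_smul]

noncomputable def rhoE (hc : ∀ g h : H, c (g * h) = A.ρ (g : G) (c h) + c g) :
    Representation k G (A.V × MonoidAlgebra k (G ⧸ H)) where
  toFun g := rhoEfun A H c g
  map_one' := by
    apply LinearMap.ext
    rintro ⟨a, ξ⟩
    refine Prod.ext ?_ ?_
    · show A.ρ 1 a + F A H c 1 ξ = a
      rw [F_one A H c hc, map_one, Module.End.one_apply, LinearMap.zero_apply, add_zero]
    · show Representation.ofMulAction k G (G ⧸ H) 1 ξ = ξ
      rw [map_one, Module.End.one_apply]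
  map_mul' g h := by
    apply LinearMap.ext
    rintro ⟨a, ξ⟩
    refine Prod.ext ?_ ?_
    · show A.ρ (g * h) a + F A H c (g * h) ξ =
        A.ρ g (A.ρ h a + F A H c h ξ) +
          F A H c g (Representation.ofMulAction k G (G ⧸ H) h ξ)
      rw [F_mul A H c hc, map_mul, Module.End.mul_apply, map_add]
      abel
    · show Representation.ofMulAction k G (G ⧸ H) (g * h) ξ =
        Representation.ofMulAction k G (G ⧸ H) g (Representation.ofMulAction k G (G ⧸ H) h ξ)
      rw [map_mul, Module.End.mul_apply]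

lemma rhoE_apply (g : G) (a : A.V) (ξ : MonoidAlgebra k (G ⧸ H)) :
    rhoE A H c hc g (a, ξ) =
      (A.ρ g a + F A H c g ξ, Representation.ofMulAction k G (G ⧸ H) g ξ) := rfl


noncomputable abbrev Erep : Rep.{u} k G := Rep.of (rhoE A H c hc)

noncomputable def iota : A ⟶ Erep A H c hc :=
  Rep.ofHom (ρ := A.ρ) (σ := rhoE A H c hc) ⟨LinearMap.inl k A.V (MonoidAlgebra k (G ⧸ H)), fun g => by
    apply LinearMap.ext
    intro a
    refine Prod.ext ?_ ?_
    · show A.ρ g a = A.ρ g a + F A H c g 0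
      rw [map_zero, add_zero]
    · show (0 : MonoidAlgebra k (G ⧸ H)) = Representation.ofMulAction k G (G ⧸ H) g 0
      rw [map_zero]⟩

noncomputable def proj : Erep A H c hc ⟶ Rep.ofMulAction k G (G ⧸ H) :=
  Rep.ofHom (ρ := rhoE A H c hc) (σ := Representation.ofMulAction k G (G ⧸ H))
    ⟨LinearMap.snd k A.V (MonoidAlgebra k (G ⧸ H)), fun g => by
      apply LinearMap.ext
      rintro ⟨a, ξ⟩
      rfl⟩

lemma iota_apply (a : A.V) : (iota A H c hc).hom a = (a, 0) := rfl
lemma proj_apply (p : A.V × MonoidAlgebra k (G ⧸ H)) : (proj A H c hc).hom p = p.2 := rfl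

noncomputable def Ecx : ShortComplex (Rep.{u} k G) :=
  ShortComplex.mk (iota A H c hc) (proj A H c hc) (by
    refine Rep.hom_ext (Representation.IntertwiningMap.ext (LinearMap.ext fun a => ?_))
    rfl)


lemma Ecx_shortExact : (Ecx A H c hc).ShortExact :=
  shortExact_of_concrete _ (fun _ _ h => congrArg Prod.fst h) (fun ξ => ⟨(0, ξ), rfl⟩)
    (fun p hp => ⟨p.1, Prod.ext rfl (Eq.symm hp)⟩)

lemma smul_base (γ : G) (hγ : γ ∈ H) : γ • (((1 : G) : G ⧸ H)) = ((1 : G) : G ⧸ H) := by
  rw [MulAction.Quotient.smul_coe, smul_eq_mul, mul_one, QuotientGroup.eq, mul_one]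
  exact H.inv_mem (H.inv_mem hγ) |> fun h => by simpa using H.inv_mem hγ

lemma f_base (γ : H) : f A H c (γ : G) (((1 : G) : G ⧸ H)) = c γ := by
  unfold f gam
  rw [smul_base H γ γ.2, sig_one, inv_one, one_mul, mul_one, map_one, Module.End.one_apply,
    cext_coe]

lemma coboundary_of_splitting (hs : Nonempty (Ecx A H c hc).Splitting) :
    ∃ b : A.V, ∀ γ : H, A.ρ (γ : G) b - b = c γ := by
  obtain ⟨sp⟩ := hs
  have hsg : ∀ ξ : MonoidAlgebra k (G ⧸ H),
      ((sp.s.hom ξ : A.V × MonoidAlgebra k (G ⧸ H))).2 = ξ := fun ξ =>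
    congrArg (fun t => t.hom ξ) sp.s_g
  obtain ⟨p₀, hp₀⟩ : ∃ p₀ : A.V × MonoidAlgebra k (G ⧸ H),
      p₀ = sp.s.hom (MonoidAlgebra.single (((1 : G) : G ⧸ H)) 1) := ⟨_, rfl⟩
  refine ⟨-p₀.1, fun γ => ?_⟩
  have h1 : (sp.s.hom ((Rep.ofMulAction k G (G ⧸ H)).ρ (γ : G)
      (MonoidAlgebra.single (((1 : G) : G ⧸ H)) 1)) : A.V × MonoidAlgebra k (G ⧸ H)) =
      rhoE A H c hc (γ : G) (sp.s.hom (MonoidAlgebra.single (((1 : G) : G ⧸ H)) 1)) :=
    Rep.hom_comm_apply sp.s (γ : G) (MonoidAlgebra.single (((1 : G) : G ⧸ H)) 1)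
  have h2 : (Rep.ofMulAction k G (G ⧸ H)).ρ (γ : G)
      (MonoidAlgebra.single (((1 : G) : G ⧸ H)) 1) =
      MonoidAlgebra.single (((1 : G) : G ⧸ H)) 1 := by
    show Representation.ofMulAction k G (G ⧸ H) (γ : G) _ = _
    rw [Representation.ofMulAction_single, smul_base H γ γ.2]
  rw [h2, ← hp₀] at h1
  have h3 : p₀.1 = A.ρ (γ : G) p₀.1 + F A H c (γ : G) p₀.2 := congrArg Prod.fst h1
  have h4 : p₀.2 = MonoidAlgebra.single (((1 : G) : G ⧸ H)) 1 := by rw [hp₀]; exact hsg _
  rw [h4, F_single, one_smul, f_base] at h3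
  rw [map_neg]
  have h5 : c γ = p₀.1 - A.ρ (γ : G) p₀.1 := eq_sub_of_add_eq' h3.symm
  rw [h5]; abel

end Dir2

theorem dir2 (A : Rep.{u} k G) (H : Subgroup G)
    (hsplit : ∀ (E : ShortComplex (Rep.{u} k G)), E.ShortExact → Nonempty (E.X₁ ≅ A) →
      Nonempty (E.X₃ ≅ Rep.ofMulAction k G (G ⧸ H)) → Nonempty E.Splitting) :
    IsZero (groupCohomology (Rep.res H.subtype A) 1) := by
  rw [ModuleCat.isZero_iff_subsingleton]
  suffices h : ∀ z : groupCohomology (Rep.res H.subtype A) 1, z = 0 from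
    ⟨fun x y => by rw [h x, h y]⟩
  intro z
  induction z using H1_induction_on with
  | h x =>
    rw [H1π_eq_zero_iff]
    have hx : ∀ g h : H, x (g * h) = A.ρ (g : G) (x h) + x g :=
      (mem_cocycles₁_iff (A := Rep.res H.subtype A) (⇑x)).1 x.2
    obtain ⟨b, hb⟩ := coboundary_of_splitting A H (⇑x) hx
      (hsplit _ (Ecx_shortExact A H _ hx) ⟨Iso.refl _⟩ ⟨Iso.refl _⟩)
    exact ⟨b, funext fun γ => hb γ⟩

/-- For a finite group Γ and a Γ-lattice Λ (finitely generated free ℤ-module with Γ-action) the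
following are equivalent: (i) H¹(Γ', Λ) = 0 for every subgroup Γ' ≤ Γ; (ii) Ext¹ over ℤ[Γ] of P into
Λ vanishes for every permutation lattice P = ℤ[X], X a finite Γ-set. Condition (ii) is stated
through Yoneda extensions: every short exact sequence 0 → Λ' → E → P → 0 of ℤ-linear
Γ-representations with Λ' ≅ Λ and P ≅ ℤ[X] splits. (These are the lattices called coflasque.) The
group, the lattice and the Γ-sets are taken in the lowest universe. -/
theorem result
    (Γ : Type) [Group Γ] [Finite Γ] (Λ : Rep ℤ Γ) [Module.Free ℤ Λ.V] [Module.Finite ℤ Λ.V] :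
    (∀ Γ' : Subgroup Γ, Limits.IsZero (groupCohomology (Rep.res Γ'.subtype Λ) 1)) ↔
      ∀ (X : Type) [MulAction Γ X] [Finite X] (E : ShortComplex (Rep ℤ Γ)),
        E.ShortExact → Nonempty (E.X₁ ≅ Λ) → Nonempty (E.X₃ ≅ Rep.ofMulAction ℤ Γ X) →
          Nonempty E.Splitting := by
  constructor
  · intro h X _ _ E hE hα hβ
    obtain ⟨α⟩ := hα
    obtain ⟨β⟩ := hβ
    exact dir1 Λ h X E hE α β
  · intro h Γ'
    exact dir2 Λ Γ' (fun E hE a b => h (Γ ⧸ Γ') E hE a b)

end Groth.Agent.S17849
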