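import Groth.Statements.S17853
-- import your own Groth.Agent.* helpers here
import Groth.Agent.Lib.Helper89.HorrocksMain

set_option autoImplicit false
open Polynomial LaurentPolynomial TensorProduct
universe u
open CAlg

namespace Groth.Agent.S17853

/-- For an arbitrary commutative ring A, a finitely generated projective A[t]-module M is extended from
A (isomorphic to A[t] ⊗_A P for an A-module P) if and only if it extends to a vector bundle on the
projective line over A. The latter is stated by gluing: there are a finitely generated projective
module N over the polynomial ring of the chart at infinity and an isomorphism over the Laurent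
polynomial ring between the localisation of M and the base change of N along s ↦ t⁻¹, written as a
bijective additive map A[t,t⁻¹] ⊗ M → A[t,t⁻¹] ⊗ N that is semilinear with respect to the A-algebra
involution t ↦ t⁻¹ of A[t,t⁻¹]. (The published statement adds: for A semilocal, M is then free on
each connected component of the affine line.) -/
theorem result
    (A : Type u) [CommRing A] (M : Type u) [AddCommGroup M] [Module A[X] M]
    [Module.Finite A[X] M] [Module.Projective A[X] M] :
    (∃ (P : Type u) (_ : AddCommGroup P) (_ : Module A P), Nonempty (M ≃ₗ[A[X]] (A[X] ⊗[A] P))) ↔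
      ∃ (N : Type u) (_ : AddCommGroup N) (_ : Module A[X] N),
        Module.Finite A[X] N ∧ Module.Projective A[X] N ∧
        ∃ e : (A[T;T⁻¹] ⊗[A[X]] M) →ₛₗ[(LaurentPolynomial.invert (R := A)).toRingEquiv.toRingHom]
            (A[T;T⁻¹] ⊗[A[X]] N), Function.Bijective e := by
  constructor
  · rintro ⟨P, _, _, ⟨eqv⟩⟩
    obtain ⟨e, he⟩ := Groth.Agent.Lib.Helper89.Horrocks.exists_semilinear_of_extended M P eqv
    exact ⟨M, inferInstance, inferInstance, inferInstance, inferInstance, e, he⟩
  · rintro ⟨N, _, _, hfin, hproj, e, he⟩
    obtain ⟨n, p, ⟨hM⟩⟩ := Groth.Agent.Lib.Helper89.Horrocks.exists_pres A[X] M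
    obtain ⟨k, q, ⟨hN⟩⟩ := Groth.Agent.Lib.Helper89.Horrocks.exists_pres A[X] N
    have hext : Groth.Agent.Lib.Helper89.QPatch.IsExt p :=
      Groth.Agent.Lib.Helper89.Horrocks.isExt_of_semilinear hM hN e (Equiv.ofBijective e he).symm
        (fun x y => map_add e x y) (fun a x => e.map_smulₛₗ a x)
        (fun x => (Equiv.ofBijective e he).symm_apply_apply x)
        (fun y => (Equiv.ofBijective e he).apply_symm_apply y)
    exact ⟨Groth.Agent.Lib.Helper89.Horrocks.P0 p, inferInstance, inferInstance,
      hM.equiv_of_isExt hext⟩

end Groth.Agent.S17853
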