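import Groth.Statements.S17857
import Mathlib.Algebra.Module.Projective
import Mathlib.Tactic

set_option autoImplicit false
universe u
open Algz

namespace Groth.Agent.S17857

/-- Let `A i` be a family of commutative rings and `P i` a projective `A i`-module for each `i`, and
assume every `P i` is a quotient of the free module of rank `N` for a single `N` independent of `i`
(equivalently, a direct summand of it). Then the product `Π i, P i` is a projective module over the
product ring `Π i, A i`, and it is a quotient of the free module of rank `N` over that ring. -/
theorem result {ι : Type u} (A : ι → Type u) [∀ i, CommRing (A i)]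
    (P : ι → Type u) [∀ i, AddCommGroup (P i)] [∀ i, Module (A i) (P i)]
    [∀ i, Module.Projective (A i) (P i)] (N : ℕ)
    (h : ∀ i, ∃ f : (Fin N → A i) →ₗ[A i] P i, Function.Surjective f) :
    Module.Projective (∀ i, A i) (∀ i, P i) ∧
      ∃ f : (Fin N → ∀ i, A i) →ₗ[∀ i, A i] (∀ i, P i), Function.Surjective f := by
  choose f hf using h
  have hg : ∀ i, ∃ g : P i →ₗ[A i] (Fin N → A i), (f i) ∘ₗ g = LinearMap.id := fun i =>
    Module.projective_lifting_property (f i) LinearMap.id (hf i)
  choose g hg using hg
  let F : (Fin N → ∀ i, A i) →ₗ[∀ i, A i] (∀ i, P i) :=
    { toFun := fun x i => f i (fun k => x k i)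
      map_add' := by
        intro x y
        funext i
        simp only [Pi.add_apply]
        rw [← map_add]
        rfl
      map_smul' := by
        intro a x
        funext i
        show f i (fun k => a i * x k i) = a i • f i (fun k => x k i)
        rw [← map_smul]
        rfl }
  let G : (∀ i, P i) →ₗ[∀ i, A i] (Fin N → ∀ i, A i) :=
    { toFun := fun y k i => g i (y i) k
      map_add' := by
        intro x y
        funext k i
        simp only [Pi.add_apply, map_add]
      map_smul' := by
        intro a x
        funext k i
        show g i (a i • x i) k = a i * g i (x i) k
        rw [map_smul]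
        rfl }
  have hFG : F.comp G = LinearMap.id := by
    ext y i
    simp only [LinearMap.comp_apply, LinearMap.id_apply]
    show f i (fun k => g i (y i) k) = y i
    have := LinearMap.congr_fun (hg i) (y i)
    simpa using this
  refine ⟨Module.Projective.of_split G F hFG, F, ?_⟩
  intro y
  refine ⟨G y, ?_⟩
  exact LinearMap.congr_fun hFG y

end Groth.Agent.S17857
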