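import Groth.Statements.S17859
import Mathlib.LinearAlgebra.Contraction
import Mathlib.Tactic

set_option autoImplicit false
open CategoryTheory MonoidalCategory
universe u

open Algz

namespace Groth.Agent.S17859

open TensorProduct

section
variable (R : Type u) [CommRing R] (M : Type u) [AddCommGroup M] [Module R M]
  (n : ℕ) (m : Fin n → M) (f : Fin n → Module.Dual R M) (hdual : ∀ x : M, x = ∑ i, f i x • m i)

include hdual in
theorem tri1 (φ : Module.Dual R M) (r : R) :
    (LinearMap.rTensor (Module.Dual R M) (contractLeft R M))
      ((TensorProduct.assoc R (Module.Dual R M) M (Module.Dual R M)).symm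
        ((LinearMap.lTensor (Module.Dual R M)
          (LinearMap.toSpanSingleton R (M ⊗[R] Module.Dual R M) (∑ i, m i ⊗ₜ[R] f i))) (φ ⊗ₜ[R] r))) =
      (TensorProduct.lid R (Module.Dual R M)).symm ((TensorProduct.rid R (Module.Dual R M)) (φ ⊗ₜ[R] r)) := by
  have hφ : φ = ∑ i, φ (m i) • f i := by
    apply LinearMap.ext
    intro x
    conv_lhs => rw [hdual x, map_sum]
    simp only [LinearMap.sum_apply, LinearMap.smul_apply, map_smul, smul_eq_mul]
    apply Finset.sum_congr rfl
    intro i _
    ring
  simp only [LinearMap.lTensor_tmul, LinearMap.toSpanSingleton_apply, TensorProduct.tmul_smul,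
    TensorProduct.tmul_sum, map_smul, map_sum, TensorProduct.assoc_symm_tmul, LinearMap.rTensor_tmul,
    contractLeft_apply, TensorProduct.rid_tmul, TensorProduct.lid_symm_apply]
  conv_rhs => rw [hφ]
  rw [TensorProduct.tmul_sum]
  simp only [Finset.smul_sum]
  apply Finset.sum_congr rfl
  intro i _
  simp only [TensorProduct.tmul_smul, TensorProduct.smul_tmul', smul_eq_mul, mul_one]

include hdual in
theorem tri2 (r : R) (x : M) :
    (LinearMap.lTensor M (contractLeft R M))
      ((TensorProduct.assoc R M (Module.Dual R M) M)
        ((LinearMap.rTensor M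
          (LinearMap.toSpanSingleton R (M ⊗[R] Module.Dual R M) (∑ i, m i ⊗ₜ[R] f i))) (r ⊗ₜ[R] x))) =
      (TensorProduct.rid R M).symm ((TensorProduct.lid R M) (r ⊗ₜ[R] x)) := by
  rw [LinearMap.rTensor_tmul, LinearMap.toSpanSingleton_apply, ← TensorProduct.smul_tmul',
    TensorProduct.sum_tmul]
  simp only [map_smul, map_sum, TensorProduct.assoc_tmul, LinearMap.lTensor_tmul,
    contractLeft_apply, TensorProduct.lid_tmul, TensorProduct.rid_symm_apply]
  conv_rhs => rw [hdual x]
  rw [TensorProduct.smul_tmul', ← TensorProduct.smul_tmul', TensorProduct.sum_tmul]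
  simp only [Finset.smul_sum]
  apply Finset.sum_congr rfl
  intro i _
  rw [TensorProduct.smul_tmul, smul_eq_mul, mul_one]

end


/-- Over an affine scheme, that is for modules over a commutative ring `R`, a finitely generated
projective `R`-module `M`, viewed as an object of the monoidal category of `R`-modules (tensor
product over `R`), has a right dual. (The published statement is the equivalence, for quasi-coherent
sheaves on a quasi-compact quasi-separated scheme, between being dualizable and being a vector
bundle; stated here is the affine case of the implication from vector bundle to dualizable. The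
converse implication, that a module admitting a dual is finitely generated projective, is stated
separately and is not repeated here.) -/
theorem result (R : Type u) [CommRing R] (M : ModuleCat.{u} R)
    [Module.Finite R M] [Module.Projective R M] : Nonempty (HasRightDual M) := by
  obtain ⟨n, π, hπ⟩ := Module.Finite.exists_fin' R M
  obtain ⟨σ, hσ⟩ := Module.projective_lifting_property π LinearMap.id hπ
  let m : Fin n → M := fun i => π (Pi.single i 1)
  let f : Fin n → Module.Dual R M := fun i => (LinearMap.proj i) ∘ₗ σ
  have hdual : ∀ x : M, x = ∑ i, f i x • m i := by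
    intro x
    have h1 : x = π (σ x) := (LinearMap.congr_fun hσ x).symm
    have h2 : σ x = ∑ i, (σ x i) • (Pi.single i (1 : R) : Fin n → R) := by
      funext j
      simp [Finset.sum_apply, Pi.single_apply]
    conv_lhs => rw [h1, h2, map_sum]
    apply Finset.sum_congr rfl
    intro i _
    rw [map_smul]
    rfl
  let D : ModuleCat.{u} R := ModuleCat.of R (Module.Dual R M)
  let coev : 𝟙_ (ModuleCat.{u} R) ⟶ M ⊗ D :=
    ModuleCat.ofHom (LinearMap.toSpanSingleton R (M ⊗[R] Module.Dual R M) (∑ i, m i ⊗ₜ[R] f i))
  let ev : D ⊗ M ⟶ 𝟙_ (ModuleCat.{u} R) :=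
    ModuleCat.ofHom (contractLeft R M)
  refine ⟨{ rightDual := D, exact := { coevaluation' := coev, evaluation' := ev, coevaluation_evaluation' := ?_, evaluation_coevaluation' := ?_ } }⟩
  · apply ModuleCat.hom_ext
    apply TensorProduct.ext'
    intro φ r
    exact tri1 R M n m f hdual φ r
  · apply ModuleCat.hom_ext
    apply TensorProduct.ext'
    intro r x
    exact tri2 R M n m f hdual r x

end Groth.Agent.S17859
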