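import Groth.Statements.S17863
import Mathlib.AlgebraicGeometry.QuasiAffine
import Mathlib.RingTheory.AdicCompletion.RingHom
import Mathlib.RingTheory.Spectrum.Prime.RingHom

set_option autoImplicit false
open CategoryTheory AlgebraicGeometry
universe u
open Algz

namespace Groth.Agent.S17863

/-- Let `A` be a commutative ring which is `I`-adically complete for an ideal `I` and let `X` be a
quasi-affine scheme. Then the natural map from `X(A)` to compatible systems in the `X(A/I^n)` is
bijective: two morphisms `Spec A ⟶ X` with the same restriction to every `Spec (A/I^n)` are equal,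
and every family of morphisms `Spec (A/I^n) ⟶ X` compatible with the transition maps `Spec (A/I^n) ⟶
Spec (A/I^(n+1))` is the family of restrictions of a morphism `Spec A ⟶ X`. -/
theorem result (A : Type u) [CommRing A] (I : Ideal A) [IsAdicComplete I A]
    (X : Scheme.{u}) [X.IsQuasiAffine] :
    (∀ f g : Spec (CommRingCat.of A) ⟶ X,
      (∀ n : ℕ, Spec.map (CommRingCat.ofHom (Ideal.Quotient.mk (I ^ n))) ≫ f =
        Spec.map (CommRingCat.ofHom (Ideal.Quotient.mk (I ^ n))) ≫ g) → f = g) ∧
    (∀ e : ∀ n : ℕ, Spec (CommRingCat.of (A ⧸ I ^ n)) ⟶ X,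
      (∀ n : ℕ, Spec.map (CommRingCat.ofHom (Ideal.Quotient.factorPowSucc I n)) ≫ e (n + 1) = e n) →
      ∃ f : Spec (CommRingCat.of A) ⟶ X,
        ∀ n : ℕ, Spec.map (CommRingCat.ofHom (Ideal.Quotient.mk (I ^ n))) ≫ f = e n) := by
  have hj : IsOpenImmersion X.toSpecΓ := inferInstance
  constructor
  · intro f g h
    rw [← cancel_mono X.toSpecΓ]
    let φ : Γ(X, ⊤) ⟶ CommRingCat.of A := Spec.preimage (f ≫ X.toSpecΓ)
    let ψ : Γ(X, ⊤) ⟶ CommRingCat.of A := Spec.preimage (g ≫ X.toSpecΓ)
    have hφ : Spec.map φ = f ≫ X.toSpecΓ := Spec.map_preimage _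
    have hψ : Spec.map ψ = g ≫ X.toSpecΓ := Spec.map_preimage _
    rw [← hφ, ← hψ]
    congr 1
    ext b
    have key : ∀ n : ℕ, φ.hom b - ψ.hom b ∈ I ^ n := by
      intro n
      have h1 : φ ≫ CommRingCat.ofHom (Ideal.Quotient.mk (I ^ n)) =
          ψ ≫ CommRingCat.ofHom (Ideal.Quotient.mk (I ^ n)) := by
        apply Spec.map_injective
        rw [Spec.map_comp, Spec.map_comp, hφ, hψ, ← Category.assoc, ← Category.assoc, h n]
      have h2 := congr($(h1).hom b)
      simp only [CommRingCat.hom_comp, CommRingCat.hom_ofHom, RingHom.coe_comp,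
        Function.comp_apply] at h2
      rw [← Ideal.Quotient.eq_zero_iff_mem, map_sub, h2, sub_self]
    have hH : IsHausdorff I A := inferInstance
    have := hH.haus (φ.hom b - ψ.hom b) (fun n => by
      rw [SModEq.zero]
      simpa using key n)
    exact sub_eq_zero.mp this
  · intro e he
    let φn : ∀ n : ℕ, Γ(X, ⊤) ⟶ CommRingCat.of (A ⧸ I ^ n) := fun n =>
      Spec.preimage (e n ≫ X.toSpecΓ)
    have hφn : ∀ n, Spec.map (φn n) = e n ≫ X.toSpecΓ := fun n => Spec.map_preimage _
    have hcompat : ∀ {m : ℕ}, (Ideal.Quotient.factorPow I (strictMono_id.monotone m.le_succ)).comp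
        (φn (m + 1)).hom = (φn m).hom := by
      intro m
      have h1 : φn (m + 1) ≫ CommRingCat.ofHom (Ideal.Quotient.factorPowSucc I m) = φn m := by
        apply Spec.map_injective
        rw [Spec.map_comp, hφn, hφn, ← Category.assoc, he m]
      have h2 := congr($(h1).hom)
      simpa using h2
    let φ : Γ(X, ⊤) →+* A :=
      IsAdicComplete.StrictMono.liftRingHom I strictMono_id (fun n => (φn n).hom) hcompat
    have hφ : ∀ n, (Ideal.Quotient.mk (I ^ n)).comp φ = (φn n).hom := fun n =>
      IsAdicComplete.StrictMono.mk_comp_liftRingHom I strictMono_id (fun n => (φn n).hom) hcompat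
    let F : Spec (CommRingCat.of A) ⟶ Spec Γ(X, ⊤) := Spec.map (CommRingCat.ofHom φ)
    have hF : ∀ n, Spec.map (CommRingCat.ofHom (Ideal.Quotient.mk (I ^ n))) ≫ F =
        e n ≫ X.toSpecΓ := by
      intro n
      rw [← hφn, ← Spec.map_comp]
      congr 1
      ext b
      exact congr($(hφ n) b)
    have hrange : Set.range F.base ⊆ Set.range X.toSpecΓ.base := by
      rintro _ ⟨x, rfl⟩
      by_contra hx
      let U := X.toSpecΓ.opensRange
      let T : Set (PrimeSpectrum A) := {z | F.base z ∉ U}
      have hT : IsClosed T := (F ⁻¹ᵁ U).2.isClosed_compl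
      obtain ⟨J, hJ⟩ := (PrimeSpectrum.isClosed_iff_zeroLocus_ideal T).mp hT
      have hxT : x ∈ T := hx
      have hJne : J ≠ ⊤ := by
        rintro rfl
        rw [hJ] at hxT
        simp only [Submodule.top_coe, PrimeSpectrum.zeroLocus_univ] at hxT
        exact hxT
      obtain ⟨m, hm, hJm⟩ := Ideal.exists_le_maximal J hJne
      let M : PrimeSpectrum A := ⟨m, hm.isPrime⟩
      have hMT : M ∈ T := by
        rw [hJ]
        exact hJm
      have hIm : I ≤ m := (IsAdicComplete.le_jacobson_bot I).trans (sInf_le ⟨bot_le, hm⟩)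
      have hM1 : M ∈ Set.range (PrimeSpectrum.comap (Ideal.Quotient.mk (I ^ 1))) := by
        rw [range_comap_of_surjective _ _ Ideal.Quotient.mk_surjective,
          Ideal.mk_ker, pow_one]
        exact hIm
      obtain ⟨M', hM'⟩ := hM1
      apply hMT
      have h1 : F.base M = (Spec.map (CommRingCat.ofHom (Ideal.Quotient.mk (I ^ 1))) ≫ F).base M' := by
        rw [← hM']
        rfl
      rw [h1, hF 1]
      exact ⟨(e 1).base M', rfl⟩
    let f : Spec (CommRingCat.of A) ⟶ X := IsOpenImmersion.lift X.toSpecΓ F hrange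
    have hf : f ≫ X.toSpecΓ = F := IsOpenImmersion.lift_fac _ _ _
    refine ⟨f, fun n => ?_⟩
    rw [← cancel_mono X.toSpecΓ, Category.assoc, hf, hF]

end Groth.Agent.S17863
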