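import Groth.Statements.S17864
import Groth.Agent.Lib.Helper89.AdicProj

set_option autoImplicit false
universe u
open Algz

namespace Groth.Agent.S17864

open Groth.Agent.Lib.Helper89 in
/-- The full-faithfulness assertion. Let `A` be a commutative ring which is `I`-adically complete for an
ideal `I`, and `P`, `Q` finitely generated projective `A`-modules. An `A`-linear map `P → Q` is
determined by its reductions modulo the powers `I^n`, and every family of `A`-linear maps `P/I^n P →
Q/I^n Q` compatible with the transition maps is the family of reductions of an `A`-linear map `P →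
Q`. (The companion assertion, that compatible systems of finite projective modules over the rings
`A/I^n` lift to `A`, is not restated here.) -/
theorem result (A : Type u) [CommRing A] (I : Ideal A)
    [IsAdicComplete I A] (P Q : Type u) [AddCommGroup P] [Module A P] [Module.Finite A P]
    [Module.Projective A P] [AddCommGroup Q] [Module A Q] [Module.Finite A Q] [Module.Projective A Q] :
    (∀ f f' : P →ₗ[A] Q, (∀ n : ℕ, f.reduceModIdeal (I ^ n) = f'.reduceModIdeal (I ^ n)) → f = f') ∧
    (∀ g : ∀ n : ℕ, P ⧸ (I ^ n • ⊤ : Submodule A P) →ₗ[A] Q ⧸ (I ^ n • ⊤ : Submodule A Q),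
      (∀ n : ℕ, AdicCompletion.transitionMap I Q (Nat.le_succ n) ∘ₗ g (n + 1) =
        g n ∘ₗ AdicCompletion.transitionMap I P (Nat.le_succ n)) →
      ∃ f : P →ₗ[A] Q, ∀ n : ℕ, f.reduceModIdeal (I ^ n) = g n) := by
  haveI : IsAdicComplete I Q := isAdicComplete_of_finite_projective I Q
  constructor
  · intro f f' h
    apply LinearMap.ext
    intro x
    apply sub_eq_zero.1
    apply IsHausdorff.haus (inferInstance : IsHausdorff I Q)
    intro n
    rw [SModEq.zero, ← Submodule.Quotient.mk_eq_zero, Submodule.Quotient.mk_sub, sub_eq_zero]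
    have := congrArg (fun φ => φ (Submodule.Quotient.mk x)) (h n)
    simpa using this
  · intro g hg
    let φ : ∀ n : ℕ, P →ₗ[A] Q ⧸ (I ^ (id n) • ⊤ : Submodule A Q) := fun n =>
      g n ∘ₗ Submodule.mkQ (I ^ n • ⊤ : Submodule A P)
    have hφ : ∀ {m : ℕ}, Submodule.factorPow I Q (strictMono_id.monotone m.le_succ) ∘ₗ φ (m + 1) = φ m := by
      intro m
      ext x
      have := congrArg (fun ψ => ψ (Submodule.Quotient.mk x)) (hg m)
      simpa [φ] using this
    refine ⟨IsAdicComplete.StrictMono.lift I strictMono_id φ hφ, fun n => ?_⟩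
    apply LinearMap.ext
    intro y
    obtain ⟨x, rfl⟩ := Submodule.Quotient.mk_surjective _ y
    have := IsAdicComplete.StrictMono.mk_lift I strictMono_id φ hφ (n := n) x
    simpa [φ] using this

end Groth.Agent.S17864
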