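import Groth.Statements.S17869
-- import your own Groth.Agent.* helpers here

set_option autoImplicit false
open CategoryTheory AlgebraicGeometry
universe u
open Algz

namespace Groth.Agent.S17869


theorem hasSect_aux {U : Scheme.{u}} (k : ℕ) (V : Fin k → U.Opens) (i₀ : Fin k) (C : Set U)
    (hC : IsClosed C) :
    W4c5algebraiztannaka.HasSectOver
      (Limits.Sigma.desc (fun i => (V i).ι) : (∐ fun i => ((V i : U.Opens) : Scheme.{u})) ⟶ U)
      ((V i₀ : Set U) ∩ C) := by
  classical
  let Zc : TopologicalSpace.Closeds ((V i₀ : U.Opens) : Scheme.{u}) :=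
    ⟨(V i₀).ι ⁻¹' C, hC.preimage (V i₀).ι.continuous⟩
  let I := Scheme.IdealSheafData.vanishingIdeal Zc
  refine ⟨I.subscheme, I.subschemeι ≫ (V i₀).ι,
    I.subschemeι ≫ Limits.Sigma.ι (fun i => ((V i : U.Opens) : Scheme.{u})) i₀,
    inferInstance, ?_, ?_⟩
  · have h1 : Set.range (fun t : I.subscheme => (I.subschemeι ≫ (V i₀).ι) t)
        = (V i₀).ι '' Set.range I.subschemeι := by
      ext x
      simp only [Set.mem_range, Set.mem_image, Scheme.Hom.comp_apply]
      constructor
      · rintro ⟨t, rfl⟩; exact ⟨_, ⟨t, rfl⟩, rfl⟩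
      · rintro ⟨_, ⟨t, rfl⟩, rfl⟩; exact ⟨t, rfl⟩
    rw [h1, Scheme.IdealSheafData.range_subschemeι,
      Scheme.IdealSheafData.coe_support_vanishingIdeal]
    change (V i₀).ι '' ((V i₀).ι ⁻¹' C) = _
    rw [Set.image_preimage_eq_inter_range, Scheme.Opens.range_ι, Set.inter_comm]
  · rw [Category.assoc, Limits.Sigma.ι_desc]

/-- In the case of schemes. Let `U` be a quasi-compact quasi-separated scheme and `V 0, …, V (k-1)`
quasi-compact open subschemes which cover `U`. Then the canonical morphism from the disjoint union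
`∐ V i` to `U` is a Nisnevich cover of length at most `k`. (The published example states more
generally that, for a Nisnevich cover of `Y` of length at most `m` with source `U`, the composite
from the disjoint union `∐ V i` to `Y` has length at most `m * k`; stated here is the case of the
identity of `U`, to which the published argument reduces, and the general bound follows by composing
Nisnevich covers. The original form is for quasi-compact quasi-separated algebraic spaces, with the
members of the cover quasi-compact; stated here for schemes.) -/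
theorem result {U : Scheme.{u}} [CompactSpace U] [QuasiSeparatedSpace U]
    (k : ℕ) (V : Fin k → U.Opens) (hV : ∀ i, IsCompact (V i : Set U)) (hcov : ⨆ i, V i = ⊤) :
    W4c5algebraiztannaka.IsNisCoverLen
      (Limits.Sigma.desc (fun i => (V i).ι) : (∐ fun i => ((V i : U.Opens) : Scheme.{u})) ⟶ U) k := by
  classical
  have : IsZariskiLocalAtSource @Etale.{u} := HasRingHomProperty.instIsZariskiLocalAtSource
  refine ⟨IsZariskiLocalAtSource.sigmaDesc (P := @Etale) (fun i => inferInstance), ?_⟩
  refine ⟨fun j => (⋃ i : {i : Fin k // (i : ℕ) < k - (j : ℕ)}, (V i.1 : Set U))ᶜ,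
    ?_, ?_, ?_, ?_, ?_⟩
  · -- Z 0 = ∅
    have : (⋃ i : {i : Fin k // (i : ℕ) < k - ((0 : Fin (k+1)) : ℕ)}, (V i.1 : Set U)) = Set.univ := by
      rw [Set.eq_univ_iff_forall]
      intro x
      have hx : x ∈ (⨆ i, V i : U.Opens) := by rw [hcov]; trivial
      rw [TopologicalSpace.Opens.mem_iSup] at hx
      obtain ⟨i, hi⟩ := hx
      exact Set.mem_iUnion.mpr ⟨⟨i, by simp⟩, hi⟩
    change (⋃ i : {i : Fin k // (i : ℕ) < k - ((0 : Fin (k+1)) : ℕ)}, (V i.1 : Set U))ᶜ = ∅
    rw [this, Set.compl_univ]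
  · -- Z last = univ
    change (⋃ i : {i : Fin k // (i : ℕ) < k - ((Fin.last k : Fin (k+1)) : ℕ)}, (V i.1 : Set U))ᶜ = Set.univ
    rw [Set.compl_univ_iff]
    rw [Set.iUnion_eq_empty]
    rintro ⟨i, hi⟩
    simp at hi
  · intro a b hab
    apply Set.compl_subset_compl.mpr
    apply Set.iUnion_subset
    rintro ⟨i, hi⟩
    have hab' : (a : ℕ) ≤ (b : ℕ) := hab
    exact Set.subset_iUnion (fun i : {i : Fin k // (i : ℕ) < k - (a : ℕ)} => (V i.1 : Set U))
      ⟨i, by omega⟩
  · intro j
    have hopen : IsOpen (⋃ i : {i : Fin k // (i : ℕ) < k - (j : ℕ)}, (V i.1 : Set U)) :=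
      isOpen_iUnion fun i => (V i.1).isOpen
    refine ⟨hopen.isClosed_compl, Topology.IsConstructible.compl ?_⟩
    refine IsRetrocompact.isConstructible hopen ?_
    exact IsRetrocompact.iUnion fun i => (hV i.1).isRetrocompact (V i.1).isOpen
  · intro j
    have hj : (j : ℕ) < k := j.isLt
    set i₀ : Fin k := Fin.rev j with hi₀
    have hi₀v : (i₀ : ℕ) = k - ((j : ℕ) + 1) := Fin.val_rev j
    have hset : (⋃ i : {i : Fin k // (i : ℕ) < k - ((j.succ : Fin (k+1)) : ℕ)}, (V i.1 : Set U))ᶜ \
        (⋃ i : {i : Fin k // (i : ℕ) < k - ((j.castSucc : Fin (k+1)) : ℕ)}, (V i.1 : Set U))ᶜ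
        = (V i₀ : Set U) ∩
          (⋃ i : {i : Fin k // (i : ℕ) < k - ((j.succ : Fin (k+1)) : ℕ)}, (V i.1 : Set U))ᶜ := by
      ext x
      simp only [Set.mem_sdiff, Set.mem_compl_iff, Set.mem_iUnion, not_exists, not_forall,
        not_not, Set.mem_inter_iff, Fin.val_succ, Fin.val_castSucc, Subtype.exists, exists_prop]
      constructor
      · rintro ⟨h1, i, hi, hxi⟩
        refine ⟨?_, h1⟩
        by_cases hlt : (i : ℕ) < k - ((j : ℕ) + 1)
        · exact absurd ⟨hlt, hxi⟩ (h1 i)
        · have : i = i₀ := Fin.ext (by omega)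
          rw [← this]; exact hxi
      · rintro ⟨hx, h1⟩
        exact ⟨h1, i₀, by omega, hx⟩
    rw [hset]
    exact hasSect_aux k V i₀ _
      (isOpen_iUnion fun i : {i : Fin k // (i : ℕ) < k - ((j.succ : Fin (k+1)) : ℕ)} =>
        (V i.1).isOpen).isClosed_compl

end Groth.Agent.S17869
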