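import Groth.Statements.S1787
import Groth.Agent.Lib.Helper6.HomBC10

set_option autoImplicit false
universe u
open CategoryTheory
attribute [local instance] HasDerivedCategory.standard
open Dual

namespace Groth.Agent.S1787

/-- Let A be a Noetherian ring and f_1, …, f_n elements generating the unit ideal. Let ω be an object of
D(A) such that for each i, assuming the derived base change functor D(A) → D(A_{f_i}) exists, the
base change of ω is a dualizing complex for A_{f_i}. Then ω is a dualizing complex for A. -/
theorem result (A : Type u) [CommRing A] [IsNoetherianRing A] (n : ℕ) (f : Fin n → A) (hf : Ideal.span (Set.range f) = ⊤) (ω : Dual.D A) (h : ∀ i : Fin n, ∃ _ : DRing.HasLBaseChange (algebraMap A (Localization.Away (f i))), Dual.IsDualizing (Localization.Away (f i)) ((DRing.LBaseChange (algebraMap A (Localization.Away (f i)))).obj ω)) : Dual.IsDualizing A ω := by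
  classical
  let B : Fin n → Type u := fun i => Localization.Away (f i)
  letI instCR : ∀ i : Fin n, CommRing (B i) := fun i =>
    inferInstanceAs (CommRing (Localization.Away (f i)))
  letI instAlg : ∀ i : Fin n, Algebra A (B i) := fun i =>
    inferInstanceAs (Algebra A (Localization.Away (f i)))
  haveI instFlat : ∀ i : Fin n, Module.Flat A (B i) := fun i =>
    inferInstanceAs (Module.Flat A (Localization.Away (f i)))
  -- dualizing after exact base change
  have hG : ∀ i : Fin n, Dual.IsDualizing (B i)
      ((Lib.Helper35.FlatBC.G A (B i)).obj ω) := by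
    intro i
    obtain ⟨hL, hD⟩ := h i
    exact Lib.Helper6.HomBC.isDualizing_of_iso
      ((Lib.Helper6.HomBC.lbcIsoG A (Localization.Away (f i))).app ω) hD
  -- joint faithfulness
  have hZ : ∀ (M : Type (u + 1)) [AddCommGroup M] [Module A M],
      (∀ i, Subsingleton (TensorProduct A (B i) M)) → Subsingleton M := by
    intro M _ _ hM
    refine ⟨fun x y => ?_⟩
    refine Module.eq_of_isLocalized_span (Set.range f) hf
      (fun s => TensorProduct A (Localization.Away s.1) M)
      (fun s => TensorProduct.mk A (Localization.Away s.1) M 1) x y ?_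
    rintro ⟨_, i, rfl⟩
    exact (hM i).elim _ _
  -- finiteness of cohomology
  have hfin : ∀ k : ℤ, Module.Finite A (Dual.HD A ω k) := by
    intro k
    refine Module.Finite.of_localizationSpan' (Set.range f) hf
      (Mₚ := fun s => TensorProduct A (Localization.Away s.1) (Dual.HD A ω k))
      (Rₚ := fun s => Localization.Away s.1)
      (fun s => TensorProduct.mk A (Localization.Away s.1) (Dual.HD A ω k) 1) ?_
    rintro ⟨_, i, rfl⟩
    have := (hG i).finite_cohomology k
    exact Module.Finite.equiv (Lib.Helper6.HomBC.homologyGEquiv (B := B i) ω k)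
  -- uniform bounds
  have hbd : ∀ i : Fin n, ∃ a b : ℤ, ∀ (M : Type u) [AddCommGroup M] [Module (B i) M] (k : ℤ),
      (k < a ∨ b < k) → Subsingleton (Dual.inD (B i) M ⟶
        ((Lib.Helper35.FlatBC.G A (B i)).obj ω)⟦k⟧) := fun i => (hG i).finite_injective_dimension
  choose a b hab using hbd
  have hunif : ∃ a' b' : ℤ, ∀ (i : Fin n) (M : Type u) [AddCommGroup M] [Module (B i) M] (k : ℤ),
      (k < a' ∨ b' < k) → Subsingleton (Dual.inD (B i) M ⟶
        ((Lib.Helper35.FlatBC.G A (B i)).obj ω)⟦k⟧) := by
    refine ⟨-(∑ i, |a i|), ∑ i, |b i|, fun i M _ _ k hk => hab i M k ?_⟩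
    have h1 : |a i| ≤ ∑ j, |a j| :=
      Finset.single_le_sum (f := fun j => |a j|) (fun j _ => abs_nonneg (a j)) (Finset.mem_univ i)
    have h2 : |b i| ≤ ∑ j, |b j| :=
      Finset.single_le_sum (f := fun j => |b j|) (fun j _ => abs_nonneg (b j)) (Finset.mem_univ i)
    have h3 := neg_abs_le (a i)
    have h4 := le_abs_self (b i)
    rcases hk with hk | hk
    · left; omega
    · right; omega
  exact Lib.Helper6.HomBC.isDualizing_of_family' B hZ ω hfin hunif hG

end Groth.Agent.S1787
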