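import Groth.Statements.S17870
-- import your own Groth.Agent.* helpers here
import Mathlib
import Groth.Agent.Lib.Helper89.SizeD

set_option autoImplicit false
open CategoryTheory
universe u
attribute [local instance] HasDerivedCategory.standard
open Algz

namespace Groth.Agent.S17870

open Groth.Agent.Lib.Helper89.SizeA Groth.Agent.Lib.Helper89.SizeC Groth.Agent.Lib.Helper89.SizeD Groth.Agent.Lib.Helper35.FlatBC in
/-- There is a function `F : ℕ → ℕ`, independent of the ring, such that for every commutative ring `R`
and every perfect complex over `R`, given as a bounded complex `E` of finitely generated projective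
modules: if `E` locally has size at most `N` (after base change to some Nisnevich cover `Spec B ⟶
Spec R` of length at most `N` it becomes isomorphic in `D(B)` to a complex vanishing outside `[-N,
N]` whose terms are projective quotients of `B^N`), then it globally has size at most `F N` (it is
isomorphic in `D(R)` to such a complex over `R` with bound `F N`). -/
theorem result :
    ∃ F : ℕ → ℕ, ∀ (R : Type u) [CommRing R] (E : DRing.Cx R) (a b : ℤ),
      DRing.VanishesOutside E a b → DRing.TermwiseFiniteProjective E →
      ∀ N : ℕ, W4c5algebraiztannaka.LocSize E N → W4c5algebraiztannaka.GlobSize R (DRing.toD E) (F N) := by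
  refine ⟨fun N => max N (Φ N (2 * N) N), ?_⟩
  intro R _ E a b hE hfp N hloc
  change W4c5algebraiztannaka.GlobSize R (DRing.toD E) (max N (Φ N (2 * N) N))
  obtain ⟨B, hB, φ, hNis, P, ⟨hPv, hP⟩, ⟨e⟩⟩ := hloc
  letI : Algebra R B := φ.toAlgebra
  have hNis' : W4c5algebraiztannaka.IsNisCoverLen
      (AlgebraicGeometry.Spec.map (CommRingCat.ofHom (algebraMap R B))) N := hNis
  have hflat := flat_of_nis N hNis'
  have hff := faithfullyFlat_of_nis N hNis'
  have hN := hN_of_nis N hNis'
  have hSzB : Sz (-(N : ℤ)) N N ((G R B).obj (DRing.toD E)) :=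
    ⟨P, hPv, hP, ⟨e ≪≫ (GQIso B E).symm⟩⟩
  obtain ⟨X, hXv, hXp, ⟨eX⟩⟩ := exists_trimmed E a b hE hfp (-(N : ℤ)) N N hSzB
  have hSzB' : Sz (-(N : ℤ)) N N ((G R B).obj (DRing.toD X)) :=
    hSzB.of_iso ((G R B).mapIso eX.symm)
  have h := main hN (2 * N) (-(N : ℤ)) N (by push_cast; ring) N X hXv hXp hSzB'
  rw [globSize_iff]
  have hle : (N : ℤ) ≤ ((max N (Φ N (2 * N) N) : ℕ) : ℤ) := by
    exact_mod_cast le_max_left _ _
  exact (h.of_iso eX).mono (by omega) (by omega) (le_max_right _ _)

end Groth.Agent.S17870
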