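import Groth.Statements.S17872
import Mathlib.LinearAlgebra.Dual.Lemmas
import Mathlib.Algebra.Polynomial.Roots
import Mathlib.Tactic

set_option autoImplicit false
universe u v
open GRRSing

namespace Groth.Agent.S17872

/-- Let H be a vector space over a field K and let b_0, …, b_l be elements of H. If the sum of the t ^ i
• b_i vanishes for infinitely many scalars t of K, then all the b_i are zero. -/
theorem result {K : Type u} {H : Type v} [Field K] [AddCommGroup H] [Module K H]
    (l : ℕ) (b : Fin (l + 1) → H)
    (h : Set.Infinite {t : K | ∑ i : Fin (l + 1), t ^ (i : ℕ) • b i = 0}) :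
    b = 0 := by
  funext i
  rw [Pi.zero_apply, ← Module.forall_dual_apply_eq_zero_iff K]
  intro φ
  -- the polynomial ∑ φ(b i) X^i
  set p : Polynomial K := ∑ i : Fin (l + 1), Polynomial.C (φ (b i)) * Polynomial.X ^ (i : ℕ) with hp
  have hroot : ∀ t ∈ {t : K | ∑ i : Fin (l + 1), t ^ (i : ℕ) • b i = 0}, p.IsRoot t := by
    intro t ht
    simp only [Set.mem_setOf_eq] at ht
    have := congrArg φ ht
    rw [map_sum, map_zero] at this
    simp only [Polynomial.IsRoot.def, hp, Polynomial.eval_finset_sum, Polynomial.eval_mul,
      Polynomial.eval_C, Polynomial.eval_pow, Polynomial.eval_X]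
    rw [← this]
    apply Finset.sum_congr rfl
    intro j _
    rw [map_smul, smul_eq_mul, mul_comm]
  have hp0 : p = 0 := Polynomial.eq_zero_of_infinite_isRoot p (h.mono hroot)
  have hc : p.coeff (i : ℕ) = φ (b i) := by
    rw [hp, Polynomial.finset_sum_coeff]
    rw [Finset.sum_eq_single i]
    · simp
    · intro j _ hji
      rw [Polynomial.coeff_C_mul, Polynomial.coeff_X_pow]
      have : (i : ℕ) ≠ (j : ℕ) := fun h => hji (Fin.ext h.symm)
      simp [this]
    · intro h; exact absurd (Finset.mem_univ i) h
  rw [← hc, hp0, Polynomial.coeff_zero]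

end Groth.Agent.S17872
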