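import Groth.Statements.S17875
import Mathlib.Tactic

set_option autoImplicit false
universe u
open Polynomial
open GRRSing

namespace Groth.Agent.S17875

/-- part (i), with binomial coefficients -/
theorem part_one {R : Type u} [CommRing R] [Algebra ℚ R]
    (r : R) (δ : ℕ) (hr : (r - 1) ^ (δ + 1) = 0) (n : ℕ) :
    r ^ n = ∑ k ∈ Finset.range (δ + 1), ((n.choose k : ℚ)) • (r - 1) ^ k := by
  have hzero : ∀ k, δ + 1 ≤ k → (r - 1) ^ k = 0 := by
    intro k hk
    obtain ⟨m, rfl⟩ := Nat.exists_eq_add_of_le hk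
    rw [pow_add, hr, zero_mul]
  have h1 : r ^ n = ∑ k ∈ Finset.range (n + 1), ((n.choose k : ℚ)) • (r - 1) ^ k := by
    have : r = (r - 1) + 1 := by ring
    conv_lhs => rw [this, add_pow]
    apply Finset.sum_congr rfl
    intro k _
    rw [one_pow, mul_one, mul_comm, ← nsmul_eq_mul, ← Nat.cast_smul_eq_nsmul ℚ]
  have h2 : ∑ k ∈ Finset.range (n + 1), ((n.choose k : ℚ)) • (r - 1) ^ k =
      ∑ k ∈ Finset.range (n + δ + 1), ((n.choose k : ℚ)) • (r - 1) ^ k := by
    apply Finset.sum_subset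
    · intro k hk; simp at hk ⊢; omega
    · intro k _ hk
      simp at hk
      rw [Nat.choose_eq_zero_of_lt (by omega)]
      simp
  have h3 : ∑ k ∈ Finset.range (δ + 1), ((n.choose k : ℚ)) • (r - 1) ^ k =
      ∑ k ∈ Finset.range (n + δ + 1), ((n.choose k : ℚ)) • (r - 1) ^ k := by
    apply Finset.sum_subset
    · intro k hk; simp at hk ⊢; omega
    · intro k _ hk
      simp at hk
      rw [hzero k (by omega), smul_zero]
  rw [h1, h2, h3]

theorem desc_div (n k : ℕ) :
    (descPochhammer ℚ k).eval (n : ℚ) / (k.factorial : ℚ) = (n.choose k : ℚ) := by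
  rw [descPochhammer_eval_eq_descFactorial, Nat.descFactorial_eq_factorial_mul_choose]
  push_cast
  field_simp

theorem descPochhammer_as_sum {R : Type u} [CommRing R] (k δ : ℕ) (hk : k < δ + 1) :
    descPochhammer R k = ∑ j ∈ Finset.range (δ + 1),
      monomial j (((descPochhammer ℤ k).coeff j : ℤ) : R) := by
  have h1 : descPochhammer R k = (descPochhammer ℤ k).map (Int.castRingHom R) :=
    (descPochhammer_map (Int.castRingHom R) k).symm
  have hdeg : (descPochhammer R k).natDegree < δ + 1 := by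
    rw [h1]
    apply lt_of_le_of_lt (Polynomial.natDegree_map_le)
    rw [descPochhammer_natDegree]
    exact hk
  conv_lhs => rw [Polynomial.as_sum_range' (descPochhammer R k) (δ + 1) hdeg]
  apply Finset.sum_congr rfl
  intro j _
  rw [h1, Polynomial.coeff_map]
  rfl

theorem pow_sub_one_expand {R : Type u} [CommRing R] [Algebra ℚ R] (r : R) (k : ℕ) (s : ℤ) :
    ((k.factorial : ℚ)⁻¹) • (((s : ℤ) : R) * (r - 1) ^ k) =
      ∑ u ∈ Finset.range (k + 1),
        (((-1 : ℚ) ^ (k - u) * ((s : ℤ) : ℚ)) / ((u.factorial * (k - u).factorial : ℕ) : ℚ)) • r ^ u := by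
  have h1 : (r - 1) ^ k = ∑ u ∈ Finset.range (k + 1), r ^ u * (-1) ^ (k - u) * (k.choose u : R) := by
    rw [sub_eq_add_neg, add_pow]
  rw [h1, Finset.mul_sum, Finset.smul_sum]
  apply Finset.sum_congr rfl
  intro u hu
  have hu' : u ≤ k := by simp at hu; omega
  have hfac : (k.choose u : ℚ) * (u.factorial : ℚ) * ((k - u).factorial : ℚ) = (k.factorial : ℚ) := by
    exact_mod_cast Nat.choose_mul_factorial_mul_factorial hu'
  have hk0 : (k.factorial : ℚ) ≠ 0 := by exact_mod_cast (Nat.factorial_pos k).ne'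
  have hu0 : (u.factorial : ℚ) ≠ 0 := by exact_mod_cast (Nat.factorial_pos u).ne'
  have hku0 : ((k - u).factorial : ℚ) ≠ 0 := by exact_mod_cast (Nat.factorial_pos (k - u)).ne'
  have hcoef : ((-1 : ℚ) ^ (k - u) * ((s : ℤ) : ℚ)) / ((u.factorial * (k - u).factorial : ℕ) : ℚ) =
      (k.factorial : ℚ)⁻¹ * (((s : ℤ) : ℚ) * (-1) ^ (k - u) * (k.choose u : ℚ)) := by
    push_cast
    field_simp
    rw [← hfac]
    ring
  rw [hcoef, mul_smul]
  congr 1
  -- ((s:ℚ) * (-1)^(k-u) * C(k,u)) • r^u = s * (r^u * (-1)^(k-u) * C(k,u))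
  rw [Algebra.smul_def]
  simp only [map_mul, map_pow, map_neg, map_one, map_intCast, map_natCast]
  ring

/-- Let R be a commutative ℚ-algebra, r an element of R and δ a natural number with (r - 1) ^ (δ + 1) =
0. Write s(k, j) for the signed Stirling numbers of the first kind, the coefficients of x (x - 1) ⋯
(x - k + 1) = Σ_j s(k, j) x ^ j. Then (i) for every natural number n, r ^ n = Σ_{k ≤ δ} [n (n - 1) ⋯
(n - k + 1) / k!] (r - 1) ^ k; and (ii) in the polynomial ring R[x], Σ_{k ≤ δ} [x (x - 1) ⋯ (x - k +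
1) / k!] (r - 1) ^ k = Σ_{j ≤ δ} [Σ_{k ≤ δ} Σ_{u ≤ k} (-1) ^ (k - u) s(k, j) / (u! (k - u)!) · r ^
u] x ^ j. -/
theorem result {R : Type u} [CommRing R] [Algebra ℚ R]
    (r : R) (δ : ℕ) (hr : (r - 1) ^ (δ + 1) = 0) :
    (∀ n : ℕ, r ^ n = ∑ k ∈ Finset.range (δ + 1), ((descPochhammer ℚ k).eval (n : ℚ) / (k.factorial : ℚ)) • (r - 1) ^ k) ∧
    (∑ k ∈ Finset.range (δ + 1), ((k.factorial : ℚ)⁻¹ • (descPochhammer R k * Polynomial.C ((r - 1) ^ k))) =
      ∑ j ∈ Finset.range (δ + 1), Polynomial.C (∑ k ∈ Finset.range (δ + 1), ∑ u ∈ Finset.range (k + 1),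
        (((-1 : ℚ) ^ (k - u) * (((descPochhammer ℤ k).coeff j : ℤ) : ℚ)) / ((u.factorial * (k - u).factorial : ℕ) : ℚ)) • r ^ u) * Polynomial.X ^ j) := by
  constructor
  · intro n
    rw [part_one r δ hr n]
    apply Finset.sum_congr rfl
    intro k _
    rw [desc_div]
  · -- rewrite LHS
    have hL : ∀ k ∈ Finset.range (δ + 1),
        ((k.factorial : ℚ)⁻¹ • (descPochhammer R k * Polynomial.C ((r - 1) ^ k))) =
        ∑ j ∈ Finset.range (δ + 1), monomial j
          (((k.factorial : ℚ)⁻¹) • ((((descPochhammer ℤ k).coeff j : ℤ) : R) * (r - 1) ^ k)) := by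
      intro k hk
      rw [descPochhammer_as_sum k δ (Finset.mem_range.1 hk), Finset.sum_mul, Finset.smul_sum]
      apply Finset.sum_congr rfl
      intro j _
      rw [Polynomial.monomial_mul_C, Polynomial.smul_monomial]
    rw [Finset.sum_congr rfl hL, Finset.sum_comm]
    apply Finset.sum_congr rfl
    intro j _
    rw [map_sum, Finset.sum_mul]
    apply Finset.sum_congr rfl
    intro k _
    rw [Polynomial.C_mul_X_pow_eq_monomial, pow_sub_one_expand]

end Groth.Agent.S17875
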