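import Groth.Statements.S17877
-- import your own Groth.Agent.* helpers here
import Groth.Agent.Lib.Helper89.KaehlerGenB
import Groth.Agent.Lib.Helper89.KaehlerGenC
import Groth.Agent.Lib.Helper55.KrullDimIntegral

set_option autoImplicit false
universe u
open GRRSing

namespace Groth.Agent.S17877

open TensorProduct in
/-- Let K be a field with algebraic closure K̄ and Z = Spec A an affine scheme of finite type over K of
dimension d whose geometric fibre Spec (K̄ ⊗_K A) is integral with at most hypersurface
singularities (at every prime the embedding dimension of the local ring, the dimension of 𝔪/𝔪² over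
the residue field, is at most the height of the prime plus one). Then for every prime p of A the
(Ω_{A/K})_p is generated over A_p by at most d + 1 elements. (The published statement is for any Z
of finite type over K; the assertion is local on Z and the hypotheses pass to affine opens.) -/
theorem result
    {K : Type u} [Field K] {A : Type u} [CommRing A] [Algebra K A] [Algebra.FiniteType K A]
    [IsDomain (TensorProduct K (AlgebraicClosure K) A)]
    (hhyp : ∀ (q : Ideal (TensorProduct K (AlgebraicClosure K) A)) [q.IsPrime],
      (Module.finrank (IsLocalRing.ResidueField (Localization.AtPrime q))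
          (IsLocalRing.CotangentSpace (Localization.AtPrime q)) : ℕ∞) ≤ q.height + 1)
    (d : ℕ) (hd : ringKrullDim A = d) (p : Ideal A) [p.IsPrime] :
    ∃ s : Finset (LocalizedModule p.primeCompl (KaehlerDifferential K A)),
      s.card ≤ d + 1 ∧ Submodule.span (Localization.AtPrime p) (s : Set (LocalizedModule p.primeCompl (KaehlerDifferential K A))) = ⊤ := by
  classical
  letI algAB : Algebra A (TensorProduct K (AlgebraicClosure K) A) :=
    Algebra.TensorProduct.rightAlgebra
  haveI hint : Algebra.IsIntegral A (TensorProduct K (AlgebraicClosure K) A) :=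
    Groth.Agent.Lib.Helper89.KaehlerGen.isIntegral_rightAlgebra K A (AlgebraicClosure K)
  have hinj : Function.Injective (algebraMap A (TensorProduct K (AlgebraicClosure K) A)) :=
    Algebra.TensorProduct.includeRight_injective (algebraMap K (AlgebraicClosure K)).injective
  have hdB : ringKrullDim (TensorProduct K (AlgebraicClosure K) A) = d := by
    rw [Groth.Agent.Lib.Helper55.ringKrullDim_eq_of_isIntegral_of_injective A _ hinj, hd]
  -- a prime of `B` over `p`
  obtain ⟨q, -, hqprime, hqp⟩ := Ideal.exists_ideal_over_prime_of_isIntegral
    (S := TensorProduct K (AlgebraicClosure K) A) p ⊥ (by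
      rw [← RingHom.ker_eq_comap_bot, (RingHom.injective_iff_ker_eq_bot _).mp hinj]
      exact bot_le)
  have hB := Groth.Agent.Lib.Helper89.KaehlerGen.finrank_residueField_tensor_kaehler_le_of_hypersurface
    (AlgebraicClosure K) (TensorProduct K (AlgebraicClosure K) A) d hdB q (hhyp q)
  -- descend along `A → B`
  have e1 : q.ResidueField ⊗[TensorProduct K (AlgebraicClosure K) A]
        (TensorProduct K (AlgebraicClosure K) A ⊗[A] Ω[A⁄K]) ≃ₗ[q.ResidueField]
      q.ResidueField ⊗[TensorProduct K (AlgebraicClosure K) A]
        Ω[TensorProduct K (AlgebraicClosure K) A⁄AlgebraicClosure K] :=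
    TensorProduct.AlgebraTensorModule.congr (LinearEquiv.refl q.ResidueField q.ResidueField)
      (KaehlerDifferential.tensorKaehlerEquiv K (AlgebraicClosure K) A
        (TensorProduct K (AlgebraicClosure K) A))
  have e2 : q.ResidueField ⊗[TensorProduct K (AlgebraicClosure K) A]
        (TensorProduct K (AlgebraicClosure K) A ⊗[A] Ω[A⁄K]) ≃ₗ[q.ResidueField]
      q.ResidueField ⊗[A] Ω[A⁄K] :=
    TensorProduct.AlgebraTensorModule.cancelBaseChange A (TensorProduct K (AlgebraicClosure K) A)
      q.ResidueField q.ResidueField Ω[A⁄K]
  have hA : Module.finrank q.ResidueField (q.ResidueField ⊗[A] Ω[A⁄K]) ≤ d + 1 := by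
    rw [← e2.finrank_eq, e1.finrank_eq]; exact hB
  -- the residue field extension
  letI algpq : Algebra p.ResidueField q.ResidueField :=
    (Ideal.ResidueField.map p q (algebraMap A (TensorProduct K (AlgebraicClosure K) A))
      hqp.symm).toAlgebra
  haveI : IsScalarTower A p.ResidueField q.ResidueField := by
    refine IsScalarTower.of_algebraMap_eq fun a => ?_
    rw [RingHom.algebraMap_toAlgebra, Ideal.ResidueField.map_algebraMap,
      ← IsScalarTower.algebraMap_apply]
  have hp : Module.finrank p.ResidueField (p.ResidueField ⊗[A] Ω[A⁄K]) ≤ d + 1 := by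
    rw [← Groth.Agent.Lib.Helper89.KaehlerGen.finrank_tensor_field_ext A Ω[A⁄K]
      p.ResidueField q.ResidueField]
    exact hA
  exact Groth.Agent.Lib.Helper89.KaehlerGen.exists_finset_span_localizedModule A Ω[A⁄K] p (d + 1) hp

end Groth.Agent.S17877
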