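import Groth.Statements.S17878
-- import your own Groth.Agent.* helpers here
import Mathlib.Analysis.SpecificLimits.Normed
import Mathlib.Data.Nat.Choose.Cast
import Mathlib.Data.Nat.Choose.Sum
import Mathlib.Topology.Algebra.InfiniteSum.Module
import Mathlib.Topology.Algebra.InfiniteSum.NatInt
import Mathlib.Analysis.Normed.Module.Basic
import Mathlib.Tactic

set_option autoImplicit false
universe u
open Filter Topology
open GRRSing

namespace Groth.Agent.S17878

/-- `F j y = ∑ k, k^j y^k`. -/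
private noncomputable def F (j : ℕ) (y : ℂ) : ℂ := ∑' k : ℕ, (k : ℂ) ^ j * y ^ k

private theorem hasSum_F (j : ℕ) {y : ℂ} (hy : ‖y‖ < 1) :
    HasSum (fun k : ℕ => (k : ℂ) ^ j * y ^ k) (F j y) :=
  (summable_pow_mul_geometric_of_norm_lt_one j hy).hasSum

private theorem F_rec (j : ℕ) {y : ℂ} (hy : ‖y‖ < 1) :
    F j y = (if j = 0 then 1 else 0) +
      y * ∑ i ∈ Finset.range (j + 1), (j.choose i : ℂ) * F i y := by
  have h1 : HasSum (fun k : ℕ => y * ∑ i ∈ Finset.range (j + 1),
      (j.choose i : ℂ) * ((k : ℂ) ^ i * y ^ k))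
      (y * ∑ i ∈ Finset.range (j + 1), (j.choose i : ℂ) * F i y) :=
    (hasSum_sum fun i _ => (hasSum_F i hy).mul_left (j.choose i : ℂ)).mul_left y
  have h2 : (fun k : ℕ => y * ∑ i ∈ Finset.range (j + 1),
      (j.choose i : ℂ) * ((k : ℂ) ^ i * y ^ k)) =
      fun k : ℕ => (((k + 1 : ℕ) : ℂ)) ^ j * y ^ (k + 1) := by
    funext k
    rw [Nat.cast_add, Nat.cast_one, add_pow, Finset.sum_mul, Finset.mul_sum]
    refine Finset.sum_congr rfl fun i _ => ?_
    rw [one_pow, mul_one, pow_succ]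
    ring
  rw [h2] at h1
  have h3 := (hasSum_nat_add_iff (f := fun k : ℕ => (k : ℂ) ^ j * y ^ k) 1).1 h1
  have h4 := (hasSum_F j hy).unique h3
  rw [h4, Finset.sum_range_one, Nat.cast_zero, pow_zero, mul_one, add_comm]
  congr 1
  rcases Nat.eq_zero_or_pos j with h0 | h0
  · rw [h0, pow_zero, if_pos rfl]
  · rw [zero_pow (by omega), if_neg (by omega)]

/-- the recurrence satisfied by the numbers `E j`. -/
private theorem E_rec (E : ℕ → ℚ)
    (hE : PowerSeries.mk (fun j => E j / (j.factorial : ℚ)) * (PowerSeries.exp ℚ + 1) = 2) (j : ℕ) :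
    E j + ∑ i ∈ Finset.range (j + 1), (j.choose i : ℚ) * E i = if j = 0 then 2 else 0 := by
  have h := congrArg (PowerSeries.coeff j) hE
  rw [PowerSeries.coeff_mul, Finset.Nat.sum_antidiagonal_eq_sum_range_succ_mk] at h
  have h2 : (PowerSeries.coeff j) (2 : PowerSeries ℚ) = if j = 0 then 2 else 0 := by
    have : (2 : PowerSeries ℚ) = PowerSeries.C (2 : ℚ) := by
      rw [map_ofNat]
    rw [this, PowerSeries.coeff_C]
  rw [h2] at h
  have hfact : (j.factorial : ℚ) ≠ 0 := Nat.cast_ne_zero.2 (Nat.factorial_ne_zero j)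
  have key : ∀ i ∈ Finset.range (j + 1),
      (j.factorial : ℚ) * ((PowerSeries.coeff i) (PowerSeries.mk fun j => E j / (j.factorial : ℚ)) *
        (PowerSeries.coeff (j - i)) (PowerSeries.exp ℚ + 1)) =
      (j.choose i : ℚ) * E i + (if i = j then E j else 0) := by
    intro i hi
    have hij : i ≤ j := by rw [Finset.mem_range] at hi; omega
    rw [PowerSeries.coeff_mk, map_add, PowerSeries.coeff_exp, PowerSeries.coeff_one,
      Nat.cast_choose ℚ hij]
    have hfi : (i.factorial : ℚ) ≠ 0 := Nat.cast_ne_zero.2 (Nat.factorial_ne_zero i)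
    have hfji : ((j - i).factorial : ℚ) ≠ 0 := Nat.cast_ne_zero.2 (Nat.factorial_ne_zero (j - i))
    by_cases hc : i = j
    · subst hc
      rw [Nat.sub_self, if_pos rfl, if_pos rfl]
      simp only [Nat.factorial_zero, Nat.cast_one, Algebra.algebraMap_self_apply]
      field_simp
    · rw [if_neg hc, if_neg (by omega)]
      simp only [Algebra.algebraMap_self_apply]
      field_simp
      try ring
  have h3 := congrArg (fun q : ℚ => (j.factorial : ℚ) * q) h
  simp only at h3
  rw [Finset.mul_sum, Finset.sum_congr rfl key, Finset.sum_add_distrib,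
    Finset.sum_ite_eq' (Finset.range (j + 1)) j, if_pos (Finset.mem_range.2 (by omega))] at h3
  rw [add_comm, h3]
  rcases Nat.eq_zero_or_pos j with h0 | h0
  · rw [h0]; simp
  · rw [if_neg (by omega), mul_zero]

private theorem tendsto_F (E : ℕ → ℚ)
    (hE : PowerSeries.mk (fun j => E j / (j.factorial : ℚ)) * (PowerSeries.exp ℚ + 1) = 2) (j : ℕ) :
    Tendsto (fun y : ℝ => F j (y : ℂ)) (𝓝[Set.Ioo (-1 : ℝ) 1] (-1 : ℝ))
      (𝓝 (((E j : ℚ) : ℂ) / 2)) := by
  induction j using Nat.strong_induction_on with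
  | _ j ih =>
    -- on the interval, solve the recurrence for `F j`
    have hsolve : ∀ y ∈ Set.Ioo (-1 : ℝ) 1, F j (y : ℂ) =
        ((if j = 0 then (1 : ℂ) else 0) +
          (y : ℂ) * ∑ i ∈ Finset.range j, (j.choose i : ℂ) * F i (y : ℂ)) / (1 - (y : ℂ)) := by
      intro y hy
      have hy' : ‖(y : ℂ)‖ < 1 := by
        rw [Complex.norm_real, Real.norm_eq_abs, abs_lt]
        exact ⟨hy.1, hy.2⟩
      have hne : (1 : ℂ) - (y : ℂ) ≠ 0 := by
        intro h0
        have : (y : ℂ) = 1 := (sub_eq_zero.1 h0).symm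
        have : y = 1 := by exact_mod_cast this
        linarith [hy.2]
      rw [eq_div_iff hne]
      have := F_rec j hy'
      rw [Finset.sum_range_succ, Nat.choose_self, Nat.cast_one, one_mul] at this
      linear_combination this
    have hlim : Tendsto (fun y : ℝ => ((if j = 0 then (1 : ℂ) else 0) +
          (y : ℂ) * ∑ i ∈ Finset.range j, (j.choose i : ℂ) * F i (y : ℂ)) / (1 - (y : ℂ)))
        (𝓝[Set.Ioo (-1 : ℝ) 1] (-1 : ℝ))
        (𝓝 (((if j = 0 then (1 : ℂ) else 0) +
          ((-1 : ℝ) : ℂ) * ∑ i ∈ Finset.range j, (j.choose i : ℂ) * (((E i : ℚ) : ℂ) / 2)) /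
            (1 - ((-1 : ℝ) : ℂ)))) := by
      have hy : Tendsto (fun y : ℝ => (y : ℂ)) (𝓝[Set.Ioo (-1 : ℝ) 1] (-1 : ℝ))
          (𝓝 ((-1 : ℝ) : ℂ)) :=
        (Complex.continuous_ofReal.tendsto (-1)).mono_left nhdsWithin_le_nhds
      refine Tendsto.div ?_ (tendsto_const_nhds.sub hy) ?_
      · refine tendsto_const_nhds.add (hy.mul ?_)
        refine tendsto_finsetSum _ fun i hi => ?_
        exact tendsto_const_nhds.mul (ih i (Finset.mem_range.1 hi))
      · norm_num
    have hval : ((if j = 0 then (1 : ℂ) else 0) +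
          ((-1 : ℝ) : ℂ) * ∑ i ∈ Finset.range j, (j.choose i : ℂ) * (((E i : ℚ) : ℂ) / 2)) /
            (1 - ((-1 : ℝ) : ℂ)) = ((E j : ℚ) : ℂ) / 2 := by
      have hq := E_rec E hE j
      rw [Finset.sum_range_succ, Nat.choose_self, Nat.cast_one, one_mul] at hq
      have hq' : ((E j : ℚ) : ℂ) + (∑ i ∈ Finset.range j, (j.choose i : ℂ) * ((E i : ℚ) : ℂ) +
          ((E j : ℚ) : ℂ)) = if j = 0 then 2 else 0 := by
        by_cases h0 : j = 0
        · rw [if_pos h0] at hq ⊢
          exact_mod_cast hq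
        · rw [if_neg h0] at hq ⊢
          exact_mod_cast hq
      have hsum : ∑ i ∈ Finset.range j, (j.choose i : ℂ) * (((E i : ℚ) : ℂ) / 2) =
          (∑ i ∈ Finset.range j, (j.choose i : ℂ) * ((E i : ℚ) : ℂ)) / 2 := by
        rw [Finset.sum_div]
        refine Finset.sum_congr rfl fun i _ => ?_
        ring
      rw [hsum]
      have h2 : (1 : ℂ) - ((-1 : ℝ) : ℂ) = 2 := by push_cast; ring
      rw [h2]
      by_cases h0 : j = 0
      · rw [if_pos h0] at hq' ⊢
        push_cast
        linear_combination (-1 / 4 : ℂ) * hq'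
      · rw [if_neg h0] at hq' ⊢
        push_cast
        linear_combination (-1 / 4 : ℂ) * hq'
    rw [hval] at hlim
    refine hlim.congr' ?_
    filter_upwards [self_mem_nhdsWithin] with y hy
    exact (hsolve y hy).symm

/-- Let T be a nonzero commutative normed ℂ-algebra such that the map ℂ → T/nilradical(T) is surjective,
let P = Σ_j d_j x ^ j be a polynomial over T and put h_k = P(k). Let E_0, E_1, … be the rational
numbers with 2/(e^t + 1) = Σ_j E_j t ^ j / j! (so E_0 = 1, E_1 = -1/2). Then for every complex y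
with |y| < 1 the series Σ_k h_k y ^ k converges in T, and as y → -1 along real y in (-1, 1) its sum
tends to (1/2) Σ_j E_j d_j. (The published statement allows any norm topology on T as a complex
vector space; this row takes T a normed ℂ-algebra.) -/
theorem result {T : Type u} [NormedCommRing T] [NormedAlgebra ℂ T] [Nontrivial T]
    (hT : Function.Surjective (algebraMap ℂ (T ⧸ nilradical T)))
    (E : ℕ → ℚ) (hE : PowerSeries.mk (fun j => E j / (j.factorial : ℚ)) * (PowerSeries.exp ℚ + 1) = 2)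
    (P : Polynomial T) :
    (∀ y : ℂ, ‖y‖ < 1 → Summable (fun k : ℕ => y ^ k • P.eval (k : T))) ∧
    Tendsto (fun y : ℝ => ∑' k : ℕ, ((y : ℂ) ^ k) • P.eval (k : T)) (𝓝[Set.Ioo (-1 : ℝ) 1] (-1 : ℝ))
      (𝓝 ((2 : ℂ)⁻¹ • ∑ j ∈ Finset.range (P.natDegree + 1), ((E j : ℚ) : ℂ) • P.coeff j)) := by
  -- pointwise expansion
  have hterm : ∀ (y : ℂ) (k : ℕ), y ^ k • P.eval (k : T) =
      ∑ j ∈ Finset.range (P.natDegree + 1), ((k : ℂ) ^ j * y ^ k) • P.coeff j := by
    intro y k
    rw [Polynomial.eval_eq_sum_range, Finset.smul_sum]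
    refine Finset.sum_congr rfl fun j _ => ?_
    have hk : (k : T) = algebraMap ℂ T (k : ℂ) := by rw [map_natCast]
    rw [hk, ← map_pow, mul_comm (P.coeff j), ← Algebra.smul_def, smul_smul, mul_comm]
  have hsum : ∀ y : ℂ, ‖y‖ < 1 → HasSum (fun k : ℕ => y ^ k • P.eval (k : T))
      (∑ j ∈ Finset.range (P.natDegree + 1), F j y • P.coeff j) := by
    intro y hy
    have : (fun k : ℕ => y ^ k • P.eval (k : T)) = fun k : ℕ =>
        ∑ j ∈ Finset.range (P.natDegree + 1), ((k : ℂ) ^ j * y ^ k) • P.coeff j :=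
      funext (hterm y)
    rw [this]
    exact hasSum_sum fun j _ => (hasSum_F j hy).smul_const (P.coeff j)
  refine ⟨fun y hy => (hsum y hy).summable, ?_⟩
  have hlim : Tendsto (fun y : ℝ => ∑ j ∈ Finset.range (P.natDegree + 1), F j (y : ℂ) • P.coeff j)
      (𝓝[Set.Ioo (-1 : ℝ) 1] (-1 : ℝ))
      (𝓝 (∑ j ∈ Finset.range (P.natDegree + 1), (((E j : ℚ) : ℂ) / 2) • P.coeff j)) :=
    tendsto_finsetSum _ fun j _ => (tendsto_F E hE j).smul_const (P.coeff j)
  have hval : (∑ j ∈ Finset.range (P.natDegree + 1), (((E j : ℚ) : ℂ) / 2) • P.coeff j) =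
      (2 : ℂ)⁻¹ • ∑ j ∈ Finset.range (P.natDegree + 1), ((E j : ℚ) : ℂ) • P.coeff j := by
    rw [Finset.smul_sum]
    refine Finset.sum_congr rfl fun j _ => ?_
    rw [smul_smul, div_eq_inv_mul]
  rw [hval] at hlim
  refine hlim.congr' ?_
  filter_upwards [self_mem_nhdsWithin] with y hy
  have hy' : ‖(y : ℂ)‖ < 1 := by
    rw [Complex.norm_real, Real.norm_eq_abs, abs_lt]
    exact ⟨hy.1, hy.2⟩
  exact ((hsum (y : ℂ) hy').tsum_eq).symm

end Groth.Agent.S17878
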