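import Groth.Statements.S17881
import Mathlib.Tactic

set_option autoImplicit false
universe u
open CAlg

namespace Groth.Agent.S17881

/-- Let O be a subring of a nontrivial commutative ring A. The following are equivalent: (i) A is a
local ring, every non-unit of A belongs to O, and for every unit u of A one of u, u⁻¹ belongs to O —
equivalently O is the preimage in the local ring A of a valuation ring of the residue field of A,
which makes O a semi-valuation ring with semi-fraction ring A; (ii) for all f, g in A generating the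
unit ideal, either f ∈ gO or g ∈ fO. (A is taken nontrivial: over the zero ring (ii) holds and (i)
fails.) -/
theorem result (A : Type u) [CommRing A] [Nontrivial A]
    (O : Subring A) :
    (IsLocalRing A ∧ (∀ a : A, ¬ IsUnit a → a ∈ O) ∧ (∀ u : Aˣ, (u : A) ∈ O ∨ ((u⁻¹ : Aˣ) : A) ∈ O)) ↔
      ∀ f g : A, IsCoprime f g → (∃ o ∈ O, f = g * o) ∨ (∃ o ∈ O, g = f * o) := by
  constructor
  · rintro ⟨hloc, hnu, hu⟩ f g hfg
    -- one of f, g is a unit
    have key : ∀ f g : A, IsUnit g → (∃ o ∈ O, f = g * o) ∨ (∃ o ∈ O, g = f * o) := by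
      intro f g hg
      obtain ⟨ug, rfl⟩ := hg
      by_cases hh : IsUnit (f * ((ug⁻¹ : Aˣ) : A))
      · obtain ⟨w, hw⟩ := hh
        rcases hu w with h1 | h1
        · left
          refine ⟨(w : A), h1, ?_⟩
          rw [hw]
          rw [mul_comm f, ← mul_assoc, Units.mul_inv, one_mul]
        · right
          refine ⟨((w⁻¹ : Aˣ) : A), h1, ?_⟩
          have : f = (ug : A) * (w : A) := by
            rw [hw, mul_comm f, ← mul_assoc, Units.mul_inv, one_mul]
          rw [this, mul_assoc, Units.mul_inv, mul_one]
      · left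
        refine ⟨f * ((ug⁻¹ : Aˣ) : A), hnu _ hh, ?_⟩
        rw [mul_comm f, ← mul_assoc, Units.mul_inv, one_mul]
    have hunit : IsUnit f ∨ IsUnit g := by
      obtain ⟨a, b, hab⟩ := hfg
      have h1 : IsUnit (a * f) ∨ IsUnit (b * g) := IsLocalRing.isUnit_or_isUnit_of_add_one hab
      rcases h1 with h1 | h1
      · left; exact isUnit_of_mul_isUnit_right h1
      · right; exact isUnit_of_mul_isUnit_right h1
    rcases hunit with h1 | h1
    · exact (key g f h1).symm
    · exact key f g h1
  · intro h
    refine ⟨?_, ?_, ?_⟩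
    · apply IsLocalRing.of_isUnit_or_isUnit_one_sub_self
      intro a
      have hc : IsCoprime a (1 - a) := ⟨1, 1, by ring⟩
      rcases h a (1 - a) hc with ⟨o, _, ho⟩ | ⟨o, _, ho⟩
      · right
        -- 1 = (1 - a) + a = (1 - a) (1 + o)
        refine IsUnit.of_mul_eq_one (1 + o) ?_
        calc (1 - a) * (1 + o) = (1 - a) + (1 - a) * o := by ring
          _ = (1 - a) + a := by rw [← ho]
          _ = 1 := by ring
      · left
        refine IsUnit.of_mul_eq_one (1 + o) ?_
        calc a * (1 + o) = a + a * o := by ring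
          _ = a + (1 - a) := by rw [← ho]
          _ = 1 := by ring
    · intro a ha
      have hc : IsCoprime a 1 := isCoprime_one_right
      rcases h a 1 hc with ⟨o, hoO, ho⟩ | ⟨o, _, ho⟩
      · rw [one_mul] at ho; rw [ho]; exact hoO
      · exact absurd (IsUnit.of_mul_eq_one o ho.symm) ha
    · intro u
      have hc : IsCoprime (u : A) 1 := isCoprime_one_right
      rcases h (u : A) 1 hc with ⟨o, hoO, ho⟩ | ⟨o, hoO, ho⟩
      · left; rw [one_mul] at ho; rw [ho]; exact hoO
      · right
        have : o = ((u⁻¹ : Aˣ) : A) := by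
          have h2 : ((u⁻¹ : Aˣ) : A) * ((u : A) * o) = ((u⁻¹ : Aˣ) : A) * 1 := by rw [← ho]
          rw [← mul_assoc, Units.inv_mul, one_mul, mul_one] at h2
          exact h2
        rw [← this]; exact hoO

end Groth.Agent.S17881
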