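import Groth.Statements.S17882
import Mathlib.LinearAlgebra.Matrix.Adjugate
import Mathlib.LinearAlgebra.Matrix.Nondegenerate
import Mathlib.LinearAlgebra.LinearIndependent.Lemmas
import Mathlib.Tactic

set_option autoImplicit false
universe u
open CAlg

namespace Groth.Agent.S17882

open Matrix in
/-- Let B be a commutative ring, r ≥ 1, N a finitely generated submodule of B^r, and n_1, …, n_r ∈ N.
Suppose the determinant of the matrix with rows n_1, …, n_r is a nonzerodivisor of B and that the
determinant of every matrix whose rows lie in N is a multiple of it (the image of the top exterior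
power of N in that of B^r ≅ B is the principal ideal generated by n_1 ∧ ⋯ ∧ n_r, a nonzerodivisor).
Then n_1, …, n_r are linearly independent over B and span N: N is free of rank r with this basis. -/
theorem result (B : Type u) [CommRing B] (r : ℕ) (hr : 0 < r)
    (N : Submodule B (Fin r → B)) (hN : N.FG) (n : Fin r → (Fin r → B)) (hn : ∀ i, n i ∈ N)
    (hgen : ∀ m : Fin r → (Fin r → B), (∀ i, m i ∈ N) →
      Matrix.det (Matrix.of m) ∈ Ideal.span {Matrix.det (Matrix.of n)})
    (hnzd : Matrix.det (Matrix.of n) ∈ nonZeroDivisors B) :
    LinearIndependent B n ∧ Submodule.span B (Set.range n) = N := by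
  set A : Matrix (Fin r) (Fin r) B := Matrix.of n with hA
  constructor
  · rw [Fintype.linearIndependent_iff]
    intro g hg
    have h1 : g ᵥ* A = 0 := by
      rw [Matrix.vecMul_eq_sum]
      exact hg
    have := Matrix.eq_zero_of_det_mem_nonZeroDivisors_of_vecMul_eq_zero hnzd h1
    intro i
    rw [this]; rfl
  · apply le_antisymm
    · rw [Submodule.span_le]
      rintro _ ⟨i, rfl⟩
      exact hn i
    · intro m hm
      -- D • m = ∑ det(A.updateRow i m) • n i
      have h1 : Aᵀ *ᵥ (Matrix.cramer Aᵀ m) = A.det • m := by
        rw [Matrix.mulVec_cramer, Matrix.det_transpose]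
      have h2 : ∀ i, ∃ c : B, Matrix.cramer Aᵀ m i = A.det * c := by
        intro i
        rw [Matrix.cramer_transpose_apply]
        have hrows : ∀ j, (A.updateRow i m) j ∈ N := by
          intro j
          by_cases hj : j = i
          · subst hj
            rw [Matrix.updateRow_self]; exact hm
          · rw [Matrix.updateRow_ne hj]; exact hn j
        have := hgen (fun j => (A.updateRow i m) j) hrows
        rw [Ideal.mem_span_singleton'] at this
        obtain ⟨c, hc⟩ := this
        refine ⟨c, ?_⟩
        rw [mul_comm, hc]
        rfl
      choose c hc using h2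
      have h3 : A.det • m = A.det • ∑ i, c i • n i := by
        rw [← h1, Matrix.mulVec_transpose, Matrix.vecMul_eq_sum, Finset.smul_sum]
        apply Finset.sum_congr rfl
        intro i _
        rw [hc i, mul_smul]
        rfl
      have h4 : m = ∑ i, c i • n i := by
        funext j
        have := congrFun h3 j
        simp only [Pi.smul_apply, smul_eq_mul] at this
        exact (mul_cancel_left_mem_nonZeroDivisors hnzd).1 this
      rw [h4]
      apply Submodule.sum_mem
      intro i _
      exact Submodule.smul_mem _ _ (Submodule.subset_span ⟨i, rfl⟩)

end Groth.Agent.S17882
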