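import Groth.Statements.S17885
import Groth.Agent.Lib.Helper70.AffLimA
import Groth.Agent.Lib.Helper22.RelApprox4
import Groth.Agent.S0590

set_option autoImplicit false
universe u
open CategoryTheory AlgebraicGeometry
open Lim

namespace Groth.Agent.S17885

/-- Let f : Y → X be a morphism of schemes with X and Y quasi-compact and quasi-separated. Then f is
affine if and only if the X-scheme Y is a limit, in the category of schemes over X, of a filtered
inverse system of X-schemes that are affine and of finite presentation over X. -/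
theorem result {X Y : Scheme.{u}} (f : Y ⟶ X)
    [CompactSpace X] [QuasiSeparatedSpace X] [CompactSpace Y] [QuasiSeparatedSpace Y] :
    IsAffineHom f ↔
      ∃ (I : Type u) (_ : SmallCategory I) (_ : IsFiltered I) (D : Iᵒᵖ ⥤ Over X)
        (c : Limits.Cone D) (_ : Limits.IsLimit c),
        (∀ i, IsAffineHom (D.obj i).hom ∧ LocallyOfFinitePresentation (D.obj i).hom) ∧
        Nonempty (c.pt ≅ Over.mk f) := by
  constructor
  · intro hf
    obtain ⟨I, i1, i2, i3, D, c, hc, hD, haff, ⟨e⟩⟩ :=
      Groth.Agent.Lib.Helper22.RelApprox.exists_relApprox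
        (fun S _ _ => Groth.Agent.S0590.result S) f
    have hpt : IsAffineHom c.pt.hom := by
      obtain ⟨g, hg, hgiso⟩ : ∃ g : c.pt.left ⟶ Y, g ≫ f = c.pt.hom ∧ IsIso g :=
        ⟨((Over.forget X).mapIso e).hom, Over.w e.hom, inferInstance⟩
      rw [← hg]
      infer_instance
    obtain ⟨i₀, hi₀⟩ := Groth.Agent.Lib.Helper70.AffLim.exists_stage_isAffineHom D c hc
      (fun i => (hD i).2.1) (fun i => (hD i).2.2) haff hpt
    refine ⟨↥(Set.Ici i₀), inferInstance, inferInstance,
      (Groth.Agent.Lib.Helper70.AbsApproxP.incl i₀).op ⋙ D,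
      c.whisker (Groth.Agent.Lib.Helper70.AbsApproxP.incl i₀).op, ?_, ?_, ⟨e⟩⟩
    · have := Groth.Agent.Lib.Helper70.AbsApproxP.incl_final i₀
      have : (Groth.Agent.Lib.Helper70.AbsApproxP.incl i₀).op.Initial := inferInstance
      exact (Functor.Initial.isLimitWhiskerEquiv
        (Groth.Agent.Lib.Helper70.AbsApproxP.incl i₀).op c).symm hc
    · intro i
      exact ⟨hi₀ _ i.unop.2, (hD _).1⟩
  · rintro ⟨I, i1, i2, D, c, hc, hD, ⟨e⟩⟩
    have : IsCofiltered Iᵒᵖ := inferInstance
    have : IsConnected Iᵒᵖ := IsCofiltered.isConnected _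
    have hcS : Limits.IsLimit ((Over.forget X).mapCone c) :=
      Limits.isLimitOfPreserves (Over.forget X) hc
    have : ∀ {i j : Iᵒᵖ} (φ : i ⟶ j), IsAffineHom ((D ⋙ Over.forget X).map φ) := by
      intro i j φ
      have := (hD j).1
      have : IsAffineHom ((D.map φ).left ≫ (D.obj j).hom) := by
        rw [Over.w]
        exact (hD i).1
      exact IsAffineHom.of_comp (D.map φ).left (D.obj j).hom
    obtain ⟨i⟩ := IsCofiltered.nonempty (C := Iᵒᵖ)
    have h3 : IsAffineHom c.pt.hom := by
      obtain ⟨p, hp, hpaff⟩ : ∃ p : c.pt.left ⟶ (D.obj i).left,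
          p ≫ (D.obj i).hom = c.pt.hom ∧ IsAffineHom p :=
        ⟨((Over.forget X).mapCone c).π.app i, Over.w (c.π.app i), isAffineHom_π_app _ _ hcS i⟩
      obtain ⟨q, hq⟩ : ∃ q : (D.obj i).left ⟶ X, q = (D.obj i).hom := ⟨_, rfl⟩
      have hqaff : IsAffineHom q := by rw [hq]; exact (hD i).1
      rw [← hp, ← hq]
      infer_instance
    obtain ⟨g, hg, hgiso⟩ : ∃ g : Y ⟶ c.pt.left, g ≫ c.pt.hom = f ∧ IsIso g :=
      ⟨((Over.forget X).mapIso e).inv, Over.w e.inv, inferInstance⟩
    rw [← hg]
    infer_instance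

end Groth.Agent.S17885
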