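import Groth.Statements.S17887
import Groth.Agent.Lib.Helper93.ModPairAmbProd
import Groth.Agent.H8.BlowUpOffCenter

set_option autoImplicit false
universe u
open CategoryTheory AlgebraicGeometry
open BlowUp

namespace Groth.Agent.S17887

/-- Let X be a Noetherian scheme, U ⊆ X an open subscheme that is schematically dense in X, I a
quasi-coherent ideal sheaf on X whose support does not meet U, and π : X' → X a blowing-up of X
along I. Then π⁻¹(U) is schematically dense in X'. -/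
theorem result {X X' : Scheme.{u}} [IsNoetherian X]
    (U : X.Opens) [IsSchemeTheoreticallyDominant U.ι] (𝓘 : X.IdealSheafData)
    (hU : Disjoint (𝓘.support : Set X) (U : Set X)) (π : X' ⟶ X) (hπ : BlowUp.IsBlowUp π 𝓘) :
    IsSchemeTheoreticallyDominant (π ⁻¹ᵁ U).ι := by
  have hqcU : QuasiCompact U.ι := inferInstance
  set O : X.Opens := 𝓘.support.compl with hO
  have hUO : U ≤ O := by
    intro x hx hx'
    exact Set.disjoint_left.mp hU hx' hx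
  have hiso : IsIso (π ∣_ O) := Groth.Agent.H8.blowUp_isIso_off_center 𝓘 π hπ
  -- the exceptional ideal is effective Cartier with interior `π ⁻¹ᵁ O`
  have hE : BlowUp.IsEffCartierIdeal (𝓘.comap π) := hπ.1
  have hOdom : IsSchemeTheoreticallyDominant (π ⁻¹ᵁ O).ι := by
    have h := Groth.Agent.Lib.Helper93.ModPairInterior.isSchemeTheoreticallyDominant_ι_interior _ hE
    rw [Groth.Agent.Lib.Helper93.ModPairAmbProd.interior_comap] at h
    exact h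
  -- `U` is scheme-theoretically dense in `O`
  have h1 : IsSchemeTheoreticallyDominant (O.ι ⁻¹ᵁ U).ι :=
    IsSchemeTheoreticallyDominant.of_isPullback (isPullback_morphismRestrict O.ι U)
  have hqc1 : QuasiCompact (O.ι ⁻¹ᵁ U).ι :=
    MorphismProperty.of_isPullback (isPullback_morphismRestrict O.ι U) hqcU
  -- pull back along the isomorphism `π ∣_ O`
  have h2 : IsSchemeTheoreticallyDominant ((π ∣_ O) ⁻¹ᵁ (O.ι ⁻¹ᵁ U)).ι :=
    IsSchemeTheoreticallyDominant.of_isPullback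
      (isPullback_morphismRestrict (π ∣_ O) (O.ι ⁻¹ᵁ U))
  -- compose with the dense open `π ⁻¹ᵁ O`
  have h3 : IsSchemeTheoreticallyDominant (((π ∣_ O) ⁻¹ᵁ (O.ι ⁻¹ᵁ U)).ι ≫ (π ⁻¹ᵁ O).ι) :=
    inferInstance
  have hrange : Set.range (((π ∣_ O) ⁻¹ᵁ (O.ι ⁻¹ᵁ U)).ι ≫ (π ⁻¹ᵁ O).ι) ⊆
      Set.range (π ⁻¹ᵁ U).ι := by
    rintro _ ⟨z, rfl⟩
    rw [Scheme.Opens.range_ι]
    have hz : (π ∣_ O) z.1 ∈ O.ι ⁻¹ᵁ U := z.2
    change π ((((π ∣_ O) ⁻¹ᵁ (O.ι ⁻¹ᵁ U)).ι ≫ (π ⁻¹ᵁ O).ι) z) ∈ U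
    rw [← Scheme.Hom.comp_apply, Category.assoc, ← morphismRestrict_ι, ← Category.assoc,
      Scheme.Hom.comp_apply, Scheme.Hom.comp_apply]
    exact hz
  let k := IsOpenImmersion.lift (π ⁻¹ᵁ U).ι _ hrange
  have hk : k ≫ (π ⁻¹ᵁ U).ι = ((π ∣_ O) ⁻¹ᵁ (O.ι ⁻¹ᵁ U)).ι ≫ (π ⁻¹ᵁ O).ι :=
    IsOpenImmersion.lift_fac _ _ _
  rw [isSchemeTheoreticallyDominant_iff, eq_bot_iff]
  calc (π ⁻¹ᵁ U).ι.ker ≤ (k ≫ (π ⁻¹ᵁ U).ι).ker := Scheme.Hom.le_ker_comp _ _
    _ = ⊥ := by rw [hk]; exact h3.ker_eq_bot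

end Groth.Agent.S17887
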