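import Groth.Statements.S17897
import Groth.Agent.H76.DVRThrough

set_option autoImplicit false
universe u
open CategoryTheory AlgebraicGeometry
open ValCrit

namespace Groth.Agent.S17897

/-- Let f : Y → X be a morphism of schemes (not assumed separated), R a valuation ring with fraction
field K, and i : Spec K → Y, φ : Spec R → X with i ≫ f = (Spec K → Spec R) ≫ φ. Let y be the point
of Y hit by i and g : κ(y) → K the induced embedding, R' = g⁻¹(R) the induced valuation ring of κ(y)
and ρ : R' → R the restriction of g. Then φ factors uniquely through Spec R → Spec R': there is a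
unique φ' : Spec R' → X with (Spec ρ) ≫ φ' = φ whose restriction to the generic point Spec κ(y) is
the canonical morphism Spec κ(y) → Y followed by f. (Here y and g are given as data with Spec g
followed by Spec κ(y) → Y equal to i, and ρ as data by its defining equation.) -/
theorem result {X Y : Scheme.{u}} (f : Y ⟶ X)
    (K : Type u) [Field K] (R : ValuationSubring K)
    (i : Spec (CommRingCat.of K) ⟶ Y) (φ : Spec (CommRingCat.of ↥R) ⟶ X)
    (w : Spec.map (CommRingCat.ofHom R.subtype) ≫ φ = i ≫ f)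
    (y : Y) (g : Y.residueField y ⟶ CommRingCat.of K) (hg : Spec.map g ≫ Y.fromSpecResidueField y = i)
    (ρ : ↥(R.comap g.hom) →+* ↥R)
    (hρ : ∀ x : ↥(R.comap g.hom), ((ρ x : ↥R) : K) = g.hom (x : ↑(Y.residueField y))) :
    ∃! φ' : Spec (CommRingCat.of ↥(R.comap g.hom)) ⟶ X,
      Spec.map (CommRingCat.ofHom ρ) ≫ φ' = φ ∧
      Spec.map (CommRingCat.ofHom (R.comap g.hom).subtype) ≫ φ' = Y.fromSpecResidueField y ≫ f := by
  classical
  have hipt : i.base (IsLocalRing.closedPoint K) = y := by
    rw [← hg, Scheme.Hom.comp_apply, Scheme.fromSpecResidueField_apply]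
  let x : X := φ.base (IsLocalRing.closedPoint R)
  let θ : X.presheaf.stalk x ⟶ CommRingCat.of R := Scheme.stalkClosedPointTo φ
  have hθ : Spec.map θ ≫ X.fromSpecStalk x = φ := Scheme.Spec_stalkClosedPointTo_fromSpecStalk φ
  have hx : f.base y ⤳ x := by
    have h1 : (Spec.map (CommRingCat.ofHom R.subtype) ≫ φ).base (IsLocalRing.closedPoint K) =
        f.base y := by
      rw [w, Scheme.Hom.comp_apply, hipt]
    rw [← h1, Scheme.Hom.comp_apply]
    exact (IsLocalRing.specializes_closedPoint _).map φ.base.hom.continuous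
  have K1 := Groth.Agent.H76.DVRThrough.SpecMap_toRes_fromSpecStalk f y hx
  have RI : Groth.Agent.H76.DVRThrough.toRes f y hx ≫ g = θ ≫ CommRingCat.ofHom R.subtype := by
    apply Spec.map_injective
    rw [← cancel_mono (X.fromSpecStalk x), Spec.map_comp, Category.assoc, K1,
      ← Category.assoc, hg, Spec.map_comp, Category.assoc, hθ, w]
  have hmem : ∀ a, (Groth.Agent.H76.DVRThrough.toRes f y hx).hom a ∈ R.comap g.hom := by
    intro a
    rw [ValuationSubring.mem_comap]
    have e : g.hom ((Groth.Agent.H76.DVRThrough.toRes f y hx).hom a) = ((θ.hom a : R) : K) :=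
      congrArg (fun k => k.hom a) RI
    rw [e]
    exact (θ.hom a).2
  let θ' : X.presheaf.stalk x ⟶ CommRingCat.of (R.comap g.hom) :=
    CommRingCat.ofHom ((Groth.Agent.H76.DVRThrough.toRes f y hx).hom.codRestrict
      (R.comap g.hom).toSubring hmem)
  have e1 : θ' ≫ CommRingCat.ofHom ρ = θ := by
    ext a
    have h1 : ((ρ (θ'.hom a) : R) : K) = g.hom ((θ'.hom a : R.comap g.hom) : Y.residueField y) :=
      hρ _
    have e : g.hom ((Groth.Agent.H76.DVRThrough.toRes f y hx).hom a) = ((θ.hom a : R) : K) :=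
      congrArg (fun k => k.hom a) RI
    exact h1.trans e
  have e2 : θ' ≫ CommRingCat.ofHom (R.comap g.hom).subtype =
      Groth.Agent.H76.DVRThrough.toRes f y hx := by
    ext a; rfl
  refine ⟨Spec.map θ' ≫ X.fromSpecStalk x, ⟨?_, ?_⟩, ?_⟩
  · rw [← Spec.map_comp_assoc, e1, hθ]
  · rw [← Spec.map_comp_assoc, e2, K1]
  · rintro φ'' ⟨h1, h2⟩
    obtain ⟨X₀, hX₀, hxX₀⟩ : ∃ X₀ : X.Opens, IsAffineOpen X₀ ∧
        φ''.base (IsLocalRing.closedPoint (R.comap g.hom)) ∈ X₀ := by
      obtain ⟨_, ⟨W, hW, rfl⟩, hyW, -⟩ :=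
        X.isBasis_affineOpens.exists_subset_of_mem_open
          (Set.mem_univ (φ''.base (IsLocalRing.closedPoint (R.comap g.hom)))) isOpen_univ
      exact ⟨W, hW, hyW⟩
    have hxx'' : x ⤳ φ''.base (IsLocalRing.closedPoint (R.comap g.hom)) := by
      have h3 : x = (Spec.map (CommRingCat.ofHom ρ) ≫ φ'').base (IsLocalRing.closedPoint R) := by
        rw [h1]
      rw [h3, Scheme.Hom.comp_apply]
      exact (IsLocalRing.specializes_closedPoint _).map φ''.base.hom.continuous
    have hx₀ : x ∈ X₀ := hxx''.mem_open X₀.isOpen hxX₀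
    apply Groth.Agent.H76.DVRThrough.eq_of_common_affine
      (CommRingCat.ofHom (R.comap g.hom).subtype) Subtype.val_injective X₀ hX₀ _ _ hxX₀
    · have h4 : (Spec.map θ' ≫ X.fromSpecStalk x).base (IsLocalRing.closedPoint (R.comap g.hom)) ∈
          Set.range (X.fromSpecStalk x).base := by
        rw [Scheme.Hom.comp_apply]
        exact ⟨_, rfl⟩
      rw [Scheme.range_fromSpecStalk] at h4
      exact (h4 : _ ⤳ x).mem_open X₀.isOpen hx₀
    · rw [h2, ← Spec.map_comp_assoc, e2, K1]

end Groth.Agent.S17897
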