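import Groth.Statements.S17898
import Groth.Agent.H76.DVRThrough

set_option autoImplicit false
universe u
open CategoryTheory AlgebraicGeometry
open ValCrit

namespace Groth.Agent.S17898

/-- Let f : Y → X be a morphism of schemes (not assumed separated), K a field with valuation rings R ⊆
R' (inclusion ι), i : Spec K → Y and φ : Spec R → X a commutative square over f, and g : Spec R' → Y
a lift of Spec R' → Spec R → X restricting to i on Spec K. Let K̃ be the residue field of R', R̃ ⊆
K̃ the image of R (a valuation ring of K̃) with the surjection σ : R → R̃. Then every h̃ : Spec R̃ →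
Y whose restriction to Spec K̃ is Spec K̃ → Spec R' → Y (via g) and which lies over Spec R̃ → Spec R
→ X is induced by a unique h : Spec R → Y compatible with the whole diagram: h restricts to i on
Spec K, lies over φ, restricts to g along Spec R' → Spec R and to h̃ along Spec R̃ → Spec R. (ι, R̃,
σ are given as data pinned by their defining equations.) -/
theorem result {X Y : Scheme.{u}} (f : Y ⟶ X)
    (K : Type u) [Field K] (R R' : ValuationSubring K) (hRR' : R ≤ R')
    (ι : ↥R →+* ↥R') (hι : ∀ x : ↥R, ((ι x : ↥R') : K) = (x : K))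
    (i : Spec (CommRingCat.of K) ⟶ Y) (φ : Spec (CommRingCat.of ↥R) ⟶ X)
    (w : Spec.map (CommRingCat.ofHom R.subtype) ≫ φ = i ≫ f)
    (g : Spec (CommRingCat.of ↥R') ⟶ Y) (hg₁ : Spec.map (CommRingCat.ofHom R'.subtype) ≫ g = i)
    (hg₂ : g ≫ f = Spec.map (CommRingCat.ofHom ι) ≫ φ)
    (Rt : ValuationSubring (IsLocalRing.ResidueField ↥R')) (σ : ↥R →+* ↥Rt) (hσs : Function.Surjective σ)
    (hσ : ∀ x : ↥R, ((σ x : ↥Rt) : IsLocalRing.ResidueField ↥R') = IsLocalRing.residue ↥R' (ι x))
    (ht : Spec (CommRingCat.of ↥Rt) ⟶ Y)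
    (hht₁ : Spec.map (CommRingCat.ofHom Rt.subtype) ≫ ht =
      Spec.map (CommRingCat.ofHom (IsLocalRing.residue ↥R')) ≫ g)
    (hht₂ : ht ≫ f = Spec.map (CommRingCat.ofHom σ) ≫ φ) :
    ∃! h : Spec (CommRingCat.of ↥R) ⟶ Y, Spec.map (CommRingCat.ofHom R.subtype) ≫ h = i ∧ h ≫ f = φ ∧
      Spec.map (CommRingCat.ofHom ι) ≫ h = g ∧ Spec.map (CommRingCat.ofHom σ) ≫ h = ht := by
  classical
  -- `σ` is local, so it preserves closed points
  have hσloc : IsLocalHom σ := by
    constructor
    intro a ha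
    by_contra hnu
    have h1 : a ∈ IsLocalRing.maximalIdeal R := (IsLocalRing.mem_maximalIdeal a).mpr hnu
    -- `ι a` is a nonunit of `R'`?  Not necessarily; argue with surjectivity instead.
    obtain ⟨b, hb⟩ := hσs (ha.unit⁻¹ : (Rt)ˣ).1
    have h2 : σ (a * b) = 1 := by rw [map_mul, hb]; exact ha.mul_val_inv
    have h3 : a * b ∈ IsLocalRing.maximalIdeal R := Ideal.mul_mem_right _ _ h1
    have h4 : 1 - a * b ∈ RingHom.ker σ := by rw [RingHom.mem_ker, map_sub, map_one, h2, sub_self]
    have h5 : RingHom.ker σ ≤ IsLocalRing.maximalIdeal R :=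
      IsLocalRing.le_maximalIdeal (RingHom.ker_ne_top σ)
    have h6 : (1 : R) ∈ IsLocalRing.maximalIdeal R := by
      have := Ideal.add_mem _ (h5 h4) h3
      simpa using this
    exact (IsLocalRing.maximalIdeal.isMaximal R).ne_top ((Ideal.eq_top_iff_one _).mpr h6)
  let σc : CommRingCat.of R ⟶ CommRingCat.of Rt := CommRingCat.ofHom σ
  have hσloc' : IsLocalHom σc.hom := hσloc
  have hσcl : (Spec.map σc).base (IsLocalRing.closedPoint Rt) = IsLocalRing.closedPoint R :=
    Spec_closedPoint (f := σc)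
  -- the data of `g` and `ht`
  let y' : Y := g.base (IsLocalRing.closedPoint R')
  let θg : Y.presheaf.stalk y' ⟶ CommRingCat.of R' := Scheme.stalkClosedPointTo g
  have hθg : Spec.map θg ≫ Y.fromSpecStalk y' = g := Scheme.Spec_stalkClosedPointTo_fromSpecStalk g
  let yt : Y := ht.base (IsLocalRing.closedPoint Rt)
  let θt : Y.presheaf.stalk yt ⟶ CommRingCat.of Rt := Scheme.stalkClosedPointTo ht
  have hθt : Spec.map θt ≫ Y.fromSpecStalk yt = ht :=
    Scheme.Spec_stalkClosedPointTo_fromSpecStalk ht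
  let resc : CommRingCat.of R' ⟶ CommRingCat.of (IsLocalRing.ResidueField R') :=
    CommRingCat.ofHom (IsLocalRing.residue R')
  have hresloc : IsLocalHom resc.hom := inferInstanceAs (IsLocalHom (IsLocalRing.residue R'))
  have hy'yt : y' ⤳ yt := by
    have h1 : (Spec.map (CommRingCat.ofHom Rt.subtype) ≫ ht).base
        (IsLocalRing.closedPoint (IsLocalRing.ResidueField R')) = y' := by
      rw [hht₁, Scheme.Hom.comp_apply]
      congr 1
      exact Spec_closedPoint (f := resc)
    rw [← h1, Scheme.Hom.comp_apply]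
    exact (IsLocalRing.specializes_closedPoint _).map ht.base.hom.continuous
  have I1 : θt ≫ CommRingCat.ofHom Rt.subtype =
      Y.presheaf.stalkSpecializes hy'yt ≫ θg ≫ resc := by
    apply Spec.map_injective
    rw [← cancel_mono (Y.fromSpecStalk yt), Spec.map_comp, Category.assoc, hθt, hht₁,
      Spec.map_comp, Spec.map_comp, Category.assoc, Category.assoc,
      Scheme.SpecMap_stalkSpecializes_fromSpecStalk, hθg]
  -- `m_{R'} ⊆ R`
  have hmR : ∀ x : K, R'.valuation x < 1 → x ∈ R := by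
    intro x hx
    by_cases hx0 : x = 0
    · rw [hx0]; exact R.zero_mem
    rcases R.mem_or_inv_mem x with h1 | h1
    · exact h1
    · exfalso
      have h2 : x⁻¹ ∈ R' := hRR' h1
      have h3 := (R'.valuation_le_one_iff _).mpr h2
      have h4 : R'.valuation x * R'.valuation x⁻¹ = 1 := by
        rw [← map_mul, mul_inv_cancel₀ hx0, map_one]
      have h5 : (1 : _) ≤ R'.valuation x := by
        calc (1 : _) = _ := h4.symm
          _ ≤ R'.valuation x * 1 := mul_le_mul' le_rfl h3
          _ = _ := mul_one _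
      exact absurd hx (not_lt.mpr h5)
  have hmem : ∀ a : Y.presheaf.stalk yt,
      ((θg.hom ((Y.presheaf.stalkSpecializes hy'yt).hom a) : R') : K) ∈ R := by
    intro a
    set v : R' := θg.hom ((Y.presheaf.stalkSpecializes hy'yt).hom a) with hv
    obtain ⟨r, hr⟩ := hσs (θt.hom a)
    have h1 : IsLocalRing.residue R' v = ((θt.hom a : Rt) : IsLocalRing.ResidueField R') :=
      (congrArg (fun k => k.hom a) I1).symm
    have h2 : IsLocalRing.residue R' (v - ι r) = 0 := by
      rw [map_sub, h1, ← hr, hσ, sub_self]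
    have h3 : v - ι r ∈ IsLocalRing.maximalIdeal R' := (IsLocalRing.residue_eq_zero_iff _).mp h2
    have h4 : R'.valuation ((v - ι r : R') : K) < 1 := (R'.valuation_lt_one_iff _).mp h3
    have h5 : ((v - ι r : R') : K) ∈ R := hmR _ h4
    have h6 : (v : K) = ((v - ι r : R') : K) + (r : K) := by
      have : ((v - ι r : R') : K) = (v : K) - ((ι r : R') : K) := rfl
      rw [this, hι]
      ring
    rw [h6]
    exact R.add_mem _ _ h5 r.2
  let θh : Y.presheaf.stalk yt ⟶ CommRingCat.of R :=
    CommRingCat.ofHom ((R'.subtype.comp (θg.hom.comp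
      (Y.presheaf.stalkSpecializes hy'yt).hom)).codRestrict R.toSubring hmem)
  have e1 : θh ≫ CommRingCat.ofHom ι = Y.presheaf.stalkSpecializes hy'yt ≫ θg := by
    ext a
    exact hι _
  have e4 : θh ≫ σc = θt := by
    ext a
    have h1 : ((σ (θh.hom a) : Rt) : IsLocalRing.ResidueField R') =
        IsLocalRing.residue R' (ι (θh.hom a)) := hσ _
    have h2 : ι (θh.hom a) = θg.hom ((Y.presheaf.stalkSpecializes hy'yt).hom a) :=
      congrArg (fun k => k.hom a) e1
    rw [h2] at h1
    exact h1.trans (congrArg (fun k => k.hom a) I1).symm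
  have eι : CommRingCat.ofHom ι ≫ CommRingCat.ofHom R'.subtype = CommRingCat.ofHom R.subtype := by
    ext a
    exact hι a
  let hh : Spec (CommRingCat.of R) ⟶ Y := Spec.map θh ≫ Y.fromSpecStalk yt
  have p3 : Spec.map (CommRingCat.ofHom ι) ≫ hh = g := by
    rw [← Spec.map_comp_assoc, e1, Spec.map_comp, Category.assoc,
      Scheme.SpecMap_stalkSpecializes_fromSpecStalk, hθg]
  have p1 : Spec.map (CommRingCat.ofHom R.subtype) ≫ hh = i := by
    rw [← eι, Spec.map_comp, Category.assoc, p3, hg₁]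
  have p4 : Spec.map σc ≫ hh = ht := by
    rw [← Spec.map_comp_assoc, e4, hθt]
  have hcl : ∀ h' : Spec (CommRingCat.of R) ⟶ Y, Spec.map σc ≫ h' = ht →
      h'.base (IsLocalRing.closedPoint R) = yt := by
    intro h' hh'
    rw [← hσcl, ← Scheme.Hom.comp_apply, hh']
  have p2 : hh ≫ f = φ := by
    obtain ⟨X₀, hX₀, hxX₀⟩ : ∃ X₀ : X.Opens, IsAffineOpen X₀ ∧
        φ.base (IsLocalRing.closedPoint R) ∈ X₀ := by
      obtain ⟨_, ⟨W, hW, rfl⟩, hyW, -⟩ :=
        X.isBasis_affineOpens.exists_subset_of_mem_open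
          (Set.mem_univ (φ.base (IsLocalRing.closedPoint R))) isOpen_univ
      exact ⟨W, hW, hyW⟩
    apply Groth.Agent.H76.DVRThrough.eq_of_common_affine (CommRingCat.ofHom R.subtype)
      Subtype.val_injective X₀ hX₀ _ _ ?_ hxX₀
    · rw [← Category.assoc, p1, w]
    · have h1 : (hh ≫ f).base (IsLocalRing.closedPoint R) =
          φ.base (IsLocalRing.closedPoint R) := by
        rw [Scheme.Hom.comp_apply, hcl hh p4]
        have h2 : (ht ≫ f).base (IsLocalRing.closedPoint Rt) =
            (Spec.map σc ≫ φ).base (IsLocalRing.closedPoint Rt) := by rw [hht₂]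
        rw [Scheme.Hom.comp_apply, Scheme.Hom.comp_apply, hσcl] at h2
        exact h2
      rw [h1]
      exact hxX₀
  refine ⟨hh, ⟨p1, p2, p3, p4⟩, ?_⟩
  rintro h' ⟨q1, -, -, q4⟩
  obtain ⟨Y₀, hY₀, hyY₀⟩ : ∃ Y₀ : Y.Opens, IsAffineOpen Y₀ ∧ yt ∈ Y₀ := by
    obtain ⟨_, ⟨W, hW, rfl⟩, hyW, -⟩ :=
      Y.isBasis_affineOpens.exists_subset_of_mem_open (Set.mem_univ yt) isOpen_univ
    exact ⟨W, hW, hyW⟩
  apply Groth.Agent.H76.DVRThrough.eq_of_common_affine (CommRingCat.ofHom R.subtype)
    Subtype.val_injective Y₀ hY₀ _ _ ?_ ?_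
  · rw [q1, p1]
  · rw [hcl h' q4]; exact hyY₀
  · rw [hcl hh p4]; exact hyY₀

end Groth.Agent.S17898
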