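import Groth.Statements.S17899
import Groth.Agent.Lib.Helper12.SemiVal

set_option autoImplicit false
universe u
open TensorProduct
open CAlg

namespace Groth.Agent.S17899

/-- Let A be a local ring with residue field K, R a valuation ring of K and O ⊆ A the preimage of R
under A → K (so O is a semi-valuation ring with semi-fraction ring A, S = Spec O is glued from U =
Spec A and T = Spec R). Let C be an O-algebra of finite type which is U-admissible (C → A ⊗_O C
injective) and such that A ⊗_O C is flat and of finite presentation over A. Then C is flat and of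
finite presentation over O. (The published assertion is more general: the base may be any
quasi-compact quasi-separated U-admissible scheme over Spec O, and the scheme over it any
quasi-compact quasi-separated admissible scheme. This row is the case of an affine scheme over Spec
O itself, the case in which the published proof carries out its argument.) -/
theorem result
    (A : Type u) [CommRing A] [IsLocalRing A] (R : ValuationSubring (IsLocalRing.ResidueField A))
    (O : Subring A) (hO : O = R.toSubring.comap (IsLocalRing.residue A))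
    (C : Type u) [CommRing C] [Algebra ↥O C] [Algebra.FiniteType ↥O C]
    (hadm : Function.Injective (Algebra.TensorProduct.includeRight : C →ₐ[↥O] A ⊗[↥O] C))
    (hflat : Module.Flat A (A ⊗[↥O] C)) (hfp : Algebra.FinitePresentation A (A ⊗[↥O] C)) :
    Module.Flat ↥O C ∧ Algebra.FinitePresentation ↥O C := by
  classical
  haveI := hflat
  haveI := hfp
  have hmemO : ∀ a : A, a ∈ O ↔ IsLocalRing.residue A a ∈ R := fun a => by rw [hO]; rfl
  have halg : ∀ x : O, algebraMap ↥O A x = (x : A) := fun _ => rfl
  have hinj : Function.Injective (algebraMap ↥O A) := Subtype.val_injective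
  let m : Ideal ↥O := (IsLocalRing.maximalIdeal A).comap (algebraMap ↥O A)
  have hmemm : ∀ x : O, x ∈ m ↔ IsLocalRing.residue A (x : A) = 0 := fun x => by
    change (x : A) ∈ IsLocalRing.maximalIdeal A ↔ _
    rw [IsLocalRing.residue_eq_zero_iff]
  have H2 : ∀ (a : A), ∀ x ∈ m, ∃ y ∈ m, algebraMap ↥O A y = a * algebraMap ↥O A x := by
    intro a x hx
    have h0 : IsLocalRing.residue A (a * (x : A)) = 0 := by
      rw [map_mul, (hmemm x).mp hx, mul_zero]
    have hmem : a * (x : A) ∈ O := by
      rw [hmemO, h0]
      exact R.zero_mem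
    exact ⟨⟨a * (x : A), hmem⟩, (hmemm _).mpr h0, rfl⟩
  have H3 : ∀ s, s ∉ m → IsUnit (algebraMap ↥O A s) := by
    intro s hs
    have : (s : A) ∉ IsLocalRing.maximalIdeal A := hs
    rw [halg]
    exact (IsLocalRing.notMem_maximalIdeal).mp this
  haveI : m.IsPrime := Ideal.comap_isPrime _ _
  haveI : IsDomain (↥O ⧸ m) := Ideal.Quotient.isDomain m
  haveI : ValuationRing (↥O ⧸ m) := by
    refine { cond' := fun a b => ?_ }
    obtain ⟨x, rfl⟩ := Ideal.Quotient.mk_surjective a
    obtain ⟨y, rfl⟩ := Ideal.Quotient.mk_surjective b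
    by_cases hy : IsLocalRing.residue A (y : A) = 0
    · refine ⟨0, Or.inl ?_⟩
      rw [mul_zero]
      exact (Ideal.Quotient.eq_zero_iff_mem.mpr ((hmemm y).mpr hy)).symm
    by_cases hx : IsLocalRing.residue A (x : A) = 0
    · refine ⟨0, Or.inr ?_⟩
      rw [mul_zero]
      exact (Ideal.Quotient.eq_zero_iff_mem.mpr ((hmemm x).mpr hx)).symm
    have key : ∀ (u v : O), IsLocalRing.residue A (u : A) ≠ 0 →
        IsLocalRing.residue A (v : A) * (IsLocalRing.residue A (u : A))⁻¹ ∈ R →
        ∃ c : ↥O ⧸ m, Ideal.Quotient.mk m u * c = Ideal.Quotient.mk m v := by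
      intro u v hu hmem
      obtain ⟨c₀, hc₀⟩ := IsLocalRing.residue_surjective (R := A)
        (IsLocalRing.residue A (v : A) * (IsLocalRing.residue A (u : A))⁻¹)
      have hc₀O : c₀ ∈ O := by rw [hmemO, hc₀]; exact hmem
      refine ⟨Ideal.Quotient.mk m ⟨c₀, hc₀O⟩, ?_⟩
      rw [← map_mul, Ideal.Quotient.eq, hmemm]
      change IsLocalRing.residue A ((u : A) * c₀ - (v : A)) = 0
      rw [map_sub, map_mul, hc₀]
      field_simp
      ring
    rcases R.mem_or_inv_mem (IsLocalRing.residue A (y : A) * (IsLocalRing.residue A (x : A))⁻¹)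
      with h | h
    · obtain ⟨c, hc⟩ := key x y hx h
      exact ⟨c, Or.inl hc⟩
    · rw [mul_inv, inv_inv, mul_comm] at h
      obtain ⟨c, hc⟩ := key y x hy h
      exact ⟨c, Or.inr hc⟩
  have hadm' : Function.Injective (TensorProduct.mk ↥O A C 1) := fun x y h =>
    hadm (show Algebra.TensorProduct.includeRight x = Algebra.TensorProduct.includeRight y from h)
  haveI : Module.Flat ↥O C :=
    Groth.Agent.Lib.Helper12.SemiVal.flat_of_semival hinj m H2 H3 C hadm'
  exact ⟨inferInstance, Groth.Agent.Lib.Helper12.SemiVal.fp_of_semival hinj m H2 C⟩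

end Groth.Agent.S17899
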