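import Groth.Statements.S17900
import Groth.Agent.Lib.Helper89.FlatKer

set_option autoImplicit false
universe u
open TensorProduct
open Pinch

namespace Groth.Agent.S17900

open Groth.Agent.Lib.Helper89 in
/-- Let R be a commutative ring and let B' → B → A, B' → A' → A be a commutative square of R-algebras
which is a fibre square (B' = B ×_A A') with A' → A surjective. If B, A' and A are flat over R then
B' is flat over R. -/
theorem result (R B' B A' A : Type u) [CommRing R] [CommRing B'] [CommRing B] [CommRing A'] [CommRing A]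
    [Algebra B' B] [Algebra B' A'] [Algebra B A] [Algebra A' A] [Algebra B' A]
    [IsScalarTower B' B A] [IsScalarTower B' A' A]
    [Algebra R B'] [Algebra R B] [Algebra R A'] [Algebra R A]
    [IsScalarTower R B' B] [IsScalarTower R B' A'] [IsScalarTower R B' A] [IsScalarTower R B A] [IsScalarTower R A' A]
    (hsq : EtMil.IsFibreSquare B' B A' A)
    [Module.Flat R B] [Module.Flat R A'] [Module.Flat R A] :
    Module.Flat R B' := by
  obtain ⟨hsurj, hfib⟩ := hsq
  haveI : Module.Flat R (B × A') := flat_prod R B A'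
  let i : B' →ₗ[R] B × A' :=
    LinearMap.prod (IsScalarTower.toAlgHom R B' B).toLinearMap (IsScalarTower.toAlgHom R B' A').toLinearMap
  let p : B × A' →ₗ[R] A :=
    (IsScalarTower.toAlgHom R B A).toLinearMap ∘ₗ LinearMap.fst R B A' -
      (IsScalarTower.toAlgHom R A' A).toLinearMap ∘ₗ LinearMap.snd R B A'
  have hi_apply : ∀ x : B', i x = (algebraMap B' B x, algebraMap B' A' x) := fun x => rfl
  have hp_apply : ∀ y : B × A', p y = algebraMap B A y.1 - algebraMap A' A y.2 := fun y => rfl
  have hcompat : ∀ x : B', algebraMap B A (algebraMap B' B x) = algebraMap A' A (algebraMap B' A' x) := by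
    intro x
    rw [← IsScalarTower.algebraMap_apply, ← IsScalarTower.algebraMap_apply]
  apply flat_of_exact_of_flat R B' (B × A') A i p
  · intro x y hxy
    rw [hi_apply, hi_apply, Prod.mk.injEq] at hxy
    obtain ⟨z, _, hz⟩ := hfib (algebraMap B' B x) (algebraMap B' A' x) (hcompat x)
    rw [hz x ⟨rfl, rfl⟩, hz y ⟨hxy.1.symm, hxy.2.symm⟩]
  · intro a
    obtain ⟨a', ha'⟩ := hsurj a
    refine ⟨(0, -a'), ?_⟩
    rw [hp_apply]
    simp [ha']
  · intro y
    constructor
    · intro hy
      rw [hp_apply, sub_eq_zero] at hy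
      obtain ⟨z, ⟨hz1, hz2⟩, _⟩ := hfib y.1 y.2 hy
      exact ⟨z, by rw [hi_apply, hz1, hz2]⟩
    · rintro ⟨x, rfl⟩
      rw [hp_apply, hi_apply, sub_eq_zero]
      exact hcompat x

end Groth.Agent.S17900
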