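import Groth.Statements.S17901
import Groth.Agent.Lib.Helper89.FlatKer

set_option autoImplicit false
universe u
open TensorProduct
open Pinch

namespace Groth.Agent.S17901

theorem map_id_eq_lTensor (R R' S T : Type u) [CommRing R] [CommRing R'] [Algebra R R']
    [CommRing S] [Algebra R S] [CommRing T] [Algebra R T] (φ : S →ₐ[R] T) (z : R' ⊗[R] S) :
    Algebra.TensorProduct.map (AlgHom.id R R') φ z = φ.toLinearMap.lTensor R' z := by
  induction z using TensorProduct.induction_on with
  | zero => simp
  | tmul a b => simp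
  | add a b ha hb => simp only [map_add, ha, hb]

open Groth.Agent.Lib.Helper89 in
/-- Let R be a commutative ring and let B' → B → A, B' → A' → A be a fibre square of R-algebras (B' = B
×_A A') with A' → A surjective, where B, A' and A are flat over R. Then for every commutative
R-algebra R' the square obtained by applying R' ⊗_R − is again a fibre square: R' ⊗_R A' → R' ⊗_R A
is surjective and every pair of elements of R' ⊗_R B and R' ⊗_R A' with the same image in R' ⊗_R A
is the image of a unique element of R' ⊗_R B'. (The published lemma concludes that the base-changed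
square of spectra is co-cartesian in ringed spaces; this row states the ring form, surjective edge
and fibre product, which its proof establishes before translating it to ringed spaces.) -/
theorem result (R B' B A' A : Type u) [CommRing R] [CommRing B'] [CommRing B] [CommRing A'] [CommRing A]
    [Algebra B' B] [Algebra B' A'] [Algebra B A] [Algebra A' A] [Algebra B' A]
    [IsScalarTower B' B A] [IsScalarTower B' A' A]
    [Algebra R B'] [Algebra R B] [Algebra R A'] [Algebra R A]
    [IsScalarTower R B' B] [IsScalarTower R B' A'] [IsScalarTower R B' A] [IsScalarTower R B A] [IsScalarTower R A' A]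
    (hsq : EtMil.IsFibreSquare B' B A' A)
    [Module.Flat R B] [Module.Flat R A'] [Module.Flat R A]
    (R' : Type u) [CommRing R'] [Algebra R R'] :
    Function.Surjective (Algebra.TensorProduct.map (AlgHom.id R R') (IsScalarTower.toAlgHom R A' A)) ∧
    ∀ (x : R' ⊗[R] B) (y : R' ⊗[R] A'),
      Algebra.TensorProduct.map (AlgHom.id R R') (IsScalarTower.toAlgHom R B A) x =
        Algebra.TensorProduct.map (AlgHom.id R R') (IsScalarTower.toAlgHom R A' A) y →
      ∃! z : R' ⊗[R] B',
        Algebra.TensorProduct.map (AlgHom.id R R') (IsScalarTower.toAlgHom R B' B) z = x ∧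
        Algebra.TensorProduct.map (AlgHom.id R R') (IsScalarTower.toAlgHom R B' A') z = y := by
  obtain ⟨hsurj, hfib⟩ := hsq
  let β : B →ₗ[R] A := (IsScalarTower.toAlgHom R B A).toLinearMap
  let α : A' →ₗ[R] A := (IsScalarTower.toAlgHom R A' A).toLinearMap
  let γ : B' →ₗ[R] B := (IsScalarTower.toAlgHom R B' B).toLinearMap
  let δ : B' →ₗ[R] A' := (IsScalarTower.toAlgHom R B' A').toLinearMap
  let i : B' →ₗ[R] B × A' := LinearMap.prod γ δ
  let p : B × A' →ₗ[R] A := β ∘ₗ LinearMap.fst R B A' - α ∘ₗ LinearMap.snd R B A'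
  have hi_apply : ∀ x : B', i x = (algebraMap B' B x, algebraMap B' A' x) := fun x => rfl
  have hp_apply : ∀ y : B × A', p y = algebraMap B A y.1 - algebraMap A' A y.2 := fun y => rfl
  have hcompat : ∀ x : B', algebraMap B A (algebraMap B' B x) = algebraMap A' A (algebraMap B' A' x) := by
    intro x
    rw [← IsScalarTower.algebraMap_apply, ← IsScalarTower.algebraMap_apply]
  have hi : Function.Injective i := by
    intro x y hxy
    rw [hi_apply, hi_apply, Prod.mk.injEq] at hxy
    obtain ⟨z, _, hz⟩ := hfib (algebraMap B' B x) (algebraMap B' A' x) (hcompat x)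
    rw [hz x ⟨rfl, rfl⟩, hz y ⟨hxy.1.symm, hxy.2.symm⟩]
  have hp : Function.Surjective p := by
    intro a
    obtain ⟨a', ha'⟩ := hsurj a
    refine ⟨(0, -a'), ?_⟩
    rw [hp_apply]
    simp [ha']
  have hex : Function.Exact i p := by
    intro y
    constructor
    · intro hy
      rw [hp_apply, sub_eq_zero] at hy
      obtain ⟨z, ⟨hz1, hz2⟩, _⟩ := hfib y.1 y.2 hy
      exact ⟨z, by rw [hi_apply, hz1, hz2]⟩
    · rintro ⟨x, rfl⟩
      rw [hp_apply, hi_apply, sub_eq_zero]
      exact hcompat x
  have hinj : Function.Injective (i.lTensor R') :=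
    LinearMap.lTensor_injective_of_exact_of_flat p hp i hi hex R'
  have hexT : Function.Exact (i.lTensor R') (p.lTensor R') := lTensor_exact R' hex hp
  -- decomposition in R' ⊗ (B × A')
  have hdecomp : ∀ t : R' ⊗[R] (B × A'),
      t = (LinearMap.inl R B A').lTensor R' ((LinearMap.fst R B A').lTensor R' t) +
        (LinearMap.inr R B A').lTensor R' ((LinearMap.snd R B A').lTensor R' t) := by
    intro t
    rw [← LinearMap.comp_apply, ← LinearMap.comp_apply, ← LinearMap.lTensor_comp,
      ← LinearMap.lTensor_comp, ← LinearMap.add_apply, ← LinearMap.lTensor_add]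
    have : LinearMap.inl R B A' ∘ₗ LinearMap.fst R B A' + LinearMap.inr R B A' ∘ₗ LinearMap.snd R B A' =
        LinearMap.id := by
      ext x <;> simp
    rw [this, LinearMap.lTensor_id, LinearMap.id_apply]
  have hfst_i : ∀ z, (LinearMap.fst R B A').lTensor R' (i.lTensor R' z) = γ.lTensor R' z := by
    intro z
    rw [← LinearMap.comp_apply, ← LinearMap.lTensor_comp]
    rfl
  have hsnd_i : ∀ z, (LinearMap.snd R B A').lTensor R' (i.lTensor R' z) = δ.lTensor R' z := by
    intro z
    rw [← LinearMap.comp_apply, ← LinearMap.lTensor_comp]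
    rfl
  refine ⟨?_, ?_⟩
  · have : Function.Surjective (α.lTensor R') := LinearMap.lTensor_surjective R' hsurj
    intro a
    obtain ⟨b, hb⟩ := this a
    exact ⟨b, by rw [map_id_eq_lTensor]; exact hb⟩
  · intro x y hxy
    rw [map_id_eq_lTensor, map_id_eq_lTensor] at hxy
    change β.lTensor R' x = α.lTensor R' y at hxy
    set w : R' ⊗[R] (B × A') := (LinearMap.inl R B A').lTensor R' x + (LinearMap.inr R B A').lTensor R' y
      with hw
    have hpw : p.lTensor R' w = 0 := by
      rw [hw, map_add, ← LinearMap.comp_apply, ← LinearMap.comp_apply, ← LinearMap.lTensor_comp,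
        ← LinearMap.lTensor_comp]
      have e1 : p ∘ₗ LinearMap.inl R B A' = β := by
        ext b; simp [p]
      have e2 : p ∘ₗ LinearMap.inr R B A' = -α := by
        ext a; simp [p]
      rw [e1, e2, LinearMap.lTensor_neg, LinearMap.neg_apply, hxy, add_neg_cancel]
    obtain ⟨z, hz⟩ := (hexT w).1 hpw
    have hzx : γ.lTensor R' z = x := by
      rw [← hfst_i, hz, hw, map_add, ← LinearMap.comp_apply, ← LinearMap.comp_apply,
        ← LinearMap.lTensor_comp, ← LinearMap.lTensor_comp]
      have e1 : LinearMap.fst R B A' ∘ₗ LinearMap.inl R B A' = LinearMap.id := by ext; simp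
      have e2 : LinearMap.fst R B A' ∘ₗ LinearMap.inr R B A' = 0 := by ext; simp
      rw [e1, e2, LinearMap.lTensor_id, LinearMap.lTensor_zero]
      simp
    have hzy : δ.lTensor R' z = y := by
      rw [← hsnd_i, hz, hw, map_add, ← LinearMap.comp_apply, ← LinearMap.comp_apply,
        ← LinearMap.lTensor_comp, ← LinearMap.lTensor_comp]
      have e1 : LinearMap.snd R B A' ∘ₗ LinearMap.inl R B A' = 0 := by ext; simp
      have e2 : LinearMap.snd R B A' ∘ₗ LinearMap.inr R B A' = LinearMap.id := by ext; simp
      rw [e1, e2, LinearMap.lTensor_id, LinearMap.lTensor_zero]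
      simp
    refine ⟨z, ⟨?_, ?_⟩, ?_⟩
    · rw [map_id_eq_lTensor]; exact hzx
    · rw [map_id_eq_lTensor]; exact hzy
    · rintro z' ⟨hz'1, hz'2⟩
      rw [map_id_eq_lTensor] at hz'1 hz'2
      apply hinj
      rw [hdecomp (i.lTensor R' z'), hdecomp (i.lTensor R' z), hfst_i, hsnd_i, hfst_i, hsnd_i]
      change (LinearMap.inl R B A').lTensor R' (γ.lTensor R' z') +
        (LinearMap.inr R B A').lTensor R' (δ.lTensor R' z') = _
      rw [hz'1, hz'2, hzx, hzy]

end Groth.Agent.S17901
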