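import Groth.Statements.S17903
import Groth.Agent.Lib.Helper61.SheafedPushout
import Groth.Agent.Lib.Helper89.FlatKer
import Mathlib.AlgebraicGeometry.Morphisms.Flat
import Mathlib.AlgebraicGeometry.Morphisms.ClosedImmersion

set_option autoImplicit false
universe u
open CategoryTheory AlgebraicGeometry
open Pinch

namespace Groth.Agent.S17903

/-- Let S be a scheme and Z → X, Z → Z', X → X', Z' → X' a commutative square of S-schemes in which Z →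
X and Z' → X' are closed immersions and Z → Z' and X → X' are affine, and which is a pushout square
in the category of ringed spaces. If X, Z and Z' are flat over S then X' is flat over S. -/
theorem result {S X Z Z' X' : Scheme.{u}}
    (fX : X ⟶ S) (fZ' : Z' ⟶ S) (fX' : X' ⟶ S) (ι : Z ⟶ X) (q : Z ⟶ Z') (π : X ⟶ X') (ι' : Z' ⟶ X')
    [IsClosedImmersion ι] [IsClosedImmersion ι'] [IsAffineHom q] [IsAffineHom π]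
    (hq : q ≫ fZ' = ι ≫ fX) (hπ : π ≫ fX' = fX) (hι' : ι' ≫ fX' = fZ')
    (hpo : IsPushout ((Scheme.forgetToLocallyRingedSpace ⋙ LocallyRingedSpace.forgetToSheafedSpace).map ι) ((Scheme.forgetToLocallyRingedSpace ⋙ LocallyRingedSpace.forgetToSheafedSpace).map q)
      ((Scheme.forgetToLocallyRingedSpace ⋙ LocallyRingedSpace.forgetToSheafedSpace).map π) ((Scheme.forgetToLocallyRingedSpace ⋙ LocallyRingedSpace.forgetToSheafedSpace).map ι'))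
    [Flat fX] [Flat (ι ≫ fX)] [Flat fZ'] :
    Flat fX' := by
  subst hπ hι'
  rw [HasRingHomProperty.iff_appLE (P := @Flat)]
  intro V U' e
  have hU' : IsAffineOpen U'.1 := U'.2
  have hV : IsAffineOpen V.1 := V.2
  have hUX : IsAffineOpen (π ⁻¹ᵁ U'.1) := hU'.preimage π
  have hUZ' : IsAffineOpen (ι' ⁻¹ᵁ U'.1) := hU'.preimage ι'
  have hUZ : IsAffineOpen (ι ⁻¹ᵁ (π ⁻¹ᵁ U'.1)) := hUX.preimage ι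
  have hw : ι ≫ π = q ≫ ι' := by
    apply (Scheme.forgetToLocallyRingedSpace ⋙ LocallyRingedSpace.forgetToSheafedSpace).map_injective
    rw [Functor.map_comp, Functor.map_comp]
    exact hpo.w
  have eX : π ⁻¹ᵁ U'.1 ≤ (π ≫ fX') ⁻¹ᵁ V.1 := fun x hx => e hx
  have eZ' : ι' ⁻¹ᵁ U'.1 ≤ (ι' ≫ fX') ⁻¹ᵁ V.1 := fun x hx => e hx
  have eZ : ι ⁻¹ᵁ (π ⁻¹ᵁ U'.1) ≤ (ι ≫ π ≫ fX') ⁻¹ᵁ V.1 := fun x hx => e hx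
  have eqZ : ι ⁻¹ᵁ (π ⁻¹ᵁ U'.1) ≤ q ⁻¹ᵁ (ι' ⁻¹ᵁ U'.1) := by
    intro x hx
    have h1 : (ι ≫ π) x ∈ U'.1 := hx
    rw [hw] at h1
    exact h1
  have hB : ((π ≫ fX').appLE V.1 (π ⁻¹ᵁ U'.1) eX).hom.Flat :=
    HasRingHomProperty.appLE (P := @Flat) _ inferInstance V ⟨_, hUX⟩ eX
  have hA' : ((ι' ≫ fX').appLE V.1 (ι' ⁻¹ᵁ U'.1) eZ').hom.Flat :=
    HasRingHomProperty.appLE (P := @Flat) _ inferInstance V ⟨_, hUZ'⟩ eZ'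
  have hA : ((ι ≫ π ≫ fX').appLE V.1 (ι ⁻¹ᵁ (π ⁻¹ᵁ U'.1)) eZ).hom.Flat :=
    HasRingHomProperty.appLE (P := @Flat) _ inferInstance V ⟨_, hUZ⟩ eZ
  have hcongr : ∀ {f g : Z ⟶ S} (h : f = g) (W : Z.Opens) (e₁ : W ≤ f ⁻¹ᵁ V.1) (e₂ : W ≤ g ⁻¹ᵁ V.1),
      f.appLE V.1 W e₁ = g.appLE V.1 W e₂ := by
    intro f g h W e₁ e₂
    subst h
    rfl
  have c1 : fX'.appLE V.1 U'.1 e ≫ π.app U'.1 = (π ≫ fX').appLE V.1 (π ⁻¹ᵁ U'.1) eX := by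
    rw [Scheme.Hom.app_eq_appLE, Scheme.Hom.appLE_comp_appLE]
  have c2 : fX'.appLE V.1 U'.1 e ≫ ι'.app U'.1 = (ι' ≫ fX').appLE V.1 (ι' ⁻¹ᵁ U'.1) eZ' := by
    rw [Scheme.Hom.app_eq_appLE, Scheme.Hom.appLE_comp_appLE]
  have c3 : (π ≫ fX').appLE V.1 (π ⁻¹ᵁ U'.1) eX ≫ ι.app (π ⁻¹ᵁ U'.1) =
      (ι ≫ π ≫ fX').appLE V.1 (ι ⁻¹ᵁ (π ⁻¹ᵁ U'.1)) eZ := by
    rw [Scheme.Hom.app_eq_appLE, Scheme.Hom.appLE_comp_appLE]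
  have c4 : (ι' ≫ fX').appLE V.1 (ι' ⁻¹ᵁ U'.1) eZ' ≫
      q.appLE (ι' ⁻¹ᵁ U'.1) (ι ⁻¹ᵁ (π ⁻¹ᵁ U'.1)) eqZ =
      (ι ≫ π ≫ fX').appLE V.1 (ι ⁻¹ᵁ (π ⁻¹ᵁ U'.1)) eZ := by
    rw [Scheme.Hom.appLE_comp_appLE]
    exact hcongr hq _ _ _
  let algD : Algebra Γ(S, V.1) Γ(X', U'.1) := (fX'.appLE V.1 U'.1 e).hom.toAlgebra
  let algB : Algebra Γ(S, V.1) Γ(X, π ⁻¹ᵁ U'.1) :=
    ((π ≫ fX').appLE V.1 (π ⁻¹ᵁ U'.1) eX).hom.toAlgebra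
  let algA' : Algebra Γ(S, V.1) Γ(Z', ι' ⁻¹ᵁ U'.1) :=
    ((ι' ≫ fX').appLE V.1 (ι' ⁻¹ᵁ U'.1) eZ').hom.toAlgebra
  let algA : Algebra Γ(S, V.1) Γ(Z, ι ⁻¹ᵁ (π ⁻¹ᵁ U'.1)) :=
    ((ι ≫ π ≫ fX').appLE V.1 (ι ⁻¹ᵁ (π ⁻¹ᵁ U'.1)) eZ).hom.toAlgebra
  have : Module.Flat Γ(S, V.1) Γ(X, π ⁻¹ᵁ U'.1) := hB
  have : Module.Flat Γ(S, V.1) Γ(Z', ι' ⁻¹ᵁ U'.1) := hA'
  have : Module.Flat Γ(S, V.1) Γ(Z, ι ⁻¹ᵁ (π ⁻¹ᵁ U'.1)) := hA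
  let φB : Γ(X', U'.1) →ₐ[Γ(S, V.1)] Γ(X, π ⁻¹ᵁ U'.1) :=
    { (π.app U'.1).hom with
      commutes' := fun r => congrArg (fun g => g.hom r) c1 }
  let φA' : Γ(X', U'.1) →ₐ[Γ(S, V.1)] Γ(Z', ι' ⁻¹ᵁ U'.1) :=
    { (ι'.app U'.1).hom with
      commutes' := fun r => congrArg (fun g => g.hom r) c2 }
  let ψB : Γ(X, π ⁻¹ᵁ U'.1) →ₐ[Γ(S, V.1)] Γ(Z, ι ⁻¹ᵁ (π ⁻¹ᵁ U'.1)) :=
    { (ι.app (π ⁻¹ᵁ U'.1)).hom with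
      commutes' := fun r => congrArg (fun g => g.hom r) c3 }
  let ψA' : Γ(Z', ι' ⁻¹ᵁ U'.1) →ₐ[Γ(S, V.1)] Γ(Z, ι ⁻¹ᵁ (π ⁻¹ᵁ U'.1)) :=
    { (q.appLE (ι' ⁻¹ᵁ U'.1) (ι ⁻¹ᵁ (π ⁻¹ᵁ U'.1)) eqZ).hom with
      commutes' := fun r => congrArg (fun g => g.hom r) c4 }
  have : Module.Flat Γ(S, V.1) (Γ(X, π ⁻¹ᵁ U'.1) × Γ(Z', ι' ⁻¹ᵁ U'.1)) :=
    Groth.Agent.Lib.Helper89.flat_prod _ _ _
  let i : Γ(X', U'.1) →ₗ[Γ(S, V.1)] Γ(X, π ⁻¹ᵁ U'.1) × Γ(Z', ι' ⁻¹ᵁ U'.1) :=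
    LinearMap.prod φB.toLinearMap φA'.toLinearMap
  let p : Γ(X, π ⁻¹ᵁ U'.1) × Γ(Z', ι' ⁻¹ᵁ U'.1) →ₗ[Γ(S, V.1)] Γ(Z, ι ⁻¹ᵁ (π ⁻¹ᵁ U'.1)) :=
    ψB.toLinearMap ∘ₗ LinearMap.fst _ _ _ - ψA'.toLinearMap ∘ₗ LinearMap.snd _ _ _
  change Module.Flat Γ(S, V.1) Γ(X', U'.1)
  refine Groth.Agent.Lib.Helper89.flat_of_exact_of_flat Γ(S, V.1) Γ(X', U'.1)
    (Γ(X, π ⁻¹ᵁ U'.1) × Γ(Z', ι' ⁻¹ᵁ U'.1)) Γ(Z, ι ⁻¹ᵁ (π ⁻¹ᵁ U'.1)) i p ?_ ?_ ?_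
  · intro s t hst
    have h1 : π.app U'.1 s = π.app U'.1 t := congrArg Prod.fst hst
    have h2 : ι'.app U'.1 s = ι'.app U'.1 t := congrArg Prod.snd hst
    exact Groth.Agent.Lib.Helper61.SheafedPushout.sections_ext hpo U'.1 s t h1 h2
  · intro a
    obtain ⟨b, hb⟩ := ι.app_surjective (π ⁻¹ᵁ U'.1) hUX a
    refine ⟨(b, 0), ?_⟩
    change ψB b - ψA' 0 = a
    rw [map_zero, sub_zero]
    exact hb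
  · intro y
    obtain ⟨a, b⟩ := y
    have hp : p (a, b) = ι.app (π ⁻¹ᵁ U'.1) a -
        q.appLE (ι' ⁻¹ᵁ U'.1) (ι ⁻¹ᵁ (π ⁻¹ᵁ U'.1)) eqZ b := rfl
    constructor
    · intro h0
      rw [hp, sub_eq_zero] at h0
      have hab : ι.app (π ⁻¹ᵁ U'.1) a = Z.presheaf.map (eqToHom (congrArg Opposite.op
          (Groth.Agent.Lib.Helper61.SheafedPushout.opens_eq hpo U'.1))) (q.app (ι' ⁻¹ᵁ U'.1) b) := by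
        rw [h0]
        exact congrArg (fun m => (Z.presheaf.map m).hom (q.app (ι' ⁻¹ᵁ U'.1) b))
          (Subsingleton.elim _ _)
      obtain ⟨s, hs1, hs2⟩ :=
        Groth.Agent.Lib.Helper61.SheafedPushout.sections_glue hpo U'.1 a b hab
      exact ⟨s, Prod.ext hs1 hs2⟩
    · rintro ⟨s, hs⟩
      have h1 : π.app U'.1 s = a := congrArg Prod.fst hs
      have h2 : ι'.app U'.1 s = b := congrArg Prod.snd hs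
      rw [hp, ← h1, ← h2, sub_eq_zero]
      have hcongr' : ∀ {f g : Z ⟶ X'} (h : f = g) (W : Z.Opens) (e₁ : W ≤ f ⁻¹ᵁ U'.1)
          (e₂ : W ≤ g ⁻¹ᵁ U'.1), f.appLE U'.1 W e₁ = g.appLE U'.1 W e₂ := by
        intro f g h W e₁ e₂
        subst h
        rfl
      have e3 : π.app U'.1 ≫ ι.app (π ⁻¹ᵁ U'.1) =
          ι'.app U'.1 ≫ q.appLE (ι' ⁻¹ᵁ U'.1) (ι ⁻¹ᵁ (π ⁻¹ᵁ U'.1)) eqZ := by
        have r1 : ι'.app U'.1 ≫ q.appLE (ι' ⁻¹ᵁ U'.1) (ι ⁻¹ᵁ (π ⁻¹ᵁ U'.1)) eqZ =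
            (q ≫ ι').appLE U'.1 (ι ⁻¹ᵁ (π ⁻¹ᵁ U'.1)) eqZ :=
          (Scheme.Hom.comp_appLE q ι' U'.1 _ eqZ).symm
        have r2 : π.app U'.1 ≫ ι.app (π ⁻¹ᵁ U'.1) =
            (ι ≫ π).appLE U'.1 (ι ⁻¹ᵁ (π ⁻¹ᵁ U'.1)) le_rfl := by
          rw [← Scheme.Hom.comp_app, Scheme.Hom.app_eq_appLE]
          rfl
        rw [r1, r2]
        exact hcongr' hw _ _ _
      exact congrArg (fun g => g.hom s) e3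

end Groth.Agent.S17903
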