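import Mathlib
import Groth.Statements.S17910
import Groth.Agent.Lib.Helper96.SymTensorCoeff

set_option autoImplicit false
universe u
open scoped TensorProduct
open SymTen

namespace Groth.Agent.S17910


open Helper96.SymTensorCoeff in
/-- polarization: `p + p∘swap` lies in the alternating span. -/
theorem tprod_add_swap_mem {R : Type u} [CommRing R] {P : Type u} [AddCommGroup P] [Module R P]
    {d : ℕ} (p : Fin d → P) (i j : Fin d) (hij : i ≠ j) :
    PiTensorProduct.tprod R p + PiTensorProduct.tprod R (p ∘ Equiv.swap i j) ∈
      SymTen.altSpan R P d := by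
  classical
  set s := p i + p j with hs
  have hgen : ∀ q : Fin d → P, q i = q j → PiTensorProduct.tprod R q ∈ SymTen.altSpan R P d :=
    fun q hq => Submodule.subset_span ⟨q, i, j, hij, hq, rfl⟩
  have key : ∀ a b v : P, PiTensorProduct.tprod R (Function.update (Function.update p i (a + b)) j v) =
      PiTensorProduct.tprod R (Function.update (Function.update p i a) j v) +
      PiTensorProduct.tprod R (Function.update (Function.update p i b) j v) := by
    intro a b v
    rw [Function.update_comm hij (a + b) v p, Function.update_comm hij a v p,
      Function.update_comm hij b v p]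
    exact MultilinearMap.map_update_add _ _ _ _ _
  have e1 : PiTensorProduct.tprod R (Function.update (Function.update p i s) j s) =
      PiTensorProduct.tprod R (Function.update (Function.update p i (p i)) j (p i)) +
      PiTensorProduct.tprod R (Function.update (Function.update p i (p i)) j (p j)) +
      (PiTensorProduct.tprod R (Function.update (Function.update p i (p j)) j (p i)) +
      PiTensorProduct.tprod R (Function.update (Function.update p i (p j)) j (p j))) := by
    have h1 : PiTensorProduct.tprod R (Function.update (Function.update p i s) j s) =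
        PiTensorProduct.tprod R (Function.update (Function.update p i s) j (p i)) +
        PiTensorProduct.tprod R (Function.update (Function.update p i s) j (p j)) := by
      conv_lhs => rw [hs]
      rw [← hs]
      exact MultilinearMap.map_update_add _ _ _ _ _
    rw [h1, hs, key, key]
    abel
  have e2 : Function.update (Function.update p i (p i)) j (p j) = p := by
    simp
  have e3 : Function.update (Function.update p i (p j)) j (p i) = p ∘ Equiv.swap i j := by
    funext l
    by_cases hlj : l = j
    · subst hlj; simp
    · by_cases hli : l = i
      · subst hli; simp [Function.update_of_ne hlj]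
      · simp [Function.update_of_ne hlj, Function.update_of_ne hli, Equiv.swap_apply_of_ne_of_ne hli hlj]
  rw [e2, e3] at e1
  have h0 := hgen (Function.update (Function.update p i s) j s) (by
    simp [Function.update_of_ne hij])
  have h1 := hgen (Function.update (Function.update p i (p i)) j (p i)) (by
    simp [Function.update_of_ne hij])
  have h4 := hgen (Function.update (Function.update p i (p j)) j (p j)) (by
    simp [Function.update_of_ne hij])
  have : PiTensorProduct.tprod R p + PiTensorProduct.tprod R (p ∘ Equiv.swap i j) =
      PiTensorProduct.tprod R (Function.update (Function.update p i s) j s) -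
      PiTensorProduct.tprod R (Function.update (Function.update p i (p i)) j (p i)) -
      PiTensorProduct.tprod R (Function.update (Function.update p i (p j)) j (p j)) := by
    rw [e1]; abel
  rw [this]
  exact Submodule.sub_mem _ (Submodule.sub_mem _ h0 h1) h4

open Helper96.SymTensorCoeff in
/-- free case: a tensor fixed by a transposition lies in the alternating span. -/
theorem mem_altSpan_of_swap_fixed_free {R : Type u} [CommRing R] {F : Type u} [AddCommGroup F]
    [Module R F] {m d : ℕ} (b : Module.Basis (Fin m) R F) (i j : Fin d) (hij : i ≠ j)
    (y : ⨂[R] _ : Fin d, F)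
    (hy : PiTensorProduct.reindex R (fun _ : Fin d => F) (Equiv.swap i j) y = y) :
    y ∈ SymTen.altSpan R F d := by
  classical
  set τ := Equiv.swap i j with hτ
  set c := (tBasis b d).repr y with hc
  have hc_inv : ∀ K : Fin d → Fin m, c (K ∘ τ) = c K := by
    intro K
    rw [hc, ← repr_reindex, hy]
  have hsum : y = ∑ K : Fin d → Fin m, c K • tBasis b d K := ((tBasis b d).sum_repr y).symm
  -- the involution on index functions
  let e : (Fin d → Fin m) ≃ (Fin d → Fin m) :=
    ⟨fun K => K ∘ τ, fun K => K ∘ τ, fun K => by funext l; simp [hτ], fun K => by funext l; simp [hτ]⟩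
  have hτi : τ i = j := by simp [hτ]
  have hτj : τ j = i := by simp [hτ]
  have hsplit : y = ∑ K ∈ Finset.univ.filter (fun K : Fin d → Fin m => K i = K j), c K • tBasis b d K
      + ∑ K ∈ Finset.univ.filter (fun K : Fin d → Fin m => K i < K j),
          c K • (tBasis b d K + tBasis b d (K ∘ τ)) := by
    have h3 : ∑ K ∈ Finset.univ.filter (fun K : Fin d → Fin m => K j < K i), c K • tBasis b d K =
        ∑ K ∈ Finset.univ.filter (fun K : Fin d → Fin m => K i < K j),
          c K • tBasis b d (K ∘ τ) := by
      refine Finset.sum_equiv e ?_ ?_
      · intro K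
        simp only [Finset.mem_filter, Finset.mem_univ, true_and]
        show K j < K i ↔ (K ∘ τ) i < (K ∘ τ) j
        simp [hτi, hτj]
      · intro K _
        show c K • tBasis b d K = c (K ∘ τ) • tBasis b d ((K ∘ τ) ∘ τ)
        rw [hc_inv]
        congr 2
        funext l
        simp [hτ]
    conv_lhs => rw [hsum]
    rw [← Finset.sum_filter_add_sum_filter_not Finset.univ (fun K : Fin d → Fin m => K i = K j)]
    congr 1
    rw [← Finset.sum_filter_add_sum_filter_not
      (Finset.univ.filter (fun K : Fin d → Fin m => ¬ K i = K j)) (fun K : Fin d → Fin m => K i < K j)]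
    rw [Finset.filter_filter, Finset.filter_filter]
    have f1 : Finset.univ.filter (fun K : Fin d → Fin m => ¬ K i = K j ∧ K i < K j) =
        Finset.univ.filter (fun K : Fin d → Fin m => K i < K j) := by
      ext K
      simp only [Finset.mem_filter, Finset.mem_univ, true_and]
      constructor
      · exact fun h => h.2
      · exact fun h => ⟨ne_of_lt h, h⟩
    have f2 : Finset.univ.filter (fun K : Fin d → Fin m => ¬ K i = K j ∧ ¬ K i < K j) =
        Finset.univ.filter (fun K : Fin d → Fin m => K j < K i) := by
      ext K
      simp only [Finset.mem_filter, Finset.mem_univ, true_and]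
      constructor
      · rintro ⟨h1, h2⟩
        exact lt_of_le_of_ne (not_lt.mp h2) (Ne.symm h1)
      · intro h
        exact ⟨ne_of_gt h, not_lt.mpr h.le⟩
    rw [f1, f2, h3, ← Finset.sum_add_distrib]
    refine Finset.sum_congr rfl ?_
    intro K _
    rw [smul_add]
  rw [hsplit]
  refine Submodule.add_mem _ (Submodule.sum_mem _ ?_) (Submodule.sum_mem _ ?_)
  · intro K hK
    simp only [Finset.mem_filter, Finset.mem_univ, true_and] at hK
    refine Submodule.smul_mem _ _ ?_
    rw [tBasis_apply]
    exact Submodule.subset_span ⟨fun l => b (K l), i, j, hij, by simp only [hK], rfl⟩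
  · intro K _
    refine Submodule.smul_mem _ _ ?_
    rw [tBasis_apply, tBasis_apply]
    exact tprod_add_swap_mem (fun l => b (K l)) i j hij

/-- `map f` sends the alternating span into the alternating span. -/
theorem map_mem_altSpan {R : Type u} [CommRing R] {P Q : Type u} [AddCommGroup P] [Module R P]
    [AddCommGroup Q] [Module R Q] {d : ℕ} (f : P →ₗ[R] Q) (x : ⨂[R] _ : Fin d, P)
    (hx : x ∈ SymTen.altSpan R P d) :
    PiTensorProduct.map (fun _ : Fin d => f) x ∈ SymTen.altSpan R Q d := by
  induction hx using Submodule.span_induction with
  | mem x hx =>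
    obtain ⟨p, i, j, hij, hp, rfl⟩ := hx
    rw [PiTensorProduct.map_tprod]
    exact Submodule.subset_span ⟨fun l => f (p l), i, j, hij, by simp only [hp], rfl⟩
  | zero => rw [map_zero]; exact Submodule.zero_mem _
  | add x y _ _ hx hy => rw [map_add]; exact Submodule.add_mem _ hx hy
  | smul a x _ hx => rw [map_smul]; exact Submodule.smul_mem _ _ hx

/-- projective case. -/
theorem mem_altSpan_of_swap_fixed {R : Type u} [CommRing R] {P : Type u} [AddCommGroup P]
    [Module R P] [Module.Finite R P] [Module.Projective R P] {d : ℕ} (i j : Fin d) (hij : i ≠ j)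
    (y : ⨂[R] _ : Fin d, P)
    (hy : PiTensorProduct.reindex R (fun _ : Fin d => P) (Equiv.swap i j) y = y) :
    y ∈ SymTen.altSpan R P d := by
  obtain ⟨n, f, hf⟩ := Module.Finite.exists_fin' R P
  obtain ⟨g, hg⟩ := Module.projective_lifting_property f LinearMap.id hf
  have h1 : PiTensorProduct.reindex R (fun _ : Fin d => (Fin n → R)) (Equiv.swap i j)
      (PiTensorProduct.map (fun _ : Fin d => g) y) = PiTensorProduct.map (fun _ : Fin d => g) y := by
    have := PiTensorProduct.map_reindex (R := R) (fun _ : Fin d => g) (Equiv.swap i j) y
    rw [← this, hy]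
  have h2 := mem_altSpan_of_swap_fixed_free (Pi.basisFun R (Fin n)) i j hij _ h1
  have h3 := map_mem_altSpan f _ h2
  have h4 : PiTensorProduct.map (fun _ : Fin d => f) (PiTensorProduct.map (fun _ : Fin d => g) y) = y := by
    rw [← LinearMap.comp_apply, ← PiTensorProduct.map_comp]
    simp only [hg]
    rw [PiTensorProduct.map_id]
    rfl
  rwa [h4] at h3

theorem tpowAct_tprod {R : Type u} [CommRing R] {A : Type u} [CommRing A] [Algebra R A]
    {P : Type u} [AddCommGroup P] [Module R P] [Module A P] [IsScalarTower R A P] {d : ℕ}
    (α : Fin d → A) (p : Fin d → P) :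
    SymTen.tpowAct R A P d (PiTensorProduct.tprod R α) (PiTensorProduct.tprod R p) =
      PiTensorProduct.tprod R (fun l => α l • p l) := by
  simp [SymTen.tpowAct, PiTensorProduct.mapMultilinear_apply]

/-- equivariance of the factorwise action. -/
theorem reindex_tpowAct {R : Type u} [CommRing R] {A : Type u} [CommRing A] [Algebra R A]
    {P : Type u} [AddCommGroup P] [Module R P] [Module A P] [IsScalarTower R A P] {d : ℕ}
    (σ : Equiv.Perm (Fin d)) (a : ⨂[R] _ : Fin d, A) (x : ⨂[R] _ : Fin d, P) :
    PiTensorProduct.reindex R (fun _ : Fin d => P) σ (SymTen.tpowAct R A P d a x) =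
      SymTen.tpowAct R A P d (PiTensorProduct.reindex R (fun _ : Fin d => A) σ a)
        (PiTensorProduct.reindex R (fun _ : Fin d => P) σ x) := by
  induction a using PiTensorProduct.induction_on with
  | smul_tprod r α =>
    induction x using PiTensorProduct.induction_on with
    | smul_tprod s p =>
      simp only [map_smul, LinearMap.smul_apply, PiTensorProduct.reindex_tprod, tpowAct_tprod]
    | add x y hx hy =>
      simp only [map_add, hx, hy]
  | add a b ha hb =>
    simp only [map_add, LinearMap.add_apply, ha, hb]

/-- Let R be a commutative ring, A a commutative R-algebra, d ≥ 0, and P an A-module that is finitely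
generated projective (finite locally free) as an R-module. Let the d-fold tensor power of A over R
act on the d-fold tensor power of P over R factor by factor, and let I_d be the R-span of the pure
tensors p_1 ⊗ ⋯ ⊗ p_d with two equal factors p_i = p_j, i ≠ j (the submodule by which the tensor
power is divided to give the d-th exterior power). Then every symmetric tensor a ∈ TS^d_R(A) maps
I_d into itself, so that TS^d_R(A) acts on the d-th exterior power of P over R. -/
theorem result (R : Type u) [CommRing R] (A : Type u) [CommRing A] [Algebra R A]
    (P : Type u) [AddCommGroup P] [Module R P] [Module A P] [IsScalarTower R A P]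
    [Module.Finite R P] [Module.Projective R P] (d : ℕ)
    (a : ⨂[R] _ : Fin d, A) (ha : a ∈ SymTen.TS R A d)
    (x : ⨂[R] _ : Fin d, P) (hx : x ∈ SymTen.altSpan R P d) :
    SymTen.tpowAct R A P d a x ∈ SymTen.altSpan R P d := by
  induction hx using Submodule.span_induction with
  | mem x hx =>
    obtain ⟨p, i, j, hij, hp, rfl⟩ := hx
    apply mem_altSpan_of_swap_fixed i j hij
    rw [reindex_tpowAct, (SymTen.mem_TS_iff R A d a).1 ha, PiTensorProduct.reindex_tprod]
    congr 2
    funext l
    show p ((Equiv.swap i j).symm l) = p l
    rw [Equiv.symm_swap]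
    by_cases hli : l = i
    · subst hli; rw [Equiv.swap_apply_left, hp]
    · by_cases hlj : l = j
      · subst hlj; rw [Equiv.swap_apply_right, hp]
      · rw [Equiv.swap_apply_of_ne_of_ne hli hlj]
  | zero => rw [map_zero]; exact Submodule.zero_mem _
  | add x y _ _ hx hy => rw [map_add]; exact Submodule.add_mem _ hx hy
  | smul r x _ hx => rw [map_smul]; exact Submodule.smul_mem _ _ hx

end Groth.Agent.S17910
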