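import Groth.Statements.S17913
import Groth.Agent.Lib.Helper65.GerbeConj

set_option autoImplicit false
universe u
open CategoryTheory AlgebraicGeometry
open Gerb

namespace Groth.Agent.S17913

/-- Let S be a scheme, 𝒳 and 𝒴 gerbes over the big fppf site of schemes over S, φ : 𝒳 → 𝒴 and ψ : 𝒴 → 𝒳
functors over Sch_S, and x an object of 𝒳 over S itself such that φ is surjective on automorphism
groups along x: for every object x' of 𝒳 admitting a morphism to x (every pullback of x), every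
automorphism of φ(x') over the identity is φ(α) for some automorphism α of x' over the identity. Let
g : ψ(φ(x)) → x be an isomorphism lying over the identity such that conjugation by g after ψ ∘ φ is
the identity of the automorphism sheaf of x: whenever c : x' → x is a morphism of 𝒳 and g' :
ψ(φ(x')) → x' is the morphism over the identity with ψ(φ(c)) ≫ g = g' ≫ c, every automorphism α of
x' over the identity satisfies ψ(φ(α)) ≫ g' = g' ≫ α. Then φ ∘ ψ is isomorphic to the identity on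
every fibre of 𝒴: there are isomorphisms σ_z : φ(ψ(z)) → z for all objects z of 𝒴, lying over
identities and natural in morphisms lying over identities, so that φ and ψ are mutually
quasi-inverse on every fibre. (The published corollary does not assume that φ is surjective on
automorphism groups; its proof uses that φ is full, and without that hypothesis the conclusion fails
— take for 𝒳 the base category over itself, for 𝒴 the gerbe of torsors under the group of order two,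
for φ the trivial torsor and for ψ the structure functor. The published corollary also concludes
that ψ ∘ φ is isomorphic to the identity on every fibre of 𝒳; that part follows from the hypotheses
on g alone and is stated separately.) -/
theorem result (S : Scheme.{u}) (𝒳 𝒴 : AlgSt.Cat S)
    (h𝒳 : Gerb.IsGerbe (QuotSh.J Scheme.fppfPrecoverage S) 𝒳)
    (h𝒴 : Gerb.IsGerbe (QuotSh.J Scheme.fppfPrecoverage S) 𝒴)
    (φ : 𝒳 ⥤ᵇ 𝒴) (ψ : 𝒴 ⥤ᵇ 𝒳) (x : 𝒳.obj) (hx : 𝒳.p.obj x = Over.mk (𝟙 S))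
    (hφ : ∀ (x' : 𝒳.obj) (c : x' ⟶ x), Function.Surjective (Gerb.autMap φ x'))
    (g : ψ.obj (φ.obj x) ⟶ x) [IsIso g] (hg : 𝒳.p.IsHomLift (𝟙 (𝒳.p.obj x)) g)
    (hconj : ∀ (x' : 𝒳.obj) (c : x' ⟶ x) (g' : ψ.obj (φ.obj x') ⟶ x'), 𝒳.p.IsHomLift (𝟙 (𝒳.p.obj x')) g' →
      ψ.map (φ.map c) ≫ g = g' ≫ c → ∀ α : Gerb.AutO x', ψ.map (φ.map α.hom.1) ≫ g' = g' ≫ α.hom.1) :
    ∃ σ : ∀ z : 𝒴.obj, φ.obj (ψ.obj z) ⟶ z,
      (∀ z, IsIso (σ z) ∧ 𝒴.p.IsHomLift (𝟙 (𝒴.p.obj z)) (σ z)) ∧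
      (∀ (z z' : 𝒴.obj) (f : z ⟶ z'), 𝒴.p.IsHomLift (𝟙 (𝒴.p.obj z)) f →
        φ.map (ψ.map f) ≫ σ z' = σ z ≫ f) := by
  have hs : ∀ T : Over S, Nonempty (T ⟶ 𝒳.p.obj x) := by
    intro T
    rw [hx]
    exact ⟨Over.homMk T.hom⟩
  have hs' : ∀ (T : Over S) (u u' : T ⟶ 𝒳.p.obj x), u = u' := by
    intro T
    rw [hx]
    intro u u'
    apply Over.OverMorphism.ext
    have h1 := Over.w u
    have h2 := Over.w u'
    have h1' : u.left ≫ 𝟙 S = T.hom := h1
    have h2' : u'.left ≫ 𝟙 S = T.hom := h2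
    have e1 : u.left = T.hom := (Category.comp_id _).symm.trans h1'
    have e2 : u'.left = T.hom := (Category.comp_id _).symm.trans h2'
    exact e1.trans e2.symm
  have hconj' : Groth.Agent.Lib.Helper65.GerbeConj.Conj (BasedFunctor.comp φ ψ) x g := by
    intro x' c g' hg' hfac χ hχ
    exact hconj x' c g' hg' hfac (Groth.Agent.Lib.Helper65.GerbeAut.autOfHom h𝒳.1.1 x' χ hχ)
  obtain ⟨ρ, hρ1, hρ2⟩ := Groth.Agent.Lib.Helper65.GerbeConj.exists_fiberwise_iso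
    (QuotSh.J Scheme.fppfPrecoverage S) (BasedFunctor.comp φ ψ) x g hg hs' hconj' h𝒳.1 h𝒳.2.2 hs
  have hinj : Groth.Agent.Lib.Helper65.GerbeLocal.InjBelow φ x := by
    intro x' _ χ hχ hφχ
    have h1 := hρ2 x' x' χ hχ
    have h2 : (BasedFunctor.comp φ ψ).map χ = 𝟙 _ := by
      change ψ.map (φ.map χ) = 𝟙 _
      rw [hφχ]
      exact ψ.toFunctor.map_id _
    rw [h2, Category.id_comp] at h1
    haveI := (hρ1 x').1
    exact (cancel_epi (ρ x')).1 (h1.symm.trans (Category.comp_id _).symm)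
  have hsurj : Groth.Agent.Lib.Helper65.GerbeLocal.SurjBelow φ x :=
    Groth.Agent.Lib.Helper65.GerbeAut.surjBelow_of_autMap φ x h𝒴.1.1 hφ
  obtain ⟨G, -, ⟨ε⟩⟩ := Groth.Agent.Lib.Helper65.GerbeLocal.isEquivOver_of_bijBelow
    (QuotSh.J Scheme.fppfPrecoverage S) φ x h𝒳 h𝒴 hs hinj hsurj
  let ε' : G.toFunctor ⋙ φ.toFunctor ≅ 𝟭 𝒴.obj := (BasedNatTrans.forgetful _ _).mapIso ε
  have hε1 : ∀ z, 𝒴.p.IsHomLift (𝟙 (𝒴.p.obj z)) (ε'.hom.app z) := fun z => ε.hom.isHomLift' z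
  have hε2 : ∀ z, 𝒴.p.IsHomLift (𝟙 (𝒴.p.obj z)) (ε'.inv.app z) := fun z => ε.inv.isHomLift' z
  -- τ z : ψ z ⟶ G z
  let τ : ∀ z : 𝒴.obj, ψ.obj z ⟶ G.obj z := fun z =>
    (ψ.map (ε'.inv.app z) : ψ.obj z ⟶ ψ.obj (φ.obj (G.obj z))) ≫
      (ρ (G.obj z) : ψ.obj (φ.obj (G.obj z)) ⟶ G.obj z)
  have hτiso : ∀ z, IsIso (τ z) := by
    intro z
    have i1 : IsIso (ρ (G.obj z) : ψ.obj (φ.obj (G.obj z)) ⟶ G.obj z) := (hρ1 _).1
    have i2 : IsIso (ψ.map (ε'.inv.app z) : ψ.obj z ⟶ ψ.obj (φ.obj (G.obj z))) :=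
      Functor.map_isIso ψ.toFunctor (ε'.inv.app z)
    exact IsIso.comp_isIso' i2 i1
  have hτlift : ∀ z, 𝒳.p.IsHomLift (𝟙 (𝒴.p.obj z)) (τ z) := by
    intro z
    have h1 : 𝒳.p.IsHomLift (𝟙 (𝒴.p.obj z)) (ψ.map (ε'.inv.app z)) := by
      have := hε2 z
      infer_instance
    have h2 : 𝒳.p.IsHomLift (𝟙 (𝒴.p.obj z)) (ρ (G.obj z)) := by
      have := (hρ1 (G.obj z)).2
      exact Groth.Agent.Lib.Helper65.isHomLift_id_of_eq 𝒳.p (G.w_obj z) (ρ (G.obj z))
    exact Groth.Agent.Lib.Helper65.isHomLift_comp_id_right 𝒳.p _ _ _ h1 h2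
  have hτnat : ∀ (z z' : 𝒴.obj) (f : z ⟶ z'), 𝒴.p.IsHomLift (𝟙 (𝒴.p.obj z)) f →
      ψ.map f ≫ τ z' = τ z ≫ G.map f := by
    intro z z' f hf
    have hGf : 𝒳.p.IsHomLift (𝟙 (𝒳.p.obj (G.obj z))) (G.map f) := by
      have : 𝒳.p.IsHomLift (𝟙 (𝒴.p.obj z)) (G.map f) := inferInstance
      exact Groth.Agent.Lib.Helper65.isHomLift_id_of_eq 𝒳.p (G.w_obj z).symm (G.map f)
    have e1 := hρ2 (G.obj z) (G.obj z') (G.map f) hGf
    have e2 : f ≫ ε'.inv.app z' = ε'.inv.app z ≫ φ.map (G.map f) := ε'.inv.naturality f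
    have e3 : ψ.map f ≫ ψ.map (ε'.inv.app z') = ψ.map (ε'.inv.app z) ≫ ψ.map (φ.map (G.map f)) := by
      rw [← ψ.map_comp, e2, ψ.map_comp]
    change ψ.map f ≫ ψ.map (ε'.inv.app z') ≫ ρ (G.obj z') = (ψ.map (ε'.inv.app z) ≫ ρ (G.obj z)) ≫ G.map f
    rw [← Category.assoc, e3, Category.assoc, Category.assoc]
    congr 1
  refine ⟨fun z => φ.map (τ z) ≫ ε'.hom.app z, fun z => ⟨?_, ?_⟩, ?_⟩
  · have i1 := hτiso z
    have i2 : IsIso (φ.map (τ z)) := Functor.map_isIso φ.toFunctor (τ z)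
    exact IsIso.comp_isIso' i2 inferInstance
  · have h1 : 𝒴.p.IsHomLift (𝟙 (𝒴.p.obj z)) (φ.map (τ z)) := by
      have := hτlift z
      infer_instance
    exact Groth.Agent.Lib.Helper65.isHomLift_comp_id_right 𝒴.p _ _ _ h1 (hε1 z)
  · intro z z' f hf
    have e4 : φ.map (G.map f) ≫ ε'.hom.app z' = ε'.hom.app z ≫ f := ε'.hom.naturality f
    change φ.map (ψ.map f) ≫ φ.map (τ z') ≫ ε'.hom.app z' = (φ.map (τ z) ≫ ε'.hom.app z) ≫ f
    rw [← Category.assoc, ← φ.map_comp, hτnat z z' f hf, φ.map_comp, Category.assoc, e4, Category.assoc]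

end Groth.Agent.S17913
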