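import Groth.Statements.S17914
-- import your own Groth.Agent.* helpers here
import Mathlib.RingTheory.Norm.Basic

set_option autoImplicit false
universe u
open scoped TensorProduct
open PolLaw

namespace Groth.Agent.S17914

section BC
variable {R : Type u} [CommRing R] {Q : Type u} [CommRing Q] [Algebra R Q]
  {X : Type u} [AddCommGroup X] [Module R X]
  {Y : Type u} [AddCommGroup Y] [Module R Y] [Module Q Y] [IsScalarTower R Q Y]

theorem bcAlong_tmul (g : X →ₗ[R] Y) (P : Type u) [CommRing P] [Algebra R P] [Algebra Q P]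
    [IsScalarTower R Q P] (p : P) (x : X) :
    PolLaw.bcAlong g P (p ⊗ₜ[R] x) = p ⊗ₜ[Q] g x := by
  unfold PolLaw.bcAlong
  simp

end BC

section Norm

variable {R R' Q Q' : Type u} [CommRing R] [CommRing R'] [Algebra R R']
    [CommRing Q] [Algebra R Q] [CommRing Q'] [Algebra R Q'] [Algebra Q Q'] [Algebra R' Q']
    [IsScalarTower R Q Q'] [IsScalarTower R R' Q'] [Algebra.IsPushout R R' Q Q']

/-- the `P`-algebra isomorphism `P ⊗[R] R' ≃ P ⊗[Q] Q'`. -/
noncomputable def bcEquiv (P : Type u) [CommRing P] [Algebra R P] [Algebra Q P]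
    [IsScalarTower R Q P] : P ⊗[R] R' ≃ₐ[P] P ⊗[Q] Q' :=
  haveI : Algebra.IsPushout R Q R' Q' := Algebra.IsPushout.symm inferInstance
  (Algebra.TensorProduct.cancelBaseChange R Q P P R').symm.trans
    (Algebra.TensorProduct.congr (AlgEquiv.refl : P ≃ₐ[P] P) (Algebra.IsPushout.equiv R Q R' Q'))

theorem bcEquiv_apply (P : Type u) [CommRing P] [Algebra R P] [Algebra Q P]
    [IsScalarTower R Q P] (z : P ⊗[R] R') :
    bcEquiv (Q := Q) (Q' := Q') P z =
      PolLaw.bcAlong (IsScalarTower.toAlgHom R R' Q').toLinearMap P z := by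
  induction z using TensorProduct.induction_on with
  | zero => simp
  | add a b ha hb => rw [map_add, map_add, ha, hb]
  | tmul p r =>
    rw [bcAlong_tmul (Q := Q)]
    unfold bcEquiv
    simp [Algebra.IsPushout.equiv_tmul]

theorem norm_bcAlong (P : Type u) [CommRing P] [Algebra R P] [Algebra Q P]
    [IsScalarTower R Q P] (z : P ⊗[R] R') :
    Algebra.norm P (PolLaw.bcAlong (Q := Q) (IsScalarTower.toAlgHom R R' Q').toLinearMap P z) =
      Algebra.norm P z := by
  rw [← bcEquiv_apply (Q := Q)]
  exact Algebra.norm_eq_of_algEquiv _ z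


theorem norm_map_include [Module.Free R R'] [Module.Finite R R'] (S : Type u) [CommSemiring S]
    [Algebra R S] (P : Type u) [CommRing P] [Algebra R P] (ι : S →ₐ[R] P) (x : S ⊗[R] R') :
    Algebra.norm P (Algebra.TensorProduct.map ι (AlgHom.id R R') x) =
      ι (Algebra.TensorProduct.lid R S (PolLaw.detAct R' (R ⊗[R] S) (PolLaw.toRing R R' S x))) := by
  let ψ : R ⊗[R] S →ₐ[R] P := ι.comp (Algebra.TensorProduct.lid R S).toAlgHom
  have h2 : ∀ x : S ⊗[R] R',
      Algebra.TensorProduct.map ψ (AlgHom.id R R') (PolLaw.toRing R R' S x) =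
      Algebra.TensorProduct.map ι (AlgHom.id R R') x := by
    intro x
    induction x using TensorProduct.induction_on with
    | zero => simp
    | add a b ha hb => rw [map_add, map_add, map_add, ha, hb]
    | tmul s b => simp [ψ, Algebra.TensorProduct.map_tmul, Algebra.TensorProduct.lid_symm_apply]
  have h1 := PolLaw.detAct_map R' ψ (PolLaw.toRing R R' S x)
  rw [h2, PolLaw.detAct_self] at h1
  exact h1

end Norm

/-- Affine-free form, stated through universal properties. Let R → R' be a commutative algebra that is
free of rank d as an R-module, Q a commutative R-algebra, and Q' a commutative ring under Q and R'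
which is their pushout over R and is free of rank d over Q. Let (C, γ) be the degree-d divided power
algebra of R' over R with its universal multiplicative law (hypothesis: every multiplicative law of
degree d out of R' factors uniquely through γ) and π : C → R the R-algebra map with π ∘ γ = the norm
law of R' over R; let (C', γ', π') be the analogous data for Q' over Q. Let θ : C → C' be an
R-algebra homomorphism compatible with the two universal laws over every commutative Q-algebra P:
γ'_P applied to the image of z ∈ P ⊗_R R' in P ⊗_Q Q' equals (p ⊗ c ↦ p ⊗ θ c) applied to γ_P(z) (so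
θ is the base-change homomorphism of divided power algebras). Then π' (θ c) is the image in Q of π c
for every c ∈ C: the algebra map attached to the norm commutes with base change. (The published
lemma is for a finite locally free extension of constant rank and states the commutativity of each
of three squares; this row assumes R' free over R and states the commutativity of the composite.) -/
theorem result {R R' Q Q' : Type u} [CommRing R] [CommRing R'] [Algebra R R']
    [CommRing Q] [Algebra R Q] [CommRing Q'] [Algebra R Q'] [Algebra Q Q'] [Algebra R' Q']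
    [IsScalarTower R Q Q'] [IsScalarTower R R' Q'] [Algebra.IsPushout R R' Q Q']
    [Module.Free R R'] [Module.Finite R R'] [Module.Free Q Q'] [Module.Finite Q Q']
    (d : ℕ) (hd : Module.finrank R R' = d) (hd' : Module.finrank Q Q' = d)
    {C : Type u} [CommRing C] [Algebra R C] (γ : PolLaw.MulLaw R R' C d) (hγ : PolLaw.IsGammaD γ)
    (π : C →ₐ[R] R) (hπ : PolLaw.MulLaw.postcomp π γ = PolLaw.normLaw R R' d hd)
    {C' : Type u} [CommRing C'] [Algebra R C'] [Algebra Q C'] [IsScalarTower R Q C']
    (γ' : PolLaw.MulLaw Q Q' C' d) (hγ' : PolLaw.IsGammaD γ')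
    (π' : C' →ₐ[Q] Q) (hπ' : PolLaw.MulLaw.postcomp π' γ' = PolLaw.normLaw Q Q' d hd')
    (θ : C →ₐ[R] C')
    (hθ : ∀ (P : Type u) [CommRing P] [Algebra R P] [Algebra Q P] [IsScalarTower R Q P] (z : P ⊗[R] R'),
      γ'.law.toFun' P (PolLaw.bcAlong (IsScalarTower.toAlgHom R R' Q').toLinearMap P z) =
        PolLaw.bcAlong θ.toLinearMap P (γ.law.toFun' P z)) :
    ∀ c : C, π' (θ c) = algebraMap R Q (π c) := by
  classical
  let f₁ : C →ₐ[R] Q := (π'.restrictScalars R).comp θ
  let f₂ : C →ₐ[R] Q := (Algebra.ofId R Q).comp π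
  suffices h : f₁ = f₂ by
    intro c
    exact DFunLike.congr_fun h c
  obtain ⟨f, -, huniq⟩ := hγ Q (PolLaw.MulLaw.postcomp f₂ γ)
  have e2 : f₂ = f := huniq f₂ rfl
  have e1 : f₁ = f := by
    apply huniq f₁
    change PolLaw.postcomp f₁.toLinearMap γ.law = PolLaw.postcomp f₂.toLinearMap γ.law
    apply PolynomialLaw.ext
    funext S _ _ x
    change f₁.toLinearMap.lTensor S (γ.law.toFun' S x) = f₂.toLinearMap.lTensor S (γ.law.toFun' S x)
    set g := γ.law.toFun' S x with hg
    set ν : S := Algebra.TensorProduct.lid R S (PolLaw.detAct R' (R ⊗[R] S) (PolLaw.toRing R R' S x))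
      with hν
    -- the right-hand side
    have hπx : π.toLinearMap.lTensor S g = ν ⊗ₜ[R] (1 : R) := by
      have := congrArg (fun L : PolLaw.MulLaw R R' R d => L.law.toFun' S x) hπ
      exact this
    have hrhs : f₂.toLinearMap.lTensor S g = ν ⊗ₜ[R] (1 : Q) := by
      have h0 : f₂.toLinearMap = (Algebra.ofId R Q).toLinearMap ∘ₗ π.toLinearMap := rfl
      rw [h0, LinearMap.lTensor_comp_apply, hπx, LinearMap.lTensor_tmul]
      simp
    rw [hrhs]
    -- the test algebra
    let P := Q ⊗[R] S
    let ι : S →ₐ[R] P := Algebra.TensorProduct.includeRight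
    let κ : S ⊗[R] Q →ₗ[R] P ⊗[Q] Q :=
      (PolLaw.bcAlong (Q := Q) (LinearMap.id : Q →ₗ[R] Q) P).restrictScalars R ∘ₗ
        ι.toLinearMap.rTensor Q
    have hκ : ∀ (s : S) (q : Q), κ (s ⊗ₜ[R] q) = (ι s) ⊗ₜ[Q] q := by
      intro s q
      change PolLaw.bcAlong (Q := Q) (LinearMap.id : Q →ₗ[R] Q) P
        (ι.toLinearMap.rTensor Q (s ⊗ₜ[R] q)) = _
      rw [LinearMap.rTensor_tmul, bcAlong_tmul (Q := Q)]
      rfl
    have hκinj : Function.Injective κ := by
      have hcomm : ∀ t : S ⊗[R] Q, TensorProduct.rid Q P (κ t) = TensorProduct.comm R S Q t := by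
        intro t
        induction t using TensorProduct.induction_on with
        | zero => simp
        | add a b ha hb => rw [map_add, map_add, map_add, ha, hb]
        | tmul s q =>
          rw [hκ, TensorProduct.rid_tmul, TensorProduct.comm_tmul]
          change q • ((1 : Q) ⊗ₜ[R] s) = q ⊗ₜ[R] s
          rw [TensorProduct.smul_tmul', smul_eq_mul, mul_one]
      intro t t' htt
      apply (TensorProduct.comm R S Q).injective
      rw [← hcomm, ← hcomm, htt]
    apply hκinj
    rw [hκ]
    -- the left-hand side
    have hΛ : ∀ t : S ⊗[R] C, κ (f₁.toLinearMap.lTensor S t) =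
        π'.toLinearMap.lTensor P (PolLaw.bcAlong (Q := Q) θ.toLinearMap P
          (ι.toLinearMap.rTensor C t)) := by
      intro t
      induction t using TensorProduct.induction_on with
      | zero => simp
      | add a b ha hb => simp only [map_add, ha, hb]
      | tmul s c =>
        rw [LinearMap.lTensor_tmul, hκ, LinearMap.rTensor_tmul, bcAlong_tmul (Q := Q),
          LinearMap.lTensor_tmul]
        rfl
    rw [hΛ, hg, PolynomialLaw.isCompat_apply', ← hθ P]
    have h1 : π'.toLinearMap.lTensor P (γ'.law.toFun' P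
        (PolLaw.bcAlong (Q := Q) (IsScalarTower.toAlgHom R R' Q').toLinearMap P
          (ι.toLinearMap.rTensor R' x))) =
        (PolLaw.normLaw Q Q' d hd').law.toFun' P
          (PolLaw.bcAlong (Q := Q) (IsScalarTower.toAlgHom R R' Q').toLinearMap P
            (ι.toLinearMap.rTensor R' x)) := by
      have := congrArg (fun L : PolLaw.MulLaw Q Q' Q d => L.law.toFun' P
        (PolLaw.bcAlong (Q := Q) (IsScalarTower.toAlgHom R R' Q').toLinearMap P
            (ι.toLinearMap.rTensor R' x))) hπ'
      exact this
    rw [h1, PolLaw.normLaw_apply, norm_bcAlong, PolLaw.rTensor_algHom_apply, norm_map_include]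
  rw [e1, e2]

end Groth.Agent.S17914
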