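import Groth.Statements.S17933
import Groth.Agent.Lib.Helper89.MultCrvRank
import Mathlib.LinearAlgebra.FreeModule.PID

set_option autoImplicit false
universe u
open MultCrv

namespace Groth.Agent.S17933

open Groth.Agent.Lib.Helper89 in
/-- Let R be a discrete valuation ring, n ≥ 1, A = R[X]/(X^n) with z the class of X, and M a finitely
generated A-module. Then M is torsion-free as an R-module if and only if the submodule M^(1) of
elements killed by z is a free R-module. (This is the statement at a closed point of the sheaf
statement: for a primitive multiple curve of multiplicity n the local ring at a closed point is of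
the form R[X]/(X^n) with R the local ring of the reduced smooth curve, torsion-freeness is the
absence of sections with finite support, and local freeness on the reduced curve is freeness of the
stalk; the row is stated for every discrete valuation ring R.) -/
theorem result (R : Type u) [CommRing R] [IsDomain R] [IsDiscreteValuationRing R] (n : ℕ) (hn : 1 ≤ n) (M : Type u) [AddCommGroup M] [Module (MultCrv.Rn R n) M] [Module R M] [IsScalarTower R (MultCrv.Rn R n) M] [Module.Finite (MultCrv.Rn R n) M] : Module.IsTorsionFree R M ↔ Module.Free R ↥(MultCrv.filt2 R n M 1) := by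
  have hfin : Module.Finite R M := multCrv_finite_over_base R n M
  have hnoeth : IsNoetherian R M := isNoetherian_of_isNoetherianRing_of_finite R M
  have hfin2 : Module.Finite R ↥(MultCrv.filt2 R n M 1) :=
    Module.Finite.of_injective ((MultCrv.filt2 R n M 1).subtype.restrictScalars R)
      (MultCrv.filt2 R n M 1).injective_subtype
  constructor
  · intro htf
    have : Module.IsTorsionFree R ↥(MultCrv.filt2 R n M 1) :=
      Function.Injective.moduleIsTorsionFree (MultCrv.filt2 R n M 1).subtype
        (MultCrv.filt2 R n M 1).injective_subtype (fun _ _ => rfl)
    exact Module.free_of_finite_type_torsion_free'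
  · intro hfree
    have htf1 : Module.IsTorsionFree R ↥(MultCrv.filt2 R n M 1) := inferInstance
    rw [Module.isTorsionFree_iff_smul_eq_zero]
    intro r m hrm
    by_contra hcon
    push_neg at hcon
    obtain ⟨hr, hm⟩ := hcon
    obtain ⟨k, hk1, hk2⟩ := multCrv_exists_top_pow R n m hm
    have hu : MultCrv.z R n ^ k • m ∈ MultCrv.filt2 R n M 1 := by
      rw [multCrv_mem_filt2_iff R n, smul_smul, ← pow_add, add_comm]
      exact hk2
    have h0 : r • (⟨MultCrv.z R n ^ k • m, hu⟩ : ↥(MultCrv.filt2 R n M 1)) = 0 := by
      apply Subtype.ext
      show r • (MultCrv.z R n ^ k • m) = 0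
      rw [smul_comm, hrm, smul_zero]
    rcases (Module.isTorsionFree_iff_smul_eq_zero.1 htf1) r _ h0 with h1 | h1
    · exact hr h1
    · exact hk1 (congrArg Subtype.val h1)

end Groth.Agent.S17933
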