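import Groth.Statements.S17935
-- import your own Groth.Agent.* helpers here
import Groth.Agent.Lib.Helper89.MultCrvExt
import Mathlib.LinearAlgebra.Dual.Lemmas
import Mathlib.LinearAlgebra.FreeModule.Finite.Basic

set_option autoImplicit false
universe u
open MultCrv

namespace Groth.Agent.S17935

open Groth.Agent.Lib.Helper89 in
/-- Let R be a discrete valuation ring, n ≥ 1, A = R[X]/(X^n), and M a finitely generated A-module. Then
M is reflexive over A (the evaluation map into the double A-dual is bijective) if and only if M is
torsion-free as an R-module. (Statement at a closed point of the sheaf statement on a primitive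
multiple curve of multiplicity n, whose local rings are of the form R[X]/(X^n) with R the local ring
of the reduced smooth curve, torsion-freeness of a coherent sheaf there meaning no nonzero subsheaf
with finite support; stated for every discrete valuation ring R.) -/
theorem result (R : Type u) [CommRing R] [IsDomain R] [IsDiscreteValuationRing R] (n : ℕ) (hn : 1 ≤ n) (M : Type u) [AddCommGroup M] [Module (MultCrv.Rn R n) M] [Module R M] [IsScalarTower R (MultCrv.Rn R n) M] [Module.Finite (MultCrv.Rn R n) M] : Module.IsReflexive (MultCrv.Rn R n) M ↔ Module.IsTorsionFree R M := by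
  constructor
  · intro hrefl
    rw [Module.isTorsionFree_iff_smul_eq_zero]
    intro r m hrm
    by_cases hr : r = 0
    · exact Or.inl hr
    right
    apply (Module.bijective_dual_eval (MultCrv.Rn R n) M).1
    rw [map_zero]
    ext φ
    change φ m = 0
    have h1 : r • φ m = 0 := by
      have h0 := (φ.restrictScalars R).map_smul r m
      rw [hrm, map_zero] at h0
      exact h0.symm
    exact (smul_eq_zero.1 h1).resolve_left hr
  · intro htf
    have hfin : Module.Finite R M := multCrv_finite_over_base R n M
    have hfree : Module.Free R M := Module.free_of_finite_type_torsion_free'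
    have hreflR : Module.IsReflexive R M := inferInstance
    refine ⟨⟨?_, ?_⟩⟩
    · rw [injective_iff_map_eq_zero]
      intro m hm
      apply (Module.bijective_dual_eval R M).1
      rw [map_zero]
      ext μ
      change μ m = 0
      have h1 : multCrvFrob R n μ m = 0 := LinearMap.congr_fun hm (multCrvFrob R n μ)
      rw [← multCrvEps_frob R n hn μ m, h1, map_zero]
    · intro ξ
      let Ξ : Module.Dual R (Module.Dual R M) :=
        { toFun := fun μ => multCrvEps R n (ξ (multCrvFrob R n μ))
          map_add' := fun μ μ' => by rw [multCrvFrob_add, map_add, map_add]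
          map_smul' := fun r μ => by
            have h1 : multCrvFrob R n (r • μ) =
                (algebraMap R (MultCrv.Rn R n) r) • multCrvFrob R n μ := by
              ext m
              rw [multCrvFrob_smul_apply, LinearMap.smul_apply, smul_eq_mul]
              exact Algebra.smul_def r (multCrvFrob R n μ m)
            rw [h1, map_smul, smul_eq_mul, RingHom.id_apply]
            have h2 : (algebraMap R (MultCrv.Rn R n) r) * ξ (multCrvFrob R n μ) =
                r • ξ (multCrvFrob R n μ) := (Algebra.smul_def r _).symm
            rw [h2, map_smul] }
      obtain ⟨m, hm⟩ := (Module.bijective_dual_eval R M).2 Ξ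
      refine ⟨m, ?_⟩
      ext φ
      change φ m = ξ φ
      rw [← multCrv_sum_eps R n hn (φ m), ← multCrv_sum_eps R n hn (ξ φ)]
      refine Finset.sum_congr rfl fun k _ => ?_
      congr 1
      have h1 : (MultCrv.z R n) ^ (n - 1 - k) * ξ φ = ξ ((MultCrv.z R n) ^ (n - 1 - k) • φ) := by
        rw [map_smul, smul_eq_mul]
      have h2 := multCrvFrob_eps_comp R n hn ((MultCrv.z R n) ^ (n - 1 - k) • φ)
      have h3 : (multCrvEps R n ∘ₗ (((MultCrv.z R n) ^ (n - 1 - k) • φ).restrictScalars R)) m =
          Ξ (multCrvEps R n ∘ₗ (((MultCrv.z R n) ^ (n - 1 - k) • φ).restrictScalars R)) :=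
        LinearMap.congr_fun hm
          (multCrvEps R n ∘ₗ (((MultCrv.z R n) ^ (n - 1 - k) • φ).restrictScalars R))
      change _ = multCrvEps R n (ξ (multCrvFrob R n _)) at h3
      rw [h2] at h3
      rw [h1, ← h3]
      rfl

end Groth.Agent.S17935
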