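import Groth.Statements.S17941
-- import your own Groth.Agent.* helpers here
import Groth.Agent.Lib.Helper89.MultCrvFrob
import Mathlib.LinearAlgebra.FreeModule.PID
import Mathlib.Algebra.Exact.Basic
import Mathlib.Algebra.Module.Projective

set_option autoImplicit false
universe u
open MultCrv

namespace Groth.Agent.S17941

open Groth.Agent.Lib.Helper89 in
/-- Let R be a discrete valuation ring, n ≥ 1, A = R[X]/(X^n), and 0 → M' → M → M'' → 0 a short exact
sequence of finitely generated A-modules with M and M'' torsion-free as R-modules (so M' is as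
well). Then the A-dual sequence 0 → Hom_A(M'', A) → Hom_A(M, A) → Hom_A(M', A) → 0 is exact; the
content is that every A-linear form on M' extends to M, i.e. restriction of forms along M' → M is
surjective. (Statement at a closed point of the sheaf statement on a primitive multiple curve of
multiplicity n, whose local rings are of the form R[X]/(X^n) with R the local ring of the reduced
smooth curve; stated for every discrete valuation ring R.) -/
theorem result (R : Type u) [CommRing R] [IsDomain R] [IsDiscreteValuationRing R] (n : ℕ) (hn : 1 ≤ n) (M' M M'' : Type u) [AddCommGroup M'] [Module (MultCrv.Rn R n) M'] [AddCommGroup M] [Module (MultCrv.Rn R n) M] [Module R M] [IsScalarTower R (MultCrv.Rn R n) M] [Module.Finite (MultCrv.Rn R n) M] [Module.IsTorsionFree R M] [AddCommGroup M''] [Module (MultCrv.Rn R n) M''] [Module R M''] [IsScalarTower R (MultCrv.Rn R n) M''] [Module.Finite (MultCrv.Rn R n) M''] [Module.IsTorsionFree R M''] (f : M' →ₗ[MultCrv.Rn R n] M) (g : M →ₗ[MultCrv.Rn R n] M'') (hf : Function.Injective f) (hg : Function.Surjective g) (hfg : LinearMap.range f = LinearMap.ker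 g) : Function.Surjective (f.dualMap : Module.Dual (MultCrv.Rn R n) M →ₗ[MultCrv.Rn R n] Module.Dual (MultCrv.Rn R n) M') := by
  classical
  intro φ
  let _ : Module R M' := Module.compHom M' (algebraMap R (MultCrv.Rn R n))
  have _ : IsScalarTower R (MultCrv.Rn R n) M' := ⟨fun r a m => by
    change (r • a) • m = (algebraMap R (MultCrv.Rn R n) r) • (a • m)
    rw [← mul_smul]
    exact congrArg (· • m) (Algebra.smul_def r a)⟩
  have key := (multCrv_dualMap_surjective_iff R n hn f).2 ?_ φ
  · obtain ⟨ψ, hψ⟩ := key
    exact ⟨ψ, hψ⟩
  · intro μ'
    have hfin : Module.Finite R M'' := multCrv_finite_over_base R n M''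
    have hfree : Module.Free R M'' := Module.free_of_finite_type_torsion_free'
    have hex : Function.Exact (f.restrictScalars R) (g.restrictScalars R) := by
      intro y
      change g y = 0 ↔ y ∈ Set.range f
      rw [← LinearMap.mem_ker, ← hfg]
      rfl
    obtain ⟨s, hs⟩ := Module.projective_lifting_property (g.restrictScalars R) LinearMap.id hg
    have hf' : Function.Injective (f.restrictScalars R) := hf
    obtain ⟨-, l, hl⟩ := ((hex.split_tfae').out 0 1 rfl rfl).mp ⟨hf', s, hs⟩
    refine ⟨μ' ∘ₗ l, ?_⟩
    rw [LinearMap.comp_assoc, hl, LinearMap.comp_id]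

end Groth.Agent.S17941
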