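import Groth.Statements.S17943
import Groth.Agent.Lib.Helper89.MultCrvRank

set_option autoImplicit false
universe u
open MultCrv

namespace Groth.Agent.S17943

open Groth.Agent.Lib.Helper89 in
/-- Let R be a discrete valuation ring, n ≥ 1, A = R[X]/(X^n) with z the class of X, and M a finitely
generated A-module. For 0 ≤ i < n the R-modules G^(i+1)(M) = M^(i+1)/M^(i) (M^(j) the elements
killed by z^j) and G_i(M) = z^i M/z^(i+1) M have the same rank over R. (Statement at a closed point
of the sheaf statement on a primitive multiple curve of multiplicity n with local rings R[X]/(X^n),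
where the rank of a coherent sheaf on the reduced smooth curve is its generic rank, here the rank
over R of the stalk; the equality of degrees that the published statement gives together with this
rank equality is a statement on the global curve and is not part of this row; stated for every
discrete valuation ring R.) -/
theorem result (R : Type u) [CommRing R] [IsDomain R] [IsDiscreteValuationRing R] (n : ℕ) (hn : 1 ≤ n) (M : Type u) [AddCommGroup M] [Module (MultCrv.Rn R n) M] [Module R M] [IsScalarTower R (MultCrv.Rn R n) M] [Module.Finite (MultCrv.Rn R n) M] (i : ℕ) (hi : i < n) : Module.finrank R (MultCrv.G2 R n M (i + 1)) = Module.finrank R (MultCrv.G1 R n M i) := by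
  have hfin : Module.Finite R M := multCrv_finite_over_base R n M
  have hnoeth : IsNoetherian R M := isNoetherian_of_isNoetherianRing_of_finite R M
  -- finiteness of the submodules over R
  have hfin2 : ∀ j, Module.Finite R ↥(MultCrv.filt2 R n M j) := fun j =>
    Module.Finite.of_injective ((MultCrv.filt2 R n M j).subtype.restrictScalars R)
      (MultCrv.filt2 R n M j).injective_subtype
  have hfin1 : ∀ j, Module.Finite R ↥(MultCrv.filt R n M j) := fun j =>
    Module.Finite.of_injective ((MultCrv.filt R n M j).subtype.restrictScalars R)
      (MultCrv.filt R n M j).injective_subtype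
  have hG2 : Module.finrank R (MultCrv.G2 R n M (i + 1)) =
      Module.finrank R ↥(MultCrv.filt2 R n M (i + 1)) - Module.finrank R ↥(MultCrv.filt2 R n M i) := by
    haveI := hfin2 (i + 1)
    unfold MultCrv.G2
    rw [Submodule.finrank_quotient]
    congr 1
    apply LinearEquiv.finrank_eq
    exact (Submodule.comapSubtypeEquivOfLe (multCrv_filt2_mono R n M (Nat.le_succ i))).restrictScalars R
  have hG1 : Module.finrank R (MultCrv.G1 R n M i) =
      Module.finrank R ↥(MultCrv.filt R n M i) - Module.finrank R ↥(MultCrv.filt R n M (i + 1)) := by
    haveI := hfin1 i
    unfold MultCrv.G1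
    rw [Submodule.finrank_quotient]
    congr 1
    apply LinearEquiv.finrank_eq
    exact (Submodule.comapSubtypeEquivOfLe (multCrv_filt_anti R n M (Nat.le_succ i))).restrictScalars R
  have e1 := multCrv_finrank_filt2_add_filt R n M i
  have e2 := multCrv_finrank_filt2_add_filt R n M (i + 1)
  rw [hG2, hG1]
  omega

end Groth.Agent.S17943
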