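import Groth.Statements.S17944
import Groth.Agent.Lib.Helper89.MultCrvFree

set_option autoImplicit false
universe u v w
open MultCrv

namespace Groth.Agent.S17944

open Groth.Agent.Lib.Helper89

/-- converse of `quot_torsionFree_of_saturated` -/
theorem saturated_of_quot_torsionFree (R : Type u) (A : Type v) (M : Type w) [CommRing R] [IsDomain R]
    [CommRing A] [AddCommGroup M] [Module A M] [Module R M] [SMul R A] [IsScalarTower R A M]
    (q : Submodule A M) [Module.IsTorsionFree R (M ⧸ q)] (r : R) (u : M) (hr : r ≠ 0)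
    (h : r • u ∈ q) : u ∈ q := by
  rw [← Submodule.Quotient.mk_eq_zero] at h ⊢
  rw [Submodule.Quotient.mk_smul] at h
  rcases (Module.isTorsionFree_iff_smul_eq_zero.1 inferInstance) r _ h with h2 | h2
  · exact absurd h2 hr
  · exact h2

section
variable (R : Type u) [CommRing R] (n : ℕ) (M : Type u) [AddCommGroup M] [Module (MultCrv.Rn R n) M]

/-- elementwise form of torsion-freeness of `G1 i` with respect to the scalar `ρ` -/
def S1 (ρ : MultCrv.Rn R n) (i : ℕ) : Prop :=
  ∀ y : M, (∃ w : M, ρ • (MultCrv.z R n ^ i • y) = MultCrv.z R n ^ (i + 1) • w) →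
    ∃ w : M, MultCrv.z R n ^ i • y = MultCrv.z R n ^ (i + 1) • w

/-- elementwise form of torsion-freeness of `Gam2 i` with respect to the scalar `ρ` -/
def S2 (ρ : MultCrv.Rn R n) (i : ℕ) : Prop :=
  ∀ y : M, MultCrv.z R n ^ (i + 1) • y = 0 →
    (∃ w : M, MultCrv.z R n ^ (i + 2) • w = 0 ∧ MultCrv.z R n ^ i • (ρ • y - MultCrv.z R n • w) = 0) →
    ∃ w : M, MultCrv.z R n ^ (i + 2) • w = 0 ∧ MultCrv.z R n ^ i • (y - MultCrv.z R n • w) = 0

theorem S2_of_S1 (ρ : MultCrv.Rn R n) (i : ℕ) (h : S1 R n M ρ i) : S2 R n M ρ i := by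
  intro y hy ⟨w, hw1, hw2⟩
  have h1 : ρ • (MultCrv.z R n ^ i • y) = MultCrv.z R n ^ (i + 1) • w := by
    linear_combination (norm := module) hw2
  obtain ⟨w', hw'⟩ := h y ⟨w, h1⟩
  refine ⟨w', ?_, ?_⟩
  · linear_combination (norm := module) hy - (MultCrv.z R n) • hw'
  · linear_combination (norm := module) hw'

theorem S1_of_S2 (ρ : MultCrv.Rn R n) (h : ∀ i, i < n → S2 R n M ρ i) : ∀ i, S1 R n M ρ i := by
  have key : ∀ d i, n - i ≤ d → S1 R n M ρ i := by
    intro d
    induction d with
    | zero =>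
      intro i hi y _
      have hni : n ≤ i := by omega
      refine ⟨0, ?_⟩
      rw [multCrv_z_pow_eq_zero_of_le R n hni, smul_zero]
      exact zero_smul (MultCrv.Rn R n) y
    | succ d ih =>
      intro i hi
      by_cases hin : n ≤ i
      · exact ih i (by omega)
      have hS1 : S1 R n M ρ (i + 1) := ih (i + 1) (by omega)
      have hS2 : S2 R n M ρ i := h i (by omega)
      intro y ⟨w, hw⟩
      have h1 : ρ • (MultCrv.z R n ^ (i + 1) • y) = MultCrv.z R n ^ (i + 1 + 1) • w := by
        linear_combination (norm := module) (MultCrv.z R n) • hw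
      obtain ⟨v, hv⟩ := hS1 y ⟨w, h1⟩
      have hy' : MultCrv.z R n ^ (i + 1) • (y - MultCrv.z R n • v) = 0 := by
        linear_combination (norm := module) hv
      have hw' : MultCrv.z R n ^ i • (ρ • (y - MultCrv.z R n • v) - MultCrv.z R n • (w - ρ • v)) = 0 := by
        linear_combination (norm := module) hw
      have hw'2 : MultCrv.z R n ^ (i + 2) • (w - ρ • v) = 0 := by
        linear_combination (norm := module) ρ • hy' - (MultCrv.z R n) • hw'
      obtain ⟨w'', hw''1, hw''2⟩ := hS2 (y - MultCrv.z R n • v) hy' ⟨w - ρ • v, hw'2, hw'⟩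
      refine ⟨w'' + v, ?_⟩
      linear_combination (norm := module) hw''2
  intro i
  exact key (n - i) i le_rfl

theorem mem_range_lamG2_iff (i : ℕ) (y : M) (hy : y ∈ MultCrv.filt2 R n M (i + 1)) :
    (Submodule.Quotient.mk ⟨y, hy⟩ : MultCrv.G2 R n M (i + 1)) ∈ LinearMap.range (MultCrv.lamG2 R n M i) ↔
      ∃ w : M, MultCrv.z R n ^ (i + 2) • w = 0 ∧ MultCrv.z R n ^ i • (y - MultCrv.z R n • w) = 0 := by
  constructor
  · rintro ⟨h, hh⟩
    obtain ⟨⟨w, hw⟩, rfl⟩ := Submodule.mkQ_surjective _ h
    rw [Submodule.mkQ_apply] at hh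
    unfold MultCrv.lamG2 at hh
    rw [Submodule.mapQ_apply, Submodule.Quotient.eq, Submodule.mem_comap] at hh
    rw [multCrv_mem_filt2_iff R n] at hh hw
    refine ⟨w, hw, ?_⟩
    have e : ((MultCrv.filt2 R n M (i + 1)).subtype
        ((MultCrv.zDown R n M (i + 1)) ⟨w, (multCrv_mem_filt2_iff R n _ _).2 hw⟩ - ⟨y, hy⟩)) =
        MultCrv.z R n • w - y := rfl
    rw [e] at hh
    have e2 : i + 1 - 1 = i := by omega
    rw [e2] at hh
    linear_combination (norm := module) -hh
  · rintro ⟨w, hw1, hw2⟩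
    have hw : w ∈ MultCrv.filt2 R n M (i + 2) := (multCrv_mem_filt2_iff R n _ _).2 hw1
    refine ⟨Submodule.Quotient.mk ⟨w, hw⟩, ?_⟩
    unfold MultCrv.lamG2
    rw [Submodule.mapQ_apply, Submodule.Quotient.eq, Submodule.mem_comap]
    rw [multCrv_mem_filt2_iff R n]
    have e : ((MultCrv.filt2 R n M (i + 1)).subtype
        ((MultCrv.zDown R n M (i + 1)) ⟨w, hw⟩ - ⟨y, hy⟩)) =
        MultCrv.z R n • w - y := rfl
    rw [e]
    have e2 : i + 1 - 1 = i := by omega
    rw [e2]
    linear_combination (norm := module) -hw2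

variable [Module R M] [IsScalarTower R (MultCrv.Rn R n) M] [IsDomain R]

theorem T1_mpr (i : ℕ) (h : ∀ r : R, r ≠ 0 → S1 R n M (algebraMap R (MultCrv.Rn R n) r) i) :
    Module.IsTorsionFree R (MultCrv.G1 R n M i) := by
  unfold MultCrv.G1
  apply quot_torsionFree_of_saturated
  rintro r ⟨x, hx⟩ hr hru
  rw [Submodule.mem_comap, multCrv_mem_filt_iff R n] at hru ⊢
  rw [multCrv_mem_filt_iff R n] at hx
  obtain ⟨y, rfl⟩ := hx
  obtain ⟨w, hw⟩ := hru
  have := h r hr y ⟨w, by
    rw [algebraMap_smul]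
    exact hw.symm⟩
  obtain ⟨w', hw'⟩ := this
  exact ⟨w', hw'.symm⟩

theorem T1_mp (i : ℕ) (h : Module.IsTorsionFree R (MultCrv.G1 R n M i)) (r : R) (hr : r ≠ 0) :
    S1 R n M (algebraMap R (MultCrv.Rn R n) r) i := by
  intro y ⟨w, hw⟩
  unfold MultCrv.G1 at h
  have hx : MultCrv.z R n ^ i • y ∈ MultCrv.filt R n M i := (multCrv_mem_filt_iff R n i _).2 ⟨y, rfl⟩
  have := saturated_of_quot_torsionFree R (MultCrv.Rn R n) ↥(MultCrv.filt R n M i)
    (Submodule.comap (MultCrv.filt R n M i).subtype (MultCrv.filt R n M (i + 1))) r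
    ⟨MultCrv.z R n ^ i • y, hx⟩ hr (by
      rw [Submodule.mem_comap, multCrv_mem_filt_iff R n]
      refine ⟨w, ?_⟩
      rw [← hw, algebraMap_smul]
      rfl)
  rw [Submodule.mem_comap, multCrv_mem_filt_iff R n] at this
  obtain ⟨w', hw'⟩ := this
  exact ⟨w', hw'.symm⟩

theorem T2_mpr (i : ℕ) (h : ∀ r : R, r ≠ 0 → S2 R n M (algebraMap R (MultCrv.Rn R n) r) i) :
    Module.IsTorsionFree R (MultCrv.Gam2 R n M i) := by
  unfold MultCrv.Gam2
  apply quot_torsionFree_of_saturated
  intro r g hr hrg
  obtain ⟨⟨y, hy⟩, rfl⟩ := Submodule.mkQ_surjective _ g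
  rw [Submodule.mkQ_apply] at hrg ⊢
  rw [← Submodule.Quotient.mk_smul] at hrg
  have e : r • (⟨y, hy⟩ : ↥(MultCrv.filt2 R n M (i + 1))) =
      ⟨r • y, (MultCrv.filt2 R n M (i + 1)).smul_of_tower_mem r hy⟩ := rfl
  rw [e, mem_range_lamG2_iff] at hrg
  rw [mem_range_lamG2_iff]
  rw [← algebraMap_smul (MultCrv.Rn R n) r y] at hrg
  exact h r hr y ((multCrv_mem_filt2_iff R n _ _).1 hy) hrg

theorem T2_mp (i : ℕ) (h : Module.IsTorsionFree R (MultCrv.Gam2 R n M i)) (r : R) (hr : r ≠ 0) :
    S2 R n M (algebraMap R (MultCrv.Rn R n) r) i := by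
  intro y hy hw
  unfold MultCrv.Gam2 at h
  have hy' : y ∈ MultCrv.filt2 R n M (i + 1) := (multCrv_mem_filt2_iff R n _ _).2 hy
  have := saturated_of_quot_torsionFree R (MultCrv.Rn R n) (MultCrv.G2 R n M (i + 1))
    (LinearMap.range (MultCrv.lamG2 R n M i)) r (Submodule.Quotient.mk ⟨y, hy'⟩) hr (by
      rw [← Submodule.Quotient.mk_smul]
      have e : r • (⟨y, hy'⟩ : ↥(MultCrv.filt2 R n M (i + 1))) =
        ⟨r • y, (MultCrv.filt2 R n M (i + 1)).smul_of_tower_mem r hy'⟩ := rfl
      rw [e, mem_range_lamG2_iff]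
      rw [← algebraMap_smul (MultCrv.Rn R n) r y]
      exact hw)
  rwa [mem_range_lamG2_iff] at this

end

/-- Let R be a discrete valuation ring, n ≥ 1, A = R[X]/(X^n) with z the class of X, and M a finitely
generated A-module. Then the graded pieces G_i(M) = z^i M/z^(i+1) M are free R-modules for all 0 ≤ i
< n if and only if the modules Γ^(i)(M) are free R-modules for all 0 ≤ i < n, where Γ^(i)(M) is the
cokernel of the map M^(i+2)/M^(i+1) → M^(i+1)/M^(i) induced by multiplication by z (M^(j) the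
elements killed by z^j). (Statement at a closed point P of the sheaf statement on a primitive
multiple curve of multiplicity n, whose local rings are R[X]/(X^n) with R the local ring of the
reduced smooth curve: the published conditions are local freeness on the reduced curve of the
corresponding sheaves, read here at P; the published statement also asserts that these conditions
are equivalent to the stalk being quasi-free, i.e. isomorphic to a direct sum of modules A/(z^j),
which is not part of this row; stated for every discrete valuation ring R.) -/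
theorem result (R : Type u) [CommRing R] [IsDomain R] [IsDiscreteValuationRing R] (n : ℕ) (hn : 1 ≤ n) (M : Type u) [AddCommGroup M] [Module (MultCrv.Rn R n) M] [Module R M] [IsScalarTower R (MultCrv.Rn R n) M] [Module.Finite (MultCrv.Rn R n) M] : (∀ i : ℕ, i < n → Module.Free R (MultCrv.G1 R n M i)) ↔ (∀ i : ℕ, i < n → Module.Free R (MultCrv.Gam2 R n M i)) := by
  have hfin : Module.Finite R M := multCrv_finite_over_base R n M
  have hnoeth : IsNoetherian R M := isNoetherian_of_isNoetherianRing_of_finite R M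
  have hfin1 : ∀ j, Module.Finite R ↥(MultCrv.filt R n M j) := fun j => sub_finite_restrict R _ M _
  have hfin2 : ∀ j, Module.Finite R ↥(MultCrv.filt2 R n M j) := fun j => sub_finite_restrict R _ M _
  have hfinG1 : ∀ j, Module.Finite R (MultCrv.G1 R n M j) := fun j => by
    unfold MultCrv.G1; infer_instance
  have hfinG2 : ∀ j, Module.Finite R (MultCrv.G2 R n M j) := fun j => by
    unfold MultCrv.G2; infer_instance
  have hfinGam : ∀ j, Module.Finite R (MultCrv.Gam2 R n M j) := fun j => by
    unfold MultCrv.Gam2; infer_instance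
  constructor
  · intro h i hi
    have htf : Module.IsTorsionFree R (MultCrv.Gam2 R n M i) := by
      apply T2_mpr
      intro r hr
      apply S2_of_S1
      haveI := h i hi
      exact T1_mp R n M i inferInstance r hr
    exact Module.free_of_finite_type_torsion_free'
  · intro h i hi
    have htf : Module.IsTorsionFree R (MultCrv.G1 R n M i) := by
      apply T1_mpr
      intro r hr
      apply S1_of_S2
      intro j hj
      haveI := h j hj
      exact T2_mp R n M j inferInstance r hr
    exact Module.free_of_finite_type_torsion_free'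

end Groth.Agent.S17944
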