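import Groth.Statements.S17959
-- import your own Groth.Agent.* helpers here
import Groth.Agent.Lib.Helper89.HensCouple3
import Groth.Agent.Lib.Helper3.IdemRoot

set_option autoImplicit false
open CategoryTheory CategoryTheory.Limits AlgebraicGeometry
universe u
open Hensel

namespace Groth.Agent.S17959

/-- Let X be a quasi-compact quasi-separated scheme and i : X₀ ⟶ X a closed immersion such that (X, X₀)
is a henselian couple, i.e. for every finite morphism g : Y ⟶ X every open-closed subset of Y ×_X X₀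
is the inverse image under the first projection of exactly one open-closed subset of Y. Let B = Γ(X,
O_X) and let J be the kernel of the restriction map B → Γ(X₀, O_{X₀}). Then (B, J) is a henselian
pair. -/
theorem result {X X₀ : Scheme.{u}}
    (i : X₀ ⟶ X) [IsClosedImmersion i] [CompactSpace ↥X] [QuasiSeparatedSpace ↥X]
    (hX : ∀ (Y : Scheme.{u}) (g : Y ⟶ X), IsFinite g →
      ∀ V : Set ↥(pullback g (i)), IsClopen V →
        ∃! U : Set ↥Y, IsClopen U ∧ (pullback.fst g (i)).base ⁻¹' U = V) :
    HenselianRing (Γ(X, ⊤) : Type u) (RingHom.ker i.appTop.hom) := by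
  obtain ⟨J, hJ⟩ : ∃ J : Ideal (Γ(X, ⊤) : Type u), J = RingHom.ker i.appTop.hom := ⟨_, rfl⟩
  rw [← hJ]
  have hjac : J ≤ Ideal.jacobson ⊥ := by
    intro b hb
    rw [Ideal.mem_jacobson_bot]
    intro y
    apply Groth.Agent.Lib.Helper89.HensCouple.isUnit_of_appTop_eq_one i hX
    have : i.appTop.hom b = 0 := by rw [hJ] at hb; exact hb
    rw [map_add, map_mul, this, zero_mul, zero_add, map_one]
  refine ⟨hjac, ?_⟩
  intro f hf a₀ h₁ h₂
  have hloc := isLocalHom_of_le_jacobson_bot J hjac
  have hu : IsUnit (f.derivative.eval a₀) := IsUnit.of_map (Ideal.Quotient.mk J) _ h₂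
  apply Groth.Agent.Lib.Helper3.exists_root_of_idempotent_lift hjac f hf a₀ h₁ hu
  intro e₀ he₀
  have hfinM : Module.Finite (Γ(X, ⊤) : Type u) (AdjoinRoot f) := hf.finite_adjoinRoot
  have hfreeM : Module.Free (Γ(X, ⊤) : Type u) (AdjoinRoot f) := hf.free_adjoinRoot
  have hfin : (algebraMap (Γ(X, ⊤) : Type u) (AdjoinRoot f)).Finite :=
    RingHom.finite_algebraMap.mpr hfinM
  have hflat : (algebraMap (Γ(X, ⊤) : Type u) (AdjoinRoot f)).Flat :=
    RingHom.flat_algebraMap_iff.mpr inferInstance
  have := Groth.Agent.Lib.Helper89.HensCouple.exists_idem_lift_finite_flat i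
    (fun Y g hg V hV => (hX Y g hg V hV).exists) (CommRingCat.of (AdjoinRoot f))
    (CommRingCat.ofHom (algebraMap (Γ(X, ⊤) : Type u) (AdjoinRoot f))) hfin hflat e₀
    (by rw [← hJ]; exact he₀)
  rw [← hJ] at this
  exact this

end Groth.Agent.S17959
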