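import Groth.Statements.S17962

set_option autoImplicit false
open CategoryTheory CategoryTheory.Limits AlgebraicGeometry
universe u
open Hensel

namespace Groth.Agent.S17962

/-- Let i : X₀ ⟶ X be a closed immersion such that (X, X₀) is a henselian couple, i.e. for every finite
morphism g : Y ⟶ X every open-closed subset of Y ×_X X₀ is the inverse image under the first
projection of exactly one open-closed subset of Y. Then for every finite morphism h : Y ⟶ X the
couple (Y, Y ×_X X₀), with the first projection as closed immersion, is again henselian. -/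
theorem result {X X₀ : Scheme.{u}}
    (i : X₀ ⟶ X) [IsClosedImmersion i]
    (hX : ∀ (Y : Scheme.{u}) (g : Y ⟶ X), IsFinite g →
      ∀ V : Set ↥(pullback g (i)), IsClopen V →
        ∃! U : Set ↥Y, IsClopen U ∧ (pullback.fst g (i)).base ⁻¹' U = V)
    {Y : Scheme.{u}} (h : Y ⟶ X) [IsFinite h] :
    ∀ (Z : Scheme.{u}) (g : Z ⟶ Y), IsFinite g →
      ∀ V : Set ↥(pullback g (pullback.fst h i)), IsClopen V →
        ∃! U : Set ↥Z, IsClopen U ∧ (pullback.fst g (pullback.fst h i)).base ⁻¹' U = V := by
  intro Z g hg V hV
  haveI := hg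
  let e := pullbackRightPullbackFstIso h i g
  have he : e.hom ≫ pullback.fst (g ≫ h) i = pullback.fst g (pullback.fst h i) :=
    pullbackRightPullbackFstIso_hom_fst h i g
  have hV' : IsClopen (e.inv.base ⁻¹' V) :=
    hV.preimage e.inv.continuous
  have key : ∀ U : Set ↥Z, (pullback.fst (g ≫ h) i).base ⁻¹' U = e.inv.base ⁻¹' V ↔
      (pullback.fst g (pullback.fst h i)).base ⁻¹' U = V := by
    intro U
    have h1 : (pullback.fst g (pullback.fst h i)).base ⁻¹' U =
        e.hom.base ⁻¹' ((pullback.fst (g ≫ h) i).base ⁻¹' U) := by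
      rw [← he]
      rfl
    have h2 : ∀ W : Set ↥(pullback g (pullback.fst h i)), e.hom.base ⁻¹' (e.inv.base ⁻¹' W) = W := by
      intro W
      ext x
      simp only [Set.mem_preimage]
      have : e.inv.base (e.hom.base x) = x := by
        have := congrArg (fun f => f.base x) e.hom_inv_id
        simpa using this
      rw [this]
    have h3 : ∀ W : Set ↥(pullback (g ≫ h) i), e.inv.base ⁻¹' (e.hom.base ⁻¹' W) = W := by
      intro W
      ext x
      simp only [Set.mem_preimage]
      have : e.hom.base (e.inv.base x) = x := by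
        have := congrArg (fun f => f.base x) e.inv_hom_id
        simpa using this
      rw [this]
    rw [h1]
    constructor
    · intro hU
      rw [hU, h2]
    · intro hU
      rw [← hU, h3]
  obtain ⟨U, ⟨hU1, hU2⟩, hUuniq⟩ := hX Z (g ≫ h) inferInstance (e.inv.base ⁻¹' V) hV'
  refine ⟨U, ⟨hU1, (key U).1 hU2⟩, ?_⟩
  rintro U' ⟨hU'1, hU'2⟩
  exact hUuniq U' ⟨hU'1, (key U').2 hU'2⟩

end Groth.Agent.S17962
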