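import Groth.Statements.S17969
-- import your own Groth.Agent.* helpers here
import Mathlib.RingTheory.Adjoin.PowerBasis
import Mathlib.LinearAlgebra.Matrix.Charpoly.Minpoly
import Mathlib.LinearAlgebra.Charpoly.ToMatrix
import Mathlib.RingTheory.Polynomial.GaussLemma
import Mathlib.RingTheory.Localization.BaseChange

set_option autoImplicit false
universe u
open scoped TensorProduct
open CAlg

namespace Groth.Agent.S17969

open Polynomial in
private theorem aeval_tmul_map {A : Type u} [CommRing A] {K : Type u} [CommRing K] [Algebra A K]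
    {B : Type u} [CommRing B] [Algebra A B] (x : B) (p : A[X]) :
    Polynomial.aeval ((1 : K) ⊗ₜ[A] x) (p.map (algebraMap A K)) =
      (1 : K) ⊗ₜ[A] (Polynomial.aeval x p) := by
  have h1 : (1 : K) ⊗ₜ[A] x = (Algebra.TensorProduct.includeRight : B →ₐ[A] K ⊗[A] B) x := rfl
  have h2 : (1 : K) ⊗ₜ[A] (Polynomial.aeval x p) =
      (Algebra.TensorProduct.includeRight : B →ₐ[A] K ⊗[A] B) (Polynomial.aeval x p) := rfl
  rw [h1, h2, Polynomial.aeval_map_algebraMap, Polynomial.aeval_algHom_apply]

/-- Let A be an integrally closed domain with fraction field K and B a commutative A-algebra which is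
finite and torsion-free as an A-module and generated as an A-algebra by a single element x. Let P be
the characteristic polynomial of multiplication by 1 ⊗ x on the finite free K-module K ⊗_A B. Then P
has coefficients in A, namely P is the image of a monic polynomial over A, and the kernel of the
A-algebra map A[T] → B sending T to x is generated by that polynomial, so that B is A[T]/(P). -/
theorem result
    (A : Type u) [CommRing A] [IsDomain A] [IsIntegrallyClosed A]
    (B : Type u) [CommRing B] [Algebra A B] [Module.Finite A B] [NoZeroSMulDivisors A B]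
    (x : B) (hx : Algebra.adjoin A {x} = ⊤) :
    ∃ P : Polynomial A, P.Monic ∧
      Polynomial.map (algebraMap A (FractionRing A)) P =
        (LinearMap.mulLeft (FractionRing A) ((1 : FractionRing A) ⊗ₜ[A] x)).charpoly ∧
      RingHom.ker (Polynomial.aeval x).toRingHom = Ideal.span {P} := by
  classical
  set K := FractionRing A with hK
  set y : K ⊗[A] B := (1 : K) ⊗ₜ[A] x with hy
  -- injectivity of B → K ⊗ B
  have hinj : ∀ b : B, (1 : K) ⊗ₜ[A] b = (0 : K ⊗[A] B) → b = 0 := by
    intro b hb
    have hloc : IsLocalizedModule (nonZeroDivisors A) (TensorProduct.mk A K B 1) :=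
      (isLocalizedModule_iff_isBaseChange (nonZeroDivisors A) K _).mpr
        (TensorProduct.isBaseChange A B K)
    have := (IsLocalizedModule.eq_zero_iff (nonZeroDivisors A) (TensorProduct.mk A K B 1)).mp hb
    obtain ⟨s, hs⟩ := this
    have hs0 : (s : A) ≠ 0 := nonZeroDivisors.coe_ne_zero s
    exact (smul_eq_zero.mp hs).resolve_left hs0
  -- y is integral over K
  have hyint : IsIntegral K y := Algebra.IsIntegral.isIntegral y
  -- y generates
  have hytop : Algebra.adjoin K {y} = ⊤ := by
    rw [eq_top_iff]
    intro v hv
    clear hv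
    induction v using TensorProduct.induction_on with
    | zero => exact Subalgebra.zero_mem _
    | add a b ha hb => exact Subalgebra.add_mem _ ha hb
    | tmul k b =>
      have hb : b ∈ Algebra.adjoin A {x} := hx ▸ Algebra.mem_top
      rw [Algebra.adjoin_singleton_eq_range_aeval] at hb
      obtain ⟨p, hp⟩ := hb
      change Polynomial.aeval x p = b at hp
      subst hp
      have : k ⊗ₜ[A] (Polynomial.aeval x p) = k • ((1 : K) ⊗ₜ[A] (Polynomial.aeval x p)) := by
        rw [TensorProduct.smul_tmul', smul_eq_mul, mul_one]
      rw [this]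
      apply Subalgebra.smul_mem
      have h3 := aeval_tmul_map (K := K) x p
      change (1 : K) ⊗ₜ[A] ((Polynomial.aeval x) p) ∈ _
      rw [← h3]
      rw [Algebra.adjoin_singleton_eq_range_aeval]
      exact ⟨_, rfl⟩
  -- power basis
  let pb : PowerBasis K (K ⊗[A] B) := PowerBasis.ofAdjoinEqTop hyint hytop
  have hgen : pb.gen = y := PowerBasis.ofAdjoinEqTop_gen hyint hytop
  have hchar : (LinearMap.mulLeft K y).charpoly = minpoly K y := by
    rw [← LinearMap.charpoly_toMatrix (LinearMap.mulLeft K y) pb.basis, Algebra.toMatrix_lmul_eq,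
      ← hgen, charpoly_leftMulMatrix]
  -- integral relation for x over A
  have hxint : IsIntegral A x := Algebra.IsIntegral.isIntegral x
  obtain ⟨g, hgm, hg0⟩ := hxint
  have hg0' : Polynomial.aeval x g = 0 := by
    rw [Polynomial.aeval_def]; exact hg0
  have hdvd : minpoly K y ∣ g.map (algebraMap A K) := by
    apply minpoly.dvd
    rw [aeval_tmul_map, hg0', TensorProduct.tmul_zero]
  obtain ⟨P, hP⟩ := IsIntegrallyClosed.eq_map_mul_C_of_dvd K hgm hdvd
  have hmonic : (minpoly K y).Monic := minpoly.monic hyint
  rw [hmonic.leadingCoeff, Polynomial.C_1, mul_one] at hP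
  have hPm : P.Monic := by
    apply Polynomial.monic_of_injective (IsFractionRing.injective A K)
    rw [hP]; exact hmonic
  refine ⟨P, hPm, by rw [hP, hchar], ?_⟩
  ext p
  rw [RingHom.mem_ker, Ideal.mem_span_singleton]
  change Polynomial.aeval x p = 0 ↔ _
  constructor
  · intro hp
    have : minpoly K y ∣ p.map (algebraMap A K) := by
      apply minpoly.dvd
      rw [aeval_tmul_map, hp, TensorProduct.tmul_zero]
    rw [← hP] at this
    exact (Polynomial.map_dvd_map _ (IsFractionRing.injective A K) hPm).mp this
  · rintro ⟨q, rfl⟩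
    rw [map_mul]
    have : Polynomial.aeval x P = 0 := by
      apply hinj
      rw [← aeval_tmul_map, hP]
      exact minpoly.aeval K y
    rw [this, zero_mul]

end Groth.Agent.S17969
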