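import Groth.Statements.S1797
import Groth.Agent.S0332
import Groth.Agent.S2644
import Groth.Agent.Lib.Helper60.CdOneAffine
import Groth.Agent.Lib.Helper73.RegularNormal
import Groth.Agent.Lib.Helper29.CplFlat
import Groth.Agent.Lib.Helper73.CplMap

set_option autoImplicit false
universe u
open LocCoh

namespace Groth.Agent.S1797

open IsLocalRing

/-- regular hom ⇒ normal hom (copy of helper8's lemma, to keep the import closure small). -/
theorem isNormalHom_of_isRegularHom' {R S : Type u} [CommRing R] [CommRing S] [Algebra R S]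
    (h : CAlg.IsRegularHom R S) : EGA4.IsNormalHom R S := by
  refine ⟨h.1, fun p _ k' _ _ hfin => ?_⟩
  have h1 := (h.2 p).2 k' hfin
  exact Groth.Agent.Lib.Helper73.RegularNormal.isNormalRing_of_forall_isRegularLocalRing _
    (fun q _ => h1.isRegularLocalRing_localization q)

/-- an integrally closed domain is a normal ring. -/
theorem isNormalRing_of_isIntegrallyClosed (B : Type u) [CommRing B] [IsDomain B]
    [IsIntegrallyClosed B] : EGA4.IsNormalRing B := by
  intro q hq
  refine ⟨IsLocalization.isDomain_localization q.primeCompl_le_nonZeroDivisors, ?_⟩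
  exact isIntegrallyClosed_of_isLocalization (Localization.AtPrime q) q.primeCompl
    q.primeCompl_le_nonZeroDivisors

/-- a normal local ring is a domain. -/
theorem isDomain_of_isNormalRing_of_isLocalRing (C : Type u) [CommRing C] [IsLocalRing C]
    (h : EGA4.IsNormalRing C) : IsDomain C := by
  have h1 := (h (maximalIdeal C)).1
  have hinj : Function.Injective (algebraMap C (Localization.AtPrime (maximalIdeal C))) := by
    apply IsLocalization.injective (Localization.AtPrime (maximalIdeal C))
      (M := (maximalIdeal C).primeCompl)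
    intro x hx
    have hu : IsUnit x := by
      by_contra hnu
      exact hx ((IsLocalRing.mem_maximalIdeal x).mpr hnu)
    exact hu.mem_nonZeroDivisors
  exact hinj.isDomain _

/-- the completion of an excellent normal local domain is a domain. -/
theorem isDomain_cpl (A : Type u) [CommRing A] [IsDomain A] [IsLocalRing A] [IsNoetherianRing A]
    [IsIntegrallyClosed A] (hA : EGA4.IsExcellent A) : IsDomain (EGA4.Cpl A) := by
  obtain ⟨_, _, hG, _⟩ := hA
  let B := Localization.AtPrime (maximalIdeal A)
  haveI : IsNoetherianRing B := IsLocalization.isNoetherianRing (maximalIdeal A).primeCompl _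
    inferInstance
  haveI : IsDomain B := IsLocalization.isDomain_localization
    (maximalIdeal A).primeCompl_le_nonZeroDivisors
  haveI : IsIntegrallyClosed B := isIntegrallyClosed_of_isLocalization B
    (maximalIdeal A).primeCompl (maximalIdeal A).primeCompl_le_nonZeroDivisors
  have hreg : CAlg.IsRegularHom B (AdicCompletion (maximalIdeal B) B) := hG.2 (maximalIdeal A)
  have hnh := isNormalHom_of_isRegularHom' hreg
  have hff : EGA4.HasGeomNormalFormalFibres B := fun p _ => hnh.2 p
  have hnB : EGA4.IsNormalRing (EGA4.Cpl B) :=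
    (Groth.Agent.S2644.result B hff).mp (isNormalRing_of_isIntegrallyClosed B)
  haveI : IsLocalRing (EGA4.Cpl B) := Groth.Agent.Lib.Helper29.isLocalRing_cpl B
  haveI hdB : IsDomain (EGA4.Cpl B) := isDomain_of_isNormalRing_of_isLocalRing _ hnB
  haveI : IsLocalHom (algebraMap A B) := by
    constructor
    intro a ha
    by_contra hnu
    have hmem : a ∈ maximalIdeal A := (IsLocalRing.mem_maximalIdeal a).mpr hnu
    have := (IsLocalization.AtPrime.isUnit_to_map_iff B (maximalIdeal A) a).mp ha
    exact this hmem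
  letI := Groth.Agent.Lib.Helper73.CplMap.cplAlgebra A B
  haveI : Module.FaithfullyFlat (EGA4.Cpl A) (EGA4.Cpl B) :=
    Groth.Agent.Lib.Helper73.CplMap.faithfullyFlat_cpl A B
  have hinj : Function.Injective (algebraMap (EGA4.Cpl A) (EGA4.Cpl B)) :=
    FaithfulSMul.algebraMap_injective _ _
  exact hinj.isDomain _

theorem one_le_dim_quot_cpl (A : Type u) [CommRing A] [IsLocalRing A] [IsNoetherianRing A]
    (I : Ideal A) (hI : (1 : WithBot ℕ∞) ≤ ringKrullDim (A ⧸ I)) :
    (1 : WithBot ℕ∞) ≤ ringKrullDim (EGA4.Cpl A ⧸ I.map (algebraMap A (EGA4.Cpl A))) := by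
  classical
  haveI : IsLocalRing (EGA4.Cpl A) := Groth.Agent.Lib.Helper29.isLocalRing_cpl A
  haveI : Module.FaithfullyFlat A (EGA4.Cpl A) := Groth.Agent.Lib.Helper29.faithfullyFlat_cpl A
  -- a non-maximal prime containing I
  obtain ⟨q, hIq, hqm⟩ : ∃ q : PrimeSpectrum A, I ≤ q.asIdeal ∧ q.asIdeal ≠ maximalIdeal A := by
    by_contra hcon
    push Not at hcon
    have hsub : Subsingleton (PrimeSpectrum.zeroLocus (I : Set A)) := by
      constructor
      rintro ⟨x, hx⟩ ⟨y, hy⟩
      apply Subtype.ext
      apply PrimeSpectrum.ext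
      rw [hcon x hx, hcon y hy]
    have h0 : ringKrullDim (A ⧸ I) ≤ 0 := by
      rw [ringKrullDim_quotient]
      exact Order.krullDim_nonpos_of_subsingleton
    have : (1 : WithBot ℕ∞) ≤ 0 := hI.trans h0
    exact absurd this (by decide)
  obtain ⟨Q, hQ⟩ := PrimeSpectrum.comap_surjective_of_faithfullyFlat (B := EGA4.Cpl A) q
  have hQI : I.map (algebraMap A (EGA4.Cpl A)) ≤ Q.asIdeal := by
    rw [Ideal.map_le_iff_le_comap]
    have : (PrimeSpectrum.comap (algebraMap A (EGA4.Cpl A)) Q).asIdeal = q.asIdeal := by rw [hQ]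
    rw [PrimeSpectrum.comap_asIdeal] at this
    rw [this]; exact hIq
  have hmI : I.map (algebraMap A (EGA4.Cpl A)) ≤ maximalIdeal (EGA4.Cpl A) :=
    hQI.trans (IsLocalRing.le_maximalIdeal Q.2.ne_top)
  have hQne : Q.asIdeal ≠ maximalIdeal (EGA4.Cpl A) := by
    intro heq
    apply hqm
    have : (PrimeSpectrum.comap (algebraMap A (EGA4.Cpl A)) Q).asIdeal = q.asIdeal := by rw [hQ]
    rw [PrimeSpectrum.comap_asIdeal, heq] at this
    rw [← this]
    exact ((IsLocalRing.local_hom_TFAE (algebraMap A (EGA4.Cpl A))).out 0 4 rfl rfl).mp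
      inferInstance
  have hlt : Q.asIdeal < maximalIdeal (EGA4.Cpl A) :=
    lt_of_le_of_ne (IsLocalRing.le_maximalIdeal Q.2.ne_top) hQne
  rw [ringKrullDim_quotient]
  let x0 : PrimeSpectrum.zeroLocus ((I.map (algebraMap A (EGA4.Cpl A)) : Ideal _) : Set (EGA4.Cpl A)) :=
    ⟨Q, hQI⟩
  let x1 : PrimeSpectrum.zeroLocus ((I.map (algebraMap A (EGA4.Cpl A)) : Ideal _) : Set (EGA4.Cpl A)) :=
    ⟨IsLocalRing.closedPoint _, hmI⟩
  have hx : x0 < x1 := hlt
  let s : LTSeries (PrimeSpectrum.zeroLocus ((I.map (algebraMap A (EGA4.Cpl A)) : Ideal _) : Set (EGA4.Cpl A))) :=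
    RelSeries.fromListIsChain [x0, x1] (by simp) (by simp [hx])
  have := Order.LTSeries.length_le_krullDim s
  have hl : s.length = 1 := by simp [s]
  rw [hl] at this
  exact_mod_cast this


/-- Let A be an excellent normal Noetherian local ring (an integrally closed domain) and I an ideal with
dim V(I) ≥ 1, i.e. dim A/I ≥ 1. Then cd(A, I) < dim A: for every A-module M, H^i_I(M) = 0 whenever i
≥ dim A. Moreover, if dim A = 2 then the open subscheme Spec A ∖ V(I) is affine. -/
theorem result (A : Type u) [CommRing A] [IsDomain A] [IsLocalRing A] [IsNoetherianRing A] [IsIntegrallyClosed A] (hA : EGA4.IsExcellent A) (I : Ideal A) (hI : (1 : WithBot ℕ∞) ≤ ringKrullDim (A ⧸ I)) : (∀ (M : Type u) [AddCommGroup M] [Module A M] (i : ℕ), ringKrullDim A ≤ (i : WithBot ℕ∞) → Subsingleton (LocCoh.H I i M)) ∧ (ringKrullDim A = 2 → AlgebraicGeometry.IsAffine (↑(LocCoh.puncturedOpen A I) : AlgebraicGeometry.Scheme.{u})) := by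
  have hdom : IsDomain (EGA4.Cpl A) := isDomain_cpl A hA
  have hq := one_le_dim_quot_cpl A I hI
  -- dimension is a natural number
  obtain ⟨d, hd⟩ : ∃ d : ℕ, ringKrullDim A = d := by
    rw [← IsLocalRing.maximalIdeal_height_eq_ringKrullDim]
    have hne : (maximalIdeal A).height ≠ ⊤ := Ideal.height_ne_top_of_isPrime
    obtain ⟨n, hn⟩ := ENat.ne_top_iff_exists.mp hne
    exact ⟨n, by rw [← hn]; rfl⟩
  have part1 : ∀ (M : Type u) [AddCommGroup M] [Module A M] (i : ℕ),
      ringKrullDim A ≤ (i : WithBot ℕ∞) → Subsingleton (LocCoh.H I i M) := by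
    intro M _ _ i hi
    refine Groth.Agent.S0332.result A I d hd ?_ M i ?_
    · intro p hp _
      rw [IsDomain.minimalPrimes_eq_singleton_bot] at hp
      have : p = ⊥ := hp
      subst this
      rw [sup_bot_eq]
      exact hq
    · rw [hd] at hi
      exact_mod_cast hi
  refine ⟨part1, fun h2 => ?_⟩
  apply Groth.Agent.Lib.Helper60.isAffine_puncturedOpen_of_cdLE_one A I
  intro M _ _ i hi
  apply part1 M i
  rw [h2]
  exact_mod_cast hi

end Groth.Agent.S1797
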