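import Groth.Statements.S17974
import Mathlib.RingTheory.Unramified.Finite
import Mathlib.Tactic

set_option autoImplicit false
universe u
open Unram

namespace Groth.Agent.S17974

open TensorProduct in
/-- Let A be a commutative ring, B an unramified A-algebra (formally unramified and of finite type), C
an A-algebra, p a prime ideal of C, and u, v : B → C two A-algebra homomorphisms which agree after
composition with C → C/p. Then there is an element f of C not in p such that u and v agree after
composition with the localization map C → C[1/f]. -/
theorem result
    (A : Type u) [CommRing A] (B : Type u) [CommRing B] [Algebra A B]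
    [Algebra.FormallyUnramified A B] [Algebra.FiniteType A B]
    (C : Type u) [CommRing C] [Algebra A C] (p : Ideal C) [p.IsPrime]
    (u v : B →ₐ[A] C)
    (huv : (Ideal.Quotient.mk p).comp u.toRingHom = (Ideal.Quotient.mk p).comp v.toRingHom) :
    ∃ f : C, f ∉ p ∧
      (algebraMap C (Localization.Away f)).comp u.toRingHom =
        (algebraMap C (Localization.Away f)).comp v.toRingHom := by
  have huv' : ∀ b : B, Ideal.Quotient.mk p (u b) = Ideal.Quotient.mk p (v b) := by
    intro b
    exact RingHom.congr_fun huv b
  set t := Algebra.FormallyUnramified.elem A B with ht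
  set w : B ⊗[A] B →ₐ[A] C := Algebra.TensorProduct.productMap u v with hw
  have h1 : ∀ s : B, (v s - u s) * w t = 0 := by
    intro s
    have := congrArg w (Algebra.FormallyUnramified.one_tmul_sub_tmul_one_mul_elem (R := A) (S := B) s)
    rw [map_mul, map_sub, map_zero] at this
    simpa [hw, Algebra.TensorProduct.productMap_apply_tmul] using this
  have h2 : ∀ z : B ⊗[A] B, Ideal.Quotient.mk p (w z) =
      Ideal.Quotient.mk p (u (Algebra.TensorProduct.lmul' A z)) := by
    intro z
    induction z using TensorProduct.induction_on with
    | zero => simp
    | tmul a b =>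
      simp only [hw, Algebra.TensorProduct.productMap_apply_tmul, Algebra.TensorProduct.lmul'_apply_tmul,
        map_mul, huv']
    | add a b ha hb => simp only [map_add, ha, hb]
  refine ⟨w t, ?_, ?_⟩
  · intro hmem
    have h3 := h2 t
    rw [Algebra.FormallyUnramified.lmul_elem, map_one, map_one] at h3
    rw [Ideal.Quotient.eq_zero_iff_mem.2 hmem] at h3
    exact zero_ne_one h3
  · ext s
    simp only [RingHom.comp_apply]
    have hunit : IsUnit (algebraMap C (Localization.Away (w t)) (w t)) :=
      IsLocalization.Away.algebraMap_isUnit (w t)
    have h4 := congrArg (algebraMap C (Localization.Away (w t))) (h1 s)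
    rw [map_mul, map_zero, map_sub] at h4
    have h5 := (hunit.mul_left_eq_zero).1 h4
    exact (sub_eq_zero.1 h5).symm

end Groth.Agent.S17974
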