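import Groth.Statements.S17975
import Mathlib.RingTheory.Nakayama
import Mathlib.RingTheory.LocalRing.ResidueField.Ideal
import Mathlib.Tactic

set_option autoImplicit false
universe u
open Hensel

namespace Groth.Agent.S17975

open Polynomial in
theorem main
    (A : Type u) [CommRing A] [IsLocalRing A] (R : Type u) [CommRing R] [Algebra A R] [Module.Finite A R]
    (Q₀ : Polynomial (IsLocalRing.ResidueField A)) (hQ₀ : Q₀.Monic)
    (mC : Ideal R) (hmC : mC = Ideal.map (algebraMap A R) (IsLocalRing.maximalIdeal A))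
    (e : (R ⧸ mC) ≃ₐ[A] AdjoinRoot Q₀)
    (x : R) (hx : e (Ideal.Quotient.mk mC x) = AdjoinRoot.root Q₀) :
    Algebra.adjoin A {x} = ⊤ ∧
      ∃ Q : Polynomial A, Q.Monic ∧ Q.natDegree = Q₀.natDegree ∧
        Polynomial.map (IsLocalRing.residue A) Q = Q₀ ∧ Polynomial.aeval x Q = 0 := by
  set m := IsLocalRing.maximalIdeal A with hm
  set n := Q₀.natDegree with hn
  set pb := AdjoinRoot.powerBasis' hQ₀ with hpb
  -- the A-span of 1, x, ..., x^(n-1)
  set S : Submodule A R := Submodule.span A (Set.range fun j : Fin n => x ^ (j : ℕ)) with hS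
  -- key: e (mk (aeval x P)) = aeval root (map residue P)
  have hekey : ∀ P : Polynomial A, e (Ideal.Quotient.mk mC (aeval x P)) =
      AdjoinRoot.mk Q₀ (P.map (IsLocalRing.residue A)) := by
    intro P
    have h1 : Ideal.Quotient.mk mC (aeval x P) = aeval (Ideal.Quotient.mk mC x) P :=
      (Polynomial.aeval_algHom_apply (Ideal.Quotient.mkₐ A mC) x P).symm
    rw [h1]
    have h2 : e (aeval (Ideal.Quotient.mk mC x) P) = aeval (e (Ideal.Quotient.mk mC x)) P :=
      (Polynomial.aeval_algHom_apply (e : (R ⧸ mC) →ₐ[A] AdjoinRoot Q₀) (Ideal.Quotient.mk mC x) P).symm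
    rw [h2, hx]
    exact AdjoinRoot.aeval_eq_of_algebra Q₀ P
  -- Step 1: S ⊔ m • ⊤ = ⊤
  have hsup : (⊤ : Submodule A R) ≤ S ⊔ m • (⊤ : Submodule A R) := by
    intro c _
    -- expand e (mk c) in the power basis
    have hrepr := pb.basis.sum_repr (e (Ideal.Quotient.mk mC c))
    -- lift coefficients
    have hlift : ∀ j : Fin pb.dim, ∃ a : A, IsLocalRing.residue A a = pb.basis.repr (e (Ideal.Quotient.mk mC c)) j :=
      fun j => IsLocalRing.residue_surjective _
    choose a ha using hlift
    set P : Polynomial A := ∑ j : Fin pb.dim, Polynomial.C (a j) * X ^ (j : ℕ) with hP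
    have hPx : aeval x P = ∑ j : Fin pb.dim, a j • x ^ (j : ℕ) := by
      rw [hP, map_sum]
      apply Finset.sum_congr rfl
      intro j _
      rw [map_mul, aeval_C, map_pow, aeval_X, Algebra.smul_def]
    have h3 : e (Ideal.Quotient.mk mC (aeval x P)) = e (Ideal.Quotient.mk mC c) := by
      rw [hekey, ← hrepr, hP, Polynomial.map_sum, map_sum]
      apply Finset.sum_congr rfl
      intro j _
      rw [Polynomial.map_mul, Polynomial.map_C, Polynomial.map_pow, Polynomial.map_X, map_mul,
        map_pow, AdjoinRoot.mk_X, AdjoinRoot.mk_C, ha j, pb.basis_eq_pow, Algebra.smul_def]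
      rfl
    have h4 : Ideal.Quotient.mk mC (aeval x P) = Ideal.Quotient.mk mC c := e.injective h3
    have h5 : c - aeval x P ∈ mC := by
      rw [← Ideal.Quotient.eq_zero_iff_mem, map_sub, h4, sub_self]
    have h6 : c - aeval x P ∈ m • (⊤ : Submodule A R) := by
      rw [Ideal.smul_top_eq_map, ← hmC]
      exact h5
    have h7 : aeval x P ∈ S := by
      rw [hPx]
      apply Submodule.sum_mem
      intro j _
      exact Submodule.smul_mem _ _ (Submodule.subset_span ⟨j, rfl⟩)
    have : c = aeval x P + (c - aeval x P) := by ring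
    rw [this]
    exact Submodule.add_mem_sup h7 h6
  have hStop : S = ⊤ := by
    apply top_le_iff.1
    apply Submodule.le_of_le_smul_of_le_jacobson_bot (Module.Finite.fg_top) _ hsup
    rw [IsLocalRing.jacobson_eq_maximalIdeal ⊥ bot_ne_top]
  -- Step 2
  have hS_le : S ≤ Subalgebra.toSubmodule (Algebra.adjoin A {x}) := by
    rw [hS, Submodule.span_le]
    rintro _ ⟨j, rfl⟩
    exact Subalgebra.pow_mem _ (Algebra.subset_adjoin (Set.mem_singleton x)) _
  refine ⟨?_, ?_⟩
  · rw [eq_top_iff]
    intro c _
    have : c ∈ S := by rw [hStop]; trivial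
    exact hS_le this
  · -- Step 3: x^n ∈ S
    have hxn : x ^ n ∈ S := by rw [hStop]; trivial
    rw [hS, Submodule.mem_span_range_iff_exists_fun] at hxn
    obtain ⟨a, ha⟩ := hxn
    set P : Polynomial A := ∑ j : Fin n, Polynomial.C (a j) * X ^ (j : ℕ) with hP
    have hPx : aeval x P = x ^ n := by
      rw [hP, map_sum, ← ha]
      apply Finset.sum_congr rfl
      intro j _
      rw [map_mul, aeval_C, map_pow, aeval_X, Algebra.smul_def]
    have hPdeg : P.degree < n := by
      rw [hP]
      exact Polynomial.degree_sum_fin_lt a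
    set Q : Polynomial A := X ^ n - P with hQ
    have hQmonic : Q.Monic := Polynomial.monic_X_pow_sub hPdeg
    have hQdeg : Q.natDegree = n := by
      apply Polynomial.natDegree_eq_of_degree_eq_some
      rw [hQ, Polynomial.degree_sub_eq_left_of_degree_lt]
      · exact Polynomial.degree_X_pow n
      · rw [Polynomial.degree_X_pow]; exact hPdeg
    have hQx : aeval x Q = 0 := by
      rw [hQ, map_sub, map_pow, aeval_X, hPx, sub_self]
    refine ⟨Q, hQmonic, hQdeg, ?_, hQx⟩
    -- Step 4
    have h1 := hekey Q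
    rw [hQx, map_zero, map_zero] at h1
    have h2 : Q₀ ∣ Q.map (IsLocalRing.residue A) := AdjoinRoot.mk_eq_zero.1 h1.symm
    have hQ'monic : (Q.map (IsLocalRing.residue A)).Monic := hQmonic.map _
    have hQ'deg : (Q.map (IsLocalRing.residue A)).natDegree = n := by
      rw [hQmonic.natDegree_map, hQdeg]
    exact Polynomial.eq_of_monic_of_dvd_of_natDegree_le hQ₀ hQ'monic h2 (by rw [hQ'deg])

/-- Let A be a local ring with maximal ideal m and residue field k, C a commutative A-algebra which is
finitely generated as an A-module, Q₀ a monic polynomial of degree n over k, e an A-algebra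
isomorphism from C/mC to k[T]/(Q₀), and x an element of C whose class is sent by e to the class of
T. Then x generates C as an A-algebra, and x is a root of a monic polynomial Q over A of degree n
whose reduction modulo m equals Q₀. -/
theorem result
    (A : Type u) [CommRing A] [IsLocalRing A] (C : Type u) [CommRing C] [Algebra A C] [Module.Finite A C]
    (Q₀ : Polynomial (IsLocalRing.ResidueField A)) (hQ₀ : Q₀.Monic)
    (e : (C ⧸ Ideal.map (algebraMap A C) (IsLocalRing.maximalIdeal A)) ≃ₐ[A] AdjoinRoot Q₀)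
    (x : C) (hx : e (Ideal.Quotient.mk (Ideal.map (algebraMap A C) (IsLocalRing.maximalIdeal A)) x) = AdjoinRoot.root Q₀) :
    Algebra.adjoin A {x} = ⊤ ∧
      ∃ Q : Polynomial A, Q.Monic ∧ Q.natDegree = Q₀.natDegree ∧
        Polynomial.map (IsLocalRing.residue A) Q = Q₀ ∧ Polynomial.aeval x Q = 0 :=
  main A C Q₀ hQ₀ _ rfl e x hx

end Groth.Agent.S17975
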