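import Groth.Statements.S17977
import Mathlib
import Groth.Prelude.Def_EssEt

set_option autoImplicit false
universe u
open EGA4loc

namespace Groth.Agent.S17977.Aux

open TensorProduct

theorem essEt_instances (A : Type u) [CommRing A] [IsLocalRing A]
    (B : Type u) [CommRing B] [Algebra A B] (hB : EGA4loc.IsEssentiallyEtale A B) :
    Algebra.QuasiFinite A B ∧ Algebra.FormallyUnramified A B ∧ Algebra.EssFiniteType A B := by
  obtain ⟨C, _, _, q, _, hC, hq, ⟨e⟩⟩ := hB
  have : Algebra.FormallyEtale C (Localization.AtPrime q) :=
    Algebra.FormallyEtale.of_isLocalization q.primeCompl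
  have h1 : Algebra.FormallyEtale A (Localization.AtPrime q) :=
    Algebra.FormallyEtale.comp A C (Localization.AtPrime q)
  have h2 : Algebra.EssFiniteType C (Localization.AtPrime q) :=
    Algebra.EssFiniteType.of_isLocalization _ q.primeCompl
  have h3 : Algebra.EssFiniteType A (Localization.AtPrime q) :=
    Algebra.EssFiniteType.comp A C (Localization.AtPrime q)
  have h4 : Algebra.QuasiFinite A (Localization.AtPrime q) := inferInstance
  refine ⟨?_, ?_, ?_⟩
  · exact (Algebra.QuasiFinite.iff_of_algEquiv e).mpr h4
  · exact Algebra.FormallyUnramified.of_equiv e.symm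
  · exact Algebra.EssFiniteType.of_surjective e.symm.toAlgHom e.symm.surjective

theorem foo (A : Type u) [CommRing A] [IsLocalRing A]
    (B : Type u) [CommRing B] [IsLocalRing B] [Algebra A B] (hB : EGA4loc.IsEssentiallyEtale A B)
    (C : Type u) [CommRing C] [IsLocalRing C] [Algebra A C] [IsLocalHom (algebraMap A C)]
    (φ : B →ₐ[A] C) : IsLocalHom φ.toRingHom := by
  obtain ⟨hQF, -, -⟩ := essEt_instances A B hB
  set n : Ideal B := (IsLocalRing.maximalIdeal C).comap φ.toRingHom with hn
  have hnprime : n.IsPrime := Ideal.comap_isPrime _ _
  have hle : n ≤ IsLocalRing.maximalIdeal B := IsLocalRing.le_maximalIdeal hnprime.ne_top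
  have hunder : n.under A = IsLocalRing.maximalIdeal A := by
    rw [hn, Ideal.under, Ideal.comap_comap]
    have : φ.toRingHom.comp (algebraMap A B) = algebraMap A C := φ.comp_algebraMap
    rw [this]
    exact IsLocalRing.maximalIdeal_comap (algebraMap A C)
  have hunder2 : (IsLocalRing.maximalIdeal B).under A = IsLocalRing.maximalIdeal A := by
    have h1 : n.under A ≤ (IsLocalRing.maximalIdeal B).under A := Ideal.comap_mono hle
    rw [hunder] at h1
    have hp : ((IsLocalRing.maximalIdeal B).under A).IsPrime := Ideal.comap_isPrime _ _
    exact ((IsLocalRing.maximalIdeal.isMaximal A).eq_of_le hp.ne_top h1).symm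
  have heq : n = IsLocalRing.maximalIdeal B :=
    Algebra.QuasiFinite.eq_of_le_of_under_eq (R := A) n _ hle (hunder.trans hunder2.symm)
  constructor
  intro b hb
  by_contra hnu
  have : b ∈ IsLocalRing.maximalIdeal B := (IsLocalRing.mem_maximalIdeal _).2 hnu
  rw [← heq, hn, Ideal.mem_comap] at this
  exact (IsLocalRing.mem_maximalIdeal _).1 this hb

end Groth.Agent.S17977.Aux

namespace Groth.Agent.S17977

/-- Let A be a local ring, B a local ring which is a local-etale A-algebra, and C a local ring with a
local structure map A → C. Then every A-algebra homomorphism B → C is local. (The source states this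
for local ind-etale B, i.e. filtered colimits of local-etale algebras along local maps, and reduces
at once to the local-etale case stated here.) -/
theorem result (A : Type u) [CommRing A] [IsLocalRing A]
    (B : Type u) [CommRing B] [IsLocalRing B] [Algebra A B] (hB : EGA4loc.IsEssentiallyEtale A B)
    (C : Type u) [CommRing C] [IsLocalRing C] [Algebra A C] [IsLocalHom (algebraMap A C)]
    (φ : B →ₐ[A] C) : IsLocalHom φ.toRingHom := by
  exact Aux.foo A B hB C φ

end Groth.Agent.S17977
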