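import Groth.Statements.S17978
import Mathlib
import Groth.Agent.S17977

set_option autoImplicit false
universe u
open EGA4loc

namespace Groth.Agent.S17978.Aux

open TensorProduct

theorem foo (A : Type u) [CommRing A] [IsLocalRing A]
    (B : Type u) [CommRing B] [IsLocalRing B] [Algebra A B] (hB : EGA4loc.IsEssentiallyEtale A B)
    (C : Type u) [CommRing C] [IsLocalRing C] [Algebra A C] [IsLocalHom (algebraMap A C)]
    (u v : B →ₐ[A] C)
    (h : (IsLocalRing.residue C).comp u.toRingHom = (IsLocalRing.residue C).comp v.toRingHom) :
    u = v := by
  obtain ⟨-, hFU, hEFT⟩ := Groth.Agent.S17977.Aux.essEt_instances A B hB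
  set ψ : B ⊗[A] B →ₐ[A] C := Algebra.TensorProduct.productMap u v with hψ
  set t := Algebra.FormallyUnramified.elem A B with ht
  have hres : ∀ x : B ⊗[A] B,
      IsLocalRing.residue C (ψ x) = IsLocalRing.residue C (u (Algebra.TensorProduct.lmul' A x)) := by
    intro x
    induction x using TensorProduct.induction_on with
    | zero => simp
    | tmul a b =>
      have hb : IsLocalRing.residue C (v b) = IsLocalRing.residue C (u b) := by
        have := congrArg (fun f => f b) h
        exact this.symm
      simp only [hψ, Algebra.TensorProduct.productMap_apply_tmul, map_mul, Algebra.TensorProduct.lmul'_apply_tmul, hb]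
    | add x y hx hy => simp only [map_add, hx, hy]
  have hunit : IsUnit (ψ t) := by
    by_contra hnu
    have hmem : ψ t ∈ IsLocalRing.maximalIdeal C := (IsLocalRing.mem_maximalIdeal _).2 hnu
    rw [← IsLocalRing.residue_eq_zero_iff, hres, ht, Algebra.FormallyUnramified.lmul_elem] at hmem
    simp at hmem
  ext s
  have h0 := Algebra.FormallyUnramified.one_tmul_sub_tmul_one_mul_elem (R := A) (S := B) s
  have h1 : (v s - u s) * ψ t = 0 := by
    have := congrArg ψ h0
    simpa [hψ, Algebra.TensorProduct.productMap_apply_tmul] using this
  have h2 : v s - u s = 0 := (hunit.mul_left_eq_zero).mp h1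
  exact (sub_eq_zero.mp h2).symm

end Groth.Agent.S17978.Aux

namespace Groth.Agent.S17978

/-- Let A be a local ring, B a local ring which is a local-etale A-algebra, and C a local ring with a
local structure map A → C. Then two A-algebra homomorphisms B → C which agree after composition with
the residue map of C are equal; in other words an A-algebra map B → C is determined by the map it
induces on residue fields. (The source states this for local ind-etale B and reduces to the
local-etale case stated here; C is an arbitrary local A-algebra with local structure map.) -/
theorem result (A : Type u) [CommRing A] [IsLocalRing A]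
    (B : Type u) [CommRing B] [IsLocalRing B] [Algebra A B] (hB : EGA4loc.IsEssentiallyEtale A B)
    (C : Type u) [CommRing C] [IsLocalRing C] [Algebra A C] [IsLocalHom (algebraMap A C)]
    (u v : B →ₐ[A] C)
    (h : (IsLocalRing.residue C).comp u.toRingHom = (IsLocalRing.residue C).comp v.toRingHom) :
    u = v := by
  exact Aux.foo A B hB C u v h

end Groth.Agent.S17978
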