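import Groth.Statements.S1798
import Groth.Agent.Lib.Helper93.FinLocFreeFactor

set_option autoImplicit false
universe u
open CategoryTheory AlgebraicGeometry
open LocCoh

namespace Groth.Agent.S1798

/-- Let A be a ring, J ⊆ I finitely generated ideals, U the open complement of V(I) in Spec A and p ≥ 0.
If some power of J kills H^p(U, O_U), then for each finite locally free O_U-module F some power of J
kills H^p(U, F). -/
theorem result (A : Type u) [CommRing A] (J I : Ideal A) (hJI : J ≤ I) (hJ : J.FG) (hI : I.FG) (p n : ℕ) (hO : ∀ a ∈ J ^ n, ∀ x : Coh.HH (↑(LocCoh.puncturedOpen A I)) (Coh.structureModule (↑(LocCoh.puncturedOpen A I))) p, a • x = 0) (F : (↑(LocCoh.puncturedOpen A I) : Scheme.{u}).Modules) (hF : FlatMod.IsFinLocFree F) : ∃ m : ℕ, ∀ a ∈ J ^ m, ∀ x : Coh.HH (↑(LocCoh.puncturedOpen A I)) F p, a • x = 0 := by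
  classical
  have hUc : IsCompact ((LocCoh.puncturedOpen A I : (Spec (CommRingCat.of A)).Opens) :
      Set (Spec (CommRingCat.of A))) :=
    (PrimeSpectrum.isCompact_isOpen_iff_ideal.mpr ⟨I, hI, rfl⟩).1
  have : CompactSpace (↑(LocCoh.puncturedOpen A I) : Scheme.{u}) :=
    isCompact_iff_compactSpace.mp hUc
  have : QuasiSeparatedSpace (↑(LocCoh.puncturedOpen A I) : Scheme.{u}) :=
    (LocCoh.puncturedOpen A I).ι.isOpenEmbedding.quasiSeparatedSpace
  -- the colon ideal
  let Ann : Ideal A := Module.annihilator A (Coh.HH (↑(LocCoh.puncturedOpen A I)) F p)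
  let 𝔞 : Ideal A := Ann.colon ((J ^ n : Ideal A) : Set A)
  have hrad : I ≤ 𝔞.radical := by
    rw [← PrimeSpectrum.zeroLocus_subset_zeroLocus_iff]
    intro 𝔮 h𝔮
    by_contra hnot
    let x : (↑(LocCoh.puncturedOpen A I) : Scheme.{u}) := ⟨𝔮, hnot⟩
    obtain ⟨V, k, e, hxV, he⟩ :=
      Groth.Agent.Lib.Helper11.FinFreeBasis.exists_isBasisFam_of_isFinLocFree hF x
    obtain ⟨f, hf, hfV⟩ :=
      Groth.Agent.Lib.Helper93.FinLocFreeFactor.exists_basicOpen_le (LocCoh.puncturedOpen A I) V x hxV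
    obtain ⟨N, hN⟩ :=
      Groth.Agent.Lib.Helper93.FinLocFreeFactor.exists_pow_smul_eq_zero_of_isBasisFam A F hF f
        _ (he.mono hfV) p
    have hmem : f ^ N ∈ 𝔞 := by
      rw [Submodule.mem_colon]
      intro a ha
      rw [Module.mem_annihilator]
      intro y
      rw [smul_eq_mul, mul_comm]
      exact hN a (hO a ha) y
    have h2 : f ^ N ∈ 𝔮.asIdeal := h𝔮 hmem
    exact hf (𝔮.isPrime.mem_of_pow_mem N h2)
  obtain ⟨M, hM⟩ := Ideal.exists_pow_le_of_le_radical_of_fg hrad hI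
  refine ⟨n + M, fun a ha x => ?_⟩
  rw [pow_add] at ha
  refine Submodule.mul_induction_on ha (fun b hb c hc => ?_) (fun b c hb hc => ?_)
  · have h3 : c ∈ 𝔞 := hM (Ideal.pow_right_mono hJI M hc)
    have h4 := Submodule.mem_colon.mp h3 b hb
    rw [Module.mem_annihilator] at h4
    rw [mul_comm]
    exact h4 x
  · rw [add_smul, hb, hc, add_zero]

end Groth.Agent.S1798
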