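import Groth.Statements.S17981
import Mathlib

set_option autoImplicit false
universe u
open Hensel

namespace Groth.Agent.S17981.Aux

theorem foo (A : Type u) [CommRing A] (I : Ideal A)
    (hI : I ≤ Ideal.jacobson ⊥) (B : Type u) [CommRing B] [Algebra A B] [Module.Finite A B] :
    Set.InjOn (Ideal.Quotient.mk (Ideal.map (algebraMap A B) I)) {e : B | IsIdempotentElem e} := by
  have hIB : Ideal.map (algebraMap A B) I ≤ Ideal.jacobson ⊥ := by
    rw [Ideal.map_le_iff_le_comap]
    intro x hx
    rw [Ideal.mem_comap, Ideal.jacobson, Ideal.mem_sInf]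
    rintro n ⟨-, hn⟩
    have : (n.comap (algebraMap A B)).IsMaximal :=
      Ideal.isMaximal_comap_of_isIntegral_of_isMaximal n
    have h2 : x ∈ n.comap (algebraMap A B) := by
      have := hI hx
      rw [Ideal.jacobson, Ideal.mem_sInf] at this
      exact this ⟨bot_le, ‹_›⟩
    exact h2
  intro e he e' he' h
  rw [Ideal.Quotient.eq] at h
  have hx := hIB h
  have he2 : e * e = e := he
  have he'2 : e' * e' = e' := he'
  have h3 : (e - e') * ((e - e') * (-(e - e')) + 1) = 0 := by
    linear_combination (-(e+1) + 3*e') * he2 + ((e'+1) - 3*e) * he'2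
  have hu : IsUnit ((e - e') * (-(e - e')) + 1) := Ideal.mem_jacobson_bot.mp hx _
  have := (hu.mul_left_eq_zero).mp h3
  exact sub_eq_zero.mp this

end Groth.Agent.S17981.Aux

namespace Groth.Agent.S17981

/-- Let A be a commutative ring, I an ideal contained in the Jacobson radical of A, and B a commutative
A-algebra which is finitely generated as an A-module. Then two idempotents of B with the same image
in B/IB are equal. -/
theorem result (A : Type u) [CommRing A] (I : Ideal A)
    (hI : I ≤ Ideal.jacobson ⊥) (B : Type u) [CommRing B] [Algebra A B] [Module.Finite A B] :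
    Set.InjOn (Ideal.Quotient.mk (Ideal.map (algebraMap A B) I)) {e : B | IsIdempotentElem e} := by
  exact Aux.foo A I hI B

end Groth.Agent.S17981
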