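import Groth.Statements.S17982
import Mathlib

set_option autoImplicit false
universe u
open Hensel

namespace Groth.Agent.S17982.Aux

set_option autoImplicit false

open Ideal

section
variable {B : Type u} [CommRing B] {ι : Type u} [Fintype ι] [DecidableEq ι] {C : ι → Type u}
  [∀ j, CommRing (C j)] [∀ j, IsLocalRing (C j)] (e : B ≃+* (∀ j, C j))

/-- the `j`-th projection -/
def proj (j : ι) : B →+* C j := (Pi.evalRingHom C j).comp e.toRingHom

theorem proj_surjective (j : ι) : Function.Surjective (proj e j) := by
  intro c
  refine ⟨e.symm (Pi.single j c), ?_⟩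
  simp [proj]

/-- the `j`-th idempotent -/
def idem (j : ι) : B := e.symm (Pi.single j 1)

theorem sum_idem : ∑ j, idem e j = 1 := by
  apply e.injective
  rw [map_sum, map_one]
  simp only [idem, RingEquiv.apply_symm_apply]
  exact Finset.univ_sum_single (1 : ∀ j, C j)

theorem mul_idem_eq_zero {j : ι} {b : B} (hb : proj e j b = 0) : b * idem e j = 0 := by
  apply e.injective
  rw [map_mul, map_zero, idem, RingEquiv.apply_symm_apply]
  ext i
  by_cases hij : i = j
  · subst hij
    have : e b i = 0 := hb
    simp [this]
  · simp [Pi.single_eq_of_ne hij]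

theorem proj_idem (j : ι) : proj e j (idem e j) = 1 := by
  simp [proj, idem]

/-- the maximal ideal of `B` attached to `j` -/
def maxj (j : ι) : MaximalSpectrum B :=
  ⟨(IsLocalRing.maximalIdeal (C j)).comap (proj e j),
    Ideal.comap_isMaximal_of_surjective _ (proj_surjective e j)⟩

theorem exists_eq_maxj (n : MaximalSpectrum B) : ∃ j, n = maxj e j := by
  have hprime : n.asIdeal.IsPrime := n.isMaximal.isPrime
  obtain ⟨j, hj⟩ : ∃ j, idem e j ∉ n.asIdeal := by
    by_contra h
    push Not at h
    have : (1 : B) ∈ n.asIdeal := by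
      rw [← sum_idem e]
      exact Ideal.sum_mem _ (fun j _ => h j)
    exact hprime.ne_top ((Ideal.eq_top_iff_one _).mpr this)
  refine ⟨j, ?_⟩
  have hker : RingHom.ker (proj e j) ≤ n.asIdeal := by
    intro b hb
    have h0 := mul_idem_eq_zero e (RingHom.mem_ker.mp hb)
    have : b * idem e j ∈ n.asIdeal := by rw [h0]; exact Ideal.zero_mem _
    exact (hprime.mem_or_mem this).resolve_right hj
  have hle : n.asIdeal ≤ (maxj e j).asIdeal := by
    intro b hb
    change proj e j b ∈ IsLocalRing.maximalIdeal (C j)
    rw [IsLocalRing.mem_maximalIdeal, mem_nonunits_iff]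
    intro hu
    obtain ⟨c, hc⟩ := hu.exists_right_inv
    obtain ⟨b', rfl⟩ := proj_surjective e j c
    have h1 : b * b' - 1 ∈ RingHom.ker (proj e j) := by
      rw [RingHom.mem_ker, map_sub, map_mul, hc, map_one, sub_self]
    have h2 : b * b' - 1 ∈ n.asIdeal := hker h1
    have h3 : b * b' ∈ n.asIdeal := Ideal.mul_mem_right _ _ hb
    have : (1 : B) ∈ n.asIdeal := by
      have := Ideal.sub_mem _ h3 h2
      rwa [sub_sub_cancel] at this
    exact hprime.ne_top ((Ideal.eq_top_iff_one _).mpr this)
  have := n.isMaximal.eq_of_le (maxj e j).isMaximal.ne_top hle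
  exact MaximalSpectrum.ext this

theorem idem_notMem (j : ι) : idem e j ∉ (maxj e j).asIdeal := by
  intro h
  have : proj e j (idem e j) ∈ IsLocalRing.maximalIdeal (C j) := h
  rw [proj_idem] at this
  exact (IsLocalRing.maximalIdeal.isMaximal (C j)).ne_top ((Ideal.eq_top_iff_one _).mpr this)

/-- `C j` is the localization of `B` at `maxj e j` -/
theorem isLoc (j : ι) :
    letI := (proj e j).toAlgebra
    IsLocalization.AtPrime (C j) (maxj e j).asIdeal := by
  letI := (proj e j).toAlgebra
  refine ⟨?_, ?_, ?_⟩
  · rintro ⟨y, hy⟩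
    change IsUnit (proj e j y)
    by_contra hnu
    exact hy (by
      change proj e j y ∈ IsLocalRing.maximalIdeal (C j)
      rwa [IsLocalRing.mem_maximalIdeal, mem_nonunits_iff])
  · intro c
    obtain ⟨b, rfl⟩ := proj_surjective e j c
    exact ⟨(b, 1), by simp only [OneMemClass.coe_one, map_one, mul_one]; rfl⟩
  · intro x y hxy
    have hxy' : proj e j (x - y) = 0 := by rw [map_sub]; exact sub_eq_zero.mpr hxy
    have h0 := mul_idem_eq_zero e hxy'
    refine ⟨⟨idem e j, idem_notMem e j⟩, ?_⟩
    change idem e j * x = idem e j * y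
    rw [← sub_eq_zero, ← mul_sub, mul_comm]; exact h0

/-- the localization at `maxj e j` is `C j` -/
noncomputable def locEquiv (j : ι) : Localization.AtPrime (maxj e j).asIdeal ≃+* C j :=
  letI := (proj e j).toAlgebra
  haveI := isLoc e j
  (IsLocalization.algEquiv (maxj e j).asIdeal.primeCompl
    (Localization.AtPrime (maxj e j).asIdeal) (C j)).toRingEquiv

theorem locEquiv_algebraMap (j : ι) (b : B) :
    locEquiv e j (algebraMap B (Localization.AtPrime (maxj e j).asIdeal) b) = proj e j b := by
  letI := (proj e j).toAlgebra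
  haveI := isLoc e j
  exact AlgEquiv.commutes (IsLocalization.algEquiv (maxj e j).asIdeal.primeCompl
    (Localization.AtPrime (maxj e j).asIdeal) (C j)) b

include e in
theorem surj_of_equiv :
    Function.Surjective
      (RingHom.pi (fun n : MaximalSpectrum B => algebraMap B (Localization.AtPrime n.asIdeal))) := by
  intro x
  refine ⟨e.symm (fun j => locEquiv e j (x (maxj e j))), ?_⟩
  funext n
  obtain ⟨j, rfl⟩ := exists_eq_maxj e n
  apply (locEquiv e j).injective
  change locEquiv e j (algebraMap B _ _) = _
  rw [locEquiv_algebraMap]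
  simp [proj]
end

theorem main (A : Type u) [CommRing A] [IsLocalRing A] (B : Type u) [CommRing B] [Algebra A B]
    [Module.Finite A B] :
    (∃ (ι : Type u) (_ : Fintype ι) (C : ι → Type u) (_ : ∀ j, CommRing (C j)),
        (∀ j, IsLocalRing (C j)) ∧ Nonempty (B ≃+* (∀ j, C j))) ↔
    Function.Bijective
      (RingHom.pi (fun n : MaximalSpectrum B => algebraMap B (Localization.AtPrime n.asIdeal))) := by
  constructor
  · rintro ⟨ι, _, C, _, hloc, ⟨e⟩⟩
    classical
    exact ⟨MaximalSpectrum.toPiLocalization_injective B, surj_of_equiv e⟩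
  · intro hbij
    have hfin : Finite (MaximalSpectrum B) :=
      MaximalSpectrum.finite_of_toPiLocalization_surjective hbij.2
    have := Fintype.ofFinite (MaximalSpectrum B)
    exact ⟨MaximalSpectrum B, this, fun n => Localization.AtPrime n.asIdeal, inferInstance,
      fun n => inferInstance, ⟨RingEquiv.ofBijective _ hbij⟩⟩

end Groth.Agent.S17982.Aux

namespace Groth.Agent.S17982

/-- Let A be a local ring and B a commutative A-algebra which is finitely generated as an A-module. Then
B is ring-isomorphic to a finite product of local rings if and only if the canonical homomorphism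
from B to the product of the localizations of B at its maximal ideals is bijective. -/
theorem result
    (A : Type u) [CommRing A] [IsLocalRing A] (B : Type u) [CommRing B] [Algebra A B] [Module.Finite A B] :
    (∃ (ι : Type u) (_ : Fintype ι) (C : ι → Type u) (_ : ∀ j, CommRing (C j)),
        (∀ j, IsLocalRing (C j)) ∧ Nonempty (B ≃+* (∀ j, C j))) ↔
    Function.Bijective
      (RingHom.pi (fun n : MaximalSpectrum B => algebraMap B (Localization.AtPrime n.asIdeal))) := by
  exact Aux.main A B

end Groth.Agent.S17982
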