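import Groth.Statements.S17983
import Mathlib

set_option autoImplicit false
universe u
open WeilNum

namespace Groth.Agent.S17983.Aux

set_option autoImplicit false

open Polynomial Finset

/-- the `q`-reversal of an integer polynomial -/
noncomputable def qrev (P : ℤ[X]) (q : ℤ) : ℤ[X] :=
  ∑ j ∈ range (P.natDegree + 1), C (P.coeff j * q ^ j) * X ^ (P.natDegree - j)

theorem qrev_natDegree_le (P : ℤ[X]) (q : ℤ) : (qrev P q).natDegree ≤ P.natDegree := by
  apply natDegree_sum_le_of_forall_le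
  intro j _
  exact (natDegree_C_mul_X_pow_le _ _).trans (Nat.sub_le _ _)

theorem qrev_coeff (P : ℤ[X]) (q : ℤ) {j : ℕ} (hj : j ≤ P.natDegree) :
    (qrev P q).coeff (P.natDegree - j) = P.coeff j * q ^ j := by
  rw [qrev, finsetSum_coeff]
  rw [Finset.sum_eq_single j]
  · rw [coeff_C_mul_X_pow, if_pos rfl]
  · intro i hi hij
    rw [coeff_C_mul_X_pow, if_neg]
    have := Finset.mem_range.mp hi
    omega
  · intro h
    exact absurd (Finset.mem_range.mpr (by omega)) h

theorem qrev_aeval (P : ℤ[X]) (q : ℤ) (z : ℂ) (hz : z ≠ 0) :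
    aeval z (qrev P q) = z ^ P.natDegree * aeval ((q : ℂ) / z) P := by
  rw [qrev, map_sum, aeval_eq_sum_range, Finset.mul_sum]
  apply Finset.sum_congr rfl
  intro j hj
  have hj' : j ≤ P.natDegree := by have := Finset.mem_range.mp hj; omega
  rw [map_mul, aeval_C, map_pow, aeval_X, Algebra.smul_def, div_pow]
  have : z ^ P.natDegree = z ^ (P.natDegree - j) * z ^ j := by
    rw [← pow_add, Nat.sub_add_cancel hj']
  rw [this]
  have hzj : z ^ j ≠ 0 := pow_ne_zero j hz
  simp only [eq_intCast, Int.cast_mul, Int.cast_pow]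
  field_simp

/-- conjugate of a root of an integer polynomial is a root -/
theorem aeval_conj_int (P : ℤ[X]) (z : ℂ) (hz : aeval z P = 0) :
    aeval ((starRingEnd ℂ) z) P = 0 := by
  have hm : ∀ w : ℂ, aeval w (P.map (algebraMap ℤ ℝ)) = aeval w P := fun w =>
    aeval_map_algebraMap ℝ w P
  have h2 := Polynomial.aeval_conj (P.map (algebraMap ℤ ℝ)) z
  rw [hm, hm, hz, map_zero] at h2
  exact h2

theorem star_key (P : ℤ[X]) (hirr : Irreducible P) (hmon : P.Monic) (q : ℤ) (hq : 0 < q)
    (z : ℂ) (hz : aeval z P = 0) (hnorm : ‖z‖ ^ 2 = (q : ℝ)) :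
    ∀ j ≤ P.natDegree, P.coeff j * q ^ j = P.coeff 0 * P.coeff (P.natDegree - j) := by
  have hz0 : z ≠ 0 := by
    intro h
    rw [h, norm_zero] at hnorm
    have : (q : ℝ) = 0 := by rw [← hnorm]; norm_num
    have : q = 0 := by exact_mod_cast this
    omega
  -- q / z = conj z
  have hconj : (q : ℂ) / z = (starRingEnd ℂ) z := by
    rw [div_eq_iff hz0, mul_comm, Complex.mul_conj, Complex.normSq_eq_norm_sq, hnorm]
    simp
  have hQz : aeval z (qrev P q) = 0 := by
    rw [qrev_aeval P q z hz0, hconj, aeval_conj_int P z hz, mul_zero]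
  -- P is the minimal polynomial of z
  have hzint : IsIntegral ℤ z := ⟨P, hmon, by rw [← aeval_def]; exact hz⟩
  have hdvd1 : minpoly ℤ z ∣ P := minpoly.isIntegrallyClosed_dvd hzint hz
  have hPeq : P = minpoly ℤ z := by
    obtain ⟨c, hc⟩ := hdvd1
    have hnu : ¬ IsUnit (minpoly ℤ z) := minpoly.not_isUnit ℤ z
    have hcu : IsUnit c := (hirr.isUnit_or_isUnit hc).resolve_left hnu
    have hmon' : (minpoly ℤ z).Monic := minpoly.monic hzint
    -- c is a unit constant, and leading coefficients force c = 1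
    obtain ⟨u, hu⟩ := Polynomial.isUnit_iff.mp hcu
    rw [← hu.2] at hc
    have hlead := congrArg leadingCoeff hc
    rw [leadingCoeff_mul, hmon.leadingCoeff, hmon'.leadingCoeff, leadingCoeff_C, one_mul] at hlead
    rw [hc, ← hlead, C_1, mul_one]
  have hdvd : P ∣ qrev P q := by
    rw [hPeq]
    refine minpoly.isIntegrallyClosed_dvd hzint ?_
    rw [← hPeq]; exact hQz
  obtain ⟨c, hc⟩ := hdvd
  have hP0 : P ≠ 0 := hmon.ne_zero
  -- c is constant
  by_cases hc0 : c = 0
  · -- then qrev = 0, so every coefficient vanishes, contradiction with monic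
    rw [hc0, mul_zero] at hc
    have := qrev_coeff P q (le_refl P.natDegree)
    rw [hc, coeff_zero, hmon.coeff_natDegree, one_mul] at this
    have hq' : q ^ P.natDegree ≠ 0 := pow_ne_zero _ (by omega)
    exact absurd this.symm hq'
  have hdeg : c.natDegree = 0 := by
    have h1 := qrev_natDegree_le P q
    rw [hc, natDegree_mul hP0 hc0] at h1
    omega
  obtain ⟨c0, rfl⟩ : ∃ c0, c = C c0 := ⟨c.coeff 0, eq_C_of_natDegree_eq_zero hdeg⟩
  have hc0' : c0 = P.coeff 0 := by
    have := qrev_coeff P q (Nat.zero_le P.natDegree)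
    rw [hc, Nat.sub_zero, coeff_mul_C, hmon.coeff_natDegree, one_mul, pow_zero, mul_one] at this
    exact this
  intro j hj
  have := qrev_coeff P q hj
  rw [hc, coeff_mul_C, hc0'] at this
  rw [← this, mul_comm]

theorem pos_of_no_real_root (f : ℝ[X]) (hmon : f.Monic) (hdeg : 0 < f.natDegree)
    (hno : ∀ x : ℝ, f.eval x ≠ 0) : (∀ x, 0 < f.eval x) ∧ Even f.natDegree := by
  have hdeg' : 0 < f.degree := natDegree_pos_iff_degree_pos.mp hdeg
  have htop : Filter.Tendsto (fun x => f.eval x) Filter.atTop Filter.atTop :=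
    f.tendsto_atTop_of_leadingCoeff_nonneg hdeg' (by rw [hmon.leadingCoeff]; norm_num)
  obtain ⟨x₁, hx₁⟩ := (htop.eventually_gt_atTop 0).exists
  have hpos : ∀ x, 0 < f.eval x := by
    intro x
    by_contra hx
    have hx' : f.eval x < 0 := lt_of_le_of_ne (not_lt.mp hx) (hno x)
    have hcont : ContinuousOn (fun t => f.eval t) (Set.uIcc x x₁) := f.continuous.continuousOn
    have h0 : (0 : ℝ) ∈ Set.uIcc (f.eval x) (f.eval x₁) := by
      rw [Set.mem_uIcc]; left; exact ⟨hx'.le, hx₁.le⟩
    obtain ⟨t, _, ht⟩ := intermediate_value_uIcc hcont h0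
    exact hno t ht
  refine ⟨hpos, ?_⟩
  by_contra hodd
  rw [Nat.not_even_iff_odd] at hodd
  set g : ℝ[X] := f.comp (-X) with hg
  have hgd : g.natDegree = f.natDegree := by
    rw [hg, natDegree_comp, natDegree_neg, natDegree_X, mul_one]
  have hgl : g.leadingCoeff = -1 := by
    rw [hg, leadingCoeff_comp (by rw [natDegree_neg, natDegree_X]; norm_num), hmon.leadingCoeff,
      leadingCoeff_neg, leadingCoeff_X, hodd.neg_one_pow, one_mul]
  have hgdeg : 0 < g.degree := natDegree_pos_iff_degree_pos.mp (by rw [hgd]; exact hdeg)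
  have hbot : Filter.Tendsto (fun x => g.eval x) Filter.atTop Filter.atBot :=
    g.tendsto_atBot_of_leadingCoeff_nonpos hgdeg (by rw [hgl]; norm_num)
  obtain ⟨x₂, hx₂⟩ := (hbot.eventually_lt_atBot 0).exists
  have : g.eval x₂ = f.eval (-x₂) := by rw [hg, eval_comp, eval_neg, eval_X]
  rw [this] at hx₂
  exact absurd (hpos (-x₂)) (not_lt.mpr hx₂.le)

theorem main (p e : ℕ) [Fact p.Prime] (he : 0 < e)
    (K : Type*) [Field K] [CharZero K] (π : K) (hπ : IsIntegral ℤ π)
    (hweil : ∀ z ∈ (minpoly ℤ π).aroots ℂ, ‖z‖ = Real.sqrt ((p : ℝ) ^ e))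
    (hnr : ∀ z ∈ (minpoly ℤ π).aroots ℂ, z.im ≠ 0) :
    Even (minpoly ℤ π).natDegree ∧
      ∀ r ≤ (minpoly ℤ π).natDegree / 2,
        (minpoly ℤ π).coeff ((minpoly ℤ π).natDegree / 2 - r) =
          (p : ℤ) ^ (e * r) * (minpoly ℤ π).coeff ((minpoly ℤ π).natDegree / 2 + r) := by
  set P := minpoly ℤ π with hP
  have hmon : P.Monic := minpoly.monic hπ
  have hirr : Irreducible P := minpoly.irreducible hπ
  have hdeg : 0 < P.natDegree := minpoly.natDegree_pos hπ
  have hP0 : P ≠ 0 := hmon.ne_zero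
  have hp0 : 0 < p := (Fact.out : p.Prime).pos
  set q : ℤ := (p : ℤ) ^ e with hq
  have hqpos : 0 < q := by rw [hq]; positivity
  -- a complex root
  obtain ⟨z, hz⟩ : ∃ z : ℂ, aeval z P = 0 := by
    have hd : 0 < (P.map (algebraMap ℤ ℂ)).degree := by
      rw [degree_map_eq_of_injective (by exact Int.cast_injective)]
      exact natDegree_pos_iff_degree_pos.mp hdeg
    obtain ⟨z, hz⟩ := Complex.exists_root hd
    exact ⟨z, by rw [← eval_map_algebraMap]; exact hz⟩
  have hzmem : z ∈ P.aroots ℂ := (mem_aroots.mpr ⟨hP0, hz⟩)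
  have hnorm : ‖z‖ ^ 2 = (q : ℝ) := by
    rw [hweil z hzmem, Real.sq_sqrt (by positivity), hq]
    push_cast; rfl
  have hstar := star_key P hirr hmon q hqpos z hz hnorm
  -- real polynomial
  set f : ℝ[X] := P.map (algebraMap ℤ ℝ) with hf
  have hfmon : f.Monic := hmon.map _
  have hfdeg : f.natDegree = P.natDegree := hmon.natDegree_map _
  have hfno : ∀ x : ℝ, f.eval x ≠ 0 := by
    intro x hx
    have h1 : aeval x P = 0 := by rw [← eval_map_algebraMap]; exact hx
    have h2 : aeval (algebraMap ℝ ℂ x) P = 0 := by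
      rw [aeval_algebraMap_apply, h1, map_zero]
    have h3 : (algebraMap ℝ ℂ x) ∈ P.aroots ℂ := mem_aroots.mpr ⟨hP0, h2⟩
    exact hnr _ h3 (by simp)
  obtain ⟨hpos, heven⟩ := pos_of_no_real_root f hfmon (by rw [hfdeg]; exact hdeg) hfno
  rw [hfdeg] at heven
  refine ⟨heven, ?_⟩
  have ha0 : 0 < P.coeff 0 := by
    have := hpos 0
    rw [← coeff_zero_eq_eval_zero, hf, coeff_map, eq_intCast] at this
    exact_mod_cast this
  obtain ⟨d, hd⟩ := heven
  have hd2 : P.natDegree / 2 = d := by omega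
  rw [hd2]
  -- a₀ = q ^ d
  have ha0q : P.coeff 0 = q ^ d := by
    have h := hstar P.natDegree le_rfl
    rw [hmon.coeff_natDegree, one_mul, Nat.sub_self, hd, ← two_mul, pow_mul, ← sq] at h
    have h' : (q ^ d) ^ 2 = (P.coeff 0) ^ 2 := by rw [← h]; ring
    exact ((pow_left_inj₀ (by positivity) ha0.le (by norm_num)).mp h').symm
  intro r hr
  have h := hstar (d + r) (by omega)
  have hsub : P.natDegree - (d + r) = d - r := by omega
  rw [hsub, ha0q, pow_add] at h
  have hqd : q ^ d ≠ 0 := pow_ne_zero _ (by omega)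
  have : q ^ d * (P.coeff (d - r)) = q ^ d * (q ^ r * P.coeff (d + r)) := by
    rw [← h]; ring
  have h2 := mul_left_cancel₀ hqd this
  rw [h2, hq, ← pow_mul]

end Groth.Agent.S17983.Aux

namespace Groth.Agent.S17983

/-- Let p be a prime number, e ≥ 1 and q = p^e. Let π be an element of a field of characteristic zero
which is integral over ℤ, with minimal polynomial P over ℤ, and assume that every complex root of P
has absolute value √q and that no complex root of P is real (π is a nonreal Weil q-number). Then the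
degree of P is even, say 2d, and writing a_j for the coefficient of x^j in P one has a_{d−r} = q^r ·
a_{d+r} for every 0 ≤ r ≤ d. -/
theorem result (p e : ℕ) [Fact p.Prime] (he : 0 < e)
    (K : Type u) [Field K] [CharZero K] (π : K) (hπ : IsIntegral ℤ π)
    (hweil : ∀ z ∈ (minpoly ℤ π).aroots ℂ, ‖z‖ = Real.sqrt ((p : ℝ) ^ e))
    (hnr : ∀ z ∈ (minpoly ℤ π).aroots ℂ, z.im ≠ 0) :
    Even (minpoly ℤ π).natDegree ∧
      ∀ r ≤ (minpoly ℤ π).natDegree / 2,
        (minpoly ℤ π).coeff ((minpoly ℤ π).natDegree / 2 - r) =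
          (p : ℤ) ^ (e * r) * (minpoly ℤ π).coeff ((minpoly ℤ π).natDegree / 2 + r) := by
  exact Aux.main p e he K π hπ hweil hnr

end Groth.Agent.S17983
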