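import Groth.Statements.S17984
import Groth.Agent.Lib.Helper1.WeilCI.Ker
import Groth.Agent.Lib.Helper1.WeilCI.Weil

set_option autoImplicit false
universe u
open MvPolynomial
open WeilNum

namespace Groth.Agent.S17984

/-- Let p be a prime, e ≥ 1 and q = p^e. Let (π_i) be a finite family of pairwise nonconjugate Weil
q-numbers: π_i is an element of a field K_i of characteristic zero, integral over ℤ with minimal
polynomial P_i, every complex root of P_i has absolute value √q, and P_i ≠ P_j for i ≠ j. Suppose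
the total degree Σ_i deg P_i is even, equal to 2D (equivalently, the family contains either none or
both of the rational Weil q-numbers ±q^{1/2}). Put P_w = ∏_i P_i and let h ∈ ℤ[F, V] (F = X_0, V =
X_1) be any polynomial with F^D · h ≡ P_w(F) modulo FV − q; such an h exists, is unique modulo FV −
q, and the product of the symmetric polynomials h_{π_i} is one. Then the kernel of the ring map ℤ[F,
V] → ∏_i K_i, F ↦ (π_i), V ↦ (q/π_i), whose image is the minimal central order R_w, is the ideal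
generated by FV − q and h, and (FV − q, h) is a regular sequence in ℤ[F, V]: R_w is the complete
intersection ℤ[F, V]/(FV − q, h). -/
theorem result (p e : ℕ) [Fact p.Prime] (he : 0 < e)
    (ι : Type) [Fintype ι] (K : ι → Type u) [∀ i, Field (K i)] [∀ i, CharZero (K i)] (π : ∀ i, K i)
    (hint : ∀ i, IsIntegral ℤ (π i))
    (hweil : ∀ i, ∀ z ∈ (minpoly ℤ (π i)).aroots ℂ, ‖z‖ = Real.sqrt ((p : ℝ) ^ e))
    (hinj : ∀ i j, minpoly ℤ (π i) = minpoly ℤ (π j) → i = j)
    (D : ℕ) (hD : ∑ i, (minpoly ℤ (π i)).natDegree = 2 * D)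
    (h : MvPolynomial (Fin 2) ℤ)
    (hh : X 0 ^ D * h - Polynomial.aeval (X 0 : MvPolynomial (Fin 2) ℤ) (∏ i, minpoly ℤ (π i)) ∈
      Ideal.span ({X 0 * X 1 - C ((p : ℤ) ^ e)} : Set (MvPolynomial (Fin 2) ℤ))) :
    RingHom.ker (MvPolynomial.aeval ![fun i => π i, fun i => ((p : K i) ^ e) / π i] :
        MvPolynomial (Fin 2) ℤ →ₐ[ℤ] ((i : ι) → K i)) =
        Ideal.span {X 0 * X 1 - C ((p : ℤ) ^ e), h} ∧
      RingTheory.Sequence.IsWeaklyRegular (MvPolynomial (Fin 2) ℤ) [X 0 * X 1 - C ((p : ℤ) ^ e), h] := by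
    classical
    -- notation
    set n : ℕ := p ^ e with hn
    have : NeZero n := ⟨pow_ne_zero e (Fact.out : p.Prime).ne_zero⟩
    have hq : ((p : ℤ) ^ e) = (n : ℤ) := by rw [hn]; push_cast; rfl
    rw [hq] at hh ⊢
    have hn0 : (n : ℤ) ≠ 0 := by exact_mod_cast NeZero.ne n
    have hnpos : (0 : ℝ) < Real.sqrt (n : ℝ) := by
      apply Real.sqrt_pos.mpr
      exact_mod_cast Nat.pos_of_ne_zero (NeZero.ne n)
    have hweil' : ∀ i, ∀ z ∈ (minpoly ℤ (π i)).aroots ℂ, ‖z‖ = Real.sqrt (n : ℝ) := by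
      intro i z hz
      rw [hweil i z hz, hn]; push_cast; rfl
    have hπ0 : ∀ i, π i ≠ 0 := fun i =>
      Lib.Helper1.WeilCI.ne_zero_of_weil (π i) (hint i) _ (hweil' i) hnpos
    set Pw : Polynomial ℤ := ∏ i, minpoly ℤ (π i) with hPw
    have hmonic : Pw.Monic := Lib.Helper1.WeilCI.monic_prod K π hint
    have hdeg : Pw.natDegree = 2 * D := by rw [hPw, Lib.Helper1.WeilCI.natDegree_prod K π hint, hD]
    have hc0 := Lib.Helper1.WeilCI.coeff_zero_prod K π hint n D hweil' hD
    set φ : MvPolynomial (Fin 2) ℤ →ₐ[ℤ] ((i : ι) → K i) :=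
      MvPolynomial.aeval ![fun i => π i, fun i => ((p : K i) ^ e) / π i] with hφ
    have hφ0 : φ (X 0) = fun i => π i := by simp [hφ]
    have hφ1 : φ (X 1) = fun i => ((p : K i) ^ e) / π i := by simp [hφ]
    have hφQ : φ (Lib.Helper1.WeilCI.Qp (n : ℤ)) = 0 := by
      rw [Lib.Helper1.WeilCI.Qp, map_sub, map_mul, hφ0, hφ1, MvPolynomial.algHom_C]
      funext i
      have h1 : (algebraMap ℤ ((i : ι) → K i) (n : ℤ)) i = (p : K i) ^ e := by
        rw [Pi.algebraMap_apply, eq_intCast, hn]; push_cast; rfl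
      rw [Pi.sub_apply, Pi.mul_apply, h1, Pi.zero_apply, mul_div_cancel₀ _ (hπ0 i), sub_self]
    have hφa : ∀ (g : Polynomial ℤ) (i : ι),
        φ (Polynomial.aeval (X 0 : MvPolynomial (Fin 2) ℤ) g) i = Polynomial.aeval (π i) g := by
      intro g i
      rw [← Polynomial.aeval_algHom_apply, hφ0]
      have := Polynomial.aeval_algHom_apply (Pi.evalAlgHom ℤ K i) (fun i => π i) g
      simpa using this.symm
    have hPwπ : ∀ i, Polynomial.aeval (π i) Pw = 0 := by
      intro i
      rw [hPw, map_prod]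
      exact Finset.prod_eq_zero (Finset.mem_univ i) (minpoly.aeval ℤ (π i))
    have hφh : φ h = 0 := by
      obtain ⟨k, hk⟩ := Ideal.mem_span_singleton'.mp hh
      have h1 := congrArg φ hk
      rw [map_mul, hφQ, mul_zero, map_sub, map_mul, map_pow, hφ0] at h1
      funext i
      have h2 := congrFun h1 i
      simp only [Pi.zero_apply, Pi.sub_apply, Pi.mul_apply, Pi.pow_apply] at h2
      rw [hφa, hPwπ, sub_zero] at h2
      rcases mul_eq_zero.mp h2.symm with h3 | h3
      · exact absurd h3 (pow_ne_zero D (hπ0 i))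
      · exact h3
    refine ⟨?_, Lib.Helper1.WeilCI.weaklyRegular n D Pw h hh hmonic.ne_zero⟩
    apply le_antisymm
    · -- ker ≤ span
      intro f hf
      rw [RingHom.mem_ker] at hf
      obtain ⟨N, g, hg⟩ := Lib.Helper1.WeilCI.exists_pow_mul_sub_mem (n : ℤ) f
      obtain ⟨k, hk⟩ := Ideal.mem_span_singleton'.mp hg
      have hgi : ∀ i, Polynomial.aeval (π i) g = 0 := by
        intro i
        have h1 := congrArg φ hk
        rw [map_mul, hφQ, mul_zero, map_sub, map_mul] at h1
        have hf' : φ f = 0 := hf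
        rw [hf', mul_zero, zero_sub, zero_eq_neg] at h1
        have h2 := congrFun h1 i
        rw [hφa] at h2
        exact h2
      obtain ⟨g', hg'⟩ := Lib.Helper1.WeilCI.prod_dvd_of_aeval_eq_zero K π hint hinj g hgi
      apply Lib.Helper1.WeilCI.pow_regular_mod n D Pw hdeg hc0 h hh N
      have hQmem : Lib.Helper1.WeilCI.Qp (n : ℤ) ∈ Ideal.span {Lib.Helper1.WeilCI.Qp (n : ℤ), h} :=
        Ideal.subset_span (Set.mem_insert _ _)
      have hhmem : h ∈ Ideal.span {Lib.Helper1.WeilCI.Qp (n : ℤ), h} :=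
        Ideal.subset_span (Set.mem_insert_of_mem _ rfl)
      have hle : Ideal.span {Lib.Helper1.WeilCI.Qp (n : ℤ)} ≤ Ideal.span {Lib.Helper1.WeilCI.Qp (n : ℤ), h} :=
        Ideal.span_mono (Set.singleton_subset_iff.mpr (Set.mem_insert _ _))
      have hPwmem : Polynomial.aeval (X 0 : MvPolynomial (Fin 2) ℤ) Pw ∈
          Ideal.span {Lib.Helper1.WeilCI.Qp (n : ℤ), h} := by
        have : Polynomial.aeval (X 0 : MvPolynomial (Fin 2) ℤ) Pw =
            X 0 ^ D * h - (X 0 ^ D * h - Polynomial.aeval (X 0 : MvPolynomial (Fin 2) ℤ) Pw) := by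
          ring
        rw [this]
        exact Ideal.sub_mem _ (Ideal.mul_mem_left _ _ hhmem) (hle hh)
      have : X 0 ^ N * f = (X 0 ^ N * f - Polynomial.aeval (X 0 : MvPolynomial (Fin 2) ℤ) g) +
          Polynomial.aeval (X 0 : MvPolynomial (Fin 2) ℤ) g' *
            Polynomial.aeval (X 0 : MvPolynomial (Fin 2) ℤ) Pw := by
        rw [hg', map_mul]; ring
      rw [this]
      exact Ideal.add_mem _ (hle hg) (Ideal.mul_mem_left _ _ hPwmem)
    · -- span ≤ ker
      rw [Ideal.span_le]
      intro x hx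
      rcases hx with rfl | rfl
      · exact hφQ
      · exact hφh

end Groth.Agent.S17984
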