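import Groth.Statements.S17985
import Groth.Agent.S17984
import Groth.Agent.Lib.Helper1.WeilCI.FunEq
import Groth.Agent.Lib.Helper1.WeilCI.ExistsH
import Groth.Agent.Lib.Helper1.WeilCI.Order
import Groth.Agent.Lib.Helper1.WeilCI.Goren

set_option autoImplicit false
universe u
open MvPolynomial
open WeilNum

namespace Groth.Agent.S17985

/-- Let p be a prime, e ≥ 1 and q = p^e. Let (π_i) be a nonempty finite family of pairwise nonconjugate
Weil q-numbers: π_i is an element of a field K_i of characteristic zero, integral over ℤ with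
minimal polynomial P_i, every complex root of P_i has absolute value √q, and P_i ≠ P_j for i ≠ j.
Suppose the total degree Σ_i deg P_i is even, equal to 2D. Let R_w be the minimal central order, the
image of ℤ[F, V] → ∏_i K_i, F ↦ (π_i), V ↦ (q/π_i). Then R_w is free of rank 2D as a ℤ-module, has
Krull dimension 1, and is a Gorenstein ring (Noetherian, with all localizations at primes of finite
injective dimension over themselves). -/
theorem result (p e : ℕ) [Fact p.Prime] (he : 0 < e)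
    (ι : Type) [Fintype ι] (K : ι → Type u) [∀ i, Field (K i)] [∀ i, CharZero (K i)] (π : ∀ i, K i)
    (hint : ∀ i, IsIntegral ℤ (π i))
    (hweil : ∀ i, ∀ z ∈ (minpoly ℤ (π i)).aroots ℂ, ‖z‖ = Real.sqrt ((p : ℝ) ^ e))
    (hinj : ∀ i j, minpoly ℤ (π i) = minpoly ℤ (π j) → i = j)
    [Nonempty ι] (D : ℕ) (hD : ∑ i, (minpoly ℤ (π i)).natDegree = 2 * D) :
    Module.Free ℤ (MvPolynomial.aeval ![fun i => π i, fun i => ((p : K i) ^ e) / π i] :
        MvPolynomial (Fin 2) ℤ →ₐ[ℤ] ((i : ι) → K i)).range ∧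
      Module.finrank ℤ (MvPolynomial.aeval ![fun i => π i, fun i => ((p : K i) ^ e) / π i] :
        MvPolynomial (Fin 2) ℤ →ₐ[ℤ] ((i : ι) → K i)).range = 2 * D ∧
      ringKrullDim (MvPolynomial.aeval ![fun i => π i, fun i => ((p : K i) ^ e) / π i] :
        MvPolynomial (Fin 2) ℤ →ₐ[ℤ] ((i : ι) → K i)).range = 1 ∧
      LocCoh.IsGorensteinRing (MvPolynomial.aeval ![fun i => π i, fun i => ((p : K i) ^ e) / π i] :
        MvPolynomial (Fin 2) ℤ →ₐ[ℤ] ((i : ι) → K i)).range := by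
    classical
    set n : ℕ := p ^ e with hn
    have hnpos' : 0 < n := pow_pos (Fact.out : p.Prime).pos e
    have : NeZero n := ⟨hnpos'.ne'⟩
    have hnpos : (0 : ℝ) < Real.sqrt (n : ℝ) := by
      apply Real.sqrt_pos.mpr
      exact_mod_cast hnpos'
    have hweil' : ∀ i, ∀ z ∈ (minpoly ℤ (π i)).aroots ℂ, ‖z‖ = Real.sqrt (n : ℝ) := by
      intro i z hz
      rw [hweil i z hz, hn]; push_cast; rfl
    have hπ0 : ∀ i, π i ≠ 0 := fun i =>
      Lib.Helper1.WeilCI.ne_zero_of_weil (π i) (hint i) _ (hweil' i) hnpos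
    set Pw : Polynomial ℤ := ∏ i, minpoly ℤ (π i) with hPw
    have hmonic : Pw.Monic := Lib.Helper1.WeilCI.monic_prod K π hint
    have hdeg : Pw.natDegree = 2 * D := by rw [hPw, Lib.Helper1.WeilCI.natDegree_prod K π hint, hD]
    have hc0 := Lib.Helper1.WeilCI.coeff_zero_prod K π hint n D hweil' hD
    have hroot : ∀ i, Polynomial.aeval (π i) Pw = 0 := by
      intro i
      rw [hPw, map_prod]
      exact Finset.prod_eq_zero (Finset.mem_univ i) (minpoly.aeval ℤ (π i))
    have hker := Lib.Helper1.WeilCI.prod_dvd_of_aeval_eq_zero K π hint hinj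
    -- roots of Pw
    have hwPw : ∀ z ∈ Pw.aroots ℂ, ‖z‖ = Real.sqrt (n : ℝ) := by
      intro z hz
      rw [Polynomial.mem_aroots] at hz
      have h1 : ∏ i, Polynomial.aeval z (minpoly ℤ (π i)) = 0 := by
        rw [← map_prod]; exact hz.2
      obtain ⟨i, -, hi⟩ := Finset.prod_eq_zero_iff.mp h1
      exact hweil' i z (Polynomial.mem_aroots.mpr ⟨(minpoly.monic (hint i)).ne_zero, hi⟩)
    have hFE : ∀ j ≤ 2 * D, Pw.coeff j * (n : ℤ) ^ j = Pw.coeff 0 * Pw.coeff (2 * D - j) := by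
      intro j hj
      have := Lib.Helper1.WeilCI.funEq Pw hmonic n hnpos' hwPw j (by rw [hdeg]; exact hj)
      rwa [hdeg] at this
    obtain ⟨ε, hε⟩ : ∃ ε : ℤ, Pw.coeff 0 = ε * (n : ℤ) ^ D := by
      rcases hc0 with h | h
      · exact ⟨1, by rw [h, one_mul]⟩
      · exact ⟨-1, by rw [h]; ring⟩
    obtain ⟨h, hh⟩ := Lib.Helper1.WeilCI.exists_h n hnpos' D Pw hdeg ε hε hFE
    -- the second coordinate
    set v : ∀ i, K i := fun i => ((p : K i) ^ e) / π i with hv
    have hπv : ∀ i, π i * v i = (n : K i) := by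
      intro i
      rw [hv, mul_div_cancel₀ _ (hπ0 i), hn]; push_cast; rfl
    have hq : ((p : ℤ) ^ e) = (n : ℤ) := by rw [hn]; push_cast; rfl
    -- S17984
    have hh' : X 0 ^ D * h - Polynomial.aeval (X 0 : MvPolynomial (Fin 2) ℤ) (∏ i, minpoly ℤ (π i)) ∈
        Ideal.span ({X 0 * X 1 - C ((p : ℤ) ^ e)} : Set (MvPolynomial (Fin 2) ℤ)) := by
      rw [hq]; exact hh
    obtain ⟨hkerφ, hW⟩ := Groth.Agent.S17984.result p e he ι K π hint hweil hinj D hD h hh'
    change Module.Free ℤ (Lib.Helper1.WeilCI.phi K π v).range ∧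
      Module.finrank ℤ (Lib.Helper1.WeilCI.phi K π v).range = 2 * D ∧
      ringKrullDim (Lib.Helper1.WeilCI.phi K π v).range = 1 ∧
      LocCoh.IsGorensteinRing (Lib.Helper1.WeilCI.phi K π v).range
    have hfin := Lib.Helper1.WeilCI.finite_range K π v n hπv hπ0 Pw hmonic D hdeg hFE hroot
    refine ⟨inferInstance,
      Lib.Helper1.WeilCI.finrank_range K π v n hπv hπ0 Pw hmonic D hdeg hFE hroot hker,
      Lib.Helper1.WeilCI.ringKrullDim_range K π v n hπv hπ0 Pw hmonic D hdeg hFE hroot, ?_⟩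
    -- Gorenstein
    have hkerφ' : RingHom.ker (Lib.Helper1.WeilCI.phi K π v) =
        Ideal.span {X 0 * X 1 - C ((p : ℤ) ^ e), h} := hkerφ
    let F1 : (MvPolynomial (Fin 2) ℤ ⧸ Ideal.span {X 0 * X 1 - C ((p : ℤ) ^ e), h}) ≃+*
        (MvPolynomial (Fin 2) ℤ ⧸ RingHom.ker (Lib.Helper1.WeilCI.phi K π v)) :=
      Ideal.quotEquivOfEq hkerφ'.symm
    let F2 : (MvPolynomial (Fin 2) ℤ ⧸ RingHom.ker (Lib.Helper1.WeilCI.phi K π v)) ≃+*
        (Lib.Helper1.WeilCI.phi K π v).range :=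
      (Ideal.quotientKerEquivRange (Lib.Helper1.WeilCI.phi K π v)).toRingEquiv
    let E : MvPolynomial (Fin 2) ℤ ≃+* MvPolynomial (ULift.{u} (Fin 2)) ℤ :=
      (MvPolynomial.renameEquiv ℤ Equiv.ulift.symm).toRingEquiv
    exact Lib.Helper1.WeilCI.gorenstein_quot_of_ringEquiv E _ _ hW (F1.trans F2)

end Groth.Agent.S17985
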