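import Groth.Statements.S17987
import Groth.Agent.S17983
import Groth.Agent.FunFld.PadicUnitRoots

set_option autoImplicit false
universe u
open scoped Classical
open WeilNum

namespace Groth.Agent.S17987

/-- Let p be a prime, e ≥ 1 and q = p^e, and let (π_i) be a finite family of nonreal Weil q-numbers: π_i
lies in a field K_i of characteristic zero, is integral over ℤ with minimal polynomial P_i, every
complex root of P_i has absolute value √q, and no complex root of P_i is real; in particular deg P_i
= 2d_i is even. Call π_i ordinary when exactly half of the roots of P_i in an algebraic closure of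
ℚ_p, counted with multiplicity, are p-adic units (have absolute value 1). Then all π_i are ordinary
if and only if p does not divide ∏_i a_{d_i}, the product of the middle coefficients of the P_i
(this product is the value at F = V = 0 of the symmetric polynomial h_w of the family). -/
theorem result (p e : ℕ) [Fact p.Prime] (he : 0 < e)
    (ι : Type) [Fintype ι] (K : ι → Type u) [∀ i, Field (K i)] [∀ i, CharZero (K i)] (π : ∀ i, K i)
    (hint : ∀ i, IsIntegral ℤ (π i))
    (hweil : ∀ i, ∀ z ∈ (minpoly ℤ (π i)).aroots ℂ, ‖z‖ = Real.sqrt ((p : ℝ) ^ e))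
    (hnr : ∀ i, ∀ z ∈ (minpoly ℤ (π i)).aroots ℂ, z.im ≠ 0) :
    (∀ i, 2 * Multiset.card (((minpoly ℤ (π i)).aroots (PadicAlgCl p)).filter (fun z => ‖z‖ = 1)) = (minpoly ℤ (π i)).natDegree) ↔
      ¬ ((p : ℤ) ∣ ∏ i, (minpoly ℤ (π i)).coeff ((minpoly ℤ (π i)).natDegree / 2)) := by
  have hpp : Prime (p : ℤ) := Nat.prime_iff_prime_int.mp Fact.out
  rw [Prime.dvd_finsetProd_iff hpp]
  have key : ∀ i, (2 * Multiset.card (((minpoly ℤ (π i)).aroots (PadicAlgCl p)).filter (fun z => ‖z‖ = 1)) = (minpoly ℤ (π i)).natDegree ↔
      ¬ ((p : ℤ) ∣ (minpoly ℤ (π i)).coeff ((minpoly ℤ (π i)).natDegree / 2))) := by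
    intro i
    obtain ⟨heven, hsym⟩ := Groth.Agent.S17983.Aux.main p e he (K i) (π i) (hint i) (hweil i) (hnr i)
    obtain ⟨hu, hA, hB⟩ := Groth.Agent.FunFld.PadicUnitRoots.main p (minpoly ℤ (π i))
      (minpoly.monic (hint i))
    generalize Multiset.card (((minpoly ℤ (π i)).aroots (PadicAlgCl p)).filter (fun z => ‖z‖ = 1)) = u at hu hA hB ⊢
    generalize minpoly ℤ (π i) = P at heven hsym hu hA hB ⊢
    obtain ⟨d, hd⟩ := heven
    have hd2 : P.natDegree / 2 = d := by omega
    rw [hd2] at hsym ⊢
    constructor
    · intro h2u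
      have h3 : P.natDegree - u = d := by omega
      rwa [h3] at hA
    · intro hnd
      have h1 : ¬ d < P.natDegree - u := fun hlt => hnd (hB d hlt)
      have h2 : ¬ P.natDegree - u < d := by
        intro hlt
        apply hA
        have hr := hsym (d - (P.natDegree - u)) (by omega)
        have e1 : d - (d - (P.natDegree - u)) = P.natDegree - u := by omega
        rw [e1] at hr
        rw [hr]
        apply Dvd.dvd.mul_right
        apply dvd_pow_self
        have : 0 < e * (d - (P.natDegree - u)) := Nat.mul_pos he (by omega)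
        omega
      omega
  constructor
  · rintro h ⟨i, _, hi⟩
    exact (key i).mp (h i) hi
  · intro h i
    exact (key i).mpr (fun hi => h ⟨i, Finset.mem_univ i, hi⟩)

end Groth.Agent.S17987
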