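import Groth.Statements.S17986
import Groth.Agent.S17984
import Groth.Agent.S17983
import Groth.Agent.S17987
import Groth.Agent.Lib.Helper1.WeilCI.FunEq
import Groth.Agent.FunFld.WeilOrd.GorOrd
import Groth.Agent.FunFld.WeilOrd.NonGor
import Groth.Agent.FunFld.WeilOrd.WeilFacts

set_option autoImplicit false
universe u
open MvPolynomial
open scoped Classical
open WeilNum

namespace Groth.Agent.S17986

/-- Let p be a prime, e ≥ 1, and assume q = p^e = s² for an integer s (of either sign; s is then a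
rational Weil q-number). Let (π_i) be a finite family of pairwise nonconjugate nonrational Weil
q-numbers: π_i lies in a field K_i of characteristic zero, is integral over ℤ with minimal
polynomial P_i of degree different from 1, every complex root of P_i has absolute value √q, and P_i
≠ P_j for i ≠ j (since q is a square these π_i are nonreal, so Σ_i deg P_i = 2D is even). Put P_v =
∏_i P_i and let h ∈ ℤ[F, V] (F = X_0, V = X_1) be any polynomial with F^D · h ≡ P_v(F) modulo FV −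
q. Consider the ring map ℤ[F, V] → (∏_i K_i) × ℚ sending F to ((π_i)_i, s) and V to ((q/π_i)_i, s);
its image R_w is the minimal central order of the family enlarged by s. Then: (1) its kernel is the
ideal generated by FV − q, h · (F − s) and h · (V − s); (2) R_w is a Gorenstein ring if and only if
every π_i is ordinary, meaning that exactly half of the roots of P_i in an algebraic closure of ℚ_p,
counted with multiplicity, are p-adic units. -/
theorem result (p e : ℕ) [Fact p.Prime] (he : 0 < e)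
    (s : ℤ) (hs : s ^ 2 = (p : ℤ) ^ e)
    (ι : Type) [Fintype ι] (K : ι → Type u) [∀ i, Field (K i)] [∀ i, CharZero (K i)] (π : ∀ i, K i)
    (hint : ∀ i, IsIntegral ℤ (π i)) (hdeg : ∀ i, (minpoly ℤ (π i)).natDegree ≠ 1)
    (hweil : ∀ i, ∀ z ∈ (minpoly ℤ (π i)).aroots ℂ, ‖z‖ = Real.sqrt ((p : ℝ) ^ e))
    (hinj : ∀ i j, minpoly ℤ (π i) = minpoly ℤ (π j) → i = j)
    (D : ℕ) (hD : ∑ i, (minpoly ℤ (π i)).natDegree = 2 * D)
    (h : MvPolynomial (Fin 2) ℤ)
    (hh : X 0 ^ D * h - Polynomial.aeval (X 0 : MvPolynomial (Fin 2) ℤ) (∏ i, minpoly ℤ (π i)) ∈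
      Ideal.span ({X 0 * X 1 - C ((p : ℤ) ^ e)} : Set (MvPolynomial (Fin 2) ℤ))) :
    RingHom.ker (MvPolynomial.aeval ![(⟨fun i => π i, (s : ℚ)⟩ : ((i : ι) → K i) × ℚ), ⟨fun i => ((p : K i) ^ e) / π i, (s : ℚ)⟩] :
        MvPolynomial (Fin 2) ℤ →ₐ[ℤ] (((i : ι) → K i) × ℚ)) =
        Ideal.span {X 0 * X 1 - C ((p : ℤ) ^ e), h * (X 0 - C s), h * (X 1 - C s)} ∧
      (LocCoh.IsGorensteinRing (MvPolynomial.aeval ![(⟨fun i => π i, (s : ℚ)⟩ : ((i : ι) → K i) × ℚ), ⟨fun i => ((p : K i) ^ e) / π i, (s : ℚ)⟩] :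
        MvPolynomial (Fin 2) ℤ →ₐ[ℤ] (((i : ι) → K i) × ℚ)).range ↔
        ∀ i, 2 * Multiset.card (((minpoly ℤ (π i)).aroots (PadicAlgCl p)).filter (fun z => ‖z‖ = 1)) = (minpoly ℤ (π i)).natDegree) := by
  classical
  set q : ℤ := (p : ℤ) ^ e with hq
  have hp1 : (Fact.out : p.Prime).pos = (Fact.out : p.Prime).pos := rfl
  have hppos : 0 < p := (Fact.out : p.Prime).pos
  have hq0 : q ≠ 0 := pow_ne_zero e (by exact_mod_cast hppos.ne')
  have hpq : (p : ℤ) ∣ q := dvd_pow_self _ he.ne'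
  -- nonreal
  have hsqrt : Real.sqrt ((p : ℝ) ^ e) = |(s : ℝ)| := by
    have h1 : ((p : ℝ) ^ e) = (s : ℝ) ^ 2 := by
      have h2 : ((q : ℤ) : ℝ) = ((s ^ 2 : ℤ) : ℝ) := by rw [hs]
      rw [hq] at h2
      push_cast at h2
      exact h2
    rw [h1, Real.sqrt_sq_eq_abs]
  have hnr : ∀ i, ∀ z ∈ (minpoly ℤ (π i)).aroots ℂ, z.im ≠ 0 := fun i z hz =>
    Groth.Agent.FunFld.WeilOrd.im_ne_zero_of_sq (π i) (hint i) (hdeg i) s z hz
      (by rw [hweil i z hz, hsqrt])
  obtain ⟨hkerv, hW⟩ := Groth.Agent.S17984.result p e he ι K π hint hweil hinj D hD h hh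
  have hmain := fun i =>
    Groth.Agent.S17983.Aux.main p e he (K i) (π i) (hint i) (hweil i) (hnr i)
  -- half degrees
  set d : ι → ℕ := fun i => (minpoly ℤ (π i)).natDegree / 2 with hd
  have hdd : ∀ i, (minpoly ℤ (π i)).natDegree = d i + d i := by
    intro i
    obtain ⟨r, hr⟩ := (hmain i).1
    simp only [hd]; omega
  have hsumd : ∑ i, d i = D := by
    have h1 : ∑ i, (minpoly ℤ (π i)).natDegree = 2 * ∑ i, d i := by
      rw [Finset.mul_sum]
      exact Finset.sum_congr rfl fun i _ => by rw [hdd i]; ring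
    rw [h1] at hD
    omega
  have hlow : ∀ i, ∀ k < d i, (p : ℤ) ∣ (minpoly ℤ (π i)).coeff k := by
    intro i k hk
    have h1 := (hmain i).2 (d i - k) (Nat.sub_le _ _)
    have h2 : d i - (d i - k) = k := by omega
    change (minpoly ℤ (π i)).coeff (d i - (d i - k)) = _ at h1
    rw [h2] at h1
    rw [h1]
    apply Dvd.dvd.mul_right
    apply dvd_pow_self
    have : 0 < e * (d i - k) := Nat.mul_pos he (by omega)
    omega
  -- the product polynomial
  set Pw : Polynomial ℤ := ∏ i, minpoly ℤ (π i) with hPw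
  have hmonic : Pw.Monic := Groth.Agent.Lib.Helper1.WeilCI.monic_prod K π hint
  have hdegPw : Pw.natDegree = 2 * D := by
    rw [hPw, Groth.Agent.Lib.Helper1.WeilCI.natDegree_prod K π hint, hD]
  set n : ℕ := p ^ e with hn
  have hnq : (n : ℤ) = q := by rw [hn, hq]; push_cast; rfl
  have hnpos : 0 < n := pow_pos hppos e
  have hwPw : ∀ z ∈ Pw.aroots ℂ, ‖z‖ = Real.sqrt (n : ℝ) := by
    intro z hz
    rw [Polynomial.mem_aroots] at hz
    have h1 : ∏ i, Polynomial.aeval z (minpoly ℤ (π i)) = 0 := by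
      rw [← map_prod]; exact hz.2
    obtain ⟨i, -, hi⟩ := Finset.prod_eq_zero_iff.mp h1
    rw [hweil i z (Polynomial.mem_aroots.mpr ⟨(minpoly.monic (hint i)).ne_zero, hi⟩), hn]
    push_cast; rfl
  have hc0 : Pw.coeff 0 = q ^ D := by
    have h1 : Pw.coeff 0 = ∏ i, (minpoly ℤ (π i)).coeff 0 := by
      rw [Polynomial.coeff_zero_eq_eval_zero, hPw, Polynomial.eval_prod]
      exact Finset.prod_congr rfl fun i _ => (Polynomial.coeff_zero_eq_eval_zero _).symm
    have h2 : ∀ i, (minpoly ℤ (π i)).coeff 0 = q ^ (d i) := by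
      intro i
      have h3 := (hmain i).2 (d i) le_rfl
      change (minpoly ℤ (π i)).coeff (d i - d i) = _ * (minpoly ℤ (π i)).coeff (d i + d i) at h3
      rw [Nat.sub_self, ← hdd i, (minpoly.monic (hint i)).coeff_natDegree, mul_one] at h3
      rw [h3, hq, pow_mul]
    rw [h1, Finset.prod_congr rfl fun i _ => h2 i, Finset.prod_pow_eq_pow_sum, hsumd]
  have hsym : ∀ j < D, Pw.coeff (D - (j + 1)) = q ^ (j + 1) * Pw.coeff (D + (j + 1)) := by
    intro j hj
    have h1 := Groth.Agent.Lib.Helper1.WeilCI.funEq Pw hmonic n hnpos hwPw (D - (j + 1))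
      (by rw [hdegPw]; omega)
    rw [hdegPw, hnq, hc0] at h1
    have h2 : 2 * D - (D - (j + 1)) = D + (j + 1) := by omega
    rw [h2] at h1
    have h3 : q ^ D = q ^ (D - (j + 1)) * q ^ (j + 1) := by
      rw [← pow_add]; congr 1; omega
    rw [h3] at h1
    have h4 : q ^ (D - (j + 1)) ≠ 0 := pow_ne_zero _ hq0
    apply mul_left_cancel₀ h4
    rw [mul_comm, h1]; ring
  have hsub : h - Groth.Agent.FunFld.WeilOrd.h0 D Pw ∈
      Ideal.span {Groth.Agent.Lib.Helper1.WeilCI.Qp q} :=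
    Groth.Agent.FunFld.WeilOrd.sub_h0_mem q hq0 D Pw hdegPw hsym h hh
  obtain ⟨k, hk⟩ := Ideal.mem_span_singleton'.mp hsub
  have hh0 : h = Groth.Agent.FunFld.WeilOrd.h0 D Pw + k * Groth.Agent.Lib.Helper1.WeilCI.Qp q := by
    rw [hk]; ring
  -- value at the origin
  have haev : ∀ (t : ℤ) (i : Fin 2) (G : Polynomial ℤ),
      Groth.Agent.FunFld.WeilOrd.evs t (Polynomial.aeval (X i : MvPolynomial (Fin 2) ℤ) G) =
        Polynomial.eval t G := by
    intro t i G
    rw [← Polynomial.aeval_algHom_apply, Groth.Agent.FunFld.WeilOrd.evs_X, Polynomial.aeval_def,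
      Polynomial.eval₂_eq_eval_map]
    simp
  have hev0h0 : Groth.Agent.FunFld.WeilOrd.evs 0 (Groth.Agent.FunFld.WeilOrd.h0 D Pw) =
      Pw.coeff D := by
    have hu0 : Polynomial.eval 0 (Groth.Agent.FunFld.WeilOrd.upper D Pw) = Pw.coeff D := by
      rw [← Polynomial.coeff_zero_eq_eval_zero, Groth.Agent.FunFld.WeilOrd.upper_coeff,
        if_pos (Nat.zero_le D), add_zero]
    rw [Groth.Agent.FunFld.WeilOrd.h0_eq, map_sub, map_add, haev, haev, hu0,
      Groth.Agent.FunFld.WeilOrd.evs_C]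
    ring
  have hev0 : Groth.Agent.FunFld.WeilOrd.evs 0 h =
      Pw.coeff D - q * Groth.Agent.FunFld.WeilOrd.evs 0 k := by
    rw [hh0, map_add, map_mul, hev0h0]
    simp only [Groth.Agent.Lib.Helper1.WeilCI.Qp, map_sub, map_mul,
      Groth.Agent.FunFld.WeilOrd.evs_X0, Groth.Agent.FunFld.WeilOrd.evs_X1,
      Groth.Agent.FunFld.WeilOrd.evs_C]
    ring
  have hdvd_iff : (p : ℤ) ∣ Groth.Agent.FunFld.WeilOrd.evs 0 h ↔ (p : ℤ) ∣ Pw.coeff D := by
    rw [hev0]
    exact dvd_sub_left (Dvd.dvd.mul_right hpq _)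
  have hmid := Groth.Agent.FunFld.WeilOrd.coeff_prod_mid p (fun i => minpoly ℤ (π i)) d hlow
  rw [hsumd] at hmid
  have hord_iff : (∀ i, 2 * Multiset.card (((minpoly ℤ (π i)).aroots (PadicAlgCl p)).filter
      (fun z => ‖z‖ = 1)) = (minpoly ℤ (π i)).natDegree) ↔
      ¬ (p : ℤ) ∣ Groth.Agent.FunFld.WeilOrd.evs 0 h := by
    rw [Groth.Agent.S17987.result p e he ι K π hint hweil hnr, hdvd_iff]
    have : (p : ℤ) ∣ ∏ i, (minpoly ℤ (π i)).coeff ((minpoly ℤ (π i)).natDegree / 2) ↔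
        (p : ℤ) ∣ Pw.coeff D := by
      change (p : ℤ) ∣ ∏ i, (minpoly ℤ (π i)).coeff (d i) ↔ _
      have hmid' : (p : ℤ) ∣ Pw.coeff D - ∏ i, (minpoly ℤ (π i)).coeff (d i) := hmid
      constructor
      · intro h1
        have h2 := dvd_add hmid' h1
        rwa [sub_add_cancel] at h2
      · intro h1
        have h2 := dvd_sub h1 hmid'
        rwa [sub_sub_cancel] at h2
    rw [this]
  -- `h` does not vanish at `(s, s)`
  have hevs : Groth.Agent.FunFld.WeilOrd.evs s h ≠ 0 := by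
    intro h0
    obtain ⟨k', hk'⟩ := Ideal.mem_span_singleton'.mp hh
    have h1 := congrArg (Groth.Agent.FunFld.WeilOrd.evs s) hk'
    have hQ0 : Groth.Agent.FunFld.WeilOrd.evs s (X 0 * X 1 - C q) = 0 :=
      Groth.Agent.FunFld.WeilOrd.evs_Q s q hs
    rw [map_mul, hQ0, mul_zero, map_sub, map_mul, h0, mul_zero, zero_sub, haev] at h1
    have h2 : Polynomial.eval s Pw = 0 := by
      have := h1.symm
      rwa [neg_eq_zero] at this
    rw [hPw, Polynomial.eval_prod] at h2
    obtain ⟨i, -, hi⟩ := Finset.prod_eq_zero_iff.mp h2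
    exact Groth.Agent.FunFld.WeilOrd.eval_int_ne_zero (π i) (hint i) (hdeg i) s hi
  -- the two components of the map
  set φ : MvPolynomial (Fin 2) ℤ →ₐ[ℤ] (((i : ι) → K i) × ℚ) :=
    MvPolynomial.aeval ![(⟨fun i => π i, (s : ℚ)⟩ : ((i : ι) → K i) × ℚ),
      ⟨fun i => ((p : K i) ^ e) / π i, (s : ℚ)⟩] with hφ
  have hfst : ∀ x, (φ x).1 = (MvPolynomial.aeval ![fun i => π i, fun i => ((p : K i) ^ e) / π i] :
      MvPolynomial (Fin 2) ℤ →ₐ[ℤ] ((i : ι) → K i)) x := by
    intro x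
    have h1 : (AlgHom.fst ℤ ((i : ι) → K i) ℚ).comp φ =
        (MvPolynomial.aeval ![fun i => π i, fun i => ((p : K i) ^ e) / π i] :
          MvPolynomial (Fin 2) ℤ →ₐ[ℤ] ((i : ι) → K i)) := by
      apply MvPolynomial.algHom_ext
      intro i
      fin_cases i <;> simp [hφ]
    exact AlgHom.congr_fun h1 x
  have hsnd : ∀ x, (φ x).2 = ((Groth.Agent.FunFld.WeilOrd.evs s x : ℤ) : ℚ) := by
    intro x
    have h1 : (AlgHom.snd ℤ ((i : ι) → K i) ℚ).comp φ =
        (Algebra.ofId ℤ ℚ).comp (Groth.Agent.FunFld.WeilOrd.evs s) := by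
      apply MvPolynomial.algHom_ext
      intro i
      fin_cases i <;> simp [hφ, Groth.Agent.FunFld.WeilOrd.evs]
    have h2 := AlgHom.congr_fun h1 x
    simpa using h2
  rw [← hq] at hkerv
  have hker : RingHom.ker φ = Groth.Agent.FunFld.WeilOrd.Iw q s h := by
    ext x
    rw [RingHom.mem_ker, ← Groth.Agent.FunFld.WeilOrd.mem_inter_iff q s hs h hevs x, Prod.ext_iff]
    simp only [Prod.fst_zero, Prod.snd_zero]
    rw [hfst, hsnd, ← RingHom.mem_ker, hkerv, Int.cast_eq_zero]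
  refine ⟨hker, ?_⟩
  constructor
  · -- Gorenstein ⟹ ordinary
    intro hG
    rw [hord_iff]
    intro hdvd
    rw [hdvd_iff] at hdvd
    have hp1' : ¬ (p : ℤ) ∣ 1 := by
      intro h1
      have h2 := Int.eq_one_of_dvd_one (by positivity) h1
      have h3 := (Fact.out : p.Prime).one_lt
      omega
    have hex : ∃ k, ¬ (p : ℤ) ∣ Pw.coeff (D + k) := by
      refine ⟨D, ?_⟩
      have h1 : Pw.coeff (D + D) = 1 := by
        have h2 := hmonic.coeff_natDegree
        rwa [hdegPw, two_mul] at h2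
      rw [h1]
      exact hp1'
    set r := Nat.find hex with hr
    have hr_spec : ¬ (p : ℤ) ∣ Pw.coeff (D + r) := Nat.find_spec hex
    have hr_min : ∀ k < r, (p : ℤ) ∣ Pw.coeff (D + k) := fun k hk =>
      not_not.mp (Nat.find_min hex hk)
    have hr1 : 1 ≤ r := by
      by_contra hlt
      have h0 : r = 0 := by omega
      rw [h0, add_zero] at hr_spec
      exact hr_spec hdvd
    have hrD : r ≤ D := Nat.find_min' hex (by
      have h1 : Pw.coeff (D + D) = 1 := by
        have h2 := hmonic.coeff_natDegree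
        rwa [hdegPw, two_mul] at h2
      rw [h1]
      exact hp1')
    obtain ⟨g, U, hgU, hU0⟩ := Groth.Agent.FunFld.WeilOrd.exists_split (p : ℤ) r
      (Groth.Agent.FunFld.WeilOrd.upper D Pw) (fun k hk => by
        rw [Groth.Agent.FunFld.WeilOrd.upper_coeff]
        split_ifs with hkD
        · exact hr_min k hk
        · exact dvd_zero _)
    have hU : ¬ (p : ℤ) ∣ U.coeff 0 := by
      rw [hU0, Groth.Agent.FunFld.WeilOrd.upper_coeff, if_pos hrD]
      exact hr_spec
    obtain ⟨c', hc'⟩ := hdvd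
    have hA : ∀ Z : MvPolynomial (Fin 2) ℤ,
        Polynomial.aeval Z (Groth.Agent.FunFld.WeilOrd.upper D Pw) =
          C (p : ℤ) * Polynomial.aeval Z g + Z ^ r * Polynomial.aeval Z U := by
      intro Z
      rw [hgU, map_add, map_mul, map_mul, Polynomial.aeval_C, map_pow, Polynomial.aeval_X]
      rfl
    have hH : h = Polynomial.aeval (X 0 : MvPolynomial (Fin 2) ℤ) U * X 0 ^ r +
        Polynomial.aeval (X 1 : MvPolynomial (Fin 2) ℤ) U * X 1 ^ r +
        Groth.Agent.Lib.Helper1.WeilCI.Qp ((p : ℤ) ^ e) * k +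
        C (p : ℤ) * (Polynomial.aeval (X 0 : MvPolynomial (Fin 2) ℤ) g +
          Polynomial.aeval (X 1 : MvPolynomial (Fin 2) ℤ) g - C c') := by
      rw [hh0, Groth.Agent.FunFld.WeilOrd.h0_eq, hA, hA, hc', C_mul]
      ring
    have hnoeth : IsNoetherianRing φ.range :=
      isNoetherianRing_of_surjective _ _ φ.rangeRestrict.toRingHom φ.rangeRestrict_surjective
    have hkerR : RingHom.ker (φ.rangeRestrict : MvPolynomial (Fin 2) ℤ →+* φ.range) =
        Groth.Agent.FunFld.WeilOrd.Iw ((p : ℤ) ^ e) s h := by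
      rw [← hker]
      exact AlgHom.ker_rangeRestrict φ
    have hpnzd : ((p : ℕ) : φ.range) ∈ nonZeroDivisors φ.range := by
      rw [mem_nonZeroDivisors_iff_right]
      intro x hx
      have h1 : (x : ((i : ι) → K i) × ℚ) * ((p : ℕ) : ((i : ι) → K i) × ℚ) = 0 := by
        have := congrArg (Subtype.val) hx
        simpa using this
      have hpK : ((p : ℕ) : ((i : ι) → K i) × ℚ) = (fun i => (p : K i), (p : ℚ)) := by
        ext <;> simp
      apply Subtype.ext
      rw [hpK] at h1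
      have h2 := Prod.ext_iff.mp h1
      simp only [Prod.fst_mul, Prod.snd_mul, Prod.fst_zero, Prod.snd_zero] at h2
      have hp0 : (p : ℚ) ≠ 0 := by exact_mod_cast hppos.ne'
      apply Prod.ext
      · funext i
        have h3 := congrFun h2.1 i
        simp only [Pi.mul_apply, Pi.zero_apply] at h3
        have hpi : (p : K i) ≠ 0 := by exact_mod_cast hppos.ne'
        exact (mul_eq_zero.mp h3).resolve_right hpi
      · exact (mul_eq_zero.mp h2.2).resolve_right hp0
    exact Groth.Agent.FunFld.WeilOrd.not_gor p e he s hs h r hr1 U k _ hH hU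
      (φ.rangeRestrict : MvPolynomial (Fin 2) ℤ →+* φ.range) φ.rangeRestrict_surjective hkerR
      hpnzd hG
  · -- ordinary ⟹ Gorenstein
    intro hord
    have hord' := hord_iff.mp hord
    let F1 : (MvPolynomial (Fin 2) ℤ ⧸ Groth.Agent.FunFld.WeilOrd.Iw ((p : ℤ) ^ e) s h) ≃+*
        (MvPolynomial (Fin 2) ℤ ⧸ RingHom.ker φ) :=
      Ideal.quotEquivOfEq hker.symm
    let F2 : (MvPolynomial (Fin 2) ℤ ⧸ RingHom.ker φ) ≃+* φ.range :=
      (Ideal.quotientKerEquivRange φ).toRingEquiv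
    let E : MvPolynomial (Fin 2) ℤ ≃+* MvPolynomial (ULift.{u} (Fin 2)) ℤ :=
      (MvPolynomial.renameEquiv ℤ Equiv.ulift.symm).toRingEquiv
    exact Groth.Agent.FunFld.WeilOrd.gor_ordinary p e he s hs h hW hord' E (F1.trans F2)

end Groth.Agent.S17986
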