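import Groth.Statements.S17988
import Groth.Agent.Lib.Helper82.GorDimOne
import Groth.Agent.Lib.Helper82.TorsionlessPID

set_option autoImplicit false
universe u
open CAlg

namespace Groth.Agent.S17988

/-- Let Λ be a principal ideal domain and S a commutative Λ-algebra which is finitely generated and free
as a Λ-module and reduced as a ring; let M be a finitely generated S-module. Then M is torsionless
(the canonical map M → M** to the double S-dual is injective) if and only if M is free as a
Λ-module. If in addition S is a Gorenstein ring (it has Krull dimension at most 1, being finite over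
Λ), then M is reflexive (M → M** bijective) if and only if M is free as a Λ-module, so that for such
S torsionless and reflexive finitely generated modules coincide. The published statement is the case
Λ = ℤ, resp. Λ = ℤ_ℓ for a prime ℓ, with S the minimal central order R_w of a finite set of Weil
q-numbers, resp. its ℓ-adic completion R_w ⊗ ℤ_ℓ, under the assumption that R_w is Gorenstein; the
argument given there uses only that S is finite free over Λ, reduced, and (for reflexivity)
Gorenstein of dimension one. -/
theorem result (Λ : Type u) [CommRing Λ] [IsDomain Λ] [IsPrincipalIdealRing Λ]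
    (S : Type u) [CommRing S] [Algebra Λ S] [Module.Finite Λ S] [Module.Free Λ S] [IsReduced S]
    (M : Type u) [AddCommGroup M] [Module S M] [Module Λ M] [IsScalarTower Λ S M] [Module.Finite S M] :
    (Function.Injective (Module.Dual.eval S M) ↔ Module.Free Λ M) ∧
      (LocCoh.IsGorensteinRing S → (Module.IsReflexive S M ↔ Module.Free Λ M)) := by
  have hNoeth : IsNoetherianRing S := by
    have : IsNoetherian Λ S := inferInstance
    exact isNoetherian_of_tower Λ this
  have hfinΛ : Module.Finite Λ M := Module.Finite.trans S M
  -- first equivalence
  have hA : Function.Injective (Module.Dual.eval S M) ↔ Module.Free Λ M := by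
    constructor
    · intro h
      obtain ⟨b, ι, hι⟩ :=
        Groth.Agent.Lib.Helper82.GorDimOne.exists_injective_of_eval_injective M h
      have htf : ∀ (c : Λ) (x : M), c ≠ 0 → c • x = 0 → x = 0 := by
        intro c x hc hcx
        apply hι
        rw [map_zero]
        refine LinearMap.ext fun v => ?_
        rw [LinearMap.zero_apply]
        have h1 : ι (c • x) = 0 := by rw [hcx, map_zero]
        rw [← algebraMap_smul S c x, map_smul] at h1
        have h2 := congrArg (fun e => e v) h1
        simp only [LinearMap.smul_apply, LinearMap.zero_apply] at h2
        rw [smul_eq_mul, ← Algebra.smul_def] at h2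
        exact (smul_eq_zero_iff_right hc).mp h2
      have : Module.IsTorsionFree Λ M := ⟨fun r hr m₁ m₂ hm => by
        have hr0 : r ≠ 0 := hr.ne_zero
        have h3 : r • (m₁ - m₂) = 0 := by
          rw [smul_sub]
          exact sub_eq_zero.mpr hm
        exact sub_eq_zero.mp (htf r _ hr0 h3)⟩
      exact Module.free_of_finite_type_torsion_free'
    · intro hfree
      exact Groth.Agent.Lib.Helper82.TorsionlessPID.eval_injective_of_torsionFree M
        (fun (c : Λ) (x : M) hc hcx => (smul_eq_zero_iff_right hc).mp hcx)
  refine ⟨hA, fun hG => ?_⟩
  constructor
  · intro hrefl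
    exact hA.mp (Module.bijective_dual_eval S M).1
  · intro hfree
    have hint : Algebra.IsIntegral Λ S := inferInstance
    have hdimS : ringKrullDim S ≤ ringKrullDim Λ := by
      refine Order.krullDim_le_of_strictMono (PrimeSpectrum.comap (algebraMap Λ S)) ?_
      intro p q hpq
      have : p.asIdeal < q.asIdeal := hpq
      exact Ideal.IsIntegral.comap_lt_comap (R := Λ) this
    have hdimΛ : ringKrullDim Λ ≤ 1 := by
      have h1 : Ring.KrullDimLE 1 Λ := inferInstance
      exact_mod_cast Ring.krullDimLE_iff.mp h1
    have hS2 := Groth.Agent.Lib.Helper82.GorDimOne.hasInjectiveDimensionLT_two S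
      (hdimS.trans hdimΛ)
    exact ⟨⟨hA.mpr hfree, Groth.Agent.Lib.Helper82.GorDimOne.eval_surjective hS2 M⟩⟩

end Groth.Agent.S17988
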