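import Groth.Statements.S1800
import Groth.Agent.Lib.Helper90.Shriek.FlatBC

set_option autoImplicit false
set_option linter.style.haveILetI false
universe u
open CategoryTheory
open scoped TensorProduct
attribute [local instance] HasDerivedCategory.standard
open Dual2

namespace Groth.Agent.S1800

/-- Let R → R' be a flat homomorphism of Noetherian rings, R → A a ring map of finite type with A
Noetherian, and A' = R' ⊗_R A with the induced map R' → A'; each upper shriek φ^!(K) is formed from
a presentation ψ : P = (base)[x_1, …, x_n] → (target) as RHom_P(target, K ⊗^L P)[n], the derived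
base change functors being assumed to exist and RHom_P(target, −) being given as a right adjoint of
restriction of scalars. Assuming also the derived base change functors D(A) → D(A') and D(R) → D(R')
exist, for every K in D(R) which is bounded below the base change to A' of the upper shriek of K
along R → A is isomorphic to the upper shriek along R' → A' of the base change of K to R'. -/
theorem result (R R' A : Type u) [CommRing R] [CommRing R'] [CommRing A] [IsNoetherianRing R] [IsNoetherianRing R'] [IsNoetherianRing A] [Algebra R R'] [Module.Flat R R'] [Algebra R A] [IsNoetherianRing (R' ⊗[R] A)] (n : ℕ) (ψ : MvPolynomial (Fin n) R →ₐ[R] A) (hψ : Function.Surjective ψ) [DRing.HasLBaseChange (algebraMap R (MvPolynomial (Fin n) R))] (Rψ : Dual.D (MvPolynomial (Fin n) R) ⥤ Dual.D A) (adj : DRing.restrictD ψ.toRingHom ⊣ Rψ) (m : ℕ) (ψ' : MvPolynomial (Fin m) R' →ₐ[R'] (R' ⊗[R] A)) (hψ' : Function.Surjective ψ') [DRing.HasLBaseChange (algebraMap R' (MvPolynomial (Fin m) R'))] (Rψ' : Dual.D (MvPolynomial (Fin m) R') ⥤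 Dual.D (R' ⊗[R] A)) (adj' : DRing.restrictD ψ'.toRingHom ⊣ Rψ') [DRing.HasLBaseChange (Algebra.TensorProduct.includeRight : A →ₐ[R] R' ⊗[R] A).toRingHom] [DRing.HasLBaseChange (algebraMap R R')] (K : Dual.D R) (c : ℤ) (hK : ∀ i : ℤ, i < c → Subsingleton (Dual.HD R K i)) : Nonempty ((DRing.LBaseChange (Algebra.TensorProduct.includeRight : A →ₐ[R] R' ⊗[R] A).toRingHom).obj (Dual2.shriekVia n Rψ K) ≅ Dual2.shriekVia m Rψ' ((DRing.LBaseChange (algebraMap R R')).obj K)) := by
  classical
  obtain ⟨K₀, hK₀, ⟨eK⟩⟩ := Groth.Agent.Lib.Helper32.LBC.exists_kproj_iso K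
  haveI := hK₀
  haveI : ((DTen.extCx (algebraMap R R')).obj K₀).IsKProjective :=
    Groth.Agent.Lib.Helper26.AdjKProj.isKProjective_map
      (ModuleCat.extendRestrictScalarsAdj.{u, u, u} (algebraMap R R')) K₀
  -- the base-changed left hand side
  have H₁ := Groth.Agent.Lib.Helper90.Shriek.Inv.flatBC R R' A n ψ hψ Rψ adj K₀ K eK c hK
  -- the right hand side
  let eK' : DerivedCategory.Q.obj ((DTen.extCx (algebraMap R R')).obj K₀) ≅
      (DRing.LBaseChange (algebraMap R R')).obj K :=
    (Groth.Agent.Lib.Helper32.LBC.lbcIso (algebraMap R R') K₀).symm ≪≫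
      (DRing.LBaseChange (algebraMap R R')).mapIso eK
  have H₂ := Groth.Agent.Lib.Helper90.Shriek.Inv.start ((DTen.extCx (algebraMap R R')).obj K₀)
    (algebraMap R' (MvPolynomial (Fin m) R')) ψ'.toRingHom Rψ' adj'
    ((DRing.LBaseChange (algebraMap R R')).obj K) eK' (m : ℤ)
  refine Groth.Agent.Lib.Helper90.Shriek.Inv.unique_mv ((DTen.extCx (algebraMap R R')).obj K₀)
    (Groth.Agent.Lib.Helper90.Shriek.psiBC R R' A n ψ).toRingHom ψ'.toRingHom
    (Groth.Agent.Lib.Helper90.Shriek.psiBC_surjective R R' A n ψ hψ) hψ' ?_ _ _ _ _ ?_ H₁ H₂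
  · intro r
    exact ((Groth.Agent.Lib.Helper90.Shriek.psiBC R R' A n ψ).commutes r).trans
      (ψ'.commutes r).symm
  · exact add_comm _ _

end Groth.Agent.S1800
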