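import Groth.Statements.S18003
import Mathlib
import Groth.Agent.Lib.Helper68.WeilMod

set_option autoImplicit false
universe u
open MvPolynomial
open WeilNum

namespace Groth.Agent.S18003

/-- Let p be a prime, e ≥ 1 and q = p^e; let (π_i) be a finite family of pairwise nonconjugate Weil
q-numbers (π_i in a field K_i of characteristic zero, integral over ℤ with minimal polynomial P_i,
all complex roots of P_i of absolute value √q, P_i ≠ P_j for i ≠ j) of even total degree Σ_i deg
P_i, P_w = ∏_i P_i, and R_w ⊆ ∏_i K_i the minimal central order, the image of ℤ[F, V] → ∏_i K_i, F ↦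
(π_i), V ↦ (q/π_i). Let T be a finitely generated free ℤ-module and F_T an endomorphism of T. Then
there exists an R_w-module structure on the additive group T in which the class of F acts as F_T if
and only if P_w(F_T) = 0 (equivalently: F_T is semisimple after tensoring with ℚ, with eigenvalues
among the conjugates of the π_i) and there is an endomorphism V_T of T with F_T ∘ V_T = q. When it
exists the structure is determined by F_T (the class of V acts as V_T = q·F_T⁻¹), and reflexive
R_w-modules are exactly the ℤ-free finitely generated ones, so this identifies the objects of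
Refl(R_w) with such pairs (T, F_T); the uniqueness remark is not part of the formal statement. -/
theorem result (p e : ℕ) [Fact p.Prime] (he : 0 < e)
    (ι : Type) [Fintype ι] (K : ι → Type u) [∀ i, Field (K i)] [∀ i, CharZero (K i)] (π : ∀ i, K i)
    (hint : ∀ i, IsIntegral ℤ (π i))
    (hweil : ∀ i, ∀ z ∈ (minpoly ℤ (π i)).aroots ℂ, ‖z‖ = Real.sqrt ((p : ℝ) ^ e))
    (hinj : ∀ i j, minpoly ℤ (π i) = minpoly ℤ (π j) → i = j)
    (D : ℕ) (hD : ∑ i, (minpoly ℤ (π i)).natDegree = 2 * D)
    (T : Type) [AddCommGroup T] [Module.Finite ℤ T] [Module.Free ℤ T] (FT : T →ₗ[ℤ] T) :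
    (∃ _ : Module (MvPolynomial.aeval ![fun i => π i, fun i => ((p : K i) ^ e) / π i] :
        MvPolynomial (Fin 2) ℤ →ₐ[ℤ] ((i : ι) → K i)).range T,
        ∀ t : T, (⟨(MvPolynomial.aeval ![fun i => π i, fun i => ((p : K i) ^ e) / π i] :
        MvPolynomial (Fin 2) ℤ →ₐ[ℤ] ((i : ι) → K i)) (X 0), AlgHom.mem_range_self _ _⟩ : (MvPolynomial.aeval ![fun i => π i, fun i => ((p : K i) ^ e) / π i] :
        MvPolynomial (Fin 2) ℤ →ₐ[ℤ] ((i : ι) → K i)).range) • t = FT t) ↔
      (Polynomial.aeval FT (∏ i, minpoly ℤ (π i)) = 0 ∧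
        ∃ VT : T →ₗ[ℤ] T, FT ∘ₗ VT = ((p : ℤ) ^ e) • LinearMap.id) := by
  classical
  have hp : (p : ℤ) ≠ 0 := by exact_mod_cast (Fact.out : p.Prime).ne_zero
  have hq : ((p : ℤ) ^ e) ≠ 0 := pow_ne_zero _ hp
  have hπ0 : ∀ i, π i ≠ 0 := by
    intro i h0
    have h1 : minpoly ℤ (π i) = Polynomial.X := by
      have := minpoly.eq_X_sub_C_of_algebraMap_inj (A := ℤ) (B := K i) 0
        (by intro a b hab; exact_mod_cast hab)
      rw [map_zero, map_zero, sub_zero] at this
      rw [h0]
      exact this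
    have h2 : (0 : ℂ) ∈ (minpoly ℤ (π i)).aroots ℂ := by
      rw [h1, Polynomial.aroots_X]
      simp
    have h3 := hweil i 0 h2
    rw [norm_zero] at h3
    have h4 : (0 : ℝ) < (p : ℝ) ^ e := by
      have : (0 : ℝ) < (p : ℝ) := by exact_mod_cast (Fact.out : p.Prime).pos
      positivity
    have h5 := Real.sqrt_pos.2 h4
    rw [← h3] at h5
    exact lt_irrefl _ h5
  have hπc : ∀ i, π i * (((p : K i) ^ e) / π i) = ((((p : ℤ) ^ e : ℤ)) : K i) := by
    intro i
    rw [mul_div_cancel₀ _ (hπ0 i)]
    push_cast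
    rfl
  constructor
  · rintro ⟨inst, hF⟩
    exact Groth.Agent.Lib.Helper68.WeilMod.of_module' π (fun i => ((p : K i) ^ e) / π i)
      ((p : ℤ) ^ e) hπc FT _ (by simp) (by simp) inst hF
  · rintro ⟨hP, VT, hFV⟩
    obtain ⟨ρ, hρ⟩ := Groth.Agent.Lib.Helper68.WeilMod.exists_ringHom π
      (fun i => ((p : K i) ^ e) / π i) ((p : ℤ) ^ e) hq hπc hint hinj FT VT hFV hP
    refine ⟨Module.compHom T ρ, fun t => ?_⟩
    change ρ _ t = FT t
    rw [hρ]

end Groth.Agent.S18003
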