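import Groth.Statements.S18019
import Mathlib

set_option autoImplicit false
universe u
open ClassStk

namespace Groth.Agent.S18019.Aux

open Polynomial

theorem foo (R : Type u) [CommRing R] [IsDomain R]
    [CharP R 2] (a : R) (ha : a ≠ 0) (f : Polynomial R) :
    f.comp (X + C a) = f ↔ f ∈ Algebra.adjoin R ({X * (X + C a)} : Set (Polynomial R)) := by
  set w : R[X] := X * (X + C a) with hw
  have h2 : (2 : R[X]) = 0 := by
    have h0 : ((2 : ℕ) : R) = 0 := CharP.cast_eq_zero R 2
    have h1 : (2 : R) = 0 := by exact_mod_cast h0
    have h3 : (C (2 : R) : R[X]) = 0 := by rw [h1, C_0]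
    rw [← h3]; exact (C_ofNat 2).symm
  have hwinv : w.comp (X + C a) = w := by
    rw [hw]
    simp only [mul_comp, X_comp, add_comp, C_comp]
    have : X + C a + C a = (X : R[X]) + 2 * C a := by ring
    rw [this, h2, zero_mul, add_zero, mul_comm]
  have hwmonic : w.Monic := by
    rw [hw]
    exact (monic_X).mul (monic_X_add_C a)
  have hwdeg : w.natDegree = 2 := by
    rw [hw, natDegree_mul X_ne_zero (X_add_C_ne_zero a), natDegree_X, natDegree_X_add_C]
  have hwdeg' : w.degree = 2 := by
    rw [degree_eq_natDegree hwmonic.ne_zero, hwdeg]; rfl
  constructor
  · -- invariants are polynomials in w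
    intro hf
    induction' hn : f.natDegree using Nat.strong_induction_on with n ih generalizing f
    set q := f /ₘ w with hq
    set r := f %ₘ w with hr
    have hfqr : r + w * q = f := modByMonic_add_div f w
    have hrdeg : r.degree < w.degree := degree_modByMonic_lt f hwmonic
    have hXa : (X + C a : R[X]).natDegree = 1 := natDegree_X_add_C a
    have hrdeg2 : (r.comp (X + C a)).degree < w.degree := by
      rcases eq_or_ne r 0 with h0 | h0
      · rw [h0, zero_comp]; rw [hwdeg']; exact WithBot.bot_lt_coe _
      · have hne : r.comp (X + C a) ≠ 0 := by
          intro h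
          rw [comp_eq_zero_iff] at h
          rcases h with h | ⟨_, h⟩
          · exact h0 h
          · have : (X + C a : R[X]).natDegree = 0 := by rw [h]; simp
            omega
        rw [degree_eq_natDegree hne, natDegree_comp, hXa, mul_one, ← degree_eq_natDegree h0]
        exact hrdeg
    have hcomp : r.comp (X + C a) + w * q.comp (X + C a) = f := by
      have := congrArg (fun p => p.comp (X + C a)) hfqr
      simp only [add_comp, mul_comp, hwinv, hf] at this
      exact this
    obtain ⟨hq', hr'⟩ := div_modByMonic_unique (q.comp (X + C a)) (r.comp (X + C a)) hwmonic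
      ⟨hcomp, hrdeg2⟩
    rw [← hq] at hq'
    rw [← hr] at hr'
    -- r is constant
    have hrnat : r.natDegree < 2 := by
      rcases eq_or_ne r 0 with h0 | h0
      · rw [h0]; simp
      · have := hrdeg
        rw [hwdeg', degree_eq_natDegree h0] at this
        exact_mod_cast this
    have hr_eq : r = C (r.coeff 1) * X + C (r.coeff 0) := by
      ext i
      rcases i with _ | _ | i
      · simp
      · simp
      · simp only [coeff_add, coeff_C_mul, coeff_X, coeff_C]
        rw [coeff_eq_zero_of_natDegree_lt (by omega)]
        simp
    have hb : r.coeff 1 = 0 := by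
      have h1 := hr'
      rw [hr_eq] at h1
      simp only [add_comp, mul_comp, C_comp, X_comp] at h1
      have h3 := congrArg (fun p => p.coeff 0) h1
      simp only [coeff_add, coeff_C_mul, coeff_X_zero, coeff_C_zero, mul_add, mul_zero, zero_add] at h3
      have h4 : r.coeff 1 * a = 0 := by
        linear_combination -h3
      rcases mul_eq_zero.mp h4 with h | h
      · exact h
      · exact absurd h ha
    have hrC : r = C (r.coeff 0) := by
      rw [hr_eq, hb]; simp
    -- now f = C c + w * q
    have hfin : f = C (r.coeff 0) + w * q := by rw [← hrC]; exact hfqr.symm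
    rcases eq_or_ne q 0 with hq0 | hq0
    · rw [hfin, hq0, mul_zero, add_zero]
      exact Subalgebra.algebraMap_mem _ _
    · have hqdeg : q.natDegree < n := by
        have : f.natDegree = w.natDegree + q.natDegree := by
          have h5 : (w * q).natDegree = w.natDegree + q.natDegree := hwmonic.natDegree_mul' hq0
          have h6 : (C (r.coeff 0) + w * q).natDegree = (w * q).natDegree := by
            apply natDegree_C_add
          rw [hfin, h6, h5]
        omega
      have hqmem := ih q.natDegree hqdeg q hq'.symm rfl
      rw [hfin]
      refine Subalgebra.add_mem _ (Subalgebra.algebraMap_mem _ _) ?_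
      exact Subalgebra.mul_mem _ (Algebra.subset_adjoin (Set.mem_singleton _)) hqmem
  · intro hf
    refine Algebra.adjoin_induction ?_ ?_ ?_ ?_ hf
    · intro x hx
      rw [Set.mem_singleton_iff.mp hx]; exact hwinv
    · intro c; simp
    · intro x y _ _ hx hy; rw [add_comp, hx, hy]
    · intro x y _ _ hx hy; rw [mul_comp, hx, hy]

end Groth.Agent.S18019.Aux

namespace Groth.Agent.S18019

open Polynomial in
/-- Let R be an integral domain of characteristic 2 and let a be a nonzero element of R, so that x ↦ x +
a defines an R-algebra involution of the polynomial ring R[x] (an action of the group of order two).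
A polynomial f is invariant, f(x + a) = f(x), if and only if f belongs to the R-subalgebra generated
by u = x (x + a); in other words the ring of invariants is the polynomial ring R[u]. -/
theorem result (R : Type u) [CommRing R] [IsDomain R]
    [CharP R 2] (a : R) (ha : a ≠ 0) (f : Polynomial R) :
    f.comp (X + C a) = f ↔ f ∈ Algebra.adjoin R ({X * (X + C a)} : Set (Polynomial R)) := by
  exact Aux.foo R a ha f

end Groth.Agent.S18019
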