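import Groth.Statements.S18026
import Groth.Agent.Lib.Helper7.HensSection
import Groth.Agent.Lib.Helper7.EtaleSplitUnram

set_option autoImplicit false
universe u
open Hensel

namespace Groth.Agent.S18026

open AlgebraicGeometry CategoryTheory in
/-- Let `A` be a henselian discrete valuation ring and `f : T ⟶ Spec A` an étale surjective morphism of
schemes. Then some open subscheme `U` of `T` is finite over `Spec A` and still maps onto it; in
particular `U → Spec A` is a finite étale cover sitting inside `T` as an open subscheme (étaleness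
of the restriction is automatic, and surjectivity records that `U` meets the closed fibre). (The
published statement asks for an open component of `T` finite étale over `Spec A`; when `T` is not
separated — two copies of `Spec A` glued along the generic point — no open and closed subset of `T`
is finite over `Spec A`, while the published proof constructs an open subscheme, the spectrum of the
local ring of `T` at a point of the closed fibre; so this row asks only for an open subscheme.) -/
theorem result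
    (A : Type u) [CommRing A] [IsDomain A] [IsDiscreteValuationRing A] [HenselianLocalRing A]
    (T : Scheme.{u}) (f : T ⟶ Spec (CommRingCat.of A)) [Etale f] [Surjective f] :
    ∃ U : T.Opens, IsFinite (U.ι ≫ f) ∧ Surjective (U.ι ≫ f) := by
  classical
  obtain ⟨t, ht⟩ := f.surjective (IsLocalRing.closedPoint A)
  obtain ⟨T₀, hT₀, htT₀⟩ : ∃ T₀ : T.Opens, IsAffineOpen T₀ ∧ t ∈ T₀ := by
    obtain ⟨_, ⟨T₀, hT₀, rfl⟩, htT₀, -⟩ := T.isBasis_affineOpens.exists_subset_of_mem_open
      (Set.mem_univ t) isOpen_univ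
    exact ⟨T₀, hT₀, htT₀⟩
  have : IsAffine T₀.toScheme := hT₀
  have hlqf : LocallyQuasiFinite (T₀.ι ≫ f) :=
    Groth.Agent.Lib.Helper7.EtaleSplit.locallyQuasiFinite_of_formallyUnramified (T₀.ι ≫ f)
  obtain ⟨W₀, hW₀c, hW₀f, hW₀⟩ :=
    Groth.Agent.Lib.Helper7.HensSection.exists_clopen_finite_of_henselian A (T₀.ι ≫ f)
      ((T₀.ι ≫ f).finite_preimage_singleton _)
  refine ⟨T₀.ι ''ᵁ W₀, ?_, ?_⟩
  · have h1 : (T₀.ι ''ᵁ W₀).ι ≫ f = (T₀.ι.isoImage W₀).inv ≫ W₀.ι ≫ T₀.ι ≫ f := by
      rw [← Scheme.Hom.isoImage_inv_ι_assoc]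
    rw [h1]
    exact (MorphismProperty.cancel_left_of_respectsIso @IsFinite (T₀.ι.isoImage W₀).inv _).mpr hW₀f
  · have h1 : (T₀.ι ''ᵁ W₀).ι ≫ f = (T₀.ι.isoImage W₀).inv ≫ W₀.ι ≫ T₀.ι ≫ f := by
      rw [← Scheme.Hom.isoImage_inv_ι_assoc]
    rw [h1]
    have hsurj : Surjective (W₀.ι ≫ T₀.ι ≫ f) := by
      constructor
      have hopen : IsOpen (Set.range (W₀.ι ≫ T₀.ι ≫ f)) :=
        (W₀.ι ≫ T₀.ι ≫ f).isOpenMap.isOpen_range
      let O : TopologicalSpace.Opens (PrimeSpectrum A) := ⟨_, hopen⟩
      have hcO : IsLocalRing.closedPoint A ∈ O := by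
        have htW₀ : (⟨t, htT₀⟩ : ↥T₀) ∈ W₀ := hW₀ ⟨t, htT₀⟩ ht
        exact ⟨⟨⟨t, htT₀⟩, htW₀⟩, ht⟩
      have hO : O = ⊤ := IsLocalRing.closed_point_mem_iff.mp hcO
      intro y
      have : y ∈ O := by rw [hO]; trivial
      exact this
    infer_instance

end Groth.Agent.S18026
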