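import Groth.Statements.S18027
import Groth.Agent.Lib.Helper70.GrpConnC
import Groth.Agent.Lib.Helper55.GroupLocalDim
import Groth.Agent.Lib.Helper55.FlatLocalDim
import Groth.Agent.Lib.Helper55.LocalDimProduct
import Groth.Agent.Lib.Helper2.ConnDim2
import Groth.Agent.Lib.Helper2.HartshorneConnGlobal

set_option autoImplicit false
universe u
open CategoryTheory MonoidalCategory CartesianMonoidalCategory MonObj GrpObj AlgebraicGeometry CategoryTheory.Limits
open AlgGrp

namespace Groth.Agent.S18027

/-- Let `k` be a field and `u : G ⟶ H` a homomorphism of smooth `k`-group schemes which is a closed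
immersion, where `G` and `H` have the same dimension. Then `u` carries the connected component of
the identity of `G` onto the connected component of the identity of `H`; as `u` is a closed
immersion and `H` is reduced, `u` therefore restricts to an isomorphism between the identity
components. (The second printed assertion, on the groups of components, is not included.) -/
theorem result (k : Type u) [Field k]
    (G H : Over (Spec (CommRingCat.of k))) [GrpObj G] [GrpObj H]
    [Smooth G.hom] [Smooth H.hom] (u : G ⟶ H) [IsMonHom u] [IsClosedImmersion u.left]
    (hdim : topologicalKrullDim ↥G.left = topologicalKrullDim ↥H.left)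
    (t : ↥((𝟙_ (Over (Spec (CommRingCat.of k)))).left)) :
    ⇑u.left.base '' connectedComponent (η[G].left.base t) = connectedComponent (η[H].left.base t) := by
  classical
  set eG : G.left := η[G].left.base t with heG
  set eH : H.left := η[H].left.base t with heH
  have hue : u.left.base eG = eH := by
    have h : η[G] ≫ u = η[H] := IsMonHom.one_hom (f := u)
    have h2 := congrArg (fun φ => φ.left.base t) h
    exact h2
  haveI : LocallyOfFiniteType G.hom := inferInstance
  haveI : LocallyOfFiniteType H.hom := inferInstance
  haveI hGn : IsLocallyNoetherian G.left := LocallyOfFiniteType.isLocallyNoetherian G.hom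
  haveI hHn : IsLocallyNoetherian H.left := LocallyOfFiniteType.isLocallyNoetherian H.hom
  have hGo : IsOpen (connectedComponent eG) :=
    Groth.Agent.Lib.Helper2.isOpen_connectedComponent_of_isLocallyNoetherian G.left eG
  have hHo : IsOpen (connectedComponent eH) :=
    Groth.Agent.Lib.Helper2.isOpen_connectedComponent_of_isLocallyNoetherian H.left eH
  have hGd : topologicalKrullDim (connectedComponent eG) = topologicalKrullDim G.left :=
    Groth.Agent.Lib.Helper55.topologicalKrullDim_opens_eq_of_localDim_eq _
      (fun g => Groth.Agent.Lib.Helper55.localDim_eq_topologicalKrullDim_of_grpObj G g)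
      ⟨_, hGo⟩ ⟨eG, mem_connectedComponent⟩
  have hHd : topologicalKrullDim (connectedComponent eH) = topologicalKrullDim H.left :=
    Groth.Agent.Lib.Helper55.topologicalKrullDim_opens_eq_of_localDim_eq _
      (fun g => Groth.Agent.Lib.Helper55.localDim_eq_topologicalKrullDim_of_grpObj H g)
      ⟨_, hHo⟩ ⟨eH, mem_connectedComponent⟩
  obtain ⟨n, hn⟩ := Groth.Agent.Lib.Helper55.exists_localDim_eq_natCast (k := k) H.hom eH
  have hHfin : topologicalKrullDim (connectedComponent eH) < ⊤ := by
    rw [hHd, ← Groth.Agent.Lib.Helper55.localDim_eq_topologicalKrullDim_of_grpObj H eH, hn]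
    exact WithBot.coe_lt_coe.mpr (ENat.natCast_lt_top n)
  have hsub : u.left.base '' connectedComponent eG ⊆ connectedComponent eH := by
    rw [← hue]
    exact (isPreconnected_connectedComponent.image _
      u.left.base.hom.continuous.continuousOn).subset_connectedComponent
        ⟨eG, mem_connectedComponent, rfl⟩
  refine hsub.antisymm ?_
  by_contra hne
  have hne' : u.left.base '' connectedComponent eG ≠ connectedComponent eH :=
    fun h => hne h.ge
  have hcl : IsClosed (u.left.base '' connectedComponent eG) :=
    u.left.isClosedEmbedding.isClosedMap _ isClosed_connectedComponent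
  have hirr : IsIrreducible (connectedComponent eH) := by
    rw [Groth.Agent.Lib.Helper70.GrpConnC.connectedComponent_eq]
    exact isIrreducible_irreducibleComponent
  have hlt := Groth.Agent.Lib.Helper2.topologicalKrullDim_lt_of_ssubset_of_isIrreducible
    hsub hne' hcl hirr hHfin
  have himg : topologicalKrullDim (u.left.base '' connectedComponent eG) =
      topologicalKrullDim (connectedComponent eG) :=
    (IsHomeomorph.topologicalKrullDim_eq _
      (u.left.isEmbedding.homeomorphImage (connectedComponent eG)).isHomeomorph).symm
  rw [himg, hGd, hHd, hdim] at hlt
  exact lt_irrefl _ hlt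

end Groth.Agent.S18027
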