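import Groth.Statements.S1804
import Groth.Agent.Lib.Helper35.HDIRestr
import Groth.Agent.S1812

set_option autoImplicit false
universe u
open CategoryTheory
attribute [local instance] HasDerivedCategory.standard
open LocCoh

namespace Groth.Agent.S1804

/-- For Noetherian rings and stated on cohomology. Suppose A → B is a ring map between Noetherian rings,
I is an ideal of A whose extension to B is J = IB, and K is an object of D(B). For every i, the
A-module H^i_I of the restriction of K to D(A) (the direct limit of Hom(A/I^n, K[i])) is isomorphic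
to the restriction to A of the B-module H^i_J(K). -/
theorem result (A B : Type u) [CommRing A] [CommRing B] [Algebra A B] [IsNoetherianRing A] [IsNoetherianRing B] (I : Ideal A) (K : Dual.D B) (i : ℤ) : Nonempty (Dual2.HDI A I ((DRing.restrictD (algebraMap A B)).obj K) i ≅ (ModuleCat.restrictScalars (algebraMap A B)).obj (Dual2.HDI B (I.map (algebraMap A B)) K i)) := by
  haveI := Groth.Agent.Lib.Helper35.LD.hasRgammaI I
  haveI := Groth.Agent.Lib.Helper35.LD.hasRgammaI (I.map (algebraMap A B))
  obtain ⟨e1⟩ := Groth.Agent.S1812.result A I ((isNoetherianRing_iff_ideal_fg A).1 inferInstance I)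
    ((DRing.restrictD (algebraMap A B)).obj K) i
  obtain ⟨e2⟩ := Groth.Agent.S1812.result B (I.map (algebraMap A B))
    ((isNoetherianRing_iff_ideal_fg B).1 inferInstance _) K i
  obtain ⟨e3⟩ := Groth.Agent.Lib.Helper35.HDIRestr.nonempty_Rgamma_restrict_iso (B := B) I K
  obtain ⟨e4⟩ := Groth.Agent.Lib.Helper35.HDIRestr.nonempty_homology_restrictD_iso (algebraMap A B)
    ((DRing.RgammaI (I.map (algebraMap A B))).obj K) i
  let e5 := ((DerivedCategory.homologyFunctor (ModuleCat.{u} A) i).mapIso e3 ≪≫ e4).toLinearEquiv
  let e6 : ((ModuleCat.restrictScalars.{u} (algebraMap A B)).obj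
      ((DerivedCategory.homologyFunctor (ModuleCat.{u} B) i).obj
        ((DRing.RgammaI (I.map (algebraMap A B))).obj K))) ≃ₗ[A]
      ((ModuleCat.restrictScalars (algebraMap A B)).obj
        (Dual2.HDI B (I.map (algebraMap A B)) K i)) :=
    { toFun := fun x => e2 x
      invFun := fun y => e2.symm y
      map_add' := fun x y => e2.map_add x y
      map_smul' := fun a x => e2.map_smul (algebraMap A B a) x
      left_inv := fun x => e2.symm_apply_apply x
      right_inv := fun y => e2.apply_symm_apply y }
  exact ⟨(e1.symm ≪≫ₗ e5 ≪≫ₗ e6).toModuleIso⟩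

end Groth.Agent.S1804
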