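import Groth.Statements.S18040
import Mathlib
-- import your own Groth.Agent.* helpers here

set_option autoImplicit false
universe u
open AdjLin

namespace Groth.Agent.S18040

/-- Let k be an algebraically closed field of characteristic zero and Z a finite set of points of
projective 3-space over k, realised as points of the projectivization of k⁴, a homogeneous form in
four variables being evaluated at the chosen representative of a point (its vanishing does not
depend on the choice). Suppose Z has the Cayley–Bacharach property in degree n: every form of degree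
n vanishing at all points of Z but one vanishes at that point as well. Then for every m ≤ n, either
there is a nonzero form of degree n − m vanishing at every point of Z, or the rank of the evaluation
map from forms of degree m to functions on Z is at most the number of points of Z minus the
dimension of the space of forms of degree n − m. -/
theorem result (k : Type u) [Field k] [IsAlgClosed k] [CharZero k]
    (Z : Finset (Projectivization k (Fin 4 → k))) (n : ℕ)
    (hCB : (∀ z ∈ Z, ∀ p : MvPolynomial (Fin 4) k, p.IsHomogeneous n →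
      (∀ z' ∈ Z, z' ≠ z → MvPolynomial.eval z'.rep p = 0) → MvPolynomial.eval z.rep p = 0))
    (m : ℕ) (hm : m ≤ n) :
    (∃ s : MvPolynomial (Fin 4) k, s.IsHomogeneous (n - m) ∧ s ≠ 0 ∧ ∀ z ∈ Z, MvPolynomial.eval z.rep s = 0) ∨
      Module.finrank k (LinearMap.range
          ((LinearMap.pi fun z : ↥Z => (MvPolynomial.aeval (R := k) z.1.rep).toLinearMap) ∘ₗ
            (MvPolynomial.homogeneousSubmodule (Fin 4) k m).subtype)) +
        Module.finrank k ↥(MvPolynomial.homogeneousSubmodule (Fin 4) k (n - m)) ≤ Z.card := by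
  classical
  by_cases hs : ∃ s : MvPolynomial (Fin 4) k, s.IsHomogeneous (n - m) ∧ s ≠ 0 ∧
      ∀ z ∈ Z, MvPolynomial.eval z.rep s = 0
  · exact Or.inl hs
  right
  -- the evaluation maps
  obtain ⟨ev, hev_def⟩ : ∃ ev : ∀ j : ℕ, ↥(MvPolynomial.homogeneousSubmodule (Fin 4) k j) →ₗ[k] (↥Z → k),
      ∀ j, ev j = (LinearMap.pi fun z : ↥Z => (MvPolynomial.aeval (R := k) z.1.rep).toLinearMap) ∘ₗ
            (MvPolynomial.homogeneousSubmodule (Fin 4) k j).subtype := ⟨_, fun _ => rfl⟩
  have hev : ∀ j (f : ↥(MvPolynomial.homogeneousSubmodule (Fin 4) k j)) (z : ↥Z),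
      ev j f z = MvPolynomial.eval z.1.rep f.1 := by
    intro j f z
    rw [hev_def]
    rfl
  rw [← hev_def m]
  -- E = range of ev n
  have hInf : Infinite k := IsAlgClosed.instInfinite
  -- step 1: unit vectors are not in the range
  have h1 : ∀ z : ↥Z, (Pi.single z (1:k) : ↥Z → k) ∉ LinearMap.range (ev n) := by
    rintro z ⟨f, hf⟩
    have hfz : ∀ z' : ↥Z, MvPolynomial.eval z'.1.rep f.1 = (Pi.single z (1:k) : ↥Z → k) z' := by
      intro z'; rw [← hf, hev]
    have h0 := hCB z.1 z.2 f.1 ((MvPolynomial.mem_homogeneousSubmodule _ _).mp f.2) (by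
      intro z' hz' hne
      have := hfz ⟨z', hz'⟩
      rw [this, Pi.single_apply, if_neg]
      intro heq
      apply hne
      exact congrArg Subtype.val heq)
    have h1' := hfz z
    rw [Pi.single_eq_same] at h1'
    rw [h0] at h1'
    exact zero_ne_one h1'
  -- step 2: functionals
  have h2 : ∀ z : ↥Z, ∃ φ ∈ (LinearMap.range (ev n)).dualAnnihilator, φ (Pi.single z (1:k)) ≠ 0 := by
    intro z
    obtain ⟨f, hf, hf'⟩ := Submodule.exists_dual_map_eq_bot_of_notMem (h1 z) inferInstance
    refine ⟨f, ?_, hf⟩
    rw [Submodule.mem_dualAnnihilator]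
    intro w hw
    have : f w ∈ (LinearMap.range (ev n)).map f := Submodule.mem_map_of_mem hw
    rw [hf'] at this
    exact (Submodule.mem_bot k).mp this
  -- step 3: a common functional
  have h3 : ∃ φ ∈ (LinearMap.range (ev n)).dualAnnihilator, ∀ z : ↥Z, φ (Pi.single z (1:k)) ≠ 0 := by
    by_contra hcon
    push Not at hcon
    let p : ↥Z → Subspace k ↥(LinearMap.range (ev n)).dualAnnihilator := fun z =>
      LinearMap.ker ((Module.Dual.eval k (↥Z → k) (Pi.single z (1:k))) ∘ₗ
        (LinearMap.range (ev n)).dualAnnihilator.subtype)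
    have hcov : ⋃ z, (p z : Set ↥(LinearMap.range (ev n)).dualAnnihilator) = Set.univ := by
      rw [Set.eq_univ_iff_forall]
      intro φ
      obtain ⟨z, hz⟩ := hcon φ.1 φ.2
      rw [Set.mem_iUnion]
      refine ⟨z, ?_⟩
      show φ ∈ p z
      rw [LinearMap.mem_ker]
      exact hz
    obtain ⟨z, hz⟩ := Subspace.exists_eq_top_of_iUnion_eq_univ hcov
    obtain ⟨φ, hφ, hφz⟩ := h2 z
    have : (⟨φ, hφ⟩ : ↥(LinearMap.range (ev n)).dualAnnihilator) ∈ p z := by rw [hz]; trivial
    rw [LinearMap.mem_ker] at this
    exact hφz this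
  obtain ⟨φ, hφ, hφz⟩ := h3
  rw [Submodule.mem_dualAnnihilator] at hφ
  -- step 4: the weights
  obtain ⟨lam, hlam⟩ : ∃ lam : ↥Z → k, ∀ z, lam z = φ (Pi.single z (1:k)) := ⟨_, fun _ => rfl⟩
  have hsum : ∀ w : ↥Z → k, φ w = ∑ z, w z * lam z := by
    intro w
    rw [LinearMap.pi_apply_eq_sum_univ φ w]
    refine Finset.sum_congr rfl (fun z _ => ?_)
    rw [smul_eq_mul, hlam]
    congr 2
    funext j
    rw [Pi.single_apply]
    by_cases h : z = j
    · rw [if_pos h, if_pos h.symm]
    · rw [if_neg h, if_neg (Ne.symm h)]
  -- the bilinear form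
  let B : (↥Z → k) →ₗ[k] (↥Z → k) →ₗ[k] k :=
    LinearMap.mk₂ k (fun u v => ∑ z, lam z * u z * v z)
      (by intro u u' v; simp only [Pi.add_apply, mul_add, add_mul, Finset.sum_add_distrib])
      (by intro c u v; simp only [Pi.smul_apply, smul_eq_mul, Finset.mul_sum]
          refine Finset.sum_congr rfl (fun z _ => by ring))
      (by intro u v v'; simp only [Pi.add_apply, mul_add, Finset.sum_add_distrib])
      (by intro c u v; simp only [Pi.smul_apply, smul_eq_mul, Finset.mul_sum]
          refine Finset.sum_congr rfl (fun z _ => by ring))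
  have hB : ∀ u v, B u v = ∑ z, lam z * u z * v z := fun u v => rfl
  have hBinj : Function.Injective B := by
    rw [← LinearMap.ker_eq_bot, LinearMap.ker_eq_bot']
    intro u hu
    funext z
    have h := congrArg (fun g => g (Pi.single z (1:k))) hu
    simp only [LinearMap.zero_apply] at h
    rw [hB, Finset.sum_eq_single z] at h
    · rw [Pi.single_eq_same, mul_one] at h
      rcases mul_eq_zero.mp h with h | h
      · exact absurd (hlam z ▸ h) (hφz z)
      · exact h
    · intro z' _ hne
      rw [Pi.single_apply, if_neg hne, mul_zero]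
    · intro hz; exact absurd (Finset.mem_univ z) hz
  -- orthogonality
  have hnm : n - m + m = n := Nat.sub_add_cancel hm
  have horth : ∀ u ∈ LinearMap.range (ev (n - m)), B u ∈ (LinearMap.range (ev m)).dualAnnihilator := by
    rintro u ⟨s, rfl⟩
    rw [Submodule.mem_dualAnnihilator]
    rintro v ⟨t, rfl⟩
    have hst : (s.1 * t.1) ∈ MvPolynomial.homogeneousSubmodule (Fin 4) k n := by
      rw [MvPolynomial.mem_homogeneousSubmodule]
      have := ((MvPolynomial.mem_homogeneousSubmodule _ _).mp s.2).mul
        ((MvPolynomial.mem_homogeneousSubmodule _ _).mp t.2)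
      rwa [hnm] at this
    have h0 := hφ (ev n ⟨s.1 * t.1, hst⟩) ⟨_, rfl⟩
    rw [hsum] at h0
    rw [hB, ← h0]
    refine Finset.sum_congr rfl (fun z _ => ?_)
    rw [hev, hev, hev]
    simp only [map_mul]
    ring
  -- injectivity of ev (n - m)
  have hinj : Function.Injective (ev (n - m)) := by
    rw [← LinearMap.ker_eq_bot, LinearMap.ker_eq_bot']
    intro s hs0
    by_contra hne
    apply hs
    refine ⟨s.1, (MvPolynomial.mem_homogeneousSubmodule _ _).mp s.2, ?_, ?_⟩
    · intro h; apply hne; exact Subtype.ext h
    · intro z hz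
      have := congrFun hs0 ⟨z, hz⟩
      rw [hev] at this
      exact this
  -- dimension count
  let T : ↥(LinearMap.range (ev (n - m))) →ₗ[k] ↥(LinearMap.range (ev m)).dualAnnihilator :=
    LinearMap.codRestrict _ (B ∘ₗ (LinearMap.range (ev (n - m))).subtype) (fun u => horth u.1 u.2)
  have hTinj : Function.Injective T := by
    intro u u' huu
    have := congrArg Subtype.val huu
    exact Subtype.ext (hBinj this)
  have hle := LinearMap.finrank_le_finrank_of_injective hTinj
  have hdual := Subspace.finrank_add_finrank_dualAnnihilator_eq (LinearMap.range (ev m))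
  have hcard : Module.finrank k (↥Z → k) = Z.card := by
    rw [Module.finrank_fintype_fun_eq_card, Fintype.card_coe]
  have hrange := LinearMap.finrank_range_of_inj hinj
  omega

end Groth.Agent.S18040
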