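import Groth.Statements.S18049
import Mathlib

set_option autoImplicit false
open STCI

namespace Groth.Agent.S18049

/-- For natural numbers 0 < k < N such that k does not divide N, ⌊N/k⌋ ≤ (N - k)/gcd(k, N); stated here
in the equivalent cleared form ⌊N/k⌋ · gcd(k, N) ≤ N - k. -/
theorem result (k N : ℕ) (hk : 0 < k) (hkN : k < N) (hndvd : ¬ k ∣ N) :
    N / k * Nat.gcd k N ≤ N - k := by
  set g := Nat.gcd k N with hg
  have hgpos : 0 < g := Nat.gcd_pos_of_pos_left N hk
  obtain ⟨a, ha⟩ : g ∣ k := Nat.gcd_dvd_left k N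
  obtain ⟨b, hb⟩ : g ∣ N := Nat.gcd_dvd_right k N
  -- k = g * a, N = g * b, a ∤ b
  have hapos : 0 < a := by
    rcases Nat.eq_zero_or_pos a with h | h
    · subst h; simp at ha; omega
    · exact h
  have hab : ¬ a ∣ b := by
    rintro ⟨c, hc⟩
    apply hndvd
    refine ⟨c, ?_⟩
    rw [hb, ha, hc]; ring
  have hdiv : N / k = b / a := by
    rw [hb, ha, Nat.mul_div_mul_left _ _ hgpos]
  rw [hdiv]
  -- b / a * g ≤ g*b - g*a
  have h1 : b / a * a ≤ b := Nat.div_mul_le_self b a
  have h2 : b / a * a ≠ b := by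
    intro h
    exact hab ⟨b / a, by rw [mul_comm]; exact h.symm⟩
  have h3 : b / a * a + 1 ≤ b := by omega
  -- a ≥ 2 since a ∤ b means a ≠ 1
  have ha2 : 2 ≤ a := by
    rcases Nat.lt_or_ge a 2 with h | h
    · have : a = 1 := by omega
      subst this; exact absurd (one_dvd b) hab
    · exact h
  have hq : b / a + a ≤ b := by
    have hlt : a < b := by
      have : g * a < g * b := by rw [← ha, ← hb]; exact hkN
      exact Nat.lt_of_mul_lt_mul_left this
    have hq1 : 1 ≤ b / a := Nat.div_pos hlt.le hapos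
    nlinarith
  rw [hb, ha]
  have : b / a * g + g * a ≤ g * b := by nlinarith
  omega

end Groth.Agent.S18049
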