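import Groth.Statements.S1805
import Groth.Agent.Lib.Helper35.HDIFlat
import Groth.Agent.S1812

set_option autoImplicit false
universe u
open CategoryTheory
attribute [local instance] HasDerivedCategory.standard
open LocCoh

namespace Groth.Agent.S1805

/-- Suppose A → B is a flat ring map between Noetherian rings, I is an ideal of A, and K is an object of
D(A); assume the derived base change functor D(A) → D(B) exists. Then for every i the B-module
H^i_{IB} of the base change of K (direct limit of Hom(B/I^nB, (K ⊗^L_A B)[i])) is isomorphic to B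
⊗_A H^i_I(K). -/
theorem result (A B : Type u) [CommRing A] [CommRing B] [Algebra A B] [IsNoetherianRing A] [IsNoetherianRing B] [Module.Flat A B] [DRing.HasLBaseChange (algebraMap A B)] (I : Ideal A) (K : Dual.D A) (i : ℤ) : Nonempty (Dual2.HDI B (I.map (algebraMap A B)) ((DRing.LBaseChange (algebraMap A B)).obj K) i ≅ (ModuleCat.extendScalars (algebraMap A B)).obj (Dual2.HDI A I K i)) := by
  haveI := Groth.Agent.Lib.Helper35.LD.hasRgammaI I
  haveI := Groth.Agent.Lib.Helper35.LD.hasRgammaI (I.map (algebraMap A B))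
  have hφ : (algebraMap A B).Flat := RingHom.flat_algebraMap_iff.2 inferInstance
  obtain ⟨e1⟩ := Groth.Agent.S1812.result A I ((isNoetherianRing_iff_ideal_fg A).1 inferInstance I) K i
  obtain ⟨e2⟩ := Groth.Agent.S1812.result B (I.map (algebraMap A B))
    ((isNoetherianRing_iff_ideal_fg B).1 inferInstance _)
    ((DRing.LBaseChange (algebraMap A B)).obj K) i
  obtain ⟨e3⟩ := Groth.Agent.Lib.Helper35.HDIFlat.nonempty_Rgamma_lbc_iso (algebraMap A B) hφ I K
  obtain ⟨e4⟩ := Groth.Agent.Lib.Helper35.HDIFlat.nonempty_homology_lbc_iso (algebraMap A B) hφ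
    ((DRing.RgammaI I).obj K) i
  let e5 := ((DerivedCategory.homologyFunctor (ModuleCat.{u} B) i).mapIso e3 ≪≫ e4).toLinearEquiv
  let e6 := Groth.Agent.Lib.Helper35.HDIFlat.extEquiv (algebraMap A B)
    ((DerivedCategory.homologyFunctor (ModuleCat.{u} A) i).obj ((DRing.RgammaI I).obj K))
    (Dual2.HDI A I K i) e1
  exact ⟨(e2.symm ≪≫ₗ e5 ≪≫ₗ e6).toModuleIso⟩

end Groth.Agent.S1805
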