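import Groth.Statements.S18050
import Mathlib
import Groth.Prelude.Def_W4c5stcicurvesp3Euclid

set_option autoImplicit false
open STCI

namespace Groth.Agent.S18050.Aux

open W4c5stcicurvesp3

theorem irem_succ (a b : ℕ) (h : a % b ≠ 0) : ∀ n, irem a b (n + 1) = irem b (a % b) n := by
  intro n
  induction n using Nat.strong_induction_on with
  | _ n ih =>
    match n with
    | 0 => rfl
    | 1 =>
      show (if irem a b 1 = 0 then 0 else irem a b 0 % irem a b 1) = b % (a % b)
      have : irem a b 1 = a % b := rfl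
      rw [this, if_neg h]; rfl
    | (m + 2) =>
      show (if irem a b (m + 2) = 0 then 0 else irem a b (m + 1) % irem a b (m + 2)) =
        (if irem b (a % b) (m + 1) = 0 then 0 else irem b (a % b) m % irem b (a % b) (m + 1))
      rw [ih (m + 1) (by omega), ih m (by omega)]

theorem idiv_succ (a b : ℕ) (h : a % b ≠ 0) : ∀ n, idiv a b (n + 2) = idiv b (a % b) (n + 1) := by
  intro n
  match n with
  | 0 =>
    show (if irem a b 1 = 0 then 0 else irem a b 0 / irem a b 1) = b / (a % b)
    have : irem a b 1 = a % b := rfl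
    rw [this, if_neg h]; rfl
  | (m + 1) =>
    show (if irem a b (m + 2) = 0 then 0 else irem a b (m + 1) / irem a b (m + 2)) =
      (if irem b (a % b) (m + 1) = 0 then 0 else irem b (a % b) m / irem b (a % b) (m + 1))
    rw [irem_succ a b h (m + 1), irem_succ a b h m]

theorem sum_Icc_one (f : ℕ → ℕ) (t : ℕ) : ∑ i ∈ Finset.Icc 1 t, f i = ∑ i ∈ Finset.range t, f (i + 1) := by
  induction t with
  | zero => simp
  | succ t ih => rw [Finset.sum_Icc_succ_top (by omega), ih, Finset.sum_range_succ]

theorem main : ∀ (t k N : ℕ), 0 < k → k ≤ N → 0 < t → irem N k t = 0 →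
    (∀ i, 0 < i → i < t → irem N k i ≠ 0) →
    (∑ i ∈ Finset.Icc 1 t, idiv N k i) * Nat.gcd k N ≤ N := by
  intro t
  induction t with
  | zero => intro k N _ _ ht; omega
  | succ t ih =>
    intro k N hk hkN _ hzero hmin
    rcases Nat.eq_zero_or_pos t with ht0 | htpos
    · subst ht0
      have h1 : N % k = 0 := hzero
      have hdvd : k ∣ N := Nat.dvd_of_mod_eq_zero h1
      have : ∑ i ∈ Finset.Icc 1 (0 + 1), idiv N k i = N / k := by simp; rfl
      rw [this, Nat.gcd_eq_left hdvd, Nat.div_mul_cancel hdvd]
    · have hr : N % k ≠ 0 := hmin 1 (by omega) (by omega)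
      set r := N % k with hrdef
      have hrpos : 0 < r := Nat.pos_of_ne_zero hr
      have hrk : r < k := Nat.mod_lt _ hk
      have hz' : irem k r t = 0 := by rw [← irem_succ N k hr t]; exact hzero
      have hmin' : ∀ i, 0 < i → i < t → irem k r i ≠ 0 := by
        intro i hi hit
        rw [← irem_succ N k hr i]
        exact hmin (i + 1) (by omega) (by omega)
      have IH := ih r k hrpos hrk.le htpos hz' hmin'
      rw [sum_Icc_one] at IH ⊢
      rw [Finset.sum_range_succ']
      have hsum : ∑ i ∈ Finset.range t, idiv N k (i + 1 + 1) = ∑ i ∈ Finset.range t, idiv k r (i + 1) := by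
        apply Finset.sum_congr rfl
        intro i _
        exact idiv_succ N k hr i
      rw [hsum]
      have hq : idiv N k (0 + 1) = N / k := rfl
      rw [hq]
      set Ssum := ∑ i ∈ Finset.range t, idiv k r (i + 1) with hS
      have hg : Nat.gcd k N = Nat.gcd r k := by rw [Nat.gcd_rec]
      rw [hg]
      set g := Nat.gcd r k with hgdef
      have hgr : g ≤ r := Nat.le_of_dvd hrpos (Nat.gcd_dvd_left r k)
      have hgk : g ≤ k := Nat.le_of_dvd hk (Nat.gcd_dvd_right r k)
      have hN : k * (N / k) + r = N := Nat.div_add_mod N k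
      have hq1 : 1 ≤ N / k := Nat.div_pos hkN hk
      set q := N / k with hqdef
      nlinarith [Nat.mul_le_mul (Nat.sub_le_sub_right hq1 1) (Nat.sub_le k g)]

end Groth.Agent.S18050.Aux

namespace Groth.Agent.S18050

open W4c5stcicurvesp3 in
/-- Let k ≤ N be positive integers, let t be the least positive integer with rem_t(N, k) = 0, where
rem_0 = k, rem_1 = N mod k and rem_i is the remainder of rem_{i-2} by rem_{i-1} (iterated Euclidean
remainders), and let d_i be the corresponding iterated quotients (d_1 = ⌊N/k⌋, d_i =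
⌊rem_{i-2}/rem_{i-1}⌋). Then d_1 + ⋯ + d_t ≤ N/gcd(k, N); stated in the cleared form (d_1 + ⋯ + d_t)
· gcd(k, N) ≤ N. -/
theorem result (k N t : ℕ) (hk : 0 < k) (hkN : k ≤ N) (ht : 0 < t)
    (hzero : irem N k t = 0) (hmin : ∀ i, 0 < i → i < t → irem N k i ≠ 0) :
    (∑ i ∈ Finset.Icc 1 t, idiv N k i) * Nat.gcd k N ≤ N := by
  exact Aux.main t k N hk hkN ht hzero hmin

end Groth.Agent.S18050
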