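import Groth.Statements.S18051
import Mathlib
import Groth.Prelude.Def_W4c5stcicurvesp3Euclid

set_option autoImplicit false
open STCI

namespace Groth.Agent.S18051.Aux

open W4c5stcicurvesp3

/-- The rational inequality behind the three-step bound. -/
theorem three_step_rat (K R E Q P : ℚ) (hR : 0 < R) (hE : 0 ≤ E) (hRK : R < K)
    (hQ : 2 ≤ Q) (hP : 1 ≤ P) (hK : K = P * R + E) (hP2 : P = 1 ∨ 2 ≤ P) :
    (K - R) / Q + (R - E) / (Q + P) + E / (Q + P + 1) ≤ K ^ 2 / (Q * K + R) := by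
  have hK0 : 0 < K := by linarith
  have hQ0 : 0 < Q := by linarith
  have hD : 0 < Q * K + R := by positivity
  have hQP : 0 < Q + P := by linarith
  have hQP1 : 0 < Q + P + 1 := by linarith
  have key : K ^ 2 / (Q * K + R) - ((K - R) / Q + (R - E) / (Q + P) + E / (Q + P + 1)) =
      R * (P * Q * K - Q * K - P * K + P * R) / (Q * (Q * K + R) * (Q + P)) +
        E / ((Q + P) * (Q + P + 1)) := by
    field_simp
    ring
  rw [← sub_nonneg, key]
  rcases hP2 with h1 | h2
  · subst h1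
    have hE' : E = K - R := by linarith
    subst hE'
    have : R * (1 * Q * K - Q * K - 1 * K + 1 * R) / (Q * (Q * K + R) * (Q + 1)) +
        (K - R) / ((Q + 1) * (Q + 1 + 1)) =
        (K - R) * (Q * (Q * K + R) - R * (Q + 2)) / (Q * (Q * K + R) * (Q + 1) * (Q + 2)) := by
      field_simp
      ring
    rw [this]
    apply div_nonneg
    · apply mul_nonneg (by linarith)
      nlinarith [mul_pos hQ0 hK0, mul_le_mul hQ hQ (by norm_num) hQ0.le]
    · positivity
  · apply add_nonneg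
    · apply div_nonneg
      · apply mul_nonneg hR.le
        have : 0 ≤ (P - 1) * (Q - 1) - 1 := by nlinarith
        nlinarith [mul_nonneg this hK0.le, mul_pos (by linarith : (0:ℚ) < P) hR]
      · positivity
    · positivity

theorem foo (k N : ℕ) (hk : 0 < k) (hkN : 2 * k ≤ N)
    (h1 : irem N k 1 ≠ 0) (h2 : irem N k 2 ≠ 0) :
    ((irem N k 0 : ℚ) - irem N k 1) / (idiv N k 1)
      + ((irem N k 1 : ℚ) - irem N k 2) / ((idiv N k 1 : ℚ) + idiv N k 2)
      + (irem N k 2 : ℚ) / ((idiv N k 1 : ℚ) + idiv N k 2 + 1)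
      ≤ (k : ℚ) ^ 2 / N := by
  have e0 : irem N k 0 = k := rfl
  have e1 : irem N k 1 = N % k := rfl
  have hr : N % k ≠ 0 := h1
  have e2 : irem N k 2 = k % (N % k) := by
    show (if irem N k 1 = 0 then 0 else irem N k 0 % irem N k 1) = _
    rw [e1, if_neg hr]; rfl
  have d1 : idiv N k 1 = N / k := rfl
  have d2 : idiv N k 2 = k / (N % k) := by
    show (if irem N k 1 = 0 then 0 else irem N k 0 / irem N k 1) = _
    rw [e1, if_neg hr]; rfl
  rw [e2] at h2
  rw [e0, e1, e2, d1, d2]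
  set r := N % k with hrdef
  set e := k % r with hedef
  set q := N / k with hqdef
  set p := k / r with hpdef
  have hrpos : 0 < r := Nat.pos_of_ne_zero hr
  have hepos : 0 < e := Nat.pos_of_ne_zero h2
  have hrk : r < k := Nat.mod_lt _ hk
  have her : e < r := Nat.mod_lt _ hrpos
  have hN : k * q + r = N := Nat.div_add_mod N k
  have hK : r * p + e = k := Nat.div_add_mod k r
  have hq2 : 2 ≤ q := by
    rw [hqdef, Nat.le_div_iff_mul_le hk]; exact hkN
  have hp1 : 1 ≤ p := by
    rw [hpdef, Nat.le_div_iff_mul_le hrpos]; omega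
  have hNq : (N : ℚ) = (q : ℚ) * k + r := by
    rw [← hN]; push_cast; ring
  have hKq : (k : ℚ) = (p : ℚ) * r + e := by
    rw [← hK]; push_cast; ring
  rw [hNq]
  apply three_step_rat (k : ℚ) r e q p
  · exact_mod_cast hrpos
  · exact_mod_cast hepos.le
  · exact_mod_cast hrk
  · exact_mod_cast hq2
  · exact_mod_cast hp1
  · exact hKq
  · rcases Nat.eq_or_lt_of_le hp1 with h | h
    · left; exact_mod_cast h.symm
    · right; exact_mod_cast h

end Groth.Agent.S18051.Aux

namespace Groth.Agent.S18051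

open W4c5stcicurvesp3 in
/-- Let k ≤ N/2 be positive integers and let r_i = rem_i(N, k), d_i = div_i(N, k) be the iterated
Euclidean remainders and quotients of (N, k) (r_0 = k, r_1 = N mod k, r_2 = r_0 mod r_1, d_1 =
⌊N/k⌋, d_2 = ⌊r_0/r_1⌋). If the least positive t with r_t = 0 satisfies t ≥ 3, i.e. r_1 ≠ 0 and r_2
≠ 0, then (r_0 - r_1)/d_1 + (r_1 - r_2)/(d_1 + d_2) + r_2/(d_1 + d_2 + 1) ≤ k²/N (in ℚ). -/
theorem result (k N : ℕ) (hk : 0 < k) (hkN : 2 * k ≤ N)
    (h1 : irem N k 1 ≠ 0) (h2 : irem N k 2 ≠ 0) :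
    ((irem N k 0 : ℚ) - irem N k 1) / (idiv N k 1)
      + ((irem N k 1 : ℚ) - irem N k 2) / ((idiv N k 1 : ℚ) + idiv N k 2)
      + (irem N k 2 : ℚ) / ((idiv N k 1 : ℚ) + idiv N k 2 + 1)
      ≤ (k : ℚ) ^ 2 / N := by
  exact Aux.foo k N hk hkN h1 h2

end Groth.Agent.S18051
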