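import Groth.Statements.S18052
import Mathlib
import Groth.Agent.S18050
import Groth.Agent.S18051

set_option autoImplicit false
open STCI

namespace Groth.Agent.S18052.Aux

open W4c5stcicurvesp3

theorem irem_anti (N k : ℕ) (hk : 0 < k) : ∀ i, irem N k (i + 1) ≤ irem N k i := by
  intro i
  match i with
  | 0 => exact (Nat.mod_lt N hk).le
  | (m + 1) =>
    show (if irem N k (m + 1) = 0 then 0 else irem N k m % irem N k (m + 1)) ≤ irem N k (m + 1)
    split_ifs with h
    · exact Nat.zero_le _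
    · exact (Nat.mod_lt _ (Nat.pos_of_ne_zero h)).le

theorem foo (k N t : ℕ) (hk : 0 < k) (hkN : 2 * k ≤ N) (ht : 0 < t)
    (hzero : irem N k t = 0) (hmin : ∀ i, 0 < i → i < t → irem N k i ≠ 0) :
    ∑ i ∈ Finset.range t, ((irem N k i : ℚ) - irem N k (i + 1)) / (∑ j ∈ Finset.Icc 1 (i + 1), (idiv N k j : ℚ))
      ≤ (k : ℚ) ^ 2 / N := by
  have e0 : irem N k 0 = k := rfl
  have e1 : irem N k 1 = N % k := rfl
  have d1 : idiv N k 1 = N / k := rfl
  have hN : k * (N / k) + N % k = N := Nat.div_add_mod N k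
  have hq2 : 2 ≤ N / k := by
    rw [Nat.le_div_iff_mul_le hk]; exact hkN
  have hkQ : (0 : ℚ) < k := by exact_mod_cast hk
  have hq2Q : (2 : ℚ) ≤ ((N / k : ℕ) : ℚ) := by exact_mod_cast hq2
  rcases Nat.lt_or_ge t 2 with ht1 | ht2
  · -- t = 1
    have : t = 1 := by omega
    subst this
    rw [e1] at hzero
    simp only [Finset.range_one, Finset.sum_singleton, zero_add, Finset.Icc_self]
    rw [e0, e1, hzero, d1]
    have hNq : (N : ℚ) = (k : ℚ) * ((N / k : ℕ) : ℚ) := by
      have := hN; rw [hzero, add_zero] at this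
      exact_mod_cast this.symm
    have hqpos : (0 : ℚ) < ((N / k : ℕ) : ℚ) := by linarith
    rw [hNq]
    apply le_of_eq
    field_simp
    simp
  · have hr : N % k ≠ 0 := hmin 1 (by omega) (by omega)
    have hrpos : 0 < N % k := Nat.pos_of_ne_zero hr
    have hrk : N % k < k := Nat.mod_lt _ hk
    have e2 : irem N k 2 = k % (N % k) := by
      show (if irem N k 1 = 0 then 0 else irem N k 0 % irem N k 1) = _
      rw [e1, if_neg hr]; rfl
    have d2 : idiv N k 2 = k / (N % k) := by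
      show (if irem N k 1 = 0 then 0 else irem N k 0 / irem N k 1) = _
      rw [e1, if_neg hr]; rfl
    have hK : N % k * (k / (N % k)) + k % (N % k) = k := Nat.div_add_mod k (N % k)
    have hp1 : 1 ≤ k / (N % k) := by
      rw [Nat.le_div_iff_mul_le hrpos]; omega
    have hNq : (N : ℚ) = ((N / k : ℕ) : ℚ) * k + ((N % k : ℕ) : ℚ) := by
      have := hN
      have h' : ((k * (N / k) + N % k : ℕ) : ℚ) = (N : ℚ) := by rw [this]
      push_cast at h'; linarith
    have hKq : (k : ℚ) = ((k / (N % k) : ℕ) : ℚ) * ((N % k : ℕ) : ℚ) + ((k % (N % k) : ℕ) : ℚ) := by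
      have := hK
      have h' : ((N % k * (k / (N % k)) + k % (N % k) : ℕ) : ℚ) = (k : ℚ) := by rw [this]
      push_cast at h'; linarith
    have hP2 : ((k / (N % k) : ℕ) : ℚ) = 1 ∨ (2 : ℚ) ≤ ((k / (N % k) : ℕ) : ℚ) := by
      rcases Nat.eq_or_lt_of_le hp1 with h | h
      · left; exact_mod_cast h.symm
      · right; exact_mod_cast h
    have h3step := Groth.Agent.S18051.Aux.three_step_rat (k : ℚ) ((N % k : ℕ) : ℚ) ((k % (N % k) : ℕ) : ℚ)
      ((N / k : ℕ) : ℚ) ((k / (N % k) : ℕ) : ℚ) (by exact_mod_cast hrpos) (by positivity)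
      (by exact_mod_cast hrk) hq2Q (by exact_mod_cast hp1) hKq hP2
    rw [← hNq] at h3step
    refine le_trans ?_ h3step
    -- split off first two terms
    obtain ⟨s, rfl⟩ : ∃ s, t = s + 2 := ⟨t - 2, by omega⟩
    rw [Finset.sum_range_succ', Finset.sum_range_succ']
    have hI1 : ∑ j ∈ Finset.Icc 1 (0 + 1), (idiv N k j : ℚ) = ((N / k : ℕ) : ℚ) := by
      simp [d1]
    have hI2 : ∑ j ∈ Finset.Icc 1 (0 + 1 + 1), (idiv N k j : ℚ) =
        ((N / k : ℕ) : ℚ) + ((k / (N % k) : ℕ) : ℚ) := by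
      have : Finset.Icc 1 (0 + 1 + 1) = {1, 2} := by decide
      rw [this, Finset.sum_pair (by norm_num), d1, d2]
    rw [hI1, hI2]
    have hrest : ∑ i ∈ Finset.range s, ((irem N k (i + 1 + 1) : ℚ) - irem N k (i + 1 + 1 + 1)) /
          (∑ j ∈ Finset.Icc 1 (i + 1 + 1 + 1), (idiv N k j : ℚ)) ≤
        ((k % (N % k) : ℕ) : ℚ) / (((N / k : ℕ) : ℚ) + ((k / (N % k) : ℕ) : ℚ) + 1) := by
      rcases Nat.eq_zero_or_pos s with hs0 | hspos
      · subst hs0
        simp only [Finset.range_zero, Finset.sum_empty]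
        positivity
      · -- r_2 ≠ 0
        have hr2 : irem N k 2 ≠ 0 := hmin 2 (by omega) (by omega)
        have hd3 : 1 ≤ idiv N k 3 := by
          show 1 ≤ (if irem N k 2 = 0 then 0 else irem N k 1 / irem N k 2)
          rw [if_neg hr2]
          rw [Nat.le_div_iff_mul_le (Nat.pos_of_ne_zero hr2), one_mul]
          exact irem_anti N k hk 1
        have hden : ∀ i, ((N / k : ℕ) : ℚ) + ((k / (N % k) : ℕ) : ℚ) + 1 ≤
            ∑ j ∈ Finset.Icc 1 (i + 1 + 1 + 1), (idiv N k j : ℚ) := by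
          intro i
          have hsub : ({1, 2, 3} : Finset ℕ) ⊆ Finset.Icc 1 (i + 1 + 1 + 1) := by
            intro x hx
            simp only [Finset.mem_insert, Finset.mem_singleton] at hx
            rw [Finset.mem_Icc]; omega
          have h1 := Finset.sum_le_sum_of_subset_of_nonneg (f := fun j => (idiv N k j : ℚ)) hsub
            (fun j _ _ => by positivity)
          have h2 : ∑ j ∈ ({1, 2, 3} : Finset ℕ), (idiv N k j : ℚ) =
              (idiv N k 1 : ℚ) + idiv N k 2 + idiv N k 3 := by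
            rw [Finset.sum_insert (by decide), Finset.sum_pair (by norm_num)]; ring
          rw [h2, d1, d2] at h1
          have : (1 : ℚ) ≤ idiv N k 3 := by exact_mod_cast hd3
          linarith
        have hnum : ∀ i, (0 : ℚ) ≤ (irem N k (i + 1 + 1) : ℚ) - irem N k (i + 1 + 1 + 1) := by
          intro i
          have := irem_anti N k hk (i + 1 + 1)
          have : (irem N k (i + 1 + 1 + 1) : ℚ) ≤ irem N k (i + 1 + 1) := by exact_mod_cast this
          linarith
        have hpos : (0 : ℚ) < ((N / k : ℕ) : ℚ) + ((k / (N % k) : ℕ) : ℚ) + 1 := by positivity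
        calc ∑ i ∈ Finset.range s, ((irem N k (i + 1 + 1) : ℚ) - irem N k (i + 1 + 1 + 1)) /
              (∑ j ∈ Finset.Icc 1 (i + 1 + 1 + 1), (idiv N k j : ℚ))
            ≤ ∑ i ∈ Finset.range s, ((irem N k (i + 1 + 1) : ℚ) - irem N k (i + 1 + 1 + 1)) /
              (((N / k : ℕ) : ℚ) + ((k / (N % k) : ℕ) : ℚ) + 1) := by
              apply Finset.sum_le_sum
              intro i _
              exact div_le_div_of_nonneg_left (hnum i) hpos (hden i)
          _ = (∑ i ∈ Finset.range s, ((irem N k (i + 1 + 1) : ℚ) - irem N k (i + 1 + 1 + 1))) /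
              (((N / k : ℕ) : ℚ) + ((k / (N % k) : ℕ) : ℚ) + 1) := by
              rw [Finset.sum_div]
          _ = ((irem N k 2 : ℚ) - irem N k (s + 2)) /
              (((N / k : ℕ) : ℚ) + ((k / (N % k) : ℕ) : ℚ) + 1) := by
              congr 1
              have := Finset.sum_range_sub' (fun i => (irem N k (i + 2) : ℚ)) s
              simpa [add_assoc] using this
          _ = ((k % (N % k) : ℕ) : ℚ) / (((N / k : ℕ) : ℚ) + ((k / (N % k) : ℕ) : ℚ) + 1) := by
              rw [hzero, e2]; simp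
    have hT0 : ((irem N k 0 : ℚ) - irem N k (0 + 1)) = (k : ℚ) - ((N % k : ℕ) : ℚ) := by
      rw [e0]; rfl
    have hT1 : ((irem N k (0 + 1) : ℚ) - irem N k (0 + 1 + 1)) =
        ((N % k : ℕ) : ℚ) - ((k % (N % k) : ℕ) : ℚ) := by
      show ((irem N k 1 : ℚ) - irem N k 2) = _
      rw [e1, e2]
    rw [hT0, hT1]
    linarith

end Groth.Agent.S18052.Aux

namespace Groth.Agent.S18052

open W4c5stcicurvesp3 in
/-- Let k ≤ N/2 be positive integers, let r_i = rem_i(N, k) and d_i = div_i(N, k) be the iterated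
Euclidean remainders and quotients of (N, k) (r_0 = k, r_1 = N mod k, …; d_1 = ⌊N/k⌋, d_i =
⌊r_{i-2}/r_{i-1}⌋), and let t be the least positive integer with r_t = 0. Then the sum over i = 0,
…, t - 1 of (r_i - r_{i+1})/(d_1 + ⋯ + d_{i+1}) is at most k²/N (in ℚ). -/
theorem result (k N t : ℕ) (hk : 0 < k) (hkN : 2 * k ≤ N) (ht : 0 < t)
    (hzero : irem N k t = 0) (hmin : ∀ i, 0 < i → i < t → irem N k i ≠ 0) :
    ∑ i ∈ Finset.range t, ((irem N k i : ℚ) - irem N k (i + 1)) / (∑ j ∈ Finset.Icc 1 (i + 1), (idiv N k j : ℚ))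
      ≤ (k : ℚ) ^ 2 / N := by
  exact Aux.foo k N t hk hkN ht hzero hmin

end Groth.Agent.S18052
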