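import Groth.Statements.S18053
import Mathlib

set_option autoImplicit false
open STCI

namespace Groth.Agent.S18053.Aux

set_option autoImplicit false

open Finset

theorem core (n a b c r : ℕ) (h1 : 5 * a + 2 * n ≤ 45) (hba : b ≤ a) (hcb : c ≤ b)
    (hsum : a + b + c + r + n ≤ 19) (hr : r ≤ 17 * c)
    (hW : 360 ≤ 15 * n + 30 * a + 10 * b + 5 * c + 3 * r) :
    n = 0 ∧ r = 0 ∧ ((a = 9 ∧ b = 8 ∧ c = 2) ∨ (a = 9 ∧ b = 9 ∧ c = 0) ∨ (a = 9 ∧ b = 9 ∧ c = 1)) := by
  have hn : n ≤ 19 := by omega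
  have ha : a ≤ 9 := by omega
  interval_cases n <;> interval_cases a <;> omega

theorem main (p : ℕ → ℕ) (n : ℕ)
    (h1 : (p 0 : ℝ) ≤ 9 - (2 / 5 : ℝ) * n) (h2 : Antitone p)
    (h3 : ∀ m : ℕ, ((∑ k ∈ Finset.range m, p k : ℕ) : ℝ) ≤ 19 - (n : ℝ))
    (h4 : (6 : ℝ) ≤ (n : ℝ) / 4 + ∑' k : ℕ, (p k : ℝ) / (((k : ℝ) + 1) * ((k : ℝ) + 2))) :
    n = 0 ∧ (p = (fun k => if k = 0 then 9 else if k = 1 then 8 else if k = 2 then 2 else 0)
      ∨ p = (fun k => if k = 0 then 9 else if k = 1 then 9 else 0)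
      ∨ p = (fun k => if k = 0 then 9 else if k = 1 then 9 else if k = 2 then 1 else 0)) := by
  -- sum of the first 20 terms
  have hs20 : (∑ k ∈ Finset.range 20, p k) + n ≤ 19 := by
    have := h3 20
    have h' : ((∑ k ∈ Finset.range 20, p k : ℕ) : ℝ) + (n : ℝ) ≤ 19 := by linarith
    exact_mod_cast h'
  -- p 19 = 0
  have hp19 : p 19 = 0 := by
    by_contra hne
    have hpos : ∀ k ∈ Finset.range 20, 1 ≤ p k := by
      intro k hk
      have : p 19 ≤ p k := h2 (by have := Finset.mem_range.mp hk; omega)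
      omega
    have : 20 ≤ ∑ k ∈ Finset.range 20, p k := by
      calc 20 = ∑ k ∈ Finset.range 20, 1 := by simp
        _ ≤ _ := Finset.sum_le_sum hpos
    omega
  have hzero : ∀ k, 19 ≤ k → p k = 0 := by
    intro k hk
    have : p k ≤ p 19 := h2 hk
    omega
  -- the series is a finite sum
  have htsum : ∑' k : ℕ, (p k : ℝ) / (((k : ℝ) + 1) * ((k : ℝ) + 2)) =
      ∑ k ∈ Finset.range 20, (p k : ℝ) / (((k : ℝ) + 1) * ((k : ℝ) + 2)) := by
    apply tsum_eq_sum
    intro k hk
    have : 19 ≤ k := by have := Finset.mem_range.not.mp hk; omega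
    rw [hzero k this]; simp
  rw [htsum] at h4
  simp only [Finset.sum_range_succ, Finset.sum_range_zero, zero_add] at h4 hs20
  norm_num at h4
  have e19 : (p 19 : ℝ) = 0 := by exact_mod_cast hp19
  -- antitone chain
  have c1 : p 1 ≤ p 0 := h2 (by norm_num)
  have c2 : p 2 ≤ p 1 := h2 (by norm_num)
  have c3 : p 3 ≤ p 2 := h2 (by norm_num)
  have cle : ∀ k, 3 ≤ k → p k ≤ p 3 := fun k hk => h2 hk
  set r := p 3 + p 4 + p 5 + p 6 + p 7 + p 8 + p 9 + p 10 + p 11 + p 12 + p 13 + p 14 + p 15 +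
    p 16 + p 17 + p 18 + p 19 with hr
  have hrc : r ≤ 17 * p 2 := by
    have := cle 4 (by norm_num); have := cle 5 (by norm_num); have := cle 6 (by norm_num)
    have := cle 7 (by norm_num); have := cle 8 (by norm_num); have := cle 9 (by norm_num)
    have := cle 10 (by norm_num); have := cle 11 (by norm_num); have := cle 12 (by norm_num)
    have := cle 13 (by norm_num); have := cle 14 (by norm_num); have := cle 15 (by norm_num)
    have := cle 16 (by norm_num); have := cle 17 (by norm_num); have := cle 18 (by norm_num)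
    have := cle 19 (by norm_num)
    omega
  have h1' : 5 * p 0 + 2 * n ≤ 45 := by
    have : (5 * p 0 + 2 * n : ℝ) ≤ 45 := by linarith
    exact_mod_cast this
  have hW : 360 ≤ 15 * n + 30 * p 0 + 10 * p 1 + 5 * p 2 + 3 * r := by
    have hnn : ∀ k, (0 : ℝ) ≤ p k := fun k => Nat.cast_nonneg _
    have : (360 : ℝ) ≤ 15 * n + 30 * p 0 + 10 * p 1 + 5 * p 2 + 3 * (r : ℝ) := by
      rw [hr]; push_cast
      have := hnn 3; have := hnn 4; have := hnn 5; have := hnn 6; have := hnn 7; have := hnn 8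
      have := hnn 9; have := hnn 10; have := hnn 11; have := hnn 12; have := hnn 13
      have := hnn 14; have := hnn 15; have := hnn 16; have := hnn 17; have := hnn 18
      have := hnn 19
      linarith
    exact_mod_cast this
  have hsum : p 0 + p 1 + p 2 + r + n ≤ 19 := by omega
  obtain ⟨hn, hr0, hcases⟩ := core n (p 0) (p 1) (p 2) r h1' c1 c2 hsum hrc hW
  refine ⟨hn, ?_⟩
  have hp3 : ∀ k, 3 ≤ k → p k = 0 := by
    intro k hk
    have h3' : p 3 = 0 := by omega
    have := cle k hk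
    omega
  rcases hcases with ⟨ha, hb, hc⟩ | ⟨ha, hb, hc⟩ | ⟨ha, hb, hc⟩
  · left
    funext k
    rcases k with _ | _ | _ | k
    · simpa using ha
    · simpa using hb
    · simpa using hc
    · simpa using hp3 (k + 3) (by omega)
  · right; left
    funext k
    rcases k with _ | _ | _ | k
    · simpa using ha
    · simpa using hb
    · simpa using hc
    · simpa using hp3 (k + 3) (by omega)
  · right; right
    funext k
    rcases k with _ | _ | _ | k
    · simpa using ha
    · simpa using hb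
    · simpa using hc
    · simpa using hp3 (k + 3) (by omega)

end Groth.Agent.S18053.Aux

namespace Groth.Agent.S18053

/-- Let (p_k)_{k ≥ 1} be a sequence of nonnegative integers and n a nonnegative integer such that (i)
p_1 ≤ 9 - (2/5)n, (ii) p_1 ≥ p_2 ≥ p_3 ≥ ⋯, (iii) Σ_k p_k ≤ 19 - n, and (iv) n/4 + Σ_{k ≥ 1}
p_k/(k(k+1)) ≥ 6. Then n = 0 and (p_k) is one of (9, 8, 2), (9, 9), (9, 9, 1) (followed by zeros).
Here the sequence is indexed from 0 (so p 0 is p_1 and the weight of p k is 1/((k+1)(k+2))), (iii)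
is stated for every partial sum, and the series in (iv) is the real sum Σ' over all k. -/
theorem result (p : ℕ → ℕ) (n : ℕ)
    (h1 : (p 0 : ℝ) ≤ 9 - (2 / 5 : ℝ) * n) (h2 : Antitone p)
    (h3 : ∀ m : ℕ, ((∑ k ∈ Finset.range m, p k : ℕ) : ℝ) ≤ 19 - (n : ℝ))
    (h4 : (6 : ℝ) ≤ (n : ℝ) / 4 + ∑' k : ℕ, (p k : ℝ) / (((k : ℝ) + 1) * ((k : ℝ) + 2))) :
    n = 0 ∧ (p = (fun k => if k = 0 then 9 else if k = 1 then 8 else if k = 2 then 2 else 0)
      ∨ p = (fun k => if k = 0 then 9 else if k = 1 then 9 else 0)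
      ∨ p = (fun k => if k = 0 then 9 else if k = 1 then 9 else if k = 2 then 1 else 0)) := by
  exact Aux.main p n h1 h2 h3 h4

end Groth.Agent.S18053
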