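import Groth.Statements.S18054
import Mathlib

set_option autoImplicit false
open STCI

namespace Groth.Agent.S18054.Aux

theorem foo (s t d g n : ℤ) (hs : 4 ≤ s) (hst : s ≤ t) (hd : 1 ≤ d) (hg : 0 ≤ g)
    (hn : s * t = d * n) (hn2 : 2 ≤ n)
    (hr : 3 * (d * (n * (s - 4) + t) + (2 - 2 * g) * n) ≤ s * (2 * s ^ 2 - 6 * s + 7) - 3) :
    d ≤ g + 3 := by
  by_contra hcon
  have hcon := not_le.mp hcon
  have hgd : g ≤ d - 4 := by omega
  -- key inequality
  have key : 3 * s * t * (s - 6) + 3 * (d * t + 10 * n) ≤ 2 * s ^ 3 - 6 * s ^ 2 + 7 * s - 3 := by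
    have h1 : (2 - 2 * g) * n ≥ (10 - 2 * d) * n := by nlinarith
    nlinarith
  obtain ⟨u, hu⟩ : ∃ u, u = d * t + 10 * n := ⟨_, rfl⟩
  have hupos : 0 < u := by
    have : 0 ≤ d * t := mul_nonneg (by linarith) (by linarith)
    linarith
  have hamgm : u ^ 2 ≥ 40 * s * t ^ 2 := by
    have : (d * t - 10 * n) ^ 2 ≥ 0 := sq_nonneg _
    nlinarith
  obtain ⟨G, hG⟩ : ∃ G, G = 2 * s ^ 3 - 6 * s ^ 2 + 7 * s - 3 - 3 * s * t * (s - 6) := ⟨_, rfl⟩
  have hle : 3 * u ≤ G := by rw [hG, hu]; linarith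
  have hGpos : 0 < G := by linarith
  have hsq : (3 * u) ^ 2 ≤ G ^ 2 := by
    apply pow_le_pow_left₀ (by linarith) hle
  have hfin : 360 * s * t ^ 2 ≤ G ^ 2 := by nlinarith
  clear hr hamgm hsq hle hupos hcon
  -- Now case analysis on s
  have hs13 : s ≤ 12 := by
    by_contra h13
    have h13 := not_le.mp h13
    have : G ≤ 0 := by
      rw [hG]
      have e1 : 0 ≤ s * (t - s) * (s - 6) := mul_nonneg (mul_nonneg (by linarith) (by linarith)) (by linarith)
      have e2 : 0 ≤ (s - 13) * s * s := mul_nonneg (mul_nonneg (by linarith) (by linarith)) (by linarith)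
      have e3 : 0 ≤ (s - 13) * s := mul_nonneg (by linarith) (by linarith)
      nlinarith
    linarith
  interval_cases s
  · -- s = 4
    rcases eq_or_lt_of_le hst with h4 | h4
    · -- t = 4
      subst h4
      have hd8 : d ≤ 8 := by nlinarith
      have hd4 : 4 ≤ d := by linarith
      interval_cases d <;> (subst hu; omega)
    · have ht5 : 5 ≤ t := by omega
      rw [hG] at hfin
      nlinarith
  all_goals (rw [hG] at hfin hGpos; nlinarith)

end Groth.Agent.S18054.Aux

namespace Groth.Agent.S18054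

/-- Let s, t, d, g be integers with t ≥ s ≥ 4, d ≥ 1, g ≥ 0 and d dividing st; put n = st/d and assume n
≥ 2; put r = d[n(s - 4) + t] + (2 - 2g)n and assume r ≤ (s/3)(2s² - 6s + 7) - 1. Then d ≤ g + 3.
(The bound is written cleared of the denominator 3; s(2s² - 6s + 7) is always divisible by 3, so
this is the same condition.) -/
theorem result (s t d g n : ℤ) (hs : 4 ≤ s) (hst : s ≤ t) (hd : 1 ≤ d) (hg : 0 ≤ g)
    (hn : s * t = d * n) (hn2 : 2 ≤ n)
    (hr : 3 * (d * (n * (s - 4) + t) + (2 - 2 * g) * n) ≤ s * (2 * s ^ 2 - 6 * s + 7) - 3) :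
    d ≤ g + 3 := by
  exact Aux.foo s t d g n hs hst hd hg hn hn2 hr

end Groth.Agent.S18054
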