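import Groth.Statements.S18055
import Mathlib

set_option autoImplicit false
open STCI

namespace Groth.Agent.S18055.Aux

theorem foo (d g s t n : ℤ) (hd : 1 ≤ d) (hg : 0 ≤ g) (hs : 1 ≤ s) (hst : s ≤ t)
    (hn : s * t = d * n) (hn2 : 2 ≤ n)
    (hpos : 0 < d * (n * (s - 4) + t) + (2 - 2 * g) * n)
    (hdvd : (n - 1) ∣ d * (n * (s - 4) + t) + (2 - 2 * g) * n) :
    s < 2 * d ^ 2 ∧ t < 2 * d ^ 4 := by
  obtain ⟨a, ha⟩ : ∃ a, a = d * (s - 4) + 2 - 2 * g := ⟨_, rfl⟩
  have hr : d * (n * (s - 4) + t) + (2 - 2 * g) * n = n * a + d * t := by rw [ha]; ring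
  rw [hr] at hpos hdvd
  have ha_le : a ≤ d * (s - 4) + 2 := by rw [ha]; linarith
  -- r' = a + d t
  have hdvd1 : (n - 1) ∣ a + d * t := by
    have : a + d * t = (n * a + d * t) - (n - 1) * a := by ring
    rw [this]
    exact dvd_sub hdvd (dvd_mul_right _ _)
  have hpos1 : 0 < a + d * t := by
    rcases le_or_gt 0 a with h | h
    · have : 0 < d * t := by nlinarith
      linarith
    · nlinarith
  have hle1 : n - 1 ≤ a + d * t := Int.le_of_dvd hpos1 hdvd1
  -- s a + d^2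
  have hdvd2 : (n - 1) ∣ s * a + d ^ 2 := by
    have : s * a + d ^ 2 = s * (a + d * t) - d ^ 2 * (n - 1) := by
      have : s * (d * t) = d * (s * t) := by ring
      rw [mul_add, this, hn]; ring
    rw [this]
    exact dvd_sub (dvd_mul_of_dvd_right hdvd1 _) (dvd_mul_left _ _)
  have hpos2 : 0 < s * a + d ^ 2 := by
    have h1 : 0 < s * (n * a + d * t) := by nlinarith
    have h2 : s * (n * a + d * t) = n * (s * a + d ^ 2) := by
      have : s * (d * t) = d * (s * t) := by ring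
      rw [mul_add, this, hn]; ring
    rw [h2] at h1
    by_contra hc
    have hc := not_lt.mp hc
    have : n * (s * a + d ^ 2) ≤ 0 := mul_nonpos_of_nonneg_of_nonpos (by linarith) hc
    linarith
  have hle2 : n - 1 ≤ s * a + d ^ 2 := Int.le_of_dvd hpos2 hdvd2
  -- consequences
  have hA : s * t ≤ d ^ 2 * (s - 4) + 2 * d + d ^ 2 * t + d := by
    have : d * (n - 1) ≤ d * (a + d * t) := mul_le_mul_of_nonneg_left hle1 (by linarith)
    nlinarith
  have hB : s * t ≤ d ^ 2 * s ^ 2 - 4 * d ^ 2 * s + 2 * d * s + d ^ 3 + d := by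
    have h1 : d * (n - 1) ≤ d * (s * a + d ^ 2) := mul_le_mul_of_nonneg_left hle2 (by linarith)
    have h2 : s * a ≤ s * (d * (s - 4) + 2) := mul_le_mul_of_nonneg_left ha_le (by linarith)
    nlinarith
  have hd2 : 1 ≤ d ^ 2 := by nlinarith
  clear hle1 hle2 hdvd hdvd1 hdvd2 hpos hpos1 hpos2 hr ha ha_le
  have hs2 : s < 2 * d ^ 2 := by
    by_contra hc
    have hc := not_lt.mp hc
    have h1 : 0 ≤ (t - s) * (s - d ^ 2) := mul_nonneg (by linarith) (by nlinarith)
    have h2 : 0 ≤ s * (s - 2 * d ^ 2) := mul_nonneg (by linarith) (by linarith)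
    nlinarith
  refine ⟨hs2, ?_⟩
  rcases le_or_gt s (d ^ 2) with hsd | hsd
  · by_contra hc
    have hc := not_lt.mp hc
    have h1 : 2 * d ^ 4 * s ≤ s * t := by nlinarith
    have h2 : d ^ 2 * s ^ 2 ≤ d ^ 4 * s := by nlinarith [mul_nonneg (mul_nonneg (by linarith : (0:ℤ) ≤ d ^ 2) (by linarith : (0:ℤ) ≤ s)) (by linarith : (0:ℤ) ≤ d ^ 2 - s)]
    have h3 : d ^ 3 ≤ d ^ 4 := by nlinarith [mul_nonneg (by positivity : (0:ℤ) ≤ d ^ 3) (by linarith : (0:ℤ) ≤ d - 1)]
    have h4 : d ^ 4 ≤ d ^ 4 * s := by nlinarith [mul_nonneg (by positivity : (0:ℤ) ≤ d ^ 4) (by linarith : (0:ℤ) ≤ s - 1)]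
    have h5 : d ≤ d ^ 2 := by nlinarith
    have h6 : d * s ≤ d ^ 2 * s := by nlinarith [mul_nonneg (by linarith : (0:ℤ) ≤ d ^ 2 - d) (by linarith : (0:ℤ) ≤ s)]
    have h7 : d ^ 2 ≤ d ^ 2 * s := by nlinarith [mul_nonneg (by linarith : (0:ℤ) ≤ d ^ 2) (by linarith : (0:ℤ) ≤ s - 1)]
    nlinarith
  · have h1 : t ≤ t * (s - d ^ 2) := by nlinarith [mul_nonneg (by linarith : (0:ℤ) ≤ t) (by linarith : (0:ℤ) ≤ s - d ^ 2 - 1)]
    have h2 : d ^ 2 * s < 2 * d ^ 4 := by nlinarith
    nlinarith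

end Groth.Agent.S18055.Aux

namespace Groth.Agent.S18055

/-- Let d ≥ 1, g ≥ 0 and 1 ≤ s ≤ t be integers with d dividing st, put n = st/d and r = d[n(s - 4) + t]
+ (2 - 2g)n, and assume n ≥ 2, r > 0 and (n - 1) divides r. Then s < 2d² and t < 2d⁴. This is the
statement about the degree data (d, g the degree and genus of the curve, s ≤ t the degrees of the
two surfaces) to which the published proof reduces the degree bound: there the divisibility and
positivity express that r/(n - 1), the common value of the type numbers of the pair, is a positive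
integer; the geometric hypotheses themselves are not part of this row. -/
theorem result (d g s t n : ℤ) (hd : 1 ≤ d) (hg : 0 ≤ g) (hs : 1 ≤ s) (hst : s ≤ t)
    (hn : s * t = d * n) (hn2 : 2 ≤ n)
    (hpos : 0 < d * (n * (s - 4) + t) + (2 - 2 * g) * n)
    (hdvd : (n - 1) ∣ d * (n * (s - 4) + t) + (2 - 2 * g) * n) :
    s < 2 * d ^ 2 ∧ t < 2 * d ^ 4 := by
  exact Aux.foo d g s t n hd hg hs hst hn hn2 hpos hdvd

end Groth.Agent.S18055
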