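import Groth.Statements.S18056
import Mathlib
import Groth.Agent.Lib.Helper81.SmoothLength

set_option autoImplicit false
universe u v
open STCI

namespace Groth.Agent.S18056

/-- Let A → B be a homomorphism of Artinian local rings that is flat and formally smooth, where A has a
subring that is a field. Then A and B have the same length, each as a module over itself. -/
theorem result (A : Type u) (B : Type v) [CommRing A] [CommRing B]
    [IsLocalRing A] [IsLocalRing B] [IsArtinianRing A] [IsArtinianRing B] [Algebra A B]
    [Module.Flat A B] [Algebra.FormallySmooth A B] (hK : ∃ K : Subring A, IsField K) :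
    Module.length A A = Module.length B B := by
  haveI : IsLocalHom (algebraMap A B) :=
    ((IsLocalRing.local_hom_TFAE (algebraMap A B)).out 0 2).2
      Groth.Agent.Lib.Helper81.FieldSmooth.map_maximalIdeal_le
  have h1 := IsLocalRing.length_baseChange A B A
  have hmax : (IsLocalRing.maximalIdeal A).map (algebraMap A B) = IsLocalRing.maximalIdeal B :=
    Groth.Agent.Lib.Helper81.FieldSmooth.map_maximalIdeal_eq
  have h2 : Module.length B (B ⧸ (IsLocalRing.maximalIdeal A).map (algebraMap A B)) = 1 := by
    rw [Module.length_eq_one_iff, isSimpleModule_iff_isCoatom, hmax]
    exact Ideal.isMaximal_def.1 (IsLocalRing.maximalIdeal.isMaximal B)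
  have h3 : Module.length B (TensorProduct A B A) = Module.length B B :=
    (TensorProduct.AlgebraTensorModule.rid A B B).length_eq
  rw [← h3, h1, h2, mul_one]

end Groth.Agent.S18056
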