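import Groth.Statements.S18057
import Groth.Agent.Lib.Helper24.FormallySmoothStalk
import Groth.Agent.S2315

set_option autoImplicit false
universe u
open STCI

namespace Groth.Agent.S18057

open AlgebraicGeometry CategoryTheory in
/-- For a morphism f : X' → X between irreducible Noetherian schemes that is flat and formally smooth,
with X defined over a field (rendered: the ring of global sections of X contains a subring that is a
field, which for nonempty X is the same as giving a morphism from X to the spectrum of a field), the
local rings of X' and X at their generic points η', η (Artinian local rings) satisfy length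
O_{X',η'} = length O_{X,η}. Formal smoothness is the infinitesimal lifting property against
square-zero thickenings of affine schemes. -/
theorem result {X' X : Scheme.{u}} (f : X' ⟶ X)
    [IrreducibleSpace ↥X'] [IrreducibleSpace ↥X] [IsNoetherian X'] [IsNoetherian X] [Flat f]
    (hf : MoreMor.IsFormallySmoothHom f) (hK : ∃ K : Subring Γ(X, ⊤), IsField K) :
    Module.length (X'.presheaf.stalk (genericPoint X')) (X'.presheaf.stalk (genericPoint X'))
      = Module.length (X.presheaf.stalk (genericPoint X)) (X.presheaf.stalk (genericPoint X)) := by
  have hη : f (genericPoint X') = genericPoint X := by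
    have hgen : GeneralizingMap f := Flat.generalizingMap f
    obtain ⟨x', hx', hfx'⟩ := hgen (genericPoint_specializes (f (genericPoint X')))
    have hx : x' = genericPoint X' := (hx'.antisymm (genericPoint_specializes x')).eq
    rw [← hfx', hx]
  rw [← hη]
  algebraize [(f.stalkMap (genericPoint X')).hom]
  have hfs : Algebra.FormallySmooth (X.presheaf.stalk (f (genericPoint X')))
      (X'.presheaf.stalk (genericPoint X')) :=
    Groth.Agent.Lib.Helper24.formallySmooth_stalkMap_of_isFormallySmoothHom f hf (genericPoint X')
  have hflat : Module.Flat (X.presheaf.stalk (f (genericPoint X')))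
      (X'.presheaf.stalk (genericPoint X')) :=
    (RingHom.flat_algebraMap_iff).mp (Flat.stalkMap f (genericPoint X'))
  have hloc : IsLocalHom (algebraMap (X.presheaf.stalk (f (genericPoint X')))
      (X'.presheaf.stalk (genericPoint X'))) :=
    inferInstanceAs (IsLocalHom (f.stalkMap (genericPoint X')).hom)
  have hart : IsArtinianRing (X'.presheaf.stalk (genericPoint X')) :=
    (Groth.Agent.S2315.result X').2 inferInstance
  exact Groth.Agent.Lib.Helper24.length_eq_of_flat_of_map_maximalIdeal_eq _ _
    (Groth.Agent.Lib.Helper24.map_maximalIdeal_eq_of_formallySmooth_of_isArtinianRing _ _)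

end Groth.Agent.S18057
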