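import Groth.Statements.S18062
import Mathlib
import Groth.Agent.Lib.Helper68.TrigDVR

set_option autoImplicit false
universe u
open scoped TensorProduct
open HopfRep

namespace Groth.Agent.S18062

open Groth.Agent.Lib.Helper84 Groth.Agent.Lib.Helper84.ComodBC Groth.Agent.Lib.Helper68.TrigDVR

/-- A is a discrete valuation ring, K denotes its field of fractions and k its residue field, and G =
Spec H a flat affine A-group scheme of finite presentation, H being a flat, finitely presented
commutative Hopf algebra over A. If the generic fibre G_K is trigonalizable (every simple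
finite-dimensional representation is one-dimensional), then so is the special fibre G_k. -/
theorem result (A : Type u) [CommRing A] [IsDomain A] [IsDiscreteValuationRing A]
    (K : Type u) [Field K] [Algebra A K] [IsFractionRing A K]
    (H : Type u) [CommRing H] [HopfAlgebra A H] [Module.Flat A H] [Algebra.FinitePresentation A H]
    (hK : HopfRep.IsTrigonalizable K (K ⊗[A] H)) :
    HopfRep.IsTrigonalizable (IsLocalRing.ResidueField A) (IsLocalRing.ResidueField A ⊗[A] H) := by
  classical
  apply TrigFilt.isTrigonalizable_of_forall_mem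
  intro b
  -- every element is of the form `1 ⊗ h`
  have hform : ∃ h : H, b = (1 : IsLocalRing.ResidueField A) ⊗ₜ[A] h := by
    induction b using TensorProduct.induction_on with
    | zero => exact ⟨0, by simp⟩
    | tmul a h =>
      obtain ⟨a', rfl⟩ := IsLocalRing.residue_surjective a
      refine ⟨a' • h, ?_⟩
      rw [TensorProduct.tmul_smul, TensorProduct.smul_tmul', Algebra.smul_def, mul_one]
      rfl
    | add x y hx hy =>
      obtain ⟨h₁, rfl⟩ := hx
      obtain ⟨h₂, rfl⟩ := hy
      exact ⟨h₁ + h₂, by rw [TensorProduct.tmul_add]⟩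
  obtain ⟨h, rfl⟩ := hform
  obtain ⟨W, hW, hhW, hWfg⟩ := SmallestSubcomod.exists_fg_subcomod_of_flat (k := A) (C := H) (V := H)
    (Submodule.span A {h}) (Submodule.fg_span_singleton h)
  have hhW' : h ∈ W := hhW (Submodule.mem_span_singleton_self h)
  haveI : Module.Finite A W := Module.Finite.iff_fg.mpr hWfg
  haveI : Module.Free A W := Module.free_of_finite_type_torsion_free'
  let cW : HopfRep.Comod A H W := ComodSub.Comod.restr (HopfRep.Comod.regular A H) W hW
  have hmem := mem_F_baseChange_residue A K H hK (Module.finrank A W) W cW rfl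
    ((1 : IsLocalRing.ResidueField A) ⊗ₜ[A] (⟨h, hhW'⟩ : W))
  refine ⟨Module.finrank A W, ?_⟩
  have hhom : ∀ v, (@CoactBr.Comod.baseChange A (IsLocalRing.ResidueField A) _ _ _ H _ _ _ H _ _
        (HopfRep.Comod.regular A H)).coact (W.subtype.baseChange (IsLocalRing.ResidueField A) v) =
      (W.subtype.baseChange (IsLocalRing.ResidueField A)).rTensor (IsLocalRing.ResidueField A ⊗[A] H)
        ((@CoactBr.Comod.baseChange A (IsLocalRing.ResidueField A) _ _ _ H _ _ _ W _ _ cW).coact v) :=
    fun v => baseChange_isComodHom A (IsLocalRing.ResidueField A) H (c := cW)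
      (d := HopfRep.Comod.regular A H) W.subtype
      (fun w => (ComodSub.restr_coact_coe (HopfRep.Comod.regular A H) W hW w).symm) v
  have := ComodFilt.map_mem_F (L := TrigFilt.nA (IsLocalRing.ResidueField A) (IsLocalRing.ResidueField A ⊗[A] H))
    (c := @CoactBr.Comod.baseChange A (IsLocalRing.ResidueField A) _ _ _ H _ _ _ W _ _ cW)
    (d := ComodFilt.reg (IsLocalRing.ResidueField A) (IsLocalRing.ResidueField A ⊗[A] H))
    (W.subtype.baseChange (IsLocalRing.ResidueField A)) hhom hmem
  rw [LinearMap.baseChange_tmul] at this
  exact this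

end Groth.Agent.S18062
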