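import Groth.Statements.S18063
import Mathlib
import Groth.Agent.Lib.Helper70.NeronClosC

set_option autoImplicit false
universe u
open CategoryTheory MonoidalCategory CartesianMonoidalCategory MonObj GrpObj AlgebraicGeometry CategoryTheory.Limits
open AlgGrp

namespace Groth.Agent.S18063

/-- A is a discrete valuation ring, K denotes its field of fractions and k its residue field, and G is
an A-group scheme that is flat, separated and of finite presentation. If the generic fibre G_K is
commutative, then the special fibre G_k is commutative. (The published statement does not require G
separated over A, and its proof argues by density of the generic fibre; without separatedness the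
conclusion fails: gluing copies of Spec A indexed by a finite non-abelian group along their common
generic point gives a flat group scheme of finite presentation over A whose generic fibre is the
trivial group and whose special fibre is that non-abelian constant group. So G is taken separated
here.) -/
theorem result (A : Type u) [CommRing A] [IsDomain A] [IsDiscreteValuationRing A]
    (K : Type u) [Field K] [Algebra A K] [IsFractionRing A K]
    (G : Over (Spec (CommRingCat.of A))) [GrpObj G] [Flat G.hom] [LocallyOfFinitePresentation G.hom] [QuasiCompact G.hom]
    [IsSeparated G.hom] [IsCommMonObj (Red.bc (Spec.map (CommRingCat.ofHom (algebraMap A K))) G)] :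
    IsCommMonObj (Red.bc (Spec.map (CommRingCat.ofHom (algebraMap A (IsLocalRing.ResidueField A)))) G) := by
  have hK : IsCommMonObj ((Over.pullback (Spec.map (CommRingCat.ofHom (algebraMap A K)))).obj G) :=
    ‹IsCommMonObj (Red.bc (Spec.map (CommRingCat.ofHom (algebraMap A K))) G)›
  -- commutativity on the generic fibre, as an equality of base-changed morphisms
  have h1 : (Over.pullback (Spec.map (CommRingCat.ofHom (algebraMap A K)))).map
        ((β_ G G).hom ≫ μ[G]) =
      (Over.pullback (Spec.map (CommRingCat.ofHom (algebraMap A K)))).map μ[G] := by
    have hc := IsCommMonObj.mul_comm
      ((Over.pullback (Spec.map (CommRingCat.ofHom (algebraMap A K)))).obj G)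
    rw [Functor.obj.μ_def, ← Functor.LaxBraided.braided_assoc, ← Functor.map_comp] at hc
    exact (cancel_epi _).mp hc
  -- flatness of `G ×_A G`
  have hfl : Flat (G ⊗ G).hom := by
    rw [Over.tensorObj_hom]
    have : Flat (pullback.fst G.hom G.hom) := MorphismProperty.pullback_fst _ _ inferInstance
    infer_instance
  have h2 : (β_ G G).hom ≫ μ[G] = μ[G] :=
    Groth.Agent.Lib.Helper70.NeronClosC.hom_ext_of_genericFibre A K (G ⊗ G) G _ _ h1
  have hG : IsCommMonObj G := ⟨h2⟩
  exact Functor.isCommMonObj_obj

end Groth.Agent.S18063
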