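import Mathlib
import Groth.Statements.S18069
import Groth.Agent.Lib.Helper49.KunnethH0

set_option autoImplicit false
universe u
open CategoryTheory MonoidalCategory CartesianMonoidalCategory MonObj GrpObj AlgebraicGeometry CategoryTheory.Limits
open AlgGrp

namespace Groth.Agent.S18069

/-- Let k be a field and G₁, G₂ connected k-group schemes of finite type. Then G₁ × G₂ is anti-affine,
i.e. O(G₁ × G₂) = k, if and only if G₁ and G₂ are both anti-affine. -/
theorem result (k : Type u) [Field k]
    (G₁ G₂ : Over (Spec (CommRingCat.of k))) [GrpObj G₁] [LocallyOfFiniteType G₁.hom] [QuasiCompact G₁.hom] [ConnectedSpace ↥G₁.left]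
    [GrpObj G₂] [LocallyOfFiniteType G₂.hom] [QuasiCompact G₂.hom] [ConnectedSpace ↥G₂.left] :
    Function.Bijective ((Scheme.ΓSpecIso (CommRingCat.of k)).inv ≫ (G₁ ⊗ G₂).hom.appTop).hom ↔
      Function.Bijective ((Scheme.ΓSpecIso (CommRingCat.of k)).inv ≫ G₁.hom.appTop).hom ∧ Function.Bijective ((Scheme.ΓSpecIso (CommRingCat.of k)).inv ≫ G₂.hom.appTop).hom := by
  have : IsLocallyNoetherian G₁.left := LocallyOfFiniteType.isLocallyNoetherian G₁.hom
  have : IsLocallyNoetherian G₂.left := LocallyOfFiniteType.isLocallyNoetherian G₂.hom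
  have : CompactSpace G₁.left := QuasiCompact.compactSpace_of_compactSpace G₁.hom
  have : CompactSpace G₂.left := QuasiCompact.compactSpace_of_compactSpace G₂.hom
  have hpo := Groth.Agent.Lib.Helper49.KunnethH0.isPushout_appTop_of_field k G₁.hom G₂.hom
  have hR := Groth.Agent.Lib.Helper49.KunnethH0.isField_Γ_Spec k
  have key := Groth.Agent.Lib.Helper49.KunnethH0.isIso_comp_iff_of_isPushout_of_isField hpo hR
  have hbij : ∀ {A : CommRingCat.{u}} (φ : Γ(Spec (CommRingCat.of k), ⊤) ⟶ A),
      Function.Bijective ((Scheme.ΓSpecIso (CommRingCat.of k)).inv ≫ φ).hom ↔ IsIso φ := by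
    intro A φ
    rw [← isIso_comp_left_iff (Scheme.ΓSpecIso (CommRingCat.of k)).inv φ]
    exact (ConcreteCategory.isIso_iff_bijective _).symm
  have e : (G₁ ⊗ G₂).hom.appTop = G₁.hom.appTop ≫ (pullback.fst G₁.hom G₂.hom).appTop := by
    rw [Over.tensorObj_hom, Scheme.Hom.comp_appTop]
  rw [hbij, hbij, hbij, e]
  exact key

end Groth.Agent.S18069
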