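import Groth.Statements.S18070
import Groth.Agent.Lib.Helper75.AAExt
import Groth.Agent.Lib.Helper75.AARigidity
import Groth.Agent.Lib.Helper14.KernelShear
import Groth.Agent.Lib.Helper41.SepPoints3
-- import your own Groth.Agent.* helpers here

set_option autoImplicit false
universe u
open CategoryTheory MonoidalCategory CartesianMonoidalCategory MonObj GrpObj AlgebraicGeometry CategoryTheory.Limits
open AlgGrp

namespace Groth.Agent.S18070

/-- Let k be a field and 1 → G₁ → G → G₂ → 1 an exact sequence of k-group schemes of finite type with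
G₁, G₂ connected (i : G₁ → G a homomorphism and closed immersion which is the kernel of the flat
surjective homomorphism q : G → G₂). Anti-affineness passes from G to the quotient G₂; in the other
direction, G is anti-affine whenever G₁ and G₂ both are. -/
theorem result (k : Type u) [Field k]
    (G₁ G G₂ : Over (Spec (CommRingCat.of k))) [GrpObj G₁] [LocallyOfFiniteType G₁.hom] [QuasiCompact G₁.hom] [ConnectedSpace ↥G₁.left]
    [GrpObj G] [LocallyOfFiniteType G.hom] [QuasiCompact G.hom]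
    [GrpObj G₂] [LocallyOfFiniteType G₂.hom] [QuasiCompact G₂.hom] [ConnectedSpace ↥G₂.left]
    (i : G₁ ⟶ G) [IsMonHom i] [IsClosedImmersion i.left] (q : G ⟶ G₂) [IsMonHom q] [Surjective q.left] [Flat q.left]
    (hex : AlgGrp.IsKernel i q) :
    (Function.Bijective ((Scheme.ΓSpecIso (CommRingCat.of k)).inv ≫ G.hom.appTop).hom → Function.Bijective ((Scheme.ΓSpecIso (CommRingCat.of k)).inv ≫ G₂.hom.appTop).hom) ∧
    (Function.Bijective ((Scheme.ΓSpecIso (CommRingCat.of k)).inv ≫ G₁.hom.appTop).hom → Function.Bijective ((Scheme.ΓSpecIso (CommRingCat.of k)).inv ≫ G₂.hom.appTop).hom → Function.Bijective ((Scheme.ΓSpecIso (CommRingCat.of k)).inv ≫ G.hom.appTop).hom) := by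
  have hinj : Function.Injective q.left.appTop.hom :=
    Groth.Agent.Lib.Helper75.AAExt.app_injective_of_flat_of_surjective q.left ⊤
  have hcomp : ((Scheme.ΓSpecIso (CommRingCat.of k)).inv ≫ G.hom.appTop) =
      ((Scheme.ΓSpecIso (CommRingCat.of k)).inv ≫ G₂.hom.appTop) ≫ q.left.appTop := by
    rw [Category.assoc, ← Scheme.Hom.comp_appTop, Over.w q]
  refine ⟨fun hG => ?_, fun hG₁ hG₂ => ?_⟩
  · have hG' : Function.Bijective (q.left.appTop.hom ∘
        ((Scheme.ΓSpecIso (CommRingCat.of k)).inv ≫ G₂.hom.appTop).hom) := by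
      rw [hcomp] at hG
      exact hG
    refine ⟨(Function.Injective.of_comp hG'.1), ?_⟩
    intro y
    obtain ⟨x, hx⟩ := hG'.2 (q.left.appTop.hom y)
    exact ⟨x, hinj hx⟩
  · -- surjectivity of `O(G₂) → O(G)` by descent of `G → Spec O(G)` along `q`
    have hG₂sep : IsSeparated G₂.hom := Groth.Agent.Lib.Helper41.SepPoints3.isSeparated_of_field G₂
    have hqc : QuasiCompact q.left := by
      have : QuasiCompact (q.left ≫ G₂.hom) := by rw [Over.w q]; infer_instance
      exact QuasiCompact.of_comp q.left G₂.hom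
    have hcomp₁ : CompactSpace G₁.left := (quasiCompact_iff_compactSpace G₁.hom).mp inferInstance
    have hN₁ : IsLocallyNoetherian G₁.left := LocallyOfFiniteType.isLocallyNoetherian G₁.hom
    have hqs₁ : QuasiSeparatedSpace G₁.left := inferInstance
    have ha₁ := Groth.Agent.Lib.Helper75.AARigidity.isIso_appTop_of_bijective G₁.hom hG₁
    have hflat : Flat G.hom := inferInstance
    have hpb₀ := Groth.Agent.Lib.Helper14.isPullback_fst_mul_of_isKer q i hex
    have hpb := hpb₀.map (Over.forget _)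
    simp only [Over.forget_obj, Over.forget_map] at hpb
    -- the key identity: `(g, n) ↦ g n` and `(g, n) ↦ g` agree after `G → Spec O(G)`
    let σ : G.left ⟶ pullback G₁.hom G.hom := (lift (toUnit G ≫ η[G₁]) (𝟙 G)).left
    have hσ : σ ≫ pullback.snd G₁.hom G.hom = 𝟙 G.left := by
      have : (lift (toUnit G ≫ η[G₁]) (𝟙 G) ≫ snd G₁ G).left = (𝟙 G : G ⟶ G).left := by
        rw [lift_snd]
      exact this
    let m : G ⊗ G₁ ⟶ G := fst G G₁ * (snd G G₁ ≫ i)
    have hσm : lift (toUnit G ≫ η[G₁]) (𝟙 G) ≫ (β_ G₁ G).hom ≫ m = 𝟙 G := by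
      show lift (toUnit G ≫ η[G₁]) (𝟙 G) ≫ (β_ G₁ G).hom ≫ (fst G G₁ * (snd G G₁ ≫ i)) = 𝟙 G
      rw [comp_mul, comp_mul, braiding_hom_fst, ← Category.assoc ((β_ G₁ G).hom),
        braiding_hom_snd, lift_snd, lift_fst_assoc, Category.assoc, IsMonHom.one_hom,
        ← Hom.one_def, _root_.mul_one]
    have key0 := Groth.Agent.Lib.Helper75.AAExt.eq_snd_comp_of_isAffine G₁.hom G.hom ha₁ σ hσ
      (((β_ G₁ G).hom ≫ m).left ≫ G.left.toSpecΓ)
    have hσm' : σ ≫ ((β_ G₁ G).hom ≫ m).left = 𝟙 G.left := by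
      have := congrArg (fun t => t.left) hσm
      exact this
    rw [← Category.assoc σ, hσm', Category.id_comp] at key0
    have key : m.left ≫ G.left.toSpecΓ = (fst G G₁).left ≫ G.left.toSpecΓ := by
      have h1 : (β_ G G₁).hom.left ≫ ((β_ G₁ G).hom ≫ m).left = m.left := by
        rw [← Over.comp_left, ← Category.assoc]
        have : (β_ G G₁).hom ≫ (β_ G₁ G).hom = 𝟙 _ := by simp
        rw [this, Category.id_comp]
      have h2 : (β_ G G₁).hom.left ≫ pullback.snd G₁.hom G.hom = (fst G G₁).left := by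
        have : ((β_ G G₁).hom ≫ snd G₁ G).left = (fst G G₁).left := by rw [braiding_hom_snd]
        exact this
      rw [← h1, Category.assoc, key0, ← Category.assoc, h2]
    -- descend
    have hcond : ∀ {Z : Scheme.{u}} (g₁ g₂ : Z ⟶ G.left), g₁ ≫ q.left = g₂ ≫ q.left →
        g₁ ≫ G.left.toSpecΓ = g₂ ≫ G.left.toSpecΓ := by
      intro Z g₁ g₂ h
      have e1 : hpb.lift g₁ g₂ h ≫ (fst G G₁).left = g₁ := hpb.lift_fst _ _ _
      have e2 : hpb.lift g₁ g₂ h ≫ m.left = g₂ := hpb.lift_snd _ _ _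
      calc g₁ ≫ G.left.toSpecΓ = (hpb.lift g₁ g₂ h ≫ (fst G G₁).left) ≫ G.left.toSpecΓ := by
            rw [e1]
        _ = (hpb.lift g₁ g₂ h ≫ m.left) ≫ G.left.toSpecΓ := by
            rw [Category.assoc, Category.assoc, key]
        _ = g₂ ≫ G.left.toSpecΓ := by rw [e2]
    let ψ := EffectiveEpi.desc q.left G.left.toSpecΓ hcond
    have hψ : q.left ≫ ψ = G.left.toSpecΓ := EffectiveEpi.fac q.left G.left.toSpecΓ hcond
    have hsurj : Function.Surjective q.left.appTop.hom := by
      intro t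
      have h1 : ψ.appTop ≫ q.left.appTop = (Scheme.ΓSpecIso Γ(G.left, ⊤)).hom := by
        rw [← Scheme.Hom.comp_appTop, hψ, Scheme.toSpecΓ_appTop]
      refine ⟨ψ.appTop.hom ((Scheme.ΓSpecIso Γ(G.left, ⊤)).inv.hom t), ?_⟩
      have h2 := congrArg (fun r => r.hom ((Scheme.ΓSpecIso Γ(G.left, ⊤)).inv.hom t)) h1
      simp only [CommRingCat.hom_comp, RingHom.coe_comp, Function.comp_apply] at h2
      rw [h2]
      exact CategoryTheory.Iso.inv_hom_id_apply (Scheme.ΓSpecIso Γ(G.left, ⊤)) t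
    have hne : Nonempty ↥G.left := ⟨(η[G] : 𝟙_ _ ⟶ G).left (⊥ : PrimeSpectrum k)⟩
    have hnt : Nontrivial ↑Γ(G.left, ⊤) := by
      have : Nonempty ↥(⊤ : G.left.Opens) := ⟨⟨hne.some, trivial⟩⟩
      infer_instance
    refine ⟨RingHom.injective _, ?_⟩
    rw [hcomp]
    intro t
    obtain ⟨t₂, ht₂⟩ := hsurj t
    obtain ⟨c, hc⟩ := hG₂.2 t₂
    exact ⟨c, by rw [CommRingCat.hom_comp, RingHom.comp_apply, hc, ht₂]⟩

end Groth.Agent.S18070
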