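import Groth.Statements.S1809
import Groth.Agent.S0372
import Groth.Agent.Lib.Helper29.FlatAscent2
import Groth.Agent.Lib.Helper60.SchDual2
import Groth.Agent.Lib.Helper60.SchDual3

set_option autoImplicit false
universe u
open CategoryTheory CategoryTheory.Limits AlgebraicGeometry
attribute [local instance] HasDerivedCategory.standard
open Dual

namespace Groth.Agent.S1809

/-- Let X be a locally Noetherian scheme and ω a dualizing complex on X (affine-locally the derived
tilde of a dualizing complex of the ring; exactness of restriction of module sheaves to opens and of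
M ↦ M~ is assumed through instance binders). Then for every point x the local ring O_{X,x} is
Cohen–Macaulay if and only if exactly one cohomology sheaf of ω has nonzero stalk at x; and the set
of points whose local ring is Cohen–Macaulay is open. -/
theorem result (X : Scheme.{u}) [IsLocallyNoetherian X] [∀ (U : Scheme.{u}) (j : U ⟶ X) [IsOpenImmersion j], PreservesFiniteLimits (Scheme.Modules.restrictFunctor j)] [∀ (R : CommRingCat.{u}), PreservesFiniteLimits (tilde.functor R)] (ω : DCoh.D X) (hω : Dual2.IsDualizingSch X ω) : (∀ x : X, LocCoh.IsCohenMacaulayLocalRing (X.presheaf.stalk x) ↔ ∃! i : ℤ, Nontrivial ((DCoh.HD ω i).presheaf.stalk x)) ∧ IsOpen {x : X | LocCoh.IsCohenMacaulayLocalRing (X.presheaf.stalk x)} := by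
  constructor
  · intro x
    obtain ⟨U, hU, hxU, -⟩ := exists_isAffineOpen_mem_and_subset (x := x) (U := ⊤) trivial
    obtain ⟨ωA, hωA, ⟨e⟩⟩ := hω Γ(X, U) hU.fromSpec
    have := hωA.isNoetherianRing
    have key : ∀ p : PrimeSpectrum Γ(X, U),
        LocCoh.IsCohenMacaulayLocalRing (X.presheaf.stalk (hU.fromSpec p)) ↔
          ∃! i : ℤ, Nontrivial ((DCoh.HD ω i).presheaf.stalk (hU.fromSpec p)) := by
      intro p
      have h1 : LocCoh.IsCohenMacaulayLocalRing (X.presheaf.stalk (hU.fromSpec p)) ↔
          LocCoh.IsCohenMacaulayLocalRing (Localization.AtPrime p.asIdeal) :=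
        ⟨Groth.Agent.Lib.Helper29.isCohenMacaulayLocalRing_of_ringEquiv
            (Groth.Agent.Lib.Helper60.SchDual.stalkEquiv _ hU.fromSpec p),
          Groth.Agent.Lib.Helper29.isCohenMacaulayLocalRing_of_ringEquiv
            (Groth.Agent.Lib.Helper60.SchDual.stalkEquiv _ hU.fromSpec p).symm⟩
      rw [h1, Groth.Agent.Lib.Helper60.SchDual.isCohenMacaulayLocalRing_localization_iff ωA hωA p]
      refine existsUnique_congr fun i => ?_
      exact (Groth.Agent.Lib.Helper60.SchDual.nontrivial_stalk_HD_iff' Γ(X, U) hU.fromSpec ω ωA e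
        p i).symm
    have := key (hU.primeIdealOf ⟨x, hxU⟩)
    rw [hU.fromSpec_primeIdealOf ⟨x, hxU⟩] at this
    exact this
  · refine Groth.Agent.Lib.Helper60.SchDual.isOpen_setOf_stalk
      (fun R _ => LocCoh.IsCohenMacaulayLocalRing R)
      (fun R S _ _ e h => Groth.Agent.Lib.Helper29.isCohenMacaulayLocalRing_of_ringEquiv e h) ?_
    intro U hU
    obtain ⟨ωA, hωA, -⟩ := hω Γ(X, U) hU.fromSpec
    have := hωA.isNoetherianRing
    exact (Groth.Agent.S0372.result Γ(X, U) ωA hωA).1

end Groth.Agent.S1809
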