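import Groth.Statements.S18101
import Groth.Agent.S18096
import Groth.Agent.Lib.Helper84.AffSp.AntiAff
import Groth.Agent.Lib.Helper84.AffSp.LinAct
import Groth.Agent.Lib.Helper84.AffSp.Props
-- import your own Groth.Agent.* helpers here

set_option autoImplicit false
universe u
open CategoryTheory MonoidalCategory CartesianMonoidalCategory MonObj GrpObj AlgebraicGeometry CategoryTheory.Limits
open AlgGrp

namespace Groth.Agent.S18101

/-- Let k be a field and G a k-group scheme of finite type. Then G is anti-affine, i.e. O(G) = k, if and
only if every action of G on a variety having a fixed point is trivial; the fixed point is taken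
k-rational here (the published condition allows any closed fixed point, which gives a formally
stronger necessary condition; the equivalence with a rational fixed point is what the published
argument through linear representations yields). -/
theorem result (k : Type u) [Field k]
    (G : Over (Spec (CommRingCat.of k))) [GrpObj G] [LocallyOfFiniteType G.hom] [QuasiCompact G.hom] :
    Function.Bijective ((Scheme.ΓSpecIso (CommRingCat.of k)).inv ≫ G.hom.appTop).hom ↔
      ∀ (X : Over (Spec (CommRingCat.of k))) [LocallyOfFiniteType X.hom] [QuasiCompact X.hom] [IsSeparated X.hom] [GeometricallyIntegral X.hom]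
        (a : AlgGrp.Action G X) (x : 𝟙_ (Over (Spec (CommRingCat.of k))) ⟶ X), a.IsFixedPt x → a.act = snd G X := by
  constructor
  · intro hG X _ _ _ _ a x hx
    have hsub : Subsingleton ↥(Spec (CommRingCat.of k)) :=
      inferInstanceAs (Subsingleton (PrimeSpectrum k))
    have hint : IsIntegral X.left := GeometricallyIntegral.isIntegral_of_subsingleton X.hom
    have hnoe : IsLocallyNoetherian X.left := LocallyOfFiniteType.isLocallyNoetherian X.hom
    exact Groth.Agent.Lib.Helper84.Affn.act_eq_snd_of_antiAffine G X hG a x hx
  · intro H
    rw [Groth.Agent.S18096.result k G]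
    intro n ρ hρ
    exact Groth.Agent.Lib.Helper84.AffSp.eq_one_of_act_eq_snd ρ
      (H (Groth.Agent.Lib.Helper84.AffSp.An k n) (Groth.Agent.Lib.Helper84.AffSp.linAction ρ)
        (Groth.Agent.Lib.Helper84.AffSp.vecPt 0)
        (Groth.Agent.Lib.Helper84.AffSp.isFixedPt_zero ρ))

end Groth.Agent.S18101
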