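import Groth.Statements.S18121
import Mathlib

set_option autoImplicit false
universe u
open Pinch

namespace Groth.Agent.S18121.Aux

set_option autoImplicit false
open Polynomial

variable (B : Type u) [CommRing B] (b : B)

/-- the quadratic `X^2 - b` -/
noncomputable abbrev gq : B[X] := X ^ 2 - C b

theorem gq_monic : (gq B b).Monic := monic_X_pow_sub_C b two_ne_zero

theorem root_sq : (AdjoinRoot.root (gq B b)) ^ 2 = algebraMap B (AdjoinRoot (gq B b)) b := by
  have h := AdjoinRoot.eval₂_root (gq B b)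
  simp only [gq, eval₂_sub, eval₂_pow, eval₂_X, eval₂_C] at h
  rw [AdjoinRoot.algebraMap_eq]
  exact sub_eq_zero.mp h

theorem indep (c₀ c₁ : B)
    (h : algebraMap B (AdjoinRoot (gq B b)) c₀ +
      AdjoinRoot.root (gq B b) * algebraMap B (AdjoinRoot (gq B b)) c₁ = 0) :
    c₀ = 0 ∧ c₁ = 0 := by
  nontriviality B
  have h1 : AdjoinRoot.mk (gq B b) (C c₀ + X * C c₁) = 0 := by
    rw [map_add, map_mul, AdjoinRoot.mk_C, AdjoinRoot.mk_X, AdjoinRoot.mk_C]
    rw [AdjoinRoot.algebraMap_eq] at h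
    exact h
  have hdeg : (gq B b).natDegree = 2 := natDegree_X_pow_sub_C
  have h2 : (C c₀ + X * C c₁ : B[X]) = 0 := by
    by_contra hne
    refine AdjoinRoot.mk_ne_zero_of_natDegree_lt (gq_monic B b) hne ?_ h1
    rw [hdeg]
    have : (C c₀ + X * C c₁ : B[X]).natDegree ≤ 1 := by
      refine (natDegree_add_le _ _).trans (max_le ?_ ?_)
      · simp
      · rw [mul_comm]; exact (natDegree_C_mul_le _ _).trans (by simp)
    omega
  have e0 := congrArg (fun p => p.coeff 0) h2
  have e1 := congrArg (fun p => p.coeff 1) h2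
  simp at e0 e1
  exact ⟨e0, e1⟩

theorem spanning (β : AdjoinRoot (gq B b)) : ∃ c₀ c₁ : B,
    β = algebraMap B (AdjoinRoot (gq B b)) c₀ +
      AdjoinRoot.root (gq B b) * algebraMap B (AdjoinRoot (gq B b)) c₁ := by
  rcases subsingleton_or_nontrivial B with hB | hB
  · have : Subsingleton (AdjoinRoot (gq B b)) := Module.subsingleton B _
    exact ⟨0, 0, Subsingleton.elim _ _⟩
  obtain ⟨q, rfl⟩ := AdjoinRoot.mk_surjective β
  have hdeg : (gq B b).natDegree = 2 := natDegree_X_pow_sub_C
  set r := q %ₘ gq B b with hr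
  have hrq : AdjoinRoot.mk (gq B b) q = AdjoinRoot.mk (gq B b) r := by
    rw [AdjoinRoot.mk_eq_mk, hr, modByMonic_eq_sub_mul_div, sub_sub_cancel]
    exact dvd_mul_right _ _
  have hrd : r.natDegree ≤ 1 := by
    have := natDegree_modByMonic_lt q (gq_monic B b) (by
      intro h1; have := congrArg natDegree h1; rw [hdeg] at this; simp at this)
    rw [hdeg, ← hr] at this
    omega
  refine ⟨r.coeff 0, r.coeff 1, ?_⟩
  rw [hrq]
  conv_lhs => rw [eq_X_add_C_of_natDegree_le_one hrd]
  rw [map_add, map_mul, AdjoinRoot.mk_C, AdjoinRoot.mk_X, AdjoinRoot.mk_C, AdjoinRoot.algebraMap_eq]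
  ring

/-- the chart map -/
noncomputable abbrev Psi : MvPolynomial (Fin 2) B →ₐ[B] Polynomial (AdjoinRoot (gq B b)) :=
  MvPolynomial.aeval ![Polynomial.C (AdjoinRoot.root (gq B b)) * Polynomial.X, Polynomial.X]

/-- the hypersurface equation -/
noncomputable abbrev hEq : MvPolynomial (Fin 2) B :=
  MvPolynomial.X 0 ^ 2 - MvPolynomial.C b * MvPolynomial.X 1 ^ 2

theorem Psi_X0 : Psi B b (MvPolynomial.X 0) = C (AdjoinRoot.root (gq B b)) * X := by
  simp [Psi]

theorem Psi_X1 : Psi B b (MvPolynomial.X 1) = X := by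
  simp [Psi]

theorem Psi_hEq : Psi B b (hEq B b) = 0 := by
  rw [hEq, map_sub, map_mul, map_pow, map_pow, Psi_X0, Psi_X1, MvPolynomial.algHom_C, mul_pow,
    ← C_pow, root_sq, ← Polynomial.algebraMap_apply]
  simp [Algebra.algebraMap_eq_smul_one]

/-- normal form `P₀(v) + u P₁(v)` -/
noncomputable abbrev nf (P₀ P₁ : B[X]) : MvPolynomial (Fin 2) B :=
  Polynomial.aeval (MvPolynomial.X 1 : MvPolynomial (Fin 2) B) P₀ +
    MvPolynomial.X 0 * Polynomial.aeval (MvPolynomial.X 1 : MvPolynomial (Fin 2) B) P₁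

theorem exists_nf (P : MvPolynomial (Fin 2) B) :
    ∃ P₀ P₁ : B[X], P - nf B P₀ P₁ ∈ Ideal.span {hEq B b} := by
  induction P using MvPolynomial.induction_on with
  | C a =>
    refine ⟨C a, 0, ?_⟩
    simp [nf]
  | add p q hp hq =>
    obtain ⟨p₀, p₁, hp⟩ := hp
    obtain ⟨q₀, q₁, hq⟩ := hq
    refine ⟨p₀ + q₀, p₁ + q₁, ?_⟩
    have : p + q - nf B (p₀ + q₀) (p₁ + q₁) = (p - nf B p₀ p₁) + (q - nf B q₀ q₁) := by
      simp only [nf, map_add]; ring
    rw [this]
    exact Ideal.add_mem _ hp hq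
  | mul_X p i hp =>
    obtain ⟨p₀, p₁, hp⟩ := hp
    fin_cases i
    · refine ⟨C b * X ^ 2 * p₁, p₀, ?_⟩
      have : p * MvPolynomial.X 0 - nf B (C b * X ^ 2 * p₁) p₀ =
          (p - nf B p₀ p₁) * MvPolynomial.X 0 +
            Polynomial.aeval (MvPolynomial.X 1 : MvPolynomial (Fin 2) B) p₁ * hEq B b := by
        simp only [nf, hEq, map_mul, map_pow, Polynomial.aeval_X, Polynomial.aeval_C,
          MvPolynomial.algebraMap_eq]
        ring
      simp only [Fin.zero_eta, Fin.isValue]
      rw [this]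
      exact Ideal.add_mem _ (Ideal.mul_mem_right _ _ hp)
        (Ideal.mul_mem_left _ _ (Ideal.subset_span rfl))
    · refine ⟨X * p₀, X * p₁, ?_⟩
      have : p * MvPolynomial.X 1 - nf B (X * p₀) (X * p₁) =
          (p - nf B p₀ p₁) * MvPolynomial.X 1 := by
        simp only [nf, map_mul, Polynomial.aeval_X]
        ring
      simp only [Fin.mk_one, Fin.isValue]
      rw [this]
      exact Ideal.mul_mem_right _ _ hp

theorem Psi_nf (P₀ P₁ : B[X]) :
    Psi B b (nf B P₀ P₁) = P₀.map (algebraMap B (AdjoinRoot (gq B b))) +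
      C (AdjoinRoot.root (gq B b)) * X * P₁.map (algebraMap B (AdjoinRoot (gq B b))) := by
  have key : ∀ Q : B[X], Psi B b (Polynomial.aeval (MvPolynomial.X 1 : MvPolynomial (Fin 2) B) Q) =
      Q.map (algebraMap B (AdjoinRoot (gq B b))) := by
    intro Q
    rw [← Polynomial.aeval_algHom_apply, Psi_X1]
    rfl
  rw [nf, map_add, map_mul, key, key, Psi_X0]

theorem ker_Psi : RingHom.ker (Psi B b).toRingHom = Ideal.span {hEq B b} := by
  apply le_antisymm
  · intro P hP
    have hP' : Psi B b P = 0 := hP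
    obtain ⟨P₀, P₁, hN⟩ := exists_nf B b P
    have hI : ∀ Q ∈ Ideal.span {hEq B b}, Psi B b Q = 0 := by
      intro Q hQ
      obtain ⟨a, rfl⟩ := Ideal.mem_span_singleton'.mp hQ
      rw [map_mul, Psi_hEq, mul_zero]
    have h0 : Psi B b (nf B P₀ P₁) = 0 := by
      have := hI _ hN
      rw [map_sub, hP', zero_sub, neg_eq_zero] at this
      exact this
    rw [Psi_nf] at h0
    have hc : ∀ n, (P₀.coeff (n + 1) = 0 ∧ P₁.coeff n = 0) := by
      intro n
      have := congrArg (fun p => p.coeff (n + 1)) h0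
      simp only [coeff_add, coeff_map, mul_assoc, coeff_C_mul, coeff_X_mul, coeff_zero] at this
      exact indep B b _ _ this
    have hc0 : P₀.coeff 0 = 0 := by
      have := congrArg (fun p => p.coeff 0) h0
      simp only [coeff_add, coeff_map, mul_assoc, coeff_zero, mul_coeff_zero,
        coeff_X_zero, zero_mul, mul_zero, add_zero] at this
      have h2 := indep B b (P₀.coeff 0) 0 (by rw [map_zero, mul_zero, add_zero]; exact this)
      exact h2.1
    have hP₀ : P₀ = 0 := by
      ext n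
      rcases n with _ | n
      · simpa using hc0
      · simpa using (hc n).1
    have hP₁ : P₁ = 0 := by
      ext n
      simpa using (hc n).2
    rw [hP₀, hP₁] at hN
    simpa [nf] using hN
  · rw [Ideal.span_le, Set.singleton_subset_iff]
    exact Psi_hEq B b

theorem range_Psi (G : Polynomial (AdjoinRoot (gq B b)))
    (hG : ∃ c : B, G.coeff 0 = algebraMap B (AdjoinRoot (gq B b)) c) : G ∈ (Psi B b).range := by
  rw [G.as_sum_range]
  refine Subalgebra.sum_mem _ (fun n _ => ?_)
  obtain ⟨c₀, c₁, hc⟩ := spanning B b (G.coeff n)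
  rcases n with _ | n
  · obtain ⟨c, hc'⟩ := hG
    refine ⟨MvPolynomial.C c, ?_⟩
    rw [hc']
    simp [Polynomial.algebraMap_apply, MvPolynomial.algHom_C]
  · refine ⟨MvPolynomial.C c₀ * MvPolynomial.X 1 ^ (n + 1) +
      MvPolynomial.C c₁ * MvPolynomial.X 0 * MvPolynomial.X 1 ^ n, ?_⟩
    rw [hc]
    simp only [AlgHom.toRingHom_eq_coe, RingHom.coe_coe, map_add, map_mul, map_pow,
      Psi_X0 B b, Psi_X1 B b, MvPolynomial.algHom_C, Polynomial.algebraMap_apply,
      ← C_mul_X_pow_eq_monomial]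
    ring

end Groth.Agent.S18121.Aux

namespace Groth.Agent.S18121

/-- Let B be a commutative ring, b an element of B, B' := B[z]/(z^2 - b) the rank-two B-algebra with z^2
= b, and Ψ : B[u, v] → B'[t] the B-algebra homomorphism with u ↦ z t and v ↦ t. Then the kernel of Ψ
is the principal ideal generated by u^2 - b v^2, and a polynomial of B'[t] lies in the image of Ψ as
soon as its constant coefficient lies in B. Equivalently, B[u, v]/(u^2 - b v^2) is the fibre product
of B'[t] and B over B' (for t ↦ 0 and the inclusion of B): the pinching of Spec B' × 𝔸¹ along Spec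
B' × {0} by the double cover Spec B' → Spec B is the hypersurface u^2 = b v^2 over B; for B = K[w]
and b = w this is the pinch point u^2 = v^2 w. -/
theorem result (B : Type u) [CommRing B] (b : B) :
    letI Ψ : MvPolynomial (Fin 2) B →ₐ[B] Polynomial (AdjoinRoot (Polynomial.X ^ 2 - Polynomial.C b)) :=
      MvPolynomial.aeval
        ![Polynomial.C (AdjoinRoot.root (Polynomial.X ^ 2 - Polynomial.C b)) * Polynomial.X, Polynomial.X]
    RingHom.ker Ψ.toRingHom =
        Ideal.span {MvPolynomial.X 0 ^ 2 - MvPolynomial.C b * MvPolynomial.X 1 ^ 2} ∧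
      ∀ G : Polynomial (AdjoinRoot (Polynomial.X ^ 2 - Polynomial.C b)),
        (∃ c : B, G.coeff 0 = algebraMap B (AdjoinRoot (Polynomial.X ^ 2 - Polynomial.C b)) c) →
          G ∈ Ψ.range := by
  exact ⟨Aux.ker_Psi B b, Aux.range_Psi B b⟩

end Groth.Agent.S18121
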