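import Groth.Statements.S18122
import Mathlib

set_option autoImplicit false
universe u
open Pinch

namespace Groth.Agent.S18122.Aux

set_option autoImplicit false

variable (K : Type u) [Field K]

open MvPolynomial

/-- kill the variable `x` -/
noncomputable def psi : MvPolynomial (Fin 2) K →ₐ[K] MvPolynomial (Fin 2) K :=
  aeval ![0, X 1]

theorem psi_X0 : psi K (X 0) = 0 := by simp [psi]
theorem psi_X1 : psi K (X 1) = X 1 := by simp [psi]

theorem sub_psi_mem (f : MvPolynomial (Fin 2) K) :
    f - psi K f ∈ Ideal.span {(X 0 : MvPolynomial (Fin 2) K)} := by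
  induction f using MvPolynomial.induction_on with
  | C a => simp [psi]
  | add p q hp hq =>
    have : p + q - psi K (p + q) = (p - psi K p) + (q - psi K q) := by
      rw [map_add]; ring
    rw [this]; exact Ideal.add_mem _ hp hq
  | mul_X p i hp =>
    have hX : (X i : MvPolynomial (Fin 2) K) - psi K (X i) ∈
        Ideal.span {(X 0 : MvPolynomial (Fin 2) K)} := by
      fin_cases i
      · simp only [Fin.zero_eta, Fin.isValue, psi_X0, sub_zero]
        exact Ideal.subset_span rfl
      · simp only [Fin.mk_one, Fin.isValue, psi_X1, sub_self]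
        exact Ideal.zero_mem _
    have : p * X i - psi K (p * X i) =
        (p - psi K p) * X i + psi K p * (X i - psi K (X i)) := by
      rw [map_mul]; ring
    rw [this]
    exact Ideal.add_mem _ (Ideal.mul_mem_right _ _ hp) (Ideal.mul_mem_left _ _ hX)

/-- the pinch subalgebra -/
noncomputable abbrev Rp : Subalgebra K (MvPolynomial (Fin 2) K) :=
  Algebra.adjoin K {MvPolynomial.X 0 ^ 2, MvPolynomial.X 0 * MvPolynomial.X 1, MvPolynomial.X 1}

theorem main [NeZero (2 : K)] (δ : Derivation K (Rp K) (MvPolynomial (Fin 2) K)) :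
      ∃! D : Derivation K (MvPolynomial (Fin 2) K) (MvPolynomial (Fin 2) K),
        ∀ r : Rp K, D (r : MvPolynomial (Fin 2) K) = δ r := by
  set x : MvPolynomial (Fin 2) K := X 0 with hx
  set y : MvPolynomial (Fin 2) K := X 1 with hy
  have hx0 : x ≠ 0 := X_ne_zero _
  have hy0 : y ≠ 0 := X_ne_zero _
  have h2 : (C (2 : K) : MvPolynomial (Fin 2) K) = 2 := by rw [map_ofNat]
  have h2ne : (2 : MvPolynomial (Fin 2) K) ≠ 0 := by
    rw [← h2]; intro h; exact NeZero.ne (2 : K) (C_injective _ _ (by rw [h, C_0]))
  have h2inv : (C (2⁻¹ : K) : MvPolynomial (Fin 2) K) * 2 = 1 := by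
    rw [← h2, ← C_mul, inv_mul_cancel₀ (NeZero.ne (2 : K)), C_1]
  let x2R : Rp K := ⟨x ^ 2, Algebra.subset_adjoin (by simp [hx])⟩
  let xyR : Rp K := ⟨x * y, Algebra.subset_adjoin (by simp [hx, hy])⟩
  let yR : Rp K := ⟨y, Algebra.subset_adjoin (by simp [hy])⟩
  have rel : xyR * xyR = x2R * yR * yR := by
    apply Subtype.ext
    change (x * y) * (x * y) = x ^ 2 * y * y
    ring
  set A := δ x2R with hA
  set Bxy := δ xyR with hBxy
  set b := δ yR with hb
  have hrel := congrArg δ rel
  simp only [Derivation.leibniz] at hrel
  have hrel' : (x * y) * Bxy + (x * y) * Bxy = (x ^ 2 * y) * b + y * (x ^ 2 * b + y * A) := hrel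
  -- cancel y
  have e1 : 2 * x * Bxy = 2 * x ^ 2 * b + y * A := by
    apply mul_left_cancel₀ hy0
    linear_combination hrel'
  -- A is divisible by x
  have e2 : psi K A = 0 := by
    have := congrArg (psi K) e1
    simp only [map_mul, map_add, map_pow, hx, hy, psi_X0, psi_X1] at this
    have h : X 1 * psi K A = 0 := by
      simpa using this.symm
    exact (mul_eq_zero.mp h).resolve_left hy0
  obtain ⟨c, hc⟩ : ∃ c, c * x = A := by
    have := sub_psi_mem K A
    rw [e2, sub_zero] at this
    exact Ideal.mem_span_singleton'.mp this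
  set a := C (2⁻¹ : K) * c with ha
  have hAa : A = 2 * x * a := by
    rw [ha, ← hc]
    linear_combination (-(c * x)) * h2inv
  have e3 : Bxy = x * b + y * a := by
    apply mul_left_cancel₀ (mul_ne_zero h2ne hx0)
    rw [e1, hAa]; ring
  let D : Derivation K (MvPolynomial (Fin 2) K) (MvPolynomial (Fin 2) K) :=
    mkDerivation K ![a, b]
  have hDx : D x = a := by
    rw [hx]; exact (mkDerivation_X K ![a, b] 0)
  have hDy : D y = b := by
    rw [hy]; exact (mkDerivation_X K ![a, b] 1)
  have hD1 : D (x ^ 2) = A := by
    rw [pow_two, Derivation.leibniz, hDx, hAa, smul_eq_mul]; ring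
  have hD2 : D (x * y) = Bxy := by
    rw [Derivation.leibniz, hDx, hDy, e3, smul_eq_mul, smul_eq_mul]
  -- the restriction of `D` equals `δ`
  have hres : D.compAlgebraMap (Rp K) = δ := by
    apply Derivation.ext_of_adjoin_eq_top _ Algebra.adjoin_adjoin_coe_preimage
    intro r hr
    obtain ⟨r, hrR⟩ := r
    change r ∈ ({x ^ 2, x * y, y} : Set _) at hr
    change D r = δ ⟨r, hrR⟩
    rcases hr with rfl | rfl | rfl
    · exact hD1
    · exact hD2
    · exact hDy
  refine ⟨D, fun r => ?_, ?_⟩
  · rw [← hres]; rfl
  · intro D' hD'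
    apply MvPolynomial.derivation_ext
    intro i
    have h1 : D' (x ^ 2) = A := hD' x2R
    have h3 : D' y = b := hD' yR
    fin_cases i
    · change D' x = D x
      rw [hDx]
      rw [pow_two, Derivation.leibniz, smul_eq_mul, hAa] at h1
      apply mul_left_cancel₀ (mul_ne_zero h2ne hx0)
      linear_combination h1
    · change D' y = D y
      rw [hDy, h3]

end Groth.Agent.S18122.Aux

namespace Groth.Agent.S18122

/-- Let K be a field in which 2 ≠ 0, S = K[x, y], and R ⊆ S the K-subalgebra generated by x^2, x y and
y; R is the coordinate ring of the pinch point u^2 = v^2 w (u = x y, v = y, w = x^2) and S is its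
normalization. Then restriction along R ⊆ S is a bijection from the K-derivations S → S onto the
K-derivations R → S: every K-derivation R → S extends uniquely to S. In sheaf terms, the natural
injective map from the tangent sheaf of the normalization to the dual of the pulled-back sheaf of
differentials of the pinch point is an isomorphism. (The text works over an algebraically closed
field of characteristic different from 2 and for every semi-smooth variety; only this model case is
stated, and the computation uses only 2 ≠ 0.) -/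
theorem result
    (K : Type u) [Field K] [NeZero (2 : K)] :
    letI R : Subalgebra K (MvPolynomial (Fin 2) K) :=
      Algebra.adjoin K {MvPolynomial.X 0 ^ 2, MvPolynomial.X 0 * MvPolynomial.X 1, MvPolynomial.X 1}
    ∀ δ : Derivation K R (MvPolynomial (Fin 2) K),
      ∃! D : Derivation K (MvPolynomial (Fin 2) K) (MvPolynomial (Fin 2) K),
        ∀ r : R, D (r : MvPolynomial (Fin 2) K) = δ r := by
  exact Aux.main K

end Groth.Agent.S18122
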