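import Groth.Statements.S18123
import Mathlib

set_option autoImplicit false
universe u
open Pinch

namespace Groth.Agent.S18123.Aux

set_option autoImplicit false

variable (K : Type u) [Field K]

open MvPolynomial

/-- restriction to the line `y = 0` -/
noncomputable def ev : MvPolynomial (Fin 2) K →ₐ[K] Polynomial K :=
  aeval ![Polynomial.X, 0]

/-- polynomials in `x` alone -/
noncomputable def iot : Polynomial K →ₐ[K] MvPolynomial (Fin 2) K :=
  Polynomial.aeval (X 0 : MvPolynomial (Fin 2) K)

theorem ev_X0 : ev K (X 0) = Polynomial.X := by simp [ev]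
theorem ev_X1 : ev K (X 1) = 0 := by simp [ev]
theorem iot_X : iot K Polynomial.X = X 0 := by simp [iot]

theorem ev_iot (g : Polynomial K) : ev K (iot K g) = g := by
  rw [iot, ← Polynomial.aeval_algHom_apply, ev_X0, Polynomial.aeval_X_left_apply]

theorem sub_iot_ev_mem (f : MvPolynomial (Fin 2) K) :
    f - iot K (ev K f) ∈ Ideal.span {(X 1 : MvPolynomial (Fin 2) K)} := by
  induction f using MvPolynomial.induction_on with
  | C a => simp [ev, iot]
  | add p q hp hq =>
    have : p + q - iot K (ev K (p + q)) = (p - iot K (ev K p)) + (q - iot K (ev K q)) := by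
      rw [map_add, map_add]; ring
    rw [this]; exact Ideal.add_mem _ hp hq
  | mul_X p i hp =>
    have hX : (X i : MvPolynomial (Fin 2) K) - iot K (ev K (X i)) ∈
        Ideal.span {(X 1 : MvPolynomial (Fin 2) K)} := by
      fin_cases i
      · simp only [Fin.zero_eta, Fin.isValue, ev_X0, iot_X, sub_self]
        exact Ideal.zero_mem _
      · simp only [Fin.mk_one, Fin.isValue, ev_X1, map_zero, sub_zero]
        exact Ideal.subset_span rfl
    have : p * X i - iot K (ev K (p * X i)) =
        (p - iot K (ev K p)) * X i + iot K (ev K p) * (X i - iot K (ev K (X i))) := by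
      rw [map_mul, map_mul]; ring
    rw [this]
    exact Ideal.add_mem _ (Ideal.mul_mem_right _ _ hp) (Ideal.mul_mem_left _ _ hX)

/-- the pinch subalgebra -/
noncomputable abbrev Rp : Subalgebra K (MvPolynomial (Fin 2) K) :=
  Algebra.adjoin K {MvPolynomial.X 0 ^ 2, MvPolynomial.X 0 * MvPolynomial.X 1, MvPolynomial.X 1}

theorem x2_mem : (X 0 : MvPolynomial (Fin 2) K) ^ 2 ∈ Rp K := Algebra.subset_adjoin (by simp)
theorem xy_mem : (X 0 : MvPolynomial (Fin 2) K) * X 1 ∈ Rp K := Algebra.subset_adjoin (by simp)
theorem y_mem : (X 1 : MvPolynomial (Fin 2) K) ∈ Rp K := Algebra.subset_adjoin (by simp)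

theorem y_mul_mem (g : MvPolynomial (Fin 2) K) :
    X 1 * g ∈ Rp K ∧ X 0 * X 1 * g ∈ Rp K := by
  induction g using MvPolynomial.induction_on with
  | C a =>
    constructor
    · rw [mul_comm, ← MvPolynomial.algebraMap_eq, ← Algebra.smul_def]
      exact Subalgebra.smul_mem _ (y_mem K) a
    · rw [mul_comm, ← MvPolynomial.algebraMap_eq, ← Algebra.smul_def]
      exact Subalgebra.smul_mem _ (xy_mem K) a
  | add p q hp hq =>
    constructor
    · rw [mul_add]; exact Subalgebra.add_mem _ hp.1 hq.1
    · rw [mul_add]; exact Subalgebra.add_mem _ hp.2 hq.2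
  | mul_X p i hp =>
    fin_cases i
    · constructor
      · have : (X 1 : MvPolynomial (Fin 2) K) * (p * X 0) = X 0 * X 1 * p := by ring
        simp only [Fin.zero_eta, Fin.isValue]
        rw [this]; exact hp.2
      · have : (X 0 : MvPolynomial (Fin 2) K) * X 1 * (p * X 0) = X 0 ^ 2 * (X 1 * p) := by ring
        simp only [Fin.zero_eta, Fin.isValue]
        rw [this]; exact Subalgebra.mul_mem _ (x2_mem K) hp.1
    · constructor
      · have : (X 1 : MvPolynomial (Fin 2) K) * (p * X 1) = (X 1 * p) * X 1 := by ring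
        simp only [Fin.mk_one, Fin.isValue]
        rw [this]; exact Subalgebra.mul_mem _ hp.1 (y_mem K)
      · have : (X 0 : MvPolynomial (Fin 2) K) * X 1 * (p * X 1) = (X 0 * X 1 * p) * X 1 := by ring
        simp only [Fin.mk_one, Fin.isValue]
        rw [this]; exact Subalgebra.mul_mem _ hp.2 (y_mem K)

theorem aeval_x2_mem (p : Polynomial K) :
    Polynomial.aeval ((X 0 : MvPolynomial (Fin 2) K) ^ 2) p ∈ Rp K :=
  Algebra.adjoin_mono (by simp) (Polynomial.aeval_mem_adjoin_singleton K _)

theorem iot_expand (p : Polynomial K) :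
    iot K (Polynomial.expand K 2 p) = Polynomial.aeval ((X 0 : MvPolynomial (Fin 2) K) ^ 2) p := by
  rw [iot, Polynomial.expand_aeval]

theorem mem_Rp_iff (f : MvPolynomial (Fin 2) K) :
    f ∈ Rp K ↔ ∃ p : Polynomial K, ev K f = Polynomial.expand K 2 p := by
  constructor
  · intro hf
    have hle : Rp K ≤ (Polynomial.expand K 2).range.comap (ev K) := by
      apply Algebra.adjoin_le
      intro g hg
      rcases hg with rfl | rfl | rfl
      · exact ⟨Polynomial.X, by simp [ev_X0]⟩
      · exact ⟨0, by simp [ev_X1]⟩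
      · exact ⟨0, by simp [ev_X1]⟩
    obtain ⟨p, hp⟩ := hle hf
    exact ⟨p, hp.symm⟩
  · rintro ⟨p, hp⟩
    have h1 := sub_iot_ev_mem K f
    obtain ⟨c, hc⟩ := Ideal.mem_span_singleton'.mp h1
    have : f = X 1 * c + Polynomial.aeval ((X 0 : MvPolynomial (Fin 2) K) ^ 2) p := by
      rw [← iot_expand, ← hp, mul_comm, hc]; ring
    rw [this]
    exact Subalgebra.add_mem _ (y_mul_mem K c).1 (aeval_x2_mem K p)

/-- odd = even forces zero -/
theorem odd_eq_even (e e' : Polynomial K)
    (h : Polynomial.X * Polynomial.expand K 2 e = Polynomial.expand K 2 e') : e = 0 := by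
  ext k
  have := congrArg (fun q => q.coeff (2 * k + 1)) h
  simp only [Polynomial.coeff_X_mul, Polynomial.coeff_expand (by norm_num : 0 < 2)] at this
  have h1 : (2 : ℕ) ∣ 2 * k := dvd_mul_right _ _
  have h2 : ¬ (2 : ℕ) ∣ 2 * k + 1 := by omega
  rw [if_pos h1, if_neg h2, Nat.mul_div_cancel_left k (by norm_num)] at this
  simpa using this

/-- even/odd decomposition -/
theorem even_odd (g : Polynomial K) : ∃ ge go : Polynomial K,
    g = Polynomial.expand K 2 ge + Polynomial.X * Polynomial.expand K 2 go := by
  have step : ∀ q : Polynomial K, (∃ ge go : Polynomial K,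
      q = Polynomial.expand K 2 ge + Polynomial.X * Polynomial.expand K 2 go) →
      ∃ ge go : Polynomial K,
      q * Polynomial.X = Polynomial.expand K 2 ge + Polynomial.X * Polynomial.expand K 2 go := by
    rintro q ⟨ge, go, rfl⟩
    refine ⟨Polynomial.X * go, ge, ?_⟩
    rw [map_mul, Polynomial.expand_X]; ring
  induction g using Polynomial.induction_on with
  | C a => exact ⟨Polynomial.C a, 0, by simp⟩
  | add p q hp hq =>
    obtain ⟨pe, po, rfl⟩ := hp
    obtain ⟨qe, qo, rfl⟩ := hq
    exact ⟨pe + qe, po + qo, by simp only [map_add]; ring⟩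
  | monomial n a h =>
    have := step _ h
    rwa [pow_succ, ← mul_assoc]

theorem main [NeZero (2 : K)]
    (D : Derivation K (MvPolynomial (Fin 2) K) (MvPolynomial (Fin 2) K)) :
    letI x : MvPolynomial (Fin 2) K := MvPolynomial.X 0
    letI y : MvPolynomial (Fin 2) K := MvPolynomial.X 1
    letI R : Subalgebra K (MvPolynomial (Fin 2) K) := Algebra.adjoin K {x ^ 2, x * y, y}
    (∀ r ∈ R, D r ∈ R) ↔
      (D y ∈ Ideal.span {y} ∧
        ∃ (s : MvPolynomial (Fin 2) K) (p : Polynomial K), D x = y * s + x * Polynomial.aeval (x ^ 2) p) := by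
  show (∀ r ∈ Rp K, D r ∈ Rp K) ↔
      (D (X 1) ∈ Ideal.span {(X 1 : MvPolynomial (Fin 2) K)} ∧
        ∃ (s : MvPolynomial (Fin 2) K) (p : Polynomial K),
          D (X 0) = X 1 * s + X 0 * Polynomial.aeval ((X 0 : MvPolynomial (Fin 2) K) ^ 2) p)
  set x : MvPolynomial (Fin 2) K := X 0 with hx
  set y : MvPolynomial (Fin 2) K := X 1 with hy
  set α := D x with hα
  set β := D y with hβ
  have h2K : (2 : K) ≠ 0 := NeZero.ne 2
  have hDxy : D (x * y) = x * β + y * α := by
    rw [Derivation.leibniz, smul_eq_mul, smul_eq_mul]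
  have hDx2 : D (x ^ 2) = 2 * x * α := by
    rw [pow_two, Derivation.leibniz, smul_eq_mul]; ring
  constructor
  · intro hD
    -- β
    obtain ⟨e, he⟩ := (mem_Rp_iff K β).mp (hD y (y_mem K))
    obtain ⟨e', he'⟩ := (mem_Rp_iff K _).mp (hD (x * y) (xy_mem K))
    rw [hDxy, map_add, map_mul, map_mul, hx, hy, ev_X0, ev_X1, zero_mul, add_zero, he] at he'
    have e0 := odd_eq_even K e e' he'
    rw [e0, map_zero] at he
    have hβy := sub_iot_ev_mem K β
    rw [he, map_zero, sub_zero] at hβy
    refine ⟨hβy, ?_⟩
    -- α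
    obtain ⟨q, hq⟩ := (mem_Rp_iff K _).mp (hD (x ^ 2) (x2_mem K))
    obtain ⟨ge, go, hg⟩ := even_odd K (ev K α)
    rw [hDx2, map_mul, map_mul, hx, ev_X0, hg] at hq
    have h2 : ev K (2 : MvPolynomial (Fin 2) K) = Polynomial.C (2 : K) := by
      rw [map_ofNat, map_ofNat]
    have hq' : Polynomial.X * Polynomial.expand K 2 (Polynomial.C (2 : K) * ge) =
        Polynomial.expand K 2 (q - Polynomial.C (2 : K) * Polynomial.X * go) := by
      rw [map_sub, map_mul, map_mul, map_mul, Polynomial.expand_X, Polynomial.expand_C, ← hq, h2]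
      ring
    have hge := odd_eq_even K _ _ hq'
    have hge0 : ge = 0 := by
      rcases mul_eq_zero.mp hge with h | h
      · exact absurd (Polynomial.C_eq_zero.mp h) h2K
      · exact h
    rw [hge0, map_zero, zero_add] at hg
    obtain ⟨s, hs⟩ := Ideal.mem_span_singleton'.mp (sub_iot_ev_mem K α)
    refine ⟨s, go, ?_⟩
    have : iot K (ev K α) = x * Polynomial.aeval (x ^ 2) go := by
      rw [hg, map_mul, iot_X, iot_expand]
    rw [← this, mul_comm, hs]; ring
  · rintro ⟨hβy, s, p, hαs⟩
    obtain ⟨c, hc⟩ := Ideal.mem_span_singleton'.mp hβy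
    have hR1 : D (x ^ 2) ∈ Rp K := by
      rw [hDx2, hαs]
      have : 2 * x * (y * s + x * Polynomial.aeval (x ^ 2) p) =
          x * y * (2 * s) + 2 * (x ^ 2 * Polynomial.aeval (x ^ 2) p) := by ring
      rw [this]
      refine Subalgebra.add_mem _ (y_mul_mem K _).2 ?_
      exact Subalgebra.mul_mem _ (by
        have : (2 : MvPolynomial (Fin 2) K) = algebraMap K _ 2 := by rw [map_ofNat]
        rw [this]; exact Subalgebra.algebraMap_mem _ _)
        (Subalgebra.mul_mem _ (x2_mem K) (aeval_x2_mem K p))
    have hR2 : D (x * y) ∈ Rp K := by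
      rw [hDxy, hαs, ← hc]
      have : x * (c * y) + y * (y * s + x * Polynomial.aeval (x ^ 2) p) =
          x * y * c + y * (y * s) + x * y * Polynomial.aeval (x ^ 2) p := by ring
      rw [this]
      exact Subalgebra.add_mem _ (Subalgebra.add_mem _ (y_mul_mem K _).2 (y_mul_mem K _).1)
        (y_mul_mem K _).2
    have hR3 : D y ∈ Rp K := by
      change β ∈ Rp K
      rw [← hc, mul_comm]
      exact (y_mul_mem K _).1
    intro r hr
    induction hr using Algebra.adjoin_induction with
    | mem g hg =>
      rcases hg with rfl | rfl | rfl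
      · exact hR1
      · exact hR2
      · exact hR3
    | algebraMap a => rw [Derivation.map_algebraMap]; exact Subalgebra.zero_mem _
    | add g h _ _ hg hh => rw [map_add]; exact Subalgebra.add_mem _ hg hh
    | mul g h hgR hhR hg hh =>
      rw [Derivation.leibniz, smul_eq_mul, smul_eq_mul]
      exact Subalgebra.add_mem _ (Subalgebra.mul_mem _ hgR hh) (Subalgebra.mul_mem _ hhR hg)

end Groth.Agent.S18123.Aux

namespace Groth.Agent.S18123

/-- Let K be a field in which 2 ≠ 0, S = K[x, y], and R ⊆ S the K-subalgebra generated by x^2, x y, y,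
the coordinate ring of the pinch point with normalization S, obtained by gluing the plane along the
line y = 0 via x ↦ -x. A K-derivation D of S maps R into R if and only if D(y) is a multiple of y
and D(x) = y s + x p(x^2) for some s in S and some polynomial p in one variable. Every K-derivation
R → S extends uniquely to S, and under this identification the derivations mapping R into R form the
image of the tangent sheaf of the pinch point in that of its normalization; so this image contains y
times all derivations of S, and modulo those it is spanned by the odd multiples x^(2k+1) ∂/∂x, the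
part of the tangent sheaf of the line y = 0 invariant under x ↦ -x. (The text works over an
algebraically closed field of characteristic different from 2; the computation uses only 2 ≠ 0.) -/
theorem result
    (K : Type u) [Field K] [NeZero (2 : K)]
    (D : Derivation K (MvPolynomial (Fin 2) K) (MvPolynomial (Fin 2) K)) :
    letI x : MvPolynomial (Fin 2) K := MvPolynomial.X 0
    letI y : MvPolynomial (Fin 2) K := MvPolynomial.X 1
    letI R : Subalgebra K (MvPolynomial (Fin 2) K) := Algebra.adjoin K {x ^ 2, x * y, y}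
    (∀ r ∈ R, D r ∈ R) ↔
      (D y ∈ Ideal.span {y} ∧
        ∃ (s : MvPolynomial (Fin 2) K) (p : Polynomial K), D x = y * s + x * Polynomial.aeval (x ^ 2) p) := by
  exact Aux.main K D

end Groth.Agent.S18123
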