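import Groth.Statements.S18125
import Mathlib

set_option autoImplicit false
universe u
open Pinch

namespace Groth.Agent.S18125.Aux

set_option autoImplicit false

variable (K : Type u) [Field K] (n : ℕ)

open MvPolynomial

/-- kill the variables `u` and `w` -/
noncomputable def phi : MvPolynomial (Fin (n + 3)) K →ₐ[K] MvPolynomial (Fin (n + 3)) K :=
  aeval (fun i => if i = 0 ∨ i = 2 then 0 else X i)

theorem phi_X0 : phi K n (X 0) = 0 := by simp [phi]
theorem phi_X2 : phi K n (X 2) = 0 := by simp [phi]
theorem phi_X1 : phi K n (X 1) = X 1 := by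
  have h1 : ¬ ((1 : Fin (n + 3)) = 0 ∨ (1 : Fin (n + 3)) = 2) := by
    rintro (h | h)
    · have := congrArg Fin.val h
      rw [Fin.val_one (n + 1), Fin.val_zero] at this
      omega
    · have := congrArg Fin.val h
      rw [Fin.val_one (n + 1), Fin.val_two] at this
      omega
  simp only [phi, aeval_X, if_neg h1]

theorem sub_phi_mem (f : MvPolynomial (Fin (n + 3)) K) :
    f - phi K n f ∈ Ideal.span {(X 0 : MvPolynomial (Fin (n + 3)) K), X 2} := by
  induction f using MvPolynomial.induction_on with
  | C a => simp [phi]
  | add p q hp hq =>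
    have : p + q - phi K n (p + q) = (p - phi K n p) + (q - phi K n q) := by
      rw [map_add]; ring
    rw [this]; exact Ideal.add_mem _ hp hq
  | mul_X p i hp =>
    have hX : (X i : MvPolynomial (Fin (n + 3)) K) - phi K n (X i) ∈
        Ideal.span {(X 0 : MvPolynomial (Fin (n + 3)) K), X 2} := by
      by_cases hi : i = 0 ∨ i = 2
      · have : phi K n (X i) = 0 := by simp [phi, hi]
        rw [this, sub_zero]
        rcases hi with rfl | rfl
        · exact Ideal.subset_span (by simp)
        · exact Ideal.subset_span (by simp)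
      · have : phi K n (X i) = X i := by simp [phi, hi]
        rw [this, sub_self]; exact Ideal.zero_mem _
    have : p * X i - phi K n (p * X i) =
        (p - phi K n p) * X i + phi K n p * (X i - phi K n (X i)) := by
      rw [map_mul]; ring
    rw [this]
    exact Ideal.add_mem _ (Ideal.mul_mem_right _ _ hp) (Ideal.mul_mem_left _ _ hX)

theorem main [NeZero (2 : K)] :
    letI u : MvPolynomial (Fin (n + 3)) K := MvPolynomial.X 0
    letI v : MvPolynomial (Fin (n + 3)) K := MvPolynomial.X 1
    letI w : MvPolynomial (Fin (n + 3)) K := MvPolynomial.X 2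
    letI Jac : Ideal (MvPolynomial (Fin (n + 3)) K) :=
      Ideal.span {u ^ 2 - v ^ 2 * w, 2 * u, -(2 * v * w), -(v ^ 2)}
    Ideal.span {u, v} = Jac ⊔ Ideal.span {v} ∧ Jac.colon (Ideal.span {v}) = Ideal.span {u, v, w} := by
  show
    let u : MvPolynomial (Fin (n + 3)) K := MvPolynomial.X 0
    let v : MvPolynomial (Fin (n + 3)) K := MvPolynomial.X 1
    let w : MvPolynomial (Fin (n + 3)) K := MvPolynomial.X 2
    let Jac : Ideal (MvPolynomial (Fin (n + 3)) K) :=
      Ideal.span {u ^ 2 - v ^ 2 * w, 2 * u, -(2 * v * w), -(v ^ 2)}
    Ideal.span {u, v} = Jac ⊔ Ideal.span {v} ∧ Jac.colon (Ideal.span {v}) = Ideal.span {u, v, w}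
  intro u v w Jac
  have h2 : (C (2 : K) : MvPolynomial (Fin (n + 3)) K) = 2 := by
    rw [map_ofNat]
  have h2inv : (C (2⁻¹ : K) : MvPolynomial (Fin (n + 3)) K) * 2 = 1 := by
    rw [← h2, ← C_mul, inv_mul_cancel₀ (NeZero.ne (2 : K)), C_1]
  have hu : u ∈ Jac := by
    have h : (2 * u) ∈ Jac := Ideal.subset_span (by simp)
    have := Ideal.mul_mem_left Jac (C (2⁻¹ : K)) h
    rwa [← mul_assoc, h2inv, one_mul] at this
  have hvv : v ^ 2 ∈ Jac := by
    have h : -(v ^ 2) ∈ Jac := Ideal.subset_span (by simp)
    simpa using Ideal.neg_mem_iff _ |>.mpr h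
  have hvw : v * w ∈ Jac := by
    have h : -(2 * v * w) ∈ Jac := Ideal.subset_span (by simp)
    have h' : 2 * (v * w) ∈ Jac := by
      have := (Ideal.neg_mem_iff _).mpr h
      rwa [neg_neg, mul_assoc] at this
    have := Ideal.mul_mem_left Jac (C (2⁻¹ : K)) h'
    rwa [← mul_assoc, h2inv, one_mul] at this
  constructor
  · apply le_antisymm
    · rw [Ideal.span_le]
      intro x hx
      rcases hx with rfl | rfl
      · exact Ideal.mem_sup_left hu
      · exact Ideal.mem_sup_right (Ideal.subset_span rfl)
    · have huI : u ∈ Ideal.span {u, v} := Ideal.subset_span (by simp)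
      have hvI : v ∈ Ideal.span {u, v} := Ideal.subset_span (by simp)
      rw [sup_le_iff, Ideal.span_le, Ideal.span_le]
      constructor
      · intro x hx
        rcases hx with rfl | rfl | rfl | rfl
        · have : u ^ 2 - v ^ 2 * w = u * u - (v * w) * v := by ring
          rw [this]
          exact Ideal.sub_mem _ (Ideal.mul_mem_left _ _ huI) (Ideal.mul_mem_left _ _ hvI)
        · exact Ideal.mul_mem_left _ _ huI
        · have : -(2 * v * w) = (-(2 * w)) * v := by ring
          rw [this]; exact Ideal.mul_mem_left _ _ hvI
        · have : -(v ^ 2) = (-v) * v := by ring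
          rw [this]; exact Ideal.mul_mem_left _ _ hvI
      · intro x hx
        rcases hx with rfl
        exact hvI
  · apply le_antisymm
    · intro f hf
      rw [Ideal.mem_colon_span_singleton] at hf
      -- Jac maps into (v^2)
      have e0 : phi K n u = 0 := phi_X0 K n
      have e1 : phi K n v = v := phi_X1 K n
      have e2 : phi K n w = 0 := phi_X2 K n
      have hJ : Jac ≤ Ideal.comap (phi K n).toRingHom (Ideal.span {v ^ 2}) := by
        rw [Ideal.span_le]
        simp only [Set.insert_subset_iff, Set.singleton_subset_iff, SetLike.mem_coe,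
          Ideal.mem_comap, AlgHom.toRingHom_eq_coe, RingHom.coe_coe]
        refine ⟨?_, ?_, ?_, ?_⟩
        · rw [map_sub, map_mul, map_pow, map_pow, e0, e2]; simp
        · rw [map_mul, e0]; simp
        · rw [map_neg, map_mul, e2]; simp
        · rw [map_neg, map_pow, e1]
          exact (Ideal.neg_mem_iff _).mpr (Ideal.subset_span rfl)
      have h1 : phi K n (f * v) ∈ Ideal.span {v ^ 2} := hJ hf
      rw [map_mul, e1] at h1
      obtain ⟨c, hc⟩ := Ideal.mem_span_singleton'.mp h1
      have hv0 : v ≠ 0 := X_ne_zero _
      have h3 : phi K n f = c * v := by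
        have : phi K n f * v = (c * v) * v := by rw [← hc]; ring
        exact mul_right_cancel₀ hv0 this
      have h4 : f - phi K n f ∈ Ideal.span {u, w} := sub_phi_mem K n f
      have : f = (f - phi K n f) + c * v := by rw [← h3]; ring
      rw [this]
      refine Ideal.add_mem _ ?_ ?_
      · refine (Ideal.span_mono ?_) h4
        intro x hx
        rcases hx with rfl | rfl
        · simp
        · simp
      · exact Ideal.mul_mem_left _ _ (Ideal.subset_span (by simp))
    · rw [Ideal.span_le]
      simp only [Set.insert_subset_iff, Set.singleton_subset_iff, SetLike.mem_coe,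
        Ideal.mem_colon_span_singleton]
      refine ⟨?_, ?_, ?_⟩
      · exact Ideal.mul_mem_right _ _ hu
      · have : v * v = v ^ 2 := by ring
        rw [this]; exact hvv
      · rw [mul_comm]; exact hvw

end Groth.Agent.S18125.Aux

namespace Groth.Agent.S18125

/-- Let K be a field in which 2 ≠ 0, n ≥ 0, S = K[u, v, w, t_1, …, t_n] (u, v, w the first three
variables), h = u^2 - v^2 w the equation of the pinch-point model, and Jac the ideal generated by h
and its three partial derivatives 2u, -2vw, -v^2, which cuts out the scheme-theoretic singular locus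
of {h = 0}. Then the ideal (u, v) of the double locus is Jac + (v), and the colon ideal of Jac by
(v) is (u, v, w). Consequently (u, v)/Jac, the ideal of the double locus restricted to the singular
locus, is an invertible sheaf on the pinch locus u = v = w = 0: it is free of rank one over K[t_1,
…, t_n] on the class of v. (The text states this for every semi-smooth variety and reduces to this
model; K algebraically closed is not needed for the model computation.) -/
theorem result
    (K : Type u) [Field K] [NeZero (2 : K)] (n : ℕ) :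
    letI u : MvPolynomial (Fin (n + 3)) K := MvPolynomial.X 0
    letI v : MvPolynomial (Fin (n + 3)) K := MvPolynomial.X 1
    letI w : MvPolynomial (Fin (n + 3)) K := MvPolynomial.X 2
    letI Jac : Ideal (MvPolynomial (Fin (n + 3)) K) :=
      Ideal.span {u ^ 2 - v ^ 2 * w, 2 * u, -(2 * v * w), -(v ^ 2)}
    Ideal.span {u, v} = Jac ⊔ Ideal.span {v} ∧ Jac.colon (Ideal.span {v}) = Ideal.span {u, v, w} := by
  exact Aux.main K n

end Groth.Agent.S18125
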