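import Groth.Statements.S18126
import Mathlib
import Groth.Agent.Lib.Helper94.FibreUnmixed2
import Groth.Agent.S16713

set_option autoImplicit false
universe u
open Deform

namespace Groth.Agent.S18126

open KaehlerDifferential TensorProduct
open Groth.Agent.Lib.Helper94 Groth.Agent.Lib.Helper94.FibreUnmixed

open IsLocalRing in
/-- Local step: a prime of the shape `(I² : w)` is an associated prime of the quotient locally. -/
theorem maximalIdeal_mem_associatedPrimes_of_colon {S T : Type u} [CommRing S]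
    [CommRing T] [Algebra S T] [IsLocalRing T] [IsNoetherianRing T]
    (I 𝔞₀ : Ideal S) [𝔞₀.IsPrime] [IsLocalization.AtPrime T 𝔞₀] (w : S) (hw : w ∈ I)
    (hcolon : ∀ r : S, r ∈ 𝔞₀ ↔ r * w ∈ I ^ 2) {c : ℕ} (l : Fin c → T)
    (h1 : CAlgX.IsH1Regular l)
    (hspan : Ideal.span (Set.range l) = I.map (algebraMap S T)) :
    maximalIdeal T ∈ associatedPrimes T (T ⧸ Ideal.span (Set.range l)) := by
  set J : Ideal T := Ideal.span (Set.range l) with hJ
  have hJ2 : (I ^ 2).map (algebraMap S T) = J ^ 2 := by rw [Ideal.map_pow, ← hspan]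
  -- the colon ideal of `w` in `T`
  have hcol : ∀ t : T, t ∈ maximalIdeal T ↔ t * algebraMap S T w ∈ J ^ 2 := by
    intro t
    obtain ⟨r, s, rfl⟩ := IsLocalization.exists_mk'_eq 𝔞₀.primeCompl t
    rw [IsLocalization.AtPrime.mk'_mem_maximal_iff T 𝔞₀, ← hJ2, mul_comm,
      IsLocalization.mul_mk'_eq_mk'_of_mul, IsLocalization.mk'_mem_map_algebraMap_iff]
    constructor
    · intro hr
      refine ⟨1, 𝔞₀.primeCompl.one_mem, ?_⟩
      rw [one_mul, mul_comm]
      exact (hcolon r).mp hr
    · rintro ⟨s', hs', h⟩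
      have h2 : s' * r ∈ 𝔞₀ := by
        rw [hcolon]
        convert h using 1
        ring
      exact (Ideal.IsPrime.mem_or_mem inferInstance h2).resolve_left hs'
  have hwJ : algebraMap S T w ∈ J := by rw [hspan]; exact Ideal.mem_map_of_mem _ hw
  obtain ⟨a, ha⟩ := Ideal.mem_span_range_iff_exists_fun.mp hwJ
  have hone : (1 : T) ∉ maximalIdeal T :=
    (Ideal.ne_top_iff_one _).mp (maximalIdeal.isMaximal T).ne_top
  -- some coefficient is not in `J`
  obtain ⟨i, hi⟩ : ∃ i, a i ∉ J := by
    by_contra hall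
    push Not at hall
    apply hone
    rw [hcol, one_mul, ← ha, pow_two]
    exact Ideal.sum_mem _ fun i _ => Ideal.mul_mem_mul (hall i) (Ideal.subset_span ⟨i, rfl⟩)
  rw [AssociatedPrimes.mem_iff, isAssociatedPrime_iff]
  refine ⟨inferInstance, Ideal.Quotient.mk _ (a i), ?_⟩
  ext t
  rw [Submodule.mem_colon_singleton, Submodule.mem_bot, ← Ideal.Quotient.mk_eq_mk,
    ← Submodule.Quotient.mk_smul, Ideal.Quotient.mk_eq_mk, Ideal.Quotient.eq_zero_iff_mem,
    smul_eq_mul]
  constructor
  · intro ht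
    have h2 : ∑ j, (t * a j) * l j ∈ J ^ 2 := by
      have : ∑ j, (t * a j) * l j = t * algebraMap S T w := by
        rw [← ha, Finset.mul_sum]
        exact Finset.sum_congr rfl fun j _ => by ring
      rw [this]
      exact (hcol t).mp ht
    exact Groth.Agent.Lib.Helper10.KoszulH1.coeff_mem_of_isH1Regular l h1 (fun j => t * a j) h2 i
  · intro ht
    by_contra htm
    have hu : IsUnit t := by
      rw [mem_maximalIdeal, mem_nonunits_iff, not_not] at htm
      exact htm
    apply hi
    have := J.mul_mem_left (↑hu.unit⁻¹ : T) ht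
    rwa [← mul_assoc, IsUnit.val_inv_mul, one_mul] at this


/-- Flatness of `T ⧸ ker ψ` for a surjection `ψ : T → B` of `A`-algebras onto a flat one. -/
theorem flat_quotient_ker_of_surjective {A T B : Type u} [CommRing A] [CommRing T] [CommRing B]
    [Algebra A T] [Algebra A B] [Module.Flat A B] (ψ : T →+* B) (hψ : Function.Surjective ψ)
    (hcomp : ∀ a, ψ (algebraMap A T a) = algebraMap A B a) :
    Module.Flat A (T ⧸ RingHom.ker ψ) := by
  let e : (T ⧸ RingHom.ker ψ) ≃+* B := RingHom.quotientKerEquivOfSurjective hψ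
  let e' : (T ⧸ RingHom.ker ψ) ≃ₗ[A] B :=
    { e with
      map_smul' := fun a x => by
        obtain ⟨t, rfl⟩ := Ideal.Quotient.mk_surjective x
        show e (a • Ideal.Quotient.mk _ t) = a • e (Ideal.Quotient.mk _ t)
        rw [Algebra.smul_def, Algebra.smul_def, map_mul]
        congr 1
        show e (Ideal.Quotient.mk _ (algebraMap A T a)) = _
        exact (RingHom.quotientKerEquivOfSurjective_apply_mk hψ _).trans (hcomp a) }
  exact Module.Flat.of_linearEquiv e'

/-- Let A be a Noetherian ring in which 2 is invertible and P a flat A-algebra which is a local complete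
intersection over A (of finite type, with Koszul-regular kernel for some polynomial presentation)
and whose fibres are generically smooth: every prime of P minimal among the primes of its fibre over
A lies in the smooth locus of A → P. Then the first homology of the naive cotangent complex of P
over A vanishes, H_1(NL_{P/A}) = 0: for every presentation P = S/I by a polynomial A-algebra S the
conormal sequence 0 → I/I^2 → Ω_{S/A} ⊗_S P → Ω_{P/A} → 0 is exact on the left. Since the cotangent
complex of a local complete intersection is this two-term complex, it is quasi-isomorphic to Ω_{P/A}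
in degree 0, which is the identification that makes T^1 = Ext^1(Ω_{P/A}, P) the degree-one
cohomology of RHom of the cotangent complex into P. (The text states the latter identification for a
flat local complete intersection morphism of Noetherian schemes with generically smooth fibres; the
row is its affine content.) -/
theorem result
    (A : Type u) [CommRing A] [IsNoetherianRing A] (h2 : IsUnit (2 : A))
    (P : Type u) [CommRing P] [Algebra A P] [Module.Flat A P] (hlci : LCI.IsLCI A P)
    (hgs : ∀ 𝔓 : PrimeSpectrum P,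
      (∀ 𝔔 : PrimeSpectrum P, 𝔔 ≤ 𝔓 →
          𝔔.asIdeal.comap (algebraMap A P) = 𝔓.asIdeal.comap (algebraMap A P) → 𝔔 = 𝔓) →
        𝔓 ∈ Algebra.smoothLocus A P) :
    Subsingleton (Algebra.H1Cotangent A P) := by
  obtain ⟨-, n, f, hf, hK⟩ := hlci
  let S := MvPolynomial (Fin n) A
  algebraize [f.toRingHom]
  have : IsScalarTower A S P := .of_algebraMap_eq' f.comp_algebraMap.symm
  have hsurj : Function.Surjective (algebraMap S P) := hf
  rw [← Algebra.FormallySmooth.kerCotangentToTensor_injective_iff (R := A) (P := S) (A := P) hsurj]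
  set I : Ideal S := RingHom.ker (algebraMap S P) with hI
  have hIf : RingHom.ker f.toRingHom = I := rfl
  rw [injective_iff_map_eq_zero]
  intro z hz
  obtain ⟨⟨y, hy⟩, rfl⟩ := Ideal.toCotangent_surjective _ z
  rw [kerCotangentToTensor_toCotangent] at hz
  have hDy : D A S y ∈ I • (⊤ : Submodule S Ω[S⁄A]) :=
    Groth.Agent.S16713.mem_smul_top_of_one_tmul_eq_zero hsurj _ hz
  rw [Ideal.toCotangent_eq_zero]
  show y ∈ I ^ 2
  by_contra hy2
  -- an associated prime of the cyclic module generated by the class of `y`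
  set 𝔟 : Ideal S := (I ^ 2).colon {y} with h𝔟
  have hmem𝔟 : ∀ r : S, r ∈ 𝔟 ↔ r * y ∈ I ^ 2 := fun r => by
    rw [h𝔟, Submodule.mem_colon_singleton, smul_eq_mul]
  have h𝔟top : 𝔟 ≠ ⊤ := by
    rw [Ne, Ideal.eq_top_iff_one, hmem𝔟, one_mul]
    exact hy2
  have : Nontrivial (S ⧸ 𝔟) := Ideal.Quotient.nontrivial_iff.mpr h𝔟top
  obtain ⟨𝔞₀, h𝔞₀⟩ := associatedPrimes.nonempty S (S ⧸ 𝔟)
  obtain ⟨h𝔞₀p, v, hv⟩ := isAssociatedPrime_iff.mp h𝔞₀
  obtain ⟨s₀, rfl⟩ := Ideal.Quotient.mk_surjective v
  set w : S := s₀ * y with hwdef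
  have hw : w ∈ I := I.mul_mem_left _ hy
  have hcolon : ∀ r : S, r ∈ 𝔞₀ ↔ r * w ∈ I ^ 2 := by
    intro r
    rw [hv, Submodule.mem_colon_singleton, Submodule.mem_bot, ← Ideal.Quotient.mk_eq_mk,
      ← Submodule.Quotient.mk_smul, Ideal.Quotient.mk_eq_mk, Ideal.Quotient.eq_zero_iff_mem,
      smul_eq_mul, hmem𝔟, hwdef, mul_assoc]
  have hDw : D A S w ∈ I • (⊤ : Submodule S Ω[S⁄A]) := by
    rw [hwdef, Derivation.leibniz]
    exact Submodule.add_mem _ (Submodule.smul_mem _ _ hDy) (Submodule.smul_mem_smul hy trivial)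
  have hI𝔞 : I ≤ 𝔞₀ := by
    intro r hr
    rw [hcolon, pow_two]
    exact Ideal.mul_mem_mul hr hw
  -- local generators at `𝔞₀`
  obtain ⟨g, hg, l, hlK, hlspan⟩ := hK ⟨𝔞₀, h𝔞₀p⟩ hI𝔞
  have hT : ∃ (c : ℕ) (l' : Fin c → Localization.AtPrime 𝔞₀), CAlgX.IsH1Regular l' ∧
      Ideal.span (Set.range l') = I.map (algebraMap S (Localization.AtPrime 𝔞₀)) := by
    have hgunit : IsUnit (algebraMap S (Localization.AtPrime 𝔞₀) g) :=
      IsLocalization.map_units (Localization.AtPrime 𝔞₀) (⟨g, hg⟩ : 𝔞₀.primeCompl)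
    let φ : Localization.Away g →+* Localization.AtPrime 𝔞₀ := IsLocalization.Away.lift g hgunit
    algebraize [φ]
    have : IsScalarTower S (Localization.Away g) (Localization.AtPrime 𝔞₀) :=
      .of_algebraMap_eq' (IsLocalization.Away.lift_comp g hgunit).symm
    have hpow : Submonoid.powers g ≤ 𝔞₀.primeCompl := by
      rintro _ ⟨m, rfl⟩
      exact 𝔞₀.primeCompl.pow_mem hg m
    have hlocST : IsLocalization (𝔞₀.primeCompl.map (algebraMap S (Localization.Away g)))
        (Localization.AtPrime 𝔞₀) :=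
      IsLocalization.isLocalization_of_submonoid_le (Localization.Away g)
        (Localization.AtPrime 𝔞₀) (Submonoid.powers g) 𝔞₀.primeCompl hpow
    have h1S : CAlgX.IsH1Regular l.get :=
      Groth.Agent.Lib.Helper10.KoszulH1.isH1Regular_of_isKoszulRegularSeq l hlK
    have h1T : CAlgX.IsH1Regular
        (fun i => algebraMap (Localization.Away g) (Localization.AtPrime 𝔞₀) (l.get i)) :=
      Groth.Agent.S16713.isH1Regular_of_isLocalization
        (𝔞₀.primeCompl.map (algebraMap S (Localization.Away g))) l.get h1S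
    refine ⟨l.length, _, h1T, ?_⟩
    have h2 : Set.range (fun i => algebraMap (Localization.Away g) (Localization.AtPrime 𝔞₀)
        (l.get i)) = (algebraMap (Localization.Away g) (Localization.AtPrime 𝔞₀)) '' {x | x ∈ l} := by
      ext x
      constructor
      · rintro ⟨i, rfl⟩
        exact ⟨l.get i, List.get_mem l i, rfl⟩
      · rintro ⟨x, hx, rfl⟩
        obtain ⟨i, rfl⟩ := List.get_of_mem hx
        exact ⟨i, rfl⟩
    rw [h2, ← Ideal.map_span, ← hlspan, Ideal.map_map, ← IsScalarTower.algebraMap_eq]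
    rfl
  obtain ⟨c, l', h1T, hspanT⟩ := hT
  have hmemT : ∀ i, l' i ∈ IsLocalRing.maximalIdeal (Localization.AtPrime 𝔞₀) := by
    intro i
    have h3 : l' i ∈ I.map (algebraMap S (Localization.AtPrime 𝔞₀)) := by
      rw [← hspanT]; exact Ideal.subset_span ⟨i, rfl⟩
    have h4 : I.map (algebraMap S (Localization.AtPrime 𝔞₀)) ≤
        IsLocalRing.maximalIdeal (Localization.AtPrime 𝔞₀) := by
      rw [← Localization.AtPrime.map_eq_maximalIdeal]
      exact Ideal.map_mono hI𝔞
    exact h4 h3
  have hass := maximalIdeal_mem_associatedPrimes_of_colon (T := Localization.AtPrime 𝔞₀)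
    I 𝔞₀ w hw hcolon l' h1T hspanT
  -- the prime of `P`
  have hker𝔞 : RingHom.ker (algebraMap S P) ≤ 𝔞₀ := hI𝔞
  have h𝔞₁p : (𝔞₀.map (algebraMap S P)).IsPrime := Ideal.map_isPrime_of_surjective hsurj hker𝔞
  have hcomap₁ : (𝔞₀.map (algebraMap S P)).comap (algebraMap S P) = 𝔞₀ := by
    rw [Ideal.comap_map_of_surjective' _ hsurj, sup_eq_left]
    exact hker𝔞
  -- flatness of `T ⧸ J` over `A`
  have hflat : Module.Flat A (Localization.AtPrime 𝔞₀ ⧸ Ideal.span (Set.range l')) := by
    obtain ⟨hψ, hkerψ⟩ := localRingHom_surjective_and_ker (algebraMap S P) hsurj 𝔞₀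
      (𝔞₀.map (algebraMap S P)) hcomap₁.symm
    rw [hspanT, hI, ← hkerψ]
    have : Module.Flat A (Localization.AtPrime (𝔞₀.map (algebraMap S P))) :=
      Module.Flat.trans A P _
    refine flat_quotient_ker_of_surjective (A := A) _ hψ fun a => ?_
    rw [IsScalarTower.algebraMap_apply A S (Localization.AtPrime 𝔞₀),
      Localization.localRingHom_to_map, ← IsScalarTower.algebraMap_apply A S P,
      ← IsScalarTower.algebraMap_apply A P]
  -- fibre-minimality of the prime of `P`
  have hcomapT : (IsLocalRing.maximalIdeal (Localization.AtPrime 𝔞₀)).comap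
      (algebraMap S (Localization.AtPrime 𝔞₀)) = 𝔞₀ :=
    IsLocalization.AtPrime.under_maximalIdeal (Localization.AtPrime 𝔞₀) 𝔞₀
  have hmin : ∀ 𝔔 : PrimeSpectrum P, 𝔔 ≤ ⟨𝔞₀.map (algebraMap S P), h𝔞₁p⟩ →
      𝔔.asIdeal.comap (algebraMap A P) = (𝔞₀.map (algebraMap S P)).comap (algebraMap A P) →
        𝔔 = ⟨𝔞₀.map (algebraMap S P), h𝔞₁p⟩ := by
    intro 𝔔 hle hA
    have hle' : 𝔔.asIdeal ≤ 𝔞₀.map (algebraMap S P) := hle
    have h𝔔₀le : 𝔔.asIdeal.comap (algebraMap S P) ≤ 𝔞₀ := by
      rw [← hcomap₁]; exact Ideal.comap_mono hle'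
    have hdisj : Disjoint (𝔞₀.primeCompl : Set S) (𝔔.asIdeal.comap (algebraMap S P) : Set S) := by
      rw [Set.disjoint_left]
      intro x hx hx'
      exact hx (h𝔔₀le hx')
    have h𝔔Tp : ((𝔔.asIdeal.comap (algebraMap S P)).map
        (algebraMap S (Localization.AtPrime 𝔞₀))).IsPrime :=
      IsLocalization.isPrime_of_isPrime_disjoint 𝔞₀.primeCompl _ _ inferInstance hdisj
    have h𝔔Tc : ((𝔔.asIdeal.comap (algebraMap S P)).map
        (algebraMap S (Localization.AtPrime 𝔞₀))).comap (algebraMap S (Localization.AtPrime 𝔞₀)) =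
          𝔔.asIdeal.comap (algebraMap S P) :=
      IsLocalization.under_map_of_isPrime_disjoint 𝔞₀.primeCompl _ inferInstance hdisj
    have hJle : Ideal.span (Set.range l') ≤ (𝔔.asIdeal.comap (algebraMap S P)).map
        (algebraMap S (Localization.AtPrime 𝔞₀)) := by
      rw [hspanT]
      refine Ideal.map_mono ?_
      intro x hx
      rw [Ideal.mem_comap, (RingHom.mem_ker).mp hx]
      exact Ideal.zero_mem _
    have hAeq : ((𝔔.asIdeal.comap (algebraMap S P)).map
        (algebraMap S (Localization.AtPrime 𝔞₀))).comap (algebraMap A (Localization.AtPrime 𝔞₀)) =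
        (IsLocalRing.maximalIdeal (Localization.AtPrime 𝔞₀)).comap
          (algebraMap A (Localization.AtPrime 𝔞₀)) := by
      rw [IsScalarTower.algebraMap_eq A S (Localization.AtPrime 𝔞₀), ← Ideal.comap_comap,
        ← Ideal.comap_comap, h𝔔Tc, hcomapT, Ideal.comap_comap, ← IsScalarTower.algebraMap_eq, hA,
        IsScalarTower.algebraMap_eq A S P, ← Ideal.comap_comap, hcomap₁]
    have hU := eq_maximalIdeal_of_comap_eq A n 𝔞₀ l' hmemT h1T hflat hass _ hJle hAeq
    have h𝔔₀eq : 𝔔.asIdeal.comap (algebraMap S P) = 𝔞₀ := by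
      rw [← h𝔔Tc, hU, hcomapT]
    apply PrimeSpectrum.ext
    show 𝔔.asIdeal = 𝔞₀.map (algebraMap S P)
    rw [← h𝔔₀eq, Ideal.map_comap_of_surjective _ hsurj]
  have hsm := hgs ⟨𝔞₀.map (algebraMap S P), h𝔞₁p⟩ hmin
  have hsm' : Algebra.FormallySmooth A (Localization.AtPrime (𝔞₀.map (algebraMap S P))) := hsm
  obtain ⟨s, hs, hsw⟩ := exists_mul_mem_sq_of_formallySmooth' A S P f hf
    (𝔞₀.map (algebraMap S P)) w hw hDw
  apply hs
  show s ∈ (𝔞₀.map (algebraMap S P)).comap (algebraMap S P)
  rw [hcomap₁, hcolon]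
  exact hsw

end Groth.Agent.S18126
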