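import Groth.Statements.S18127
import Mathlib

set_option autoImplicit false
universe u
open LocAlg

namespace Groth.Agent.S18127.Aux

open Matrix

/-- If the rows indexed by `S` of a square matrix have all entries in `I`, then det ∈ I^|S|. -/
theorem det_mem_pow_of_rows {R : Type*} [CommRing R] {n : Type*} [Fintype n] [DecidableEq n]
    (N : Matrix n n R) (I : Ideal R) (S : Finset n) (hS : ∀ i ∈ S, ∀ j, N i j ∈ I) :
    N.det ∈ I ^ S.card := by
  rw [← det_transpose, det_apply']
  refine Ideal.sum_mem _ fun σ _ => ?_
  refine Ideal.mul_mem_left _ _ ?_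
  have : ∏ i, Nᵀ (σ i) i = (∏ i ∈ S, N i (σ i)) * ∏ i ∈ Sᶜ, N i (σ i) := by
    rw [Finset.prod_mul_prod_compl]; rfl
  rw [this]
  refine Ideal.mul_mem_right _ _ ?_
  have h2 : ∏ i ∈ S, N i (σ i) ∈ ∏ i ∈ S, I := Ideal.prod_mem_prod fun i hi => hS i hi _
  rwa [Finset.prod_const] at h2

theorem foo
    {R : Type u} [CommRing R] [IsLocalRing R] [IsAlgClosed (IsLocalRing.ResidueField R)]
    {n : ℕ} (M : Matrix (Fin n) (Fin n) R) (r : ℕ)
    (hr : (M.map (IsLocalRing.residue R)).rank ≤ r) :
    M.det ∈ IsLocalRing.maximalIdeal R ^ (n - r) := by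
  classical
  set k := IsLocalRing.ResidueField R
  set res := IsLocalRing.residue R
  set Mb := M.map res with hMb
  obtain ⟨V, U, e, hV, hU, hVMU⟩ := exists_rank_normal_form Mb
  -- lift V and U
  have lift : ∀ (W : Matrix (Fin n) (Fin n) k), IsUnit W →
      ∃ W' : Matrix (Fin n) (Fin n) R, W'.map res = W ∧ IsUnit W'.det := by
    intro W hW
    have hsurj : Function.Surjective res := IsLocalRing.residue_surjective
    choose f hf using hsurj
    refine ⟨W.map f, ?_, ?_⟩
    · ext i j; simp [hf]
    · have h1 : res (W.map f).det = W.det := by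
        rw [RingHom.map_det]
        congr 1
        ext i j; simp [hf]
      have h2 : IsUnit W.det := (isUnit_iff_isUnit_det _).1 hW
      by_contra hnu
      have : (W.map f).det ∈ IsLocalRing.maximalIdeal R := (IsLocalRing.mem_maximalIdeal _).2 hnu
      rw [← IsLocalRing.residue_eq_zero_iff] at this
      rw [h1] at this
      rw [this] at h2
      exact not_isUnit_zero h2
  obtain ⟨V', hV', hV'u⟩ := lift V hV
  obtain ⟨U', hU', hU'u⟩ := lift U hU
  set N := V' * M * U' with hN
  have hNres : N.map res = (fromBlocks 1 0 0 0).submatrix e e := by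
    rw [← hVMU, hN, ← hV', ← hU', hMb]
    simp [Matrix.map_mul]
  -- rows
  let S : Finset (Fin n) := Finset.univ.filter fun i => (e i).isRight
  have hSrows : ∀ i ∈ S, ∀ j, N i j ∈ IsLocalRing.maximalIdeal R := by
    intro i hi j
    rw [← IsLocalRing.residue_eq_zero_iff]
    have : (N.map res) i j = 0 := by
      rw [hNres]
      simp only [S, Finset.mem_filter, Finset.mem_univ, true_and] at hi
      obtain ⟨b, hb⟩ := Sum.isRight_iff.mp hi
      simp only [submatrix_apply, hb]
      cases e j <;> simp
    exact this
  have hScard : S.card = n - Mb.rank := by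
    have h1 : S.card = Fintype.card {i : Fin n // (e i).isRight} := by
      rw [Fintype.card_subtype]
    rw [h1]
    have e2 : {i : Fin n // (e i).isRight} ≃ Fin (Fintype.card (Fin n) - Mb.rank) := by
      refine (e.subtypeEquiv (p := fun i => (e i).isRight) (q := fun x => x.isRight) (fun a => Iff.rfl)).trans ?_
      exact
        { toFun := fun x => match x with
            | ⟨Sum.inr b, _⟩ => b
            | ⟨Sum.inl a, h⟩ => absurd h (by simp)
          invFun := fun b => ⟨Sum.inr b, rfl⟩
          left_inv := by
            rintro ⟨x | x, h⟩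
            · simp at h
            · rfl
          right_inv := fun b => rfl }
    rw [Fintype.card_congr e2]
    simp
  have hdetN : N.det ∈ IsLocalRing.maximalIdeal R ^ S.card :=
    det_mem_pow_of_rows N _ S hSrows
  have hle : IsLocalRing.maximalIdeal R ^ S.card ≤ IsLocalRing.maximalIdeal R ^ (n - r) := by
    apply Ideal.pow_le_pow_right
    rw [hScard]; omega
  have hdet : N.det = V'.det * M.det * U'.det := by
    rw [hN, det_mul, det_mul]
  have hmem := hle hdetN
  rw [hdet] at hmem
  exact (Ideal.unit_mul_mem_iff_mem _ hV'u).mp ((Ideal.mul_unit_mem_iff_mem _ hU'u).mp hmem)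

end Groth.Agent.S18127.Aux

namespace Groth.Agent.S18127

/-- Let R be a local ring with maximal ideal m and algebraically closed residue field, and M an n × n
matrix over R whose reduction modulo m has rank at most r. Then the determinant of M lies in m^(n −
r). (The published setting is the local ring of germs of holomorphic functions at a point of a
complex manifold, where this says that the determinant vanishes to order at least n − r at a point
where the matrix has rank at most r.) -/
theorem result
    {R : Type u} [CommRing R] [IsLocalRing R] [IsAlgClosed (IsLocalRing.ResidueField R)]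
    {n : ℕ} (M : Matrix (Fin n) (Fin n) R) (r : ℕ)
    (hr : (M.map (IsLocalRing.residue R)).rank ≤ r) :
    M.det ∈ IsLocalRing.maximalIdeal R ^ (n - r) := by
  exact Aux.foo M r hr

end Groth.Agent.S18127
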