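import Groth.Statements.S18128
import Mathlib
import Groth.Agent.Lib.Helper79.Acyc
-- import your own Groth.Agent.* helpers here

set_option autoImplicit false
universe u
open CAlg

namespace Groth.Agent.S18128

/-- Local step of Buchsbaum–Eisenbud: let R be a Noetherian local ring with maximal ideal m, and 0 →
R^(n_e) → ⋯ → R^(n_1) → R^(n_0) a complex of finite free modules, the map R^(n_(i+1)) → R^(n_i)
being given by the matrix A i, with 1 ≤ e and e at most the depth of R (there is an R-regular
sequence of length e inside m). If for every prime ideal p ≠ m the complex of matrices over R_p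
obtained by localization is exact at R_p^(n_e), …, R_p^(n_1), then the complex is exact at R^(n_e),
…, R^(n_1). -/
theorem result
    {R : Type u} [CommRing R] [IsLocalRing R] [IsNoetherianRing R]
    (e : ℕ) (he : 1 ≤ e) (n : ℕ → ℕ) (A : (i : ℕ) → Matrix (Fin (n i)) (Fin (n (i + 1))) R)
    (hA : ∀ i, i + 2 ≤ e → A i * A (i + 1) = 0)
    (rs : List R) (hlen : rs.length = e) (hmem : ∀ x ∈ rs, x ∈ IsLocalRing.maximalIdeal R)
    (hreg : RingTheory.Sequence.IsRegular R rs)
    (hloc : ∀ (p : Ideal R) [p.IsPrime], p ≠ IsLocalRing.maximalIdeal R →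
      LinearMap.ker ((A (e - 1)).map (algebraMap R (Localization.AtPrime p))).mulVecLin = ⊥ ∧
        ∀ i, i + 2 ≤ e →
          LinearMap.ker ((A i).map (algebraMap R (Localization.AtPrime p))).mulVecLin =
            LinearMap.range ((A (i + 1)).map (algebraMap R (Localization.AtPrime p))).mulVecLin) :
    LinearMap.ker (A (e - 1)).mulVecLin = ⊥ ∧
      ∀ i, i + 2 ≤ e → LinearMap.ker (A i).mulVecLin = LinearMap.range (A (i + 1)).mulVecLin := by
  classical
  obtain ⟨e', rfl⟩ : ∃ e', e = e' + 1 := ⟨e - 1, by omega⟩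
  -- the truncated differentials
  let d : ∀ i, (Fin (n (i + 1)) → R) →ₗ[R] (Fin (n i) → R) := fun i =>
    if i < e' + 1 then (A i).mulVecLin else 0
  have hdpos : ∀ i, i < e' + 1 → d i = (A i).mulVecLin := fun i hi => if_pos hi
  have hdneg : ∀ i, e' + 1 ≤ i → d i = 0 := fun i hi => if_neg (by omega)
  have hd : ∀ i, d i ∘ₗ d (i + 1) = 0 := by
    intro i
    by_cases hi : i + 2 ≤ e' + 1
    · rw [hdpos i (by omega), hdpos (i + 1) (by omega), ← Matrix.mulVecLin_mul, hA i hi]
      simp
    · rw [hdneg (i + 1) (by omega), LinearMap.comp_zero]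
  have hdepth : ((e' + 1 : ℕ) : ℕ∞) ≤
      LocCoh.idealDepth (IsLocalRing.maximalIdeal R) R := by
    rw [← hlen]
    exact Groth.Agent.Lib.Helper93.Depth.length_le_idealDepth hreg.toIsWeaklyRegular hmem
  have hloc' : ∀ i, i < e' + 1 → ∀ z ∈ LinearMap.ker (d i), ∀ (p : Ideal R) [p.IsPrime],
      p ≠ IsLocalRing.maximalIdeal R → ∃ s : R, s ∉ p ∧ s • z ∈ LinearMap.range (d (i + 1)) := by
    intro i hi z hz p _ hp
    rw [hdpos i hi, LinearMap.mem_ker, Matrix.mulVecLin_apply] at hz
    obtain ⟨h1, h2⟩ := hloc p hp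
    by_cases hie : i + 2 ≤ e' + 1
    · rw [hdpos (i + 1) (by omega)]
      exact Groth.Agent.Lib.Helper79.Acyc.exists_smul_mem_range p (A i) (A (i + 1))
        (h2 i hie).le z hz
    · have hi' : i = e' := by omega
      subst hi'
      rw [Nat.add_sub_cancel] at h1
      obtain ⟨s, hs, hsz⟩ := Groth.Agent.Lib.Helper79.Acyc.exists_smul_mem_range p (A i)
        (0 : Matrix (Fin (n (i + 1))) (Fin 0) R) (by rw [h1]; exact bot_le) z hz
      refine ⟨s, hs, ?_⟩
      obtain ⟨w, hw⟩ := hsz
      rw [← hw]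
      simp
  have key := Groth.Agent.Lib.Helper79.Acyc.acyclic (e' + 1) n d hd hdneg hdepth hloc'
  refine ⟨?_, ?_⟩
  · rw [Nat.add_sub_cancel]
    have := key e' (by omega)
    rw [hdpos e' (by omega), hdneg (e' + 1) le_rfl, LinearMap.range_zero] at this
    exact this
  · intro i hi
    have := key i (by omega)
    rw [hdpos i (by omega), hdpos (i + 1) (by omega)] at this
    exact this

end Groth.Agent.S18128
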