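import Groth.Statements.S18136
import Mathlib

set_option autoImplicit false
universe u v
open IsLocalRing
open CAlg

namespace Groth.Agent.S18136.Aux

set_option autoImplicit false

open IsLocalRing

section Crit
variable {R : Type u} [CommRing R] [IsLocalRing R] {ι : Type*} [Fintype ι]

/-- criterion for linear independence in the cotangent space -/
theorem linInd_cot_iff (v : ι → maximalIdeal R) :
    LinearIndependent (ResidueField R) (⇑(maximalIdeal R).toCotangent ∘ v) ↔
      ∀ a : ι → R, (∑ i, a i * (v i : R)) ∈ (maximalIdeal R) ^ 2 → ∀ i, a i ∈ maximalIdeal R := by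
  have key : ∀ a : ι → R, (∑ i, residue R (a i) • ((maximalIdeal R).toCotangent (v i)) = 0) ↔
      (∑ i, a i * (v i : R)) ∈ (maximalIdeal R) ^ 2 := by
    intro a
    have h1 : ∑ i, residue R (a i) • ((maximalIdeal R).toCotangent (v i)) =
        (maximalIdeal R).toCotangent (∑ i, a i • v i) := by
      rw [map_sum]
      apply Finset.sum_congr rfl
      intro i _
      rw [map_smul]
      rfl
    rw [h1, Ideal.toCotangent_eq_zero]
    simp
  rw [Fintype.linearIndependent_iff]
  constructor
  · intro h a ha i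
    have := h (fun i => residue R (a i)) ((key a).mpr ha) i
    exact (residue_eq_zero_iff _).mp this
  · intro h g hg i
    choose a ha using fun i => residue_surjective (g i)
    have hg' : ∑ i, residue R (a i) • ((maximalIdeal R).toCotangent (v i)) = 0 := by
      simp only [ha]; exact hg
    have := h a ((key a).mp hg') i
    rw [← ha i]
    exact (residue_eq_zero_iff _).mpr this

end Crit

section Main

variable {A : Type u} [CommRing A] [IsLocalRing A]
    {ι : Type v} [Preorder ι] [Nonempty ι] [IsDirected ι (· ≤ ·)]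
    (B : ι → Type u) [∀ j, CommRing (B j)] [∀ j, IsLocalRing (B j)]
    (φ : ∀ i j, i ≤ j → (B i →+* B j)) (hφloc : ∀ i j (h : i ≤ j), IsLocalHom (φ i j h))
    (hφ : ∀ i j l (hij : i ≤ j) (hjl : j ≤ l), (φ j l hjl).comp (φ i j hij) = φ i l (hij.trans hjl))
    (ψ : ∀ j, B j →+* A) (hψ : ∀ i j (h : i ≤ j), (ψ j).comp (φ i j h) = ψ i)
    (hsurj : ∀ a : A, ∃ j, ∃ x : B j, ψ j x = a)
    (hker : ∀ j (x : B j), ψ j x = 0 → ∃ l, ∃ h : j ≤ l, φ j l h x = 0)

include hφloc hφ hψ hsurj hker in
/-- the maps to the colimit are local -/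
theorem psi_isUnit (j : ι) (x : B j) (hx : IsUnit (ψ j x)) : IsUnit x := by
  obtain ⟨y, hy⟩ := hx.exists_right_inv
  obtain ⟨l, y', rfl⟩ := hsurj y
  obtain ⟨l', hjl', hll'⟩ := exists_ge_ge j l
  have h1 : ψ l' (φ j l' hjl' x * φ l l' hll' y' - 1) = 0 := by
    rw [map_sub, map_mul, map_one]
    have e1 : ψ l' (φ j l' hjl' x) = ψ j x := by
      rw [← RingHom.comp_apply, hψ]
    have e2 : ψ l' (φ l l' hll' y') = ψ l y' := by
      rw [← RingHom.comp_apply, hψ]
    rw [e1, e2, hy, sub_self]
  obtain ⟨l'', hl'', h2⟩ := hker l' _ h1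
  rw [map_sub, map_mul, map_one, ← RingHom.comp_apply, hφ, ← RingHom.comp_apply, hφ,
    sub_eq_zero] at h2
  have h3 : IsUnit (φ j l'' (hjl'.trans hl'') x) := IsUnit.of_mul_eq_one _ h2
  exact (hφloc j l'' _).map_nonunit x h3

include hsurj hψ in
/-- a finite family lifts to a common stage -/
theorem exists_lift_family {n : ℕ} (a : Fin n → A) :
    ∃ j, ∃ x : Fin n → B j, ∀ s, ψ j (x s) = a s := by
  induction n with
  | zero => exact ⟨Classical.arbitrary ι, fun s => s.elim0, fun s => s.elim0⟩
  | succ n ih =>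
    obtain ⟨j, x, hx⟩ := ih (fun s => a s.succ)
    obtain ⟨l, y, hy⟩ := hsurj (a 0)
    obtain ⟨l', hjl', hll'⟩ := exists_ge_ge j l
    refine ⟨l', Fin.cons (φ l l' hll' y) (fun s => φ j l' hjl' (x s)), ?_⟩
    intro s
    refine Fin.cases ?_ (fun s => ?_) s
    · rw [Fin.cons_zero, ← RingHom.comp_apply, hψ, hy]
    · rw [Fin.cons_succ, ← RingHom.comp_apply, hψ, hx]

end Main

section Main2

variable {A : Type u} [CommRing A] [IsLocalRing A]
    {ι : Type v} [Preorder ι] [Nonempty ι] [IsDirected ι (· ≤ ·)]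
    (B : ι → Type u) [∀ j, CommRing (B j)] [∀ j, IsLocalRing (B j)]
    (φ : ∀ i j, i ≤ j → (B i →+* B j)) (hφloc : ∀ i j (h : i ≤ j), IsLocalHom (φ i j h))
    (hφ : ∀ i j l (hij : i ≤ j) (hjl : j ≤ l), (φ j l hjl).comp (φ i j hij) = φ i l (hij.trans hjl))
    (ψ : ∀ j, B j →+* A) (hψ : ∀ i j (h : i ≤ j), (ψ j).comp (φ i j h) = ψ i)
    (hsurj : ∀ a : A, ∃ j, ∃ x : B j, ψ j x = a)
    (hker : ∀ j (x : B j), ψ j x = 0 → ∃ l, ∃ h : j ≤ l, φ j l h x = 0)

include hφloc hφ hψ hsurj hker in
theorem main (c d : ℕ) (f : Fin c → maximalIdeal A) (g : Fin d → maximalIdeal A)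
    (hind : LinearIndependent (ResidueField A) (⇑(maximalIdeal A).toCotangent ∘ Sum.elim f g)) :
    ∃ j₀ : ι, ∃ (P : ∀ j, j₀ ≤ j → Ideal (B j)) (Q : ∀ j, j₀ ≤ j → Ideal (B j)),
      (∀ j (hj : j₀ ≤ j), ∃ (F : Fin c → maximalIdeal (B j)) (E : Fin d → maximalIdeal (B j)),
        LinearIndependent (ResidueField (B j)) (⇑(maximalIdeal (B j)).toCotangent ∘ Sum.elim F E) ∧
        P j hj = Ideal.span (Set.range (fun s => (F s : B j))) ∧
        Q j hj = P j hj ⊔ Ideal.span (Set.range (fun t => (E t : B j)))) ∧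
      (∀ i j (hi : j₀ ≤ i) (hij : i ≤ j),
        (P i hi).map (φ i j hij) = P j (le_trans hi hij) ∧ (Q i hi).map (φ i j hij) = Q j (le_trans hi hij)) ∧
      (∀ j (hj : j₀ ≤ j),
        (P j hj).map (ψ j) = Ideal.span (Set.range (fun s => (f s : A))) ∧
        (Q j hj).map (ψ j) = Ideal.span (Set.range (fun s => (f s : A))) ⊔ Ideal.span (Set.range (fun t => (g t : A)))) := by
  have hψunit := psi_isUnit B φ hφloc hφ ψ hψ hsurj hker
  -- nonunits map to nonunits under ψ and φ
  have hψm : ∀ j (x : B j), x ∈ maximalIdeal (B j) → ψ j x ∈ maximalIdeal A := by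
    intro j x hx
    rw [mem_maximalIdeal, mem_nonunits_iff] at hx ⊢
    intro hu
    -- ψ j x unit → x unit
    exact hx (hψunit j x hu)
  have hψm' : ∀ j (x : B j), ψ j x ∈ maximalIdeal A → x ∈ maximalIdeal (B j) := by
    intro j x hx
    rw [mem_maximalIdeal, mem_nonunits_iff] at hx ⊢
    intro hu
    exact hx (hu.map (ψ j))
  have hφm : ∀ i j (h : i ≤ j) (x : B i), x ∈ maximalIdeal (B i) → φ i j h x ∈ maximalIdeal (B j) := by
    intro i j h x hx
    rw [mem_maximalIdeal, mem_nonunits_iff] at hx ⊢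
    intro hu
    exact hx ((hφloc i j h).map_nonunit x hu)
  -- lift f and g to a common stage
  obtain ⟨j₀, x, hx⟩ := exists_lift_family B φ ψ hψ hsurj
    (fun s : Fin (c + d) => ((Sum.elim f g (finSumFinEquiv.symm s) : maximalIdeal A) : A))
  let F0 : Fin c → B j₀ := fun s => x (finSumFinEquiv (Sum.inl s))
  let E0 : Fin d → B j₀ := fun t => x (finSumFinEquiv (Sum.inr t))
  have hF0 : ∀ s, ψ j₀ (F0 s) = f s := fun s => by
    simp only [F0, hx, Equiv.symm_apply_apply, Sum.elim_inl]
  have hE0 : ∀ t, ψ j₀ (E0 t) = g t := fun t => by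
    simp only [E0, hx, Equiv.symm_apply_apply, Sum.elim_inr]
  have hF0m : ∀ s, F0 s ∈ maximalIdeal (B j₀) := fun s => hψm' _ _ (by rw [hF0]; exact (f s).2)
  have hE0m : ∀ t, E0 t ∈ maximalIdeal (B j₀) := fun t => hψm' _ _ (by rw [hE0]; exact (g t).2)
  refine ⟨j₀, fun j hj => Ideal.span (Set.range (fun s => φ j₀ j hj (F0 s))),
    fun j hj => Ideal.span (Set.range (fun s => φ j₀ j hj (F0 s))) ⊔
      Ideal.span (Set.range (fun t => φ j₀ j hj (E0 t))), ?_, ?_, ?_⟩
  · intro j hj
    let F : Fin c → maximalIdeal (B j) := fun s => ⟨φ j₀ j hj (F0 s), hφm _ _ _ _ (hF0m s)⟩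
    let E : Fin d → maximalIdeal (B j) := fun t => ⟨φ j₀ j hj (E0 t), hφm _ _ _ _ (hE0m t)⟩
    refine ⟨F, E, ?_, rfl, rfl⟩
    rw [linInd_cot_iff]
    intro a ha i
    apply hψm'
    have hA := (linInd_cot_iff (Sum.elim f g)).mp hind (fun i => ψ j (a i))
    apply hA
    -- the image of the relation
    have h1 : ψ j (∑ i, a i * ((Sum.elim F E i : maximalIdeal (B j)) : B j)) ∈
        (maximalIdeal A) ^ 2 := by
      have hle : (maximalIdeal (B j)).map (ψ j) ≤ maximalIdeal A := by
        rw [Ideal.map_le_iff_le_comap]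
        intro y hy
        exact hψm j y hy
      have : ((maximalIdeal (B j)) ^ 2).map (ψ j) ≤ (maximalIdeal A) ^ 2 := by
        rw [Ideal.map_pow]; exact Ideal.pow_right_mono hle 2
      exact this (Ideal.mem_map_of_mem _ ha)
    rw [map_sum] at h1
    convert h1 using 2 with i
    rw [map_mul]
    congr 1
    rcases i with s | t
    · simp only [Sum.elim_inl, F]
      rw [← RingHom.comp_apply, hψ, hF0]
    · simp only [Sum.elim_inr, E]
      rw [← RingHom.comp_apply, hψ, hE0]
  · intro i j hi hij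
    have e1 : (Ideal.span (Set.range (fun s => φ j₀ i hi (F0 s)))).map (φ i j hij) =
        Ideal.span (Set.range (fun s => φ j₀ j (le_trans hi hij) (F0 s))) := by
      rw [Ideal.map_span, ← Set.range_comp]
      congr 2
      funext s
      simp only [Function.comp_apply, ← RingHom.comp_apply, hφ]
    have e2 : (Ideal.span (Set.range (fun t => φ j₀ i hi (E0 t)))).map (φ i j hij) =
        Ideal.span (Set.range (fun t => φ j₀ j (le_trans hi hij) (E0 t))) := by
      rw [Ideal.map_span, ← Set.range_comp]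
      congr 2
      funext s
      simp only [Function.comp_apply, ← RingHom.comp_apply, hφ]
    exact ⟨e1, by rw [Ideal.map_sup, e1, e2]⟩
  · intro j hj
    have e1 : (Ideal.span (Set.range (fun s => φ j₀ j hj (F0 s)))).map (ψ j) =
        Ideal.span (Set.range (fun s => (f s : A))) := by
      rw [Ideal.map_span, ← Set.range_comp]
      congr 2
      funext s
      simp only [Function.comp_apply, ← RingHom.comp_apply, hψ, hF0]
    have e2 : (Ideal.span (Set.range (fun t => φ j₀ j hj (E0 t)))).map (ψ j) =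
        Ideal.span (Set.range (fun t => (g t : A))) := by
      rw [Ideal.map_span, ← Set.range_comp]
      congr 2
      funext s
      simp only [Function.comp_apply, ← RingHom.comp_apply, hψ, hE0]
    exact ⟨e1, by rw [Ideal.map_sup, e1, e2]⟩

end Main2

end Groth.Agent.S18136.Aux

namespace Groth.Agent.S18136

/-- Let A be a regular local ring with maximal ideal m and residue field k, written as a directed
colimit of regular local rings A_j with local transition maps (compatible maps ψ_j : A_j → A that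
are jointly surjective, an element dying in A dying at some later stage). Let f_1, …, f_c, g_1, …,
g_d ∈ m have linearly independent classes in m/m^2 over k, and put I = (f_1, …, f_c) ⊆ I' = (f_1, …,
f_c, g_1, …, g_d) (so I is generated by part of a regular system of parameters of A and I'/I by part
of a regular system of parameters of A/I; for a regular local ring the condition on I ⊆ I' is stated
through such a joint family). Then there are an index j_0 and ideals I_j ⊆ I'_j ⊆ A_j for j ≥ j_0
such that: each I_j is generated by c elements and I'_j by these together with d further elements of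
the maximal ideal m_j, the c + d classes in m_j/m_j^2 being linearly independent over the residue
field of A_j; the transition maps carry I_i, I'_i onto generators of I_j, I'_j for j_0 ≤ i ≤ j; and
I_j, I'_j generate I, I' in A. -/
theorem result
    {A : Type u} [CommRing A] [IsRegularLocalRing A]
    {ι : Type v} [Preorder ι] [Nonempty ι] [IsDirected ι (· ≤ ·)]
    (B : ι → Type u) [∀ j, CommRing (B j)] [∀ j, IsRegularLocalRing (B j)]
    (φ : ∀ i j, i ≤ j → (B i →+* B j)) (hφloc : ∀ i j (h : i ≤ j), IsLocalHom (φ i j h))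
    (hφ : ∀ i j l (hij : i ≤ j) (hjl : j ≤ l), (φ j l hjl).comp (φ i j hij) = φ i l (hij.trans hjl))
    (ψ : ∀ j, B j →+* A) (hψ : ∀ i j (h : i ≤ j), (ψ j).comp (φ i j h) = ψ i)
    (hsurj : ∀ a : A, ∃ j, ∃ x : B j, ψ j x = a)
    (hker : ∀ j (x : B j), ψ j x = 0 → ∃ l, ∃ h : j ≤ l, φ j l h x = 0)
    (c d : ℕ) (f : Fin c → maximalIdeal A) (g : Fin d → maximalIdeal A)
    (hind : LinearIndependent (ResidueField A) (⇑(maximalIdeal A).toCotangent ∘ Sum.elim f g)) :
    ∃ j₀ : ι, ∃ (P : ∀ j, j₀ ≤ j → Ideal (B j)) (Q : ∀ j, j₀ ≤ j → Ideal (B j)),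
      (∀ j (hj : j₀ ≤ j), ∃ (F : Fin c → maximalIdeal (B j)) (E : Fin d → maximalIdeal (B j)),
        LinearIndependent (ResidueField (B j)) (⇑(maximalIdeal (B j)).toCotangent ∘ Sum.elim F E) ∧
        P j hj = Ideal.span (Set.range (fun s => (F s : B j))) ∧
        Q j hj = P j hj ⊔ Ideal.span (Set.range (fun t => (E t : B j)))) ∧
      (∀ i j (hi : j₀ ≤ i) (hij : i ≤ j),
        (P i hi).map (φ i j hij) = P j (le_trans hi hij) ∧ (Q i hi).map (φ i j hij) = Q j (le_trans hi hij)) ∧
      (∀ j (hj : j₀ ≤ j),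
        (P j hj).map (ψ j) = Ideal.span (Set.range (fun s => (f s : A))) ∧
        (Q j hj).map (ψ j) = Ideal.span (Set.range (fun s => (f s : A))) ⊔ Ideal.span (Set.range (fun t => (g t : A)))) := by
  exact Aux.main B φ hφloc hφ ψ hψ hsurj hker c d f g hind

end Groth.Agent.S18136
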