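import Groth.Statements.S18151
import Mathlib
import Groth.Agent.Lib.Helper11.TensorBasis
import Groth.Agent.Lib.Helper45.InvRef1
import Groth.Agent.S0002

set_option autoImplicit false
universe u
open CategoryTheory AlgebraicGeometry Opposite TopologicalSpace
open FrobSch

namespace Groth.Agent.S18151

section Aux18151
open Groth.Agent.Lib.Helper45 Groth.Agent.Lib.Helper49 Groth.Agent.Lib.Helper11.GenLocus

variable {X : Scheme.{u}}

/-- an endomorphism of the abelian sheaf underlying `O_X`, on sections. -/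
noncomputable def secO (σ : Coh.toAb (Coh.structureModule X) ⟶ Coh.toAb (Coh.structureModule X))
    (U : X.Opens) : Γ(X, U) →+ Γ(X, U) where
  toFun t := σ.hom.app (op U) t
  map_zero' := AddMonoidHom.map_zero _
  map_add' a b := AddMonoidHom.map_add _ a b

theorem secO_res (σ : Coh.toAb (Coh.structureModule X) ⟶ Coh.toAb (Coh.structureModule X))
    {U V : X.Opens} (h : V ≤ U) (t : Γ(X, U)) :
    fres h (secO σ U t) = secO σ V (fres h t) := by
  have := σ.hom.naturality (homOfLE h).op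
  exact (congr($this t)).symm

variable (L : X.Modules)

/-- the opens over which `L` has a basis. -/
def TrivOpens : Type u := {U : X.Opens // ∃ e : Γ(L, U), IsBasisOn L U e}

variable {L}

/-- a chosen basis. -/
noncomputable def TrivOpens.e (U : TrivOpens L) : Γ(L, U.1) := U.2.choose

theorem TrivOpens.he (U : TrivOpens L) : IsBasisOn L U.1 U.e := U.2.choose_spec

theorem isBasis_triv (hL : PicF.IsInvertible L) :
    Opens.IsBasis (Set.range (Subtype.val : TrivOpens L → X.Opens)) := by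
  rw [Opens.isBasis_iff_nbhd]
  intro U x hx
  obtain ⟨V, hxV, t, ht⟩ := exists_isBasisOn_of_isInvertible hL x
  exact ⟨U ⊓ V, ⟨⟨U ⊓ V, mres L inf_le_right t, ht.mono inf_le_right⟩, rfl⟩, ⟨hx, hxV⟩, inf_le_left⟩

/-- the coordinate of a section with respect to a basis. -/
noncomputable def coord {M : X.Modules} {U : X.Opens} {e : Γ(M, U)} (he : IsBasisOn M U e)
    (ℓ : Γ(M, U)) : Γ(X, U) := (he.exists_eq_smul ℓ).choose

theorem coord_smul {M : X.Modules} {U : X.Opens} {e : Γ(M, U)} (he : IsBasisOn M U e)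
    (ℓ : Γ(M, U)) : coord he ℓ • e = ℓ := (he.exists_eq_smul ℓ).choose_spec

theorem coord_eq {M : X.Modules} {U : X.Opens} {e : Γ(M, U)} (he : IsBasisOn M U e)
    (r : Γ(X, U)) : coord he (r • e) = r :=
  he.eq_of_smul_eq (coord_smul he (r • e))

theorem coord_add {M : X.Modules} {U : X.Opens} {e : Γ(M, U)} (he : IsBasisOn M U e)
    (ℓ ℓ' : Γ(M, U)) : coord he (ℓ + ℓ') = coord he ℓ + coord he ℓ' := by
  apply he.eq_of_smul_eq
  rw [coord_smul, add_smul, coord_smul, coord_smul]

theorem coord_zero {M : X.Modules} {U : X.Opens} {e : Γ(M, U)} (he : IsBasisOn M U e) :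
    coord he (0 : Γ(M, U)) = 0 := by
  apply he.eq_of_smul_eq
  rw [coord_smul, zero_smul]

end Aux18151

section Maps
open Groth.Agent.Lib.Helper45 Groth.Agent.Lib.Helper49 Groth.Agent.Lib.Helper11.GenLocus

variable {X : Scheme.{u}} {L : X.Modules} (p : ℕ)
  (φ s : Coh.toAb (Coh.structureModule X) ⟶ Coh.toAb (Coh.structureModule X))

/-- the `p`-th power map `L → L^{⊗p}` over a trivialising open. -/
noncomputable def PhiU (U : TrivOpens L) : Γ(L, U.1) →+ Γ(CohB1.tensorPow L p, U.1) where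
  toFun ℓ := secO φ U.1 (coord U.he ℓ) • powSec L U.1 U.e p
  map_zero' := by rw [coord_zero, map_zero, zero_smul]
  map_add' a b := by rw [coord_add, map_add, add_smul]

theorem PhiU_smul (hφ : ∀ (U : X.Opens) (t : Γ(X, U)), secO φ U t = t ^ p) (U : TrivOpens L)
    (e : Γ(L, U.1)) (c : Γ(X, U.1)) :
    PhiU p φ U (c • e) = secO φ U.1 c • powSec L U.1 e p := by
  obtain ⟨u, hu⟩ := U.he.exists_eq_smul e
  change secO φ U.1 (coord U.he (c • e)) • powSec L U.1 U.e p = _
  rw [← hu, ← mul_smul, coord_eq, powSec_smul, hφ, hφ, mul_pow, mul_smul]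

theorem PhiU_res (hφ : ∀ (U : X.Opens) (t : Γ(X, U)), secO φ U t = t ^ p) (U V : TrivOpens L)
    (h : V.1 ≤ U.1) (ℓ : Γ(L, U.1)) :
    mres (CohB1.tensorPow L p) h (PhiU p φ U ℓ) = PhiU p φ V (mres L h ℓ) := by
  conv_rhs => rw [← coord_smul U.he ℓ, mres_smul, PhiU_smul p φ hφ V]
  change mres _ h (secO φ U.1 (coord U.he ℓ) • powSec L U.1 U.e p) = _
  rw [mres_smul, secO_res, powSec_res]

theorem PhiU_semilin (hφ : ∀ (U : X.Opens) (t : Γ(X, U)), secO φ U t = t ^ p) (U : TrivOpens L)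
    (c : Γ(X, U.1)) (ℓ : Γ(L, U.1)) : PhiU p φ U (c • ℓ) = c ^ p • PhiU p φ U ℓ := by
  conv_lhs => rw [← coord_smul U.he ℓ, ← mul_smul, PhiU_smul p φ hφ U, hφ, mul_pow, mul_smul,
    ← hφ U.1 (coord U.he ℓ)]
  rfl

/-- the retraction `L^{⊗p} → L` over a trivialising open. -/
noncomputable def SU (U : TrivOpens L) : Γ(CohB1.tensorPow L p, U.1) →+ Γ(L, U.1) where
  toFun m := secO s U.1 (coord (isBasisOn_powSec U.he p) m) • U.e
  map_zero' := by rw [coord_zero, map_zero, zero_smul]
  map_add' a b := by rw [coord_add, map_add, add_smul]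

theorem SU_smul (hlin : ∀ (U : X.Opens) (a b : Γ(X, U)), secO s U (a ^ p * b) = a * secO s U b)
    (U : TrivOpens L) (e : Γ(L, U.1)) (c : Γ(X, U.1)) :
    SU p s U (c • powSec L U.1 e p) = secO s U.1 c • e := by
  obtain ⟨u, hu⟩ := U.he.exists_eq_smul e
  change secO s U.1 (coord (isBasisOn_powSec U.he p) (c • powSec L U.1 e p)) • U.e = _
  rw [← hu, powSec_smul, ← mul_smul, coord_eq, mul_comm c, hlin, mul_comm u, mul_smul]

theorem SU_res (hlin : ∀ (U : X.Opens) (a b : Γ(X, U)), secO s U (a ^ p * b) = a * secO s U b)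
    (U V : TrivOpens L) (h : V.1 ≤ U.1) (m : Γ(CohB1.tensorPow L p, U.1)) :
    mres L h (SU p s U m) = SU p s V (mres (CohB1.tensorPow L p) h m) := by
  conv_rhs => rw [← coord_smul (isBasisOn_powSec U.he p) m, mres_smul, powSec_res,
    SU_smul p s hlin V]
  change mres _ h (secO s U.1 (coord (isBasisOn_powSec U.he p) m) • U.e) = _
  rw [mres_smul, secO_res]

theorem SU_PhiU
    (hlin : ∀ (U : X.Opens) (a b : Γ(X, U)), secO s U (a ^ p * b) = a * secO s U b)
    (hs : ∀ (U : X.Opens) (t : Γ(X, U)), secO s U (secO φ U t) = t)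
    (U : TrivOpens L) (ℓ : Γ(L, U.1)) : SU p s U (PhiU p φ U ℓ) = ℓ := by
  change SU p s U (secO φ U.1 (coord U.he ℓ) • powSec L U.1 U.e p) = ℓ
  rw [SU_smul p s hlin U, hs, coord_smul]

end Maps

section Sheaves
open Groth.Agent.Lib.Helper45 Groth.Agent.Lib.Helper49 Groth.Agent.Lib.Helper11.GenLocus

variable {X : Scheme.{u}} {L : X.Modules} (p : ℕ)
  (φ s : Coh.toAb (Coh.structureModule X) ⟶ Coh.toAb (Coh.structureModule X))

/-- the abelian sheaf underlying a module, as a sheaf on the space. -/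
noncomputable abbrev AbSh (M : X.Modules) : TopCat.Sheaf Ab X := Coh.toAb M

noncomputable def basisPhi (hφ : ∀ (U : X.Opens) (t : Γ(X, U)), secO φ U t = t ^ p) :
    (inducedFunctor (Subtype.val : TrivOpens L → X.Opens)).op ⋙ (AbSh L).1 ⟶
      (inducedFunctor (Subtype.val : TrivOpens L → X.Opens)).op ⋙
        (AbSh (CohB1.tensorPow L p)).1 where
  app i := AddCommGrpCat.ofHom (PhiU p φ i.unop)
  naturality i j g := by
    ext ℓ
    exact (PhiU_res p φ hφ i.unop j.unop (leOfHom g.unop.hom) ℓ).symm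

noncomputable def basisS
    (hlin : ∀ (U : X.Opens) (a b : Γ(X, U)), secO s U (a ^ p * b) = a * secO s U b) :
    (inducedFunctor (Subtype.val : TrivOpens L → X.Opens)).op ⋙
        (AbSh (CohB1.tensorPow L p)).1 ⟶
      (inducedFunctor (Subtype.val : TrivOpens L → X.Opens)).op ⋙ (AbSh L).1 where
  app i := AddCommGrpCat.ofHom (SU p s i.unop)
  naturality i j g := by
    ext m
    exact (SU_res p s hlin i.unop j.unop (leOfHom g.unop.hom) m).symm

/-- the `p`-th power map `L → L^{⊗p}` of abelian sheaves. -/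
noncomputable def PhiSh (hL : PicF.IsInvertible L)
    (hφ : ∀ (U : X.Opens) (t : Γ(X, U)), secO φ U t = t ^ p) :
    Coh.toAb L ⟶ Coh.toAb (CohB1.tensorPow L p) :=
  ⟨TopCat.Sheaf.restrictHomEquivHom (AbSh L).1 (AbSh (CohB1.tensorPow L p)) (isBasis_triv hL)
    (basisPhi p φ hφ)⟩

/-- the retraction `L^{⊗p} → L` of abelian sheaves. -/
noncomputable def SSh (hL : PicF.IsInvertible L)
    (hlin : ∀ (U : X.Opens) (a b : Γ(X, U)), secO s U (a ^ p * b) = a * secO s U b) :
    Coh.toAb (CohB1.tensorPow L p) ⟶ Coh.toAb L :=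
  ⟨TopCat.Sheaf.restrictHomEquivHom (AbSh (CohB1.tensorPow L p)).1 (AbSh L) (isBasis_triv hL)
    (basisS p s hlin)⟩

theorem PhiSh_app (hL : PicF.IsInvertible L)
    (hφ : ∀ (U : X.Opens) (t : Γ(X, U)), secO φ U t = t ^ p) (U : TrivOpens L) (ℓ : Γ(L, U.1)) :
    (PhiSh p φ hL hφ).hom.app (op U.1) ℓ = PhiU p φ U ℓ := by
  have := TopCat.Sheaf.extend_hom_app (AbSh L).1 (AbSh (CohB1.tensorPow L p)) (isBasis_triv hL)
    (basisPhi p φ hφ) U
  exact congr($this ℓ)

theorem SSh_app (hL : PicF.IsInvertible L)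
    (hlin : ∀ (U : X.Opens) (a b : Γ(X, U)), secO s U (a ^ p * b) = a * secO s U b)
    (U : TrivOpens L) (m : Γ(CohB1.tensorPow L p, U.1)) :
    (SSh p s hL hlin).hom.app (op U.1) m = SU p s U m := by
  have := TopCat.Sheaf.extend_hom_app (AbSh (CohB1.tensorPow L p)).1 (AbSh L) (isBasis_triv hL)
    (basisS p s hlin) U
  exact congr($this m)

theorem PhiSh_SSh (hL : PicF.IsInvertible L)
    (hφ : ∀ (U : X.Opens) (t : Γ(X, U)), secO φ U t = t ^ p)
    (hlin : ∀ (U : X.Opens) (a b : Γ(X, U)), secO s U (a ^ p * b) = a * secO s U b)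
    (hs : ∀ (U : X.Opens) (t : Γ(X, U)), secO s U (secO φ U t) = t) :
    PhiSh p φ hL hφ ≫ SSh p s hL hlin = 𝟙 _ := by
  apply Sheaf.hom_ext
  apply TopCat.Sheaf.hom_ext (F := (AbSh L).1) (F' := AbSh L) (isBasis_triv hL)
  intro U
  ext ℓ
  obtain ⟨ℓ', rfl⟩ : ∃ ℓ' : Γ(L, U.1), ℓ' = ℓ := ⟨ℓ, rfl⟩
  refine (congrArg (fun m => (SSh p s hL hlin).hom.app (op U.1) m)
    (PhiSh_app p φ hL hφ U ℓ')).trans ?_
  refine (SSh_app p s hL hlin U (PhiU p φ U ℓ')).trans ?_
  exact SU_PhiU p φ s hlin hs U ℓ'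

/-- `Φ` is Frobenius-semilinear for multiplication by global functions. -/
theorem smulAb_comp_PhiSh (hL : PicF.IsInvertible L)
    (hφ : ∀ (U : X.Opens) (t : Γ(X, U)), secO φ U t = t ^ p) (r : Coh.Γtop X) :
    Coh.smulAb L r ≫ PhiSh p φ hL hφ =
      PhiSh p φ hL hφ ≫ Coh.smulAb (CohB1.tensorPow L p) (r ^ p) := by
  apply Sheaf.hom_ext
  apply TopCat.Sheaf.hom_ext (F := (AbSh L).1) (F' := AbSh (CohB1.tensorPow L p)) (isBasis_triv hL)
  intro U
  ext ℓ
  obtain ⟨ℓ', rfl⟩ : ∃ ℓ' : Γ(L, U.1), ℓ' = ℓ := ⟨ℓ, rfl⟩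
  let c : Γ(X, U.1) := Coh.resTop X (op U.1) r
  let c' : Γ(X, U.1) := Coh.resTop X (op U.1) (r ^ p)
  have hc : c' = c ^ p := map_pow (Coh.resTop X (op U.1)) r p
  have e1 : (PhiSh p φ hL hφ).hom.app (op U.1) (c • ℓ') = PhiU p φ U (c • ℓ') :=
    PhiSh_app p φ hL hφ U (c • ℓ')
  have e2 : (PhiSh p φ hL hφ).hom.app (op U.1) ℓ' = PhiU p φ U ℓ' := PhiSh_app p φ hL hφ U ℓ'
  have e3 := PhiU_semilin p φ hφ U c ℓ'
  have e4 : ∀ (a a' : Γ(X, U.1)) (m m' : Γ(CohB1.tensorPow L p, U.1)), a = a' → m = m' →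
      a • m = a' • m' := by
    intro a a' m m' h1 h2
    rw [h1, h2]
  refine e1.trans (e3.trans ?_)
  exact e4 _ c' _ _ hc.symm e2.symm

end Sheaves

section LinAlg

/-- an injective Frobenius-semilinear additive map between finite-dimensional vector spaces over
a perfect field does not decrease the dimension. -/
theorem finrank_le_of_injective_frobenius_semilinear (p : ℕ) [Fact p.Prime] (k : Type u) [Field k]
    [CharP k p] [PerfectRing k p]
    (V W : Type u) [AddCommGroup V] [Module k V] [Module.Finite k V]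
    [AddCommGroup W] [Module k W] [Module.Finite k W] (F : V →+ W)
    (hF : ∀ (a : k) (v : V), F (a • v) = a ^ p • F v) (hinj : Function.Injective F) :
    Module.finrank k V ≤ Module.finrank k W := by
  classical
  let b := Module.finBasis k V
  have hpow : ∀ c : k, ((frobeniusEquiv k p).symm c) ^ p = c := fun c =>
    frobeniusEquiv_symm_pow_p k p c
  have hli : LinearIndependent k (fun i => F (b i)) := by
    rw [Fintype.linearIndependent_iff]
    intro c hc i
    have h1 : F (∑ j, (frobeniusEquiv k p).symm (c j) • b j) = 0 := by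
      rw [map_sum]
      simp_rw [hF, hpow]
      exact hc
    have h0 : ∑ j, (frobeniusEquiv k p).symm (c j) • b j = 0 := hinj (by rw [h1, map_zero])
    have hdi := (Fintype.linearIndependent_iff.mp b.linearIndependent)
      (fun j => (frobeniusEquiv k p).symm (c j)) h0 i
    rw [← hpow (c i), hdi, zero_pow (Fact.out : p.Prime).ne_zero]
  have := hli.fintype_card_le_finrank
  simpa using this

end LinAlg

/-- Let p be a prime, k a perfect field of characteristic p, and X a proper k-scheme. Let φ be the p-th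
power map on the sheaf of additive groups underlying O_X and suppose X is Frobenius split: φ admits
a retraction s, an additive endomorphism of O_X with s ∘ φ the identity and s(a^p·b) = a·s(b) on
every open. Then for every invertible module L and every i the dimension of H^i(X, L) over k is at
most that of H^i(X, L^{⊗p}). (The source shows, for any k-scheme X, that the Frobenius pull-back
H^i(X, L) → H^i(X, L^{⊗p}) is injective, with a left inverse coming from the splitting; that map is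
not named here, so the statement records its consequence on dimensions, for X proper so that both
are finite.) -/
theorem result (p : ℕ) [Fact p.Prime]
    (k : Type u) [Field k] [CharP k p] [PerfectRing k p]
    (X : Scheme.{u}) [X.Over (Spec (CommRingCat.of k))] [IsProper (X ↘ Spec (CommRingCat.of k))]
    (φ : Coh.toAb (Coh.structureModule X) ⟶ Coh.toAb (Coh.structureModule X))
    (hφ : ∀ (U : X.Opens) (t : Γ(X, U)), φ.hom.app (op U) t = t ^ p)
    (s : Coh.toAb (Coh.structureModule X) ⟶ Coh.toAb (Coh.structureModule X))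
    (hs : φ ≫ s = 𝟙 _)
    (hlin : ∀ (U : X.Opens) (a b : Γ(X, U)),
      s.hom.app (op U) (a ^ p * b) = a * @id Γ(X, U) (s.hom.app (op U) b))
    (L : X.Modules) (hL : PicF.IsInvertible L) (i : ℕ) :
    Module.finrank k (Coh.HH X L i) ≤ Module.finrank k (Coh.HH X (CohB1.tensorPow L p) i) := by
  classical
  have hφ' : ∀ (U : X.Opens) (t : Γ(X, U)), secO φ U t = t ^ p := fun U t => hφ U t
  have hlin' : ∀ (U : X.Opens) (a b : Γ(X, U)), secO s U (a ^ p * b) = a * secO s U b :=
    fun U a b => hlin U a b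
  have hs' : ∀ (U : X.Opens) (t : Γ(X, U)), secO s U (secO φ U t) = t := by
    intro U t
    have h1 := congrArg (fun f => f.hom.app (op U)) hs
    exact congr($h1 t)
  have hΦS : PhiSh p φ hL hφ' ≫ SSh p s hL hlin' = 𝟙 _ := PhiSh_SSh p φ s hL hφ' hlin' hs'
  have hinj : Function.Injective (Sheaf.H.map (PhiSh p φ hL hφ') i) := by
    intro x y hxy
    have h1 := congrArg (Sheaf.H.map (SSh p s hL hlin') i) hxy
    rwa [← Sheaf.H.map_comp_apply, ← Sheaf.H.map_comp_apply, hΦS, Sheaf.H.map_id_apply,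
      Sheaf.H.map_id_apply] at h1
  have hLp : PicF.IsInvertible (CohB1.tensorPow L p) :=
    Groth.Agent.Lib.Helper11.GenLocus.isInvertible_tensorPow hL p
  have : Module.Finite k (Coh.HH X L i) :=
    Groth.Agent.S0002.result k X L
      (Groth.Agent.Lib.Helper45.InvRef1.isCoh_of_isInvertible L hL) i
  have : Module.Finite k (Coh.HH X (CohB1.tensorPow L p) i) :=
    Groth.Agent.S0002.result k X (CohB1.tensorPow L p)
      (Groth.Agent.Lib.Helper45.InvRef1.isCoh_of_isInvertible _ hLp) i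
  refine finrank_le_of_injective_frobenius_semilinear p k (Coh.HH X L i)
    (Coh.HH X (CohB1.tensorPow L p) i) (Sheaf.H.map (PhiSh p φ hL hφ') i) ?_ hinj
  intro a ξ
  change Sheaf.H.map (PhiSh p φ hL hφ') i (Sheaf.H.map (Coh.smulAb L
      (Coh.toGlobal (X ↘ Spec (CommRingCat.of k)) a)) i ξ) =
    Sheaf.H.map (Coh.smulAb (CohB1.tensorPow L p)
      (Coh.toGlobal (X ↘ Spec (CommRingCat.of k)) (a ^ p))) i
      (Sheaf.H.map (PhiSh p φ hL hφ') i ξ)
  rw [← Sheaf.H.map_comp_apply, ← Sheaf.H.map_comp_apply, map_pow,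
    smulAb_comp_PhiSh p φ hL hφ']

end Groth.Agent.S18151
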