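import Groth.Statements.S18153
import Mathlib

set_option autoImplicit false
universe u w
open FrobAlg

namespace Groth.Agent.S18153.Aux

set_option autoImplicit false

open MvPolynomial

section
variable {R : Type u} [CommRing R] {m : ℕ} {σ : Type w}

/-- gradient with respect to the first block of variables -/
noncomputable def gradL : MvPolynomial (Fin m ⊕ σ) R →ₗ[R] (Fin m → MvPolynomial (Fin m ⊕ σ) R) :=
  LinearMap.pi fun j => (pderiv (Sum.inl j : Fin m ⊕ σ)).toLinearMap

/-- the coefficient of the Jacobian determinant, as a multilinear map -/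
noncomputable def jacCoeff (ν : (Fin m ⊕ σ) →₀ ℕ) :
    MultilinearMap R (fun _ : Fin m => MvPolynomial (Fin m ⊕ σ) R) R :=
  (lcoeff R ν).compMultilinearMap
    (((Matrix.detRowAlternating (R := MvPolynomial (Fin m ⊕ σ) R) (n := Fin m)).toMultilinearMap.restrictScalars
      R).compLinearMap (fun _ => gradL))

theorem jacCoeff_apply (ν : (Fin m ⊕ σ) →₀ ℕ) (f : Fin m → MvPolynomial (Fin m ⊕ σ) R) :
    jacCoeff ν f = coeff ν (Matrix.of fun i j : Fin m => pderiv (Sum.inl j) (f i)).det := rfl

theorem reduce (ν : (Fin m ⊕ σ) →₀ ℕ)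
    (h : ∀ μ : Fin m → ((Fin m ⊕ σ) →₀ ℕ),
      coeff ν (Matrix.of fun i j : Fin m =>
        pderiv (Sum.inl j) (monomial (μ i) (1 : R))).det = 0)
    (f : Fin m → MvPolynomial (Fin m ⊕ σ) R) :
    coeff ν (Matrix.of fun i j : Fin m => pderiv (Sum.inl j) (f i)).det = 0 := by
  have : jacCoeff (R := R) ν = 0 := by
    apply Module.Basis.ext_multilinear (fun _ => basisMonomials (Fin m ⊕ σ) R)
    intro v
    rw [jacCoeff_apply]
    simp only [coe_basisMonomials]
    exact h v
  rw [← jacCoeff_apply, this]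
  rfl
end

section Mono
variable {R : Type u} [CommRing R] {m : ℕ} {σ : Type w} (μ : Fin m → ((Fin m ⊕ σ) →₀ ℕ))

/-- exponent of the `τ`-term -/
noncomputable def expo (τ : Equiv.Perm (Fin m)) : (Fin m ⊕ σ) →₀ ℕ :=
  ∑ i, (μ (τ i) - Finsupp.single (Sum.inl i) 1)

/-- natural coefficient of the `τ`-term -/
def cof (τ : Equiv.Perm (Fin m)) : ℕ := ∏ i, μ (τ i) (Sum.inl i)

/-- the sum of the unit vectors of the first block -/
noncomputable def ones : (Fin m ⊕ σ) →₀ ℕ := ∑ i : Fin m, Finsupp.single (Sum.inl i) 1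

theorem det_mono :
    (Matrix.of fun i j : Fin m => pderiv (Sum.inl j) (monomial (μ i) (1 : R))).det
      = ∑ τ : Equiv.Perm (Fin m),
          monomial (expo μ τ) (((Equiv.Perm.sign τ : ℤ) : R) * (cof μ τ : R)) := by
  rw [Matrix.det_apply']
  apply Finset.sum_congr rfl
  intro τ _
  simp only [Matrix.of_apply, pderiv_monomial, one_mul]
  rw [← monomial_sum_prod, ← map_intCast (C : R →+* MvPolynomial (Fin m ⊕ σ) R), C_mul_monomial,
    expo, cof, Nat.cast_prod]

theorem expo_add_ones (τ : Equiv.Perm (Fin m)) (hpos : ∀ i, 1 ≤ μ (τ i) (Sum.inl i)) :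
    expo μ τ + ones (m := m) (σ := σ) = ∑ i, μ i := by
  rw [expo, ones, ← Finset.sum_add_distrib, ← Equiv.sum_comp τ μ]
  apply Finset.sum_congr rfl
  intro i _
  apply tsub_add_cancel_of_le
  rw [Finsupp.single_le_iff]
  exact hpos i

theorem cof_eq_zero (τ : Equiv.Perm (Fin m)) (h : ¬ ∀ i, 1 ≤ μ (τ i) (Sum.inl i)) :
    cof μ τ = 0 := by
  push Not at h
  obtain ⟨i, hi⟩ := h
  exact Finset.prod_eq_zero (Finset.mem_univ i) (by omega)

theorem ones_apply_inl (j : Fin m) : ones (m := m) (σ := σ) (Sum.inl j) = 1 := by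
  rw [ones, Finsupp.finsetSum_apply, Finset.sum_eq_single j]
  · simp
  · intro i _ hij
    exact Finsupp.single_eq_of_ne' (fun h => hij (Sum.inl_injective h))
  · intro h; exact absurd (Finset.mem_univ j) h

end Mono

section Final
variable {R : Type u} [CommRing R] {m : ℕ} {σ : Type w}

/-- a square matrix whose rows sum to zero has determinant zero -/
theorem det_eq_zero_of_rows_sum (hm : 0 < m) (N : Matrix (Fin m) (Fin m) R)
    (h : ∀ j, ∑ i, N i j = 0) : N.det = 0 := by
  have h1 : Matrix.vecMul (fun _ => (1 : R)) N = 0 := by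
    funext j
    simp [Matrix.vecMul, dotProduct, h j]
  have h2 : Matrix.vecMul (fun _ => (1 : R)) (N * N.adjugate) = 0 := by
    rw [← Matrix.vecMul_vecMul, h1, Matrix.zero_vecMul]
  rw [Matrix.mul_adjugate, Matrix.vecMul_smul, Matrix.vecMul_one] at h2
  have := congrFun h2 ⟨0, hm⟩
  simpa using this

theorem mono_case (p : ℕ) [Fact p.Prime] [CharP R p] (hm : 0 < m)
    (μ : Fin m → ((Fin m ⊕ σ) →₀ ℕ)) :
    coeff (Finsupp.sumElim (Finsupp.equivFunOnFinite.symm fun _ : Fin m => p - 1) (0 : σ →₀ ℕ))
      (Matrix.of fun i j : Fin m => pderiv (Sum.inl j) (monomial (μ i) (1 : R))).det = 0 := by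
  classical
  set ν : (Fin m ⊕ σ) →₀ ℕ :=
    Finsupp.sumElim (Finsupp.equivFunOnFinite.symm fun _ : Fin m => p - 1) (0 : σ →₀ ℕ) with hν
  rw [det_mono, coeff_sum]
  simp only [coeff_monomial]
  by_cases hμ : ∑ i, μ i = ν + ones
  · -- every term equals `sign * cof`
    have hterm : ∀ τ : Equiv.Perm (Fin m),
        (if expo μ τ = ν then ((Equiv.Perm.sign τ : ℤ) : R) * (cof μ τ : R) else 0) =
          ((Equiv.Perm.sign τ : ℤ) : R) * ∏ i, ((μ (τ i) (Sum.inl i) : ℕ) : R) := by
      intro τ
      by_cases hpos : ∀ i, 1 ≤ μ (τ i) (Sum.inl i)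
      · have := expo_add_ones μ τ hpos
        rw [hμ] at this
        rw [if_pos (add_right_cancel this), cof, Nat.cast_prod]
      · have hc := cof_eq_zero μ τ hpos
        have hc' : ∏ i, ((μ (τ i) (Sum.inl i) : ℕ) : R) = 0 := by
          rw [← Nat.cast_prod]; rw [cof] at hc; rw [hc, Nat.cast_zero]
        rw [hc', hc, Nat.cast_zero, mul_zero, ite_self]
    rw [Finset.sum_congr rfl (fun τ _ => hterm τ)]
    have hdet := Matrix.det_apply' (Matrix.of fun i j : Fin m => ((μ i (Sum.inl j) : ℕ) : R))
    simp only [Matrix.of_apply] at hdet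
    rw [← hdet]
    apply det_eq_zero_of_rows_sum hm
    intro j
    simp only [Matrix.of_apply]
    rw [← Nat.cast_sum]
    have : ∑ i, μ i (Sum.inl j) = p := by
      have := congrArg (fun e => e (Sum.inl j)) hμ
      simp only [Finsupp.finsetSum_apply, Finsupp.add_apply, ones_apply_inl] at this
      rw [this, hν, Finsupp.sumElim_inl]
      have hp := (Fact.out : p.Prime).pos
      have : (Finsupp.equivFunOnFinite.symm fun _ : Fin m => p - 1) j = p - 1 := rfl
      rw [this]
      omega
    rw [this, CharP.cast_eq_zero]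
  · apply Finset.sum_eq_zero
    intro τ _
    by_cases hpos : ∀ i, 1 ≤ μ (τ i) (Sum.inl i)
    · rw [if_neg]
      intro he
      apply hμ
      rw [← expo_add_ones μ τ hpos, he]
    · rw [cof_eq_zero μ τ hpos, Nat.cast_zero, mul_zero, ite_self]

end Final

end Groth.Agent.S18153.Aux

namespace Groth.Agent.S18153

/-- Let R be a commutative ring of prime characteristic p and f_1, …, f_m (m ≥ 1) polynomials over R in
the variables t_1, …, t_m and a further, possibly empty, family of variables s_a. Then in the m × m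
Jacobian determinant det(∂f_i/∂t_j) with respect to the t-variables, the coefficient of the monomial
t_1^{p-1} ⋯ t_m^{p-1} (all s-exponents zero) vanishes. (In the source this is the claim, for formal
power series in n ≥ m variables over the base field, to which the proof of the proposition reduces;
the coefficient in question only involves truncations of the f_i, so the polynomial form over any
ring of characteristic p is the same assertion.) -/
theorem result
    (p : ℕ) [Fact p.Prime] (R : Type u) [CommRing R] [CharP R p]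
    {m : ℕ} (hm : 0 < m) (σ : Type w) (f : Fin m → MvPolynomial (Fin m ⊕ σ) R) :
    MvPolynomial.coeff
        (Finsupp.sumElim (Finsupp.equivFunOnFinite.symm fun _ : Fin m => p - 1) (0 : σ →₀ ℕ))
        (Matrix.of fun i j : Fin m => MvPolynomial.pderiv (Sum.inl j) (f i)).det = 0 := by
  exact Aux.reduce _ (fun μ => Aux.mono_case p hm μ) f

end Groth.Agent.S18153
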