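import Groth.Statements.S18155
import Groth.Agent.Lib.Helper3.EtaleQuotLift
import Groth.Agent.Lib.Helper99.W2Lift

set_option autoImplicit false
set_option linter.style.haveILetI false
universe u v
open FrobAlg

namespace Groth.Agent.S18155

/-- Infinitesimal lifting for a formally smooth algebra, at the level of ring homomorphisms (so that
the target may carry an algebra structure different from a given one). -/
theorem exists_lift_ringHom {R D E C : Type*} [CommRing R] [CommRing D] [CommRing E] [CommRing C]
    [Algebra R D] [Algebra.FormallySmooth R D] (h : R →+* E) (ψ : E →+* C)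
    (hψ : Function.Surjective ψ) (hker : IsNilpotent (RingHom.ker ψ)) (τ : D →+* C)
    (hτ : τ.comp (algebraMap R D) = ψ.comp h) :
    ∃ g : D →+* E, g.comp (algebraMap R D) = h ∧ ψ.comp g = τ := by
  letI : Algebra R E := h.toAlgebra
  letI : Algebra R C := (ψ.comp h).toAlgebra
  let τ' : D →ₐ[R] C := { τ with commutes' := fun r => congrArg (fun f => f r) hτ }
  let ψ' : E →ₐ[R] C := { ψ with commutes' := fun r => rfl }
  refine ⟨(Algebra.FormallySmooth.liftOfSurjective τ' ψ' hψ hker).toRingHom, ?_, ?_⟩
  · ext r; exact (Algebra.FormallySmooth.liftOfSurjective τ' ψ' hψ hker).commutes r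
  · ext d; exact Algebra.FormallySmooth.liftOfSurjective_apply τ' ψ' hψ hker d

/-- Let k be an algebraically closed field of characteristic p, A a commutative k-algebra and C an étale
A-algebra. If A admits a flat lifting over W_2(k) together with a lift of Frobenius, then so does C.
(The source states this for an étale cover Y → X of smooth varieties over k; its argument uses only
that Y is étale over X, and the affine case is stated here with no smoothness or finiteness
hypothesis on A over k.) -/
theorem result
    (p : ℕ) [Fact p.Prime] (k : Type u) [Field k] [IsAlgClosed k] [CharP k p]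
    (A C : Type v) [CommRing A] [CommRing C] [Algebra k A] [Algebra k C]
    [Algebra A C] [IsScalarTower k A C] [Algebra.Etale A C]
    (hA : FrobAlg.IsFLiftable p k A) : FrobAlg.IsFLiftable p k C := by
  classical
  obtain ⟨B, _, ι, π, Φ, hΦ⟩ := hA
  have hL : FrobAlg.IsLift p k A B ι π := hΦ.toIsLift
  haveI : PerfectRing k p := inferInstance
  -- `A` as an algebra over `B ⧸ ker π`
  let e : (B ⧸ RingHom.ker π) ≃+* A := RingHom.quotientKerEquivOfSurjective hL.surj
  have he : ∀ b : B, e (Ideal.Quotient.mk _ b) = π b := fun b => rfl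
  letI algA : Algebra (B ⧸ RingHom.ker π) A := e.toRingHom.toAlgebra
  letI algC : Algebra (B ⧸ RingHom.ker π) C := ((algebraMap A C).comp e.toRingHom).toAlgebra
  haveI : IsScalarTower (B ⧸ RingHom.ker π) A C := IsScalarTower.of_algebraMap_eq' rfl
  haveI : Algebra.Etale (B ⧸ RingHom.ker π) A :=
    Algebra.Etale.of_equiv
      ({ e with commutes' := fun r => rfl } : (B ⧸ RingHom.ker π) ≃ₐ[B ⧸ RingHom.ker π] A)
  haveI : Algebra.Etale (B ⧸ RingHom.ker π) C := Algebra.Etale.comp (B ⧸ RingHom.ker π) A C
  obtain ⟨D, _, _, hD, ψ, hψs, hψk, hψc⟩ :=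
    Groth.Agent.Lib.Helper3.exists_etale_lift_of_quotient (RingHom.ker π) C
  have hψc' : ∀ b : B, ψ (algebraMap B D b) = algebraMap A C (π b) := fun b => hψc b
  -- the lifting
  have hlift : FrobAlg.IsLift p k C D ((algebraMap B D).comp ι) ψ := by
    refine ⟨?_, hψs, ?_, ?_⟩
    · exact RingHom.Flat.comp hL.flat (RingHom.flat_algebraMap_iff.mpr inferInstance)
    · rw [hψk, hL.ker_eq, Ideal.map_map]
    · ext w
      rw [RingHom.comp_apply, RingHom.comp_apply, hψc', RingHom.comp_apply]
      have := congrArg (fun f => f w) hL.comm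
      simp only [RingHom.comp_apply] at this
      rw [this, ← IsScalarTower.algebraMap_apply]
  -- nilpotency of the kernel
  have hnil : IsNilpotent (RingHom.ker ψ) := by
    refine ⟨2, ?_⟩
    rw [Groth.Agent.Lib.Helper99.W2Lift.lift_ker_eq p k C D _ ψ hlift, Ideal.span_singleton_pow,
      sq, Groth.Agent.Lib.Helper99.W2Lift.lift_p_mul_p p k D ((algebraMap B D).comp ι)]
    simp
  -- the Frobenius lift
  have hτex : ∃ τ : D →+* C, ∀ d, τ d = ψ d ^ p := by
    rcases subsingleton_or_nontrivial C with hC | hC
    · exact ⟨ψ, fun d => Subsingleton.elim _ _⟩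
    · haveI : CharP C p := charP_of_injective_algebraMap (algebraMap k C).injective p
      exact ⟨(frobenius C p).comp ψ, fun d => rfl⟩
  obtain ⟨τ, hτd⟩ := hτex
  have hτ : τ.comp (algebraMap B D) = ψ.comp ((algebraMap B D).comp Φ) := by
    ext b
    simp only [RingHom.comp_apply]
    rw [hτd, hψc', hψc', hΦ.red, map_pow]
  obtain ⟨g, hg1, hg2⟩ := exists_lift_ringHom (D := D) ((algebraMap B D).comp Φ) ψ hψs hnil τ hτ
  refine ⟨D, inferInstance, (algebraMap B D).comp ι, ψ, g, ⟨hlift, ?_, ?_⟩⟩
  · rw [← RingHom.comp_assoc, hg1, RingHom.comp_assoc, hΦ.semi, RingHom.comp_assoc]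
  · intro d
    have := congrArg (fun f => f d) hg2
    simp only [RingHom.comp_apply] at this
    rw [this, hτd]

end Groth.Agent.S18155
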