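import Groth.Statements.S18156
import Mathlib

set_option autoImplicit false
universe u v
open CAlg

namespace Groth.Agent.S18156.Aux

set_option autoImplicit false

open AdicCompletion

section
variable {k : Type u} [CommRing k] {A : Type v} [CommRing A] [Algebra k A]
  (D : Derivation k A A) (I : Ideal A)

theorem der_pow_mem (n : ℕ) {x : A} (hx : x ∈ I ^ (n + 1)) : D x ∈ I ^ n := by
  induction n generalizing x with
  | zero => simp
  | succ n ih =>
    rw [pow_succ] at hx
    refine Submodule.mul_induction_on hx ?_ ?_
    · intro y hy z hz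
      rw [Derivation.leibniz, smul_eq_mul, smul_eq_mul]
      refine Ideal.add_mem _ (Ideal.mul_mem_right _ _ hy) ?_
      rw [pow_succ']
      exact Ideal.mul_mem_mul hz (ih hy)
    · intro y z hy hz
      rw [map_add]; exact Ideal.add_mem _ hy hz

variable {I}

theorem eval_succ (x : AdicCompletion I A) (n : ℕ) (r : A)
    (h : evalₐ I (n + 1) x = Ideal.Quotient.mk _ r) : evalₐ I n x = Ideal.Quotient.mk _ r := by
  induction x using AdicCompletion.induction_on with
  | h f =>
    rw [evalₐ_mk] at h ⊢
    rw [Ideal.Quotient.eq] at h ⊢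
    have h1 : f.val n - f.val (n + 1) ∈ I ^ n := by
      have := f.property (Nat.le_succ n)
      rw [SModEq.sub_mem] at this
      simpa using this
    have h2 : f.val (n + 1) - r ∈ I ^ n := Ideal.pow_le_pow_right (Nat.le_succ n) h
    have := Ideal.add_mem _ h1 h2
    rwa [sub_add_sub_cancel] at this

/-- representatives -/
noncomputable def rep (x : AdicCompletion I A) (n : ℕ) : A :=
  Function.surjInv (Ideal.Quotient.mk_surjective (I := I ^ n)) (evalₐ I n x)

theorem rep_spec (x : AdicCompletion I A) (n : ℕ) :
    Ideal.Quotient.mk (I ^ n) (rep x n) = evalₐ I n x :=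
  Function.surjInv_eq _ _

theorem rep_sub_mem (x : AdicCompletion I A) (n : ℕ) (r : A)
    (h : evalₐ I n x = Ideal.Quotient.mk _ r) : rep x n - r ∈ I ^ n := by
  rw [← Ideal.Quotient.eq, rep_spec, h]

/-- the extended derivation, as a function -/
noncomputable def hatD (x : AdicCompletion I A) : AdicCompletion I A :=
  AdicCompletion.mk I A (AdicCauchySequence.mk I A (fun n => D (rep x (n + 1))) (by
    intro n
    rw [SModEq.sub_mem]
    have h1 : rep x (n + 1) - rep x (n + 2) ∈ I ^ (n + 1) :=
      rep_sub_mem x (n + 1) _ (eval_succ x (n + 1) _ (rep_spec x (n + 2)).symm)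
    have := der_pow_mem D I n h1
    rw [map_sub] at this
    simpa using this))

theorem hatD_spec (x : AdicCompletion I A) (n : ℕ) (r : A)
    (h : evalₐ I (n + 1) x = Ideal.Quotient.mk _ r) :
    evalₐ I n (hatD D x) = Ideal.Quotient.mk _ (D r) := by
  rw [hatD, evalₐ_mk]
  change Ideal.Quotient.mk (I ^ n) (D (rep x (n + 1))) = _
  rw [Ideal.Quotient.eq, ← map_sub]
  exact der_pow_mem D I n (rep_sub_mem x (n + 1) r h)

end

section
variable {k : Type u} [CommRing k] {A : Type v} [CommRing A] [Algebra k A]
  (D : Derivation k A A) {I : Ideal A}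

theorem exists_rep (x : AdicCompletion I A) (n : ℕ) :
    ∃ r : A, evalₐ I n x = Ideal.Quotient.mk _ r :=
  ⟨rep x n, (rep_spec x n).symm⟩

theorem hatD_add (x y : AdicCompletion I A) : hatD D (x + y) = hatD D x + hatD D y := by
  apply ext_evalₐ
  intro n
  obtain ⟨r, hr⟩ := exists_rep x (n + 1)
  obtain ⟨s, hs⟩ := exists_rep y (n + 1)
  have hrs : evalₐ I (n + 1) (x + y) = Ideal.Quotient.mk _ (r + s) := by
    rw [map_add, hr, hs, map_add]
  rw [hatD_spec D _ n _ hrs, map_add (evalₐ I n), hatD_spec D x n r hr, hatD_spec D y n s hs,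
    map_add D, map_add]

theorem hatD_smul (c : k) (x : AdicCompletion I A) : hatD D (c • x) = c • hatD D x := by
  apply ext_evalₐ
  intro n
  obtain ⟨r, hr⟩ := exists_rep x (n + 1)
  have e : ∀ (m : ℕ) (z : AdicCompletion I A), evalₐ I m (c • z) =
      Ideal.Quotient.mk _ (algebraMap k A c) * evalₐ I m z := by
    intro m z
    rw [Algebra.smul_def, map_mul, AdicCompletion.algebraMap_apply, evalₐ_of]
  have hcr : evalₐ I (n + 1) (c • x) = Ideal.Quotient.mk _ (c • r) := by
    rw [e, hr, ← map_mul, Algebra.smul_def]
  rw [hatD_spec D _ n _ hcr, e, hatD_spec D x n r hr, ← map_mul, D.map_smul, Algebra.smul_def]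

theorem hatD_mul (x y : AdicCompletion I A) :
    hatD D (x * y) = x • hatD D y + y • hatD D x := by
  apply ext_evalₐ
  intro n
  obtain ⟨r, hr⟩ := exists_rep x (n + 1)
  obtain ⟨s, hs⟩ := exists_rep y (n + 1)
  have hrs : evalₐ I (n + 1) (x * y) = Ideal.Quotient.mk _ (r * s) := by
    rw [map_mul, hr, hs, map_mul]
  rw [hatD_spec D _ n _ hrs, smul_eq_mul, smul_eq_mul, map_add (evalₐ I n),
    map_mul (evalₐ I n), map_mul (evalₐ I n),
    hatD_spec D x n r hr, hatD_spec D y n s hs, eval_succ x n r hr, eval_succ y n s hs,
    Derivation.leibniz, smul_eq_mul, smul_eq_mul, map_add, map_mul, map_mul]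

theorem hatD_of (a : A) : hatD D (algebraMap A (AdicCompletion I A) a) =
    algebraMap A (AdicCompletion I A) (D a) := by
  apply ext_evalₐ
  intro n
  have h : evalₐ I (n + 1) (algebraMap A (AdicCompletion I A) a) = Ideal.Quotient.mk _ a := by
    rw [AdicCompletion.algebraMap_apply]; exact evalₐ_of I (n + 1) a
  rw [hatD_spec D _ n a h, AdicCompletion.algebraMap_apply]
  exact (evalₐ_of I n (D a)).symm

/-- the extended derivation -/
noncomputable def hatDer : Derivation k (AdicCompletion I A) (AdicCompletion I A) :=
  Derivation.mk' { toFun := hatD D, map_add' := hatD_add D, map_smul' := hatD_smul D }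
    (hatD_mul D)

theorem main (I : Ideal A) :
    ∃ Dhat : Derivation k (AdicCompletion I A) (AdicCompletion I A),
      ∀ a : A, Dhat (algebraMap A (AdicCompletion I A) a) =
        algebraMap A (AdicCompletion I A) (D a) :=
  ⟨hatDer D, fun a => hatD_of D a⟩

end

end Groth.Agent.S18156.Aux

namespace Groth.Agent.S18156

/-- Let k be a field and A a regular local ring that is a k-algebra, with maximal ideal m and m-adic
completion Â. Then every k-derivation D of A into itself extends to a k-derivation D̂ of Â into
itself along the canonical map ρ : A → Â, in the sense that D̂(ρ(a)) = ρ(D(a)) for every a ∈ A. (The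
source works throughout over an algebraically closed field of characteristic p; neither assumption
enters this statement.) -/
theorem result
    (k : Type u) [Field k] (A : Type v) [CommRing A] [Algebra k A] [IsRegularLocalRing A]
    (D : Derivation k A A) :
    ∃ Dhat : Derivation k (AdicCompletion (IsLocalRing.maximalIdeal A) A)
        (AdicCompletion (IsLocalRing.maximalIdeal A) A),
      ∀ a : A, Dhat (algebraMap A (AdicCompletion (IsLocalRing.maximalIdeal A) A) a) =
        algebraMap A (AdicCompletion (IsLocalRing.maximalIdeal A) A) (D a) := by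
  exact Aux.main D (IsLocalRing.maximalIdeal A)

end Groth.Agent.S18156
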