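import Groth.Statements.S1816
-- import your own Groth.Agent.* helpers here
import Groth.Agent.Lib.Helper32.GammaNoethD

set_option autoImplicit false
universe u
open CategoryTheory
attribute [local instance] HasDerivedCategory.standard
open LocCoh

namespace Groth.Agent.S1816

open Groth.Agent.Lib.Helper32 Groth.Agent.Lib.Helper32.GammaNoeth Groth.Agent.Lib.Helper32.GammaNoethD DerivedCategory

/-- First statement, for a Noetherian ring (where RΓ with support in V(I) is RΓ_I). Let A be a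
Noetherian ring, I and J ideals, and assume the total right derived functors RΓ_I, RΓ_J and RΓ_{I+J}
exist. Then for every K in D(A), RΓ_J(RΓ_I(K)) is isomorphic to RΓ_{I+J}(K). -/
theorem result (A : Type u) [CommRing A] [IsNoetherianRing A] (I J : Ideal A) [DRing.HasRgammaI I] [DRing.HasRgammaI J] [DRing.HasRgammaI (I ⊔ J)] (K : Dual.D A) : Nonempty ((DRing.RgammaI J).obj ((DRing.RgammaI I).obj K) ≅ (DRing.RgammaI (I ⊔ J)).obj K) := by
  obtain ⟨L, hL, hinj, ⟨e⟩⟩ := exists_rep K
  haveI := hL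
  haveI : IsIso (βΓ I L) := TriRF.isIso_β _ _ _ hasKInjRes L
  haveI : IsIso (βΓ (I ⊔ J) L) := TriRF.isIso_β _ _ _ hasKInjRes L
  haveI : IsIso (βΓ J (Gam I L)) :=
    isIso_β_of_injective J _ _ (Gam I L) (fun q => by
      haveI := hinj q
      exact injective_gammaI_obj I (L.X q))
  exact ⟨(DRing.RgammaI J).mapIso ((DRing.RgammaI I).mapIso e.symm ≪≫ (asIso (βΓ I L)).symm) ≪≫
    (asIso (βΓ J (Gam I L))).symm ≪≫ Q.mapIso (compIso I J L) ≪≫ asIso (βΓ (I ⊔ J) L) ≪≫
    (DRing.RgammaI (I ⊔ J)).mapIso e⟩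

end Groth.Agent.S1816
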