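import Groth.Statements.S18183
import Groth.Agent.FunFld.Plucker2

set_option autoImplicit false
open FunFld

namespace Groth.Agent.S18183

/-- Let `k` be an algebraically closed field of characteristic zero and `K/k` a function field of one
variable (the function field of a smooth projective curve over `k`). A `g^r_d` is a divisor `D` of
degree `d` with a subspace `V ⊆ L(D)` of dimension `r + 1`; for a place `P` and `n ≥ 0`, `V(-nP) = V
∩ L(D - nP)` is the space of members vanishing to order at least `n` at `P`, so `dim V(-nP)` counts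
the vanishing orders `m_0 < ⋯ < m_r` of `V` at `P` that are at least `n`, and the weight of `V` at
`P` is `∑_{n=1}^{d} dim V(-nP) - r(r+1)/2`. Aspects `(D_Y, V_Y)` on `K_Y` and `(D_Z, V_Z)` on `K_Z`
of a limit `g^r_d` on two components meeting in a node (a place `P` of `K_Y` and a place `Q` of
`K_Z`) are compatible there when `m_i(V_Y, P) + m_{r-i}(V_Z, Q) = d` for every `i`, equivalently
`dim V_Y(-nP) + dim V_Z(-(d+1-n)Q) = r + 1` for `0 ≤ n ≤ d + 1`. A backbone is a chain of rational
components `Z_0, …, Z_N` (function fields `K_i` of genus `0`), `Z_i` meeting `Z_{i+1}` in a node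
given by a place `B_i` of `K_i` and a place `A_{i+1}` of `K_{i+1}`, the two node places `A_i ≠ B_i`
of an inner component being distinct; each `Z_i` carries an aspect `(D_i, V_i)` of a limit `g^r_d`
and consecutive aspects are compatible at the nodes. A set `T` of indices marks the components
carrying a tail: for `i ∈ T` the aspect `V_i` has at least a cusp (`dim V_i(-2Q_i) ≥ r`) at a
further place `Q_i` of `K_i`, distinct from the node places of `Z_i`. (In the source these are the
backbone components of a flag curve to which a chain of rational curves ending in an elliptic tail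
is attached, `T` has `g` elements, and the cusp is forced by that chain.) Let `Q'` be a place of
some `Z_i` other than its node places and other than `Q_i` when `i ∈ T`. Then `w(V_i, Q') ≤
(r+1)(d-r) - r · |T|`, that is `∑_{j=1}^{d} dim V_i(-jQ') + r · |T| + r(r+1) ≤ (r+1)d + r(r+1)/2`.
Hence, when `|T| = g` and the moving-point Brill–Noether number `ρ = 1 + g - (r+1)(g+r-d) - ∑(m_i -
i)` is `≤ 0`, a point with vanishing sequence `(m_i)`, whose weight is then at least `(r+1)(d-r) -
rg + 1`, cannot lie on a backbone component away from the nodes; the source states this as: the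
limit of the ramification point lies on an elliptic tail. (The printed argument bounds such weights
only by `(r+1)(d-r) - r(g-1)`; the sharper bound here also uses that the aspect has weight at least
`r` at a cusp.) (The source states this for curves over the complex numbers.) -/
theorem result
    (k : Type*) [Field k] [IsAlgClosed k] [CharZero k]
    (N : ℕ) (Z : Fin (N + 1) → Type*) [∀ i, Field (Z i)] [∀ i, Algebra k (Z i)]
    (hZ : ∀ i, FunFld.IsFunctionField k (Z i)) (hrat : ∀ i, FunFld.genus k (Z i) = 0)
    (d r : ℕ) (D : ∀ i, FunFld.Divisor k (Z i)) (hD : ∀ i, (D i).deg = d)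
    (V : ∀ i, Submodule k (Z i)) (hV : ∀ i, V i ≤ FunFld.L (D i))
    (hVr : ∀ i, Module.finrank k ↥(V i) = r + 1)
    (A B : ∀ i, FunFld.Place k (Z i))
    (hAB : ∀ i : Fin (N + 1), 0 < (i : ℕ) → (i : ℕ) < N → A i ≠ B i)
    (hcomp : ∀ (l : Fin N) (m : ℕ), m ≤ d + 1 →
      Module.finrank k ↥((V l.castSucc) ⊓ FunFld.L ((D l.castSucc) - Finsupp.single (B l.castSucc) ((m : ℤ)))) +
        Module.finrank k ↥((V l.succ) ⊓ FunFld.L ((D l.succ) - Finsupp.single (A l.succ) ((d : ℤ) + 1 - m))) = r + 1)
    (T : Finset (Fin (N + 1))) (Q : ∀ i, FunFld.Place k (Z i))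
    (hQA : ∀ i ∈ T, 0 < (i : ℕ) → Q i ≠ A i) (hQB : ∀ i ∈ T, (i : ℕ) < N → Q i ≠ B i)
    (hcusp : ∀ i ∈ T, r ≤ Module.finrank k ↥((V i) ⊓ FunFld.L ((D i) - Finsupp.single (Q i) ((2 : ℤ)))))
    (i : Fin (N + 1)) (Q' : FunFld.Place k (Z i)) (hQ'A : 0 < (i : ℕ) → Q' ≠ A i)
    (hQ'B : (i : ℕ) < N → Q' ≠ B i) (hQ'Q : i ∈ T → Q' ≠ Q i) :
    (∑ j ∈ Finset.range d, Module.finrank k ↥((V i) ⊓ FunFld.L ((D i) - Finsupp.single Q' ((j : ℤ) + 1)))) + r * T.card + r * (r + 1) ≤
      (r + 1) * d + r * (r + 1) / 2 := by
  classical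
  have hG : ∀ i, Groth.Agent.FF.IsGrd (V i) (D i) r d := fun i => ⟨hV i, hVr i, hD i⟩
  have hcompW : ∀ l : Fin N, Groth.Agent.FF.Wt (V l.castSucc) (D l.castSucc) (B l.castSucc) d +
      Groth.Agent.FF.Wt (V l.succ) (D l.succ) (A l.succ) d = (r + 1) * d :=
    fun l => Groth.Agent.FF.Wt_add_eq_of_compat _ _ _ _ _ _ d r (hcomp l)
  have hb := Groth.Agent.FF.backbone_bounds hZ hrat hG hAB hcompW hQA hQB hcusp i
  have hc := Groth.Agent.FF.card_erase_eq_add T i
  have hce := Finset.card_erase_eq_ite (s := T) (a := i)
  have htri := Groth.Agent.FF.tri_mul_two r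
  have hcL0 : ¬ 0 < (i : ℕ) →
      (T.filter (fun x : Fin (N + 1) => (x : ℕ) < (i : ℕ))).card = 0 := by
    intro h0
    rw [Finset.card_eq_zero, Finset.filter_eq_empty_iff]
    intro x _
    omega
  have hcR0 : ¬ (i : ℕ) < N →
      (T.filter (fun x : Fin (N + 1) => (i : ℕ) < (x : ℕ))).card = 0 := by
    intro h0
    rw [Finset.card_eq_zero, Finset.filter_eq_empty_iff]
    intro x _
    have := x.2
    omega
  have hcuspW : i ∈ T → r * (r + 1) / 2 + r ≤ Groth.Agent.FF.Wt (V i) (D i) (Q i) d :=
    fun hT => Groth.Agent.FF.Wt_ge_of_cusp (hZ i) (hG i) (Q i) (hcusp i hT)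
  have hTpos : i ∈ T → 0 < T.card := fun hT => Finset.card_pos.mpr ⟨i, hT⟩
  show Groth.Agent.FF.Wt (V i) (D i) Q' d + r * T.card + r * (r + 1) ≤
    (r + 1) * d + r * (r + 1) / 2
  set cL := (T.filter (fun x : Fin (N + 1) => (x : ℕ) < (i : ℕ))).card with hcL
  set cR := (T.filter (fun x : Fin (N + 1) => (i : ℕ) < (x : ℕ))).card with hcR
  by_cases h0 : 0 < (i : ℕ) <;> by_cases hN : (i : ℕ) < N <;> by_cases hT : i ∈ T
  · have hpl := Groth.Agent.FF.plucker_list (hZ i) (hrat i) (hG i) [Q', A i, B i, Q i]
      (by simp [hQ'A h0, hQ'B hN, hQ'Q hT, hAB i h0 hN, (hQA i hT h0).symm, (hQB i hT hN).symm])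
    simp only [List.map_cons, List.map_nil, List.sum_cons, List.sum_nil, List.length_cons,
      List.length_nil] at hpl
    have h1 := hb.1 h0
    have h2 := hb.2 hN
    have h3 := hcuspW hT
    have h4 := hTpos hT
    rw [if_pos hT] at hce
    have : T.card = cL + cR + 1 := by omega
    rw [this, mul_add, mul_add]
    omega
  · have hpl := Groth.Agent.FF.plucker_list (hZ i) (hrat i) (hG i) [Q', A i, B i]
      (by simp [hQ'A h0, hQ'B hN, hAB i h0 hN])
    simp only [List.map_cons, List.map_nil, List.sum_cons, List.sum_nil, List.length_cons,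
      List.length_nil] at hpl
    have h1 := hb.1 h0
    have h2 := hb.2 hN
    rw [if_neg hT] at hce
    have : T.card = cL + cR := by omega
    rw [this, mul_add]
    omega
  · have hpl := Groth.Agent.FF.plucker_list (hZ i) (hrat i) (hG i) [Q', A i, Q i]
      (by simp [hQ'A h0, hQ'Q hT, (hQA i hT h0).symm])
    simp only [List.map_cons, List.map_nil, List.sum_cons, List.sum_nil, List.length_cons,
      List.length_nil] at hpl
    have h1 := hb.1 h0
    have h2 := hcR0 hN
    have h3 := hcuspW hT
    have h4 := hTpos hT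
    rw [if_pos hT] at hce
    have : T.card = cL + 1 := by omega
    rw [this, mul_add]
    omega
  · have hpl := Groth.Agent.FF.plucker_list (hZ i) (hrat i) (hG i) [Q', A i]
      (by simp [hQ'A h0])
    simp only [List.map_cons, List.map_nil, List.sum_cons, List.sum_nil, List.length_cons,
      List.length_nil] at hpl
    have h1 := hb.1 h0
    have h2 := hcR0 hN
    rw [if_neg hT] at hce
    have : T.card = cL := by omega
    rw [this]
    omega
  · have hpl := Groth.Agent.FF.plucker_list (hZ i) (hrat i) (hG i) [Q', B i, Q i]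
      (by simp [hQ'B hN, hQ'Q hT, (hQB i hT hN).symm])
    simp only [List.map_cons, List.map_nil, List.sum_cons, List.sum_nil, List.length_cons,
      List.length_nil] at hpl
    have h1 := hcL0 h0
    have h2 := hb.2 hN
    have h3 := hcuspW hT
    have h4 := hTpos hT
    rw [if_pos hT] at hce
    have : T.card = cR + 1 := by omega
    rw [this, mul_add]
    omega
  · have hpl := Groth.Agent.FF.plucker_list (hZ i) (hrat i) (hG i) [Q', B i]
      (by simp [hQ'B hN])
    simp only [List.map_cons, List.map_nil, List.sum_cons, List.sum_nil, List.length_cons,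
      List.length_nil] at hpl
    have h1 := hcL0 h0
    have h2 := hb.2 hN
    rw [if_neg hT] at hce
    have : T.card = cR := by omega
    rw [this]
    omega
  · have hpl := Groth.Agent.FF.plucker_list (hZ i) (hrat i) (hG i) [Q', Q i]
      (by simp [hQ'Q hT])
    simp only [List.map_cons, List.map_nil, List.sum_cons, List.sum_nil, List.length_cons,
      List.length_nil] at hpl
    have h1 := hcL0 h0
    have h2 := hcR0 hN
    have h3 := hcuspW hT
    have h4 := hTpos hT
    rw [if_pos hT] at hce
    have : T.card = 1 := by omega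
    rw [this]
    omega
  · have hpl := Groth.Agent.FF.plucker_list (hZ i) (hrat i) (hG i) [Q']
      (by simp)
    simp only [List.map_cons, List.map_nil, List.sum_cons, List.sum_nil, List.length_cons,
      List.length_nil] at hpl
    have h1 := hcL0 h0
    have h2 := hcR0 hN
    rw [if_neg hT] at hce
    have : T.card = 0 := by omega
    rw [this]
    omega

end Groth.Agent.S18183
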