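import Groth.Statements.S18187
-- import your own Groth.Agent.* helpers here
import Mathlib
import Groth.Agent.Lib.Helper58.T1Curv

set_option autoImplicit false
universe u v
open CategoryTheory
open T1Lift

namespace Groth.Agent.S18187

open Groth.Agent.Lib.Helper58.T1Curv ArtFun ArtFun.Art

theorem fmap_comp {k : Type u} [Field k] (F : ArtFun.Art k k ⥤ Type v) {A B C : ArtFun.Art k k}
    (f : A ⟶ B) (g : B ⟶ C) (x : F.obj A) : F.map (f ≫ g) x = F.map g (F.map f x) := by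
  rw [F.map_comp]; rfl

section Aux

variable (k : Type u) [Field k] (n : ℕ)

theorem eps_beta : T1Lift.ε k (n + 1) ≫ T1Lift.β k (n + 1) = T1Lift.α k (n + 1) := by
  apply Art.hom_ext
  apply AdjoinRoot.algHom_ext
  change ((T1Lift.εAlg k (n + 1)) (T1Lift.t k (n + 1 + 1))).fst = T1Lift.αAlg k (n + 1) (T1Lift.t k (n + 1 + 1))
  rw [T1Lift.εAlg_t, T1Lift.αAlg_t, TrivSqZeroExt.fst_add, TrivSqZeroExt.fst_inl, DualNumber.fst_eps,
    add_zero]

theorem eps_xi : T1Lift.ε k (n + 1) ≫ T1Lift.ξ k n = T1Lift.α k (n + 1) ≫ T1Lift.ε k n := by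
  apply Art.hom_ext
  apply AdjoinRoot.algHom_ext
  change T1Lift.dualMap k (T1Lift.αAlg k n) ((T1Lift.εAlg k (n + 1)) (T1Lift.t k (n + 1 + 1))) =
    T1Lift.εAlg k n (T1Lift.αAlg k (n + 1) (T1Lift.t k (n + 1 + 1)))
  rw [T1Lift.εAlg_t, T1Lift.αAlg_t, T1Lift.εAlg_t]
  apply TrivSqZeroExt.ext
  · change T1Lift.αAlg k n ((TrivSqZeroExt.inl (T1Lift.t k (n + 1)) + DualNumber.eps :
      DualNumber (T1Lift.Tr k (n + 1))).fst) = _
    rw [TrivSqZeroExt.fst_add, TrivSqZeroExt.fst_inl, DualNumber.fst_eps, add_zero, T1Lift.αAlg_t,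
      TrivSqZeroExt.fst_add, TrivSqZeroExt.fst_inl, DualNumber.fst_eps, add_zero]
  · change T1Lift.αAlg k n ((TrivSqZeroExt.inl (T1Lift.t k (n + 1)) + DualNumber.eps :
      DualNumber (T1Lift.Tr k (n + 1))).snd) = _
    rw [TrivSqZeroExt.snd_add, TrivSqZeroExt.snd_inl, DualNumber.snd_eps, zero_add, map_one,
      TrivSqZeroExt.snd_add, TrivSqZeroExt.snd_inl, DualNumber.snd_eps, zero_add]

/-- the kernel ideal `K = ker ξ ⊓ ker β` of `B_(n+1)` -/
noncomputable abbrev Kid : Ideal (T1Lift.B k (n + 1)) :=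
  RingHom.ker (T1Lift.ξ k n).toAlgHom ⊓ RingHom.ker (T1Lift.β k (n + 1)).toAlgHom

theorem mem_Kid (b : T1Lift.B k (n + 1)) :
    b ∈ Kid k n ↔ T1Lift.ξ k n b = 0 ∧ T1Lift.β k (n + 1) b = 0 := Iff.rfl

theorem Kid_le : Kid k n ≤ IsLocalRing.maximalIdeal (T1Lift.B k (n + 1)) := by
  intro b hb
  rw [Art.mem_maximalIdeal_iff, ← Art.res_app (T1Lift.β k (n + 1)), ((mem_Kid k n b).1 hb).2, map_zero]

/-- the quotient `Q = B_(n+1)/K` -/
noncomputable abbrev Q : ArtFun.Art k k := Art.quot (T1Lift.B k (n + 1)) (Kid k n) (Kid_le k n)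

noncomputable abbrev ψQ : T1Lift.B k (n + 1) ⟶ Q k n := Art.quotMk _ (Kid k n) (Kid_le k n)

noncomputable abbrev pB : Q k n ⟶ T1Lift.B k n :=
  Art.quotFactor (Kid_le k n) (T1Lift.ξ k n) inf_le_left

noncomputable abbrev pA : Q k n ⟶ T1Lift.A k (n + 1) :=
  Art.quotFactor (Kid_le k n) (T1Lift.β k (n + 1)) inf_le_right

theorem ψQ_pB : ψQ k n ≫ pB k n = T1Lift.ξ k n := Art.quotMk_quotFactor _ _ _

theorem ψQ_pA : ψQ k n ≫ pA k n = T1Lift.β k (n + 1) := Art.quotMk_quotFactor _ _ _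

theorem xi_beta : T1Lift.ξ k n ≫ T1Lift.β k n = T1Lift.β k (n + 1) ≫ T1Lift.α k n := by
  apply Art.hom_ext
  apply AlgHom.ext
  intro b
  rfl

theorem isFibreProd_Q : Art.IsFibreProd (pB k n) (pA k n) (T1Lift.β k n) (T1Lift.α k n) where
  w := by
    apply Art.hom_ext
    apply AlgHom.ext
    intro x
    obtain ⟨b, rfl⟩ := Art.quotMk_surjective _ (Kid k n) (Kid_le k n) x
    have h := congrArg (fun f : T1Lift.B k (n + 1) ⟶ T1Lift.A k n => f b) (xi_beta k n)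
    exact h
  inj := by
    intro x₁ x₂ h₁ h₂
    obtain ⟨b₁, rfl⟩ := Art.quotMk_surjective _ (Kid k n) (Kid_le k n) x₁
    obtain ⟨b₂, rfl⟩ := Art.quotMk_surjective _ (Kid k n) (Kid_le k n) x₂
    have h₁' : T1Lift.ξ k n b₁ = T1Lift.ξ k n b₂ := h₁
    have h₂' : T1Lift.β k (n + 1) b₁ = T1Lift.β k (n + 1) b₂ := h₂
    apply Ideal.Quotient.eq.2
    rw [mem_Kid]
    constructor
    · rw [map_sub, sub_eq_zero]
      exact h₁'
    · rw [map_sub, sub_eq_zero]
      exact h₂'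
  surj := by
    intro b a hba
    obtain ⟨c, hc⟩ := αAlg_surjective k n (b : DualNumber (T1Lift.Tr k n)).snd
    let b' : DualNumber (T1Lift.Tr k (n + 1)) := ((a : T1Lift.Tr k (n + 1)), c)
    refine ⟨ψQ k n b', ?_, ?_⟩
    · change T1Lift.dualMap k (T1Lift.αAlg k n) b' = b
      apply TrivSqZeroExt.ext
      · change T1Lift.αAlg k n a = (b : DualNumber (T1Lift.Tr k n)).fst
        exact hba.symm
      · exact hc
    · rfl

theorem alpha_surjective (m : ℕ) : Function.Surjective (T1Lift.α k m) := αAlg_surjective k m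

theorem semismall_alpha (m : ℕ) : Art.IsSemismallExt (T1Lift.α k m) := by
  refine ⟨alpha_surjective k m, ?_⟩
  rw [eq_bot_iff, Ideal.mul_le]
  intro x hx a ha
  rw [Ideal.mem_bot]
  have hx' : T1Lift.resA k (m + 1) x = 0 := (Art.mem_maximalIdeal_iff (T1Lift.A k (m + 1)) x).1 hx
  have ha' : T1Lift.αAlg k m a = 0 := ha
  exact mul_eq_zero_of_res_of_ker k m x a hx' ha'

theorem dual_mul_eq_zero (x j : DualNumber (T1Lift.Tr k (n + 1)))
    (hx : T1Lift.resA k (n + 1) x.fst = 0) (hjf : j.fst = 0) (hjs : T1Lift.αAlg k n j.snd = 0) :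
    x * j = 0 := by
  apply TrivSqZeroExt.ext
  · rw [TrivSqZeroExt.fst_mul, hjf, mul_zero, TrivSqZeroExt.fst_zero]
  · rw [TrivSqZeroExt.snd_mul, hjf, MulOpposite.op_zero, zero_smul, add_zero, smul_eq_mul,
      TrivSqZeroExt.snd_zero]
    exact mul_eq_zero_of_res_of_ker k n _ _ hx hjs

theorem semismall_ψQ : Art.IsSemismallExt (ψQ k n) := by
  refine ⟨Art.quotMk_surjective _ _ _, ?_⟩
  rw [eq_bot_iff, Ideal.mul_le]
  intro x hx j hj
  rw [Ideal.mem_bot]
  have hj' : j ∈ Kid k n := by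
    have h1 : Ideal.Quotient.mk (Kid k n) j = 0 := hj
    exact Ideal.Quotient.eq_zero_iff_mem.1 h1
  obtain ⟨hj1, hj2⟩ := (mem_Kid k n j).1 hj'
  have hx' : T1Lift.resA k (n + 1) (x : DualNumber (T1Lift.Tr k (n + 1))).fst = 0 :=
    (Art.mem_maximalIdeal_iff (T1Lift.B k (n + 1)) x).1 hx
  have hjf : (j : DualNumber (T1Lift.Tr k (n + 1))).fst = 0 := hj2
  have hjs : T1Lift.αAlg k n (j : DualNumber (T1Lift.Tr k (n + 1))).snd = 0 :=
    congrArg TrivSqZeroExt.snd hj1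
  exact dual_mul_eq_zero k n x j hx' hjf hjs

theorem eps_t_pow_mem :
    (T1Lift.ε k (n + 1)) (T1Lift.t k (n + 1 + 1) ^ (n + 1 + 1)) ∈ Kid k n := by
  have hα : (T1Lift.α k (n + 1)) (T1Lift.t k (n + 1 + 1) ^ (n + 1 + 1)) = 0 := by
    change T1Lift.αAlg k (n + 1) (T1Lift.t k (n + 1 + 1) ^ (n + 1 + 1)) = 0
    rw [map_pow, T1Lift.αAlg_t, T1Lift.t_pow]
  rw [mem_Kid]
  constructor
  · have h := congrArg (fun f : T1Lift.A k (n + 1 + 1) ⟶ T1Lift.B k n =>
      f (T1Lift.t k (n + 1 + 1) ^ (n + 1 + 1))) (eps_xi k n)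
    change (T1Lift.ξ k n) ((T1Lift.ε k (n + 1)) (T1Lift.t k (n + 1 + 1) ^ (n + 1 + 1))) =
      (T1Lift.ε k n) ((T1Lift.α k (n + 1)) (T1Lift.t k (n + 1 + 1) ^ (n + 1 + 1))) at h
    rw [h, hα]
    exact map_zero (T1Lift.ε k n).toAlgHom
  · have h := congrArg (fun f : T1Lift.A k (n + 1 + 1) ⟶ T1Lift.A k (n + 1) =>
      f (T1Lift.t k (n + 1 + 1) ^ (n + 1 + 1))) (eps_beta k n)
    change (T1Lift.β k (n + 1)) ((T1Lift.ε k (n + 1)) (T1Lift.t k (n + 1 + 1) ^ (n + 1 + 1))) =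
      (T1Lift.α k (n + 1)) (T1Lift.t k (n + 1 + 1) ^ (n + 1 + 1)) at h
    rw [h, hα]

/-- the image of `t` in `Q` -/
noncomputable abbrev τ : (Q k n).carrier := ψQ k n ((T1Lift.ε k (n + 1)) (T1Lift.t k (n + 1 + 1)))

theorem τ_pow : τ k n ^ (n + 1 + 1) = 0 := by
  have h1 : (ψQ k n).toAlgHom ((T1Lift.ε k (n + 1)).toAlgHom (T1Lift.t k (n + 1 + 1) ^ (n + 1 + 1))) =
      τ k n ^ (n + 1 + 1) :=
    (congrArg (ψQ k n).toAlgHom
      (map_pow (T1Lift.ε k (n + 1)).toAlgHom (T1Lift.t k (n + 1 + 1)) (n + 1 + 1))).trans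
      (map_pow (ψQ k n).toAlgHom _ _)
  rw [← h1]
  exact Ideal.Quotient.eq_zero_iff_mem.2 (eps_t_pow_mem k n)

/-- the algebra map `A_(n+1) → Q`, `t ↦ τ` -/
noncomputable def gAlg : T1Lift.Tr k (n + 1) →ₐ[k] (Q k n).carrier :=
  AdjoinRoot.liftAlgHom _ (Algebra.ofId k (Q k n).carrier) (τ k n)
    (by rw [Polynomial.eval₂_X_pow]; exact τ_pow k n)

theorem gAlg_t : gAlg k n (T1Lift.t k (n + 1)) = τ k n := AdjoinRoot.liftAlgHom_root _ _ _ _

/-- the morphism `g : A_(n+1) ⟶ Q` -/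
noncomputable def gQ : T1Lift.A k (n + 1) ⟶ Q k n :=
  Art.homMk (gAlg k n) (AdjoinRoot.algHom_ext (by
    change (Q k n).res (gAlg k n (T1Lift.t k (n + 1))) = T1Lift.resA k (n + 1) (T1Lift.t k (n + 1))
    rw [gAlg_t, T1Lift.resA_t]
    change (Q k n).res ((ψQ k n) ((T1Lift.ε k (n + 1)) (T1Lift.t k (n + 1 + 1)))) = 0
    rw [Art.res_app, Art.res_app]
    exact T1Lift.resA_t k (n + 1 + 1)))

theorem gQ_t : gQ k n (T1Lift.t k (n + 1)) = τ k n := gAlg_t k n

theorem alpha_gQ : T1Lift.α k (n + 1) ≫ gQ k n = T1Lift.ε k (n + 1) ≫ ψQ k n := by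
  apply Art.hom_ext
  apply AdjoinRoot.algHom_ext
  change gQ k n (T1Lift.αAlg k (n + 1) (T1Lift.t k (n + 1 + 1))) = τ k n
  rw [T1Lift.αAlg_t, gQ_t]

theorem gQ_pB : gQ k n ≫ pB k n = T1Lift.ε k n := by
  apply Art.hom_ext
  apply AdjoinRoot.algHom_ext
  change pB k n (gQ k n (T1Lift.t k (n + 1))) = T1Lift.εAlg k n (T1Lift.t k (n + 1))
  rw [gQ_t]
  have h := congrArg (fun f : T1Lift.A k (n + 1 + 1) ⟶ T1Lift.B k n =>
      f (T1Lift.t k (n + 1 + 1))) (eps_xi k n)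
  change (T1Lift.ξ k n) ((T1Lift.ε k (n + 1)) (T1Lift.t k (n + 1 + 1))) =
      (T1Lift.εAlg k n) ((T1Lift.αAlg k (n + 1)) (T1Lift.t k (n + 1 + 1))) at h
  rw [T1Lift.αAlg_t] at h
  exact h

theorem gQ_pA : gQ k n ≫ pA k n = 𝟙 _ := by
  apply Art.hom_ext
  apply AdjoinRoot.algHom_ext
  change pA k n (gQ k n (T1Lift.t k (n + 1))) = T1Lift.t k (n + 1)
  rw [gQ_t]
  have h := congrArg (fun f : T1Lift.A k (n + 1 + 1) ⟶ T1Lift.A k (n + 1) =>
      f (T1Lift.t k (n + 1 + 1))) (eps_beta k n)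
  change (T1Lift.β k (n + 1)) ((T1Lift.ε k (n + 1)) (T1Lift.t k (n + 1 + 1))) =
      (T1Lift.αAlg k (n + 1)) (T1Lift.t k (n + 1 + 1)) at h
  rw [T1Lift.αAlg_t] at h
  exact h

theorem eps_inj [CharZero k] (a : T1Lift.Tr k (n + 1 + 1)) (ha : T1Lift.αAlg k (n + 1) a = 0)
    (h : T1Lift.εAlg k (n + 1) a = 0) : a = 0 := by
  obtain ⟨c, rfl⟩ := exists_eq_smul_t_pow k (n + 1) a ha
  rw [map_smul, map_pow, T1Lift.εAlg_t] at h
  have h2 := congrArg TrivSqZeroExt.snd h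
  rw [TrivSqZeroExt.snd_smul, TrivSqZeroExt.snd_pow, TrivSqZeroExt.fst_add, TrivSqZeroExt.fst_inl,
    DualNumber.fst_eps, add_zero, TrivSqZeroExt.snd_add, TrivSqZeroExt.snd_inl, DualNumber.snd_eps,
    zero_add, TrivSqZeroExt.snd_zero, Nat.pred_succ, smul_eq_mul, mul_one] at h2
  by_cases hc : c = 0
  · rw [hc, zero_smul]
  · exfalso
    have h3 : ((n + 1 + 1 : ℕ) : k) ≠ 0 := Nat.cast_ne_zero.2 (Nat.succ_ne_zero _)
    have h4 : (c * ((n + 1 + 1 : ℕ) : k)) • T1Lift.t k (n + 1) ^ (n + 1) = 0 := by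
      rw [mul_smul, Nat.cast_smul_eq_nsmul]
      exact h2
    have h5 : T1Lift.t k (n + 1) ^ (n + 1) = 0 := by
      have h6 := congrArg (fun z => (c * ((n + 1 + 1 : ℕ) : k))⁻¹ • z) h4
      simp only [smul_smul, smul_zero] at h6
      rw [inv_mul_cancel₀ (mul_ne_zero hc h3), one_smul] at h6
      exact h6
    exact t_pow_ne_zero k (n + 1) h5

theorem psi_eps_of_ker (j : T1Lift.A k (n + 1 + 1)) (hj : j ∈ RingHom.ker (T1Lift.α k (n + 1)).toAlgHom) :
    (T1Lift.ε k (n + 1)) j ∈ RingHom.ker (ψQ k n).toAlgHom := by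
  have h := congrArg (fun f : T1Lift.A k (n + 1 + 1) ⟶ Q k n => f j) (alpha_gQ k n)
  change gQ k n ((T1Lift.α k (n + 1)) j) = ψQ k n ((T1Lift.ε k (n + 1)) j) at h
  have hj' : (T1Lift.α k (n + 1)) j = 0 := hj
  rw [hj'] at h
  rw [RingHom.mem_ker]
  rw [← h]
  exact map_zero (gQ k n).toAlgHom

/-- the map induced by `ε` on kernels -/
noncomputable def ellK : ↥(RingHom.ker (T1Lift.α k (n + 1)).toAlgHom) →ₗ[k]
    ↥(RingHom.ker (ψQ k n).toAlgHom) where
  toFun j := ⟨(T1Lift.ε k (n + 1)) (j : T1Lift.A k (n + 1 + 1)), psi_eps_of_ker k n j.1 j.2⟩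
  map_add' _ _ := Subtype.ext (map_add (T1Lift.ε k (n + 1)).toAlgHom _ _)
  map_smul' c _ := Subtype.ext (map_smul (T1Lift.ε k (n + 1)).toAlgHom c _)

theorem ellK_apply (j : ↥(RingHom.ker (T1Lift.α k (n + 1)).toAlgHom)) :
    ((ellK k n j : ↥(RingHom.ker (ψQ k n).toAlgHom)) : T1Lift.B k (n + 1)) =
      (T1Lift.ε k (n + 1)) (j : T1Lift.A k (n + 1 + 1)) := rfl

theorem ellK_injective [CharZero k] : Function.Injective (ellK k n) := by
  rw [injective_iff_map_eq_zero]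
  intro j hj
  apply Subtype.ext
  have h1 : (T1Lift.ε k (n + 1)) (j : T1Lift.A k (n + 1 + 1)) = 0 := congrArg Subtype.val hj
  exact eps_inj k n j.1 j.2 h1

end Aux

/-- In the set-valued case, let k be a field of characteristic zero and F a functor on local Artinian
k-algebras with residue field k such that F(k) is one point, F satisfies the Rim–Schlessinger
condition (for every fibre-product square A' ×_A A'' with A'' → A surjective the comparison map F(A'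
×_A A'') → F(A') ×_{F(A)} F(A'') is bijective), and F has an obstruction theory with values in a
k-vector space V which is moreover functorial for every commutative square of surjections whose
kernels are killed by the maximal ideal. Write A_m = k[t]/(t^(m+1)), B_m = A_m[y]/(y²), α : A_(m+1)
→ A_m and ξ : B_(m+1) → B_m for t ↦ t, β : B_m → A_m for y ↦ 0 and ε : A_(m+1) → B_m for t ↦ t + y.
Then an element X ∈ F(A_(n+1)) lifts to F(A_(n+2)) along α if and only if there is Y ∈ F(B_(n+1))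
with F(β) Y = X and F(ξ) Y = F(ε) X, i.e. if and only if the element of the first-order tangent set
T¹(F(α)X / A_n) defined by F(ε) X lies in the image of T¹(X / A_(n+1)). (Stated here for functors
with values in sets; the version for predeformation categories in groupoids satisfying the
Rim–Schlessinger condition specialises to it. The functoriality of the obstruction theory for
arbitrary commutative squares is an explicit hypothesis, pinned through linear maps between the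
kernels that agree with the given ring map.) -/
theorem result (k : Type u) [Field k] [CharZero k]
    (F : ArtFun.Art k k ⥤ Type v) (h0 : ArtFun.H0 F)
    (hRS : ∀ ⦃P A A' A'' : ArtFun.Art k k⦄ (p' : P ⟶ A') (p'' : P ⟶ A'') (f' : A' ⟶ A) (f'' : A'' ⟶ A)
      (h : ArtFun.Art.IsFibreProd p' p'' f' f''), Function.Surjective f'' → Function.Bijective (ArtFun.cmp F h))
    (V : Type u) [AddCommGroup V] [Module k V] (O : ArtFun.ObsTheory F V)
    (hnat : ∀ ⦃A' A C' C : ArtFun.Art k k⦄ (φ : A' ⟶ A) (hφ : ArtFun.Art.IsSemismallExt φ)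
      (ψ : C' ⟶ C) (hψ : ArtFun.Art.IsSemismallExt ψ) (g' : A' ⟶ C') (g : A ⟶ C), φ ≫ g = g' ≫ ψ →
      ∀ (ℓ : ↥(RingHom.ker φ.toAlgHom) →ₗ[k] ↥(RingHom.ker ψ.toAlgHom)),
        (∀ j : ↥(RingHom.ker φ.toAlgHom), ((ℓ j : ↥(RingHom.ker ψ.toAlgHom)) : C') = g' (j : A')) →
        ∀ u : F.obj A, O.obs ψ hψ (F.map g u) = LinearMap.lTensor V ℓ (O.obs φ hφ u))
    (n : ℕ) (X : F.obj (T1Lift.A k (n + 1))) :
    (∃ X' : F.obj (T1Lift.A k (n + 2)), F.map (T1Lift.α k (n + 1)) X' = X) ↔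
      ∃ Y : F.obj (T1Lift.B k (n + 1)), F.map (T1Lift.β k (n + 1)) Y = X ∧
        F.map (T1Lift.ξ k n) Y = F.map (T1Lift.ε k n) X := by
  constructor
  · rintro ⟨X', hX'⟩
    refine ⟨F.map (T1Lift.ε k (n + 1)) X', ?_, ?_⟩
    · rw [← fmap_comp, eps_beta, hX']
    · rw [← fmap_comp, eps_xi, fmap_comp, hX']
  · rintro ⟨Y, hYβ, hYξ⟩
    -- `F(ψ) Y = F(g) X` by the fibre product property
    have hYX : F.map (ψQ k n) Y = F.map (gQ k n) X := by
      apply (hRS (pB k n) (pA k n) (T1Lift.β k n) (T1Lift.α k n) (isFibreProd_Q k n)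
        (alpha_surjective k n)).1
      apply ArtFun.FibProd.ext
      · change F.map (pB k n) (F.map (ψQ k n) Y) = F.map (pB k n) (F.map (gQ k n) X)
        rw [← fmap_comp, ← fmap_comp, ψQ_pB, gQ_pB]
        exact hYξ
      · change F.map (pA k n) (F.map (ψQ k n) Y) = F.map (pA k n) (F.map (gQ k n) X)
        rw [← fmap_comp, ← fmap_comp, ψQ_pA, gQ_pA, hYβ]
        rw [F.map_id]
        rfl
    have hobsQ : O.obs (ψQ k n) (semismall_ψQ k n) (F.map (gQ k n) X) = 0 :=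
      (O.obs_eq_zero_iff _ _ _).2 ⟨Y, hYX⟩
    have hn := hnat (T1Lift.α k (n + 1)) (semismall_alpha k (n + 1)) (ψQ k n) (semismall_ψQ k n)
      (T1Lift.ε k (n + 1)) (gQ k n) (alpha_gQ k n) (ellK k n) (ellK_apply k n) X
    rw [hobsQ] at hn
    have hinj : Function.Injective (LinearMap.lTensor V (ellK k n)) :=
      Module.Flat.lTensor_preserves_injective_linearMap _ (ellK_injective k n)
    have hobs : O.obs (T1Lift.α k (n + 1)) (semismall_alpha k (n + 1)) X = 0 := by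
      apply hinj
      rw [← hn, map_zero]
    exact (O.obs_eq_zero_iff _ _ _).1 hobs

end Groth.Agent.S18187
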