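import Groth.Statements.S18188
import Mathlib

set_option autoImplicit false
universe u
open OrbRR

namespace Groth.Agent.S18188.Aux

set_option autoImplicit false

open Finset

variable {K : Type u} [Field K]

/-- geometric sum of a nontrivial `N`-th root of unity vanishes -/
theorem geom_zero {z : K} {N : ℕ} (hz1 : z ≠ 1) (hzN : z ^ N = 1) :
    ∑ i ∈ range N, z ^ i = 0 := by
  have h := geom_sum_mul z N
  rw [hzN, sub_self] at h
  exact (mul_eq_zero.mp h).resolve_right (sub_ne_zero.mpr hz1)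

theorem sum_range_eq_Ioo (N : ℕ) (hN : 0 < N) (F : ℕ → K) :
    ∑ i ∈ range N, F i = F 0 + ∑ i ∈ Ioo 0 N, F i := by
  rw [← Nat.Ico_zero_eq_range, ← Finset.Ioo_insert_left hN, Finset.sum_insert (by simp)]

/-- the quadratic function -/
noncomputable def fq (c : K) (j : ℕ) : K := (j : K) * ((j : K) - c) / 2 + (c ^ 2 - 1) / 12

theorem sum_fq (h6 : (6 : K) ≠ 0) (c : K) (n : ℕ) :
    ∑ j ∈ range n, fq c j =
      ((n : K) - 1) * n * (2 * n - 1) / 12 - c * n * ((n : K) - 1) / 4 + n * (c ^ 2 - 1) / 12 := by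
  have h2 : (2 : K) ≠ 0 := fun h => h6 (by rw [show (6 : K) = 2 * 3 by norm_num, h, zero_mul])
  have h3 : (3 : K) ≠ 0 := fun h => h6 (by rw [show (6 : K) = 2 * 3 by norm_num, h, mul_zero])
  have h12 : (12 : K) ≠ 0 := by
    rw [show (12 : K) = 2 * 6 by norm_num]; exact mul_ne_zero h2 h6
  have h4 : (4 : K) ≠ 0 := by
    rw [show (4 : K) = 2 * 2 by norm_num]; exact mul_ne_zero h2 h2
  induction n with
  | zero => simp
  | succ n ih =>
    rw [Finset.sum_range_succ, ih, fq]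
    push_cast
    field_simp
    ring

theorem sum_fq_self (h6 : (6 : K) ≠ 0) (N : ℕ) : ∑ j ∈ range N, fq (N : K) j = 0 := by
  have h2 : (2 : K) ≠ 0 := fun h => h6 (by rw [show (6 : K) = 2 * 3 by norm_num, h, zero_mul])
  have h12 : (12 : K) ≠ 0 := by
    rw [show (12 : K) = 2 * 6 by norm_num]; exact mul_ne_zero h2 h6
  have h4 : (4 : K) ≠ 0 := by
    rw [show (4 : K) = 2 * 2 by norm_num]; exact mul_ne_zero h2 h2
  rw [sum_fq h6]
  field_simp
  ring

section Main
variable (ζ : K) (N : ℕ)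

/-- the weights -/
noncomputable def gw (i : ℕ) : K := (2 - ζ ^ i - (ζ ^ i)⁻¹)⁻¹

/-- the Fourier sum -/
noncomputable def hs (j : ℕ) : K := ∑ i ∈ Ioo 0 N, ζ ^ (i * j) * gw ζ i

variable {ζ N}

theorem gw_spec (hζ : IsPrimitiveRoot ζ N) {i : ℕ} (hi : i ∈ Ioo 0 N) :
    (ζ ^ i - 2 + (ζ ^ i)⁻¹) * gw ζ i = -1 := by
  rw [Finset.mem_Ioo] at hi
  have hz0 : ζ ^ i ≠ 0 := by
    intro h
    have := hζ.pow_eq_one
    have hζ0 : ζ = 0 := by
      by_contra hne; exact pow_ne_zero i hne h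
    rw [hζ0, zero_pow (by omega)] at this
    exact zero_ne_one this
  have hz1 : ζ ^ i ≠ 1 := hζ.pow_ne_one_of_pos_of_lt (by omega) hi.2
  have hden : 2 - ζ ^ i - (ζ ^ i)⁻¹ ≠ 0 := by
    intro h
    have : (ζ ^ i - 1) ^ 2 = 0 := by
      have h' := congrArg (fun t => t * ζ ^ i) h
      simp only [zero_mul, sub_mul, inv_mul_cancel₀ hz0] at h'
      linear_combination -h'
    exact hz1 (sub_eq_zero.mp (pow_eq_zero_iff (by norm_num) |>.mp this))
  rw [gw]
  have : ζ ^ i - 2 + (ζ ^ i)⁻¹ = -(2 - ζ ^ i - (ζ ^ i)⁻¹) := by ring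
  rw [this, neg_mul, mul_inv_cancel₀ hden]

theorem hs_second_diff (hζ : IsPrimitiveRoot ζ N) (j : ℕ) :
    hs ζ N (j + 2) - 2 * hs ζ N (j + 1) + hs ζ N j = - ∑ i ∈ Ioo 0 N, ζ ^ (i * (j + 1)) := by
  simp only [hs, Finset.mul_sum, ← Finset.sum_sub_distrib, ← Finset.sum_add_distrib,
    ← Finset.sum_neg_distrib]
  apply Finset.sum_congr rfl
  intro i hi
  have hspec := gw_spec hζ hi
  have hz0 : ζ ^ i ≠ 0 :=
    pow_ne_zero i (hζ.ne_zero (by have := Finset.mem_Ioo.mp hi; omega))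
  have e1 : ζ ^ (i * (j + 2)) = ζ ^ (i * (j + 1)) * ζ ^ i := by
    rw [← pow_add]; congr 1
  have e2 : ζ ^ (i * j) = ζ ^ (i * (j + 1)) * (ζ ^ i)⁻¹ := by
    have : ζ ^ (i * (j + 1)) = ζ ^ (i * j) * ζ ^ i := by rw [← pow_add, mul_add, mul_one]
    rw [this, mul_assoc, mul_inv_cancel₀ hz0, mul_one]
  rw [e1, e2]
  linear_combination ζ ^ (i * (j + 1)) * hspec

theorem sum_Ioo_pow (hζ : IsPrimitiveRoot ζ N) (hN : 0 < N) {m : ℕ} (hm : ¬ N ∣ m) :
    ∑ i ∈ Ioo 0 N, ζ ^ (i * m) = -1 := by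
  have h1 : ζ ^ m ≠ 1 := fun h => hm ((hζ.pow_eq_one_iff_dvd m).mp h)
  have h2 : (ζ ^ m) ^ N = 1 := by rw [← pow_mul, mul_comm, pow_mul, hζ.pow_eq_one, one_pow]
  have h3 := geom_zero h1 h2
  rw [sum_range_eq_Ioo N hN, pow_zero] at h3
  have : ∑ i ∈ Ioo 0 N, ζ ^ (i * m) = ∑ i ∈ Ioo 0 N, (ζ ^ m) ^ i := by
    apply Finset.sum_congr rfl; intro i _; rw [← pow_mul, mul_comm]
  rw [this]
  linear_combination h3

theorem hs_N (hζ : IsPrimitiveRoot ζ N) : hs ζ N N = hs ζ N 0 := by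
  simp only [hs]
  apply Finset.sum_congr rfl
  intro i _
  rw [mul_comm i N, pow_mul, hζ.pow_eq_one, one_pow, mul_zero, pow_zero]

theorem sum_hs (hζ : IsPrimitiveRoot ζ N) : ∑ j ∈ range N, hs ζ N j = 0 := by
  simp only [hs]
  rw [Finset.sum_comm]
  apply Finset.sum_eq_zero
  intro i hi
  rw [← Finset.sum_mul]
  have hi' := Finset.mem_Ioo.mp hi
  have h1 : ζ ^ i ≠ 1 := hζ.pow_ne_one_of_pos_of_lt (by omega) hi'.2
  have h2 : (ζ ^ i) ^ N = 1 := by rw [← pow_mul, mul_comm, pow_mul, hζ.pow_eq_one, one_pow]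
  have h3 := geom_zero h1 h2
  have : ∑ j ∈ range N, ζ ^ (i * j) = ∑ j ∈ range N, (ζ ^ i) ^ j := by
    apply Finset.sum_congr rfl; intro j _; rw [← pow_mul]
  rw [this, h3, zero_mul]

end Main

theorem fq_second_diff (h6 : (6 : K) ≠ 0) (c : K) (j : ℕ) :
    fq c (j + 2) - 2 * fq c (j + 1) + fq c j = 1 := by
  have h2 : (2 : K) ≠ 0 := fun h => h6 (by rw [show (6 : K) = 2 * 3 by norm_num, h, zero_mul])
  have h12 : (12 : K) ≠ 0 := by
    rw [show (12 : K) = 2 * 6 by norm_num]; exact mul_ne_zero h2 h6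
  simp only [fq]
  push_cast
  field_simp
  ring

theorem main (h6 : (6 : K) ≠ 0) (N j : ℕ) (hj : j < N) (ζ : K) (hζ : IsPrimitiveRoot ζ N) :
    ∑ i ∈ Finset.Ioo 0 N, ζ ^ (i * j) / (2 - ζ ^ i - (ζ ^ i)⁻¹) =
      (j : K) * ((j : K) - (N : K)) / 2 + ((N : K) ^ 2 - 1) / 12 := by
  have hN : 0 < N := by omega
  have : NeZero N := ⟨by omega⟩
  have hNK : (N : K) ≠ 0 := (hζ.neZero').ne
  set e : ℕ → K := fun j => hs ζ N j - fq (N : K) j with he
  have hrec : ∀ j, j + 2 ≤ N → e (j + 2) - 2 * e (j + 1) + e j = 0 := by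
    intro j hj2
    have h1 := hs_second_diff hζ j
    rw [sum_Ioo_pow hζ hN (m := j + 1)
      (by intro hd; have := Nat.le_of_dvd (by omega) hd; omega), neg_neg] at h1
    have h2 := fq_second_diff h6 (N : K) j
    simp only [he]
    linear_combination h1 - h2
  have hlin : ∀ j, j + 1 ≤ N → (e j = e 0 + j * (e 1 - e 0) ∧
      e (j + 1) = e 0 + ((j : K) + 1) * (e 1 - e 0)) := by
    intro j
    induction j with
    | zero => intro _; constructor <;> simp
    | succ j ih =>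
      intro hj1
      obtain ⟨h0, h1⟩ := ih (by omega)
      refine ⟨by rw [h1]; push_cast; ring, ?_⟩
      have := hrec j (by omega)
      push_cast
      linear_combination this + 2 * h1 - h0
  have heN : e N = e 0 := by
    simp only [he, hs_N hζ, fq]
    push_cast
    ring
  have he1 : e 1 = e 0 := by
    obtain ⟨_, h1⟩ := hlin (N - 1) (by omega)
    rw [Nat.sub_add_cancel hN, heN] at h1
    have hc : ((N - 1 : ℕ) : K) + 1 = N := by
      rw [Nat.cast_sub hN]; push_cast; ring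
    rw [hc] at h1
    have : (N : K) * (e 1 - e 0) = 0 := by linear_combination -h1
    rcases mul_eq_zero.mp this with h | h
    · exact absurd h hNK
    · exact sub_eq_zero.mp h
  have hconst : ∀ j, j < N → e j = e 0 := by
    intro j hj
    obtain ⟨h0, _⟩ := hlin j (by omega)
    rw [h0, he1, sub_self, mul_zero, add_zero]
  have hsum : ∑ j ∈ range N, e j = 0 := by
    simp only [he, Finset.sum_sub_distrib, sum_hs hζ, sum_fq_self h6, sub_zero]
  have he0 : e 0 = 0 := by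
    have : ∑ j ∈ range N, e j = N * e 0 := by
      rw [Finset.sum_congr rfl (fun j hj => hconst j (Finset.mem_range.mp hj))]
      simp
    rw [this] at hsum
    exact (mul_eq_zero.mp hsum).resolve_left hNK
  have hfinal := hconst j hj
  rw [he0] at hfinal
  have : hs ζ N j = fq (N : K) j := sub_eq_zero.mp hfinal
  simp only [hs, gw, fq] at this
  simp only [div_eq_mul_inv] at this ⊢
  exact this

end Groth.Agent.S18188.Aux

namespace Groth.Agent.S18188

/-- Let K be a field in which 6 ≠ 0, let j < N be natural numbers (so N ≥ 1), and let ζ ∈ K be a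
primitive N-th root of unity. Then the sum over i = 1, …, N − 1 of ζ^{ij} / (2 − ζ^i − ζ^{−i})
equals j(j − N)/2 + (N² − 1)/12. (The published setting is characteristic zero; the identity is
stated here over any field of characteristic different from 2 and 3, where the published proof
applies unchanged: a field containing a primitive N-th root of unity has characteristic prime to N,
and each denominator 2 − ζ^i − ζ^{−i} = −(1 − ζ^i)²/ζ^i with 0 < i < N is nonzero. In
characteristics 2 and 3 the right-hand side has no meaning.) -/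
theorem result (K : Type u) [Field K] (h6 : (6 : K) ≠ 0)
    (N j : ℕ) (hj : j < N) (ζ : K) (hζ : IsPrimitiveRoot ζ N) :
    ∑ i ∈ Finset.Ioo 0 N, ζ ^ (i * j) / (2 - ζ ^ i - (ζ ^ i)⁻¹) =
      (j : K) * ((j : K) - (N : K)) / 2 + ((N : K) ^ 2 - 1) / 12 := by
  exact Aux.main h6 N j hj ζ hζ

end Groth.Agent.S18188
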