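import Groth.Statements.S18189
import Groth.Agent.S18188

set_option autoImplicit false
open OrbRR

namespace Groth.Agent.S18189.Aux

set_option autoImplicit false

open Finset

/-- the weights are nonnegative reals -/
theorem weight_real (ζ : ℂ) (N : ℕ) (hN : 0 < N) (hζ : IsPrimitiveRoot ζ N) (k : ℕ) :
    ∃ r : ℝ, 0 ≤ r ∧ (2 - ζ ^ k - (ζ ^ k)⁻¹)⁻¹ = (r : ℂ) := by
  set z := ζ ^ k with hz
  have hnorm : ‖z‖ = 1 := by
    refine Complex.norm_eq_one_of_pow_eq_one (n := N) ?_ (by omega)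
    rw [hz, ← pow_mul, mul_comm, pow_mul, hζ.pow_eq_one, one_pow]
  have hinv : z⁻¹ = (starRingEnd ℂ) z := Complex.inv_eq_conj hnorm
  have hden : 2 - z - z⁻¹ = ((2 - 2 * z.re : ℝ) : ℂ) := by
    rw [hinv]
    have := Complex.add_conj z
    push_cast at this ⊢
    linear_combination -this
  refine ⟨(2 - 2 * z.re)⁻¹, ?_, ?_⟩
  · have : z.re ≤ 1 := hnorm ▸ Complex.re_le_norm z
    exact inv_nonneg.mpr (by linarith)
  · rw [hden, Complex.ofReal_inv]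

/-- orthogonality -/
theorem geom_ind (ζ : ℂ) (N : ℕ) (hN : 0 < N) (hζ : IsPrimitiveRoot ζ N) (l : ℕ) :
    (∑ i ∈ range N, ζ ^ (l * i)) / (N : ℂ) = if N ∣ l then 1 else 0 := by
  have hNC : (N : ℂ) ≠ 0 := by exact_mod_cast (by omega : N ≠ 0)
  split_ifs with h
  · obtain ⟨c, rfl⟩ := h
    have : ∀ i ∈ range N, ζ ^ (N * c * i) = 1 := by
      intro i _
      rw [mul_assoc, pow_mul, hζ.pow_eq_one, one_pow]
    rw [Finset.sum_congr rfl this]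
    simp [hNC]
  · have h1 : ζ ^ l ≠ 1 := fun h1 => h ((hζ.pow_eq_one_iff_dvd l).mp h1)
    have h2 : (ζ ^ l) ^ N = 1 := by rw [← pow_mul, mul_comm, pow_mul, hζ.pow_eq_one, one_pow]
    have h3 := Groth.Agent.S18188.Aux.geom_zero h1 h2
    have : ∑ i ∈ range N, ζ ^ (l * i) = ∑ i ∈ range N, (ζ ^ l) ^ i := by
      apply Finset.sum_congr rfl; intro i _; rw [← pow_mul]
    rw [this, h3, zero_div]

theorem main (N : ℕ) (hN : 0 < N) (ζ : ℂ)
    (hζ : IsPrimitiveRoot ζ N) (m : ℕ) :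
    ∃ r : ℝ, 0 ≤ r ∧ (∑ i ∈ Finset.range N,
        ((i : ℂ) * ((i : ℂ) - (N : ℂ)) / 2 + ((N : ℂ) ^ 2 - 1) / 12) / (N : ℂ) * ζ ^ (m * i)) = (r : ℂ) := by
  have h6 : (6 : ℂ) ≠ 0 := by norm_num
  choose w hw0 hw using weight_real ζ N hN hζ
  have step1 : ∀ i ∈ range N, ((i : ℂ) * ((i : ℂ) - (N : ℂ)) / 2 + ((N : ℂ) ^ 2 - 1) / 12) / (N : ℂ) *
      ζ ^ (m * i) = ∑ k ∈ Ioo 0 N, (w k : ℂ) * (ζ ^ ((k + m) * i) / (N : ℂ)) := by
    intro i hi
    rw [← Groth.Agent.S18188.result ℂ h6 N i (Finset.mem_range.mp hi) ζ hζ]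
    rw [Finset.sum_div, Finset.sum_mul]
    apply Finset.sum_congr rfl
    intro k _
    rw [div_eq_mul_inv (ζ ^ (k * i)), hw k, add_mul, pow_add]
    ring
  rw [Finset.sum_congr rfl step1, Finset.sum_comm]
  have step2 : ∀ k ∈ Ioo 0 N, ∑ i ∈ range N, (w k : ℂ) * (ζ ^ ((k + m) * i) / (N : ℂ)) =
      ((w k * (if N ∣ k + m then 1 else 0) : ℝ) : ℂ) := by
    intro k _
    rw [← Finset.mul_sum, ← Finset.sum_div, geom_ind ζ N hN hζ (k + m)]
    split_ifs <;> simp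
  rw [Finset.sum_congr rfl step2, ← Complex.ofReal_sum]
  refine ⟨_, ?_, rfl⟩
  apply Finset.sum_nonneg
  intro k _
  apply mul_nonneg (hw0 k)
  split_ifs <;> norm_num

end Groth.Agent.S18189.Aux

namespace Groth.Agent.S18189

/-- Let N ≥ 1 be a natural number, let ζ ∈ ℂ be a primitive N-th root of unity, and put f(i) = i(i −
N)/2 + (N² − 1)/12 for 0 ≤ i < N. For every natural number m the complex number ε_m = (1/N)
∑_{i=0}^{N−1} f(i) ζ^{mi}, an eigenvalue of the symmetric circulant N × N matrix with (i, j) entry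
f(j − i)/N, is real and nonnegative. -/
theorem result (N : ℕ) (hN : 0 < N) (ζ : ℂ)
    (hζ : IsPrimitiveRoot ζ N) (m : ℕ) :
    (∑ i ∈ Finset.range N,
        ((i : ℂ) * ((i : ℂ) - (N : ℂ)) / 2 + ((N : ℂ) ^ 2 - 1) / 12) / (N : ℂ) * ζ ^ (m * i)).im = 0 ∧
    0 ≤ (∑ i ∈ Finset.range N,
        ((i : ℂ) * ((i : ℂ) - (N : ℂ)) / 2 + ((N : ℂ) ^ 2 - 1) / 12) / (N : ℂ) * ζ ^ (m * i)).re := by
  obtain ⟨r, hr0, hr⟩ := Aux.main N hN ζ hζ m
  rw [hr]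
  exact ⟨Complex.ofReal_im r, by rw [Complex.ofReal_re]; exact hr0⟩

end Groth.Agent.S18189
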