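import Groth.Statements.S18190
import Groth.Agent.S18189

set_option autoImplicit false
open OrbRR

namespace Groth.Agent.S18190.Aux

set_option autoImplicit false

open Finset

theorem pow_sub_val (N : ℕ) [NeZero N] (u : ℂ) (hu : u ^ N = 1) (a b : ZMod N) :
    u ^ (b - a).val = u ^ b.val * (starRingEnd ℂ) (u ^ a.val) := by
  have hN : N ≠ 0 := NeZero.ne N
  have hnorm : ‖u ^ a.val‖ = 1 := by
    refine Complex.norm_eq_one_of_pow_eq_one (n := N) ?_ hN
    rw [← pow_mul, mul_comm, pow_mul, hu, one_pow]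
  rw [← Complex.inv_eq_conj hnorm]
  have hne : u ^ a.val ≠ 0 := by
    intro h; rw [h, norm_zero] at hnorm; exact zero_ne_one hnorm
  rw [eq_mul_inv_iff_mul_eq₀ hne, ← pow_add]
  have hcast : (((b - a).val + a.val : ℕ) : ZMod N) = ((b.val : ℕ) : ZMod N) := by
    push_cast
    rw [ZMod.natCast_zmod_val, ZMod.natCast_zmod_val, ZMod.natCast_zmod_val]
    ring
  have hmod := (ZMod.natCast_eq_natCast_iff' _ _ _).mp hcast
  rw [pow_eq_pow_mod _ hu, hmod, ← pow_eq_pow_mod _ hu]

theorem entry_eq (N : ℕ) [NeZero N] (ζ : ℂ) (hζ : IsPrimitiveRoot ζ N) (w : ℕ → ℝ)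
    (hw : ∀ k, (2 - ζ ^ k - (ζ ^ k)⁻¹)⁻¹ = (w k : ℂ)) (a b : ZMod N) :
    ((((((b - a).val : ℝ) * (((b - a).val : ℝ) - (N : ℝ))) / 2 + ((N : ℝ) ^ 2 - 1) / 12) / (N : ℝ) : ℝ) : ℂ)
      = (∑ k ∈ Ioo 0 N, (w k : ℂ) * (ζ ^ (k * b.val) * (starRingEnd ℂ) (ζ ^ (k * a.val)))) / (N : ℂ) := by
  have h6 : (6 : ℂ) ≠ 0 := by norm_num
  have := Groth.Agent.S18188.result ℂ h6 N (b - a).val (ZMod.val_lt _) ζ hζ
  push_cast
  rw [← this]
  congr 1
  apply Finset.sum_congr rfl
  intro k _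
  have hu : (ζ ^ k) ^ N = 1 := by rw [← pow_mul, mul_comm, pow_mul, hζ.pow_eq_one, one_pow]
  rw [div_eq_mul_inv, hw k, pow_mul, pow_sub_val N (ζ ^ k) hu a b, ← pow_mul, ← pow_mul]
  ring

theorem main (N : ℕ) [NeZero N] :
    (Matrix.of fun i j : ZMod N =>
        ((((j - i).val : ℝ) * (((j - i).val : ℝ) - (N : ℝ))) / 2 + ((N : ℝ) ^ 2 - 1) / 12) / (N : ℝ)).PosSemidef := by
  have hN : N ≠ 0 := NeZero.ne N
  have hNpos : 0 < N := Nat.pos_of_ne_zero hN
  set ζ : ℂ := Complex.exp (2 * Real.pi * Complex.I / N) with hζdef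
  have hζ : IsPrimitiveRoot ζ N := Complex.isPrimitiveRoot_exp N hN
  choose w hw0 hw using Groth.Agent.S18189.Aux.weight_real ζ N hNpos hζ
  have hentry := entry_eq N ζ hζ w hw
  set M : Matrix (ZMod N) (ZMod N) ℝ := Matrix.of fun i j : ZMod N =>
        ((((j - i).val : ℝ) * (((j - i).val : ℝ) - (N : ℝ))) / 2 + ((N : ℝ) ^ 2 - 1) / 12) / (N : ℝ)
    with hM
  have hMe : ∀ a b, ((M a b : ℝ) : ℂ) =
      (∑ k ∈ Ioo 0 N, (w k : ℂ) * (ζ ^ (k * b.val) * (starRingEnd ℂ) (ζ ^ (k * a.val)))) / (N : ℂ) := by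
    intro a b
    exact hentry a b
  apply Matrix.PosSemidef.of_dotProduct_mulVec_nonneg
  · -- symmetric
    ext a b
    change star (M b a) = M a b
    rw [star_trivial]
    apply Complex.ofReal_injective
    have h1 : ((M b a : ℝ) : ℂ) = (starRingEnd ℂ) ((M b a : ℝ) : ℂ) := (Complex.conj_ofReal _).symm
    rw [h1, hMe b a, hMe a b, map_div₀, map_sum, Complex.conj_natCast]
    congr 1
    apply Finset.sum_congr rfl
    intro k _
    rw [map_mul, map_mul, Complex.conj_ofReal, Complex.conj_conj]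
    ring
  · intro x
    set S : ℕ → ℂ := fun k => ∑ b : ZMod N, (x b : ℂ) * ζ ^ (k * b.val) with hS
    have hR : ∀ k, ((w k * Complex.normSq (S k) / N : ℝ) : ℂ) =
        ∑ a : ZMod N, ∑ b : ZMod N, (x a : ℂ) *
          ((w k : ℂ) * (ζ ^ (k * b.val) * (starRingEnd ℂ) (ζ ^ (k * a.val))) / (N : ℂ)) * (x b : ℂ) := by
      intro k
      have h1 : ((Complex.normSq (S k) : ℝ) : ℂ) = S k * (starRingEnd ℂ) (S k) :=
        (Complex.mul_conj (S k)).symm
      have h2 : (starRingEnd ℂ) (S k) =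
          ∑ a : ZMod N, (x a : ℂ) * (starRingEnd ℂ) (ζ ^ (k * a.val)) := by
        simp only [hS, map_sum, map_mul, Complex.conj_ofReal]
      push_cast
      rw [h1, h2]
      simp only [hS]
      rw [Finset.sum_mul_sum, Finset.mul_sum, Finset.sum_div, Finset.sum_comm]
      apply Finset.sum_congr rfl
      intro a _
      rw [Finset.mul_sum, Finset.sum_div]
      apply Finset.sum_congr rfl
      intro b _
      ring
    have key : ((star x ⬝ᵥ (M.mulVec x) : ℝ) : ℂ) =
        ((∑ k ∈ Ioo 0 N, w k * Complex.normSq (S k) / N : ℝ) : ℂ) := by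
      rw [Complex.ofReal_sum, Finset.sum_congr rfl (fun k _ => hR k)]
      simp only [dotProduct, Matrix.mulVec, star_trivial, Pi.star_apply]
      push_cast
      simp only [hMe]
      simp only [Finset.sum_div, Finset.sum_mul, Finset.mul_sum]
      conv_rhs => rw [Finset.sum_comm]
      apply Finset.sum_congr rfl
      intro a _
      conv_rhs => rw [Finset.sum_comm]
      apply Finset.sum_congr rfl
      intro b _
      apply Finset.sum_congr rfl
      intro k _
      ring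
    have hnn : 0 ≤ ∑ k ∈ Ioo 0 N, w k * Complex.normSq (S k) / N := by
      apply Finset.sum_nonneg
      intro k _
      exact div_nonneg (mul_nonneg (hw0 k) (Complex.normSq_nonneg _)) (Nat.cast_nonneg _)
    rw [Complex.ofReal_injective key]
    exact hnn

end Groth.Agent.S18190.Aux

namespace Groth.Agent.S18190

/-- Let N ≥ 1 and let f : ℤ/Nℤ → ℚ be f(x) = x(x − N)/2 + (N² − 1)/12, where x is read as its
representative with 0 ≤ x < N. The real N × N matrix indexed by ℤ/Nℤ whose (i, j) entry is f(j −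
i)/N, a symmetric circulant matrix, is positive semidefinite. -/
theorem result (N : ℕ) [NeZero N] :
    (Matrix.of fun i j : ZMod N =>
        ((((j - i).val : ℝ) * (((j - i).val : ℝ) - (N : ℝ))) / 2 + ((N : ℝ) ^ 2 - 1) / 12) / (N : ℝ)).PosSemidef := by
  exact Aux.main N

end Groth.Agent.S18190
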