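import Groth.Statements.S18247
import Mathlib

set_option autoImplicit false
universe u
open W4c5m1nsnscurves
open Curves

namespace Groth.Agent.S18247

open MvPolynomial in
/-- Values of the generators of `U_5` in the polynomial ring on six variables. -/
noncomputable def gval : UGen 2 → MvPolynomial (Fin 6) ℤ
  | .a => X 0
  | .c => (X 0 + X 1 + X 2 + X 3 + X 4 - X 5) * X 3 + X 5 * X 1 - X 1 * X 3
  | .cb => (X 0 + X 1 + X 2 + X 3 + X 4 - X 5) * X 2 + X 5 * X 4 - X 2 * X 4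
  | .ci i => if i = 0 then X 1 else X 3
  | .cbi i => if i = 0 then X 2 else X 4
  | .cij i _ _ => if i = 0 then X 5 else (X 0 + X 1 + X 2 + X 3 + X 4 - X 5)

open MvPolynomial in
theorem gval_rel : ∀ p ∈ URel ℤ 2, aeval gval p = 0 := by
  intro p hp
  simp only [URel, Set.mem_union, Set.mem_range] at hp
  rcases hp with ((⟨⟨⟨i, j⟩, h⟩, rfl⟩ | ⟨⟨⟨i, j⟩, h⟩, rfl⟩) | ⟨⟨⟨i, j⟩, h⟩, rfl⟩) | ⟨⟨⟨i, j, k⟩, h⟩, rfl⟩
  · fin_cases i <;> fin_cases j <;> first | exact absurd rfl h | (simp [gval]; try ring)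
  · fin_cases i <;> fin_cases j <;> first | exact absurd rfl h | (simp [gval]; try ring)
  · fin_cases i <;> fin_cases j <;> first | exact absurd rfl h | (simp [gval]; try ring)
  · exfalso
    obtain ⟨h1, h2, h3⟩ := h
    fin_cases i <;> fin_cases j <;> fin_cases k <;> simp at h1 h2 h3

/-- Case n = 5: the coordinate ring of U_5 over ℤ (m = 2 indices, standing for the points 4 and 5;
generators a, c, c̄, c_4, c̄_4, c_5, c̄_5, c_{45}, c_{54} with the linear and the two quadratic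
relations for the one pair of indices, and no triple) is the polynomial ring on a, c_4, c̄_4, c_5,
c̄_5, c_{45}: the ℤ-algebra map from the polynomial ring in six variables sending the variables to
these six classes, in this order, is bijective. -/
theorem result :
    Function.Bijective (MvPolynomial.aeval (R := ℤ) (S₁ := URing ℤ 2)
      ![ugen ℤ 2 .a, ugen ℤ 2 (.ci 0), ugen ℤ 2 (.cbi 0), ugen ℤ 2 (.ci 1), ugen ℤ 2 (.cbi 1),
        ugen ℤ 2 (.cij 0 1 Fin.zero_ne_one)]) := by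
  classical
  set φ := MvPolynomial.aeval (R := ℤ) (S₁ := URing ℤ 2)
      ![ugen ℤ 2 .a, ugen ℤ 2 (.ci 0), ugen ℤ 2 (.cbi 0), ugen ℤ 2 (.ci 1), ugen ℤ 2 (.cbi 1),
        ugen ℤ 2 (.cij 0 1 Fin.zero_ne_one)] with hφ
  let ψ : URing ℤ 2 →+* MvPolynomial (Fin 6) ℤ :=
    Ideal.Quotient.lift _ (MvPolynomial.aeval gval).toRingHom (fun p hp =>
      (Ideal.span_le.mpr (fun p hp => gval_rel p hp) :
        Ideal.span (URel ℤ 2) ≤ RingHom.ker (MvPolynomial.aeval gval).toRingHom) hp)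
  have hψ : ∀ g : UGen 2, ψ (ugen ℤ 2 g) = gval g := by
    intro g
    simp [ψ, ugen]
  -- relations in `URing ℤ 2`
  have hrel : ∀ p ∈ URel ℤ 2, Ideal.Quotient.mk (Ideal.span (URel ℤ 2)) p = 0 := fun p hp =>
    Ideal.Quotient.eq_zero_iff_mem.mpr (Ideal.subset_span hp)
  have hlin : ugen ℤ 2 (.cij 0 1 Fin.zero_ne_one) + ugen ℤ 2 (.cij 1 0 Fin.zero_ne_one.symm) =
      ugen ℤ 2 .a + ugen ℤ 2 (.ci 0) + ugen ℤ 2 (.cbi 0) + ugen ℤ 2 (.ci 1) + ugen ℤ 2 (.cbi 1) := by
    have := hrel _ (Or.inl (Or.inl (Or.inl ⟨⟨(0, 1), Fin.zero_ne_one⟩, rfl⟩)))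
    simp only [map_sub, map_add] at this
    exact sub_eq_zero.mp this
  have hq1 : ugen ℤ 2 (.cij 1 0 Fin.zero_ne_one.symm) * ugen ℤ 2 (.ci 1) +
      ugen ℤ 2 (.cij 0 1 Fin.zero_ne_one) * ugen ℤ 2 (.ci 0) -
      ugen ℤ 2 (.ci 0) * ugen ℤ 2 (.ci 1) - ugen ℤ 2 .c = 0 := by
    have := hrel _ (Or.inl (Or.inl (Or.inr ⟨⟨(0, 1), Fin.zero_ne_one⟩, rfl⟩)))
    simp only [map_sub, map_add, map_mul] at this
    exact this
  have hq2 : ugen ℤ 2 (.cij 1 0 Fin.zero_ne_one.symm) * ugen ℤ 2 (.cbi 0) +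
      ugen ℤ 2 (.cij 0 1 Fin.zero_ne_one) * ugen ℤ 2 (.cbi 1) -
      ugen ℤ 2 (.cbi 0) * ugen ℤ 2 (.cbi 1) - ugen ℤ 2 .cb = 0 := by
    have := hrel _ (Or.inl (Or.inr ⟨⟨(0, 1), Fin.zero_ne_one⟩, rfl⟩))
    simp only [map_sub, map_add, map_mul] at this
    exact this
  have hφX : ∀ i : Fin 6, φ (MvPolynomial.X i) = ![ugen ℤ 2 .a, ugen ℤ 2 (.ci 0),
      ugen ℤ 2 (.cbi 0), ugen ℤ 2 (.ci 1), ugen ℤ 2 (.cbi 1),
        ugen ℤ 2 (.cij 0 1 Fin.zero_ne_one)] i := fun i => MvPolynomial.aeval_X _ i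
  have hφg : ∀ g : UGen 2, φ (gval g) = ugen ℤ 2 g := by
    intro g
    cases g with
    | a => simp [gval, hφX]
    | c =>
      simp only [gval, map_add, map_sub, map_mul, hφX]
      simp only [Matrix.cons_val]
      linear_combination (-(ugen ℤ 2 (.ci 1))) * hlin + hq1
    | cb =>
      simp only [gval, map_add, map_sub, map_mul, hφX]
      simp only [Matrix.cons_val]
      linear_combination (-(ugen ℤ 2 (.cbi 0))) * hlin + hq2
    | ci i => fin_cases i <;> simp [gval, hφX]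
    | cbi i => fin_cases i <;> simp [gval, hφX]
    | cij i j h =>
      fin_cases i <;> fin_cases j
      · exact absurd rfl h
      · simp [gval, hφX]
      · simp [gval, hφX]
        linear_combination (-1 : URing ℤ 2) * hlin
      · exact absurd rfl h
  have h1 : ∀ x, ψ (φ x) = x := by
    intro x
    have : (ψ.comp φ.toRingHom) = RingHom.id _ := by
      apply MvPolynomial.ringHom_ext
      · intro r; simp
      · intro i
        simp only [RingHom.comp_apply, AlgHom.toRingHom_eq_coe, RingHom.coe_coe, hφX,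
          RingHom.id_apply]
        fin_cases i <;> simp [hψ, gval]
    exact congrArg (fun f => f x) this
  have h2 : ∀ y, φ (ψ y) = y := by
    intro y
    obtain ⟨p, rfl⟩ := Ideal.Quotient.mk_surjective y
    have : (φ.toRingHom.comp (ψ.comp (Ideal.Quotient.mk (Ideal.span (URel ℤ 2))))) =
        Ideal.Quotient.mk (Ideal.span (URel ℤ 2)) := by
      apply MvPolynomial.ringHom_ext
      · intro r; simp
      · intro g
        simp only [RingHom.comp_apply, AlgHom.toRingHom_eq_coe, RingHom.coe_coe]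
        exact (congrArg φ (hψ g)).trans (hφg g)
    exact congrArg (fun f => f p) this
  exact ⟨Function.LeftInverse.injective h1, Function.RightInverse.surjective h2⟩

end Groth.Agent.S18247
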