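import Groth.Statements.S18251
import Mathlib

set_option autoImplicit false
universe u
open W4c5m1nsnscurves
open Curves
open MvPolynomial MonomialOrder

namespace Groth.Agent.S18251

/-- lexicographic order on monomials in two variables with `X 1 > X 0`. -/
noncomputable def ord : MonomialOrder (Fin 2) :=
  (MonomialOrder.lex (σ := (Fin 2)ᵒᵈ) : MonomialOrder (Fin 2)ᵒᵈ)

theorem ord_lt_iff {c d : Fin 2 →₀ ℕ} :
    c ≺[ord] d ↔ (c 1 < d 1 ∨ (c 1 = d 1 ∧ c 0 < d 0)) := by
  have h := @MonomialOrder.lex_lt_iff (Fin 2)ᵒᵈ _ _ c d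
  have h2 := @Finsupp.Lex.lt_iff (Fin 2)ᵒᵈ ℕ _ _ _ (toLex c) (toLex d)
  refine (h.trans h2).trans ?_
  constructor
  · rintro ⟨i, hi, hlt⟩
    have hi' : i = OrderDual.toDual (0 : Fin 2) ∨ i = OrderDual.toDual (1 : Fin 2) := by
      have : OrderDual.ofDual i = 0 ∨ OrderDual.ofDual i = 1 := by
        generalize OrderDual.ofDual i = j
        fin_cases j <;> simp
      exact this
    rcases hi' with rfl | rfl
    · right
      refine ⟨hi (OrderDual.toDual 1) ?_, hlt⟩
      change (0 : Fin 2) < 1
      simp
    · left; exact hlt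
  · rintro (h | ⟨h1, h0⟩)
    · refine ⟨OrderDual.toDual 1, ?_, h⟩
      intro j hj
      exfalso
      have : (1 : Fin 2) < OrderDual.ofDual j := hj
      generalize OrderDual.ofDual j = j' at this
      fin_cases j' <;> simp at this
    · refine ⟨OrderDual.toDual 0, ?_, h0⟩
      intro j hj
      have : (0 : Fin 2) < OrderDual.ofDual j := hj
      have hj1 : OrderDual.ofDual j = 1 := by
        generalize OrderDual.ofDual j = j' at this ⊢
        fin_cases j' <;> simp at this ⊢
      have : j = OrderDual.toDual 1 := by rw [← hj1]; rfl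
      rw [this]; exact h1


/-- exponent vector `x^i y^j` -/
noncomputable def ex (i j : ℕ) : Fin 2 →₀ ℕ := Finsupp.single 0 i + Finsupp.single 1 j

@[simp] theorem ex_zero (i j : ℕ) : ex i j 0 = i := by simp [ex]
@[simp] theorem ex_one (i j : ℕ) : ex i j 1 = j := by simp [ex]

theorem eq_ex (c : Fin 2 →₀ ℕ) : c = ex (c 0) (c 1) := by
  ext v
  fin_cases v <;> simp

theorem ex_le_iff (i j : ℕ) (c : Fin 2 →₀ ℕ) : ex i j ≤ c ↔ i ≤ c 0 ∧ j ≤ c 1 := by
  rw [Finsupp.le_def]
  constructor
  · intro h
    exact ⟨by simpa using h 0, by simpa using h 1⟩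
  · rintro ⟨h0, h1⟩ v
    fin_cases v <;> simpa

section
variable {R : Type u} [CommRing R]

theorem monomial_ex (i j : ℕ) (r : R) :
    monomial (ex i j) r = C r * X 0 ^ i * X 1 ^ j := by
  rw [ex, X_pow_eq_monomial, X_pow_eq_monomial, C_mul_monomial, monomial_mul]
  simp

variable (a b c d : R)

/-- the relation -/
noncomputable def rel : MvPolynomial (Fin 2) R :=
  X 0 * X 1 ^ 2 - X 0 ^ 2 * X 1 - (C a * X 0 * X 1 + C b * X 0 + C c * X 1 + C d)

/-- lower order part -/
noncomputable def low : MvPolynomial (Fin 2) R :=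
  monomial (ex 2 1) 1 + monomial (ex 1 1) a + monomial (ex 1 0) b + monomial (ex 0 1) c +
    monomial (ex 0 0) d

theorem rel_eq : rel a b c d = monomial (ex 1 2) 1 - low a b c d := by
  simp only [rel, low, monomial_ex]
  simp only [C_1, pow_zero, pow_one, one_mul, mul_one]
  ring

theorem low_support (e : Fin 2 →₀ ℕ) (he : e ∈ (low a b c d).support) : e 1 < 2 := by
  classical
  have h1 := (support_add (p := monomial (ex 2 1) (1 : R) + monomial (ex 1 1) a + monomial (ex 1 0) b +
    monomial (ex 0 1) c) (q := monomial (ex 0 0) d)) he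
  simp only [Finset.mem_union] at h1
  rcases h1 with h1 | h1
  · have h2 := support_add h1
    simp only [Finset.mem_union] at h2
    rcases h2 with h2 | h2
    · have h3 := support_add h2
      simp only [Finset.mem_union] at h3
      rcases h3 with h3 | h3
      · have h4 := support_add h3
        simp only [Finset.mem_union] at h4
        rcases h4 with h4 | h4
        · have := Finset.mem_singleton.mp (support_monomial_subset h4)
          rw [this]; simp
        · have := Finset.mem_singleton.mp (support_monomial_subset h4)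
          rw [this]; simp
      · have := Finset.mem_singleton.mp (support_monomial_subset h3)
        rw [this]; simp
    · have := Finset.mem_singleton.mp (support_monomial_subset h2)
      rw [this]; simp
  · have := Finset.mem_singleton.mp (support_monomial_subset h1)
    rw [this]; simp

theorem degree_low_lt : ord.degree (low a b c d) ≺[ord] ex 1 2 := by
  have h0 : (0 : Fin 2 →₀ ℕ) ≺[ord] ex 1 2 := by
    rw [ord_lt_iff]; left; simp
  rw [MonomialOrder.degree_lt_iff h0]
  intro e he
  rw [ord_lt_iff]
  left
  simpa using low_support a b c d e he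

theorem degree_rel [Nontrivial R] : ord.degree (rel a b c d) = ex 1 2 := by
  classical
  have hm : ord.degree (monomial (ex 1 2) (1 : R)) = ex 1 2 := by
    rw [MonomialOrder.degree_monomial, if_neg one_ne_zero]
  rw [rel_eq, MonomialOrder.degree_sub_of_lt (by rw [hm]; exact degree_low_lt a b c d), hm]

theorem leadingCoeff_rel [Nontrivial R] : ord.leadingCoeff (rel a b c d) = 1 := by
  classical
  have hm : ord.degree (monomial (ex 1 2) (1 : R)) = ex 1 2 := by
    rw [MonomialOrder.degree_monomial, if_neg one_ne_zero]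
  rw [rel_eq, MonomialOrder.leadingCoeff_sub_of_lt (by rw [hm]; exact degree_low_lt a b c d),
    MonomialOrder.leadingCoeff_monomial]


/-- exponent of the indexing monomials -/
noncomputable def expo : Option (ℕ ⊕ (Fin 2 × ℕ)) → (Fin 2 →₀ ℕ)
  | none => 0
  | some (Sum.inl k) => ex (k + 1) 1
  | some (Sum.inr (y, k)) => Finsupp.single y (k + 1)

theorem expo_zero_one (t : Option (ℕ ⊕ (Fin 2 × ℕ))) :
    (expo t 0, expo t 1) = match t with
      | none => (0, 0)
      | some (Sum.inl k) => (k + 1, 1)
      | some (Sum.inr (y, k)) => if y = 0 then (k + 1, 0) else (0, k + 1) := by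
  rcases t with _ | k | ⟨y, k⟩
  · simp [expo]
  · simp [expo]
  · fin_cases y <;> simp [expo]

theorem expo_injective : Function.Injective expo := by
  intro s t h
  have hs := expo_zero_one s
  have ht := expo_zero_one t
  rw [h] at hs
  rw [hs] at ht
  rcases s with _ | k | ⟨y, k⟩ <;> rcases t with _ | l | ⟨z, l⟩
  · rfl
  · simp at ht
  · fin_cases z <;> simp at ht
  · simp at ht
  · simp at ht; rw [ht]
  · fin_cases z <;> simp at ht
  · fin_cases y <;> simp at ht
  · fin_cases y <;> simp at ht
  · fin_cases y <;> fin_cases z <;> simp at ht <;> simp [ht]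

theorem expo_std (t : Option (ℕ ⊕ (Fin 2 × ℕ))) : ¬ ex 1 2 ≤ expo t := by
  rw [ex_le_iff]
  have ht := expo_zero_one t
  rcases t with _ | k | ⟨y, k⟩
  · simp [expo]
  · simp [expo]
  · fin_cases y <;> simp [expo]

theorem exists_expo_of_std (e : Fin 2 →₀ ℕ) (h : ¬ ex 1 2 ≤ e) : ∃ t, expo t = e := by
  rw [ex_le_iff] at h
  rw [eq_ex e]
  rcases Nat.eq_zero_or_pos (e 0) with h0 | h0
  · rcases Nat.eq_zero_or_pos (e 1) with h1 | h1
    · refine ⟨none, ?_⟩
      rw [h0, h1]
      ext v; fin_cases v <;> simp [expo]
    · refine ⟨some (Sum.inr (1, e 1 - 1)), ?_⟩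
      rw [h0]
      ext v; fin_cases v <;> simp [expo] <;> omega
  · have h1 : e 1 = 0 ∨ e 1 = 1 := by omega
    rcases h1 with h1 | h1
    · refine ⟨some (Sum.inr (0, e 0 - 1)), ?_⟩
      rw [h1]
      ext v; fin_cases v <;> simp [expo] <;> omega
    · refine ⟨some (Sum.inl (e 0 - 1)), ?_⟩
      rw [h1]
      ext v; fin_cases v <;> simp [expo] <;> omega

end


section Main
variable (R : Type u) [CommRing R] (a b c d : R)

theorem cmon3_eq (t : Option (ℕ ⊕ (Fin 2 × ℕ))) :
    cmon3 R a b c d t =
      Ideal.Quotient.mk (Ideal.span {rel a b c d}) (monomial (expo t) (1 : R)) := by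
  rcases t with _ | k | ⟨y, k⟩
  · change (1 : CurveAlg3 R a b c d) = _
    simp only [expo]
    exact (map_one (Ideal.Quotient.mk (Ideal.span {rel a b c d}))).symm
  · change Ideal.Quotient.mk _ (X 0 ^ (k + 1) * X 1) = _
    congr 1
    simp only [expo, monomial_ex]
    simp
  · change Ideal.Quotient.mk _ (X y ^ (k + 1)) = _
    congr 1
    simp only [expo]
    rw [X_pow_eq_monomial]

theorem span_top : Submodule.span R (Set.range (cmon3 R a b c d)) = ⊤ := by
  classical
  rcases subsingleton_or_nontrivial R with hR | hR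
  · have : Subsingleton (CurveAlg3 R a b c d) := by
      refine ⟨fun x y => ?_⟩
      have h1 : (1 : R) = 0 := Subsingleton.elim _ _
      rw [← one_smul R x, ← one_smul R y, h1, zero_smul, zero_smul]
    exact Subsingleton.elim _ _
  rw [eq_top_iff]
  rintro x -
  obtain ⟨p, rfl⟩ := Ideal.Quotient.mk_surjective x
  have hu : IsUnit (ord.leadingCoeff (rel a b c d)) := by
    rw [leadingCoeff_rel]; exact isUnit_one
  obtain ⟨q, r, hp, -, hr⟩ := ord.div_single hu p
  rw [degree_rel] at hr
  have hmk : Ideal.Quotient.mk (Ideal.span {rel a b c d}) p =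
      Ideal.Quotient.mk (Ideal.span {rel a b c d}) r := by
    rw [hp, map_add, map_mul]
    have : Ideal.Quotient.mk (Ideal.span {rel a b c d}) (rel a b c d) = 0 :=
      Ideal.Quotient.eq_zero_iff_mem.mpr (Ideal.mem_span_singleton_self _)
    rw [this, mul_zero, zero_add]
  change Ideal.Quotient.mk (Ideal.span {rel a b c d}) p ∈ _
  rw [hmk, r.as_sum, map_sum]
  refine Submodule.sum_mem _ fun e he => ?_
  obtain ⟨t, ht⟩ := exists_expo_of_std e (hr e he)
  have : monomial e (coeff e r) = coeff e r • monomial (expo t) (1 : R) := by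
    rw [ht, smul_monomial, smul_eq_mul, mul_one]
  rw [this]
  have h2 : Ideal.Quotient.mk (Ideal.span {rel a b c d}) (coeff e r • monomial (expo t) (1 : R)) =
      coeff e r • cmon3 R a b c d t := by
    rw [cmon3_eq]
    rfl
  rw [h2]
  exact Submodule.smul_mem (Submodule.span R (Set.range (cmon3 R a b c d))) (coeff e r)
    (Submodule.subset_span ⟨t, rfl⟩)

theorem linInd : LinearIndependent R (cmon3 R a b c d) := by
  classical
  rcases subsingleton_or_nontrivial R with hR | hR
  · exact linearIndependent_of_subsingleton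
  have h1 : LinearIndependent R (fun t => (monomial (expo t) (1 : R) : MvPolynomial (Fin 2) R)) := by
    have := (basisMonomials (Fin 2) R).linearIndependent.comp expo expo_injective
    have h : ⇑(basisMonomials (Fin 2) R) ∘ expo =
        (fun t => (monomial (expo t) (1 : R) : MvPolynomial (Fin 2) R)) := by
      funext t; simp
    rw [h] at this
    exact this
  have h2 := h1.map (f := (Ideal.Quotient.mkₐ R (Ideal.span {rel a b c d})).toLinearMap) ?_
  · have h : cmon3 R a b c d = ⇑(Ideal.Quotient.mkₐ R (Ideal.span {rel a b c d})).toLinearMap ∘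
        (fun t => (monomial (expo t) (1 : R) : MvPolynomial (Fin 2) R)) := by
      funext t
      rw [cmon3_eq]
      rfl
    rw [h]
    exact h2
  · rw [Submodule.disjoint_def]
    intro p hp hker
    have hsupp : ∀ e ∈ p.support, ¬ ex 1 2 ≤ e := by
      have : Set.range (fun t => (monomial (expo t) (1 : R) : MvPolynomial (Fin 2) R)) =
          (monomial · (1 : R)) '' Set.range expo := by
        ext x; simp
      rw [this, ← restrictSupport_eq_span, mem_restrictSupport_iff] at hp
      intro e he
      obtain ⟨t, rfl⟩ := hp he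
      exact expo_std t
    have hmem : p ∈ Ideal.span {rel a b c d} := by
      have : Ideal.Quotient.mk (Ideal.span {rel a b c d}) p = 0 := hker
      exact Ideal.Quotient.eq_zero_iff_mem.mp this
    obtain ⟨q, rfl⟩ := Ideal.mem_span_singleton'.mp hmem
    by_contra hne
    have hq : q ≠ 0 := by
      rintro rfl
      exact hne (zero_mul _)
    have hreg : IsRegular (ord.leadingCoeff (rel a b c d)) := by
      rw [leadingCoeff_rel]; exact isRegular_one
    have hdeg := ord.degree_mul_of_isRegular_right hq hreg
    rw [degree_rel] at hdeg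
    have hmem := (ord.degree_mem_support_iff (q * rel a b c d)).mpr hne
    apply hsupp _ hmem
    rw [hdeg]
    exact le_add_self

end Main

/-- Case n = 3: let R be a commutative ring and a, b, c, d elements of R (a point of U_3, which is
affine 4-space, so no condition is imposed). Then in the R-algebra R[x_2, x_3]/(x_2 x_3² − x_2² x_3
− a x_2 x_3 − b x_2 − c x_3 − d) the classes of the monomials 1, x_2^k x_3, x_2^k and x_3^k (k ≥ 1)
are linearly independent over R and span, i.e. form an R-basis. -/
theorem result (R : Type u) [CommRing R] (a b c d : R) :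
    LinearIndependent R (cmon3 R a b c d) ∧
      Submodule.span R (Set.range (cmon3 R a b c d)) = ⊤ := by
  exact ⟨linInd R a b c d, span_top R a b c d⟩

end Groth.Agent.S18251
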