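import Groth.Statements.S18257
import Groth.Agent.Lib.Helper44.FlatFibreUnits

set_option autoImplicit false
universe u
open UnitsSh

namespace Groth.Agent.S18257

open CategoryTheory CategoryTheory.Limits AlgebraicGeometry in
/-- In the case of the multiplicative group, for schemes and with Zariski cohomology of the sheaf of
units. Let A be a local ring with maximal ideal m, t a nonzero element of m with m·t = 0, and X' a
scheme flat over Spec A; let i : X ⟶ X' be the closed subscheme cut out by t (base change to A/(t))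
and X₀ the closed fibre (base change to the residue field). If H^{q+1}(X₀, O_{X₀}) = 0, then the map
H^q(X', O_{X'}^×) → H^q(X', i_* O_X^×) induced by the units map of i is surjective. (The published
statement covers any smooth commutative group scheme in place of the multiplicative group, with the
Lie algebra of its closed fibre in place of O_{X₀}, uses étale cohomology, and takes A Artinian;
this row allows any local ring A with t as stated.) -/
theorem result
    (A : Type u) [CommRing A] [IsLocalRing A]
    (t : A) (ht0 : t ≠ 0) (ht : t ∈ IsLocalRing.maximalIdeal A)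
    (hmt : ∀ x ∈ IsLocalRing.maximalIdeal A, x * t = 0)
    (X' : Scheme.{u}) [X'.Over (Spec (CommRingCat.of A))] [Flat (X' ↘ Spec (CommRingCat.of A))]
    (q : ℕ)
    (hvan : Subsingleton (Coh.HH
      (pullback (X' ↘ Spec (CommRingCat.of A)) (Spec.map (CommRingCat.ofHom (IsLocalRing.residue A))))
      (Coh.structureModule _) (q + 1))) :
    Function.Surjective (Sheaf.H.map (UnitsSh.comap
      (pullback.fst (X' ↘ Spec (CommRingCat.of A))
        (Spec.map (CommRingCat.ofHom (Ideal.Quotient.mk (Ideal.span ({t} : Set A))))))) q) := by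
  classical
  let φ₁ : A →+* A ⧸ Ideal.span ({t} : Set A) := Ideal.Quotient.mk (Ideal.span ({t} : Set A))
  let φ₀ : A →+* IsLocalRing.ResidueField A := IsLocalRing.residue A
  have hφ₁ : Function.Surjective φ₁ := Ideal.Quotient.mk_surjective
  have hφ₀ : Function.Surjective φ₀ := IsLocalRing.residue_surjective
  have hk₁ : RingHom.ker φ₁ = Ideal.span {t} := Ideal.mk_ker
  have hk₀ : ∀ a : A, a * t = 0 ↔ φ₀ a = 0 := fun a => by
    rw [Groth.Agent.Lib.Helper44.FlatAnn.mul_eq_zero_iff_mem_maximalIdeal t ht0 hmt a]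
    exact (IsLocalRing.residue_eq_zero_iff a).symm
  have htt : t * t = 0 := hmt t ht
  haveI := Groth.Agent.Lib.Helper44.FlatFibre.isClosedImmersion_ι
    (X' ↘ Spec (CommRingCat.of A)) hφ₁
  haveI := Groth.Agent.Lib.Helper44.FlatFibre.isClosedImmersion_ι
    (X' ↘ Spec (CommRingCat.of A)) hφ₀
  apply Groth.Agent.Lib.Helper44.FlatFibre.surjective_H_comap_of_ker
    (Groth.Agent.Lib.Helper44.FlatFibre.ι (X' ↘ Spec (CommRingCat.of A)) φ₁) q
  have hK := Groth.Agent.Lib.Helper44.FlatFibre.ker_mul_ker
    (X' ↘ Spec (CommRingCat.of A)) φ₁ t hφ₁ hk₁ htt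
  intro z
  obtain ⟨e⟩ := Groth.Agent.Lib.Helper44.FlatFibre.nonempty_H_addEquiv
    (X' ↘ Spec (CommRingCat.of A)) φ₀ φ₁ t hφ₀ hk₀ hφ₁ hk₁ (q + 1)
  haveI : Subsingleton (Sheaf.H (Groth.Agent.Lib.Helper44.SqZeroPic.A
      (Groth.Agent.Lib.Helper44.FlatFibre.ι (X' ↘ Spec (CommRingCat.of A)) φ₁).ker) (q + 1)) :=
    e.toEquiv.subsingleton
  have h0 : Groth.Agent.Lib.Helper44.SqZeroPic.bd _ hK q z = 0 := Subsingleton.elim _ _
  exact (Groth.Agent.Lib.Helper44.SqZeroPic.bd_eq_zero_iff _ hK q z).1 h0

end Groth.Agent.S18257
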