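import Groth.Statements.S18265
import Groth.Agent.Lib.Helper41.InvNormal

set_option autoImplicit false
universe u
open InvQ

namespace Groth.Agent.S18265

/-- Let k be an algebraically closed field and n, m natural numbers, and let R be the ring of polynomial
functions of m vectors of k^(n+1) invariant under the special linear group SL(n+1, k) acting on all
the vectors at once and under the rescalings of the individual vectors by units with product 1
(equivalently: invariant and homogeneous of one and the same degree in each vector) — the graded
ring of invariant sections whose Proj is the quotient variety of ordered m-point sets in projective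
n-space. Then R is integrally closed in its field of fractions; hence that quotient variety is
normal. (Only the normality assertion of the source's statement is given here; its dimension,
rationality and singular-locus assertions are not.) -/
theorem result (k : Type u) [Field k] [IsAlgClosed k] (n m : ℕ) :
    IsIntegrallyClosed (W4c5pointsetsdelpezzo.invRing k n m) := by
  apply Groth.Agent.Lib.Helper41.InvNormal.isIntegrallyClosed_of_saturated
  intro s b hb hb0 hsb
  have key : ∀ σ : W4c5pointsetsdelpezzo.TupleRing k n m →ₐ[k] W4c5pointsetsdelpezzo.TupleRing k n m,
      σ b = b → σ (s * b) = s * b → σ s = s := by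
    intro σ h1 h2
    rw [map_mul, h1] at h2
    exact mul_right_cancel₀ hb0 h2
  unfold W4c5pointsetsdelpezzo.invRing at hb hsb ⊢
  rw [Algebra.mem_inf, Algebra.mem_iInf, Algebra.mem_iInf] at hb hsb ⊢
  constructor
  · intro g
    rw [AlgHom.mem_equalizer]
    exact key _ ((AlgHom.mem_equalizer _ _ _).mp (hb.1 g)) ((AlgHom.mem_equalizer _ _ _).mp (hsb.1 g))
  · intro t
    rw [AlgHom.mem_equalizer]
    exact key _ ((AlgHom.mem_equalizer _ _ _).mp (hb.2 t)) ((AlgHom.mem_equalizer _ _ _).mp (hsb.2 t))

end Groth.Agent.S18265
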