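import Groth.Statements.S18272
import Groth.Agent.Lib.Helper41.BoundedAlgClosed2
import Groth.Agent.Lib.Helper41.PtsLemmas
import Groth.Agent.Lib.Helper50.GeomReducedScheme
import Groth.Agent.Lib.Helper19.Subscheme

set_option autoImplicit false
open CategoryTheory MonoidalCategory CartesianMonoidalCategory MonObj GrpObj AlgebraicGeometry
open AbVar

namespace Groth.Agent.S18272

open CategoryTheory.Limits in
/-- A reduced scheme over an algebraically closed field is geometrically reduced. -/
theorem geometricallyReduced_of_isReduced_of_isAlgClosed {k : Type} [Field k] [IsAlgClosed k]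
    {X : Scheme.{0}} (f : X ⟶ Spec (CommRingCat.of k)) [IsReduced X] :
    GeometricallyReduced f := by
  apply Groth.Agent.Lib.Helper50.geometricallyReduced_of_forall_finite_isPurelyInseparable
  intro K _ _ _ _
  have hbij : Function.Bijective (algebraMap k K) :=
    IsAlgClosed.algebraMap_bijective_of_isIntegral
  have h1 : IsIso (CommRingCat.ofHom (algebraMap k K)) := by
    rw [ConcreteCategory.isIso_iff_bijective]
    exact hbij
  have h2 : IsIso (Spec.map (CommRingCat.ofHom (algebraMap k K))) := inferInstance
  have h3 : IsIso (pullback.fst f (Spec.map (CommRingCat.ofHom (algebraMap k K)))) :=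
    inferInstance
  exact isReduced_of_isOpenImmersion
    (pullback.fst f (Spec.map (CommRingCat.ofHom (algebraMap k K))))

/-- Let A be an abelian variety over the complex numbers (a proper integral group scheme over Spec of
the complex numbers), G an abstract group and f : A(ℂ) → G a homomorphism from the group of complex
points. If V ⊂ A is an irreducible closed subset containing the neutral element and every complex
point lying in V is in the kernel of f, then there is an abelian subvariety A' ⊂ A (an integral
closed subgroup scheme) containing V and with all its complex points in the kernel of f. -/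
theorem result
    (A : Over (Spec (CommRingCat.of ℂ))) [GrpObj A] [IsProper A.hom] [AlgebraicGeometry.IsIntegral A.left]
    (G : Type) [Group G] (f : (𝟙_ (Over (Spec (CommRingCat.of ℂ))) ⟶ A) →* G)
    (V : Set ↥A.left) (hVcl : IsClosed V) (hVirr : IsIrreducible V)
    (hV1 : Set.range ⇑(η[A]).left ⊆ V)
    (hVker : ∀ a : 𝟙_ (Over (Spec (CommRingCat.of ℂ))) ⟶ A, Set.range ⇑a.left ⊆ V → f a = 1) :
    ∃ (B : Over (Spec (CommRingCat.of ℂ))) (_ : GrpObj B) (incl : B ⟶ A), IsMonHom incl ∧ IsClosedImmersion incl.left ∧
      AlgebraicGeometry.IsIntegral B.left ∧ V ⊆ Set.range ⇑incl.left ∧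
      ∀ b : 𝟙_ (Over (Spec (CommRingCat.of ℂ))) ⟶ B, f (b ≫ incl) = 1 := by
  classical
  let k := ℂ
  let C : TopologicalSpace.Closeds A.left := ⟨V, hVcl⟩
  let I := Scheme.IdealSheafData.vanishingIdeal C
  let X0 : Scheme.{0} := I.subscheme
  let jV : X0 ⟶ A.left := I.subschemeι
  have hrange : Set.range jV.base = V := by
    change Set.range I.subschemeι = _
    rw [I.range_subschemeι, Scheme.IdealSheafData.coe_support_vanishingIdeal]
    rfl
  have hred : IsReduced X0 := Groth.Agent.Lib.Helper19.isReduced_subscheme_vanishingIdeal C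
  let X : Over (Spec (CommRingCat.of ℂ)) := Over.mk (jV ≫ A.hom)
  let j : X ⟶ A := Over.homMk jV rfl
  have hjl : j.left = jV := rfl
  have hgr : GeometricallyReduced X.hom :=
    geometricallyReduced_of_isReduced_of_isAlgClosed (jV ≫ A.hom)
  have hlftA : LocallyOfFiniteType A.hom := inferInstance
  have hlftX : LocallyOfFiniteType X.hom := by
    change LocallyOfFiniteType (jV ≫ A.hom)
    infer_instance
  have hqcX : QuasiCompact X.hom := by
    change QuasiCompact (jV ≫ A.hom)
    infer_instance
  -- irreducibility of X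
  have hirrV : IrreducibleSpace V := Subtype.irreducibleSpace hVirr
  have hemb : Topology.IsEmbedding jV.base := jV.isClosedEmbedding.toIsEmbedding
  let e : X0 ≃ₜ Set.range jV.base := hemb.toHomeomorph
  have hirrR : IrreducibleSpace (Set.range jV.base) := by
    rw [hrange]; exact hirrV
  have hirrX : IrreducibleSpace X0 := (Homeomorph.irreducibleSpace_iff e).mpr hirrR
  have hne : Nonempty X.left := (inferInstance : Nonempty X0)
  -- the unit lies in V
  have hunit : ∃ x' : X.left, j.left.base x' ∈ Set.range η[A].left.base := by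
    have hpt : η[A].left.base (Groth.Agent.Lib.Helper41.PtsLemmas.pt ℂ) ∈ V :=
      hV1 ⟨_, rfl⟩
    rw [← hrange] at hpt
    obtain ⟨x', hx'⟩ := hpt
    exact ⟨x', by rw [hjl, hx']; exact ⟨_, rfl⟩⟩
  have hcc : ∀ x : X.left, ∃ x' ∈ connectedComponent x,
      j.left.base x' ∈ Set.range η[A].left.base := by
    intro x
    obtain ⟨x', hx'⟩ := hunit
    refine ⟨x', ?_, hx'⟩
    have : PreconnectedSpace X0 := inferInstance
    have h := PreconnectedSpace.connectedComponent_eq_univ (X := X0) x
    change x' ∈ connectedComponent (α := X0) x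
    rw [h]
    trivial
  obtain ⟨Γ, hΓ, i, h1, h2, h3, h4, h5, h6, h7⟩ :=
    Groth.Agent.Lib.Helper41.SmallestSubgroup.exists_smallest_subgroup ℂ A X j
  obtain ⟨⟨N, hN⟩, hirrΓ, hcpt⟩ :=
    Groth.Agent.Lib.Helper41.BoundedAlgClosed2.bounded_of_algClosed' j hcc Γ i h3 h7
  have hint : AlgebraicGeometry.IsIntegral Γ.left :=
    isIntegral_of_irreducibleSpace_of_isReduced Γ.left
  refine ⟨Γ, hΓ, i, h1, h2, hint, ?_, ?_⟩
  · intro v hv
    rw [← hrange] at hv
    obtain ⟨x, rfl⟩ := hv
    obtain ⟨f', hf'⟩ := h3
    refine ⟨f'.left.base x, ?_⟩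
    change (f' ≫ i).left.base x = _
    rw [hf']
    rfl
  · intro b
    have hmem : (b ≫ i).left.base (Groth.Agent.Lib.Helper41.PtsLemmas.pt ℂ) ∈
        Groth.Agent.Lib.Helper41.WordLength.wordLen j N := by
      rw [← hN]
      exact ⟨b.left.base _, rfl⟩
    have hcl := Groth.Agent.Lib.Helper41.PtsLemmas.mem_closure_of_mem_wordLen j (b ≫ i) N hmem
    have hle : Subgroup.closure
        (Set.range fun x : 𝟙_ (Over (Spec (CommRingCat.of ℂ))) ⟶ X => x ≫ j) ≤ f.ker := by
      rw [Subgroup.closure_le]
      rintro _ ⟨x, rfl⟩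
      change f (x ≫ j) = 1
      apply hVker
      rintro _ ⟨t, rfl⟩
      rw [← hrange]
      exact ⟨x.left.base t, rfl⟩
    exact hle hcl

end Groth.Agent.S18272
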