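import Groth.Statements.S1828
import Groth.Agent.Lib.Helper90.Lci.KoszulShriek
import Groth.Agent.Lib.Helper90.Shriek.FlatBCLemma

set_option autoImplicit false
set_option linter.style.haveILetI false
universe u
open CategoryTheory
attribute [local instance] HasDerivedCategory.standard
open Dual2

namespace Groth.Agent.S1828

/-- Let R and A be Noetherian rings and R → A a homomorphism that is a local complete intersection,
presented by a surjection ψ : P = R[x_1, …, x_n] → A. For K in D(R) set φ^!(K) = RHom_P(A, K ⊗^L_R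
P)[n], where the derived base change D(R) → D(P) is assumed to exist and RHom_P(A, −) : D(P) → D(A)
means a right adjoint of restriction of scalars along ψ, and set ω_{A/R} = φ^!(R); also assume that
the derived base change functors D(A) → D(A_f) exist for every f ∈ A. Then ω_{A/R} is invertible:
for each prime q of A there exist f ∈ A not in q and an integer m with ω_{A/R} ⊗^L_A A_f ≅ A_f[m] in
D(A_f). (The published statement makes one more assertion, which is not included here.) -/
theorem result (R A : Type u) [CommRing R] [CommRing A] [IsNoetherianRing R] [IsNoetherianRing A] [Algebra R A] (hl : LCI.IsLCI R A) (n : ℕ) (ψ : MvPolynomial (Fin n) R →ₐ[R] A) (hψ : Function.Surjective ψ) [DRing.HasLBaseChange (algebraMap R (MvPolynomial (Fin n) R))] (Rψ : Dual.D (MvPolynomial (Fin n) R) ⥤ Dual.D A) (adj : DRing.restrictD ψ.toRingHom ⊣ Rψ) [hL : ∀ f : A, DRing.HasLBaseChange (algebraMap A (Localization.Away f))] (q : PrimeSpectrum A) : ∃ (f : A) (_ : f ∉ q.asIdeal) (m : ℤ), Nonempty ((DRing.LBaseChange (algebraMap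 A (Localization.Away f))).obj (Dual2.shriekVia n Rψ (Dual.inD R R)) ≅ (Dual.inD (Localization.Away f) (Localization.Away f))⟦m⟧) := by
  classical
  obtain ⟨-, n', ψ', hψ', hI⟩ := hl
  -- Step 1: switch to the presentation with Koszul-regular kernel
  obtain ⟨K₀, hK₀, ⟨eK⟩⟩ := Groth.Agent.Lib.Helper32.LBC.exists_kproj_iso (Dual.inD R R)
  haveI := hK₀
  haveI := Groth.Agent.Lib.Helper90.Shriek.hasLBaseChange
    (algebraMap R (MvPolynomial (Fin n') R))
  obtain ⟨Rψ', ⟨adj'⟩⟩ :=
    Groth.Agent.Lib.Helper90.Shriek.exists_rightAdjoint_restrictD ψ'.toRingHom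
  have H₁ := Groth.Agent.Lib.Helper90.Shriek.Inv.start K₀
    (algebraMap R (MvPolynomial (Fin n) R)) ψ.toRingHom Rψ adj (Dual.inD R R) eK (n : ℤ)
  have H₂ := Groth.Agent.Lib.Helper90.Shriek.Inv.start K₀
    (algebraMap R (MvPolynomial (Fin n') R)) ψ'.toRingHom Rψ' adj' (Dual.inD R R) eK (n' : ℤ)
  obtain ⟨e12⟩ := Groth.Agent.Lib.Helper90.Shriek.Inv.unique_mv K₀ ψ.toRingHom ψ'.toRingHom
    hψ hψ' (fun r => (ψ.commutes r).trans (ψ'.commutes r).symm) _ _ _ _ (add_comm _ _) H₁ H₂
  -- Step 2: localize
  have hle : RingHom.ker ψ'.toRingHom ≤ q.asIdeal.comap ψ'.toRingHom := by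
    intro x hx
    rw [Ideal.mem_comap, (RingHom.mem_ker).1 hx]
    exact zero_mem _
  obtain ⟨g, hg, l, hlreg, hIl⟩ := hI ⟨q.asIdeal.comap ψ'.toRingHom, inferInstance⟩ hle
  have hf : ψ'.toRingHom g ∉ q.asIdeal := hg
  refine ⟨ψ'.toRingHom g, hf, -(l.length : ℤ) + n', ?_⟩
  -- Step 3: the localized square
  letI algPA : Algebra (MvPolynomial (Fin n') R) A := ψ'.toRingHom.toAlgebra
  letI algST : Algebra (Localization.Away g) (Localization.Away (ψ'.toRingHom g)) :=
    (Localization.awayMap ψ'.toRingHom g).toAlgebra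
  haveI : IsScalarTower (MvPolynomial (Fin n') R) A (Localization.Away (ψ'.toRingHom g)) :=
    inferInstance
  haveI : IsScalarTower (MvPolynomial (Fin n') R) (Localization.Away g)
      (Localization.Away (ψ'.toRingHom g)) :=
    IsScalarTower.of_algebraMap_eq (fun x => by
      rw [IsScalarTower.algebraMap_apply (MvPolynomial (Fin n') R) A
        (Localization.Away (ψ'.toRingHom g))]
      change _ = Localization.awayMap ψ'.toRingHom g
        (algebraMap (MvPolynomial (Fin n') R) (Localization.Away g) x)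
      exact (IsLocalization.map_eq _ x).symm)
  haveI : IsLocalization (Algebra.algebraMapSubmonoid A (Submonoid.powers g))
      (Localization.Away (ψ'.toRingHom g)) := by
    have h : Algebra.algebraMapSubmonoid A (Submonoid.powers g) =
        Submonoid.powers (ψ'.toRingHom g) := Submonoid.map_powers _ _
    rw [h]
    infer_instance
  haveI : Algebra.IsPushout (MvPolynomial (Fin n') R) A (Localization.Away g)
      (Localization.Away (ψ'.toRingHom g)) :=
    Algebra.isPushout_of_isLocalization (Submonoid.powers g) (Localization.Away g) A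
      (Localization.Away (ψ'.toRingHom g))
  -- Step 4: flat base change
  haveI : Module.Finite (MvPolynomial (Fin n') R) A :=
    Module.Finite.of_surjective (Algebra.linearMap (MvPolynomial (Fin n') R) A) hψ'
  haveI : Module.Flat (MvPolynomial (Fin n') R) (Localization.Away g) :=
    IsLocalization.flat (Localization.Away g) (Submonoid.powers g)
  haveI := Groth.Agent.Lib.Helper90.Shriek.hasLBaseChange
    (algebraMap (MvPolynomial (Fin n') R) (Localization.Away g))
  haveI : DRing.HasLBaseChange (algebraMap A (Localization.Away (ψ'.toRingHom g))) :=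
    hL (ψ'.toRingHom g)
  obtain ⟨Rπ, ⟨adjπ⟩⟩ := Groth.Agent.Lib.Helper90.Shriek.exists_rightAdjoint_restrictD
    (algebraMap (Localization.Away g) (Localization.Away (ψ'.toRingHom g)))
  have adj'' : DRing.restrictD (algebraMap (MvPolynomial (Fin n') R) A) ⊣ Rψ' := adj'
  obtain ⟨bc⟩ := Groth.Agent.Lib.Helper90.Shriek.nonempty_flat_bc_iso (MvPolynomial (Fin n') R) A
    (Localization.Away g) (Localization.Away (ψ'.toRingHom g)) adj'' adjπ
    (Dual.inD (MvPolynomial (Fin n') R) (MvPolynomial (Fin n') R)) 0
  -- Step 5: the fundamental local isomorphism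
  have hsurj : Function.Surjective
      (algebraMap (Localization.Away g) (Localization.Away (ψ'.toRingHom g))) := by
    change Function.Surjective (Localization.awayMap ψ'.toRingHom g)
    rw [Localization.awayMap_surjective_iff]
    intro a
    obtain ⟨b, hb⟩ := hψ' a
    exact ⟨b, 0, by rw [pow_zero, one_mul]; exact hb⟩
  have hker : RingHom.ker
      (algebraMap (Localization.Away g) (Localization.Away (ψ'.toRingHom g))) =
      Ideal.span {x | x ∈ l} := by
    rw [← hIl]
    exact IsLocalization.ker_map (S := Localization.Away g) (Localization.Away (ψ'.toRingHom g))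
      ψ'.toRingHom (Submonoid.map_powers ψ'.toRingHom g)
  obtain ⟨fl⟩ := Groth.Agent.Lib.Helper90.Lci.nonempty_rhom_koszul_iso (Localization.Away g)
    (Localization.Away (ψ'.toRingHom g)) hsurj l hlreg hker Rπ adjπ
  -- Step 6: assemble
  obtain ⟨eUP⟩ := Groth.Agent.Lib.Helper6.FlatPC.nonempty_lbc_unit_iso (A := R)
    (B := MvPolynomial (Fin n') R)
  obtain ⟨eUS⟩ := Groth.Agent.Lib.Helper6.FlatPC.nonempty_lbc_unit_iso
    (A := MvPolynomial (Fin n') R) (B := Localization.Away g)
  letI := Groth.Agent.Lib.Helper6.LBCPC.lbcCommShift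
    (algebraMap A (Localization.Away (ψ'.toRingHom g)))
  let a1 := (DRing.LBaseChange (algebraMap A (Localization.Away (ψ'.toRingHom g)))).mapIso e12
  let a2 := ((DRing.LBaseChange (algebraMap A (Localization.Away (ψ'.toRingHom g)))).commShiftIso
    (n' : ℤ)).app (Rψ'.obj ((DRing.LBaseChange (algebraMap R (MvPolynomial (Fin n') R))).obj
      (Dual.inD R R)))
  let a3 := (shiftFunctor (Dual.D (Localization.Away (ψ'.toRingHom g))) (n' : ℤ)).mapIso
    ((DRing.LBaseChange (algebraMap A (Localization.Away (ψ'.toRingHom g)))).mapIso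
      (Rψ'.mapIso eUP) ≪≫ bc ≪≫ Rπ.mapIso eUS)
  let a4 : Rπ.obj (Dual.inD (Localization.Away g) (Localization.Away g)) ≅
      (Dual.inD (Localization.Away (ψ'.toRingHom g))
        (Localization.Away (ψ'.toRingHom g)))⟦-(l.length : ℤ)⟧ :=
    (shiftShiftNeg (Rπ.obj (Dual.inD (Localization.Away g) (Localization.Away g)))
      (l.length : ℤ)).symm ≪≫
      (shiftFunctor (Dual.D (Localization.Away (ψ'.toRingHom g))) (-(l.length : ℤ))).mapIso fl
  let a5 := (shiftFunctor (Dual.D (Localization.Away (ψ'.toRingHom g))) (n' : ℤ)).mapIso a4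
  let a6 := ((shiftFunctorAdd' (Dual.D (Localization.Away (ψ'.toRingHom g))) (-(l.length : ℤ))
    (n' : ℤ) (-(l.length : ℤ) + n') rfl).app
      (Dual.inD (Localization.Away (ψ'.toRingHom g)) (Localization.Away (ψ'.toRingHom g)))).symm
  exact ⟨a1 ≪≫ a2 ≪≫ a3 ≪≫ a5 ≪≫ a6⟩

end Groth.Agent.S1828
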