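import Groth.Statements.S18283
import Mathlib

set_option autoImplicit false
universe u v
open CAlgX

namespace Groth.Agent.S18283

/-- Let A be a commutative ring, ι a finite index type, H a finite set of indices (the head indices) and
c : ι → ι → A a table of coefficients; for j ∈ H put f_j = e_j − Σ_{i ∉ H} c_{ji} e_i in the free
module A^ι, so that each f_j has head e_j with coefficient 1 and tail supported outside H. If a
submodule M of A^ι contains every f_j with j ∈ H, then M is the A-span of these f_j if and only if
every wedge product of |H|+1 elements of M vanishes in the (|H|+1)-st exterior power of A^ι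
(equivalently, every (|H|+1)-minor of every matrix whose rows lie in M vanishes). The published
statement is the case where A is a Noetherian algebra over a field of characteristic zero, A^ι is
the degree-(m+1) part of the polynomial ring over A with its basis of terms, H is the set of
degree-(m+1) terms of a strongly stable monomial ideal generated in degree m, and M is the
degree-(m+1) part of an ideal generated by a marked set on that monomial ideal; this row allows any
commutative ring and any submodule containing the marked polynomials. -/
theorem result
    {A : Type u} [CommRing A] {ι : Type v} [Fintype ι] [DecidableEq ι]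
    (H : Finset ι) (c : ι → ι → A) (M : Submodule A (ι → A))
    (hf : ∀ j ∈ H, (Pi.single j (1 : A) - ∑ i ∈ Hᶜ, c j i • Pi.single i (1 : A)) ∈ M) :
    M = Submodule.span A ((fun j => Pi.single j (1 : A) - ∑ i ∈ Hᶜ, c j i • Pi.single i (1 : A)) '' ↑H)
      ↔ ∀ v : Fin (H.card + 1) → ι → A, (∀ k, v k ∈ M) →
          exteriorPower.ιMulti A (H.card + 1) v = 0 := by
  classical
  set F : ι → (ι → A) := fun j => Pi.single j (1 : A) - ∑ i ∈ Hᶜ, c j i • Pi.single i (1 : A)
    with hF
  have hFH : ∀ j ∈ H, ∀ k ∈ H, F j k = if k = j then 1 else 0 := by
    intro j hj k hk
    simp only [hF, Pi.sub_apply, Finset.sum_apply, Pi.smul_apply, Pi.single_apply, smul_eq_mul]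
    rw [Finset.sum_eq_zero, sub_zero]
    intro i hi
    have : k ≠ i := by rintro rfl; exact (Finset.mem_compl.mp hi) hk
    simp [this]
  constructor
  · intro hM v hv
    have : ∀ k, ∃ a : H → A, ∑ j : H, a j • F j = v k := fun k =>
      (Submodule.mem_span_image_finset_iff_exists_fun A).mp (hM ▸ hv k)
    choose a ha using this
    have hv' : v = fun k => ∑ j : H, a k j • F j := funext fun k => (ha k).symm
    rw [hv', ← AlternatingMap.coe_multilinearMap, MultilinearMap.map_sum]
    apply Finset.sum_eq_zero
    intro r _
    rw [MultilinearMap.map_smul_univ]
    have hr : ¬ Function.Injective r := by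
      intro h
      have := Fintype.card_le_of_injective r h
      simp at this
    rw [AlternatingMap.coe_multilinearMap,
      AlternatingMap.map_eq_zero_of_not_injective _ (fun i => F (r i))
        (fun h => hr (Function.Injective.of_comp (f := fun j : H => F j) h)), smul_zero]
  · intro hw
    apply le_antisymm
    · intro x hx
      set x' := x - ∑ j ∈ H, x j • F j with hx'
      have hx'M : x' ∈ M := M.sub_mem hx (M.sum_mem fun j hj => M.smul_mem _ (hf j hj))
      have hx'H : ∀ k ∈ H, x' k = 0 := by
        intro k hk
        simp only [hx', Pi.sub_apply, Finset.sum_apply, Pi.smul_apply, smul_eq_mul]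
        rw [Finset.sum_eq_single k]
        · rw [hFH k hk k hk]; simp
        · intro j hj hjk
          rw [hFH j hj k hk, if_neg (Ne.symm hjk)]; simp
        · intro h; exact absurd hk h
      have hx'0 : ∀ i ∉ H, x' i = 0 := by
        intro i hi
        let e : H ≃ Fin H.card := H.equivFin
        let rows : Fin (H.card + 1) → (ι → A) := Fin.cons x' (fun k => F (e.symm k))
        let cols : Fin (H.card + 1) → ι := Fin.cons i (fun k => ((e.symm k : H) : ι))
        have hrows : ∀ k, rows k ∈ M := by
          intro k
          refine Fin.cases ?_ (fun k => ?_) k
          · simpa [rows] using hx'M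
          · simpa [rows] using hf _ (e.symm k).2
        have h0 := hw rows hrows
        let g : (ι → A) [⋀^Fin (H.card + 1)]→ₗ[A] A :=
          (Matrix.detRowAlternating).compLinearMap (LinearMap.funLeft A A cols)
        have hg : g rows = 0 := by
          rw [← exteriorPower.alternatingMapLinearEquiv_apply_ιMulti, h0, map_zero]
        have hdet : g rows = Matrix.det (Matrix.of fun k l => rows k (cols l)) := rfl
        rw [hdet, Matrix.det_succ_row_zero, Fin.sum_univ_succ] at hg
        have hrest : ∀ l : Fin H.card,
            (-1 : A) ^ ((l.succ : Fin (H.card + 1)) : ℕ) *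
              (Matrix.of fun k l => rows k (cols l)) 0 l.succ *
              Matrix.det ((Matrix.of fun k l => rows k (cols l)).submatrix Fin.succ
                (l.succ).succAbove) = 0 := by
          intro l
          have : (Matrix.of fun k l => rows k (cols l)) 0 l.succ = 0 := by
            simp only [Matrix.of_apply, rows, cols, Fin.cons_zero, Fin.cons_succ]
            exact hx'H _ (e.symm l).2
          rw [this]; ring
        rw [Finset.sum_eq_zero (fun l _ => hrest l), add_zero] at hg
        have hsub : (Matrix.of fun k l => rows k (cols l)).submatrix Fin.succ
            (0 : Fin (H.card + 1)).succAbove = 1 := by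
          ext k l
          simp only [Matrix.submatrix_apply, Matrix.of_apply, rows, cols, Fin.succAbove_zero,
            Fin.cons_succ, Matrix.one_apply]
          rw [hFH _ (e.symm k).2 _ (e.symm l).2]
          by_cases hkl : k = l
          · subst hkl; simp
          · rw [if_neg hkl, if_neg]
            intro h
            exact hkl (e.symm.injective (Subtype.ext h)).symm
        rw [hsub, Matrix.det_one] at hg
        simpa [rows, cols] using hg
      have hzero : x' = 0 := funext fun i => if h : i ∈ H then hx'H i h else hx'0 i h
      have hx_eq : x = ∑ j ∈ H, x j • F j := by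
        rw [← sub_eq_zero]; exact hzero
      rw [hx_eq]
      exact Submodule.sum_mem _ fun j hj =>
        Submodule.smul_mem _ _ (Submodule.subset_span ⟨j, hj, rfl⟩)
    · rw [Submodule.span_le]
      rintro _ ⟨j, hj, rfl⟩
      exact hf j hj

end Groth.Agent.S18283
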