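import Groth.Statements.S18286
import Groth.Agent.Lib.Helper7.MagnetDominant

set_option autoImplicit false
universe u
open CategoryTheory MonoidalCategory CartesianMonoidalCategory MonObj AlgebraicGeometry Opposite
open Magnet

namespace Groth.Agent.S18286

/-- Let Y be an S-scheme affine over S with an action of the diagonalizable monoid scheme A(M)_S of a
commutative monoid M, let f : Z → Y be an equivariant closed immersion (for an action of A(M)_S on
Z), and let N ⊆ M be a submonoid (magnet). Then Z^N = Z ×_Y Y^N: the square of functors on S-schemes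
formed by f^N : Z^N → Y^N, the canonical maps Z^N → Z and Y^N → Y (evaluation at the unit section)
and f is cartesian. -/
theorem result (S : Scheme.{u}) (M : Type) [AddCommMonoid M]
    (N : AddSubmonoid M) (Y Z : Over S) [IsAffineHom Y.hom] (aY : Magnet.MonAct (Magnet.AMonS S M) Y)
    (aZ : Magnet.MonAct (Magnet.AMonS S M) Z) (f : Z ⟶ Y) [IsClosedImmersion f.left]
    (hf : Magnet.MonAct.IsEquivariant aZ aY f) :
    IsPullback (Magnet.MonAct.eqvHom.postcomp (Magnet.subAct S M N) f hf) (Magnet.attrToX aZ N)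
      (Magnet.attrToX aY N) (yoneda.map f) := by
  haveI hmono : Mono f := by
    haveI : Mono f.left := inferInstance
    exact Over.mono_of_mono_left f
  apply IsPullback.of_forall_isPullback_app
  intro T
  rw [Limits.Types.isPullback_iff]
  refine ⟨?_, ?_, ?_⟩
  · ext φ
    show lift (toUnit (unop T) ≫ MonObj.one (X := Magnet.AMonS S N)) (𝟙 (unop T)) ≫ (φ.1 ≫ f) =
      (lift (toUnit (unop T) ≫ MonObj.one (X := Magnet.AMonS S N)) (𝟙 (unop T)) ≫ φ.1) ≫ f
    rw [Category.assoc]
  · rintro φ₁ φ₂ ⟨h1, -⟩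
    apply Subtype.ext
    have h1' : φ₁.1 ≫ f = φ₂.1 ≫ f := congrArg Subtype.val h1
    exact (cancel_mono f).mp h1'
  · intro φ z hφz
    have hev : lift (toUnit (unop T) ≫ MonObj.one (X := Magnet.AMonS S N)) (𝟙 (unop T)) ≫ φ.1 =
        z ≫ f := hφz
    -- restriction of `φ` along `A(M) ⊗ T ⟶ A(N) ⊗ T`
    have key : (Magnet.AMonS.map S N.subtype ▷ unop T) ≫ φ.1 =
        ((Magnet.AMonS S M ◁ z) ≫ aZ.act) ≫ f := by
      apply Magnet.hom_ext_lift₂
      intro T' g t
      have h := (Magnet.MonAct.mem_eqvHom_iff φ.1).mp φ.2 T' g (1 : T' ⟶ Magnet.AMonS S N) t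
      have e1 : lift g (1 : T' ⟶ Magnet.AMonS S N) ≫ (Magnet.subAct S M N).act =
          g ≫ Magnet.AMonS.map S N.subtype := by
        unfold Magnet.subAct
        rw [Magnet.MonAct.lift_restrict_act, Magnet.MonAct.lift_regular_act, _root_.mul_one]
      have e2 : lift (1 : T' ⟶ Magnet.AMonS S N) t =
          t ≫ lift (toUnit (unop T) ≫ MonObj.one (X := Magnet.AMonS S N)) (𝟙 (unop T)) := by
        rw [comp_lift, Category.comp_id, ← Category.assoc,
          toUnit_unique (t ≫ toUnit (unop T)) (toUnit T'), Hom.one_def]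
      rw [e1, e2, Category.assoc, hev] at h
      rw [lift_whiskerRight_assoc, h, Category.assoc, hf, lift_whiskerLeft_assoc,
        lift_whiskerLeft_assoc, Category.assoc]
    haveI := Groth.Agent.Lib.Helper7.MagnetDominant.isSchemeTheoreticallyDominant_AMonS_map S
      N.subtype Subtype.val_injective (unop T)
    obtain ⟨ψ₀, hψ₀⟩ :=
      Groth.Agent.Lib.Helper7.SchDominant.exists_fac_of_isSchemeTheoreticallyDominant
        (Magnet.AMonS.map S N.subtype ▷ unop T).left f.left φ.1.left
        ((Magnet.AMonS S M ◁ z) ≫ aZ.act).left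
        (by rw [← Over.comp_left, ← Over.comp_left, key])
    have hw : ψ₀ ≫ Z.hom = (Magnet.AMonS S N ⊗ unop T).hom := by
      rw [← Over.w f, ← Category.assoc, hψ₀, Over.w φ.1]
    let ψ : Magnet.AMonS S N ⊗ unop T ⟶ Z := Over.homMk ψ₀ hw
    have hψ : ψ ≫ f = φ.1 := by
      ext
      exact hψ₀
    have heq : Magnet.MonAct.IsEquivariant
        ((Magnet.subAct S M N).prod (Magnet.MonAct.trivial (Magnet.AMonS S M) (unop T))) aZ ψ := by
      have h2 := φ.2
      unfold Magnet.MonAct.IsEquivariant at h2 ⊢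
      rw [← cancel_mono f, Category.assoc, hψ, h2, Category.assoc, hf, ← hψ,
        MonoidalCategory.whiskerLeft_comp, Category.assoc]
    refine ⟨⟨ψ, heq⟩, Subtype.ext hψ, ?_⟩
    show lift (toUnit (unop T) ≫ MonObj.one (X := Magnet.AMonS S N)) (𝟙 (unop T)) ≫ ψ = z
    rw [← cancel_mono f, Category.assoc, hψ, hev]

end Groth.Agent.S18286
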