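import Groth.Statements.S18288
import Groth.Agent.Lib.Helper7.MagnetIso

set_option autoImplicit false
universe u
open CategoryTheory MonoidalCategory CartesianMonoidalCategory MonObj AlgebraicGeometry Opposite
open Magnet

namespace Groth.Agent.S18288

/-- Let M be a commutative monoid with an injective homomorphism f : M → Z into a commutative group Z
(so M is cancellative; the published statement takes Z to be the group completion of M, and the same
argument applies to any such Z), let Y be a submonoid of Z contained in the image of M, and let X be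
an S-scheme separated over S with an action of the diagonalizable monoid scheme A(M)_S. Regard X as
a D(Z)_S-scheme through D(Z)_S → A(M)_S. Then the canonical map of attractors X^{f⁻¹Y ⊂ M} → X^{Y ⊂
Z} is an isomorphism: a D(Z)_S-equivariant family out of A(Y)_S is automatically A(M)_S-equivariant.
(The published statement allows X to be an algebraic space; here X is a scheme.) -/
theorem result (S : Scheme.{u}) (M Z : Type) [AddCommMonoid M]
    [AddCommGroup Z] (f : M →+ Z) (hf : Function.Injective f) (Y : AddSubmonoid Z)
    (hY : Y ≤ AddMonoidHom.mrange f) (X : Over S) [IsSeparated X.hom]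
    (a : Magnet.MonAct (Magnet.AMonS S M) X) :
    IsIso (Magnet.attrComap a f Y) := by
  let g : (Y.comap f) →+ Y := (f.comp (Y.comap f).subtype).codRestrict Y (fun x => x.2)
  have hginj : Function.Injective g := fun x y h => Subtype.ext (hf (congrArg Subtype.val h))
  have hgsurj : Function.Surjective g := by
    rintro ⟨y, hy⟩
    obtain ⟨m, rfl⟩ := hY hy
    exact ⟨⟨m, hy⟩, rfl⟩
  let ge : (Y.comap f) ≃+ Y := AddEquiv.ofBijective g ⟨hginj, hgsurj⟩
  let ginv : Y →+ (Y.comap f) := ge.symm.toAddMonoidHom
  have h1 : g.comp ginv = AddMonoidHom.id Y := by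
    ext y
    exact congrArg Subtype.val (ge.apply_symm_apply y)
  have h2 : ginv.comp g = AddMonoidHom.id (Y.comap f) := by
    ext x
    exact congrArg Subtype.val (ge.symm_apply_apply x)
  have h3 : (f.comp (Y.comap f).subtype).comp ginv = Y.subtype := by
    ext y
    exact congrArg Subtype.val (ge.apply_symm_apply y)
  have hii' : Magnet.AMonS.map S g ≫ Magnet.AMonS.map S ginv = 𝟙 _ := by
    rw [← Magnet.AMonS.map_comp, h1, Groth.Agent.Lib.Helper7.MagnetIso.AMonS_map_id]
  have hi'i : Magnet.AMonS.map S ginv ≫ Magnet.AMonS.map S g = 𝟙 _ := by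
    rw [← Magnet.AMonS.map_comp, h2, Groth.Agent.Lib.Helper7.MagnetIso.AMonS_map_id]
  haveI : ∀ T, IsIso ((Magnet.attrComap a f Y).app T) := by
    intro T
    rw [ConcreteCategory.isIso_iff_bijective]
    constructor
    · intro φ₁ φ₂ h
      apply Subtype.ext
      have h' : (Magnet.AMonS.map S g ▷ unop T) ≫ φ₁.1 = (Magnet.AMonS.map S g ▷ unop T) ≫ φ₂.1 :=
        congrArg Subtype.val h
      have h'' := congrArg (fun t => (Magnet.AMonS.map S ginv ▷ unop T) ≫ t) h'
      simp only [← comp_whiskerRight_assoc, hi'i, id_whiskerRight, Category.id_comp] at h''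
      exact h''
    · intro ψ
      have hi' : Magnet.MonAct.IsEquivariant
          ((Magnet.subAct S M (Y.comap f)).restrict (Magnet.AMonS.map S f)) (Magnet.subAct S Z Y)
          (Magnet.AMonS.map S ginv) := by
        rw [Magnet.subAct, Magnet.subAct, Magnet.MonAct.restrict_restrict]
        exact Magnet.MonAct.isEquivariant_restrict_regular _ _ _
          (by rw [← Magnet.AMonS.map_comp, ← Magnet.AMonS.map_comp, h3])
      let φ' := (Magnet.MonAct.eqvHom.precomp (a.restrict (Magnet.AMonS.map S f))
        (Magnet.AMonS.map S ginv) hi').app T ψ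
      have hφ : Magnet.MonAct.IsEquivariant ((Magnet.subAct S M (Y.comap f)).prod
          (Magnet.MonAct.trivial _ (unop T))) a φ'.1 :=
        Groth.Agent.Lib.Helper7.MagnetIso.isEquivariant_of_restrict (Magnet.AMonS.map S f)
          (fun W => Groth.Agent.Lib.Helper7.MagnetDominant.isSchemeTheoreticallyDominant_AMonS_map
            S f hf W) _ a φ'.1 φ'.2
      refine ⟨⟨φ'.1, hφ⟩, Subtype.ext ?_⟩
      show (Magnet.AMonS.map S g ▷ unop T) ≫ (Magnet.AMonS.map S ginv ▷ unop T) ≫ ψ.1 = ψ.1
      rw [← comp_whiskerRight_assoc, hii', id_whiskerRight, Category.id_comp]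
  exact NatIso.isIso_of_isIso_app _

end Groth.Agent.S18288
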