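import Groth.Statements.S1829
import Groth.Agent.Lib.Helper6.FlatGor5
import Groth.Agent.Lib.Helper73.GorenLCI4
import Groth.Agent.S1780

set_option autoImplicit false
universe u
open CategoryTheory
attribute [local instance] HasDerivedCategory.standard
open Dual

namespace Groth.Agent.S1829

/-- Let A → B be a faithfully flat local complete intersection homomorphism of Noetherian rings and K an
object of D(A); assume the derived base change functor D(A) → D(B) exists. Then K is a dualizing
complex for A if and only if its base change is a dualizing complex for B. -/
theorem result (A B : Type u) [CommRing A] [CommRing B] [Algebra A B] [IsNoetherianRing A] [IsNoetherianRing B] [Module.FaithfullyFlat A B] (hl : LCI.IsLCI A B) [DRing.HasLBaseChange (algebraMap A B)] (K : Dual.D A) : Dual.IsDualizing A K ↔ Dual.IsDualizing B ((DRing.LBaseChange (algebraMap A B)).obj K) := by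
  constructor
  · intro hK
    haveI : Algebra.FiniteType A B := hl.1
    have hfib : ∀ (p : Ideal A) [p.IsPrime], LocCoh.IsGorensteinRing (p.Fiber B) := by
      intro p hp
      exact Lib.Helper24.isGorensteinRing_of_ringEquiv
        (Algebra.TensorProduct.comm A B p.ResidueField).toRingEquiv
        (Lib.Helper73.GorenLCI.isGorensteinRing_fiber_of_flat_isLCI A B hl p)
    have hGd := Lib.Helper6.FlatGor.isDualizing_G_of_gorenstein_fibres (B := B) hfib K hK
    exact Lib.Helper6.HomBC.isDualizing_of_iso
      ((Lib.Helper6.HomBC.lbcIsoG A B).app K).symm hGd
  · intro hK
    exact Groth.Agent.S1780.result A B K hK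

end Groth.Agent.S1829
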