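import Groth.Statements.S1832
import Mathlib
import Groth.Agent.Lib.Helper79.HerbrandSmul
-- import your own Groth.Agent.* helpers here

set_option autoImplicit false
universe u v
open Pointwise
open CycAlg

namespace Groth.Agent.S1832

/-- Over a Noetherian local ring, let (M, φ, ψ) be a (2,1)-periodic complex with M finite and cohomology
of finite length, and let x be a ring element with M/xM supported in dimension ≤ 0. Then (M, xφ, ψ)
and (M, φ, xψ) again have finite-length cohomology, and their Herbrand quotients differ from that of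
(M, φ, ψ) by the Herbrand quotient of (im φ, 0, x), respectively (im ψ, 0, x). -/
theorem result {R : Type u} [CommRing R] [IsNoetherianRing R] [IsLocalRing R] {M : Type v} [AddCommGroup M] [Module R M] [Module.Finite R M] (φ ψ : M →ₗ[R] M) (hper : CycAlg.IsPeriodic φ ψ) (hfin : CycAlg.FinCoh R φ ψ) (x : R) (hx : Module.supportDim R (M ⧸ x • (⊤ : Submodule R M)) ≤ 0) : (CycAlg.FinCoh R (x • φ) ψ ∧ CycAlg.herbrand R (x • φ) ψ = CycAlg.herbrand R φ ψ - CycAlg.herbrand R (0 : ↥(LinearMap.range φ) →ₗ[R] ↥(LinearMap.range φ)) (x • LinearMap.id)) ∧ (CycAlg.FinCoh R φ (x • ψ) ∧ CycAlg.herbrand R φ (x • ψ) = CycAlg.herbrand R φ ψ + CycAlg.herbrand R (0 : ↥(LinearMap.range ψ) →ₗ[R] ↥(LinearMap.range ψ)) (x • LinearMap.id)) := by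
  obtain ⟨h1, h2⟩ := hper
  refine ⟨Groth.Agent.Lib.Helper79.HerbrandSmul.main φ ψ h1 h2 hfin x hx, ?_⟩
  have hfin' : CycAlg.FinCoh R ψ φ := ⟨hfin.2, hfin.1⟩
  obtain ⟨hF, hE⟩ := Groth.Agent.Lib.Helper79.HerbrandSmul.main ψ φ h2 h1 hfin' x hx
  refine ⟨⟨hF.2, hF.1⟩, ?_⟩
  have e1 : CycAlg.herbrand R φ (x • ψ) = - CycAlg.herbrand R (x • ψ) φ := by
    unfold CycAlg.herbrand; ring
  have e2 : CycAlg.herbrand R ψ φ = - CycAlg.herbrand R φ ψ := by
    unfold CycAlg.herbrand; ring
  rw [e1, hE, e2]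
  ring

end Groth.Agent.S1832
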