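import Groth.Statements.S18329
import Mathlib
import Groth.Prelude.Def_SGA3
import Groth.Agent.Lib.Helper86.Pi0D
import Groth.Agent.Lib.Helper86.Pi0E

set_option autoImplicit false
universe u
open TensorProduct
open SGA3

namespace Groth.Agent.S18329

open Groth.Agent.Lib.Helper86.Pi0Tensor

/-- over an algebraically closed field, the separable elements of a commutative Hopf algebra form
a sub-Hopf-algebra. -/
theorem isHopfSubalgebra_separable (k A : Type u) [Field k] [IsAlgClosed k]
    [CommRing A] [HopfAlgebra k A]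
    (B₀ : Subalgebra k A) (hB₀ : ∀ a : A, a ∈ B₀ ↔ IsSeparable k a) :
    SGA3.IsHopfSubalgebra k A B₀ := by
  constructor
  · intro b hb
    have h1 : IsSeparable k (Bialgebra.comulAlgHom k A b) :=
      isSeparable_algHom _ ((hB₀ b).mp hb)
    have h2 := mem_idemSpan_of_isSeparable h1
    have h3 : idemSpan k (A ⊗[k] A) ≤
        LinearMap.range (TensorProduct.map B₀.val.toLinearMap B₀.val.toLinearMap) := by
      refine Submodule.span_le.mpr ?_
      intro u hu
      have h4 := mem_idemTmulSpan (k := k) hu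
      refine (Submodule.span_le.mpr ?_ : idemTmulSpan k A A ≤ _) h4
      rintro _ ⟨e, f, he, hf, rfl⟩
      have he' : e ∈ B₀ := (hB₀ e).mpr (isSeparable_of_isIdempotentElem he)
      have hf' : f ∈ B₀ := (hB₀ f).mpr (isSeparable_of_isIdempotentElem hf)
      exact ⟨(⟨e, he'⟩ : B₀) ⊗ₜ[k] (⟨f, hf'⟩ : B₀), by simp⟩
    exact h3 h2
  · intro b hb
    rw [hB₀]
    exact isSeparable_algHom (HopfAlgebra.antipodeAlgHom k A) ((hB₀ b).mp hb)

theorem result (k A : Type u) [Field k] [IsAlgClosed k]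
    (p : ℕ) [Fact p.Prime] [CharP k p] [CommRing A] [HopfAlgebra k A]
    (B₀ : Subalgebra k A) (hB₀ : ∀ a : A, a ∈ B₀ ↔ IsSeparable k a)
    (C : Subalgebra k A) (hC : SGA3.IsHopfSubalgebra k A C)
    (hCc : ∀ c ∈ C, TensorProduct.comm k A A (Coalgebra.comul c) = Coalgebra.comul c)
    (hCmax : ∀ D : Subalgebra k A, SGA3.IsHopfSubalgebra k A D →
      (∀ d ∈ D, TensorProduct.comm k A A (Coalgebra.comul d) = Coalgebra.comul d) → D ≤ C) :
    IsGreatest {D : Subalgebra k A | SGA3.IsHopfSubalgebra k A D ∧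
      (∀ d ∈ D, TensorProduct.comm k A A (Coalgebra.comul d) = Coalgebra.comul d) ∧ D ≤ B₀}
      (B₀ ⊓ C) := by
  have hB := isHopfSubalgebra_separable k A B₀ hB₀
  constructor
  · refine ⟨⟨?_, ?_⟩, ?_, inf_le_left⟩
    · intro b hb
      exact mem_range_map_val_inf B₀ C _ (hB.1 b hb.1) (hC.1 b hb.2)
    · intro b hb
      exact ⟨hB.2 b hb.1, hC.2 b hb.2⟩
    · intro d hd
      exact hCc d hd.2
  · intro D hD
    exact le_inf hD.2.2 (hCmax D hD.1 hD.2.1)

end Groth.Agent.S18329
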