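import Groth.Statements.S18343
import Groth.Agent.Lib.Helper18.ThickAffine
import Groth.Agent.Lib.Helper18.ClosedImmComap

set_option autoImplicit false
universe u
open CategoryTheory CategoryTheory.Limits AlgebraicGeometry
open MultCurve

namespace Groth.Agent.S18343


theorem alg_key {A B B' : Type*} [CommRing A] [CommRing B] [CommRing B'] (φ : A →+* B)
    (π : B →+* B') (hs : Function.Surjective (π.comp φ))
    (hk : (RingHom.ker (π.comp φ)).map φ = RingHom.ker π)
    (hsq : (RingHom.ker π) ^ 2 = ⊥) : Function.Surjective φ := by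
  have key : ∀ x ∈ RingHom.ker π, ∃ a, φ a = x := by
    intro x hx
    rw [← hk] at hx
    have : x ∈ RingHom.ker π ∧ ∃ a, φ a = x := by
      refine Submodule.span_induction (p := fun x _ => x ∈ RingHom.ker π ∧ ∃ a, φ a = x)
        ?_ ?_ ?_ ?_ hx
      · rintro _ ⟨j, hj, rfl⟩
        exact ⟨by simpa [RingHom.mem_ker] using hj, j, rfl⟩
      · exact ⟨zero_mem _, 0, map_zero _⟩
      · rintro x y _ _ ⟨hx, a, rfl⟩ ⟨hy, b, rfl⟩
        exact ⟨add_mem hx hy, a + b, map_add _ _ _⟩
      · rintro b x _ ⟨hx, a, rfl⟩
        obtain ⟨a', ha'⟩ := hs (π b)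
        have hn : b - φ a' ∈ RingHom.ker π := by
          rw [RingHom.mem_ker, map_sub, ← ha']; simp
        have h0 : (b - φ a') * φ a = 0 := by
          have : (b - φ a') * φ a ∈ (RingHom.ker π) ^ 2 := by
            rw [pow_two]; exact Ideal.mul_mem_mul hn hx
          rwa [hsq] at this
        refine ⟨Ideal.mul_mem_left _ _ hx, a' * a, ?_⟩
        rw [map_mul, smul_eq_mul]; linear_combination -h0
    exact this.2
  intro b
  obtain ⟨a, ha⟩ := hs (π b)
  obtain ⟨a', ha'⟩ := key (b - φ a) (by rw [RingHom.mem_ker, map_sub, ← ha]; simp)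
  exact ⟨a + a', by rw [map_add, ha']; ring⟩

/-- Suppose C is a ribbon on the reduced scheme D via the closed immersion i : D ⟶ C (meaning the ideal
of D squares to zero and is locally generated by a single section z whose annihilator lies in (z)),
and consider an arbitrary morphism of schemes f : C ⟶ X. The morphism f is a closed immersion
exactly when two things hold: the composite i ≫ f, i.e. f restricted to D, is a closed immersion,
and pulling back along f the ideal of the scheme-theoretic image of D in X yields the entire ideal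
of D in C. This second requirement amounts to surjectivity of the map α_f that sends the pullback of
the conormal sheaf of the image of D in X onto the conormal bundle of D in C. (The statement is
given for arbitrary schemes and any morphism f; the published version assumes all schemes are of
finite type over a field and D is connected, but the proof relies on neither assumption.) -/
theorem result (D C X : Scheme.{u}) (i : D ⟶ C)
    (hR : MultCurve.IsRibbon i) (f : C ⟶ X) :
    IsClosedImmersion f ↔ (IsClosedImmersion (i ≫ f) ∧ (i ≫ f).ker.comap f = i.ker) := by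
  obtain ⟨⟨hi, hsq, -⟩, -⟩ := hR
  constructor
  · intro hf
    exact ⟨inferInstance, (Groth.Agent.Lib.Helper18.ker_eq_comap_ker_comp i f).symm⟩
  · rintro ⟨hif, hker⟩
    have hsurj : Function.Surjective i := by
      have h1 : i.ker.support = (⊤ : TopologicalSpace.Closeds C) := by
        rw [← Scheme.IdealSheafData.support_pow i.ker 2 (by norm_num), hsq,
          Scheme.IdealSheafData.support_bot]
      have h2 := Scheme.Hom.support_ker i
      rw [i.isClosedEmbedding.isClosed_range.closure_eq] at h2
      rw [← Set.range_eq_univ, ← h2, h1]; rfl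
    have hS : Surjective i := ⟨hsurj⟩
    have haff : IsAffineHom f := by
      refine ⟨fun U hU => ?_⟩
      have h1 : IsAffineOpen (i ⁻¹ᵁ f ⁻¹ᵁ U) := hU.preimage (i ≫ f)
      have h2 : Surjective (i ∣_ (f ⁻¹ᵁ U)) := IsZariskiLocalAtTarget.restrict hS _
      have : IsAffine (i ⁻¹ᵁ f ⁻¹ᵁ U).toScheme := h1
      exact Groth.Agent.Lib.Helper18.ThickAffine.isAffine_of_isClosedImmersion_of_surjective
        (i ∣_ (f ⁻¹ᵁ U)) h2.1
    rw [isClosedImmersion_iff_isAffineHom]
    refine ⟨haff, fun U hU => ?_⟩
    have hW : IsAffineOpen (f ⁻¹ᵁ U) := hU.preimage f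
    have e1 : (i ≫ f).app U = f.app U ≫ i.app (f ⁻¹ᵁ U) := Scheme.Hom.comp_app i f U
    have hs : Function.Surjective ((i.app (f ⁻¹ᵁ U)).hom.comp (f.app U).hom) := by
      have := (i ≫ f).app_surjective U hU
      rw [e1] at this
      exact this
    have hk1 := Groth.Agent.Lib.Helper18.ideal_comap_preimage f (i ≫ f).ker ⟨U, hU⟩
    have hk2 := congrArg (fun L => L.ideal ⟨f ⁻¹ᵁ U, hW⟩) hker
    have hq := congrArg (fun L => L.ideal ⟨f ⁻¹ᵁ U, hW⟩) hsq
    simp only [Scheme.IdealSheafData.ideal_pow, Pi.pow_apply, Scheme.IdealSheafData.ideal_bot,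
      Pi.bot_apply] at hq
    refine alg_key (f.app U).hom (i.app (f ⁻¹ᵁ U)).hom hs ?_ ?_
    · have h3 : (i ≫ f).ker.ideal ⟨U, hU⟩ =
          RingHom.ker ((i.app (f ⁻¹ᵁ U)).hom.comp (f.app U).hom) := by
        rw [Scheme.Hom.ker_apply, e1]; rfl
      rw [← h3, ← hk1]
      exact hk2.trans (Scheme.Hom.ker_apply i _)
    · rw [← Scheme.Hom.ker_apply i ⟨f ⁻¹ᵁ U, hW⟩]
      exact hq

end Groth.Agent.S18343
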