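import Groth.Statements.S18345
-- import your own Groth.Agent.* helpers here
import Groth.Agent.S18346
import Groth.Agent.Lib.Helper13.OmegaShYoneda

set_option autoImplicit false
universe w u
open CategoryTheory CategoryTheory.Limits AlgebraicGeometry
open MultCurve

namespace Groth.Agent.S18345

/-- Let k be a field and C a ribbon, locally of finite type over k, on the reduced connected scheme D
along i : D ⟶ C, with its restricted cotangent sequence 0 → L → Ω_C|_D → Ω_D → 0 presented by a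
universal k-derivation d₁ : O_C → Ω₁, a universal k-derivation d₂ : O_D → Ω₂, the map φ from the
conormal bundle L of D in C to i^*Ω₁ induced by d₁ and the map c : i^*Ω₁ → Ω₂ compatible with d₁ and
d₂, assumed short exact, that is, with φ injective; let e_C ∈ Ext¹(Ω_D, L) be the class of that
sequence. Then the ribbon is split — i admits a retraction C ⟶ D that is a morphism over k — if and
only if e_C = 0. (The published text treats the restricted cotangent sequence as short exact for
every ribbon and puts the retractions in bijection with the splittings of e_C. Short exactness holds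
over a perfect field but not in general: for k of characteristic p and a ∈ k not a p-th power, the
ribbon Spec k[x]/((x^p − a)²) on D = Spec k(a^{1/p}) has φ = 0 and admits no retraction, although
Ext¹(Ω_D, L) = 0 there. So short exactness is assumed here, and this row states the existence part
of the bijection.) -/
theorem result (k : Type u) [Field k] (D C : Scheme.{u}) (i : D ⟶ C)
    (pC : C ⟶ Spec (CommRingCat.of k)) [LocallyOfFiniteType pC] [ConnectedSpace D] (hR : MultCurve.IsRibbon i)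
    (Ω₁ : C.Modules) (d₁ : OmegaSh.Der pC Ω₁) (hd₁ : OmegaSh.IsUniversal d₁)
    (Ω₂ : D.Modules) (d₂ : OmegaSh.Der (i ≫ pC) Ω₂) (hd₂ : OmegaSh.IsUniversal d₂)
    (φ : Omega.conormal i ⟶ (Scheme.Modules.pullback i).obj Ω₁) (hφ : OmegaSh.IsConormalDiff i d₁ φ)
    (c : (Scheme.Modules.pullback i).obj Ω₁ ⟶ Ω₂) (hc : OmegaSh.IsDiffCompat i d₁ d₂ c)
    (hw : φ ≫ c = 0) (hS : (ShortComplex.mk φ c hw).ShortExact) [HasExt.{w} D.Modules] :
    (∃ r : C ⟶ D, i ≫ r = 𝟙 D ∧ r ≫ i ≫ pC = pC) ↔ hS.extClass = 0 := by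
  have hid : OmegaSh.IsDiffCompat (𝟙 D) d₂ d₂ ((Scheme.Modules.pullbackId D).hom.app Ω₂) := by
    intro U s
    exact Groth.Agent.Lib.Helper13.OmegaShYoneda.pullbackId_hom_pullSect Ω₂ U (d₂.app U s)
  have h46 := Groth.Agent.S18346.result k D C i pC hR Ω₁ d₁ hd₁ Ω₂ d₂ hd₂ φ hφ c hc hw hS D
    (i ≫ pC) (𝟙 D) (Category.id_comp _) Ω₂ d₂ hd₂ _ hid
  refine h46.trans ?_
  constructor
  · rintro ⟨s, hs⟩
    have hσ : ((Scheme.Modules.pullbackId D).inv.app Ω₂ ≫ s) ≫ c = 𝟙 Ω₂ := by
      rw [Category.assoc, hs]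
      exact (Scheme.Modules.pullbackId D).inv_hom_id_app Ω₂
    have h1 := Abelian.Ext.mk₀_comp_mk₀_assoc ((Scheme.Modules.pullbackId D).inv.app Ω₂ ≫ s) c
      hS.extClass
    rw [hσ] at h1
    have h1' : (Abelian.Ext.mk₀ (𝟙 Ω₂)).comp hS.extClass (zero_add 1) = hS.extClass :=
      Abelian.Ext.mk₀_id_comp hS.extClass
    have h2 : (Abelian.Ext.mk₀ c).comp hS.extClass (zero_add 1) = 0 := hS.comp_extClass
    rw [h2, Abelian.Ext.comp_zero] at h1
    exact h1'.symm.trans h1.symm
  · intro h0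
    have h1 : (Abelian.Ext.mk₀ (𝟙 Ω₂)).comp hS.extClass (zero_add 1) = 0 :=
      (Abelian.Ext.mk₀_id_comp hS.extClass).trans h0
    obtain ⟨x₂, hx₂⟩ := Abelian.Ext.covariant_sequence_exact₃ Ω₂ hS (Abelian.Ext.mk₀ (𝟙 Ω₂))
      (zero_add 1) h1
    obtain ⟨σ, rfl⟩ := (Abelian.Ext.mk₀_bijective _ _).2 x₂
    have h2 : Abelian.Ext.mk₀ (σ ≫ c) = Abelian.Ext.mk₀ (𝟙 Ω₂) := by
      rw [← Abelian.Ext.mk₀_comp_mk₀]
      exact hx₂
    have h3 : σ ≫ c = 𝟙 Ω₂ := (Abelian.Ext.mk₀_bijective _ _).1 h2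
    refine ⟨(Scheme.Modules.pullbackId D).hom.app Ω₂ ≫ σ, ?_⟩
    rw [Category.assoc, h3]
    exact Category.comp_id _

end Groth.Agent.S18345
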