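import Groth.Statements.S1835
import Mathlib
import Groth.Agent.Lib.Helper98.KrullAkizukiKey

set_option autoImplicit false
universe u
open CycAlg

namespace Groth.Agent.S1835

open Groth.Agent.Lib.Helper98 Groth.Agent.Lib.Helper74 TensorProduct

theorem lemmaA0 (D : Type u) [CommRing D] [IsDomain D] [IsNoetherianRing D] [Ring.KrullDimLE 1 D]
    (K : Type u) [Field K] [Algebra D K] [IsFractionRing D K]
    (V : Type u) [AddCommGroup V] [Module D V] [Module K V] [IsScalarTower D K V]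
    [FiniteDimensional K V] [Nontrivial V] (M : Submodule D V) (hLat : IsLat K M)
    (a b : D) (ha0 : a ≠ 0) (hb0 : b ≠ 0) (m : ℕ)
    (hdiv : ∀ v ∈ M, ∃ v' ∈ M, b • v = a ^ m • v') :
    m • Ring.ord D a ≤ Ring.ord D b := by
  classical
  have hd : 0 < Module.finrank K V := Module.finrank_pos
  have l1 := length_quotient_smul_top_of_isLat K hLat b hb0
  have l2 := length_quotient_smul_top_of_isLat K hLat (a ^ m) (pow_ne_zero m ha0)
  have hle : (Ideal.span {b} • (⊤ : Submodule D M)) ≤ (Ideal.span {a ^ m} • (⊤ : Submodule D M)) := by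
    rw [Submodule.ideal_span_singleton_smul, Submodule.ideal_span_singleton_smul]
    rintro _ ⟨⟨v, hv⟩, -, rfl⟩
    obtain ⟨v', hv', hvv'⟩ := hdiv v hv
    refine ⟨⟨v', hv'⟩, Submodule.mem_top, ?_⟩
    apply Subtype.ext
    change a ^ m • v' = b • v
    exact hvv'.symm
  have hsurj := Submodule.factor_surjective hle
  have l3 := Module.length_le_of_surjective _ hsurj
  rw [l1, l2, Ring.ord_pow (mem_nonZeroDivisors_of_ne_zero ha0)] at l3
  have hbfin : Ring.ord D b ≠ ⊤ := Ring.ord_ne_top (mem_nonZeroDivisors_of_ne_zero hb0)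
  by_contra hlt
  rw [not_le] at hlt
  obtain ⟨nb, hnb⟩ := ENat.ne_top_iff_exists.1 hbfin
  rw [← hnb] at hlt l3
  have h5 : ((nb + 1 : ℕ) : ℕ∞) ≤ m • Ring.ord D a := by
    exact_mod_cast Order.add_one_le_of_lt hlt
  have h6 : Module.finrank K V • ((nb + 1 : ℕ) : ℕ∞) ≤ Module.finrank K V • ((nb : ℕ) : ℕ∞) :=
    le_trans (nsmul_le_nsmul_right h5 _) l3
  rw [nsmul_eq_mul, nsmul_eq_mul] at h6
  have h7 : Module.finrank K V * (nb + 1) ≤ Module.finrank K V * nb := by exact_mod_cast h6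
  nlinarith

/-- Domain case, module form. -/
theorem lemmaA (D : Type u) [CommRing D] [IsDomain D] [IsNoetherianRing D] [Ring.KrullDimLE 1 D]
    (N : Type u) [AddCommGroup N] [Module D N] [Module.Finite D N]
    (e : N) (he : ∀ x : D, x • e = 0 → x = 0)
    (a b : D) (ha0 : a ≠ 0) (hb0 : b ≠ 0) (m : ℕ)
    (hdiv : ∀ n : N, ∃ n' : N, b • n = a ^ m • n') :
    m • Ring.ord D a ≤ Ring.ord D b := by
  classical
  have hMfg : (LinearMap.range (TensorProduct.mk D (FractionRing D) N 1)).FG := by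
    have : Module.Finite D (LinearMap.range (TensorProduct.mk D (FractionRing D) N 1)) :=
      Module.Finite.range _
    exact Module.Finite.iff_fg.mp this
  have hspan : Submodule.span (FractionRing D)
      ((LinearMap.range (TensorProduct.mk D (FractionRing D) N 1) :
        Submodule D (FractionRing D ⊗[D] N)) : Set (FractionRing D ⊗[D] N)) = ⊤ := by
    rw [eq_top_iff]
    rintro v -
    induction v using TensorProduct.induction_on with
    | zero => exact Submodule.zero_mem _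
    | tmul k n =>
      have : k ⊗ₜ[D] n = k • (TensorProduct.mk D (FractionRing D) N 1 n) := by
        change k ⊗ₜ[D] n = k • ((1 : FractionRing D) ⊗ₜ[D] n)
        rw [TensorProduct.smul_tmul', smul_eq_mul, mul_one]
      rw [this]
      exact Submodule.smul_mem _ k (Submodule.subset_span ⟨n, rfl⟩)
    | add x y hx hy => exact Submodule.add_mem _ hx hy
  have hVne : Nontrivial (FractionRing D ⊗[D] N) := by
    have hinj : Function.Injective (LinearMap.toSpanSingleton D N e) := by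
      rw [injective_iff_map_eq_zero]
      intro x hx
      exact he x hx
    have h2 := Module.Flat.lTensor_preserves_injective_linearMap (M := FractionRing D)
      (LinearMap.toSpanSingleton D N e) hinj
    refine ⟨⟨(LinearMap.lTensor (FractionRing D) (LinearMap.toSpanSingleton D N e))
      ((1 : FractionRing D) ⊗ₜ[D] (1 : D)), 0, ?_⟩⟩
    intro h0
    have h3 : (1 : FractionRing D) ⊗ₜ[D] (1 : D) = 0 := h2 (by rw [h0, map_zero])
    have h4 := congrArg (TensorProduct.rid D (FractionRing D)) h3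
    rw [TensorProduct.rid_tmul, one_smul, map_zero] at h4
    exact one_ne_zero h4
  refine lemmaA0 D (FractionRing D) (FractionRing D ⊗[D] N)
    (LinearMap.range (TensorProduct.mk D (FractionRing D) N 1)) ⟨hMfg, hspan⟩ a b ha0 hb0 m ?_
  rintro _ ⟨n, rfl⟩
  obtain ⟨n', hn'⟩ := hdiv n
  exact ⟨_, ⟨n', rfl⟩, by rw [← map_smul, ← map_smul, hn']⟩

/-- Let R be a Noetherian local ring of dimension 1, a a nonzerodivisor in the maximal ideal and b a
nonzerodivisor. There is an integer n such that whenever b = a^m c in some finite extension ring R ⊆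
R', one has m ≤ n. -/
theorem result (R : Type u) [CommRing R] [IsNoetherianRing R] [IsLocalRing R] (hR : ringKrullDim R = 1) (a b : R) (ha : a ∈ nonZeroDivisors R) (ham : a ∈ IsLocalRing.maximalIdeal R) (hb : b ∈ nonZeroDivisors R) : ∃ n : ℕ, ∀ (R' : Type u) [CommRing R'] [Algebra R R'], Function.Injective (algebraMap R R') → Module.Finite R R' → ∀ (m : ℕ) (c : R'), algebraMap R R' b = algebraMap R R' a ^ m * c → m ≤ n := by
  classical
  obtain ⟨𝔭, h𝔭⟩ : (minimalPrimes R).Nonempty :=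
    Set.nonempty_coe_sort.mp (Ideal.nonempty_minimalPrimes (I := (⊥ : Ideal R)) (by
      intro h
      exact (bot_ne_top : (⊥ : Ideal R) ≠ ⊤) h))
  haveI : 𝔭.IsPrime := Ideal.minimalPrimes_isPrime h𝔭
  have ha𝔭 : a ∉ 𝔭 := fun h =>
    (Set.disjoint_left.mp (Ideal.disjoint_nonZeroDivisors_of_mem_minimalPrimes h𝔭)) h ha
  have hb𝔭 : b ∉ 𝔭 := fun h =>
    (Set.disjoint_left.mp (Ideal.disjoint_nonZeroDivisors_of_mem_minimalPrimes h𝔭)) h hb
  haveI : Ring.KrullDimLE 1 (R ⧸ 𝔭) := by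
    rw [Ring.krullDimLE_iff]
    refine le_trans (ringKrullDim_quotient_le 𝔭) ?_
    rw [hR]
    rfl
  have haq0 : Ideal.Quotient.mk 𝔭 a ≠ 0 := by
    rwa [Ne, Ideal.Quotient.eq_zero_iff_mem]
  have hbq0 : Ideal.Quotient.mk 𝔭 b ≠ 0 := by
    rwa [Ne, Ideal.Quotient.eq_zero_iff_mem]
  have h𝔭m : 𝔭 ≤ IsLocalRing.maximalIdeal R := IsLocalRing.le_maximalIdeal (Ideal.IsPrime.ne_top ‹_›)
  have haq_unit : ¬ IsUnit (Ideal.Quotient.mk 𝔭 a) := by
    intro hu
    obtain ⟨y, hy⟩ := hu.exists_right_inv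
    obtain ⟨r, rfl⟩ := Ideal.Quotient.mk_surjective y
    rw [← map_mul, ← map_one (Ideal.Quotient.mk 𝔭), Ideal.Quotient.eq] at hy
    have h1 : a * r - 1 ∈ IsLocalRing.maximalIdeal R := h𝔭m hy
    have h2 : a * r ∈ IsLocalRing.maximalIdeal R := Ideal.mul_mem_right _ _ ham
    have h3 : (1 : R) ∈ IsLocalRing.maximalIdeal R := by
      have := Ideal.sub_mem _ h2 h1
      rwa [sub_sub_cancel] at this
    exact (Ideal.ne_top_iff_one _).mp (IsLocalRing.maximalIdeal.isMaximal R).ne_top h3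
  have haq_ord : 1 ≤ Ring.ord (R ⧸ 𝔭) (Ideal.Quotient.mk 𝔭 a) := by
    rw [Order.one_le_iff_pos, Ring.ord, Module.length_pos_iff, Ideal.Quotient.nontrivial_iff]
    rwa [Ne, Ideal.span_singleton_eq_top]
  have hbfin : Ring.ord (R ⧸ 𝔭) (Ideal.Quotient.mk 𝔭 b) ≠ ⊤ :=
    Ring.ord_ne_top (mem_nonZeroDivisors_of_ne_zero hbq0)
  refine ⟨(Ring.ord (R ⧸ 𝔭) (Ideal.Quotient.mk 𝔭 b)).toNat, ?_⟩
  intro R' _ _ hinj hfin m c hbc
  obtain ⟨𝔮, -, h𝔮prime, h𝔮⟩ := Ideal.exists_ideal_over_prime_of_isIntegral 𝔭 (⊥ : Ideal R')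
    (by rw [← RingHom.ker_eq_comap_bot, (RingHom.injective_iff_ker_eq_bot _).mp hinj]
        exact bot_le)
  have hsub : (𝔭 • ⊤ : Submodule R R') ≤ 𝔮.restrictScalars R := by
    rw [Submodule.smul_le]
    intro p hp n _
    rw [Submodule.restrictScalars_mem, Algebra.smul_def]
    refine Ideal.mul_mem_right _ _ ?_
    rw [← h𝔮] at hp
    exact hp
  have key := lemmaA (R ⧸ 𝔭) (R' ⧸ (𝔭 • ⊤ : Submodule R R'))
    (Submodule.Quotient.mk (1 : R')) ?_ (Ideal.Quotient.mk 𝔭 a) (Ideal.Quotient.mk 𝔭 b) haq0 hbq0 m ?_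
  · -- conclude
    have h1 : (m : ℕ∞) ≤ m • Ring.ord (R ⧸ 𝔭) (Ideal.Quotient.mk 𝔭 a) := by
      calc (m : ℕ∞) = m • (1 : ℕ∞) := by rw [nsmul_eq_mul, mul_one]
        _ ≤ m • Ring.ord (R ⧸ 𝔭) (Ideal.Quotient.mk 𝔭 a) := nsmul_le_nsmul_right haq_ord m
    have h2 := le_trans h1 key
    obtain ⟨nb, hnb⟩ := ENat.ne_top_iff_exists.1 hbfin
    rw [← hnb] at h2 ⊢
    rw [ENat.toNat_coe]
    exact_mod_cast h2
  · intro x hx
    obtain ⟨r, rfl⟩ := Ideal.Quotient.mk_surjective x
    rw [Module.Quotient.mk_smul_mk, Submodule.Quotient.mk_eq_zero] at hx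
    have h1 := hsub hx
    rw [Submodule.restrictScalars_mem, Algebra.smul_def, mul_one] at h1
    rw [Ideal.Quotient.eq_zero_iff_mem, ← h𝔮]
    exact h1
  · intro n
    obtain ⟨r', rfl⟩ := Submodule.Quotient.mk_surjective _ n
    refine ⟨Submodule.Quotient.mk (c * r'), ?_⟩
    rw [← map_pow, Module.Quotient.mk_smul_mk, Module.Quotient.mk_smul_mk]
    congr 1
    rw [Algebra.smul_def, Algebra.smul_def, hbc, map_pow, mul_assoc]

end Groth.Agent.S1835
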