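import Groth.Statements.S18353
import Mathlib
import Groth.Agent.Lib.Helper50.CurveFamNormalSch
import Groth.Agent.Lib.Helper50.BiratPush

set_option autoImplicit false
universe u
open Curv2

namespace Groth.Agent.S18353

open CategoryTheory AlgebraicGeometry in
/-- Let S be an integral Noetherian scheme all of whose local rings are integrally closed domains, and
let f₁ : C₁ → S and f₂ : C₂ → S be flat, proper, locally finitely presented morphisms of schemes
whose fibres are geometrically reduced and geometrically connected, all of Krull dimension one, and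
whose fibres over the generic point of S are smooth. Let φ : C₁ → C₂ be a morphism over S which is
birational, in the sense that it restricts to an isomorphism over some dense open subset of C₂. Then
the canonical map O_{C₂} → φ_* O_{C₁} is an isomorphism: for every open V of C₂ the pull-back map
from sections over V to sections over φ⁻¹(V) is an isomorphism of rings. The total spaces are
schemes here; the source also allows algebraic spaces. -/
theorem result (S C₁ C₂ : Scheme.{u}) [IsIntegral S]
    [IsNoetherian S] (hS : Pi1.IsNormalScheme S) (f₁ : C₁ ⟶ S) (f₂ : C₂ ⟶ S)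
    [Flat f₁] [IsProper f₁] [LocallyOfFinitePresentation f₁] [GeometricallyReduced f₁] [GeometricallyConnected f₁]
    [Flat f₂] [IsProper f₂] [LocallyOfFinitePresentation f₂] [GeometricallyReduced f₂] [GeometricallyConnected f₂]
    (hdim₁ : ∀ s : ↥S, topologicalKrullDim ↥(f₁.fiber s) = 1) (hdim₂ : ∀ s : ↥S, topologicalKrullDim ↥(f₂.fiber s) = 1)
    (hsm₁ : Smooth (f₁.fiberToSpecResidueField (genericPoint ↥S)))
    (hsm₂ : Smooth (f₂.fiberToSpecResidueField (genericPoint ↥S)))
    (φ : C₁ ⟶ C₂) (hφ : φ ≫ f₂ = f₁) (hbir : ∃ U : C₂.Opens, Dense (U : Set ↥C₂) ∧ IsIso (φ ∣_ U)) :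
    ∀ V : C₂.Opens, IsIso (φ.app V) := by
    have hLN : IsLocallyNoetherian S := inferInstance
    have hN₁ := Groth.Agent.Lib.Helper50.CurveFamNormal.isNormalScheme_of_flat_of_reduced_fibres hS f₁
      (fun s => inferInstance) (fun s => (hdim₁ s).le) hsm₁
    have hN₂ := Groth.Agent.Lib.Helper50.CurveFamNormal.isNormalScheme_of_flat_of_reduced_fibres hS f₂
      (fun s => inferInstance) (fun s => (hdim₂ s).le) hsm₂
    have hLN₁ : IsLocallyNoetherian C₁ := LocallyOfFiniteType.isLocallyNoetherian f₁
    have hLN₂ : IsLocallyNoetherian C₂ := LocallyOfFiniteType.isLocallyNoetherian f₂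
    have hc₁ : CompactSpace C₁ := QuasiCompact.compactSpace_of_compactSpace f₁
    have hc₂ : CompactSpace C₂ := QuasiCompact.compactSpace_of_compactSpace f₂
    have hNoe₁ : IsNoetherian C₁ := {}
    have hNoe₂ : IsNoetherian C₂ := {}
    have hconn₁ : ConnectedSpace C₁ := GeometricallyConnected.connectedSpace f₁ f₁.isOpenMap
    have hconn₂ : ConnectedSpace C₂ := GeometricallyConnected.connectedSpace f₂ f₂.isOpenMap
    have hI₁ := Groth.Agent.Lib.Helper50.BiratPush.isIntegral_of_connected_of_isNormalScheme C₁ hN₁
    have hI₂ := Groth.Agent.Lib.Helper50.BiratPush.isIntegral_of_connected_of_isNormalScheme C₂ hN₂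
    obtain ⟨U, hUd, hUiso⟩ := hbir
    have hprop : IsProper φ := by
      have : IsProper (φ ≫ f₂) := hφ ▸ inferInstance
      exact IsProper.of_comp φ f₂
    intro V
    exact Groth.Agent.Lib.Helper50.BiratPush.isIso_app_of_birational hN₂ φ U hUd.nonempty V

end Groth.Agent.S18353
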