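import Groth.Statements.S1836
import Mathlib
import Groth.Agent.Lib.Helper71.Dim1K

set_option autoImplicit false
universe u
open CycAlg

namespace Groth.Agent.S1836

/-- Let A be a Noetherian local ring of dimension 1 and a₁, …, a_r (r ≥ 2) nonzerodivisors, not all
units. There is a finite extension ring A ⊆ B with B/A killed by a power of the maximal ideal such
that at every maximal ideal of B there is a nonzerodivisor π of the local ring B_𝔪 with each a_i
equal to a unit of B_𝔪 times a power of π. -/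
theorem result (A : Type u) [CommRing A] [IsNoetherianRing A] [IsLocalRing A] (hA : ringKrullDim A = 1) (r : ℕ) (hr : 2 ≤ r) (a : Fin r → A) (ha : ∀ i, a i ∈ nonZeroDivisors A) (hna : ∃ i, ¬ IsUnit (a i)) : ∃ (B : Type u) (_ : CommRing B) (_ : Algebra A B), CycAlg.IsFinExt A B (IsLocalRing.maximalIdeal A) ∧ ∀ q : MaximalSpectrum B, ∃ π : Localization.AtPrime q.asIdeal, π ∈ nonZeroDivisors (Localization.AtPrime q.asIdeal) ∧ ∀ i, ∃ (v : (Localization.AtPrime q.asIdeal)ˣ) (e : ℕ), algebraMap A (Localization.AtPrime q.asIdeal) (a i) = (v : Localization.AtPrime q.asIdeal) * π ^ e := by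
  have hArt : ∀ γ ∈ nonZeroDivisors A, IsArtinianRing (A ⧸ Ideal.span {γ}) :=
    fun γ hγ => Groth.Agent.Lib.Helper71.Dim1.isArtinianRing_quotient_of_dim_one hA γ hγ
  obtain ⟨T, i1, i2, i3, i4, hST, hAT, π, hπ, hLC⟩ :=
    Groth.Agent.Lib.Helper71.Dim1.exists_uniformizer hArt A
      (Groth.Agent.Lib.Helper71.Dim1.IsBir.refl A) r a ha
  clear hAT i4
  clear i3
  refine ⟨T, i1, i2, @Groth.Agent.Lib.Helper71.Dim1.IsBir.isFinExt A _ _ T i1 i2 hST hArt, ?_⟩
  intro q
  have hq : q.asIdeal.IsMaximal := q.isMaximal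
  refine ⟨algebraMap T (Localization.AtPrime q.asIdeal) π, ?_, ?_⟩
  · exact IsLocalization.map_nonZeroDivisors_le q.asIdeal.primeCompl
      (Localization.AtPrime q.asIdeal) ⟨π, hπ, rfl⟩
  · intro i
    obtain ⟨e, u, v, hu, hv, huv⟩ := hLC q.asIdeal hq i
    have hu' : IsUnit (algebraMap T (Localization.AtPrime q.asIdeal) u) :=
      IsLocalization.map_units (M := q.asIdeal.primeCompl) _ ⟨u, hu⟩
    have hv' : IsUnit (algebraMap T (Localization.AtPrime q.asIdeal) v) :=
      IsLocalization.map_units (M := q.asIdeal.primeCompl) _ ⟨v, hv⟩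
    refine ⟨hu'.unit⁻¹ * hv'.unit, e, ?_⟩
    have h1 := congrArg (algebraMap T (Localization.AtPrime q.asIdeal)) huv
    rw [map_mul, map_mul, map_pow] at h1
    rw [IsScalarTower.algebraMap_apply A T (Localization.AtPrime q.asIdeal)]
    rw [Units.val_mul, mul_assoc, eq_comm, Units.inv_mul_eq_iff_eq_mul]
    exact h1.symm

end Groth.Agent.S1836
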