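import Groth.Statements.S18363
import Mathlib

set_option autoImplicit false
universe u
open CategoryTheory
open CAlg

namespace Groth.Agent.S18363



theorem ext_one_nontrivial_of_exact
    {R : Type u} [CommRing R] {I J' J J'' : Type u}
    [AddCommGroup I] [Module R I] [AddCommGroup J'] [Module R J']
    [AddCommGroup J] [Module R J] [AddCommGroup J''] [Module R J'']
    (f : J' →ₗ[R] J) (g : J →ₗ[R] J'') (hfg : Function.Exact f g)
    (hf : Function.Injective f) (hg : Function.Surjective g)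
    (hHom : ∀ φ : I →ₗ[R] J, φ = 0)
    (ψ : I →ₗ[R] J'') (hψ : ψ ≠ 0) :
    Nontrivial (Abelian.Ext (ModuleCat.of R I) (ModuleCat.of R J') 1) := by
  by_contra hN
  rw [not_nontrivial_iff_subsingleton] at hN
  let S : ShortComplex (ModuleCat.{u} R) :=
    ModuleCat.shortComplexOfCompEqZero f g hfg.linearMap_comp_eq_zero
  have hS : S.ShortExact := ModuleCat.shortComplex_shortExact S hfg hf hg
  let x₃ : Abelian.Ext (ModuleCat.of R I) S.X₃ 0 := Abelian.Ext.mk₀ (ModuleCat.ofHom ψ)
  have hx₃ : x₃.comp hS.extClass (zero_add 1) = 0 := Subsingleton.elim _ _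
  obtain ⟨x₂, hx₂⟩ := Abelian.Ext.covariant_sequence_exact₃ _ hS x₃ (zero_add 1) hx₃
  obtain ⟨φ, rfl⟩ := (Abelian.Ext.mk₀_bijective _ _).2 x₂
  have hφ : φ = 0 := by
    ext x
    have := hHom φ.hom
    rw [this]
    rfl
  rw [hφ, Abelian.Ext.mk₀_zero, Abelian.Ext.zero_comp] at hx₂
  have h0 : ModuleCat.ofHom ψ = 0 := by
    apply (Abelian.Ext.mk₀_bijective _ _).1
    rw [Abelian.Ext.mk₀_zero]
    exact hx₂.symm
  apply hψ
  have := congrArg ModuleCat.Hom.hom h0
  simpa using this



section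
variable {R : Type u} [CommRing R] [IsNoetherianRing R] [IsLocalRing R]

theorem nontrivial_quot_of_dim {Q : Ideal R} (hQdim : ringKrullDim (R ⧸ Q) = 1) :
    Nontrivial (R ⧸ Q) := by
  by_contra h
  rw [not_nontrivial_iff_subsingleton] at h
  rw [ringKrullDim_eq_bot_of_subsingleton] at hQdim
  exact absurd hQdim (by decide)

theorem le_maximalIdeal_of_dim {Q : Ideal R} (hQdim : ringKrullDim (R ⧸ Q) = 1) :
    Q ≤ IsLocalRing.maximalIdeal R := by
  have := nontrivial_quot_of_dim hQdim
  exact IsLocalRing.le_maximalIdeal (Ideal.Quotient.nontrivial_iff.mp this)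

/-- existence of an element of `P` which is a nonzerodivisor modulo `Q`. -/
theorem exists_mem_nonZeroDivisors (P Q : Ideal R)
    (hPQ : ∃ n : ℕ, IsLocalRing.maximalIdeal R ^ n ≤ P ⊔ Q)
    [IsReduced (R ⧸ Q)] (hQdim : ringKrullDim (R ⧸ Q) = 1) :
    ∃ s ∈ P, Ideal.Quotient.mk Q s ∈ nonZeroDivisors (R ⧸ Q) := by
  classical
  have hnt := nontrivial_quot_of_dim hQdim
  have hloc : IsLocalRing (R ⧸ Q) :=
    IsLocalRing.of_surjective' (Ideal.Quotient.mk Q) Ideal.Quotient.mk_surjective
  by_contra hcon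
  push Not at hcon
  obtain ⟨n, hn⟩ := hPQ
  have hdisj : Disjoint ((P.map (Ideal.Quotient.mk Q) : Ideal (R ⧸ Q)) : Set (R ⧸ Q))
      (nonZeroDivisors (R ⧸ Q)) := by
    rw [Set.disjoint_left]
    intro z hz
    obtain ⟨p, hp, rfl⟩ := (Ideal.mem_map_iff_of_surjective _ Ideal.Quotient.mk_surjective).mp hz
    exact hcon p hp
  have hann := Ideal.bot_lt_annihilator_of_disjoint_nonZeroDivisors hdisj
  obtain ⟨x, hx, hx0⟩ := SetLike.exists_of_lt hann
  have hx0' : x ≠ 0 := fun h => hx0 (by rw [h]; exact Submodule.zero_mem _)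
  rw [Module.mem_annihilator] at hx
  -- x kills the image of P
  have hxP : ∀ p ∈ P, x * Ideal.Quotient.mk Q p = 0 := by
    intro p hp
    have := hx ⟨Ideal.Quotient.mk Q p, Ideal.mem_map_of_mem _ hp⟩
    simpa [Subtype.ext_iff] using this
  -- x kills m_A
  have hxm : ∀ r ∈ IsLocalRing.maximalIdeal R, x * Ideal.Quotient.mk Q r = 0 := by
    intro r hr
    have h1 : r ^ n ∈ P ⊔ Q := hn (Ideal.pow_mem_pow hr n)
    obtain ⟨p, hp, q, hq, hpq⟩ := Submodule.mem_sup.mp h1
    have h2 : x * (Ideal.Quotient.mk Q r) ^ n = 0 := by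
      rw [← map_pow, ← hpq, map_add, Ideal.Quotient.eq_zero_iff_mem.mpr hq, add_zero]
      exact hxP p hp
    have h3 : (x * Ideal.Quotient.mk Q r) ^ (n + 1) = 0 := by
      rw [mul_pow, pow_succ, pow_succ]
      calc x ^ n * x * ((Ideal.Quotient.mk Q r) ^ n * (Ideal.Quotient.mk Q r))
          = x ^ n * (Ideal.Quotient.mk Q r) * (x * (Ideal.Quotient.mk Q r) ^ n) := by ring
        _ = 0 := by rw [h2, mul_zero]
    exact IsReduced.eq_zero _ ⟨_, h3⟩
  obtain ⟨x', rfl⟩ := Ideal.Quotient.mk_surjective x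
  by_cases hx' : x' ∈ IsLocalRing.maximalIdeal R
  · have := hxm x' hx'
    apply hx0'
    exact IsReduced.eq_zero _ ⟨2, by rw [pow_two]; exact this⟩
  · have hu : IsUnit x' := by
      by_contra h
      exact hx' ((IsLocalRing.mem_maximalIdeal _).mpr h)
    have hu' : IsUnit (Ideal.Quotient.mk Q x') := hu.map _
    have hm0 : IsLocalRing.maximalIdeal (R ⧸ Q) = ⊥ := by
      rw [eq_bot_iff]
      intro y hy
      obtain ⟨r, rfl⟩ := Ideal.Quotient.mk_surjective y
      have hr : r ∈ IsLocalRing.maximalIdeal R := by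
        rw [IsLocalRing.mem_maximalIdeal, mem_nonunits_iff] at hy ⊢
        intro h
        exact hy (h.map _)
      have := hxm r hr
      rw [Ideal.mem_bot]
      exact (hu'.mul_right_eq_zero).mp this
    have hfield : IsField (R ⧸ Q) := IsLocalRing.isField_iff_maximalIdeal_eq.mpr hm0
    rw [ringKrullDim_eq_zero_of_isField hfield] at hQdim
    exact absurd hQdim (by decide)

end



section
variable {R : Type u} [CommRing R] [IsNoetherianRing R] [IsLocalRing R]

/-- a prime containing `Q` and an element which is a nonzerodivisor mod `Q` is the maximal ideal,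
when `R/Q` has dimension one. -/
theorem eq_maximalIdeal_of_mem (Q : Ideal R) (hQdim : ringKrullDim (R ⧸ Q) = 1)
    (s : R) (hs : Ideal.Quotient.mk Q s ∈ nonZeroDivisors (R ⧸ Q))
    (p : Ideal R) [hp : p.IsPrime] (hQp : Q ≤ p) (hsp : s ∈ p) :
    p = IsLocalRing.maximalIdeal R := by
  have hdim : Ring.KrullDimLE 1 (R ⧸ Q) := by
    rw [Ring.krullDimLE_iff, hQdim]
    rfl
  have hker : RingHom.ker (Ideal.Quotient.mk Q) ≤ p := by rwa [Ideal.mk_ker]
  have hp' : (p.map (Ideal.Quotient.mk Q)).IsPrime :=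
    Ideal.map_isPrime_of_surjective Ideal.Quotient.mk_surjective hker
  have hcomap : (p.map (Ideal.Quotient.mk Q)).comap (Ideal.Quotient.mk Q) = p :=
    (Ideal.comap_map_of_surjective' _ Ideal.Quotient.mk_surjective p).trans (by
      rw [sup_eq_left]; exact hker)
  rcases Ring.krullDimLE_one_iff.mp hdim _ hp' with hmin | hmax
  · exfalso
    have := Ideal.disjoint_nonZeroDivisors_of_mem_minimalPrimes hmin
    rw [Set.disjoint_left] at this
    exact this (Ideal.mem_map_of_mem _ hsp) hs
  · have : p.IsMaximal := by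
      rw [← hcomap]
      exact Ideal.comap_isMaximal_of_surjective _ Ideal.Quotient.mk_surjective
    exact IsLocalRing.eq_maximalIdeal this

end



section
variable {R : Type u} [CommRing R] [IsNoetherianRing R] [IsLocalRing R]

/-- multiplication by `s` on `J`. -/
noncomputable def mulBy (J : Type u) [AddCommGroup J] [Module R J] (s : R) : J →ₗ[R] J :=
  s • LinearMap.id

omit [IsNoetherianRing R] [IsLocalRing R] in
@[simp] theorem mulBy_apply (J : Type u) [AddCommGroup J] [Module R J] (s : R) (y : J) :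
    mulBy J s y = s • y := rfl

theorem nontrivial_quot_range (J : Type u) [AddCommGroup J] [Module R J] [Module.Finite R J]
    [Nontrivial J] (s : R) (hs : s ∈ IsLocalRing.maximalIdeal R) :
    Nontrivial (J ⧸ LinearMap.range (mulBy J s)) := by
  rw [Submodule.Quotient.nontrivial_iff]
  intro htop
  have h1 : (⊤ : Submodule R J) ≤ Ideal.span {s} • (⊤ : Submodule R J) := by
    intro y _
    have : y ∈ LinearMap.range (mulBy J s) := by rw [htop]; trivial
    obtain ⟨z, rfl⟩ := this
    rw [mulBy_apply]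
    exact Submodule.smul_mem_smul (Ideal.mem_span_singleton_self s) trivial
  have h2 : Ideal.span {s} ≤ (⊥ : Ideal R).jacobson := by
    rw [IsLocalRing.jacobson_eq_maximalIdeal _ bot_ne_top, Ideal.span_singleton_le_iff_mem]
    exact hs
  have := Submodule.eq_bot_of_le_smul_of_le_jacobson_bot (Ideal.span {s}) (⊤ : Submodule R J)
    Module.Finite.fg_top h1 h2
  exact top_ne_bot this

/-- socle element in `J/sJ`. -/
theorem exists_socle (Q : Ideal R) (hQdim : ringKrullDim (R ⧸ Q) = 1)
    (s : R) (hs : Ideal.Quotient.mk Q s ∈ nonZeroDivisors (R ⧸ Q))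
    (hsm : s ∈ IsLocalRing.maximalIdeal R)
    (J : Type u) [AddCommGroup J] [Module R J] [Module.Finite R J] [Nontrivial J]
    (hQJ : ∀ q ∈ Q, ∀ y : J, q • y = 0) :
    ∃ y : J ⧸ LinearMap.range (mulBy J s), y ≠ 0 ∧
      ∀ r ∈ IsLocalRing.maximalIdeal R, r • y = 0 := by
  have hnt := nontrivial_quot_range J s hsm
  obtain ⟨p, hp⟩ := associatedPrimes.nonempty R (J ⧸ LinearMap.range (mulBy J s))
  rw [AssociatedPrimes.mem_iff, isAssociatedPrime_iff] at hp
  obtain ⟨hprime, y, hy⟩ := hp
  have hmem : ∀ r : R, r ∈ p ↔ r • y = 0 := by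
    intro r
    rw [hy, Submodule.mem_colon_singleton, Submodule.mem_bot]
  obtain ⟨j, rfl⟩ := Submodule.Quotient.mk_surjective _ y
  have hQp : Q ≤ p := by
    intro q hq
    rw [hmem, ← Submodule.Quotient.mk_smul, hQJ q hq j, Submodule.Quotient.mk_zero]
  have hsp : s ∈ p := by
    rw [hmem, ← Submodule.Quotient.mk_smul, Submodule.Quotient.mk_eq_zero]
    exact ⟨j, rfl⟩
  have hpm := eq_maximalIdeal_of_mem Q hQdim s hs p hQp hsp
  refine ⟨Submodule.Quotient.mk j, ?_, ?_⟩
  · intro h0
    apply hprime.ne_top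
    rw [Ideal.eq_top_iff_one, hmem, h0, smul_zero]
  · intro r hr
    rw [← hmem, hpm]
    exact hr

/-- a nonzero map from a nonzero finite module to a module with a socle element. -/
theorem exists_ne_zero_hom (I N : Type u) [AddCommGroup I] [Module R I] [Module.Finite R I]
    [Nontrivial I] [AddCommGroup N] [Module R N]
    (y : N) (hy : y ≠ 0) (hmy : ∀ r ∈ IsLocalRing.maximalIdeal R, r • y = 0) :
    ∃ ψ : I →ₗ[R] N, ψ ≠ 0 := by
  obtain ⟨I', hI'⟩ := IsCoatomic.exists_coatom (α := Submodule R I)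
  have hsimple : IsSimpleModule R (I ⧸ I') := isSimpleModule_iff_isCoatom.mpr hI'
  obtain ⟨m', hm', ⟨e⟩⟩ := isSimpleModule_iff_quot_maximal.mp hsimple
  have hm'eq : m' = IsLocalRing.maximalIdeal R := IsLocalRing.eq_maximalIdeal hm'
  subst hm'eq
  let t : (R ⧸ IsLocalRing.maximalIdeal R) →ₗ[R] N :=
    Submodule.liftQ (IsLocalRing.maximalIdeal R) (LinearMap.toSpanSingleton R N y) (by
      intro r hr
      rw [LinearMap.mem_ker, LinearMap.toSpanSingleton_apply]
      exact hmy r hr)
  refine ⟨t ∘ₗ e.toLinearMap ∘ₗ I'.mkQ, ?_⟩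
  intro h0
  obtain ⟨z, hz⟩ := e.surjective (Submodule.Quotient.mk (1 : R))
  obtain ⟨w, rfl⟩ := Submodule.Quotient.mk_surjective _ z
  have := LinearMap.congr_fun h0 w
  simp only [LinearMap.coe_comp, LinearEquiv.coe_coe, Function.comp_apply, Submodule.mkQ_apply,
    LinearMap.zero_apply] at this
  rw [hz] at this
  apply hy
  have h1 : t (Submodule.Quotient.mk (1 : R)) = y := by
    simp only [t, Submodule.liftQ_apply, LinearMap.toSpanSingleton_apply, one_smul]
  rw [← h1]
  exact this

end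


theorem main
    (R : Type u) [CommRing R] [IsNoetherianRing R] [IsLocalRing R]
    (P Q : Ideal R) (hPQ : ∃ n : ℕ, IsLocalRing.maximalIdeal R ^ n ≤ P ⊔ Q)
    [IsReduced (R ⧸ Q)]
    (hPdim : ringKrullDim (R ⧸ P) = 1) (hQdim : ringKrullDim (R ⧸ Q) = 1)
    (I J : Type u) [AddCommGroup I] [Module R I] [Module.Finite R I] [Nontrivial I]
    [AddCommGroup J] [Module R J] [Module.Finite R J] [Nontrivial J]
    (hPI : ∀ p ∈ P, ∀ x : I, p • x = 0) (hQJ : ∀ q ∈ Q, ∀ y : J, q • y = 0)
    (hJtf : ∀ r : R, Ideal.Quotient.mk Q r ∈ nonZeroDivisors (R ⧸ Q) → ∀ y : J, r • y = 0 → y = 0) :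
    Nontrivial (Abelian.Ext (ModuleCat.of R I) (ModuleCat.of R J) 1) := by
  obtain ⟨s, hsP, hs⟩ := exists_mem_nonZeroDivisors P Q hPQ hQdim
  have hsm : s ∈ IsLocalRing.maximalIdeal R := le_maximalIdeal_of_dim hPdim hsP
  obtain ⟨y, hy, hmy⟩ := exists_socle Q hQdim s hs hsm J hQJ
  obtain ⟨ψ, hψ⟩ := exists_ne_zero_hom I _ y hy hmy
  refine ext_one_nontrivial_of_exact (mulBy J s) (LinearMap.range (mulBy J s)).mkQ
    (LinearMap.exact_map_mkQ_range _) ?_ (Submodule.mkQ_surjective _) ?_ ψ hψ
  · intro y₁ y₂ h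
    rw [mulBy_apply, mulBy_apply] at h
    have : s • (y₁ - y₂) = 0 := by rw [smul_sub, h, sub_self]
    exact sub_eq_zero.mp (hJtf s hs _ this)
  · intro φ
    ext x
    apply hJtf s hs
    rw [← map_smul, hPI s hsP x, map_zero]


/-- Let R be a Noetherian local ring with maximal ideal m, and P, Q ideals of R such that P + Q contains
a power of m while R/P and R/Q are both reduced of Krull dimension one. Let I and J be nonzero
finitely generated R-modules with P·I = 0 and Q·J = 0, such that every element of R whose class in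
R/P is a non-zero-divisor acts injectively on I, and every element whose class in R/Q is a
non-zero-divisor acts injectively on J. Then the group Ext¹_R(I, J) is nonzero. (This is the stalk
statement behind the existence of a non-split extension of a torsion-free rank-one sheaf on a
subcurve Y by one on a subcurve Z of a reduced projective curve, at a point where Y and Z meet
without sharing a component; in that situation the modules moreover have rank one at the generic
points of their supports and P ∩ Q = 0, two assumptions the argument does not use.) -/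
theorem result
    (R : Type u) [CommRing R] [IsNoetherianRing R] [IsLocalRing R]
    (P Q : Ideal R) (hPQ : ∃ n : ℕ, IsLocalRing.maximalIdeal R ^ n ≤ P ⊔ Q)
    [IsReduced (R ⧸ P)] [IsReduced (R ⧸ Q)]
    (hPdim : ringKrullDim (R ⧸ P) = 1) (hQdim : ringKrullDim (R ⧸ Q) = 1)
    (I J : Type u) [AddCommGroup I] [Module R I] [Module.Finite R I] [Nontrivial I]
    [AddCommGroup J] [Module R J] [Module.Finite R J] [Nontrivial J]
    (hPI : ∀ p ∈ P, ∀ x : I, p • x = 0) (hQJ : ∀ q ∈ Q, ∀ y : J, q • y = 0)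
    (hItf : ∀ r : R, Ideal.Quotient.mk P r ∈ nonZeroDivisors (R ⧸ P) → ∀ x : I, r • x = 0 → x = 0)
    (hJtf : ∀ r : R, Ideal.Quotient.mk Q r ∈ nonZeroDivisors (R ⧸ Q) → ∀ y : J, r • y = 0 → y = 0) :
    Nontrivial (Abelian.Ext (ModuleCat.of R I) (ModuleCat.of R J) 1) := by
  exact main R P Q hPQ hPdim hQdim I J hPI hQJ hJtf

end Groth.Agent.S18363
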