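import Groth.Statements.S18364
import Groth.Agent.Lib.Helper91.Modification

set_option autoImplicit false
universe u
open CAlg
open Groth.Agent.Lib.Helper91

namespace Groth.Agent.S18364

/-- If `p` is a minimal prime over `(π)` in a noetherian ring, some power of `p` is locally
contained in `(π)`. -/
theorem exists_pow_killer {A : Type u} [CommRing A] [IsNoetherianRing A] (π : A) (p : Ideal A)
    (hp : p ∈ (Ideal.span {π}).minimalPrimes) :
    ∃ e : ℕ, ∀ x ∈ p ^ e, ∃ t, t ∉ p ∧ t * x ∈ Ideal.span {π} := by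
  have hpp : p.IsPrime := hp.isPrime
  let R := Localization.AtPrime p
  have : IsNoetherianRing R := IsLocalization.isNoetherianRing p.primeCompl R inferInstance
  have hrad := IsLocalization.AtPrime.radical_map_of_mem_minimalPrimes (A := R) p _ hp
  obtain ⟨e, he⟩ := Ideal.exists_radical_pow_le_of_fg
    ((Ideal.span {π}).map (algebraMap A R)) (IsNoetherian.noetherian _)
  rw [hrad] at he
  refine ⟨e, fun x hx => ?_⟩
  have hx' : algebraMap A R x ∈ (Ideal.span {π}).map (algebraMap A R) := by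
    apply he
    rw [← Ideal.map_pow]
    exact Ideal.mem_map_of_mem _ hx
  rw [IsLocalization.mem_map_algebraMap_iff p.primeCompl] at hx'
  obtain ⟨⟨a, s⟩, hs⟩ := hx'
  rw [← map_mul, IsLocalization.eq_iff_exists p.primeCompl] at hs
  obtain ⟨t, ht⟩ := hs
  refine ⟨t.1 * s.1, fun h => (t * s).2 h, ?_⟩
  have : t.1 * s.1 * x = t.1 * (x * s.1) := by ring
  rw [this, ht]
  exact Ideal.mul_mem_left _ _ a.2

/-- Avoidance: for `i ∉ Y` there is `s ∉ 𝔓 i` which is locally in `(π)` at every `𝔓 j`, `j ∈ Y`. -/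
theorem exists_avoid {A : Type u} [CommRing A] [IsNoetherianRing A] (π : A)
    {ι : Type} [Finite ι] (𝔓 : ι → Ideal A) [∀ i, (𝔓 i).IsPrime]
    (h𝔓 : ∀ i, 𝔓 i ∈ (Ideal.span {π}).minimalPrimes) (h𝔓inj : Function.Injective 𝔓)
    (Y : Set ι) (i : ι) (hi : i ∉ Y) :
    ∃ s, s ∉ 𝔓 i ∧ ∀ j ∈ Y, ∃ t, t ∉ 𝔓 j ∧ t * s ∈ Ideal.span {π} := by
  classical
  have := Fintype.ofFinite ι
  have hc : ∀ j : ι, ∃ c : A, j ≠ i → c ∈ 𝔓 j ∧ c ∉ 𝔓 i := by
    intro j
    by_cases hji : j = i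
    · exact ⟨0, fun h => absurd hji h⟩
    · have hnle : ¬ 𝔓 j ≤ 𝔓 i := by
        intro hle
        have := (h𝔓 i).2 (h𝔓 j).1 hle
        exact hji (h𝔓inj (le_antisymm hle this))
      obtain ⟨c, hcj, hci⟩ := Set.not_subset.mp hnle
      exact ⟨c, fun _ => ⟨hcj, hci⟩⟩
  choose c hc using hc
  have he : ∀ j : ι, ∃ e : ℕ, ∀ x ∈ 𝔓 j ^ e, ∃ t, t ∉ 𝔓 j ∧ t * x ∈ Ideal.span {π} :=
    fun j => exists_pow_killer π (𝔓 j) (h𝔓 j)
  choose e he using he
  refine ⟨∏ j ∈ Finset.univ.filter (· ∈ Y), c j ^ e j, ?_, ?_⟩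
  · intro hmem
    rw [Ideal.IsPrime.prod_mem_iff] at hmem
    obtain ⟨j, hj, hjmem⟩ := hmem
    have hjY : j ∈ Y := (Finset.mem_filter.mp hj).2
    have hji : j ≠ i := fun h => hi (h ▸ hjY)
    exact (hc j hji).2 ((inferInstance : (𝔓 i).IsPrime).mem_of_pow_mem _ hjmem)
  · intro j hjY
    have hji : j ≠ i := fun h => hi (h ▸ hjY)
    apply he j
    have hdvd : c j ^ e j ∣ ∏ j ∈ Finset.univ.filter (· ∈ Y), c j ^ e j :=
      Finset.dvd_prod_of_mem _ (Finset.mem_filter.mpr ⟨Finset.mem_univ j, hjY⟩)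
    exact Ideal.mem_of_dvd _ hdvd (Ideal.pow_mem_pow (hc j hji).1 _)

/-- Let A be a Noetherian ring, π an element of A, and (𝔓_i)_{i ∈ ι} an injective finite family listing
exactly the minimal prime ideals over (π). Let M be a finitely generated A-module and M̄ = M/πM. For
a subset T of ι let K(T) ⊆ M̄ be the submodule of elements whose image in the localisation of M̄ at
𝔓_i is zero for every i ∈ T, and N(T) ⊆ M its preimage in M. Assume K(ι) = 0, i.e. no nonzero
element of M̄ vanishes at all the minimal primes (every associated prime of M̄ is one of the 𝔓_i).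
Then for every subset Y of ι with complement Z one has N(Y) ∩ N(Z) = πM, and the same construction
applied to the module N(Y) instead of M — the preimage in N(Y) of the elements of N(Y)/πN(Y)
vanishing at every 𝔓_i with i ∈ Z — is, as a submodule of M, equal to N(Y) ∩ N(Z). (Geometric
meaning: A is the local ring of a flat family of curves over a discrete valuation ring with
uniformizer π at a point of the reduced special fibre, M the stalk of a torsion-free rank-one sheaf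
I, Y a set of components of the special fibre through the point, and N(Y) the stalk of the kernel
I^Y of I → I(s)_Y; the statement is (I^Y)^Z = I^Y ∩ I^Z = πI. Reducedness of A/πA, flatness and rank
one are not used.) -/
theorem result
    (A : Type u) [CommRing A] [IsNoetherianRing A] (π : A)
    (ι : Type) [Finite ι] (𝔓 : ι → Ideal A) [∀ i, (𝔓 i).IsPrime]
    (h𝔓 : ∀ i, 𝔓 i ∈ (Ideal.span {π}).minimalPrimes) (h𝔓inj : Function.Injective 𝔓)
    (h𝔓surj : ∀ 𝔔 ∈ (Ideal.span {π}).minimalPrimes, ∃ i, 𝔓 i = 𝔔)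
    (M : Type u) [AddCommGroup M] [Module A M] [Module.Finite A M]
    (K : Set ι → Submodule A (M ⧸ Ideal.span {π} • (⊤ : Submodule A M)))
    (hK : ∀ T : Set ι, K T = ⨅ i ∈ T, LinearMap.ker
      (LocalizedModule.mkLinearMap (𝔓 i).primeCompl (M ⧸ Ideal.span {π} • (⊤ : Submodule A M))))
    (htf : K Set.univ = ⊥)
    (N : Set ι → Submodule A M)
    (hN : ∀ T : Set ι, N T = (K T).comap (Submodule.mkQ (Ideal.span {π} • (⊤ : Submodule A M))))
    (Y : Set ι) :
    N Y ⊓ N Yᶜ = Ideal.span {π} • (⊤ : Submodule A M) ∧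
    Submodule.map (N Y).subtype
      ((⨅ i ∈ Yᶜ, LinearMap.ker (LocalizedModule.mkLinearMap (𝔓 i).primeCompl
          (↥(N Y) ⧸ Ideal.span {π} • (⊤ : Submodule A ↥(N Y))))).comap
        (Submodule.mkQ (Ideal.span {π} • (⊤ : Submodule A ↥(N Y)))))
      = N Y ⊓ N Yᶜ := by
  have memK : ∀ (T : Set ι) (x : M), (Ideal.span {π} • (⊤ : Submodule A M)).mkQ x ∈ K T ↔
      ∀ i ∈ T, ∃ s, s ∉ 𝔓 i ∧ s • x ∈ Ideal.span {π} • (⊤ : Submodule A M) := by
    intro T x; rw [hK]; exact mkQ_mem_iInf_ker_iff _ 𝔓 T x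
  have memN : ∀ (T : Set ι) (x : M), x ∈ N T ↔
      ∀ i ∈ T, ∃ s, s ∉ 𝔓 i ∧ s • x ∈ Ideal.span {π} • (⊤ : Submodule A M) := by
    intro T x; rw [hN, Submodule.mem_comap]; exact memK T x
  have memP : ∀ x : M, x ∈ Ideal.span {π} • (⊤ : Submodule A M) ↔ ∃ y : M, π • y = x :=
    fun x => mem_span_singleton_smul_top_iff π x
  have memP' : ∀ n : ↥(N Y), n ∈ Ideal.span {π} • (⊤ : Submodule A ↥(N Y)) ↔
      ∃ y : ↥(N Y), π • y = n := fun n => mem_span_singleton_smul_top_iff π n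
  have one_notMem : ∀ i, (1 : A) ∉ 𝔓 i := fun i h => (inferInstance : (𝔓 i).IsPrime).ne_top
    ((Ideal.eq_top_iff_one _).mpr h)
  have P_le_N : ∀ T, Ideal.span {π} • (⊤ : Submodule A M) ≤ N T := by
    intro T x hx
    rw [memN]
    intro i _
    exact ⟨1, one_notMem i, by rwa [one_smul]⟩
  have N_univ : ∀ x, x ∈ N Set.univ → x ∈ Ideal.span {π} • (⊤ : Submodule A M) := by
    intro x hx
    rw [hN, Submodule.mem_comap, htf, Submodule.mem_bot, Submodule.mkQ_apply,
      Submodule.Quotient.mk_eq_zero] at hx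
    exact hx
  have part1 : N Y ⊓ N Yᶜ = Ideal.span {π} • (⊤ : Submodule A M) := by
    apply le_antisymm
    · rintro x ⟨hx1, hx2⟩
      apply N_univ
      rw [memN]
      intro i _
      by_cases hi : i ∈ Y
      · exact (memN Y x).mp hx1 i hi
      · exact (memN Yᶜ x).mp hx2 i hi
    · exact le_inf (P_le_N _) (P_le_N _)
  refine ⟨part1, ?_⟩
  apply le_antisymm
  · rintro m ⟨n, hn, rfl⟩
    refine ⟨n.2, ?_⟩
    rw [SetLike.mem_coe, Submodule.mem_comap, mkQ_mem_iInf_ker_iff] at hn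
    rw [Submodule.subtype_apply, SetLike.mem_coe, memN]
    intro i hi
    obtain ⟨s, hs, hsn⟩ := hn i hi
    refine ⟨s, hs, ?_⟩
    obtain ⟨y, hy⟩ := (memP' _).mp hsn
    rw [memP]
    exact ⟨y.1, by simpa using congrArg Subtype.val hy⟩
  · intro m hm
    have hmY : m ∈ N Y := hm.1
    have hmP : m ∈ Ideal.span {π} • (⊤ : Submodule A M) := by rw [← part1]; exact hm
    obtain ⟨m₀, hm₀⟩ := (memP _).mp hmP
    refine ⟨⟨m, hmY⟩, ?_, rfl⟩
    rw [SetLike.mem_coe, Submodule.mem_comap, mkQ_mem_iInf_ker_iff]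
    intro i hi
    obtain ⟨s, hs, hsY⟩ := exists_avoid π 𝔓 h𝔓 h𝔓inj Y i hi
    have hsm₀ : s • m₀ ∈ N Y := by
      rw [memN]
      intro j hj
      obtain ⟨t, ht, hts⟩ := hsY j hj
      refine ⟨t, ht, ?_⟩
      obtain ⟨c, hc⟩ := Ideal.mem_span_singleton'.mp hts
      rw [memP]
      refine ⟨c • m₀, ?_⟩
      rw [smul_smul, smul_smul, mul_comm π c, hc]
    refine ⟨s, hs, (memP' _).mpr ⟨⟨s • m₀, hsm₀⟩, ?_⟩⟩
    apply Subtype.ext
    simp only [Submodule.coe_smul]
    rw [smul_comm, hm₀]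

end Groth.Agent.S18364
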