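import Groth.Statements.S18365
import Groth.Agent.Lib.Helper91.Modification

set_option autoImplicit false
universe u
open CAlg
open Groth.Agent.Lib.Helper91

namespace Groth.Agent.S18365

/-- Core argument, free of quotient modules. -/
theorem core {A : Type u} [CommRing A] (π : A) {ι : Type} (𝔓 : ι → Ideal A) [∀ i, (𝔓 i).IsPrime]
    {M : Type u} [AddCommGroup M] [Module A M] (hπ : ∀ m : M, π • m = 0 → m = 0)
    (P : Submodule A M) (memP : ∀ x : M, x ∈ P ↔ ∃ y : M, π • y = x)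
    (N : Set ι → Submodule A M)
    (memN : ∀ (T : Set ι) (x : M), x ∈ N T ↔ ∀ i ∈ T, ∃ s, s ∉ 𝔓 i ∧ s • x ∈ P)
    (N_univ : ∀ x, x ∈ N Set.univ → x ∈ P)
    (Y Z : Set ι)
    (decY : ∀ m : M, ∃ u v : M, u ∈ N Y ∧ v ∈ N Yᶜ ∧ m = u + v)
    (decZ : ∀ n : ↥(N Y), ∃ na nb : ↥(N Y),
      (∀ i ∈ Z, ∃ s, s ∉ 𝔓 i ∧ ∃ y : ↥(N Y), π • y = s • na) ∧
      (∀ i ∈ Zᶜ, ∃ s, s ∉ 𝔓 i ∧ ∃ y : ↥(N Y), π • y = s • nb) ∧ n = na + nb) (m : M) :
    ∃ a b : M, a ∈ N Z ∧ b ∈ N Zᶜ ∧ m - (a + b) ∈ P := by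
  have one_notMem : ∀ i, (1 : A) ∉ 𝔓 i := fun i h => (inferInstance : (𝔓 i).IsPrime).ne_top
    ((Ideal.eq_top_iff_one _).mpr h)
  have P_le_N : ∀ T, P ≤ N T := by
    intro T x hx
    rw [memN]
    intro i _
    exact ⟨1, one_notMem i, by rwa [one_smul]⟩
  have N_anti : ∀ {T₁ T₂ : Set ι}, T₁ ⊆ T₂ → N T₂ ≤ N T₁ := by
    intro T₁ T₂ h x hx
    rw [memN] at hx ⊢
    exact fun i hi => hx i (h hi)
  have N_union : ∀ (T₁ T₂ : Set ι) (x : M), x ∈ N T₁ → x ∈ N T₂ → x ∈ N (T₁ ∪ T₂) := by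
    intro T₁ T₂ x h1 h2
    rw [memN] at h1 h2 ⊢
    rintro i (hi | hi)
    · exact h1 i hi
    · exact h2 i hi
  -- an element of N Y vanishing (in N Y / π N Y) at T vanishes in M/πM at T
  have van'_to_van : ∀ (T : Set ι) (n : ↥(N Y)),
      (∀ i ∈ T, ∃ s, s ∉ 𝔓 i ∧ ∃ y : ↥(N Y), π • y = s • n) → (n : M) ∈ N T := by
    intro T n h
    rw [memN]
    intro i hi
    obtain ⟨s, hs, y, hy⟩ := h i hi
    refine ⟨s, hs, ?_⟩
    rw [memP]
    exact ⟨y.1, by simpa using congrArg Subtype.val hy⟩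
  -- Part 1: elements of N Y decompose at Z
  have part1 : ∀ x ∈ N Y, ∃ a b : M, a ∈ N Z ∧ b ∈ N Zᶜ ∧ x - (a + b) ∈ P := by
    intro x hx
    obtain ⟨na, nb, hna, hnb, hsum⟩ := decZ ⟨x, hx⟩
    have hx' : x = na.1 + nb.1 := by simpa using congrArg Subtype.val hsum
    refine ⟨na.1, nb.1, van'_to_van Z na hna, van'_to_van Zᶜ nb hnb, ?_⟩
    rw [hx', sub_self]
    exact P.zero_mem
  -- Part 2: elements of N Yᶜ decompose at Z
  have part2 : ∀ v ∈ N Yᶜ, ∃ a b : M, a ∈ N Z ∧ b ∈ N Zᶜ ∧ v - (a + b) ∈ P := by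
    intro v hv
    have hπvP : π • v ∈ P := (memP _).mpr ⟨v, rfl⟩
    obtain ⟨na, nb, hna, hnb, hsum⟩ := decZ ⟨π • v, P_le_N Y hπvP⟩
    have hsum' : π • v = na.1 + nb.1 := by simpa using congrArg Subtype.val hsum
    have hnaZ : na.1 ∈ N Z := van'_to_van Z na hna
    have hnbZ : nb.1 ∈ N Zᶜ := van'_to_van Zᶜ nb hnb
    have hnaZc : na.1 ∈ N Zᶜ := by
      have : na.1 = π • v - nb.1 := by rw [hsum']; abel
      rw [this]
      exact (N Zᶜ).sub_mem (P_le_N _ hπvP) hnbZ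
    have hnbZ' : nb.1 ∈ N Z := by
      have : nb.1 = π • v - na.1 := by rw [hsum']; abel
      rw [this]
      exact (N Z).sub_mem (P_le_N _ hπvP) hnaZ
    have hnaP : na.1 ∈ P := by
      apply N_univ
      have := N_union Z Zᶜ _ hnaZ hnaZc
      rwa [Set.union_compl_self] at this
    have hnbP : nb.1 ∈ P := by
      apply N_univ
      have := N_union Z Zᶜ _ hnbZ' hnbZ
      rwa [Set.union_compl_self] at this
    obtain ⟨ma, hma⟩ := (memP _).mp hnaP
    obtain ⟨mb, hmb⟩ := (memP _).mp hnbP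
    have hv_eq : v = ma + mb := by
      have : π • (v - (ma + mb)) = 0 := by
        rw [smul_sub, smul_add, hma, hmb, hsum']; abel
      have := hπ _ this
      exact sub_eq_zero.mp this
    -- ma vanishes at Z ∩ Y, mb vanishes at Zᶜ ∩ Y
    have key : ∀ (T : Set ι) (n : ↥(N Y)) (m : M), π • m = n.1 →
        (∀ i ∈ T, ∃ s, s ∉ 𝔓 i ∧ ∃ y : ↥(N Y), π • y = s • n) → m ∈ N (T ∩ Y) := by
      intro T n m hmn h
      rw [memN]
      rintro i ⟨hiT, hiY⟩
      obtain ⟨s, hs, y, hy⟩ := h i hiT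
      have hy1 : π • y.1 = s • n.1 := by simpa using congrArg Subtype.val hy
      have hsm : s • m = y.1 := by
        have : π • (s • m - y.1) = 0 := by
          rw [smul_sub, smul_comm, hmn, hy1, sub_self]
        exact sub_eq_zero.mp (hπ _ this)
      have hsmY : s • m ∈ N Y := by rw [hsm]; exact y.2
      obtain ⟨t, ht, hts⟩ := (memN Y _).mp hsmY i hiY
      refine ⟨t * s, fun hmem => ?_, by rwa [mul_smul]⟩
      rcases (inferInstance : (𝔓 i).IsPrime).mem_or_mem hmem with h' | h'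
      · exact ht h'
      · exact hs h'
    have hma' : ma ∈ N (Z ∩ Y) := key Z na ma hma hna
    have hmb' : mb ∈ N (Zᶜ ∩ Y) := key Zᶜ nb mb hmb hnb
    obtain ⟨ua, va, hua, hva, hma_eq⟩ := decY ma
    obtain ⟨ub, vb, hub, hvb, hmb_eq⟩ := decY mb
    -- v - va - vb ∈ P
    have hdiffP : v - (va + vb) ∈ P := by
      apply N_univ
      have h1 : v - (va + vb) ∈ N Yᶜ := (N Yᶜ).sub_mem hv ((N Yᶜ).add_mem hva hvb)
      have h2 : v - (va + vb) ∈ N Y := by
        have : v - (va + vb) = ua + ub := by rw [hv_eq, hma_eq, hmb_eq]; abel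
        rw [this]; exact (N Y).add_mem hua hub
      have := N_union Y Yᶜ _ h2 h1
      rwa [Set.union_compl_self] at this
    -- va ∈ N Z, vb ∈ N Zᶜ
    have hvaZ : va ∈ N Z := by
      have h1 : va ∈ N (Z ∩ Y) := by
        have : va = ma - ua := by rw [hma_eq]; abel
        rw [this]
        exact (N _).sub_mem hma' (N_anti Set.inter_subset_right hua)
      have h2 : va ∈ N (Z ∩ Yᶜ) := N_anti Set.inter_subset_right hva
      have := N_union _ _ _ h1 h2
      rwa [← Set.inter_union_distrib_left, Set.union_compl_self, Set.inter_univ] at this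
    have hvbZ : vb ∈ N Zᶜ := by
      have h1 : vb ∈ N (Zᶜ ∩ Y) := by
        have : vb = mb - ub := by rw [hmb_eq]; abel
        rw [this]
        exact (N _).sub_mem hmb' (N_anti Set.inter_subset_right hub)
      have h2 : vb ∈ N (Zᶜ ∩ Yᶜ) := N_anti Set.inter_subset_right hvb
      have := N_union _ _ _ h1 h2
      rwa [← Set.inter_union_distrib_left, Set.union_compl_self, Set.inter_univ] at this
    exact ⟨va, vb, hvaZ, hvbZ, hdiffP⟩
  obtain ⟨u, v, hu, hv, rfl⟩ := decY m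
  obtain ⟨a₁, b₁, ha₁, hb₁, h₁⟩ := part1 u hu
  obtain ⟨a₂, b₂, ha₂, hb₂, h₂⟩ := part2 v hv
  refine ⟨a₁ + a₂, b₁ + b₂, (N Z).add_mem ha₁ ha₂, (N Zᶜ).add_mem hb₁ hb₂, ?_⟩
  have : u + v - (a₁ + a₂ + (b₁ + b₂)) = (u - (a₁ + b₁)) + (v - (a₂ + b₂)) := by abel
  rw [this]
  exact P.add_mem h₁ h₂

/-- Let A be a Noetherian ring, π an element of A, (𝔓_i)_{i ∈ ι} an injective finite family listing
exactly the minimal prime ideals over (π), and M a finitely generated A-module on which π acts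
injectively; put M̄ = M/πM. For T ⊆ ι let K(T) ⊆ M̄ be the submodule of elements whose image in the
localisation of M̄ at 𝔓_i vanishes for every i ∈ T, and N(T) ⊆ M its preimage; assume K(ι) = 0.
Suppose that M̄ decomposes at Y, i.e. K(Y) + K(Yᶜ) = M̄, and that for a subset Z the module
N(Y)/πN(Y) decomposes at Z, i.e. its submodule of elements vanishing at every 𝔓_i (i ∈ Z) and its
submodule of elements vanishing at every 𝔓_i (i ∉ Z) together span it. Then M̄ decomposes at Z: K(Z)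
+ K(Zᶜ) = M̄. (Geometric meaning: for a flat family of curves over a discrete valuation ring with
uniformizer π, I a torsion-free rank-one sheaf flat over the base, Y a subcurve of the special fibre
X(s) at which I(s) decomposes and I^Y = ker(I → I(s)_Y): if I^Y(s) decomposes at a subcurve Z then
so does I(s); decomposition of a sheaf at Z is the surjectivity of I(s) → I(s)_Z ⊕ I(s)_{Z^c},
checked on stalks. Reducedness of the special fibre and rank one are not used.) -/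
theorem result
    (A : Type u) [CommRing A] [IsNoetherianRing A] (π : A)
    (ι : Type) [Finite ι] (𝔓 : ι → Ideal A) [∀ i, (𝔓 i).IsPrime]
    (h𝔓 : ∀ i, 𝔓 i ∈ (Ideal.span {π}).minimalPrimes) (h𝔓inj : Function.Injective 𝔓)
    (h𝔓surj : ∀ 𝔔 ∈ (Ideal.span {π}).minimalPrimes, ∃ i, 𝔓 i = 𝔔)
    (M : Type u) [AddCommGroup M] [Module A M] [Module.Finite A M]
    (hπ : ∀ m : M, π • m = 0 → m = 0)
    (K : Set ι → Submodule A (M ⧸ Ideal.span {π} • (⊤ : Submodule A M)))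
    (hK : ∀ T : Set ι, K T = ⨅ i ∈ T, LinearMap.ker
      (LocalizedModule.mkLinearMap (𝔓 i).primeCompl (M ⧸ Ideal.span {π} • (⊤ : Submodule A M))))
    (htf : K Set.univ = ⊥)
    (N : Set ι → Submodule A M)
    (hN : ∀ T : Set ι, N T = (K T).comap (Submodule.mkQ (Ideal.span {π} • (⊤ : Submodule A M))))
    (Y Z : Set ι) (hY : K Y ⊔ K Yᶜ = ⊤)
    (K' : Set ι → Submodule A (↥(N Y) ⧸ Ideal.span {π} • (⊤ : Submodule A ↥(N Y))))
    (hK' : ∀ T : Set ι, K' T = ⨅ i ∈ T, LinearMap.ker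
      (LocalizedModule.mkLinearMap (𝔓 i).primeCompl (↥(N Y) ⧸ Ideal.span {π} • (⊤ : Submodule A ↥(N Y)))))
    (hZ : K' Z ⊔ K' Zᶜ = ⊤) :
    K Z ⊔ K Zᶜ = ⊤ := by
  have memK : ∀ (T : Set ι) (x : M), (Ideal.span {π} • (⊤ : Submodule A M)).mkQ x ∈ K T ↔
      ∀ i ∈ T, ∃ s, s ∉ 𝔓 i ∧ s • x ∈ Ideal.span {π} • (⊤ : Submodule A M) := by
    intro T x; rw [hK]; exact mkQ_mem_iInf_ker_iff _ 𝔓 T x
  have memN : ∀ (T : Set ι) (x : M), x ∈ N T ↔
      ∀ i ∈ T, ∃ s, s ∉ 𝔓 i ∧ s • x ∈ Ideal.span {π} • (⊤ : Submodule A M) := by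
    intro T x; rw [hN, Submodule.mem_comap]; exact memK T x
  have memK' : ∀ (T : Set ι) (n : ↥(N Y)),
      (Ideal.span {π} • (⊤ : Submodule A ↥(N Y))).mkQ n ∈ K' T ↔
        ∀ i ∈ T, ∃ s, s ∉ 𝔓 i ∧ s • n ∈ Ideal.span {π} • (⊤ : Submodule A ↥(N Y)) := by
    intro T n; rw [hK']; exact mkQ_mem_iInf_ker_iff _ 𝔓 T n
  have memP : ∀ x : M, x ∈ Ideal.span {π} • (⊤ : Submodule A M) ↔ ∃ y : M, π • y = x :=
    fun x => mem_span_singleton_smul_top_iff π x
  have memP' : ∀ n : ↥(N Y), n ∈ Ideal.span {π} • (⊤ : Submodule A ↥(N Y)) ↔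
      ∃ y : ↥(N Y), π • y = n := fun n => mem_span_singleton_smul_top_iff π n
  have one_notMem : ∀ i, (1 : A) ∉ 𝔓 i := fun i h => (inferInstance : (𝔓 i).IsPrime).ne_top
    ((Ideal.eq_top_iff_one _).mpr h)
  have P_le_N : ∀ T, Ideal.span {π} • (⊤ : Submodule A M) ≤ N T := by
    intro T x hx
    rw [memN]
    intro i _
    exact ⟨1, one_notMem i, by rwa [one_smul]⟩
  have N_univ : ∀ x, x ∈ N Set.univ → x ∈ Ideal.span {π} • (⊤ : Submodule A M) := by
    intro x hx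
    rw [hN, Submodule.mem_comap, htf, Submodule.mem_bot, Submodule.mkQ_apply,
      Submodule.Quotient.mk_eq_zero] at hx
    exact hx
  -- decomposition at Y, on the level of M
  have decY : ∀ m : M, ∃ u v : M, u ∈ N Y ∧ v ∈ N Yᶜ ∧ m = u + v := by
    intro m
    have hm : (Ideal.span {π} • (⊤ : Submodule A M)).mkQ m ∈ K Y ⊔ K Yᶜ := by rw [hY]; trivial
    obtain ⟨a, ha, b, hb, hab⟩ := Submodule.mem_sup.mp hm
    obtain ⟨u', rfl⟩ := (Ideal.span {π} • (⊤ : Submodule A M)).mkQ_surjective a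
    obtain ⟨v', rfl⟩ := (Ideal.span {π} • (⊤ : Submodule A M)).mkQ_surjective b
    have hdiff : m - u' - v' ∈ Ideal.span {π} • (⊤ : Submodule A M) := by
      rw [← Submodule.Quotient.mk_eq_zero, ← Submodule.mkQ_apply, map_sub, map_sub, ← hab]
      abel
    refine ⟨u' + (m - u' - v'), v', ?_, ?_, by abel⟩
    · exact (N Y).add_mem (by rw [hN]; exact ha) (P_le_N Y hdiff)
    · rw [hN]; exact hb
  -- decomposition at Z of elements of N Y
  have decZ : ∀ n : ↥(N Y), ∃ na nb : ↥(N Y),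
      (∀ i ∈ Z, ∃ s, s ∉ 𝔓 i ∧ ∃ y : ↥(N Y), π • y = s • na) ∧
      (∀ i ∈ Zᶜ, ∃ s, s ∉ 𝔓 i ∧ ∃ y : ↥(N Y), π • y = s • nb) ∧ n = na + nb := by
    intro n
    have hn : (Ideal.span {π} • (⊤ : Submodule A ↥(N Y))).mkQ n ∈ K' Z ⊔ K' Zᶜ := by
      rw [hZ]; trivial
    obtain ⟨a, ha, b, hb, hab⟩ := Submodule.mem_sup.mp hn
    obtain ⟨na, rfl⟩ := (Ideal.span {π} • (⊤ : Submodule A ↥(N Y))).mkQ_surjective a
    obtain ⟨nb, rfl⟩ := (Ideal.span {π} • (⊤ : Submodule A ↥(N Y))).mkQ_surjective b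
    have hdiff : n - na - nb ∈ Ideal.span {π} • (⊤ : Submodule A ↥(N Y)) := by
      rw [← Submodule.Quotient.mk_eq_zero, ← Submodule.mkQ_apply, map_sub, map_sub, ← hab]
      abel
    refine ⟨na, nb + (n - na - nb), ?_, ?_, by abel⟩
    · intro i hi
      obtain ⟨s, hs, h⟩ := (memK' Z na).mp ha i hi
      exact ⟨s, hs, (memP' _).mp h⟩
    · intro i hi
      obtain ⟨s, hs, hsb⟩ := (memK' Zᶜ nb).mp hb i hi
      refine ⟨s, hs, (memP' _).mp ?_⟩
      rw [smul_add]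
      exact Submodule.add_mem _ hsb (Submodule.smul_mem _ s hdiff)
  -- conclusion
  rw [eq_top_iff]
  intro x _
  obtain ⟨m, rfl⟩ := (Ideal.span {π} • (⊤ : Submodule A M)).mkQ_surjective x
  obtain ⟨a, b, ha, hb, hab⟩ := core π 𝔓 hπ _ memP N memN N_univ Y Z decY decZ m
  have hm : (Ideal.span {π} • (⊤ : Submodule A M)).mkQ m =
      (Ideal.span {π} • (⊤ : Submodule A M)).mkQ a + (Ideal.span {π} • (⊤ : Submodule A M)).mkQ b := by
    have : (Ideal.span {π} • (⊤ : Submodule A M)).mkQ (m - (a + b)) = 0 := by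
      rw [Submodule.mkQ_apply, Submodule.Quotient.mk_eq_zero]; exact hab
    rw [map_sub, map_add] at this
    exact sub_eq_zero.mp this
  rw [hm]
  refine Submodule.add_mem_sup ?_ ?_
  · rw [hN] at ha; exact ha
  · rw [hN] at hb; exact hb

end Groth.Agent.S18365
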