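import Groth.Statements.S18366
import Groth.Agent.Lib.Helper41.SepPoints
import Groth.Agent.Lib.Helper14.GeomReducedSmooth

set_option autoImplicit false
universe u
open CategoryTheory CategoryTheory.Limits AlgebraicGeometry
open Variety

namespace Groth.Agent.S18366

/-- Let k be a separably closed field and X a non-empty k-scheme of finite type which is geometrically
reduced. Then X has a k-rational point, i.e. the structure morphism admits a section. (Non-emptiness
is part of the hypotheses: the empty scheme is geometrically reduced of finite type and has no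
point. The published statement does not assume X non-empty; this row does, since the empty scheme
has no rational point.) -/
theorem result (k : Type u) [Field k] [IsSepClosed k]
    {X : Scheme.{u}} (f : X ⟶ Spec (CommRingCat.of k)) [LocallyOfFiniteType f] [QuasiCompact f] [GeometricallyReduced f]
    [Nonempty X] :
    ∃ s : Spec (CommRingCat.of k) ⟶ X, s ≫ f = 𝟙 (Spec (CommRingCat.of k)) := by
  have hfp : LocallyOfFinitePresentation f := inferInstance
  have hd : Dense (f.smoothLocus : Set X) :=
    Groth.Agent.Lib.Helper14.dense_smoothLocus_of_geometricallyReduced f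
  obtain ⟨x0, hx0⟩ := hd.nonempty
  let V : X.Opens := f.smoothLocus
  let XV : Over (Spec (CommRingCat.of k)) := Over.mk (V.ι ≫ f)
  have hsm : Smooth (V.ι ≫ f) := by
    rw [← Scheme.Hom.smoothLocus_eq_top_iff, ← Scheme.Hom.preimage_smoothLocus_eq,
      ← top_le_iff]
    rintro x -
    change V.ι x ∈ f.smoothLocus
    exact x.2
  have : Smooth XV.hom := hsm
  have : Nonempty XV.left := ⟨⟨x0, hx0⟩⟩
  obtain ⟨t⟩ := Groth.Agent.Lib.Helper41.SepPoints.nonempty_pts_of_smooth k k XV
  refine ⟨t.left ≫ V.ι, ?_⟩
  have h1 := Over.w t
  have h2 : (SGA7.pt (K := k) k).hom = 𝟙 _ := by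
    change Spec.map (CommRingCat.ofHom (algebraMap k k)) = 𝟙 _
    rw [Algebra.algebraMap_self]
    exact Spec.map_id _
  rw [h2] at h1
  rw [Category.assoc]
  exact h1

end Groth.Agent.S18366
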