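import Groth.Statements.S18368
import Groth.Agent.S7615
import Groth.Agent.Lib.Helper75.AARigidity
import Groth.Agent.Lib.Helper75.AAGlobal
-- import your own Groth.Agent.* helpers here

set_option autoImplicit false
universe u
open CategoryTheory CategoryTheory.Limits MonoidalCategory CartesianMonoidalCategory AlgebraicGeometry
open AbVar

namespace Groth.Agent.S18368

/-- Let k be a field, X and Y geometrically integral k-schemes of finite type with X proper, Z a
separated k-scheme and f : X ×_k Y → Z a k-morphism (products in the cartesian monoidal category of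
k-schemes). If for some algebraically closed field K over k there are points y₀ : Spec K → Y and z₀
: Spec K → Z over k such that f restricted to X ×_k Spec K along y₀ is the constant map z₀, then f
factors uniquely through the second projection: there is exactly one g : Y → Z over k with f = pr₂ ≫
g. (The target Z is not assumed to be of finite type over k.) -/
theorem result (k : Type u) [Field k]
    (X Y Z : Over (Spec (CommRingCat.of k)))
    [IsProper X.hom] [GeometricallyIntegral X.hom]
    [LocallyOfFiniteType Y.hom] [QuasiCompact Y.hom] [GeometricallyIntegral Y.hom]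
    [IsSeparated Z.hom] (f : X ⊗ Y ⟶ Z)
    (K : Type u) [Field K] [Algebra k K] [IsAlgClosed K]
    (y₀ : (Over.mk (Spec.map (CommRingCat.ofHom (algebraMap k K))) : Over (Spec (CommRingCat.of k))) ⟶ Y)
    (z₀ : (Over.mk (Spec.map (CommRingCat.ofHom (algebraMap k K))) : Over (Spec (CommRingCat.of k))) ⟶ Z)
    (h : (X ◁ y₀) ≫ f = snd X _ ≫ z₀) :
    ∃! g : Y ⟶ Z, f = snd X Y ≫ g := by
  have hXlft : LocallyOfFiniteType X.hom := inferInstance
  have hXflat : Flat X.hom := inferInstance
  have hXuo : UniversallyOpen X.hom := inferInstance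
  have hXint : IsIntegral X.left := GeometricallyIntegral.isIntegral_of_subsingleton X.hom
  have hYint : IsIntegral Y.left := GeometricallyIntegral.isIntegral_of_subsingleton Y.hom
  -- Step 1: `O(X) = k`
  have hX : Function.Bijective ((Scheme.ΓSpecIso (CommRingCat.of k)).inv ≫ X.hom.appTop).hom := by
    let : X.left.Over (Spec (CommRingCat.of k)) := ⟨X.hom⟩
    have hprop : IsProper (X.left ↘ Spec (CommRingCat.of k)) := ‹IsProper X.hom›
    have h7615 := Groth.Agent.S7615.result k X.left
    let alg : Algebra k ↑Γ(X.left, ⊤) :=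
      ((X.left ↘ (Spec (CommRingCat.of k))).appTop.hom.comp
        (Scheme.ΓSpecIso (CommRingCat.of k)).inv.hom : k →+* Γ(X.left, ⊤)).toAlgebra
    obtain ⟨hfield, hfin, hsep, hpi⟩ := h7615
    let := hfield.toField
    have hgr : GeometricallyReduced (X.left ↘ Spec (CommRingCat.of k)) :=
      inferInstanceAs (GeometricallyReduced X.hom)
    have hgi : GeometricallyIrreducible (X.left ↘ Spec (CommRingCat.of k)) :=
      inferInstanceAs (GeometricallyIrreducible X.hom)
    have h1 : Algebra.IsSeparable k ↑Γ(X.left, ⊤) := hsep hgr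
    have h2 : IsPurelyInseparable k ↑Γ(X.left, ⊤) := hpi hgi
    have hsurj := IsPurelyInseparable.surjective_algebraMap_of_isSeparable k ↑Γ(X.left, ⊤)
    refine ⟨RingHom.injective _, ?_⟩
    exact hsurj
  have ha := Groth.Agent.Lib.Helper75.AARigidity.isIso_appTop_of_bijective X.hom hX
  have hcomp : CompactSpace X.left := (quasiCompact_iff_compactSpace X.hom).mp inferInstance
  have hXN : IsLocallyNoetherian X.left := LocallyOfFiniteType.isLocallyNoetherian X.hom
  have hqs : QuasiSeparatedSpace X.left := inferInstance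
  -- Step 2: the base `X ⊗ Y`
  have hPlft : LocallyOfFiniteType (X ⊗ Y).hom := by
    change LocallyOfFiniteType (pullback.fst X.hom Y.hom ≫ X.hom)
    infer_instance
  have hPN : IsLocallyNoetherian (X ⊗ Y).left := LocallyOfFiniteType.isLocallyNoetherian (X ⊗ Y).hom
  have hYN : IsLocallyNoetherian Y.left := LocallyOfFiniteType.isLocallyNoetherian Y.hom
  have hPint : IsIntegral (pullback X.hom Y.hom) := inferInstance
  have hPconn : ConnectedSpace ↥(X ⊗ Y).left := by
    change ConnectedSpace ↥(pullback X.hom Y.hom)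
    infer_instance
  let pt : ↥(Over.mk (Spec.map (CommRingCat.ofHom (algebraMap k K))) :
    Over (Spec (CommRingCat.of k))).left := (⊥ : PrimeSpectrum K)
  have hpt : ∀ t : ↥(Over.mk (Spec.map (CommRingCat.ofHom (algebraMap k K))) :
      Over (Spec (CommRingCat.of k))).left, t = pt := fun t =>
    Subsingleton.elim (α := PrimeSpectrum K) t pt
  -- `f` is constant on the fibre of `pr₂` over `y₀`
  have key_pt : ∀ x' : ↥(X ⊗ Y).left, (snd X Y).left x' = y₀.left pt → f.left x' = z₀.left pt := by
    intro x' hx'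
    obtain ⟨p₁, hp₁, -⟩ := Groth.Agent.Lib.Helper75.AARigidity.exists_of_isPullback'
      (Groth.Agent.Lib.Helper75.AARigidity.isPullback_whiskerLeft_snd' X y₀) x' pt hx'
    have h1 := congrArg (fun t => t.left p₁) h
    simp only [Over.comp_left, Scheme.Hom.comp_apply] at h1
    rw [hp₁, hpt ((snd X _).left p₁)] at h1
    exact h1
  let σ : X ⊗ Y ⟶ X ⊗ (X ⊗ Y) := lift (fst X Y) (𝟙 _)
  let F : X ⊗ (X ⊗ Y) ⟶ Z := (X ◁ snd X Y) ≫ f
  have hσ : σ.left ≫ pullback.snd X.hom (X ⊗ Y).hom = 𝟙 (X ⊗ Y).left := by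
    have : (σ ≫ snd X (X ⊗ Y)).left = (𝟙 (X ⊗ Y) : X ⊗ Y ⟶ X ⊗ Y).left := by
      rw [lift_snd]
    exact this
  have hσF : σ ≫ F = f := by
    change lift (fst X Y) (𝟙 _) ≫ (X ◁ snd X Y) ≫ f = f
    rw [← Category.assoc, lift_whiskerLeft, Category.id_comp, lift_fst_snd, Category.id_comp]
  have hF : F.left ≫ Z.hom = pullback.fst X.hom (X ⊗ Y).hom ≫ X.hom := Over.w F
  obtain ⟨x₀', hx₀'⟩ : ∃ x₀' : ↥(X ⊗ Y).left, (snd X Y).left x₀' = y₀.left pt := by
    have hs : Surjective (pullback.snd X.hom Y.hom) := inferInstance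
    exact hs.surj (y₀.left pt)
  have key := Groth.Agent.Lib.Helper75.AAGlobal.eq_of_connected X.hom (X ⊗ Y).hom Z.hom ha
    σ.left hσ F.left hF x₀' ?_
  swap
  · intro q hq
    have e1 : (pullback.snd X.hom (X ⊗ Y).hom ≫ σ.left ≫ F.left) q = f.left x₀' := by
      have : σ.left ≫ F.left = f.left := congrArg (fun t => t.left) hσF
      rw [this, Scheme.Hom.comp_apply, hq]
    rw [e1, key_pt x₀' hx₀']
    change f.left ((X ◁ snd X Y).left q) = _
    apply key_pt
    have e2 : (X ◁ snd X Y) ≫ snd X Y = snd X (X ⊗ Y) ≫ snd X Y := whiskerLeft_snd _ _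
    have e3 := congrArg (fun t => t.left q) e2
    simp only [Over.comp_left, Scheme.Hom.comp_apply] at e3
    rw [e3]
    have : (snd X (X ⊗ Y)).left q = x₀' := hq
    rw [this, hx₀']
  have hσF' : σ.left ≫ F.left = f.left := congrArg (fun t => t.left) hσF
  rw [hσF'] at key
  -- Step 3: descent along `pr₂`
  let p : pullback X.hom Y.hom ⟶ Y.left := pullback.snd X.hom Y.hom
  have hpqc : QuasiCompact p := inferInstance
  have hpflat : Flat p := inferInstance
  have hpsurj : Surjective p := inferInstance
  have hpee : EffectiveEpi p := inferInstance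
  have hcoeq : ∀ {W : Scheme.{u}} (g₁ g₂ : W ⟶ pullback X.hom Y.hom), g₁ ≫ p = g₂ ≫ p →
      g₁ ≫ f.left = g₂ ≫ f.left := by
    intro W g₁ g₂ hg
    have hcond : (g₁ ≫ pullback.fst X.hom Y.hom) ≫ X.hom = g₂ ≫ (X ⊗ Y).hom := by
      change _ = g₂ ≫ pullback.fst X.hom Y.hom ≫ X.hom
      rw [Category.assoc, pullback.condition, ← Category.assoc, ← Category.assoc]
      exact congrArg (· ≫ Y.hom) hg
    let t : W ⟶ pullback X.hom (X ⊗ Y).hom :=
      pullback.lift (g₁ ≫ pullback.fst X.hom Y.hom) g₂ hcond
    have h0 : t ≫ (X ◁ snd X Y).left = g₁ := by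
      apply pullback.hom_ext
      · rw [Category.assoc, Over.whiskerLeft_left_fst, pullback.lift_fst]
      · rw [Category.assoc, Over.whiskerLeft_left_snd, ← Category.assoc, pullback.lift_snd]
        exact hg.symm
    have h1 : t ≫ F.left = g₁ ≫ f.left := by
      change t ≫ (X ◁ snd X Y).left ≫ f.left = _
      rw [← Category.assoc, h0]
    have h2 : t ≫ pullback.snd X.hom (X ⊗ Y).hom ≫ f.left = g₂ ≫ f.left := by
      rw [← Category.assoc, pullback.lift_snd]
    rw [← h1, key, h2]
  let g₀ : Y.left ⟶ Z.left := EffectiveEpi.desc p f.left (fun g₁ g₂ hg => hcoeq g₁ g₂ hg)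
  have hg₀ : p ≫ g₀ = f.left := EffectiveEpi.fac p f.left _
  have hepi : Epi p := inferInstance
  have hg₀w : g₀ ≫ Z.hom = Y.hom := by
    rw [← cancel_epi p, ← Category.assoc, hg₀, Over.w f]
    exact pullback.condition
  refine ⟨Over.homMk g₀ hg₀w, ?_, ?_⟩
  · ext
    exact hg₀.symm
  · intro g' hg'
    ext
    rw [← cancel_epi p]
    have := congrArg (fun t => t.left) hg'
    exact this.symm.trans hg₀.symm

end Groth.Agent.S18368
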