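import Groth.Statements.S18370
import Mathlib.Tactic

set_option autoImplicit false
universe u
open CategoryTheory CategoryTheory.Limits MonoidalCategory CartesianMonoidalCategory MonObj GrpObj AlgebraicGeometry
open GrpSch

namespace Groth.Agent.S18370

/-- Pure group theory: in a commutative group, if `x ^ a = 1`, `y ^ b = 1`, `a u + b v = 1`
then `(x * y) ^ (b v) = x` and `(x * y) ^ (a u) = y`. -/
theorem zpow_lemma {Γ : Type*} [CommGroup Γ] (x y : Γ) (a b : ℕ) (u v : ℤ)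
    (hx : x ^ a = 1) (hy : y ^ b = 1) (huv : (a : ℤ) * u + (b : ℤ) * v = 1) :
    (x * y) ^ ((b : ℤ) * v) = x ∧ (x * y) ^ ((a : ℤ) * u) = y := by
  have hxz : x ^ ((a : ℤ) * u) = 1 := by rw [zpow_mul, zpow_natCast, hx, one_zpow]
  have hyz : y ^ ((b : ℤ) * v) = 1 := by rw [zpow_mul, zpow_natCast, hy, one_zpow]
  constructor
  · rw [mul_zpow, hyz, _root_.mul_one]
    have : (b : ℤ) * v = 1 - (a : ℤ) * u := by linarith
    rw [this, zpow_sub, zpow_one, hxz, inv_one, _root_.mul_one]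
  · rw [mul_zpow, hxz, _root_.one_mul]
    have : (a : ℤ) * u = 1 - (b : ℤ) * v := by linarith
    rw [this, zpow_sub, zpow_one, hyz, inv_one, _root_.mul_one]

/-- Let S be a scheme and G a commutative S-group scheme which is killed by a natural number n, i.e. the
n-th power map of G is the trivial homomorphism, and let n = a·b with a and b coprime. If i_a : G_a
→ G and i_b : G_b → G are scheme-theoretic kernels of the a-th and b-th power maps of G, then the
morphism G_a ×_S G_b → G sending (x, y) to i_a(x)·i_b(y) is an isomorphism of S-schemes. (The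
published statement assumes n ≠ 0; the case n = 0, where {a, b} = {0, 1} and one kernel is all of G
while the other is trivial, is included here.) -/
theorem result {S : Scheme.{u}} (G Ga Gb : Over S)
    [GrpObj G] [IsCommMonObj G] (n a b : ℕ) (hn : n = a * b) (hab : Nat.Coprime a b)
    (hG : (𝟙 G) ^ n = 1)
    (ia : Ga ⟶ G) (hia : AlgGrp.IsKernel ia ((𝟙 G) ^ a))
    (ib : Gb ⟶ G) (hib : AlgGrp.IsKernel ib ((𝟙 G) ^ b)) :
    IsIso ((fst Ga Gb ≫ ia) * (snd Ga Gb ≫ ib)) := by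
  unfold AlgGrp.IsKernel at hia hib
  -- Bezout
  obtain ⟨u, v, huv⟩ : ∃ u v : ℤ, (a : ℤ) * u + (b : ℤ) * v = 1 := by
    refine ⟨a.gcdA b, a.gcdB b, ?_⟩
    have := Nat.gcd_eq_gcd_ab a b
    rw [hab.gcd_eq_one] at this
    simpa using this.symm
  -- powers of morphisms
  have pow_comp : ∀ {T : Over S} (g : T ⟶ G) (k : ℕ), g ≫ (𝟙 G) ^ k = g ^ k := by
    intro T g k
    rw [MonObj.comp_pow, Category.comp_id]
  have zpow_comp' : ∀ {T : Over S} (g : T ⟶ G) (k : ℤ), g ≫ (𝟙 G) ^ k = g ^ k := by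
    intro T g k
    rw [GrpObj.comp_zpow, Category.comp_id]
  have killed : ∀ {T : Over S} (g : T ⟶ G), g ^ n = 1 := by
    intro T g
    rw [← pow_comp, hG, MonObj.comp_one]
  have hia_pow : ia ^ a = 1 := by
    rw [← pow_comp, hia.w, ← Hom.one_def]
  have hib_pow : ib ^ b = 1 := by
    rw [← pow_comp, hib.w, ← Hom.one_def]
  -- the two components of the inverse
  have wa : ((𝟙 G) ^ ((b : ℤ) * v)) ≫ (𝟙 G) ^ a = toUnit G ≫ η[G] := by
    rw [pow_comp, ← Hom.one_def, ← zpow_natCast, ← zpow_mul,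
      show (b : ℤ) * v * (a : ℤ) = ((n : ℕ) : ℤ) * v by rw [hn]; push_cast; ring,
      zpow_mul, zpow_natCast, hG, one_zpow]
  have wb : ((𝟙 G) ^ ((a : ℤ) * u)) ≫ (𝟙 G) ^ b = toUnit G ≫ η[G] := by
    rw [pow_comp, ← Hom.one_def, ← zpow_natCast, ← zpow_mul,
      show (a : ℤ) * u * (b : ℤ) = ((n : ℕ) : ℤ) * u by rw [hn]; push_cast; ring,
      zpow_mul, zpow_natCast, hG, one_zpow]
  let ψa : G ⟶ Ga := hia.lift _ _ wa
  let ψb : G ⟶ Gb := hib.lift _ _ wb
  have hψa : ψa ≫ ia = (𝟙 G) ^ ((b : ℤ) * v) := hia.lift_fst _ _ _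
  have hψb : ψb ≫ ib = (𝟙 G) ^ ((a : ℤ) * u) := hib.lift_fst _ _ _
  have hx : (fst Ga Gb ≫ ia) ^ a = 1 := by
    rw [← MonObj.comp_pow, hia_pow, MonObj.comp_one]
  have hy : (snd Ga Gb ≫ ib) ^ b = 1 := by
    rw [← MonObj.comp_pow, hib_pow, MonObj.comp_one]
  obtain ⟨h1, h2⟩ := zpow_lemma (fst Ga Gb ≫ ia) (snd Ga Gb ≫ ib) a b u v hx hy huv
  refine ⟨lift ψa ψb, ?_, ?_⟩
  · apply CartesianMonoidalCategory.hom_ext
    · rw [Category.assoc, lift_fst, Category.id_comp]
      apply hia.hom_ext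
      · rw [Category.assoc, hψa, zpow_comp', h1]
      · exact toUnit_unique _ _
    · rw [Category.assoc, lift_snd, Category.id_comp]
      apply hib.hom_ext
      · rw [Category.assoc, hψb, zpow_comp', h2]
      · exact toUnit_unique _ _
  · rw [MonObj.comp_mul, lift_fst_assoc, lift_snd_assoc, hψa, hψb, ← zpow_add,
      show (b : ℤ) * v + (a : ℤ) * u = 1 by linarith, zpow_one]

end Groth.Agent.S18370
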