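import Groth.Statements.S18378
import Mathlib
import Groth.Agent.Lib.Helper91.VerlindeAux
import Groth.Agent.S18381

set_option autoImplicit false
open Complex
open VerlindeComb

open Finset
open Groth.Agent.S18377 Groth.Agent.Lib.Helper91.VerlindeCore Groth.Agent.Lib.Helper91.VerlindeAux

namespace Groth.Agent.S18378

theorem sum_antitone_zero_eq (r' k : ℕ) (T : (Fin (r' + 1) → ℕ) → ℂ) :
    ∑ μ ∈ (Finset.univ : Finset (Fin (r' + 1) → Fin (k + 1))).filter
        (fun μ : Fin (r' + 1) → Fin (k + 1) =>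
          Antitone μ ∧ ∀ i : Fin (r' + 1), (i : ℕ) = r' + 1 - 1 → (μ i : ℕ) = 0),
        T (fun i => (μ i : ℕ) + (r' + 1 - 1 - (i : ℕ))) =
      ∑ w ∈ (Finset.univ : Finset (Fin (r' + 1) → Fin (r' + 1 + k))).filter
        (fun w : Fin (r' + 1) → Fin (r' + 1 + k) => StrictMono w ∧ (w 0 : ℕ) = 0),
        T (fun i => (w (Fin.rev i) : ℕ)) := by
  classical
  have hb : ∀ (μ : Fin (r' + 1) → Fin (k + 1)) (i : Fin (r' + 1)),
      (μ (Fin.rev i) : ℕ) + (i : ℕ) < r' + 1 + k := by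
    intro μ i
    have := (μ (Fin.rev i)).isLt
    have := i.isLt
    omega
  refine Finset.sum_bij
    (fun μ _ => fun i => (⟨(μ (Fin.rev i) : ℕ) + (i : ℕ), hb μ i⟩ : Fin (r' + 1 + k))) ?_ ?_ ?_ ?_
  · intro μ hμ
    simp only [Finset.mem_filter, Finset.mem_univ, true_and] at hμ ⊢
    refine ⟨?_, ?_⟩
    · intro i i' hii'
      rw [Fin.lt_def]
      simp only
      have h1 : μ (Fin.rev i) ≤ μ (Fin.rev i') := hμ.1 (Fin.rev_le_rev.mpr hii'.le)
      have h2 : (μ (Fin.rev i) : ℕ) ≤ (μ (Fin.rev i') : ℕ) := h1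
      have h3 : (i : ℕ) < (i' : ℕ) := hii'
      omega
    · simp only [Fin.rev_zero, Fin.val_zero, add_zero]
      exact hμ.2 (Fin.last r') (by simp)
  · intro μ _ μ' _ h
    funext i
    have := congrFun h (Fin.rev i)
    simp only [Fin.rev_rev, Fin.mk.injEq] at this
    exact Fin.ext (by omega)
  · intro w hw
    simp only [Finset.mem_filter, Finset.mem_univ, true_and] at hw
    have hw' : StrictMono (fun i => (w i : ℕ)) := fun a b hab => hw.1 hab
    have hub : ∀ j : Fin (r' + 1), (w j : ℕ) + (r' - (j : ℕ)) ≤ r' + k := by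
      intro j
      have h1 := strictMono_add_le _ hw' j (Fin.last r') (Fin.le_last j)
      have h2 := (w (Fin.last r')).isLt
      simp only [Fin.val_last] at h1
      omega
    have hlb : ∀ j : Fin (r' + 1), (j : ℕ) ≤ (w j : ℕ) := by
      intro j
      have h1 := strictMono_add_le _ hw' 0 j (Fin.zero_le j)
      simp only [Fin.val_zero] at h1
      omega
    have hk : ∀ j : Fin (r' + 1), (w j : ℕ) - (j : ℕ) < k + 1 := by
      intro j
      have := hub j
      have := hlb j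
      have := j.isLt
      omega
    refine ⟨fun i => ⟨(w (Fin.rev i) : ℕ) - ((Fin.rev i : Fin (r' + 1)) : ℕ), hk _⟩, ?_, ?_⟩
    · simp only [Finset.mem_filter, Finset.mem_univ, true_and]
      refine ⟨?_, ?_⟩
      · intro i i' hii'
        rw [Fin.le_def]
        simp only
        have h1 := strictMono_add_le _ hw' (Fin.rev i') (Fin.rev i) (Fin.rev_le_rev.mpr hii')
        have h2 : ((Fin.rev i' : Fin (r' + 1)) : ℕ) ≤ ((Fin.rev i : Fin (r' + 1)) : ℕ) :=
          Fin.rev_le_rev.mpr hii'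
        have := hlb (Fin.rev i')
        omega
      · intro i hi
        have : i = Fin.last r' := Fin.ext (by rw [hi]; simp)
        simp only [this, Fin.rev_last, Fin.val_zero]
        omega
    · funext i
      apply Fin.ext
      simp only [Fin.rev_rev]
      have := hlb i
      omega
  · intro μ _
    congr 1
    funext i
    simp only [Fin.rev_rev, Fin.val_rev]
    have := i.isLt
    omega


/-- Let r, k ≥ 1 be integers and v, v' two integer vectors with r + k > v_1 > ⋯ > v_r ≥ 0 and r + k >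
v'_1 > ⋯ > v'_r ≥ 0 whose difference v - v' is not a constant vector (a, …, a). Put z_j = exp(2πi
v_j / (r + k)), z'_j = exp(2πi v'_j / (r + k)), let S_μ(w) = det(w_j^{μ_i + r - i}) / det(w_j^{r -
i}) be the Schur value at w = z or z', and write |x| for the sum of the coordinates of a vector and
μ* = (k - μ_r, …, k - μ_1). Then the sum over all μ with k ≥ μ_1 ≥ ⋯ ≥ μ_{r-1} ≥ μ_r = 0 of exp(-2πi
|μ| |v| / (r (r + k))) · exp(-2πi |μ*| |v'| / (r (r + k))) · S_μ(z) · S_{μ*}(z') is zero. The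
vanishing is the orthogonality of distinct characters and holds exactly for non-equivalent v, v';
for v - v' constant the sum is nonzero. Indices are 0-based below: μ i stands for μ_{i+1}. -/
theorem result (r k : ℕ) (hr : 1 ≤ r)
    (hk : 1 ≤ k) (v v' : Fin r → ℕ) (hv : StrictAnti v) (hvlt : ∀ i, v i < r + k) (hv' : StrictAnti v')
    (hv'lt : ∀ i, v' i < r + k) (hne : ¬ ∃ a : ℤ, ∀ i, (v i : ℤ) - (v' i : ℤ) = a)
    (z z' : Fin r → ℂ) (hz : ∀ j, z j = Complex.exp (2 * Real.pi * Complex.I * (v j : ℂ) / ((r : ℂ) + k)))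
    (hz' : ∀ j, z' j = Complex.exp (2 * Real.pi * Complex.I * (v' j : ℂ) / ((r : ℂ) + k)))
    (S S' : (Fin r → ℕ) → ℂ)
    (hS : ∀ μ : Fin r → ℕ, S μ =
      (Matrix.of fun i j : Fin r => z j ^ (μ i + (r - 1 - (i : ℕ)))).det /
        (Matrix.of fun i j : Fin r => z j ^ (r - 1 - (i : ℕ))).det)
    (hS' : ∀ μ : Fin r → ℕ, S' μ =
      (Matrix.of fun i j : Fin r => z' j ^ (μ i + (r - 1 - (i : ℕ)))).det /
        (Matrix.of fun i j : Fin r => z' j ^ (r - 1 - (i : ℕ))).det) :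
    (∑ μ ∈ (Finset.univ : Finset (Fin r → Fin (k + 1))).filter
        (fun μ : Fin r → Fin (k + 1) => Antitone μ ∧ ∀ i : Fin r, (i : ℕ) = r - 1 → (μ i : ℕ) = 0),
      Complex.exp (-(2 * Real.pi * Complex.I * ((∑ i, (μ i : ℕ) : ℕ) : ℂ) * ((∑ j, v j : ℕ) : ℂ) /
          ((r : ℂ) * ((r : ℂ) + k)))) *
      Complex.exp (-(2 * Real.pi * Complex.I * ((∑ i, (k - (μ (Fin.rev i) : ℕ)) : ℕ) : ℂ) *
          ((∑ j, v' j : ℕ) : ℂ) / ((r : ℂ) * ((r : ℂ) + k)))) *
      S (fun i => (μ i : ℕ)) * S' (fun i => k - (μ (Fin.rev i) : ℕ))) = 0 := by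
  classical
  obtain ⟨r', rfl⟩ : ∃ r', r = r' + 1 := ⟨r - 1, by omega⟩
  have hN : r' + 1 + k ≠ 0 := by omega
  haveI : NeZero (r' + 1 + k) := ⟨hN⟩
  set N := r' + 1 + k with hNdef
  have hNC : ((N : ℕ) : ℂ) = ((r' + 1 : ℕ) : ℂ) + k := by rw [hNdef]; push_cast; ring
  have hr0 : ((r' + 1 : ℕ) : ℂ) ≠ 0 := Nat.cast_ne_zero.mpr (by omega)
  have hN0 : ((r' + 1 : ℕ) : ℂ) + k ≠ 0 := by rw [← hNC]; exact Nat.cast_ne_zero.mpr hN
  set ζ := Groth.Agent.S18379.zeta N with hζ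
  obtain ⟨hzζ, hzN, hd0, -⟩ := nodes_facts (r' + 1) k hN v hv.injective hvlt z
    (fun j => by rw [hz])
  obtain ⟨hzζ', hzN', hd0', -⟩ := nodes_facts (r' + 1) k hN v' hv'.injective hv'lt z'
    (fun j => by rw [hz'])
  have hzfun : z = fun j => ζ ^ v j := funext hzζ
  have hzfun' : z' = fun j => ζ ^ v' j := funext hzζ'
  set d := gv z (dl (r' + 1)) with hd
  set d' := gv z' (dl (r' + 1)) with hd'
  set t : ℂ := Complex.exp (-(2 * Real.pi * Complex.I *
      (((∑ i, v i : ℕ) : ℂ) - ((∑ i, v' i : ℕ) : ℂ)) / (((r' + 1 : ℕ) : ℂ) * (N : ℂ)))) with ht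
  have ht0 : t ≠ 0 := Complex.exp_ne_zero _
  have hcore := core r' N v v' hv hv' hvlt hv'lt hne t ht
  rw [← hzfun, ← hzfun'] at hcore
  set K₁ : ℂ := Complex.exp (-(2 * Real.pi * Complex.I * (k : ℂ) * ((∑ j, v' j : ℕ) : ℂ) /
    (((r' + 1 : ℕ) : ℂ) + k))) with hK₁
  set sd : ℕ := ∑ i : Fin (r' + 1), dl (r' + 1) i with hsd
  set K : ℂ := K₁ * (∏ j, z' j)⁻¹ * eps (r' + 1) / (d * d' * t ^ sd) with hK
  have hterm : ∀ μ ∈ (Finset.univ : Finset (Fin (r' + 1) → Fin (k + 1))).filter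
        (fun μ : Fin (r' + 1) → Fin (k + 1) =>
          Antitone μ ∧ ∀ i : Fin (r' + 1), (i : ℕ) = r' + 1 - 1 → (μ i : ℕ) = 0),
      Complex.exp (-(2 * Real.pi * Complex.I * ((∑ i, (μ i : ℕ) : ℕ) : ℂ) * ((∑ j, v j : ℕ) : ℂ) /
          (((r' + 1 : ℕ) : ℂ) * (((r' + 1 : ℕ) : ℂ) + k)))) *
      Complex.exp (-(2 * Real.pi * Complex.I * ((∑ i, (k - (μ (Fin.rev i) : ℕ)) : ℕ) : ℂ) *
          ((∑ j, v' j : ℕ) : ℂ) / (((r' + 1 : ℕ) : ℂ) * (((r' + 1 : ℕ) : ℂ) + k)))) *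
      S (fun i => (μ i : ℕ)) * S' (fun i => k - (μ (Fin.rev i) : ℕ)) =
      K * (fun e : Fin (r' + 1) → ℕ => t ^ (∑ i, e i) * gv z e * (starRingEnd ℂ) (gv z' e))
        (fun i => (μ i : ℕ) + (r' + 1 - 1 - (i : ℕ))) := by
    intro μ _
    set e : Fin (r' + 1) → ℕ := fun i => (μ i : ℕ) + (r' + 1 - 1 - (i : ℕ)) with he
    have hebound : ∀ i, e i ≤ N - 1 := by
      intro i
      have := (μ i).isLt
      have := i.isLt
      simp only [he]
      omega
    have h1 : S (fun i => (μ i : ℕ)) = gv z e / d := by rw [hS]; rfl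
    have h2 : S' (fun i => k - (μ (Fin.rev i) : ℕ)) =
        gv z' (fun i => N - 1 - e (Fin.rev i)) / d' := by
      rw [hS']
      have : (fun i : Fin (r' + 1) => N - 1 - e (Fin.rev i)) =
          fun i : Fin (r' + 1) => k - (μ (Fin.rev i) : ℕ) + (r' + 1 - 1 - (i : ℕ)) := by
        funext i
        have := (μ (Fin.rev i)).isLt
        have := i.isLt
        simp only [he, Fin.val_rev]
        omega
      rw [this]
      rfl
    have h3 := gv_compl_rev N z' hN hzN' e hebound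
    -- the sums
    have hmu : ((∑ i, (k - (μ (Fin.rev i) : ℕ)) : ℕ) : ℂ) =
        ((r' + 1 : ℕ) : ℂ) * (k : ℂ) - ((∑ i, (μ i : ℕ) : ℕ) : ℂ) := by
      have h := Groth.Agent.S18381.musum (r' + 1) (k + 1) μ
      have h4 : ∑ i : Fin (r' + 1), (k - (μ (Fin.rev i) : ℕ)) + (r' + 1) =
          ∑ i : Fin (r' + 1), (k + 1 - (μ (Fin.rev i) : ℕ)) := by
        have : ∀ i : Fin (r' + 1), (k + 1 - (μ (Fin.rev i) : ℕ)) = (k - (μ (Fin.rev i) : ℕ)) + 1 := by
          intro i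
          have := (μ (Fin.rev i)).isLt
          omega
        simp_rw [this]
        rw [Finset.sum_add_distrib]
        simp
      have h5 : (∑ i, (μ i : ℕ)) + ∑ i : Fin (r' + 1), (k - (μ (Fin.rev i) : ℕ)) = (r' + 1) * k := by
        have := h
        rw [← h4] at this
        ring_nf at this ⊢
        omega
      have h6 : (((∑ i, (μ i : ℕ)) + ∑ i : Fin (r' + 1), (k - (μ (Fin.rev i) : ℕ)) : ℕ) : ℂ) =
          (((r' + 1) * k : ℕ) : ℂ) := by rw [h5]
      push_cast at h6 ⊢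
      linear_combination h6
    have hesum : ∑ i, e i = (∑ i, (μ i : ℕ)) + sd := by
      simp only [he, hsd, dl]
      rw [Finset.sum_add_distrib]
    have hphase : Complex.exp (-(2 * Real.pi * Complex.I * ((∑ i, (μ i : ℕ) : ℕ) : ℂ) * ((∑ j, v j : ℕ) : ℂ) /
          (((r' + 1 : ℕ) : ℂ) * (((r' + 1 : ℕ) : ℂ) + k)))) *
      Complex.exp (-(2 * Real.pi * Complex.I * ((∑ i, (k - (μ (Fin.rev i) : ℕ)) : ℕ) : ℂ) *
          ((∑ j, v' j : ℕ) : ℂ) / (((r' + 1 : ℕ) : ℂ) * (((r' + 1 : ℕ) : ℂ) + k)))) =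
        K₁ * t ^ (∑ i, (μ i : ℕ)) := by
      rw [hmu, hK₁, ht, ← Complex.exp_nat_mul, ← Complex.exp_add, ← Complex.exp_add, hNC]
      congr 1
      field_simp
      ring
    simp only []
    rw [hphase, h1, h2, h3, hesum, pow_add, hK]
    have htsd : t ^ sd ≠ 0 := pow_ne_zero _ ht0
    field_simp
  rw [Finset.sum_congr rfl hterm, ← Finset.mul_sum]
  rw [sum_antitone_zero_eq r' k
    (fun e : Fin (r' + 1) → ℕ => t ^ (∑ i, e i) * gv z e * (starRingEnd ℂ) (gv z' e))]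
  have hzero : ∑ w ∈ (Finset.univ : Finset (Fin (r' + 1) → Fin (r' + 1 + k))).filter
        (fun w : Fin (r' + 1) → Fin (r' + 1 + k) => StrictMono w ∧ (w 0 : ℕ) = 0),
      (fun e : Fin (r' + 1) → ℕ => t ^ (∑ i, e i) * gv z e * (starRingEnd ℂ) (gv z' e))
        (fun i => (w (Fin.rev i) : ℕ)) = 0 := by
    rw [← hcore]
    refine Finset.sum_congr rfl fun w _ => ?_
    simp only []
    rw [gv_comp_rev z (fun i => (w i : ℕ)), gv_comp_rev z' (fun i => (w i : ℕ)), map_mul, conj_eps]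
    have hsumrev : ∑ i : Fin (r' + 1), ((w (Fin.rev i) : Fin N) : ℕ) = ∑ i : Fin (r' + 1), (w i : ℕ) :=
      Equiv.sum_comp (Fin.revPerm : Equiv.Perm (Fin (r' + 1))) (fun i => (w i : ℕ))
    rw [hsumrev]
    have hε := eps_mul_self (r' + 1)
    linear_combination (t ^ (∑ i, (w i : ℕ)) * gv z (fun i => (w i : ℕ)) *
      (starRingEnd ℂ) (gv z' (fun i => (w i : ℕ)))) * hε
  rw [hzero, mul_zero]

end Groth.Agent.S18378
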