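import Groth.Statements.S18384
import Groth.Agent.Lib.Helper61.FibreNhd

set_option autoImplicit false
universe u
open CategoryTheory CategoryTheory.Limits AlgebraicGeometry
open Coherent

namespace Groth.Agent.S18384

/-- Let p : X → S be a morphism of locally Noetherian schemes, t a point of S, m the maximal ideal of
the local ring O_{S,t}, and Z the closed subscheme of X defined by a quasi-coherent ideal I. Suppose
that for every n ≥ 1 the projection X ×_S Spec(O_{S,t}/m^n) → X factors through Z. Then there is an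
open subscheme U of X containing every point of the fibre p⁻¹(t) such that the inclusion U → X
factors through Z. -/
theorem result {X S : Scheme.{u}}
    [IsLocallyNoetherian X] [IsLocallyNoetherian S] (p : X ⟶ S) (t : S) (I : X.IdealSheafData)
    (h : ∀ n : ℕ, ∃ g : pullback p (Spec.map (CommRingCat.ofHom (Ideal.Quotient.mk
        (IsLocalRing.maximalIdeal ↑(S.presheaf.stalk t) ^ (n + 1)))) ≫ S.fromSpecStalk t) ⟶ I.subscheme,
        g ≫ I.subschemeι = pullback.fst p _) :
    ∃ U : X.Opens, (∀ x : X, p.base x = t → x ∈ U) ∧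
      ∃ g : (U : Scheme.{u}) ⟶ I.subscheme, g ≫ I.subschemeι = U.ι := by
  -- points of the fibre have affine neighbourhoods on which `I` vanishes
  have hfib : ∀ x : X, p.base x = t → ∃ W : X.affineOpens, x ∈ W.1 ∧ I.ideal W = ⊥ := by
    intro x hx
    subst hx
    exact Groth.Agent.Lib.Helper61.FibreNhd.exists_affine_ideal_eq_bot I x
      (fun V hxV s hs => Groth.Agent.Lib.Helper61.FibreNhd.germ_eq_zero p I x h V hxV s hs)
  -- the union of all affine opens on which `I` vanishes
  let U : X.Opens := ⨆ W : {W : X.affineOpens // I.ideal W = ⊥}, (W.1 : X.Opens)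
  refine ⟨U, ?_, ?_⟩
  · intro x hx
    obtain ⟨W, hxW, hW⟩ := hfib x hx
    exact TopologicalSpace.Opens.mem_iSup.mpr ⟨⟨W, hW⟩, hxW⟩
  · apply Groth.Agent.Lib.Helper61.FibreNhd.exists_lift_of_ideal_eq_bot I U
    intro x hx
    obtain ⟨⟨W, hW⟩, hxW⟩ := TopologicalSpace.Opens.mem_iSup.mp hx
    exact ⟨W, hxW, hW⟩

end Groth.Agent.S18384
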