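import Groth.Statements.S18385
import Groth.Agent.Lib.Helper14.FlatHomNeutral
import Groth.Agent.Lib.Helper14.IsogenyFinite2
import Groth.Agent.Lib.Helper41.SmoothGeomRed

set_option autoImplicit false
universe u
open CategoryTheory CategoryTheory.Limits MonoidalCategory CartesianMonoidalCategory MonObj GrpObj AlgebraicGeometry
open AbSch

namespace Groth.Agent.S18385

open Groth.Agent.Lib.Helper14 Groth.Agent.Lib.Helper14.FibreGrpTop

/-- (2) ⇔ (3): let S be a scheme, A and B abelian schemes over S (S-group schemes, smooth and proper
over S with geometrically connected fibres) whose fibres A_s and B_s have the same dimension for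
every point s of S, and f : A → B a homomorphism of S-group schemes. Then f is locally quasi-finite
if and only if f is surjective (and then f is an isogeny). -/
theorem result {S : Scheme.{u}} (A B : Over S)
    [GrpObj A] [Smooth A.hom] [IsProper A.hom] [GeometricallyConnected A.hom]
    [GrpObj B] [Smooth B.hom] [IsProper B.hom] [GeometricallyConnected B.hom]
    (f : A ⟶ B) [IsMonHom f]
    (hdim : ∀ s : S, topologicalKrullDim ↥(A.hom.fiber s) = topologicalKrullDim ↥(B.hom.fiber s)) :
    LocallyQuasiFinite f.left ↔ Surjective f.left := by
  have hw : f.left ≫ B.hom = A.hom := Over.w f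
  haveI : LocallyOfFinitePresentation (f.left ≫ B.hom) := by rw [hw]; infer_instance
  haveI hlfp : LocallyOfFinitePresentation f.left :=
    Groth.Agent.Lib.Helper21.locallyOfFinitePresentation_of_comp_of_locallyOfFiniteType
      f.left B.hom
  haveI : IsProper (f.left ≫ B.hom) := by rw [hw]; infer_instance
  haveI hprop : IsProper f.left := IsProper.of_comp f.left B.hom
  haveI : GeometricallyReduced B.hom :=
    Groth.Agent.Lib.Helper41.SmoothGeomRed.geometricallyReduced_of_smooth B.hom
  have hfib : ∀ y : B.left, ∃ y' : B.hom.fiber (B.hom y), B.hom.fiberι (B.hom y) y' = y := by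
    intro y
    have hy : y ∈ Set.range (B.hom.fiberι (B.hom y)) := by
      rw [Scheme.Hom.range_fiberι]; rfl
    exact hy
  constructor
  · intro hqf
    haveI hfin : IsFinite f.left := IsFinite.of_isProper_of_locallyQuasiFinite f.left
    refine ⟨fun y => ?_⟩
    obtain ⟨y', hy'⟩ := hfib y
    let s := B.hom y
    have sq := isPullback_overPullback_map_left f (S.fromSpecResidueField s)
    haveI : IsFinite (mapGs f s).left := MorphismProperty.of_isPullback (P := @IsFinite) sq hfin
    haveI : LocallyOfFiniteType (Gs A s).hom := by
      show LocallyOfFiniteType (pullback.snd _ _); infer_instance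
    haveI : LocallyOfFiniteType (Gs B s).hom := by
      show LocallyOfFiniteType (pullback.snd _ _); infer_instance
    haveI : CompactSpace (Gs B s).left := by
      show CompactSpace ↑(pullback B.hom (S.fromSpecResidueField s)); infer_instance
    haveI : ConnectedSpace (Gs B s).left := show ConnectedSpace (B.hom.fiber s) from inferInstance
    haveI : IrreducibleSpace (Gs B s).left := irreducibleSpace_of_grpObj_of_connectedSpace (Gs B s)
    have hs := surjective_of_isFinite_of_dim_eq (mapGs f s) (hdim s)
    obtain ⟨x', hx'⟩ := hs y'
    refine ⟨A.hom.fiberι s x', ?_⟩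
    have h2 := mapF_fiberι_apply f s x'
    rw [← h2, ← hy']
    congr 1
  · intro hs
    haveI hfl : Flat f.left := Groth.Agent.Lib.Helper14.FibreCrit.flat_of_surjective_grpHom f
    haveI hqc : QuasiCompact f.left := inferInstance
    rw [locallyQuasiFinite_iff_finite_preimage_singleton]
    intro y
    obtain ⟨y', hy'⟩ := hfib y
    let s := B.hom y
    have sq := isPullback_overPullback_map_left f (S.fromSpecResidueField s)
    haveI : Flat (mapGs f s).left := MorphismProperty.of_isPullback (P := @Flat) sq hfl
    haveI : QuasiCompact (mapGs f s).left :=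
      MorphismProperty.of_isPullback (P := @QuasiCompact) sq hqc
    haveI : LocallyOfFiniteType (Gs A s).hom := by
      show LocallyOfFiniteType (pullback.snd _ _); infer_instance
    haveI : LocallyOfFiniteType (Gs B s).hom := by
      show LocallyOfFiniteType (pullback.snd _ _); infer_instance
    haveI : LocallyQuasiFinite (mapGs f s).left :=
      locallyQuasiFinite_of_flat_of_dim_eq (mapGs f s) (hdim s)
    have hfinpre : ((mapGs f s).left ⁻¹' {y'}).Finite :=
      (mapGs f s).left.finite_preimage_singleton y'
    refine (hfinpre.image (pullback.fst A.hom (S.fromSpecResidueField s))).subset ?_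
    intro x hx
    have hx' : f.left x = pullback.fst B.hom (S.fromSpecResidueField s) y' := by
      rw [show f.left x = y from hx, ← hy']; rfl
    obtain ⟨z, hz1, hz2⟩ := exists_of_isPullback' sq x y' hx'
    exact ⟨z, hz2, hz1⟩

end Groth.Agent.S18385
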