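import Groth.Statements.S18386
import Mathlib.RingTheory.Finiteness.Nakayama
import Mathlib.Tactic

set_option autoImplicit false
universe u
open LVCorr

namespace Groth.Agent.S18386

open AlgebraicGeometry in
/-- Local statement: on an affine open `U` with noetherian sections, if `I(U)^k = I(U)^(k+1)` there
is `r` with `1 - r ∈ I(U)` killing `I(U)^k`. -/
theorem exists_killer {X : Scheme.{u}} [IsLocallyNoetherian X] (I : X.IdealSheafData) (k : ℕ)
    (h : I ^ k = I ^ (k + 1)) (U : X.affineOpens) :
    ∃ r : Γ(X, U.1), 1 - r ∈ I.ideal U ∧ ∀ n ∈ I.ideal U ^ k, r * n = 0 := by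
  have : IsNoetherianRing Γ(X, U.1) := IsLocallyNoetherian.component_noetherian U
  have hU : I.ideal U ^ k = I.ideal U ^ (k + 1) := by
    have := congrArg (fun J : X.IdealSheafData => J.ideal U) h
    simpa using this
  obtain ⟨r, hr1, hr⟩ := Submodule.exists_sub_one_mem_and_smul_eq_zero_of_fg_of_le_smul
    (I.ideal U) (I.ideal U ^ k) (IsNoetherian.noetherian _) (by
      rw [smul_eq_mul, ← pow_succ', ← hU])
  refine ⟨r, ?_, fun n hn => by simpa using hr n hn⟩
  have : 1 - r = -(r - 1) := by ring
  rw [this]
  exact (I.ideal U).neg_mem hr1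

open AlgebraicGeometry in
/-- Let X be a connected Noetherian scheme and I a quasi-coherent sheaf of ideals on X, different from
the structure sheaf, such that I^k = I^(k+1) for some natural number k. Then I^k = 0. -/
theorem result (X : Scheme.{u}) [AlgebraicGeometry.IsNoetherian X]
    [ConnectedSpace X] (I : X.IdealSheafData) (hI : I ≠ ⊤) (k : ℕ)
    (h : I ^ k = I ^ (k + 1)) : I ^ k = ⊥ := by
  -- the support of I is open
  have hopen : IsOpen (I.support : Set X) := by
    rw [isOpen_iff_forall_mem_open]
    intro x hx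
    obtain ⟨_, ⟨U, hU, rfl⟩, hxU, -⟩ :=
      X.isBasis_affineOpens.exists_subset_of_mem_open (Set.mem_univ x) isOpen_univ
    let U' : X.affineOpens := ⟨U, hU⟩
    obtain ⟨r, hr1, hr⟩ := exists_killer I k h U'
    refine ⟨X.basicOpen r, ?_, (X.basicOpen r).2, ?_⟩
    · -- D(r) ⊆ support
      intro y hy
      have hyU : y ∈ U := X.basicOpen_le r hy
      change y ∈ I.support
      rw [Scheme.IdealSheafData.mem_support_iff_of_mem (U := U') hyU, Scheme.mem_zeroLocus_iff]
      intro f hf hyf
      have hfk : f ^ k ∈ I.ideal U' ^ k := Ideal.pow_mem_pow hf k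
      have h0 := hr _ hfk
      have hmem : y ∈ X.basicOpen (r * f ^ k) := by
        rw [Scheme.basicOpen_mul]
        refine ⟨hy, ?_⟩
        rcases Nat.eq_zero_or_pos k with rfl | hk
        · rw [pow_zero, Scheme.basicOpen_one]; exact hyU
        · rw [Scheme.basicOpen_pow _ _ hk]; exact hyf
      rw [h0, Scheme.basicOpen_zero] at hmem
      exact hmem
    · -- x ∈ D(r)
      have hx' : x ∈ X.zeroLocus (U := U) (I.ideal U') :=
        (Scheme.IdealSheafData.mem_support_iff_of_mem (U := U') hxU).mp hx
      rw [Scheme.mem_zeroLocus_iff] at hx'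
      have h1 : x ∈ X.basicOpen (r + (1 - r)) := by
        have : r + (1 - r) = 1 := by ring
        rw [this, Scheme.basicOpen_one]; exact hxU
      rcases X.basicOpen_add_le r (1 - r) h1 with h2 | h2
      · exact h2
      · exact absurd h2 (hx' _ hr1)
  have hclopen : IsClopen (I.support : Set X) := ⟨I.support.2, hopen⟩
  have hne : (I.support : Set X) ≠ ∅ := by
    intro hemp
    apply hI
    rw [← Scheme.IdealSheafData.support_eq_bot_iff]
    exact TopologicalSpace.Closeds.ext hemp
  have huniv : (I.support : Set X) = Set.univ := by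
    rcases isClopen_iff.mp hclopen with h0 | h1
    · exact absurd h0 hne
    · exact h1
  -- now every local ideal power vanishes
  apply Scheme.IdealSheafData.ext
  funext U
  change I.ideal U ^ k = ⊥
  obtain ⟨r, hr1, hr⟩ := exists_killer I k h U
  have hunit : IsUnit r := by
    apply RingedSpace.isUnit_of_isUnit_germ
    intro y hy
    rw [← RingedSpace.mem_basicOpen]
    have hysupp : y ∈ I.support := by
      change y ∈ (I.support : Set X); rw [huniv]; trivial
    have hy' : y ∈ X.zeroLocus (U := U.1) (I.ideal U) :=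
      (Scheme.IdealSheafData.mem_support_iff_of_mem (U := U) hy).mp hysupp
    rw [Scheme.mem_zeroLocus_iff] at hy'
    have h1 : y ∈ X.basicOpen (r + (1 - r)) := by
      have : r + (1 - r) = 1 := by ring
      rw [this, Scheme.basicOpen_one]; exact hy
    rcases X.basicOpen_add_le r (1 - r) h1 with h2 | h2
    · exact h2
    · exact absurd h2 (hy' _ hr1)
  rw [eq_bot_iff]
  intro n hn
  have := hr n hn
  rw [Submodule.mem_bot]
  exact (hunit.mul_right_eq_zero).mp this

end Groth.Agent.S18386
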