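import Groth.Statements.S18389
import Mathlib.Tactic

set_option autoImplicit false
universe u
open LVCorr

namespace Groth.Agent.S18389

open AlgebraicGeometry CategoryTheory in
/-- Let j : C → C̄ be an open immersion with dense image and jX : X → X̄ an open immersion, and let c₁ :
C → X and c̄₁ : C̄ → X̄ satisfy j followed by c̄₁ equals c₁ followed by jX, with c̄₁ separated. Let
U be an open subset of X such that c₁⁻¹(U) is dense in C and the restriction c₁⁻¹(U) → U of c₁ is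
proper. Then c̄₁⁻¹(jX(U)) = j(c₁⁻¹(U)) as open subsets of C̄. (In the source all schemes are
separated of finite type over a field, C̄ and X̄ are compactifications of a correspondence and of X,
so that c̄₁ is automatically separated.) -/
theorem result {C Cb X Xb : Scheme.{u}}
    (j : C ⟶ Cb) [IsOpenImmersion j] (hj : DenseRange j.base)
    (jX : X ⟶ Xb) [IsOpenImmersion jX] (c₁ : C ⟶ X) (cb₁ : Cb ⟶ Xb) [IsSeparated cb₁]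
    (h : j ≫ cb₁ = c₁ ≫ jX) (U : X.Opens) (hU : Dense ((c₁ ⁻¹ᵁ U : C.Opens) : Set C))
    [IsProper (c₁ ∣_ U)] :
    cb₁ ⁻¹ᵁ (jX ''ᵁ U) = j ''ᵁ (c₁ ⁻¹ᵁ U) := by
  have hpt : ∀ y : C, cb₁ (j y) = jX (c₁ y) := by
    intro y
    have := congrArg (fun f => f y) h
    simpa using this
  -- easy inclusion
  have hWV : j ''ᵁ (c₁ ⁻¹ᵁ U) ≤ cb₁ ⁻¹ᵁ (jX ''ᵁ U) := by
    rintro _ ⟨y, hy, rfl⟩
    change cb₁ (j y) ∈ jX ''ᵁ U
    rw [hpt]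
    exact ⟨c₁ y, hy, rfl⟩
  refine le_antisymm ?_ hWV
  have e₁ : c₁ ⁻¹ᵁ U ≤ j ⁻¹ᵁ (cb₁ ⁻¹ᵁ (jX ''ᵁ U)) := by
    intro y hy
    exact hWV ⟨y, hy, rfl⟩
  let k : ((c₁ ⁻¹ᵁ U : C.Opens) : Scheme.{u}) ⟶ ((cb₁ ⁻¹ᵁ (jX ''ᵁ U) : Cb.Opens) : Scheme.{u}) :=
    j.resLE _ _ e₁
  have hkι : k ≫ (cb₁ ⁻¹ᵁ (jX ''ᵁ U)).ι = (c₁ ⁻¹ᵁ U).ι ≫ j := Scheme.Hom.resLE_comp_ι _ _
  let g : ((cb₁ ⁻¹ᵁ (jX ''ᵁ U) : Cb.Opens) : Scheme.{u}) ⟶ ((jX ''ᵁ U : Xb.Opens) : Scheme.{u}) :=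
    cb₁ ∣_ (jX ''ᵁ U)
  have hkg : k ≫ g = (c₁ ∣_ U) ≫ (jX.isoImage U).hom := by
    rw [← cancel_mono (jX ''ᵁ U).ι]
    simp only [g, Category.assoc, morphismRestrict_ι, Scheme.Hom.isoImage_hom_ι,
      morphismRestrict_ι_assoc]
    rw [reassoc_of% hkι, h]
  have : IsProper (k ≫ g) := by
    rw [hkg]; infer_instance
  have : IsProper k := IsProper.of_comp k g
  have hclosed : IsClosed (Set.range k) := k.isClosedMap.isClosed_range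
  intro v hv
  -- v as a point of V
  let v' : ((cb₁ ⁻¹ᵁ (jX ''ᵁ U) : Cb.Opens) : Scheme.{u}) := ⟨v, hv⟩
  have hdense : Dense (j '' ((c₁ ⁻¹ᵁ U : C.Opens) : Set C)) := hj.dense_image j.continuous hU
  have hkpt : ∀ w : ((c₁ ⁻¹ᵁ U : C.Opens) : Scheme.{u}),
      (cb₁ ⁻¹ᵁ (jX ''ᵁ U)).ι (k w) = j ((c₁ ⁻¹ᵁ U).ι w) := by
    intro w
    rw [← Scheme.Hom.comp_apply, ← Scheme.Hom.comp_apply, hkι]
  have hv' : v' ∈ closure (Set.range k) := by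
    rw [mem_closure_iff]
    intro O hO hvO
    have hO' : IsOpen ((cb₁ ⁻¹ᵁ (jX ''ᵁ U)).ι '' O) :=
      (cb₁ ⁻¹ᵁ (jX ''ᵁ U)).ι.isOpenEmbedding.isOpenMap O hO
    obtain ⟨_, ⟨o, hoO, rfl⟩, ⟨w, hw, hwo⟩⟩ :=
      hdense.inter_open_nonempty _ hO' ⟨v, ⟨v', hvO, rfl⟩⟩
    refine ⟨o, hoO, ⟨⟨w, hw⟩, ?_⟩⟩
    apply (cb₁ ⁻¹ᵁ (jX ''ᵁ U)).ι.isOpenEmbedding.injective
    exact (hkpt ⟨w, hw⟩).trans hwo
  rw [hclosed.closure_eq] at hv'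
  obtain ⟨w, hw⟩ := hv'
  refine ⟨w.1, w.2, ?_⟩
  have h1 := hkpt w
  rw [hw] at h1
  exact h1.symm

end Groth.Agent.S18389
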