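import Groth.Statements.S18390
import Mathlib.RingTheory.Finiteness.Basic
import Mathlib.Tactic

set_option autoImplicit false
universe u
open LVCorr

namespace Groth.Agent.S18390

theorem aux (A' A : Type u) [CommRing A'] [CommRing A]
    (φ : A' →+* A) (I : Ideal A) (J' : Ideal A') (hfg : J'.FG) :
    J'.map φ ≤ I → (∀ a ∈ J', ∃ k : ℕ, 1 ≤ k ∧ φ a ^ k ∈ I ^ (k + 1)) →
      ∃ K : ℕ, ∀ N : ℕ, K ≤ N → (J' ^ N).map φ ≤ I ^ (N + 1) := by
  induction J', hfg using Submodule.fg_induction with
  | singleton x =>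
    intro hle h
    obtain ⟨k, hk1, hk⟩ := h x (Submodule.mem_span_singleton_self x)
    refine ⟨k, fun N hN => ?_⟩
    have hx : φ x ∈ I := hle (Ideal.mem_map_of_mem φ (Submodule.mem_span_singleton_self x))
    change (Ideal.span {x} ^ N).map φ ≤ _
    rw [Ideal.span_singleton_pow, Ideal.map_span, Set.image_singleton, Ideal.span_le,
      Set.singleton_subset_iff, map_pow]
    obtain ⟨m, rfl⟩ := Nat.exists_eq_add_of_le hN
    have e1 : φ x ^ (k + m) = φ x ^ k * φ x ^ m := pow_add _ _ _
    have e2 : I ^ (k + m + 1) = I ^ (k + 1) * I ^ m := by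
      rw [← pow_add]; congr 1; omega
    rw [e1, e2]
    exact Ideal.mul_mem_mul hk (Ideal.pow_mem_pow hx m)
  | sup J₁ J₂ h₁ h₂ ih₁ ih₂ =>
    intro hle h
    have hle₁ : Ideal.map φ J₁ ≤ I := (Ideal.map_mono le_sup_left).trans hle
    have hle₂ : Ideal.map φ J₂ ≤ I := (Ideal.map_mono le_sup_right).trans hle
    obtain ⟨K₁, hK₁⟩ := ih₁ hle₁ (fun a ha => h a (le_sup_left (a := J₁) (b := J₂) ha))
    obtain ⟨K₂, hK₂⟩ := ih₂ hle₂ (fun a ha => h a (le_sup_right (a := J₁) (b := J₂) ha))
    refine ⟨K₁ + K₂, fun N hN => ?_⟩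
    have hpow : ∀ (J : Ideal A') (n : ℕ), J.map φ ≤ I → (J ^ n).map φ ≤ I ^ n := by
      intro J n hJ
      rw [Ideal.map_pow]
      exact Ideal.pow_right_mono hJ n
    rw [Ideal.map_le_iff_le_comap, ← Ideal.add_eq_sup, add_pow, Ideal.sum_eq_sup]
    · apply Finset.sup_le
      intro i hi
      have hiN : i ≤ N := Nat.lt_succ_iff.mp (Finset.mem_range.mp hi)
      rw [← Ideal.map_le_iff_le_comap]
      refine (Ideal.map_mono (Ideal.mul_le_left)).trans ?_
      rw [Ideal.map_mul]
      by_cases hi1 : K₁ ≤ i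
      · have := Ideal.mul_mono (hK₁ i hi1) (hpow J₂ (N - i) hle₂)
        refine this.trans ?_
        rw [← pow_add]
        exact le_of_eq (by congr 1; omega)
      · have hi2 : K₂ ≤ N - i := by omega
        have := Ideal.mul_mono (hpow J₁ i hle₁) (hK₂ (N - i) hi2)
        refine this.trans ?_
        rw [← pow_add]
        exact le_of_eq (by congr 1; omega)

/-- In the affine, ring-theoretic form which its proof establishes. Let φ : A' → A be a ring
homomorphism, I' a finitely generated ideal of A' and I an ideal of A containing the image of I'.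
Then some power I'^k is mapped into I^(k+1) if and only if for every n ≥ 1 and every a ∈ I'^n there
is a k with φ(a)^k ∈ I^(nk+1). (Geometrically, for a morphism f : (X, Z) → (X', Z') of pairs with Z
a closed subscheme of the preimage of Z', the normal cone of Z in X is the spectrum of the
associated graded algebra of I, and the second condition says that the induced map of normal cones
sends the normal cone of Z set-theoretically into the zero section Z'; the source states the
equivalence in that language.) -/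
theorem result (A' A : Type u) [CommRing A'] [CommRing A]
    (φ : A' →+* A) (I' : Ideal A') (hI' : I'.FG) (I : Ideal A) (hle : I'.map φ ≤ I) :
    (∃ k : ℕ, (I' ^ k).map φ ≤ I ^ (k + 1)) ↔
      ∀ n : ℕ, 1 ≤ n → ∀ a ∈ I' ^ n, ∃ k : ℕ, 1 ≤ k ∧ φ a ^ k ∈ I ^ (n * k + 1) := by
  constructor
  · rintro ⟨k, hk⟩ n hn a ha
    rcases Nat.eq_zero_or_pos k with rfl | hkpos
    · -- I = ⊤
      have hI : I = ⊤ := by
        rw [Ideal.eq_top_iff_one]
        have : (1 : A) ∈ (I' ^ 0).map φ := by
          rw [pow_zero, Ideal.one_eq_top, Ideal.map_top]; trivial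
        simpa using hk this
      refine ⟨1, le_refl _, ?_⟩
      rw [hI, Ideal.top_pow]; trivial
    · refine ⟨k, hkpos, ?_⟩
      have h1 : a ^ k ∈ (I' ^ k) ^ n := by
        rw [← pow_mul, mul_comm, pow_mul]
        exact Ideal.pow_mem_pow ha k
      have h2 : φ (a ^ k) ∈ ((I' ^ k) ^ n).map φ := Ideal.mem_map_of_mem φ h1
      rw [Ideal.map_pow] at h2
      have h3 := Ideal.pow_right_mono hk n h2
      rw [← pow_mul, map_pow] at h3
      refine Ideal.pow_le_pow_right ?_ h3
      nlinarith
  · intro h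
    obtain ⟨K, hK⟩ := aux A' A φ I I' hI' hle (fun a ha => by
      obtain ⟨k, hk1, hk⟩ := h 1 (le_refl _) a (by simpa using ha)
      exact ⟨k, hk1, by simpa using hk⟩)
    exact ⟨K, hK K (le_refl _)⟩

end Groth.Agent.S18390
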