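import Groth.Statements.S18391
import Mathlib.RingTheory.Ideal.KrullsHeightTheorem
import Mathlib.RingTheory.DiscreteValuationRing.TFAE
import Mathlib.RingTheory.Localization.Away.Basic
import Mathlib.Tactic

set_option autoImplicit false
universe u
open LVCorr

namespace Groth.Agent.S18391

/-- In `A_w`, if `s * z = a * t ^ r` with `s ∣ w`, `a ∣ w`, then `(z) = (t ^ r)`. -/
theorem span_eq_of_mul_eq {A : Type u} [CommRing A] (w z t s a : A) (r : ℕ)
    (h : s * z = a * t ^ r) (hs : s ∣ w) (ha : a ∣ w) :
    Ideal.span {algebraMap A (Localization.Away w) z} =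
      Ideal.span {algebraMap A (Localization.Away w) t ^ r} := by
  have hw : IsUnit (algebraMap A (Localization.Away w) w) :=
    IsLocalization.Away.algebraMap_isUnit w
  have hs' : IsUnit (algebraMap A (Localization.Away w) s) :=
    isUnit_of_dvd_unit (map_dvd _ hs) hw
  have ha' : IsUnit (algebraMap A (Localization.Away w) a) :=
    isUnit_of_dvd_unit (map_dvd _ ha) hw
  have h' := congrArg (algebraMap A (Localization.Away w)) h
  rw [map_mul, map_mul, map_pow] at h'
  rw [← Ideal.span_singleton_mul_left_unit hs', h', Ideal.span_singleton_mul_left_unit ha']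

/-- In `A_w`, `(t)` is prime if `p` is prime, `w ∉ p`, `t ∈ p` and `w₁ • p ⊆ (t)` with `w₁ ∣ w`. -/
theorem span_isPrime_of {A : Type u} [CommRing A] (p : Ideal A) [hp : p.IsPrime] (w w₁ t : A)
    (hw : w ∉ p) (ht : t ∈ p) (hw₁ : w₁ ∣ w) (h : ∀ x ∈ p, w₁ * x ∈ Ideal.span {t}) :
    (Ideal.span {algebraMap A (Localization.Away w) t}).IsPrime := by
  have hwu : IsUnit (algebraMap A (Localization.Away w) w) :=
    IsLocalization.Away.algebraMap_isUnit w
  have hw₁u : IsUnit (algebraMap A (Localization.Away w) w₁) :=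
    isUnit_of_dvd_unit (map_dvd _ hw₁) hwu
  have hmap : Ideal.span {algebraMap A (Localization.Away w) t} =
      p.map (algebraMap A (Localization.Away w)) := by
    apply le_antisymm
    · rw [Ideal.span_le, Set.singleton_subset_iff]
      exact Ideal.mem_map_of_mem _ ht
    · rw [Ideal.map_le_iff_le_comap]
      intro x hx
      rw [Ideal.mem_comap]
      have h1 := h x hx
      rw [Ideal.mem_span_singleton] at h1
      obtain ⟨c, hc⟩ := h1
      have h2 := congrArg (algebraMap A (Localization.Away w)) hc
      rw [map_mul, map_mul] at h2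
      rw [Ideal.mem_span_singleton]
      obtain ⟨u, hu⟩ := hw₁u
      refine ⟨↑u⁻¹ * algebraMap A (Localization.Away w) c, ?_⟩
      have : algebraMap A (Localization.Away w) x =
          ↑u⁻¹ * (algebraMap A (Localization.Away w) w₁ * algebraMap A (Localization.Away w) x) := by
        rw [← hu, ← mul_assoc, Units.inv_mul, one_mul]
      rw [this, h2]; ring
  rw [hmap]
  apply IsLocalization.isPrime_of_isPrime_disjoint (Submonoid.powers w) _ p hp
  rw [Set.disjoint_left]
  rintro _ ⟨n, rfl⟩ hn
  exact hw (hp.mem_of_pow_mem n hn)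

/-- For a finitely generated ideal `I ≤ p`, if each element of `p` is multiplied into `(t)` by
some element outside `p`, a single such multiplier works for all of `I`. -/
theorem exists_mul_mem_span {A : Type u} [CommRing A] (p : Ideal A) [hp : p.IsPrime] (t : A)
    (h : ∀ x ∈ p, ∃ s, s ∉ p ∧ s * x ∈ Ideal.span {t}) (I : Ideal A) (hI : I.FG) :
    I ≤ p → ∃ s, s ∉ p ∧ ∀ x ∈ I, s * x ∈ Ideal.span {t} := by
  induction I, hI using Submodule.fg_induction with
  | singleton x =>
    intro hle
    obtain ⟨s, hs, hsx⟩ := h x (hle (Submodule.mem_span_singleton_self x))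
    refine ⟨s, hs, fun y hy => ?_⟩
    obtain ⟨c, rfl⟩ := Submodule.mem_span_singleton.mp hy
    have : s * (c • x) = c * (s * x) := by simp [smul_eq_mul]; ring
    rw [this]
    exact Ideal.mul_mem_left _ _ hsx
  | sup I₁ I₂ h₁ h₂ ih₁ ih₂ =>
    intro hle
    obtain ⟨s₁, hs₁, hs₁x⟩ := ih₁ (le_sup_left.trans hle)
    obtain ⟨s₂, hs₂, hs₂x⟩ := ih₂ (le_sup_right.trans hle)
    refine ⟨s₁ * s₂, fun hmem => (hp.mem_or_mem hmem).elim hs₁ hs₂, fun y hy => ?_⟩
    obtain ⟨y₁, hy₁, y₂, hy₂, rfl⟩ := Submodule.mem_sup.mp hy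
    have : s₁ * s₂ * (y₁ + y₂) = s₂ * (s₁ * y₁) + s₁ * (s₂ * y₂) := by ring
    rw [this]
    exact Ideal.add_mem _ (Ideal.mul_mem_left _ _ (hs₁x y₁ hy₁)) (Ideal.mul_mem_left _ _ (hs₂x y₂ hy₂))

/-- Let A be a normal (integrally closed) Noetherian domain and z an element of A such that the radical
of the principal ideal (z) is prime. Then there exist elements w, t of A and a natural number r,
with w not in the radical of (z), such that in the localization A[1/w] the ideal generated by z
equals the ideal generated by t^r and the ideal generated by t is prime. (The condition on w is the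
one the printed proof produces and the later use of the lemma needs.) -/
theorem result (A : Type u) [CommRing A] [IsDomain A]
    [IsNoetherianRing A] [IsIntegrallyClosed A] (z : A) (hz : (Ideal.span {z}).radical.IsPrime) :
    ∃ (w t : A) (r : ℕ), w ∉ (Ideal.span {z}).radical ∧
      Ideal.span {algebraMap A (Localization.Away w) z} =
        Ideal.span {algebraMap A (Localization.Away w) t ^ r} ∧
      (Ideal.span {algebraMap A (Localization.Away w) t}).IsPrime := by
  by_cases hz0 : z = 0
  · subst hz0
    refine ⟨1, 0, 1, ?_, ?_, ?_⟩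
    · intro h
      exact hz.ne_top ((Ideal.eq_top_iff_one _).mpr h)
    · simp
    · have : IsDomain (Localization.Away (1 : A)) :=
        IsLocalization.isDomain_of_le_nonZeroDivisors _
          (M := Submonoid.powers (1 : A)) (by
            rintro _ ⟨n, rfl⟩
            simp)
      simp only [map_zero, Set.singleton_zero, Ideal.span_zero]
      exact Ideal.isPrime_bot
  set p := (Ideal.span {z}).radical with hp
  have hzp : z ∈ p := Ideal.le_radical (Ideal.mem_span_singleton_self z)
  have hpmin : p ∈ (Ideal.span {z}).minimalPrimes := by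
    refine ⟨⟨hz, Ideal.le_radical⟩, ?_⟩
    rintro q ⟨hq, hzq⟩ _
    exact hq.radical_le_iff.mpr hzq
  have hht : p.height ≤ 1 :=
    Ideal.height_le_one_of_isPrincipal_of_mem_minimalPrimes (Ideal.span {z}) p hpmin
  -- the localization at p
  let R := Localization.AtPrime p
  have : IsDomain R := IsLocalization.isDomain_of_atPrime R p
  have : IsNoetherianRing R := IsLocalization.isNoetherianRing p.primeCompl R inferInstance
  have : IsIntegrallyClosed R :=
    isIntegrallyClosed_of_isLocalization R p.primeCompl p.primeCompl_le_nonZeroDivisors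
  have hinj : Function.Injective (algebraMap A R) :=
    IsLocalization.injective R p.primeCompl_le_nonZeroDivisors
  have hprimes : ∀ P : Ideal R, P ≠ ⊥ → P.IsPrime → P = IsLocalRing.maximalIdeal R := by
    intro P hP0 hPp
    rw [← Localization.AtPrime.eq_maximalIdeal_iff_under_eq]
    obtain ⟨hq, hdisj⟩ := (IsLocalization.isPrime_iff_isPrime_disjoint p.primeCompl R P).mp hPp
    have hqp : P.under A ≤ p := by
      intro x hx
      by_contra hxp
      exact Set.disjoint_left.mp hdisj hxp hx
    have hq0 : P.under A ≠ ⊥ := by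
      intro h0
      apply hP0
      rw [← IsLocalization.map_under p.primeCompl R P, h0, Ideal.map_bot]
    have : (P.under A).FiniteHeight := by
      rw [Ideal.finiteHeight_iff]
      right
      exact ne_top_of_le_ne_top (by simp) ((Ideal.height_mono hqp).trans hht)
    refine Ideal.eq_of_le_of_height_le _ hqp (hht.trans ?_)
    rw [Order.one_le_iff_ne_zero]
    intro h0
    exact hq0 (Ideal.height_eq_zero_iff_eq_bot.mp h0)
  have tfae := tfae_of_isNoetherianRing_of_isLocalRing_of_isDomain R
  have h34 : (IsIntegrallyClosed R ∧ ∀ P : Ideal R, P ≠ ⊥ → P.IsPrime → P = IsLocalRing.maximalIdeal R) →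
      (IsLocalRing.maximalIdeal R).IsPrincipal := (tfae.out 3 4).mp
  have h36 : (IsIntegrallyClosed R ∧ ∀ P : Ideal R, P ≠ ⊥ → P.IsPrime → P = IsLocalRing.maximalIdeal R) →
      ∀ I : Ideal R, I ≠ ⊥ → ∃ n : ℕ, I = IsLocalRing.maximalIdeal R ^ n := (tfae.out 3 6).mp
  have hprinc : (IsLocalRing.maximalIdeal R).IsPrincipal := h34 ⟨inferInstance, hprimes⟩
  have hpow : ∀ I : Ideal R, I ≠ ⊥ → ∃ n : ℕ, I = IsLocalRing.maximalIdeal R ^ n :=
    h36 ⟨inferInstance, hprimes⟩
  -- a generator of the maximal ideal coming from A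
  obtain ⟨π, hπ⟩ := hprinc.principal
  obtain ⟨⟨t, s₀⟩, hts⟩ := IsLocalization.surj p.primeCompl π
  have hs₀u : IsUnit (algebraMap A R s₀) := IsLocalization.map_units R s₀
  have hmt : IsLocalRing.maximalIdeal R = Ideal.span {algebraMap A R t} := by
    rw [hπ, ← hts]
    change Ideal.span {π} = Ideal.span {π * algebraMap A R s₀}
    rw [Ideal.span_singleton_mul_right_unit hs₀u]
  have htp : t ∈ p := by
    have : algebraMap A R t ∈ IsLocalRing.maximalIdeal R := by
      rw [hmt]; exact Ideal.mem_span_singleton_self _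
    exact (IsLocalization.AtPrime.to_map_mem_maximal_iff R p t).mp this
  -- every element of p is multiplied into (t) by an element outside p
  have hloc : ∀ x ∈ p, ∃ s, s ∉ p ∧ s * x ∈ Ideal.span {t} := by
    intro x hx
    have hxm : algebraMap A R x ∈ IsLocalRing.maximalIdeal R :=
      (IsLocalization.AtPrime.to_map_mem_maximal_iff R p x).mpr hx
    rw [hmt, Ideal.mem_span_singleton] at hxm
    obtain ⟨c, hc⟩ := hxm
    obtain ⟨⟨a, s⟩, has⟩ := IsLocalization.surj p.primeCompl c
    refine ⟨s, s.2, ?_⟩
    rw [Ideal.mem_span_singleton]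
    refine ⟨a, hinj ?_⟩
    simp only at has
    rw [map_mul, map_mul, hc, ← has]
    ring
  obtain ⟨w₁, hw₁p, hw₁⟩ := exists_mul_mem_span p t hloc p (IsNoetherian.noetherian p) le_rfl
  -- z is a unit times a power of t in R
  have hzR : Ideal.span {algebraMap A R z} ≠ ⊥ := by
    rw [Ne, Ideal.span_singleton_eq_bot]
    intro h
    exact hz0 (hinj (h.trans (map_zero _).symm))
  obtain ⟨r, hr⟩ := hpow _ hzR
  rw [hmt, Ideal.span_singleton_pow, Ideal.span_singleton_eq_span_singleton] at hr
  obtain ⟨u, hu⟩ := hr
  obtain ⟨⟨a, s⟩, has⟩ := IsLocalization.surj p.primeCompl (u : R)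
  simp only at has
  have hap : a ∉ p := by
    have : IsUnit (algebraMap A R a) := by
      rw [← has]
      exact u.isUnit.mul (IsLocalization.map_units R s)
    exact (IsLocalization.AtPrime.isUnit_to_map_iff R p a).mp this
  have hsz : a * z = (s : A) * t ^ r := by
    apply hinj
    rw [map_mul, map_mul, map_pow, ← hu, ← has]
    ring
  refine ⟨w₁ * (s * a), t, r, ?_, ?_, ?_⟩
  · intro h
    rcases hz.mem_or_mem h with h | h
    · exact hw₁p h
    · rcases hz.mem_or_mem h with h | h
      · exact s.2 h
      · exact hap h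
  · exact span_eq_of_mul_eq _ z t a s r hsz ⟨w₁ * s, by ring⟩ ⟨w₁ * a, by ring⟩
  · refine span_isPrime_of p _ w₁ t ?_ htp ⟨s * a, rfl⟩ hw₁
    intro h
    rcases hz.mem_or_mem h with h | h
    · exact hw₁p h
    · rcases hz.mem_or_mem h with h | h
      · exact s.2 h
      · exact hap h

end Groth.Agent.S18391
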