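import Groth.Statements.S18392
import Mathlib.RingTheory.Ideal.KrullsHeightTheorem
import Mathlib.RingTheory.Ideal.MinimalPrime.Localization
import Mathlib.Tactic

set_option autoImplicit false
universe u
open LVCorr

namespace Groth.Agent.S18392

/-- Key algebraic lemma: if `p` is a minimal prime over `J` and `z ∈ p`, there are `x ∉ p`
and `m` with `x * z ^ m ∈ J`. -/
theorem exists_notMem_mul_pow_mem {A : Type u} [CommRing A] (J p : Ideal A)
    (hp : p ∈ J.minimalPrimes) (z : A) (hz : z ∈ p) :
    ∃ x : A, x ∉ p ∧ ∃ m : ℕ, x * z ^ m ∈ J := by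
  have hpp : p.IsPrime := hp.isPrime
  have hrad := IsLocalization.AtPrime.radical_map_of_mem_minimalPrimes
    (A := Localization.AtPrime p) p J hp
  have hz' : algebraMap A (Localization.AtPrime p) z ∈
      (J.map (algebraMap A (Localization.AtPrime p))).radical := by
    rw [hrad]; exact Ideal.mem_map_of_mem _ hz
  obtain ⟨m, hm⟩ := hz'
  rw [← map_pow, IsLocalization.mem_map_algebraMap_iff p.primeCompl] at hm
  obtain ⟨⟨a, s⟩, hs⟩ := hm
  rw [← map_mul, IsLocalization.eq_iff_exists p.primeCompl] at hs
  obtain ⟨t, ht⟩ := hs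
  refine ⟨t.1 * s.1, fun h => ?_, m, ?_⟩
  · exact (t * s).2 h
  · have : t.1 * s.1 * z ^ m = t.1 * (z ^ m * s.1) := by ring
    rw [this, ht]
    exact J.mul_mem_left _ a.2

/-- Let A be a normal (integrally closed) Noetherian domain and z an element of A such that the radical
of (z) is prime. Then for every non-empty open subset V of Spec A contained in the basic open set
D(z) (that is, every non-empty open subset of Spec A[1/z]) there is an element x of A, not in the
radical of (z), such that the basic open set D(xz) = Spec A[1/xz] is contained in V. -/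
theorem result (A : Type u) [CommRing A]
    [IsDomain A] [IsNoetherianRing A] [IsIntegrallyClosed A] (z : A)
    (hz : (Ideal.span {z}).radical.IsPrime) (V : Set (PrimeSpectrum A)) (hV : IsOpen V)
    (hVz : V ⊆ (PrimeSpectrum.basicOpen z : Set (PrimeSpectrum A))) (hne : V.Nonempty) :
    ∃ x : A, x ∉ (Ideal.span {z}).radical ∧
      ((PrimeSpectrum.basicOpen (x * z) : TopologicalSpace.Opens (PrimeSpectrum A)) :
        Set (PrimeSpectrum A)) ⊆ V := by
  set p := (Ideal.span {z}).radical with hp
  -- p is a minimal prime over (z)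
  have hpmin : p ∈ (Ideal.span {z}).minimalPrimes := by
    refine ⟨⟨hz, Ideal.le_radical⟩, ?_⟩
    rintro q ⟨hq, hzq⟩ _
    exact hq.radical_le_iff.mpr hzq
  have hht : p.height ≤ 1 :=
    Ideal.height_le_one_of_isPrincipal_of_mem_minimalPrimes (Ideal.span {z}) p hpmin
  -- the radical ideal of the complement of V
  set J := PrimeSpectrum.vanishingIdeal Vᶜ with hJ
  have hJV : PrimeSpectrum.zeroLocus (J : Set A) = Vᶜ := by
    rw [hJ, PrimeSpectrum.zeroLocus_vanishingIdeal_eq_closure, hV.isClosed_compl.closure_eq]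
  have hJp : J ≤ p := by
    rw [hp, ← PrimeSpectrum.vanishingIdeal_zeroLocus_eq_radical]
    apply PrimeSpectrum.vanishingIdeal_anti_mono
    intro q hq hqV
    have := hVz hqV
    rw [PrimeSpectrum.zeroLocus_span] at hq
    exact this (hq (Set.mem_singleton z))
  have hJne : J ≠ ⊥ := by
    rintro hbot
    obtain ⟨q, hq⟩ := hne
    have : q ∈ PrimeSpectrum.zeroLocus (J : Set A) := by
      rw [hbot]; intro a ha; rw [Set.mem_singleton_iff.mp ha]; exact q.asIdeal.zero_mem
    rw [hJV] at this
    exact this hq
  have hJht : p.height ≤ J.height := by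
    refine hht.trans ?_
    rw [Order.one_le_iff_ne_zero]
    intro h0
    exact hJne (Ideal.height_eq_zero_iff_eq_bot.mp h0)
  have : p.FiniteHeight := by
    rw [Ideal.finiteHeight_iff]
    right
    exact ne_top_of_le_ne_top (by simp) hht
  have hpJ : p ∈ J.minimalPrimes := Ideal.mem_minimalPrimes_of_height_le hJp hJht
  have hzp : z ∈ p := Ideal.le_radical (Ideal.mem_span_singleton_self z)
  obtain ⟨x, hxp, m, hxm⟩ := exists_notMem_mul_pow_mem J p hpJ z hzp
  refine ⟨x, hxp, ?_⟩
  intro q hq
  by_contra hqV
  have hqJ : q ∈ PrimeSpectrum.zeroLocus (J : Set A) := by rw [hJV]; exact hqV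
  have h1 : x * z ^ m ∈ q.asIdeal := hqJ hxm
  apply hq
  rcases q.2.mem_or_mem h1 with h | h
  · exact q.asIdeal.mul_mem_right _ h
  · exact q.asIdeal.mul_mem_left _ (q.2.mem_of_pow_mem m h)

end Groth.Agent.S18392
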