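import Groth.Statements.S18393
import Mathlib.Tactic

set_option autoImplicit false
universe u v
open LVCorr

namespace Groth.Agent.S18393

/-- Stated for the underlying continuous maps. Let c₁, c₂ : C → X be continuous maps with C a Noetherian
topological space, let Z be a closed subset of X and B the closure in C of c₂⁻¹(Z) ∖ c₁⁻¹(Z). Call Z
locally invariant when every point x of Z has an open neighbourhood U such that every y in C with
c₂(y) ∈ Z ∩ U and c₁(y) ∈ U satisfies c₁(y) ∈ Z. Then Z is locally invariant if and only if for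
every irreducible subset T of B the closures of c₁(T) and of c₂(T) in X are disjoint. (The source
states this for a correspondence c = (c₁, c₂) : C → X × X of separated schemes of finite type over
an algebraically closed field and for the irreducible components of B; the condition for all
irreducible subsets of B is the same condition.) -/
theorem result {C : Type u} {X : Type v}
    [TopologicalSpace C] [TopologicalSpace X] [TopologicalSpace.NoetherianSpace C]
    (c₁ c₂ : C → X) (hc₁ : Continuous c₁) (hc₂ : Continuous c₂) (Z : Set X) (hZ : IsClosed Z) :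
    (∀ x ∈ Z, ∃ U : Set X, IsOpen U ∧ x ∈ U ∧
        ∀ y : C, c₂ y ∈ Z → c₂ y ∈ U → c₁ y ∈ U → c₁ y ∈ Z) ↔
      ∀ T : Set C, T ⊆ closure (c₂ ⁻¹' Z \ c₁ ⁻¹' Z) → IsIrreducible T →
        closure (c₁ '' T) ∩ closure (c₂ '' T) = ∅ := by
  constructor
  · intro hloc T hT hTirr
    rw [Set.eq_empty_iff_forall_notMem]
    rintro x ⟨hx1, hx2⟩
    -- c₂ maps B into Z
    have hB : closure (c₂ ⁻¹' Z \ c₁ ⁻¹' Z) ⊆ c₂ ⁻¹' Z :=
      closure_minimal (fun y hy => hy.1) (hZ.preimage hc₂)
    have hxZ : x ∈ Z := by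
      have : closure (c₂ '' T) ⊆ Z := by
        apply closure_minimal _ hZ
        rintro _ ⟨y, hy, rfl⟩
        exact hB (hT hy)
      exact this hx2
    obtain ⟨U, hUo, hxU, hU⟩ := hloc x hxZ
    -- T meets c₁⁻¹ U and c₂⁻¹ U
    have h1 : (T ∩ c₁ ⁻¹' U).Nonempty := by
      obtain ⟨_, hzU, ⟨y, hyT, rfl⟩⟩ := mem_closure_iff.mp hx1 U hUo hxU
      exact ⟨y, hyT, hzU⟩
    have h2 : (T ∩ c₂ ⁻¹' U).Nonempty := by
      obtain ⟨_, hzU, ⟨y, hyT, rfl⟩⟩ := mem_closure_iff.mp hx2 U hUo hxU
      exact ⟨y, hyT, hzU⟩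
    obtain ⟨y, hyT, hy1, hy2⟩ := hTirr.isPreirreducible _ _ (hUo.preimage hc₁) (hUo.preimage hc₂) h1 h2
    -- the open set c₁⁻¹U ∩ c₂⁻¹U meets closure W, hence W
    have hyB := hT hyT
    obtain ⟨w, ⟨hw1, hw2⟩, hwZ, hwnZ⟩ := mem_closure_iff.mp hyB (c₁ ⁻¹' U ∩ c₂ ⁻¹' U)
      ((hUo.preimage hc₁).inter (hUo.preimage hc₂)) ⟨hy1, hy2⟩
    exact hwnZ (hU w hwZ hw2 hw1)
  · intro h x hxZ
    obtain ⟨S, hSfin, hSclosed, hSirr, hSU⟩ :=
      TopologicalSpace.NoetherianSpace.exists_finite_set_isClosed_irreducible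
        (isClosed_closure (s := c₂ ⁻¹' Z \ c₁ ⁻¹' Z))
    classical
    -- for each T ∈ S choose an open nbhd of x
    let V : Set C → Set X := fun T =>
      if x ∈ closure (c₁ '' T) then (closure (c₂ '' T))ᶜ else (closure (c₁ '' T))ᶜ
    refine ⟨⋂ T ∈ S, V T, ?_, ?_, ?_⟩
    · apply hSfin.isOpen_biInter
      intro T _
      simp only [V]
      split_ifs
      · exact isClosed_closure.isOpen_compl
      · exact isClosed_closure.isOpen_compl
    · simp only [Set.mem_iInter]
      intro T hT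
      simp only [V]
      split_ifs with hx1
      · intro hx2
        have hTsub : T ⊆ closure (c₂ ⁻¹' Z \ c₁ ⁻¹' Z) := by
          rw [hSU]; exact Set.subset_sUnion_of_mem hT
        have := h T hTsub (hSirr T hT)
        rw [Set.eq_empty_iff_forall_notMem] at this
        exact this x ⟨hx1, hx2⟩
      · exact hx1
    · intro y hy2Z hy2U hy1U
      by_contra hy1Z
      have hyW : y ∈ closure (c₂ ⁻¹' Z \ c₁ ⁻¹' Z) := subset_closure ⟨hy2Z, hy1Z⟩
      rw [hSU] at hyW
      obtain ⟨T, hTS, hyT⟩ := hyW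
      simp only [Set.mem_iInter] at hy2U hy1U
      have h1 := hy1U T hTS
      have h2 := hy2U T hTS
      simp only [V] at h1 h2
      split_ifs at h1 h2 with hx1
      · exact h2 (subset_closure ⟨y, hyT, rfl⟩)
      · exact h1 (subset_closure ⟨y, hyT, rfl⟩)

end Groth.Agent.S18393
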