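import Groth.Statements.S18399
import Mathlib

set_option autoImplicit false
universe u
open CAlg

namespace Groth.Agent.S18399

open IsLocalRing

section
variable {k : Type u} [Field k] {A : Type u} [CommRing A] [Algebra k A] [IsLocalRing A]
  (σ : A →ₐ[k] A) (n : ℕ)

/-- the ideal generated by `a - σ a` -/
def Isig : Ideal A := Ideal.span (Set.range fun a : A => a - σ a)

theorem sub_mem_Isig (a : A) : a - σ a ∈ Isig σ := Ideal.subset_span ⟨a, rfl⟩

theorem sigma_mem_max (hσ : ∀ a : A, (⇑σ)^[n] a = a) (hn0 : n ≠ 0) {a : A}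
    (ha : a ∈ maximalIdeal A) : σ a ∈ maximalIdeal A := by
  rw [mem_maximalIdeal, mem_nonunits_iff] at ha ⊢
  intro hu
  apply ha
  obtain ⟨m, rfl⟩ := Nat.exists_eq_succ_of_ne_zero hn0
  have h1 : (⇑σ)^[m] (σ a) = a := by
    rw [← Function.iterate_succ_apply]; exact hσ a
  rw [← h1, ← AlgHom.coe_pow]
  exact hu.map _

theorem mul_sub_mem (hσ : ∀ a : A, (⇑σ)^[n] a = a) (hn0 : n ≠ 0) {a b : A}
    (ha : a ∈ maximalIdeal A) (hb : b ∈ maximalIdeal A) :
    a * b - σ (a * b) ∈ maximalIdeal A * Isig σ := by
  have : a * b - σ (a * b) = a * (b - σ b) + σ b * (a - σ a) := by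
    rw [map_mul]; ring
  rw [this]
  exact Ideal.add_mem _ (Ideal.mul_mem_mul ha (sub_mem_Isig σ b))
    (Ideal.mul_mem_mul (sigma_mem_max σ n hσ hn0 hb) (sub_mem_Isig σ a))

theorem sq_sub_mem (hσ : ∀ a : A, (⇑σ)^[n] a = a) (hn0 : n ≠ 0) {h : A}
    (hh : h ∈ maximalIdeal A ^ 2) : h - σ h ∈ maximalIdeal A * Isig σ := by
  rw [pow_two] at hh
  refine Submodule.mul_induction_on hh ?_ ?_
  · intro a ha b hb
    exact mul_sub_mem σ n hσ hn0 ha hb
  · intro x y hx hy
    have : x + y - σ (x + y) = (x - σ x) + (y - σ y) := by rw [map_add]; ring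
    rw [this]
    exact Ideal.add_mem _ hx hy

theorem sigma_sq_mem (hσ : ∀ a : A, (⇑σ)^[n] a = a) (hn0 : n ≠ 0) {h : A}
    (hh : h ∈ maximalIdeal A ^ 2) : σ h ∈ maximalIdeal A ^ 2 := by
  rw [pow_two] at hh ⊢
  refine Submodule.mul_induction_on hh ?_ ?_
  · intro a ha b hb
    rw [map_mul]
    exact Ideal.mul_mem_mul (sigma_mem_max σ n hσ hn0 ha) (sigma_mem_max σ n hσ hn0 hb)
  · intro x y hx hy
    rw [map_add]
    exact Ideal.add_mem _ hx hy

/-- key step: if `g - σ g ∈ m^2` then `g - σ g ∈ m * Isig`. -/
theorem key (hσ : ∀ a : A, (⇑σ)^[n] a = a) (hn : (n : k) ≠ 0) {g : A}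
    (hg : g - σ g ∈ maximalIdeal A ^ 2) : g - σ g ∈ maximalIdeal A * Isig σ := by
  have hn0 : n ≠ 0 := by rintro rfl; simp at hn
  -- iterates differ from g by elements of m^2
  have hiter : ∀ i : ℕ, g - (⇑σ)^[i] g ∈ maximalIdeal A ^ 2 := by
    intro i
    induction i with
    | zero => simp
    | succ i ih =>
      have : g - (⇑σ)^[i + 1] g = (g - σ g) + σ (g - (⇑σ)^[i] g) := by
        rw [Function.iterate_succ_apply', map_sub]; ring
      rw [this]
      exact Ideal.add_mem _ hg (sigma_sq_mem σ n hσ hn0 ih)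
  set T : A := ∑ i ∈ Finset.range n, (⇑σ)^[i] g with hT
  have hσT : σ T = T := by
    rw [hT, map_sum]
    have h1 : ∑ i ∈ Finset.range n, σ ((⇑σ)^[i] g) = ∑ i ∈ Finset.range n, (⇑σ)^[i + 1] g := by
      refine Finset.sum_congr rfl fun i _ => ?_
      rw [Function.iterate_succ_apply']
    rw [h1]
    have h2 := Finset.sum_range_succ' (fun i => (⇑σ)^[i] g) n
    have h3 := Finset.sum_range_succ (fun i => (⇑σ)^[i] g) n
    rw [h3] at h2
    simp only [Function.iterate_zero, id_eq] at h2
    rw [hσ g] at h2
    exact (add_right_cancel h2).symm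
  set h : A := ∑ i ∈ Finset.range n, (g - (⇑σ)^[i] g) with hh
  have hhm : h ∈ maximalIdeal A ^ 2 := Ideal.sum_mem _ fun i _ => hiter i
  have hng : (n : A) * g = h + T := by
    rw [hh, hT, Finset.sum_sub_distrib]; simp
  have h4 : (n : A) * (g - σ g) = h - σ h := by
    have : σ ((n : A) * g) = (n : A) * σ g := by rw [map_mul, map_natCast]
    calc (n : A) * (g - σ g) = (n : A) * g - σ ((n : A) * g) := by rw [this]; ring
      _ = (h + T) - σ (h + T) := by rw [hng]
      _ = h - σ h := by rw [map_add, hσT]; ring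
  have h5 : (n : A) * (g - σ g) ∈ maximalIdeal A * Isig σ := by
    rw [h4]; exact sq_sub_mem σ n hσ hn0 hhm
  have hunit : (algebraMap k A (n : k)⁻¹) * (n : A) = 1 := by
    rw [← map_natCast (algebraMap k A), ← map_mul, inv_mul_cancel₀ hn, map_one]
  have : g - σ g = algebraMap k A (n : k)⁻¹ * ((n : A) * (g - σ g)) := by
    rw [← mul_assoc, hunit, one_mul]
  rw [this]
  exact Ideal.mul_mem_left _ _ h5

end

theorem main {k : Type u} [Field k] {A : Type u} [CommRing A] [Algebra k A] [IsLocalRing A]
    [IsNoetherianRing A]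
    (hres : Function.Surjective ⇑(algebraMap k (IsLocalRing.ResidueField A))) (σ : A →ₐ[k] A)
    (n : ℕ) (hσ : ∀ a : A, (⇑σ)^[n] a = a) (hn : (n : k) ≠ 0) :
    ∃ (m : ℕ) (f : Fin m → ↥(IsLocalRing.maximalIdeal A)),
      Ideal.span (Set.range fun i : Fin m => (f i : A)) =
        Ideal.span (Set.range fun a : A => a - σ a) ∧
      LinearIndependent (IsLocalRing.ResidueField A)
        (fun i : Fin m => (IsLocalRing.maximalIdeal A).toCotangent (f i)) := by
  classical
  have hn0 : n ≠ 0 := by rintro rfl; simp at hn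
  -- every `a` is a constant plus an element of `m`
  have hdecomp : ∀ a : A, ∃ c : k, a - algebraMap k A c ∈ maximalIdeal A := by
    intro a
    obtain ⟨c, hc⟩ := hres (residue A a)
    refine ⟨c, ?_⟩
    rw [← residue_eq_zero_iff, map_sub, sub_eq_zero, ← hc,
      IsScalarTower.algebraMap_apply k A (ResidueField A)]
    rfl
  have hsubm : ∀ a : A, a - σ a ∈ maximalIdeal A := by
    intro a
    obtain ⟨c, hc⟩ := hdecomp a
    have : a - σ a = (a - algebraMap k A c) - σ (a - algebraMap k A c) := by
      rw [map_sub, σ.commutes]; ring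
    rw [this]
    exact sub_mem hc (sigma_mem_max σ n hσ hn0 hc)
  let D : ↥(maximalIdeal A) → (maximalIdeal A).Cotangent := fun g =>
    (maximalIdeal A).toCotangent ⟨(g : A) - σ g, hsubm g⟩
  obtain ⟨b, hbS, hbspan, hbli⟩ := exists_linearIndependent (ResidueField A) (Set.range D)
  have hbfin : b.Finite := LinearIndependent.set_finite_of_isNoetherian hbli
  have := hbfin.fintype
  let e : b ≃ Fin (Fintype.card b) := Fintype.equivFin b
  have hchoose : ∀ x : b, ∃ g : ↥(maximalIdeal A), D g = x := fun x => hbS x.2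
  choose g hg using hchoose
  let f : Fin (Fintype.card b) → ↥(maximalIdeal A) := fun i =>
    ⟨(g (e.symm i) : A) - σ (g (e.symm i)), hsubm _⟩
  have hfD : ∀ i, (maximalIdeal A).toCotangent (f i) = ((e.symm i : b) : (maximalIdeal A).Cotangent) :=
    fun i => hg (e.symm i)
  refine ⟨Fintype.card b, f, ?_, ?_⟩
  swap
  · have := hbli.comp e.symm e.symm.injective
    convert this using 1
    ext i
    exact hfD i
  -- equality of ideals
  apply le_antisymm
  · rw [Ideal.span_le]
    rintro _ ⟨i, rfl⟩
    exact Ideal.subset_span ⟨(g (e.symm i) : A), rfl⟩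
  · change Isig σ ≤ _
    refine Submodule.le_of_le_smul_of_le_jacobson_bot (I := maximalIdeal A)
      (IsNoetherian.noetherian _) (maximalIdeal_le_jacobson _) ?_
    unfold Isig
    rw [Ideal.span_le]
    rintro _ ⟨a, rfl⟩
    obtain ⟨c, hc⟩ := hdecomp a
    set g0 : A := a - algebraMap k A c with hg0
    have ha : a - σ a = g0 - σ g0 := by
      rw [hg0, map_sub, σ.commutes]; ring
    -- coefficients
    have hspan : D ⟨g0, hc⟩ ∈ Submodule.span (ResidueField A)
        (Set.range fun i => (maximalIdeal A).toCotangent (f i)) := by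
      have hrange : (Set.range fun i => (maximalIdeal A).toCotangent (f i)) = b := by
        ext x
        constructor
        · rintro ⟨i, rfl⟩
          change (maximalIdeal A).toCotangent (f i) ∈ b
          rw [hfD i]; exact (e.symm i).2
        · intro hx
          refine ⟨e ⟨x, hx⟩, ?_⟩
          change (maximalIdeal A).toCotangent (f (e ⟨x, hx⟩)) = x
          rw [hfD, Equiv.symm_apply_apply]
      rw [hrange, hbspan]
      exact Submodule.subset_span ⟨_, rfl⟩
    obtain ⟨cbar, hcbar⟩ := (Submodule.mem_span_range_iff_exists_fun _).mp hspan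
    have hlift : ∀ i, ∃ ci : k, algebraMap k (ResidueField A) ci = cbar i := fun i => hres _
    choose ci hci using hlift
    set g2 : A := g0 - ∑ i, algebraMap k A (ci i) * (g (e.symm i) : A) with hg2
    have hg2' : g2 - σ g2 = (g0 - σ g0) - ∑ i, algebraMap k A (ci i) * (f i : A) := by
      rw [hg2, map_sub, map_sum]
      have : ∀ i, σ (algebraMap k A (ci i) * (g (e.symm i) : A)) =
          algebraMap k A (ci i) * σ (g (e.symm i) : A) := by
        intro i; rw [map_mul, σ.commutes]
      simp only [this, f]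
      rw [sub_sub_sub_comm, ← Finset.sum_sub_distrib]
      congr 1
      refine Finset.sum_congr rfl fun i _ => ?_
      ring
    have hg2m : g2 - σ g2 ∈ maximalIdeal A ^ 2 := by
      have hmem : g2 - σ g2 ∈ maximalIdeal A := hsubm g2
      rw [← Ideal.toCotangent_eq_zero (maximalIdeal A) ⟨g2 - σ g2, hmem⟩]
      have hsub : (⟨g2 - σ g2, hmem⟩ : ↥(maximalIdeal A)) =
          ⟨g0 - σ g0, hsubm g0⟩ - ∑ i, algebraMap k A (ci i) • f i := by
        apply Subtype.ext
        simp only [hg2', AddSubgroupClass.coe_sub, AddSubmonoidClass.coe_finsetSum,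
          Submodule.coe_smul, smul_eq_mul]
      rw [hsub, map_sub, map_sum, sub_eq_zero]
      have : (maximalIdeal A).toCotangent ⟨g0 - σ g0, hsubm g0⟩ = D ⟨g0, hc⟩ := rfl
      rw [this, ← hcbar]
      refine Finset.sum_congr rfl fun i _ => ?_
      rw [map_smul, ← hci i, IsScalarTower.algebraMap_apply k A (ResidueField A), algebraMap_smul]
    have hkey := key σ n hσ hn hg2m
    have hfinal : a - σ a = (g2 - σ g2) + ∑ i, algebraMap k A (ci i) * (f i : A) := by
      rw [ha, hg2']; ring
    change a - σ a ∈ (Ideal.span (Set.range fun i => (f i : A)) ⊔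
      maximalIdeal A • Ideal.span (Set.range fun a => a - σ a) : Ideal A)
    rw [hfinal]
    refine Submodule.add_mem _ (Submodule.mem_sup_right ?_) (Submodule.mem_sup_left ?_)
    · rw [Ideal.smul_eq_mul]; exact hkey
    · exact Submodule.sum_mem _ fun i _ =>
        Ideal.mul_mem_left _ _ (Ideal.subset_span ⟨i, rfl⟩)



/-- Let k be a field and A a regular local k-algebra with residue field k (the structure map from k onto
the residue field of A is surjective), let σ be a k-algebra endomorphism of A of finite order n with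
n invertible in k, and let I_σ be the ideal of A generated by the elements f - σ f. Then I_σ is
generated by finitely many elements of the maximal ideal whose classes in the cotangent space m/m^2
are linearly independent over the residue field. (Such elements are part of a regular system of
parameters of A, hence part of a regular sequence, which is the printed conclusion; the generators
with independent classes are what the argument produces.) -/
theorem result {k : Type u} [Field k] {A : Type u} [CommRing A] [Algebra k A] [IsRegularLocalRing A] (hres : Function.Surjective ⇑(algebraMap k (IsLocalRing.ResidueField A))) (σ : A →ₐ[k] A) (n : ℕ) (hσ : ∀ a : A, (⇑σ)^[n] a = a) (hn : (n : k) ≠ 0) : ∃ (m : ℕ) (f : Fin m → ↥(IsLocalRing.maximalIdeal A)), Ideal.span (Set.range fun i : Fin m => (f i : A)) = Ideal.span (Set.range fun a : A => a - σ a) ∧ LinearIndependent (IsLocalRing.ResidueField A) (fun i : Fin m => (IsLocalRing.maximalIdeal A).toCotangent (f i)) := by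
  exact main hres σ n hσ hn

end Groth.Agent.S18399
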