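import Groth.Statements.S18404
import Mathlib
-- import your own Groth.Agent.* helpers here

set_option autoImplicit false
universe u
open Cubic

namespace Groth.Agent.S18404

section helpers

theorem eval_form (k : ℂ) (u : Fin 3 → ℂ) :
    MvPolynomial.eval u (HesseCubic.form k)
      = u 0 ^ 3 + u 1 ^ 3 + u 2 ^ 3 - 3 * k * (u 0 * u 1 * u 2) := by
  simp [HesseCubic.form]

/-- the key identity: `det(Hess) · (v × w)_0 ^ 2` lies in the ideal of the three flex conditions -/
theorem key (k x y z a b c : ℂ) (H0 : x ^ 3 + y ^ 3 + z ^ 3 - 3 * k * (x * y * z) = 0)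
    (H1 : (x ^ 2 - k * y * z) * a + (y ^ 2 - k * x * z) * b + (z ^ 2 - k * x * y) * c = 0)
    (H2 : (a ^ 2 - k * b * c) * x + (b ^ 2 - k * a * c) * y + (c ^ 2 - k * a * b) * z = 0) :
    8 * (1 - k ^ 3) * (x * y * z) * (y * c - z * b) ^ 2 = 0 := by
  linear_combination
    (2 * k ^ 2 * (y * c - z * b) ^ 2 +
      2 * (2 * ((a ^ 2 - k * b * c) * x + (b ^ 2 - k * a * c) * y + (c ^ 2 - k * a * b) * z) * (2 * x)
        - (2 * x * a - k * z * b - k * y * c) ^ 2)) * H0
    + (2 * (-4 * x * ((x ^ 2 - k * y * z) * a + (y ^ 2 - k * x * z) * b + (z ^ 2 - k * x * y) * c)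
        + 2 * (2 * (x ^ 2 - k * y * z)) * (2 * x * a - k * z * b - k * y * c))) * H1
    + (-2 * (2 * (x ^ 2 - k * y * z)) ^ 2) * H2

end helpers

open MvPolynomial in
/-- Let k ∈ ℂ with k³ ≠ 1 and let h = X₀³ + X₁³ + X₂³ − 3k·X₀X₁X₂ be the Hesse cubic. For a nonzero
vector v with h(v) = 0, the corresponding point is a flex of the plane curve of h — some line
through it meets the curve there with multiplicity three, i.e. there is a vector w linearly
independent from v with h(v + t·w) = t³·h(w) for every t — exactly when v is a scalar multiple of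
one of the nine vectors (0, 1, −γ), (−γ, 0, 1), (1, −γ, 0) with γ³ = 1. -/
theorem result (k : ℂ) (hk : k ^ 3 ≠ 1) (v : Fin 3 → ℂ) (hv : v ≠ 0)
    (hCv : eval v (HesseCubic.form k) = 0) :
    (∃ w : Fin 3 → ℂ, LinearIndependent ℂ ![v, w] ∧
        ∀ t : ℂ, eval (v + t • w) (HesseCubic.form k) = t ^ 3 * eval w (HesseCubic.form k)) ↔
      ∃ γ c : ℂ, γ ^ 3 = 1 ∧ (v = c • ![0, 1, -γ] ∨ v = c • ![-γ, 0, 1] ∨ v = c • ![1, -γ, 0]) := by
  have hk1 : (1 : ℂ) - k ^ 3 ≠ 0 := fun h => hk (by linear_combination -h)
  rw [eval_form] at hCv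
  constructor
  · rintro ⟨w, hli, hw⟩
    -- expansion
    have hexp : ∀ t : ℂ, eval (v + t • w) (HesseCubic.form k) =
        (v 0 ^ 3 + v 1 ^ 3 + v 2 ^ 3 - 3 * k * (v 0 * v 1 * v 2))
        + 3 * t * ((v 0 ^ 2 - k * v 1 * v 2) * w 0 + (v 1 ^ 2 - k * v 0 * v 2) * w 1
            + (v 2 ^ 2 - k * v 0 * v 1) * w 2)
        + 3 * t ^ 2 * ((w 0 ^ 2 - k * w 1 * w 2) * v 0 + (w 1 ^ 2 - k * w 0 * w 2) * v 1
            + (w 2 ^ 2 - k * w 0 * w 1) * v 2)
        + t ^ 3 * (w 0 ^ 3 + w 1 ^ 3 + w 2 ^ 3 - 3 * k * (w 0 * w 1 * w 2)) := by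
      intro t
      rw [eval_form]
      simp only [Pi.add_apply, Pi.smul_apply, smul_eq_mul]
      ring
    have h1 := hw 1
    have h2 := hw (-1)
    rw [hexp, eval_form, hCv] at h1 h2
    have H1 : (v 0 ^ 2 - k * v 1 * v 2) * w 0 + (v 1 ^ 2 - k * v 0 * v 2) * w 1
            + (v 2 ^ 2 - k * v 0 * v 1) * w 2 = 0 := by
      linear_combination (1 / 6 : ℂ) * h1 - (1 / 6 : ℂ) * h2
    have H2 : (w 0 ^ 2 - k * w 1 * w 2) * v 0 + (w 1 ^ 2 - k * w 0 * w 2) * v 1
            + (w 2 ^ 2 - k * w 0 * w 1) * v 2 = 0 := by
      linear_combination (1 / 6 : ℂ) * h1 + (1 / 6 : ℂ) * h2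
    have hpair := LinearIndependent.pair_iff.mp hli
    have hxyz : v 0 * v 1 * v 2 = 0 := by
      by_contra hne
      have k0 := key k (v 0) (v 1) (v 2) (w 0) (w 1) (w 2) hCv H1 H2
      have k1 := key k (v 1) (v 2) (v 0) (w 1) (w 2) (w 0) (by linear_combination hCv)
        (by linear_combination H1) (by linear_combination H2)
      have k2 := key k (v 2) (v 0) (v 1) (w 2) (w 0) (w 1) (by linear_combination hCv)
        (by linear_combination H1) (by linear_combination H2)
      have hc : (8 : ℂ) * (1 - k ^ 3) ≠ 0 := mul_ne_zero (by norm_num) hk1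
      have n0 : v 1 * w 2 - v 2 * w 1 = 0 := by
        have := mul_eq_zero.mp k0
        rcases this with h | h
        · exact absurd h (mul_ne_zero hc hne)
        · exact pow_eq_zero_iff (by norm_num) |>.mp h
      have n1 : v 2 * w 0 - v 0 * w 2 = 0 := by
        have := mul_eq_zero.mp k1
        rcases this with h | h
        · exact absurd h (mul_ne_zero hc (by intro h'; apply hne; linear_combination h'))
        · exact pow_eq_zero_iff (by norm_num) |>.mp h
      have n2 : v 0 * w 1 - v 1 * w 0 = 0 := by
        have := mul_eq_zero.mp k2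
        rcases this with h | h
        · exact absurd h (mul_ne_zero hc (by intro h'; apply hne; linear_combination h'))
        · exact pow_eq_zero_iff (by norm_num) |>.mp h
      have := hpair (w 0) (-(v 0)) (by
        ext i
        fin_cases i
        · simp; ring
        · simp; linear_combination -n2
        · simp; linear_combination n1)
      apply hne
      have hx : v 0 = 0 := by simpa using this.2
      rw [hx]
      ring
    have hv' : ¬ (v 0 = 0 ∧ v 1 = 0 ∧ v 2 = 0) := by
      rintro ⟨h0, h1, h2⟩
      apply hv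
      ext i
      fin_cases i <;> simp [h0, h1, h2]
    rcases mul_eq_zero.mp hxyz with hxy | hz
    · rcases mul_eq_zero.mp hxy with hx | hy
      · -- v 0 = 0
        have hy : v 1 ≠ 0 := by
          intro hy
          apply hv'
          refine ⟨hx, hy, ?_⟩
          rw [hx, hy] at hCv
          have : v 2 ^ 3 = 0 := by linear_combination hCv
          exact pow_eq_zero_iff (by norm_num) |>.mp this
        refine ⟨-(v 2) / v 1, v 1, ?_, Or.inl ?_⟩
        · field_simp
          rw [hx] at hCv
          linear_combination -hCv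
        · ext i
          fin_cases i
          · simp [hx]
          · simp
          · simp; field_simp
      · -- v 1 = 0
        have hz : v 2 ≠ 0 := by
          intro hz
          apply hv'
          refine ⟨?_, hy, hz⟩
          rw [hy, hz] at hCv
          have : v 0 ^ 3 = 0 := by linear_combination hCv
          exact pow_eq_zero_iff (by norm_num) |>.mp this
        refine ⟨-(v 0) / v 2, v 2, ?_, Or.inr (Or.inl ?_)⟩
        · field_simp
          rw [hy] at hCv
          linear_combination -hCv
        · ext i
          fin_cases i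
          · simp; field_simp
          · simp [hy]
          · simp
    · -- v 2 = 0
      have hx : v 0 ≠ 0 := by
        intro hx
        apply hv'
        refine ⟨hx, ?_, hz⟩
        rw [hx, hz] at hCv
        have : v 1 ^ 3 = 0 := by linear_combination hCv
        exact pow_eq_zero_iff (by norm_num) |>.mp this
      refine ⟨-(v 1) / v 0, v 0, ?_, Or.inr (Or.inr ?_)⟩
      · field_simp
        rw [hz] at hCv
        linear_combination -hCv
      · ext i
        fin_cases i
        · simp
        · simp; field_simp
        · simp [hz]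
  · rintro ⟨γ, c, hγ, hcase⟩
    have hc : c ≠ 0 := by
      rintro rfl
      apply hv
      rcases hcase with h | h | h <;> simpa using h
    rcases hcase with h | h | h
    · refine ⟨![1, -(k * γ), 0], ?_, ?_⟩
      · rw [LinearIndependent.pair_iff]
        intro s t hst
        have e0 := congrFun hst 0
        have e1 := congrFun hst 1
        rw [h] at e0 e1
        simp at e0 e1
        subst e0
        simp at e1
        exact ⟨e1.resolve_right hc, rfl⟩
      · intro t
        rw [eval_form, eval_form, h]
        simp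
        linear_combination (c ^ 3) * (-hγ)
    · refine ⟨![0, 1, -(k * γ)], ?_, ?_⟩
      · rw [LinearIndependent.pair_iff]
        intro s t hst
        have e1 := congrFun hst 1
        have e2 := congrFun hst 2
        rw [h] at e1 e2
        simp at e1 e2
        subst e1
        simp at e2
        exact ⟨e2.resolve_right hc, rfl⟩
      · intro t
        rw [eval_form, eval_form, h]
        simp
        linear_combination (c ^ 3) * (-hγ)
    · refine ⟨![-(k * γ), 0, 1], ?_, ?_⟩
      · rw [LinearIndependent.pair_iff]
        intro s t hst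
        have e2 := congrFun hst 2
        have e0 := congrFun hst 0
        rw [h] at e2 e0
        simp at e2 e0
        subst e2
        simp at e0
        exact ⟨e0.resolve_right hc, rfl⟩
      · intro t
        rw [eval_form, eval_form, h]
        simp
        linear_combination (c ^ 3) * (-hγ)

end Groth.Agent.S18404
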