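import Groth.Statements.S18417
import Mathlib
import Groth.Agent.Lib.Helper81.TruncPoly
import Groth.Agent.S5802

set_option autoImplicit false
universe u v
open CAlg

namespace Groth.Agent.S18417
open MvPolynomial Groth.Agent.Lib.Helper81.TruncPoly in
theorem aux
    (R : Type u) (A : Type v) [CommRing R] [CommRing A] [Algebra R A] (d : ℕ) (x : Fin d → A)
    (hqr : CAlgX.IsQuasiRegular x)
    [Algebra.FormallySmooth R (A ⧸ Ideal.span (Set.range x))] (N : ℕ) (hN : 1 ≤ N) :
    ∃ e : (A ⧸ Ideal.span (Set.range x) ^ N) ≃ₐ[R]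
        (MvPolynomial (Fin d) (A ⧸ Ideal.span (Set.range x)) ⧸
          Ideal.span (Set.range (MvPolynomial.X : Fin d → MvPolynomial (Fin d) (A ⧸ Ideal.span (Set.range x)))) ^ N),
      (∀ i : Fin d, e (Ideal.Quotient.mk _ (x i)) = Ideal.Quotient.mk _ (MvPolynomial.X i)) ∧
      ∀ a : A, e (Ideal.Quotient.mk _ a) - Ideal.Quotient.mk _ (MvPolynomial.C (Ideal.Quotient.mk _ a)) ∈
        (Ideal.span (Set.range (MvPolynomial.X : Fin d → MvPolynomial (Fin d) (A ⧸ Ideal.span (Set.range x))))).map
          (Ideal.Quotient.mk _) := by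
  classical
  have hNle : Ideal.span (Set.range x) ^ N ≤ Ideal.span (Set.range x) :=
    Ideal.pow_le_self (by omega)
  let π : (A ⧸ Ideal.span (Set.range x) ^ N) →ₐ[R] (A ⧸ Ideal.span (Set.range x)) :=
    Ideal.Quotient.factorₐ R hNle
  have hπ : ∀ z, π z = Ideal.Quotient.factor hNle z := fun z => rfl
  have hπsurj : Function.Surjective π := Ideal.Quotient.factor_surjective hNle
  have hnil : IsNilpotent (RingHom.ker (π : (A ⧸ Ideal.span (Set.range x) ^ N) →+*
      (A ⧸ Ideal.span (Set.range x)))) := by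
    refine ⟨N, ?_⟩
    have hle : RingHom.ker (π : (A ⧸ Ideal.span (Set.range x) ^ N) →+*
        (A ⧸ Ideal.span (Set.range x))) ≤ jj x N := fun z hz =>
      mem_jj_of_factor_eq_zero x N hNle z hz
    have := Ideal.pow_right_mono hle N
    rw [jj_pow_self] at this
    exact le_bot_iff.1 this
  let s : (A ⧸ Ideal.span (Set.range x)) →ₐ[R] (A ⧸ Ideal.span (Set.range x) ^ N) :=
    Algebra.FormallySmooth.liftOfSurjective (AlgHom.id R _) π hπsurj hnil
  have hs : ∀ b, π (s b) = b := fun b =>
    Algebra.FormallySmooth.liftOfSurjective_apply (AlgHom.id R _) π hπsurj hnil b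
  letI algBQ : Algebra (A ⧸ Ideal.span (Set.range x)) (A ⧸ Ideal.span (Set.range x) ^ N) :=
    s.toRingHom.toAlgebra
  haveI : IsScalarTower R (A ⧸ Ideal.span (Set.range x)) (A ⧸ Ideal.span (Set.range x) ^ N) :=
    IsScalarTower.of_algebraMap_eq (fun r => (s.commutes r).symm)
  have hs' : ∀ b : A ⧸ Ideal.span (Set.range x), Ideal.Quotient.factor hNle
      (algebraMap (A ⧸ Ideal.span (Set.range x)) (A ⧸ Ideal.span (Set.range x) ^ N) b) = b := hs
  have hker := ker_Phi x N hNle hs' hqr
  let ΦR : MvPolynomial (Fin d) (A ⧸ Ideal.span (Set.range x)) →ₐ[R]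
      (A ⧸ Ideal.span (Set.range x) ^ N) := (Phi x N).restrictScalars R
  have hΦR : ∀ f, ΦR f = Phi x N f := fun f => rfl
  have hkill : ∀ f ∈ idealOfVars (Fin d) (A ⧸ Ideal.span (Set.range x)) ^ N, ΦR f = 0 := by
    intro f hf
    rw [← hker] at hf
    exact hf
  let Φbar : (MvPolynomial (Fin d) (A ⧸ Ideal.span (Set.range x)) ⧸
      idealOfVars (Fin d) (A ⧸ Ideal.span (Set.range x)) ^ N) →ₐ[R]
      (A ⧸ Ideal.span (Set.range x) ^ N) := Ideal.Quotient.liftₐ _ ΦR hkill
  have hΦbar : ∀ f, Φbar (Ideal.Quotient.mk _ f) = Phi x N f := fun f => rfl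
  have hbij : Function.Bijective Φbar := by
    constructor
    · rw [injective_iff_map_eq_zero]
      intro y hy
      obtain ⟨f, rfl⟩ := Ideal.Quotient.mk_surjective y
      rw [hΦbar] at hy
      rw [Ideal.Quotient.eq_zero_iff_mem, ← hker]
      exact hy
    · intro z
      obtain ⟨f, hf⟩ := Phi_surjective x N hNle hs' z
      exact ⟨Ideal.Quotient.mk _ f, hf⟩
  refine ⟨(AlgEquiv.ofBijective Φbar hbij).symm, fun i => ?_, fun a => ?_⟩
  · rw [AlgEquiv.symm_apply_eq]
    change _ = Φbar (Ideal.Quotient.mk _ (X i))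
    rw [hΦbar, Phi, aeval_X]
  · obtain ⟨f, hf⟩ := Ideal.Quotient.mk_surjective
      ((AlgEquiv.ofBijective Φbar hbij).symm (Ideal.Quotient.mk _ a))
    rw [← hf, ← map_sub]
    apply Ideal.mem_map_of_mem
    have h1 : Phi x N f = Ideal.Quotient.mk _ a := by
      rw [← hΦbar, hf]
      exact (AlgEquiv.ofBijective Φbar hbij).apply_symm_apply _
    have h2 : Phi x N (f - C (Ideal.Quotient.mk _ a)) ∈ jj x N ^ 1 := by
      rw [map_sub, h1, Phi, aeval_C, pow_one, ← neg_sub]
      exact neg_mem (algebraMap_sub_mk_mem x N hNle hs' a)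
    have h3 := mem_pow_of_Phi_mem x N hNle hs' hqr 1 hN h2
    rwa [pow_one] at h3


/-- Let R → A be a ring homomorphism and x_1, …, x_d a weakly regular sequence in A generating an ideal
J such that B = A/J is formally smooth over R. Then for every N ≥ 1 there is an isomorphism of
R-algebras e : A/J^N ≅ B[T_1, …, T_d]/(T_1, …, T_d)^N which sends the class of x_i to the class of
T_i and which is compatible with the projections to B: for every a ∈ A, e(a mod J^N) is congruent to
the constant a mod J modulo the ideal generated by the variables. (The source also assumes R → A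
smooth, which its argument does not use, and a regular sequence; weak regularity is what the
argument uses.) -/
theorem result
    (R : Type u) (A : Type v) [CommRing R] [CommRing A] [Algebra R A] (d : ℕ) (x : Fin d → A)
    (hreg : RingTheory.Sequence.IsWeaklyRegular A (List.ofFn x))
    [Algebra.FormallySmooth R (A ⧸ Ideal.span (Set.range x))] (N : ℕ) (hN : 1 ≤ N) :
    ∃ e : (A ⧸ Ideal.span (Set.range x) ^ N) ≃ₐ[R]
        (MvPolynomial (Fin d) (A ⧸ Ideal.span (Set.range x)) ⧸
          Ideal.span (Set.range (MvPolynomial.X : Fin d → MvPolynomial (Fin d) (A ⧸ Ideal.span (Set.range x)))) ^ N),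
      (∀ i : Fin d, e (Ideal.Quotient.mk _ (x i)) = Ideal.Quotient.mk _ (MvPolynomial.X i)) ∧
      ∀ a : A, e (Ideal.Quotient.mk _ a) - Ideal.Quotient.mk _ (MvPolynomial.C (Ideal.Quotient.mk _ a)) ∈
        (Ideal.span (Set.range (MvPolynomial.X : Fin d → MvPolynomial (Fin d) (A ⧸ Ideal.span (Set.range x))))).map
          (Ideal.Quotient.mk _) := by
  exact aux R A d x (Groth.Agent.S5802.result A d x hreg) N hN

end Groth.Agent.S18417
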