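import Groth.Statements.S18424
import Groth.Agent.Lib.Helper2.ProperBirational

set_option autoImplicit false
universe u
open Pi1

namespace Groth.Agent.S18424

open AlgebraicGeometry CategoryTheory CategoryTheory.Limits in
/-- Let k be a field, X and Y integral schemes separated and of finite type over k with X normal and Y
nonsingular (every local ring of Y regular), and f : X → Y a proper k-morphism which is birational,
i.e. an isomorphism over some nonempty open subset V of Y. Then pulling back finite etale covers
along f is an equivalence between the categories of finite etale covers of Y and of X; in particular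
f induces an isomorphism of etale fundamental groups. -/
theorem result (k : Type u) [Field k]
    {X Y : Scheme.{u}} (f : X ⟶ Y) (g : Y ⟶ Spec (CommRingCat.of k))
    [IsSeparated g] [LocallyOfFiniteType g] [QuasiCompact g]
    [IsSeparated (f ≫ g)] [LocallyOfFiniteType (f ≫ g)] [QuasiCompact (f ≫ g)]
    [IsIntegral X] [IsIntegral Y] (hX : Pi1.IsNormalScheme X)
    (hY : ∀ y : Y, IsRegularLocalRing (Y.presheaf.stalk y)) [IsProper f]
    (V : Y.Opens) (hV : (V : Set Y).Nonempty) (hf : IsIso (f ∣_ V)) :
    (FEt.restrict f).IsEquivalence := by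
  haveI : IsLocallyNoetherian Y := LocallyOfFiniteType.isLocallyNoetherian g
  haveI : IsLocallyNoetherian X := LocallyOfFiniteType.isLocallyNoetherian (f ≫ g)
  have hVd : Dense (V : Set Y) := V.isOpen.dense hV
  haveI := hf
  have hV'ne : ((f ⁻¹ᵁ V : X.Opens) : Set X).Nonempty := by
    obtain ⟨v, hv⟩ := hV
    exact ⟨((inv (f ∣_ V)) ⟨v, hv⟩).1, ((inv (f ∣_ V)) ⟨v, hv⟩).2⟩
  have hV'd : Dense ((f ⁻¹ᵁ V : X.Opens) : Set X) := (f ⁻¹ᵁ V).isOpen.dense hV'ne
  exact Groth.Agent.Lib.Helper2.BirationalFEt.isEquivalence_restrict_of_proper_birational f V hVd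
    hV'd (fun y _ => hY y) (fun x _ => hX x)

end Groth.Agent.S18424
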