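import Groth.Statements.S18425
import Mathlib
-- import your own Groth.Agent.* helpers here

set_option autoImplicit false
universe u
open Pi1

namespace Groth.Agent.S18425

section H92
open CategoryTheory PreGaloisCategory ProfiniteGrp ProfiniteCompletion


variable (G : Type u) [Group G]

/-- kernel of the action on a finite G-set, as a finite index normal subgroup -/
noncomputable def KX (X : Action FintypeCat.{u} G) : FiniteIndexNormalSubgroup G where
  toSubgroup := (MulAction.toPermHom G X.V).ker
  isNormal' := inferInstance
  isFiniteIndex' := by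
    have : Finite (G ⧸ (MulAction.toPermHom G X.V).ker) :=
      Finite.of_injective _ (QuotientGroup.kerLift_injective (MulAction.toPermHom G X.V))
    exact Subgroup.finiteIndex_of_finite_quotient

/-- projection -/
noncomputable def proj (H : FiniteIndexNormalSubgroup G) :
    completion (GrpCat.of G) →ₜ* ((diagram (GrpCat.of G)).obj H) :=
  ((ProfiniteGrp.limitCone (diagram (GrpCat.of G))).π.app H).hom

instance (H : FiniteIndexNormalSubgroup G) : DiscreteTopology ((diagram (GrpCat.of G)).obj H) := ⟨rfl⟩

example (H : FiniteIndexNormalSubgroup G) (g : G) : proj G H (etaFn (GrpCat.of G) g) = (QuotientGroup.mk g : G ⧸ H.toSubgroup) := rfl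
example (H : FiniteIndexNormalSubgroup G) (x : completion (GrpCat.of G)) : proj G H x = x.1 H := rfl
example (H : FiniteIndexNormalSubgroup G) : ((diagram (GrpCat.of G)).obj H : Type u) = (G ⧸ H.toSubgroup) := rfl

/-- the action hom -/
noncomputable def theta (X : Action FintypeCat.{u} G) : completion (GrpCat.of G) →* Equiv.Perm X.V :=
  (QuotientGroup.kerLift (MulAction.toPermHom G X.V)).comp (proj G (KX G X)).toMonoidHom

theorem theta_eta (X : Action FintypeCat.{u} G) (g : G) : theta G X (etaFn (GrpCat.of G) g) = MulAction.toPermHom G X.V g := rfl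

theorem theta_continuous (X : Action FintypeCat.{u} G) : @Continuous _ _ _ ⊥ (theta G X) := by
  let _ : TopologicalSpace (Equiv.Perm X.V) := ⊥
  have : DiscreteTopology (Equiv.Perm X.V) := ⟨rfl⟩
  have h1 : Continuous (proj G (KX G X)) := (proj G (KX G X)).continuous_toFun
  have h2 : Continuous (fun x : (diagram (GrpCat.of G)).obj (KX G X) =>
      QuotientGroup.kerLift (MulAction.toPermHom G X.V) x) :=
    continuous_of_discreteTopology
  exact h2.comp h1


/-- compatibility of the components of an element of the completion -/
theorem proj_compat (x : completion (GrpCat.of G)) {H K : FiniteIndexNormalSubgroup G} (h : H ≤ K)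
    (g₀ : G) (hg : x.1 H = (QuotientGroup.mk g₀ : G ⧸ H.toSubgroup)) :
    x.1 K = (QuotientGroup.mk g₀ : G ⧸ K.toSubgroup) := by
  have := x.2 (homOfLE h)
  rw [← this, hg]
  rfl

noncomputable instance mulActionCompletion (X : Action FintypeCat.{u} G) :
    MulAction (completion (GrpCat.of G)) ((Action.forget FintypeCat.{u} G).obj X) :=
  MulAction.compHom X.V (theta G X)

theorem smul_def (X : Action FintypeCat.{u} G) (x : completion (GrpCat.of G))
    (a : (Action.forget FintypeCat.{u} G).obj X) :
    x • a = theta G X x a := rfl

theorem eta_smul (X : Action FintypeCat.{u} G) (g : G) (a : (Action.forget FintypeCat.{u} G).obj X) :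
    etaFn (GrpCat.of G) g • a = (X.ρ g).hom a := rfl

theorem smul_eq_of_proj (X : Action FintypeCat.{u} G) (x : completion (GrpCat.of G))
    {H : FiniteIndexNormalSubgroup G} (h : H ≤ KX G X) (g₀ : G)
    (hg : x.1 H = (QuotientGroup.mk g₀ : G ⧸ H.toSubgroup))
    (a : (Action.forget FintypeCat.{u} G).obj X) :
    x • a = (X.ρ g₀).hom a := by
  have h2 := proj_compat G x h g₀ hg
  rw [smul_def]
  change (QuotientGroup.kerLift (MulAction.toPermHom G X.V) (x.1 (KX G X))) a = _
  rw [h2]
  rfl


instance isNaturalSMul : IsNaturalSMul (Action.forget FintypeCat.{u} G) (completion (GrpCat.of G)) where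
  naturality x {X Y} f a := by
    obtain ⟨g₀, hg⟩ := QuotientGroup.mk_surjective (x.1 (KX G X ⊓ KX G Y))
    rw [smul_eq_of_proj G X x inf_le_left g₀ hg.symm, smul_eq_of_proj G Y x inf_le_right g₀ hg.symm]
    exact ConcreteCategory.congr_hom (f.comm g₀) a

theorem isPretransitive (X : Action FintypeCat.{u} G) [PreGaloisCategory.IsConnected X] :
    MulAction.IsPretransitive (completion (GrpCat.of G)) ((Action.forget FintypeCat.{u} G).obj X) where
  exists_smul_eq a b := by
    have := FintypeCat.Action.pretransitive_of_isConnected G X
    obtain ⟨g, hg⟩ := @MulAction.exists_smul_eq G X.V _ this a b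
    exact ⟨etaFn (GrpCat.of G) g, hg⟩

theorem continuousSMul (X : Action FintypeCat.{u} G) :
    ContinuousSMul (completion (GrpCat.of G)) ((Action.forget FintypeCat.{u} G).obj X) where
  continuous_smul := by
    rw [continuous_prod_of_discrete_right]
    intro b
    let _ : TopologicalSpace (Equiv.Perm X.V) := ⊥
    have : DiscreteTopology (Equiv.Perm X.V) := ⟨rfl⟩
    have h2 : @Continuous (Equiv.Perm X.V) ((Action.forget FintypeCat.{u} G).obj X) _ _
        (fun σ => σ b) :=
      continuous_of_discreteTopology
    exact h2.comp (theta_continuous G X)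


theorem eq_one_of_trivial (x : completion (GrpCat.of G))
    (hx : ∀ (X : Action FintypeCat.{u} G) (a : (Action.forget FintypeCat.{u} G).obj X), x • a = a) :
    x = 1 := by
  apply ProfiniteGrp.limit_ext
  intro H
  have : Fintype (G ⧸ H.toSubgroup) := Fintype.ofFinite _
  let X : Action FintypeCat.{u} G :=
    Action.FintypeCat.ofMulAction G (FintypeCat.of (G ⧸ H.toSubgroup))
  obtain ⟨g₀, hg⟩ := QuotientGroup.mk_surjective (x.1 (KX G X))
  have hKH : KX G X ≤ H := by
    intro k hk
    have hk' : MulAction.toPermHom G X.V k = 1 := hk
    have h1 : MulAction.toPermHom G X.V k (QuotientGroup.mk 1 : G ⧸ H.toSubgroup) =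
        (QuotientGroup.mk 1 : G ⧸ H.toSubgroup) := by rw [hk']; rfl
    have h2 : (QuotientGroup.mk (k * 1) : G ⧸ H.toSubgroup) = QuotientGroup.mk 1 := h1
    rw [mul_one] at h2
    exact (QuotientGroup.eq_one_iff k).mp h2
  have h1 := smul_eq_of_proj G X x le_rfl g₀ hg.symm (QuotientGroup.mk 1 : G ⧸ H.toSubgroup)
  have h2 : (QuotientGroup.mk 1 : G ⧸ H.toSubgroup) = QuotientGroup.mk (g₀ * 1) :=
    (hx X (QuotientGroup.mk 1 : G ⧸ H.toSubgroup)).symm.trans h1
  rw [mul_one] at h2
  rw [proj_compat G x hKH g₀ hg.symm, ← h2]
  rfl

noncomputable instance isFundamentalGroup :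
    IsFundamentalGroup (Action.forget FintypeCat.{u} G) (completion (GrpCat.of G)) where
  transitive_of_isGalois X _ := isPretransitive G X
  continuous_smul X := continuousSMul G X
  non_trivial' x hx := eq_one_of_trivial G x hx


theorem main : ∃ φ : (completion (GrpCat.of G)) ≃ₜ* Aut (Action.forget FintypeCat.{u} G),
      ∀ (g : G) (X : Action FintypeCat.{u} G) (x : X.V),
        (φ (etaFn (GrpCat.of G) g)).hom.app X x = (X.ρ g).hom x := by
  have hh := toAut_isHomeomorph (Action.forget FintypeCat.{u} G) (completion (GrpCat.of G))
  refine ⟨{ toMulEquiv := toAutMulEquiv (Action.forget FintypeCat.{u} G) (completion (GrpCat.of G))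
            continuous_toFun := hh.continuous
            continuous_invFun := hh.homeomorph.symm.continuous }, ?_⟩
  intro g X x
  rfl

end H92

open CategoryTheory in
/-- In the case of a discrete group G, let F be the forgetful functor from the category of finite G-sets
to finite sets. Then the canonical homomorphism from G to Aut(F), letting g act on every finite
G-set, extends to an isomorphism of topological groups from the profinite completion of G (the limit
of the finite quotients G/U over normal subgroups U of finite index) onto Aut(F) with its profinite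
topology. (The published statement is for an arbitrary topological group G, with finite G-sets
carrying a continuous action and the completion taken over open normal subgroups of finite index;
this row is the case of a discrete group.) -/
theorem result (G : Type u) [Group G] :
    ∃ φ : (ProfiniteGrp.ProfiniteCompletion.completion (GrpCat.of G)) ≃ₜ* Aut (Action.forget FintypeCat.{u} G),
      ∀ (g : G) (X : Action FintypeCat.{u} G) (x : X.V),
        (φ (ProfiniteGrp.ProfiniteCompletion.etaFn (GrpCat.of G) g)).hom.app X x = (X.ρ g).hom x := by
  exact main G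

end Groth.Agent.S18425
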