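import Groth.Statements.S18426
import Groth.Agent.Lib.Helper38.NormL
import Groth.Agent.Lib.Helper38.NormSch5

set_option autoImplicit false
universe u
open Pi1

namespace Groth.Agent.S18426

open Groth.Agent.Lib.Helper38

open AlgebraicGeometry CategoryTheory CategoryTheory.Limits in
/-- Suppose X is an integral scheme that is Noetherian and normal, write K for its function field, and
take L to be a finite separable extension of K. Then the normalization of X in L, namely the
relative normalization of the morphism Spec L → Spec K → X, is finite over X. (That this
normalization is a normal integral scheme with function field L is not restated.) -/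
theorem result {X : Scheme.{u}} [IsIntegral X] [IsNoetherian X]
    (hX : Pi1.IsNormalScheme X) (L : Type u) [Field L] [Algebra X.functionField L] [FiniteDimensional X.functionField L]
    [Algebra.IsSeparable X.functionField L]
    [QuasiCompact (Spec.map (CommRingCat.ofHom (algebraMap X.functionField L)) ≫ X.fromSpecStalk (genericPoint X))]
    [QuasiSeparated (Spec.map (CommRingCat.ofHom (algebraMap X.functionField L)) ≫ X.fromSpecStalk (genericPoint X))] :
    IsFinite (Spec.map (CommRingCat.ofHom (algebraMap X.functionField L)) ≫ X.fromSpecStalk (genericPoint X)).fromNormalization := by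
  refine { toIsAffineHom := inferInstance, finite_app := fun U hU => ?_ }
  by_cases hne : Nonempty U
  · haveI := hne
    letI algL : Algebra Γ(X, U) L :=
      ((algebraMap X.functionField L).comp (algebraMap Γ(X, U) X.functionField)).toAlgebra
    obtain ⟨e, he⟩ := NormL.exists_app_equiv X L hU
    haveI : IsIntegrallyClosed Γ(X, U) :=
      NormSch.isIntegrallyClosed_of_isAffineOpen' hU (fun y _ => (hX y).2)
    haveI : IsNoetherianRing Γ(X, U) := IsLocallyNoetherian.component_noetherian ⟨U, hU⟩
    haveI := functionField_isFractionRing_of_isAffineOpen X U hU
    haveI : IsScalarTower Γ(X, U) X.functionField L := IsScalarTower.of_algebraMap_eq' rfl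
    have hfin : Module.Finite Γ(X, U) (integralClosure Γ(X, U) L) :=
      IsIntegralClosure.finite Γ(X, U) X.functionField L _
    have hfin' : (algebraMap Γ(X, U) (integralClosure Γ(X, U) L)).Finite := hfin
    have h3 : ((NormL.fL X L).fromNormalization.app U).hom =
        (e.symm : _ →+* _).comp (algebraMap Γ(X, U) (integralClosure Γ(X, U) L)) := by
      ext a
      simp only [RingHom.comp_apply]
      rw [← he a]
      simp
    show ((NormL.fL X L).fromNormalization.app U).hom.Finite
    rw [h3]
    exact (RingHom.Finite.of_surjective _ e.symm.surjective).comp hfin'
  · have hbot : U = ⊥ := by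
      ext x
      simp only [TopologicalSpace.Opens.coe_bot, Set.mem_empty_iff_false, iff_false]
      exact fun hx => hne ⟨⟨x, hx⟩⟩
    subst hbot
    have h2 : Subsingleton Γ((NormL.fL X L).normalization,
        (NormL.fL X L).fromNormalization ⁻¹ᵁ ⊥) := by
      have : (NormL.fL X L).fromNormalization ⁻¹ᵁ (⊥ : X.Opens) = ⊥ := rfl
      rw [this]; infer_instance
    exact RingHom.Finite.of_surjective _ (fun b => ⟨0, Subsingleton.elim _ _⟩)

end Groth.Agent.S18426
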