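import Groth.Statements.S18428
import Mathlib
-- import your own Groth.Agent.* helpers here

set_option autoImplicit false
universe u
open scoped FintypeCatDiscrete
open Pi1

namespace Groth.Agent.S18428

section H92b
open scoped FintypeCatDiscrete
open CategoryTheory PreGaloisCategory


variable (G : Type u) [Group G] [TopologicalSpace G] [IsTopologicalGroup G]

abbrev C := ContAction FintypeCat.{u} G
abbrev FF : C G ⥤ FintypeCat.{u} := forget₂ (ContAction FintypeCat.{u} G) FintypeCat.{u}

example (X : C G) : (FF G).obj X = X.obj.V := rfl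

instance (X : C G) : MulAction G ((FF G).obj X) := inferInstanceAs (MulAction G X.obj.V)

instance : IsNaturalSMul (FF G) G where
  naturality g {X Y} f x := by
    exact ConcreteCategory.congr_hom (f.hom.comm g) x

noncomputable def iota : G →* Aut (FF G) := toAut (FF G) G

theorem iota_app (g : G) (X : C G) (x : X.obj.V) : ((iota G g).hom.app X) x = (X.obj.ρ g).hom x := rfl

theorem continuousSMul_obj (X : C G) : ContinuousSMul G ((FF G).obj X) := X.2


theorem app_eq_one_of_trivial (X : C G) (k : G) (hk : ∀ x : X.obj.V, (X.obj.ρ k).hom x = x) :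
    autEmbedding (FF G) (iota G k) X = 1 := by
  apply Iso.ext
  ext x
  exact hk x

theorem continuous_app (X : C G) : Continuous (fun g : G => autEmbedding (FF G) (iota G g) X) := by
  have hcs := continuousSMul_obj G X
  rw [continuous_discrete_rng]
  intro τ
  rw [isOpen_iff_mem_nhds]
  intro g hg
  have hK : IsOpen (⋂ x : (FF G).obj X, (MulAction.stabilizer G x : Set G)) :=
    isOpen_iInter_of_finite (fun x => stabilizer_isOpen G x)
  rw [mem_nhds_iff]
  refine ⟨(fun h => g⁻¹ * h) ⁻¹' (⋂ x : (FF G).obj X, (MulAction.stabilizer G x : Set G)), ?_,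
    hK.preimage (by fun_prop), ?_⟩
  · intro h hh
    simp only [Set.mem_preimage, Set.mem_iInter, SetLike.mem_coe, MulAction.mem_stabilizer_iff] at hh
    simp only [Set.mem_preimage, Set.mem_singleton_iff] at hg ⊢
    have : h = g * (g⁻¹ * h) := by group
    rw [this, map_mul, map_mul, Pi.mul_apply, app_eq_one_of_trivial G X (g⁻¹ * h) hh, mul_one]
    exact hg
  · simp

theorem continuous_iota : Continuous (iota G) := by
  rw [continuous_induced_rng]
  apply continuous_pi
  intro X
  exact continuous_app G X


section PK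

variable (K : Subgroup G) [K.Normal] [K.FiniteIndex] (hK : IsOpen (K : Set G))

/-- the finite `G`-set `G ⧸ K` -/
noncomputable def PKA : Action FintypeCat.{u} G :=
  letI : Fintype (G ⧸ K) := Fintype.ofFinite _
  Action.FintypeCat.ofMulAction G (FintypeCat.of (G ⧸ K))

theorem PKA_smul (g a : G) : ((PKA G K).ρ g).hom (QuotientGroup.mk a : G ⧸ K) = QuotientGroup.mk (g * a) := rfl

include hK in
theorem PKA_cont : (PKA G K).IsContinuous := by
  change ContinuousSMul G (PKA G K).V
  rw [continuousSMul_iff_stabilizer_isOpen]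
  intro x
  apply Subgroup.isOpen_mono (H₁ := K) _ hK
  intro k hk
  rw [MulAction.mem_stabilizer_iff]
  obtain ⟨a, rfl⟩ := QuotientGroup.mk_surjective (s := K) x
  change (QuotientGroup.mk (k * a) : G ⧸ K) = QuotientGroup.mk a
  rw [QuotientGroup.eq]
  have : (k * a)⁻¹ * a = a⁻¹ * k⁻¹ * a := by group
  rw [this]
  have := Subgroup.Normal.conj_mem (inferInstance : K.Normal) k⁻¹ (K.inv_mem hk) a⁻¹
  simpa using this

/-- `G ⧸ K` as a continuous finite `G`-set -/
noncomputable def PK : C G := ⟨PKA G K, PKA_cont G K hK⟩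

/-- the orbit map -/
noncomputable def ev (X : C G) (hX : ∀ k ∈ K, ∀ x : X.obj.V, (X.obj.ρ k).hom x = x) (y : X.obj.V) :
    PK G K hK ⟶ X :=
  ObjectProperty.homMk
    { hom := FintypeCat.homMk (Quotient.lift (fun g : G => (X.obj.ρ g).hom y) (by
        intro a b hab
        have hab' : a⁻¹ * b ∈ K := QuotientGroup.leftRel_apply.mp hab
        have := hX _ hab' y
        have hb : b = a * (a⁻¹ * b) := by group
        simp only
        rw [hb, map_mul]
        change (X.obj.ρ a).hom y = (X.obj.ρ a).hom ((X.obj.ρ (a⁻¹ * b)).hom y)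
        rw [this]))
      comm := by
        intro g
        ext (x : G ⧸ K)
        obtain ⟨a, rfl⟩ := QuotientGroup.mk_surjective (s := K) x
        change (X.obj.ρ (g * a)).hom y = (X.obj.ρ g).hom ((X.obj.ρ a).hom y)
        rw [map_mul]
        rfl }

theorem ev_mk (X : C G) (hX : ∀ k ∈ K, ∀ x : X.obj.V, (X.obj.ρ k).hom x = x) (y : X.obj.V) (a : G) :
    ((FF G).map (ev G K hK X hX y)) (QuotientGroup.mk a : G ⧸ K) = (X.obj.ρ a).hom y := rfl

theorem key (σ : Aut (FF G)) (g₀ : G)
    (h : σ.hom.app (PK G K hK) (QuotientGroup.mk 1 : G ⧸ K) = (QuotientGroup.mk g₀ : G ⧸ K))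
    (X : C G) (hX : ∀ k ∈ K, ∀ x : X.obj.V, (X.obj.ρ k).hom x = x) (y : X.obj.V) :
    σ.hom.app X y = (X.obj.ρ g₀).hom y := by
  have hnat := ConcreteCategory.congr_hom (σ.hom.naturality (ev G K hK X hX y))
    (QuotientGroup.mk 1 : G ⧸ K)
  change σ.hom.app X (((FF G).map (ev G K hK X hX y)) (QuotientGroup.mk 1 : G ⧸ K)) =
    ((FF G).map (ev G K hK X hX y)) (σ.hom.app (PK G K hK) (QuotientGroup.mk 1 : G ⧸ K)) at hnat
  rw [h, ev_mk, ev_mk, map_one] at hnat
  exact hnat

end PK


/-- kernel of the action on `X` -/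
def kerX (X : C G) : Subgroup G := (MulAction.toPermHom G X.obj.V).ker

instance (X : C G) : (kerX G X).Normal := inferInstanceAs (MonoidHom.ker _).Normal

instance (X : C G) : (kerX G X).FiniteIndex := by
  have : Finite (G ⧸ (MulAction.toPermHom G X.obj.V).ker) :=
    Finite.of_injective _ (QuotientGroup.kerLift_injective (MulAction.toPermHom G X.obj.V))
  exact (Subgroup.finiteIndex_of_finite_quotient : (MulAction.toPermHom G X.obj.V).ker.FiniteIndex)

theorem kerX_trivial (X : C G) (k : G) (hk : k ∈ kerX G X) (x : X.obj.V) :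
    (X.obj.ρ k).hom x = x := by
  have hk' : MulAction.toPermHom G X.obj.V k = 1 := hk
  have := congrArg (fun σ : Equiv.Perm X.obj.V => σ x) hk'
  exact this

theorem kerX_isOpen (X : C G) : IsOpen (kerX G X : Set G) := by
  have hcs := continuousSMul_obj G X
  have : (kerX G X : Set G) = ⋂ x : (FF G).obj X, (MulAction.stabilizer G x : Set G) := by
    ext k
    simp only [SetLike.mem_coe, Set.mem_iInter, MulAction.mem_stabilizer_iff]
    constructor
    · intro hk x
      exact kerX_trivial G X k hk x
    · intro hk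
      change MulAction.toPermHom G X.obj.V k = 1
      ext x
      exact hk x
  rw [this]
  exact isOpen_iInter_of_finite (fun x => stabilizer_isOpen G x)

theorem denseRange_iota : DenseRange (iota G) := by
  intro σ
  rw [mem_closure_iff_nhds]
  intro t ht
  rw [mem_nhds_iff] at ht
  obtain ⟨U, hUt, hUo, hσU⟩ := ht
  rw [isOpen_induced_iff] at hUo
  obtain ⟨V, hVo, rfl⟩ := hUo
  rw [isOpen_pi_iff] at hVo
  obtain ⟨I, u, hu, hIV⟩ := hVo (autEmbedding (FF G) σ) hσU
  let K : Subgroup G := ⨅ X : I, kerX G X.1
  have hKn : K.Normal := Subgroup.normal_iInf_normal (fun _ => inferInstance)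
  have hKf : K.FiniteIndex := Subgroup.finiteIndex_iInf (fun _ => inferInstance)
  have hKo : IsOpen (K : Set G) := by
    rw [Subgroup.coe_iInf]
    exact isOpen_iInter_of_finite (fun X => kerX_isOpen G X.1)
  obtain ⟨g₀, hg₀⟩ := QuotientGroup.mk_surjective
    (σ.hom.app (PK G K hKo) (QuotientGroup.mk 1 : G ⧸ K))
  refine ⟨iota G g₀, hUt ?_, ⟨g₀, rfl⟩⟩
  apply hIV
  intro X hX
  have : autEmbedding (FF G) (iota G g₀) X = autEmbedding (FF G) σ X := by
    apply Iso.ext
    ext y
    exact (key G K hKo σ g₀ hg₀.symm X (fun k hk x => kerX_trivial G X k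
      ((iInf_le (fun X : I => kerX G X.1) ⟨X, hX⟩) hk) x) y).symm
  rw [this]
  exact (hu X hX).2


section univ

variable (Q : Type u) [Group Q] [Finite Q] [TopologicalSpace Q] [DiscreteTopology Q] (π : G →* Q)
  (hπ : Continuous π)

instance : (π.ker).FiniteIndex := by
  have : Finite (G ⧸ π.ker) := Finite.of_injective _ (QuotientGroup.kerLift_injective π)
  exact Subgroup.finiteIndex_of_finite_quotient

include hπ in
theorem ker_isOpen : IsOpen (π.ker : Set G) := by
  have : (π.ker : Set G) = π ⁻¹' {1} := by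
    ext g
    simp [MonoidHom.mem_ker]
  rw [this]
  exact (isOpen_discrete _).preimage hπ

theorem PK_trivial (K : Subgroup G) [K.Normal] [K.FiniteIndex] (hK : IsOpen (K : Set G)) (k : G)
    (hk : k ∈ K) (x : (PK G K hK).obj.V) : ((PK G K hK).obj.ρ k).hom x = x := by
  obtain ⟨a, rfl⟩ := QuotientGroup.mk_surjective (s := K) x
  change (QuotientGroup.mk (k * a) : G ⧸ K) = QuotientGroup.mk a
  rw [QuotientGroup.eq]
  have : (k * a)⁻¹ * a = a⁻¹ * k⁻¹ * a := by group
  rw [this]
  have := Subgroup.Normal.conj_mem (inferInstance : K.Normal) k⁻¹ (K.inv_mem hk) a⁻¹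
  simpa using this

/-- the factorisation -/
noncomputable def psi : Aut (FF G) →* Q where
  toFun σ := QuotientGroup.kerLift π
    (σ.hom.app (PK G π.ker (ker_isOpen G Q π hπ)) (QuotientGroup.mk 1 : G ⧸ π.ker))
  map_one' := by
    change QuotientGroup.kerLift π (QuotientGroup.mk 1 : G ⧸ π.ker) = 1
    rw [QuotientGroup.kerLift_mk, map_one]
  map_mul' σ τ := by
    obtain ⟨s₀, hs⟩ := QuotientGroup.mk_surjective
      (σ.hom.app (PK G π.ker (ker_isOpen G Q π hπ)) (QuotientGroup.mk 1 : G ⧸ π.ker))
    obtain ⟨t₀, ht⟩ := QuotientGroup.mk_surjective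
      (τ.hom.app (PK G π.ker (ker_isOpen G Q π hπ)) (QuotientGroup.mk 1 : G ⧸ π.ker))
    have h1 : (σ * τ).hom.app (PK G π.ker (ker_isOpen G Q π hπ)) (QuotientGroup.mk 1 : G ⧸ π.ker)
        = σ.hom.app (PK G π.ker (ker_isOpen G Q π hπ))
          (τ.hom.app (PK G π.ker (ker_isOpen G Q π hπ)) (QuotientGroup.mk 1 : G ⧸ π.ker)) := rfl
    rw [h1, ← ht, ← hs]
    have h2 := key G π.ker (ker_isOpen G Q π hπ) σ s₀ hs.symm (PK G π.ker (ker_isOpen G Q π hπ))
      (PK_trivial G π.ker (ker_isOpen G Q π hπ)) (QuotientGroup.mk t₀ : G ⧸ π.ker)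
    rw [h2]
    change QuotientGroup.kerLift π (QuotientGroup.mk (s₀ * t₀) : G ⧸ π.ker) = _
    rw [QuotientGroup.kerLift_mk, QuotientGroup.kerLift_mk, QuotientGroup.kerLift_mk, map_mul]

theorem psi_iota (g : G) : psi G Q π hπ (iota G g) = π g := by
  change QuotientGroup.kerLift π (QuotientGroup.mk (g * 1) : G ⧸ π.ker) = π g
  rw [QuotientGroup.kerLift_mk, mul_one]

theorem psi_continuous : Continuous (psi G Q π hπ) := by
  have h1 : Continuous (fun σ : Aut (FF G) =>
      autEmbedding (FF G) σ (PK G π.ker (ker_isOpen G Q π hπ))) :=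
    (continuous_apply _).comp continuous_induced_dom
  have h2 : Continuous (fun a : Aut ((FF G).obj (PK G π.ker (ker_isOpen G Q π hπ))) =>
      QuotientGroup.kerLift π (a.hom (QuotientGroup.mk 1 : G ⧸ π.ker))) :=
    continuous_of_discreteTopology
  exact h2.comp h1

end univ

theorem main : ∃ ι : G →* Aut (forget₂ (ContAction FintypeCat.{u} G) FintypeCat.{u}),
      Continuous ι ∧
      (∀ (g : G) (X : ContAction FintypeCat.{u} G) (x : X.obj.V),
        (ι g).hom.app X x = (X.obj.ρ g).hom x) ∧
      DenseRange ι ∧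
      ∀ (Q : Type u) [Group Q] [Finite Q] [TopologicalSpace Q] [DiscreteTopology Q] (π : G →* Q),
        Continuous π → ∃! ψ : Aut (forget₂ (ContAction FintypeCat.{u} G) FintypeCat.{u}) →* Q,
          Continuous ψ ∧ ψ.comp ι = π := by
  refine ⟨iota G, continuous_iota G, fun g X x => rfl, denseRange_iota G, ?_⟩
  intro Q _ _ _ _ π hπ
  refine ⟨psi G Q π hπ, ⟨psi_continuous G Q π hπ, ?_⟩, ?_⟩
  · ext g
    exact psi_iota G Q π hπ g
  · rintro ψ' ⟨hc, hcomp⟩
    have := (denseRange_iota G).equalizer hc (psi_continuous G Q π hπ) (by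
      funext g
      change ψ' (iota G g) = psi G Q π hπ (iota G g)
      rw [psi_iota]
      exact DFunLike.congr_fun hcomp g)
    exact DFunLike.coe_injective this

end H92b

open CategoryTheory in
/-- Let G be a topological group, consider the category of finite sets (with the discrete topology)
equipped with a continuous action of G, and let F be the forgetful functor to finite sets, so that
Aut(F) is a profinite group. Then the homomorphism ι : G → Aut(F) letting g act on every finite
continuous G-set exists and is continuous, has dense image, and every continuous homomorphism from G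
to a finite discrete group factors uniquely through ι by a continuous homomorphism on Aut(F). As
Aut(F) is profinite, these properties say that ι induces an isomorphism of topological groups from
the profinite completion of G (the limit of the quotients G/U by open normal subgroups of finite
index) onto Aut(F). -/
theorem result (G : Type u) [Group G]
    [TopologicalSpace G] [IsTopologicalGroup G] :
    ∃ ι : G →* Aut (forget₂ (ContAction FintypeCat.{u} G) FintypeCat.{u}),
      Continuous ι ∧
      (∀ (g : G) (X : ContAction FintypeCat.{u} G) (x : X.obj.V), (ι g).hom.app X x = (X.obj.ρ g).hom x) ∧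
      DenseRange ι ∧
      ∀ (Q : Type u) [Group Q] [Finite Q] [TopologicalSpace Q] [DiscreteTopology Q] (π : G →* Q),
        Continuous π → ∃! ψ : Aut (forget₂ (ContAction FintypeCat.{u} G) FintypeCat.{u}) →* Q,
          Continuous ψ ∧ ψ.comp ι = π := by
  exact main G

end Groth.Agent.S18428
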