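import Groth.Statements.S18429
import Mathlib
-- import your own Groth.Agent.* helpers here

set_option autoImplicit false
universe u
open SpinCurv

namespace Groth.Agent.S18429

/-- Let n ≥ 1 and r ≥ 2 be integers and let e_0, …, e_{nr} be integers with e_0 = e_{nr} = 0 (the
coefficients of a chain of nr - 1 exceptional curves joining two non-exceptional components with
coefficient zero) such that at every interior index 1 ≤ j ≤ nr - 1 the second difference e_{j-1} - 2
e_j + e_{j+1} (the degree of the divisor Σ e_i E_i on the j-th curve of the chain) is divisible by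
r. Then there are integers e'_0, …, e'_{nr}, with e'_j ≡ e_j modulo r for every interior j, with
e'_0 = e'_{nr} = 0 and every e'_j ≤ 0, whose second differences at the interior indices are each 0
or r, and are nonzero at no two distinct interior indices. -/
theorem result (n r : ℕ) (hn : 1 ≤ n) (hr : 2 ≤ r)
    (e : ℕ → ℤ) (he0 : e 0 = 0) (henr : e (n * r) = 0)
    (hdiv : ∀ j : ℕ, 1 ≤ j → j < n * r → (r : ℤ) ∣ e (j - 1) - 2 * e j + e (j + 1)) :
    ∃ e' : ℕ → ℤ, e' 0 = 0 ∧ e' (n * r) = 0 ∧
      (∀ j : ℕ, 1 ≤ j → j < n * r → (r : ℤ) ∣ e' j - e j) ∧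
      (∀ j : ℕ, j ≤ n * r → e' j ≤ 0) ∧
      (∀ j : ℕ, 1 ≤ j → j < n * r →
        (e' (j - 1) - 2 * e' j + e' (j + 1) = 0 ∨ e' (j - 1) - 2 * e' j + e' (j + 1) = r)) ∧
      (∀ j j' : ℕ, 1 ≤ j → j < n * r → 1 ≤ j' → j' < n * r →
        e' (j - 1) - 2 * e' j + e' (j + 1) ≠ 0 → e' (j' - 1) - 2 * e' j' + e' (j' + 1) ≠ 0 → j = j') := by
  -- linearity mod r
  have key : ∀ j : ℕ, j + 1 ≤ n * r →
      ((r : ℤ) ∣ e j - (j * e 1)) ∧
      ((r : ℤ) ∣ e (j + 1) - (((j + 1 : ℕ) : ℤ) * e 1)) := by
    intro j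
    induction j with
    | zero =>
      intro _
      refine ⟨?_, ?_⟩
      · simp [he0]
      · simp
    | succ j ih =>
      intro hj
      obtain ⟨h1, h2⟩ := ih (by omega)
      refine ⟨h2, ?_⟩
      have h3 := hdiv (j + 1) (by omega) (by omega)
      have : e (j + 1 + 1) - (((j + 1 + 1 : ℕ) : ℤ) * e 1)
          = (e (j + 1 - 1) - 2 * e (j + 1) + e (j + 1 + 1))
            + 2 * (e (j + 1) - (((j + 1 : ℕ) : ℤ) * e 1))
            - (e j - (j * e 1)) := by
        simp only [Nat.add_sub_cancel]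
        push_cast
        ring
      rw [this]
      exact dvd_sub (dvd_add h3 (Dvd.dvd.mul_left h2 2)) h1
  have hnr : 1 ≤ n * r := by nlinarith
  have keyj : ∀ j : ℕ, j ≤ n * r → (r : ℤ) ∣ e j - (j * e 1) := by
    intro j hj
    rcases Nat.eq_zero_or_pos j with h0 | hpos
    · subst h0; simp [he0]
    · obtain ⟨m, rfl⟩ : ∃ m, j = m + 1 := ⟨j - 1, by omega⟩
      exact (key m hj).2
  -- parameters
  have hRpos : (0 : ℤ) < r := by exact_mod_cast (by omega : 0 < r)
  have hNpos : (1 : ℤ) ≤ n := by exact_mod_cast hn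
  obtain ⟨s, hs0, hsr, hsd⟩ : ∃ s : ℤ, 0 ≤ s ∧ s < r ∧ (r : ℤ) ∣ s + e 1 := by
    refine ⟨(-e 1) % r, Int.emod_nonneg _ hRpos.ne', Int.emod_lt_of_pos _ hRpos, ?_⟩
    have := Int.emod_add_mul_ediv (-e 1) r
    refine ⟨-((-e 1) / r), ?_⟩
    linarith
  obtain ⟨J, hJ⟩ : ∃ J : ℤ, J = n * (r - s) := ⟨_, rfl⟩
  obtain ⟨P, hP⟩ : ∃ P : ℤ, P = n * r := ⟨_, rfl⟩
  have hPcast : ((n * r : ℕ) : ℤ) = P := by rw [hP]; push_cast; ring
  have hJP : J = P - n * s := by rw [hJ, hP]; ring
  have hJ0 : 1 ≤ J := by rw [hJ]; nlinarith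
  have hJleP : J ≤ P := by rw [hJP]; nlinarith
  have hJs : s ≠ 0 → J + 1 ≤ P := by
    intro hs
    have : 1 ≤ s := by omega
    rw [hJP]; nlinarith
  have hJs0 : s = 0 → J = P := by
    intro hs; rw [hJP, hs]; ring
  have hrJ : (r - s) * P = r * J := by rw [hJ, hP]; ring
  refine ⟨fun j => if (j : ℤ) ≤ J then -s * j else (r - s) * (j - P), ?_, ?_, ?_, ?_, ?_, ?_⟩
  · -- e' 0 = 0
    simp only [Nat.cast_zero]
    rw [if_pos (by omega)]
    ring
  · -- e' (n r) = 0
    simp only [hPcast]
    split_ifs with h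
    · have : s = 0 := by
        by_contra hs
        have := hJs hs
        omega
      rw [this]; ring
    · ring
  · -- congruence
    intro j hj1 hj2
    have hk := keyj j hj2.le
    simp only
    split_ifs with h
    · have : -s * (j : ℤ) - e j = -(e j - j * e 1) - j * (s + e 1) := by ring
      rw [this]
      exact dvd_sub (dvd_neg.mpr hk) (Dvd.dvd.mul_left hsd _)
    · have : (r - s) * ((j : ℤ) - P) - e j
          = r * ((j : ℤ) - P + s * n) - (e j - j * e 1) - j * (s + e 1) := by
        rw [hP]; ring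
      rw [this]
      exact dvd_sub (dvd_sub (Dvd.intro _ rfl) hk) (Dvd.dvd.mul_left hsd _)
  · -- nonpositivity
    intro j hj
    have hjP : (j : ℤ) ≤ P := by rw [← hPcast]; exact_mod_cast hj
    simp only
    split_ifs with h
    · have : (0 : ℤ) ≤ j := Int.natCast_nonneg j
      nlinarith
    · have : (0 : ℤ) < r - s := by omega
      nlinarith
  · -- second differences are 0 or r
    intro j hj1 hj2
    have hjP : (j : ℤ) < P := by rw [← hPcast]; exact_mod_cast hj2
    have hj1' : ((j - 1 : ℕ) : ℤ) = (j : ℤ) - 1 := by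
      rw [Nat.cast_sub hj1]; simp
    simp only [hj1', Nat.cast_add, Nat.cast_one]
    by_cases hc1 : (j : ℤ) + 1 ≤ J
    · left
      have hA : (j : ℤ) - 1 ≤ J := by omega
      have hB : (j : ℤ) ≤ J := by omega
      rw [if_pos hA, if_pos hB, if_pos hc1]
      ring
    · by_cases hc2 : (j : ℤ) = J
      · right
        have hA : (j : ℤ) - 1 ≤ J := by omega
        have hB : (j : ℤ) ≤ J := by omega
        rw [if_pos hA, if_pos hB, if_neg hc1]
        have : -s * ((j : ℤ) - 1) - 2 * (-s * (j : ℤ)) + (r - s) * ((j : ℤ) + 1 - P)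
            = r * (j : ℤ) + r - (r - s) * P := by ring
        rw [this, hrJ, hc2]
        ring
      · left
        have hB : ¬ ((j : ℤ) ≤ J) := by omega
        rw [if_neg hB, if_neg hc1]
        split_ifs with h3
        · have h4 : (j : ℤ) - 1 = J := by omega
          have h5 : -s * J = (r - s) * (J - P) := by
            have : (r - s) * (J - P) = (r - s) * J - (r - s) * P := by ring
            rw [this, hrJ]; ring
          rw [h4, h5]
          have : (j : ℤ) = J + 1 := by omega
          rw [this]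
          ring
        · ring
  · -- at most one kink
    intro j j' hj1 hj2 hj1' hj2' hne hne'
    have hkink : ∀ i : ℕ, 1 ≤ i → i < n * r →
        ((if ((i - 1 : ℕ) : ℤ) ≤ J then -s * ((i - 1 : ℕ) : ℤ) else (r - s) * (((i - 1 : ℕ) : ℤ) - P))
          - 2 * (if (i : ℤ) ≤ J then -s * (i : ℤ) else (r - s) * ((i : ℤ) - P))
          + (if ((i + 1 : ℕ) : ℤ) ≤ J then -s * ((i + 1 : ℕ) : ℤ) else (r - s) * (((i + 1 : ℕ) : ℤ) - P)) ≠ 0) →
        (i : ℤ) = J := by
      intro i hi1 hi2 hne
      by_contra hc2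
      apply hne
      have hi1' : ((i - 1 : ℕ) : ℤ) = (i : ℤ) - 1 := by
        rw [Nat.cast_sub hi1]; simp
      simp only [hi1', Nat.cast_add, Nat.cast_one]
      by_cases hc1 : (i : ℤ) + 1 ≤ J
      · have hA : (i : ℤ) - 1 ≤ J := by omega
        have hB : (i : ℤ) ≤ J := by omega
        rw [if_pos hA, if_pos hB, if_pos hc1]
        ring
      · have hB : ¬ ((i : ℤ) ≤ J) := by omega
        rw [if_neg hB, if_neg hc1]
        split_ifs with h3
        · have h4 : (i : ℤ) - 1 = J := by omega
          have h5 : -s * J = (r - s) * (J - P) := by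
            have : (r - s) * (J - P) = (r - s) * J - (r - s) * P := by ring
            rw [this, hrJ]; ring
          rw [h4, h5]
          have : (i : ℤ) = J + 1 := by omega
          rw [this]
          ring
        · ring
    have h1 := hkink j hj1 hj2 hne
    have h2 := hkink j' hj1' hj2' hne'
    have : (j : ℤ) = j' := by rw [h1, h2]
    exact_mod_cast this

end Groth.Agent.S18429
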