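import Groth.Statements.S18430
import Mathlib
-- import your own Groth.Agent.* helpers here

set_option autoImplicit false
universe u
open SpinCurv

namespace Groth.Agent.S18430

/-- Let n ≥ 1 and r ≥ 2 be integers and let e_0, …, e_{nr} be integers, thought of as the coefficients
of two non-exceptional components C = E_0 and D = E_{nr} of the special fibre and of the chain of nr
- 1 exceptional curves joining them. If at every interior index 1 ≤ j ≤ nr - 1 the second difference
e_{j-1} - 2 e_j + e_{j+1} is divisible by r (the degree of the divisor on each exceptional curve of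
the chain is a multiple of r), then e_0 ≡ e_{nr} modulo r. (The published statement deduces from
this step, using that the special fibre is connected, that all non-exceptional components are joined
by such chains and that one non-exceptional coefficient may be taken to be 0, that every
non-exceptional coefficient can be assumed divisible by r; only the chain step is stated here.) -/
theorem result (n r : ℕ) (hn : 1 ≤ n) (hr : 2 ≤ r)
    (e : ℕ → ℤ)
    (hdiv : ∀ j : ℕ, 1 ≤ j → j < n * r → (r : ℤ) ∣ e (j - 1) - 2 * e j + e (j + 1)) :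
    (r : ℤ) ∣ e (n * r) - e 0 := by
  have key : ∀ j : ℕ, j + 1 ≤ n * r →
      ((r : ℤ) ∣ e j - (e 0 + j * (e 1 - e 0))) ∧
      ((r : ℤ) ∣ e (j + 1) - (e 0 + ((j + 1 : ℕ) : ℤ) * (e 1 - e 0))) := by
    intro j
    induction j with
    | zero =>
      intro _
      refine ⟨?_, ?_⟩
      · simp
      · simp
    | succ j ih =>
      intro hj
      obtain ⟨h1, h2⟩ := ih (by omega)
      refine ⟨h2, ?_⟩
      have h3 := hdiv (j + 1) (by omega) (by omega)
      have : e (j + 1 + 1) - (e 0 + ((j + 1 + 1 : ℕ) : ℤ) * (e 1 - e 0))
          = (e (j + 1 - 1) - 2 * e (j + 1) + e (j + 1 + 1))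
            + 2 * (e (j + 1) - (e 0 + ((j + 1 : ℕ) : ℤ) * (e 1 - e 0)))
            - (e j - (e 0 + j * (e 1 - e 0))) := by
        simp only [Nat.add_sub_cancel]
        push_cast
        ring
      rw [this]
      exact dvd_sub (dvd_add h3 (Dvd.dvd.mul_left h2 2)) h1
  have hnr : 1 ≤ n * r := by nlinarith
  obtain ⟨m, hm⟩ : ∃ m, n * r = m + 1 := ⟨n * r - 1, by omega⟩
  have := (key m (by omega)).2
  rw [← hm] at this
  have h4 : (r : ℤ) ∣ ((n * r : ℕ) : ℤ) * (e 1 - e 0) := by
    push_cast
    exact Dvd.dvd.mul_right (Dvd.intro_left _ rfl) _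
  have h5 : e (n * r) - e 0 = (e (n * r) - (e 0 + ((n * r : ℕ) : ℤ) * (e 1 - e 0)))
      + ((n * r : ℕ) : ℤ) * (e 1 - e 0) := by ring
  rw [h5]
  exact dvd_add this h4

end Groth.Agent.S18430
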