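import Groth.Statements.S18432
import Mathlib
import Groth.Agent.Lib.Helper63.NodeMF
-- import your own Groth.Agent.* helpers here

set_option autoImplicit false
universe u
open SpinCurv

namespace Groth.Agent.S18432.Aux
open SpinCurv

lemma mulVec_alpha (R : Type u) [CommRing R] (p q : R) (v : Fin 2 → NodeRing R (p * q)) :
    Matrix.mulVec (nodeAlpha R p q) v =
      ![NodeRing.x R (p * q) * v 0 + algebraMap R _ p * v 1,
        algebraMap R _ q * v 0 + NodeRing.y R (p * q) * v 1] := by
  funext i
  fin_cases i
  · simp [nodeAlpha, Matrix.mulVec, dotProduct, Fin.sum_univ_two]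
  · simp [nodeAlpha, Matrix.mulVec, dotProduct, Fin.sum_univ_two]

/-- the quotient map -/
noncomputable abbrev mkN (R : Type u) [CommRing R] (p q : R) :
    MvPowerSeries (Fin 2) R →+* NodeRing R (p * q) := Ideal.Quotient.mk _

end Groth.Agent.S18432.Aux

namespace Groth.Agent.S18432

/-- Let R be a complete Noetherian local ring, p, q elements of its maximal ideal, A = R[[x, y]]/(xy -
pq), and α(p, q) the A-linear endomorphism of A² with matrix (x p; q y), sending a column (a, b) to
(x a + p b, q a + y b). Then the kernel of α(p, q) is the submodule of A² generated by the columns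
(p, -x) and (y, -q); equivalently the image of α(p, q) (the standard rank-one torsion-free module
E(p, q)) is presented by two generators ξ, v with the relations p ξ = x v and y ξ = q v. -/
theorem result (R : Type u) [CommRing R] [IsNoetherianRing R] [IsLocalRing R]
    [IsAdicComplete (IsLocalRing.maximalIdeal R) R]
    (p q : R) (hp : p ∈ IsLocalRing.maximalIdeal R) (hq : q ∈ IsLocalRing.maximalIdeal R) :
    LinearMap.ker (Matrix.mulVecLin (SpinCurv.nodeAlpha R p q)) =
      Submodule.span (SpinCurv.NodeRing R (p * q))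
        {![algebraMap R (SpinCurv.NodeRing R (p * q)) p, -SpinCurv.NodeRing.x R (p * q)],
         ![SpinCurv.NodeRing.y R (p * q), -algebraMap R (SpinCurv.NodeRing R (p * q)) q]} := by
  have hI : ⨅ n, (IsLocalRing.maximalIdeal R) ^ n = ⊥ :=
    Ideal.iInf_pow_eq_bot_of_isLocalRing _ (IsLocalRing.maximalIdeal.isMaximal R).ne_top
  have hπ : p * q ∈ IsLocalRing.maximalIdeal R := Ideal.mul_mem_right _ _ hp
  have hw : (MvPowerSeries.X 0 * MvPowerSeries.X 1 - MvPowerSeries.C (p * q) :
      MvPowerSeries (Fin 2) R) = Groth.Agent.Lib.Helper63.NodeMF.w (p * q) := rfl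
  have hxy : SpinCurv.NodeRing.x R (p * q) * SpinCurv.NodeRing.y R (p * q) =
      algebraMap R (SpinCurv.NodeRing R (p * q)) (p * q) := by
    have : (MvPowerSeries.X 0 * MvPowerSeries.X 1 - MvPowerSeries.C (p * q) :
        MvPowerSeries (Fin 2) R) ∈ Ideal.span {(MvPowerSeries.X 0 * MvPowerSeries.X 1 -
          MvPowerSeries.C (p * q) : MvPowerSeries (Fin 2) R)} :=
      Ideal.mem_span_singleton_self _
    have h2 := (Ideal.Quotient.eq_zero_iff_mem).mpr this
    rw [map_sub, sub_eq_zero] at h2
    exact (map_mul _ _ _).symm.trans h2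
  have hpq : algebraMap R (SpinCurv.NodeRing R (p * q)) (p * q) =
      algebraMap R (SpinCurv.NodeRing R (p * q)) p *
        algebraMap R (SpinCurv.NodeRing R (p * q)) q := map_mul _ _ _
  have halg : ∀ r : R, algebraMap R (SpinCurv.NodeRing R (p * q)) r =
      Ideal.Quotient.mk _ (MvPowerSeries.C r) := fun r => rfl
  apply le_antisymm
  · intro v hv
    rw [LinearMap.mem_ker, Matrix.mulVecLin_apply, Aux.mulVec_alpha] at hv
    have h0 := congrFun hv 0
    have h1' := congrFun hv 1
    simp only [Matrix.cons_val_zero, Matrix.cons_val_one, Pi.zero_apply] at h0 h1'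
    obtain ⟨a', ha'⟩ := Ideal.Quotient.mk_surjective (v 0)
    obtain ⟨b', hb'⟩ := Ideal.Quotient.mk_surjective (v 1)
    rw [← ha', ← hb', halg, ← map_mul, ← map_mul, ← map_add, Ideal.Quotient.eq_zero_iff_mem,
      Ideal.mem_span_singleton] at h0 h1'
    obtain ⟨u1, hu1⟩ := h0
    obtain ⟨u2, hu2⟩ := h1'
    rw [hw] at hu1 hu2
    have e1 : Groth.Agent.Lib.Helper63.NodeMF.w (p * q) *
        (a' - (MvPowerSeries.X 1 * u1 - MvPowerSeries.C p * u2)) = 0 := by
      have : Groth.Agent.Lib.Helper63.NodeMF.w (p * q) * a' =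
          MvPowerSeries.X 1 * (MvPowerSeries.X 0 * a' + MvPowerSeries.C p * b') -
            MvPowerSeries.C p * (MvPowerSeries.C q * a' + MvPowerSeries.X 1 * b') := by
        rw [Groth.Agent.Lib.Helper63.NodeMF.w, map_mul]; ring
      rw [mul_sub, this, hu1, hu2]; ring
    have e2 : Groth.Agent.Lib.Helper63.NodeMF.w (p * q) *
        (b' - (MvPowerSeries.X 0 * u2 - MvPowerSeries.C q * u1)) = 0 := by
      have : Groth.Agent.Lib.Helper63.NodeMF.w (p * q) * b' =
          MvPowerSeries.X 0 * (MvPowerSeries.C q * a' + MvPowerSeries.X 1 * b') -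
            MvPowerSeries.C q * (MvPowerSeries.X 0 * a' + MvPowerSeries.C p * b') := by
        rw [Groth.Agent.Lib.Helper63.NodeMF.w, map_mul]; ring
      rw [mul_sub, this, hu1, hu2]; ring
    have ea := sub_eq_zero.mp
      (Groth.Agent.Lib.Helper63.NodeMF.w_nzd (p * q) _ hπ hI _ e1)
    have eb := sub_eq_zero.mp
      (Groth.Agent.Lib.Helper63.NodeMF.w_nzd (p * q) _ hπ hI _ e2)
    have hv0 : v 0 = ((- Aux.mkN R p q u2) •
        ![algebraMap R (SpinCurv.NodeRing R (p * q)) p, -SpinCurv.NodeRing.x R (p * q)] +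
        (Aux.mkN R p q u1) •
        ![SpinCurv.NodeRing.y R (p * q), -algebraMap R (SpinCurv.NodeRing R (p * q)) q]) 0 := by
      rw [← ha', ea]
      simp only [Pi.add_apply, Pi.smul_apply, Matrix.cons_val_zero, smul_eq_mul, halg, map_sub,
        map_mul]
      ring
    have hv1 : v 1 = ((- Aux.mkN R p q u2) •
        ![algebraMap R (SpinCurv.NodeRing R (p * q)) p, -SpinCurv.NodeRing.x R (p * q)] +
        (Aux.mkN R p q u1) •
        ![SpinCurv.NodeRing.y R (p * q), -algebraMap R (SpinCurv.NodeRing R (p * q)) q]) 1 := by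
      rw [← hb', eb]
      simp only [Pi.add_apply, Pi.smul_apply, Matrix.cons_val_one, Matrix.cons_val_zero,
        Matrix.cons_val_fin_one, smul_eq_mul, halg, map_sub, map_mul]
      ring
    have hv' : v = (- Aux.mkN R p q u2) •
        ![algebraMap R (SpinCurv.NodeRing R (p * q)) p, -SpinCurv.NodeRing.x R (p * q)] +
        (Aux.mkN R p q u1) •
        ![SpinCurv.NodeRing.y R (p * q), -algebraMap R (SpinCurv.NodeRing R (p * q)) q] := by
      funext i
      fin_cases i
      · exact hv0
      · exact hv1
    rw [hv']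
    exact Submodule.add_mem _ (Submodule.smul_mem _ _ (Submodule.subset_span (by simp)))
      (Submodule.smul_mem _ _ (Submodule.subset_span (by simp)))
  · rw [Submodule.span_le]
    intro v hv
    simp only [Set.mem_insert_iff, Set.mem_singleton_iff] at hv
    rw [SetLike.mem_coe, LinearMap.mem_ker, Matrix.mulVecLin_apply, Aux.mulVec_alpha]
    rcases hv with rfl | rfl
    · simp only [Matrix.cons_val_zero, Matrix.cons_val_one]
      have e1 : SpinCurv.NodeRing.x R (p * q) * algebraMap R (SpinCurv.NodeRing R (p * q)) p +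
          algebraMap R (SpinCurv.NodeRing R (p * q)) p * -SpinCurv.NodeRing.x R (p * q) = 0 := by
        ring
      have e2 : algebraMap R (SpinCurv.NodeRing R (p * q)) q *
          algebraMap R (SpinCurv.NodeRing R (p * q)) p +
          SpinCurv.NodeRing.y R (p * q) * -SpinCurv.NodeRing.x R (p * q) = 0 := by
        have : SpinCurv.NodeRing.y R (p * q) * -SpinCurv.NodeRing.x R (p * q) =
            - (SpinCurv.NodeRing.x R (p * q) * SpinCurv.NodeRing.y R (p * q)) := by ring
        rw [this, hxy, hpq]; ring
      rw [e1, e2]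
      funext i
      fin_cases i <;> rfl
    · simp only [Matrix.cons_val_zero, Matrix.cons_val_one]
      have e1 : SpinCurv.NodeRing.x R (p * q) * SpinCurv.NodeRing.y R (p * q) +
          algebraMap R (SpinCurv.NodeRing R (p * q)) p *
            -algebraMap R (SpinCurv.NodeRing R (p * q)) q = 0 := by
        rw [hxy, hpq]; ring
      have e2 : algebraMap R (SpinCurv.NodeRing R (p * q)) q * SpinCurv.NodeRing.y R (p * q) +
          SpinCurv.NodeRing.y R (p * q) * -algebraMap R (SpinCurv.NodeRing R (p * q)) q = 0 := by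
        ring
      rw [e1, e2]
      funext i
      fin_cases i <;> rfl

end Groth.Agent.S18432
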