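import Groth.Statements.S18433
import Mathlib
import Groth.Agent.Lib.Helper63.NodeNF
-- import your own Groth.Agent.* helpers here

set_option autoImplicit false
universe u
open SpinCurv

namespace Groth.Agent.S18433.Aux
open SpinCurv Groth.Agent.Lib.Helper63.WeierSing2 Groth.Agent.Lib.Helper63.NodeMF
  Groth.Agent.Lib.Helper63.NodeNF

lemma mulVec_alpha (R : Type u) [CommRing R] (p q : R) (v : Fin 2 → NodeRing R (p * q)) :
    Matrix.mulVec (nodeAlpha R p q) v =
      ![NodeRing.x R (p * q) * v 0 + algebraMap R _ p * v 1,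
        algebraMap R _ q * v 0 + NodeRing.y R (p * q) * v 1] := by
  funext i
  fin_cases i
  · simp [nodeAlpha, Matrix.mulVec, dotProduct, Fin.sum_univ_two]
  · simp [nodeAlpha, Matrix.mulVec, dotProduct, Fin.sum_univ_two]

/-- the quotient map -/
noncomputable abbrev mkN (R : Type u) [CommRing R] (p q : R) :
    MvPowerSeries (Fin 2) R →+* NodeRing R (p * q) := Ideal.Quotient.mk _

variable {R : Type u} [CommRing R]

/-- `x f(x) + p g(y) = 0` in `R[[x,y]]` forces `f = 0` -/
lemma f_eq_zero (p : R) (f g : PowerSeries R)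
    (h : MvPowerSeries.X 0 * PowerSeries.toMvPowerSeries (σ := Fin 2) 0 f +
      MvPowerSeries.C p * PowerSeries.toMvPowerSeries (σ := Fin 2) 1 g = 0) : f = 0 := by
  ext n
  have h1 := congrArg (MvPowerSeries.coeff (mon (n + 1) 0)) h
  rw [map_add, Groth.Agent.Lib.Helper63.NodeMF.coeff_X0_mul, if_pos (by omega), MvPowerSeries.coeff_C_mul,
    coeff_toMv1_of_ne _ _ _ (by omega), Nat.add_sub_cancel, coeff_toMv0_x, mul_zero, add_zero,
    map_zero] at h1
  rw [h1, map_zero]

lemma g_eq_zero (q : R) (f g : PowerSeries R)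
    (h : MvPowerSeries.C q * PowerSeries.toMvPowerSeries (σ := Fin 2) 0 f +
      MvPowerSeries.X 1 * PowerSeries.toMvPowerSeries (σ := Fin 2) 1 g = 0) : g = 0 := by
  ext n
  have h1 := congrArg (MvPowerSeries.coeff (mon 0 (n + 1))) h
  rw [map_add, Groth.Agent.Lib.Helper63.NodeMF.coeff_X1_mul, if_pos (by omega), MvPowerSeries.coeff_C_mul,
    coeff_toMv0_of_ne _ _ _ (by omega), Nat.add_sub_cancel, coeff_toMv1_y, mul_zero, zero_add,
    map_zero] at h1
  rw [h1, map_zero]

lemma mixed1 (p : R) (f g : PowerSeries R) (i j : ℕ) :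
    MvPowerSeries.coeff (mon (i + 1) (j + 1))
      (MvPowerSeries.X 0 * PowerSeries.toMvPowerSeries (σ := Fin 2) 0 f +
        MvPowerSeries.C p * PowerSeries.toMvPowerSeries (σ := Fin 2) 1 g) = 0 := by
  rw [map_add, Groth.Agent.Lib.Helper63.NodeMF.coeff_X0_mul, if_pos (by omega), MvPowerSeries.coeff_C_mul,
    coeff_toMv1_of_ne _ _ _ (by omega), coeff_toMv0_of_ne _ _ _ (by omega), mul_zero, add_zero]

lemma mixed2 (q : R) (f g : PowerSeries R) (i j : ℕ) :
    MvPowerSeries.coeff (mon (i + 1) (j + 1))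
      (MvPowerSeries.C q * PowerSeries.toMvPowerSeries (σ := Fin 2) 0 f +
        MvPowerSeries.X 1 * PowerSeries.toMvPowerSeries (σ := Fin 2) 1 g) = 0 := by
  rw [map_add, Groth.Agent.Lib.Helper63.NodeMF.coeff_X1_mul, if_pos (by omega), MvPowerSeries.coeff_C_mul,
    coeff_toMv0_of_ne _ _ _ (by omega), coeff_toMv1_of_ne _ _ _ (by omega), mul_zero, add_zero]

end Groth.Agent.S18433.Aux

namespace Groth.Agent.S18433

/-- Let R be a complete Noetherian local ring, p, q elements of its maximal ideal, A = R[[x, y]]/(xy -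
pq), and α(p, q) the endomorphism (a, b) ↦ (x a + p b, q a + y b) of A². Restrict α(p, q) to pairs
(f, g) with f a power series in x alone and g a power series in y alone: the resulting map R[[x]] ×
R[[y]] → A², (f, g) ↦ (x f + p g, q f + y g), is injective and has the same image as α(p, q). Thus
the image E(p, q) of α(p, q) is identified, R-linearly, with R[[x]] ⊕ R[[y]]. -/
theorem result (R : Type u) [CommRing R] [IsNoetherianRing R] [IsLocalRing R]
    [IsAdicComplete (IsLocalRing.maximalIdeal R) R]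
    (p q : R) (hp : p ∈ IsLocalRing.maximalIdeal R) (hq : q ∈ IsLocalRing.maximalIdeal R) :
    Function.Injective (fun fg : PowerSeries R × PowerSeries R =>
        Matrix.mulVec (SpinCurv.nodeAlpha R p q)
          ![SpinCurv.NodeRing.ofX R (p * q) fg.1, SpinCurv.NodeRing.ofY R (p * q) fg.2]) ∧
    Set.range (fun fg : PowerSeries R × PowerSeries R =>
        Matrix.mulVec (SpinCurv.nodeAlpha R p q)
          ![SpinCurv.NodeRing.ofX R (p * q) fg.1, SpinCurv.NodeRing.ofY R (p * q) fg.2]) =
      Set.range (Matrix.mulVec (SpinCurv.nodeAlpha R p q)) := by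
  have hI : ⨅ n, (IsLocalRing.maximalIdeal R) ^ n = ⊥ :=
    Ideal.iInf_pow_eq_bot_of_isLocalRing _ (IsLocalRing.maximalIdeal.isMaximal R).ne_top
  have hπ : p * q ∈ IsLocalRing.maximalIdeal R := Ideal.mul_mem_right _ _ hp
  have hw : (MvPowerSeries.X 0 * MvPowerSeries.X 1 - MvPowerSeries.C (p * q) :
      MvPowerSeries (Fin 2) R) = Groth.Agent.Lib.Helper63.NodeMF.w (p * q) := rfl
  have hwmem : ∀ H, Aux.mkN R p q (Groth.Agent.Lib.Helper63.NodeMF.w (p * q) * H) = 0 := by
    intro H
    rw [Ideal.Quotient.eq_zero_iff_mem, ← hw]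
    exact Ideal.mul_mem_right _ _ (Ideal.mem_span_singleton_self _)
  have hxy : SpinCurv.NodeRing.x R (p * q) * SpinCurv.NodeRing.y R (p * q) =
      algebraMap R (SpinCurv.NodeRing R (p * q)) p *
        algebraMap R (SpinCurv.NodeRing R (p * q)) q := by
    have h2 := hwmem 1
    rw [mul_one, ← hw, map_sub, sub_eq_zero] at h2
    have h3 : algebraMap R (SpinCurv.NodeRing R (p * q)) (p * q) =
      algebraMap R (SpinCurv.NodeRing R (p * q)) p *
        algebraMap R (SpinCurv.NodeRing R (p * q)) q := map_mul _ _ _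
    rw [← h3]
    exact (map_mul _ _ _).symm.trans h2
  have halg : ∀ r : R, algebraMap R (SpinCurv.NodeRing R (p * q)) r =
      Aux.mkN R p q (MvPowerSeries.C r) := fun r => rfl
  obtain ⟨oX, hoX⟩ : ∃ oX : PowerSeries R →+* SpinCurv.NodeRing R (p * q),
      ∀ f, oX f = SpinCurv.NodeRing.ofX R (p * q) f :=
    ⟨(Aux.mkN R p q).comp (PowerSeries.toMvPowerSeries (σ := Fin 2) 0).toRingHom, fun f => rfl⟩
  obtain ⟨oY, hoY⟩ : ∃ oY : PowerSeries R →+* SpinCurv.NodeRing R (p * q),
      ∀ f, oY f = SpinCurv.NodeRing.ofY R (p * q) f :=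
    ⟨(Aux.mkN R p q).comp (PowerSeries.toMvPowerSeries (σ := Fin 2) 1).toRingHom, fun f => rfl⟩
  have hoXC : ∀ r, oX (PowerSeries.C r) = algebraMap R _ r := by
    intro r
    rw [hoX, halg]
    show Aux.mkN R p q (PowerSeries.toMvPowerSeries (σ := Fin 2) 0 (PowerSeries.C r)) = _
    rw [PowerSeries.toMvPowerSeries_C]
  have hoYC : ∀ r, oY (PowerSeries.C r) = algebraMap R _ r := by
    intro r
    rw [hoY, halg]
    show Aux.mkN R p q (PowerSeries.toMvPowerSeries (σ := Fin 2) 1 (PowerSeries.C r)) = _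
    rw [PowerSeries.toMvPowerSeries_C]
  have hoXX : oX PowerSeries.X = SpinCurv.NodeRing.x R (p * q) := by
    rw [hoX]
    show Aux.mkN R p q (PowerSeries.toMvPowerSeries (σ := Fin 2) 0 PowerSeries.X) = _
    rw [PowerSeries.toMvPowerSeries_X]
  have hoYX : oY PowerSeries.X = SpinCurv.NodeRing.y R (p * q) := by
    rw [hoY]
    show Aux.mkN R p q (PowerSeries.toMvPowerSeries (σ := Fin 2) 1 PowerSeries.X) = _
    rw [PowerSeries.toMvPowerSeries_X]
  constructor
  · rintro ⟨f, g⟩ ⟨f', g'⟩ h
    simp only [Aux.mulVec_alpha, Matrix.cons_val_zero, Matrix.cons_val_one] at h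
    have h0 := congrFun h 0
    have h1 := congrFun h 1
    simp only [Matrix.cons_val_zero, Matrix.cons_val_one] at h0 h1
    have k0 : Aux.mkN R p q (MvPowerSeries.X 0 *
        PowerSeries.toMvPowerSeries (σ := Fin 2) 0 (f - f') +
        MvPowerSeries.C p * PowerSeries.toMvPowerSeries (σ := Fin 2) 1 (g - g')) = 0 := by
      rw [map_sub (PowerSeries.toMvPowerSeries (σ := Fin 2) 0),
        map_sub (PowerSeries.toMvPowerSeries (σ := Fin 2) 1), map_add (Aux.mkN R p q),
        map_mul (Aux.mkN R p q), map_mul (Aux.mkN R p q), map_sub (Aux.mkN R p q),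
        map_sub (Aux.mkN R p q)]
      rw [halg] at h0
      linear_combination h0
    have k1 : Aux.mkN R p q (MvPowerSeries.C q *
        PowerSeries.toMvPowerSeries (σ := Fin 2) 0 (f - f') +
        MvPowerSeries.X 1 * PowerSeries.toMvPowerSeries (σ := Fin 2) 1 (g - g')) = 0 := by
      rw [map_sub (PowerSeries.toMvPowerSeries (σ := Fin 2) 0),
        map_sub (PowerSeries.toMvPowerSeries (σ := Fin 2) 1), map_add (Aux.mkN R p q),
        map_mul (Aux.mkN R p q), map_mul (Aux.mkN R p q), map_sub (Aux.mkN R p q),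
        map_sub (Aux.mkN R p q)]
      rw [halg] at h1
      linear_combination h1
    rw [Ideal.Quotient.eq_zero_iff_mem, Ideal.mem_span_singleton, hw] at k0 k1
    obtain ⟨H0, hH0⟩ := k0
    obtain ⟨H1, hH1⟩ := k1
    have z0 := Groth.Agent.Lib.Helper63.NodeNF.eq_zero_of_toMv _ hI (p * q) hπ _ H0
      (Aux.mixed1 p (f - f') (g - g')) hH0
    have z1 := Groth.Agent.Lib.Helper63.NodeNF.eq_zero_of_toMv _ hI (p * q) hπ _ H1
      (Aux.mixed2 q (f - f') (g - g')) hH1
    have e0 := sub_eq_zero.mp (Aux.f_eq_zero p _ _ z0)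
    have e1 := sub_eq_zero.mp (Aux.g_eq_zero q _ _ z1)
    rw [e0, e1]
  · apply Set.eq_of_subset_of_subset
    · rintro _ ⟨fg, rfl⟩
      exact ⟨_, rfl⟩
    · rintro _ ⟨v, rfl⟩
      obtain ⟨a', ha'⟩ := Ideal.Quotient.mk_surjective (v 0)
      obtain ⟨b', hb'⟩ := Ideal.Quotient.mk_surjective (v 1)
      obtain ⟨fa, ga, Ha, hA⟩ := Groth.Agent.Lib.Helper63.NodeNF.exists_normal_form
        (IsLocalRing.maximalIdeal R) (p * q) hπ a'
      obtain ⟨fb, gb, Hb, hB⟩ := Groth.Agent.Lib.Helper63.NodeNF.exists_normal_form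
        (IsLocalRing.maximalIdeal R) (p * q) hπ b'
      have hv0 : v 0 = oX fa + oY ga := by
        rw [← ha', hA]
        have := hwmem Ha
        rw [map_add (Aux.mkN R p q), this, add_zero, map_add (Aux.mkN R p q), hoX, hoY]
      have hv1 : v 1 = oX fb + oY gb := by
        rw [← hb', hB]
        have := hwmem Hb
        rw [map_add (Aux.mkN R p q), this, add_zero, map_add (Aux.mkN R p q), hoX, hoY]
      obtain ⟨ga', hga'⟩ : ∃ ga' : PowerSeries R,
          ga' = PowerSeries.mk fun n => PowerSeries.coeff (n + 1) ga := ⟨_, rfl⟩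
      obtain ⟨fb', hfb'⟩ : ∃ fb' : PowerSeries R,
          fb' = PowerSeries.mk fun n => PowerSeries.coeff (n + 1) fb := ⟨_, rfl⟩
      have hga : oY ga = SpinCurv.NodeRing.y R (p * q) * oY ga' +
          algebraMap R _ (PowerSeries.constantCoeff ga) := by
        conv_lhs => rw [PowerSeries.eq_X_mul_shift_add_const ga]
        rw [map_add oY, map_mul oY, hoYX, hoYC, hga']
      have hfb : oX fb = SpinCurv.NodeRing.x R (p * q) * oX fb' +
          algebraMap R _ (PowerSeries.constantCoeff fb) := by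
        conv_lhs => rw [PowerSeries.eq_X_mul_shift_add_const fb]
        rw [map_add oX, map_mul oX, hoXX, hoXC, hfb']
      refine ⟨(fa + PowerSeries.C (PowerSeries.constantCoeff ga) + PowerSeries.C p * fb',
        gb + PowerSeries.C (PowerSeries.constantCoeff fb) + PowerSeries.C q * ga'), ?_⟩
      show Matrix.mulVec (SpinCurv.nodeAlpha R p q)
        ![SpinCurv.NodeRing.ofX R (p * q)
            (fa + PowerSeries.C (PowerSeries.constantCoeff ga) + PowerSeries.C p * fb'),
          SpinCurv.NodeRing.ofY R (p * q)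
            (gb + PowerSeries.C (PowerSeries.constantCoeff fb) + PowerSeries.C q * ga')] = _
      rw [Aux.mulVec_alpha, Aux.mulVec_alpha, hv0, hv1]
      simp only [Matrix.cons_val_zero, Matrix.cons_val_one]
      rw [← hoX, ← hoY, map_add oX, map_add oX, map_add oY, map_add oY, map_mul oX, map_mul oY,
        hoXC, hoXC, hoYC, hoYC, hga, hfb]
      have c0 : SpinCurv.NodeRing.x R (p * q) * (oX fa + algebraMap R _ (PowerSeries.constantCoeff ga) +
            algebraMap R _ p * oX fb') +
          algebraMap R _ p * (oY gb + algebraMap R _ (PowerSeries.constantCoeff fb) +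
            algebraMap R _ q * oY ga') =
          SpinCurv.NodeRing.x R (p * q) * (oX fa + (SpinCurv.NodeRing.y R (p * q) * oY ga' +
            algebraMap R _ (PowerSeries.constantCoeff ga))) +
          algebraMap R _ p * (SpinCurv.NodeRing.x R (p * q) * oX fb' +
            algebraMap R _ (PowerSeries.constantCoeff fb) + oY gb) := by
        linear_combination (- oY ga') * hxy
      have c1 : algebraMap R _ q * (oX fa + algebraMap R _ (PowerSeries.constantCoeff ga) +
            algebraMap R _ p * oX fb') +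
          SpinCurv.NodeRing.y R (p * q) * (oY gb + algebraMap R _ (PowerSeries.constantCoeff fb) +
            algebraMap R _ q * oY ga') =
          algebraMap R _ q * (oX fa + (SpinCurv.NodeRing.y R (p * q) * oY ga' +
            algebraMap R _ (PowerSeries.constantCoeff ga))) +
          SpinCurv.NodeRing.y R (p * q) * (SpinCurv.NodeRing.x R (p * q) * oX fb' +
            algebraMap R _ (PowerSeries.constantCoeff fb) + oY gb) := by
        linear_combination (- oX fb') * hxy
      rw [c0, c1]

end Groth.Agent.S18433
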