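import Groth.Statements.S18434
import Mathlib
-- import your own Groth.Agent.* helpers here

set_option autoImplicit false
universe u
open SpinCurv

namespace Groth.Agent.S18434

/-- Let k be a field, u, v ≥ 1 integers and w ∈ k nonzero. In the ring A = k[[x, y]]/(xy), the quotient
A/(x^u, w y^v) has dimension u + v - 1 over k (a basis is 1, x, …, x^{u-1}, y, …, y^{v-1}); this is
the length of the cokernel at the node of a map whose image is generated by x^u and w y^v. -/
theorem result (k : Type u) [Field k] (u v : ℕ) (hu : 1 ≤ u) (hv : 1 ≤ v)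
    (w : k) (hw : w ≠ 0) :
    Module.finrank k (SpinCurv.NodeRing k 0 ⧸
      Ideal.span {SpinCurv.NodeRing.x k 0 ^ u, algebraMap k (SpinCurv.NodeRing k 0) w * SpinCurv.NodeRing.y k 0 ^ v}) =
      u + v - 1 := by
  classical
  -- exponent vectors
  have hX0pow : ∀ n : ℕ, (MvPowerSeries.X 0 : MvPowerSeries (Fin 2) k) ^ n =
      MvPowerSeries.monomial (Finsupp.single 0 n) 1 := MvPowerSeries.X_pow_eq 0
  have hX1pow : ∀ n : ℕ, (MvPowerSeries.X 1 : MvPowerSeries (Fin 2) k) ^ n =
      MvPowerSeries.monomial (Finsupp.single 1 n) 1 := MvPowerSeries.X_pow_eq 1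
  have hX01 : (MvPowerSeries.X 0 * MvPowerSeries.X 1 : MvPowerSeries (Fin 2) k) =
      MvPowerSeries.monomial (Finsupp.single 0 1 + Finsupp.single 1 1) 1 := by
    rw [MvPowerSeries.X_def, MvPowerSeries.X_def, MvPowerSeries.monomial_mul_monomial, one_mul]
  -- the coefficient map
  let ψ : MvPowerSeries (Fin 2) k →ₗ[k] (Fin u → k) × (Fin (v - 1) → k) :=
    LinearMap.prod
      (LinearMap.pi (fun i : Fin u => MvPowerSeries.coeff (R := k) (Finsupp.single 0 (i : ℕ))))
      (LinearMap.pi (fun j : Fin (v - 1) => MvPowerSeries.coeff (R := k) (Finsupp.single 1 ((j : ℕ) + 1))))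
  have hψ0 : ∀ f : MvPowerSeries (Fin 2) k, ψ f = 0 ↔
      (∀ i : ℕ, i < u → MvPowerSeries.coeff (Finsupp.single 0 i) f = 0) ∧
      (∀ j : ℕ, 1 ≤ j → j < v → MvPowerSeries.coeff (Finsupp.single 1 j) f = 0) := by
    intro f
    constructor
    · intro h
      have h1 := congrArg Prod.fst h
      have h2 := congrArg Prod.snd h
      constructor
      · intro i hi
        exact congrFun h1 ⟨i, hi⟩
      · intro j hj1 hj2
        have : MvPowerSeries.coeff (Finsupp.single 1 (j - 1 + 1)) f = 0 :=
          congrFun h2 ⟨j - 1, by omega⟩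
        rw [show j - 1 + 1 = j by omega] at this
        exact this
    · rintro ⟨h1, h2⟩
      ext i
      · exact h1 i i.2
      · exact h2 (i + 1) (by omega) (by have := i.2; omega)
  -- the quotient map
  let I0 : Ideal (MvPowerSeries (Fin 2) k) :=
    Ideal.span {(MvPowerSeries.X 0 * MvPowerSeries.X 1 - MvPowerSeries.C (0 : k) : MvPowerSeries (Fin 2) k)}
  let J : Ideal (SpinCurv.NodeRing k 0) :=
    Ideal.span {SpinCurv.NodeRing.x k 0 ^ u, algebraMap k (SpinCurv.NodeRing k 0) w * SpinCurv.NodeRing.y k 0 ^ v}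
  let Pq : MvPowerSeries (Fin 2) k →ₗ[k] (SpinCurv.NodeRing k 0 ⧸ J) :=
    (Ideal.Quotient.mkₐ k J).toLinearMap ∘ₗ (Ideal.Quotient.mkₐ k I0).toLinearMap
  have hPq : ∀ f, Pq f = Ideal.Quotient.mk J (Ideal.Quotient.mk I0 f) := fun f => rfl
  have hPqsurj : Function.Surjective Pq := by
    intro z
    obtain ⟨z', rfl⟩ := Ideal.Quotient.mk_surjective z
    obtain ⟨z'', rfl⟩ := Ideal.Quotient.mk_surjective z'
    exact ⟨z'', rfl⟩
  have hψsurj : Function.Surjective ψ := by
    rintro ⟨a, b⟩
    let f : MvPowerSeries (Fin 2) k := fun m =>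
      if h : m 1 = 0 ∧ m 0 < u then a ⟨m 0, h.2⟩
      else if h' : m 0 = 0 ∧ 1 ≤ m 1 ∧ m 1 < v then b ⟨m 1 - 1, by omega⟩ else 0
    refine ⟨f, ?_⟩
    ext i
    · show f (Finsupp.single 0 (i : ℕ)) = a i
      have h : (Finsupp.single (0 : Fin 2) (i : ℕ)) 1 = 0 ∧ (Finsupp.single (0 : Fin 2) (i : ℕ)) 0 < u := by
        simp [i.2]
      simp only [f]
      rw [dif_pos h]
      congr 1
      apply Fin.ext
      simp
    · show f (Finsupp.single 1 ((i : ℕ) + 1)) = b i
      have h : ¬ ((Finsupp.single (1 : Fin 2) ((i : ℕ) + 1)) 1 = 0 ∧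
          (Finsupp.single (1 : Fin 2) ((i : ℕ) + 1)) 0 < u) := by
        simp
      have h' : (Finsupp.single (1 : Fin 2) ((i : ℕ) + 1)) 0 = 0 ∧
          1 ≤ (Finsupp.single (1 : Fin 2) ((i : ℕ) + 1)) 1 ∧
          (Finsupp.single (1 : Fin 2) ((i : ℕ) + 1)) 1 < v := by
        have := i.2
        simp
        omega
      simp only [f]
      rw [dif_neg h, dif_pos h']
      congr 1
      apply Fin.ext
      simp
  have c1 : ∀ m : Fin 2 →₀ ℕ, (Finsupp.single 0 1 + Finsupp.single 1 1 ≤ m) ↔ 1 ≤ m 0 ∧ 1 ≤ m 1 := by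
    intro m
    rw [Finsupp.le_def, Fin.forall_fin_two]
    simp
  have c2 : ∀ (n : ℕ) (m : Fin 2 →₀ ℕ), (Finsupp.single 0 n ≤ m) ↔ n ≤ m 0 := by
    intro n m
    rw [Finsupp.le_def, Fin.forall_fin_two]
    simp
  have c3 : ∀ (n : ℕ) (m : Fin 2 →₀ ℕ), (Finsupp.single 1 n ≤ m) ↔ n ≤ m 1 := by
    intro n m
    rw [Finsupp.le_def, Fin.forall_fin_two]
    simp
  have hker : LinearMap.ker Pq = LinearMap.ker ψ := by
    ext f
    rw [LinearMap.mem_ker, LinearMap.mem_ker, hPq, hψ0]
    constructor
    · intro h
      have hJ : Ideal.Quotient.mk I0 f ∈ J := Ideal.Quotient.eq_zero_iff_mem.1 h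
      obtain ⟨a, b, hab⟩ := Ideal.mem_span_pair.1 hJ
      obtain ⟨a', rfl⟩ := Ideal.Quotient.mk_surjective a
      obtain ⟨b', rfl⟩ := Ideal.Quotient.mk_surjective b
      have h0 : Ideal.Quotient.mk I0 (f - (a' * MvPowerSeries.X 0 ^ u +
          b' * (MvPowerSeries.C w * MvPowerSeries.X 1 ^ v))) = 0 := by
        rw [map_sub, ← hab, sub_eq_zero]
        rfl
      obtain ⟨c, hc⟩ := Ideal.mem_span_singleton'.1 (Ideal.Quotient.eq_zero_iff_mem.1 h0)
      have hf : f = a' * MvPowerSeries.X 0 ^ u + (b' * MvPowerSeries.C w) * MvPowerSeries.X 1 ^ v +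
          c * (MvPowerSeries.X 0 * MvPowerSeries.X 1) := by
        rw [map_zero, sub_zero] at hc
        rw [hc]
        ring
      have hcoef : ∀ m : Fin 2 →₀ ℕ, ¬ (Finsupp.single 0 u ≤ m) → ¬ (Finsupp.single 1 v ≤ m) →
          ¬ (Finsupp.single 0 1 + Finsupp.single 1 1 ≤ m) → MvPowerSeries.coeff m f = 0 := by
        intro m h1 h2 h3
        rw [hf, map_add, map_add, hX0pow, hX1pow, hX01, MvPowerSeries.coeff_mul_monomial, if_neg h1,
          MvPowerSeries.coeff_mul_monomial, if_neg h2, MvPowerSeries.coeff_mul_monomial, if_neg h3,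
          add_zero, add_zero]
      constructor
      · intro i hi
        apply hcoef
        · rw [c2]; simp; omega
        · rw [c3]; simp; omega
        · rw [c1]; simp
      · intro j hj1 hj2
        apply hcoef
        · rw [c2]; simp; omega
        · rw [c3]; simp; omega
        · rw [c1]; simp
    · rintro ⟨h1, h2⟩
      let hh : MvPowerSeries (Fin 2) k := fun m => f (m + (Finsupp.single 0 1 + Finsupp.single 1 1))
      let f1 : MvPowerSeries (Fin 2) k := fun m => if m 1 = 0 then f (m + Finsupp.single 0 u) else 0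
      let g1 : MvPowerSeries (Fin 2) k := fun m => if m 0 = 0 then f (m + Finsupp.single 1 v) else 0
      have hdec : f = hh * (MvPowerSeries.X 0 * MvPowerSeries.X 1) + f1 * MvPowerSeries.X 0 ^ u +
          g1 * MvPowerSeries.X 1 ^ v := by
        ext m
        have t1 : Finsupp.single 0 1 + Finsupp.single 1 1 ≤ m →
            MvPowerSeries.coeff (m - (Finsupp.single 0 1 + Finsupp.single 1 1)) hh =
              MvPowerSeries.coeff m f := by
          intro h
          show f (m - (Finsupp.single 0 1 + Finsupp.single 1 1) + (Finsupp.single 0 1 + Finsupp.single 1 1)) = f m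
          rw [tsub_add_cancel_of_le h]
        have t2 : Finsupp.single 0 u ≤ m → MvPowerSeries.coeff (m - Finsupp.single 0 u) f1 =
            if m 1 = 0 then MvPowerSeries.coeff m f else 0 := by
          intro h
          show (if (m - Finsupp.single 0 u : Fin 2 →₀ ℕ) 1 = 0 then f (m - Finsupp.single 0 u + Finsupp.single 0 u) else 0) = _
          rw [tsub_add_cancel_of_le h]
          simp [Finsupp.tsub_apply, MvPowerSeries.coeff_apply]
        have t3 : Finsupp.single 1 v ≤ m → MvPowerSeries.coeff (m - Finsupp.single 1 v) g1 =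
            if m 0 = 0 then MvPowerSeries.coeff m f else 0 := by
          intro h
          show (if (m - Finsupp.single 1 v : Fin 2 →₀ ℕ) 0 = 0 then f (m - Finsupp.single 1 v + Finsupp.single 1 v) else 0) = _
          rw [tsub_add_cancel_of_le h]
          simp [Finsupp.tsub_apply, MvPowerSeries.coeff_apply]
        rw [map_add, map_add, hX0pow, hX1pow, hX01, MvPowerSeries.coeff_mul_monomial,
          MvPowerSeries.coeff_mul_monomial, MvPowerSeries.coeff_mul_monomial]
        simp only [mul_one]
        by_cases hA : Finsupp.single 0 1 + Finsupp.single 1 1 ≤ m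
        · rw [if_pos hA, t1 hA]
          obtain ⟨ha, hb⟩ := (c1 m).1 hA
          have z2 : (if Finsupp.single 0 u ≤ m then MvPowerSeries.coeff (m - Finsupp.single 0 u) f1 else 0) = 0 := by
            split_ifs with h
            · rw [t2 h, if_neg (by omega)]
            · rfl
          have z3 : (if Finsupp.single 1 v ≤ m then MvPowerSeries.coeff (m - Finsupp.single 1 v) g1 else 0) = 0 := by
            split_ifs with h
            · rw [t3 h, if_neg (by omega)]
            · rfl
          rw [z2, z3, add_zero, add_zero]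
        · rw [if_neg hA, zero_add]
          have hor : m 0 = 0 ∨ m 1 = 0 := by
            by_contra hcon
            push Not at hcon
            exact hA ((c1 m).2 ⟨by omega, by omega⟩)
          by_cases hb : m 1 = 0
          · have z3 : (if Finsupp.single 1 v ≤ m then MvPowerSeries.coeff (m - Finsupp.single 1 v) g1 else 0) = 0 :=
              if_neg (by rw [c3]; omega)
            rw [z3, add_zero]
            split_ifs with h
            · rw [t2 h, if_pos hb]
            · have hm : m = Finsupp.single 0 (m 0) := by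
                ext i
                fin_cases i <;> simp [hb]
              rw [hm]
              rw [c2] at h
              exact h1 _ (by omega)
          · have ha : m 0 = 0 := by tauto
            have z2 : (if Finsupp.single 0 u ≤ m then MvPowerSeries.coeff (m - Finsupp.single 0 u) f1 else 0) = 0 :=
              if_neg (by rw [c2]; omega)
            rw [z2, zero_add]
            split_ifs with h
            · rw [t3 h, if_pos ha]
            · have hm : m = Finsupp.single 1 (m 1) := by
                ext i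
                fin_cases i <;> simp [ha]
              rw [hm]
              rw [c3] at h
              exact h2 _ (by omega) (by omega)
      have hxy : Ideal.Quotient.mk I0 (MvPowerSeries.X 0 * MvPowerSeries.X 1) = 0 := by
        rw [Ideal.Quotient.eq_zero_iff_mem]
        have : (MvPowerSeries.X 0 * MvPowerSeries.X 1 : MvPowerSeries (Fin 2) k) =
            MvPowerSeries.X 0 * MvPowerSeries.X 1 - MvPowerSeries.C (0 : k) := by
          rw [map_zero, sub_zero]
        rw [this]
        exact Ideal.subset_span rfl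
      have hxu : Ideal.Quotient.mk J (SpinCurv.NodeRing.x k 0 ^ u) = 0 := by
        rw [Ideal.Quotient.eq_zero_iff_mem]
        exact Ideal.subset_span (by simp)
      have hyv : Ideal.Quotient.mk J (SpinCurv.NodeRing.y k 0 ^ v) = 0 := by
        rw [Ideal.Quotient.eq_zero_iff_mem]
        have hmem : algebraMap k (SpinCurv.NodeRing k 0) w * SpinCurv.NodeRing.y k 0 ^ v ∈ J :=
          Ideal.subset_span (by simp)
        have : SpinCurv.NodeRing.y k 0 ^ v = algebraMap k (SpinCurv.NodeRing k 0) w⁻¹ *
            (algebraMap k (SpinCurv.NodeRing k 0) w * SpinCurv.NodeRing.y k 0 ^ v) := by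
          rw [← mul_assoc, ← map_mul, inv_mul_cancel₀ hw, map_one, one_mul]
        rw [this]
        exact J.mul_mem_left _ hmem
      rw [hdec]
      have : Ideal.Quotient.mk I0 (hh * (MvPowerSeries.X 0 * MvPowerSeries.X 1) + f1 * MvPowerSeries.X 0 ^ u +
          g1 * MvPowerSeries.X 1 ^ v) =
          Ideal.Quotient.mk I0 f1 * SpinCurv.NodeRing.x k 0 ^ u +
            Ideal.Quotient.mk I0 g1 * SpinCurv.NodeRing.y k 0 ^ v := by
        rw [map_add, map_add, map_mul, hxy, mul_zero, zero_add, map_mul, map_mul, map_pow, map_pow]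
      rw [this, map_add, map_mul, map_mul, hxu, hyv]
      ring
  have e : (SpinCurv.NodeRing k 0 ⧸ J) ≃ₗ[k] (Fin u → k) × (Fin (v - 1) → k) :=
    (Pq.quotKerEquivOfSurjective hPqsurj).symm ≪≫ₗ (Submodule.quotEquivOfEq _ _ hker) ≪≫ₗ
      (ψ.quotKerEquivOfSurjective hψsurj)
  rw [LinearEquiv.finrank_eq e, Module.finrank_prod, Module.finrank_fin_fun, Module.finrank_fin_fun]
  omega

end Groth.Agent.S18434
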