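import Groth.Statements.S18435
import Mathlib
import Groth.Agent.Lib.Helper92.NodeBasis
-- import your own Groth.Agent.* helpers here

set_option autoImplicit false
universe u
open SpinCurv

namespace Groth.Agent.S18435

open Groth.Agent.Lib.Helper92.Node

/-- Let k be a field and A = k[x, y]/(xy) the node, with the two affine charts U = Spec k[s, y]/(sy) and
V = Spec k[t, x]/(tx) of the curve obtained by the (p, q)-construction with p = q = 0, glued along
k[s, s⁻¹] by t = s⁻¹ (y ↦ 0 from U, x ↦ 0 from V), and with A → O(U) given by x ↦ 0, y ↦ y and A →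
O(V) by x ↦ x, y ↦ 0. A global section of O(1) is a pair (g, f) with g = s f on U ∩ V. If such a
pair is annihilated by both x and y (acting through the two restriction maps), then g = 0 and f = 0;
so the module of global sections of O(1) has no nonzero element killed by the maximal ideal (x, y),
i.e. its direct image on the node is torsion-free there. All three coordinate rings are written as
the quotient of the polynomial ring in two variables by the product of the variables, and the four
restriction homomorphisms are k-algebra maps pinned by their values on generators. (The published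
proof reduces the torsion-freeness of the direct image of O(1), for general R, p, q, to exactly this
case of a field with p = q = 0.) -/
theorem result (k : Type u) [Field k]
    (rU : SpinCurv.PolyNodeRing k 0 →ₐ[k] SpinCurv.PolyNodeRing k 0)
    (hrUx : rU (SpinCurv.PolyNodeRing.x k 0) = 0)
    (hrUy : rU (SpinCurv.PolyNodeRing.y k 0) = SpinCurv.PolyNodeRing.y k 0)
    (rV : SpinCurv.PolyNodeRing k 0 →ₐ[k] SpinCurv.PolyNodeRing k 0)
    (hrVx : rV (SpinCurv.PolyNodeRing.x k 0) = SpinCurv.PolyNodeRing.y k 0)
    (hrVy : rV (SpinCurv.PolyNodeRing.y k 0) = 0)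
    (gU : SpinCurv.PolyNodeRing k 0 →ₐ[k] LaurentPolynomial k)
    (hgUs : gU (SpinCurv.PolyNodeRing.x k 0) = LaurentPolynomial.T 1)
    (hgUy : gU (SpinCurv.PolyNodeRing.y k 0) = 0)
    (gV : SpinCurv.PolyNodeRing k 0 →ₐ[k] LaurentPolynomial k)
    (hgVt : gV (SpinCurv.PolyNodeRing.x k 0) = LaurentPolynomial.T (-1))
    (hgVx : gV (SpinCurv.PolyNodeRing.y k 0) = 0)
    (g f : SpinCurv.PolyNodeRing k 0) (hsec : gU g = LaurentPolynomial.T 1 * gV f)
    (hx : rU (SpinCurv.PolyNodeRing.x k 0) * g = 0 ∧ rV (SpinCurv.PolyNodeRing.x k 0) * f = 0)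
    (hy : rU (SpinCurv.PolyNodeRing.y k 0) * g = 0 ∧ rV (SpinCurv.PolyNodeRing.y k 0) * f = 0) :
    g = 0 ∧ f = 0 := by
  classical
  have hyk : ∀ a : SpinCurv.PolyNodeRing k 0, SpinCurv.PolyNodeRing.y k 0 * a = 0 →
      ∀ m : ℤ, m ≤ 0 → Nbar k 0 a m = 0 := by
    intro a ha m hm
    have key : (Finsupp.lapply (m - 1)) ∘ₗ (Nbar k 0) ∘ₗ
        (LinearMap.mulLeft k (SpinCurv.PolyNodeRing.y k 0)) =
        (Finsupp.lapply m) ∘ₗ (Nbar k 0) := by
      apply lhom_ext
      intro j
      simp only [LinearMap.comp_apply, LinearMap.mulLeft_apply, Finsupp.lapply_apply]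
      rw [y_mul_e, Nbar_e]
      split_ifs with hj
      · rw [Nbar_e, Finsupp.single_apply, Finsupp.single_apply]
        congr 1
        rw [eq_iff_iff]
        constructor <;> intro h <;> omega
      · rw [zero_smul, map_zero, Finsupp.zero_apply, Finsupp.single_apply, if_neg (by omega)]
    have := LinearMap.congr_fun key a
    simp only [LinearMap.comp_apply, LinearMap.mulLeft_apply, Finsupp.lapply_apply] at this
    rw [← this, ha, map_zero, Finsupp.zero_apply]
  have hU : ∀ (a : SpinCurv.PolyNodeRing k 0) (j : ℤ),
      cL k j (gU a) = if 0 ≤ j then Nbar k 0 a j else 0 := by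
    intro a j
    have key : (cL k j) ∘ₗ gU.toLinearMap =
        (if 0 ≤ j then (Finsupp.lapply j) ∘ₗ (Nbar k 0) else 0) := by
      apply lhom_ext
      intro m
      rw [LinearMap.comp_apply, AlgHom.toLinearMap_apply]
      by_cases hm : 0 ≤ m
      · rw [e_nonneg k 0 hm, map_pow, hgUs, LaurentPolynomial.T_pow, mul_one, cL_T,
          Int.toNat_of_nonneg hm, ← e_nonneg k 0 hm]
        split_ifs with h1 h2 h2
        · simp [Nbar_e, h1]
        · omega
        · simp [Nbar_e, h1]
        · rfl
      · push Not at hm
        rw [e_neg k 0 hm, map_pow, hgUy, zero_pow (by omega), map_zero, ← e_neg k 0 hm]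
        split_ifs with h2
        · simp only [LinearMap.comp_apply, Finsupp.lapply_apply, Nbar_e, Finsupp.single_apply]
          rw [if_neg (by omega)]
        · rfl
    have := LinearMap.congr_fun key a
    rw [LinearMap.comp_apply, AlgHom.toLinearMap_apply] at this
    rw [this]
    split_ifs <;> rfl
  have hV : ∀ (a : SpinCurv.PolyNodeRing k 0) (j : ℤ),
      cL k j (gV a) = if j ≤ 0 then Nbar k 0 a (-j) else 0 := by
    intro a j
    have key : (cL k j) ∘ₗ gV.toLinearMap =
        (if j ≤ 0 then (Finsupp.lapply (-j)) ∘ₗ (Nbar k 0) else 0) := by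
      apply lhom_ext
      intro m
      rw [LinearMap.comp_apply, AlgHom.toLinearMap_apply]
      by_cases hm : 0 ≤ m
      · rw [e_nonneg k 0 hm, map_pow, hgVt, LaurentPolynomial.T_pow, cL_T,
          Int.toNat_of_nonneg hm, ← e_nonneg k 0 hm]
        split_ifs with h1 h2 h2
        · simp only [LinearMap.comp_apply, Finsupp.lapply_apply, Nbar_e, Finsupp.single_apply]
          rw [if_pos (by omega)]
        · omega
        · simp only [LinearMap.comp_apply, Finsupp.lapply_apply, Nbar_e, Finsupp.single_apply]
          rw [if_neg (by omega)]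
        · rfl
      · push Not at hm
        rw [e_neg k 0 hm, map_pow, hgVx, zero_pow (by omega), map_zero, ← e_neg k 0 hm]
        split_ifs with h2
        · simp only [LinearMap.comp_apply, Finsupp.lapply_apply, Nbar_e, Finsupp.single_apply]
          rw [if_neg (by omega)]
        · rfl
    have := LinearMap.congr_fun key a
    rw [LinearMap.comp_apply, AlgHom.toLinearMap_apply] at this
    rw [this]
    split_ifs <;> rfl
  have hyg : SpinCurv.PolyNodeRing.y k 0 * g = 0 := by rw [← hrUy]; exact hy.1
  have hyf : SpinCurv.PolyNodeRing.y k 0 * f = 0 := by rw [← hrVx]; exact hx.2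
  have hc := hyk g hyg
  have hd := hyk f hyf
  have hcmp : ∀ j : ℤ, (if 0 ≤ j then Nbar k 0 g j else 0) =
      (if j - 1 ≤ 0 then Nbar k 0 f (-(j - 1)) else 0) := by
    intro j
    rw [← hU, ← hV, hsec, cL_T_mul]
  constructor
  · apply Nbar_injective k 0
    refine Eq.trans ?_ (LinearMap.map_zero (Nbar k 0)).symm
    ext m
    rw [Finsupp.zero_apply]
    by_cases hm : m ≤ 0
    · exact hc m hm
    · have := hcmp m
      rw [if_pos (show 0 ≤ m by omega)] at this
      rw [this]
      split_ifs with h
      · exact hd _ (by omega)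
      · rfl
  · apply Nbar_injective k 0
    refine Eq.trans ?_ (LinearMap.map_zero (Nbar k 0)).symm
    ext m
    rw [Finsupp.zero_apply]
    by_cases hm : m ≤ 0
    · exact hd m hm
    · have := hcmp (1 - m)
      rw [if_pos (show 1 - m - 1 ≤ 0 by omega)] at this
      have e1 : -(1 - m - 1) = m := by ring
      rw [e1] at this
      rw [← this]
      split_ifs with h
      · exact hc _ (by omega)
      · rfl

end Groth.Agent.S18435
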