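import Groth.Statements.S18436
import Mathlib
import Groth.Agent.Lib.Helper92.NodeBasis
-- import your own Groth.Agent.* helpers here

set_option autoImplicit false
universe u
open SpinCurv

namespace Groth.Agent.S18436

open Groth.Agent.Lib.Helper92.Node SpinCurv in
theorem r36 (R : Type u) [CommRing R] (p q : R)
    (gU : SpinCurv.PolyNodeRing R q →ₐ[R] LaurentPolynomial R)
    (hgUs : gU (SpinCurv.PolyNodeRing.x R q) = LaurentPolynomial.T 1)
    (hgUy : gU (SpinCurv.PolyNodeRing.y R q) = LaurentPolynomial.C q * LaurentPolynomial.T (-1))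
    (gV : SpinCurv.PolyNodeRing R p →ₐ[R] LaurentPolynomial R)
    (hgVt : gV (SpinCurv.PolyNodeRing.x R p) = LaurentPolynomial.T (-1))
    (hgVx : gV (SpinCurv.PolyNodeRing.y R p) = LaurentPolynomial.C p * LaurentPolynomial.T 1)
    (n : ℤ) (hn : -1 ≤ n) :
    Module.Free R (LinearMap.ker
      (gU.toLinearMap.comp (LinearMap.fst R (SpinCurv.PolyNodeRing R q) (SpinCurv.PolyNodeRing R p)) -
        (LinearMap.mulLeft R (LaurentPolynomial.T n)).comp
          (gV.toLinearMap.comp (LinearMap.snd R (SpinCurv.PolyNodeRing R q) (SpinCurv.PolyNodeRing R p))))) := by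
  classical
  set Λ : SpinCurv.PolyNodeRing R q × SpinCurv.PolyNodeRing R p →ₗ[R] LaurentPolynomial R :=
    gU.toLinearMap.comp (LinearMap.fst R _ _) -
      (LinearMap.mulLeft R (LaurentPolynomial.T n)).comp (gV.toLinearMap.comp (LinearMap.snd R _ _))
    with hΛ
  have hΛ1 : ∀ j : ℤ, Λ (e R q j, 0) = LaurentPolynomial.C (wt R q j) * LaurentPolynomial.T j := by
    intro j
    simp only [hΛ, LinearMap.sub_apply, LinearMap.comp_apply, LinearMap.fst_apply,
      LinearMap.snd_apply, AlgHom.toLinearMap_apply, map_zero, sub_zero]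
    exact algHom_e_pos R q gU hgUs hgUy j
  have hΛ2 : ∀ m : ℤ, Λ (0, e R p m) =
      -(LaurentPolynomial.C (wt R p m) * LaurentPolynomial.T (n - m)) := by
    intro m
    simp only [hΛ, LinearMap.sub_apply, LinearMap.comp_apply, LinearMap.fst_apply,
      LinearMap.snd_apply, AlgHom.toLinearMap_apply, map_zero, zero_sub, LinearMap.mulLeft_apply]
    rw [algHom_e_neg R p gV hgVt hgVx m, mul_left_comm, ← LaurentPolynomial.T_add]
    rfl
  -- the maps
  let v : ℤ → SpinCurv.PolyNodeRing R q × SpinCurv.PolyNodeRing R p := fun j =>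
    if 0 ≤ j then (wt R p (n - j) • e R q j, e R p (n - j)) else (e R q j, wt R q j • e R p (n - j))
  let Ψ : (ℤ →₀ R) →ₗ[R] SpinCurv.PolyNodeRing R q × SpinCurv.PolyNodeRing R p :=
    Finsupp.linearCombination R v
  have hΨ : ∀ j, Ψ (Finsupp.single j 1) = v j := by
    intro j
    simp [Ψ]
  let Θ₁ : SpinCurv.PolyNodeRing R q →ₗ[R] (ℤ →₀ R) :=
    (nodeBasis R q).constr R (fun j => if j < 0 then Finsupp.single j 1 else 0)
  let Θ₂ : SpinCurv.PolyNodeRing R p →ₗ[R] (ℤ →₀ R) :=
    (nodeBasis R p).constr R (fun m => if 0 ≤ n - m then Finsupp.single (n - m) 1 else 0)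
  have hΘ₁ : ∀ j, Θ₁ (e R q j) = if j < 0 then Finsupp.single j 1 else 0 := by
    intro j
    rw [← nodeBasis_apply, Module.Basis.constr_basis]
  have hΘ₂ : ∀ m, Θ₂ (e R p m) = if 0 ≤ n - m then Finsupp.single (n - m) 1 else 0 := by
    intro m
    rw [← nodeBasis_apply, Module.Basis.constr_basis]
  let Θ : SpinCurv.PolyNodeRing R q × SpinCurv.PolyNodeRing R p →ₗ[R] (ℤ →₀ R) :=
    Θ₁.coprod Θ₂
  let w : ℤ → SpinCurv.PolyNodeRing R q × SpinCurv.PolyNodeRing R p := fun j =>
    if 0 ≤ j then (e R q j, 0) else (0, -e R p (n - j))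
  let Γ : LaurentPolynomial R →ₗ[R] SpinCurv.PolyNodeRing R q × SpinCurv.PolyNodeRing R p :=
    (Finsupp.linearCombination R w) ∘ₗ (AddMonoidAlgebra.coeffLinearEquiv R).toLinearMap
  have hΓ : ∀ (r : R) (j : ℤ), Γ (LaurentPolynomial.C r * LaurentPolynomial.T j) = r • w j := by
    intro r j
    rw [← LaurentPolynomial.single_eq_C_mul_T]
    show Finsupp.linearCombination R w ((AddMonoidAlgebra.single j r : LaurentPolynomial R).coeff) = _
    rw [AddMonoidAlgebra.coeff_single, Finsupp.linearCombination_single]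
  -- Λ ∘ Ψ = 0
  have h1 : Λ ∘ₗ Ψ = 0 := by
    apply Finsupp.lhom_ext
    intro j r
    have : Finsupp.single j r = r • Finsupp.single j (1 : R) := by
      rw [Finsupp.smul_single, smul_eq_mul, mul_one]
    rw [this, map_smul, LinearMap.comp_apply, hΨ, LinearMap.zero_apply]
    have hv : Λ (v j) = 0 := by
      simp only [v]
      split_ifs with hj
      · have e1 : (wt R p (n - j) • e R q j, e R p (n - j)) =
            wt R p (n - j) • (e R q j, (0 : SpinCurv.PolyNodeRing R p)) + ((0 : SpinCurv.PolyNodeRing R q), e R p (n - j)) := by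
          simp
        rw [e1, map_add, map_smul, hΛ1, hΛ2, wt_nonneg R q hj, sub_sub_cancel, map_one, one_mul,
          LaurentPolynomial.smul_eq_C_mul, add_neg_cancel]
      · push Not at hj
        have e1 : (e R q j, wt R q j • e R p (n - j)) =
            (e R q j, (0 : SpinCurv.PolyNodeRing R p)) + wt R q j • ((0 : SpinCurv.PolyNodeRing R q), e R p (n - j)) := by
          simp
        rw [e1, map_add, map_smul, hΛ1, hΛ2, wt_nonneg R p (show 0 ≤ n - j by omega), sub_sub_cancel,
          map_one, one_mul, LaurentPolynomial.smul_eq_C_mul, mul_neg, mul_comm, add_neg_cancel]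
    rw [hv, smul_zero]
  -- Θ ∘ Ψ = id
  have h2 : Θ ∘ₗ Ψ = LinearMap.id := by
    apply Finsupp.lhom_ext
    intro j r
    have : Finsupp.single j r = r • Finsupp.single j (1 : R) := by
      rw [Finsupp.smul_single, smul_eq_mul, mul_one]
    rw [this, map_smul, LinearMap.comp_apply, hΨ, LinearMap.id_apply]
    congr 1
    simp only [v, Θ]
    split_ifs with hj
    · rw [LinearMap.coprod_apply, map_smul, hΘ₁, hΘ₂, if_neg (by omega), smul_zero, zero_add,
        if_pos (by omega), sub_sub_cancel]
    · rw [LinearMap.coprod_apply, map_smul, hΘ₁, hΘ₂, if_pos (by omega), sub_sub_cancel,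
        if_neg hj, smul_zero, add_zero]
  -- Ψ ∘ Θ + Γ ∘ Λ = id
  have h3 : Ψ ∘ₗ Θ + Γ ∘ₗ Λ = LinearMap.id := by
    apply LinearMap.prod_ext
    · apply lhom_ext
      intro j
      simp only [LinearMap.comp_apply, LinearMap.add_apply, LinearMap.inl_apply, LinearMap.id_apply]
      rw [hΛ1, hΓ]
      simp only [Θ]
      rw [LinearMap.coprod_apply, map_zero, add_zero, hΘ₁]
      by_cases hj : 0 ≤ j
      · rw [if_neg (by omega), map_zero, zero_add, wt_nonneg R q hj, one_smul]
        simp only [w]
        rw [if_pos hj]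
      · rw [if_pos (by omega), hΨ]
        simp only [v, w]
        rw [if_neg hj, if_neg hj]
        simp
    · apply lhom_ext
      intro m
      simp only [LinearMap.comp_apply, LinearMap.add_apply, LinearMap.inr_apply, LinearMap.id_apply]
      rw [hΛ2, map_neg, hΓ]
      simp only [Θ]
      rw [LinearMap.coprod_apply, map_zero, zero_add, hΘ₂]
      by_cases hj : 0 ≤ n - m
      · rw [if_pos hj, hΨ]
        simp only [v, w]
        rw [if_pos hj, if_pos hj, sub_sub_cancel]
        simp
      · rw [if_neg hj, map_zero, zero_add]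
        simp only [w]
        rw [if_neg hj, sub_sub_cancel, wt_nonneg R p (show 0 ≤ m by omega)]
        simp
  -- the equivalence
  have hmem : ∀ c, Ψ c ∈ LinearMap.ker Λ := by
    intro c
    rw [LinearMap.mem_ker]
    exact LinearMap.congr_fun h1 c
  let Ψ' : (ℤ →₀ R) →ₗ[R] LinearMap.ker Λ := Ψ.codRestrict _ hmem
  let Θ' : LinearMap.ker Λ →ₗ[R] (ℤ →₀ R) := Θ ∘ₗ (LinearMap.ker Λ).subtype
  have e : (ℤ →₀ R) ≃ₗ[R] LinearMap.ker Λ := by
    refine LinearEquiv.ofLinearMap Ψ' Θ' ?_ ?_
    · apply LinearMap.ext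
      intro k
      apply Subtype.ext
      show Ψ (Θ k.1) = k.1
      have := LinearMap.congr_fun h3 k.1
      simp only [LinearMap.add_apply, LinearMap.comp_apply, LinearMap.id_apply] at this
      rw [LinearMap.mem_ker.1 k.2, map_zero, add_zero] at this
      exact this
    · apply LinearMap.ext
      intro c
      exact LinearMap.congr_fun h2 c
  exact Module.Free.of_equiv e

/-- Let R be a commutative ring and p, q ∈ R, and consider the two affine charts U = Spec R[s, y]/(sy -
q) and V = Spec R[t, x]/(xt - p) of the curve obtained from the node xy = pq by the (p,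
q)-construction, glued along R[s, s⁻¹] by t = s⁻¹ (so y = q s⁻¹ on U and x = p s on V). For an
integer n ≥ -1 the global sections of the twisting sheaf O(n) (equal to vⁿ O on U and to ξⁿ O on V,
ξ = s v) are the pairs (g, f) of functions on U and V with g = sⁿ f on U ∩ V. This R-module, written
as the kernel of the R-linear map (g, f) ↦ g|_{U ∩ V} - sⁿ · f|_{U ∩ V} into R[s, s⁻¹], is free over
R (hence the direct image of O(n) on the node is flat over R). Both chart rings are written as the
quotient of the polynomial ring in two variables by (first variable)·(second variable) - constant,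
and the two restriction homomorphisms to R[s, s⁻¹] are R-algebra maps pinned by their values on
generators. (The published setting has R complete local and p, q in the maximal ideal; the printed
computation uses neither.) -/
theorem result (R : Type u) [CommRing R] (p q : R)
    (gU : SpinCurv.PolyNodeRing R q →ₐ[R] LaurentPolynomial R)
    (hgUs : gU (SpinCurv.PolyNodeRing.x R q) = LaurentPolynomial.T 1)
    (hgUy : gU (SpinCurv.PolyNodeRing.y R q) = LaurentPolynomial.C q * LaurentPolynomial.T (-1))
    (gV : SpinCurv.PolyNodeRing R p →ₐ[R] LaurentPolynomial R)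
    (hgVt : gV (SpinCurv.PolyNodeRing.x R p) = LaurentPolynomial.T (-1))
    (hgVx : gV (SpinCurv.PolyNodeRing.y R p) = LaurentPolynomial.C p * LaurentPolynomial.T 1)
    (n : ℤ) (hn : -1 ≤ n) :
    Module.Free R (LinearMap.ker
      (gU.toLinearMap.comp (LinearMap.fst R (SpinCurv.PolyNodeRing R q) (SpinCurv.PolyNodeRing R p)) -
        (LinearMap.mulLeft R (LaurentPolynomial.T n)).comp
          (gV.toLinearMap.comp (LinearMap.snd R (SpinCurv.PolyNodeRing R q) (SpinCurv.PolyNodeRing R p))))) := by
  exact r36 R p q gU hgUs hgUy gV hgVt hgVx n hn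

end Groth.Agent.S18436
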