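import Groth.Statements.S18437
import Mathlib
import Groth.Agent.Lib.Helper92.NodeBasis
import Groth.Agent.Lib.Helper92.NodeTwist
-- import your own Groth.Agent.* helpers here

set_option autoImplicit false
universe u
open SpinCurv

namespace Groth.Agent.S18437

open Groth.Agent.Lib.Helper92.Node SpinCurv

section aux

variable {R : Type u} [CommRing R] (π : R)

theorem e_natCast (k : ℕ) : e R π (k : ℤ) = PolyNodeRing.x R π ^ k := by
  rw [e_nonneg R π (by omega)]
  congr 1

theorem e_neg_natCast (k : ℕ) : e R π (-(k : ℤ)) = PolyNodeRing.y R π ^ k := by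
  rcases Nat.eq_zero_or_pos k with h | h
  · subst h
    simp [e_zero]
  · rw [e_neg R π (by omega)]
    congr 1
    omega

theorem wt_neg_natCast (k : ℕ) : wt R π (-(k : ℤ)) = π ^ k := by
  rcases Nat.eq_zero_or_pos k with h | h
  · subst h
    simp [wt]
  · rw [wt_neg R π (by omega)]
    congr 1
    omega

theorem y_mul_x : PolyNodeRing.y R π * PolyNodeRing.x R π = algebraMap R _ π := by
  rw [mul_comm, x_mul_y]

end aux

section main

variable {R : Type u} [CommRing R] {p q : R}
    (rU : SpinCurv.PolyNodeRing R (p * q) →ₐ[R] SpinCurv.PolyNodeRing R q)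
    (rV : SpinCurv.PolyNodeRing R (p * q) →ₐ[R] SpinCurv.PolyNodeRing R p)
    (n : ℕ)

/-- the map `Φ` as an `R`-linear map -/
noncomputable def PhiL :
    (Fin (n + 1) → SpinCurv.PolyNodeRing R (p * q)) →ₗ[R]
      SpinCurv.PolyNodeRing R q × SpinCurv.PolyNodeRing R p :=
  LinearMap.prod
    (∑ i : Fin (n + 1), (LinearMap.mulRight R (SpinCurv.PolyNodeRing.x R q ^ (n - (i : ℕ)))) ∘ₗ
      rU.toLinearMap ∘ₗ (LinearMap.proj i))
    (∑ i : Fin (n + 1), (LinearMap.mulRight R (SpinCurv.PolyNodeRing.x R p ^ (i : ℕ))) ∘ₗ
      rV.toLinearMap ∘ₗ (LinearMap.proj i))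

theorem PhiL_apply (F : Fin (n + 1) → SpinCurv.PolyNodeRing R (p * q)) :
    PhiL rU rV n F =
      (∑ i : Fin (n + 1), rU (F i) * SpinCurv.PolyNodeRing.x R q ^ (n - (i : ℕ)),
       ∑ i : Fin (n + 1), rV (F i) * SpinCurv.PolyNodeRing.x R p ^ (i : ℕ)) := by
  simp [PhiL]

theorem PhiL_smul (a : SpinCurv.PolyNodeRing R (p * q))
    (F : Fin (n + 1) → SpinCurv.PolyNodeRing R (p * q)) :
    PhiL rU rV n (a • F) = (rU a * (PhiL rU rV n F).1, rV a * (PhiL rU rV n F).2) := by
  rw [PhiL_apply, PhiL_apply]
  simp only [Pi.smul_apply, smul_eq_mul, map_mul, Finset.mul_sum, mul_assoc]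

theorem PhiL_single (i : Fin (n + 1)) (a : SpinCurv.PolyNodeRing R (p * q)) :
    PhiL rU rV n (Pi.single i a) =
      (rU a * SpinCurv.PolyNodeRing.x R q ^ (n - (i : ℕ)),
       rV a * SpinCurv.PolyNodeRing.x R p ^ (i : ℕ)) := by
  rw [PhiL_apply]
  congr 1
  · rw [Finset.sum_eq_single i]
    · rw [Pi.single_eq_same]
    · intro j _ hj
      rw [Pi.single_eq_of_ne hj, map_zero, zero_mul]
    · intro h
      exact absurd (Finset.mem_univ i) h
  · rw [Finset.sum_eq_single i]
    · rw [Pi.single_eq_same]
    · intro j _ hj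
      rw [Pi.single_eq_of_ne hj, map_zero, zero_mul]
    · intro h
      exact absurd (Finset.mem_univ i) h

end main

section main2

variable {R : Type u} [CommRing R] {p q : R}
    (rU : SpinCurv.PolyNodeRing R (p * q) →ₐ[R] SpinCurv.PolyNodeRing R q)
    (hrUx : rU (SpinCurv.PolyNodeRing.x R (p * q)) = algebraMap R _ p * SpinCurv.PolyNodeRing.x R q)
    (hrUy : rU (SpinCurv.PolyNodeRing.y R (p * q)) = SpinCurv.PolyNodeRing.y R q)
    (rV : SpinCurv.PolyNodeRing R (p * q) →ₐ[R] SpinCurv.PolyNodeRing R p)
    (hrVx : rV (SpinCurv.PolyNodeRing.x R (p * q)) = SpinCurv.PolyNodeRing.y R p)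
    (hrVy : rV (SpinCurv.PolyNodeRing.y R (p * q)) = algebraMap R _ q * SpinCurv.PolyNodeRing.x R p)
    (n : ℕ)

include hrUx hrUy hrVx hrVy in
theorem PhiL_core (j c : ℤ) (i : Fin (n + 1)) (hc : c = max 0 (min j n)) (hi : ((i : ℕ) : ℤ) = n - c) :
    PhiL rU rV n (Pi.single i (e R (p * q) (j - c))) = vfam R p q n j := by
  rw [PhiL_single, vfam]
  rcases lt_or_ge (n : ℤ) j with h1 | h1
  · -- n < j
    obtain ⟨k, hk⟩ : ∃ k : ℕ, j = n + k := ⟨(j - n).toNat, by omega⟩
    have hi0 : (i : ℕ) = 0 := by omega
    have hd : j - c = (k : ℤ) := by omega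
    have hnj : (n : ℤ) - j = -(k : ℤ) := by omega
    have hj : j = ((n + k : ℕ) : ℤ) := by push_cast; omega
    rw [if_pos (by omega), hi0, hd, e_natCast, map_pow, map_pow, hrUx, hrVx, hnj, wt_neg_natCast,
      e_neg_natCast, hj, e_natCast, smul_eq', map_pow, pow_zero, mul_one, Nat.sub_zero]
    congr 1
    ring
  · rcases lt_or_ge j 0 with h2 | h2
    · -- j < 0
      obtain ⟨k, hk⟩ : ∃ k : ℕ, j = -(k : ℤ) := ⟨(-j).toNat, by omega⟩
      have hin : (i : ℕ) = n := by omega
      have hd : j - c = -(k : ℤ) := by omega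
      have hnj : (n : ℤ) - j = ((n + k : ℕ) : ℤ) := by push_cast; omega
      rw [if_neg (by omega), hin, hd, e_neg_natCast, map_pow, map_pow, hrUy, hrVy, hnj, e_natCast,
        hk, wt_neg_natCast, e_neg_natCast, smul_eq', map_pow, Nat.sub_self, pow_zero, mul_one]
      congr 1
      ring
    · -- 0 ≤ j ≤ n
      have hd : j - c = 0 := by omega
      have h3 : n - (i : ℕ) = j.toNat := by omega
      have h4 : (i : ℕ) = ((n : ℤ) - j).toNat := by omega
      rw [if_pos h2, hd, e_zero, map_one, map_one, one_mul, one_mul, wt_nonneg R p (by omega),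
        one_smul, e_nonneg R q h2, e_nonneg R p (by omega), h3, ← h4]

/-- canonical generators -/
noncomputable def G (p q : R) (n : ℕ) (j : ℤ) : Fin (n + 1) → SpinCurv.PolyNodeRing R (p * q) :=
  Pi.single ⟨((n : ℤ) - max 0 (min j n)).toNat, by omega⟩ (e R (p * q) (j - max 0 (min j n)))

include hrUx hrUy hrVx hrVy in
theorem PhiL_G (j : ℤ) : PhiL rU rV n (G p q n j) = vfam R p q n j := by
  rw [G]
  apply PhiL_core rU hrUx hrUy rV hrVx hrVy n j _ _ rfl
  show ((((n : ℤ) - max 0 (min j n)).toNat : ℕ) : ℤ) = _
  omega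

end main2

section main3

variable {R : Type u} [CommRing R]

theorem G_eq (p q : R) (n : ℕ) (j : ℤ) (i : Fin (n + 1)) (a : SpinCurv.PolyNodeRing R (p * q))
    (hi : ((i : ℕ) : ℤ) = n - max 0 (min j n))
    (ha : e R (p * q) (j - max 0 (min j n)) = a) : G p q n j = Pi.single i a := by
  subst ha
  rw [G]
  congr 1
  apply Fin.ext
  show ((n : ℤ) - max 0 (min j n)).toNat = (i : ℕ)
  omega

end main3

/-- Let R be a commutative ring and p, q ∈ R; put A = R[x, y]/(xy - pq) and consider the two affine
charts U = Spec R[s, y]/(sy - q) and V = Spec R[t, x]/(xt - p) of the curve obtained from Spec A by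
blowing up as in the (p, q)-construction, glued along R[s, s⁻¹] by t = s⁻¹ (so y = q s⁻¹ on U and x
= p s on V), with the projection to Spec A given by x ↦ p s, y ↦ y on U and x ↦ x, y ↦ q t on V. For
n ≥ 0 the twisting sheaf O(n) is vⁿ O on U and ξⁿ O on V with ξ = s v, so its global sections are
the pairs (g, f) of functions on U and V with g = sⁿ f on U ∩ V. Then the map A^{n+1} → O(U) × O(V)
sending (F_0, …, F_n), i.e. the section Σ F_i ξ^{n-i} v^i, to (Σ F_i|_U s^{n-i}, Σ F_i|_V t^i) has
image exactly the set of such pairs, and F is sent to zero exactly when it lies in the A-submodule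
of A^{n+1} generated by the vectors p e_i - x e_{i+1} and y e_i - q e_{i+1} for 0 ≤ i < n (e_0, …,
e_n the standard basis). So the global sections of O(n) form the degree-n piece of A[ξ, v]/(p ξ - x
v, q v - y ξ). For n = 0 this says that a ↦ (a|_U, a|_V) is injective on A with image the pairs of
functions that agree on U ∩ V, so that the functions on the blown-up curve are exactly the functions
on Spec A (the direct image of its structure sheaf is the structure sheaf of Spec A); for n = 1 it
presents the global sections of O(1) as A ξ ⊕ A v modulo the relations p ξ = x v and y ξ = q v. Here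
R[s, y]/(sy - q) and R[t, x]/(xt - p) are both written as the quotient of the polynomial ring in two
variables by (first variable)·(second variable) - constant, the homomorphisms rU, rV are the
restriction maps from A to the two charts and gU, gV the restriction maps from the charts to their
intersection R[s, s⁻¹] (Laurent polynomials), each pinned by its values on the two generators. (The
published setting has R complete local and p, q in the maximal ideal, and reduces to this polynomial
computation, which uses neither.) -/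
theorem result (R : Type u) [CommRing R] (p q : R)
    (rU : SpinCurv.PolyNodeRing R (p * q) →ₐ[R] SpinCurv.PolyNodeRing R q)
    (hrUx : rU (SpinCurv.PolyNodeRing.x R (p * q)) = algebraMap R _ p * SpinCurv.PolyNodeRing.x R q)
    (hrUy : rU (SpinCurv.PolyNodeRing.y R (p * q)) = SpinCurv.PolyNodeRing.y R q)
    (rV : SpinCurv.PolyNodeRing R (p * q) →ₐ[R] SpinCurv.PolyNodeRing R p)
    (hrVx : rV (SpinCurv.PolyNodeRing.x R (p * q)) = SpinCurv.PolyNodeRing.y R p)
    (hrVy : rV (SpinCurv.PolyNodeRing.y R (p * q)) = algebraMap R _ q * SpinCurv.PolyNodeRing.x R p)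
    (gU : SpinCurv.PolyNodeRing R q →ₐ[R] LaurentPolynomial R)
    (hgUs : gU (SpinCurv.PolyNodeRing.x R q) = LaurentPolynomial.T 1)
    (hgUy : gU (SpinCurv.PolyNodeRing.y R q) = LaurentPolynomial.C q * LaurentPolynomial.T (-1))
    (gV : SpinCurv.PolyNodeRing R p →ₐ[R] LaurentPolynomial R)
    (hgVt : gV (SpinCurv.PolyNodeRing.x R p) = LaurentPolynomial.T (-1))
    (hgVx : gV (SpinCurv.PolyNodeRing.y R p) = LaurentPolynomial.C p * LaurentPolynomial.T 1) (n : ℕ) :
    Set.range (fun F : Fin (n + 1) → SpinCurv.PolyNodeRing R (p * q) =>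
        (∑ i : Fin (n + 1), rU (F i) * SpinCurv.PolyNodeRing.x R q ^ (n - (i : ℕ)),
         ∑ i : Fin (n + 1), rV (F i) * SpinCurv.PolyNodeRing.x R p ^ (i : ℕ))) =
      {gf : SpinCurv.PolyNodeRing R q × SpinCurv.PolyNodeRing R p |
        gU gf.1 = LaurentPolynomial.T (n : ℤ) * gV gf.2} ∧
    {F : Fin (n + 1) → SpinCurv.PolyNodeRing R (p * q) |
        (∑ i : Fin (n + 1), rU (F i) * SpinCurv.PolyNodeRing.x R q ^ (n - (i : ℕ)),
         ∑ i : Fin (n + 1), rV (F i) * SpinCurv.PolyNodeRing.x R p ^ (i : ℕ)) = 0} =
      (Submodule.span (SpinCurv.PolyNodeRing R (p * q))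
        (Set.range (fun i : Fin n =>
            (Pi.single (Fin.castSucc i) (algebraMap R (SpinCurv.PolyNodeRing R (p * q)) p) -
              Pi.single (Fin.succ i) (SpinCurv.PolyNodeRing.x R (p * q)) : Fin (n + 1) → SpinCurv.PolyNodeRing R (p * q))) ∪
         Set.range (fun i : Fin n =>
            (Pi.single (Fin.castSucc i) (SpinCurv.PolyNodeRing.y R (p * q)) -
              Pi.single (Fin.succ i) (algebraMap R (SpinCurv.PolyNodeRing R (p * q)) q) : Fin (n + 1) → SpinCurv.PolyNodeRing R (p * q)))) :
        Set (Fin (n + 1) → SpinCurv.PolyNodeRing R (p * q))) := by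
  classical
  have hcomp : ∀ a, gU (rU a) = gV (rV a) := by
    have : gU.comp rU = gV.comp rV := by
      apply Ideal.Quotient.algHom_ext
      apply MvPolynomial.algHom_ext
      intro i
      fin_cases i
      · show gU (rU (SpinCurv.PolyNodeRing.x R (p * q))) = gV (rV (SpinCurv.PolyNodeRing.x R (p * q)))
        rw [hrUx, hrVx, map_mul, hgUs, hgVx, AlgHom.commutes]
        rfl
      · show gU (rU (SpinCurv.PolyNodeRing.y R (p * q))) = gV (rV (SpinCurv.PolyNodeRing.y R (p * q)))
        rw [hrUy, hrVy, map_mul, hgUy, hgVt, AlgHom.commutes]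
        rfl
    intro a
    exact AlgHom.congr_fun this a
  have hΦ : ∀ F : Fin (n + 1) → SpinCurv.PolyNodeRing R (p * q),
      (∑ i : Fin (n + 1), rU (F i) * SpinCurv.PolyNodeRing.x R q ^ (n - (i : ℕ)),
        ∑ i : Fin (n + 1), rV (F i) * SpinCurv.PolyNodeRing.x R p ^ (i : ℕ)) = PhiL rU rV n F :=
    fun F => (PhiL_apply rU rV n F).symm
  have hTS := twist_sections R p q gU hgUs hgUy gV hgVt hgVx (n : ℤ) (by omega)
  have hPG : (PhiL rU rV n) ∘ (G p q n) = vfam R p q (n : ℤ) := by
    funext j
    exact PhiL_G rU hrUx hrUy rV hrVx hrVy n j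
  constructor
  · ext ⟨g, f⟩
    simp only [Set.mem_range, Set.mem_ofPred_eq]
    constructor
    · rintro ⟨F, hF⟩
      rw [Prod.mk.injEq] at hF
      obtain ⟨rfl, rfl⟩ := hF
      rw [map_sum, map_sum, Finset.mul_sum]
      apply Finset.sum_congr rfl
      intro i _
      rw [map_mul gU, map_mul gV, map_pow gU, map_pow gV, hgUs, hgVt, hcomp, LaurentPolynomial.T_pow,
        LaurentPolynomial.T_pow, mul_left_comm, ← LaurentPolynomial.T_add]
      congr 2
      have := i.2
      rw [Nat.cast_sub (by omega)]
      ring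
    · intro hgf
      obtain ⟨c, hc⟩ := hTS.1 g f hgf
      refine ⟨Finsupp.linearCombination R (G p q n) c, ?_⟩
      rw [hΦ, Finsupp.apply_linearCombination, hPG, hc]
  · set M : Submodule (SpinCurv.PolyNodeRing R (p * q)) (Fin (n + 1) → SpinCurv.PolyNodeRing R (p * q)) := Submodule.span (SpinCurv.PolyNodeRing R (p * q))
      (Set.range (fun i : Fin n =>
            (Pi.single (Fin.castSucc i) (algebraMap R (SpinCurv.PolyNodeRing R (p * q)) p) -
              Pi.single (Fin.succ i) (SpinCurv.PolyNodeRing.x R (p * q)) : Fin (n + 1) → SpinCurv.PolyNodeRing R (p * q))) ∪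
         Set.range (fun i : Fin n =>
            (Pi.single (Fin.castSucc i) (SpinCurv.PolyNodeRing.y R (p * q)) -
              Pi.single (Fin.succ i) (algebraMap R (SpinCurv.PolyNodeRing R (p * q)) q) : Fin (n + 1) → SpinCurv.PolyNodeRing R (p * q)))) with hM
    have hgen1 : ∀ i : Fin n, (Pi.single (Fin.castSucc i) (algebraMap R (SpinCurv.PolyNodeRing R (p * q)) p) -
        Pi.single (Fin.succ i) (SpinCurv.PolyNodeRing.x R (p * q)) : Fin (n + 1) → SpinCurv.PolyNodeRing R (p * q)) ∈ M :=
      fun i => Submodule.subset_span (Or.inl ⟨i, rfl⟩)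
    have hgen2 : ∀ i : Fin n, (Pi.single (Fin.castSucc i) (SpinCurv.PolyNodeRing.y R (p * q)) -
        Pi.single (Fin.succ i) (algebraMap R (SpinCurv.PolyNodeRing R (p * q)) q) : Fin (n + 1) → SpinCurv.PolyNodeRing R (p * q)) ∈ M :=
      fun i => Submodule.subset_span (Or.inr ⟨i, rfl⟩)
    -- the easy inclusion
    have hker : ∀ F ∈ M, PhiL rU rV n F = 0 := by
      intro F hF
      induction hF using Submodule.span_induction with
      | mem F h =>
        rcases h with ⟨i, rfl⟩ | ⟨i, rfl⟩
        · have hi := i.2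
          have e1 : n - (i : ℕ) = (n - ((i : ℕ) + 1)) + 1 := by omega
          rw [map_sub, PhiL_single, PhiL_single, Fin.val_castSucc, Fin.val_succ, AlgHom.commutes,
            AlgHom.commutes, hrUx, hrVx, e1, pow_succ, pow_succ]
          ext
          · simp only [Prod.fst_sub, Prod.fst_zero]
            ring
          · simp only [Prod.snd_sub, Prod.snd_zero]
            rw [← y_mul_x p]
            ring
        · have hi := i.2
          have e1 : n - (i : ℕ) = (n - ((i : ℕ) + 1)) + 1 := by omega
          rw [map_sub, PhiL_single, PhiL_single, Fin.val_castSucc, Fin.val_succ, AlgHom.commutes,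
            AlgHom.commutes, hrUy, hrVy, e1, pow_succ, pow_succ]
          ext
          · simp only [Prod.fst_sub, Prod.fst_zero]
            rw [← x_mul_y R q]
            ring
          · simp only [Prod.snd_sub, Prod.snd_zero]
            ring
      | zero => exact map_zero _
      | add F F' _ _ h h' => rw [map_add, h, h', add_zero]
      | smul a F _ h =>
        rw [PhiL_smul, h]
        simp
    ext F
    simp only [Set.mem_ofPred_eq, SetLike.mem_coe]
    rw [hΦ]
    constructor
    · intro hF
      let N : Submodule R (Fin (n + 1) → SpinCurv.PolyNodeRing R (p * q)) :=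
        M.restrictScalars R ⊔ Submodule.span R (Set.range (G p q n))
      have hMN : ∀ F' ∈ M, F' ∈ N := fun F' hF' => Submodule.mem_sup_left hF'
      have hGN : ∀ j, G p q n j ∈ N := fun j =>
        Submodule.mem_sup_right (Submodule.subset_span ⟨j, rfl⟩)
      have hone : ∀ i : Fin (n + 1), (Pi.single i (1 : SpinCurv.PolyNodeRing R (p * q)) : Fin (n + 1) → SpinCurv.PolyNodeRing R (p * q)) ∈ N := by
        intro i
        have hi := i.2
        have : G p q n ((n : ℤ) - (i : ℕ)) = Pi.single i 1 := by
          apply G_eq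
          · omega
          · have : (n : ℤ) - (i : ℕ) - max 0 (min ((n : ℤ) - (i : ℕ)) n) = 0 := by omega
            rw [this, e_zero]
        rw [← this]
        exact hGN _
      have hx0 : ∀ m : ℕ, (Pi.single 0 ((SpinCurv.PolyNodeRing.x R (p * q)) ^ m) : Fin (n + 1) → SpinCurv.PolyNodeRing R (p * q)) ∈ N := by
        intro m
        have : G p q n ((n : ℤ) + m) = Pi.single 0 ((SpinCurv.PolyNodeRing.x R (p * q)) ^ m) := by
          apply G_eq
          · rw [Fin.val_zero]
            omega
          · have : (n : ℤ) + m - max 0 (min ((n : ℤ) + m) n) = (m : ℤ) := by omega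
            rw [this, e_natCast]
        rw [← this]
        exact hGN _
      have hyn : ∀ m : ℕ, (Pi.single (Fin.last n) ((SpinCurv.PolyNodeRing.y R (p * q)) ^ m) : Fin (n + 1) → SpinCurv.PolyNodeRing R (p * q)) ∈ N := by
        intro m
        have : G p q n (-(m : ℤ)) = Pi.single (Fin.last n) ((SpinCurv.PolyNodeRing.y R (p * q)) ^ m) := by
          apply G_eq
          · rw [Fin.val_last]
            omega
          · have : -(m : ℤ) - max 0 (min (-(m : ℤ)) n) = -(m : ℤ) := by omega
            rw [this, e_neg_natCast]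
        rw [← this]
        exact hGN _
      have D1x : ∀ (k : ℕ) (i : Fin (n + 1)), (i : ℕ) = k → ∀ m : ℕ,
          (Pi.single i ((SpinCurv.PolyNodeRing.x R (p * q)) ^ m) : Fin (n + 1) → SpinCurv.PolyNodeRing R (p * q)) ∈ N := by
        intro k
        induction k with
        | zero =>
          intro i hi m
          have : i = 0 := Fin.ext (by rw [hi, Fin.val_zero])
          rw [this]
          exact hx0 m
        | succ k ih =>
          intro i hi m
          have hin := i.2
          cases m with
          | zero =>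
            rw [pow_zero]
            exact hone i
          | succ m =>
            let i' : Fin n := ⟨k, by omega⟩
            have hi' : i = Fin.succ i' := Fin.ext (by rw [hi, Fin.val_succ])
            have key : (Pi.single (Fin.succ i') ((SpinCurv.PolyNodeRing.x R (p * q)) ^ (m + 1)) : Fin (n + 1) → SpinCurv.PolyNodeRing R (p * q)) =
                p • (Pi.single (Fin.castSucc i') ((SpinCurv.PolyNodeRing.x R (p * q)) ^ m) : Fin (n + 1) → SpinCurv.PolyNodeRing R (p * q)) -
                  (SpinCurv.PolyNodeRing.x R (p * q)) ^ m • ((Pi.single (Fin.castSucc i') (algebraMap R (SpinCurv.PolyNodeRing R (p * q)) p) : Fin (n + 1) → SpinCurv.PolyNodeRing R (p * q)) -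
                    (Pi.single (Fin.succ i') (SpinCurv.PolyNodeRing.x R (p * q)) : Fin (n + 1) → SpinCurv.PolyNodeRing R (p * q))) := by
              funext l
              simp only [Pi.sub_apply, Pi.smul_apply, Pi.single_apply, smul_eq_mul]
              split_ifs <;> simp [smul_eq', pow_succ] <;> ring
            rw [hi', key]
            exact N.sub_mem (N.smul_mem p (ih (Fin.castSucc i') rfl m))
              (hMN _ (M.smul_mem _ (hgen1 i')))
      have D1y : ∀ (k : ℕ) (i : Fin (n + 1)), (i : ℕ) + k = n → ∀ m : ℕ,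
          (Pi.single i ((SpinCurv.PolyNodeRing.y R (p * q)) ^ m) : Fin (n + 1) → SpinCurv.PolyNodeRing R (p * q)) ∈ N := by
        intro k
        induction k with
        | zero =>
          intro i hi m
          have : i = Fin.last n := Fin.ext (by rw [Fin.val_last]; omega)
          rw [this]
          exact hyn m
        | succ k ih =>
          intro i hi m
          cases m with
          | zero =>
            rw [pow_zero]
            exact hone i
          | succ m =>
            let i' : Fin n := ⟨i, by omega⟩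
            have hi' : i = Fin.castSucc i' := Fin.ext rfl
            have key : (Pi.single (Fin.castSucc i') ((SpinCurv.PolyNodeRing.y R (p * q)) ^ (m + 1)) : Fin (n + 1) → SpinCurv.PolyNodeRing R (p * q)) =
                (SpinCurv.PolyNodeRing.y R (p * q)) ^ m • ((Pi.single (Fin.castSucc i') (SpinCurv.PolyNodeRing.y R (p * q)) : Fin (n + 1) → SpinCurv.PolyNodeRing R (p * q)) -
                    (Pi.single (Fin.succ i') (algebraMap R (SpinCurv.PolyNodeRing R (p * q)) q) : Fin (n + 1) → SpinCurv.PolyNodeRing R (p * q))) +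
                  q • (Pi.single (Fin.succ i') ((SpinCurv.PolyNodeRing.y R (p * q)) ^ m) : Fin (n + 1) → SpinCurv.PolyNodeRing R (p * q)) := by
              funext l
              simp only [Pi.add_apply, Pi.sub_apply, Pi.smul_apply, Pi.single_apply, smul_eq_mul]
              split_ifs <;> simp [smul_eq', pow_succ] <;> ring
            rw [hi', key]
            exact N.add_mem (hMN _ (M.smul_mem _ (hgen2 i')))
              (N.smul_mem q (ih (Fin.succ i') (by rw [Fin.val_succ]; show (i : ℕ) + 1 + k = n; omega) m))
      have D1 : ∀ (i : Fin (n + 1)) (m : ℤ),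
          (Pi.single i (e R (p * q) m) : Fin (n + 1) → SpinCurv.PolyNodeRing R (p * q)) ∈ N := by
        intro i m
        have hin := i.2
        rcases le_or_gt 0 m with hm | hm
        · rw [e_nonneg R (p * q) hm]
          exact D1x _ i rfl _
        · rw [e_neg R (p * q) hm]
          exact D1y (n - (i : ℕ)) i (by omega) _
      have hN : ∀ F' : Fin (n + 1) → SpinCurv.PolyNodeRing R (p * q), F' ∈ N := by
        intro F'
        rw [← Finset.univ_sum_single F']
        apply Submodule.sum_mem
        intro i _
        have : ⊤ ≤ N.comap (LinearMap.single R (fun _ : Fin (n + 1) => SpinCurv.PolyNodeRing R (p * q)) i) := by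
          rw [← (nodeBasis R (p * q)).span_eq, Submodule.span_le]
          rintro _ ⟨m, rfl⟩
          rw [nodeBasis_apply]
          exact D1 i m
        exact this (Submodule.mem_top : F' i ∈ ⊤)
      obtain ⟨m, hm, g, hg, hF'⟩ := Submodule.mem_sup.1 (hN F)
      obtain ⟨c, hc⟩ := Finsupp.mem_span_range_iff_exists_finsupp.1 hg
      have hm0 : PhiL rU rV n m = 0 := hker m hm
      have hg0 : PhiL rU rV n g = 0 := by
        have := hF
        rw [← hF', map_add, hm0, zero_add] at this
        exact this
      have hc0 : c = 0 := by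
        apply hTS.2
        rw [← hg0, ← hc, ← Finsupp.linearCombination_apply, Finsupp.apply_linearCombination, hPG]
      rw [← hF', ← hc, hc0, Finsupp.sum_zero_index, add_zero]
      exact hm
    · exact hker F

end Groth.Agent.S18437
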