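import Groth.Statements.S18457
import Mathlib
-- import your own Groth.Agent.* helpers here

set_option autoImplicit false
open Finset
open Surf

namespace Groth.Agent.S18457

/-- In the Picard lattice of the plane blown up at n ≤ 8 points, with basis h, e_1, …, e_n, form h² = 1,
e_i² = −1, all other products 0, and anticanonical class D = 3h − Σ e_i, let d·h − Σ a_i e_i be a
class with all a_i ≥ 0 (the class of the strict transform of a degree-d plane curve having
multiplicity a_i at the i-th point) which is a (−2)-class orthogonal to D, that is d² − Σ a_i² = −2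
and 3d = Σ a_i. Then one of the following holds: d = 1 and every a_i is 0 or 1 with exactly three
equal to 1; d = 2 and every a_i is 0 or 1 with exactly six equal to 1; d = 3, n = 8, and one a_i
equals 2 while the remaining seven equal 1. The published statement is geometric: under the
general-position hypotheses on the points, no smooth rational curve on the blown-up plane is
orthogonal to D; this row is the lattice enumeration its proof carries out (a line through three of
the points, a conic through six, a cubic through all eight and singular at one). -/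
theorem result (n : ℕ) (hn : n ≤ 8)
    (d : ℤ) (a : Fin n → ℤ) (ha : ∀ i, 0 ≤ a i)
    (hsq : d ^ 2 - ∑ i, (a i) ^ 2 = -2) (hK : 3 * d = ∑ i, a i) :
    (d = 1 ∧ (∀ i, a i = 0 ∨ a i = 1) ∧ (Finset.univ.filter (fun i => a i = 1)).card = 3) ∨
      (d = 2 ∧ (∀ i, a i = 0 ∨ a i = 1) ∧ (Finset.univ.filter (fun i => a i = 1)).card = 6) ∨
      (d = 3 ∧ n = 8 ∧ ∃ j, a j = 2 ∧ ∀ i, i ≠ j → a i = 1) := by
  have hterm : ∀ i, 0 ≤ a i * (a i - 1) := by
    intro i
    have := ha i
    rcases (le_iff_eq_or_lt.mp this) with h | h
    · rw [← h]; simp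
    · exact mul_nonneg this (by omega)
  have h1 : ∑ i, (a i) ^ 2 = d ^ 2 + 2 := by linarith
  have hsum : ∑ i, a i * (a i - 1) = (d - 1) * (d - 2) := by
    have : ∑ i, a i * (a i - 1) = ∑ i, (a i) ^ 2 - ∑ i, a i := by
      rw [← Finset.sum_sub_distrib]
      apply Finset.sum_congr rfl
      intro i _
      ring
    rw [this, ← hK, h1]
    ring
  have hCS : (∑ i, a i) ^ 2 ≤ n * ∑ i, (a i) ^ 2 := by
    have := sq_sum_le_card_mul_sum_sq (s := Finset.univ) (f := a)
    simpa using this
  have hd0 : 0 ≤ d := by
    have : 0 ≤ ∑ i, a i := Finset.sum_nonneg (fun i _ => ha i)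
    omega
  have hn' : (n : ℤ) ≤ 8 := by exact_mod_cast hn
  have hd4 : d ≤ 4 := by
    rw [← hK, h1] at hCS
    have : (n : ℤ) * (d ^ 2 + 2) ≤ 8 * (d ^ 2 + 2) := by nlinarith
    nlinarith
  have h01 : ∀ i, a i * (a i - 1) = 0 → a i = 0 ∨ a i = 1 := by
    intro i hi
    rcases mul_eq_zero.mp hi with h | h
    · exact Or.inl h
    · exact Or.inr (by omega)
  have hcount : (∀ i, a i = 0 ∨ a i = 1) →
      ((Finset.univ.filter (fun i => a i = 1)).card : ℤ) = ∑ i, a i := by
    intro h
    rw [Finset.card_filter]
    push_cast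
    apply Finset.sum_congr rfl
    intro i _
    rcases h i with h | h <;> simp [h]
  interval_cases d
  · -- d = 0
    exfalso
    have hz : ∑ i, a i = 0 := by omega
    have hall := (Finset.sum_eq_zero_iff_of_nonneg (fun i _ => ha i)).mp hz
    have : ∑ i, a i * (a i - 1) = 0 := by
      apply Finset.sum_eq_zero
      intro i hi
      rw [hall i hi]
      simp
    rw [this] at hsum
    norm_num at hsum
  · -- d = 1
    left
    have hz : ∑ i, a i * (a i - 1) = 0 := by rw [hsum]; norm_num
    have hall := (Finset.sum_eq_zero_iff_of_nonneg (fun i _ => hterm i)).mp hz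
    have h01' : ∀ i, a i = 0 ∨ a i = 1 := fun i => h01 i (hall i (Finset.mem_univ i))
    refine ⟨rfl, h01', ?_⟩
    have := hcount h01'
    rw [← hK] at this
    exact_mod_cast this
  · -- d = 2
    right; left
    have hz : ∑ i, a i * (a i - 1) = 0 := by rw [hsum]; norm_num
    have hall := (Finset.sum_eq_zero_iff_of_nonneg (fun i _ => hterm i)).mp hz
    have h01' : ∀ i, a i = 0 ∨ a i = 1 := fun i => h01 i (hall i (Finset.mem_univ i))
    refine ⟨rfl, h01', ?_⟩
    have := hcount h01'
    rw [← hK] at this
    exact_mod_cast this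
  · -- d = 3
    right; right
    have hs2 : ∑ i, a i * (a i - 1) = 2 := by rw [hsum]; norm_num
    have hex : ∃ j, 2 ≤ a j := by
      by_contra hcon
      push Not at hcon
      have : ∑ i, a i * (a i - 1) = 0 := by
        apply Finset.sum_eq_zero
        intro i _
        have h1 := ha i
        have h2 := hcon i
        have : a i = 0 ∨ a i = 1 := by omega
        rcases this with h | h <;> simp [h]
      rw [this] at hs2
      norm_num at hs2
    obtain ⟨j, hj⟩ := hex
    have hsplit := Finset.add_sum_erase Finset.univ (fun i => a i * (a i - 1)) (Finset.mem_univ j)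
    have hrest_nonneg : 0 ≤ ∑ i ∈ Finset.univ.erase j, a i * (a i - 1) :=
      Finset.sum_nonneg (fun i _ => hterm i)
    have hj2 : a j = 2 := by
      have : a j * (a j - 1) ≤ 2 := by
        linarith
      nlinarith
    have hrest0 : ∑ i ∈ Finset.univ.erase j, a i * (a i - 1) = 0 := by
      rw [hj2] at hsplit
      linarith
    have hall := (Finset.sum_eq_zero_iff_of_nonneg (fun i _ => hterm i)).mp hrest0
    have h01' : ∀ i, i ≠ j → a i = 0 ∨ a i = 1 := fun i hi =>
      h01 i (hall i (Finset.mem_erase.mpr ⟨hi, Finset.mem_univ i⟩))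
    have hsplit2 := Finset.add_sum_erase Finset.univ (fun i => a i) (Finset.mem_univ j)
    have hrest7 : ∑ i ∈ Finset.univ.erase j, a i = 7 := by
      rw [hj2] at hsplit2
      linarith
    have hcard : ((Finset.univ.erase j).card : ℤ) = n - 1 := by
      rw [Finset.card_erase_of_mem (Finset.mem_univ j), Finset.card_univ, Fintype.card_fin]
      have : 1 ≤ n := Nat.pos_of_ne_zero (by rintro rfl; exact Fin.elim0 j)
      push_cast [Nat.cast_sub this]
      ring
    have hdef : ∑ i ∈ Finset.univ.erase j, (1 - a i) = (n : ℤ) - 8 := by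
      rw [Finset.sum_sub_distrib, hrest7]
      simp only [Finset.sum_const, nsmul_eq_mul, mul_one]
      rw [hcard]
      ring
    have hdef_nonneg : ∀ i ∈ Finset.univ.erase j, 0 ≤ 1 - a i := by
      intro i hi
      have := h01' i (Finset.mem_erase.mp hi).1
      omega
    have hdefsum_nonneg := Finset.sum_nonneg hdef_nonneg
    have hn8 : (n : ℤ) = 8 := by omega
    refine ⟨rfl, by exact_mod_cast hn8, j, hj2, ?_⟩
    intro i hi
    have hz : ∑ i ∈ Finset.univ.erase j, (1 - a i) = 0 := by rw [hdef, hn8]; norm_num
    have := (Finset.sum_eq_zero_iff_of_nonneg hdef_nonneg).mp hz i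
      (Finset.mem_erase.mpr ⟨hi, Finset.mem_univ i⟩)
    omega
  · -- d = 4
    exfalso
    have hA : ∑ i, a i = 12 := by omega
    have hB : ∑ i, (a i) ^ 2 = 18 := by rw [h1]; norm_num
    have hC : ∑ i, (2 * a i - 3) ^ 2 = 9 * (n : ℤ) - 72 := by
      have : ∀ i, (2 * a i - 3) ^ 2 = 4 * (a i) ^ 2 - 12 * a i + 9 := by intro i; ring
      simp only [this]
      rw [Finset.sum_add_distrib, Finset.sum_sub_distrib, ← Finset.mul_sum, ← Finset.mul_sum, hA, hB]
      simp
      ring
    have hD : (n : ℤ) ≤ ∑ i : Fin n, (2 * a i - 3) ^ 2 := by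
      have : ∀ i ∈ (Finset.univ : Finset (Fin n)), (1 : ℤ) ≤ (2 * a i - 3) ^ 2 := by
        intro i _
        have : 2 * a i - 3 ≠ 0 := by omega
        have := sq_pos_of_ne_zero this |>.le
        have h2 : 0 < (2 * a i - 3) ^ 2 := by positivity
        omega
      have := Finset.sum_le_sum this
      simpa using this
    omega

end Groth.Agent.S18457
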