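import Groth.Statements.S18465
import Mathlib
-- import your own Groth.Agent.* helpers here

set_option autoImplicit false
universe u v w x
open WildLef

namespace Groth.Agent.S18465

/-- Let f : G₁ → G₂ be a homomorphism of groups, ρ : G₂ → Γ a homomorphism with finite image G, and A a
nontrivial commutative ring. Let G₂ act on the group algebra A[G] through ρ followed by the left
regular representation, and G₁ through f. If the elements of A[G] fixed by G₁ coincide with those
fixed by G₂, then ρ ∘ f and ρ have the same image. (The published statement has Γ a general linear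
group GL_r(A); over the zero ring that group is trivial, so requiring A nontrivial and allowing any
target group loses nothing.) -/
theorem result
    {G₁ : Type u} {G₂ : Type v} {Γ : Type w} [Group G₁] [Group G₂] [Group Γ]
    (f : G₁ →* G₂) (ρ : G₂ →* Γ) [Finite ρ.range] (A : Type x) [CommRing A] [Nontrivial A]
    (h : {x : MonoidAlgebra A ρ.range | ∀ g : G₁, MonoidAlgebra.of A ρ.range (ρ.rangeRestrict (f g)) * x = x} =
      {x : MonoidAlgebra A ρ.range | ∀ g : G₂, MonoidAlgebra.of A ρ.range (ρ.rangeRestrict g) * x = x}) :
    (ρ.comp f).range = ρ.range := by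
  classical
  have : Fintype ρ.range := Fintype.ofFinite _
  apply le_antisymm
  · rintro _ ⟨g, rfl⟩
    exact ⟨f g, rfl⟩
  · rintro _ ⟨g, rfl⟩
    -- the set of images of G₁ in ρ.range
    let S : Finset ρ.range := Finset.univ.filter (fun s => ∃ g₁ : G₁, ρ.rangeRestrict (f g₁) = s)
    let x : MonoidAlgebra A ρ.range := ∑ s ∈ S, MonoidAlgebra.single s (1 : A)
    have hx1 : x ∈ {x : MonoidAlgebra A ρ.range |
        ∀ g : G₁, MonoidAlgebra.of A ρ.range (ρ.rangeRestrict (f g)) * x = x} := by
      intro g₁
      simp only [x, Finset.mul_sum, MonoidAlgebra.of_apply, MonoidAlgebra.single_mul_single, mul_one]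
      refine Finset.sum_bij (fun s _ => ρ.rangeRestrict (f g₁) * s) ?_ ?_ ?_ ?_
      · intro s hs
        simp only [S, Finset.mem_filter, Finset.mem_univ, true_and] at hs ⊢
        obtain ⟨g', hg'⟩ := hs
        exact ⟨g₁ * g', by rw [map_mul, map_mul, hg']⟩
      · intro a _ b _ hab
        exact mul_left_cancel hab
      · intro s hs
        simp only [S, Finset.mem_filter, Finset.mem_univ, true_and] at hs
        obtain ⟨g', hg'⟩ := hs
        refine ⟨(ρ.rangeRestrict (f g₁))⁻¹ * s, ?_, by simp⟩
        simp only [S, Finset.mem_filter, Finset.mem_univ, true_and]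
        exact ⟨g₁⁻¹ * g', by rw [map_mul, map_mul, hg', map_inv, map_inv]⟩
      · intro s _
        rfl
    rw [h] at hx1
    have h2 := hx1 g
    have h3 : (MonoidAlgebra.of A ρ.range (ρ.rangeRestrict g) * x).coeff (ρ.rangeRestrict g)
        = x.coeff 1 := by
      rw [MonoidAlgebra.of_apply, MonoidAlgebra.coeff_single_mul_apply]
      simp
    rw [h2] at h3
    have h1S : (1 : ρ.range) ∈ S := by
      simp only [S, Finset.mem_filter, Finset.mem_univ, true_and]
      exact ⟨1, by simp⟩
    have hxapp : ∀ t : ρ.range, x.coeff t = if t ∈ S then 1 else 0 := by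
      intro t
      simp only [x, MonoidAlgebra.coeff_sum, MonoidAlgebra.coeff_single, Finsupp.coe_finsetSum,
        Finset.sum_apply, Finsupp.single_apply]
      rw [Finset.sum_ite_eq']
    rw [hxapp, hxapp, if_pos h1S] at h3
    have : ρ.rangeRestrict g ∈ S := by
      by_contra hc
      rw [if_neg hc] at h3
      exact zero_ne_one h3
    simp only [S, Finset.mem_filter, Finset.mem_univ, true_and] at this
    obtain ⟨g₁, hg₁⟩ := this
    refine ⟨g₁, ?_⟩
    have := congrArg Subtype.val hg₁
    simpa using this

end Groth.Agent.S18465
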