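import Groth.Statements.S18466
import Mathlib
-- import your own Groth.Agent.* helpers here

set_option autoImplicit false
universe u
open Hopf

namespace Groth.Agent.S18466

open TensorProduct in
theorem fwd (k : Type u) [Field k] (n : ℕ) [NeZero n]
    (φ : ConstGrp.F k (Multiplicative (ZMod n)) ≃ₐc[k] MonoidAlgebra k (Multiplicative (ZMod n))) :
    ∃ ζ : k, IsPrimitiveRoot ζ n := by
  classical
  let g₀ : Multiplicative (ZMod n) := Multiplicative.ofAdd (1 : ZMod n)
  let χ : ConstGrp.F k (Multiplicative (ZMod n)) := φ.symm (MonoidAlgebra.of k _ g₀)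
  have hχ : IsGroupLikeElem k χ :=
    (MonoidAlgebra.isGroupLikeElem_of (R := k) (A := k) g₀).map φ.symm
  have h1 : χ 1 = 1 := by
    have := hχ.counit_eq_one
    rwa [ConstGrp.counit_apply] at this
  have hmul : ∀ a b, χ (a * b) = χ a * χ b := by
    intro a b
    have h2 := ConstGrp.pair_comul k _ χ a b
    rw [hχ.comul_eq_tmul_self, ConstGrp.pair_tmul] at h2
    exact h2.symm
  let χ' : Multiplicative (ZMod n) →* k := ⟨⟨fun a => χ a, h1⟩, hmul⟩
  have hgen : ∀ a : Multiplicative (ZMod n), a = g₀ ^ (Multiplicative.toAdd a).val := by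
    intro a
    apply Multiplicative.toAdd.injective
    rw [toAdd_pow]
    simp [g₀]
  refine ⟨χ g₀, (IsPrimitiveRoot.iff_def _ _).2 ⟨?_, ?_⟩⟩
  · have : g₀ ^ n = 1 := by
      apply Multiplicative.toAdd.injective
      rw [toAdd_pow]; simp [g₀]
    have h3 : χ' (g₀ ^ n) = χ' g₀ ^ n := map_pow χ' g₀ n
    rw [this, map_one] at h3
    exact h3.symm
  · intro l hl
    have hχl : χ ^ l = 1 := by
      ext a
      rw [hgen a]
      have h3 : χ' (g₀ ^ (Multiplicative.toAdd a).val) = χ' g₀ ^ (Multiplicative.toAdd a).val := map_pow χ' g₀ _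
      show (χ (g₀ ^ (Multiplicative.toAdd a).val)) ^ l = 1
      change χ (g₀ ^ (Multiplicative.toAdd a).val) = χ g₀ ^ (Multiplicative.toAdd a).val at h3
      rw [h3, ← pow_mul, mul_comm, pow_mul, hl, one_pow]
    have h4 : (MonoidAlgebra.of k (Multiplicative (ZMod n)) g₀) ^ l = 1 := by
      have : φ.symm ((MonoidAlgebra.of k (Multiplicative (ZMod n)) g₀) ^ l) = φ.symm 1 := by
        rw [map_pow, map_one]; exact hχl
      exact φ.symm.injective this
    rw [← map_pow, ← map_one (MonoidAlgebra.of k (Multiplicative (ZMod n)))] at h4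
    have h5 := MonoidAlgebra.of_injective h4
    have h6 : (l : ZMod n) = 0 := by
      have := congrArg Multiplicative.toAdd h5
      rw [toAdd_pow] at this
      simpa [g₀] using this
    exact (ZMod.natCast_eq_zero_iff l n).1 h6

open TensorProduct in
theorem bwd (k : Type u) [Field k] (n : ℕ) [NeZero n] (ζ : k) (hζ : IsPrimitiveRoot ζ n) :
    Nonempty (ConstGrp.F k (Multiplicative (ZMod n)) ≃ₐc[k] MonoidAlgebra k (Multiplicative (ZMod n))) := by
  classical
  have hζn : ζ ^ n = 1 := hζ.pow_eq_one
  let ψ₀ : AddChar (ZMod n) k := AddChar.zmodChar n hζn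
  -- the characters
  let c : Multiplicative (ZMod n) →* ConstGrp.F k (Multiplicative (ZMod n)) :=
    { toFun := fun g => fun a => ψ₀ (Multiplicative.toAdd g * Multiplicative.toAdd a)
      map_one' := by
        ext a
        show ψ₀ (Multiplicative.toAdd (1 : Multiplicative (ZMod n)) * Multiplicative.toAdd a) = 1
        rw [toAdd_one, zero_mul, AddChar.map_zero_eq_one]
      map_mul' := by
        intro g h
        ext a
        show ψ₀ (Multiplicative.toAdd (g * h) * Multiplicative.toAdd a) =
          ψ₀ (Multiplicative.toAdd g * Multiplicative.toAdd a) * ψ₀ (Multiplicative.toAdd h * Multiplicative.toAdd a)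
        rw [toAdd_mul, add_mul, AddChar.map_add_eq_mul] }
  have c_apply : ∀ g a, c g a = ψ₀ (Multiplicative.toAdd g * Multiplicative.toAdd a) := fun _ _ => rfl
  have c_mul : ∀ g a b, c g (a * b) = c g a * c g b := by
    intro g a b
    rw [c_apply, c_apply, c_apply, toAdd_mul, mul_add, AddChar.map_add_eq_mul]
  have c_one : ∀ g, c g 1 = 1 := by
    intro g
    rw [c_apply, toAdd_one, mul_zero, AddChar.map_zero_eq_one]
  have c_gl : ∀ g, IsGroupLikeElem k (c g) := by
    intro g
    refine ⟨by rw [ConstGrp.counit_apply, c_one], ?_⟩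
    rw [ConstGrp.comul_eq_sum]
    conv_rhs => rw [ConstGrp.eq_sum_smul_e (c g)]
    rw [TensorProduct.sum_tmul]
    refine Finset.sum_congr rfl fun a _ => ?_
    rw [TensorProduct.tmul_sum]
    refine Finset.sum_congr rfl fun b _ => ?_
    rw [c_mul, TensorProduct.smul_tmul_smul]
  have c_inj : Function.Injective c := by
    intro g h hgh
    have h1 := congrFun hgh (Multiplicative.ofAdd (1 : ZMod n))
    rw [c_apply, c_apply, toAdd_ofAdd, mul_one, mul_one, AddChar.zmodChar_apply, AddChar.zmodChar_apply] at h1
    have h2 := hζ.pow_inj (ZMod.val_lt _) (ZMod.val_lt _) h1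
    exact Multiplicative.toAdd.injective (ZMod.val_injective n h2)
  let ψ : MonoidAlgebra k (Multiplicative (ZMod n)) →ₐ[k] ConstGrp.F k (Multiplicative (ZMod n)) :=
    MonoidAlgebra.lift k _ _ c
  have ψ_single : ∀ g, ψ (MonoidAlgebra.single g 1) = c g := by
    intro g
    simp [ψ]
  let Ψ : MonoidAlgebra k (Multiplicative (ZMod n)) →ₐc[k] ConstGrp.F k (Multiplicative (ZMod n)) :=
    BialgHom.ofAlgHom ψ
      (by
        refine MonoidAlgebra.algHom_ext ?_ (Subsingleton.elim _ _)
        intro g
        rw [AlgHom.comp_apply, ψ_single]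
        simp [c_one])
      (by
        refine MonoidAlgebra.algHom_ext ?_ (Subsingleton.elim _ _)
        intro g
        rw [AlgHom.comp_apply, AlgHom.comp_apply, ψ_single]
        simp only [Bialgebra.comulAlgHom_apply]
        rw [(c_gl g).comul_eq_tmul_self, MonoidAlgebra.comul_single]
        simp [ψ_single])
  have hli : LinearIndependent k (fun g => c g) := by
    have h0 := linearIndepOn_isGroupLikeElem (R := k) (A := ConstGrp.F k (Multiplicative (ZMod n)))
    have h1 : LinearIndependent k (fun x : {a : ConstGrp.F k (Multiplicative (ZMod n)) | IsGroupLikeElem k a} => (x : ConstGrp.F k (Multiplicative (ZMod n)))) := h0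
    exact h1.comp (fun g => ⟨c g, c_gl g⟩) (fun g h hgh => c_inj (congrArg Subtype.val hgh))
  have hinj : Function.Injective Ψ := by
    intro x y hxy
    have hx : ∀ z : MonoidAlgebra k (Multiplicative (ZMod n)), Ψ z = Finsupp.linearCombination k (fun g => c g) z.coeff := by
      intro z
      show ψ z = _
      rw [Finsupp.linearCombination_apply]
      exact MonoidAlgebra.lift_apply c z
    rw [hx, hx] at hxy
    exact MonoidAlgebra.coeff_injective (hli hxy)
  have hfin : Module.Finite k (MonoidAlgebra k (Multiplicative (ZMod n))) :=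
    Module.Finite.of_basis (MonoidAlgebra.basis (Multiplicative (ZMod n)) k)
  have hrank : Module.finrank k (MonoidAlgebra k (Multiplicative (ZMod n))) =
      Module.finrank k (ConstGrp.F k (Multiplicative (ZMod n))) := by
    rw [Module.finrank_eq_card_basis (MonoidAlgebra.basis (Multiplicative (ZMod n)) k),
      Module.finrank_eq_card_basis (ConstGrp.basis k (Multiplicative (ZMod n)))]
  have hsurj : Function.Surjective Ψ :=
    (LinearMap.injective_iff_surjective_of_finrank_eq_finrank hrank (f := ψ.toLinearMap)).1 hinj
  exact ⟨(BialgEquiv.ofBijective Ψ ⟨hinj, hsurj⟩).symm⟩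

/-- Let k be a field and n ≥ 1. The constant group scheme ℤ/n over k is self-dual, that is, isomorphic
to its Cartier dual μ_n — equivalently the Hopf algebra of k-valued functions on the cyclic group of
order n and the group algebra of that group over k (group elements group-like) are isomorphic as
bialgebras — precisely when the field k has a primitive n-th root of unity, i.e. k contains n
distinct n-th roots of unity in k. (The published statement assumes that the characteristic of k
does not divide n; both directions hold without that assumption by the same argument, since a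
primitive n-th root of unity forces n to be nonzero in k, so it is omitted here.) -/
theorem result
    (k : Type u) [Field k] (n : ℕ) [NeZero n] :
    Nonempty (ConstGrp.F k (Multiplicative (ZMod n)) ≃ₐc[k] MonoidAlgebra k (Multiplicative (ZMod n))) ↔
      ∃ ζ : k, IsPrimitiveRoot ζ n := by
  constructor
  · rintro ⟨φ⟩
    exact fwd k n φ
  · rintro ⟨ζ, hζ⟩
    exact bwd k n ζ hζ

end Groth.Agent.S18466
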