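import Groth.Statements.S18469
import Mathlib
import Groth.Prelude.Def_W4c5ffgsreadingcourseOT
import Groth.Agent.Lib.Helper86.OTBase
import Groth.Agent.Lib.Helper86.OTField2
import Groth.Agent.Lib.Helper86.OTGlobal

set_option autoImplicit false
universe u
open OortTate

namespace Groth.Agent.S18469

open TensorProduct Groth.Agent.Lib.Helper92.OT Groth.Agent.Lib.Helper86
open Groth.Agent.Lib.Helper86.OTBase Groth.Agent.Lib.Helper86.OTField
  Groth.Agent.Lib.Helper86.OTGlobal

section Aux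
variable (p : ℕ) [Fact p.Prime] (R : Type u) [CommRing R] (u : R)
  (hu : u * ((p - 1 : ℕ) : R) = 1)
  (χ : (ZMod p)ˣ →* Rˣ) (hχ : ∀ m : (ZMod p)ˣ, m ≠ 1 → IsUnit ((χ m : R) - 1))
  (hχp : ∀ m : (ZMod p)ˣ, ((χ m : Rˣ) : R) - (((m : ZMod p).val : ℕ) : R) ∈
    Ideal.span ({(p : R)} : Set R))
  (K : Type u) [Field K] [Algebra R K]

include hχ in
lemma hχ_bc : ∀ m : (ZMod p)ˣ, m ≠ 1 → IsUnit (((chiK R K p χ m : Kˣ) : K) - 1) := by
  intro m hm
  have := (hχ m hm).map (algebraMap R K)
  rwa [map_sub, map_one] at this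

include hχp in
lemma hχp_bc : ∀ m : (ZMod p)ˣ, ((chiK R K p χ m : Kˣ) : K) - (((m : ZMod p).val : ℕ) : K) ∈
    Ideal.span ({(p : K)} : Set K) := by
  intro m
  have h2 := Ideal.mem_map_of_mem (algebraMap R K) (hχp m)
  rw [Ideal.map_span, Set.image_singleton, map_natCast, map_sub, map_natCast] at h2
  exact h2

end Aux

theorem result
    (p : ℕ) [Fact p.Prime] (R : Type u) [CommRing R] (u : R) (hu : u * ((p - 1 : ℕ) : R) = 1)
    (χ : (ZMod p)ˣ →* Rˣ) (hχ : ∀ m : (ZMod p)ˣ, m ≠ 1 → IsUnit ((χ m : R) - 1))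
    (hχp : ∀ m : (ZMod p)ˣ, ((χ m : Rˣ) : R) - (((m : ZMod p).val : ℕ) : R) ∈ Ideal.span ({(p : R)} : Set R))
    (A : Type u) [CommRing A] [HopfAlgebra R A] [Module.Finite R A] [Module.Projective R A]
    (hrk : ∀ q : PrimeSpectrum R, Module.rankAtStalk A q = p) :
    (∀ i : ℕ, Module.Finite R (OortTate.eigenAug R A p χ i) ∧
        Module.Projective R (OortTate.eigenAug R A p χ i) ∧
        ∀ q : PrimeSpectrum R, Module.rankAtStalk (↥(OortTate.eigenAug R A p χ i)) q = 1) ∧
      ∀ t : ℕ, 1 ≤ t → t ≤ p - 1 →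
        (OortTate.eigenAug R A p χ 1) ^ t = OortTate.eigenAug R A p χ t := by
  have hcc := Groth.Agent.S15053.result R p A hrk
  have hp := Groth.Agent.S15048.result R A p hrk
  have hfinI : ∀ i : ℕ, Module.Finite R (OortTate.eigenAug R A p χ i) := by
    intro i
    refine Module.Finite.of_surjective (retr R A p χ u hp i) ?_
    intro f
    exact ⟨(f : A), LinearMap.congr_fun (retr_comp_subtype R A p χ u hp hu i) f⟩
  have hprojI : ∀ i : ℕ, Module.Projective R (OortTate.eigenAug R A p χ i) := by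
    intro i
    exact Module.Projective.of_split (OortTate.eigenAug R A p χ i).subtype (retr R A p χ u hp i)
      (retr_comp_subtype R A p χ u hp hu i)
  -- geometric fibres
  have hB : ∀ q : PrimeSpectrum R, Module.finrank (Kq R q) (Kq R q ⊗[R] A) = p := by
    intro q
    rw [← rankAtStalk_eq_finrank R A q]
    exact hrk q
  refine ⟨fun i => ⟨hfinI i, hprojI i, fun q => ?_⟩, fun t ht1 ht2 => ?_⟩
  · have := hfinI i
    have := hprojI i
    rw [rankAtStalk_eq_finrank R _ q, finrank_bc R (Kq R q) A p χ u hp hu i]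
    exact finrank_eigenAug (Kq R q) p (algebraMap R (Kq R q) u) (hu_bc R (Kq R q) p u hu)
      (chiK R (Kq R q) p χ) (hχ_bc p R χ hχ (Kq R q)) (hχp_bc p R χ hχp (Kq R q))
      (Kq R q ⊗[R] A) (hB q) i
  · have hle := eigenAug_pow_le R A p χ t ht1
    apply le_antisymm hle
    have := hfinI t
    have hsurj : Function.Surjective (Submodule.inclusion hle) := by
      apply surjective_of_geom R
      intro q z
      set K := Kq R q with hK
      have hinj := subtype_baseChange_injective R K A p χ u hp hu t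
      have h1 : ((OortTate.eigenAug R A p χ t).subtype.baseChange K) z ∈
          (OortTate.eigenAug R A p χ t).baseChange K := ⟨z, rfl⟩
      rw [← eigenAug_bc R K A p χ u hp hu t,
        ← eigenAug_pow_eq K p (algebraMap R K u) (hu_bc R K p u hu)
          (chiK R K p χ) (hχ_bc p R χ hχ K) (hχp_bc p R χ hχp K) (K ⊗[R] A) (hB q) t ht1 ht2,
        eigenAug_bc R K A p χ u hp hu 1, ← baseChange_pow] at h1
      obtain ⟨w, hw⟩ := h1
      refine ⟨w, hinj ?_⟩
      rw [← hw, ← LinearMap.comp_apply, ← LinearMap.baseChange_comp]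
      rfl
    intro f hf
    obtain ⟨g, hg⟩ := hsurj ⟨f, hf⟩
    have : (g : A) = f := congrArg Subtype.val hg
    rw [← this]
    exact g.2

end Groth.Agent.S18469
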