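import Groth.Statements.S18470
-- import your own Groth.Agent.* helpers here

set_option autoImplicit false
universe u v
open OortTate

namespace Groth.Agent.S18470

/-- Let R be a commutative ring and A a commutative Hopf algebra over R which is finitely generated and
projective as an R-module (a finite locally free group scheme G = Spec A, not assumed commutative),
and let A^D = Hom_R(A, R) be the dual algebra with its Hopf structure (the Cartier dual when A is
cocommutative), whose counit is evaluation at 1. Then restriction of linear forms to the
augmentation ideal I = ker ε_A of A is a bijection from the augmentation ideal of A^D onto the dual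
module Hom_R(I, R): the dual of the augmentation ideal of G is the augmentation ideal of the dual.
The published statement is for a group scheme of order p over a Λ_p-algebra; the argument uses only
the splitting A = R·1 ⊕ ker ε. -/
theorem result
    (R : Type u) [CommRing R] (A : Type v) [CommRing A] [HopfAlgebra R A]
    [Module.Finite R A] [Module.Projective R A] :
    Function.Bijective (fun f : LinearMap.ker (Bialgebra.counitAlgHom R (CartDual.D R A)).toLinearMap =>
      ((CartDual.toDual R A) (f : CartDual.D R A)).comp
        (LinearMap.ker (Bialgebra.counitAlgHom R A).toLinearMap).subtype) := by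
  classical
  have hmemI : ∀ a : A, a - algebraMap R A (Bialgebra.counitAlgHom R A a) ∈
      LinearMap.ker (Bialgebra.counitAlgHom R A).toLinearMap := by
    intro a
    rw [LinearMap.mem_ker]
    show Bialgebra.counitAlgHom R A (a - algebraMap R A (Bialgebra.counitAlgHom R A a)) = 0
    rw [map_sub, AlgHom.commutes, Algebra.algebraMap_self_apply, sub_self]
  have hcounit : ∀ f : LinearMap.ker (Bialgebra.counitAlgHom R (CartDual.D R A)).toLinearMap,
      (f : CartDual.D R A).ofConv 1 = 0 := by
    intro f
    have := f.2
    rw [LinearMap.mem_ker] at this
    exact this
  constructor
  · intro f g hfg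
    apply Subtype.ext
    apply WithConv.ext
    apply LinearMap.ext
    intro a
    have h1 := LinearMap.congr_fun hfg ⟨_, hmemI a⟩
    simp only [LinearMap.comp_apply, Submodule.subtype_apply, CartDual.toDual_apply] at h1
    rw [map_sub, map_sub, Algebra.algebraMap_eq_smul_one, map_smul, map_smul, hcounit f,
      hcounit g] at h1
    simpa using h1
  · intro φ
    have hπmem : ∀ a : A, ((LinearMap.id : A →ₗ[R] A) -
        (Algebra.linearMap R A).comp (Bialgebra.counitAlgHom R A).toLinearMap) a ∈
        LinearMap.ker (Bialgebra.counitAlgHom R A).toLinearMap := fun a => hmemI a
    let π : A →ₗ[R] LinearMap.ker (Bialgebra.counitAlgHom R A).toLinearMap :=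
      LinearMap.codRestrict _
        ((LinearMap.id : A →ₗ[R] A) -
          (Algebra.linearMap R A).comp (Bialgebra.counitAlgHom R A).toLinearMap)
        hπmem
    have hπval : ∀ a : A, ((π a : LinearMap.ker (Bialgebra.counitAlgHom R A).toLinearMap) : A)
        = a - algebraMap R A (Bialgebra.counitAlgHom R A a) := fun a => rfl
    let F : CartDual.D R A := WithConv.toConv (φ.comp π)
    have hF1 : F.ofConv 1 = 0 := by
      simp only [F, WithConv.ofConv_toConv, LinearMap.comp_apply]
      have : π 1 = 0 := by
        apply Subtype.ext
        rw [hπval, map_one, map_one, sub_self]
        rfl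
      rw [this, map_zero]
    refine ⟨⟨F, ?_⟩, ?_⟩
    · rw [LinearMap.mem_ker]
      exact hF1
    · apply LinearMap.ext
      intro a
      simp only [LinearMap.comp_apply, Submodule.subtype_apply, CartDual.toDual_apply, F,
        WithConv.ofConv_toConv]
      congr 1
      apply Subtype.ext
      have ha := a.2
      rw [LinearMap.mem_ker] at ha
      have ha' : Bialgebra.counitAlgHom R A (a : A) = 0 := ha
      rw [hπval, ha', map_zero, sub_zero]

end Groth.Agent.S18470
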