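import Groth.Statements.S18474
import Mathlib
import Groth.Prelude.Def_W4c5ffgsreadingcourseOT
import Groth.Agent.S18469
import Groth.Agent.Lib.Helper86.OTTensor

set_option autoImplicit false
universe u
open OortTate

namespace Groth.Agent.S18474

open Groth.Agent.Lib.Helper86.OTTensor

theorem result
    (p : ℕ) [Fact p.Prime] (R : Type u) [CommRing R] (u : R) (hu : u * ((p - 1 : ℕ) : R) = 1)
    (χ : (ZMod p)ˣ →* Rˣ) (hχ : ∀ m : (ZMod p)ˣ, m ≠ 1 → IsUnit ((χ m : R) - 1))
    (hχp : ∀ m : (ZMod p)ˣ, ((χ m : Rˣ) : R) - (((m : ZMod p).val : ℕ) : R) ∈ Ideal.span ({(p : R)} : Set R))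
    (A : Type u) [CommRing A] [HopfAlgebra R A] [Module.Finite R A] [Module.Projective R A]
    (hrk : ∀ q : PrimeSpectrum R, Module.rankAtStalk A q = p) :
    Function.Surjective (TensorAlgebra.lift R (OortTate.eigenAug R A p χ 1).subtype) ∧
      RingHom.ker (TensorAlgebra.lift R (OortTate.eigenAug R A p χ 1).subtype) =
        Ideal.span {x : TensorAlgebra R (OortTate.eigenAug R A p χ 1) |
          ∃ (f : Fin p → OortTate.eigenAug R A p χ 1) (g : OortTate.eigenAug R A p χ 1),
            (g : A) = ∏ i, (f i : A) ∧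
            x = (List.ofFn fun i => TensorAlgebra.ι R (f i)).prod - TensorAlgebra.ι R g} := by
  have hcc := Groth.Agent.S15053.result R p A hrk
  have hp := Groth.Agent.S15048.result R A p hrk
  obtain ⟨hI, hpow⟩ := Groth.Agent.S18469.result p R u hu χ hχ hχp A hrk
  refine ⟨phi_surjective p R u hu χ hχ A hp hpow, ?_⟩
  apply le_antisymm
  · intro z hz
    exact ker_le p R u hu χ hχ A hp hI hpow z hz
  · intro z hz
    exact Jid_le_ker p R χ A z hz

end Groth.Agent.S18474
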