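import Groth.Statements.S18478
import Mathlib
import Groth.Prelude.Def_W4c5ffgsreadingcourseOT
import Groth.Prelude.Def_CartDual
import Groth.Agent.S18469
import Groth.Agent.Lib.Helper86.OTDual
import Groth.Agent.Lib.Helper86.OTLift
import Groth.Agent.Lib.Helper86.OTPairIso

set_option autoImplicit false
universe u
open OortTate

namespace Groth.Agent.S18478

open scoped TensorProduct
open WithConv Groth.Agent.Lib.Helper92.OT Groth.Agent.Lib.Helper92.OTMu
  Groth.Agent.Lib.Helper92.OTPair Groth.Agent.Lib.Helper92.OTFrame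
  Groth.Agent.Lib.Helper86.OTDual Groth.Agent.Lib.Helper86.OTTensor
  Groth.Agent.Lib.Helper86.OTLift Groth.Agent.Lib.Helper86.OTPairIso

section ThetaD
variable (p : ℕ) [Fact p.Prime] (R : Type u) [CommRing R] (u : R) (hu : u * ((p - 1 : ℕ) : R) = 1)
  (χ : (ZMod p)ˣ →* Rˣ)
  (A : Type u) [CommRing A] [HopfAlgebra R A] [Coalgebra.IsCocomm R A] [Module.Finite R A]
  [Module.Projective R A] (hp : (WithConv.toConv (AlgHom.id R A)) ^ p = 1)

/-- restriction `I_1(A^D) → I_1(A)^∨` as a linear map -/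
noncomputable def resL : OortTate.eigenAug R (CartDual.D R A) p χ 1 →ₗ[R]
    Module.Dual R (OortTate.eigenAug R A p χ 1) :=
  (OortTate.eigenAug R A p χ 1).subtype.dualMap ∘ₗ (CartDual.toDual R A).toLinearMap ∘ₗ
    (OortTate.eigenAug R (CartDual.D R A) p χ 1).subtype

lemma resL_apply (ξ : OortTate.eigenAug R (CartDual.D R A) p χ 1)
    (x : OortTate.eigenAug R A p χ 1) :
    resL p R χ A ξ x = (ξ : CartDual.D R A) (x : A) := rfl

include hu hp in
lemma resL_bijective : Function.Bijective (resL p R χ A) :=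
  restrict_bijective R A p χ hp u hu 1

end ThetaD

theorem result
    (p : ℕ) [Fact p.Prime] (R : Type u) [CommRing R] (u : R) (hu : u * ((p - 1 : ℕ) : R) = 1)
    (χ : (ZMod p)ˣ →* Rˣ) (hχ : ∀ m : (ZMod p)ˣ, m ≠ 1 → IsUnit ((χ m : R) - 1))
    (hχp : ∀ m : (ZMod p)ˣ, ((χ m : Rˣ) : R) - (((m : ZMod p).val : ℕ) : R) ∈ Ideal.span ({(p : R)} : Set R))
    (A : Type u) [CommRing A] [HopfAlgebra R A] [Coalgebra.IsCocomm R A] [Module.Finite R A]
    [Module.Projective R A] (hrk : ∀ q : PrimeSpectrum R, Module.rankAtStalk A q = p)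
    (A' : Type u) [CommRing A'] [HopfAlgebra R A'] [Coalgebra.IsCocomm R A'] [Module.Finite R A']
    [Module.Projective R A'] (hrk' : ∀ q : PrimeSpectrum R, Module.rankAtStalk A' q = p)
    (θ : OortTate.eigenAug R A p χ 1 ≃ₗ[R] OortTate.eigenAug R A' p χ 1)
    (hθ : ∀ (f : Fin p → OortTate.eigenAug R A p χ 1) (g : OortTate.eigenAug R A p χ 1),
      (g : A) = ∏ i, (f i : A) → ((θ g : OortTate.eigenAug R A' p χ 1) : A') = ∏ i, ((θ (f i)) : A'))
    (hθD : ∀ (φ : Fin p → OortTate.eigenAug R (CartDual.D R A) p χ 1)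
      (φ' : Fin p → OortTate.eigenAug R (CartDual.D R A') p χ 1)
      (ψ : OortTate.eigenAug R (CartDual.D R A) p χ 1) (ψ' : OortTate.eigenAug R (CartDual.D R A') p χ 1),
      (∀ i, ∀ x : OortTate.eigenAug R A p χ 1,
        CartDual.toDual R A (φ i : CartDual.D R A) (x : A) =
          CartDual.toDual R A' (φ' i : CartDual.D R A') ((θ x : OortTate.eigenAug R A' p χ 1) : A')) →
      (ψ : CartDual.D R A) = ∏ i, (φ i : CartDual.D R A) →
      (ψ' : CartDual.D R A') = ∏ i, (φ' i : CartDual.D R A') →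
      ∀ x : OortTate.eigenAug R A p χ 1,
        CartDual.toDual R A (ψ : CartDual.D R A) (x : A) =
          CartDual.toDual R A' (ψ' : CartDual.D R A') ((θ x : OortTate.eigenAug R A' p χ 1) : A')) :
    Nonempty (A ≃ₐc[R] A') := by
  classical
  have hp := Groth.Agent.S15048.result R A p hrk
  have hp' := Groth.Agent.S15048.result R A' p hrk'
  have hrkD : ∀ q : PrimeSpectrum R, Module.rankAtStalk (CartDual.D R A) q = p := by
    intro q
    rw [Module.rankAtStalk_eq_of_equiv (CartDual.toDual R A), rankAtStalk_dual, hrk]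
  have hrkD' : ∀ q : PrimeSpectrum R, Module.rankAtStalk (CartDual.D R A') q = p := by
    intro q
    rw [Module.rankAtStalk_eq_of_equiv (CartDual.toDual R A'), rankAtStalk_dual, hrk']
  have hpD := Groth.Agent.S15048.result R (CartDual.D R A) p hrkD
  have hpD' := Groth.Agent.S15048.result R (CartDual.D R A') p hrkD'
  obtain ⟨hI, hpow⟩ := Groth.Agent.S18469.result p R u hu χ hχ hχp A hrk
  obtain ⟨hI', hpow'⟩ := Groth.Agent.S18469.result p R u hu χ hχ hχp A' hrk'
  obtain ⟨hID, hpowD⟩ := Groth.Agent.S18469.result p R u hu χ hχ hχp (CartDual.D R A) hrkD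
  obtain ⟨hID', hpowD'⟩ := Groth.Agent.S18469.result p R u hu χ hχ hχp (CartDual.D R A') hrkD'
  -- the algebra isomorphism `Φ`
  obtain ⟨Φ, hΦ⟩ := exists_algEquiv p R u hu χ hχ A hp hI hpow A' hp' hI' hpow' θ hθ
  -- the dual isomorphism `θD`
  let rA := LinearEquiv.ofBijective (resL p R χ A) (resL_bijective p R u hu χ A hp)
  let rA' := LinearEquiv.ofBijective (resL p R χ A') (resL_bijective p R u hu χ A' hp')
  let θD : OortTate.eigenAug R (CartDual.D R A) p χ 1 ≃ₗ[R]
      OortTate.eigenAug R (CartDual.D R A') p χ 1 := rA ≪≫ₗ θ.symm.dualMap ≪≫ₗ rA'.symm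
  have hθD1 : ∀ (ξ : OortTate.eigenAug R (CartDual.D R A) p χ 1)
      (x : OortTate.eigenAug R A p χ 1),
      ((θD ξ : OortTate.eigenAug R (CartDual.D R A') p χ 1) : CartDual.D R A')
        ((θ x : OortTate.eigenAug R A' p χ 1) : A') = (ξ : CartDual.D R A) (x : A) := by
    intro ξ x
    have h1 : rA' (θD ξ) = θ.symm.dualMap (rA ξ) := by
      simp only [θD, LinearEquiv.trans_apply, LinearEquiv.apply_symm_apply]
    have h2 := LinearMap.congr_fun h1 (θ x)
    rw [LinearEquiv.dualMap_apply, LinearEquiv.symm_apply_apply] at h2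
    exact h2
  have hθD2 : ∀ (f : Fin p → OortTate.eigenAug R (CartDual.D R A) p χ 1)
      (g : OortTate.eigenAug R (CartDual.D R A) p χ 1),
      (g : CartDual.D R A) = ∏ i, (f i : CartDual.D R A) →
      ((θD g : OortTate.eigenAug R (CartDual.D R A') p χ 1) : CartDual.D R A') =
        ∏ i, ((θD (f i)) : CartDual.D R A') := by
    intro f g hg
    have hmem : ∏ i, ((θD (f i)) : CartDual.D R A') ∈
        OortTate.eigenAug R (CartDual.D R A') p χ 1 :=
      prod_mem_eigenAug_one p R χ (CartDual.D R A') _ fun i => (θD (f i)).2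
    have h1 := hθD f (fun i => θD (f i)) g ⟨_, hmem⟩ (fun i x => (hθD1 (f i) x).symm) hg rfl
    have h2 : θD g = ⟨_, hmem⟩ := by
      apply (resL_bijective p R u hu χ A' hp').1
      apply LinearMap.ext
      intro y
      obtain ⟨x, rfl⟩ := θ.surjective y
      rw [resL_apply, resL_apply]
      exact (hθD1 g x).trans (h1 x)
    exact congrArg Subtype.val h2
  obtain ⟨Ψ, hΨ⟩ := exists_algEquiv p R u hu χ hχ (CartDual.D R A) hpD hID hpowD
    (CartDual.D R A') hpD' hID' hpowD' θD hθD2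
  -- canonical elements
  obtain ⟨δ, ϕ, hδ, hϕ⟩ := exists_phi p R A hp
  obtain ⟨δ', ϕ', hδ', hϕ'⟩ := exists_phi p R A' hp'
  have hδid : PhiL R A δ = LinearMap.id := by
    apply LinearMap.ext
    intro a
    rw [← rid_lTensor_eval, hδ]
    rfl
  have hδid' : PhiL R A' δ' = LinearMap.id := by
    apply LinearMap.ext
    intro a
    rw [← rid_lTensor_eval, hδ']
    rfl
  have hc : PhiL R A (ϕ (OortTate.ygen R p u χ 1)) = piAug R A p χ u 1 :=
    congrArg WithConv.ofConv (Phi_phi_ygen p R u χ A δ hδ ϕ hϕ 1)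
  have hc' : PhiL R A' (ϕ' (OortTate.ygen R p u χ 1)) = piAug R A' p χ u 1 :=
    congrArg WithConv.ofConv (Phi_phi_ygen p R u χ A' δ' hδ' ϕ' hϕ' 1)
  obtain ⟨hspan, -⟩ := Groth.Agent.Lib.Helper92.OTPair.main p R u hu χ A δ hδ ϕ hϕ
    (hI 1).1 (hI 1).2.1 (hI 1).2.2
  have hcmem : ϕ (OortTate.ygen R p u χ 1) ∈
      LinearMap.range (TensorProduct.map (OortTate.eigenAug R A p χ 1).subtype
          (OortTate.eigenAug R (CartDual.D R A) p χ 1).subtype) := by
    rw [← hspan]
    exact Submodule.mem_span_singleton_self _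
  obtain ⟨w, hw⟩ := hcmem
  let Ξ : A ⊗[R] CartDual.D R A →ₐ[R] A' ⊗[R] CartDual.D R A' :=
    Algebra.TensorProduct.map Φ.toAlgHom Ψ.toAlgHom
  let πA : A →ₗ[R] OortTate.eigenAug R A p χ 1 :=
    LinearMap.codRestrict _ (piAug R A p χ u 1) (piAug_mem R A p χ hp u 1)
  let πA' : A' →ₗ[R] OortTate.eigenAug R A' p χ 1 :=
    LinearMap.codRestrict _ (piAug R A' p χ u 1) (piAug_mem R A' p χ hp' u 1)
  have hπA : ∀ x : OortTate.eigenAug R A p χ 1, πA (x : A) = x := fun x =>
    Subtype.ext (piAug_fix R A p χ hp u hu 1 x x.2)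
  let E : A →ₗ[R] A' := (OortTate.eigenAug R A' p χ 1).subtype ∘ₗ θ.toLinearMap ∘ₗ πA
  let E' : A' →ₗ[R] A := (OortTate.eigenAug R A p χ 1).subtype ∘ₗ θ.symm.toLinearMap ∘ₗ πA'
  have claim : ∀ w : (OortTate.eigenAug R A p χ 1) ⊗[R] (OortTate.eigenAug R (CartDual.D R A) p χ 1),
      PhiL R A' (Ξ (TensorProduct.map (OortTate.eigenAug R A p χ 1).subtype
          (OortTate.eigenAug R (CartDual.D R A) p χ 1).subtype w)) =
        E ∘ₗ PhiL R A (TensorProduct.map (OortTate.eigenAug R A p χ 1).subtype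
          (OortTate.eigenAug R (CartDual.D R A) p χ 1).subtype w) ∘ₗ E' := by
    intro w
    induction w using TensorProduct.induction_on with
    | zero => simp
    | add w₁ w₂ h₁ h₂ => simp only [map_add, h₁, h₂, LinearMap.add_comp, LinearMap.comp_add]
    | tmul x ξ =>
      apply LinearMap.ext
      intro b'
      rw [TensorProduct.map_tmul, Submodule.subtype_apply, Submodule.subtype_apply]
      show PhiL R A' ((Φ (x : A)) ⊗ₜ[R] (Ψ (ξ : CartDual.D R A))) b' =
        E (PhiL R A ((x : A) ⊗ₜ[R] (ξ : CartDual.D R A)) (E' b'))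
      rw [PhiL_tmul, PhiL_tmul, map_smul, hΦ, hΨ]
      have hE : E (x : A) = (θ x : A') := by
        show ((θ (πA (x : A)) : OortTate.eigenAug R A' p χ 1) : A') = _
        rw [hπA]
      rw [hE]
      congr 1
      have h3 : E' b' = ((θ.symm (πA' b') : OortTate.eigenAug R A p χ 1) : A) := rfl
      rw [h3, ← hθD1 ξ (θ.symm (πA' b')), LinearEquiv.apply_symm_apply]
      exact (dual_piAug R A' p χ hp' u hu 1 _ (θD ξ).2 b').symm
  have hΞc : Ξ (ϕ (OortTate.ygen R p u χ 1)) = ϕ' (OortTate.ygen R p u χ 1) := by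
    apply PhiL_injective R A'
    rw [hc', ← hw, claim w, hw, hc]
    apply LinearMap.ext
    intro b'
    show E (piAug R A p χ u 1 (E' b')) = _
    have h3 : E' b' = ((θ.symm (πA' b') : OortTate.eigenAug R A p χ 1) : A) := rfl
    rw [h3, piAug_fix R A p χ hp u hu 1 _ (θ.symm (πA' b')).2]
    show ((θ (πA ((θ.symm (πA' b') : OortTate.eigenAug R A p χ 1) : A)) :
      OortTate.eigenAug R A' p χ 1) : A') = _
    rw [hπA, LinearEquiv.apply_symm_apply]
    rfl
  have hcomp : Ξ.comp ϕ = ϕ' := by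
    refine AlgHom.ext_of_adjoin_eq_top (adjoin_eq_top R p u χ hu hχ hχp) ?_
    rintro _ rfl
    exact hΞc
  have hΞδ : Ξ δ = δ' := by
    rw [← hϕ, ← hϕ', ← hcomp]
    rfl
  have hpair := pairing_of_delta R A A' Φ Ψ.toLinearMap δ δ' hδid hδid' hΞδ
  exact bialgEquiv_of_pairing R A A' Φ Ψ.toAlgHom hpair

end Groth.Agent.S18478
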