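import Groth.Statements.S18480
import Mathlib
import Groth.Agent.Lib.Helper92.HopfRankTwoIso
-- import your own Groth.Agent.* helpers here

set_option autoImplicit false
universe u v
open scoped TensorProduct
open OortTate

namespace Groth.Agent.S18480

/-- Let R be a commutative ring and let A and A' be commutative Hopf algebras over R whose augmentation
ideals are free of rank one with generators x and x', with constants a, b and a', b' ∈ R such that
x² = a x, Δ(x) = x ⊗ 1 + 1 ⊗ x + b x ⊗ x and x'² = a' x', Δ(x') = x' ⊗ 1 + 1 ⊗ x' + b' x' ⊗ x' (the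
group schemes of order two G_{a,b} and G_{a',b'}). Then A and A' are isomorphic as bialgebras over R
(G_{a,b} ≅ G_{a',b'} as group schemes) if and only if there is a unit s of R with a = a'·s and b' =
b·s. -/
theorem result
    (R : Type u) [CommRing R] (A : Type v) [CommRing A] [HopfAlgebra R A]
    (x : A) (hx : Bialgebra.counitAlgHom R A x = 0)
    (hgen : ∀ f : A, Bialgebra.counitAlgHom R A f = 0 → ∃ r : R, f = r • x)
    (hfree : ∀ r : R, r • x = 0 → r = 0)
    (a b : R) (hxa : x * x = a • x)
    (hxb : Bialgebra.comulAlgHom R A x = x ⊗ₜ[R] 1 + 1 ⊗ₜ[R] x + b • (x ⊗ₜ[R] x))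
    (A' : Type v) [CommRing A'] [HopfAlgebra R A']
    (x' : A') (hx' : Bialgebra.counitAlgHom R A' x' = 0)
    (hgen' : ∀ f : A', Bialgebra.counitAlgHom R A' f = 0 → ∃ r : R, f = r • x')
    (hfree' : ∀ r : R, r • x' = 0 → r = 0)
    (a' b' : R) (hxa' : x' * x' = a' • x')
    (hxb' : Bialgebra.comulAlgHom R A' x' = x' ⊗ₜ[R] 1 + 1 ⊗ₜ[R] x' + b' • (x' ⊗ₜ[R] x')) :
    Nonempty (A ≃ₐc[R] A') ↔ ∃ s : Rˣ, a = a' * (s : R) ∧ b' = b * (s : R) := by
  classical
  have D : Groth.Agent.Lib.Helper92.RankTwoData R A x := ⟨hx, hgen, hfree⟩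
  have D' : Groth.Agent.Lib.Helper92.RankTwoData R A' x' := ⟨hx', hgen', hfree'⟩
  -- identify the constants
  have hA : a = D.constA := D.smul_inj (by rw [← hxa, D.mul_self_eq])
  have hA' : a' = D'.constA := D'.smul_inj (by rw [← hxa', D'.mul_self_eq])
  have hB : b = D.constB := by
    have h1 : Bialgebra.comulAlgHom R A x = Coalgebra.comul (R := R) x := rfl
    rw [h1, D.comul_eq] at hxb
    have h2 := congrArg (Groth.Agent.Lib.Helper92.RankTwoData.ev2 D.coordX D.coordX) hxb
    simp only [map_add, map_smul, Groth.Agent.Lib.Helper92.RankTwoData.ev2_tmul, D.coordX_x,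
      D.coordX_one, smul_eq_mul, mul_one, mul_zero, zero_add, zero_mul] at h2
    exact h2.symm
  have hB' : b' = D'.constB := by
    have h1 : Bialgebra.comulAlgHom R A' x' = Coalgebra.comul (R := R) x' := rfl
    rw [h1, D'.comul_eq] at hxb'
    have h2 := congrArg (Groth.Agent.Lib.Helper92.RankTwoData.ev2 D'.coordX D'.coordX) hxb'
    simp only [map_add, map_smul, Groth.Agent.Lib.Helper92.RankTwoData.ev2_tmul, D'.coordX_x,
      D'.coordX_one, smul_eq_mul, mul_one, mul_zero, zero_add, zero_mul] at h2
    exact h2.symm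
  constructor
  · rintro ⟨e⟩
    have hcounit : ∀ f : A, Bialgebra.counitAlgHom R A' (e f) = Bialgebra.counitAlgHom R A f :=
      fun f => CoalgHomClass.counit_comp_apply e f
    have hcounit' : ∀ f : A', Bialgebra.counitAlgHom R A (e.symm f) = Bialgebra.counitAlgHom R A' f :=
      fun f => CoalgHomClass.counit_comp_apply e.symm f
    have hex : e x = D'.coordX (e x) • x' := by
      have := D'.coordX_spec (e x)
      rwa [hcounit, hx, zero_smul, zero_add] at this
    have hex' : e.symm x' = D.coordX (e.symm x') • x := by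
      have := D.coordX_spec (e.symm x')
      rwa [hcounit', hx', zero_smul, zero_add] at this
    set s := D'.coordX (e x) with hs
    set t := D.coordX (e.symm x') with ht
    have hst : s * t = 1 := by
      apply D.smul_inj
      have : e.symm (e x) = x := e.symm_apply_apply x
      rw [hex, map_smul, hex', smul_smul] at this
      rw [one_smul]
      exact this
    have hmul : a * s = s * s * a' := by
      apply D'.smul_inj
      have h1 : e (x * x) = e x * e x := map_mul e x x
      rw [hxa, map_smul, hex, smul_mul_smul_comm, hxa', smul_smul, smul_smul] at h1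
      exact h1
    have hcom : b * s * s = s * b' := by
      have h1 : TensorProduct.map (e : A →ₗ[R] A') (e : A →ₗ[R] A') (Coalgebra.comul (R := R) x)
          = Coalgebra.comul (R := R) (e x) := CoalgHomClass.map_comp_comul_apply e x
      have h2 : Coalgebra.comul (R := R) x = x ⊗ₜ[R] 1 + 1 ⊗ₜ[R] x + b • (x ⊗ₜ[R] x) := hxb
      have h3 : Coalgebra.comul (R := R) x' = x' ⊗ₜ[R] 1 + 1 ⊗ₜ[R] x' + b' • (x' ⊗ₜ[R] x') := hxb'
      have hLx : (e : A →ₗ[R] A') x = s • x' := hex
      have hL1 : (e : A →ₗ[R] A') 1 = 1 := map_one e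
      rw [h2, hex, map_smul, h3] at h1
      generalize (e : A →ₗ[R] A') = L at h1 hLx hL1
      have h4 := congrArg (Groth.Agent.Lib.Helper92.RankTwoData.ev2 D'.coordX D'.coordX) h1
      simp only [map_add, map_smul, TensorProduct.map_tmul, hLx, hL1,
        Groth.Agent.Lib.Helper92.RankTwoData.ev2_tmul, D'.coordX_x, D'.coordX_one,
        smul_eq_mul, mul_one, mul_zero, zero_add, zero_mul] at h4
      linear_combination h4
    refine ⟨Units.mkOfMulEqOne s t hst, ?_, ?_⟩
    · show a = a' * s
      linear_combination t * hmul + (-a + s * a') * hst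
    · show b' = b * s
      linear_combination (-t) * hcom + (b * s - b') * hst
  · rintro ⟨s, has, hbs⟩
    have hst : (s : R) * ((s⁻¹ : Rˣ) : R) = 1 := by simp
    have h1 : D.constA * (s : R) = (s : R) * (s : R) * D'.constA := by
      rw [← hA, ← hA', has]; ring
    have h2 : D'.constA * ((s⁻¹ : Rˣ) : R) = ((s⁻¹ : Rˣ) : R) * ((s⁻¹ : Rˣ) : R) * D.constA := by
      rw [← hA, ← hA', has]
      linear_combination (-(a' : R) * ((s⁻¹ : Rˣ) : R)) * hst
    have h3 : D.constB * (s : R) * (s : R) = (s : R) * D'.constB := by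
      rw [← hB, ← hB', hbs]; ring
    exact ⟨D.bialgEquivOf D' (s : R) ((s⁻¹ : Rˣ) : R) hst h1 h2 h3⟩

end Groth.Agent.S18480
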