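import Groth.Statements.S18483
import Groth.Agent.Lib.Helper26.NeronProper

set_option autoImplicit false
universe u
open CategoryTheory CategoryTheory.Limits AlgebraicGeometry MonObj
open Neron

namespace Groth.Agent.S18483

/-- Let R be a Dedekind domain with fraction field K and N a proper smooth group scheme over Spec R,
with no connectedness condition on its fibres. Then N is a Néron model of its generic fibre N_K: N
is smooth, separated and of finite type over Spec R, and for every smooth Spec R-scheme Y
restriction to generic fibres is a bijection from R-morphisms Y → N onto K-morphisms Y_K → N_K. (The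
source allows any connected Dedekind scheme as base; the affine case is stated.) -/
theorem result (R : Type u) [CommRing R] [IsDedekindDomain R]
    (N : Over (Spec (CommRingCat.of R))) [GrpObj N] [IsProper N.hom] [Smooth N.hom] :
    Neron.IsNeronModelOf R N ((Neron.genericFibre R).obj N) (Iso.refl _) := by
  refine ⟨inferInstance, inferInstance, inferInstance, inferInstance, fun Y hY => ?_⟩
  haveI := hY
  have h : Function.Bijective (fun g : Y ⟶ N =>
      (Groth.Agent.Lib.Helper26.NeronTorsor.ε (Neron.genPt R)).app Y ≫ g) := by
    constructor
    · intro g₁ g₂ h
      exact Groth.Agent.Lib.Helper26.NeronTorsor.ε_ext (Neron.genPt R) h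
    · intro ψ
      haveI : GrpObj (Over.mk N.hom) := ‹GrpObj N›
      obtain ⟨u, ⟨hu1, hu2⟩, -⟩ := Groth.Agent.Lib.Helper26.NeronProper.nmp_proper Y.hom N.hom
        ψ.left (by
          have := Over.w ψ
          rw [this]
          simp [pullback.condition])
      refine ⟨Over.homMk u hu1, ?_⟩
      ext
      simp [hu2]
  rw [← Groth.Agent.Lib.Helper26.NeronTorsor.bijective_pullback_map_iff] at h
  simpa using h

end Groth.Agent.S18483
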