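import Groth.Statements.S18484
import Mathlib
import Groth.Agent.Lib.Helper70.NeronClosA
import Groth.Agent.S18498

set_option autoImplicit false
universe u
open CategoryTheory CategoryTheory.Limits AlgebraicGeometry MonObj
open Neron

namespace Groth.Agent.S18484

/-- Let R be a Dedekind domain with fraction field K, X a Spec R-scheme which is a Néron model of its
generic fibre X_K, and i : G → X a closed immersion with G smooth over Spec R. Then G is a Néron
model of its generic fibre G_K: smooth, separated, of finite type, and for every smooth Spec
R-scheme Y restriction to generic fibres is a bijection from R-morphisms Y → G onto K-morphisms Y_K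
→ G_K. (The source states this for a closed subgroup scheme of a Néron model; the group laws play no
part and are not assumed. The converse direction of the source, that a Néron model is a closed
subgroup of a Néron model, is immediate and not stated.) -/
theorem result (R : Type u) [CommRing R] [IsDedekindDomain R]
    (X G : Over (Spec (CommRingCat.of R))) (hX : Neron.IsNeronModelOf R X ((Neron.genericFibre R).obj X) (Iso.refl _))
    (i : G ⟶ X) [IsClosedImmersion i.left] [Smooth G.hom] :
    Neron.IsNeronModelOf R G ((Neron.genericFibre R).obj G) (Iso.refl _) := by
  obtain ⟨hsm, hsep, hlft, hqc, hbij⟩ := hX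
  have hw : i.left ≫ X.hom = G.hom := Over.w i
  have hmono : Mono i := by
    have : Mono ((Over.forget _).map i) := by
      show Mono i.left
      infer_instance
    exact (Over.forget _).mono_of_mono_map this
  have hGsep : IsSeparated G.hom := by rw [← hw]; infer_instance
  have hGlft : LocallyOfFiniteType G.hom := by rw [← hw]; infer_instance
  have hGqc : QuasiCompact G.hom := by rw [← hw]; infer_instance
  refine ⟨inferInstance, hGsep, hGlft, hGqc, ?_⟩
  intro Y hY
  have hYflat : Flat Y.hom := inferInstance
  constructor
  · intro g₁ g₂ h
    simp only [Iso.refl_hom, Category.comp_id] at h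
    exact Groth.Agent.S18498.result R Y G g₁ g₂ h
  · intro u
    obtain ⟨v, hv⟩ := (hbij Y hY).2 (u ≫ (genericFibre R).map i)
    simp only [Iso.refl_hom, Category.comp_id] at hv
    let d := pullback.fst Y.hom (genPt R)
    have hd : d.ker = ⊥ :=
      Groth.Agent.Lib.Helper70.NeronClosA.ker_eq_bot_of_isPullback_genPt R Y.hom d
        (pullback.snd Y.hom (genPt R)) (IsPullback.of_hasPullback _ _)
    have hfac : d ≫ v.left = (u.left ≫ pullback.fst G.hom (genPt R)) ≫ i.left := by
      have e1 : ((genericFibre R).map v).left ≫ pullback.fst X.hom (genPt R) = d ≫ v.left :=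
        pullback.lift_fst _ _ _
      have e2 : ((genericFibre R).map i).left ≫ pullback.fst X.hom (genPt R) =
          pullback.fst G.hom (genPt R) ≫ i.left := pullback.lift_fst _ _ _
      rw [← e1, hv, Over.comp_left, Category.assoc, e2, Category.assoc]
    obtain ⟨m₀, hm₀⟩ := Groth.Agent.Lib.Helper70.NeronClosA.exists_lift_of_ker_eq_bot
      i.left v.left d hd _ hfac
    let m : Y ⟶ G := Over.homMk m₀ (by
      rw [← hw, ← Category.assoc, hm₀, Over.w])
    have hm : m ≫ i = v := Over.OverMorphism.ext hm₀
    refine ⟨m, ?_⟩
    simp only [Iso.refl_hom, Category.comp_id]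
    have : Mono ((genericFibre R).map i) := inferInstance
    rw [← cancel_mono ((genericFibre R).map i), ← Functor.map_comp, hm, hv]

end Groth.Agent.S18484
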