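import Groth.Statements.S18485
import Groth.Agent.Lib.Helper14.IsogenyDim

set_option autoImplicit false
universe u
open CategoryTheory CategoryTheory.Limits AlgebraicGeometry MonObj
open Neron

namespace Groth.Agent.S18485

/-- Let R be a Dedekind domain with fraction field K and H a Spec R-scheme which is flat and locally of
finite type over Spec R. If the generic fibre H_K is locally quasi-finite over K, then H is locally
quasi-finite over Spec R. (The published statement is about the schematic closure, in an S-group
algebraic space of finite type over a connected Dedekind scheme S, of a finite subgroup of the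
generic fibre, which it asserts to be a quasi-finite S-group; this row is the statement about flat
schemes locally of finite type over an affine Dedekind base on which that rests. Locally
quasi-finite is meant here without a finite type clause, which is assumed separately.) -/
theorem result (R : Type u) [CommRing R]
    [IsDedekindDomain R] (H : Over (Spec (CommRingCat.of R))) [Flat H.hom] [LocallyOfFiniteType H.hom]
    [LocallyQuasiFinite ((Neron.genericFibre R).obj H).hom] : LocallyQuasiFinite H.hom := by
  haveI : IsDomain R := inferInstance
  let HK := (Neron.genericFibre R).obj H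
  haveI : Subsingleton ↥(Spec (CommRingCat.of (FractionRing R))) :=
    inferInstanceAs (Subsingleton (PrimeSpectrum (FractionRing R)))
  let ptK : ↥(Spec (CommRingCat.of (FractionRing R))) := IsLocalRing.closedPoint (FractionRing R)
  have hgen : ∀ (s : ↥(Spec (CommRingCat.of R)))
      (pt : ↥(Spec (CommRingCat.of (FractionRing R)))), (Neron.genPt R) pt ⤳ s := by
    intro s pt
    haveI hptp : pt.asIdeal.IsPrime := pt.2
    refine (PrimeSpectrum.le_iff_specializes
      (⟨Ideal.comap (algebraMap R (FractionRing R)) pt.asIdeal, inferInstance⟩ : PrimeSpectrum R)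
      (s : PrimeSpectrum R)).mp ?_
    show Ideal.comap (algebraMap R (FractionRing R)) pt.asIdeal ≤ s.asIdeal
    have hpt : pt.asIdeal = ⊥ := Ideal.eq_bot_of_prime pt.asIdeal
    rw [hpt, ← RingHom.ker_eq_comap_bot,
      (RingHom.injective_iff_ker_eq_bot _).mp (IsFractionRing.injective R (FractionRing R))]
    exact bot_le
  haveI : IsLocallyArtinian (Spec (CommRingCat.of (FractionRing R))) := inferInstance
  haveI : IsLocallyArtinian HK.left := IsLocallyArtinian.of_locallyQuasiFinite HK.hom
  have h0 : ∀ x : H.left, FlatMor.fibreDimAt H.hom x ≤ 0 := by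
    intro x
    obtain ⟨x', hx's, -, hle⟩ :=
      Groth.Agent.Lib.Helper23.FlatGenericScheme.exists_generization_fibreDimAt_ge H.hom x
        ((Neron.genPt R) ptK) (hgen _ _)
    obtain ⟨z, hz, -⟩ := Scheme.Pullback.exists_preimage_pullback (f := H.hom) (g := Neron.genPt R)
      x' ptK hx's
    have h3 : FlatMor.fibreDimAt HK.hom z =
        FlatMor.fibreDimAt H.hom (pullback.fst H.hom (Neron.genPt R) z) :=
      Groth.Agent.Lib.Helper55.fibreDimAt_eq_of_isPullback H.hom (Neron.genPt R) (pullback.fst _ _)
        (pullback.snd _ _) (IsPullback.of_hasPullback _ _) z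
    have h1 : FlatMor.fibreDimAt HK.hom z = FlatMor.localDim ↥HK.left z :=
      Groth.Agent.Lib.Helper78.AbVarFibre.fibreDimAt_eq_localDim_of_const HK.hom
        (fun _ _ => Subsingleton.elim _ _) z
    have h2 : FlatMor.localDim ↥HK.left z ≤ 0 := by
      refine le_trans ?_ (topologicalKrullDim_zero_of_discreteTopology ↥HK.left)
      rw [Groth.Agent.Lib.Helper55.topologicalKrullDim_eq_iSup_localDim]
      exact le_iSup (fun z => FlatMor.localDim ↥HK.left z) _
    rw [hz] at h3
    rw [← h3, h1] at hle
    exact hle.trans h2
  apply LocallyQuasiFinite.of_fiberToSpecResidueField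
  intro s
  haveI : LocallyOfFiniteType (H.hom.fiberToSpecResidueField s) :=
    inferInstanceAs (LocallyOfFiniteType (pullback.snd H.hom
      ((Spec (CommRingCat.of R)).fromSpecResidueField s)))
  apply Groth.Agent.H52.locallyQuasiFinite_of_dim_le_zero
  rw [Groth.Agent.Lib.Helper55.topologicalKrullDim_eq_iSup_localDim]
  apply iSup_le
  intro z
  rw [Groth.Agent.Lib.Helper55.localDim_fiber_eq_fibreDimAt]
  exact h0 _

end Groth.Agent.S18485
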