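import Groth.Statements.S18489
import Groth.Agent.Lib.Helper14.IsogenyDim
import Groth.Agent.Lib.Helper54.Reduced
import Groth.Agent.Lib.Helper13.MiracleLQF
import Groth.Agent.Lib.Helper28.RegularCM
import Groth.Agent.S1535

set_option autoImplicit false
universe u
open CategoryTheory CategoryTheory.Limits AlgebraicGeometry MonObj
open Neron

namespace Groth.Agent.S18489

open MonoidalCategory CartesianMonoidalCategory

/-- Let R be a Dedekind domain with fraction field K, let A and B be group schemes over Spec R which are
Néron models of their generic fibres A_K and B_K, both abelian varieties over K (proper and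
geometrically integral), and let φ : A → B be a homomorphism of group schemes over Spec R whose
generic fibre φ_K is an isogeny (surjective with finite kernel). Then φ is locally quasi-finite (its
fibres are finite; it is of finite type in any case) if and only if φ is flat. (A third equivalent
condition, surjectivity of φ on the identity components of the fibres, is not part of this
statement. The published lemma is over any connected Dedekind scheme; the affine base is stated.) -/
theorem result (R : Type u) [CommRing R]
    [IsDedekindDomain R] (A B : Over (Spec (CommRingCat.of R))) [GrpObj A] [GrpObj B]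
    (hA : Neron.IsNeronModelOf R A ((Neron.genericFibre R).obj A) (Iso.refl _))
    (hB : Neron.IsNeronModelOf R B ((Neron.genericFibre R).obj B) (Iso.refl _))
    [IsProper ((Neron.genericFibre R).obj A).hom] [GeometricallyIntegral ((Neron.genericFibre R).obj A).hom]
    [IsProper ((Neron.genericFibre R).obj B).hom] [GeometricallyIntegral ((Neron.genericFibre R).obj B).hom]
    (φ : A ⟶ B) [IsMonHom φ] (hφ : SGA7.IsIsogenyOver ((Neron.genericFibre R).map φ)) :
    LocallyQuasiFinite φ.left ↔ Flat φ.left := by
  obtain ⟨hsmA, hsepA, hlftA, hqcA, -⟩ := hA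
  obtain ⟨hsmB, hsepB, hlftB, hqcB, -⟩ := hB
  haveI : IsDomain R := inferInstance
  haveI : LocallyOfFinitePresentation A.hom := inferInstance
  haveI : LocallyOfFinitePresentation B.hom := inferInstance
  haveI : Flat A.hom := inferInstance
  haveI : Flat B.hom := inferInstance
  let AK := (Neron.genericFibre R).obj A
  let BK := (Neron.genericFibre R).obj B
  let φK : AK ⟶ BK := (Neron.genericFibre R).map φ
  have hlftφ : LocallyOfFiniteType φ.left := by
    have : LocallyOfFiniteType (φ.left ≫ B.hom) := by rw [Over.w]; infer_instance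
    exact locallyOfFiniteType_of_comp φ.left B.hom
  haveI : LocallyOfFiniteType AK.hom := by
    show LocallyOfFiniteType (pullback.snd _ _); infer_instance
  haveI : LocallyOfFiniteType BK.hom := by
    show LocallyOfFiniteType (pullback.snd _ _); infer_instance
  haveI : LocallyOfFinitePresentation AK.hom := by
    show LocallyOfFinitePresentation (pullback.snd _ _); infer_instance
  haveI : LocallyOfFinitePresentation BK.hom := by
    show LocallyOfFinitePresentation (pullback.snd _ _); infer_instance
  have hlftφK : LocallyOfFiniteType φK.left := by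
    have : LocallyOfFiniteType (φK.left ≫ BK.hom) := by rw [Over.w]; infer_instance
    exact locallyOfFiniteType_of_comp φK.left BK.hom
  haveI : Subsingleton ↥(Spec (CommRingCat.of (FractionRing R))) :=
    inferInstanceAs (Subsingleton (PrimeSpectrum (FractionRing R)))
  -- `φ_K` is flat and locally quasi-finite
  haveI hflK : Flat φK.left := by
    haveI : Flat AK.hom := by
      show Flat (pullback.snd _ _); infer_instance
    haveI : Surjective φK.left := hφ.1
    haveI : Smooth BK.hom := by
      show Smooth (pullback.snd _ _); infer_instance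
    haveI : IsReduced BK.left :=
      Groth.Agent.Lib.Helper54.isReduced_of_smooth_scheme BK.hom
    exact Groth.Agent.Lib.Helper14.FibreCrit.flat_of_surjective_grpHom_of_subsingleton φK
  haveI hqfK : LocallyQuasiFinite φK.left :=
    Groth.Agent.Lib.Helper14.IsogenyDim.locallyQuasiFinite_of_isIsogenyOver φK hφ
  let ptK : ↥(Spec (CommRingCat.of (FractionRing R))) := IsLocalRing.closedPoint (FractionRing R)
  have hdimK : topologicalKrullDim ↥AK.left = topologicalKrullDim ↥BK.left :=
    Groth.Agent.Lib.Helper14.IsogenyDim.dim_eq_of_flat_of_locallyQuasiFinite φK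
      ((η[AK] : 𝟙_ _ ⟶ AK).left ptK)
  -- the generic point specialises to every point
  have hgen : ∀ (s : ↥(Spec (CommRingCat.of R)))
      (pt : ↥(Spec (CommRingCat.of (FractionRing R)))), (Neron.genPt R) pt ⤳ s := by
    intro s pt
    haveI hptp : pt.asIdeal.IsPrime := pt.2
    refine (PrimeSpectrum.le_iff_specializes
      (⟨Ideal.comap (algebraMap R (FractionRing R)) pt.asIdeal, inferInstance⟩ : PrimeSpectrum R)
      (s : PrimeSpectrum R)).mp ?_
    show Ideal.comap (algebraMap R (FractionRing R)) pt.asIdeal ≤ s.asIdeal
    have hpt : pt.asIdeal = ⊥ := Ideal.eq_bot_of_prime pt.asIdeal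
    rw [hpt, ← RingHom.ker_eq_comap_bot,
      (RingHom.injective_iff_ker_eq_bot _).mp (IsFractionRing.injective R (FractionRing R))]
    exact bot_le
  have hA' : ∀ x : A.left, FlatMor.fibreDimAt A.hom x = topologicalKrullDim ↥AK.left := fun x =>
    Groth.Agent.Lib.Helper14.IsogenyDim.fibreDimAt_eq_dim_pullback A (Neron.genPt R) x
      (fun pt => hgen _ pt)
  have hB' : ∀ θ : B.left, FlatMor.fibreDimAt B.hom θ = topologicalKrullDim ↥BK.left := fun θ =>
    Groth.Agent.Lib.Helper14.IsogenyDim.fibreDimAt_eq_dim_pullback B (Neron.genPt R) θ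
      (fun pt => hgen _ pt)
  obtain ⟨e, he⟩ : ∃ e : ℕ, topologicalKrullDim ↥BK.left = e := by
    obtain ⟨n, hn⟩ := Groth.Agent.Lib.Helper14.exists_fibreDimAt_eq_natCast B
      ((η[B] : 𝟙_ _ ⟶ B).left ((Neron.genPt R) ptK))
    exact ⟨n, (hB' _).symm.trans hn⟩
  constructor
  · intro hLQF
    haveI := hLQF
    haveI hsm' : Smooth (φ.left ≫ B.hom) := by rw [Over.w φ]; exact hsmA
    refine Flat.of_stalkMap _ fun x => ?_
    refine Groth.Agent.Lib.Helper13.MiracleLQF.flat_stalkMap_of_lqf_over_smooth φ.left B.hom e
      (fun θ => by rw [hB' θ, he]) x (Flat.stalkMap _ x) ?_ ?_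
    · let k := (Spec (CommRingCat.of R)).residueField ((φ.left ≫ B.hom) x)
      let F := (φ.left ≫ B.hom).fiber ((φ.left ≫ B.hom) x)
      letI : F.Over (Spec (CommRingCat.of k)) :=
        ⟨(φ.left ≫ B.hom).fiberToSpecResidueField _⟩
      haveI : Smooth (F ↘ Spec (CommRingCat.of k)) := by
        show Smooth (pullback.snd _ _); infer_instance
      haveI := Groth.Agent.S1535.result k F ((φ.left ≫ B.hom).asFiber x)
      exact Groth.Agent.Lib.Helper28.isCohenMacaulayLocalRing_of_isRegularLocalRing _
    · have key : ∀ (f g : A.left ⟶ Spec (CommRingCat.of R)), f = g →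
          FlatMor.fibreDimAt f x = FlatMor.fibreDimAt g x := by
        intro f g h; subst h; rfl
      rw [key _ _ (Over.w φ), hA' x, hdimK, he]
  · intro hfl
    haveI := hfl
    refine (locallyQuasiFinite_iff_isDiscrete_preimage_singleton).mpr fun y => ?_
    let s : ↥(Spec (CommRingCat.of R)) := B.hom y
    let k := (Spec (CommRingCat.of R)).residueField s
    let ψ : Spec (CommRingCat.of k) ⟶ Spec (CommRingCat.of R) :=
      (Spec (CommRingCat.of R)).fromSpecResidueField s
    let As : Over (Spec (CommRingCat.of k)) := (Over.pullback ψ).obj A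
    let Bs : Over (Spec (CommRingCat.of k)) := (Over.pullback ψ).obj B
    let us : As ⟶ Bs := (Over.pullback ψ).map φ
    haveI : LocallyOfFiniteType As.hom := by
      show LocallyOfFiniteType (pullback.snd _ _); infer_instance
    haveI : LocallyOfFiniteType Bs.hom := by
      show LocallyOfFiniteType (pullback.snd _ _); infer_instance
    haveI : Flat us.left := MorphismProperty.of_isPullback (P := @Flat)
      (Groth.Agent.Lib.Helper14.isPullback_overPullback_map_left φ ψ) hfl
    have hψ : ∀ pt, ψ pt = s := fun pt => Scheme.fromSpecResidueField_apply _ pt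
    have hdA : FlatMor.fibreDimAt A.hom ((η[A] : 𝟙_ _ ⟶ A).left s) =
        topologicalKrullDim ↥As.left :=
      Groth.Agent.Lib.Helper14.IsogenyDim.fibreDimAt_eq_dim_pullback A ψ _
        (fun pt => by rw [hψ, Groth.Agent.Lib.Helper14.unit_hom_apply])
    have hdB : FlatMor.fibreDimAt B.hom ((η[B] : 𝟙_ _ ⟶ B).left s) =
        topologicalKrullDim ↥Bs.left :=
      Groth.Agent.Lib.Helper14.IsogenyDim.fibreDimAt_eq_dim_pullback B ψ _
        (fun pt => by rw [hψ, Groth.Agent.Lib.Helper14.unit_hom_apply])
    have hdim : topologicalKrullDim ↥As.left = topologicalKrullDim ↥Bs.left := by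
      rw [← hdA, ← hdB, hA', hB', hdimK]
    haveI : LocallyQuasiFinite us.left :=
      Groth.Agent.Lib.Helper14.locallyQuasiFinite_of_flat_of_dim_eq us hdim
    let pt : ↥(Spec (CommRingCat.of k)) := IsLocalRing.closedPoint k
    obtain ⟨y', hy', -⟩ := Scheme.Pullback.exists_preimage_pullback (f := B.hom) (g := ψ) y pt
      (hψ pt).symm
    have hsub : φ.left ⁻¹' {y} ⊆ (pullback.fst A.hom ψ) '' (us.left ⁻¹' {y'}) := by
      intro x hx
      obtain ⟨x', hx1, hx2⟩ := Groth.Agent.Lib.Helper14.exists_of_isPullback'
        (Groth.Agent.Lib.Helper14.isPullback_overPullback_map_left φ ψ) x y' (hx.trans hy'.symm)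
      exact ⟨x', hx2, hx1⟩
    refine IsDiscrete.mono ?_ hsub
    refine (us.left.isDiscrete_preimage_singleton y').image ?_
    exact (A.hom.fiberι s).isEmbedding.isInducing

end Groth.Agent.S18489
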