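import Groth.Statements.S18490
import Mathlib
-- import your own Groth.Agent.* helpers here

set_option autoImplicit false
universe u
open CategoryTheory CategoryTheory.Limits AlgebraicGeometry
open FlatMor

namespace Groth.Agent.S18490

theorem ringHom_flat_of_retract {R M N : Type*} [CommRing R] [CommRing M] [CommRing N]
    (φ : R →+* M) (τ : M →+* N) (ρ : N →+* M) (h : ρ.comp τ = RingHom.id M)
    (hflat : (τ.comp φ).Flat) : φ.Flat := by
  let algM : Algebra R M := φ.toAlgebra
  let algN : Algebra R N := (τ.comp φ).toAlgebra
  have hN : Module.Flat R N := hflat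
  let τl : M →ₗ[R] N :=
    { toFun := τ
      map_add' := map_add τ
      map_smul' := by
        intro r m
        show τ (φ r * m) = (τ.comp φ) r * τ m
        rw [map_mul]; rfl }
  let ρl : N →ₗ[R] M :=
    { toFun := ρ
      map_add' := map_add ρ
      map_smul' := by
        intro r n
        show ρ ((τ.comp φ) r * n) = φ r * ρ n
        rw [map_mul]
        have : ρ ((τ.comp φ) r) = φ r := by
          show (ρ.comp τ) (φ r) = φ r
          rw [h]; rfl
        rw [this] }
  have hcomp : ρl.comp τl = LinearMap.id := by
    ext m
    show (ρ.comp τ) m = m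
    rw [h]; rfl
  exact Module.Flat.of_retract τl ρl hcomp

/-- Let f : X → S and g : Y → S be morphisms of schemes and suppose that g has a section y : S → Y. If
the structure morphism X ×_S Y → S (first projection followed by f) is quasi-compact, then so is f;
likewise for locally of finite type, for separated, and for flat. (Finite type, also listed in the
source, is the conjunction of the first two.) -/
theorem result {X Y S : Scheme.{u}} (f : X ⟶ S) (g : Y ⟶ S)
    (y : S ⟶ Y) (hy : y ≫ g = 𝟙 S) :
    (QuasiCompact (pullback.fst f g ≫ f) → QuasiCompact f) ∧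
    (LocallyOfFiniteType (pullback.fst f g ≫ f) → LocallyOfFiniteType f) ∧
    (IsSeparated (pullback.fst f g ≫ f) → IsSeparated f) ∧
    (Flat (pullback.fst f g ≫ f) → Flat f) := by
  -- the section of the first projection
  let i : X ⟶ pullback f g := pullback.lift (𝟙 X) (f ≫ y) (by simp [Category.assoc, hy])
  have hi : i ≫ pullback.fst f g = 𝟙 X := pullback.lift_fst _ _ _
  have hif : i ≫ (pullback.fst f g ≫ f) = f := by rw [← Category.assoc, hi, Category.id_comp]
  have hsurj : Function.Surjective (pullback.fst f g) := by
    intro x
    refine ⟨i x, ?_⟩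
    have := congrArg (fun φ : X ⟶ X => φ x) hi
    simpa using this
  refine ⟨?_, ?_, ?_, ?_⟩
  · -- quasi-compact
    intro hqc
    refine ⟨fun U hU hUc => ?_⟩
    have h1 : IsCompact ((pullback.fst f g ≫ f) ⁻¹' U) := hqc.isCompact_preimage U hU hUc
    have h2 : f ⁻¹' U = (pullback.fst f g) '' ((pullback.fst f g ≫ f) ⁻¹' U) := by
      ext x
      constructor
      · intro hx
        obtain ⟨z, rfl⟩ := hsurj x
        exact ⟨z, by simpa using hx, rfl⟩
      · rintro ⟨z, hz, rfl⟩
        simpa using hz
    rw [h2]
    exact h1.image (pullback.fst f g).continuous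
  · -- locally of finite type
    intro hft
    have h1 : LocallyOfFiniteType (i ≫ pullback.fst f g) := by rw [hi]; infer_instance
    have h2 : LocallyOfFiniteType i := locallyOfFiniteType_of_comp i (pullback.fst f g)
    rw [← hif]
    infer_instance
  · -- separated
    intro hsep
    have h1 : IsSeparated (i ≫ pullback.fst f g) := by rw [hi]; infer_instance
    have h2 : IsSeparated i := IsSeparated.of_comp i (pullback.fst f g)
    rw [← hif]
    infer_instance
  · -- flat
    intro hflat
    apply Flat.of_stalkMap
    intro x
    have hx : pullback.fst f g (i x) = x := by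
      have := congrArg (fun φ : X ⟶ X => φ x) hi
      simpa using this
    have key : (f.stalkMap (pullback.fst f g (i x))).hom.Flat := by
      have h1 : ((pullback.fst f g ≫ f).stalkMap (i x)).hom.Flat := Flat.stalkMap _ (i x)
      rw [Scheme.Hom.stalkMap_comp] at h1
      -- the retraction
      let c := X.presheaf.stalkCongr (.of_eq hx)
      have h2 : (pullback.fst f g).stalkMap (i x) ≫ i.stalkMap x = c.hom := by
        rw [← Scheme.Hom.stalkMap_comp, Scheme.Hom.stalkMap_congr_hom _ _ hi x,
          Scheme.Hom.stalkMap_id]
        exact Category.comp_id _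
      refine ringHom_flat_of_retract (f.stalkMap (pullback.fst f g (i x))).hom
        ((pullback.fst f g).stalkMap (i x)).hom (i.stalkMap x ≫ c.inv).hom ?_ ?_
      · rw [← CommRingCat.hom_comp, ← Category.assoc, h2, Iso.hom_inv_id]
        rfl
      · rw [← CommRingCat.hom_comp]
        exact h1
    exact hx ▸ key

end Groth.Agent.S18490
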