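import Groth.Statements.S18491
import Groth.Agent.Lib.Helper77.QFEtale2
import Groth.Agent.Lib.Helper77.FinEtale2

set_option autoImplicit false
universe u
open CategoryTheory CategoryTheory.Limits AlgebraicGeometry MonObj
open GrpSch

namespace Groth.Agent.S18491

/-- Let S be a scheme and G an S-group scheme whose structure morphism is locally quasi-finite, of
finite type, flat and locally of finite presentation (a quasi-finite fppf group scheme). Suppose
that for every point s of S the fibre G_s, a finite group scheme over the residue field k(s), has
order non-zero in k(s): the rank of G_s → Spec k(s) at the point of Spec k(s) is not divisible by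
the characteristic. Then G → S is étale. -/
theorem result {S : Scheme.{u}} (G : Over S) [GrpObj G]
    [LocallyQuasiFinite G.hom] [QuasiCompact G.hom] [Flat G.hom] [LocallyOfFinitePresentation G.hom]
    (h : ∀ (s : S) (x : ↥(Spec (S.residueField s))),
      ((pullback.snd G.hom (S.fromSpecResidueField s)).finrank x : S.residueField s) ≠ 0) :
    Etale G.hom := by
  apply Groth.Agent.Lib.Helper77.QFEtale.etale_of_etale_fiberToSpecResidueField
  intro s
  let j := S.fromSpecResidueField s
  let G' : Over (Spec (S.residueField s)) := (Over.pullback j).obj G
  let _ : GrpObj G' := (Over.pullback j).grpObjObj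
  have hG' : G'.hom = pullback.snd G.hom j := rfl
  show Etale (pullback.snd G.hom j)
  rw [← hG']
  have i1 : IsFinite G'.hom := by
    rw [hG']; exact inferInstanceAs (IsFinite (G.hom.fiberToSpecResidueField s))
  have i2 : Flat G'.hom := by rw [hG']; infer_instance
  have i3 : LocallyOfFinitePresentation G'.hom := by rw [hG']; infer_instance
  refine Groth.Agent.Lib.Helper77.FinEtale.etale_of_finrank_ne_zero G' ?_
  intro x
  have h1 := h s x
  intro h2
  apply h1
  let ρ : S.residueField s →+* (Spec (S.residueField s)).residueField x :=
    (Scheme.Spec.residueFieldIso (S.residueField s) x).inv.hom.comp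
      (algebraMap (S.residueField s) x.asIdeal.ResidueField)
  have h3 : ρ ((Scheme.Hom.finrank (pullback.snd G.hom j) x : ℕ) : S.residueField s) = 0 := by
    rw [map_natCast]; exact h2
  exact (map_eq_zero_iff ρ ρ.injective).mp h3

end Groth.Agent.S18491
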