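import Groth.Statements.S18501
import Groth.Agent.Lib.Helper14.FlatHomNeutral
import Groth.Agent.Lib.Helper54.Reduced

set_option autoImplicit false
universe u
open CategoryTheory CategoryTheory.Limits AlgebraicGeometry MonObj
open Neron

namespace Groth.Agent.S18501

open Groth.Agent.Lib.Helper14 Groth.Agent.Lib.Helper70.GrpConnA Groth.Agent.Lib.Helper70.GrpConnC

/-- Let R be a discrete valuation ring with fraction field K and residue field k, let A and B be group
schemes over Spec R which are Néron models of their generic fibres, both abelian varieties over K
(proper and geometrically integral), and let φ : A → B be a homomorphism whose generic fibre is an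
isogeny (surjective with finite kernel). Then φ is flat if and only if the special fibre φ_k : A_k →
B_k maps the connected component of the identity point of A_k onto the connected component of the
identity point of B_k, i.e. the image of the former subset is the latter (φ induces a surjection of
identity components; on the generic fibre this is automatic). (The published lemma is over a
connected Dedekind scheme, with this condition at every point, and includes a further equivalent
condition, quasi-finiteness of φ; the case of a discrete valuation ring is stated here, where only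
the closed point matters.) -/
theorem result (R : Type u) [CommRing R]
    [IsDomain R] [IsDiscreteValuationRing R] (A B : Over (Spec (CommRingCat.of R))) [GrpObj A] [GrpObj B]
    (hA : Neron.IsNeronModelOf R A ((Neron.genericFibre R).obj A) (Iso.refl _))
    (hB : Neron.IsNeronModelOf R B ((Neron.genericFibre R).obj B) (Iso.refl _))
    [IsProper ((Neron.genericFibre R).obj A).hom] [GeometricallyIntegral ((Neron.genericFibre R).obj A).hom]
    [IsProper ((Neron.genericFibre R).obj B).hom] [GeometricallyIntegral ((Neron.genericFibre R).obj B).hom]
    (φ : A ⟶ B) [IsMonHom φ] (hφ : SGA7.IsIsogenyOver ((Neron.genericFibre R).map φ)) :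
    Flat φ.left ↔
      ((Over.pullback (Spec.map (CommRingCat.ofHom (IsLocalRing.residue R)))).map φ).left.base ''
          connectedComponent ((η[Red.bc (Spec.map (CommRingCat.ofHom (IsLocalRing.residue R))) A]).left.base (IsLocalRing.closedPoint (IsLocalRing.ResidueField R))) =
        connectedComponent ((η[Red.bc (Spec.map (CommRingCat.ofHom (IsLocalRing.residue R))) B]).left.base (IsLocalRing.closedPoint (IsLocalRing.ResidueField R))) := by
  obtain ⟨hsmA, hsepA, hlftA, hqcA, -⟩ := hA
  obtain ⟨hsmB, hsepB, hlftB, hqcB, -⟩ := hB
  let k := IsLocalRing.ResidueField R
  let ψ : Spec (CommRingCat.of k) ⟶ Spec (CommRingCat.of R) :=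
    Spec.map (CommRingCat.ofHom (IsLocalRing.residue R))
  let Ak : Over (Spec (CommRingCat.of k)) := (Over.pullback ψ).obj A
  let Bk : Over (Spec (CommRingCat.of k)) := (Over.pullback ψ).obj B
  let uk : Ak ⟶ Bk := (Over.pullback ψ).map φ
  haveI : LocallyOfFinitePresentation Ak.hom := by
    show LocallyOfFinitePresentation (pullback.snd _ _); infer_instance
  haveI : LocallyOfFiniteType Bk.hom := by
    show LocallyOfFiniteType (pullback.snd _ _); infer_instance
  haveI : Smooth Bk.hom := by
    show Smooth (pullback.snd _ _); infer_instance
  have hsub : uk.left '' connectedComponent (ept Ak) ⊆ connectedComponent (ept Bk) := by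
    have h1 := uk.left.continuous.image_connectedComponent_subset (ept Ak)
    rw [Groth.Agent.Lib.Helper14.FlatHomNeutral.map_ept uk] at h1
    exact h1
  show Flat φ.left ↔ uk.left '' connectedComponent (ept Ak) = connectedComponent (ept Bk)
  constructor
  · intro hfl
    haveI : Flat uk.left := MorphismProperty.of_isPullback (P := @Flat)
      (isPullback_overPullback_map_left φ ψ) hfl
    apply Set.Subset.antisymm hsub
    have h := Groth.Agent.Lib.Helper14.FlatHomNeutral.C0_subset_image_of_flat uk
    rw [← connectedComponent_ept, ← connectedComponent_ept] at h
    exact h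
  · intro heq
    apply Groth.Agent.Lib.Helper14.FibreCrit.flat_of_flat_field_points φ
    intro s
    by_cases hs : s.asIdeal = ⊥
    · -- generic point
      refine ⟨CommRingCat.of (FractionRing R), Field.toIsField _, Neron.genPt R, ?_, ?_⟩
      · refine ⟨⟨⊥, Ideal.isPrime_bot⟩, ?_⟩
        apply PrimeSpectrum.ext
        rw [hs]
        show Ideal.comap (algebraMap R (FractionRing R)) ⊥ = ⊥
        rw [← RingHom.ker_eq_comap_bot]
        exact (RingHom.injective_iff_ker_eq_bot _).mp (IsFractionRing.injective R (FractionRing R))
      · haveI : Subsingleton ↥(Spec (CommRingCat.of (FractionRing R))) :=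
          inferInstanceAs (Subsingleton (PrimeSpectrum (FractionRing R)))
        haveI : Flat ((Neron.genericFibre R).obj A).hom := by
          show Flat (pullback.snd _ _); infer_instance
        haveI : Surjective ((Neron.genericFibre R).map φ).left := hφ.1
        haveI : Smooth ((Neron.genericFibre R).obj B).hom := by
          show Smooth (pullback.snd _ _); infer_instance
        haveI : IsReduced ((Neron.genericFibre R).obj B).left :=
          Groth.Agent.Lib.Helper54.isReduced_of_smooth_scheme ((Neron.genericFibre R).obj B).hom
        exact Groth.Agent.Lib.Helper14.FibreCrit.flat_of_surjective_grpHom_of_subsingleton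
          ((Neron.genericFibre R).map φ)
    · -- closed point
      refine ⟨CommRingCat.of k, Field.toIsField _, ψ, ?_, ?_⟩
      · refine ⟨IsLocalRing.closedPoint k, ?_⟩
        apply PrimeSpectrum.ext
        have hmax : s.asIdeal.IsMaximal := Ideal.IsPrime.isMaximal s.2 hs
        rw [IsLocalRing.eq_maximalIdeal hmax]
        show Ideal.comap (IsLocalRing.residue R) (IsLocalRing.maximalIdeal k) = _
        rw [IsLocalRing.maximalIdeal_eq_bot, ← RingHom.ker_eq_comap_bot, IsLocalRing.ker_residue]
      · haveI : IsReduced Bk.left := Groth.Agent.Lib.Helper54.isReduced_of_smooth_scheme Bk.hom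
        apply Groth.Agent.Lib.Helper14.FlatHomNeutral.flat_of_open_subset_range uk
          (C0 Bk) Groth.Agent.Lib.Helper14.FlatHomNeutral.isOpen_C0 ⟨_, ept_mem_C0 _⟩
        intro w hw
        rw [← connectedComponent_ept, ← heq] at hw
        obtain ⟨z, -, hz⟩ := hw
        exact ⟨z, hz⟩

end Groth.Agent.S18501
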