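import Mathlib
import Groth.Statements.S18535

set_option autoImplicit false
universe u
open EtAlg

namespace Groth.Agent.S18535

set_option linter.unusedSectionVars false
set_option linter.style.haveILetI false
open Polynomial Pointwise IsLocalRing IntermediateField

section A
variable {R S G : Type u} [CommRing R] [CommRing S] [IsDomain S] [IsLocalRing R]
  [Algebra R S] [Group G] [Finite G] [MulSemiringAction G S] [SMulCommClass G R S]
  [IsGaloisGroup G R S]

/-- smul of a maximal ideal is maximal -/
lemma isMaximal_smul (n : Ideal S) [hn : n.IsMaximal] (g : G) : (g • n).IsMaximal := by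
  rw [Ideal.pointwise_smul_def]
  exact Ideal.IsMaximal.map_bijective _ (MulSemiringAction.toRingEquiv G S g).bijective hn

/-- CRT element -/
lemma exists_crt (n : Ideal S) [hn : n.IsMaximal] :
    ∃ e : S, e ∈ n ∧ ∀ g : G, g • n ≠ n → e - 1 ∈ g • n := by
  classical
  cases nonempty_fintype G
  have h : n ⊔ ⨅ g ∈ (Finset.univ.filter fun g : G => g • n ≠ n), g • n = ⊤ := by
    apply Ideal.sup_iInf_eq_top
    intro g hg
    have hg' : g • n ≠ n := (Finset.mem_filter.mp hg).2
    exact Ideal.IsMaximal.coprime_of_ne hn (isMaximal_smul n g) (Ne.symm hg')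
  have h1 : (1 : S) ∈ n ⊔ ⨅ g ∈ (Finset.univ.filter fun g : G => g • n ≠ n), g • n := by
    rw [h]; trivial
  obtain ⟨e, he, e', he', hee⟩ := Submodule.mem_sup.mp h1
  refine ⟨e, he, fun g hg => ?_⟩
  have : e' ∈ g • n := by
    have := (Ideal.mem_iInf.mp he') g
    exact (Ideal.mem_iInf.mp this) (Finset.mem_filter.mpr ⟨Finset.mem_univ _, hg⟩)
  have h2 : e - 1 = -e' := by rw [← hee]; ring
  rw [h2]
  exact neg_mem this

/-- A D-invariant element in n which is ≡ 1 modulo n after applying g ∉ D. -/
lemma exists_special (n : Ideal S) [hn : n.IsMaximal] :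
    ∃ s : S, s ∈ n ∧ (∀ g : G, g • n = n → g • s = s) ∧ ∀ g : G, g • n ≠ n → g • s - 1 ∈ n := by
  classical
  cases nonempty_fintype G
  obtain ⟨e, he, he1⟩ := exists_crt (G := G) n
  refine ⟨∏ d : MulAction.stabilizer G n, (d : G) • e, ?_, ?_, ?_⟩
  · obtain ⟨c, hc⟩ := Finset.dvd_prod_of_mem (fun d : MulAction.stabilizer G n => (d : G) • e)
      (Finset.mem_univ (1 : MulAction.stabilizer G n))
    rw [hc]
    apply Ideal.mul_mem_right
    simpa using he
  · intro g hg
    rw [Finset.smul_prod']
    let g' : MulAction.stabilizer G n := ⟨g, hg⟩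
    refine Fintype.prod_equiv (Equiv.mulLeft g') _ _ (fun d => ?_)
    simp [g', mul_smul]
  · intro g hg
    rw [← Ideal.Quotient.eq, map_one, Finset.smul_prod', map_prod]
    apply Finset.prod_eq_one
    intro d _
    rw [← map_one (Ideal.Quotient.mk n), Ideal.Quotient.eq, ← mul_smul]
    have hd : (d : G) • n = n := d.2
    have hgd : (g * (d : G))⁻¹ • n ≠ n := by
      intro h
      apply hg
      have h2 : n = (g * (d : G)) • n := inv_smul_eq_iff.mp h
      rw [mul_smul, hd] at h2
      exact h2.symm
    have := he1 _ hgd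
    rw [Ideal.mem_inv_pointwise_smul_iff] at this
    simpa [smul_sub] using this

theorem smul_eq_self [FaithfulSMul R S] [HenselianRing R (maximalIdeal R)] (n : Ideal S)
    [hn : n.IsMaximal] [n.LiesOver (maximalIdeal R)] (g : G) : g • n = n := by
  classical
  cases nonempty_fintype G
  obtain ⟨s, hsn, hsD, hs1⟩ := exists_special (G := G) n
  have hone : (1 : S) ∉ n := fun h => hn.ne_top ((Ideal.eq_top_iff_one _).mpr h)
  have key : ∃ a : R, algebraMap R S a = s := by
    set P := prodXSubSMul G S s with hP
    have hPlift : P ∈ Polynomial.lifts (algebraMap R S) := by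
      rw [Polynomial.lifts_iff_coeff_lifts]
      intro i
      exact Algebra.IsInvariant.isInvariant (A := R) (G := G) _
        (fun g => prodXSubSMul.coeff G S s g i)
    obtain ⟨f, hfP, -, hfm⟩ :=
      Polynomial.lifts_and_degree_eq_and_monic hPlift (prodXSubSMul.monic G S s)
    have hev : ∀ r : R, P.eval (algebraMap R S r) = algebraMap R S (f.eval r) := fun r => by
      rw [← hfP, Polynomial.eval_map, Polynomial.eval₂_at_apply]
    have hev' : ∀ r : R, (derivative P).eval (algebraMap R S r)
        = algebraMap R S ((derivative f).eval r) := fun r => by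
      rw [← hfP, Polynomial.derivative_map, Polynomial.eval_map, Polynomial.eval₂_at_apply]
    have hfac : P = (X - C s) * ∏ q ∈ (Finset.univ.erase
        (((1 : G) : G ⧸ MulAction.stabilizer G s))),
        (X - C (MulAction.ofQuotientStabilizer G s q)) := by
      rw [hP, prodXSubSMul]
      rw [← Finset.mul_prod_erase _ _ (Finset.mem_univ (((1 : G) : G ⧸ MulAction.stabilizer G s)))]
      simp
    set Q := ∏ q ∈ (Finset.univ.erase (((1 : G) : G ⧸ MulAction.stabilizer G s))),
        (X - C (MulAction.ofQuotientStabilizer G s q)) with hQ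
    have hQ0 : Q.eval 0 ∉ n := by
      intro h
      rw [hQ, Polynomial.eval_prod] at h
      obtain ⟨q, hq, hqn⟩ := (hn.isPrime.prod_mem_iff).mp h
      induction q using QuotientGroup.induction_on with
      | H g' =>
        have hqn' : g' • s ∈ n := by
          have : Polynomial.eval 0 (X - C (MulAction.ofQuotientStabilizer G s (g' : G ⧸ _)))
              = - (g' • s) := by simp
          rw [this] at hqn
          simpa using hqn
        by_cases hg' : g' • n = n
        · apply (Finset.mem_erase.mp hq).1
          symm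
          rw [QuotientGroup.eq]
          simpa using hsD g' hg'
        · have h1 := hs1 g' hg'
          apply hone
          have := n.sub_mem hqn' h1
          simpa using this
    have hder : (derivative P).eval 0 - Q.eval 0 ∈ n := by
      rw [hfac, derivative_mul]
      have : Polynomial.eval 0 (derivative (X - C s) * Q + (X - C s) * derivative Q) - Q.eval 0
          = - s * (derivative Q).eval 0 := by
        simp
      rw [this]
      exact Ideal.mul_mem_right _ _ (neg_mem hsn)
    have hP0 : P.eval 0 ∈ n := by
      rw [hfac, Polynomial.eval_mul]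
      apply Ideal.mul_mem_right
      simpa using hsn
    have h0 : f.eval 0 ∈ maximalIdeal R := by
      rw [Ideal.mem_of_liesOver n (maximalIdeal R), ← hev, map_zero]
      exact hP0
    have hu : IsUnit (Ideal.Quotient.mk (maximalIdeal R) ((derivative f).eval 0)) := by
      apply IsUnit.map
      rw [← IsLocalRing.notMem_maximalIdeal]
      intro hmem
      rw [Ideal.mem_of_liesOver n (maximalIdeal R), ← hev', map_zero] at hmem
      apply hQ0
      have := n.sub_mem hmem hder
      simpa using this
    obtain ⟨a, ha, -⟩ := HenselianRing.is_henselian f hfm 0 h0 hu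
    have hPa : P.eval (algebraMap R S a) = 0 := by
      rw [hev, ha.eq_zero, map_zero]
    rw [hP, prodXSubSMul, Polynomial.eval_prod, Finset.prod_eq_zero_iff] at hPa
    obtain ⟨q, -, hq⟩ := hPa
    induction q using QuotientGroup.induction_on with
    | H g' =>
      refine ⟨a, ?_⟩
      have h2 : algebraMap R S a = g' • s := by
        have : Polynomial.eval (algebraMap R S a)
            (X - C (MulAction.ofQuotientStabilizer G s (g' : G ⧸ _)))
            = algebraMap R S a - g' • s := by simp
        rw [this] at hq
        exact sub_eq_zero.mp hq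
      have h3 : g'⁻¹ • algebraMap R S a = s := by rw [h2, inv_smul_smul]
      rw [← h3, smul_algebraMap]
  obtain ⟨a, rfl⟩ := key
  by_contra hg
  have h1 := hs1 g hg
  rw [smul_algebraMap] at h1
  apply hone
  have := n.sub_mem hsn h1
  simpa using this

end A

lemma exists_trivial_stabilizer (Γ l : Type*) [Field l] [Group Γ] [Finite Γ]
    [MulSemiringAction Γ l] [FaithfulSMul Γ l] :
    ∃ t : l, ∀ γ : Γ, γ • t = t → γ = 1 := by
  obtain ⟨t, ht⟩ := Field.exists_primitive_element (FixedPoints.subfield Γ l) l
  refine ⟨t, fun γ hγ => ?_⟩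
  apply (FixedPoints.toAlgHom_bijective Γ l).injective
  have hadj : Algebra.adjoin (FixedPoints.subfield Γ l) {t} = ⊤ := by
    rw [← IntermediateField.adjoin_simple_toSubalgebra_of_isAlgebraic
      (Algebra.IsAlgebraic.isAlgebraic t), ht]
    rfl
  apply AlgHom.ext_of_adjoin_eq_top hadj
  intro x hx
  rw [Set.mem_singleton_iff] at hx
  subst hx
  simp [hγ]

section B
variable {R S G : Type u} [CommRing R] [CommRing S] [IsDomain S] [IsLocalRing R]
  [Algebra R S] [Group G] [Finite G] [MulSemiringAction G S] [SMulCommClass G R S]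
  [IsGaloisGroup G R S]

attribute [local instance] Ideal.Quotient.field

lemma exists_theta (n : Ideal S) [hn : n.IsMaximal] [n.LiesOver (maximalIdeal R)]
    (hstab : ∀ g : G, g • n = n) (hI : n.toAddSubgroup.inertia G = ⊥) :
    ∃ θ : S, ∀ g : G, g ≠ 1 → g • θ - θ ∉ n := by
  have hsurj := Ideal.Quotient.stabilizerHom_surjective G (maximalIdeal R) n
  haveI : Finite ((S ⧸ n) ≃ₐ[R ⧸ maximalIdeal R] (S ⧸ n)) := Finite.of_surjective _ hsurj
  obtain ⟨t, ht⟩ := exists_trivial_stabilizer ((S ⧸ n) ≃ₐ[R ⧸ maximalIdeal R] (S ⧸ n)) (S ⧸ n)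
  obtain ⟨θ, rfl⟩ := Ideal.Quotient.mk_surjective t
  refine ⟨θ, fun g hg hmem => hg ?_⟩
  let g' : MulAction.stabilizer G n := ⟨g, hstab g⟩
  have h1 : Ideal.Quotient.stabilizerHom n (maximalIdeal R) G g' = 1 := by
    apply ht
    show (Ideal.Quotient.stabilizerHom n (maximalIdeal R) G g') (Ideal.Quotient.mk n θ) = _
    rw [Ideal.Quotient.stabilizerHom_apply]
    exact (Ideal.Quotient.eq).mpr hmem
  have h2 : g' ∈ (Ideal.Quotient.stabilizerHom n (maximalIdeal R) G).ker := h1
  rw [Ideal.Quotient.ker_stabilizerHom] at h2
  have h3 : g ∈ n.toAddSubgroup.inertia G := h2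
  rw [hI] at h3
  exact Subgroup.mem_bot.mp h3

lemma isUnit_of_notMem (n : Ideal S) [hn : n.IsMaximal] [n.LiesOver (maximalIdeal R)]
    (hstab : ∀ g : G, g • n = n) {x : S} (hx : x ∉ n) : IsUnit x := by
  by_contra hu
  obtain ⟨M, hM, hxM⟩ := exists_max_ideal_of_mem_nonunits hu
  haveI := hM
  haveI : Algebra.IsIntegral R S := Algebra.IsInvariant.isIntegral R S G
  have hMu : (M.under R).IsMaximal := Ideal.isMaximal_comap_of_isIntegral_of_isMaximal M
  have h1 : M.under R = maximalIdeal R := IsLocalRing.eq_maximalIdeal hMu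
  have h2 : n.under R = M.under R := by
    rw [h1]; exact (Ideal.over_def n (maximalIdeal R)).symm
  obtain ⟨g, hg⟩ := Algebra.IsInvariant.exists_smul_of_under_eq R S G n M h2
  rw [hstab g] at hg
  exact hx (hg ▸ hxM)

lemma lagrange [FaithfulSMul R S] [Fintype G] (n : Ideal S) [hn : n.IsMaximal]
    [n.LiesOver (maximalIdeal R)]
    (hstab : ∀ g : G, g • n = n) (θ : S) (hθ : ∀ g : G, g ≠ 1 → g • θ - θ ∉ n) (x : S) :
    ∃ Q : R[X], Q.natDegree < Fintype.card G ∧ aeval θ Q = x := by
  classical
  have hw : IsUnit (∏ h ∈ Finset.univ.erase (1 : G), (θ - h • θ)) := by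
    rw [IsUnit.prod_iff]
    intro h hh
    apply isUnit_of_notMem (R := R) (G := G) n hstab
    intro hmem
    apply hθ h (Finset.mem_erase.mp hh).1
    have := neg_mem hmem
    simpa using this
  obtain ⟨u, hu⟩ := hw
  set QS : S[X] := ∑ g : G, C (g • (x * ↑u⁻¹)) * ∏ h ∈ Finset.univ.erase g, (X - C (h • θ))
    with hQS
  have hinv : ∀ σ : G, σ • QS = QS := by
    intro σ
    simp only [hQS, Finset.smul_sum, smul_mul', smul_C, Finset.smul_prod', smul_sub, smul_X]
    refine Fintype.sum_equiv (Equiv.mulLeft σ) _ _ (fun g => ?_)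
    simp only [Equiv.coe_mulLeft, mul_smul]
    congr 1
    refine Finset.prod_equiv (Equiv.mulLeft σ) (by simp) (by simp [mul_smul])
  have hlift : QS ∈ Polynomial.lifts (algebraMap R S) := by
    rw [Polynomial.lifts_iff_coeff_lifts]
    intro i
    refine Algebra.IsInvariant.isInvariant (A := R) (G := G) _ (fun g => ?_)
    rw [← Polynomial.coeff_smul, hinv]
  obtain ⟨Q, hQ⟩ := (Polynomial.mem_lifts _).mp hlift
  refine ⟨Q, ?_, ?_⟩
  · rw [← Polynomial.natDegree_map_eq_of_injective (FaithfulSMul.algebraMap_injective R S), hQ]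
    have hcard : 0 < Fintype.card G := Fintype.card_pos
    have : QS.natDegree ≤ Fintype.card G - 1 := by
      apply Polynomial.natDegree_sum_le_of_forall_le
      intro g _
      refine (Polynomial.natDegree_C_mul_le _ _).trans ?_
      refine (Polynomial.natDegree_prod_le _ _).trans ?_
      simp [Finset.card_erase_of_mem, Finset.card_univ]
    omega
  · rw [Polynomial.aeval_def, Polynomial.eval₂_eq_eval_map, hQ, hQS, Polynomial.eval_finsetSum]
    rw [Finset.sum_eq_single (1 : G)]
    · simp only [Polynomial.eval_mul, Polynomial.eval_C, Polynomial.eval_prod,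
        Polynomial.eval_sub, Polynomial.eval_X, one_smul]
      rw [← hu]
      simp
    · intro g _ hg
      simp only [Polynomial.eval_mul, Polynomial.eval_C, Polynomial.eval_prod,
        Polynomial.eval_sub, Polynomial.eval_X]
      rw [Finset.prod_eq_zero (Finset.mem_erase.mpr ⟨Ne.symm hg, Finset.mem_univ (1 : G)⟩)
        (by simp), mul_zero]
    · intro h; exact absurd (Finset.mem_univ _) h

theorem forward [FaithfulSMul R S] (n : Ideal S) [hn : n.IsMaximal] [n.LiesOver (maximalIdeal R)]
    (hstab : ∀ g : G, g • n = n) (hI : n.toAddSubgroup.inertia G = ⊥) :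
    (maximalIdeal R).map (algebraMap R S) = n ∧
      Module.Finite (R ⧸ maximalIdeal R) (S ⧸ n) ∧
      Algebra.IsSeparable (R ⧸ maximalIdeal R) (S ⧸ n) := by
  classical
  cases nonempty_fintype G
  obtain ⟨θ, hθ⟩ := exists_theta (R := R) n hstab hI
  have hsmul_mem : ∀ (g : G) (y : S), y ∈ n → g • y ∈ n := by
    intro g y hy
    have := Ideal.smul_mem_pointwise_smul g y n hy
    rwa [hstab] at this
  have hdist : ∀ g h : G, g ≠ h → g • θ - h • θ ∉ n := by
    intro g h hgh hmem
    apply hθ (h⁻¹ * g) (by intro e; apply hgh; rw [inv_mul_eq_one] at e; exact e.symm)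
    have := hsmul_mem h⁻¹ _ hmem
    simpa [smul_sub, mul_smul] using this
  have hvinj : Function.Injective (fun g : G => Ideal.Quotient.mk n (g • θ)) := by
    intro g h hgh
    by_contra hne
    exact hdist g h hne (Ideal.Quotient.eq.mp hgh)
  have hlag := lagrange (R := R) n hstab θ hθ
  -- (a)
  have ha : (maximalIdeal R).map (algebraMap R S) = n := by
    apply le_antisymm
    · rw [Ideal.map_le_iff_le_comap]
      exact le_of_eq (Ideal.over_def n (maximalIdeal R))
    · intro x hx
      obtain ⟨Q, hdeg, hQx⟩ := hlag x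
      have hQbar : Q.map (algebraMap R (S ⧸ n)) = 0 := by
        apply Polynomial.eq_zero_of_natDegree_lt_card_of_eval_eq_zero _ hvinj
        · intro g
          have h1 : algebraMap R (S ⧸ n) = (Ideal.Quotient.mk n).comp (algebraMap R S) := rfl
          rw [Polynomial.eval_map, h1, ← Polynomial.hom_eval₂, ← Polynomial.aeval_def]
          have h2 : aeval (g • θ) Q = g • aeval θ Q := by
            have := Polynomial.aeval_algHom_apply (MulSemiringAction.toAlgHom R S g) θ Q
            simpa using this
          rw [h2, hQx, Ideal.Quotient.eq_zero_iff_mem]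
          exact hsmul_mem g x hx
        · exact lt_of_le_of_lt (Polynomial.natDegree_map_le) hdeg
      have hcoeff : ∀ i, Q.coeff i ∈ maximalIdeal R := by
        intro i
        rw [Ideal.mem_of_liesOver n (maximalIdeal R), ← Ideal.Quotient.eq_zero_iff_mem]
        have := congrArg (fun p => Polynomial.coeff p i) hQbar
        simpa using this
      rw [← hQx, Polynomial.aeval_eq_sum_range]
      apply Ideal.sum_mem
      intro i _
      rw [Algebra.smul_def]
      exact Ideal.mul_mem_right _ _ (Ideal.mem_map_of_mem _ (hcoeff i))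
  refine ⟨ha, ?_⟩
  -- the residue element
  set t : S ⧸ n := Ideal.Quotient.mk n θ with ht
  have htop : (R ⧸ maximalIdeal R)⟮t⟯ = ⊤ := by
    rw [eq_top_iff]
    intro y _
    obtain ⟨x, rfl⟩ := Ideal.Quotient.mk_surjective y
    obtain ⟨Q, -, hQx⟩ := hlag x
    have h1 : Ideal.Quotient.mk n x = aeval t Q := by
      rw [← hQx]
      exact (Polynomial.aeval_algHom_apply (Ideal.Quotient.mkₐ R n) θ Q).symm
    have h2 : aeval t Q = aeval t (Q.map (algebraMap R (R ⧸ maximalIdeal R))) := by
      rw [Polynomial.aeval_map_algebraMap]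
    rw [h1, h2]
    exact IntermediateField.algebra_adjoin_le_adjoin _ _
      (Polynomial.aeval_mem_adjoin_singleton _ _)
  -- separability of t
  have hsep : IsSeparable (R ⧸ maximalIdeal R) t := by
    obtain ⟨F, hF⟩ := (Polynomial.mem_lifts _).mp
      (Algebra.IsInvariant.charpoly_mem_lifts R S G θ)
    have hmap : (F.map (algebraMap R (R ⧸ maximalIdeal R))).map
        (algebraMap (R ⧸ maximalIdeal R) (S ⧸ n))
        = ∏ g : G, (X - C (Ideal.Quotient.mk n (g • θ))) := by
      rw [Polynomial.map_map, ← IsScalarTower.algebraMap_eq]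
      have h1 : algebraMap R (S ⧸ n) = (Ideal.Quotient.mk n).comp (algebraMap R S) := rfl
      rw [h1, ← Polynomial.map_map, hF, MulSemiringAction.charpoly_eq, Polynomial.map_prod]
      simp
    have hFsep : (F.map (algebraMap R (R ⧸ maximalIdeal R))).Separable := by
      rw [← Polynomial.separable_map (algebraMap (R ⧸ maximalIdeal R) (S ⧸ n)), hmap]
      exact Polynomial.separable_prod_X_sub_C_iff.mpr hvinj
    have hroot : aeval t (F.map (algebraMap R (R ⧸ maximalIdeal R))) = 0 := by
      rw [Polynomial.aeval_def, Polynomial.eval₂_eq_eval_map, hmap, Polynomial.eval_prod]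
      apply Finset.prod_eq_zero (Finset.mem_univ (1 : G))
      simp [ht]
    exact hFsep.of_dvd (minpoly.dvd _ _ hroot)
  constructor
  · have hfin : FiniteDimensional (R ⧸ maximalIdeal R) (R ⧸ maximalIdeal R)⟮t⟯ :=
      IntermediateField.adjoin.finiteDimensional hsep.isIntegral
    rw [htop] at hfin
    exact Module.Finite.equiv
      (IntermediateField.topEquiv (F := R ⧸ maximalIdeal R) (E := S ⧸ n)).toLinearEquiv
  · rw [← separableClosure.eq_top_iff, eq_top_iff, ← htop,
      IntermediateField.adjoin_simple_le_iff]
    exact mem_separableClosure_iff.mpr hsep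

end B

section C

attribute [local instance] FractionRing.liftAlgebra in
lemma finite_of_normal (R S G : Type u) [CommRing R] [CommRing S] [IsDomain R] [IsDomain S]
    [Algebra R S] [Group G] [Finite G] [MulSemiringAction G S] [SMulCommClass G R S]
    [IsGaloisGroup G R S] [IsNoetherianRing R] [IsIntegrallyClosed R] [IsIntegrallyClosed S]
    [FaithfulSMul R S] : Module.Finite R S := by
  letI := IsFractionRing.mulSemiringAction G S (FractionRing S)
  haveI : Algebra.IsIntegral R S := Algebra.IsInvariant.isIntegral R S G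
  haveI : IsGaloisGroup G (FractionRing R) (FractionRing S) := inferInstance
  haveI : FiniteDimensional (FractionRing R) (FractionRing S) :=
    IsGaloisGroup.finiteDimensional G (FractionRing R) (FractionRing S)
  haveI : IsGalois (FractionRing R) (FractionRing S) :=
    IsGaloisGroup.isGalois G (FractionRing R) (FractionRing S)
  exact IsIntegralClosure.finite R (FractionRing R) (FractionRing S) S

attribute [local instance] Ideal.Quotient.field

theorem backward (R S G : Type u) [CommRing R] [CommRing S] [IsDomain R] [IsDomain S]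
    [IsLocalRing R]
    [Algebra R S] [Group G] [Finite G] [MulSemiringAction G S] [SMulCommClass G R S]
    [IsGaloisGroup G R S] [IsNoetherianRing R] [IsIntegrallyClosed R] [IsIntegrallyClosed S]
    [FaithfulSMul R S] (n : Ideal S) [hn : n.IsMaximal] [n.LiesOver (maximalIdeal R)]
    (hmap : (maximalIdeal R).map (algebraMap R S) = n)
    [Module.Finite (R ⧸ maximalIdeal R) (S ⧸ n)]
    [Algebra.IsSeparable (R ⧸ maximalIdeal R) (S ⧸ n)] :
    n.toAddSubgroup.inertia G = ⊥ := by
  classical
  haveI : Module.Finite R S := finite_of_normal R S G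
  -- generators
  set d := Module.finrank (R ⧸ maximalIdeal R) (S ⧸ n) with hd
  have hdpos : 0 < d := Module.finrank_pos
  let b := Module.finBasis (R ⧸ maximalIdeal R) (S ⧸ n)
  choose c hc using fun i => Ideal.Quotient.mk_surjective (b i)
  have hspan : Submodule.span R (Set.range c) = ⊤ := by
    rw [eq_top_iff]
    apply Submodule.le_of_le_smul_of_le_jacobson_bot (I := maximalIdeal R) Module.Finite.fg_top
      (IsLocalRing.maximalIdeal_le_jacobson ⊥)
    intro x _
    -- expand mk x in the basis
    have hx := b.sum_repr (Ideal.Quotient.mk n x)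
    choose r hr using fun i => Ideal.Quotient.mk_surjective (b.repr (Ideal.Quotient.mk n x) i)
    have hmem : x - ∑ i, r i • c i ∈ n := by
      rw [← Ideal.Quotient.eq, ← hx, map_sum]
      refine Finset.sum_congr rfl (fun i _ => ?_)
      rw [← hr i, ← hc i, Algebra.smul_def, Algebra.smul_def (r i), map_mul]
      rfl
    have h1 : x = ∑ i, r i • c i + (x - ∑ i, r i • c i) := by ring
    rw [h1]
    apply Submodule.add_mem_sup
    · exact Submodule.sum_mem _ (fun i _ => Submodule.smul_mem _ _ (Submodule.subset_span ⟨i, rfl⟩))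
    · rw [Ideal.smul_top_eq_map, hmap]
      exact hmem
  have hrank : Module.finrank R S ≤ d := by
    rw [← finrank_top R S, ← hspan]
    have := finrank_range_le_card (R := R) c
    simpa [Set.finrank] using this
  have hG : Nat.card G ≤ d := by
    rw [IsGaloisGroup.card_eq_finrank' G R S]; exact hrank
  -- count
  haveI : Normal (R ⧸ maximalIdeal R) (S ⧸ n) := Ideal.Quotient.normal G (maximalIdeal R) n
  haveI : IsGalois (R ⧸ maximalIdeal R) (S ⧸ n) := ⟨⟩
  have hgal : Nat.card ((S ⧸ n) ≃ₐ[R ⧸ maximalIdeal R] (S ⧸ n)) = d :=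
    IsGalois.card_aut_eq_finrank _ _
  have hquot : Nat.card (MulAction.stabilizer G n ⧸ n.inertia (MulAction.stabilizer G n)) = d := by
    rw [← hgal]
    exact Nat.card_congr
      (Ideal.Quotient.stabilizerQuotientInertiaEquiv G (maximalIdeal R) n).toEquiv
  have hD : Nat.card (MulAction.stabilizer G n) =
      d * Nat.card (n.inertia (MulAction.stabilizer G n)) := by
    rw [← hquot]
    exact Subgroup.card_eq_card_quotient_mul_card_subgroup _
  have hDG : Nat.card (MulAction.stabilizer G n) ≤ Nat.card G :=
    Subgroup.card_le_card_group _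
  have hI1 : Nat.card (n.inertia (MulAction.stabilizer G n)) ≤ 1 := by
    by_contra hlt
    push Not at hlt
    have : d * 2 ≤ d * Nat.card (n.inertia (MulAction.stabilizer G n)) :=
      Nat.mul_le_mul_left d hlt
    omega
  have hIbot : n.inertia (MulAction.stabilizer G n) = ⊥ := Subgroup.eq_bot_of_card_le _ hI1
  rw [eq_bot_iff]
  intro g hg
  have hgD : g ∈ MulAction.stabilizer G n := Ideal.inertia_le_stabilizer n hg
  have h2 : (⟨g, hgD⟩ : MulAction.stabilizer G n) ∈ n.inertia (MulAction.stabilizer G n) := hg
  rw [hIbot, Subgroup.mem_bot] at h2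
  rw [Subgroup.mem_bot]
  exact congrArg Subtype.val h2

end C


/-- Let R be a complete Noetherian local normal domain with maximal ideal m, let S be a normal domain
containing R on which a finite group G acts by R-algebra automorphisms, faithfully and with ring of
invariants exactly R (so that S is the integral closure of R in some finite Galois extension, with
group G, of Frac R), and let n be a maximal ideal of S over m. Then the inertia subgroup of n in G
(the elements g with g s - s ∈ n for all s ∈ S) is trivial if and only if mS = n and the residue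
field S/n is finite and separable over R/m. -/
theorem result
    (R S G : Type u) [CommRing R] [CommRing S] [IsDomain R] [IsDomain S]
    [IsNoetherianRing R] [IsLocalRing R] [IsIntegrallyClosed R]
    [IsAdicComplete (IsLocalRing.maximalIdeal R) R]
    [Algebra R S] [FaithfulSMul R S] [IsIntegrallyClosed S]
    [Group G] [Finite G] [MulSemiringAction G S] [SMulCommClass G R S] [IsGaloisGroup G R S]
    (n : Ideal S) [n.IsMaximal] [n.LiesOver (IsLocalRing.maximalIdeal R)] :
    n.toAddSubgroup.inertia G = ⊥ ↔
      ((IsLocalRing.maximalIdeal R).map (algebraMap R S) = n ∧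
        Module.Finite (R ⧸ IsLocalRing.maximalIdeal R) (S ⧸ n) ∧
        Algebra.IsSeparable (R ⧸ IsLocalRing.maximalIdeal R) (S ⧸ n)) := by
  haveI : HenselianRing R (IsLocalRing.maximalIdeal R) := inferInstance
  constructor
  · intro hI
    exact forward (R := R) n (fun g => smul_eq_self (R := R) n g) hI
  · rintro ⟨hmap, hfin, hsep⟩
    exact backward R S G n hmap

end Groth.Agent.S18535
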