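import Groth.Statements.S18538
import Mathlib
-- import your own Groth.Agent.* helpers here

set_option autoImplicit false
universe u
open EtAlg

namespace Groth.Agent.S18538

/-- Let A ⊆ B be an injective finite extension of integrally closed domains, with fraction fields K ⊆ L
and L separable over K. Then A → B → B ⊗_A B is exact, the second map being b ↦ b ⊗ 1 - 1 ⊗ b: every
element of B whose two images in B ⊗_A B agree comes from A. -/
theorem result
    (A B K L : Type u) [CommRing A] [CommRing B] [IsDomain A] [IsDomain B]
    [IsIntegrallyClosed A] [IsIntegrallyClosed B] [Algebra A B] [FaithfulSMul A B] [Module.Finite A B]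
    [Field K] [Field L] [Algebra A K] [IsFractionRing A K] [Algebra B L] [IsFractionRing B L]
    [Algebra K L] [Algebra A L] [IsScalarTower A K L] [IsScalarTower A B L]
    [Algebra.IsSeparable K L] :
    Algebra.IsEffective A B := by
  classical
  intro b
  constructor
  swap
  · rintro ⟨a, rfl⟩
    exact Algebra.TensorProduct.includeLeftSubRight_algebraMap_zero a
  intro hb
  -- the comparison map B ⊗[A] B → L ⊗[K] L
  let ι : B →ₗ[A] L := (IsScalarTower.toAlgHom A B L).toLinearMap
  let Φ : TensorProduct A B B →ₗ[A] TensorProduct K L L :=
    (TensorProduct.mapOfCompatibleSMul K A A L L).comp (TensorProduct.map ι ι)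
  have hΦ : Φ (Algebra.TensorProduct.includeLeftSubRight A B b)
      = Algebra.TensorProduct.includeLeftSubRight K L (algebraMap B L b) := by
    simp only [Φ, Algebra.TensorProduct.includeLeftSubRight_apply, map_sub, LinearMap.comp_apply,
      TensorProduct.map_tmul]
    simp [ι]
  rw [hb, map_zero] at hΦ
  have hKL : Algebra.IsEffective K L := Algebra.IsEffective.of_faithfullyFlat K L
  obtain ⟨x, hx⟩ := (hKL (algebraMap B L b)).mp hΦ.symm
  have hx' : algebraMap K L x = algebraMap B L b := hx
  -- x is integral over A
  have hbint : IsIntegral A b := Algebra.IsIntegral.isIntegral b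
  have hbLint : IsIntegral A (algebraMap B L b) := hbint.map (IsScalarTower.toAlgHom A B L)
  have hxint : IsIntegral A x := by
    rw [← hx'] at hbLint
    exact (isIntegral_algHom_iff (IsScalarTower.toAlgHom A K L)
      (algebraMap K L).injective).mp hbLint
  obtain ⟨a, ha⟩ := IsIntegrallyClosed.isIntegral_iff.mp hxint
  refine ⟨a, ?_⟩
  apply IsFractionRing.injective B L
  show algebraMap B L (algebraMap A B a) = algebraMap B L b
  rw [← hx', ← ha, ← IsScalarTower.algebraMap_apply, ← IsScalarTower.algebraMap_apply]

end Groth.Agent.S18538
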