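import Groth.Statements.S18539
import Mathlib
-- import your own Groth.Agent.* helpers here

set_option autoImplicit false
universe u v w
open CAlg

namespace Groth.Agent.S18539

open scoped Pointwise in
theorem key_lemma (R : Type u) [CommRing R] (M : Type v) (N : Type w)
    [AddCommGroup M] [Module R M] [AddCommGroup N] [Module R N]
    (r₁ r₂ : R) (h1 : IsSMulRegular N r₁) (h2 : IsSMulRegular (QuotSMulTop r₁ N) r₂)
    (φ : M →ₗ[R] N) (hφ : r₂ • φ ∈ r₁ • (⊤ : Submodule R (M →ₗ[R] N))) :
    φ ∈ r₁ • (⊤ : Submodule R (M →ₗ[R] N)) := by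
  classical
  rw [Submodule.mem_smul_pointwise_iff_exists] at hφ
  obtain ⟨ψ, -, hψ⟩ := hφ
  have hex : ∀ m : M, ∃ n : N, r₁ • n = φ m := by
    intro m
    have hm : r₂ • φ m = r₁ • ψ m := by
      have := LinearMap.congr_fun hψ m
      simpa using this.symm
    have hq : r₂ • (Submodule.Quotient.mk (φ m) : QuotSMulTop r₁ N) = r₂ • 0 := by
      rw [smul_zero, ← Submodule.Quotient.mk_smul, hm, Submodule.Quotient.mk_eq_zero]
      exact Submodule.smul_mem_pointwise_smul _ _ _ Submodule.mem_top
    have := h2 hq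
    rw [Submodule.Quotient.mk_eq_zero, Submodule.mem_smul_pointwise_iff_exists] at this
    obtain ⟨n, -, hn⟩ := this
    exact ⟨n, hn⟩
  choose χ hχ using hex
  let χl : M →ₗ[R] N :=
    { toFun := χ
      map_add' := by
        intro a b
        apply h1
        show r₁ • χ (a + b) = r₁ • (χ a + χ b)
        rw [smul_add, hχ, hχ, hχ, map_add]
      map_smul' := by
        intro c a
        apply h1
        show r₁ • χ (c • a) = r₁ • (RingHom.id R c • χ a)
        rw [RingHom.id_apply, smul_comm, hχ, hχ, map_smul] }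
  rw [Submodule.mem_smul_pointwise_iff_exists]
  refine ⟨χl, Submodule.mem_top, ?_⟩
  apply LinearMap.ext
  intro m
  exact hχ m

/-- For a commutative ring R, R-modules M and N and elements r₁, r₂ of R such that r₁ is a
non-zero-divisor on N and r₂ is a non-zero-divisor on N/r₁N, the element r₁ is a non-zero-divisor on
the module Hom_R(M, N) and r₂ is a non-zero-divisor on Hom_R(M, N)/r₁Hom_R(M, N). (Weak regularity
on both sides: no condition that the quotient by (r₁, r₂) is nonzero, which would fail for M = 0.) -/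
theorem result
    (R : Type u) [CommRing R] (M : Type v) (N : Type w)
    [AddCommGroup M] [Module R M] [AddCommGroup N] [Module R N]
    (r₁ r₂ : R) (h : RingTheory.Sequence.IsWeaklyRegular N [r₁, r₂]) :
    RingTheory.Sequence.IsWeaklyRegular (M →ₗ[R] N) [r₁, r₂] := by
  classical
  rw [RingTheory.Sequence.isWeaklyRegular_cons_iff] at h ⊢
  obtain ⟨h1, h2⟩ := h
  rw [RingTheory.Sequence.isWeaklyRegular_cons_iff] at h2
  obtain ⟨h2, -⟩ := h2
  have hreg1 : IsSMulRegular (M →ₗ[R] N) r₁ := by
    intro φ ψ hφψ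
    apply LinearMap.ext
    intro m
    apply h1
    have := LinearMap.congr_fun hφψ m
    simpa using this
  refine ⟨hreg1, ?_⟩
  rw [RingTheory.Sequence.isWeaklyRegular_cons_iff]
  refine ⟨?_, RingTheory.Sequence.IsWeaklyRegular.nil _ _⟩
  intro x y hxy
  obtain ⟨φ, rfl⟩ := Submodule.Quotient.mk_surjective _ x
  obtain ⟨ψ, rfl⟩ := Submodule.Quotient.mk_surjective _ y
  rw [Submodule.Quotient.eq]
  apply key_lemma R M N r₁ r₂ h1 h2
  have : (r₂ • (Submodule.Quotient.mk φ : QuotSMulTop r₁ (M →ₗ[R] N)))
      = r₂ • Submodule.Quotient.mk ψ := hxy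
  rw [← Submodule.Quotient.mk_smul, ← Submodule.Quotient.mk_smul, Submodule.Quotient.eq] at this
  rwa [smul_sub]

end Groth.Agent.S18539
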