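import Groth.Statements.S18543
import Mathlib
import Groth.Prelude.Def_CartDual
import Groth.Agent.Lib.Helper77.Deligne

set_option autoImplicit false
universe u
open Hopf

namespace Groth.Agent.S18543

open TensorProduct WithConv
open Groth.Agent.Lib.Helper77

section Points

variable (k : Type u) [Field k] (A : Type u) [CommRing A] [HopfAlgebra k A]
  [Coalgebra.IsCocomm k A] [Module.Finite k A]

/-- every point of a finite commutative cocommutative Hopf algebra is killed by the order. -/
theorem point_pow_finrank {K : Type u} [Field K] [Algebra k K] (γ : A →ₐ[k] K) :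
    (toConv γ) ^ Module.finrank k A = 1 := by
  have h1 := Deligne.id_pow_finrank_eq_one k A
  have h2 := Deligne.comp_convPow γ (toConv (AlgHom.id k A)) (Module.finrank k A)
  rw [h1] at h2
  have h3 : toConv (γ.comp (toConv (AlgHom.id k A)).ofConv) = toConv γ := rfl
  rw [h3] at h2
  rw [← h2]
  apply WithConv.ext
  apply AlgHom.ext
  intro a
  show γ ((1 : WithConv (A →ₐ[k] A)) a) = (1 : WithConv (A →ₐ[k] K)) a
  rw [AlgHom.convOne_apply, AlgHom.convOne_apply, AlgHom.commutes]

theorem point_lin_pow_finrank {K : Type u} [Field K] [Algebra k K] (γ : A →ₐ[k] K) :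
    (toConv γ.toLinearMap : WithConv (A →ₗ[k] K)) ^ Module.finrank k A = 1 := by
  have h := AlgHom.toLinearMap_convPow (toConv γ) (Module.finrank k A)
  rw [point_pow_finrank] at h
  exact h.symm

end Points

section Span

variable (k : Type u) [Field k] (A : Type u) [CommRing A] [Algebra k A]
  [Module.Finite k A] [Algebra.Etale k A]

/-- Over an algebraically closed extension, every linear form on an étale algebra is a linear
combination of points. -/
theorem exists_points (F : A →ₗ[k] AlgebraicClosure k) :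
    ∃ (ι : Type u) (_ : Fintype ι) (c : ι → AlgebraicClosure k) (γ : ι → (A →ₐ[k] AlgebraicClosure k)),
      F = ∑ i, c i • (γ i).toLinearMap := by
  classical
  have : IsArtinianRing (AlgebraicClosure k ⊗[k] A) := IsArtinianRing.of_finite (AlgebraicClosure k) _
  have hfin : Finite (PrimeSpectrum (AlgebraicClosure k ⊗[k] A)) := inferInstance
  let _ : Fintype (PrimeSpectrum (AlgebraicClosure k ⊗[k] A)) := Fintype.ofFinite _
  let e := Algebra.FormallyEtale.equivPiOfIsSepClosed (AlgebraicClosure k) (AlgebraicClosure k ⊗[k] A)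
  let FK : AlgebraicClosure k ⊗[k] A →ₗ[AlgebraicClosure k] AlgebraicClosure k :=
    LinearMap.liftBaseChange (AlgebraicClosure k) F
  let G : (PrimeSpectrum (AlgebraicClosure k ⊗[k] A) → AlgebraicClosure k) →ₗ[AlgebraicClosure k]
      AlgebraicClosure k := FK.comp e.symm.toLinearMap
  let γ : PrimeSpectrum (AlgebraicClosure k ⊗[k] A) → (A →ₐ[k] AlgebraicClosure k) := fun P =>
    (((Pi.evalAlgHom (AlgebraicClosure k) _ P).comp e.toAlgHom).restrictScalars k).comp
      (Algebra.TensorProduct.includeRight)
  refine ⟨PrimeSpectrum (AlgebraicClosure k ⊗[k] A), inferInstance,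
    fun P => G (fun j => if P = j then 1 else 0), γ, ?_⟩
  ext a
  have h1 : F a = G (e ((1 : AlgebraicClosure k) ⊗ₜ[k] a)) := by
    show F a = FK (e.symm (e ((1 : AlgebraicClosure k) ⊗ₜ[k] a)))
    rw [AlgEquiv.symm_apply_apply]
    show F a = LinearMap.liftBaseChange (AlgebraicClosure k) F ((1 : AlgebraicClosure k) ⊗ₜ[k] a)
    rw [LinearMap.liftBaseChange_tmul, one_smul]
  rw [h1, LinearMap.pi_apply_eq_sum_univ G]
  rw [LinearMap.sum_apply]
  apply Finset.sum_congr rfl
  intro P _
  rw [smul_eq_mul, LinearMap.smul_apply, smul_eq_mul, mul_comm]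
  rfl

end Span

section Main

variable (p : ℕ) [Fact p.Prime] (k : Type u) [Field k] [CharP k p] (A : Type u) [CommRing A]
  [HopfAlgebra k A] [Coalgebra.IsCocomm k A] [Module.Finite k A] [Algebra.Etale k A]

instance : Nontrivial (WithConv (A →ₗ[k] AlgebraicClosure k)) := by
  refine ⟨⟨0, 1, fun h => ?_⟩⟩
  have h2 := congrArg (fun f : WithConv (A →ₗ[k] AlgebraicClosure k) => f (1 : A)) h
  simp only [LinearMap.convOne_apply] at h2
  rw [show ((0 : WithConv (A →ₗ[k] AlgebraicClosure k)) (1 : A)) = 0 from rfl] at h2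
  simp at h2

theorem pow_eq_big (n : ℕ) (hA : Module.finrank k A = p ^ n)
    (F : WithConv (A →ₗ[k] AlgebraicClosure k)) :
    F ^ (p ^ n) = (F (1 : A)) ^ (p ^ n) • (1 : WithConv (A →ₗ[k] AlgebraicClosure k)) := by
  classical
  have hchar : CharP (WithConv (A →ₗ[k] AlgebraicClosure k)) p :=
    charP_of_injective_algebraMap (algebraMap k (WithConv (A →ₗ[k] AlgebraicClosure k))).injective p
  have hcharK : CharP (AlgebraicClosure k) p :=
    charP_of_injective_algebraMap (algebraMap k (AlgebraicClosure k)).injective p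
  obtain ⟨ι, _, c, γ, hF⟩ := exists_points k A F.ofConv
  have hF' : F = ∑ i, c i • (toConv (γ i).toLinearMap : WithConv (A →ₗ[k] AlgebraicClosure k)) := by
    apply WithConv.ext
    rw [hF]
    simp
  have h1 : F (1 : A) = ∑ i, c i := by
    show F.ofConv (1 : A) = _
    rw [hF]
    simp
  rw [h1, sum_pow_char_pow, hF', sum_pow_char_pow, Finset.sum_smul]
  apply Finset.sum_congr rfl
  intro i _
  rw [smul_pow, ← hA, point_lin_pow_finrank]

theorem pow_eq (n : ℕ) (hA : Module.finrank k A = p ^ n) (f : CartDual.D k A) :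
    f ^ (p ^ n) = (f (1 : A)) ^ (p ^ n) • (1 : CartDual.D k A) := by
  have hinj : Function.Injective
      (Deligne.post (A := A) (Algebra.ofId k (AlgebraicClosure k)) :
        WithConv (A →ₗ[k] k) →+* WithConv (A →ₗ[k] AlgebraicClosure k)) := by
    intro f g hfg
    apply WithConv.ext
    ext a
    have := congrArg (fun F : WithConv (A →ₗ[k] AlgebraicClosure k) => F a) hfg
    simp only [Deligne.post_apply] at this
    exact (algebraMap k (AlgebraicClosure k)).injective this
  apply hinj
  rw [map_pow, pow_eq_big p k A n hA]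
  apply WithConv.ext
  ext a
  show _ = Algebra.ofId k (AlgebraicClosure k) (((f (1 : A)) ^ (p ^ n) • (1 : CartDual.D k A)) a)
  rw [Deligne.post_apply]
  show (Algebra.ofId k (AlgebraicClosure k) (f 1)) ^ (p ^ n) *
    (1 : WithConv (A →ₗ[k] AlgebraicClosure k)) a = Algebra.ofId k (AlgebraicClosure k)
      ((f (1 : A)) ^ (p ^ n) * (1 : WithConv (A →ₗ[k] k)) a)
  rw [LinearMap.convOne_apply, LinearMap.convOne_apply, map_mul, map_pow]
  rfl

end Main

theorem result (p : ℕ) [Fact p.Prime]
    (k : Type u) [Field k] [CharP k p] (A : Type u) [CommRing A] [HopfAlgebra k A] [Coalgebra.IsCocomm k A]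
    [Module.Finite k A] [Algebra.Etale k A] (n : ℕ) (hA : Module.finrank k A = p ^ n) :
    IsLocalRing (CartDual.D k A) := by
  have hnt : Nontrivial (CartDual.D k A) := by
    refine ⟨⟨0, 1, fun h => ?_⟩⟩
    have h2 := congrArg (fun f : WithConv (A →ₗ[k] k) => f (1 : A)) h
    simp only [LinearMap.convOne_apply] at h2
    rw [show ((0 : WithConv (A →ₗ[k] k)) (1 : A)) = 0 from rfl] at h2
    simp at h2
  have hpos : 0 < p ^ n := pow_pos (Fact.out : p.Prime).pos n
  have key : ∀ f : CartDual.D k A, f (1 : A) ≠ 0 → IsUnit f := by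
    intro f hf
    have h := pow_eq p k A n hA f
    have hu : IsUnit (f ^ (p ^ n)) := by
      rw [h, Algebra.smul_def, mul_one]
      exact (IsUnit.mk0 _ (pow_ne_zero _ hf)).map (algebraMap k (CartDual.D k A))
    exact (isUnit_pow_iff hpos.ne').mp hu
  apply IsLocalRing.of_isUnit_or_isUnit_one_sub_self
  intro f
  by_cases hf : f (1 : A) = 0
  · right
    apply key
    show (1 - f).ofConv (1 : A) ≠ 0
    have h1 : (1 - f).ofConv (1 : A) = (1 : CartDual.D k A) (1 : A) - f (1 : A) := rfl
    rw [h1, hf, LinearMap.convOne_apply]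
    simp
  · left
    exact key f hf

end Groth.Agent.S18543
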