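import Groth.Statements.S18544
import Mathlib
-- import your own Groth.Agent.* helpers here

set_option autoImplicit false
universe u
open CAlg

namespace Groth.Agent.S18544

section helpers

open Matrix Polynomial

variable {F : Type u} [Field F] {n : ℕ}

/-- evaluation of `N` on a matrix -/
noncomputable def nu (N : MvPolynomial (Fin n × Fin n) F) (x : Matrix (Fin n) (Fin n) F) : F :=
  MvPolynomial.eval (fun ij : Fin n × Fin n => x ij.1 ij.2) N

theorem exists_poly_path (N : MvPolynomial (Fin n × Fin n) F)
    (M : Matrix (Fin n) (Fin n) (Polynomial F)) :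
    ∃ P : Polynomial F, ∀ t : F, P.eval t = nu N (M.map (Polynomial.eval t)) := by
  refine ⟨MvPolynomial.aeval (fun ij : Fin n × Fin n => M ij.1 ij.2) N, fun t => ?_⟩
  have h := MvPolynomial.map_aeval (fun ij : Fin n × Fin n => M ij.1 ij.2)
    (Polynomial.evalRingHom t) N
  have h2 : (Polynomial.evalRingHom t).comp (algebraMap F (Polynomial F)) = RingHom.id F := by
    ext x
    simp
  rw [h2] at h
  simp only [Polynomial.coe_evalRingHom] at h
  rw [h]
  rfl

/-- A polynomial with P(s+t) = P(s) P(t) and P(0) = 1 is 1 (over an infinite field). -/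
theorem poly_exp_eq_one [Infinite F] (P : Polynomial F)
    (hadd : ∀ s t : F, P.eval (s + t) = P.eval s * P.eval t) (h0 : P.eval 0 = 1) :
    ∀ t : F, P.eval t = 1 := by
  have hunit : P * P.comp (-X) = 1 := by
    apply Polynomial.funext
    intro t
    simp only [eval_mul, eval_comp, eval_neg, eval_X, eval_one]
    rw [← hadd, add_neg_cancel, h0]
  have hu : IsUnit P := IsUnit.of_mul_eq_one _ hunit
  obtain ⟨c, _, hc⟩ := Polynomial.isUnit_iff.mp hu
  intro t
  rw [← hc] at h0 ⊢
  simpa using h0

/-- A multiplicative polynomial with Q(1) = 1 is a monomial (alg. closed field). -/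
theorem poly_mult_eq_pow [IsAlgClosed F] (Q : Polynomial F)
    (hmul : ∀ s t : F, Q.eval (s * t) = Q.eval s * Q.eval t) (h1 : Q.eval 1 = 1) :
    ∃ m : ℕ, ∀ d : F, Q.eval d = d ^ m := by
  have hQ0 : Q ≠ 0 := by
    rintro rfl
    simp at h1
  have hroots : ∀ r ∈ Q.roots, r = 0 := by
    intro r hr
    by_contra hr0
    have := (Polynomial.mem_roots hQ0).mp hr
    have h2 : Q.eval (r * r⁻¹) = Q.eval r * Q.eval r⁻¹ := hmul _ _
    rw [mul_inv_cancel₀ hr0, h1, this.eq_zero, zero_mul] at h2
    exact one_ne_zero h2
  have hsplit := (IsAlgClosed.splits Q).eq_prod_roots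
  have hrep : Q.roots = Multiset.replicate (Multiset.card Q.roots) 0 :=
    Multiset.eq_replicate.mpr ⟨rfl, hroots⟩
  rw [hrep] at hsplit
  simp only [Multiset.map_replicate, Multiset.prod_replicate, C_0, sub_zero] at hsplit
  refine ⟨Multiset.card Q.roots, fun d => ?_⟩
  have hlc : Q.leadingCoeff = 1 := by
    have := congrArg (Polynomial.eval 1) hsplit
    rw [h1] at this
    simpa using this.symm
  rw [hlc] at hsplit
  rw [hsplit]
  simp

end helpers

/-- Let F be an algebraically closed field of characteristic zero, n a natural number, and N a nonzero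
polynomial over F in the n² matrix entries whose evaluation on n × n matrices is multiplicative,
N(xy) = N(x)·N(y) for all x, y (a norm form on the matrix algebra M_n(F) over F). Then N is a
natural power of the determinant: for some m, N(x) = det(x)^m for every matrix x. The published
statement concerns norm forms of any central simple algebra over a subfield; this row is the case of
the full matrix algebra over an algebraically closed field, which is the case its proof treats. -/
theorem result (F : Type u) [Field F] [IsAlgClosed F]
    [CharZero F] (n : ℕ) (N : MvPolynomial (Fin n × Fin n) F) (hN : N ≠ 0)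
    (hmul : ∀ x y : Matrix (Fin n) (Fin n) F,
      MvPolynomial.eval (fun ij : Fin n × Fin n => (x * y) ij.1 ij.2) N =
        MvPolynomial.eval (fun ij : Fin n × Fin n => x ij.1 ij.2) N * MvPolynomial.eval (fun ij : Fin n × Fin n => y ij.1 ij.2) N) :
    ∃ m : ℕ, ∀ x : Matrix (Fin n) (Fin n) F,
      MvPolynomial.eval (fun ij : Fin n × Fin n => x ij.1 ij.2) N = x.det ^ m := by
  classical
  have hInf : Infinite F := IsAlgClosed.instInfinite
  have hνmul : ∀ x y : Matrix (Fin n) (Fin n) F, nu N (x * y) = nu N x * nu N y := hmul
  -- nonvanishing point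
  obtain ⟨x₀, hx₀⟩ : ∃ x₀ : Matrix (Fin n) (Fin n) F, nu N x₀ ≠ 0 := by
    by_contra hcon
    push Not at hcon
    apply hN
    apply MvPolynomial.funext
    intro z
    have := hcon (Matrix.of fun i j => z (i, j))
    simpa [nu] using this
  have hν1 : nu N (1 : Matrix (Fin n) (Fin n) F) = 1 := by
    have := hνmul x₀ 1
    rw [mul_one] at this
    have h2 : nu N x₀ * 1 = nu N x₀ * nu N 1 := by rw [mul_one]; exact this
    exact (mul_left_cancel₀ hx₀ h2).symm
  -- transvections
  have htrans : ∀ (i j : Fin n), i ≠ j → ∀ c : F, nu N (Matrix.transvection i j c) = 1 := by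
    intro i j hij c
    obtain ⟨P, hP⟩ := exists_poly_path N (Matrix.transvection i j (Polynomial.X : Polynomial F))
    have hmap : ∀ t : F, (Matrix.transvection i j (Polynomial.X : Polynomial F)).map
        (Polynomial.eval t) = Matrix.transvection i j t := by
      intro t
      ext a b
      simp only [Matrix.transvection, Matrix.map_apply, Matrix.add_apply, Matrix.one_apply,
        Matrix.single_apply]
      split_ifs <;> simp
    simp only [hmap] at hP
    rw [← hP c]
    apply poly_exp_eq_one P
    · intro s t
      rw [hP, hP, hP, ← hνmul, Matrix.transvection_mul_transvection_same _ _ hij]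
    · rw [hP, Matrix.transvection_zero, hν1]
  have hlist : ∀ L : List (Matrix.TransvectionStruct (Fin n) F),
      nu N (L.map Matrix.TransvectionStruct.toMatrix).prod = 1 := by
    intro L
    induction L with
    | nil => simpa using hν1
    | cons t L ih =>
      rw [List.map_cons, List.prod_cons, hνmul, ih, mul_one]
      exact htrans t.i t.j t.hij t.c
  -- the case n = 0
  rcases Nat.eq_zero_or_pos n with hn0 | hnpos
  · subst hn0
    refine ⟨0, fun x => ?_⟩
    have : x = 1 := Subsingleton.elim _ _
    rw [pow_zero]
    change nu N x = 1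
    rw [this, hν1]
  -- diagonal matrices with one nontrivial entry
  let Dk : Fin n → F → Matrix (Fin n) (Fin n) F :=
    fun k d => Matrix.diagonal (Function.update (fun _ => (1 : F)) k d)
  have hDk_mul : ∀ k s t, Dk k (s * t) = Dk k s * Dk k t := by
    intro k s t
    simp only [Dk, Matrix.diagonal_mul_diagonal]
    congr 1
    funext i
    by_cases hik : i = k
    · subst hik; simp
    · simp [Function.update_of_ne hik]
  have hDk_one : ∀ k, Dk k 1 = 1 := by
    intro k
    simp only [Dk]
    rw [Function.update_eq_self_iff.mpr rfl]
    exact Matrix.diagonal_one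
  have hdiag : ∀ k, ∃ m : ℕ, ∀ d : F, nu N (Dk k d) = d ^ m := by
    intro k
    obtain ⟨Q, hQ⟩ := exists_poly_path N
      (Matrix.diagonal (Function.update (fun _ => (1 : Polynomial F)) k Polynomial.X))
    have hmap : ∀ t : F, (Matrix.diagonal (Function.update (fun _ => (1 : Polynomial F)) k
        Polynomial.X)).map (Polynomial.eval t) = Dk k t := by
      intro t
      rw [Matrix.diagonal_map (by simp)]
      simp only [Dk]
      congr 1
      funext i
      by_cases hik : i = k
      · subst hik; simp
      · simp [Function.update_of_ne hik]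
    simp only [hmap] at hQ
    obtain ⟨m, hm⟩ := poly_mult_eq_pow Q
      (by intro s t; rw [hQ, hQ, hQ, hDk_mul, hνmul])
      (by rw [hQ, hDk_one, hν1])
    exact ⟨m, fun d => by rw [← hQ, hm]⟩
  -- permutation conjugation: all exponents agree
  have hperm : ∀ k l d, nu N (Dk l d) = nu N (Dk k d) := by
    intro k l d
    let σ : Equiv.Perm (Fin n) := Equiv.swap k l
    let P : Matrix (Fin n) (Fin n) F := σ.toPEquiv.toMatrix
    have hPP : P * P = 1 := by
      simp only [P]
      rw [← PEquiv.toMatrix_trans, ← Equiv.toPEquiv_trans]
      have : σ.trans σ = Equiv.refl _ := by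
        ext i
        simp [σ]
      rw [this, Equiv.toPEquiv_refl, PEquiv.toMatrix_refl]
    have hconj : P * Dk k d * P = Dk l d := by
      simp only [P]
      rw [PEquiv.toMatrix_toPEquiv_mul, PEquiv.mul_toMatrix_toPEquiv]
      ext a b
      simp only [Dk, Matrix.submatrix_apply, Matrix.diagonal_apply, id_eq]
      have hsymm : σ.symm = σ := Equiv.symm_swap k l
      rw [hsymm]
      by_cases hab : a = b
      · subst hab
        simp only [if_true]
        by_cases hal : a = l
        · subst hal
          simp [σ]
        · have : σ a ≠ k := by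
            intro h
            apply hal
            have := congrArg σ h
            simpa [σ] using this
          rw [Function.update_of_ne this, Function.update_of_ne hal]
      · have : σ a ≠ σ b := fun h => hab (σ.injective h)
        rw [if_neg this, if_neg hab]
    have hP2 : nu N P * nu N P = 1 := by rw [← hνmul, hPP, hν1]
    rw [← hconj, hνmul, hνmul]
    calc nu N P * nu N (Dk k d) * nu N P = (nu N P * nu N P) * nu N (Dk k d) := by ring
      _ = nu N (Dk k d) := by rw [hP2, one_mul]
  obtain ⟨m, hm⟩ := hdiag ⟨0, hnpos⟩
  have hm' : ∀ k d, nu N (Dk k d) = d ^ m := fun k d => by rw [hperm ⟨0, hnpos⟩ k d, hm]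
  -- general diagonal matrices
  have hdiagD : ∀ D : Fin n → F, nu N (Matrix.diagonal D) = (∏ k, D k) ^ m := by
    intro D
    have hpart : ∀ s : Finset (Fin n),
        nu N (Matrix.diagonal (fun k => if k ∈ s then D k else 1)) = ∏ k ∈ s, (D k) ^ m := by
      intro s
      induction s using Finset.induction_on with
      | empty =>
        simp only [Finset.notMem_empty, if_false, Finset.prod_empty]
        rw [Matrix.diagonal_one, hν1]
      | insert a s has ih =>
        have hsplit : Matrix.diagonal (fun k => if k ∈ insert a s then D k else 1)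
            = Dk a (D a) * Matrix.diagonal (fun k => if k ∈ s then D k else 1) := by
          simp only [Dk, Matrix.diagonal_mul_diagonal]
          congr 1
          funext k
          by_cases hka : k = a
          · subst hka
            simp [has]
          · simp [Function.update_of_ne hka, Finset.mem_insert, hka]
        rw [hsplit, hνmul, ih, hm', Finset.prod_insert has]
    have := hpart Finset.univ
    simp only [Finset.mem_univ, if_true] at this
    rw [this, Finset.prod_pow]
  refine ⟨m, fun x => ?_⟩
  obtain ⟨L, L', D, hx⟩ := Matrix.Pivot.exists_list_transvec_mul_diagonal_mul_list_transvec x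
  change nu N x = x.det ^ m
  rw [hx, hνmul, hνmul, hlist, hlist, one_mul, mul_one, hdiagD, Matrix.det_mul, Matrix.det_mul,
    Matrix.TransvectionStruct.det_toMatrix_prod, Matrix.TransvectionStruct.det_toMatrix_prod,
    one_mul, mul_one, Matrix.det_diagonal]

end Groth.Agent.S18544
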