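import Groth.Statements.S18545
import Mathlib
-- import your own Groth.Agent.* helpers here

set_option autoImplicit false
universe u
open AbVar

namespace Groth.Agent.S18545

section helpers

open Module

variable {K : Type u} [Field K] {V : Type u} [AddCommGroup V] [Module K V]

/-- eigen-vector selection: an `F`-stable subspace `A` not contained in `B` contains an
`F`-eigenvector outside `B`. -/
theorem exists_eigen (F : Subalgebra K (Module.End K V)) (r : ℕ) (φ : F ≃ₐ[K] (Fin r → K))
    (A B : Submodule K V) (hA : ∀ f ∈ F, ∀ w ∈ A, f w ∈ A) (hAB : ¬ A ≤ B) :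
    ∃ u ∈ A, u ∉ B ∧ ∀ f ∈ F, ∃ c : K, f u = c • u := by
  classical
  obtain ⟨v, hvA, hvB⟩ := SetLike.not_le_iff_exists.mp hAB
  let ε : Fin r → F := fun j => φ.symm (Pi.single j 1)
  have h1 : (∑ j, ε j) = 1 := by
    simp only [ε]
    rw [← map_sum, Finset.univ_sum_single]
    exact map_one φ.symm
  have hsum : (∑ j, (ε j : Module.End K V)) = 1 := by
    have := congrArg (F.val) h1
    rw [map_sum, map_one] at this
    exact this
  have hmul : ∀ (f : F) (j : Fin r), f * ε j = (φ f j) • ε j := by
    intro f j
    apply φ.injective
    rw [map_mul, map_smul]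
    simp only [ε, AlgEquiv.apply_symm_apply]
    ext i
    by_cases hij : i = j
    · subst hij; simp
    · simp [Pi.single_eq_of_ne hij]
  have hv : v = ∑ j, (ε j : Module.End K V) v := by
    have := congrArg (fun T : Module.End K V => T v) hsum
    simp only [LinearMap.sum_apply, Module.End.one_apply] at this
    exact this.symm
  have hex : ∃ j, (ε j : Module.End K V) v ∉ B := by
    by_contra hcon
    push Not at hcon
    apply hvB
    rw [hv]
    exact Submodule.sum_mem _ (fun j _ => hcon j)
  obtain ⟨j, hj⟩ := hex
  refine ⟨(ε j : Module.End K V) v, hA _ (ε j).2 v hvA, hj, ?_⟩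
  intro f hf
  refine ⟨φ ⟨f, hf⟩ j, ?_⟩
  have := congrArg (fun T : F => (T : Module.End K V) v) (hmul ⟨f, hf⟩ j)
  simpa using this

end helpers

/-- A step in the proof of Tate's isogeny result over finite fields, in linear-algebra form. Let K be a
field and V a K-vector space of finite dimension 2g carrying a nondegenerate alternating bilinear
form e. Let F be a K-subalgebra of End(V) which is isomorphic as a K-algebra to a finite product K ×
⋯ × K and which is spanned over K by a set S of similitudes of e (for each s in S there is a nonzero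
scalar c with e(s x, s y) = c·e(x, y) for all x, y). Let D be a set of endomorphisms of V such that
every F-stable isotropic subspace W of dimension g (a maximal isotropic subspace) is D-stable. Then
every F-stable isotropic subspace of V is D-stable. (In the application V is the rational ℓ-adic
Tate module of an abelian variety over a finite field with the Riemann form of a polarisation, F the
algebra generated by the Galois group, split for the chosen ℓ, and D the commutant of the image of
the endomorphism algebra; the hypothesis on maximal isotropic subspaces is the step obtained from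
the finiteness of isomorphism classes.) -/
theorem result (K : Type u) [Field K]
    (V : Type u) [AddCommGroup V] [Module K V] [FiniteDimensional K V] (g : ℕ) (hV : Module.finrank K V = 2 * g)
    (e : LinearMap.BilinForm K V) (he : e.IsAlt) (hnd : e.Nondegenerate)
    (F : Subalgebra K (Module.End K V)) (r : ℕ) (hF : Nonempty (F ≃ₐ[K] (Fin r → K)))
    (S : Set (Module.End K V)) (hS : Submodule.span K S = Subalgebra.toSubmodule F)
    (hsim : ∀ s ∈ S, ∃ c : K, c ≠ 0 ∧ ∀ x y : V, e (s x) (s y) = c * e x y)
    (D : Set (Module.End K V))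
    (hmax : ∀ W : Submodule K V, (∀ f ∈ F, ∀ w ∈ W, f w ∈ W) → (∀ x ∈ W, ∀ y ∈ W, e x y = 0) →
      Module.finrank K W = g → ∀ d ∈ D, ∀ w ∈ W, d w ∈ W)
    (W : Submodule K V) (hWF : ∀ f ∈ F, ∀ w ∈ W, f w ∈ W) (hWiso : ∀ x ∈ W, ∀ y ∈ W, e x y = 0) :
    ∀ d ∈ D, ∀ w ∈ W, d w ∈ W := by
  classical
  obtain ⟨φ⟩ := hF
  have hSF : ∀ s ∈ S, s ∈ F := by
    intro s hs
    have : s ∈ Submodule.span K S := Submodule.subset_span hs
    rw [hS] at this
    exact this
  -- similitudes are injective
  have hinj : ∀ s ∈ S, Function.Injective s := by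
    intro s hs
    obtain ⟨c, hc, hcs⟩ := hsim s hs
    rw [injective_iff_map_eq_zero]
    intro x hx
    apply hnd.1
    intro y
    have := hcs x y
    rw [hx, map_zero, LinearMap.zero_apply] at this
    exact (mul_eq_zero.mp this.symm).resolve_left hc
  -- the orthogonal of an F-stable subspace is F-stable
  have horth : ∀ W : Submodule K V, (∀ f ∈ F, ∀ w ∈ W, f w ∈ W) →
      ∀ f ∈ F, ∀ x ∈ e.orthogonal W, f x ∈ e.orthogonal W := by
    intro W hW
    have key : ∀ f ∈ Submodule.span K S, ∀ x ∈ e.orthogonal W, f x ∈ e.orthogonal W := by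
      intro f hf
      induction hf using Submodule.span_induction with
      | mem s hs =>
        intro x hx
        obtain ⟨c, hc, hcs⟩ := hsim s hs
        rw [LinearMap.BilinForm.mem_orthogonal_iff] at hx ⊢
        intro w hw
        have hsW : ∀ w ∈ W, s w ∈ W := hW s (hSF s hs)
        have hsurj : Function.Surjective (s.restrict hsW) := by
          rw [← LinearMap.injective_iff_surjective]
          intro a b hab
          apply Subtype.ext
          apply hinj s hs
          exact congrArg Subtype.val hab
        obtain ⟨w', hw'⟩ := hsurj ⟨w, hw⟩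
        have hsw : s w' = w := congrArg Subtype.val hw'
        rw [← hsw, hcs, hx w' w'.2, mul_zero]
      | zero =>
        intro x hx
        simp
      | add f g _ _ hf hg =>
        intro x hx
        rw [LinearMap.add_apply]
        exact Submodule.add_mem _ (hf x hx) (hg x hx)
      | smul a f _ hf =>
        intro x hx
        rw [LinearMap.smul_apply]
        exact Submodule.smul_mem _ _ (hf x hx)
    intro f hf
    exact key f (by rw [hS]; exact hf)
  have hle : ∀ W : Submodule K V, (∀ x ∈ W, ∀ y ∈ W, e x y = 0) → W ≤ e.orthogonal W := by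
    intro W hW x hx
    rw [LinearMap.BilinForm.mem_orthogonal_iff]
    intro n hn
    exact hW n hn x hx
  have hfr : ∀ W : Submodule K V,
      Module.finrank K (e.orthogonal W) = 2 * g - Module.finrank K W := by
    intro W
    rw [LinearMap.BilinForm.finrank_orthogonal hnd, hV]
  have hdim : ∀ W : Submodule K V, (∀ x ∈ W, ∀ y ∈ W, e x y = 0) → Module.finrank K W ≤ g := by
    intro W hW
    have h1 := Submodule.finrank_mono (hle W hW)
    rw [hfr] at h1
    have h2 : Module.finrank K W ≤ 2 * g := by
      rw [← hV]
      exact Submodule.finrank_le W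
    omega
  have main : ∀ k : ℕ, ∀ W : Submodule K V, (∀ f ∈ F, ∀ w ∈ W, f w ∈ W) →
      (∀ x ∈ W, ∀ y ∈ W, e x y = 0) → g ≤ Module.finrank K W + k →
      ∀ d ∈ D, ∀ w ∈ W, d w ∈ W := by
    intro k
    induction k with
    | zero =>
      intro W hWF hWiso hk
      exact hmax W hWF hWiso (le_antisymm (hdim W hWiso) (by simpa using hk))
    | succ k ih =>
      intro W hWF hWiso hk
      by_cases hWg : g ≤ Module.finrank K W
      · exact hmax W hWF hWiso (le_antisymm (hdim W hWiso) hWg)
      push Not at hWg
      have hPF := horth W hWF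
      have hWP := hle W hWiso
      have hPdim := hfr W
      have h1 : ¬ e.orthogonal W ≤ W := by
        intro hle'
        have := Submodule.finrank_mono hle'
        omega
      obtain ⟨u₁, hu₁P, hu₁W, hu₁e⟩ := exists_eigen F r φ (e.orthogonal W) W hPF h1
      have hW₁dim : Module.finrank K (W ⊔ K ∙ u₁ : Submodule K V) ≤ Module.finrank K W + 1 := by
        calc Module.finrank K (W ⊔ K ∙ u₁ : Submodule K V)
            ≤ Module.finrank K W + Module.finrank K (K ∙ u₁) :=
              Submodule.finrank_add_le_finrank_add_finrank _ _
          _ ≤ Module.finrank K W + 1 := by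
              gcongr
              exact (finrank_span_le_card ({u₁} : Set V)).trans (by simp)
      have h2 : ¬ e.orthogonal W ≤ W ⊔ K ∙ u₁ := by
        intro hle'
        have := Submodule.finrank_mono hle'
        omega
      obtain ⟨u₂, hu₂P, hu₂W₁, hu₂e⟩ := exists_eigen F r φ (e.orthogonal W) (W ⊔ K ∙ u₁) hPF h2
      have hgen : ∀ u ∈ e.orthogonal W, u ∉ W → (∀ f ∈ F, ∃ c : K, f u = c • u) →
          ∀ d ∈ D, ∀ w ∈ W ⊔ K ∙ u, d w ∈ W ⊔ K ∙ u := by
        intro u huP huW hue
        apply ih
        · intro f hf w hw
          obtain ⟨w0, hw0, z, hz, rfl⟩ := Submodule.mem_sup.mp hw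
          obtain ⟨a, rfl⟩ := Submodule.mem_span_singleton.mp hz
          obtain ⟨c, hc⟩ := hue f hf
          rw [map_add, map_smul, hc]
          exact Submodule.add_mem _ (Submodule.mem_sup_left (hWF f hf w0 hw0))
            (Submodule.mem_sup_right (Submodule.smul_mem _ _ (Submodule.smul_mem _ _
              (Submodule.mem_span_singleton_self u))))
        · intro x hx y hy
          obtain ⟨w0, hw0, z, hz, rfl⟩ := Submodule.mem_sup.mp hx
          obtain ⟨a, rfl⟩ := Submodule.mem_span_singleton.mp hz
          obtain ⟨w1, hw1, z', hz', rfl⟩ := Submodule.mem_sup.mp hy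
          obtain ⟨b, rfl⟩ := Submodule.mem_span_singleton.mp hz'
          have e1 : e w0 w1 = 0 := hWiso w0 hw0 w1 hw1
          have e2 : e w0 u = 0 := huP w0 hw0
          have e3 : e u w1 = 0 := by
            rw [← he.neg_eq w1 u, huP w1 hw1, neg_zero]
          have e4 : e u u = 0 := he u
          simp [e1, e2, e3, e4]
        · have hlt : W < W ⊔ K ∙ u := by
            apply lt_of_le_of_ne le_sup_left
            intro heq
            apply huW
            rw [heq]
            exact Submodule.mem_sup_right (Submodule.mem_span_singleton_self u)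
          have := Submodule.finrank_lt_finrank_of_lt hlt
          omega
      intro d hd w hw
      have m1 : d w ∈ W ⊔ K ∙ u₁ := hgen u₁ hu₁P hu₁W hu₁e d hd w (Submodule.mem_sup_left hw)
      have m2 : d w ∈ W ⊔ K ∙ u₂ :=
        hgen u₂ hu₂P (fun h => hu₂W₁ (Submodule.mem_sup_left h)) hu₂e d hd w
          (Submodule.mem_sup_left hw)
      obtain ⟨w1, hw1, z1, hz1, h1eq⟩ := Submodule.mem_sup.mp m1
      obtain ⟨a, rfl⟩ := Submodule.mem_span_singleton.mp hz1
      obtain ⟨w2, hw2, z2, hz2, h2eq⟩ := Submodule.mem_sup.mp m2
      obtain ⟨b, rfl⟩ := Submodule.mem_span_singleton.mp hz2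
      by_cases hb : b = 0
      · rw [← h2eq, hb, zero_smul, add_zero]
        exact hw2
      · exfalso
        apply hu₂W₁
        have hbu : b • u₂ = (w1 - w2) + a • u₁ := by
          have h := h1eq.trans h2eq.symm
          have : b • u₂ = w1 + a • u₁ - w2 := by
            rw [h]
            abel
          rw [this]
          abel
        have h3 : b • u₂ ∈ W ⊔ K ∙ u₁ := by
          rw [hbu]
          exact Submodule.add_mem _ (Submodule.mem_sup_left (Submodule.sub_mem _ hw1 hw2))
            (Submodule.mem_sup_right (Submodule.smul_mem _ _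
              (Submodule.mem_span_singleton_self _)))
        have h4 := Submodule.smul_mem (W ⊔ K ∙ u₁) b⁻¹ h3
        rwa [smul_smul, inv_mul_cancel₀ hb, one_smul] at h4
  exact main g W hWF hWiso (by omega)

end Groth.Agent.S18545
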