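import Groth.Statements.S18546
import Mathlib
import Groth.Agent.Lib.Helper92.SymSq
-- import your own Groth.Agent.* helpers here

set_option autoImplicit false
open scoped TensorProduct
universe u v
open GalCoh

namespace Groth.Agent.S18546

/-- Let G be a group acting linearly on a vector space V of dimension 2 over the field 𝔽₂ with two
elements. Then the short exact sequence of G-modules 0 → V → S²V → Λ²V → 0 (v ↦ v·v, x·y ↦ x ∧ y)
splits G-equivariantly. Here, for a vector space V over the field with two elements carrying a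
linear action ρ of a group G, write N_a ⊆ V ⊗ V for the span of the tensors v ⊗ v and N_s ⊆ N_a for
the span of the tensors x ⊗ y + y ⊗ x, so that S²V = (V ⊗ V)/N_s, Λ²V = (V ⊗ V)/N_a and the
surjection S²V → Λ²V, x·y ↦ x ∧ y, is G-equivariant for the diagonal action; a G-equivariant linear
section of this surjection is the same thing as a G-stable subspace W of V ⊗ V with W ∩ N_a = N_s
and W + N_a = V ⊗ V, which is how the splitting is stated. (The source has the absolute Galois group
of a field acting continuously; any group is allowed here.) -/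
theorem result (G : Type u) [Group G] (V : Type v)
    [AddCommGroup V] [Module (ZMod 2) V] (hV : Module.finrank (ZMod 2) V = 2)
    (ρ : Representation (ZMod 2) G V) :
    ∃ W : Submodule (ZMod 2) (V ⊗[ZMod 2] V),
      (∀ g : G, ∀ w ∈ W, ρ.tprod ρ g w ∈ W) ∧
      W ⊓ Submodule.span (ZMod 2) (Set.range fun v : V => v ⊗ₜ[ZMod 2] v) =
        Submodule.span (ZMod 2) (Set.range fun p : V × V => p.1 ⊗ₜ[ZMod 2] p.2 + p.2 ⊗ₜ[ZMod 2] p.1) ∧
      W ⊔ Submodule.span (ZMod 2) (Set.range fun v : V => v ⊗ₜ[ZMod 2] v) = ⊤ := by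
  classical
  have : Module.Finite (ZMod 2) V := Module.finite_of_finrank_pos (by rw [hV]; norm_num)
  let b : Module.Basis (Fin 2) (ZMod 2) V := Module.finBasisOfFinrankEq (ZMod 2) V hV
  let bb := b.tensorProduct b
  let s : V ⊗[ZMod 2] V := b 0 ⊗ₜ[ZMod 2] b 1 + b 1 ⊗ₜ[ZMod 2] b 0
  let q : V ⊗[ZMod 2] V := b 0 ⊗ₜ[ZMod 2] b 0 + b 0 ⊗ₜ[ZMod 2] b 1 + b 1 ⊗ₜ[ZMod 2] b 1
  let lam : (V ⊗[ZMod 2] V) →ₗ[ZMod 2] ZMod 2 := bb.coord (0, 1) + bb.coord (1, 0)
  have hsNs : s ∈ Groth.Agent.Lib.Helper92.Ns V := Submodule.subset_span ⟨(b 0, b 1), rfl⟩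
  have hlam_tmul : ∀ x y : V, lam (x ⊗ₜ[ZMod 2] y)
      = b.repr y 1 * b.repr x 0 + b.repr y 0 * b.repr x 1 := by
    intro x y
    simp [lam, bb, Module.Basis.coord_apply]
  have hlamNa : ∀ x ∈ Groth.Agent.Lib.Helper92.Na V, lam x = 0 := by
    intro x hx
    induction hx using Submodule.span_induction with
    | mem x hx =>
      obtain ⟨v, rfl⟩ := hx
      simp only
      rw [hlam_tmul, mul_comm (b.repr v 0)]
      exact CharTwo.add_self_eq_zero _
    | zero => simp
    | add x y _ _ hx hy => rw [map_add, hx, hy, add_zero]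
    | smul a x _ hx => rw [map_smul, hx, smul_zero]
  have hlamq : lam q = 1 := by
    simp only [q, map_add, hlam_tmul]
    simp
  refine ⟨Groth.Agent.Lib.Helper92.Ns V ⊔ Submodule.span (ZMod 2) {q}, ?_, ?_, ?_⟩
  · -- stability
    intro g
    have hinj : Function.Injective (ρ g) := by
      intro x y hxy
      have := congrArg (ρ g⁻¹) hxy
      simpa [← Module.End.mul_apply, ← map_mul] using this
    have hle : (Groth.Agent.Lib.Helper92.Ns V ⊔ Submodule.span (ZMod 2) {q}).map (ρ.tprod ρ g)
        ≤ Groth.Agent.Lib.Helper92.Ns V ⊔ Submodule.span (ZMod 2) {q} := by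
      rw [Submodule.map_sup]
      apply sup_le
      · rw [Submodule.map_span_le]
        rintro _ ⟨⟨x, y⟩, rfl⟩
        simp only [map_add, Representation.tprod_apply, TensorProduct.map_tmul]
        exact Submodule.mem_sup_left (Submodule.subset_span ⟨(ρ g x, ρ g y), rfl⟩)
      · rw [Submodule.map_span_le]
        intro z hz
        rw [Set.mem_singleton_iff] at hz
        subst hz
        -- coordinates of g
        have hx := b.sum_repr (ρ g (b 0))
        have hy := b.sum_repr (ρ g (b 1))
        rw [Fin.sum_univ_two] at hx hy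
        set a := b.repr (ρ g (b 0)) 0 with ha
        set c := b.repr (ρ g (b 0)) 1 with hc
        set b' := b.repr (ρ g (b 1)) 0 with hb'
        set d := b.repr (ρ g (b 1)) 1 with hd
        have hx0 : ¬ (a = 0 ∧ c = 0) := by
          rintro ⟨h1, h2⟩
          rw [h1, h2, zero_smul, zero_smul, add_zero] at hx
          exact b.ne_zero 0 (hinj (by rw [← hx, map_zero]))
        have hy0 : ¬ (b' = 0 ∧ d = 0) := by
          rintro ⟨h1, h2⟩
          rw [h1, h2, zero_smul, zero_smul, add_zero] at hy
          exact b.ne_zero 1 (hinj (by rw [← hy, map_zero]))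
        have hxy : ¬ (a = b' ∧ c = d) := by
          rintro ⟨h1, h2⟩
          rw [h1, h2, hy] at hx
          have := b.injective (hinj hx)
          exact absurd this (by decide)
        have hdec : ∀ a b' c d : ZMod 2, ¬ (a = 0 ∧ c = 0) → ¬ (b' = 0 ∧ d = 0) →
            ¬ (a = b' ∧ c = d) →
            a * a + a * b' + b' * b' = 1 ∧ c * c + c * d + d * d = 1 ∧
            a * c + a * d + b' * d = 1 + (c * a + c * b' + d * b') := by decide
        obtain ⟨h1, h2, h3⟩ := hdec a b' c d hx0 hy0 hxy
        have hexp0 : (ρ.tprod ρ g) q = (a * a + a * b' + b' * b') • (b 0 ⊗ₜ[ZMod 2] b 0)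
            + (a * c + a * d + b' * d) • (b 0 ⊗ₜ[ZMod 2] b 1)
            + (c * a + c * b' + d * b') • (b 1 ⊗ₜ[ZMod 2] b 0)
            + (c * c + c * d + d * d) • (b 1 ⊗ₜ[ZMod 2] b 1) := by
          simp only [q, map_add, Representation.tprod_apply, TensorProduct.map_tmul]
          rw [← hx, ← hy]
          simp only [TensorProduct.add_tmul, TensorProduct.tmul_add, TensorProduct.smul_tmul_smul]
          module
        have hexp : (ρ.tprod ρ g) q = q + (c * a + c * b' + d * b') • s := by
          rw [hexp0, h1, h2, h3]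
          simp only [q, s]
          module
        rw [hexp]
        exact Submodule.add_mem _ (Submodule.mem_sup_right (Submodule.mem_span_singleton_self q))
          (Submodule.mem_sup_left (Submodule.smul_mem _ _ hsNs))
    intro w hw
    exact hle (Submodule.mem_map_of_mem hw)
  · -- intersection
    apply le_antisymm
    · rintro x ⟨hxW, hxN⟩
      obtain ⟨n, hn, z, hz, rfl⟩ := Submodule.mem_sup.mp hxW
      obtain ⟨α, rfl⟩ := Submodule.mem_span_singleton.mp hz
      have h0 := hlamNa _ hxN
      rw [map_add, hlamNa n (Groth.Agent.Lib.Helper92.Ns_le_Na V hn), zero_add, map_smul, hlamq,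
        smul_eq_mul, mul_one] at h0
      rw [h0, zero_smul, add_zero]
      exact hn
    · exact le_inf le_sup_left (Groth.Agent.Lib.Helper92.Ns_le_Na V)
  · -- sum
    rw [eq_top_iff, ← Groth.Agent.Lib.Helper92.Wb_sup_Na b]
    apply sup_le _ le_sup_right
    rw [Submodule.span_le]
    rintro _ ⟨⟨i, j⟩, hij, rfl⟩
    simp only [Set.mem_ofPred_eq] at hij
    rw [Module.Basis.tensorProduct_apply]
    have h01 : b 0 ⊗ₜ[ZMod 2] b 1 ∈ (Groth.Agent.Lib.Helper92.Ns V ⊔ Submodule.span (ZMod 2) {q}) ⊔
        Groth.Agent.Lib.Helper92.Na V := by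
      have : b 0 ⊗ₜ[ZMod 2] b 1 = q - (b 0 ⊗ₜ[ZMod 2] b 0 + b 1 ⊗ₜ[ZMod 2] b 1) := by
        simp only [q]
        abel
      rw [this]
      refine Submodule.sub_mem _ (Submodule.mem_sup_left (Submodule.mem_sup_right
        (Submodule.mem_span_singleton_self q))) (Submodule.mem_sup_right ?_)
      exact Submodule.add_mem _ (Submodule.subset_span ⟨b 0, rfl⟩) (Submodule.subset_span ⟨b 1, rfl⟩)
    have h10 : b 1 ⊗ₜ[ZMod 2] b 0 ∈ (Groth.Agent.Lib.Helper92.Ns V ⊔ Submodule.span (ZMod 2) {q}) ⊔
        Groth.Agent.Lib.Helper92.Na V := by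
      have : b 1 ⊗ₜ[ZMod 2] b 0 = s - b 0 ⊗ₜ[ZMod 2] b 1 := by
        simp only [s]
        abel
      rw [this]
      exact Submodule.sub_mem _ (Submodule.mem_sup_left (Submodule.mem_sup_left hsNs)) h01
    fin_cases i <;> fin_cases j
    · exact absurd rfl hij
    · exact h01
    · exact h10
    · exact absurd rfl hij

end Groth.Agent.S18546
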