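import Groth.Statements.S18547
import Mathlib
import Groth.Agent.Lib.Helper92.SymSq
-- import your own Groth.Agent.* helpers here

set_option autoImplicit false
open scoped TensorProduct
universe u v
open GalCoh

namespace Groth.Agent.S18547

open TensorProduct Groth.Agent.Lib.Helper92 in
set_option maxRecDepth 100000 in
set_option synthInstance.maxSize 2000 in
set_option synthInstance.maxHeartbeats 2000000 in
set_option maxHeartbeats 4000000 in
theorem L2 : ∀ x0 x1 x2 y0 y1 y2 a0 a1 a2 c0 c1 c2 : ZMod 2,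
  a0*c1 + a1*c0 = x0*y1 + x1*y0 → a0*c2 + a2*c0 = x0*y2 + x2*y0 → a1*c2 + a2*c1 = x1*y2 + x2*y1 →
  ¬(x0*y1 + x1*y0 = 0 ∧ x0*y2 + x2*y0 = 0 ∧ x1*y2 + x2*y1 = 0) →
  ∃ p q r s : ZMod 2, a0 = p*x0 + q*y0 ∧ a1 = p*x1 + q*y1 ∧ a2 = p*x2+q*y2 ∧
    c0 = r*x0 + s*y0 ∧ c1 = r*x1 + s*y1 ∧ c2 = r*x2 + s*y2 ∧
    ¬(p=0∧q=0) ∧ ¬(r=0∧s=0) ∧ ¬(p=r∧q=s) := by decide

theorem L1 : ∀ α β γ : ZMod 2, ∃ x0 x1 x2 y0 y1 y2 : ZMod 2,
    x0*y1 + x1*y0 = α ∧ x0*y2 + x2*y0 = β ∧ x1*y2 + x2*y1 = γ := by decide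

theorem hdec : ∀ a b' c d : ZMod 2, ¬ (a = 0 ∧ c = 0) → ¬ (b' = 0 ∧ d = 0) →
    ¬ (a = b' ∧ c = d) →
    a * a + a * b' + b' * b' = 1 ∧ c * c + c * d + d * d = 1 ∧
    a * c + a * d + b' * d = 1 + (c * a + c * b' + d * b') := by decide

/-- Let G be a group acting linearly on a vector space V of dimension 3 over the field 𝔽₂ with two
elements. Then the connecting map (Λ²V)^G → H¹(G, V) of the short exact sequence of G-modules 0 → V
→ S²V → Λ²V → 0 (v ↦ v·v, x·y ↦ x ∧ y) is zero; equivalently, every G-invariant element of Λ²V is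
the image of a G-invariant element of S²V. Here N_a ⊆ V ⊗ V is the span of the tensors v ⊗ v and N_s
⊆ N_a the span of the tensors x ⊗ y + y ⊗ x, so that S²V = (V ⊗ V)/N_s and Λ²V = (V ⊗ V)/N_a with
the diagonal action of G, and the statement reads: a tensor t whose class modulo N_a is G-invariant
is congruent modulo N_a to a tensor whose class modulo N_s is G-invariant. (The source writes the
rank hypothesis on the lattice M with V = M/2M, which has the same rank, and has the absolute Galois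
group of a field acting; any group is allowed here.) -/
theorem result (G : Type u) [Group G] (V : Type v)
    [AddCommGroup V] [Module (ZMod 2) V] (hV : Module.finrank (ZMod 2) V = 3)
    (ρ : Representation (ZMod 2) G V) (t : V ⊗[ZMod 2] V)
    (ht : ∀ g : G, ρ.tprod ρ g t - t ∈ Submodule.span (ZMod 2) (Set.range fun v : V => v ⊗ₜ[ZMod 2] v)) :
    ∃ t' : V ⊗[ZMod 2] V, t' - t ∈ Submodule.span (ZMod 2) (Set.range fun v : V => v ⊗ₜ[ZMod 2] v) ∧
      ∀ g : G, ρ.tprod ρ g t' - t' ∈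
        Submodule.span (ZMod 2) (Set.range fun p : V × V => p.1 ⊗ₜ[ZMod 2] p.2 + p.2 ⊗ₜ[ZMod 2] p.1) := by
  classical
  have : Module.Finite (ZMod 2) V := Module.finite_of_finrank_pos (by rw [hV]; norm_num)
  let b : Module.Basis (Fin 3) (ZMod 2) V := Module.finBasisOfFinrankEq (ZMod 2) V hV
  let bb := b.tensorProduct b
  let lam : Fin 3 → Fin 3 → ((V ⊗[ZMod 2] V) →ₗ[ZMod 2] ZMod 2) :=
    fun i j => bb.coord (i, j) + bb.coord (j, i)
  have hlam_tmul : ∀ (i j : Fin 3) (x y : V), lam i j (x ⊗ₜ[ZMod 2] y)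
      = b.repr x i * b.repr y j + b.repr x j * b.repr y i := by
    intro i j x y
    simp [lam, bb, Module.Basis.coord_apply, mul_comm]
  have hlamNa : ∀ (i j : Fin 3), ∀ z ∈ Groth.Agent.Lib.Helper92.Na V, lam i j z = 0 := by
    intro i j z hz
    induction hz using Submodule.span_induction with
    | mem x hx =>
      obtain ⟨v, rfl⟩ := hx
      simp only
      rw [hlam_tmul, mul_comm (b.repr v j)]
      exact CharTwo.add_self_eq_zero _
    | zero => simp
    | add x y _ _ hx hy => rw [map_add, hx, hy, add_zero]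
    | smul a x _ hx => rw [map_smul, hx, smul_zero]
  have hsym : ∀ x y : V, x ⊗ₜ[ZMod 2] y + y ⊗ₜ[ZMod 2] x ∈ Groth.Agent.Lib.Helper92.Na V :=
    fun x y => Groth.Agent.Lib.Helper92.Ns_le_Na V (Submodule.subset_span ⟨(x, y), rfl⟩)
  have hdiag : ∀ x : V, x ⊗ₜ[ZMod 2] x ∈ Groth.Agent.Lib.Helper92.Na V :=
    fun x => Submodule.subset_span ⟨x, rfl⟩
  have hNa_of : ∀ z : V ⊗[ZMod 2] V, lam 0 1 z = 0 → lam 0 2 z = 0 → lam 1 2 z = 0 →
      z ∈ Groth.Agent.Lib.Helper92.Na V := by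
    intro z h01 h02 h12
    have hz := bb.sum_repr z
    rw [Fintype.sum_prod_type, Fin.sum_univ_three, Fin.sum_univ_three, Fin.sum_univ_three,
      Fin.sum_univ_three] at hz
    simp only [bb, Module.Basis.tensorProduct_apply] at hz
    have e01 : (b.tensorProduct b).repr z (1, 0) = (b.tensorProduct b).repr z (0, 1) := by
      have : (b.tensorProduct b).repr z (0, 1) + (b.tensorProduct b).repr z (1, 0) = 0 := h01
      exact (CharTwo.add_eq_zero.mp this).symm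
    have e02 : (b.tensorProduct b).repr z (2, 0) = (b.tensorProduct b).repr z (0, 2) := by
      have : (b.tensorProduct b).repr z (0, 2) + (b.tensorProduct b).repr z (2, 0) = 0 := h02
      exact (CharTwo.add_eq_zero.mp this).symm
    have e12 : (b.tensorProduct b).repr z (2, 1) = (b.tensorProduct b).repr z (1, 2) := by
      have : (b.tensorProduct b).repr z (1, 2) + (b.tensorProduct b).repr z (2, 1) = 0 := h12
      exact (CharTwo.add_eq_zero.mp this).symm
    rw [e01, e02, e12] at hz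
    rw [← hz]
    have : ((b.tensorProduct b).repr z (0, 0) • b 0 ⊗ₜ[ZMod 2] b 0 +
          (b.tensorProduct b).repr z (0, 1) • b 0 ⊗ₜ[ZMod 2] b 1 +
          (b.tensorProduct b).repr z (0, 2) • b 0 ⊗ₜ[ZMod 2] b 2 +
        ((b.tensorProduct b).repr z (0, 1) • b 1 ⊗ₜ[ZMod 2] b 0 +
          (b.tensorProduct b).repr z (1, 1) • b 1 ⊗ₜ[ZMod 2] b 1 +
          (b.tensorProduct b).repr z (1, 2) • b 1 ⊗ₜ[ZMod 2] b 2) +
        ((b.tensorProduct b).repr z (0, 2) • b 2 ⊗ₜ[ZMod 2] b 0 +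
          (b.tensorProduct b).repr z (1, 2) • b 2 ⊗ₜ[ZMod 2] b 1 +
          (b.tensorProduct b).repr z (2, 2) • b 2 ⊗ₜ[ZMod 2] b 2)) =
        (b.tensorProduct b).repr z (0, 0) • (b 0 ⊗ₜ[ZMod 2] b 0) +
        (b.tensorProduct b).repr z (1, 1) • (b 1 ⊗ₜ[ZMod 2] b 1) +
        (b.tensorProduct b).repr z (2, 2) • (b 2 ⊗ₜ[ZMod 2] b 2) +
        (b.tensorProduct b).repr z (0, 1) • (b 0 ⊗ₜ[ZMod 2] b 1 + b 1 ⊗ₜ[ZMod 2] b 0) +
        (b.tensorProduct b).repr z (0, 2) • (b 0 ⊗ₜ[ZMod 2] b 2 + b 2 ⊗ₜ[ZMod 2] b 0) +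
        (b.tensorProduct b).repr z (1, 2) • (b 1 ⊗ₜ[ZMod 2] b 2 + b 2 ⊗ₜ[ZMod 2] b 1) := by
      module
    rw [this]
    refine Submodule.add_mem _ (Submodule.add_mem _ (Submodule.add_mem _ (Submodule.add_mem _
      (Submodule.add_mem _ ?_ ?_) ?_) ?_) ?_) ?_
    · exact Submodule.smul_mem _ _ (hdiag _)
    · exact Submodule.smul_mem _ _ (hdiag _)
    · exact Submodule.smul_mem _ _ (hdiag _)
    · exact Submodule.smul_mem _ _ (hsym _ _)
    · exact Submodule.smul_mem _ _ (hsym _ _)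
    · exact Submodule.smul_mem _ _ (hsym _ _)
  have hNa_stable : ∀ (g : G), ∀ z ∈ Groth.Agent.Lib.Helper92.Na V,
      ρ.tprod ρ g z ∈ Groth.Agent.Lib.Helper92.Na V := by
    intro g z hz
    induction hz using Submodule.span_induction with
    | mem x hx =>
      obtain ⟨v, rfl⟩ := hx
      simp only [Representation.tprod_apply, TensorProduct.map_tmul]
      exact hdiag _
    | zero => rw [map_zero]; exact Submodule.zero_mem _
    | add x y _ _ hx hy => rw [map_add]; exact Submodule.add_mem _ hx hy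
    | smul a x _ hx => rw [map_smul]; exact Submodule.smul_mem _ _ hx
  by_cases h0 : lam 0 1 t = 0 ∧ lam 0 2 t = 0 ∧ lam 1 2 t = 0
  · refine ⟨0, ?_, ?_⟩
    · rw [zero_sub]
      exact Submodule.neg_mem _ (hNa_of t h0.1 h0.2.1 h0.2.2)
    · intro g
      rw [map_zero, sub_zero]
      exact Submodule.zero_mem _
  · obtain ⟨x0, x1, x2, y0, y1, y2, h1, h2, h3⟩ := L1 (lam 0 1 t) (lam 0 2 t) (lam 1 2 t)
    let x : V := x0 • b 0 + x1 • b 1 + x2 • b 2
    let y : V := y0 • b 0 + y1 • b 1 + y2 • b 2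
    have hx0 : b.repr x 0 = x0 := by simp [x]
    have hx1 : b.repr x 1 = x1 := by simp [x]
    have hx2 : b.repr x 2 = x2 := by simp [x]
    have hy0 : b.repr y 0 = y0 := by simp [y]
    have hy1 : b.repr y 1 = y1 := by simp [y]
    have hy2 : b.repr y 2 = y2 := by simp [y]
    have htxy : t - x ⊗ₜ[ZMod 2] y ∈ Groth.Agent.Lib.Helper92.Na V := by
      apply hNa_of
      · rw [map_sub, hlam_tmul, hx0, hx1, hy0, hy1, h1, sub_self]
      · rw [map_sub, hlam_tmul, hx0, hx2, hy0, hy2, h2, sub_self]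
      · rw [map_sub, hlam_tmul, hx1, hx2, hy1, hy2, h3, sub_self]
    have hne : ¬(x0*y1 + x1*y0 = 0 ∧ x0*y2 + x2*y0 = 0 ∧ x1*y2 + x2*y1 = 0) := by
      rw [h1, h2, h3]; exact h0
    refine ⟨x ⊗ₜ[ZMod 2] x + x ⊗ₜ[ZMod 2] y + y ⊗ₜ[ZMod 2] y, ?_, ?_⟩
    · have : x ⊗ₜ[ZMod 2] x + x ⊗ₜ[ZMod 2] y + y ⊗ₜ[ZMod 2] y - t =
          (x ⊗ₜ[ZMod 2] x + y ⊗ₜ[ZMod 2] y) - (t - x ⊗ₜ[ZMod 2] y) := by abel
      rw [this]
      exact Submodule.sub_mem _ (Submodule.add_mem _ (hdiag x) (hdiag y)) htxy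
    · intro g
      have hg : ρ g x ⊗ₜ[ZMod 2] ρ g y - x ⊗ₜ[ZMod 2] y ∈ Groth.Agent.Lib.Helper92.Na V := by
        have e : ρ g x ⊗ₜ[ZMod 2] ρ g y - x ⊗ₜ[ZMod 2] y =
            (ρ.tprod ρ g t - t) - ρ.tprod ρ g (t - x ⊗ₜ[ZMod 2] y) + (t - x ⊗ₜ[ZMod 2] y) := by
          rw [map_sub]
          simp only [Representation.tprod_apply, TensorProduct.map_tmul]
          abel
        rw [e]
        exact Submodule.add_mem _ (Submodule.sub_mem _ (ht g) (hNa_stable g _ htxy)) htxy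
      have e01 := hlamNa 0 1 _ hg
      have e02 := hlamNa 0 2 _ hg
      have e12 := hlamNa 1 2 _ hg
      rw [map_sub, hlam_tmul, hlam_tmul, sub_eq_zero, hx0, hx1, hy0, hy1] at e01
      rw [map_sub, hlam_tmul, hlam_tmul, sub_eq_zero, hx0, hx2, hy0, hy2] at e02
      rw [map_sub, hlam_tmul, hlam_tmul, sub_eq_zero, hx1, hx2, hy1, hy2] at e12
      obtain ⟨p, q, r, s, ha0, ha1, ha2, hc0, hc1, hc2, hn1, hn2, hn3⟩ :=
        L2 x0 x1 x2 y0 y1 y2 _ _ _ _ _ _ e01 e02 e12 hne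
      have hax : ρ g x = p • x + q • y := by
        apply b.ext_elem
        intro i
        fin_cases i
        · simpa [hx0, hy0] using ha0
        · simpa [hx1, hy1] using ha1
        · simpa [hx2, hy2] using ha2
      have hcy : ρ g y = r • x + s • y := by
        apply b.ext_elem
        intro i
        fin_cases i
        · simpa [hx0, hy0] using hc0
        · simpa [hx1, hy1] using hc1
        · simpa [hx2, hy2] using hc2
      obtain ⟨k1, k2, k3⟩ := hdec p r q s hn1 hn2 hn3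
      have hexp0 : (ρ.tprod ρ g) (x ⊗ₜ[ZMod 2] x + x ⊗ₜ[ZMod 2] y + y ⊗ₜ[ZMod 2] y) =
          (p * p + p * r + r * r) • (x ⊗ₜ[ZMod 2] x)
            + (p * q + p * s + r * s) • (x ⊗ₜ[ZMod 2] y)
            + (q * p + q * r + s * r) • (y ⊗ₜ[ZMod 2] x)
            + (q * q + q * s + s * s) • (y ⊗ₜ[ZMod 2] y) := by
        simp only [map_add, Representation.tprod_apply, TensorProduct.map_tmul]
        rw [hax, hcy]
        simp only [TensorProduct.add_tmul, TensorProduct.tmul_add, TensorProduct.smul_tmul_smul]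
        module
      have hexp : (ρ.tprod ρ g) (x ⊗ₜ[ZMod 2] x + x ⊗ₜ[ZMod 2] y + y ⊗ₜ[ZMod 2] y) -
          (x ⊗ₜ[ZMod 2] x + x ⊗ₜ[ZMod 2] y + y ⊗ₜ[ZMod 2] y) =
          (q * p + q * r + s * r) • (x ⊗ₜ[ZMod 2] y + y ⊗ₜ[ZMod 2] x) := by
        rw [hexp0, k1, k2, k3]
        module
      rw [hexp]
      exact Submodule.smul_mem _ _ (Submodule.subset_span ⟨(x, y), rfl⟩)

end Groth.Agent.S18547
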