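import Groth.Statements.S18549
import Mathlib
import Groth.Agent.S18548
-- import your own Groth.Agent.* helpers here

set_option autoImplicit false
open scoped TensorProduct
universe u v
open GalCoh

namespace Groth.Agent.S18549

section helpers

universe v'

/-- A linear involution of a finite-dimensional `𝔽₂`-vector space permutes some basis. -/
theorem exists_perm_basis (V : Type v') [AddCommGroup V] [Module (ZMod 2) V]
    [Module.Finite (ZMod 2) V] (σ : V →ₗ[ZMod 2] V) (hσ : ∀ v, σ (σ v) = v) :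
    ∃ (n m : ℕ) (b : Module.Basis (Fin n ⊕ (Fin n ⊕ Fin m)) (ZMod 2) V),
      ∀ i, ∃ j, σ (b i) = b j := by
  classical
  set N : V →ₗ[ZMod 2] V := σ + LinearMap.id with hN
  have hNapp : ∀ v, N v = σ v + v := fun v => rfl
  have hNN : ∀ v, N (N v) = 0 := by
    intro v
    simp only [hNapp, map_add, hσ]
    rw [add_comm v (σ v)]
    exact ZModModule.add_self _
  have hNσ : ∀ v, N (σ v) = N v := by
    intro v
    simp only [hNapp, hσ]
    exact add_comm _ _
  obtain ⟨U, hU⟩ := Submodule.exists_isCompl (LinearMap.ker N)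
  obtain ⟨Z', hZ'⟩ := Submodule.exists_isCompl (LinearMap.range N)
  set Z : Submodule (ZMod 2) V := Z' ⊓ LinearMap.ker N with hZ
  have hZK : ∀ z ∈ Z, N z = 0 := fun z hz => LinearMap.mem_ker.mp hz.2
  have hZfix : ∀ z ∈ Z, σ z = z := by
    intro z hz
    have := hZK z hz
    rw [hNapp] at this
    have h2 : σ z = -z := eq_neg_of_add_eq_zero_left this
    rw [h2, ZModModule.neg_eq_self]
  let Φ : (U × U × Z) →ₗ[ZMod 2] V :=
    U.subtype.coprod ((σ ∘ₗ U.subtype).coprod Z.subtype)
  have hΦ : ∀ (u u' : U) (z : Z), Φ (u, u', z) = (u : V) + (σ (u' : V) + (z : V)) := by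
    intro u u' z
    simp [Φ]
  have hinj : Function.Injective Φ := by
    rw [injective_iff_map_eq_zero]
    rintro ⟨u, u', z⟩ h
    rw [hΦ] at h
    have h1 := congrArg N h
    rw [map_add, map_add, hNσ, hZK z z.2, add_zero, map_zero, ← map_add] at h1
    have h2 : (u : V) + (u' : V) ∈ LinearMap.ker N ⊓ U :=
      ⟨LinearMap.mem_ker.mpr h1, U.add_mem u.2 u'.2⟩
    rw [hU.inf_eq_bot, Submodule.mem_bot] at h2
    have h3 : (u' : V) = (u : V) := by
      have : (u' : V) = -(u : V) := eq_neg_of_add_eq_zero_right h2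
      rw [this, ZModModule.neg_eq_self]
    rw [h3] at h
    have h4 : N (u : V) + (z : V) = 0 := by
      rw [hNapp, add_comm (σ (u : V))]
      rw [← add_assoc] at h
      exact h
    have h5 : (z : V) ∈ LinearMap.range N ⊓ Z' := by
      refine ⟨?_, z.2.1⟩
      have : (z : V) = N (u : V) := by
        have : (z : V) = -N (u : V) := eq_neg_of_add_eq_zero_right h4
        rw [this, ZModModule.neg_eq_self]
      rw [this]
      exact LinearMap.mem_range_self N _
    rw [hZ'.inf_eq_bot, Submodule.mem_bot] at h5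
    rw [h5, add_zero] at h4
    have h6 : (u : V) ∈ LinearMap.ker N ⊓ U := ⟨LinearMap.mem_ker.mpr h4, u.2⟩
    rw [hU.inf_eq_bot, Submodule.mem_bot] at h6
    have hu : u = 0 := Subtype.ext h6
    have hu' : u' = 0 := Subtype.ext (h3.trans h6)
    have hz : z = 0 := Subtype.ext h5
    rw [hu, hu', hz]
    rfl
  have hsurj : Function.Surjective Φ := by
    intro v
    have hv : v ∈ LinearMap.ker N ⊔ U := by rw [hU.sup_eq_top]; trivial
    obtain ⟨k, hk, u, hu, rfl⟩ := Submodule.mem_sup.mp hv
    have hkR : k ∈ LinearMap.range N ⊔ Z' := by rw [hZ'.sup_eq_top]; trivial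
    obtain ⟨y, hy, z', hz', rfl⟩ := Submodule.mem_sup.mp hkR
    obtain ⟨x, rfl⟩ := hy
    have hx : x ∈ LinearMap.ker N ⊔ U := by rw [hU.sup_eq_top]; trivial
    obtain ⟨k', hk', u', hu', rfl⟩ := Submodule.mem_sup.mp hx
    have hz'K : z' ∈ LinearMap.ker N := by
      rw [LinearMap.mem_ker] at hk ⊢
      rw [map_add, hNN, zero_add] at hk
      exact hk
    refine ⟨(⟨u' + u, U.add_mem hu' hu⟩, ⟨u', hu'⟩, ⟨z', ⟨hz', hz'K⟩⟩), ?_⟩
    rw [hΦ]
    simp only
    rw [map_add, LinearMap.mem_ker.mp hk', zero_add, hNapp]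
    abel
  let bU := Module.finBasis (ZMod 2) U
  let bZ := Module.finBasis (ZMod 2) Z
  let E : (U × U × Z) ≃ₗ[ZMod 2] V := LinearEquiv.ofBijective Φ ⟨hinj, hsurj⟩
  have hE : ∀ x, E x = Φ x := fun x => rfl
  let B := (bU.prod (bU.prod bZ)).map E
  refine ⟨_, _, B, ?_⟩
  have hB1 : ∀ i, B (Sum.inl i) = (bU i : V) := by
    intro i
    simp only [B, Module.Basis.map_apply, hE, Module.Basis.prod_apply,
      Sum.elim_inl, Function.comp_apply, LinearMap.inl_apply]
    rw [show ((0 : U × Z)) = ((0 : U), (0 : Z)) from rfl, hΦ]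
    simp
  have hB2 : ∀ i, B (Sum.inr (Sum.inl i)) = σ (bU i : V) := by
    intro i
    simp only [B, Module.Basis.map_apply, hE, Module.Basis.prod_apply,
      Sum.elim_inl, Sum.elim_inr, Function.comp_apply, LinearMap.inl_apply, LinearMap.inr_apply]
    rw [hΦ]
    simp
  have hB3 : ∀ j, B (Sum.inr (Sum.inr j)) = (bZ j : V) := by
    intro j
    simp only [B, Module.Basis.map_apply, hE, Module.Basis.prod_apply,
      Sum.elim_inr, Function.comp_apply, LinearMap.inr_apply]
    rw [hΦ]
    simp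
  rintro (i | i | j)
  · exact ⟨Sum.inr (Sum.inl i), by rw [hB1, hB2]⟩
  · exact ⟨Sum.inl i, by rw [hB1, hB2, hσ]⟩
  · exact ⟨Sum.inr (Sum.inr j), by rw [hB3, hZfix _ (bZ j).2]⟩

end helpers

/-- Over the real numbers, that is for the group G = Gal(ℂ/ℝ) of order 2 acting linearly on a
finite-dimensional vector space V over the field 𝔽₂ with two elements, the short exact sequence of
G-modules 0 → V → S²V → Λ²V → 0 (v ↦ v·v, x·y ↦ x ∧ y) splits G-equivariantly. Here, for a vector
space V over the field with two elements carrying a linear action ρ of a group G, write N_a ⊆ V ⊗ V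
for the span of the tensors v ⊗ v and N_s ⊆ N_a for the span of the tensors x ⊗ y + y ⊗ x, so that
S²V = (V ⊗ V)/N_s, Λ²V = (V ⊗ V)/N_a and the surjection S²V → Λ²V, x·y ↦ x ∧ y, is G-equivariant for
the diagonal action; a G-equivariant linear section of this surjection is the same thing as a
G-stable subspace W of V ⊗ V with W ∩ N_a = N_s and W + N_a = V ⊗ V, which is how the splitting is
stated. (G is any group of order 2 here; V is taken finite-dimensional, the case covered by the
structure theory of finitely generated modules over 𝔽₂[G] that the argument uses.) -/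
theorem result (G : Type u) [Group G] (hG : Nat.card G = 2)
    (V : Type v) [AddCommGroup V] [Module (ZMod 2) V] [Module.Finite (ZMod 2) V]
    (ρ : Representation (ZMod 2) G V) :
    ∃ W : Submodule (ZMod 2) (V ⊗[ZMod 2] V),
      (∀ g : G, ∀ w ∈ W, ρ.tprod ρ g w ∈ W) ∧
      W ⊓ Submodule.span (ZMod 2) (Set.range fun v : V => v ⊗ₜ[ZMod 2] v) =
        Submodule.span (ZMod 2) (Set.range fun p : V × V => p.1 ⊗ₜ[ZMod 2] p.2 + p.2 ⊗ₜ[ZMod 2] p.1) ∧
      W ⊔ Submodule.span (ZMod 2) (Set.range fun v : V => v ⊗ₜ[ZMod 2] v) = ⊤ := by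
  classical
  obtain ⟨g₀, hg₀, hg₀u⟩ := (Nat.card_eq_two_iff' (1 : G)).mp hG
  have hsq : ∀ v, ρ g₀ (ρ g₀ v) = v := by
    intro v
    have h2 : g₀ * g₀ = 1 := by
      have := pow_card_eq_one' (G := G) (x := g₀)
      rw [hG, pow_two] at this
      exact this
    rw [← Module.End.mul_apply, ← map_mul, h2, map_one, Module.End.one_apply]
  obtain ⟨n, m, b, hb⟩ := exists_perm_basis V (ρ g₀) hsq
  apply Groth.Agent.S18548.result G V ρ _ b
  intro g i
  by_cases hg : g = 1
  · subst hg
    exact ⟨i, by rw [map_one, Module.End.one_apply]⟩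
  · rw [hg₀u g hg]
    exact hb i

end Groth.Agent.S18549
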