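import Groth.Statements.S18550
import Mathlib
-- import your own Groth.Agent.* helpers here

set_option autoImplicit false
open CategoryTheory Limits
universe w v u
open CohDer

namespace Groth.Agent.S18550

open CategoryTheory Limits Pretriangulated DerivedCategory in
theorem eq_zero_of_conc {A : Type u} [Category.{v} A] [Abelian A] [HasDerivedCategory.{w} A]
    (X : DerivedCategory A) (a : ℤ) [X.IsGE a] [X.IsLE a] (f : X ⟶ X)
    (hf : (homologyFunctor A a).map f = 0) : f = 0 := by
  obtain ⟨Y, ⟨e⟩⟩ := exists_iso_singleFunctor_obj_of_isGE_of_isLE X a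
  obtain ⟨φ, hφ⟩ := (singleFunctor A a).map_surjective (e.inv ≫ f ≫ e.hom)
  have h1 : (homologyFunctor A a).map ((singleFunctor A a).map φ) = 0 := by
    rw [hφ, Functor.map_comp, Functor.map_comp, hf, zero_comp, comp_zero]
  have h2 : φ = 0 := by
    have := NatIso.naturality_1 (singleFunctorCompHomologyFunctorIso A a) φ
    simp only [Functor.comp_map, Functor.id_map] at this
    rw [h1] at this
    simpa using this.symm
  rw [h2, Functor.map_zero] at hφ
  have h3 : f = e.hom ≫ (e.inv ≫ f ≫ e.hom) ≫ e.inv := by simp
  rw [h3, ← hφ]
  simp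

open CategoryTheory Limits Pretriangulated DerivedCategory in
theorem pow_comm_aux {C : Type*} [Category C] {X' X : C} (ι : X' ⟶ X) (f' : End X') (f : End X)
    (h : f' ≫ ι = ι ≫ f) (k : ℕ) : (f' ^ k : End X') ≫ ι = ι ≫ (f ^ k : End X) := by
  induction k with
  | zero =>
    simp only [pow_zero]
    show 𝟙 X' ≫ ι = ι ≫ 𝟙 X
    simp
  | succ k ih =>
    rw [pow_succ, pow_succ, End.mul_def, End.mul_def, Category.assoc, ih, ← Category.assoc, h,
      Category.assoc]

open CategoryTheory Limits Pretriangulated DerivedCategory in
theorem main_ind {A : Type u} [Category.{v} A] [Abelian A] [HasDerivedCategory.{w} A] (n : ℕ) :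
    ∀ (X : DerivedCategory A) (a b : ℤ) (_ : b = a + n) [X.IsGE a] [X.IsLE b] (f : End X)
      (_ : ∀ i : ℤ, (homologyFunctor A i).map f = 0), f ^ (n + 1) = 0 := by
  induction n with
  | zero =>
    intro X a b hb _ _ f hf
    have hba : b = a := by simpa using hb
    subst hba
    rw [zero_add, pow_one]
    exact eq_zero_of_conc X b f (hf b)
  | succ n ih =>
    intro X a b hb _ _ f hf
    have hbm : b = (a + n) + 1 := by rw [hb]; push_cast; ring
    subst hbm
    set m : ℤ := (a + n) + 1 with hm
    let t := DerivedCategory.TStructure.t (C := A)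
    let T := (t.triangleLTGE m).obj X
    have hT : T ∈ distTriang _ := t.triangleLTGE_distinguished m X
    let X' := (t.truncLT m).obj X
    let X'' := (t.truncGE m).obj X
    let ι : X' ⟶ X := (t.truncLTι m).app X
    let π : X ⟶ X'' := (t.truncGEπ m).app X
    let f' : End X' := (t.truncLT m).map f
    let f'' : X'' ⟶ X'' := (t.truncGE m).map f
    have hnatι : f' ≫ ι = ι ≫ f := (t.truncLTι m).naturality f
    have hnatπ : f ≫ π = π ≫ f'' := ((t.truncGEπ m).naturality f)
    have iX'GE : X'.IsGE a := by dsimp only [X']; infer_instance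
    have iX'LE : X'.IsLE (a + n) := by dsimp only [X', m]; infer_instance
    have iX''GE : X''.IsGE m := by dsimp only [X'']; infer_instance
    have iX''LE : X''.IsLE m := by dsimp only [X'']; infer_instance
    -- homology of f'
    have hf' : ∀ i : ℤ, (homologyFunctor A i).map f' = 0 := by
      intro i
      by_cases hi : i < m
      · have hmono : Mono ((homologyFunctor A i).map ι) :=
          (DerivedCategory.HomologySequence.mono_homologyMap_mor₁_iff T hT (i - 1) i
            (by ring)).mpr
            (IsZero.eq_of_src (isZero_of_isGE X'' m (i - 1) (by omega)) _ _)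
        have h1 : (homologyFunctor A i).map f' ≫ (homologyFunctor A i).map ι = 0 := by
          rw [← Functor.map_comp, hnatι, Functor.map_comp, hf i, comp_zero]
        exact zero_of_comp_mono _ h1
      · apply IsZero.eq_of_src
        exact isZero_of_isLE X' (a + n) i (by omega)
    -- homology of f''
    have hf'' : (homologyFunctor A m).map f'' = 0 := by
      have hepi : Epi ((homologyFunctor A m).map π) :=
        (DerivedCategory.HomologySequence.epi_homologyMap_mor₂_iff T hT m (m + 1) rfl).mpr
          (IsZero.eq_of_tgt (isZero_of_isLE X' (a + n) (m + 1) (by omega)) _ _)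
      have h1 : (homologyFunctor A m).map π ≫ (homologyFunctor A m).map f'' = 0 := by
        rw [← Functor.map_comp, ← hnatπ, Functor.map_comp, hf m, zero_comp]
      exact zero_of_epi_comp _ h1
    have hf''0 : f'' = 0 := eq_zero_of_conc X'' m f'' hf''
    have hfπ : f ≫ T.mor₂ = 0 := by
      show f ≫ π = 0
      rw [hnatπ, hf''0, comp_zero]
    obtain ⟨w, hw'⟩ : ∃ w : X ⟶ X', f = w ≫ ι :=
      Pretriangulated.Triangle.coyoneda_exact₂ T hT f hfπ
    have ihf' : f' ^ (n + 1) = 0 := ih X' a (a + n) rfl f' hf'
    have hcomm := pow_comm_aux ι f' f hnatι (n + 1)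
    have hstep : (f ^ (n + 1 + 1) : End X) = f ≫ (f ^ (n + 1) : End X) := by
      rw [pow_succ, End.mul_def]
    rw [hstep]
    calc f ≫ (f ^ (n + 1) : End X) = (w ≫ ι) ≫ (f ^ (n + 1) : End X) := by rw [← hw']
      _ = w ≫ (ι ≫ (f ^ (n + 1) : End X)) := Category.assoc _ _ _
      _ = w ≫ ((f' ^ (n + 1) : End X') ≫ ι) := by rw [hcomm]
      _ = 0 := by rw [ihf', zero_comp, comp_zero]

/-- Let A be an abelian category, X an object of its derived category whose cohomology objects H^i(X)
are zero for all integers i outside the interval [a, a + n], and f : X → X an endomorphism in the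
derived category such that H^i(f) = 0 for every i. Then f^(n+1) = 0. (The source works in the
bounded derived category; the statement in D(A) for an object with cohomology bounded in this way is
the same assertion, the bounded derived category being a full subcategory.) -/
theorem result (A : Type u) [Category.{v} A] [Abelian A]
    [HasDerivedCategory.{w} A] (X : DerivedCategory A) (a : ℤ) (n : ℕ)
    (hX : ∀ i : ℤ, i < a ∨ a + n < i → IsZero ((DerivedCategory.homologyFunctor A i).obj X))
    (f : CategoryTheory.End X) (hf : ∀ i : ℤ, (DerivedCategory.homologyFunctor A i).map f = 0) :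
    f ^ (n + 1) = 0 := by
  have hGE : X.IsGE a := by
    rw [DerivedCategory.isGE_iff]
    intro i hi
    exact hX i (Or.inl hi)
  have hLE : X.IsLE (a + n) := by
    rw [DerivedCategory.isLE_iff]
    intro i hi
    exact hX i (Or.inr hi)
  exact main_ind n X a (a + n) rfl f hf

end Groth.Agent.S18550
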