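import Groth.Statements.S18560
import Mathlib
-- import your own Groth.Agent.* helpers here

set_option autoImplicit false
universe u v
open PtQuiv

namespace Groth.Agent.S18560

/-- Let K be a field and s i ∈ K² (i in a finite index type) nonzero vectors, regarded as a
representation of the quiver with a central vertex carrying the plane and one vertex per i carrying
a line that maps to the plane by 1 ↦ s i. For a weight θ in the hypersimplex (0 ≤ θ i ≤ 1, Σ θ i =
2, central weight -1) the representation is θ-semistable if and only if, for every vector v, the
indices i with s i on the line K ∙ v have total weight at most 1. (The published statement is over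
an algebraically closed field, assumes semistability for some interior weight instead of s i ≠ 0,
and phrases the bound through the classes of pairwise proportional s i; any field is allowed here.
Its further assertion that the bounding walls, where the total weight of one proportionality class
equals 1, do not meet in the interior of the hypersimplex is not part of this row.) -/
theorem result (K : Type u) [Field K] (ι : Type v) [Fintype ι]
    (s : ι → (Fin 2 → K)) (hs : ∀ i, s i ≠ 0) (θ : ι → ℚ) (h0 : ∀ i, 0 ≤ θ i)
    (h1 : ∀ i, θ i ≤ 1) (h2 : ∑ i, θ i = 2) :
    PtQuiv.QSemistable (-1) θ s ↔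
      ∀ (J : Finset ι) (v : Fin 2 → K), (∀ i ∈ J, s i ∈ K ∙ v) → ∑ i ∈ J, θ i ≤ 1 := by
  classical
  constructor
  · rintro ⟨-, hss⟩ J v hJ
    rcases Finset.eq_empty_or_nonempty J with rfl | ⟨i₀, hi₀⟩
    · simp
    · have hv : v ≠ 0 := by
        rintro rfl
        have := hJ i₀ hi₀
        rw [Submodule.span_zero_singleton, Submodule.mem_bot] at this
        exact hs i₀ this
      have hw := hss (K ∙ v) J hJ
      unfold PtQuiv.QWt at hw
      rw [finrank_span_singleton hv] at hw
      push_cast at hw
      linarith
  · intro H
    refine ⟨by rw [h2]; norm_num, ?_⟩
    intro L I hLI
    unfold PtQuiv.QWt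
    have hle : Module.finrank K L ≤ 2 := by
      have := Submodule.finrank_le L
      simpa using this
    have hsumI : ∑ i ∈ I, θ i ≤ 2 := by
      rw [← h2]
      exact Finset.sum_le_sum_of_subset_of_nonneg (Finset.subset_univ I) (fun i _ _ => h0 i)
    interval_cases hfr : Module.finrank K L
    · -- L = ⊥
      have hL : L = ⊥ := Submodule.finrank_eq_zero.mp hfr
      have hI : I = ∅ := by
        rw [Finset.eq_empty_iff_forall_notMem]
        intro i hi
        have := hLI i hi
        rw [hL, Submodule.mem_bot] at this
        exact hs i this
      rw [hI]
      simp
    · -- L a line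
      obtain ⟨v, -, hv⟩ := finrank_eq_one_iff'.mp hfr
      have := H I (v : Fin 2 → K) (by
        intro i hi
        obtain ⟨c, hc⟩ := hv ⟨s i, hLI i hi⟩
        rw [Submodule.mem_span_singleton]
        exact ⟨c, by simpa using congrArg Subtype.val hc⟩)
      push_cast
      linarith
    · push_cast
      linarith

end Groth.Agent.S18560
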