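import Groth.Statements.S18561
import Mathlib
-- import your own Groth.Agent.* helpers here

set_option autoImplicit false
universe u v
open PtQuiv

namespace Groth.Agent.S18561

/-- Let K be a field and s i ∈ K² (i in a finite index type) nonzero vectors, regarded as a
representation of the quiver with a central vertex carrying the plane and one vertex per i carrying
a line mapping to the plane by 1 ↦ s i. Then the representation is stable for some weight of the
hypersimplex (0 ≤ θ i ≤ 1, Σ θ i = 2, central weight -1) if and only if the s i fall into at least
three proportionality classes, i.e. three of them are pairwise non-proportional. (The published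
statement is over an algebraically closed field and assumes semistability for some interior weight
instead of s i ≠ 0; any field is allowed here. Its further assertions, that the set of semistability
weights is full-dimensional exactly in this case and is a wall otherwise, are not part of this row.) -/
theorem result (K : Type u) [Field K] (ι : Type v)
    [Fintype ι] (s : ι → (Fin 2 → K)) (hs : ∀ i, s i ≠ 0) :
    (∃ θ : ι → ℚ, (∀ i, 0 ≤ θ i) ∧ (∀ i, θ i ≤ 1) ∧ ∑ i, θ i = 2 ∧ PtQuiv.QStable (-1) θ s) ↔
      ∃ i j k : ι, s i ∉ K ∙ s j ∧ s j ∉ K ∙ s k ∧ s i ∉ K ∙ s k := by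
  classical
  constructor
  · rintro ⟨θ, h0, h1, h2, ⟨⟨-, hss⟩, hst⟩⟩
    have hline : ∀ v : Fin 2 → K, v ≠ 0 →
        ∑ i ∈ Finset.univ.filter (fun i => s i ∈ K ∙ v), θ i < 1 := by
      intro v hv
      have hsub : PtQuiv.QSubrep s (K ∙ v) (Finset.univ.filter (fun i => s i ∈ K ∙ v)) := by
        intro i hi
        exact (Finset.mem_filter.mp hi).2
      have hle := hss _ _ hsub
      have hfr : Module.finrank K (K ∙ v) = 1 := finrank_span_singleton hv
      rcases lt_or_eq_of_le hle with hlt | heq
      · unfold PtQuiv.QWt at hlt
        rw [hfr] at hlt
        push_cast at hlt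
        linarith
      · exfalso
        rcases hst _ _ hsub heq with ⟨hb, -⟩ | ⟨ht, -⟩
        · rw [hb, finrank_bot] at hfr
          exact absurd hfr (by norm_num)
        · rw [ht, finrank_top] at hfr
          simp at hfr
    have hne : (Finset.univ : Finset ι).Nonempty := by
      by_contra hcon
      rw [Finset.not_nonempty_iff_eq_empty] at hcon
      rw [hcon, Finset.sum_empty] at h2
      norm_num at h2
    obtain ⟨i₀, -⟩ := hne
    have hI₁ := hline (s i₀) (hs i₀)
    obtain ⟨j₀, hj₀⟩ : ∃ j₀, s j₀ ∉ K ∙ s i₀ := by
      by_contra hcon
      push Not at hcon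
      have : Finset.univ.filter (fun i => s i ∈ K ∙ s i₀) = Finset.univ := by
        ext a
        simp [hcon a]
      rw [this, h2] at hI₁
      norm_num at hI₁
    have hI₂ := hline (s j₀) (hs j₀)
    obtain ⟨k₀, hk₀⟩ : ∃ k₀, s k₀ ∉ K ∙ s i₀ ∧ s k₀ ∉ K ∙ s j₀ := by
      by_contra hcon
      push Not at hcon
      have hun : Finset.univ.filter (fun i => s i ∈ K ∙ s i₀) ∪
          Finset.univ.filter (fun i => s i ∈ K ∙ s j₀) = Finset.univ := by
        ext a
        simp only [Finset.mem_union, Finset.mem_filter, Finset.mem_univ, true_and, iff_true]
        by_cases h : s a ∈ K ∙ s i₀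
        · exact Or.inl h
        · exact Or.inr (hcon a h)
      have h3 := Finset.sum_union_inter (s₁ := Finset.univ.filter (fun i => s i ∈ K ∙ s i₀))
        (s₂ := Finset.univ.filter (fun i => s i ∈ K ∙ s j₀)) (f := θ)
      rw [hun, h2] at h3
      have h4 : 0 ≤ ∑ i ∈ Finset.univ.filter (fun i => s i ∈ K ∙ s i₀) ∩
          Finset.univ.filter (fun i => s i ∈ K ∙ s j₀), θ i :=
        Finset.sum_nonneg (fun i _ => h0 i)
      linarith
    exact ⟨k₀, j₀, i₀, hk₀.2, hj₀, hk₀.1⟩
  · rintro ⟨i, j, k, hij, hjk, hik⟩
    have hij' : i ≠ j := by
      rintro rfl
      exact hij (Submodule.mem_span_singleton_self _)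
    have hjk' : j ≠ k := by
      rintro rfl
      exact hjk (Submodule.mem_span_singleton_self _)
    have hik' : i ≠ k := by
      rintro rfl
      exact hik (Submodule.mem_span_singleton_self _)
    set T : Finset ι := {i, j, k} with hT
    have hTcard : T.card = 3 := by
      rw [hT, Finset.card_insert_of_notMem, Finset.card_insert_of_notMem, Finset.card_singleton]
      · simpa using hjk'
      · simp [hij', hik']
    set m : ℚ := (Fintype.card ι : ℚ) with hm
    have hm3 : (3 : ℚ) ≤ m := by
      have : T.card ≤ Fintype.card ι := Finset.card_le_univ T
      rw [hTcard] at this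
      rw [hm]
      exact_mod_cast this
    have hmpos : (0 : ℚ) < m := by linarith
    set d : ℚ := 1 / (2 * m) with hd
    have hdpos : 0 < d := by positivity
    have hmd : m * d = 1 / 2 := by
      rw [hd]
      field_simp
    let θ : ι → ℚ := fun a => d + (if a ∈ T then (1 / 2 : ℚ) else 0)
    have hθpos : ∀ a, 0 < θ a := by
      intro a
      simp only [θ]
      split_ifs <;> linarith
    have hsumI : ∀ I : Finset ι, ∑ a ∈ I, θ a = (I.card : ℚ) * d + (1 / 2) * ((I ∩ T).card : ℚ) := by
      intro I
      simp only [θ]
      rw [Finset.sum_add_distrib, Finset.sum_const, Finset.sum_ite_mem, Finset.sum_const]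
      simp only [nsmul_eq_mul]
      ring
    have hsum : ∑ a, θ a = 2 := by
      rw [hsumI, Finset.univ_inter, hTcard, Finset.card_univ, ← hm, hmd]
      norm_num
    have hdle : d ≤ 1 / 2 := by
      rw [← hmd]
      nlinarith
    refine ⟨θ, fun a => (hθpos a).le, ?_, hsum, ?_⟩
    · intro a
      simp only [θ]
      split_ifs <;> linarith
    · -- stability
      have hkey : ∀ (L : Submodule K (Fin 2 → K)) (I : Finset ι), PtQuiv.QSubrep s L I →
          PtQuiv.QWt K (-1) θ L I ≤ 0 ∧ (PtQuiv.QWt K (-1) θ L I = 0 →
            (L = ⊥ ∧ I = ∅) ∨ (L = ⊤ ∧ I = Finset.univ)) := by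
        intro L I hLI
        unfold PtQuiv.QWt
        have hle : Module.finrank K L ≤ 2 := by
          have := Submodule.finrank_le L
          simpa using this
        interval_cases hfr : Module.finrank K L
        · -- L = ⊥
          have hL : L = ⊥ := Submodule.finrank_eq_zero.mp hfr
          have hI : I = ∅ := by
            rw [Finset.eq_empty_iff_forall_notMem]
            intro a ha
            have := hLI a ha
            rw [hL, Submodule.mem_bot] at this
            exact hs a this
          rw [hI]
          simp [hL]
        · -- L a line
          have hpair : ∀ a ∈ I, ∀ b ∈ I, s a ∈ K ∙ s b := by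
            intro a ha b hb
            have hbL : K ∙ s b ≤ L := by
              rw [Submodule.span_singleton_le_iff_mem]
              exact hLI b hb
            have heq : K ∙ s b = L := by
              apply Submodule.eq_of_le_of_finrank_eq hbL
              rw [hfr, finrank_span_singleton (hs b)]
            rw [heq]
            exact hLI a ha
          have hcard1 : (I ∩ T).card ≤ 1 := by
            rw [Finset.card_le_one]
            intro a ha b hb
            rw [Finset.mem_inter] at ha hb
            obtain ⟨haI, haT⟩ := ha
            obtain ⟨hbI, hbT⟩ := hb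
            simp only [hT, Finset.mem_insert, Finset.mem_singleton] at haT hbT
            rcases haT with rfl | rfl | rfl <;> rcases hbT with rfl | rfl | rfl
            · rfl
            · exact absurd (hpair _ haI _ hbI) hij
            · exact absurd (hpair _ haI _ hbI) hik
            · exact absurd (hpair _ hbI _ haI) hij
            · rfl
            · exact absurd (hpair _ haI _ hbI) hjk
            · exact absurd (hpair _ hbI _ haI) hik
            · exact absurd (hpair _ hbI _ haI) hjk
            · rfl
          have hIne : I ≠ Finset.univ := by
            intro hI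
            exact hij (hpair i (by rw [hI]; exact Finset.mem_univ _) j
              (by rw [hI]; exact Finset.mem_univ _))
          have hIcard : I.card + 1 ≤ Fintype.card ι := by
            have : I.card < Fintype.card ι := by
              rw [← Finset.card_univ]
              exact Finset.card_lt_card (Finset.ssubset_univ_iff.mpr hIne)
            omega
          have hIcard' : (I.card : ℚ) + 1 ≤ m := by
            rw [hm]
            exact_mod_cast hIcard
          have hc1 : ((I ∩ T).card : ℚ) ≤ 1 := by exact_mod_cast hcard1
          have hlt : (-1 : ℚ) * ((1 : ℕ) : ℚ) + ∑ a ∈ I, θ a < 0 := by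
            rw [hsumI]
            have : (I.card : ℚ) * d ≤ (m - 1) * d := by
              apply mul_le_mul_of_nonneg_right _ hdpos.le
              linarith
            have h2 : (m - 1) * d = 1 / 2 - d := by rw [sub_mul, hmd]; ring
            push_cast
            linarith
          exact ⟨hlt.le, fun h => absurd h hlt.ne⟩
        · -- L = ⊤
          have hL : L = ⊤ := by
            apply Submodule.eq_top_of_finrank_eq
            rw [hfr]
            simp
          have hsub : ∑ a ∈ I, θ a ≤ ∑ a, θ a :=
            Finset.sum_le_sum_of_subset_of_nonneg (Finset.subset_univ I)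
              (fun a _ _ => (hθpos a).le)
          refine ⟨by push_cast; linarith, fun h => Or.inr ⟨hL, ?_⟩⟩
          by_contra hI
          obtain ⟨a, ha⟩ : ∃ a, a ∉ I := by
            by_contra hcon
            push Not at hcon
            exact hI (Finset.eq_univ_iff_forall.mpr hcon)
          have h3 : ∑ b ∈ I, θ b ≤ ∑ b ∈ Finset.univ.erase a, θ b :=
            Finset.sum_le_sum_of_subset_of_nonneg
              (fun b hb => Finset.mem_erase.mpr ⟨fun h => ha (h ▸ hb), Finset.mem_univ _⟩)
              (fun b _ _ => (hθpos b).le)
          have h4 := Finset.add_sum_erase Finset.univ θ (Finset.mem_univ a)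
          have := hθpos a
          push_cast at h
          linarith
      refine ⟨⟨by rw [hsum]; norm_num, fun L I hLI => (hkey L I hLI).1⟩,
        fun L I hLI h => (hkey L I hLI).2 h⟩

end Groth.Agent.S18561
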