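import Groth.Statements.S18562
import Mathlib
import Groth.Agent.Lib.Helper92.PtQuivLemmas
-- import your own Groth.Agent.* helpers here

set_option autoImplicit false
universe u v
open PtQuiv

namespace Groth.Agent.S18562

/-- Let K be a field, κ a finite index type with a ≠ b, and s i ∈ K² a representation of the quiver with
a central vertex carrying the plane and one vertex per i : κ carrying a line mapping to the plane by
1 ↦ s i. Let θ be a weight of the hypersimplex (0 ≤ θ i ≤ 1, Σ θ i = 2, central weight -1) with 1 <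
θ a + θ b < 2, and put c = 1 / (2 - θ a - θ b). Then s is θ-semistable if and only if s a, s b are
linearly independent and, writing every other s i = t i 0 • s a + t i 1 • s b, the representation t
of the quiver with two one-dimensional sinks p₀, p₁ and one one-dimensional source per i ≠ a, b
(arrow to p_j given by t i j) is semistable for the weight c (θ a - 1) at p₀, c (θ b - 1) at p₁ and
c θ i at the sources. (The published statement is about representations over a base scheme, with
(semi)stability tested on geometric fibres, that is over algebraically closed fields; this row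
states the fibrewise content over an arbitrary field.) -/
theorem result (K : Type u) [Field K]
    (κ : Type v) [Fintype κ] [DecidableEq κ] (a b : κ) (hab : a ≠ b) (s : κ → (Fin 2 → K))
    (θ : κ → ℚ) (h0 : ∀ i, 0 ≤ θ i) (h1 : ∀ i, θ i ≤ 1) (h2 : ∑ i, θ i = 2)
    (hθ : 1 < θ a + θ b) (hθ' : θ a + θ b < 2) :
    PtQuiv.QSemistable (-1) θ s ↔
      (LinearIndependent K ![s a, s b] ∧
        ∀ t : {i : κ // i ≠ a ∧ i ≠ b} → (Fin 2 → K),
          (∀ i, s i.1 = t i 0 • s a + t i 1 • s b) →
            PtQuiv.PSemistable ![(2 - θ a - θ b)⁻¹ * (θ a - 1), (2 - θ a - θ b)⁻¹ * (θ b - 1)]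
              (fun i : {i : κ // i ≠ a ∧ i ≠ b} => (2 - θ a - θ b)⁻¹ * θ i.1) t) := by
  have hW : 0 < 2 - θ a - θ b := by linarith
  have hc : 0 < (2 - θ a - θ b)⁻¹ := inv_pos.mpr hW
  constructor
  · intro hQ
    have hli := Groth.Agent.Lib.Helper92.PQ.li_of_Qsemistable a b hab s θ hθ hQ
    refine ⟨hli, fun t ht => ⟨?_, ?_⟩⟩
    · exact Groth.Agent.Lib.Helper92.PQ.P_total a b hab θ h2 _
    · intro U I' hU
      obtain ⟨L, I, hLI, hw, -, -⟩ := Groth.Agent.Lib.Helper92.PQ.exists_Q_of_P a b hab s θ
        (hli.ne_zero 0) (hli.ne_zero 1) t ht U I' hU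
      rw [Groth.Agent.Lib.Helper92.PQ.PWt_eq]
      have := hQ.2 L I hLI
      rw [hw] at this
      exact mul_nonpos_of_nonneg_of_nonpos hc.le this
  · rintro ⟨hli, H⟩
    obtain ⟨t, ht⟩ := Groth.Agent.Lib.Helper92.PQ.exists_coords a b s hli
    have hP := H t ht
    refine ⟨by rw [h2]; norm_num, ?_⟩
    intro L I hLI
    rcases Groth.Agent.Lib.Helper92.PQ.exists_P_of_Q a b hab s θ hli t ht h0 h1 h2 hθ L I hLI with
      hneg | ⟨U, I', hU, hle, -, -⟩
    · exact hneg.le
    · have h3 := hP.2 U I' hU
      rw [Groth.Agent.Lib.Helper92.PQ.PWt_eq] at h3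
      have h4 : Groth.Agent.Lib.Helper92.PQ.pw a b θ U I' ≤ 0 := by
        by_contra hpos
        push Not at hpos
        have := mul_pos hc hpos
        linarith
      linarith

end Groth.Agent.S18562
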