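import Groth.Statements.S18563
import Mathlib
import Groth.Agent.Lib.Helper92.PtQuivLemmas
import Groth.Agent.S18562
-- import your own Groth.Agent.* helpers here

set_option autoImplicit false
universe u v
open PtQuiv

namespace Groth.Agent.S18563

/-- Let K be a field, κ a finite index type with a ≠ b, and s i ∈ K² a representation of the quiver with
a central vertex carrying the plane and one vertex per i : κ carrying a line mapping to the plane by
1 ↦ s i. Let θ be a weight of the hypersimplex (0 ≤ θ i ≤ 1, Σ θ i = 2, central weight -1) with 1 <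
θ a + θ b < 2, and put c = 1 / (2 - θ a - θ b). Then s is θ-stable if and only if s a, s b are
linearly independent and, writing every other s i = t i 0 • s a + t i 1 • s b, the representation t
of the quiver with two one-dimensional sinks p₀, p₁ and one one-dimensional source per i ≠ a, b
(arrow to p_j given by t i j) is stable for the weight c (θ a - 1) at p₀, c (θ b - 1) at p₁ and c θ
i at the sources. (The published statement is about representations over a base scheme, with
(semi)stability tested on geometric fibres, that is over algebraically closed fields; this row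
states the fibrewise content over an arbitrary field.) -/
theorem result (K : Type u) [Field K]
    (κ : Type v) [Fintype κ] [DecidableEq κ] (a b : κ) (hab : a ≠ b) (s : κ → (Fin 2 → K))
    (θ : κ → ℚ) (h0 : ∀ i, 0 ≤ θ i) (h1 : ∀ i, θ i ≤ 1) (h2 : ∑ i, θ i = 2)
    (hθ : 1 < θ a + θ b) (hθ' : θ a + θ b < 2) :
    PtQuiv.QStable (-1) θ s ↔
      (LinearIndependent K ![s a, s b] ∧
        ∀ t : {i : κ // i ≠ a ∧ i ≠ b} → (Fin 2 → K),
          (∀ i, s i.1 = t i 0 • s a + t i 1 • s b) →
            PtQuiv.PStable ![(2 - θ a - θ b)⁻¹ * (θ a - 1), (2 - θ a - θ b)⁻¹ * (θ b - 1)]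
              (fun i : {i : κ // i ≠ a ∧ i ≠ b} => (2 - θ a - θ b)⁻¹ * θ i.1) t) := by
  have hW : 0 < 2 - θ a - θ b := by linarith
  have hc : 0 < (2 - θ a - θ b)⁻¹ := inv_pos.mpr hW
  have hss := Groth.Agent.S18562.result K κ a b hab s θ h0 h1 h2 hθ hθ'
  constructor
  · intro hQ
    obtain ⟨hli, Hss⟩ := hss.1 hQ.1
    refine ⟨hli, fun t ht => ⟨Hss t ht, ?_⟩⟩
    intro U I' hU hw0
    obtain ⟨L, I, hLI, hw, hbot, htop⟩ := Groth.Agent.Lib.Helper92.PQ.exists_Q_of_P a b hab s θ
      (hli.ne_zero 0) (hli.ne_zero 1) t ht U I' hU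
    rw [Groth.Agent.Lib.Helper92.PQ.PWt_eq] at hw0
    have hpw : Groth.Agent.Lib.Helper92.PQ.pw a b θ U I' = 0 := by
      rcases mul_eq_zero.mp hw0 with h | h
      · exact absurd h hc.ne'
      · exact h
    rw [hpw] at hw
    rcases hQ.2 L I hLI hw with h | h
    · exact Or.inl (hbot h)
    · exact Or.inr (htop h)
  · rintro ⟨hli, H⟩
    have hQss : PtQuiv.QSemistable (-1) θ s := hss.2 ⟨hli, fun t ht => (H t ht).1⟩
    refine ⟨hQss, ?_⟩
    obtain ⟨t, ht⟩ := Groth.Agent.Lib.Helper92.PQ.exists_coords a b s hli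
    have hP := H t ht
    intro L I hLI hw0
    rcases Groth.Agent.Lib.Helper92.PQ.exists_P_of_Q a b hab s θ hli t ht h0 h1 h2 hθ L I hLI with
      hneg | ⟨U, I', hU, hle, hbot, htop⟩
    · rw [hw0] at hneg
      exact absurd hneg (lt_irrefl _)
    · have h3 := hP.1.2 U I' hU
      rw [Groth.Agent.Lib.Helper92.PQ.PWt_eq] at h3
      have h4 : Groth.Agent.Lib.Helper92.PQ.pw a b θ U I' ≤ 0 := by
        by_contra hpos
        push Not at hpos
        have := mul_pos hc hpos
        linarith
      have hpw : Groth.Agent.Lib.Helper92.PQ.pw a b θ U I' = 0 := by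
        rw [hw0] at hle
        exact le_antisymm h4 hle
      have hPw : PtQuiv.PWt K ![(2 - θ a - θ b)⁻¹ * (θ a - 1), (2 - θ a - θ b)⁻¹ * (θ b - 1)]
          (fun i : {i : κ // i ≠ a ∧ i ≠ b} => (2 - θ a - θ b)⁻¹ * θ i.1) U I' = 0 := by
        rw [Groth.Agent.Lib.Helper92.PQ.PWt_eq, hpw, mul_zero]
      rcases hP.2 U I' hU hPw with h | h
      · exact Or.inl (hbot h)
      · exact Or.inr (htop h (by rw [hw0, hpw]))

end Groth.Agent.S18563
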