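import Groth.Statements.S18573
import Mathlib
import Groth.Agent.Lib.Helper27.PnIrr

set_option autoImplicit false
universe u
open CategoryTheory AlgebraicGeometry
open REq

namespace Groth.Agent.S18573

/-- Let Y be a scheme over a field k and K a field containing k. Let V and W be closed subsets of Y with
V ∪ W = Y such that no K-point of Y has its image in V ∩ W. If p is a K-point of Y lying in V and q
a K-point of Y lying in W, then p and q are not R-equivalent on Y. (The published step concerns
k-points of the special fibre of a proper flat scheme over a discrete valuation ring, that is K = k;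
this row is stated for any scheme Y over k and K-points for any field K containing k.) -/
theorem result (k : Type u) [Field k] (Y : Scheme.{u})
    (g : Y ⟶ Spec (CommRingCat.of k)) (K : Type u) [Field K] [Algebra k K]
    (V W : Set Y) (hV : IsClosed V) (hW : IsClosed W) (hVW : V ∪ W = Set.univ)
    (hT : ∀ z : REq.Pts g K, ¬ (Set.range z.1.base ⊆ V ∩ W))
    (p q : REq.Pts g K) (hp : Set.range p.1.base ⊆ V) (hq : Set.range q.1.base ⊆ W) :
    ¬ REq.REquiv g K p q := by
  classical
  have key : ∀ A B : REq.Pts g K, REq.ElemLink g K A B →
      (Set.range A.1.base ⊆ V ↔ Set.range B.1.base ⊆ V) := by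
    rintro A B ⟨U, h, a, b, -, -, -, haA, hbB⟩
    haveI := Groth.Agent.Lib.Helper27.PnIrr.irreducibleSpace_projSpaceOver 1 K
    have hUirr : IsPreirreducible (U : Set ↥(REq.P1K K)) :=
      (PreirreducibleSpace.isPreirreducible_univ (X := ↥(REq.P1K K))).open_subset U.2
        (Set.subset_univ _)
    haveI : PreirreducibleSpace ↥(U : Scheme.{u}) := Subtype.preirreducibleSpace hUirr
    have hcl1 : IsClosed (h.base ⁻¹' V) := hV.preimage h.continuous
    have hcl2 : IsClosed (h.base ⁻¹' W) := hW.preimage h.continuous
    have hcov : (Set.univ : Set ↥(U : Scheme.{u})) ⊆ h.base ⁻¹' V ∪ h.base ⁻¹' W := by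
      intro x _
      have : h.base x ∈ V ∪ W := by rw [hVW]; trivial
      exact this
    have hA : ∀ x, A.1.base x = h.base (a.base x) := by
      intro x
      rw [← haA]
      rfl
    have hB : ∀ x, B.1.base x = h.base (b.base x) := by
      intro x
      rw [← hbB]
      rfl
    rcases (isPreirreducible_iff_isClosed_union_isClosed.mp
      (PreirreducibleSpace.isPreirreducible_univ (X := ↥(U : Scheme.{u})))) _ _ hcl1 hcl2 hcov
      with h1 | h2
    · constructor
      · rintro - _ ⟨x, rfl⟩
        rw [hB]
        exact h1 (Set.mem_univ _)
      · rintro - _ ⟨x, rfl⟩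
        rw [hA]
        exact h1 (Set.mem_univ _)
    · constructor
      · intro hAV
        exfalso
        refine hT A (Set.subset_inter hAV ?_)
        rintro _ ⟨x, rfl⟩
        rw [hA]
        exact h2 (Set.mem_univ _)
      · intro hBV
        exfalso
        refine hT B (Set.subset_inter hBV ?_)
        rintro _ ⟨x, rfl⟩
        rw [hB]
        exact h2 (Set.mem_univ _)
  have gen : ∀ A B : REq.Pts g K, Relation.EqvGen (REq.ElemLink g K) A B →
      (Set.range A.1.base ⊆ V ↔ Set.range B.1.base ⊆ V) := by
    intro A B hAB
    induction hAB with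
    | rel A B hAB => exact key A B hAB
    | refl A => exact Iff.rfl
    | symm A B _ ih => exact ih.symm
    | trans A B C _ _ ih1 ih2 => exact ih1.trans ih2
  intro hpq
  exact hT q (Set.subset_inter ((gen p q hpq).mp hp) hq)

end Groth.Agent.S18573
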