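import Groth.Statements.S18579
import Mathlib
-- import your own Groth.Agent.* helpers here

set_option autoImplicit false
universe u
open LogDiff

namespace Groth.Agent.S18579

theorem lemL {R : Type*} [CommRing R] [IsDomain R] {ι : Type*} (f : ι → R)
    (hf : ∀ i, Prime (f i)) (s : Multiset ι) :
    ∀ (a a' : R), a * a' = (s.map f).prod → ∃ t : Multiset ι, ∃ v : Rˣ, a = v * (t.map f).prod := by
  induction s using Multiset.induction_on with
  | empty =>
    intro a a' h
    simp only [Multiset.map_zero, Multiset.prod_zero] at h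
    have hu : IsUnit a := IsUnit.of_mul_eq_one _ h
    exact ⟨0, hu.unit, by simp⟩
  | cons i s ih =>
    intro a a' h
    rw [Multiset.map_cons, Multiset.prod_cons] at h
    have hdvd : f i ∣ a * a' := Dvd.intro _ h.symm
    rcases (hf i).dvd_or_dvd hdvd with ⟨b, hb⟩ | ⟨b', hb'⟩
    · subst hb
      rw [mul_assoc] at h
      have h' := mul_left_cancel₀ (hf i).ne_zero h
      obtain ⟨t, v, hv⟩ := ih b a' h'
      refine ⟨i ::ₘ t, v, ?_⟩
      rw [Multiset.map_cons, Multiset.prod_cons, hv]
      ring
    · subst hb'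
      have h2 : f i * (a * b') = f i * (s.map f).prod := by rw [← h]; ring
      have h' := mul_left_cancel₀ (hf i).ne_zero h2
      exact ih a b' h'

theorem prod_map_count {R : Type*} [CommRing R] {r : ℕ} (f : Fin r → R) (t : Multiset (Fin r)) :
    (t.map f).prod = ∏ i, f i ^ (t.count i) := by
  classical
  rw [Finset.prod_multiset_map_count]
  apply Finset.prod_subset (Finset.subset_univ _)
  intro i _ hi
  rw [Multiset.mem_toFinset] at hi
  rw [Multiset.count_eq_zero_of_notMem hi, pow_zero]

theorem emult_prod {R : Type*} [CommRing R] [IsDomain R] {r : ℕ} (f : Fin r → R)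
    (hf : ∀ i, Prime (f i)) (hfa : ∀ i j, Associated (f i) (f j) → i = j)
    (v : Rˣ) (m : Fin r → ℕ) (i : Fin r) :
    emultiplicity (f i) ((v : R) * ∏ j, f j ^ m j) = m i := by
  classical
  rw [emultiplicity_mul (hf i), emultiplicity_of_unit_right (hf i).not_isUnit, zero_add,
    Finset.emultiplicity_prod (hf i)]
  rw [Finset.sum_eq_single i]
  · exact emultiplicity_pow_self_of_prime (hf i) _
  · intro j _ hji
    rw [emultiplicity_pow (hf i)]
    have : emultiplicity (f i) (f j) = 0 := by
      rw [emultiplicity_eq_zero]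
      intro hd
      exact hji ((hfa i j ((hf i).associated_of_dvd (hf j) hd)).symm)
    rw [this, mul_zero]
  · intro h
    exact absurd (Finset.mem_univ _) h

theorem uniqN {R : Type*} [CommRing R] [IsDomain R] {r : ℕ} (f : Fin r → R)
    (hf : ∀ i, Prime (f i)) (hfa : ∀ i j, Associated (f i) (f j) → i = j)
    (v v' : Rˣ) (m m' : Fin r → ℕ)
    (h : (v : R) * ∏ j, f j ^ m j = (v' : R) * ∏ j, f j ^ m' j) : v = v' ∧ m = m' := by
  have hm : m = m' := by
    funext i
    have h1 := emult_prod f hf hfa v m i
    have h2 := emult_prod f hf hfa v' m' i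
    rw [h] at h1
    rw [h1] at h2
    exact_mod_cast h2
  refine ⟨?_, hm⟩
  subst hm
  have hne : ∏ j, f j ^ m j ≠ 0 :=
    Finset.prod_ne_zero_iff.mpr (fun j _ => pow_ne_zero _ (hf j).ne_zero)
  exact Units.ext (mul_right_cancel₀ hne h)

/-- The exact sequence for units (first Milnor K-groups) when every component of the divisor is removed.
Let k be a field, B a smooth k-algebra, R the localization of B at a prime ideal, K the fraction
field of R and f_1, …, f_r pairwise non-associate prime elements of R. If w is a unit of K such that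
w and w⁻¹ both lie in R[1/(f_1⋯f_r)], i.e. each becomes an element of R after multiplication by a
power of f_1⋯f_r, then there is exactly one pair (v, b) consisting of a unit v of R and integers
b_1, …, b_r with w = v · ∏ f_i^{b_i} in K. (This is the exactness of 0 → Γ(Spec R, O^×) → Γ(Spec R ∖
V(f_1⋯f_r), O^×) → ℤ^r → 0, the last map being the orders along the f_i. The published statement
takes the f_i to be local equations of the components of a normal crossings divisor, over a field of
characteristic zero; this row allows arbitrary pairwise non-associate prime elements and any field.) -/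
theorem result
    {k B R K : Type u} [Field k] [CommRing B] [Algebra k B] [Algebra.Smooth k B]
    (p : Ideal B) [p.IsPrime] [CommRing R] [Algebra B R] [IsLocalization.AtPrime R p]
    [Field K] [Algebra R K] [IsFractionRing R K]
    {r : ℕ} (f : Fin r → R) (hf : ∀ i, Prime (f i)) (hfa : ∀ i j, Associated (f i) (f j) → i = j)
    (w : Kˣ)
    (hw : ∃ (a : R) (n : ℕ), (w : K) * algebraMap R K ((∏ i, f i) ^ n) = algebraMap R K a)
    (hw' : ∃ (a : R) (n : ℕ), (w⁻¹ : Kˣ) * algebraMap R K ((∏ i, f i) ^ n) = algebraMap R K a) :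
    ∃! vb : Rˣ × (Fin r → ℤ),
      (w : K) = algebraMap R K (vb.1 : R) * ∏ i, (algebraMap R K (f i)) ^ (vb.2 i) := by
  classical
  have hinj : Function.Injective (algebraMap R K) := IsFractionRing.injective R K
  have : IsDomain R := Function.Injective.isDomain (algebraMap R K) hinj
  have hfK : ∀ i, algebraMap R K (f i) ≠ 0 := fun i =>
    (map_ne_zero_iff _ hinj).mpr (hf i).ne_zero
  obtain ⟨a, n, han⟩ := hw
  obtain ⟨a', n', han'⟩ := hw'
  -- a * a' = F^(n+n')
  have hprod : a * a' = (((n + n') • (Finset.univ : Finset (Fin r)).val).map f).prod := by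
    apply hinj
    rw [Multiset.map_nsmul, Multiset.prod_nsmul, map_mul, ← han, ← han']
    have : ((Finset.univ : Finset (Fin r)).val.map f).prod = ∏ i, f i := rfl
    rw [this, pow_add, map_mul]
    have hww : (w : K) * ((w⁻¹ : Kˣ) : K) = 1 := by simp
    calc (w : K) * algebraMap R K ((∏ i, f i) ^ n) * (((w⁻¹ : Kˣ) : K) * algebraMap R K ((∏ i, f i) ^ n'))
        = ((w : K) * ((w⁻¹ : Kˣ) : K)) * (algebraMap R K ((∏ i, f i) ^ n) * algebraMap R K ((∏ i, f i) ^ n')) := by ring
      _ = algebraMap R K ((∏ i, f i) ^ n) * algebraMap R K ((∏ i, f i) ^ n') := by rw [hww, one_mul]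
  obtain ⟨t, v, hv⟩ := lemL f hf _ a a' hprod
  rw [prod_map_count] at hv
  have hFn : algebraMap R K ((∏ i, f i) ^ n) ≠ 0 := by
    rw [map_pow, map_prod]
    exact pow_ne_zero _ (Finset.prod_ne_zero_iff.mpr (fun i _ => hfK i))
  have hex : (w : K) = algebraMap R K (v : R) *
      ∏ i, (algebraMap R K (f i)) ^ ((t.count i : ℤ) - n) := by
    have h1 : (w : K) = algebraMap R K a / algebraMap R K ((∏ i, f i) ^ n) := by
      rw [← han, mul_div_assoc, div_self hFn, mul_one]
    rw [h1, hv, map_mul, map_prod, map_pow, map_prod, ← Finset.prod_pow, mul_div_assoc,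
      ← Finset.prod_div_distrib]
    congr 1
    apply Finset.prod_congr rfl
    intro i _
    rw [map_pow, zpow_sub₀ (hfK i), zpow_natCast, zpow_natCast]
  refine ⟨(v, fun i => (t.count i : ℤ) - n), hex, ?_⟩
  rintro ⟨v', b'⟩ hvb'
  simp only at hvb'
  rw [hex] at hvb'
  -- common shift
  set b : Fin r → ℤ := fun i => (t.count i : ℤ) - n with hb
  obtain ⟨c, hc⟩ : ∃ c : ℕ, ∀ i, 0 ≤ b i + c ∧ 0 ≤ b' i + c := by
    refine ⟨∑ i, ((b i).natAbs + (b' i).natAbs), fun i => ?_⟩
    have h1 : (b i).natAbs + (b' i).natAbs ≤ ∑ i, ((b i).natAbs + (b' i).natAbs) :=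
      Finset.single_le_sum (f := fun i => (b i).natAbs + (b' i).natAbs)
        (fun _ _ => Nat.zero_le _) (Finset.mem_univ i)
    have h2 : ((b i).natAbs : ℤ) + ((b' i).natAbs : ℤ)
        ≤ ((∑ i, ((b i).natAbs + (b' i).natAbs) : ℕ) : ℤ) := by exact_mod_cast h1
    constructor <;> omega
  have hshift : ∀ (u : Rˣ) (d : Fin r → ℤ), (∀ i, 0 ≤ d i + c) →
      (algebraMap R K (u : R) * ∏ i, (algebraMap R K (f i)) ^ (d i)) *
        ∏ i, (algebraMap R K (f i)) ^ c
      = algebraMap R K ((u : R) * ∏ i, f i ^ (d i + c).toNat) := by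
    intro u d hd
    rw [mul_assoc, ← Finset.prod_mul_distrib, map_mul, map_prod]
    congr 1
    apply Finset.prod_congr rfl
    intro i _
    rw [map_pow, ← zpow_natCast, ← zpow_natCast, ← zpow_add₀ (hfK i), Int.toNat_of_nonneg (hd i)]
  have hEq := congrArg (fun z => z * ∏ i, (algebraMap R K (f i)) ^ c) hvb'
  rw [hshift v b (fun i => (hc i).1), hshift v' b' (fun i => (hc i).2)] at hEq
  have hEq' := hinj hEq
  obtain ⟨hvv, hmm⟩ := uniqN f hf hfa v v' _ _ hEq'
  have hbb : b' = b := by
    funext i
    have := congrFun hmm i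
    have h1 := (hc i).1
    have h2 := (hc i).2
    have : ((b i + c).toNat : ℤ) = ((b' i + c).toNat : ℤ) := by exact_mod_cast this
    rw [Int.toNat_of_nonneg h1, Int.toNat_of_nonneg h2] at this
    omega
  rw [hvv, hbb]

end Groth.Agent.S18579
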