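import Groth.Statements.S1858
-- import your own Groth.Agent.* helpers here
import Groth.Agent.Lib.Helper85.IntMult.PushPullBC
import Groth.Agent.Lib.Helper85.IntMult.RelDimGeneric

set_option autoImplicit false
universe u
open CategoryTheory AlgebraicGeometry
open CategoryTheory.Limits
open Cyc

namespace Groth.Agent.S1858

/-- Let f : X → Y be proper and g : Y' → Y flat, locally of finite type, of relative dimension r, and
form X' = X ×_Y Y' with projections g' to X and f' to Y'. For a k-cycle α on X one has g^*(f_*α) =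
f'_*(g'^*α) as (k + r)-cycles on Y' (stated on coefficient functions, for any cycle on X' with the
coefficients of g'^*α). Here a pair (X, δ) with Cyc.IsSetup plays the role of a scheme locally of
finite type over a fixed base with a dimension function (X locally Noetherian with universally
catenary local rings, δ a dimension function), and Cyc.DeltaCompat records that the dimension
function upstairs is the induced one. -/
theorem result (X Y Y' : Scheme.{u}) (f : X ⟶ Y) (g : Y' ⟶ Y) [IsProper f] [Flat g] [LocallyOfFiniteType g] (δX : X → ℤ) (δY : Y → ℤ) (δY' : Y' → ℤ) (δX' : ↥(pullback f g) → ℤ) (r : ℕ) (hr : Cyc.HasRelDim g r) (hY : Cyc.IsSetup Y δY) (hX : Cyc.IsSetup X δX) (hY' : Cyc.IsSetup Y' δY') (hf : Cyc.DeltaCompat f δX δY) (hg : Cyc.DeltaCompat g δY' δY) (hX' : Cyc.DeltaCompat (pullback.snd f g) δX' δY') (k : ℤ) (α : AlgebraicCycle X ℤ) (hα : α ∈ Cyc.Zk X δX k) (α' : AlgebraicCycle (pullback f g) ℤ) (hα' : ⇑α' = Cyc.pullFun (pullback.fst f g) δX' δX r ⇑α) : ⇑(AlgebraicCycle.map (pullback.snd f g) δX' δY' α') =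 Cyc.pullFun g δY' δY r ⇑(AlgebraicCycle.map f δX δY α) := by
  have hc : ∀ y' : Y', (∀ z, g z = g y' → z ⤳ y' → z = y') → δY' y' = δY (g y') + (r : ℤ) :=
    fun y' hmax => Groth.Agent.Lib.Helper85.RelDimGeneric.delta_eq_add_of_generic g r hr δY' δY hg
      y' hmax
  have hcY : ∀ x' : ↥(pullback f g), (∀ z, pullback.fst f g z = pullback.fst f g x' →
      z ⤳ x' → z = x') → δX' x' = δX (pullback.fst f g x') + (r : ℤ) :=
    fun x' hmax => Groth.Agent.Lib.Helper85.RelDimGeneric.delta_eq_add_of_generic_baseChange f g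
      δX δY δY' δX' r hr hf hg hX' x' hmax
  exact (Groth.Agent.Lib.Helper85.PushPullBC.pullFun_map_baseChange_eq f g δY δY' δX δX' hY hY' hX
    hf hX' (r : ℤ) hc hcY k α hα α' hα').symm

end Groth.Agent.S1858
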