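import Mathlib
import Groth.Statements.S18580
-- import your own Groth.Agent.* helpers here

set_option autoImplicit false
universe u
open EtBase

namespace Groth.Agent.S18580

open AlgebraicGeometry CategoryTheory in
/-- Let Y be a connected scheme and f : X ⟶ Y a separated morphism that is unramified (locally of finite
type and formally unramified). Then the sections of f correspond bijectively to the connected
components of X mapping isomorphically onto Y: there is a bijection from the set of sections s of f
to the set of open subschemes U of X whose underlying set is a connected component of X and for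
which U ⟶ X ⟶ Y is an isomorphism, sending s to its image. In particular every section is an
isomorphism onto a connected component of X and is determined by its image. (A connected component
mapping isomorphically onto Y is the image of a section, hence open, so restricting to open
components loses nothing. The published statement also assumes Y Noetherian; that hypothesis plays
no role and is omitted.) -/
theorem result {X Y : Scheme.{u}} (f : X ⟶ Y)
    [FormallyUnramified f] [LocallyOfFiniteType f] [IsSeparated f] [ConnectedSpace Y] :
    ∃ e : {s : Y ⟶ X // s ≫ f = 𝟙 Y} ≃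
        {U : X.Opens // (∃ x : X, (U : Set X) = connectedComponent x) ∧ IsIso (U.ι ≫ f)},
      ∀ s : {s : Y ⟶ X // s ≫ f = 𝟙 Y}, ((e s).1 : Set X) = Set.range s.1 := by
  have hopen : ∀ s : Y ⟶ X, s ≫ f = 𝟙 Y → IsOpenImmersion s := by
    intro s hs
    have hP : MorphismProperty.HasOfPostcompProperty @IsOpenImmersion
        (@LocallyOfFiniteType ⊓ @FormallyUnramified) := by
      rw [MorphismProperty.hasOfPostcompProperty_iff_le_diagonal]
      intro X Y f ⟨hft, hfu⟩
      exact inferInstanceAs (IsOpenImmersion (Limits.pullback.diagonal f))
    exact MorphismProperty.of_postcomp (W := @IsOpenImmersion)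
      (W' := @LocallyOfFiniteType ⊓ @FormallyUnramified) s f ⟨‹_›, ‹_›⟩
      (by rw [hs]; infer_instance)
  have hclosed : ∀ s : Y ⟶ X, s ≫ f = 𝟙 Y → IsClosedImmersion s := by
    intro s hs
    exact MorphismProperty.of_postcomp (W := @IsClosedImmersion) (W' := @IsSeparated) s f ‹_›
      (by rw [hs]; infer_instance)
  have hι : ∀ (s : Y ⟶ X) (hs : s ≫ f = 𝟙 Y),
      (@Scheme.Hom.opensRange _ _ s (hopen s hs)).ι ≫ f =
        (@Scheme.Hom.isoOpensRange _ _ s (hopen s hs)).inv := by
    intro s hs
    have := hopen s hs
    rw [← s.isoOpensRange_inv_comp, Category.assoc, hs, Category.comp_id]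
  refine ⟨⟨fun s => ⟨@Scheme.Hom.opensRange _ _ s.1 (hopen s.1 s.2), ?_, ?_⟩,
    fun U => ⟨@inv _ _ _ _ (U.1.ι ≫ f) U.2.2 ≫ U.1.ι, ?_⟩, ?_, ?_⟩, ?_⟩
  · -- connected component
    have := hopen s.1 s.2
    have hc := hclosed s.1 s.2
    obtain ⟨y⟩ : Nonempty Y := inferInstance
    refine ⟨s.1 y, ?_⟩
    have hrange : ((s.1.opensRange : X.Opens) : Set X) = Set.range s.1 := rfl
    have hclopen : IsClopen (Set.range s.1) :=
      ⟨s.1.isClosedEmbedding.isClosed_range, s.1.opensRange.isOpen⟩
    have hconn : _root_.IsConnected (Set.range s.1) := isConnected_range s.1.continuous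
    rw [hrange]
    exact Set.Subset.antisymm (hconn.isPreconnected.subset_connectedComponent ⟨y, rfl⟩)
      (hclopen.connectedComponent_subset ⟨y, rfl⟩)
  · rw [hι s.1 s.2]; infer_instance
  · have := U.2.2
    rw [Category.assoc, IsIso.inv_hom_id]
  · intro s
    have := hopen s.1 s.2
    apply Subtype.ext
    dsimp only
    have h1 : IsIso (s.1.opensRange.ι ≫ f) := by rw [hι s.1 s.2]; infer_instance
    rw [IsIso.inv_comp_eq]
    rw [hι s.1 s.2]
    exact (s.1.isoOpensRange_inv_comp).symm
  · intro U
    have := U.2.2
    apply Subtype.ext
    dsimp only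
    have := hopen (inv (U.1.ι ≫ f) ≫ U.1.ι) (by rw [Category.assoc, IsIso.inv_hom_id])
    rw [Scheme.Hom.opensRange_comp_of_isIso, Scheme.Opens.opensRange_ι]
  · intro s
    rfl

end Groth.Agent.S18580
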