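import Groth.Statements.S1859
-- import your own Groth.Agent.* helpers here
import Groth.Agent.Lib.Helper55.CyclePush

set_option autoImplicit false
universe u
open CategoryTheory AlgebraicGeometry
open Cyc

namespace Groth.Agent.S1859

/-- For proper morphisms f : X → Y and g : Y → Z and a k-cycle α on X, g_*(f_*α) = (g ∘ f)_*α. Here a
pair (X, δ) with Cyc.IsSetup plays the role of a scheme locally of finite type over a fixed base
with a dimension function (X locally Noetherian with universally catenary local rings, δ a dimension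
function), and Cyc.DeltaCompat records that the dimension function upstairs is the induced one. -/
theorem result (X Y Z : Scheme.{u}) (δX : X → ℤ) (δY : Y → ℤ) (δZ : Z → ℤ) (hX : Cyc.IsSetup X δX) (hY : Cyc.IsSetup Y δY) (hZ : Cyc.IsSetup Z δZ) (f : X ⟶ Y) (g : Y ⟶ Z) [IsProper f] [IsProper g] (hf : Cyc.DeltaCompat f δX δY) (hg : Cyc.DeltaCompat g δY δZ) (k : ℤ) (α : AlgebraicCycle X ℤ) (hα : α ∈ Cyc.Zk X δX k) : AlgebraicCycle.map g δY δZ (AlgebraicCycle.map f δX δY α) = AlgebraicCycle.map (f ≫ g) δX δZ α := by
  have : QuasiCompact f := inferInstance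
  have : QuasiCompact g := inferInstance
  refine Groth.Agent.Lib.Helper55.map_map_of_le f g δX δY δZ ?_ ?_ α
  · intro x
    obtain ⟨n, -, hn⟩ := hf x
    rw [hn]
    exact le_add_of_nonneg_right (Int.natCast_nonneg n)
  · intro y
    obtain ⟨n, -, hn⟩ := hg y
    rw [hn]
    exact le_add_of_nonneg_right (Int.natCast_nonneg n)

end Groth.Agent.S1859
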