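import Groth.Statements.S18590
import Groth.Agent.Lib.Helper93.WittHomog

set_option autoImplicit false
universe u
open CAlg

namespace Groth.Agent.S18590

/-- Let p be a prime, A a commutative ring, K a commutative A-algebra of characteristic p and M_0, M_1,
M_2, … A-submodules of K with M_i · M_j ⊆ M_(i+j) for all i, j. Then the subset of the ring W(K) of
p-typical Witt vectors consisting of the vectors whose n-th coordinate lies in M_(p^n) for every n
is closed under addition and under multiplication by the image of W(A) under W of the structure map;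
in other words it is a W(A)-submodule of W(K). (The published statement is the case of an integral
normal noetherian scheme X of characteristic p with function field K, an affine open subset U with
coordinate ring A, and M_k the module of sections over U of the divisorial sheaf of k·D for a real
Weil divisor D on X; these form such a multiplicative family, and the subset is then the module of
sections over U of the Witt divisorial sheaf of D inside W(K). Only the two stated properties of
that family enter.) -/
theorem result
    (p : ℕ) [Fact p.Prime] (A K : Type u) [CommRing A] [CommRing K] [Algebra A K] [CharP K p]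
    (M : ℕ → Submodule A K)
    (hmul : ∀ (i j : ℕ) (a b : K), a ∈ M i → b ∈ M j → a * b ∈ M (i + j)) :
    (∀ φ ψ : WittVector p K, (∀ n : ℕ, φ.coeff n ∈ M (p ^ n)) → (∀ n : ℕ, ψ.coeff n ∈ M (p ^ n)) →
        ∀ n : ℕ, (φ + ψ).coeff n ∈ M (p ^ n)) ∧
      (∀ (x : WittVector p A) (φ : WittVector p K), (∀ n : ℕ, φ.coeff n ∈ M (p ^ n)) →
        ∀ n : ℕ, (WittVector.map (algebraMap A K) x * φ).coeff n ∈ M (p ^ n)) := by
  have hp0 : ∀ n : ℕ, p ^ n ≠ 0 := fun n => pow_ne_zero n (Fact.out : p.Prime).ne_zero
  constructor
  · intro φ ψ hφ hψ n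
    rw [WittVector.add_coeff, WittVector.peval]
    have hΦ : MvPolynomial.IsWeightedHomogeneous (fun _ : Fin 2 => 1)
        (MvPolynomial.X 0 + MvPolynomial.X 1 : MvPolynomial (Fin 2) ℤ) 1 :=
      (MvPolynomial.isWeightedHomogeneous_X ℤ _ 0).add (MvPolynomial.isWeightedHomogeneous_X ℤ _ 1)
    have hW := Groth.Agent.Lib.Helper93.WittHomog.wittStructureInt_isWeightedHomogeneous p
      (fun _ : Fin 2 => 1) 1 _ hΦ n
    have hN : p ^ n * 1 ≠ 0 := by simpa using hp0 n
    have := Groth.Agent.Lib.Helper93.WittHomog.aeval_mem_of_isWeightedHomogeneous' M hmul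
      (fun i : Fin 2 × ℕ => 1 * p ^ i.2) (Function.uncurry ![φ.coeff, ψ.coeff]) ?_ hN hW
    · simpa [WittVector.wittAdd] using this
    · rintro ⟨b, i⟩
      refine ⟨fun _ => ?_, fun h => ?_⟩
      · fin_cases b
        · simpa [Function.uncurry] using hφ i
        · simpa [Function.uncurry] using hψ i
      · exact absurd h (by simpa using hp0 i)
  · intro x φ hφ n
    rw [WittVector.mul_coeff, WittVector.peval]
    have hΦ : MvPolynomial.IsWeightedHomogeneous (![0, 1] : Fin 2 → ℕ)
        (MvPolynomial.X 0 * MvPolynomial.X 1 : MvPolynomial (Fin 2) ℤ) (0 + 1) := by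
      have h0 := MvPolynomial.isWeightedHomogeneous_X ℤ (![0, 1] : Fin 2 → ℕ) 0
      have h1 := MvPolynomial.isWeightedHomogeneous_X ℤ (![0, 1] : Fin 2 → ℕ) 1
      exact h0.mul h1
    have hW := Groth.Agent.Lib.Helper93.WittHomog.wittStructureInt_isWeightedHomogeneous p
      (![0, 1] : Fin 2 → ℕ) (0 + 1) _ hΦ n
    have hN : p ^ n * (0 + 1) ≠ 0 := by simpa using hp0 n
    have := Groth.Agent.Lib.Helper93.WittHomog.aeval_mem_of_isWeightedHomogeneous' M hmul
      (fun i : Fin 2 × ℕ => (![0, 1] : Fin 2 → ℕ) i.1 * p ^ i.2)
      (Function.uncurry ![(WittVector.map (algebraMap A K) x).coeff, φ.coeff]) ?_ hN hW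
    · simpa [WittVector.wittMul] using this
    · rintro ⟨b, i⟩
      fin_cases b
      · refine ⟨fun h => ?_, fun _ => ?_⟩
        · exfalso
          apply h
          simp
        · exact ⟨x.coeff i, by simp [Function.uncurry]⟩
      · refine ⟨fun _ => ?_, fun h => absurd h (by simpa using hp0 i)⟩
        simpa [Function.uncurry] using hφ i

end Groth.Agent.S18590
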