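import Groth.Statements.S18596
import Mathlib
import Groth.Agent.Lib.Helper9.AbhSch.UnramEtale
import Groth.Agent.Lib.Helper9.AbhSch.AffineHom

set_option autoImplicit false
universe u
open EtRam

namespace Groth.Agent.S18596

open AlgebraicGeometry CategoryTheory in
/-- Let k be a perfect field, X a k-scheme proper over k and f : Y ⟶ X finite étale. Curve-tameness of f
asks that the pullback of f to any regular k-curve mapping to X be tamely ramified at every place of
the curve's function field at infinity; proper targets make every finite étale cover curve-tame.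
Stated here unfolded at a single place, in the form the argument yields: for every point y of Y with
image x, and every discrete valuation ring A of the residue field κ(x) through which Spec κ(x) ⟶
Spec k factors, the finite separable extension κ(y) of κ(x) is tamely ramified with respect to A. -/
theorem result
    (k : Type u) [Field k] [PerfectField k] {X Y : Scheme.{u}} (s : X ⟶ Spec (CommRingCat.of k))
    [IsProper s] (f : Y ⟶ X) [IsFinite f] [Etale f] (y : Y)
    (A : ValuationSubring (X.residueField (f.base y))) [IsDiscreteValuationRing A]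
    (a : Spec (CommRingCat.of A) ⟶ Spec (CommRingCat.of k))
    (ha : Spec.map (CommRingCat.ofHom A.subtype) ≫ a = X.fromSpecResidueField (f.base y) ≫ s) :
    EtRam.IsTamelyRamified A ((f.residueFieldMap y).hom.comp A.subtype) := by
  classical
  -- valuative criterion
  have hprop : (ValuativeCriterion ⊓ @QuasiCompact ⊓ @QuasiSeparated ⊓ @LocallyOfFiniteType) s := by
    rw [← IsProper.eq_valuativeCriterion]
    infer_instance
  have hvc : ValuativeCriterion.Existence s := hprop.1.1.1.existence
  let S : ValuativeCommSq s :=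
    { R := A
      K := X.residueField (f.base y)
      i₁ := X.fromSpecResidueField (f.base y)
      i₂ := a
      commSq := ⟨ha.symm⟩ }
  obtain ⟨⟨ℓ', hℓ1, hℓ2⟩⟩ := (hvc S).exists_lift
  obtain ⟨ιA, hιA⟩ : ∃ ιA : CommRingCat.of A ⟶ X.residueField (f.base y),
      ιA = CommRingCat.ofHom A.subtype := ⟨_, rfl⟩
  obtain ⟨ℓ, hℓ'⟩ : ∃ ℓ : Spec (CommRingCat.of A) ⟶ X, ℓ = ℓ' := ⟨_, rfl⟩
  have hℓ : Spec.map ιA ≫ ℓ = X.fromSpecResidueField (f.base y) := by
    rw [hιA, hℓ']
    exact hℓ1
  -- the pullback
  obtain ⟨pA, hpA⟩ : ∃ pA : Limits.pullback f ℓ ⟶ Spec (CommRingCat.of A),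
      pA = Limits.pullback.snd f ℓ := ⟨_, rfl⟩
  haveI : IsFinite pA := by rw [hpA]; infer_instance
  haveI : Etale pA := by rw [hpA]; infer_instance
  haveI : IsAffine (Limits.pullback f ℓ) := Groth.Agent.Lib.Helper9.AbhSch.isAffine_of_isFinite pA
  -- the point
  have hcomm : Y.fromSpecResidueField y ≫ f =
      (Spec.map (f.residueFieldMap y) ≫ Spec.map ιA) ≫ ℓ := by
    rw [Category.assoc, hℓ, Scheme.Hom.SpecMap_residueFieldMap_fromSpecResidueField]
  obtain ⟨t, ht⟩ : ∃ t : Spec (Y.residueField y) ⟶ Limits.pullback f ℓ,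
      t = Limits.pullback.lift (Y.fromSpecResidueField y)
        (Spec.map (f.residueFieldMap y) ≫ Spec.map ιA) hcomm := ⟨_, rfl⟩
  have ht1 : t ≫ Limits.pullback.fst f ℓ = Y.fromSpecResidueField y := by
    rw [ht]
    exact Limits.pullback.lift_fst _ _ _
  have ht2 : t ≫ pA = Spec.map (f.residueFieldMap y) ≫ Spec.map ιA := by
    rw [hpA, ht]
    exact Limits.pullback.lift_snd _ _ _
  haveI : SurjectiveOnStalks (t ≫ Limits.pullback.fst f ℓ) := by
    rw [ht1]
    infer_instance
  haveI hts : SurjectiveOnStalks t := SurjectiveOnStalks.of_comp t (Limits.pullback.fst f ℓ)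
  -- ring maps
  obtain ⟨ψc, hψcdef⟩ : ∃ ψc : Γ(Limits.pullback f ℓ, ⊤) ⟶ Y.residueField y,
      ψc = t.appTop ≫ (Scheme.ΓSpecIso (Y.residueField y)).hom := ⟨_, rfl⟩
  have hψc : t ≫ (Limits.pullback f ℓ).isoSpec.hom = Spec.map ψc := by
    rw [hψcdef, ← Scheme.isoSpec_hom_naturality, Scheme.isoSpec_Spec_hom, ← Spec.map_comp]
  have hψs : ψc.hom.SurjectiveOnStalks := by
    rw [← SurjectiveOnStalks.Spec_iff, ← hψc]
    infer_instance
  have hcompat : Groth.Agent.Lib.Helper9.AbhSch.ringMap pA ≫ ψc = ιA ≫ f.residueFieldMap y := by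
    unfold Groth.Agent.Lib.Helper9.AbhSch.ringMap
    rw [hψcdef, Category.assoc, ← Scheme.Hom.comp_appTop_assoc, ht2, ← Spec.map_comp,
      Scheme.ΓSpecIso_naturality, Iso.inv_hom_id_assoc]
  -- the étale algebra
  letI algAC : Algebra A Γ(Limits.pullback f ℓ, ⊤) :=
    (Groth.Agent.Lib.Helper9.AbhSch.ringMap pA).hom.toAlgebra
  haveI : Module.Finite A Γ(Limits.pullback f ℓ, ⊤) :=
    Groth.Agent.Lib.Helper9.AbhSch.ringMap_finite pA
  haveI : Algebra.Etale A Γ(Limits.pullback f ℓ, ⊤) :=
    Groth.Agent.Lib.Helper9.AbhSch.ringMap_etale pA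
  haveI : Algebra.IsIntegral A Γ(Limits.pullback f ℓ, ⊤) := Algebra.IsIntegral.of_finite _ _
  have hg : Function.Injective ((f.residueFieldMap y).hom.comp A.subtype) := by
    rw [RingHom.coe_comp]
    exact (RingHom.injective (f.residueFieldMap y).hom).comp Subtype.val_injective
  refine Groth.Agent.Lib.Helper9.AbhSch.tame_of_etale A Γ(Limits.pullback f ℓ, ⊤) _ hg ψc.hom
    (fun b => ?_) (fun F hF => ?_)
  · have h1 := congrArg (fun k => k.hom b) hcompat
    rw [hιA] at h1
    exact h1
  · rw [eq_top_iff]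
    intro z _
    obtain ⟨x, r, c, hc, hr, e⟩ :=
      (RingHom.surjective_localRingHom_iff (f := ψc.hom) ⊥).mp (hψs ⊥ Ideal.isPrime_bot) z
    have hc0 : c ≠ 0 := fun h => hc (by rw [h]; exact Ideal.zero_mem _)
    have hr0 : ψc.hom r ≠ 0 := fun h => hr (by rw [h]; exact Ideal.zero_mem _)
    have hz : z = ψc.hom x / ψc.hom r := by
      rw [eq_div_iff hr0]
      apply mul_left_cancel₀ hc0
      rw [← e]
      ring
    rw [hz]
    exact div_mem (hF x) (hF r)

end Groth.Agent.S18596
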