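import Groth.Statements.S18597
import Mathlib
import Groth.Agent.Lib.Helper9.GalCov.Residue
import Groth.Agent.Lib.Helper9.GalCov.Tame

set_option autoImplicit false
universe u
open EtRam

namespace Groth.Agent.S18597

open AlgebraicGeometry CategoryTheory in
/-- Let k be a perfect field and X a k-scheme. A finite étale cover of X by a torsor under a finite
group of order prime to the characteristic of k is curve-tame, i.e. tamely ramified at every place
at infinity of every regular k-curve mapping to X. Stated here unfolded at a single place and for a
connected Galois cover Z ⟶ X (the X-automorphisms of Z act transitively on geometric fibres) whose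
automorphism group has order invertible in k: for every point z of Z with image x and every discrete
valuation ring A of the residue field κ(x) through which Spec κ(x) ⟶ Spec k factors (so A contains k
and has the residue characteristic of k), the finite separable extension κ(z) of κ(x) is tamely
ramified with respect to A. Without the factorisation through Spec A the claim fails already for X =
Spec ℚ, Z = Spec ℚ(√2) and A = ℤ localised at 2. (The published statement is for torsors under a
finite abelian group of order prime to the characteristic; a connected component of such a torsor is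
a Galois cover of this kind.) -/
theorem result
    (k : Type u) [Field k] [PerfectField k] {X : Scheme.{u}} (s : X ⟶ Spec (CommRingCat.of k))
    (Z : FEt.Cat X) (hZ : PiSp.IsGaloisCover Z) (hn : (Nat.card (Aut Z) : k) ≠ 0) (z : Z.left)
    (A : ValuationSubring (X.residueField (Z.hom.base z))) [IsDiscreteValuationRing A]
    (a : Spec (CommRingCat.of A) ⟶ Spec (CommRingCat.of k))
    (ha : Spec.map (CommRingCat.ofHom A.subtype) ≫ a = X.fromSpecResidueField (Z.hom.base z) ≫ s) :
    EtRam.IsTamelyRamified A ((Z.hom.residueFieldMap z).hom.comp A.subtype) := by
  classical
  have hcard : Nat.card (Aut Z) ≠ 0 := fun h => hn (by rw [h, Nat.cast_zero])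
  haveI : Finite (Aut Z) := Nat.finite_of_card_ne_zero hcard
  obtain ⟨hfd, hgal, hprime⟩ := Groth.Agent.Lib.Helper9.GalCov.galois_residue Z z hZ
  letI algKL : Algebra (X.residueField (Z.hom.base z)) (Z.left.residueField z) :=
    Groth.Agent.Lib.Helper9.GalCov.algKL Z z
  obtain ⟨ψ, hψ⟩ := Spec.map_surjective a
  letI algAL : Algebra A (Z.left.residueField z) :=
    ((Z.hom.residueFieldMap z).hom.comp A.subtype).toAlgebra
  haveI : IsScalarTower A (X.residueField (Z.hom.base z)) (Z.left.residueField z) :=
    IsScalarTower.of_algebraMap_eq (fun _ => rfl)
  haveI : FiniteDimensional (X.residueField (Z.hom.base z)) (Z.left.residueField z) := hfd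
  haveI : IsGalois (X.residueField (Z.hom.base z)) (Z.left.residueField z) := hgal
  refine Groth.Agent.Lib.Helper9.GalCov.tame_of_galois A (X.residueField (Z.hom.base z))
    (L := Z.left.residueField z) ?_
  intro p hp hchar hdvd
  have h1 : p ∣ Nat.card (Aut Z) := hprime p hp hdvd
  haveI : CharP k p :=
    RingHom.charP ((IsLocalRing.residue A).comp ψ.hom)
      ((IsLocalRing.residue A).comp ψ.hom).injective p
  exact hn ((CharP.cast_eq_zero_iff k p _).mpr h1)

end Groth.Agent.S18597
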