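import Groth.Statements.S18598
import Mathlib

set_option autoImplicit false
universe u
open SSRed

namespace Groth.Agent.S18598


section Helpers
open Polynomial

theorem key_dvd (O : Type u) [CommRing O] [IsDomain O] (n : ℕ) (α : O) (m : ℕ) (hm : 0 < m)
    (hα : IsPrimitiveRoot α m) (h : (n : O) ∣ (α - 1) ^ 2) :
    (n : O) ^ (Nat.totient m) ∣ (eval 1 (cyclotomic m O)) ^ 2 := by
  have : NeZero m := ⟨hm.ne'⟩
  rw [cyclotomic_eq_prod_X_sub_primitiveRoots hα, eval_prod]
  simp only [eval_sub, eval_X, eval_C]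
  have h1 : ∀ μ ∈ primitiveRoots m O, (1 - α) ∣ (1 - μ) := by
    intro μ hμ
    obtain ⟨i, -, rfl⟩ := hα.eq_pow_of_pow_eq_one ((mem_primitiveRoots hm).1 hμ).pow_eq_one
    exact one_sub_dvd_one_sub_pow α i
  have h2 : (1 - α) ^ (Nat.totient m) ∣ ∏ μ ∈ primitiveRoots m O, (1 - μ) := by
    rw [← hα.card_primitiveRoots, ← Finset.prod_const]
    exact Finset.prod_dvd_prod_of_dvd _ _ h1
  have h3 : (n : O) ∣ (1 - α) ^ 2 := by
    have : (1 - α) ^ 2 = (α - 1) ^ 2 := by ring
    rw [this]; exact h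
  calc (n : O) ^ (Nat.totient m) ∣ ((1 - α) ^ 2) ^ (Nat.totient m) := pow_dvd_pow_of_dvd h3 _
    _ = ((1 - α) ^ (Nat.totient m)) ^ 2 := by rw [← pow_mul, ← pow_mul, mul_comm]
    _ ∣ _ := pow_dvd_pow_of_dvd h2 2

theorem isUnit_of_coprime_dvd (O : Type u) [CommRing O] (a b : ℕ) (hab : Nat.Coprime a b)
    (h : (a : O) ∣ (b : O)) : IsUnit (a : O) := by
  have h1 : IsCoprime (a : ℤ) (b : ℤ) := Nat.isCoprime_iff_coprime.mpr hab
  have h2 := h1.map (Int.castRingHom O)
  simp only [eq_intCast, Int.cast_natCast] at h2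
  exact h2.isUnit_of_dvd' dvd_rfl h

/-- arithmetic: the possible pairs. -/
theorem arith (ℓ k j : ℕ) (hℓ : ℓ.Prime) (hk : 0 < k) (hj : 0 < j)
    (h : j * (ℓ ^ (k - 1) * (ℓ - 1)) ≤ 2) :
    (ℓ ^ k = 2 ∧ ℓ ^ j = 2) ∨ (ℓ ^ k = 2 ∧ ℓ ^ j = 4) ∨ (ℓ ^ k = 4 ∧ ℓ ^ j = 2) ∨
      (ℓ ^ k = 3 ∧ ℓ ^ j = 3) := by
  have h2 := hℓ.two_le
  have hpos : 0 < ℓ ^ (k - 1) := pow_pos hℓ.pos _
  have hl3 : ℓ ≤ 3 := by
    by_contra hc
    push Not at hc
    have : 3 ≤ ℓ - 1 := by omega
    have : 1 * (1 * 3) ≤ j * (ℓ ^ (k - 1) * (ℓ - 1)) :=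
      Nat.mul_le_mul hj (Nat.mul_le_mul hpos this)
    omega
  have hj2 : j ≤ 2 := by
    by_contra hc
    push Not at hc
    have : 1 ≤ ℓ - 1 := by omega
    have : 3 * (1 * 1) ≤ j * (ℓ ^ (k - 1) * (ℓ - 1)) :=
      Nat.mul_le_mul hc (Nat.mul_le_mul hpos this)
    omega
  have hk2 : k ≤ 2 := by
    by_contra hc
    push Not at hc
    have h4 : 2 ^ 2 ≤ ℓ ^ (k - 1) :=
      le_trans (Nat.pow_le_pow_left h2 2) (Nat.pow_le_pow_right hℓ.pos (by omega))
    have : 1 ≤ ℓ - 1 := by omega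
    have : 1 * (2 ^ 2 * 1) ≤ j * (ℓ ^ (k - 1) * (ℓ - 1)) :=
      Nat.mul_le_mul hj (Nat.mul_le_mul h4 this)
    omega
  interval_cases ℓ <;> interval_cases k <;> interval_cases j <;> simp_all

end Helpers


/-- Let O be a commutative integral domain of characteristic zero, n a positive integer such that no
prime number dividing n is a unit in O, and α an element of O of finite multiplicative order such
that (α − 1)² is divisible by n in O. Then α = 1 if n ≥ 5, α² = 1 if n = 4, α³ = 1 if n = 3, and α⁴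
= 1 if n = 2. -/
theorem result (O : Type u) [CommRing O] [IsDomain O] [CharZero O]
    (n : ℕ) (hn : 0 < n) (hO : ∀ p : ℕ, p.Prime → p ∣ n → ¬ IsUnit (p : O))
    (α : O) (hα : IsOfFinOrder α) (h : (n : O) ∣ (α - 1) ^ 2) :
    (5 ≤ n → α = 1) ∧ (n = 4 → α ^ 2 = 1) ∧ (n = 3 → α ^ 3 = 1) ∧ (n = 2 → α ^ 4 = 1) := by
  set m := orderOf α with hm
  have hmpos : 0 < m := hα.orderOf_pos
  have hprim : IsPrimitiveRoot α m := IsPrimitiveRoot.orderOf α
  have hpow : α ^ m = 1 := pow_orderOf_eq_one α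
  have main : m = 1 ∨ n = 1 ∨ (m = 2 ∧ n = 2) ∨ (m = 2 ∧ n = 4) ∨ (m = 4 ∧ n = 2) ∨
      (m = 3 ∧ n = 3) := by
    by_cases hm1 : m = 1
    · exact Or.inl hm1
    by_cases hn1 : n = 1
    · exact Or.inr (Or.inl hn1)
    right; right
    have hkey := key_dvd O n α m hmpos hprim h
    have hφ : 0 < Nat.totient m := Nat.totient_pos.mpr hmpos
    obtain ⟨p, hp, hpn⟩ := Nat.exists_prime_and_dvd hn1
    have hn_dvd_pow : (n : O) ∣ (n : O) ^ Nat.totient m := dvd_pow_self _ hφ.ne'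
    by_cases hpp : IsPrimePow m
    · rw [isPrimePow_nat_iff] at hpp
      obtain ⟨ℓ, k, hℓ, hk, hmk⟩ := hpp
      have : Fact ℓ.Prime := ⟨hℓ⟩
      obtain ⟨k', rfl⟩ : ∃ k', k = k' + 1 := ⟨k - 1, by omega⟩
      have hev : Polynomial.eval 1 (Polynomial.cyclotomic m O) = (ℓ : O) := by
        rw [← hmk]; exact Polynomial.eval_one_cyclotomic_prime_pow k'
      rw [hev] at hkey
      have hall : ∀ {q : ℕ}, q.Prime → q ∣ n → q = ℓ := by
        intro q hq hqn
        by_contra hne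
        have hcop : Nat.Coprime q (ℓ ^ 2) :=
          Nat.Coprime.pow_right 2 ((Nat.coprime_primes hq hℓ).mpr hne)
        have hd : (q : O) ∣ ((ℓ ^ 2 : ℕ) : O) := by
          push_cast
          exact (Nat.cast_dvd_cast hqn).trans (hn_dvd_pow.trans hkey)
        exact hO q hq hqn (isUnit_of_coprime_dvd O q (ℓ ^ 2) hcop hd)
      have hnj := Nat.eq_prime_pow_of_unique_prime_dvd hn.ne' hall
      set j := n.primeFactorsList.length with hj
      have hjpos : 0 < j := by
        rcases Nat.eq_zero_or_pos j with h0 | h0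
        · rw [h0, pow_zero] at hnj; exact absurd hnj hn1
        · exact h0
      have hℓn : ℓ ∣ n := by rw [hnj]; exact dvd_pow_self _ hjpos.ne'
      have hbound : j * Nat.totient m ≤ 2 := by
        by_contra hc
        push Not at hc
        rw [hnj] at hkey
        push_cast at hkey
        rw [← pow_mul] at hkey
        have h2 : (ℓ : O) ^ (j * Nat.totient m) =
            (ℓ : O) ^ 2 * (ℓ : O) ^ (j * Nat.totient m - 2) := by
          rw [← pow_add]; congr 1; omega
        rw [h2] at hkey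
        have hne0 : (ℓ : O) ^ 2 ≠ 0 := pow_ne_zero _ (Nat.cast_ne_zero.mpr hℓ.ne_zero)
        have h3 : (ℓ : O) ^ (j * Nat.totient m - 2) ∣ 1 := by
          have h5 : (ℓ : O) ^ 2 * (ℓ : O) ^ (j * Nat.totient m - 2) ∣ (ℓ : O) ^ 2 * 1 := by
            rw [mul_one]; exact hkey
          exact (mul_dvd_mul_iff_left hne0).mp h5
        have h4 : IsUnit ((ℓ : O) ^ (j * Nat.totient m - 2)) := isUnit_of_dvd_one h3
        rw [isUnit_pow_iff (by omega)] at h4
        exact hO ℓ hℓ hℓn h4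
      rw [← hmk, Nat.totient_prime_pow hℓ (by omega)] at hbound
      have harith := arith ℓ (k' + 1) j hℓ (by omega) hjpos hbound
      rw [hmk, ← hnj] at harith
      exact harith
    · exfalso
      have hev : Polynomial.eval 1 (Polynomial.cyclotomic m O) = 1 := by
        apply Polynomial.eval_one_cyclotomic_not_prime_pow
        intro q hq k hqk
        rcases Nat.eq_zero_or_pos k with rfl | hk
        · rw [pow_zero] at hqk; exact hm1 hqk.symm
        · exact hpp ((isPrimePow_nat_iff m).mpr ⟨q, k, hq, hk, hqk⟩)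
      rw [hev, one_pow] at hkey
      have : IsUnit (p : O) :=
        isUnit_of_dvd_one ((Nat.cast_dvd_cast hpn).trans (hn_dvd_pow.trans hkey))
      exact hO p hp hpn this
  rcases main with h1 | h1 | ⟨h1, h2⟩ | ⟨h1, h2⟩ | ⟨h1, h2⟩ | ⟨h1, h2⟩
  · have hα1 : α = 1 := orderOf_eq_one_iff.mp h1
    subst hα1
    simp
  · subst h1
    exact ⟨fun h => by omega, fun h => by omega, fun h => by omega, fun h => by omega⟩
  · rw [h1] at hpow
    refine ⟨fun h => by omega, fun h => by omega, fun h => by omega, fun _ => ?_⟩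
    calc α ^ 4 = (α ^ 2) ^ 2 := by ring
      _ = 1 := by rw [hpow, one_pow]
  · rw [h1] at hpow
    exact ⟨fun h => by omega, fun _ => hpow, fun h => by omega, fun h => by omega⟩
  · rw [h1] at hpow
    exact ⟨fun h => by omega, fun h => by omega, fun h => by omega, fun _ => hpow⟩
  · rw [h1] at hpow
    exact ⟨fun h => by omega, fun h => by omega, fun _ => hpow, fun h => by omega⟩

end Groth.Agent.S18598
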