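import Groth.Statements.S18600
import Mathlib
-- import your own Groth.Agent.* helpers here

set_option autoImplicit false
universe v
open SSRed

namespace Groth.Agent.S18600

section Helpers

open Polynomial

variable {R : Type*} [CommRing R] {g : ℕ}

/-- `det (q·1 − A) = χ_A(q)` -/
theorem det_scalar_sub (A : Matrix (Fin g) (Fin g) R) (q : R[X]) :
    (Matrix.scalar (Fin g) q - (C : R →+* R[X]).mapMatrix A).det = A.charpoly.comp q := by
  have h1 : A.charpoly.comp q = (Polynomial.compRingHom q) A.charpoly := rfl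
  rw [h1, Matrix.charpoly, RingHom.map_det]
  congr 1
  ext i j
  by_cases hij : i = j
  · subst hij
    simp
  · simp [hij]

theorem expand_charpoly_sq (A : Matrix (Fin g) (Fin g) R) :
    Polynomial.expand R 2 ((A - 1) ^ 2).charpoly =
      (-1) ^ g * (A.charpoly.comp (X + 1) * A.charpoly.comp (1 - X)) := by
  rw [Polynomial.expand_eq_comp_X_pow, ← det_scalar_sub, ← det_scalar_sub A (X + 1),
    ← det_scalar_sub A (1 - X)]
  have hneg : (-1 : R[X]) ^ g *
      (Matrix.scalar (Fin g) (1 - X : R[X]) - (C : R →+* R[X]).mapMatrix A).det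
      = (-(Matrix.scalar (Fin g) (1 - X : R[X]) - (C : R →+* R[X]).mapMatrix A)).det := by
    rw [Matrix.det_neg, Fintype.card_fin]
  rw [mul_left_comm, hneg, ← Matrix.det_mul]
  congr 1
  have hS : Commute (Matrix.scalar (Fin g) (X : R[X])) ((C : R →+* R[X]).mapMatrix A - 1) :=
    Matrix.scalar_commute _ (fun r' => Commute.all _ _) _
  have e1 : Matrix.scalar (Fin g) ((X : R[X]) ^ 2) =
      Matrix.scalar (Fin g) (X : R[X]) * Matrix.scalar (Fin g) (X : R[X]) := by
    rw [← map_mul, pow_two]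
  have e2 : (C : R →+* R[X]).mapMatrix ((A - 1) ^ 2) =
      ((C : R →+* R[X]).mapMatrix A - 1) * ((C : R →+* R[X]).mapMatrix A - 1) := by
    rw [map_pow, map_sub, map_one, pow_two]
  have e3 : Matrix.scalar (Fin g) ((X : R[X]) + 1) - (C : R →+* R[X]).mapMatrix A =
      Matrix.scalar (Fin g) (X : R[X]) - ((C : R →+* R[X]).mapMatrix A - 1) := by
    rw [map_add, map_one]; abel
  have e4 : -(Matrix.scalar (Fin g) (1 - X : R[X]) - (C : R →+* R[X]).mapMatrix A) =
      Matrix.scalar (Fin g) (X : R[X]) + ((C : R →+* R[X]).mapMatrix A - 1) := by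
    rw [map_sub, map_one]; abel
  rw [e1, e2, e3, e4, hS.mul_self_sub_mul_self_eq']

theorem charpoly_smul_comp (c : R) (B : Matrix (Fin g) (Fin g) R) :
    (c • B).charpoly.comp (C c * X) = C (c ^ g) * B.charpoly := by
  rw [← det_scalar_sub, Matrix.charpoly, Matrix.charmatrix]
  have : Matrix.scalar (Fin g) (C c * X : R[X]) - (C : R →+* R[X]).mapMatrix (c • B) =
      (C c : R[X]) • (Matrix.scalar (Fin g) (X : R[X]) - (C : R →+* R[X]).mapMatrix B) := by
    ext i j
    by_cases hij : i = j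
    · subst hij; simp [mul_sub]
    · simp [hij]
  rw [this, Matrix.det_smul, Fintype.card_fin, C_pow]

theorem coeff_charpoly_smul [IsDomain R] (c : R) (hc : c ≠ 0) (B : Matrix (Fin g) (Fin g) R)
    (j : ℕ) (hj : j ≤ g) :
    (c • B).charpoly.coeff j = c ^ (g - j) * B.charpoly.coeff j := by
  have h := Polynomial.ext_iff.mp (charpoly_smul_comp c B) j
  rw [Polynomial.comp_C_mul_X_coeff, Polynomial.coeff_C_mul] at h
  have hg : c ^ g = c ^ (g - j) * c ^ j := by rw [← pow_add, Nat.sub_add_cancel hj]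
  rw [hg] at h
  have hcj : c ^ j ≠ 0 := pow_ne_zero _ hc
  apply mul_right_cancel₀ hcj
  rw [h]; ring

theorem int_dvd_of_padic (n : ℕ) (e : ℕ) (m : ℤ)
    (h : ∀ (ℓ : ℕ) [Fact ℓ.Prime], ℓ ∣ n → ((n : ℤ_[ℓ]) ^ e ∣ (m : ℤ_[ℓ]))) :
    ((n : ℤ) ^ e ∣ m) := by
  have key : (n ^ e) ∣ m.natAbs := by
    rw [Nat.dvd_iff_prime_pow_dvd_dvd]
    intro ℓ k hℓ hk
    rcases Nat.eq_zero_or_pos k with rfl | hkpos
    · simp
    have : Fact ℓ.Prime := ⟨hℓ⟩
    have hℓn : ℓ ∣ n := hℓ.dvd_of_dvd_pow (dvd_trans (dvd_pow_self ℓ hkpos.ne') hk)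
    have h2 := h ℓ hℓn
    have h3 : ((ℓ : ℤ_[ℓ]) ^ k) ∣ ((n : ℤ_[ℓ]) ^ e) := by
      obtain ⟨t, ht⟩ := hk
      refine ⟨(t : ℤ_[ℓ]), ?_⟩
      have := congrArg (fun z : ℕ => (z : ℤ_[ℓ])) ht
      simpa using this
    have h4 : ((ℓ : ℤ_[ℓ]) ^ k) ∣ ((m : ℤ) : ℤ_[ℓ]) := dvd_trans h3 h2
    rw [PadicInt.pow_p_dvd_int_iff] at h4
    have h5 := Int.natAbs_dvd_natAbs.mpr h4
    simpa [Int.natAbs_pow] using h5
  have := Int.natCast_dvd.mpr key
  exact_mod_cast this

end Helpers


/-- Let n be a positive integer, g a natural number and f ∈ ℤ[x] a monic polynomial such that for every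
prime ℓ dividing n there is a g × g matrix A_ℓ over ℤ_ℓ whose characteristic polynomial is f and
such that (A_ℓ − 1)² lies in n·M_g(ℤ_ℓ). Then for every root α of f in a field of characteristic
zero and every square root s of n in that field, (α − 1)/s is integral over ℤ. (The published
statement is for matrices of size 2d and speaks of the eigenvalues of the A_ℓ, which are the roots
of their common characteristic polynomial f; the parity of the size plays no role.) -/
theorem result (n : ℕ) (hn : 0 < n) (g : ℕ) (f : Polynomial ℤ)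
    (hf : f.Monic)
    (hA : ∀ (ℓ : ℕ) [Fact ℓ.Prime], ℓ ∣ n → ∃ A : Matrix (Fin g) (Fin g) ℤ_[ℓ],
      A.charpoly = f.map (Int.castRingHom ℤ_[ℓ]) ∧
        ∃ B : Matrix (Fin g) (Fin g) ℤ_[ℓ], (A - 1) ^ 2 = (n : ℤ_[ℓ]) • B)
    (K : Type v) [Field K] [CharZero K] (α s : K) (hα : Polynomial.aeval α f = 0) (hs : s ^ 2 = (n : K)) :
    IsIntegral ℤ ((α - 1) / s) := by
  classical
  have hn0 : (n : K) ≠ 0 := Nat.cast_ne_zero.mpr hn.ne'
  have hαint : IsIntegral ℤ α := ⟨f, hf, by rwa [← Polynomial.aeval_def]⟩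
  by_cases hn1 : n = 1
  · subst hn1
    have hs1 : s * s = 1 := by rw [← pow_two, hs, Nat.cast_one]
    have hsint : IsIntegral ℤ s :=
      IsIntegral.of_pow (n := 2) two_pos (by rw [hs, Nat.cast_one]; exact isIntegral_one)
    rw [div_eq_mul_inv, inv_eq_of_mul_eq_one_right hs1]
    exact (hαint.sub isIntegral_one).mul hsint
  obtain ⟨ℓ₀, hℓ₀, hℓ₀n⟩ := Nat.exists_prime_and_dvd hn1
  obtain ⟨G, hG⟩ : ∃ G : Polynomial ℤ, G = (-1) ^ g *
      (f.comp (Polynomial.X + 1) * f.comp (1 - Polynomial.X)) := ⟨_, rfl⟩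
  -- local facts
  have hloc : ∀ (ℓ : ℕ) [Fact ℓ.Prime], ℓ ∣ n → ∃ χ : Polynomial ℤ_[ℓ], χ.Monic ∧
      χ.natDegree = g ∧ G.map (Int.castRingHom ℤ_[ℓ]) = Polynomial.expand ℤ_[ℓ] 2 χ ∧
      ∀ j, j ≤ g → ((n : ℤ_[ℓ]) ^ (g - j)) ∣ χ.coeff j := by
    intro ℓ _ hℓ
    obtain ⟨A, hAf, B, hB⟩ := hA ℓ hℓ
    refine ⟨((n : ℤ_[ℓ]) • B).charpoly, Matrix.charpoly_monic _, ?_, ?_, ?_⟩
    · rw [Matrix.charpoly_natDegree_eq_dim, Fintype.card_fin]
    · rw [← hB, expand_charpoly_sq, hAf, hG]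
      simp [Polynomial.map_comp]
    · intro j hj
      have hnℓ : (n : ℤ_[ℓ]) ≠ 0 := Nat.cast_ne_zero.mpr hn.ne'
      rw [coeff_charpoly_smul _ hnℓ B j hj]
      exact Dvd.intro _ rfl
  have : Fact ℓ₀.Prime := ⟨hℓ₀⟩
  obtain ⟨χ₀, hχ₀m, hχ₀d, hχ₀e, -⟩ := hloc ℓ₀ hℓ₀n
  have hcoeff₀ : ∀ i, ((G.coeff i : ℤ) : ℤ_[ℓ₀]) = if 2 ∣ i then χ₀.coeff (i / 2) else 0 := by
    intro i
    have := Polynomial.ext_iff.mp hχ₀e i
    rw [Polynomial.coeff_map, Polynomial.coeff_expand two_pos, eq_intCast] at this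
    exact this
  have hodd : ∀ i, ¬ 2 ∣ i → G.coeff i = 0 := by
    intro i hi
    have := hcoeff₀ i
    rw [if_neg hi] at this
    exact Int.cast_eq_zero.mp this
  have hbig : ∀ j, g < j → G.coeff (2 * j) = 0 := by
    intro j hj
    have := hcoeff₀ (2 * j)
    have h0 : χ₀.coeff j = 0 :=
      Polynomial.coeff_eq_zero_of_natDegree_lt (by rw [hχ₀d]; exact hj)
    rw [if_pos (dvd_mul_right 2 j), Nat.mul_div_cancel_left j two_pos, h0] at this
    exact Int.cast_eq_zero.mp this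
  have hlead : G.coeff (2 * g) = 1 := by
    have := hcoeff₀ (2 * g)
    rw [if_pos (dvd_mul_right 2 g), Nat.mul_div_cancel_left g two_pos] at this
    have h1 : χ₀.coeff g = 1 := by
      have := hχ₀m.coeff_natDegree
      rwa [hχ₀d] at this
    rw [h1] at this
    exact Int.cast_eq_one.mp this
  have hdiv : ∀ j, j ≤ g → ((n : ℤ) ^ (g - j)) ∣ G.coeff (2 * j) := by
    intro j hj
    apply int_dvd_of_padic n (g - j)
    intro ℓ _ hℓ
    obtain ⟨χ, -, -, hχe, hχdiv⟩ := hloc ℓ hℓ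
    have := Polynomial.ext_iff.mp hχe (2 * j)
    rw [Polynomial.coeff_map, Polynomial.coeff_expand two_pos, if_pos (dvd_mul_right 2 j),
      Nat.mul_div_cancel_left j two_pos, eq_intCast] at this
    rw [this]
    exact hχdiv j hj
  choose! c hc using hdiv
  have hcg : c g = 1 := by
    have := hc g le_rfl
    rw [hlead, Nat.sub_self, pow_zero, one_mul] at this
    exact this.symm
  -- the root
  obtain ⟨y, hy⟩ : ∃ y : K, y = α - 1 := ⟨_, rfl⟩
  obtain ⟨z, hz⟩ : ∃ z : K, z = ((α - 1) / s) ^ 2 := ⟨_, rfl⟩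
  have hyz : y ^ 2 = (n : K) * z := by
    rw [hz, hy, div_pow, hs]
    field_simp
  have hGy : Polynomial.aeval y G = 0 := by
    rw [hG, map_mul, map_mul, Polynomial.aeval_comp, Polynomial.aeval_comp]
    have : Polynomial.aeval y (Polynomial.X + 1 : Polynomial ℤ) = α := by simp [hy]
    rw [this, hα]; simp
  have hGP : Polynomial.expand ℤ 2 (Polynomial.contract 2 G) = G := by
    ext i
    rw [Polynomial.coeff_expand two_pos, Polynomial.coeff_contract two_ne_zero]
    split_ifs with h2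
    · rw [Nat.div_mul_cancel h2]
    · exact (hodd i h2).symm
  have hPdeg : (Polynomial.contract 2 G).natDegree ≤ g := by
    rw [Polynomial.natDegree_le_iff_coeff_eq_zero]
    intro N hN
    rw [Polynomial.coeff_contract two_ne_zero, mul_comm]
    exact hbig N hN
  have hsum : ∑ j ∈ Finset.range (g + 1), ((c j : ℤ) : K) * z ^ j = 0 := by
    have h0 : Polynomial.aeval (y ^ 2) (Polynomial.contract 2 G) = 0 := by
      rw [← Polynomial.expand_aeval, hGP, hGy]
    rw [Polynomial.aeval_eq_sum_range' (Nat.lt_succ_of_le hPdeg)] at h0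
    have h1 : ∀ j ∈ Finset.range (g + 1),
        (Polynomial.contract 2 G).coeff j • (y ^ 2) ^ j =
          (n : K) ^ g * (((c j : ℤ) : K) * z ^ j) := by
      intro j hj
      have hj' : j ≤ g := Nat.lt_succ_iff.mp (Finset.mem_range.mp hj)
      have hgj : (n : K) ^ g = (n : K) ^ (g - j) * (n : K) ^ j := by
        rw [← pow_add, Nat.sub_add_cancel hj']
      rw [Polynomial.coeff_contract two_ne_zero, mul_comm j 2, hc j hj', hyz, zsmul_eq_mul, hgj,
        mul_pow]
      push_cast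
      ring
    rw [Finset.sum_congr rfl h1, ← Finset.mul_sum] at h0
    exact (mul_eq_zero.mp h0).resolve_left (pow_ne_zero _ hn0)
  -- the monic polynomial
  obtain ⟨H, hH⟩ : ∃ H : Polynomial ℤ, H = ∑ j ∈ Finset.range (g + 1),
      Polynomial.C (c j) * Polynomial.X ^ j := ⟨_, rfl⟩
  have hHdeg : H.natDegree ≤ g := by
    rw [hH]
    exact Polynomial.natDegree_sum_le_of_forall_le _ _ (fun j hj =>
      (Polynomial.natDegree_C_mul_X_pow_le _ _).trans
        (Nat.lt_succ_iff.mp (Finset.mem_range.mp hj)))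
  have hHcoeff : H.coeff g = 1 := by
    rw [hH, Polynomial.finsetSum_coeff]
    simp [hcg]
  have hHmonic : H.Monic := Polynomial.monic_of_natDegree_le_of_coeff_eq_one g hHdeg hHcoeff
  have hHz : Polynomial.aeval z H = 0 := by
    rw [hH, map_sum, ← hsum]
    refine Finset.sum_congr rfl (fun j _ => ?_)
    simp
  have hzint : IsIntegral ℤ z := ⟨H, hHmonic, by rwa [← Polynomial.aeval_def]⟩
  rw [hz] at hzint
  exact IsIntegral.of_pow two_pos hzint

end Groth.Agent.S18600
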