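import Groth.Statements.S1861
-- import your own Groth.Agent.* helpers here
import Groth.Agent.Lib.Helper55.FiberTrdeg
import Groth.Agent.Lib.Helper55.DimSup

set_option autoImplicit false
universe u
open CategoryTheory AlgebraicGeometry
open Cyc

namespace Groth.Agent.S1861

open Groth.Agent.Lib.Helper55

/-- Let f : X → Y be flat, locally of finite type, of relative dimension r, y a point of Y and x a point
of X that is generic in an irreducible component of f⁻¹ of the closure of y (that is, x lies in that
closed set and has no proper generalization in it). Then f(x) = y and δX(x) = δY(y) + r. Here a pair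
(X, δ) with Cyc.IsSetup plays the role of a scheme locally of finite type over a fixed base with a
dimension function (X locally Noetherian with universally catenary local rings, δ a dimension
function), and Cyc.DeltaCompat records that the dimension function upstairs is the induced one. -/
theorem result (X Y : Scheme.{u}) (δX : X → ℤ) (δY : Y → ℤ) (hX : Cyc.IsSetup X δX) (hY : Cyc.IsSetup Y δY) (f : X ⟶ Y) [Flat f] [LocallyOfFiniteType f] (r : ℕ) (hr : Cyc.HasRelDim f r) (hδ : Cyc.DeltaCompat f δX δY) (y : Y) (x : X) (hx : f x ∈ closure ({y} : Set Y)) (hmax : ∀ x' : X, f x' ∈ closure ({y} : Set Y) → x' ⤳ x → x' = x) : f x = y ∧ δX x = δY y + r := by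
  -- going down: `f x = y`
  have hfx : f x = y := by
    have hgen : GeneralizingMap f := Flat.generalizingMap f
    obtain ⟨x', hx'x, hx'y⟩ := hgen (specializes_iff_mem_closure.mpr hx)
    have hx'mem : f x' ∈ closure ({y} : Set Y) := by
      rw [hx'y]; exact subset_closure rfl
    have := hmax x' hx'mem hx'x
    rw [← this, hx'y]
  refine ⟨hfx, ?_⟩
  -- `asFiber x` is a maximal point of its fibre
  have hmaxz : ∀ z : ↥(f.fiber (f x)), z ⤳ f.asFiber x → f.asFiber x ⤳ z := by
    intro z hz
    have h1 : f.fiberι (f x) z ⤳ x := by
      have := hz.map (f.fiberι (f x)).continuous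
      rwa [f.fiberι_asFiber] at this
    have h2 : f (f.fiberι (f x) z) = f x := by
      have : f.fiberι (f x) z ∈ Set.range (f.fiberι (f x)) := ⟨z, rfl⟩
      rw [f.range_fiberι] at this
      exact this
    have h3 : f.fiberι (f x) z = x := by
      apply hmax _ _ h1
      rw [h2]; exact hx
    have h4 : z = f.asFiber x := by
      apply (f.fiberι (f x)).isEmbedding.injective
      rw [h3, f.fiberι_asFiber]
    rw [h4]
  have hcomp := closure_mem_irreducibleComponents_of_maximal (f.asFiber x) hmaxz
  have hdim := hr (f x) _ hcomp
  obtain ⟨n, hn1, hn2⟩ := exists_dim_closure_asFiber_eq_trdeg f x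
  obtain ⟨m, hm1, hm2⟩ := hδ x
  have hnr : n = r := by
    have : ((n : ℕ) : WithBot ℕ∞) = ((r : ℕ) : WithBot ℕ∞) := by
      rw [← hn1, ← hdim]
    exact_mod_cast this
  have hmn : m = n := by
    have : ((m : ℕ) : Cardinal) = ((n : ℕ) : Cardinal) := by
      rw [← hm1, ← hn2]
    exact_mod_cast this
  rw [hm2, hmn, hnr, hfx]


end Groth.Agent.S1861
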