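import Groth.Statements.S18617
-- import your own Groth.Agent.* helpers here

set_option autoImplicit false
universe u
open LocRes

namespace Groth.Agent.S18617

/-- The published statement is that, for a complete separated linearly topologized commutative algebra K
over a field of characteristic zero, the separated de Rham complex of K tensored with the exterior
algebra on symbols α_1, ..., α_n maps quasi-isomorphically to the separated de Rham complex of the
iterated Laurent series ring K((t_1, ..., t_n)), α_i going to dlog t_i; this row is the case K = k
and n = 1, unpacked: over a field k of characteristic 0, a formal Laurent series f in k((t)) has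
term-by-term derivative zero if and only if it is the constant series on its coefficient of degree
0, and a Laurent series g is the derivative of some Laurent series if and only if its residue (the
coefficient of t⁻¹) vanishes; so H⁰ of the complex k((t)) → k((t)) dt is k and H¹ is the line
spanned by the class of dt/t, on which the residue is 1. -/
theorem result (k : Type u) [Field k] [CharZero k] :
    (∀ f : LaurentSeries k, LocRes.D k f = 0 ↔ f = HahnSeries.C (f.coeff 0)) ∧
      ∀ g : LaurentSeries k, (∃ f : LaurentSeries k, LocRes.D k f = g) ↔ LocRes.res k g = 0 := by
  constructor
  · intro f
    constructor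
    · intro h
      ext n
      by_cases hn : n = 0
      · subst hn
        simp
      · have h1 := LocRes.D_coeff k f (n - 1)
        rw [h, HahnSeries.coeff_zero] at h1
        have h2 : (n - 1 + 1 : ℤ) = n := by ring
        rw [h2] at h1
        have h3 : f.coeff n = 0 := by
          rcases smul_eq_zero.mp h1.symm with h4 | h4
          · exact absurd h4 hn
          · exact h4
        rw [h3, HahnSeries.C_apply, HahnSeries.coeff_single_of_ne hn]
    · intro h
      rw [h, LocRes.D_apply, LocRes.derivative_C]
  · intro g
    constructor
    · rintro ⟨f, rfl⟩
      rw [LocRes.res_apply, LocRes.D_coeff]
      simp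
    · intro h
      rw [LocRes.res_apply] at h
      -- the antiderivative
      let c : ℤ → k := fun n => if n = 0 then 0 else (n : k)⁻¹ * g.coeff (n - 1)
      have hc : BddBelow (Function.support c) := by
        apply HahnSeries.forallLTEqZero_supp_BddBelow c (g.order + 1)
        intro m hm
        have h1 : g.coeff (m - 1) = 0 := HahnSeries.coeff_eq_zero_of_lt_order (by omega)
        simp [c, h1]
      refine ⟨HahnSeries.ofSuppBddBelow c hc, ?_⟩
      ext n
      rw [LocRes.D_coeff, HahnSeries.coeff_ofSuppBddBelow]
      by_cases hn : n + 1 = 0
      · have : n = -1 := by omega
        subst this
        simp [h]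
      · have hnk : ((n + 1 : ℤ) : k) ≠ 0 := by exact_mod_cast hn
        simp only [c, if_neg hn]
        rw [zsmul_eq_mul, ← mul_assoc, mul_inv_cancel₀ hnk, one_mul]
        congr 1
        ring

end Groth.Agent.S18617
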