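import Groth.Statements.S1863
-- import your own Groth.Agent.* helpers here
import Groth.Agent.Lib.Helper85.IntMult.DivOpen
import Groth.Agent.S6457

set_option autoImplicit false
universe u
open CategoryTheory AlgebraicGeometry
open Cyc

namespace Groth.Agent.S1863

/-- Let U ⊆ X be open and α, β k-cycles on X whose restrictions to U are rationally equivalent on U (for
the restricted dimension function). Then there is a k-cycle γ on X vanishing on U with α rationally
equivalent to β + γ. Here a pair (X, δ) with Cyc.IsSetup plays the role of a scheme locally of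
finite type over a fixed base with a dimension function (X locally Noetherian with universally
catenary local rings, δ a dimension function). -/
theorem result (X : Scheme.{u}) (δ : X → ℤ) (hX : Cyc.IsSetup X δ) (U : X.Opens) (k : ℤ) (α β : AlgebraicCycle X ℤ) (hα : α ∈ Cyc.Zk X δ k) (hβ : β ∈ Cyc.Zk X δ k) (αU βU : AlgebraicCycle (↑U : Scheme.{u}) ℤ) (hαU : ∀ u : ↥U, αU u = α (U.ι u)) (hβU : ∀ u : ↥U, βU u = β (U.ι u)) (h : Cyc.RatEquiv (fun u : ↥U => δ (U.ι u)) k αU βU) : ∃ γ : AlgebraicCycle X ℤ, γ ∈ Cyc.Zk X δ k ∧ (∀ x : X, x ∈ U → γ x = 0) ∧ Cyc.RatEquiv δ k α (β + γ) := by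
  classical
  obtain ⟨hXn, -, hXdim⟩ := hX
  have instN : IsLocallyNoetherian X := hXn
  obtain ⟨I, ξ, f, hδξ, hf, hlf, hsum⟩ := h
  -- transport the rational functions to `X`
  have hiso : ∀ i, IsIso (U.ι.residueFieldMap (ξ i)) := fun i => inferInstance
  let g : (i : I) → X.residueField (U.ι (ξ i)) := fun i =>
    (CategoryTheory.inv (U.ι.residueFieldMap (ξ i))).hom (f i)
  have hgf : ∀ i, (U.ι.residueFieldMap (ξ i)).hom (g i) = f i := by
    intro i
    show (U.ι.residueFieldMap (ξ i)).hom ((CategoryTheory.inv (U.ι.residueFieldMap (ξ i))).hom (f i)) = f i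
    rw [← CommRingCat.comp_apply, IsIso.inv_hom_id]
    rfl
  have hg : ∀ i, g i ≠ 0 := by
    intro i h0
    apply hf i
    rw [← hgf i, h0, map_zero]
  -- local finiteness of the closures in `X`
  have hlfU : LocallyFinite (fun i => closure ({ξ i} : Set ↥(U : Scheme.{u}))) := by
    intro u
    obtain ⟨O, hO, huO, hfin⟩ := hlf u
    exact ⟨O, hO.mem_nhds huO, hfin⟩
  have hlfX0 := Groth.Agent.S6457.result (U : Scheme.{u}) X U.ι I
    (fun i => closure ({ξ i} : Set ↥(U : Scheme.{u}))) (fun i => isClosed_closure) hlfU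
  have hlfX : ∀ x : X, ∃ W : Set X, IsOpen W ∧ x ∈ W ∧
      {i | (closure {U.ι (ξ i)} ∩ W).Nonempty}.Finite := by
    intro x
    obtain ⟨t, ht, hfin⟩ := hlfX0 x
    obtain ⟨W, hWt, hW, hxW⟩ := mem_nhds_iff.mp ht
    refine ⟨W, hW, hxW, hfin.subset ?_⟩
    rintro i ⟨z, hz1, hz2⟩
    refine ⟨z, ?_, hWt hz2⟩
    refine closure_mono ?_ hz1
    rintro _ rfl
    exact ⟨ξ i, subset_closure rfl, rfl⟩
  -- the cycle `D`
  let D : X → ℤ := fun x => ∑ᶠ i, Cyc.divFun δ (U.ι (ξ i)) (g i) x
  have hDsupp : ∀ x i, Cyc.divFun δ (U.ι (ξ i)) (g i) x ≠ 0 → U.ι (ξ i) ⤳ x ∧ δ x = k := by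
    intro x i hne
    have hc : U.ι (ξ i) ⤳ x ∧ δ x + 1 = δ (U.ι (ξ i)) := by
      by_contra hc
      apply hne
      unfold Cyc.divFun
      rw [dif_neg hc]
    refine ⟨hc.1, ?_⟩
    have := hδξ i
    have h2 := hc.2
    simp only at this
    omega
  have hDlf : ∀ z ∈ (Set.univ : Set X), ∃ t ∈ nhds z, Set.Finite (t ∩ Function.support D) := by
    intro x _
    obtain ⟨W, hW, hxW, hfin⟩ := hlfX x
    obtain ⟨W', hW', hxW', hW'W⟩ := exists_isAffineOpen_mem_and_subset (x := x) (U := ⟨W, hW⟩) hxW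
    refine ⟨W', W'.isOpen.mem_nhds hxW', ?_⟩
    have hsub : (W' : Set X) ∩ Function.support D ⊆
        ⋃ i ∈ {i | (closure {U.ι (ξ i)} ∩ W).Nonempty},
          {z : X | z ∈ W' ∧ Cyc.divFun δ (U.ι (ξ i)) (g i) z ≠ 0} := by
      rintro z ⟨hzW', hzD⟩
      have hzD' : (∑ᶠ i, Cyc.divFun δ (U.ι (ξ i)) (g i) z) ≠ 0 := hzD
      obtain ⟨i, hi⟩ : ∃ i, Cyc.divFun δ (U.ι (ξ i)) (g i) z ≠ 0 := by
        by_contra hall
        push Not at hall
        exact hzD' (finsum_eq_zero_of_forall_eq_zero hall)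
      have hsp := (hDsupp z i hi).1
      refine Set.mem_biUnion (x := i) ?_ ⟨hzW', hi⟩
      exact ⟨z, specializes_iff_mem_closure.mp hsp, hW'W hzW'⟩
    refine (Set.Finite.biUnion hfin (fun i _ => ?_)).subset hsub
    exact Groth.Agent.Lib.Helper85.DivOpen.finite_support_divFun_inter δ hXdim W' hW' _ _ (hg i)
  let Dc : AlgebraicCycle X ℤ :=
    { toFun := D
      supportWithinDomain' := fun _ _ => Set.mem_univ _
      supportLocallyFiniteWithinDomain' := hDlf }
  have hDc : ∀ x, Dc x = D x := fun x => rfl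
  refine ⟨α - β - Dc, ?_, ?_, ?_⟩
  · intro x hx
    have h1 : α x = 0 := hα x hx
    have h2 : β x = 0 := hβ x hx
    have h3 : D x = 0 := by
      apply finsum_eq_zero_of_forall_eq_zero
      intro i
      by_contra hne
      exact hx (hDsupp x i hne).2
    show (α - β - Dc) x = 0
    rw [Function.locallyFinsuppWithin.coe_sub, Function.locallyFinsuppWithin.coe_sub]
    simp only [Pi.sub_apply]
    rw [h1, h2, hDc, h3]
    simp
  · intro x hxU
    let u₀ : ↥(U : Scheme.{u}) := ⟨x, hxU⟩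
    have hxe : U.ι u₀ = x := rfl
    have h3 : D x = αU u₀ - βU u₀ := by
      have h4 : αU u₀ - βU u₀ =
          ∑ᶠ i, Cyc.divFun (fun u => δ (U.ι u)) (ξ i) (f i) u₀ := hsum u₀
      rw [h4]
      apply finsum_congr
      intro i
      rw [← hgf i]
      exact (Groth.Agent.Lib.Helper85.DivOpen.divFun_openImmersion U.ι δ hXdim (ξ i) u₀
        (g i)).symm
    show (α - β - Dc) x = 0
    rw [Function.locallyFinsuppWithin.coe_sub, Function.locallyFinsuppWithin.coe_sub]
    simp only [Pi.sub_apply]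
    rw [hDc, h3, hαU u₀, hβU u₀, hxe]
    ring
  · refine ⟨I, fun i => U.ι (ξ i), g, hδξ, hg, hlfX, ?_⟩
    intro x
    show (α - (β + (α - β - Dc))) x = _
    rw [Function.locallyFinsuppWithin.coe_sub, Function.locallyFinsuppWithin.coe_add,
      Function.locallyFinsuppWithin.coe_sub, Function.locallyFinsuppWithin.coe_sub]
    simp only [Pi.sub_apply, Pi.add_apply]
    rw [hDc]
    ring

end Groth.Agent.S1863
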