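import Groth.Statements.S18639
import Groth.Agent.Lib.Helper39.GrCanonLoc
import Groth.Agent.Lib.Helper39.GlobalInjDim
import Groth.Agent.S7700
import Groth.Agent.S13233

set_option autoImplicit false
universe u
open GrLC

namespace Groth.Agent.S18639

/-- Let R be a graded ring defined over a field which is Cohen–Macaulay, with graded maximal ideal m and
canonical module K_R. Then (i) K_R is a Cohen–Macaulay R-module — stated here at m: the localisation
of K_R at m is a Cohen–Macaulay module over R_m, which is what the published proof computes (the Ext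
groups of the residue field into K_R vanish outside degree n = dim R) — and (ii) K_R has finite
injective dimension as an R-module. Here 'graded ring defined over a field' means R = ⊕_{n ≥ 0} R_n
is Noetherian with R_0 a field (so R is finitely generated over R_0), m = R_+ is its unique graded
maximal ideal and n = dim R; the canonical module K_R (the graded dual of H^n_m(R)) is represented
by a finitely generated graded module C together with a homogeneous isomorphism from Hom_R(C, E)
onto H^n_m(R), where E is a *injective envelope of R/m and H^n_m(R) is computed from a *injective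
resolution of R in the graded category; by graded Matlis duality this says exactly that C ≅ K_R as
graded modules. -/
theorem result (R : Type u) [CommRing R] [LocCoh.IsCohenMacaulayRing R] (𝒜 : ℤ → AddSubgroup R) [GradedRing 𝒜] (hpos : ∀ n : ℤ, n < 0 → 𝒜 n = ⊥) (h0 : IsField (GrLC.deg0 𝒜)) (m : HomogeneousIdeal 𝒜) (hm : GrLC.IsStarLocal 𝒜 m) (hmsp : m.toIdeal = Ideal.span (⋃ n ∈ Set.Ioi (0 : ℤ), (𝒜 n : Set R))) [m.toIdeal.IsMaximal] (n : ℕ) (hn : ringKrullDim R = n) (I : GrLC.StarInjRes 𝒜 𝒜) (E' : Type u) [AddCommGroup E'] [Module R E'] (𝓔 : ℤ → AddSubgroup E') [DirectSum.Decomposition 𝓔] [SetLike.GradedSMul 𝒜 𝓔] (e : (R ⧸ m.toIdeal) →ₗ[R] E') (he : GrLC.IsStarInjHull 𝒜 (GrLC.quotGr 𝒜 m) 𝓔 e) (C : Type u) [AddCommGroup C] [Module R C] (𝒞 : ℤ → AddSubgroup C) [DirectSum.Decomposition 𝒞] [SetLike.GradedSMul 𝒜 𝒞] (hC : GrLC.IsStarCanonical 𝒜 𝒞 𝓔 m n I) : LocCoh.IsCohenMacaulayModule (Localization.AtPrime m.toIdeal) (LocalizedModule m.toIdeal.primeCompl C) ∧ ∃ N : ℕ, CategoryTheory.HasInjectiveDimensionLT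 (ModuleCat.of R C) N := by
  classical
  obtain ⟨hdim, hfin, f, hf, ⟨eK⟩⟩ := Groth.Agent.Lib.Helper39.GrCanonLoc.bridge R 𝒜 hpos h0 m hm n hn
    I E' 𝓔 e he C 𝒞 hC
  haveI := hfin
  haveI : LocCoh.IsCohenMacaulayLocalRing (Localization.AtPrime m.toIdeal) :=
    LocCoh.IsCohenMacaulayRing.isCohenMacaulayLocalRing_localization m.toIdeal
  haveI : Module.Finite (Localization.AtPrime m.toIdeal)
      (LocalizedModule m.toIdeal.primeCompl C) :=
    Module.Finite.of_isLocalizedModule m.toIdeal.primeCompl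
      (LocalizedModule.mkLinearMap m.toIdeal.primeCompl C)
  obtain ⟨hinj, -, hCM, -⟩ := Groth.Agent.S7700.result (Localization.AtPrime m.toIdeal) n hdim
    (LocalizedModule m.toIdeal.primeCompl E') f hf (LocalizedModule m.toIdeal.primeCompl C) eK
  refine ⟨hCM, (2 * n + 1) + n + 1, ?_⟩
  refine Groth.Agent.Lib.Helper39.GlobalInjDim.hasInjectiveDimensionLT_of_bassNum R C (2 * n + 1) n
    hn.le ?_
  intro p hp i hi
  haveI hcp : (Ideal.homogeneousCore 𝒜 p).toIdeal.IsPrime := hp.homogeneousCore
  have hle : (Ideal.homogeneousCore 𝒜 p).toIdeal ≤ m.toIdeal := by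
    have := Groth.Agent.Lib.Helper39.GrStarLocal.le_of_ne_top hm (Ideal.homogeneousCore 𝒜 p) (by
      intro h
      apply hcp.ne_top
      rw [h, HomogeneousIdeal.toIdeal_top])
    exact this
  have hne : p.map (Ideal.Quotient.mk (Ideal.homogeneousCore 𝒜 p).toIdeal) ≠ ⊤ := by
    have hker : RingHom.ker (Ideal.Quotient.mk (Ideal.homogeneousCore 𝒜 p).toIdeal) ≤ p := by
      rw [Ideal.mk_ker]
      exact Ideal.toIdeal_homogeneousCore_le 𝒜 p
    exact (Ideal.map_isPrime_of_surjective Ideal.Quotient.mk_surjective hker).ne_top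
  have hht : ((p.map (Ideal.Quotient.mk (Ideal.homogeneousCore 𝒜 p).toIdeal)).height : WithBot ℕ∞)
      ≤ (n : WithBot ℕ∞) := by
    rw [← hn]
    exact (Ideal.height_le_ringKrullDim_of_ne_top hne).trans (ringKrullDim_quotient_le _)
  have hht' : (p.map (Ideal.Quotient.mk (Ideal.homogeneousCore 𝒜 p).toIdeal)).height ≤ (n : ℕ∞) := by
    exact_mod_cast hht
  obtain ⟨d, hd⟩ : ∃ d : ℕ,
      (p.map (Ideal.Quotient.mk (Ideal.homogeneousCore 𝒜 p).toIdeal)).height = d := by
    have hfin : (p.map (Ideal.Quotient.mk (Ideal.homogeneousCore 𝒜 p).toIdeal)).height ≠ ⊤ := by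
      intro h
      rw [h] at hht'
      exact absurd hht' (by simp)
    exact ⟨_, (ENat.coe_toNat hfin).symm⟩
  have hdn : d ≤ n := by
    rw [hd] at hht'
    exact_mod_cast hht'
  obtain ⟨-, h2⟩ := Groth.Agent.S13233.result R 𝒜 C 𝒞 p d hd
  rw [h2 i (by omega)]
  exact Groth.Agent.Lib.Helper39.GlobalInjDim.bassNum_eq_zero_of_le R m.toIdeal C n hinj
    (Ideal.homogeneousCore 𝒜 p).toIdeal hle (i - d) (by omega)

end Groth.Agent.S18639
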