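import Groth.Statements.S18651
import Groth.Agent.Lib.Helper39.GrWeightedPoly
import Groth.Agent.Lib.Helper39.GrCanonShift
import Groth.Agent.Lib.Helper39.GrAInvRegSeq
import Groth.Agent.Lib.Helper82.CMPoly
import Groth.Agent.Lib.Helper24.GorenFibre
import Groth.Agent.S18638

set_option autoImplicit false
universe u
attribute [local instance] MvPolynomial.weightedGradedAlgebra
open GrLC

namespace Groth.Agent.S18651

/-- Let k be a field and R = k[X_1, …, X_N] the polynomial ring with deg X_i = w_i > 0. Then the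
canonical module of R is K_R = X_1 X_2 ⋯ X_N · R ≅ R(−d) with d = w_1 + ⋯ + w_N; stated here as:
there is a bijective R-linear map R → K_R homogeneous of degree d. The canonical module is
represented by a finitely generated graded module C together with a homogeneous isomorphism from
Hom_R(C, E) onto H^N_m(R), where m = R_+, E is a *injective envelope of R/m and H^N_m(R) is computed
from a *injective resolution of R in the graded category; by graded Matlis duality this says exactly
that C ≅ K_R as graded modules. -/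
theorem result (k : Type u) [Field k] (N : ℕ) (w : Fin N → ℤ) (hw : ∀ i, 0 < w i) (m : HomogeneousIdeal (MvPolynomial.weightedHomogeneousSubmodule k w)) (hm : GrLC.IsStarLocal (MvPolynomial.weightedHomogeneousSubmodule k w) m) (hmsp : m.toIdeal = Ideal.span (⋃ n ∈ Set.Ioi (0 : ℤ), (MvPolynomial.weightedHomogeneousSubmodule k w n : Set (MvPolynomial (Fin N) k)))) (I : GrLC.StarInjRes (MvPolynomial.weightedHomogeneousSubmodule k w) (MvPolynomial.weightedHomogeneousSubmodule k w)) (E' : Type u) [AddCommGroup E'] [Module (MvPolynomial (Fin N) k) E'] (𝓔 : ℤ → AddSubgroup E') [DirectSum.Decomposition 𝓔] [SetLike.GradedSMul (MvPolynomial.weightedHomogeneousSubmodule k w) 𝓔] (e : (MvPolynomial (Fin N) k ⧸ m.toIdeal) →ₗ[MvPolynomial (Fin N) k] E') (he : GrLC.IsStarInjHull (MvPolynomial.weightedHomogeneousSubmodule k w) (GrLC.quotGr (MvPolynomial.weightedHomogeneousSubmodule k w) m) 𝓔 e) (C : Type u) [AddCommGroup C] [Module (MvPolynomial (Fin N) k) C] (𝒞 : ℤ → AddSubgroup C) [DirectSum.Decomposition 𝒞] [SetLike.GradedSMul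 (MvPolynomial.weightedHomogeneousSubmodule k w) 𝒞] (hC : GrLC.IsStarCanonical (MvPolynomial.weightedHomogeneousSubmodule k w) 𝒞 𝓔 m N I) : ∃ f : MvPolynomial (Fin N) k →ₗ[MvPolynomial (Fin N) k] C, Function.Bijective f ∧ GrLC.IsGrHomDeg (MvPolynomial.weightedHomogeneousSubmodule k w) 𝒞 f ((Finset.univ : Finset (Fin N)).sum w) := by
  classical
  open Groth.Agent.Lib.Helper39 Groth.Agent.Lib.Helper39.GrBridge
    Groth.Agent.Lib.Helper39.GrWeightedPoly in
  letI iGR : GradedRing (toSub (MvPolynomial.weightedHomogeneousSubmodule k w)) :=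
    toSubGradedRing (MvPolynomial.weightedHomogeneousSubmodule k w)
  haveI iE : SetLike.GradedSMul (toSub (MvPolynomial.weightedHomogeneousSubmodule k w)) 𝓔 :=
    gsmul_toSub (MvPolynomial.weightedHomogeneousSubmodule k w) 𝓔
  haveI iC : SetLike.GradedSMul (toSub (MvPolynomial.weightedHomogeneousSubmodule k w)) 𝒞 :=
    gsmul_toSub (MvPolynomial.weightedHomogeneousSubmodule k w) 𝒞
  have hposs := GrWeightedPoly.hpos k N w hw
  have h0s := GrWeightedPoly.h0 k N w hw
  have hms := isStarLocal_conv hm
  have hmsps : (convIdeal m).toIdeal = Ideal.span (⋃ n ∈ Set.Ioi (0 : ℤ),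
      (toSub (MvPolynomial.weightedHomogeneousSubmodule k w) n : Set (MvPolynomial (Fin N) k))) :=
    hmsp
  have hes := isStarInjHull_conv 𝓔 e he
  have hCs := isStarCanonical_conv 𝓔 𝒞 N I hC
  haveI hreg : IsRegularRing (MvPolynomial (Fin N) k) := MvPolynomial.isRegularRing_of_isRegularRing _
  haveI hCM : LocCoh.IsCohenMacaulayRing (MvPolynomial (Fin N) k) :=
    Groth.Agent.Lib.Helper82.CMPoly.isCohenMacaulayRing_of_isRegularRing _
  have hG : LocCoh.IsGorensteinRing (MvPolynomial (Fin N) k) :=
    Groth.Agent.Lib.Helper24.isGorensteinRing_of_isRegularRing _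
  have hdim : ringKrullDim (MvPolynomial (Fin N) k) = N := by
    rw [MvPolynomial.ringKrullDim_of_isNoetherianRing, ringKrullDim_eq_zero_of_field]
    simp
  obtain ⟨a, f, hf, hfd⟩ := (Groth.Agent.S18638.result (MvPolynomial (Fin N) k)
    (toSub (MvPolynomial.weightedHomogeneousSubmodule k w)) hposs h0s (convIdeal m) hms hmsps N hdim
    (convRes I) E' 𝓔 e hes C 𝒞 hCs).mp hG
  have h1 := GrCanonShift.endDeg_eq_neg (toSub (MvPolynomial.weightedHomogeneousSubmodule k w))
    hposs h0s 𝒞 a f hf hfd (convIdeal m) hmsps 𝓔 e hes N (convRes I) hCs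
  have hXm : ∀ i, (MvPolynomial.X i : MvPolynomial (Fin N) k) ∈ (convIdeal m).toIdeal := by
    intro i
    rw [hmsps]
    apply Ideal.subset_span
    simp only [Set.mem_iUnion, Set.mem_Ioi]
    exact ⟨w i, hw i, X_mem k N w i⟩
  have hspan : Ideal.span (Set.range (MvPolynomial.X : Fin N → MvPolynomial (Fin N) k)) =
      (convIdeal m).toIdeal := by
    rw [hmsps]
    exact span_range_X k N w hw
  have h2 := GrAInvRegSeq.endDeg_eq_neg_sum (MvPolynomial (Fin N) k)
    (toSub (MvPolynomial.weightedHomogeneousSubmodule k w)) hposs h0s (convIdeal m) hms hmsps N hdim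
    (convRes I) MvPolynomial.X w (X_mem k N w) hXm (isRegular_X k N) hspan
  rw [h1] at h2
  have ha : a = (Finset.univ : Finset (Fin N)).sum w := by
    have := WithTop.coe_injective (WithBot.coe_injective h2)
    omega
  rw [← ha]
  exact ⟨f, hf, fun g x hx => hfd g x hx⟩

end Groth.Agent.S18651
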