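import Groth.Statements.S18656
import Groth.Agent.Lib.Helper39.GrTop

set_option autoImplicit false
universe u
open GrLC

namespace Groth.Agent.S18656

/-- Let R be a graded ring defined over a field k = R_0, generated over k by R_1, of dimension r ≥ 1,
and let a(R) be its a-invariant. Then the homogeneous piece H^r_m(R)_n is nonzero for every n ≤
a(R). Here 'graded ring defined over a field' means R = ⊕_{n ≥ 0} R_n is Noetherian with R_0 a
field, and m = R_+ is its unique graded maximal ideal. The a-invariant a(R) is the largest degree in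
which the graded local cohomology H^n_m(R) (n = dim R, m = R_+), computed from a *injective
resolution of R in the graded category, is nonzero. -/
theorem result (R : Type u) [CommRing R] [IsNoetherianRing R] (𝒜 : ℤ → AddSubgroup R) [GradedRing 𝒜] (hpos : ∀ n : ℤ, n < 0 → 𝒜 n = ⊥) (h0 : IsField (GrLC.deg0 𝒜)) (m : HomogeneousIdeal 𝒜) (hm : GrLC.IsStarLocal 𝒜 m) (hmsp : m.toIdeal = Ideal.span (⋃ n ∈ Set.Ioi (0 : ℤ), (𝒜 n : Set R))) (hstd : Ideal.span (⋃ n ∈ Set.Ioi (0 : ℤ), (𝒜 n : Set R)) = Ideal.span ((𝒜 1 : AddSubgroup R) : Set R)) (r : ℕ) (hr : ringKrullDim R = r) (h1 : 1 ≤ r) (I : GrLC.StarInjRes 𝒜 𝒜) (a : ℤ) (ha : GrLC.endDeg (I.Hgr m r) = ((a : WithTop ℤ) : WithBot (WithTop ℤ))) (n : ℤ) (hn : n ≤ a) : I.Hcomp m r n ≠ ⊥ := by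
  classical
  open Groth.Agent.Lib.Helper39 Groth.Agent.Lib.Helper39.GrLes Groth.Agent.Lib.Helper39.GrTop in
  -- finitely many generators of degree one
  have hmfg : (Ideal.span ((𝒜 1 : AddSubgroup R) : Set R)).FG := IsNoetherian.noetherian _
  obtain ⟨T, hTsub, hTspan⟩ := (Submodule.fg_span_iff_fg_span_finset_subset _).mp hmfg
  let l : List (R × ℤ) := T.toList.map (fun x => (x, (1 : ℤ)))
  have hl : ∀ p ∈ l, p.1 ∈ 𝒜 p.2 := by
    intro p hp
    obtain ⟨x, hx, rfl⟩ := List.mem_map.mp hp
    exact hTsub (Finset.mem_toList.mp hx)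
  have hl2 : ∀ p ∈ l, p.2 = 1 := by
    intro p hp
    obtain ⟨x, hx, rfl⟩ := List.mem_map.mp hp
    rfl
  have hlspan : Ideal.ofList (l.map Prod.fst) = m.toIdeal := by
    rw [hmsp, hstd]
    have : l.map Prod.fst = T.toList := by
      simp [l, List.map_map, Function.comp_def]
    rw [this, Ideal.ofList]
    have h2 : {x | x ∈ T.toList} = (T : Set R) := by
      ext x
      simp
    rw [h2]
    exact hTspan.symm
  -- the quotient R/m
  have hmh : (m.toIdeal : Submodule R R).IsHomogeneous 𝒜 := m.isHomogeneous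
  letI decN := quotDecomposition 𝒜 (m.toIdeal : Submodule R R) hmh
  haveI smulN := quotGradedSMul 𝒜 𝒜 (m.toIdeal : Submodule R R)
  obtain ⟨F⟩ := Groth.Agent.S13215.result R 𝒜 (R ⧸ (m.toIdeal : Submodule R R))
    (quotPieces 𝒜 (m.toIdeal : Submodule R R))
  have htor : ∀ x : R ⧸ (m.toIdeal : Submodule R R), ∃ k : ℕ, ∀ s ∈ m.toIdeal ^ k, s • x = 0 := by
    intro x
    refine ⟨1, fun s hs => ?_⟩
    rw [pow_one] at hs
    obtain ⟨y, rfl⟩ := Submodule.mkQ_surjective _ x
    rw [← map_smul, Submodule.mkQ_apply, Submodule.Quotient.mk_eq_zero]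
    exact Ideal.mul_mem_right y _ hs
  haveI hsub : Subsingleton (F.H m r) := H_subsingleton_of_torsion m F htor r h1
  have hvan : VanishAll m (r + 1) := fun P _ _ 𝓟 _ _ G =>
    H_subsingleton_of_dim m (le_of_eq hr) G (r + 1) (Nat.lt_succ_self r)
  have hkerπ : LinearMap.ker (m.toIdeal : Submodule R R).mkQ =
      Ideal.ofList (l.map Prod.fst) • (⊤ : Submodule R R) := by
    rw [Submodule.ker_mkQ, hlspan]
    simp
  have key : ∀ h : ℤ, I.Hgr m r (h + -1) = ⊥ → I.Hgr m r h = ⊥ := by
    intro h hh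
    rw [eq_bot_iff]
    intro y hy
    have := top_ker_list m r hvan l hl R 𝒜 (R ⧸ (m.toIdeal : Submodule R R))
      (quotPieces 𝒜 (m.toIdeal : Submodule R R)) (m.toIdeal : Submodule R R).mkQ
      (Submodule.mkQ_surjective _) (isGrHom_mkQ 𝒜 _) hkerπ I F h y hy (Subsingleton.elim _ _)
    have hle : AddSubgroup.closure {w | ∃ p ∈ l, ∃ z ∈ I.Hgr m r (h + -p.2), w = p.1 • z} ≤ ⊥ := by
      rw [AddSubgroup.closure_le]
      rintro _ ⟨p, hp, z, hz, rfl⟩
      rw [hl2 p hp, hh] at hz
      rw [AddSubgroup.mem_bot.mp hz, smul_zero]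
      exact zero_mem _
    exact hle this
  -- the top degree is attained
  have hane : I.Hgr m r a ≠ ⊥ := by
    intro hbot
    have hle : GrLC.endDeg (I.Hgr m r) ≤ (((a - 1 : ℤ) : WithTop ℤ) : WithBot (WithTop ℤ)) := by
      unfold GrLC.endDeg
      apply iSup_le
      intro j
      apply iSup_le
      intro hj
      have hja : (((j : ℤ) : WithTop ℤ) : WithBot (WithTop ℤ)) ≤ ((a : WithTop ℤ) : WithBot (WithTop ℤ)) := by
        rw [← ha]
        unfold GrLC.endDeg
        exact le_iSup₂_of_le j hj le_rfl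
      have hja' : j ≤ a := by exact_mod_cast hja
      have hne : j ≠ a := fun h => hj (h ▸ hbot)
      have : j ≤ a - 1 := by omega
      exact_mod_cast this
    rw [ha] at hle
    have : a ≤ a - 1 := by exact_mod_cast hle
    omega
  intro hbot
  have hbot' : I.Hgr m r n = ⊥ := by
    rw [eq_bot_iff]
    intro y hy
    have hy' : y ∈ I.Hcomp m r n := hy
    rw [hbot, Submodule.mem_bot] at hy'
    rw [hy']
    exact zero_mem _
  have hall : ∀ j : ℕ, I.Hgr m r (n + j) = ⊥ := by
    intro j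
    induction j with
    | zero => simpa using hbot'
    | succ j ih =>
      apply key
      have : n + ((j + 1 : ℕ) : ℤ) + -1 = n + j := by push_cast; ring
      rw [this]
      exact ih
  apply hane
  have := hall (a - n).toNat
  rwa [Int.toNat_of_nonneg (by omega), add_sub_cancel] at this

end Groth.Agent.S18656
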