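import Groth.Statements.S18657
import Groth.Agent.Lib.Helper39.GrCanonLoc
import Groth.Agent.Lib.Helper39.GrPieceDual
import Groth.Agent.Lib.Helper39.GrCanonDim2
import Groth.Agent.Lib.Helper39.GrRegSeqDepth
import Groth.Agent.Lib.Helper39.GrAInvPoly4
import Groth.Agent.S7700

set_option autoImplicit false
universe u
open GrLC

namespace Groth.Agent.S18657

/-- Let R be a graded ring defined over a field k = R_0 which is Cohen–Macaulay and generated over k by
R_1, of dimension r ≥ 2, with canonical module K_R and a-invariant a(R). Then dim_k (K_R)_n ≥ 2 for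
every n > −a(R). Here 'graded ring defined over a field' means R = ⊕_{n ≥ 0} R_n is Noetherian with
R_0 a field (so R is finitely generated over R_0), m = R_+ is its unique graded maximal ideal and n
= dim R; the canonical module K_R (the graded dual of H^n_m(R)) is represented by a finitely
generated graded module C together with a homogeneous isomorphism from Hom_R(C, E) onto H^n_m(R),
where E is a *injective envelope of R/m and H^n_m(R) is computed from a *injective resolution of R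
in the graded category; by graded Matlis duality this says exactly that C ≅ K_R as graded modules.
The a-invariant a(R) is the largest degree in which the graded local cohomology H^n_m(R) (n = dim R,
m = R_+), computed from a *injective resolution of R in the graded category, is nonzero. -/
theorem result (R : Type u) [CommRing R] [LocCoh.IsCohenMacaulayRing R] (𝒜 : ℤ → AddSubgroup R) [GradedRing 𝒜] (hpos : ∀ n : ℤ, n < 0 → 𝒜 n = ⊥) (h0 : IsField (GrLC.deg0 𝒜)) (m : HomogeneousIdeal 𝒜) (hm : GrLC.IsStarLocal 𝒜 m) (hmsp : m.toIdeal = Ideal.span (⋃ n ∈ Set.Ioi (0 : ℤ), (𝒜 n : Set R))) (hstd : Ideal.span (⋃ n ∈ Set.Ioi (0 : ℤ), (𝒜 n : Set R)) = Ideal.span ((𝒜 1 : AddSubgroup R) : Set R)) (n : ℕ) (hn : ringKrullDim R = n) (h2 : 2 ≤ n) (I : GrLC.StarInjRes 𝒜 𝒜) (a : ℤ) (ha : GrLC.endDeg (I.Hgr m n) = ((a : WithTop ℤ) : WithBot (WithTop ℤ))) (E' : Type u) [AddCommGroup E'] [Module R E'] (𝓔 : ℤ → AddSubgroup E') [DirectSum.Decomposition 𝓔]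 [SetLike.GradedSMul 𝒜 𝓔] (e : (R ⧸ m.toIdeal) →ₗ[R] E') (he : GrLC.IsStarInjHull 𝒜 (GrLC.quotGr 𝒜 m) 𝓔 e) (C : Type u) [AddCommGroup C] [Module R C] (𝒞 : ℤ → AddSubgroup C) [DirectSum.Decomposition 𝒞] [SetLike.GradedSMul 𝒜 𝒞] (hC : GrLC.IsStarCanonical 𝒜 𝒞 𝓔 m n I) (j : ℤ) (hj : -a < j) : 2 ≤ Module.finrank (GrLC.deg0 𝒜) (GrLC.comp 𝒜 𝒞 j) := by
  classical
  open Groth.Agent.Lib.Helper39 Groth.Agent.Lib.Helper39.GrPieceDual
    Groth.Agent.Lib.Helper39.GrCanonDim2 Groth.Agent.Lib.Helper39.GrAInvPoly in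
  haveI hmax : m.toIdeal.IsMaximal := Groth.Agent.Lib.Helper39.GrStarLocal.isMaximal hpos hm
  obtain ⟨hdim, hfin, f, hf, ⟨eK⟩⟩ := Groth.Agent.Lib.Helper39.GrCanonLoc.bridge R 𝒜 hpos h0 m hm n hn
    I E' 𝓔 e he C 𝒞 hC
  haveI := hfin
  haveI : LocCoh.IsCohenMacaulayLocalRing (Localization.AtPrime m.toIdeal) :=
    LocCoh.IsCohenMacaulayRing.isCohenMacaulayLocalRing_localization m.toIdeal
  haveI : Module.Finite (Localization.AtPrime m.toIdeal)
      (LocalizedModule m.toIdeal.primeCompl C) :=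
    Module.Finite.of_isLocalizedModule m.toIdeal.primeCompl
      (LocalizedModule.mkLinearMap m.toIdeal.primeCompl C)
  obtain ⟨-, -, hCM, hsd⟩ := Groth.Agent.S7700.result (Localization.AtPrime m.toIdeal) n hdim
    (LocalizedModule m.toIdeal.primeCompl E') f hf (LocalizedModule m.toIdeal.primeCompl C) eK
  have hdepth : 2 ≤ LocCoh.depth (Localization.AtPrime m.toIdeal)
      (LocalizedModule m.toIdeal.primeCompl C) := by
    have h3 : ((LocCoh.depth (Localization.AtPrime m.toIdeal)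
        (LocalizedModule m.toIdeal.primeCompl C) : ℕ∞) : WithBot ℕ∞) = (n : WithBot ℕ∞) := by
      rw [← hsd]
      exact hCM.symm
    have h4 : LocCoh.depth (Localization.AtPrime m.toIdeal)
        (LocalizedModule m.toIdeal.primeCompl C) = (n : ℕ∞) := by exact_mod_cast h3
    rw [h4]
    exact_mod_cast h2
  obtain ⟨d, x, d', y, hd, hx, hd', hy, hxreg, hyreg⟩ :=
    Groth.Agent.Lib.Helper39.GrRegSeqDepth.exists_regular_pair 𝒜 hpos m.toIdeal hmsp C hdepth
  obtain ⟨hfinC, φ, hφ⟩ := hC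
  have key := piece_ne_bot_iff 𝒜 hpos m hmsp 𝓔 e he.toIsStarEss 𝒞 h0 he.starInj (I.Hgr m n)
    (Hgr_isInternal I m n) φ hφ
  have hane : I.Hgr m n a ≠ ⊥ := ne_bot_of_endDeg _ a ha
  have hCa : 𝒞 (-a) ≠ ⊥ := (key a).mp hane
  have hlow : ∀ i, i < -a → 𝒞 i = ⊥ := by
    intro i hi
    by_contra hne
    have h5 : I.Hgr m n (-i) ≠ ⊥ := (key (-i)).mpr (by rwa [neg_neg])
    exact h5 (eq_bot_of_endDeg _ a ha (-i) (by omega))
  obtain ⟨u0, hu0, hu0ne⟩ : ∃ u ∈ 𝒞 (-a), u ≠ 0 := by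
    by_contra h
    push Not at h
    apply hCa
    rw [eq_bot_iff]
    intro u hu
    exact AddSubgroup.mem_bot.mpr (h u hu)
  letI : Field (GrLC.deg0 𝒜) := h0.toField
  haveI : Module.Finite (GrLC.deg0 𝒜) (GrLC.comp 𝒜 𝒞 j) :=
    Groth.Agent.Lib.Helper39.GrPieces.finite_comp 𝒜 𝒞 hpos j
  by_contra hlt
  have hle : Module.finrank (GrLC.deg0 𝒜) (GrLC.comp 𝒜 𝒞 j) ≤ 1 := by omega
  obtain ⟨v0, hv0⟩ := finrank_le_one_iff.mp hle
  refine false_of_one_dim 𝒜 hpos hstd 𝒞 h0 a j hj hlow hu0 hu0ne hd hx hd' hy hxreg hyreg (v0 : C) ?_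
  intro v hv
  obtain ⟨c, hc⟩ := hv0 ⟨v, hv⟩
  exact ⟨c, c.2, (congrArg Subtype.val hc).symm⟩

end Groth.Agent.S18657
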