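import Groth.Statements.S18660
import Groth.Agent.Lib.Helper87.SegGor4
import Groth.Agent.Lib.Helper87.SegreDim
import Groth.Agent.S0341

set_option autoImplicit false
universe u
open scoped TensorProduct
open GrSegre

namespace Groth.Agent.S18660

/-- Let R and S be standard graded rings defined over a field k which are Cohen–Macaulay of dimension 1,
and assume R is not a polynomial ring over k. If the Segre product T = R # S is a Gorenstein ring,
then S is a polynomial ring k[T] and R is a Gorenstein ring. Here a graded ring defined over k is a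
commutative k-algebra of finite type, graded in nonnegative degrees by k-subspaces with degree-zero
part k·1, standard graded when its irrelevant ideal is generated by the degree-one piece;
'polynomial ring' means k-algebra isomorphic to k[T]; the Segre product T = ⊕_n R_n ⊗_k S_n is
presented abstractly as a graded k-algebra T with an injective k-algebra homomorphism ψ : T → R ⊗_k
S carrying T_n onto the k-span of the elementary tensors a ⊗ b with a ∈ R_n, b ∈ S_n. -/
theorem result (k : Type u) [Field k] (R : Type u) [CommRing R] [Algebra k R] (𝒜 : ℤ → Submodule k R) [GradedAlgebra 𝒜] (hposR : ∀ n : ℤ, n < 0 → 𝒜 n = ⊥) (h0R : 𝒜 0 = Submodule.span k {(1 : R)}) [Algebra.FiniteType k R] (S : Type u) [CommRing S] [Algebra k S] (ℬ : ℤ → Submodule k S) [GradedAlgebra ℬ] (hposS : ∀ n : ℤ, n < 0 → ℬ n = ⊥) (h0S : ℬ 0 = Submodule.span k {(1 : S)}) [Algebra.FiniteType k S] (T : Type u) [CommRing T] [Algebra k T] (𝒯 : ℤ → Submodule k T) [GradedAlgebra 𝒯] (ψ :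 T →ₐ[k] TensorProduct k R S) (hψ : Function.Injective ψ) (hdegT : ∀ n : ℤ, (𝒯 n).map ψ.toLinearMap = Submodule.span k {x : TensorProduct k R S | ∃ a ∈ 𝒜 n, ∃ b ∈ ℬ n, x = a ⊗ₜ[k] b}) [LocCoh.IsCohenMacaulayRing R] [LocCoh.IsCohenMacaulayRing S] (hstdR : Ideal.span (⋃ n ∈ Set.Ioi (0 : ℤ), (𝒜 n : Set R)) = Ideal.span ((𝒜 1 : Submodule k R) : Set R)) (hstdS : Ideal.span (⋃ n ∈ Set.Ioi (0 : ℤ), (ℬ n : Set S)) = Ideal.span ((ℬ 1 : Submodule k S) : Set S)) (hr : ringKrullDim R = 1) (hs : ringKrullDim S = 1) (hR : IsEmpty (R ≃ₐ[k] Polynomial k)) [LocCoh.IsGorensteinRing T] : Nonempty (S ≃ₐ[k] Polynomial k) ∧ LocCoh.IsGorensteinRing R := by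
  classical
  haveI : Nontrivial R := by
    by_contra hcon
    rw [not_nontrivial_iff_subsingleton] at hcon
    rw [ringKrullDim_eq_bot_of_subsingleton] at hr
    exact absurd hr (by decide)
  haveI : Nontrivial S := by
    by_contra hcon
    rw [not_nontrivial_iff_subsingleton] at hcon
    rw [ringKrullDim_eq_bot_of_subsingleton] at hs
    exact absurd hs (by decide)
  haveI : IsNoetherianRing R := Algebra.FiniteType.isNoetherianRing k R
  haveI : IsNoetherianRing S := Algebra.FiniteType.isNoetherianRing k S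
  haveI : Nontrivial (TensorProduct k R S) :=
    Algebra.TensorProduct.nontrivial_of_algebraMap_injective_of_flat_left (R := k) (A := R)
      (B := S) (algebraMap k S).injective
  haveI : Nontrivial T := by
    by_contra hcon
    rw [not_nontrivial_iff_subsingleton] at hcon
    have h1 : ψ 1 = ψ 0 := congrArg ψ (Subsingleton.elim _ _)
    rw [map_one, map_zero] at h1
    exact one_ne_zero h1
  have hT : GrSeg.IsSegreRing 𝒜 ℬ 𝒯 ψ := ⟨hψ, hdegT⟩
  haveI : IsNoetherianRing T :=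
    Groth.Agent.Lib.Helper99.isNoetherianRing_segre 𝒜 ℬ 𝒯 hposR ψ hT.1 hT.2
  have hposT := Groth.Agent.Lib.Helper87.SegOne.segre_pos 𝒜 ℬ 𝒯 ψ hT hposR
  have h0T : 𝒯 0 = Submodule.span k {(1 : T)} :=
    Groth.Agent.Lib.Helper87.SegOne.segre_zero 𝒜 ℬ 𝒯 ψ hT h0R h0S
  have hstdT := Groth.Agent.Lib.Helper87.SegGor.segre_std 𝒜 ℬ 𝒯 ψ hT hstdR hstdS
  have hr' : ringKrullDim R = ((1 : ℕ) : WithBot ℕ∞) := by rw [hr]; rfl
  have hs' : ringKrullDim S = ((1 : ℕ) : WithBot ℕ∞) := by rw [hs]; rfl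
  have hdimT : ringKrullDim T = 1 := by
    have h1 := Groth.Agent.Lib.Helper87.ringKrullDim_segreProduct k R 𝒜 hposR h0R S ℬ hposS h0S T 𝒯
      ψ hψ hdegT 1 1 hr' hs' le_rfl le_rfl
    rw [h1]
    rfl
  haveI : LocCoh.IsCohenMacaulayRing T :=
    { isCohenMacaulayLocalRing_localization := fun p _ => by
        haveI := LocCoh.IsGorensteinRing.isGorensteinLocalRing_localization (A := T) p
        exact Groth.Agent.S0341.result _ }
  -- resolutions and irrelevant ideals
  obtain ⟨IR⟩ := Groth.Agent.Lib.Helper39.GrSegCanon.exists_selfRes 𝒜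
  obtain ⟨IS⟩ := Groth.Agent.Lib.Helper39.GrSegCanon.exists_selfRes ℬ
  obtain ⟨IT⟩ := Groth.Agent.Lib.Helper39.GrSegCanon.exists_selfRes 𝒯
  let mR : HomogeneousIdeal 𝒜 := Groth.Agent.Lib.Helper87.Kun.irrH 𝒜
  let mS : HomogeneousIdeal ℬ := Groth.Agent.Lib.Helper87.Kun.irrH ℬ
  let mT : HomogeneousIdeal 𝒯 := Groth.Agent.Lib.Helper87.Kun.irrH 𝒯
  obtain ⟨eR, hR1, NR, hR2⟩ := Groth.Agent.Lib.Helper87.SegGor.pkg 𝒜 hposR h0R hstdR mR rfl IR hr
  obtain ⟨eS, hS1, NS, hS2⟩ := Groth.Agent.Lib.Helper87.SegGor.pkg ℬ hposS h0S hstdS mS rfl IS hs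
  obtain ⟨eT, hT1, NT, hT2⟩ := Groth.Agent.Lib.Helper87.SegGor.pkg 𝒯 hposT h0T hstdT mT rfl IT hdimT
  obtain ⟨a, ha⟩ := Groth.Agent.Lib.Helper87.SegGor.finrank_Hcomp_of_gorenstein 𝒯 hposT h0T mT rfl
    IT hdimT
  have hprod : ∀ n : ℤ, Module.finrank k (𝒯 n) =
      Module.finrank k (𝒜 n) * Module.finrank k (ℬ n) :=
    Groth.Agent.Lib.Helper87.SegGor.finrank_piece 𝒜 ℬ 𝒯 ψ hT
  have heT : eT = eR * eS := by
    have h1 := hT2 (max NR (max NS NT)) (le_max_of_le_right (le_max_right _ _))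
    have h2 := hR2 (max NR (max NS NT)) (le_max_left _ _)
    have h3 := hS2 (max NR (max NS NT)) (le_max_of_le_right (le_max_left _ _))
    rw [← h1, hprod, h2, h3]
  have hR0 : Module.finrank k (𝒜 0) = 1 := by
    rw [h0R]
    exact finrank_span_singleton one_ne_zero
  have h2 : 2 ≤ eR := by
    by_contra hlt
    push Not at hlt
    have h1e : 1 ≤ eR := by
      have := hR1 0
      omega
    have he1 : eR = 1 := by omega
    obtain ⟨x, -, -, hbij⟩ := Groth.Agent.Lib.Helper87.SegGor.exists_poly 𝒜 hposR h0R hstdR NR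
      (fun n hn => by rw [hR2 n hn, he1]) (by
        have := hR1 1
        omega)
    exact hR.false (AlgEquiv.ofBijective _ hbij).symm
  have heS1 : eS = 1 := Groth.Agent.Lib.Helper87.SegGor.numerics
    (fun n => Module.finrank k (𝒜 n)) (fun n => Module.finrank k (ℬ n))
    (fun n => Module.finrank (GrLC.deg0 𝒜) (IR.Hcomp mR 1 n))
    (fun n => Module.finrank (GrLC.deg0 ℬ) (IS.Hcomp mS 1 n))
    (fun n => Module.finrank (GrLC.deg0 𝒯) (IT.Hcomp mT 1 n)) eR eS hR1 hS1
    (fun n => by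
      show Module.finrank k (𝒜 n) * Module.finrank k (ℬ n) +
        Module.finrank (GrLC.deg0 𝒯) (IT.Hcomp mT 1 n) = eR * eS
      rw [← hprod, hT1, heT]) a ha h2
  obtain ⟨x, hx, hpiece, hbij⟩ := Groth.Agent.Lib.Helper87.SegGor.exists_poly ℬ hposS h0S hstdS NS
    (fun n hn => by rw [hS2 n hn, heS1]) (by
      have := hS1 1
      omega)
  refine ⟨⟨(AlgEquiv.ofBijective _ hbij).symm⟩, ?_⟩
  -- `T ≃ R`
  let E : Polynomial k ≃ₐ[k] S := AlgEquiv.ofBijective (Polynomial.aeval x) hbij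
  let ε : S →ₐ[k] k := (Polynomial.aeval (1 : k)).comp E.symm.toAlgHom
  have hε : ε x = 1 := by
    have h1 : E Polynomial.X = x := by
      show Polynomial.aeval x Polynomial.X = x
      exact Polynomial.aeval_X x
    have h2 : E.symm x = Polynomial.X := by rw [← h1, AlgEquiv.symm_apply_apply]
    show Polynomial.aeval (1 : k) (E.symm x) = 1
    rw [h2, Polynomial.aeval_X]
  obtain ⟨Θ⟩ := Groth.Agent.Lib.Helper87.SegGor.exists_algEquiv_of_poly 𝒜 ℬ 𝒯 ψ hT hx hpiece ε hε
    hposR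
  exact Groth.Agent.Lib.Helper87.SegGor.isGorensteinRing_of_ringEquiv Θ.toRingEquiv inferInstance

end Groth.Agent.S18660
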