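import Groth.Statements.S18662
import Groth.Agent.S13224
import Groth.Agent.Lib.Helper60.LocalCohDepth

set_option autoImplicit false
universe u
open GrLC CategoryTheory

namespace Groth.Agent.S18662

/-- Let R be a graded ring defined over a field, m = R_+, and M a graded R-module satisfying condition
(**): there is a homogeneous f ∈ R_d with d > 0 such that multiplication by f on M is bijective.
Then H^q_m(M) = 0 for every integer q (graded local cohomology, computed from any *injective
resolution of M in the graded category). Here 'graded ring defined over a field' means R = ⊕_{n ≥ 0}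
R_n is Noetherian with R_0 a field, and m = R_+ is its unique graded maximal ideal. -/
theorem result (R : Type u) [CommRing R] [IsNoetherianRing R] (𝒜 : ℤ → AddSubgroup R) [GradedRing 𝒜] (hpos : ∀ n : ℤ, n < 0 → 𝒜 n = ⊥) (h0 : IsField (GrLC.deg0 𝒜)) (m : HomogeneousIdeal 𝒜) (hm : GrLC.IsStarLocal 𝒜 m) (hmsp : m.toIdeal = Ideal.span (⋃ n ∈ Set.Ioi (0 : ℤ), (𝒜 n : Set R))) (M : Type u) [AddCommGroup M] [Module R M] (ℳ : ℤ → AddSubgroup M) [DirectSum.Decomposition ℳ] [SetLike.GradedSMul 𝒜 ℳ] (d : ℤ) (hd : 0 < d) (f : R) (hf : f ∈ 𝒜 d) (hbij : Function.Bijective (fun x : M => f • x)) (E : GrLC.StarInjRes 𝒜 ℳ) (q : ℕ) : Subsingleton (E.H m q) := by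
  classical
  obtain ⟨e⟩ := Groth.Agent.S13224.result R 𝒜 m M ℳ E q
  have hfm : f ∈ m.toIdeal := by
    rw [hmsp]
    apply Ideal.subset_span
    simp only [Set.mem_iUnion, Set.mem_Ioi, SetLike.mem_coe, exists_prop]
    exact ⟨d, hd, hf⟩
  -- multiplication by f is an isomorphism on M, hence on local cohomology
  have hiso : IsIso (f • 𝟙 (ModuleCat.of R M)) := by
    rw [ConcreteCategory.isIso_iff_bijective]
    convert hbij using 1
    funext x
    rfl
  have hiso' : IsIso ((localCohomology m.toIdeal q).map (f • 𝟙 (ModuleCat.of R M))) := inferInstance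
  have hinj : Function.Injective ((localCohomology m.toIdeal q).map (f • 𝟙 (ModuleCat.of R M))).hom :=
    ((ConcreteCategory.isIso_iff_bijective _).mp hiso').1
  have hzero : ∀ y : (localCohomology m.toIdeal q).obj (ModuleCat.of R M), y = 0 := by
    intro y
    apply Groth.Agent.Lib.Helper60.lc_eq_zero_of_smul_injective m.toIdeal q (ModuleCat.of R M) f hfm
    intro y hy
    apply hinj
    rw [Groth.Agent.Lib.Helper60.lcMap_smul_id, hy, map_zero]
  refine ⟨fun x y => ?_⟩
  apply e.injective
  rw [hzero (e x), hzero (e y)]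

end Groth.Agent.S18662
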