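import Groth.Statements.S1867
-- import your own Groth.Agent.* helpers here
import Groth.Agent.Lib.Helper55.DimFormulaIrred
import Groth.Agent.Lib.Helper55.FibreDimFormula
import Groth.Agent.Lib.Helper13.Chevalley

set_option autoImplicit false
universe u
open CategoryTheory AlgebraicGeometry
open Cyc

namespace Groth.Agent.S1867

/-- Let f : X → Y be a proper morphism of integral schemes with Y locally Noetherian, mapping the
generic point to the generic point with finite extension of function fields, and let ξ be a point of
Y whose local ring has dimension 1. Then f is finite over some open neighbourhood of ξ. -/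
theorem result (X Y : Scheme.{u}) [IsIntegral X] [IsIntegral Y] [IsLocallyNoetherian Y] (f : X ⟶ Y) [IsProper f] (hgen : f (genericPoint X) = genericPoint Y) (hfin : (f.residueFieldMap (genericPoint X)).hom.Finite) (ξ : Y) (hξ : ringKrullDim (Y.presheaf.stalk ξ) = 1) : ∃ V : Y.Opens, ξ ∈ V ∧ IsFinite (f ∣_ V) := by
  classical
  open Groth.Agent.Lib.Helper55 in
  have hqf : ∀ x, f x = ξ → f.QuasiFiniteAt x := by
    intro x hx
    rw [Groth.Agent.Lib.Helper13.Chevalley.quasiFiniteAt_iff_fibreDimAt_eq_zero]
    obtain ⟨z, hfz, hzx, -, n, hn, hFx, -, -⟩ := exists_maximal_point_fiber f x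
    rw [hFx]
    -- the generic residue extension is algebraic
    have hm : @Algebra.trdeg (Y.residueField (f (genericPoint ↥X))) (X.residueField (genericPoint ↥X))
        _ _ (f.residueFieldMap (genericPoint ↥X)).hom.toAlgebra = ((0 : ℕ) : Cardinal) := by
      let _ := (f.residueFieldMap (genericPoint ↥X)).hom.toAlgebra
      have hfin' : Module.Finite (Y.residueField (f (genericPoint ↥X)))
          (X.residueField (genericPoint ↥X)) := hfin
      have : Algebra.IsAlgebraic (Y.residueField (f (genericPoint ↥X)))
          (X.residueField (genericPoint ↥X)) := Algebra.IsAlgebraic.of_finite _ _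
      rw [Nat.cast_zero]
      exact _root_.trdeg_eq_zero
    have key := ringKrullDim_stalk_add_trdeg_le_of_irreducible f z n 0 hn hm
    have hfzξ : f z = ξ := hfz.trans hx
    rw [hfzξ, hξ] at key
    -- `z` is not the generic point
    have hz_ne : ringKrullDim (X.presheaf.stalk z) ≠ 0 := by
      intro h0
      have h1 : genericPoint ↥X = z :=
        eq_of_specializes_of_ringKrullDim_stalk_eq_zero z (genericPoint ↥X) h0
          ((genericPoint_spec ↥X).specializes (Set.mem_univ _))
      have h2 : ξ = genericPoint ↥Y := by rw [← hfzξ, ← h1, hgen]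
      have h3 : ringKrullDim (Y.presheaf.stalk ξ) = 0 := by
        rw [h2]
        exact ringKrullDim_eq_zero_of_field (Y.functionField)
      rw [hξ] at h3
      exact one_ne_zero h3
    have hX : IsLocallyNoetherian X := LocallyOfFiniteType.isLocallyNoetherian f
    obtain ⟨k, hk⟩ := exists_nat_ringKrullDim_stalk (X := X) z
    rw [hk] at key hz_ne
    have hk0 : k ≠ 0 := by
      intro h
      apply hz_ne
      rw [h]
      rfl
    have h4 : ((k + n : ℕ) : WithBot ℕ∞) ≤ ((1 : ℕ) : WithBot ℕ∞) := by
      have : ((1 : ℕ) : WithBot ℕ∞) = (1 : WithBot ℕ∞) + ((0 : ℕ) : WithBot ℕ∞) := by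
        simp
      rw [this]
      push_cast
      exact key
    have h5 : k + n ≤ 1 := by exact_mod_cast h4
    have hn0 : n = 0 := by omega
    rw [hn0]
    rfl
  let V : Y.Opens := ⟨_, (f.isClosedMap _ f.quasiFiniteLocus.isOpen.isClosed_compl).isOpen_compl⟩
  refine ⟨V, ?_, ?_⟩
  · suffices ∀ x, f x = ξ → f.QuasiFiniteAt x by simpa [V, not_imp_not]
    exact hqf
  · suffices LocallyQuasiFinite (f ∣_ V) from .of_isProper_of_locallyQuasiFinite _
    rw [← Scheme.Hom.quasiFiniteLocus_eq_top_iff]
    ext x
    have : f.QuasiFiniteAt ((f ⁻¹ᵁ V).ι x) := by by_contra H; exact x.2 ⟨_, H, by simp⟩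
    rw [← Scheme.Hom.quasiFiniteAt_comp_iff_of_isOpenImmersion, ← morphismRestrict_ι,
      Scheme.Hom.quasiFiniteAt_comp_iff] at this
    simpa

end Groth.Agent.S1867
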