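import Groth.Statements.S18672
import Groth.Agent.Lib.Helper99.GrStd
-- import your own Groth.Agent.* helpers here

set_option autoImplicit false
universe u
open GrLC

namespace Groth.Agent.S18672

/-- Let R be a graded ring defined over a field k = R_0 which is Cohen–Macaulay and generated over k by
R_1 (the standing hypotheses of this section; only generation in degree one is used), q ≥ 1, R' =
R^(q), and a an integer. Then the Veronese submodule [R(a)]^(q) = ⊕_j R_{a+jq} is generated over R'
by its piece R(a)_n = R_{a+n}, where n is the smallest multiple of q with n + a ≥ 0. Here 'graded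
ring defined over a field' means R = ⊕_{n ≥ 0} R_n is Noetherian with R_0 a field, and m = R_+ is
its unique graded maximal ideal. The Veronese subring R^(q) = ⊕_j R_{jq}, regraded by (R^(q))_j =
R_{jq}, is presented abstractly as a ℤ-graded ring R' with an injective ring homomorphism φ : R' → R
carrying R'_j onto R_{jq} for every j. The module [R(a)]^(q) is presented as a graded R'-module M'
with an injective additive map g : M' → R, semilinear over φ, carrying M'_j onto R_{a+jq} for every
j; with n = j₀q, the conclusion is that the R'-span of M'_{j₀} is all of M'. -/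
theorem result (R : Type u) [CommRing R] [LocCoh.IsCohenMacaulayRing R] (𝒜 : ℤ → AddSubgroup R) [GradedRing 𝒜] (hpos : ∀ n : ℤ, n < 0 → 𝒜 n = ⊥) (h0 : IsField (GrLC.deg0 𝒜)) (hstd : Ideal.span (⋃ n ∈ Set.Ioi (0 : ℤ), (𝒜 n : Set R)) = Ideal.span ((𝒜 1 : AddSubgroup R) : Set R)) (q : ℕ) (hq : 0 < q) (R' : Type u) [CommRing R'] (𝒜' : ℤ → AddSubgroup R') [GradedRing 𝒜'] (φ : R' →+* R) (hφ : Function.Injective φ) (hdeg : ∀ j : ℤ, (𝒜' j).map (φ : R' →+ R) = 𝒜 (j * q)) (a : ℤ) (M' : Type u) [AddCommGroup M'] [Module R' M'] (ℳ' : ℤ → AddSubgroup M') [DirectSum.Decomposition ℳ'] [SetLike.GradedSMul 𝒜' ℳ'] (g : M' →ₛₗ[φ] R) (hg : Function.Injective g) (hgdeg : ∀ j : ℤ, (ℳ' j).map (g : M' →+ R) = 𝒜 (a + j * q)) (j₀ : ℤ) (hj₀ : 0 ≤ a + j₀ * q) (hj₀' : a + (j₀ - 1) * q < 0) : Submodule.span R' ((ℳ' j₀ : AddSubgroup M') : Set M') = ⊤ := by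
  open Groth.Agent.Lib.Helper99 in
  open DirectSum in
  classical
  have hq' : (0 : ℤ) < (q : ℤ) := by exact_mod_cast hq
  rw [eq_top_iff]
  intro x _
  clear ‹x ∈ (⊤ : Submodule R' M')›
  induction x using DirectSum.Decomposition.inductionOn ℳ' with
  | zero => exact Submodule.zero_mem _
  | @homogeneous j x =>
    by_cases hj : j < j₀
    · have h1 : g (x : M') ∈ 𝒜 (a + j * q) := by
        rw [← hgdeg j]
        exact ⟨x, x.2, rfl⟩
      have hneg : a + j * q < 0 := by
        have h2 : 0 ≤ (j₀ - 1 - j) * (q : ℤ) := mul_nonneg (by omega) hq'.le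
        nlinarith
      rw [hpos _ hneg] at h1
      have h2 : g (x : M') = 0 := AddSubgroup.mem_bot.mp h1
      have h3 : (x : M') = 0 := hg (by rw [h2, map_zero])
      rw [h3]
      exact Submodule.zero_mem _
    · push Not at hj
      obtain ⟨i, hi⟩ := Int.eq_ofNat_of_zero_le
        (mul_nonneg (by omega) hq'.le : (0 : ℤ) ≤ (j - j₀) * (q : ℤ))
      have h1 : g (x : M') ∈ 𝒜 ((i : ℤ) + (a + j₀ * q)) := by
        rw [← hi, show (j - j₀) * (q : ℤ) + (a + j₀ * q) = a + j * q by ring, ← hgdeg j]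
        exact ⟨x, x.2, rfl⟩
      have hcl := mem_closure_mul 𝒜 hstd i hj₀ h1
      have hK : AddSubgroup.closure {z : R | ∃ r ∈ 𝒜 (i : ℤ), ∃ y ∈ 𝒜 (a + j₀ * q), z = r * y} ≤
          ((Submodule.span R' ((ℳ' j₀ : AddSubgroup M') : Set M')).toAddSubgroup).map
            (g : M' →+ R) := by
        refine (AddSubgroup.closure_le _).mpr ?_
        rintro z ⟨r, hr, y, hy, rfl⟩
        rw [← hi, ← hdeg (j - j₀)] at hr
        obtain ⟨r', hr', rfl⟩ := hr
        rw [← hgdeg j₀] at hy
        obtain ⟨y', hy', rfl⟩ := hy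
        refine ⟨r' • y', Submodule.smul_mem _ r' (Submodule.subset_span hy'), ?_⟩
        simp
      obtain ⟨x', hx'N, hx'⟩ := hK hcl
      have hx'' : g x' = g (x : M') := hx'
      rw [← hg hx'']
      exact hx'N
  | add x y hx hy => exact Submodule.add_mem _ hx hy

end Groth.Agent.S18672
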