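import Mathlib
import Groth.Statements.S18675

set_option autoImplicit false
open GLat

namespace Groth.Agent.S18675



section perm
variable (G : Type*) [Group G] (X : Type*) [MulAction G X]

/-- permutation representation on functions `X → ℤ`. -/
def permRep : Representation ℤ G (X → ℤ) where
  toFun g := LinearMap.funLeft ℤ ℤ (fun x => g⁻¹ • x)
  map_one' := by
    ext v x
    simp [LinearMap.funLeft_apply]
  map_mul' g h := by
    ext v x
    simp [LinearMap.funLeft_apply, mul_smul]

variable {G X}

@[simp] lemma permRep_apply (g : G) (v : X → ℤ) (x : X) : permRep G X g v x = v (g⁻¹ • x) := rfl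

lemma permRep_single [DecidableEq X] (g : G) (x : X) :
    permRep G X g (Pi.single x 1) = Pi.single (g • x) 1 := by
  ext y
  simp only [permRep_apply, Pi.single_apply]
  by_cases h : y = g • x
  · subst h; simp
  · rw [if_neg h, if_neg]
    intro h'
    apply h
    rw [← h', smul_inv_smul]

theorem perm_H1 (H : Subgroup G) [Finite H] (f : H → X → ℤ)
    (hf : ∀ a b : H, f (a * b) = f a + permRep G X (a : G) (f b)) :
    ∃ m : X → ℤ, ∀ a : H, f a = permRep G X (a : G) m - m := by
  classical
  cases nonempty_fintype H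
  set M : X → ℤ := ∑ b : H, f b with hMdef
  have hM : ∀ h : H, permRep G X (h : G) M = M - (Fintype.card H : ℤ) • f h := by
    intro h
    rw [hMdef, map_sum]
    have : ∀ b : H, permRep G X (h : G) (f b) = f (h * b) - f h := fun b => by rw [hf]; abel
    simp_rw [this]
    rw [Finset.sum_sub_distrib, Finset.sum_const, Finset.card_univ]
    congr 1
    exact Fintype.sum_equiv (Equiv.mulLeft h) _ _ (fun b => rfl)
  let rep : X → X := fun x => (Quotient.out (Quotient.mk (MulAction.orbitRel H X) x))
  have hrep : ∀ x, ∃ a : H, x = (a : G) • rep x := by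
    intro x
    have h1 : (MulAction.orbitRel H X).r (rep x) x := Quotient.mk_out (s := MulAction.orbitRel H X) x
    obtain ⟨a, ha⟩ := h1
    refine ⟨a⁻¹, ?_⟩
    have : (a : G) • x = rep x := ha
    rw [← this]
    simp
  have hrep' : ∀ (a : H) x, rep ((a : G) • x) = rep x := by
    intro a x
    show Quotient.out _ = Quotient.out _
    congr 1
    apply Quotient.sound
    exact ⟨a, rfl⟩
  set c : X → ℤ := fun x => M (rep x) with hcdef
  have hc : ∀ h : H, permRep G X (h : G) c = c := by
    intro h
    ext x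
    simp only [permRep_apply, hcdef]
    have := hrep' h⁻¹ x
    simp only [Subgroup.coe_inv] at this
    rw [this]
  have hdiv : ∀ x, (Fintype.card H : ℤ) ∣ M x - c x := by
    intro x
    obtain ⟨a, ha⟩ := hrep x
    have h1 := congrFun (hM a⁻¹) (rep x)
    simp only [permRep_apply, Subgroup.coe_inv, inv_inv, Pi.sub_apply, Pi.smul_apply] at h1
    rw [← ha] at h1
    refine ⟨- f a⁻¹ (rep x), ?_⟩
    simp only [hcdef]
    rw [h1]
    simp
  set m' : X → ℤ := fun x => (M x - c x) / (Fintype.card H : ℤ) with hm'def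
  have hm' : (Fintype.card H : ℤ) • m' = M - c := by
    ext x
    simp only [Pi.smul_apply, hm'def, Pi.sub_apply, smul_eq_mul]
    exact Int.mul_ediv_cancel' (hdiv x)
  have hcard : (Fintype.card H : ℤ) ≠ 0 := by
    have : 0 < Fintype.card H := Fintype.card_pos
    exact_mod_cast this.ne'
  refine ⟨-m', fun h => ?_⟩
  have key : (Fintype.card H : ℤ) • f h = (Fintype.card H : ℤ) • (m' - permRep G X (h : G) m') := by
    rw [smul_sub, ← map_smul, hm', map_sub, hc, hM]
    abel
  have := smul_right_injective (X → ℤ) hcard key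
  rw [this, map_neg]
  abel

end perm

section main
variable {G : Type} [Group G] [Finite G] {A : Type} [AddCommGroup A] [Module.Finite ℤ A]
  (ρ : Representation ℤ G A)

/-- invariants under a subgroup -/
def invts (H : Subgroup G) : Submodule ℤ A where
  carrier := {y | ∀ a : H, ρ (a : G) y = y}
  add_mem' := by
    intro x y hx hy a
    rw [map_add, hx a, hy a]
  zero_mem' := by
    intro a
    simp
  smul_mem' := by
    intro n x hx a
    rw [map_smul, hx a]

lemma invts_fg (H : Subgroup G) : (invts ρ H).FG := IsNoetherian.noetherian _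

noncomputable def T (H : Subgroup G) : Finset A := (invts_fg ρ H).choose

lemma T_span (H : Subgroup G) : Submodule.span ℤ (T ρ H : Set A) = invts ρ H :=
  (invts_fg ρ H).choose_spec

def S : Set A :=
  Set.range (fun p : (Σ H : Subgroup G, (T ρ H : Set A)) × G => ρ p.2 (p.1.2 : A))

lemma S_finite : (S ρ).Finite := Set.finite_range _

lemma S_stable (g : G) {s : A} (hs : s ∈ S ρ) : ρ g s ∈ S ρ := by
  obtain ⟨⟨⟨H, t⟩, g'⟩, rfl⟩ := hs
  exact ⟨⟨⟨H, t⟩, g * g'⟩, by simp [map_mul]⟩

lemma T_sub_S (H : Subgroup G) {t : A} (ht : t ∈ T ρ H) : t ∈ S ρ :=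
  ⟨⟨⟨H, ⟨t, ht⟩⟩, 1⟩, by simp⟩

noncomputable instance : Fintype (S ρ) := (S_finite ρ).fintype

instance actS : MulAction G (S ρ) where
  smul g s := ⟨ρ g s.1, S_stable ρ g s.2⟩
  one_smul s := Subtype.ext (by show ρ 1 s.1 = s.1; simp)
  mul_smul g h s := Subtype.ext (by show ρ (g * h) s.1 = ρ g (ρ h s.1); simp [map_mul])

lemma actS_coe (g : G) (s : S ρ) : ((g • s : S ρ) : A) = ρ g s.1 := rfl

/-- the covering map -/
noncomputable def piMap : (S ρ → ℤ) →ₗ[ℤ] A := Fintype.linearCombination ℤ (fun s : S ρ => (s : A))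

lemma piMap_apply (v : S ρ → ℤ) : piMap ρ v = ∑ s : S ρ, v s • (s : A) := by
  simp [piMap, Fintype.linearCombination_apply]

lemma piMap_equivariant : IsEquivariant (permRep G (S ρ)) ρ (piMap ρ) := by
  intro g v
  rw [piMap_apply, piMap_apply, map_sum]
  simp only [permRep_apply, map_smul]
  refine Fintype.sum_equiv (MulAction.toPerm g⁻¹) _ _ (fun s => ?_)
  simp only [MulAction.toPerm_apply]
  rw [← actS_coe ρ g (g⁻¹ • s), smul_inv_smul]

lemma piMap_single [DecidableEq (S ρ)] (s : S ρ) : piMap ρ (Pi.single s 1) = (s : A) := by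
  rw [piMap_apply, Finset.sum_eq_single s]
  · simp
  · intro b _ hb
    simp [Pi.single_apply, hb]
  · intro h
    exact absurd (Finset.mem_univ s) h

/-- every `H`-invariant element lifts to an `H`-invariant element of the permutation module -/
lemma exists_inv_lift (H : Subgroup G) (y : A) (hy : y ∈ invts ρ H) :
    ∃ v : S ρ → ℤ, (∀ a : H, permRep G (S ρ) (a : G) v = v) ∧ piMap ρ v = y := by
  classical
  rw [← T_span ρ H] at hy
  induction hy using Submodule.span_induction with
  | mem t ht =>
    have htinv : t ∈ invts ρ H := by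
      rw [← T_span ρ H]
      exact Submodule.subset_span ht
    refine ⟨Pi.single ⟨t, T_sub_S ρ H ht⟩ 1, fun a => ?_, piMap_single ρ _⟩
    rw [permRep_single]
    congr 1
    exact Subtype.ext (htinv a)
  | zero => exact ⟨0, fun a => by simp, by simp⟩
  | add x y _ _ hx hy =>
    obtain ⟨v, hv1, hv2⟩ := hx
    obtain ⟨w, hw1, hw2⟩ := hy
    exact ⟨v + w, fun a => by rw [map_add, hv1, hw1], by rw [map_add, hv2, hw2]⟩
  | smul n x _ hx =>
    obtain ⟨v, hv1, hv2⟩ := hx
    exact ⟨n • v, fun a => by rw [map_smul, hv1], by rw [map_smul, hv2]⟩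


lemma ker_stable (g : G) (v : S ρ → ℤ) (hv : v ∈ LinearMap.ker (piMap ρ)) :
    permRep G (S ρ) g v ∈ LinearMap.ker (piMap ρ) := by
  rw [LinearMap.mem_ker] at hv ⊢
  rw [piMap_equivariant ρ g v, hv, map_zero]

/-- the representation on the kernel -/
noncomputable def kerRep : Representation ℤ G (LinearMap.ker (piMap ρ)) where
  toFun g := (permRep G (S ρ) g).restrict (fun v hv => ker_stable ρ g v hv)
  map_one' := by
    ext v
    simp
  map_mul' g h := by
    ext v
    simp [map_mul]

lemma kerRep_coe (g : G) (v : LinearMap.ker (piMap ρ)) :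
    ((kerRep ρ g v : LinearMap.ker (piMap ρ)) : S ρ → ℤ) = permRep G (S ρ) g v.1 := rfl

lemma piMap_surjective : Function.Surjective (piMap ρ) := by
  intro y
  have hy : y ∈ invts ρ (⊥ : Subgroup G) := by
    rintro ⟨a, ha⟩
    rw [Subgroup.mem_bot] at ha
    subst ha
    simp
  obtain ⟨v, -, hv⟩ := exists_inv_lift ρ ⊥ y hy
  exact ⟨v, hv⟩

lemma isPermutation_permRep : IsPermutation (permRep G (S ρ)) := by
  classical
  refine ⟨S ρ, Pi.basisFun ℤ (S ρ), fun g s => ⟨g • s, ?_⟩⟩
  rw [Pi.basisFun_apply, Pi.basisFun_apply, permRep_single]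

lemma isCoflasque_kerRep : IsCoflasque (kerRep ρ) := by
  intro H f hf
  have hf' : ∀ a b : H, (f (a * b)).1 = (f a).1 + permRep G (S ρ) (a : G) (f b).1 := by
    intro a b
    rw [hf a b]
    rfl
  obtain ⟨m, hm⟩ := perm_H1 H (fun a => (f a).1) hf'
  -- π m is H-invariant
  have hinv : piMap ρ m ∈ invts ρ H := by
    intro a
    have h1 : piMap ρ (f a).1 = 0 := (f a).2
    rw [hm a, map_sub, piMap_equivariant ρ (a : G) m, sub_eq_zero] at h1
    exact h1
  obtain ⟨v, hv1, hv2⟩ := exists_inv_lift ρ H _ hinv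
  have hmem : m - v ∈ LinearMap.ker (piMap ρ) := by
    rw [LinearMap.mem_ker, map_sub, hv2, sub_self]
  refine ⟨⟨m - v, hmem⟩, fun a => ?_⟩
  apply Subtype.ext
  show (f a).1 = permRep G (S ρ) (a : G) (m - v) - (m - v)
  rw [hm a, map_sub, hv1 a]
  abel

theorem main : ∃ (Q : Type) (_ : AddCommGroup Q) (P : Type) (_ : AddCommGroup P)
      (_ : Module.Finite ℤ Q) (_ : Module.Free ℤ Q) (_ : Module.Finite ℤ P) (_ : Module.Free ℤ P)
      (σ : Representation ℤ G Q) (τ : Representation ℤ G P) (i : Q →ₗ[ℤ] P) (π : P →ₗ[ℤ] A),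
      GLat.IsEquivariant σ τ i ∧ GLat.IsEquivariant τ ρ π ∧ Function.Injective i ∧ Function.Surjective π ∧
      LinearMap.range i = LinearMap.ker π ∧ GLat.IsPermutation τ ∧ GLat.IsCoflasque σ := by
  refine ⟨LinearMap.ker (piMap ρ), inferInstance, (S ρ → ℤ), inferInstance, inferInstance,
    inferInstance, inferInstance, inferInstance, kerRep ρ, permRep G (S ρ),
    (LinearMap.ker (piMap ρ)).subtype, piMap ρ, ?_, piMap_equivariant ρ,
    Subtype.val_injective, piMap_surjective ρ, Submodule.range_subtype _,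
    isPermutation_permRep ρ, isCoflasque_kerRep ρ⟩
  intro g v
  rfl

end main

/-- For a finite group G and a finitely generated G-module A there is an exact sequence 0 → Q → P → A →
0 of finitely generated G-modules with P a permutation lattice and Q a coflasque lattice; here
rendered by equivariant ℤ-linear maps i : Q → P injective, π : P → A surjective, with range i = ker
π. -/
theorem result (G : Type) [Group G] [Finite G]
    (A : Type) [AddCommGroup A] [Module.Finite ℤ A] (ρ : Representation ℤ G A) :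
    ∃ (Q : Type) (_ : AddCommGroup Q) (P : Type) (_ : AddCommGroup P)
      (_ : Module.Finite ℤ Q) (_ : Module.Free ℤ Q) (_ : Module.Finite ℤ P) (_ : Module.Free ℤ P)
      (σ : Representation ℤ G Q) (τ : Representation ℤ G P) (i : Q →ₗ[ℤ] P) (π : P →ₗ[ℤ] A),
      GLat.IsEquivariant σ τ i ∧ GLat.IsEquivariant τ ρ π ∧ Function.Injective i ∧ Function.Surjective π ∧
      LinearMap.range i = LinearMap.ker π ∧ GLat.IsPermutation τ ∧ GLat.IsCoflasque σ := by
  exact main ρ

end Groth.Agent.S18675
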