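import Groth.Statements.S1868
-- import your own Groth.Agent.* helpers here
import Groth.Agent.Lib.Helper85.IntMult.FiniteRank

set_option autoImplicit false
universe u
open CategoryTheory AlgebraicGeometry
open Cyc

namespace Groth.Agent.S1868

/-- Let f : X → Y be finite locally free of constant degree d (finite, flat, rank function constantly
d). Then f has relative dimension 0 and for every k-cycle α on Y, f_*(f^*α) = d·α (for any cycle
f^*α on X with the flat-pullback coefficients). Here a pair (X, δ) with Cyc.IsSetup plays the role
of a scheme locally of finite type over a fixed base with a dimension function (X locally Noetherian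
with universally catenary local rings, δ a dimension function), and Cyc.DeltaCompat records that the
dimension function upstairs is the induced one. -/
theorem result (X Y : Scheme.{u}) (δX : X → ℤ) (δY : Y → ℤ) (hX : Cyc.IsSetup X δX) (hY : Cyc.IsSetup Y δY) (f : X ⟶ Y) [IsFinite f] [Flat f] (d : ℕ) (hd : ∀ y : Y, f.finrank y = d) (hδ : Cyc.DeltaCompat f δX δY) (k : ℤ) : Cyc.HasRelDim f 0 ∧ ∀ (α : AlgebraicCycle Y ℤ), α ∈ Cyc.Zk Y δY k → ∀ α' : AlgebraicCycle X ℤ, ⇑α' = Cyc.pullFun f δX δY 0 ⇑α → AlgebraicCycle.map f δX δY α' = d • α := by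
  classical
  refine ⟨?_, ?_⟩
  · intro y T hT
    have hdisc : DiscreteTopology ↥(f.fiber y) := inferInstance
    have h1 : topologicalKrullDim T ≤ topologicalKrullDim ↥(f.fiber y) :=
      topologicalKrullDim_subspace_le _ T
    have h2 : topologicalKrullDim ↥(f.fiber y) ≤ 0 :=
      topologicalKrullDim_zero_of_discreteTopology _
    obtain ⟨t, ht⟩ := hT.1.nonempty
    have hne : Nonempty (TopologicalSpace.IrreducibleCloseds T) :=
      ⟨⟨closure {⟨t, ht⟩}, isIrreducible_singleton.closure, isClosed_closure⟩⟩
    have h3 : 0 ≤ topologicalKrullDim T := Order.krullDim_nonneg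
    rw [Nat.cast_zero]
    exact le_antisymm (h1.trans h2) h3
  · intro α hα α' hα'
    ext η
    have hfinite : (f ⁻¹' {η}).Finite := f.finite_preimage_singleton η
    have hL : AlgebraicCycle.map f δX δY α' η =
        ∑ᶠ x ∈ f ⁻¹' {η}, α' x * ((AlgebraicCycle.mapCoeff f δX δY x : ℕ) : ℤ) := rfl
    rw [hL]
    have hterm : ∀ x ∈ (f ⁻¹' {η} : Set X),
        α' x * ((AlgebraicCycle.mapCoeff f δX δY x : ℕ) : ℤ) =
          α η * ((Groth.Agent.Lib.Helper85.FiniteRank.locDeg f x : ℕ) : ℤ) := by
      intro x hx
      have hfx : f x = η := hx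
      obtain ⟨n, hn, hδx⟩ := hδ x
      let _ := (f.residueFieldMap x).hom.toAlgebra
      by_cases hfin : Module.Finite (Y.residueField (f x)) (X.residueField x)
      · have halg : Algebra.IsAlgebraic (Y.residueField (f x)) (X.residueField x) :=
          Algebra.IsAlgebraic.of_finite _ _
        have h0 : Algebra.trdeg (Y.residueField (f x)) (X.residueField x) = 0 :=
          trdeg_eq_zero
        have hn0 : n = 0 := by
          have : ((n : ℕ) : Cardinal) = 0 := by rw [← hn]; exact h0
          exact_mod_cast this
        have hδeq : δX x = δY (f x) := by rw [hδx, hn0]; simp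
        have h1 : α' x = α (f x) * ((Module.length (X.presheaf.stalk x)
            (X.presheaf.stalk x ⧸ Ideal.map (f.stalkMap x).hom
              (IsLocalRing.maximalIdeal (Y.presheaf.stalk (f x))))).toNat : ℤ) := by
          have := congrFun hα' x
          rw [this]
          unfold Cyc.pullFun
          rw [if_pos (by rw [hδeq]; simp)]
        have h2 : AlgebraicCycle.mapCoeff f δX δY x = f.residueDegree x := by
          unfold AlgebraicCycle.mapCoeff
          rw [if_pos hδeq]
        rw [h1, h2, ← hfx]
        unfold Groth.Agent.Lib.Helper85.FiniteRank.locDeg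
        push_cast
        ring
      · have hdeg : f.residueDegree x = 0 := Module.finrank_of_not_finite hfin
        have h2 : AlgebraicCycle.mapCoeff f δX δY x = 0 := by
          unfold AlgebraicCycle.mapCoeff
          split_ifs
          · exact hdeg
          · rfl
        have h3 : Groth.Agent.Lib.Helper85.FiniteRank.locDeg f x = 0 := by
          unfold Groth.Agent.Lib.Helper85.FiniteRank.locDeg
          rw [hdeg, zero_mul]
        rw [h2, h3]
        simp
    rw [finsum_mem_congr rfl hterm, ← mul_finsum_mem' _ _ hfinite,
      ← Nat.cast_finsum_mem hfinite,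
      ← Groth.Agent.Lib.Helper85.FiniteRank.finrank_eq_finsum f η, hd η]
    simp [mul_comm]

end Groth.Agent.S1868
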