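import Mathlib
import Groth.Statements.S18686
import Groth.Agent.S18675

set_option autoImplicit false
open GLat

namespace Groth.Agent.S18686


/-- Projection onto a saturated submodule of a finitely generated `ℤ`-module. -/
theorem exists_proj {L : Type} [AddCommGroup L] [Module.Finite ℤ L] (B : Submodule ℤ L)
    (hB : ∀ (k : ℤ) (x : L), k ≠ 0 → k • x ∈ B → x ∈ B) :
    ∃ p : L →ₗ[ℤ] L, (∀ x, p x ∈ B) ∧ ∀ b ∈ B, p b = b := by
  have : Module.IsTorsionFree ℤ (L ⧸ B) := by
    refine Module.IsTorsionFree.of_smul_eq_zero fun r m h => ?_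
    induction m using Submodule.Quotient.induction_on with
    | H x =>
      by_cases hr : r = 0
      · exact Or.inl hr
      · right
        rw [← Submodule.Quotient.mk_smul, Submodule.Quotient.mk_eq_zero] at h
        exact (Submodule.Quotient.mk_eq_zero _).2 (hB r x hr h)
  obtain ⟨s, hs⟩ := Module.projective_lifting_property B.mkQ LinearMap.id
    (Submodule.mkQ_surjective B)
  refine ⟨LinearMap.id - s ∘ₗ B.mkQ, fun x => ?_, fun b hb => ?_⟩
  · rw [← Submodule.Quotient.mk_eq_zero B]
    have h1 := LinearMap.congr_fun hs (B.mkQ x)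
    simp only [LinearMap.comp_apply, LinearMap.id_apply, Submodule.mkQ_apply] at h1
    simp only [LinearMap.sub_apply, LinearMap.id_apply, LinearMap.comp_apply, Submodule.mkQ_apply,
      Submodule.Quotient.mk_sub, h1, sub_self]
  · have h0 : B.mkQ b = 0 := by
      rw [Submodule.mkQ_apply]; exact (Submodule.Quotient.mk_eq_zero B).2 hb
    simp only [LinearMap.sub_apply, LinearMap.id_apply, LinearMap.comp_apply, h0, map_zero,
      sub_zero]

/-- Extension of functionals from a saturated submodule. -/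
theorem exists_extension {L : Type} [AddCommGroup L] [Module.Finite ℤ L] (B : Submodule ℤ L)
    (hB : ∀ (k : ℤ) (x : L), k ≠ 0 → k • x ∈ B → x ∈ B) (θ : B →ₗ[ℤ] ℤ) :
    ∃ Θ : L →ₗ[ℤ] ℤ, ∀ (b : L) (hb : b ∈ B), Θ b = θ ⟨b, hb⟩ := by
  obtain ⟨p, hp1, hp2⟩ := exists_proj B hB
  refine ⟨θ ∘ₗ LinearMap.codRestrict B p hp1, fun b hb => ?_⟩
  simp only [LinearMap.comp_apply]
  congr 1
  exact Subtype.ext (hp2 b hb)

section dual

variable {G : Type} [Group G] {M : Type} [AddCommGroup M] (ρ : Representation ℤ G M)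

theorem dual_app (g : G) (φ : Module.Dual ℤ M) (m : M) : ρ.dual g φ m = φ (ρ g⁻¹ m) := rfl

theorem rho_mul_app (g h : G) (m : M) : ρ (g * h) m = ρ g (ρ h m) := by
  rw [map_mul, Module.End.mul_apply]

theorem rho_inv_app (g : G) (m : M) : ρ g⁻¹ (ρ g m) = m := by
  rw [← rho_mul_app, inv_mul_cancel, map_one, Module.End.one_apply]

theorem rho_app_inv (g : G) (m : M) : ρ g (ρ g⁻¹ m) = m := by
  rw [← rho_mul_app, mul_inv_cancel, map_one, Module.End.one_apply]

/-- The dual of a permutation lattice is a permutation lattice. -/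
theorem dual_permutation [Module.Finite ℤ M] (h : IsPermutation ρ) : IsPermutation ρ.dual := by
  classical
  obtain ⟨ι, b, hb⟩ := h
  have : Finite ι := Module.Finite.finite_basis b
  refine ⟨ι, b.dualBasis, fun g i => ?_⟩
  obtain ⟨j, hj⟩ := hb g i
  refine ⟨j, b.ext fun k => ?_⟩
  obtain ⟨k', hk'⟩ := hb g⁻¹ k
  rw [dual_app, hk', Module.Basis.dualBasis_apply_self, Module.Basis.dualBasis_apply_self]
  have : k' = i ↔ k = j := by
    constructor
    · rintro rfl
      apply b.injective
      rw [← hj, ← hk', rho_app_inv]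
    · rintro rfl
      apply b.injective
      rw [← hk', ← hj, rho_inv_app]
  simp [this]

end dual


section duality

variable {G : Type} [Group G] [Finite G] {M : Type} [AddCommGroup M]
  [Module.Finite ℤ M] [Module.Free ℤ M] (ρ : Representation ℤ G M)

/-- `H¹(H, M) = 0` for all `H` implies `Ĥ⁻¹(H, M^∨) = 0` for all `H`. -/
theorem dual_flasque_of_coflasque (h : IsCoflasque ρ) : IsFlasque ρ.dual := by
  classical
  intro H φ hφ
  haveI : Fintype H := Fintype.ofFinite H
  rw [finsum_eq_sum_of_fintype] at hφ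
  have hcard : (Fintype.card H : ℤ) ≠ 0 := by
    exact_mod_cast Fintype.card_ne_zero
  -- Step 1: φ vanishes on invariants
  have h1 : ∀ m : M, (∀ a : H, ρ (a : G) m = m) → φ m = 0 := by
    intro m hm
    have h2 := LinearMap.congr_fun hφ m
    rw [LinearMap.sum_apply] at h2
    have h3 : ∀ a : H, (ρ.dual (a : G) φ) m = φ m := by
      intro a
      rw [dual_app]
      have h4 := hm a⁻¹
      rw [Subgroup.coe_inv] at h4
      rw [h4]
    simp only [h3, Finset.sum_const, Finset.card_univ, LinearMap.zero_apply, nsmul_eq_mul] at h2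
    rcases mul_eq_zero.1 h2 with h5 | h5
    · exact absurd h5 hcard
    · exact h5
  -- Step 2: the coboundary map
  let d : M →ₗ[ℤ] (H → M) := LinearMap.pi (fun a => ρ (a : G) - LinearMap.id)
  have hd : ∀ (m : M) (a : H), d m a = ρ (a : G) m - m := fun m a => rfl
  have hker : LinearMap.ker d ≤ LinearMap.ker φ := by
    intro m hm
    rw [LinearMap.mem_ker] at hm ⊢
    refine h1 m fun a => ?_
    have := congrFun hm a
    rw [hd, Pi.zero_apply, sub_eq_zero] at this
    exact this
  let Φ : LinearMap.range d →ₗ[ℤ] ℤ :=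
    (LinearMap.ker d).liftQ φ hker ∘ₗ (LinearMap.quotKerEquivRange d).symm.toLinearMap
  have hΦ : ∀ (m : M) (hm : d m ∈ LinearMap.range d), Φ ⟨d m, hm⟩ = φ m := by
    intro m hm
    simp only [Φ, LinearMap.comp_apply, LinearEquiv.coe_coe]
    rw [LinearMap.quotKerEquivRange_symm_apply_image]
    rfl
  -- Step 3: range d is saturated
  have hsat : ∀ (k : ℤ) (x : H → M), k ≠ 0 → k • x ∈ LinearMap.range d → x ∈ LinearMap.range d := by
    intro k x hk hx
    obtain ⟨m, hm⟩ := hx
    have hx' : ∀ a : H, k • x a = ρ (a : G) m - m := fun a => by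
      rw [← hd, hm]; rfl
    have hcoc : ∀ a b : H, x (a * b) = x a + ρ (a : G) (x b) := by
      intro a b
      apply smul_right_injective M hk
      show k • x (a * b) = k • (x a + ρ (a : G) (x b))
      rw [smul_add, ← map_smul, hx', hx', hx', Subgroup.coe_mul, rho_mul_app, map_sub]
      abel
    obtain ⟨m', hm'⟩ := h H x hcoc
    exact ⟨m', funext fun a => by rw [hd, hm']⟩
  -- Step 4: extend
  obtain ⟨Ψ, hΨ⟩ := exists_extension (LinearMap.range d) hsat Φ
  have hφΨ : ∀ m, φ m = Ψ (d m) := fun m => by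
    rw [hΨ (d m) (LinearMap.mem_range_self d m), hΦ]
  -- Step 5
  let ψ : H → Module.Dual ℤ M := fun a => Ψ ∘ₗ LinearMap.single ℤ (fun _ : H => M) a
  have hφeq : φ = ∑ a : H, (ρ.dual ((a⁻¹ : H) : G) (ψ a) - ψ a) := by
    ext m
    rw [hφΨ, LinearMap.sum_apply]
    conv_lhs => rw [← Finset.univ_sum_single (d m)]
    rw [map_sum]
    refine Finset.sum_congr rfl fun a _ => ?_
    rw [LinearMap.sub_apply, dual_app, Subgroup.coe_inv, inv_inv, ← map_sub]
    show Ψ (Pi.single a (d m a)) = Ψ (Pi.single a (ρ (a : G) m - m))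
    rw [hd]
  rw [hφeq]
  exact Submodule.sum_mem _ fun a _ => Submodule.subset_span ⟨a⁻¹, ψ a, rfl⟩

/-- `Ĥ⁻¹(H, M) = 0` for all `H` implies `H¹(H, M^∨) = 0` for all `H`. -/
theorem dual_coflasque_of_flasque (h : IsFlasque ρ) : IsCoflasque ρ.dual := by
  classical
  intro H f hf
  haveI : Fintype H := Fintype.ofFinite H
  set n : ℤ := (Fintype.card H : ℤ) with hn
  have hn0 : n ≠ 0 := by
    rw [hn]; exact_mod_cast Fintype.card_ne_zero
  set S : Module.Dual ℤ M := ∑ b : H, f b with hS
  have key : ∀ a : H, n • f a = ρ.dual (a : G) (-S) - (-S) := by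
    intro a
    have e1 : ∑ b : H, f (a * b) = S :=
      Fintype.sum_equiv (Equiv.mulLeft a) _ _ (fun b => rfl)
    have e2 : ∑ b : H, f (a * b) = n • f a + ρ.dual (a : G) S := by
      simp only [hf, Finset.sum_add_distrib, Finset.sum_const, Finset.card_univ, hS, map_sum, hn,
        natCast_zsmul]
    rw [e1] at e2
    rw [map_neg, eq_sub_of_add_eq e2.symm]
    abel
  -- the norm
  let N : M →ₗ[ℤ] M := ∑ a : H, ρ (a : G)
  have hN : ∀ m, N m = ∑ a : H, ρ (a : G) m := fun m => by
    simp only [N, LinearMap.sum_apply]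
  have hNgen : ∀ (a : H) (y : M), ρ (a : G) y - y ∈ LinearMap.ker N := by
    intro a y
    rw [LinearMap.mem_ker, map_sub, sub_eq_zero, hN, hN]
    refine Fintype.sum_equiv (Equiv.mulRight a) _ _ (fun b => ?_)
    rw [Equiv.coe_mulRight, Subgroup.coe_mul, rho_mul_app]
  have hdiv' : ∀ m ∈ Submodule.span ℤ {x : M | ∃ (a : H) (y : M), x = ρ (a : G) y - y},
      n ∣ (-S) m := by
    intro m hm'
    induction hm' using Submodule.span_induction with
    | mem x hx =>
      obtain ⟨a, y, rfl⟩ := hx
      have e : (-S) (ρ (a : G) y - y) = (ρ.dual ((a⁻¹ : H) : G) (-S) - (-S)) y := by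
        rw [LinearMap.sub_apply, dual_app, Subgroup.coe_inv, inv_inv, map_sub]
      rw [e, ← key, LinearMap.smul_apply, smul_eq_mul]
      exact dvd_mul_right _ _
    | zero => simp
    | add x y _ _ hx hy =>
      rw [map_add]
      exact dvd_add hx hy
    | smul c x _ hx =>
      rw [map_smul, smul_eq_mul]
      exact Dvd.dvd.mul_left hx c
  have hdiv : ∀ m ∈ LinearMap.ker N, n ∣ (-S) m := by
    intro m hm
    refine hdiv' m (h H m ?_)
    rw [finsum_eq_sum_of_fintype, ← hN]
    exact hm
  -- divide by n on ker N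
  let θ : LinearMap.ker N →ₗ[ℤ] ℤ :=
    { toFun := fun k => (-S) (k : M) / n
      map_add' := fun a b => by
        show (-S) ((a + b : LinearMap.ker N) : M) / n = (-S) (a : M) / n + (-S) (b : M) / n
        rw [Submodule.coe_add, map_add]
        exact Int.add_ediv_of_dvd_left (hdiv a a.2)
      map_smul' := fun c a => by
        show (-S) ((c • a : LinearMap.ker N) : M) / n = c • ((-S) (a : M) / n)
        rw [Submodule.coe_smul, map_smul, smul_eq_mul, smul_eq_mul]
        exact Int.mul_ediv_assoc c (hdiv a a.2) }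
  have hθ : ∀ (m : M) (hm : m ∈ LinearMap.ker N), n * θ ⟨m, hm⟩ = (-S) m := fun m hm =>
    Int.mul_ediv_cancel' (hdiv m hm)
  have hsat : ∀ (k : ℤ) (x : M), k ≠ 0 → k • x ∈ LinearMap.ker N → x ∈ LinearMap.ker N := by
    intro k x hk hx
    rw [LinearMap.mem_ker] at hx ⊢
    rw [map_smul] at hx
    exact (smul_eq_zero.1 hx).resolve_left hk
  obtain ⟨Θ, hΘ⟩ := exists_extension (LinearMap.ker N) hsat θ
  -- ψ := -S - n • Θ is H-invariant
  have hinv : ∀ (a : H) (y : M), (-S - n • Θ) (ρ (a : G) y) = (-S - n • Θ) y := by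
    intro a y
    have h0 : (-S - n • Θ) (ρ (a : G) y - y) = 0 := by
      rw [LinearMap.sub_apply, LinearMap.smul_apply, hΘ _ (hNgen a y), smul_eq_mul, hθ, sub_self]
    rw [map_sub, sub_eq_zero] at h0
    exact h0
  refine ⟨Θ, fun a => ?_⟩
  apply smul_right_injective (Module.Dual ℤ M) hn0
  show n • f a = n • (ρ.dual (a : G) Θ - Θ)
  rw [key]
  have hdec : -S = (-S - n • Θ) + n • Θ := by abel
  have hinv' : ρ.dual (a : G) (-S - n • Θ) = -S - n • Θ := by
    ext y
    rw [dual_app]
    have := hinv a⁻¹ y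
    rw [Subgroup.coe_inv] at this
    exact this
  conv_lhs => rw [hdec, map_add, hinv', map_smul]
  rw [smul_sub]
  abel

end duality


section dualize

variable {G : Type} [Group G] {A X Y : Type} [AddCommGroup A] [Module.Finite ℤ A] [Module.Free ℤ A]
  [AddCommGroup X] [AddCommGroup Y]
  (ρ : Representation ℤ G A) (σ : Representation ℤ G X) (τ : Representation ℤ G Y)

/-- Dualizing a short exact sequence `0 → X → Y → A^∨ → 0` into `0 → A → Y^∨ → X^∨ → 0`. -/
theorem dualize (i : X →ₗ[ℤ] Y) (π : Y →ₗ[ℤ] Module.Dual ℤ A)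
    (hi : IsEquivariant σ τ i) (hπ : IsEquivariant τ ρ.dual π)
    (hinj : Function.Injective i) (hsurj : Function.Surjective π)
    (hex : LinearMap.range i = LinearMap.ker π) :
    ∃ (i' : A →ₗ[ℤ] Module.Dual ℤ Y) (π' : Module.Dual ℤ Y →ₗ[ℤ] Module.Dual ℤ X),
      IsEquivariant ρ τ.dual i' ∧ IsEquivariant τ.dual σ.dual π' ∧ Function.Injective i' ∧
      Function.Surjective π' ∧ LinearMap.range i' = LinearMap.ker π' := by
  obtain ⟨s, hs⟩ := Module.projective_lifting_property π LinearMap.id hsurj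
  have hs' : ∀ φ, π (s φ) = φ := fun φ => LinearMap.congr_fun hs φ
  have hexact : Function.Exact i π := by
    rw [LinearMap.exact_iff, hex]
  have htfae := (Function.Exact.split_tfae' hexact).out 0 1 rfl rfl
  obtain ⟨-, r, hr⟩ := htfae.1 ⟨hinj, s, hs⟩
  have hr' : ∀ x, r (i x) = x := fun x => LinearMap.congr_fun hr x
  have hπi : ∀ x, π (i x) = 0 := fun x => by
    have : i x ∈ LinearMap.ker π := by rw [← hex]; exact LinearMap.mem_range_self i x
    exact this
  refine ⟨π.flip, i.dualMap, ?_, ?_, ?_, ?_, ?_⟩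
  · intro g a
    ext y
    rw [dual_app, LinearMap.flip_apply, LinearMap.flip_apply, hπ, dual_app, inv_inv]
  · intro g ψ
    ext x
    rw [dual_app, LinearMap.dualMap_apply, LinearMap.dualMap_apply, dual_app, hi]
  · rw [injective_iff_map_eq_zero]
    intro a ha
    rw [← Module.forall_dual_apply_eq_zero_iff ℤ a]
    intro φ
    obtain ⟨y, rfl⟩ := hsurj φ
    have := LinearMap.congr_fun ha y
    rw [LinearMap.flip_apply] at this
    exact this
  · intro θ
    refine ⟨θ ∘ₗ r, ?_⟩
    ext x
    rw [LinearMap.dualMap_apply, LinearMap.comp_apply, hr']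
  · ext ψ
    rw [LinearMap.mem_ker]
    constructor
    · rintro ⟨a, rfl⟩
      ext x
      rw [LinearMap.dualMap_apply, LinearMap.flip_apply, hπi]
      rfl
    · intro hψ
      have hψ' : ∀ x, ψ (i x) = 0 := fun x => LinearMap.congr_fun hψ x
      refine ⟨(Module.evalEquiv ℤ A).symm (ψ ∘ₗ s), ?_⟩
      ext y
      rw [LinearMap.flip_apply, Module.apply_evalEquiv_symm_apply, LinearMap.comp_apply]
      have hy : y - s (π y) ∈ LinearMap.range i := by
        rw [hex, LinearMap.mem_ker, map_sub, hs', sub_self]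
      obtain ⟨x, hx⟩ := hy
      have := hψ' x
      rw [hx, map_sub, sub_eq_zero] at this
      exact this.symm

end dualize

/-- S18686: flasque resolution of a lattice. -/
theorem flasque_resolution (G : Type) [Group G] [Finite G]
    (A : Type) [AddCommGroup A] [Module.Finite ℤ A] [Module.Free ℤ A] (ρ : Representation ℤ G A) :
    ∃ (P : Type) (_ : AddCommGroup P) (F : Type) (_ : AddCommGroup F)
      (_ : Module.Finite ℤ P) (_ : Module.Free ℤ P) (_ : Module.Finite ℤ F) (_ : Module.Free ℤ F)
      (σ : Representation ℤ G P) (τ : Representation ℤ G F) (i : A →ₗ[ℤ] P) (π : P →ₗ[ℤ] F),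
      GLat.IsEquivariant ρ σ i ∧ GLat.IsEquivariant σ τ π ∧ Function.Injective i ∧ Function.Surjective π ∧
      LinearMap.range i = LinearMap.ker π ∧ GLat.IsPermutation σ ∧ GLat.IsFlasque τ := by
  obtain ⟨Q, _, P, _, _, _, _, _, σ, τ, i, π, hi, hπ, hinj, hsurj, hex, hperm, hcof⟩ :=
    Groth.Agent.S18675.main (ρ.dual)
  obtain ⟨i', π', h1, h2, h3, h4, h5⟩ := dualize ρ σ τ i π hi hπ hinj hsurj hex
  exact ⟨Module.Dual ℤ P, inferInstance, Module.Dual ℤ Q, inferInstance, inferInstance,
    inferInstance, inferInstance, inferInstance, τ.dual, σ.dual, i', π', h1, h2, h3, h4, h5,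
    dual_permutation τ hperm, dual_flasque_of_coflasque σ hcof⟩


/-- For a finite group G and a G-lattice A (finitely generated and free over ℤ) there is an exact
sequence 0 → A → P → F → 0 of G-lattices with P a permutation lattice and F flasque (a flasque
resolution of A); rendered by equivariant ℤ-linear maps i : A → P injective, π : P → F surjective,
with range i = ker π. -/
theorem result (G : Type) [Group G] [Finite G]
    (A : Type) [AddCommGroup A] [Module.Finite ℤ A] [Module.Free ℤ A] (ρ : Representation ℤ G A) :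
    ∃ (P : Type) (_ : AddCommGroup P) (F : Type) (_ : AddCommGroup F)
      (_ : Module.Finite ℤ P) (_ : Module.Free ℤ P) (_ : Module.Finite ℤ F) (_ : Module.Free ℤ F)
      (σ : Representation ℤ G P) (τ : Representation ℤ G F) (i : A →ₗ[ℤ] P) (π : P →ₗ[ℤ] F),
      GLat.IsEquivariant ρ σ i ∧ GLat.IsEquivariant σ τ π ∧ Function.Injective i ∧ Function.Surjective π ∧
      LinearMap.range i = LinearMap.ker π ∧ GLat.IsPermutation σ ∧ GLat.IsFlasque τ := by
  exact flasque_resolution G A ρ

end Groth.Agent.S18686
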