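import Mathlib
import Groth.Statements.S18685
import Groth.Agent.S18675
import Groth.Agent.S18686

set_option autoImplicit false
open GLat

namespace Groth.Agent.S18685


open Groth.Agent.S18686

/-- A permutation module is flasque. -/
theorem flasque_of_permutation {G : Type} [Group G] [Finite G] {M : Type} [AddCommGroup M]
    (ρ : Representation ℤ G M) (h : IsPermutation ρ) : IsFlasque ρ := by
  classical
  obtain ⟨ι, b, hb⟩ := h
  intro H m hm
  haveI : Fintype H := Fintype.ofFinite H
  rw [finsum_eq_sum_of_fintype] at hm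
  let s : Setoid ι :=
    { r := fun i j => ∃ a : H, ρ (a : G) (b i) = b j
      iseqv :=
        ⟨fun i => ⟨1, by simp⟩,
         fun {i j} ⟨a, ha⟩ => ⟨a⁻¹, by rw [← ha, Subgroup.coe_inv, rho_inv_app]⟩,
         fun {i j k} ⟨a, ha⟩ ⟨c, hc⟩ => ⟨c * a, by rw [← hc, ← ha, Subgroup.coe_mul, rho_mul_app]⟩⟩ }
  let push : M →ₗ[ℤ] (Quotient s →₀ ℤ) := b.constr ℤ (fun i => Finsupp.single (Quotient.mk s i) 1)
  let sec : (Quotient s →₀ ℤ) →ₗ[ℤ] M := Finsupp.linearCombination ℤ (fun q => b q.out)
  have hpush_b : ∀ i, push (b i) = Finsupp.single (Quotient.mk s i) 1 :=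
    fun i => b.constr_basis ℤ _ i
  have hpush_inv : ∀ (a : H) (x : M), push (ρ (a : G) x) = push x := by
    intro a x
    have : push ∘ₗ ρ (a : G) = push := b.ext fun i => by
      obtain ⟨j, hj⟩ := hb a i
      rw [LinearMap.comp_apply, hj, hpush_b, hpush_b]
      congr 1
      exact (Quotient.sound (⟨a, hj⟩ : s.r i j)).symm
    exact LinearMap.congr_fun this x
  have hpush_m : push m = 0 := by
    have h1 := congrArg push hm
    rw [map_sum, map_zero] at h1
    simp only [hpush_inv, Finset.sum_const, Finset.card_univ] at h1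
    ext q
    have h2 := DFunLike.congr_fun h1 q
    rw [Finsupp.smul_apply, Finsupp.zero_apply, nsmul_eq_mul] at h2
    rcases mul_eq_zero.1 h2 with h3 | h3
    · exact absurd h3 (by exact_mod_cast Fintype.card_ne_zero)
    · exact h3
  have hmem : ∀ x : M, x - sec (push x) ∈
      Submodule.span ℤ {x : M | ∃ (a : H) (y : M), x = ρ (a : G) y - y} := by
    intro x
    have hx : x ∈ Submodule.span ℤ (Set.range b) := by rw [b.span_eq]; trivial
    induction hx using Submodule.span_induction with
    | mem x hx =>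
      obtain ⟨i, rfl⟩ := hx
      rw [hpush_b]
      simp only [sec, Finsupp.linearCombination_single, one_smul]
      obtain ⟨a, ha⟩ : s.r (Quotient.mk s i).out i := Quotient.exact (Quotient.out_eq _)
      exact Submodule.subset_span ⟨a, b (Quotient.mk s i).out, by rw [ha]⟩
    | zero => simp
    | add x y _ _ hx hy =>
      have : x + y - sec (push (x + y)) = (x - sec (push x)) + (y - sec (push y)) := by
        rw [map_add, map_add]; abel
      rw [this]
      exact Submodule.add_mem _ hx hy
    | smul c x _ hx =>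
      rw [map_smul, map_smul, ← smul_sub]
      exact Submodule.smul_mem _ c hx
  have := hmem m
  rwa [hpush_m, map_zero, sub_zero] at this

section ext

variable {G : Type} [Group G] [Finite G] {L F F' : Type} [AddCommGroup L] [AddCommGroup F]
  [AddCommGroup F'] (lam : Representation ℤ G L) (τ : Representation ℤ G F)
  (τ' : Representation ℤ G F') (i : L →ₗ[ℤ] F) (π : F →ₗ[ℤ] F')

/-- An extension of a flasque module by a flasque module is flasque. -/
theorem flasque_of_ext (hi : IsEquivariant lam τ i) (hπ : IsEquivariant τ τ' π)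
    (hinj : Function.Injective i) (hsurj : Function.Surjective π)
    (hex : LinearMap.range i = LinearMap.ker π)
    (hL : IsFlasque lam) (hF' : IsFlasque τ') : IsFlasque τ := by
  intro H x hx
  haveI : Fintype H := Fintype.ofFinite H
  rw [finsum_eq_sum_of_fintype] at hx
  have hx' : π x ∈ Submodule.span ℤ {x : F' | ∃ (a : H) (y : F'), x = τ' (a : G) y - y} := by
    refine hF' H (π x) ?_
    rw [finsum_eq_sum_of_fintype]
    simp only [← hπ _ _]
    rw [← map_sum, hx, map_zero]
  have lift : ∀ y' ∈ Submodule.span ℤ {x : F' | ∃ (a : H) (y : F'), x = τ' (a : G) y - y},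
      ∃ z ∈ Submodule.span ℤ {x : F | ∃ (a : H) (y : F), x = τ (a : G) y - y}, π z = y' := by
    intro y' hy'
    induction hy' using Submodule.span_induction with
    | mem y hy =>
      obtain ⟨a, w, rfl⟩ := hy
      obtain ⟨w0, rfl⟩ := hsurj w
      exact ⟨τ (a : G) w0 - w0, Submodule.subset_span ⟨a, w0, rfl⟩, by rw [map_sub, hπ]⟩
    | zero => exact ⟨0, Submodule.zero_mem _, map_zero _⟩
    | add u v _ _ hu hv =>
      obtain ⟨zu, hzu, rfl⟩ := hu
      obtain ⟨zv, hzv, rfl⟩ := hv
      exact ⟨zu + zv, Submodule.add_mem _ hzu hzv, map_add _ _ _⟩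
    | smul c u _ hu =>
      obtain ⟨zu, hzu, rfl⟩ := hu
      exact ⟨c • zu, Submodule.smul_mem _ c hzu, map_smul _ _ _⟩
  obtain ⟨z, hz, hzx⟩ := lift _ hx'
  have hxz : x - z ∈ LinearMap.range i := by
    rw [hex, LinearMap.mem_ker, map_sub, hzx, sub_self]
  obtain ⟨l, hl⟩ := hxz
  have hNspan : ∀ z ∈ Submodule.span ℤ {x : F | ∃ (a : H) (y : F), x = τ (a : G) y - y},
      ∑ a : H, τ (a : G) z = 0 := by
    intro z hz
    induction hz using Submodule.span_induction with
    | mem y hy =>
      obtain ⟨a, w, rfl⟩ := hy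
      simp only [map_sub, Finset.sum_sub_distrib]
      rw [sub_eq_zero]
      refine Fintype.sum_equiv (Equiv.mulRight a) _ _ (fun c => ?_)
      rw [Equiv.coe_mulRight, Subgroup.coe_mul, rho_mul_app]
    | zero => simp
    | add u v _ _ hu hv => simp only [map_add, Finset.sum_add_distrib, hu, hv, add_zero]
    | smul c u _ hu => simp only [map_smul, ← Finset.smul_sum, hu, smul_zero]
  have hNl : ∑ a : H, lam (a : G) l = 0 := by
    apply hinj
    rw [map_sum, map_zero]
    simp only [hi _ _, hl, map_sub, Finset.sum_sub_distrib, hx, hNspan z hz, sub_zero]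
  have hl' : l ∈ Submodule.span ℤ {x : L | ∃ (a : H) (y : L), x = lam (a : G) y - y} := by
    refine hL H l ?_
    rw [finsum_eq_sum_of_fintype]
    exact hNl
  have himap : ∀ l ∈ Submodule.span ℤ {x : L | ∃ (a : H) (y : L), x = lam (a : G) y - y},
      i l ∈ Submodule.span ℤ {x : F | ∃ (a : H) (y : F), x = τ (a : G) y - y} := by
    intro l hl
    induction hl using Submodule.span_induction with
    | mem y hy =>
      obtain ⟨a, w, rfl⟩ := hy
      exact Submodule.subset_span ⟨a, i w, by rw [map_sub, hi]⟩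
    | zero => rw [map_zero]; exact Submodule.zero_mem _
    | add u v _ _ hu hv => rw [map_add]; exact Submodule.add_mem _ hu hv
    | smul c u _ hu => rw [map_smul]; exact Submodule.smul_mem _ c hu
  have : x = i l + z := by rw [hl]; abel
  rw [this]
  exact Submodule.add_mem _ (himap l hl') hz

omit [Finite G] in
/-- An extension of a torsion-free module by a torsion-free module is torsion-free. -/
theorem torsionFree_of_ext [Module.IsTorsionFree ℤ L] [Module.IsTorsionFree ℤ F']
    (hinj : Function.Injective i)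
    (hex : LinearMap.range i = LinearMap.ker π) : Module.IsTorsionFree ℤ F := by
  refine Module.IsTorsionFree.of_smul_eq_zero fun k x hkx => ?_
  by_cases hk : k = 0
  · exact Or.inl hk
  right
  have h1 : π x = 0 := by
    have := congrArg π hkx
    rw [map_smul, map_zero] at this
    exact (smul_eq_zero.1 this).resolve_left hk
  have h2 : x ∈ LinearMap.range i := by rw [hex]; exact h1
  obtain ⟨l, rfl⟩ := h2
  rw [← map_smul, ← map_zero i] at hkx
  have := hinj hkx
  rw [(smul_eq_zero.1 this).resolve_left hk, map_zero]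

end ext


section pushout

variable {G : Type} [Group G] {Q X Y A B : Type} [AddCommGroup Q] [AddCommGroup X] [AddCommGroup Y]
  [AddCommGroup A] [AddCommGroup B] [Module.Finite ℤ X] [Module.Finite ℤ Y]
  (ρQ : Representation ℤ G Q) (ρX : Representation ℤ G X) (ρY : Representation ℤ G Y)
  (ρA : Representation ℤ G A) (ρB : Representation ℤ G B)
  (f : Q →ₗ[ℤ] X) (g : Q →ₗ[ℤ] Y) (p : X →ₗ[ℤ] A) (q : Y →ₗ[ℤ] B)

theorem pushout_exists (hf : IsEquivariant ρQ ρX f) (hg : IsEquivariant ρQ ρY g)
    (hp : IsEquivariant ρX ρA p) (hq : IsEquivariant ρY ρB q)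
    (hfi : Function.Injective f) (hgi : Function.Injective g)
    (hps : Function.Surjective p) (hqs : Function.Surjective q)
    (hfp : LinearMap.range f = LinearMap.ker p) (hgq : LinearMap.range g = LinearMap.ker q) :
    ∃ (F : Type) (_ : AddCommGroup F) (_ : Module.Finite ℤ F) (τ : Representation ℤ G F)
      (jY : Y →ₗ[ℤ] F) (pA : F →ₗ[ℤ] A) (jX : X →ₗ[ℤ] F) (pB : F →ₗ[ℤ] B),
      IsEquivariant ρY τ jY ∧ IsEquivariant τ ρA pA ∧ Function.Injective jY ∧
      Function.Surjective pA ∧ LinearMap.range jY = LinearMap.ker pA ∧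
      IsEquivariant ρX τ jX ∧ IsEquivariant τ ρB pB ∧ Function.Injective jX ∧
      Function.Surjective pB ∧ LinearMap.range jX = LinearMap.ker pB := by
  set K : Submodule ℤ (X × Y) := LinearMap.range (f.prod g) with hK
  have hKmem : ∀ z : X × Y, z ∈ K ↔ ∃ c, f c = z.1 ∧ g c = z.2 := by
    intro z
    rw [hK, LinearMap.mem_range]
    constructor
    · rintro ⟨c, rfl⟩; exact ⟨c, rfl, rfl⟩
    · rintro ⟨c, h1, h2⟩; exact ⟨c, Prod.ext h1 h2⟩
  have hKstab : ∀ g' : G, K ≤ K.comap ((ρX.prod ρY) g') := by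
    intro g' z hz
    rw [Submodule.mem_comap, hKmem]
    obtain ⟨c, h1, h2⟩ := (hKmem z).1 hz
    refine ⟨ρQ g' c, ?_, ?_⟩
    · rw [hf, h1]; rfl
    · rw [hg, h2]; rfl
  have hpf : ∀ c, p (f c) = 0 := fun c => by
    have : f c ∈ LinearMap.ker p := by rw [← hfp]; exact LinearMap.mem_range_self f c
    exact this
  have hqg : ∀ c, q (g c) = 0 := fun c => by
    have : g c ∈ LinearMap.ker q := by rw [← hgq]; exact LinearMap.mem_range_self g c
    exact this
  let pA : (X × Y) ⧸ K →ₗ[ℤ] A := K.liftQ (p ∘ₗ LinearMap.fst ℤ X Y) (by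
    intro z hz
    obtain ⟨c, h1, h2⟩ := (hKmem z).1 hz
    rw [LinearMap.mem_ker, LinearMap.comp_apply, LinearMap.fst_apply, ← h1, hpf])
  let pB : (X × Y) ⧸ K →ₗ[ℤ] B := K.liftQ (q ∘ₗ LinearMap.snd ℤ X Y) (by
    intro z hz
    obtain ⟨c, h1, h2⟩ := (hKmem z).1 hz
    rw [LinearMap.mem_ker, LinearMap.comp_apply, LinearMap.snd_apply, ← h2, hqg])
  have hpA : ∀ z : X × Y, pA (Submodule.Quotient.mk z) = p z.1 := fun z => rfl
  have hpB : ∀ z : X × Y, pB (Submodule.Quotient.mk z) = q z.2 := fun z => rfl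
  let τ : Representation ℤ G ((X × Y) ⧸ K) := (ρX.prod ρY).quotient K hKstab
  have hτ : ∀ (g' : G) (z : X × Y), τ g' (Submodule.Quotient.mk z) =
      Submodule.Quotient.mk (ρX g' z.1, ρY g' z.2) := fun g' z => rfl
  refine ⟨(X × Y) ⧸ K, inferInstance, inferInstance, τ,
    K.mkQ ∘ₗ LinearMap.inr ℤ X Y, pA, K.mkQ ∘ₗ LinearMap.inl ℤ X Y, pB,
    ?_, ?_, ?_, ?_, ?_, ?_, ?_, ?_, ?_, ?_⟩
  · intro g' y
    rw [LinearMap.comp_apply, LinearMap.comp_apply, Submodule.mkQ_apply, Submodule.mkQ_apply,
      LinearMap.inr_apply, LinearMap.inr_apply, hτ, map_zero]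
  · intro g' z
    induction z using Submodule.Quotient.induction_on with
    | H z => rw [hτ, hpA, hpA, hp]
  · rw [injective_iff_map_eq_zero]
    intro y hy
    rw [LinearMap.comp_apply, Submodule.mkQ_apply, Submodule.Quotient.mk_eq_zero, hKmem] at hy
    obtain ⟨c, h1, h2⟩ := hy
    rw [LinearMap.inr_apply] at h1 h2
    have hc : c = 0 := hfi (by rw [h1, map_zero])
    have h2' : g c = y := h2
    rw [← h2', hc, map_zero]
  · intro a
    obtain ⟨x, rfl⟩ := hps a
    exact ⟨Submodule.Quotient.mk (x, 0), hpA _⟩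
  · ext z
    induction z using Submodule.Quotient.induction_on with
    | H z =>
      rw [LinearMap.mem_ker, hpA]
      constructor
      · rintro ⟨y, hy⟩
        rw [LinearMap.comp_apply, Submodule.mkQ_apply, LinearMap.inr_apply] at hy
        have := congrArg pA hy
        rw [hpA, hpA, map_zero] at this
        exact this.symm
      · intro hz1
        have : z.1 ∈ LinearMap.range f := by rw [hfp]; exact hz1
        obtain ⟨c, hc⟩ := this
        refine ⟨z.2 - g c, ?_⟩
        rw [LinearMap.comp_apply, Submodule.mkQ_apply, LinearMap.inr_apply, Submodule.Quotient.eq,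
          hKmem]
        refine ⟨-c, ?_, ?_⟩
        · rw [map_neg, hc]; simp
        · rw [map_neg]; simp
  · intro g' x
    rw [LinearMap.comp_apply, LinearMap.comp_apply, Submodule.mkQ_apply, Submodule.mkQ_apply,
      LinearMap.inl_apply, LinearMap.inl_apply, hτ, map_zero]
  · intro g' z
    induction z using Submodule.Quotient.induction_on with
    | H z => rw [hτ, hpB, hpB, hq]
  · rw [injective_iff_map_eq_zero]
    intro x hx
    rw [LinearMap.comp_apply, Submodule.mkQ_apply, Submodule.Quotient.mk_eq_zero, hKmem] at hx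
    obtain ⟨c, h1, h2⟩ := hx
    rw [LinearMap.inl_apply] at h1 h2
    have hc : c = 0 := hgi (by rw [h2, map_zero])
    have h1' : f c = x := h1
    rw [← h1', hc, map_zero]
  · intro b
    obtain ⟨y, rfl⟩ := hqs b
    exact ⟨Submodule.Quotient.mk (0, y), hpB _⟩
  · ext z
    induction z using Submodule.Quotient.induction_on with
    | H z =>
      rw [LinearMap.mem_ker, hpB]
      constructor
      · rintro ⟨x, hx⟩
        rw [LinearMap.comp_apply, Submodule.mkQ_apply, LinearMap.inl_apply] at hx
        have := congrArg pB hx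
        rw [hpB, hpB, map_zero] at this
        exact this.symm
      · intro hz2
        have : z.2 ∈ LinearMap.range g := by rw [hgq]; exact hz2
        obtain ⟨c, hc⟩ := this
        refine ⟨z.1 - f c, ?_⟩
        rw [LinearMap.comp_apply, Submodule.mkQ_apply, LinearMap.inl_apply, Submodule.Quotient.eq,
          hKmem]
        refine ⟨-c, ?_, ?_⟩
        · rw [map_neg]; simp
        · rw [map_neg, hc]; simp

end pushout

/-- S18685: flasque cover with permutation kernel. -/
theorem flasque_cover (G : Type) [Group G] [Finite G]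
    (A : Type) [AddCommGroup A] [Module.Finite ℤ A] (ρ : Representation ℤ G A) :
    ∃ (P : Type) (_ : AddCommGroup P) (F : Type) (_ : AddCommGroup F)
      (_ : Module.Finite ℤ P) (_ : Module.Free ℤ P) (_ : Module.Finite ℤ F) (_ : Module.Free ℤ F)
      (σ : Representation ℤ G P) (τ : Representation ℤ G F) (i : P →ₗ[ℤ] F) (π : F →ₗ[ℤ] A),
      GLat.IsEquivariant σ τ i ∧ GLat.IsEquivariant τ ρ π ∧ Function.Injective i ∧ Function.Surjective π ∧
      LinearMap.range i = LinearMap.ker π ∧ GLat.IsPermutation σ ∧ GLat.IsFlasque τ := by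
  obtain ⟨Q₀, _, P₀, _, _, _, _, _, σ₀, τ₀, i₀, π₀, hi₀, hπ₀, hinj₀, hsurj₀, hex₀, hperm₀, -⟩ :=
    Groth.Agent.S18675.main ρ
  obtain ⟨P₁, _, F₁, _, _, _, _, _, σ₁, τ₁, i₁, π₁, hi₁, hπ₁, hinj₁, hsurj₁, hex₁, hperm₁, hfl₁⟩ :=
    flasque_resolution G Q₀ σ₀
  obtain ⟨F, _, _, τ, jY, pA, jX, pB, h1, h2, h3, h4, h5, h6, h7, h8, h9, h10⟩ :=
    pushout_exists σ₀ τ₀ σ₁ ρ τ₁ i₀ i₁ π₀ π₁ hi₀ hi₁ hπ₀ hπ₁ hinj₀ hinj₁ hsurj₀ hsurj₁ hex₀ hex₁
  have : Module.IsTorsionFree ℤ F := torsionFree_of_ext jX pB h8 h10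
  exact ⟨P₁, inferInstance, F, inferInstance, inferInstance, inferInstance, inferInstance,
    inferInstance, σ₁, τ, jY, pA, h1, h2, h3, h4, h5, hperm₁,
    flasque_of_ext τ₀ τ τ₁ jX pB h6 h7 h8 h9 h10 (flasque_of_permutation τ₀ hperm₀) hfl₁⟩


/-- For a finite group G and a finitely generated G-module A there is an exact sequence 0 → P → F → A →
0 of finitely generated G-modules with P a permutation lattice and F a flasque lattice; rendered by
equivariant ℤ-linear maps i : P → F injective, π : F → A surjective, with range i = ker π. -/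
theorem result (G : Type) [Group G] [Finite G]
    (A : Type) [AddCommGroup A] [Module.Finite ℤ A] (ρ : Representation ℤ G A) :
    ∃ (P : Type) (_ : AddCommGroup P) (F : Type) (_ : AddCommGroup F)
      (_ : Module.Finite ℤ P) (_ : Module.Free ℤ P) (_ : Module.Finite ℤ F) (_ : Module.Free ℤ F)
      (σ : Representation ℤ G P) (τ : Representation ℤ G F) (i : P →ₗ[ℤ] F) (π : F →ₗ[ℤ] A),
      GLat.IsEquivariant σ τ i ∧ GLat.IsEquivariant τ ρ π ∧ Function.Injective i ∧ Function.Surjective π ∧
      LinearMap.range i = LinearMap.ker π ∧ GLat.IsPermutation σ ∧ GLat.IsFlasque τ := by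
  exact flasque_cover G A ρ

end Groth.Agent.S18685
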