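import Groth.Statements.S18704
import Groth.Agent.Lib.Helper93.Reflexive
import Groth.Agent.S18699
import Groth.Agent.S18724

set_option autoImplicit false
universe u
open QGor

namespace Groth.Agent.S18704

/-- Affine form. Let A be a Noetherian ring with Serre's condition (S_2), I an ideal with ht I ≥ 2
(every prime containing I has height ≥ 2), and G a finite A-module with G_p reflexive for every
prime p not containing I. Then the following are equivalent: (i) G has (S_2) and dim Supp(G_p) ≥ 2
for every prime p ⊇ I in Supp G; (ii) depth_I G ≥ 2; (iii) G is reflexive. -/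
theorem result (A : Type u) [CommRing A] [IsNoetherianRing A]
    (hA : LocCoh.HasSk 2 A A) (I : Ideal A) (hI : 2 ≤ I.height)
    (G : Type u) [AddCommGroup G] [Module A G] [Module.Finite A G]
    (hU : ∀ p : PrimeSpectrum A, ¬ I ≤ p.asIdeal →
      Module.IsReflexive (Localization.AtPrime p.asIdeal) (LocalizedModule p.asIdeal.primeCompl G)) :
    ((LocCoh.HasSk 2 A G ∧ ∀ p : PrimeSpectrum A, I ≤ p.asIdeal → p ∈ Module.support A G →
        (2 : WithBot ℕ∞) ≤ Module.supportDim (Localization.AtPrime p.asIdeal) (LocalizedModule p.asIdeal.primeCompl G)) ↔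
      2 ≤ LocCoh.idealDepth I G) ∧
    (2 ≤ LocCoh.idealDepth I G ↔ Module.IsReflexive A G) := by
  have hA2 : 2 ≤ LocCoh.idealDepth I A := by
    have := Groth.Agent.S18699.result 2 A A I hA (fun p hIp _ => by
      rw [Groth.Agent.Lib.Helper93.Depth.supportDim_localizedModule_self]
      have h1 : (2 : ℕ∞) ≤ p.asIdeal.height := le_trans hI (Ideal.height_mono hIp)
      exact WithBot.coe_le_coe.mpr h1)
    exact_mod_cast this
  have h2 : 2 ≤ LocCoh.idealDepth I G ↔ Module.IsReflexive A G :=
    ⟨fun h => Groth.Agent.Lib.Helper93.Depth.isReflexive_of_two_le_idealDepth I G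
      (le_trans (by norm_num) hA2) hU h,
     fun h => Groth.Agent.Lib.Helper93.Depth.two_le_idealDepth_of_isReflexive I G hA2⟩
  refine ⟨⟨fun ⟨hS, hc⟩ => ?_, fun h => ⟨?_, fun p hIp hp => ?_⟩⟩, h2⟩
  · have := Groth.Agent.S18699.result 2 A G I hS (fun p hIp hp => by
      have := hc p hIp hp
      exact_mod_cast this)
    exact_mod_cast this
  · have := h2.mp h
    exact Groth.Agent.Lib.Helper93.Depth.hasSk_of_isReflexive G 2 le_rfl hA
  · refine le_trans ?_ (Groth.Agent.S18724.result A G I p hIp hp)
    exact WithBot.coe_le_coe.mpr h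

end Groth.Agent.S18704
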