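import Groth.Statements.S18705
import Groth.Agent.Lib.Helper12.FlatOffClosed

set_option autoImplicit false
universe u
open QGor

namespace Groth.Agent.S18705

/-- Affine-local form. Let A → B be a local homomorphism of Noetherian local rings, m the maximal ideal
of A, J an ideal of B and M a finite B-module whose localizations M_q are flat over A at all primes
q not containing J (M is flat over A off V(J)). If depth_J (M/mM) ≥ 1 (the restriction map of the
closed fibre of M to the complement of V(J) is injective), then M is flat over A. -/
theorem result (A B : Type u) [CommRing A] [CommRing B]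
    [IsNoetherianRing A] [IsNoetherianRing B] [IsLocalRing A] [IsLocalRing B] [Algebra A B]
    [IsLocalHom (algebraMap A B)] (J : Ideal B)
    (M : Type u) [AddCommGroup M] [Module B M] [Module A M] [IsScalarTower A B M] [Module.Finite B M]
    (hU : ∀ q : PrimeSpectrum B, ¬ J ≤ q.asIdeal → FlatCA.FlatAt A q.asIdeal M)
    (h1 : 1 ≤ LocCoh.idealDepth J (EGA4.FibMod A B M)) : Module.Flat A M := by
  classical
  have hex : ∃ r ∈ J, IsSMulRegular (EGA4.FibMod A B M) r := by
    unfold LocCoh.idealDepth at h1
    split_ifs at h1 with htop
    · by_cases hJ : J = ⊤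
      · refine ⟨1, hJ ▸ Submodule.mem_top, ?_⟩
        intro a b hab
        simpa using hab
      · have hJle : J ≤ Ideal.jacobson ⊥ := by
          rw [IsLocalRing.jacobson_eq_maximalIdeal _ bot_ne_top]
          exact IsLocalRing.le_maximalIdeal hJ
        have hbot : (⊤ : Submodule B (EGA4.FibMod A B M)) = ⊥ :=
          Submodule.eq_bot_of_le_smul_of_le_jacobson_bot J ⊤ Module.Finite.fg_top htop.ge hJle
        haveI : Subsingleton (EGA4.FibMod A B M) := by
          refine ⟨fun a b => ?_⟩
          have ha : a ∈ (⊤ : Submodule B (EGA4.FibMod A B M)) := Submodule.mem_top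
          have hb : b ∈ (⊤ : Submodule B (EGA4.FibMod A B M)) := Submodule.mem_top
          rw [hbot, Submodule.mem_bot] at ha hb
          rw [ha, hb]
        exact ⟨0, J.zero_mem, fun a b _ => Subsingleton.elim a b⟩
    · by_contra hcon
      push_neg at hcon
      have h0 : (⨆ (rs : List B)
          (_ : RingTheory.Sequence.IsWeaklyRegular (EGA4.FibMod A B M) rs ∧ ∀ r ∈ rs, r ∈ J),
          (rs.length : ℕ∞)) = 0 := by
        apply le_antisymm _ zero_le
        apply iSup₂_le
        intro rs hrs
        cases rs with
        | nil => simp
        | cons r rs' =>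
          exfalso
          exact hcon r (hrs.2 r (List.mem_cons_self ..))
            ((RingTheory.Sequence.isWeaklyRegular_cons_iff _ r rs').1 hrs.1).1
      rw [h0] at h1
      simp at h1
  obtain ⟨r, hr, hreg⟩ := hex
  exact Groth.Agent.Lib.Helper12.FlatOffClosed.flat_of_flatAt_off A B J M hU r hr hreg

end Groth.Agent.S18705
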