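import Groth.Statements.S18706
import Groth.Agent.Lib.Helper12.FlatRegLift

set_option autoImplicit false
universe u
open QGor

namespace Groth.Agent.S18706

/-- Affine-local form. Let A → B be a local homomorphism of Noetherian local rings, m the maximal ideal
of A, J an ideal of B and M a finite B-module with M_q flat over A for every prime q not containing
J. If depth_J (M/mM) ≥ 2 (the restriction map of the closed fibre of M to the complement of V(J) is
bijective), then depth_J (M/m^(n+1)M) ≥ 2 for every n ≥ 0 (the same holds for every infinitesimal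
neighbourhood of the closed fibre). -/
theorem result (A B : Type u) [CommRing A] [CommRing B]
    [IsNoetherianRing A] [IsNoetherianRing B] [IsLocalRing A] [IsLocalRing B] [Algebra A B]
    [IsLocalHom (algebraMap A B)] (J : Ideal B)
    (M : Type u) [AddCommGroup M] [Module B M] [Module A M] [IsScalarTower A B M] [Module.Finite B M]
    (hU : ∀ q : PrimeSpectrum B, ¬ J ≤ q.asIdeal → FlatCA.FlatAt A q.asIdeal M)
    (h2 : 2 ≤ LocCoh.idealDepth J (EGA4.FibMod A B M)) (n : ℕ) :
    2 ≤ LocCoh.idealDepth J (M ⧸ ((EGA4.mB A B) ^ (n + 1) • (⊤ : Submodule B M))) := by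
  classical
  unfold LocCoh.idealDepth
  split_ifs with htopn
  · exact le_top
  · -- the closed fibre case is not degenerate either
    have hJtop : J ≠ ⊤ := by
      intro hJ
      apply htopn
      rw [hJ, Submodule.top_smul]
    have hJle : J ≤ Ideal.jacobson ⊥ := by
      rw [IsLocalRing.jacobson_eq_maximalIdeal _ bot_ne_top]
      exact IsLocalRing.le_maximalIdeal hJtop
    have hmBle : EGA4.mB A B ≤ Ideal.jacobson ⊥ := by
      rw [IsLocalRing.jacobson_eq_maximalIdeal _ bot_ne_top]
      exact IsLocalRing.map_maximalIdeal_le (algebraMap A B)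
    have htop0 : ¬ (J • (⊤ : Submodule B (EGA4.FibMod A B M)) = ⊤) := by
      intro htop
      have hbot : (⊤ : Submodule B (EGA4.FibMod A B M)) = ⊥ :=
        Submodule.eq_bot_of_le_smul_of_le_jacobson_bot J ⊤ Module.Finite.fg_top htop.ge hJle
      have hM : (⊤ : Submodule B M) ≤ EGA4.mB A B • (⊤ : Submodule B M) := by
        intro x _
        have hx : (Submodule.Quotient.mk x : EGA4.FibMod A B M) ∈
            (⊤ : Submodule B (EGA4.FibMod A B M)) := Submodule.mem_top
        rw [hbot, Submodule.mem_bot, Submodule.Quotient.mk_eq_zero] at hx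
        exact hx
      have hMbot : (⊤ : Submodule B M) = ⊥ :=
        Submodule.eq_bot_of_le_smul_of_le_jacobson_bot (EGA4.mB A B) ⊤ Module.Finite.fg_top hM hmBle
      haveI : Subsingleton M := by
        refine ⟨fun a b => ?_⟩
        have ha : a ∈ (⊤ : Submodule B M) := Submodule.mem_top
        have hb : b ∈ (⊤ : Submodule B M) := Submodule.mem_top
        rw [hMbot, Submodule.mem_bot] at ha hb
        rw [ha, hb]
      exact htopn (Subsingleton.elim _ _)
    unfold LocCoh.idealDepth at h2
    rw [if_neg htop0] at h2
    obtain ⟨rs, hrs, hlen⟩ : ∃ rs : List B,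
        (RingTheory.Sequence.IsWeaklyRegular (EGA4.FibMod A B M) rs ∧ ∀ r ∈ rs, r ∈ J) ∧
          2 ≤ rs.length := by
      by_contra hcon
      push_neg at hcon
      have hle : (⨆ (rs : List B)
          (_ : RingTheory.Sequence.IsWeaklyRegular (EGA4.FibMod A B M) rs ∧ ∀ r ∈ rs, r ∈ J),
          (rs.length : ℕ∞)) ≤ 1 := by
        apply iSup₂_le
        intro rs hrs
        have := hcon rs hrs
        have h1 : rs.length ≤ 1 := by omega
        exact_mod_cast h1
      have := le_trans h2 hle
      norm_num at this
    match rs, hrs, hlen with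
    | r :: s :: rest, hrs, _ =>
      have hw := hrs.1
      rw [RingTheory.Sequence.isWeaklyRegular_cons_iff,
        RingTheory.Sequence.isWeaklyRegular_cons_iff] at hw
      have hr : r ∈ J := hrs.2 r (by simp)
      have hs : s ∈ J := hrs.2 s (by simp)
      have hU' : ∀ q : PrimeSpectrum B, ¬ J ≤ q.asIdeal →
          Module.Flat A (LocalizedModule q.asIdeal.primeCompl M) := hU
      have key := Groth.Agent.Lib.Helper12.FlatRegLift.isWeaklyRegular_quot_pow A B M J hU' r s hr
        hw.1 hw.2.1 n
      refine le_iSup₂_of_le [r, s] ⟨key, ?_⟩ (by simp)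
      intro x hx
      simp only [List.mem_cons, List.not_mem_nil, or_false] at hx
      rcases hx with rfl | rfl
      · exact hr
      · exact hs

end Groth.Agent.S18706
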