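import Mathlib
import Groth.Statements.S18709

set_option autoImplicit false
universe u
open QGor

namespace Groth.Agent.S18709


section split

lemma projective_localized_coker {B : Type u} [CommRing B] (S : Submonoid B)
    {M N : Type u} [AddCommGroup M] [Module B M] [AddCommGroup N] [Module B N]
    [Module.Projective B M]
    (h : N →ₗ[B] M) (k : M →ₗ[B] N) (u : B) (hu : u ∈ S) (hk : h ∘ₗ k ∘ₗ h = u • h) :
    Module.Projective (Localization S) (LocalizedModule S (M ⧸ LinearMap.range h)) := by
  have hle : LinearMap.range h ≤ LinearMap.ker (u • LinearMap.id - h ∘ₗ k : M →ₗ[B] M) := by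
    rintro _ ⟨y, rfl⟩
    have h1 := congr($hk y)
    simp only [LinearMap.comp_apply, LinearMap.smul_apply] at h1
    rw [LinearMap.mem_ker, LinearMap.sub_apply, LinearMap.smul_apply, LinearMap.id_apply,
      LinearMap.comp_apply, h1, sub_self]
  let θ : M ⧸ LinearMap.range h →ₗ[B] M := (LinearMap.range h).liftQ _ hle
  have hθ : ∀ x : M ⧸ LinearMap.range h, (LinearMap.range h).mkQ (θ x) = u • x := by
    intro x
    obtain ⟨m, rfl⟩ := (LinearMap.range h).mkQ_surjective x
    show (LinearMap.range h).mkQ ((u • LinearMap.id - h ∘ₗ k : M →ₗ[B] M) m) = _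
    rw [LinearMap.sub_apply, LinearMap.smul_apply, LinearMap.id_apply, map_sub, map_smul,
      LinearMap.comp_apply]
    have : (LinearMap.range h).mkQ (h (k m)) = 0 := by
      rw [Submodule.mkQ_apply, Submodule.Quotient.mk_eq_zero]
      exact ⟨_, rfl⟩
    rw [this, sub_zero]
  refine Module.Projective.of_split
    ((Localization.mk 1 ⟨u, hu⟩ : Localization S) • LocalizedModule.map S θ)
    (LocalizedModule.map S (LinearMap.range h).mkQ) ?_
  apply LinearMap.ext
  intro x
  induction x using LocalizedModule.induction_on with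
  | h m s =>
    rw [LinearMap.comp_apply, LinearMap.smul_apply, map_smul, LocalizedModule.map_mk,
      LocalizedModule.map_mk, hθ, LocalizedModule.mk_smul_mk, one_smul, LinearMap.id_apply]
    exact LocalizedModule.mk_cancel_common_left ⟨u, hu⟩ s m

end split

section loc

variable {B : Type u} [CommRing B] [IsNoetherianRing B]
  {F : Type u} [AddCommGroup F] [Module B F] [Module.Finite B F]
  {n m : ℕ} (π : (Fin n → B) →ₗ[B] Module.Dual B F) (ρ : (Fin m → B) →ₗ[B] (Fin n → B))
  (hπ : Function.Surjective π) (hex : Function.Exact ρ π)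

include hπ hex in
lemma exists_regular (q : PrimeSpectrum B)
    (hq : Module.Free (Localization.AtPrime q.asIdeal) (LocalizedModule q.asIdeal.primeCompl F)) :
    ∃ (ψ : (Fin n → B) →ₗ[B] (Fin m → B)) (u : B), u ∈ q.asIdeal.primeCompl ∧
      ρ ∘ₗ ψ ∘ₗ ρ = u • ρ := by
  haveI : Module.FinitePresentation B F := Module.finitePresentation_of_finite B F
  haveI := hq
  haveI : Module.Free (Localization q.asIdeal.primeCompl) (LocalizedModule q.asIdeal.primeCompl B) :=
    Module.free_of_isLocalizedModule q.asIdeal.primeCompl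
      (LocalizedModule.mkLinearMap q.asIdeal.primeCompl B)
  have hfree : Module.Free (Localization.AtPrime q.asIdeal)
      (LocalizedModule q.asIdeal.primeCompl (Module.Dual B F)) := by
    have h1 := (Module.mem_freeLocus_of_isLocalization (M := Module.Dual B F) q
      (Localization.AtPrime q.asIdeal)
      (LocalizedModule q.asIdeal.primeCompl F →ₗ[Localization.AtPrime q.asIdeal]
        LocalizedModule q.asIdeal.primeCompl B)
      (LocalizedModule.map q.asIdeal.primeCompl (M := F) (N := B)))
    exact h1.mpr inferInstance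
  haveI := hfree
  have hπq : Function.Surjective (LocalizedModule.map q.asIdeal.primeCompl π) :=
    LocalizedModule.map_surjective q.asIdeal.primeCompl π hπ
  have hexq : Function.Exact (LocalizedModule.map q.asIdeal.primeCompl ρ)
      (LocalizedModule.map q.asIdeal.primeCompl π) :=
    LocalizedModule.map_exact q.asIdeal.primeCompl ρ π hex
  obtain ⟨σ, hσ⟩ := Module.projective_lifting_property
    (LocalizedModule.map q.asIdeal.primeCompl π) LinearMap.id hπq
  let ε : LocalizedModule q.asIdeal.primeCompl (Fin n → B) →ₗ[Localization q.asIdeal.primeCompl]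
      LocalizedModule q.asIdeal.primeCompl (Fin n → B) :=
    LinearMap.id - σ ∘ₗ (LocalizedModule.map q.asIdeal.primeCompl π)
  have hrange : ∀ x, ε x ∈
      LinearMap.range (LocalizedModule.map q.asIdeal.primeCompl ρ) := by
    intro x
    apply (hexq _).mp
    have h1 := congr($hσ ((LocalizedModule.map q.asIdeal.primeCompl π) x))
    simp only [LinearMap.comp_apply, LinearMap.id_apply] at h1
    simp only [ε, LinearMap.sub_apply, map_sub, LinearMap.id_apply, LinearMap.comp_apply, h1,
      sub_self]
  obtain ⟨ψ', hψ'⟩ := Module.projective_lifting_property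
    (LocalizedModule.map q.asIdeal.primeCompl ρ).rangeRestrict
    (ε.codRestrict
      (LinearMap.range (LocalizedModule.map q.asIdeal.primeCompl ρ)) hrange)
    (LocalizedModule.map q.asIdeal.primeCompl ρ).surjective_rangeRestrict
  have hψ'' : ∀ x, (LocalizedModule.map q.asIdeal.primeCompl ρ)
      (ψ' ((LocalizedModule.map q.asIdeal.primeCompl ρ) x)) =
      (LocalizedModule.map q.asIdeal.primeCompl ρ) x := by
    intro x
    have h1 := congr(($hψ' ((LocalizedModule.map q.asIdeal.primeCompl ρ) x)).1)
    simp only [LinearMap.comp_apply, LinearMap.codRestrict_apply,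
      LinearMap.sub_apply, LinearMap.id_apply, ε] at h1
    rw [h1, hexq.apply_apply_eq_zero, map_zero, sub_zero]
  obtain ⟨⟨ψ₀, s⟩, hs⟩ := IsLocalizedModule.surj q.asIdeal.primeCompl
    (LocalizedModule.map q.asIdeal.primeCompl (M := Fin n → B) (N := Fin m → B)) ψ'
  have heq : LocalizedModule.map q.asIdeal.primeCompl (ρ ∘ₗ ψ₀ ∘ₗ ρ) =
      LocalizedModule.map q.asIdeal.primeCompl ((s : B) • ρ) := by
    apply LinearMap.ext
    intro x
    induction x using LocalizedModule.induction_on with
    | h a t =>
      have hs' : ((s : B) • ψ') = LocalizedModule.map q.asIdeal.primeCompl ψ₀ := hs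
      have h3 := hψ'' (LocalizedModule.mk a t)
      rw [LocalizedModule.map_mk] at h3
      rw [LocalizedModule.map_mk, LocalizedModule.map_mk]
      show LocalizedModule.mk (ρ (ψ₀ (ρ a))) t = LocalizedModule.mk ((s : B) • ρ a) t
      calc LocalizedModule.mk (ρ (ψ₀ (ρ a))) t
          = LocalizedModule.map q.asIdeal.primeCompl ρ (LocalizedModule.mk (ψ₀ (ρ a)) t) :=
            (LocalizedModule.map_mk _ _ _ _).symm
        _ = LocalizedModule.map q.asIdeal.primeCompl ρ
              (LocalizedModule.map q.asIdeal.primeCompl ψ₀ (LocalizedModule.mk (ρ a) t)) :=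
            congrArg (LocalizedModule.map q.asIdeal.primeCompl ρ)
              (LocalizedModule.map_mk _ _ _ _).symm
        _ = LocalizedModule.map q.asIdeal.primeCompl ρ
              (((s : B) • ψ') (LocalizedModule.mk (ρ a) t)) := by rw [hs']
        _ = (s : B) • LocalizedModule.map q.asIdeal.primeCompl ρ
              (ψ' (LocalizedModule.mk (ρ a) t)) := by
            rw [LinearMap.smul_apply, LinearMap.map_smul_of_tower]
        _ = (s : B) • LocalizedModule.mk (ρ a) t := by rw [h3]
        _ = LocalizedModule.mk ((s : B) • ρ a) t := LocalizedModule.smul'_mk _ _ _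
  obtain ⟨c, hc⟩ := IsLocalizedModule.exists_of_eq (S := q.asIdeal.primeCompl)
    (f := LocalizedModule.map q.asIdeal.primeCompl (M := Fin m → B) (N := Fin n → B)) heq
  refine ⟨(c : B) • ψ₀, (c : B) * s, mul_mem c.2 s.2, ?_⟩
  rw [LinearMap.smul_comp, LinearMap.comp_smul, mul_smul]
  exact hc

end loc

/-- Affine form; the flatness and depth hypotheses of the printed lemma only serve to place the sequence
in the situation of the key proposition and are not needed for the existence. Let B be a Noetherian
ring, J an ideal and F a finite reflexive B-module with F_q free for every prime q not containing J.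
Then there is an exact sequence 0 → F → Bⁿ → Bᵐ → G → 0 with G_q free for every prime q not
containing J. -/
theorem result (B : Type u) [CommRing B] [IsNoetherianRing B]
    (J : Ideal B) (F : Type u) [AddCommGroup F] [Module B F] [Module.Finite B F] [Module.IsReflexive B F]
    (hU : ∀ q : PrimeSpectrum B, ¬ J ≤ q.asIdeal →
      Module.Free (Localization.AtPrime q.asIdeal) (LocalizedModule q.asIdeal.primeCompl F)) :
    ∃ (n m : ℕ) (g : F →ₗ[B] (Fin n → B)) (h : (Fin n → B) →ₗ[B] (Fin m → B)),
      Function.Injective g ∧ Function.Exact g h ∧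
      ∀ q : PrimeSpectrum B, ¬ J ≤ q.asIdeal →
        Module.Free (Localization.AtPrime q.asIdeal)
          (LocalizedModule q.asIdeal.primeCompl ((Fin m → B) ⧸ LinearMap.range h)) := by
  classical
  haveI : Module.Finite B (Module.Dual B F) := inferInstance
  obtain ⟨n, π, hπ⟩ := Module.Finite.exists_fin' B (Module.Dual B F)
  haveI : Module.Finite B (LinearMap.ker π) := inferInstance
  obtain ⟨m, ρ', hρ'⟩ := Module.Finite.exists_fin' B (LinearMap.ker π)
  let ρ : (Fin m → B) →ₗ[B] (Fin n → B) := (LinearMap.ker π).subtype ∘ₗ ρ'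
  have hex : Function.Exact ρ π := by
    intro y
    constructor
    · intro hy
      obtain ⟨z, hz⟩ := hρ' ⟨y, hy⟩
      exact ⟨z, by rw [LinearMap.comp_apply, hz]; rfl⟩
    · rintro ⟨z, rfl⟩
      exact (ρ' z).2
  let g : F →ₗ[B] (Fin n → B) := LinearMap.pi (fun i => π (Pi.single i 1))
  let R : Matrix (Fin n) (Fin m) B := LinearMap.toMatrix' ρ
  let h : (Fin n → B) →ₗ[B] (Fin m → B) := Matrix.mulVecLin R.transpose
  have hA1 : ∀ (w : Fin n → B) (x : F), π w x = w ⬝ᵥ g x := by
    intro w x
    rw [LinearMap.pi_apply_eq_sum_univ π w, LinearMap.sum_apply, dotProduct]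
    apply Finset.sum_congr rfl
    intro i _
    have h1 : (fun j => if i = j then (1 : B) else 0) = Pi.single i 1 := by
      ext j
      rw [Pi.single_apply]
      by_cases hij : i = j
      · rw [if_pos hij, if_pos hij.symm]
      · rw [if_neg hij, if_neg (fun h' => hij h'.symm)]
    rw [h1, LinearMap.smul_apply, smul_eq_mul]
    rfl
  have hA2 : ∀ (u : Fin m → B) (v : Fin n → B), ρ u ⬝ᵥ v = u ⬝ᵥ h v := by
    intro u v
    have h1 : ρ u = R.mulVec u := (LinearMap.toMatrix'_mulVec ρ u).symm
    rw [h1]
    show R.mulVec u ⬝ᵥ v = u ⬝ᵥ R.transpose.mulVec v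
    rw [Matrix.mulVec_transpose, dotProduct_comm u, ← Matrix.dotProduct_mulVec, dotProduct_comm]
  have hginj : Function.Injective g := by
    rw [injective_iff_map_eq_zero]
    intro x hx
    apply (Module.bijective_dual_eval B F).1
    rw [map_zero]
    apply LinearMap.ext
    intro f
    obtain ⟨w, rfl⟩ := hπ f
    rw [Module.Dual.eval_apply, hA1, hx, dotProduct_zero]
    rfl
  have hexact : Function.Exact g h := by
    intro v
    constructor
    · intro hv
      have hv' : h v = 0 := hv
      let dotv : (Fin n → B) →ₗ[B] B := Fintype.linearCombination B v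
      have hdot : ∀ w, dotv w = w ⬝ᵥ v := by
        intro w
        rw [Fintype.linearCombination_apply, dotProduct]
        rfl
      have hle : LinearMap.ker π ≤ LinearMap.ker dotv := by
        intro w hw
        obtain ⟨u, rfl⟩ := (hex w).mp hw
        rw [LinearMap.mem_ker, hdot, hA2, hv', dotProduct_zero]
      let ξ : Module.Dual B F →ₗ[B] B :=
        (LinearMap.ker π).liftQ dotv hle ∘ₗ (π.quotKerEquivOfSurjective hπ).symm.toLinearMap
      have hξ : ∀ w, ξ (π w) = w ⬝ᵥ v := by
        intro w
        have h1 : (π.quotKerEquivOfSurjective hπ).symm (π w) = (LinearMap.ker π).mkQ w := by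
          rw [LinearEquiv.symm_apply_eq]
          rfl
        show (LinearMap.ker π).liftQ dotv hle ((π.quotKerEquivOfSurjective hπ).symm (π w)) = _
        rw [h1, Submodule.mkQ_apply, Submodule.liftQ_apply, hdot]
      obtain ⟨x, hx⟩ := (Module.bijective_dual_eval B F).2 ξ
      refine ⟨x, ?_⟩
      ext i
      have h2 : g x i = Module.Dual.eval B F x (π (Pi.single i 1)) := rfl
      rw [h2, hx, hξ, single_one_dotProduct]
    · rintro ⟨x, rfl⟩
      ext j
      have h1 : (h (g x)) j = ρ (Pi.single j 1) ⬝ᵥ g x := by
        rw [hA2]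
        simp [dotProduct, Pi.single_apply]
      rw [h1, ← hA1]
      have h2 : π (ρ (Pi.single j 1)) = 0 := hex.apply_apply_eq_zero _
      rw [h2]
      rfl
  refine ⟨n, m, g, h, hginj, hexact, ?_⟩
  intro q hq
  obtain ⟨ψ, u, hu, hreg⟩ := exists_regular π ρ hπ hex q (hU q hq)
  let Ψ : Matrix (Fin m) (Fin n) B := LinearMap.toMatrix' ψ
  have hmat : R * Ψ * R = u • R := by
    have h1 := congrArg LinearMap.toMatrix' hreg
    rw [LinearMap.toMatrix'_comp, LinearMap.toMatrix'_comp, map_smul] at h1
    rw [Matrix.mul_assoc]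
    exact h1
  let k : (Fin m → B) →ₗ[B] (Fin n → B) := Matrix.mulVecLin Ψ.transpose
  have hk : h ∘ₗ k ∘ₗ h = u • h := by
    have e1 : h ∘ₗ k ∘ₗ h = Matrix.mulVecLin (R * Ψ * R).transpose := by
      rw [Matrix.transpose_mul, Matrix.transpose_mul, Matrix.mulVecLin_mul, Matrix.mulVecLin_mul]
    rw [e1, hmat, Matrix.transpose_smul]
    apply LinearMap.ext
    intro v
    rw [Matrix.mulVecLin_apply, Matrix.smul_mulVec, LinearMap.smul_apply]
    rfl
  haveI : Module.Projective (Localization q.asIdeal.primeCompl)
      (LocalizedModule q.asIdeal.primeCompl ((Fin m → B) ⧸ LinearMap.range h)) :=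
    projective_localized_coker q.asIdeal.primeCompl h k u hu hk
  exact Module.free_of_flat_of_isLocalRing

end Groth.Agent.S18709
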