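import Groth.Statements.S1871
-- import your own Groth.Agent.* helpers here
import Groth.Agent.Lib.Helper85.IntMult.Geom
import Groth.Agent.Lib.Helper85.IntMult.DiagRing
import Groth.Agent.S1535

set_option autoImplicit false
universe u
open CategoryTheory AlgebraicGeometry
attribute [local instance] HasDerivedCategory.standard
open IntMult

namespace Groth.Agent.S1871

/-- Positivity of intersection multiplicities. Let X be a nonsingular variety of dimension n over an
algebraically closed field K (X integral, smooth, separated and quasi-compact over K), and V, W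
integral closed subschemes of X, given by quasi-coherent ideal sheaves, of dimensions r and s, which
intersect properly (if V ∩ W is nonempty then n ≤ r + s and dim(V ∩ W) ≤ r + s − n). Let ξ be the
generic point of an irreducible component Z of V ∩ W, i.e. a point of V ∩ W such that every point of
V ∩ W specializing to ξ equals ξ. Then the intersection multiplicity e(X, V·W, Z) = ∑_i (−1)^i
length_{O_{X,ξ}} Tor_i^{O_{X,ξ}}(O_{X,ξ}/I_{W,ξ}, O_{X,ξ}/I_{V,ξ}) is positive. -/
theorem result (K : Type u) [Field K] [IsAlgClosed K] (X : Scheme.{u}) (f : X ⟶ Spec (CommRingCat.of K)) [Smooth f] [IsSeparated f] [QuasiCompact f] [IsIntegral X] (IV IW : X.IdealSheafData) [IsIntegral IV.subscheme] [IsIntegral IW.subscheme] (n r s : ℕ) (hn : topologicalKrullDim X = n) (hr : topologicalKrullDim IV.support = r) (hs : topologicalKrullDim IW.support = s) (hprop : IntMult.ProperInt (IV.support : Set X) (IW.support : Set X) n r s) (ξ : X) (hξV : ξ ∈ IV.support) (hξW : ξ ∈ IW.support) (hmax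 : ∀ ξ' : X, ξ' ∈ IV.support → ξ' ∈ IW.support → ξ' ⤳ ξ → ξ' = ξ) : 0 < IntMult.mult IV IW ξ := by
  have : IsLocallyNoetherian X := LocallyOfFiniteType.isLocallyNoetherian f
  let _ : X.Over (Spec (CommRingCat.of K)) := ⟨f⟩
  have hsm : Smooth (X ↘ Spec (CommRingCat.of K)) := ‹Smooth f›
  have hA : IsRegularLocalRing (X.presheaf.stalk ξ) := Groth.Agent.S1535.result K X ξ
  obtain ⟨a, p, q, d, ha, hp, hq, had, hpd, hqd, hle⟩ :=
    Groth.Agent.Lib.Helper85.IntMultGeom.exists_dims f IV IW n r s hn hr hs hprop ξ hξV hξW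
  have hfl := Groth.Agent.Lib.Helper85.IntMultGeom.exists_pow_maximalIdeal_le IV IW ξ hξV hξW hmax
  have hdim : ringKrullDim (X.presheaf.stalk ξ) ≤
      ringKrullDim (↑(X.presheaf.stalk ξ) ⧸ IntMult.stalkIdeal IV ξ) +
        ringKrullDim (↑(X.presheaf.stalk ξ) ⧸ IntMult.stalkIdeal IW ξ) := by
    rw [ha, hp, hq]
    exact_mod_cast (by omega : a ≤ p + q)
  obtain ⟨V, hV, hξV', -⟩ :=
    AlgebraicGeometry.exists_isAffineOpen_mem_and_subset (X := X) (x := ξ) (U := ⊤) trivial
  have hU : IsAffineOpen (⊤ : (Spec (CommRingCat.of K)).Opens) := isAffineOpen_top _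
  have hVU : V ≤ f ⁻¹ᵁ ⊤ := le_top
  have Hs : (f.appLE ⊤ V hVU).hom.Smooth := Smooth.smooth_appLE f hU hV hVU
  let φ : K →+* Γ(X, V) :=
    (f.appLE ⊤ V hVU).hom.comp (Scheme.ΓSpecIso (CommRingCat.of K)).inv.hom
  have hφ : φ.Smooth :=
    RingHom.Smooth.comp (RingHom.Smooth.of_bijective
      (Scheme.ΓSpecIso (CommRingCat.of K)).commRingCatIsoToRingEquiv.symm.bijective) Hs
  algebraize [φ]
  let _ : Algebra Γ(X, V) (X.presheaf.stalk ξ) :=
    TopCat.Presheaf.algebra_section_stalk X.presheaf ⟨ξ, hξV'⟩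
  let _ : Algebra K (X.presheaf.stalk ξ) :=
    ((algebraMap Γ(X, V) (X.presheaf.stalk ξ)).comp φ).toAlgebra
  have : IsScalarTower K Γ(X, V) (X.presheaf.stalk ξ) :=
    IsScalarTower.of_algebraMap_eq (fun _ => rfl)
  have := hV.isLocalization_stalk ⟨ξ, hξV'⟩
  unfold IntMult.mult
  exact Groth.Agent.Lib.Helper85.DiagRing.chi_pos_of_smooth K Γ(X, V) Γ(X, V) (X.presheaf.stalk ξ)
    (hV.primeIdealOf ⟨ξ, hξV'⟩).asIdeal (hV.primeIdealOf ⟨ξ, hξV'⟩).asIdeal
    (IntMult.stalkIdeal IV ξ) (IntMult.stalkIdeal IW ξ)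
    (Groth.Agent.Lib.Helper85.IntMultGeom.stalkIdeal_ne_top hξV)
    (Groth.Agent.Lib.Helper85.IntMultGeom.stalkIdeal_ne_top hξW) hfl hdim

end Groth.Agent.S1871
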