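import Groth.Statements.S18711
import Groth.Agent.Lib.Helper12.FourTermBC
import Groth.Agent.Lib.Helper93.DepthHom
import Groth.Agent.S18703

set_option autoImplicit false
universe u
open QGor

namespace Groth.Agent.S18711

open TensorProduct in
/-- Affine form. Let A → B be a flat homomorphism of Noetherian rings, J an ideal of B such that for
every prime q ⊇ J with contraction p the fibre local ring B_q/pB_q has depth ≥ 2, A → A′ a
homomorphism of Noetherian rings and B′ = A′ ⊗_A B the (Noetherian) pushout. Let 0 → F → E⁰ → E¹ → G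
→ 0 be an exact sequence of finite B-modules with E⁰, E¹ projective and F_q, G_q free for every
prime q not containing J. Then F is reflexive; the kernel K′ of B′ ⊗_B E⁰ → B′ ⊗_B E¹ is a reflexive
B′-module with depth_{JB′} K′ ≥ 2 (so it is the module of sections of the pull-back of F off
V(JB′)); and K′ is flat over A′ with depth ≥ 2 along JB′ on every fibre stalk K′_{q′}/p′K′_{q′} if
and only if B′ ⊗_B G is flat over A′. (The published statement phrases the last left-hand condition
as the relative S₂ condition of K′ over A′; the two agree when the fibres of Spec B′ → Spec A′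
satisfy S₂ off V(JB′), and without that the relative S₂ form fails already for A = A′ a field, J =
B, F = E⁰ = B not S₂ and E¹ = G = 0, so the fibrewise-depth form, which is what the proof
establishes, is stated.) -/
theorem result (A B : Type u) [CommRing A] [CommRing B] [IsNoetherianRing A] [IsNoetherianRing B] [Algebra A B]
    (A' B' : Type u) [CommRing A'] [CommRing B'] [IsNoetherianRing A'] [IsNoetherianRing B']
    [Algebra A A'] [Algebra B B'] [Algebra A' B'] [Algebra A B'] [IsScalarTower A B B'] [IsScalarTower A A' B']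
    [Algebra.IsPushout A B A' B'] [Module.Flat A B] (J : Ideal B)
    (hZ : ∀ q : PrimeSpectrum B, J ≤ q.asIdeal →
      2 ≤ LocCoh.idealDepth (q.asIdeal.map (algebraMap B (EGA4.FibLocRing A B q.asIdeal))) (EGA4.FibLocRing A B q.asIdeal))
    (F E0 E1 G : Type u) [AddCommGroup F] [Module B F] [Module.Finite B F]
    [AddCommGroup E0] [Module B E0] [Module.Finite B E0] [Module.Projective B E0]
    [AddCommGroup E1] [Module B E1] [Module.Finite B E1] [Module.Projective B E1]
    [AddCommGroup G] [Module B G] [Module.Finite B G]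
    (f : F →ₗ[B] E0) (u : E0 →ₗ[B] E1) (v : E1 →ₗ[B] G)
    (hf : Function.Injective f) (hfu : Function.Exact f u) (huv : Function.Exact u v) (hv : Function.Surjective v)
    (hFU : ∀ q : PrimeSpectrum B, ¬ J ≤ q.asIdeal → Module.Free (Localization.AtPrime q.asIdeal) (LocalizedModule q.asIdeal.primeCompl F))
    (hGU : ∀ q : PrimeSpectrum B, ¬ J ≤ q.asIdeal → Module.Free (Localization.AtPrime q.asIdeal) (LocalizedModule q.asIdeal.primeCompl G)) :
    Module.IsReflexive B F ∧
    Module.IsReflexive B' (LinearMap.ker (u.baseChange B')) ∧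
    2 ≤ LocCoh.idealDepth (J.map (algebraMap B B')) (LinearMap.ker (u.baseChange B')) ∧
    ((∀ q' : PrimeSpectrum B', FlatCA.FlatAt A' q'.asIdeal (LinearMap.ker (u.baseChange B')) ∧
        2 ≤ LocCoh.idealDepth ((J.map (algebraMap B B')).map (algebraMap B' (EGA4.FibLocRing A' B' q'.asIdeal)))
          (EGA4.FibLocMod A' B' q'.asIdeal (LinearMap.ker (u.baseChange B')))) ↔
      Module.Flat A' (B' ⊗[B] G)) := by
  have e2 : (2 : ℕ∞) = ((2 : ℕ) : ℕ∞) := rfl
  have h12 : (1 : ℕ∞) ≤ 2 := by norm_num
  have hB2 : (2 : ℕ∞) ≤ LocCoh.idealDepth J B := by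
    rw [e2]
    exact Groth.Agent.Lib.Helper12.FibreDepth.le_idealDepth_self_of_fibLocRing A B J 2 hZ
  have hB'2 : (2 : ℕ∞) ≤ LocCoh.idealDepth (J.map (algebraMap B B')) B' := by
    rw [e2]
    exact Groth.Agent.Lib.Helper12.FibreDepthBC.le_idealDepth_baseChange_self_of_fibLocRing
      A B A' B' J 2 hZ
  -- depth of the projective modules
  have hE0 : 2 ≤ LocCoh.idealDepth J E0 :=
    Groth.Agent.Lib.Helper93.Depth.two_le_idealDepth_of_isReflexive J E0 hB2
  have hE1 : 2 ≤ LocCoh.idealDepth J E1 :=
    Groth.Agent.Lib.Helper93.Depth.two_le_idealDepth_of_isReflexive J E1 hB2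
  have hE0' : 2 ≤ LocCoh.idealDepth (J.map (algebraMap B B')) (B' ⊗[B] E0) :=
    Groth.Agent.Lib.Helper93.Depth.two_le_idealDepth_of_isReflexive _ (B' ⊗[B] E0) hB'2
  have hE1' : 2 ≤ LocCoh.idealDepth (J.map (algebraMap B B')) (B' ⊗[B] E1) :=
    Groth.Agent.Lib.Helper93.Depth.two_le_idealDepth_of_isReflexive _ (B' ⊗[B] E1) hB'2
  -- the base-changed sequence
  have huv' : Function.Exact (u.baseChange B') (v.baseChange B') := by
    have := lTensor_exact B' huv hv
    exact this
  have hv' : Function.Surjective (v.baseChange B') := by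
    have := LinearMap.lTensor_surjective B' hv
    exact this
  haveI : IsNoetherian B' (B' ⊗[B] E0) := isNoetherian_of_isNoetherianRing_of_finite B' _
  haveI hKfin : Module.Finite B' (LinearMap.ker (u.baseChange B')) := inferInstance
  -- freeness of the base-changed cokernel off `V(JB')`
  have hGU' : ∀ q' : PrimeSpectrum B', ¬ J.map (algebraMap B B') ≤ q'.asIdeal →
      Module.Free (Localization.AtPrime q'.asIdeal)
        (LocalizedModule q'.asIdeal.primeCompl (B' ⊗[B] G)) := by
    intro q' hq'
    have hq : ¬ J ≤ q'.asIdeal.comap (algebraMap B B') := fun h =>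
      hq' (Ideal.map_le_iff_le_comap.mpr h)
    haveI := hGU ⟨q'.asIdeal.comap (algebraMap B B'), inferInstance⟩ hq
    exact Groth.Agent.Lib.Helper12.BaseChangeFree.free_localizedModule_baseChange
      B B' q'.asIdeal G
  haveI hflat' : Module.Flat A' B' :=
    Module.Flat.isBaseChange (R := A) (S := A') (M := B) (N := B')
      (Algebra.IsPushout.symm (inferInstance : Algebra.IsPushout A B A' B')).out
  refine ⟨?_, ?_, ?_, ?_⟩
  · have hF2 : 2 ≤ LocCoh.idealDepth J F :=
      Groth.Agent.Lib.Helper93.Depth.two_le_idealDepth_of_exact J f u hf hfu hE0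
        (le_trans h12 hE1)
    refine Groth.Agent.S18703.result B J (le_trans h12 hB2) F ?_ hF2
    intro q hq
    haveI := hFU q hq
    infer_instance
  · refine Groth.Agent.S18703.result B' (J.map (algebraMap B B')) (le_trans h12 hB'2)
      (LinearMap.ker (u.baseChange B')) ?_
      (Groth.Agent.Lib.Helper93.Depth.two_le_idealDepth_ker _ _ hE0' (le_trans h12 hE1'))
    intro q' hq'
    haveI := hGU' q' hq'
    haveI := Groth.Agent.Lib.Helper12.FourTermBC.projective_localizedModule_ker
      q'.asIdeal.primeCompl (u.baseChange B') (v.baseChange B') huv' hv'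
    infer_instance
  · exact Groth.Agent.Lib.Helper93.Depth.two_le_idealDepth_ker _ _ hE0' (le_trans h12 hE1')
  · refine Groth.Agent.Lib.Helper12.FourTermLocal.global_iff A' B' (J.map (algebraMap B B'))
      (LinearMap.ker (u.baseChange B')).subtype (u.baseChange B') (v.baseChange B')
      Subtype.val_injective (LinearMap.exact_subtype_ker_map _) huv' hv' hGU' ?_
    intro q'
    rw [e2]
    exact Groth.Agent.Lib.Helper12.FourTermBC.le_idealDepth_fibLocRing_baseChange A B A' B' J 2
      hZ q'.asIdeal

end Groth.Agent.S18711
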