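import Groth.Statements.S18712
import Groth.Agent.Lib.Helper12.ArtinStep
import Groth.Agent.Lib.Helper12.ArtinLimit
import Groth.Agent.Lib.Helper12.S2Ker
import Groth.Agent.Lib.Helper12.FibS2Depth
import Groth.Agent.S18709

set_option autoImplicit false
universe u
open QGor

namespace Groth.Agent.S18712

open TensorProduct in
/-- Infinitesimal criterion, affine-local form. Let R be a Noetherian local ring with maximal ideal m, C
a finitely generated flat R-algebra, y = n a prime of C over m at which the fibre C_n/mC_n satisfies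
S₂ (the structure morphism satisfies relative S₂ at y), and F a finite reflexive C-module which is
free at every prime not containing an ideal J such that every fibre local ring C_q/pC_q at primes q
⊇ J has dimension ≥ 2 (F is locally free in codimension one on each fibre). Suppose that for every
surjective homomorphism R → A′ onto an Artinian local ring and the Noetherian pushout C′ = A′ ⊗_R C,
at every prime q′ of C′ lying over n the double dual (C′ ⊗_C F)^∨∨ is flat over A′ at q′ and its
fibre stalk satisfies S₂. Then F is flat over R at n and the fibre stalk F_n/mF_n satisfies S₂ (F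
satisfies relative S₂ at y). Test rings A′ range over the universe of R. -/
theorem result (R C : Type u) [CommRing R] [CommRing C] [IsNoetherianRing R] [IsLocalRing R] [IsNoetherianRing C]
    [Algebra R C] [Module.Flat R C] (hft : Algebra.FiniteType R C)
    (n : PrimeSpectrum C) (hn : (IsLocalRing.maximalIdeal R).map (algebraMap R C) ≤ n.asIdeal)
    (hS2 : LocCoh.HasSk 2 (EGA4.FibLocRing R C n.asIdeal) (EGA4.FibLocRing R C n.asIdeal))
    (F : Type u) [AddCommGroup F] [Module C F] [Module R F] [IsScalarTower R C F] [Module.Finite C F]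
    [Module.IsReflexive C F] (J : Ideal C)
    (hFU : ∀ q : PrimeSpectrum C, ¬ J ≤ q.asIdeal → Module.Free (Localization.AtPrime q.asIdeal) (LocalizedModule q.asIdeal.primeCompl F))
    (hcodim : ∀ q : PrimeSpectrum C, J ≤ q.asIdeal → (2 : WithBot ℕ∞) ≤ ringKrullDim (EGA4.FibLocRing R C q.asIdeal))
    (hI : ∀ (A' : Type u) [CommRing A'] [IsArtinianRing A'] [IsLocalRing A'] [Algebra R A'],
      Function.Surjective (algebraMap R A') →
      ∀ (C' : Type u) [CommRing C'] [IsNoetherianRing C'] [Algebra C C'] [Algebra A' C'] [Algebra R C']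
        [IsScalarTower R C C'] [IsScalarTower R A' C'], Algebra.IsPushout R C A' C' →
        ∀ q' : PrimeSpectrum C', q'.asIdeal.comap (algebraMap C C') = n.asIdeal →
          FlatCA.FlatAt A' q'.asIdeal (Module.Dual C' (Module.Dual C' (C' ⊗[C] F))) ∧
          LocCoh.HasSk 2 (EGA4.FibLocRing A' C' q'.asIdeal)
            (EGA4.FibLocMod A' C' q'.asIdeal (Module.Dual C' (Module.Dual C' (C' ⊗[C] F))))) :
    FlatCA.FlatAt R n.asIdeal F ∧ LocCoh.HasSk 2 (EGA4.FibLocRing R C n.asIdeal) (EGA4.FibLocMod R C n.asIdeal F) := by
  obtain ⟨a, b, g, h, hg, hgh, hGfree⟩ := Groth.Agent.S18709.result C J F hFU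
  have huv : Function.Exact h (LinearMap.range h).mkQ := LinearMap.exact_map_mkQ_range h
  have hv : Function.Surjective (LinearMap.range h).mkQ := Submodule.mkQ_surjective _
  have hL := Groth.Agent.Lib.Helper12.FibS2Depth.two_le_idealDepth_fibLocRing R C n.asIdeal
    hS2 J hcodim
  have hGn : Module.Flat R
      (LocalizedModule n.asIdeal.primeCompl ((Fin b → C) ⧸ LinearMap.range h)) := by
    refine Groth.Agent.Lib.Helper12.ArtinLimit.flat_localizedModule_of_forall_flat R C n.asIdeal
      ((Fin b → C) ⧸ LinearMap.range h) hn (fun k => ?_)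
    refine Groth.Agent.Lib.Helper12.ArtinStep.artin_step R C n.asIdeal J g h
      (LinearMap.range h).mkQ ((IsLocalRing.maximalIdeal R) ^ (k + 1)) hn hg hgh huv hv hGfree
      (Ideal.pow_le_self (Nat.succ_ne_zero k)) hL ?_
    intro q' hq'
    have hpush : Algebra.IsPushout R C (R ⧸ (IsLocalRing.maximalIdeal R) ^ (k + 1))
        (C ⧸ Ideal.map (algebraMap R C) ((IsLocalRing.maximalIdeal R) ^ (k + 1))) :=
      Groth.Agent.Lib.Helper12.LocQuot.isPushout_quotient R C _
    exact (hI (R ⧸ (IsLocalRing.maximalIdeal R) ^ (k + 1)) Ideal.Quotient.mk_surjective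
      (C ⧸ Ideal.map (algebraMap R C) ((IsLocalRing.maximalIdeal R) ^ (k + 1))) hpush q' hq').1
  exact Groth.Agent.Lib.Helper12.S2Ker.flat_and_hasSk R C n.asIdeal g h (LinearMap.range h).mkQ
    hn hg hgh huv hv hS2 hGn

end Groth.Agent.S18712
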