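import Groth.Statements.S18716
import Groth.Agent.Lib.Helper60.SkDual1
import Groth.Agent.S1722
open Groth.Agent.Lib.Helper60

set_option autoImplicit false
universe u
open CategoryTheory
attribute [local instance] HasDerivedCategory.standard
open QGor

namespace Groth.Agent.S18716

/-- Affine form. Let A be a Noetherian ring with a dualizing complex ω, M a finite A-module and, for j ∈
ℤ, E^j = Ext^j(M, ω) the A-module of morphisms M → ω[j] in D(A). For k ≥ 1, M satisfies (S_k) if and
only if for all integers i > j the closed set Supp E^i ∩ Supp E^j has codimension ≥ k + i − j in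
Supp M, i.e. dim Supp(M_p) ≥ k + i − j for every prime p in Supp E^i ∩ Supp E^j. -/
theorem result (A : Type u) [CommRing A] [IsNoetherianRing A]
    (ω : Dual.D A) (hω : Dual.IsDualizing A ω) (M : Type u) [AddCommGroup M] [Module A M] [Module.Finite A M]
    (k : ℕ) (hk : 1 ≤ k) :
    LocCoh.HasSk k A M ↔
      ∀ (i j : ℤ), j < i → ∀ p : PrimeSpectrum A,
        p ∈ Module.support A (Dual.inD A M ⟶ ω⟦i⟧) → p ∈ Module.support A (Dual.inD A M ⟶ ω⟦j⟧) →
          (((k : ℤ) + i - j).toNat : WithBot ℕ∞) ≤
            Module.supportDim (Localization.AtPrime p.asIdeal) (LocalizedModule p.asIdeal.primeCompl M) := by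
  obtain ⟨δ, hδ1, -⟩ := Groth.Agent.S1722.result A ω hω
  constructor
  · intro hSk i j hji p hpi hpj
    rw [Module.mem_support_iff] at hpi hpj
    have hNB : IsNoetherianRing (Localization.AtPrime p.asIdeal) :=
      IsLocalization.isNoetherianRing p.asIdeal.primeCompl (Localization.AtPrime p.asIdeal)
        inferInstance
    have hnt : Nontrivial (LocalizedModule p.asIdeal.primeCompl M) := by
      by_contra hcon
      rw [not_nontrivial_iff_subsingleton] at hcon
      have := SkDual.loc_ext_subsingleton_of_subsingleton ω hω p.asIdeal (δ p) (hδ1 p) M i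
      exact not_subsingleton _ this
    obtain ⟨n, hn⟩ := Groth.Agent.Lib.Helper29.exists_nat_supportDim_eq
      (Localization.AtPrime p.asIdeal) (LocalizedModule p.asIdeal.primeCompl M)
    have hne := Groth.Agent.Lib.Helper29.depth_ne_top
      (Localization.AtPrime p.asIdeal) (LocalizedModule p.asIdeal.primeCompl M)
    obtain ⟨k₀, hk₀⟩ : ∃ k₀ : ℕ, LocCoh.depth (Localization.AtPrime p.asIdeal)
        (LocalizedModule p.asIdeal.primeCompl M) = k₀ := by
      lift LocCoh.depth (Localization.AtPrime p.asIdeal)
        (LocalizedModule p.asIdeal.primeCompl M) to ℕ using hne with k₀ hk₀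
      exact ⟨k₀, rfl⟩
    have h1 := SkDual.loc_ext_range ω hω p.asIdeal (δ p) (hδ1 p) M n k₀ hn hk₀ i hpi
    have h2 := SkDual.loc_ext_range ω hω p.asIdeal (δ p) (hδ1 p) M n k₀ hn hk₀ j hpj
    have h3 := hSk p.asIdeal
    rw [hn, hk₀] at h3
    have h4 : min k n ≤ k₀ := by
      rcases min_le_iff.1 h3 with h | h
      · exact min_le_iff.2 (Or.inl (by exact_mod_cast h))
      · exact min_le_iff.2 (Or.inr (by exact_mod_cast h))
    rw [hn]
    have h5 : ((k : ℤ) + i - j).toNat ≤ n := by
      rcases min_le_iff.1 (le_of_eq (rfl : min k n = min k n)) with h | h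
      · omega
      · omega
    exact_mod_cast h5
  · intro H p hp
    have hNB : IsNoetherianRing (Localization.AtPrime p) :=
      IsLocalization.isNoetherianRing p.primeCompl (Localization.AtPrime p) inferInstance
    by_cases hnt : Nontrivial (LocalizedModule p.primeCompl M)
    · obtain ⟨n, hn⟩ := Groth.Agent.Lib.Helper29.exists_nat_supportDim_eq
        (Localization.AtPrime p) (LocalizedModule p.primeCompl M)
      have hne := Groth.Agent.Lib.Helper29.depth_ne_top
        (Localization.AtPrime p) (LocalizedModule p.primeCompl M)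
      have hle := Groth.Agent.Lib.Helper29.depth_le_supportDim
        (Localization.AtPrime p) (LocalizedModule p.primeCompl M)
      obtain ⟨k₀, hk₀⟩ : ∃ k₀ : ℕ, LocCoh.depth (Localization.AtPrime p)
          (LocalizedModule p.primeCompl M) = k₀ := by
        lift LocCoh.depth (Localization.AtPrime p)
          (LocalizedModule p.primeCompl M) to ℕ using hne with k₀ hk₀
        exact ⟨k₀, rfl⟩
      rw [hn, hk₀] at hle ⊢
      have hle' : k₀ ≤ n := by exact_mod_cast hle
      have hgoal : min k n ≤ k₀ := by
        rcases hle'.eq_or_lt with heq | hlt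
        · rw [heq]; exact min_le_right _ _
        · have hi := SkDual.loc_ext_nontrivial_depth ω hω p (δ ⟨p, hp⟩) (hδ1 ⟨p, hp⟩) M k₀ hk₀
          have hj := SkDual.loc_ext_nontrivial_dim ω hω p (δ ⟨p, hp⟩) (hδ1 ⟨p, hp⟩) M n hn
          have h6 := H (-(δ ⟨p, hp⟩) - (k₀ : ℤ)) (-(δ ⟨p, hp⟩) - (n : ℤ)) (by omega) ⟨p, hp⟩
            (Module.mem_support_iff.2 hi) (Module.mem_support_iff.2 hj)
          rw [hn] at h6
          have h7 : ((k : ℤ) + (-(δ ⟨p, hp⟩) - (k₀ : ℤ)) - (-(δ ⟨p, hp⟩) - (n : ℤ))).toNat ≤ n := by
            exact_mod_cast h6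
          have : k ≤ k₀ := by omega
          exact (min_le_left _ _).trans this
      rcases min_le_iff.1 hgoal with h | h
      · exact min_le_iff.2 (Or.inl (by exact_mod_cast h))
      · exact min_le_iff.2 (Or.inr (by exact_mod_cast h))
    · rw [not_nontrivial_iff_subsingleton] at hnt
      rw [Module.supportDim_eq_bot_of_subsingleton, min_bot_right]
      exact bot_le

end Groth.Agent.S18716
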