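import Groth.Statements.S18718
import Groth.Agent.Lib.Helper12.FibreDepthBC
import Groth.Agent.Lib.Helper12.DualBij
import Groth.Agent.Lib.Helper12.BaseChangeFree
import Groth.Agent.Lib.Helper93.DepthHom
import Groth.Agent.S18703

set_option autoImplicit false
universe u
open QGor

namespace Groth.Agent.S18718

open TensorProduct in
/-- Affine form. Let A → B be a flat homomorphism of Noetherian rings, J an ideal of B such that the
fibre local ring B_q/pB_q has depth ≥ 2 at every prime q ⊇ J (p its contraction), A → A′ a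
homomorphism of Noetherian rings with Noetherian pushout B′ = A′ ⊗_A B, and F a finite B-module with
F_q free for every prime q not containing J. Then depth_J (F^∨∨) ≥ 2 (the double dual is the module
of sections of F off V(J)); the natural map (B′ ⊗_B F)^∨∨ → (B′ ⊗_B F^∨∨)^∨∨ obtained by dualising
twice the base change of F → F^∨∨ is bijective; and if moreover F is flat over A and the fibre
stalks F_q/pF_q have depth ≥ 2 at all primes q ⊇ J, then F and B′ ⊗_B F are reflexive. -/
theorem result (A B : Type u) [CommRing A] [CommRing B] [IsNoetherianRing A] [IsNoetherianRing B] [Algebra A B]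
    (A' B' : Type u) [CommRing A'] [CommRing B'] [IsNoetherianRing A'] [IsNoetherianRing B']
    [Algebra A A'] [Algebra B B'] [Algebra A' B'] [Algebra A B'] [IsScalarTower A B B'] [IsScalarTower A A' B']
    [Algebra.IsPushout A B A' B'] [Module.Flat A B] (J : Ideal B)
    (hZ : ∀ q : PrimeSpectrum B, J ≤ q.asIdeal →
      2 ≤ LocCoh.idealDepth (q.asIdeal.map (algebraMap B (EGA4.FibLocRing A B q.asIdeal))) (EGA4.FibLocRing A B q.asIdeal))
    (F : Type u) [AddCommGroup F] [Module B F] [Module A F] [IsScalarTower A B F] [Module.Finite B F]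
    (hFU : ∀ q : PrimeSpectrum B, ¬ J ≤ q.asIdeal → Module.Free (Localization.AtPrime q.asIdeal) (LocalizedModule q.asIdeal.primeCompl F)) :
    2 ≤ LocCoh.idealDepth J (Module.Dual B (Module.Dual B F)) ∧
    Function.Bijective (((Module.Dual.eval B F).baseChange B').dualMap.dualMap) ∧
    (Module.Flat A F →
      (∀ q : PrimeSpectrum B, J ≤ q.asIdeal →
        2 ≤ LocCoh.idealDepth (q.asIdeal.map (algebraMap B (EGA4.FibLocRing A B q.asIdeal))) (EGA4.FibLocMod A B q.asIdeal F)) →
      Module.IsReflexive B F ∧ Module.IsReflexive B' (B' ⊗[B] F)) := by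
  have hB2 : ((2 : ℕ) : ℕ∞) ≤ LocCoh.idealDepth J B :=
    Groth.Agent.Lib.Helper12.FibreDepth.le_idealDepth_self_of_fibLocRing A B J 2 hZ
  have hB'2 : ((2 : ℕ) : ℕ∞) ≤ LocCoh.idealDepth (J.map (algebraMap B B')) B' :=
    Groth.Agent.Lib.Helper12.FibreDepthBC.le_idealDepth_baseChange_self_of_fibLocRing
      A B A' B' J 2 hZ
  have h12 : (1 : ℕ∞) ≤ ((2 : ℕ) : ℕ∞) := by norm_num
  have hUrefl : ∀ q : PrimeSpectrum B, ¬ J ≤ q.asIdeal →
      Module.IsReflexive (Localization.AtPrime q.asIdeal)
        (LocalizedModule q.asIdeal.primeCompl F) := by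
    intro q hq
    haveI := hFU q hq
    infer_instance
  refine ⟨?_, ?_, ?_⟩
  · exact Groth.Agent.Lib.Helper93.Depth.two_le_idealDepth_linearMap J (Module.Dual B F) B
      (by simpa using hB2)
  · obtain ⟨n, hK, hC⟩ := Groth.Agent.Lib.Helper12.DualBij.exists_pow_eval J F hUrefl
    have h1 := Groth.Agent.Lib.Helper12.DualBij.baseChange_dualMap_bijective (B' := B') J
      (by simpa using hB'2) (Module.Dual.eval B F) n hK hC
    exact (LinearEquiv.ofBijective _ h1).dualMap.bijective
  · intro hflat hfib
    haveI := hflat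
    constructor
    · have hF2 := Groth.Agent.Lib.Helper12.FibreDepth.le_idealDepth_of_fibLocMod A B J F 2 hfib
      exact Groth.Agent.S18703.result B J (le_trans h12 hB2) F hUrefl (by simpa using hF2)
    · have hF'2 := Groth.Agent.Lib.Helper12.FibreDepthBC.le_idealDepth_baseChange_of_fibLocMod
        A B A' B' J F 2 hfib
      refine Groth.Agent.S18703.result B' (J.map (algebraMap B B')) (le_trans h12 hB'2)
        (B' ⊗[B] F) ?_ (by simpa using hF'2)
      intro q' hq'
      have hq : ¬ J ≤ q'.asIdeal.comap (algebraMap B B') := fun h =>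
        hq' (Ideal.map_le_iff_le_comap.mpr h)
      haveI := hFU ⟨q'.asIdeal.comap (algebraMap B B'), inferInstance⟩ hq
      haveI := Groth.Agent.Lib.Helper12.BaseChangeFree.free_localizedModule_baseChange
        B B' q'.asIdeal F
      infer_instance

end Groth.Agent.S18718
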