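import Groth.Statements.S18719
import Groth.Agent.Lib.Helper60.SkDual7
open Groth.Agent.Lib.Helper60

set_option autoImplicit false
universe u
open CategoryTheory
attribute [local instance] HasDerivedCategory.standard
open QGor

namespace Groth.Agent.S18719

/-- Affine-local form. Let A be a Noetherian local ring of Krull dimension n with a normalized dualizing
complex ω, and K = H^{-n}(ω) the dualizing module (for A satisfying S₂, ω[−n] is the ordinary
dualizing complex and K its dualizing sheaf). If A satisfies (S₂), then r ↦ r · id_K is a bijection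
A → Hom_A(K, K). If A satisfies (S₃), then Ext¹_A(K, K) = 0 (no nonzero morphisms K → K[1] in D(A)). -/
theorem result (A : Type u) [CommRing A] [IsNoetherianRing A]
    [IsLocalRing A] (ω : Dual.D A) (hω : Dual.IsDualizing A ω) (hn : Dual.IsNormalized A ω)
    (n : ℕ) (hd : ringKrullDim A = n) :
    (LocCoh.HasSk 2 A A →
      Function.Bijective (fun r : A => r • (LinearMap.id : Dual.HD A ω (-(n : ℤ)) →ₗ[A] Dual.HD A ω (-(n : ℤ))))) ∧
    (LocCoh.HasSk 3 A A →
      Subsingleton (Dual.inD A (Dual.HD A ω (-(n : ℤ))) ⟶ (Dual.inD A (Dual.HD A ω (-(n : ℤ))))⟦(1 : ℤ)⟧)) := by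
  constructor
  · intro h2
    have hEq := SkDual.isEquidim_of_hasSk_two ω hω h2
    exact SkDual.toEnd_bijective ω hω hn n hd hEq 2 (by norm_num) h2 le_rfl
  · intro h3
    have h2 : LocCoh.HasSk 2 A A := by
      intro p hp
      refine le_trans (min_le_min_right _ ?_) (h3 p)
      exact_mod_cast (by norm_num : (2 : ℕ) ≤ 3)
    have hEq := SkDual.isEquidim_of_hasSk_two ω hω h2
    exact SkDual.subsingleton_ext_one ω hω hn n hd hEq 3 (by norm_num) h3 le_rfl

end Groth.Agent.S18719
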