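import Groth.Statements.S1872
-- import your own Groth.Agent.* helpers here
import Groth.Agent.Lib.Helper85.IntMult.Geom
import Groth.Agent.Lib.Helper85.IntMult.CMPair
import Groth.Agent.S1535

set_option autoImplicit false
universe u
open CategoryTheory AlgebraicGeometry
attribute [local instance] HasDerivedCategory.standard
open IntMult

namespace Groth.Agent.S1872

/-- First statement; the cycle-level consequence V·W = [V ∩ W] is not stated: when both local rings
O_{V,ξ} and O_{W,ξ} are Cohen–Macaulay, the intersection multiplicity e(X, V·W, Z) is the length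
over O_{X,ξ} of the local ring at ξ of the scheme-theoretic intersection V ∩ W. Here X is a
nonsingular variety over an algebraically closed field K (smooth, separated, of finite type,
integral), V and W are closed subvarieties given by quasi-coherent ideal sheaves with integral
subschemes, of dimensions r and s with dim X = n, intersecting properly, and ξ is the generic point
of an irreducible component Z of V ∩ W; e(X, V·W, Z) is the alternating sum of lengths of Tor over
O_{X,ξ}. -/
theorem result (K : Type u) [Field K] [IsAlgClosed K] (X : Scheme.{u}) (f : X ⟶ Spec (CommRingCat.of K)) [Smooth f] [IsSeparated f] [QuasiCompact f] [IsIntegral X] (IV IW : X.IdealSheafData) [IsIntegral IV.subscheme] [IsIntegral IW.subscheme] (n r s : ℕ) (hn : topologicalKrullDim X = n) (hr : topologicalKrullDim IV.support = r) (hs : topologicalKrullDim IW.support = s) (hprop : IntMult.ProperInt (IV.support : Set X) (IW.support : Set X) n r s) (ξ : X) (hξV : ξ ∈ IV.support) (hξW : ξ ∈ IW.support) (hmax : ∀ ξ' : X, ξ' ∈ IV.support → ξ' ∈ IW.support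 → ξ' ⤳ ξ → ξ' = ξ) (hV : LocCoh.IsCohenMacaulayLocalRing (↑(X.presheaf.stalk ξ) ⧸ IntMult.stalkIdeal IV ξ)) (hW : LocCoh.IsCohenMacaulayLocalRing (↑(X.presheaf.stalk ξ) ⧸ IntMult.stalkIdeal IW ξ)) : (IntMult.mult IV IW ξ : ℤ) = (Module.length (X.presheaf.stalk ξ) (↑(X.presheaf.stalk ξ) ⧸ (IntMult.stalkIdeal IV ξ ⊔ IntMult.stalkIdeal IW ξ))).toNat := by
  have : IsLocallyNoetherian X := LocallyOfFiniteType.isLocallyNoetherian f
  let _ : X.Over (Spec (CommRingCat.of K)) := ⟨f⟩
  have hsm : Smooth (X ↘ Spec (CommRingCat.of K)) := ‹Smooth f›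
  have hA : IsRegularLocalRing (X.presheaf.stalk ξ) := Groth.Agent.S1535.result K X ξ
  obtain ⟨a, p, q, d, ha, hp, hq, had, hpd, hqd, hle⟩ :=
    Groth.Agent.Lib.Helper85.IntMultGeom.exists_dims f IV IW n r s hn hr hs hprop ξ hξV hξW
  have hfl := Groth.Agent.Lib.Helper85.IntMultGeom.exists_pow_maximalIdeal_le IV IW ξ hξV hξW hmax
  have hdim : ringKrullDim (X.presheaf.stalk ξ) ≤
      ringKrullDim (↑(X.presheaf.stalk ξ) ⧸ IntMult.stalkIdeal IV ξ) +
        ringKrullDim (↑(X.presheaf.stalk ξ) ⧸ IntMult.stalkIdeal IW ξ) := by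
    rw [ha, hp, hq]
    exact_mod_cast (by omega : a ≤ p + q)
  have := hV
  have := hW
  unfold IntMult.mult
  exact Groth.Agent.Lib.Helper85.IntMultAlg.intMult_chi_eq_length_of_cm
    (IntMult.stalkIdeal IV ξ) (IntMult.stalkIdeal IW ξ) hfl hdim

end Groth.Agent.S1872
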