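import Groth.Statements.S18720
import Groth.Agent.Lib.Helper60.SkDual5
import Groth.Agent.S0369
import Groth.Agent.Lib.Helper29.SkQuot
import Groth.Agent.Lib.Helper29.DepthLoc2
open Groth.Agent.Lib.Helper60

set_option autoImplicit false
universe u
open CategoryTheory
attribute [local instance] HasDerivedCategory.standard
open QGor

namespace Groth.Agent.S18720

/-- Affine-local form. Let A be a Noetherian local ring of Krull dimension n with a dualizing complex ω,
L = H⁰(ω), and J an ideal with ht J ≥ 1 such that ω restricted off V(J) is L placed in degree 0,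
i.e. H^i(ω)_p = 0 for every i ≠ 0 and every prime p not containing J. Then ω is ordinary (its
codimension function is p ↦ ht p), which for the local ring means: A is equidimensional and ω[n] is
normalized; and L satisfies (S₂). If moreover ht J ≥ 2, then depth_J L ≥ 2 (L is the module of
sections of its restriction off V(J)). -/
theorem result (A : Type u) [CommRing A] [IsNoetherianRing A]
    [IsLocalRing A] (ω : Dual.D A) (hω : Dual.IsDualizing A ω) (n : ℕ) (hd : ringKrullDim A = n)
    (J : Ideal A) (hJ : 1 ≤ J.height)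
    (hoff : ∀ p : PrimeSpectrum A, ¬ J ≤ p.asIdeal → ∀ i : ℤ, i ≠ 0 → p ∉ Module.support A (Dual.HD A ω i)) :
    (EGA4.IsEquidim A ∧ Dual.IsNormalized A (ω⟦(n : ℤ)⟧) ∧ LocCoh.HasSk 2 A (Dual.HD A ω 0)) ∧
    (2 ≤ J.height → 2 ≤ LocCoh.idealDepth J (Dual.HD A ω 0)) := by
  classical
  obtain ⟨δ, hδ1, hδ2⟩ := Groth.Agent.S1722.result A ω hω
  have hfinL : Module.Finite A (Dual.HD A ω 0) := hω.finite_cohomology 0
  -- `δ q = 0` at the minimal primes
  have hδmin : ∀ q : PrimeSpectrum A, q.asIdeal ∈ minimalPrimes A → δ q = 0 := by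
    intro q hq
    have hJq : ¬ J ≤ q.asIdeal := by
      intro hle
      have h1 := Ideal.height_mono hle
      rw [Ideal.height_eq_zero_iff.2 hq] at h1
      have h2 : (1 : ℕ∞) ≤ 0 := hJ.trans h1
      simp at h2
    have hn1 : ∀ i : ℤ, i ≠ -δ q → Subsingleton (Dual.inD (Localization.AtPrime q.asIdeal)
        (Localization.AtPrime q.asIdeal ⧸
          IsLocalRing.maximalIdeal (Localization.AtPrime q.asIdeal)) ⟶
        (Groth.Agent.Lib.Helper6.LocDual.Gat q.asIdeal ω)⟦i⟧) := by
      intro i hi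
      obtain ⟨e3⟩ := Groth.Agent.Lib.Helper6.LocDual.nonempty_locHomEquiv_residue ω hω q.asIdeal i
      have h1 : Subsingleton (LocalizedModule q.asIdeal.primeCompl
          (Dual.inD A (A ⧸ q.asIdeal) ⟶ ω⟦i⟧)) := by
        rw [← not_nontrivial_iff_subsingleton, hδ1 q i]
        exact hi
      exact e3.symm.subsingleton
    have h2 := (Groth.Agent.Lib.Helper6.LocDual.minimalPrime_HD_nontrivial_iff ω hω q.asIdeal hq
      (-δ q) hn1 (-δ q)).2 rfl
    by_contra hne
    exact hoff q hJq (-δ q) (by omega) (Module.mem_support_iff.2 h2)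
  -- `δ ⊤ = -n`
  have hdimA : Module.supportDim A A = n := by
    rw [Module.supportDim_self_eq_ringKrullDim, hd]
  have hannA : Module.annihilator A A = ⊥ := Module.annihilator_eq_bot.2 inferInstance
  have hδtop : δ ⊤ = -(n : ℤ) := by
    obtain ⟨q, hqmin, hqdim⟩ := Groth.Agent.Lib.Helper6.CMChar.exists_minimal_support A n hdimA
    rw [hannA] at hqmin
    obtain ⟨m, hm1, hm2⟩ := Groth.Agent.Lib.Helper6.DimFun.exists_nat δ hδ2 q
    have hmn : m = n := by
      have : ((m : ℕ) : WithBot ℕ∞) = (n : WithBot ℕ∞) := hm1.symm.trans hqdim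
      exact_mod_cast this
    have := hδmin q hqmin
    omega
  have hδeq : ∀ p : PrimeSpectrum A, ∃ m : ℕ, ringKrullDim (A ⧸ p.asIdeal) = m ∧
      δ p = -(n : ℤ) + m := by
    intro p
    obtain ⟨m, hm1, hm2⟩ := Groth.Agent.Lib.Helper6.DimFun.exists_nat δ hδ2 p
    exact ⟨m, hm1, by rw [hm2, hδtop]⟩
  -- equidimensionality
  have hEq : EGA4.IsEquidim A := by
    intro q hq
    have hqprime : q.IsPrime := hq.1.1
    obtain ⟨m, hm1, hm2⟩ := hδeq ⟨q, hqprime⟩
    have h0 := hδmin ⟨q, hqprime⟩ hq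
    have hmn : m = n := by omega
    rw [hd]
    have hm1' : ringKrullDim (A ⧸ q) = m := hm1
    rw [hm1', hmn]
  -- normalization of `ω[n]`
  have hsub_of_loc : ∀ (X : Type (u + 1)) [AddCommGroup X] [Module A X],
      Subsingleton (LocalizedModule (⊤ : PrimeSpectrum A).asIdeal.primeCompl X) →
      Subsingleton X := by
    intro X _ _ hX
    by_contra hcon
    rw [not_subsingleton_iff_nontrivial] at hcon
    obtain ⟨p, hp⟩ := Module.nonempty_support_of_nontrivial (R := A) (M := X)
    have h1 : (⊤ : PrimeSpectrum A) ∈ Module.support A X :=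
      Module.mem_support_mono (le_top : p ≤ ⊤) hp
    rw [Module.mem_support_iff] at h1
    exact not_subsingleton _ hX
  have hnormal : Dual.IsNormalized A (ω⟦(n : ℤ)⟧) := by
    apply Groth.Agent.Lib.Helper6.DualShift.isNormalized_shift ω (n : ℤ)
    intro i hi
    have h1 : Subsingleton (LocalizedModule (⊤ : PrimeSpectrum A).asIdeal.primeCompl
        (Dual.inD A (A ⧸ (⊤ : PrimeSpectrum A).asIdeal) ⟶ ω⟦i⟧)) := by
      rw [← not_nontrivial_iff_subsingleton, hδ1 ⊤ i, hδtop]
      omega
    exact hsub_of_loc _ h1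
  have hωn : Dual.IsDualizing A (ω⟦(n : ℤ)⟧) :=
    Groth.Agent.Lib.Helper6.DualShift.isDualizing_shift ω hω n
  -- `(S_2)` via S0369
  have hS2 : LocCoh.HasSk 2 A (Dual.HD A ω 0) := by
    have h1 := (Groth.Agent.S0369.result A (ω⟦(n : ℤ)⟧) hωn hnormal n hd).2
    let e : Dual.HD A (ω⟦(n : ℤ)⟧) (-(n : ℤ)) ≃ₗ[A] Dual.HD A ω 0 :=
      (((DerivedCategory.homologyFunctor (ModuleCat.{u} A) 0).shiftIso (n : ℤ) (-(n : ℤ)) 0
        (by omega)).app ω).toLinearEquiv
    exact Groth.Agent.Lib.Helper29.hasSk_of_linearEquiv A 2 e h1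
  refine ⟨⟨hEq, hnormal, hS2⟩, ?_⟩
  intro hJ2
  -- vanishing of `H^i(ω)` for `i < 0`
  have ht : ∀ i : ℤ, i < 0 → Subsingleton (Dual.HD A ω i) := by
    intro i hi
    obtain ⟨e'⟩ := Groth.Agent.Lib.Helper6.HomSingle.nonempty_homSingleEquiv ω i
    have hlt : Module.supportDim A A < ((n + 1 : ℕ) : WithBot ℕ∞) := by
      rw [hdimA]
      exact_mod_cast Nat.lt_succ_self n
    have h1 := Groth.Agent.Lib.Helper6.NormDual.vanishing_below_dim (ω⟦(n : ℤ)⟧) hωn hnormal
      (n + 1) A hlt (i - n) (by push_cast; omega)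
    have h2 : Subsingleton (Dual.inD A A ⟶ ω⟦i⟧) := by
      have e2 := Iso.homCongr (Iso.refl (Dual.inD A A))
        ((shiftFunctorAdd' (Dual.D A) (n : ℤ) (i - n) i (by omega)).app ω)
      exact @Equiv.subsingleton _ _ e2 h1
    exact e'.symm.toEquiv.subsingleton
  rw [Groth.Agent.Lib.Helper29.idealDepth_eq_iInf_depth_localization]
  refine le_iInf₂ (fun p hJp => ?_)
  have hNB : IsNoetherianRing (Localization.AtPrime p.asIdeal) :=
    IsLocalization.isNoetherianRing p.asIdeal.primeCompl (Localization.AtPrime p.asIdeal)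
      inferInstance
  by_cases hnt : Nontrivial (LocalizedModule p.asIdeal.primeCompl (Dual.HD A ω 0))
  · obtain ⟨m, hm1, hm2⟩ := hδeq p
    -- `ht p + dim A/p ≤ n`
    have hpsupp : p ∈ Module.support A A := by
      rw [Module.support_eq_zeroLocus, hannA]
      simp
    have h1 := Groth.Agent.Lib.Helper29.supportDim_localizedModule_add_supportDim_quotient_le A A
      p.asIdeal
    rw [Groth.Agent.Lib.Helper29.supportDim_quotient_smul_top_eq_ringKrullDim_quotient A p hpsupp,
      Groth.Agent.Lib.Helper29.supportDim_localizedModule_self, hm1, hdimA] at h1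
    have h2 : (2 : ℕ∞) ≤ p.asIdeal.height := hJ2.trans (Ideal.height_mono hJp)
    have hfinht : p.asIdeal.height ≠ ⊤ := Ideal.height_ne_top_of_isPrime
    obtain ⟨hp, hhp⟩ := ENat.ne_top_iff_exists.1 hfinht
    rw [← hhp] at h1 h2
    have h3 : hp + m ≤ n := by exact_mod_cast h1
    have h4 : 2 ≤ hp := by exact_mod_cast h2
    have := SkDual.depth_HD_localization_ge ω hω p.asIdeal (δ p) (hδ1 p) 0 ht hnt 2 le_rfl
      (by rw [hm2]; push_cast; omega)
    exact_mod_cast this
  · rw [not_nontrivial_iff_subsingleton] at hnt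
    have := Groth.Agent.Lib.Helper29.depth_eq_top_of_subsingleton
      (Localization.AtPrime p.asIdeal) (LocalizedModule p.asIdeal.primeCompl (Dual.HD A ω 0))
    rw [this]
    exact le_top

end Groth.Agent.S18720
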