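import Groth.Statements.S18721
import Groth.Agent.Lib.Helper60.SkDual4
import Groth.Agent.Lib.Helper6.HomSingle
open Groth.Agent.Lib.Helper60

set_option autoImplicit false
universe u
open CategoryTheory
attribute [local instance] HasDerivedCategory.standard
open QGor

namespace Groth.Agent.S18721

/-- Affine form. Let k be a field and A a finitely generated k-algebra, equidimensional of Krull
dimension n, and let ω be a dualizing complex of A normalized at every maximal ideal m (no nonzero
morphisms A/m → ω[i] in D(A) for i ≠ 0 — the canonical dualizing complex of Spec A over k). Put Z_i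
= Supp H^{-i}(ω). Then H^{-i}(ω) = 0 for every i > n, and for every k′ ≥ 1: A satisfies (S_{k′}) if
and only if dim Z_i ≤ i − k′ for all i ≠ n, where for i < k′ this means H^{-i}(ω) = 0. -/
theorem result (k A : Type u) [Field k] [CommRing A]
    [Algebra k A] (hft : Algebra.FiniteType k A) [IsNoetherianRing A]
    (hEq : EGA4.IsEquidim A) (n : ℕ) (hd : ringKrullDim A = n)
    (ω : Dual.D A) (hω : Dual.IsDualizing A ω)
    (hnorm : ∀ (m : Ideal A) (_ : m.IsMaximal) (i : ℤ), i ≠ 0 → Subsingleton (Dual.inD A (A ⧸ m) ⟶ ω⟦i⟧)) :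
    (∀ i : ℕ, n < i → Subsingleton (Dual.HD A ω (-(i : ℤ)))) ∧
    ∀ k' : ℕ, 1 ≤ k' →
      (LocCoh.HasSk k' A A ↔
        ∀ i : ℕ, i ≠ n →
          (i < k' → Subsingleton (Dual.HD A ω (-(i : ℤ)))) ∧
          (k' ≤ i → Module.supportDim A (Dual.HD A ω (-(i : ℤ))) ≤ ((i - k' : ℕ) : WithBot ℕ∞))) := by
  have hN : ringKrullDim A ≤ ((n : ℕ) : WithBot ℕ∞) := hd.le
  have hM : EGA4.IsEquidimModule A A := by
    intro p hp
    rw [Module.supportDim_self_eq_ringKrullDim]
    have hann : Module.annihilator A A = ⊥ := Module.annihilator_eq_bot.2 inferInstance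
    rw [hann] at hp
    exact hEq p hp
  have hδ : Module.supportDim A A = n := by rw [Module.supportDim_self_eq_ringKrullDim, hd]
  have hdata := fun (p : PrimeSpectrum A)
      (hnt : Nontrivial (LocalizedModule p.asIdeal.primeCompl A)) =>
    SkDual.exists_data_global ω hω hnorm n hN A hM n hδ p hnt
  have eqv : ∀ j : ℤ, Nonempty ((Dual.inD A A ⟶ ω⟦j⟧) ≃ₗ[A] Dual.HD A ω j) := fun j =>
    Groth.Agent.Lib.Helper6.HomSingle.nonempty_homSingleEquiv ω j
  constructor
  · intro i hi
    obtain ⟨e⟩ := eqv (-(i : ℤ))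
    by_contra hcon
    rw [not_subsingleton_iff_nontrivial] at hcon
    have hnt : Nontrivial (Dual.inD A A ⟶ ω⟦-(i : ℤ)⟧) := e.toEquiv.nontrivial
    obtain ⟨p, hp⟩ := Module.nonempty_support_of_nontrivial (R := A)
      (M := (Dual.inD A A ⟶ ω⟦-(i : ℤ)⟧))
    have := SkDual.le_of_mem_support ω hω A n hdata _ p hp
    omega
  · intro k' hk'
    constructor
    · intro hSk i hi
      obtain ⟨e⟩ := eqv (-(i : ℤ))
      have hj : -(i : ℤ) ≠ -(n : ℤ) := by omega
      constructor
      · intro hlt
        by_contra hcon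
        rw [not_subsingleton_iff_nontrivial] at hcon
        have hnt : Nontrivial (Dual.inD A A ⟶ ω⟦-(i : ℤ)⟧) := e.toEquiv.nontrivial
        obtain ⟨p, hp⟩ := Module.nonempty_support_of_nontrivial (R := A)
          (M := (Dual.inD A A ⟶ ω⟦-(i : ℤ)⟧))
        obtain ⟨d, -, hd'⟩ := SkDual.claim_of_hasSk ω hω A n k' hdata hSk _ hj p hp
        omega
      · intro hle
        rw [← Module.supportDim_eq_of_equiv e]
        refine SkDual.supportDim_le_of_forall _ (fun p hp => ?_)
        obtain ⟨d, hd1, hd2⟩ := SkDual.claim_of_hasSk ω hω A n k' hdata hSk _ hj p hp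
        rw [hd1]
        have : d ≤ i - k' := by omega
        exact_mod_cast this
    · intro H
      refine SkDual.hasSk_of_claim ω hω A n k' hdata (fun j hj0 hjn p hp => ?_)
      obtain ⟨i, rfl⟩ : ∃ i : ℕ, j = -(i : ℤ) := ⟨(-j).toNat, by omega⟩
      obtain ⟨e⟩ := eqv (-(i : ℤ))
      have hi : i ≠ n := by omega
      obtain ⟨H1, H2⟩ := H i hi
      have hnt : Nontrivial (Dual.HD A ω (-(i : ℤ))) := by
        have : Nontrivial (Dual.inD A A ⟶ ω⟦-(i : ℤ)⟧) := Module.nonempty_support_iff.1 ⟨p, hp⟩
        exact e.symm.toEquiv.nontrivial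
      have hki : k' ≤ i := by
        by_contra hcon
        rw [not_le] at hcon
        exact not_subsingleton _ (H1 hcon)
      refine ⟨by omega, ?_⟩
      have h1 := Groth.Agent.Lib.Helper29.ringKrullDim_quotient_le_supportDim p hp
      rw [Module.supportDim_eq_of_equiv e] at h1
      refine (h1.trans (H2 hki)).trans ?_
      have : i - k' ≤ (-(-(i : ℤ)) - (k' : ℤ)).toNat := by omega
      exact_mod_cast this

end Groth.Agent.S18721
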