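import Groth.Statements.S18722
import Groth.Agent.Lib.Helper12.FibreDepth
import Groth.Agent.S18702
import Groth.Agent.S18703

set_option autoImplicit false
universe u
open QGor

namespace Groth.Agent.S18722

/-- Affine form. Let A → B be a flat homomorphism of Noetherian rings and J an ideal of B such that the
fibre local ring B_q/pB_q has depth ≥ 1 at every prime q ⊇ J (p the contraction of q); let F be a
finite B-module. (1) If F_q is reflexive for every prime q not containing J and depth_J F ≥ 2 (F is
the module of sections of its restriction off V(J)), then F is reflexive. (2) If F is reflexive and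
the fibre local rings at primes q ⊇ J have depth ≥ 2, then depth_J F ≥ 2. -/
theorem result (A B : Type u) [CommRing A] [CommRing B]
    [IsNoetherianRing A] [IsNoetherianRing B] [Algebra A B] [Module.Flat A B] (J : Ideal B)
    (hZ1 : ∀ q : PrimeSpectrum B, J ≤ q.asIdeal →
      1 ≤ LocCoh.idealDepth (q.asIdeal.map (algebraMap B (EGA4.FibLocRing A B q.asIdeal))) (EGA4.FibLocRing A B q.asIdeal))
    (F : Type u) [AddCommGroup F] [Module B F] [Module.Finite B F] :
    ((∀ q : PrimeSpectrum B, ¬ J ≤ q.asIdeal →
        Module.IsReflexive (Localization.AtPrime q.asIdeal) (LocalizedModule q.asIdeal.primeCompl F)) →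
      2 ≤ LocCoh.idealDepth J F → Module.IsReflexive B F) ∧
    (Module.IsReflexive B F →
      (∀ q : PrimeSpectrum B, J ≤ q.asIdeal →
        2 ≤ LocCoh.idealDepth (q.asIdeal.map (algebraMap B (EGA4.FibLocRing A B q.asIdeal))) (EGA4.FibLocRing A B q.asIdeal)) →
      2 ≤ LocCoh.idealDepth J F) := by
  refine ⟨fun hU h2 => ?_, fun _ hZ2 => ?_⟩
  · have hA : ((1 : ℕ) : ℕ∞) ≤ LocCoh.idealDepth J B :=
      Groth.Agent.Lib.Helper12.FibreDepth.le_idealDepth_self_of_fibLocRing A B J 1
        (fun q hq => by simpa using hZ1 q hq)
    exact Groth.Agent.S18703.result B J (by simpa using hA) F hU h2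
  · have hA : ((2 : ℕ) : ℕ∞) ≤ LocCoh.idealDepth J B :=
      Groth.Agent.Lib.Helper12.FibreDepth.le_idealDepth_self_of_fibLocRing A B J 2
        (fun q hq => hZ2 q hq)
    exact (Groth.Agent.S18702.result B J F).2.1 (by simpa using hA)

end Groth.Agent.S18722
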