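import Groth.Statements.S18723
import Groth.Agent.Lib.Helper60.DualSk
import Groth.Agent.S18720
import Groth.Agent.S18703

set_option autoImplicit false
universe u
open CategoryTheory
attribute [local instance] HasDerivedCategory.standard
open QGor

namespace Groth.Agent.S18723

/-- Affine-local form, with (2) for tensor powers m ≥ 0. Let A be a Noetherian local ring of Krull
dimension n with a dualizing complex ω, L = H⁰(ω), and J an ideal with ht J ≥ 2 (the closed set V(J)
has codimension ≥ 2) such that off V(J) the complex ω is the invertible module L in degree 0: for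
every prime p not containing J, H^i(ω)_p = 0 for i ≠ 0 and L_p is free of rank 1. (1) If A satisfies
(S₁), then ω is ordinary (A is equidimensional and ω[n] is normalized) and L is reflexive and
satisfies (S₂). (2) If A satisfies (S₂), then for every m ≥ 0 the double dual L^[m] of the m-th
tensor power of L satisfies (S₂) and depth_J L^[m] ≥ 2 (it is the module of sections of L^⊗m off
V(J)). -/
theorem result (A : Type u) [CommRing A] [IsNoetherianRing A]
    [IsLocalRing A] (ω : Dual.D A) (hω : Dual.IsDualizing A ω) (n : ℕ) (hd : ringKrullDim A = n)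
    (J : Ideal A) (hJ : 2 ≤ J.height)
    (hoff : ∀ p : PrimeSpectrum A, ¬ J ≤ p.asIdeal →
      (∀ i : ℤ, i ≠ 0 → p ∉ Module.support A (Dual.HD A ω i)) ∧
      Module.Free (Localization.AtPrime p.asIdeal) (LocalizedModule p.asIdeal.primeCompl (Dual.HD A ω 0)) ∧
      Module.finrank (Localization.AtPrime p.asIdeal) (LocalizedModule p.asIdeal.primeCompl (Dual.HD A ω 0)) = 1) :
    (LocCoh.HasSk 1 A A →
      (EGA4.IsEquidim A ∧ Dual.IsNormalized A (ω⟦(n : ℤ)⟧)) ∧
      Module.IsReflexive A (Dual.HD A ω 0) ∧ LocCoh.HasSk 2 A (Dual.HD A ω 0)) ∧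
    (LocCoh.HasSk 2 A A → ∀ m : ℕ,
      LocCoh.HasSk 2 A (Module.Dual A (Module.Dual A (TensorPower A m (Dual.HD A ω 0)))) ∧
      2 ≤ LocCoh.idealDepth J (Module.Dual A (Module.Dual A (TensorPower A m (Dual.HD A ω 0))))) := by
  have hJ1 : (1 : ℕ∞) ≤ J.height := le_trans (by norm_num) hJ
  have hoff' : ∀ p : PrimeSpectrum A, ¬ J ≤ p.asIdeal → ∀ i : ℤ, i ≠ 0 →
      p ∉ Module.support A (Dual.HD A ω i) := fun p hp => (hoff p hp).1
  obtain ⟨⟨hEq, hnorm, hS2⟩, hdep⟩ := Groth.Agent.S18720.result A ω hω n hd J hJ1 hoff'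
  have hdepL := hdep hJ
  have hfinL : Module.Finite A (Dual.HD A ω 0) := hω.finite_cohomology 0
  constructor
  · intro hS1
    refine ⟨⟨hEq, hnorm⟩, ?_, hS2⟩
    have hA1 : (1 : ℕ∞) ≤ LocCoh.idealDepth J A := by
      have := Groth.Agent.Lib.Helper60.DualSk.le_idealDepth_of_hasSk 1 hS1 J (by exact_mod_cast hJ1)
      exact_mod_cast this
    refine Groth.Agent.S18703.result A J hA1 (Dual.HD A ω 0) (fun p hp => ?_) hdepL
    have hfree : Module.Free (Localization.AtPrime p.asIdeal)
        (LocalizedModule p.asIdeal.primeCompl (Dual.HD A ω 0)) := (hoff p hp).2.1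
    have hfinp : Module.Finite (Localization.AtPrime p.asIdeal)
        (LocalizedModule p.asIdeal.primeCompl (Dual.HD A ω 0)) :=
      inferInstanceAs (Module.Finite (Localization p.asIdeal.primeCompl)
        (LocalizedModule p.asIdeal.primeCompl (Dual.HD A ω 0)))
    exact Module.IsReflexive.of_finite_of_free _ _
  · intro hS2A m
    have hA2 : (2 : ℕ∞) ≤ LocCoh.idealDepth J A := by
      have := Groth.Agent.Lib.Helper60.DualSk.le_idealDepth_of_hasSk 2 hS2A J (by exact_mod_cast hJ)
      exact_mod_cast this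
    constructor
    · exact Groth.Agent.Lib.Helper60.DualSk.hasSk_linearMap_self
        (Module.Dual A (TensorPower A m (Dual.HD A ω 0))) 2 le_rfl hS2A
    · exact Groth.Agent.Lib.Helper93.Depth.two_le_idealDepth_linearMap J
        (Module.Dual A (TensorPower A m (Dual.HD A ω 0))) A hA2

end Groth.Agent.S18723
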