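import Groth.Statements.S1873
-- import your own Groth.Agent.* helpers here
import Groth.Agent.Lib.Helper85.IntMult.Geom
import Groth.Agent.Lib.Helper85.IntMult.RegPair
import Groth.Agent.Lib.Helper85.RegularIdeal
import Groth.Agent.Lib.Helper28.RegularCM
import Groth.Agent.S6452
import Groth.Agent.S1535

set_option autoImplicit false
universe u
open CategoryTheory AlgebraicGeometry
attribute [local instance] HasDerivedCategory.standard
open IntMult

namespace Groth.Agent.S1873

/-- If the multiplicity of Z in the closed subscheme V ∩ W is 1, i.e. length_{O_{X,ξ}}(O_{V∩W,ξ}) = 1,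
then e(X, V·W, Z) = 1 and the local rings O_{V,ξ}, O_{W,ξ} are regular (V and W are smooth at a
general point of Z). Here X is a nonsingular variety over an algebraically closed field K (smooth,
separated, of finite type, integral), V and W are closed subvarieties given by quasi-coherent ideal
sheaves with integral subschemes, of dimensions r and s with dim X = n, intersecting properly, and ξ
is the generic point of an irreducible component Z of V ∩ W; e(X, V·W, Z) is the alternating sum of
lengths of Tor over O_{X,ξ}. -/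
theorem result (K : Type u) [Field K] [IsAlgClosed K] (X : Scheme.{u}) (f : X ⟶ Spec (CommRingCat.of K)) [Smooth f] [IsSeparated f] [QuasiCompact f] [IsIntegral X] (IV IW : X.IdealSheafData) [IsIntegral IV.subscheme] [IsIntegral IW.subscheme] (n r s : ℕ) (hn : topologicalKrullDim X = n) (hr : topologicalKrullDim IV.support = r) (hs : topologicalKrullDim IW.support = s) (hprop : IntMult.ProperInt (IV.support : Set X) (IW.support : Set X) n r s) (ξ : X) (hξV : ξ ∈ IV.support) (hξW : ξ ∈ IW.support) (hmax : ∀ ξ' : X, ξ' ∈ IV.support → ξ' ∈ IW.support → ξ' ⤳ ξ → ξ' = ξ) (h1 : Module.length (X.presheaf.stalk ξ) (↑(X.presheaf.stalk ξ) ⧸ (IntMult.stalkIdeal IV ξ ⊔ IntMult.stalkIdeal IW ξ)) = 1) : IntMult.mult IV IW ξ = 1 ∧ IsRegularLocalRing (↑(X.presheaf.stalk ξ) ⧸ IntMult.stalkIdeal IV ξ) ∧ IsRegularLocalRing (↑(X.presheaf.stalk ξ) ⧸ IntMult.stalkIdeal IW ξ) := by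
  have : IsLocallyNoetherian X := LocallyOfFiniteType.isLocallyNoetherian f
  let _ : X.Over (Spec (CommRingCat.of K)) := ⟨f⟩
  have hsm : Smooth (X ↘ Spec (CommRingCat.of K)) := ‹Smooth f›
  have hA : IsRegularLocalRing (X.presheaf.stalk ξ) := Groth.Agent.S1535.result K X ξ
  obtain ⟨a, p, q, d, ha, hp, hq, had, hpd, hqd, hle⟩ :=
    Groth.Agent.Lib.Helper85.IntMultGeom.exists_dims f IV IW n r s hn hr hs hprop ξ hξV hξW
  -- `P + Q = m`
  have hPQ : IntMult.stalkIdeal IV ξ ⊔ IntMult.stalkIdeal IW ξ =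
      IsLocalRing.maximalIdeal (X.presheaf.stalk ξ) := by
    have hsimple := Module.length_eq_one_iff.mp h1
    rw [isSimpleModule_iff_isCoatom] at hsimple
    exact IsLocalRing.eq_maximalIdeal (Ideal.isMaximal_def.mpr hsimple)
  have hdim : ringKrullDim (X.presheaf.stalk ξ) ≤
      ringKrullDim (↑(X.presheaf.stalk ξ) ⧸ IntMult.stalkIdeal IV ξ) +
        ringKrullDim (↑(X.presheaf.stalk ξ) ⧸ IntMult.stalkIdeal IW ξ) := by
    rw [ha, hp, hq]
    exact_mod_cast (by omega : a ≤ p + q)
  obtain ⟨hregP, hregQ, -⟩ :=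
    Groth.Agent.Lib.Helper85.RegPair.regular_of_sup_eq_maximalIdeal _ _ hPQ hdim
  refine ⟨?_, hregP, hregQ⟩
  obtain ⟨rs, hrs, hrsP⟩ :=
    Groth.Agent.Lib.Helper85.exists_regular_seq_of_quotient_regular (IntMult.stalkIdeal IV ξ) hregP
  have hg : IntMult.stalkIdeal IV ξ = Ideal.span (Set.range rs.get) := by
    rw [Groth.Agent.Lib.Helper85.Serre.span_range_get, hrsP]
  have hreg : RingTheory.Sequence.IsRegular (↑(X.presheaf.stalk ξ)) (List.ofFn rs.get) := by
    rw [List.ofFn_get]
    exact hrs
  have hW : LocCoh.IsCohenMacaulayLocalRing (↑(X.presheaf.stalk ξ) ⧸ IntMult.stalkIdeal IW ξ) :=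
    Groth.Agent.Lib.Helper28.isCohenMacaulayLocalRing_of_isRegularLocalRing _
  have key := Groth.Agent.S6452.result K X f IV IW n r s hn hr hs hprop ξ hξV hξW hmax
    rs.length rs.get hg hreg hW
  rw [sup_comm, h1] at key
  exact_mod_cast key

end Groth.Agent.S1873
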