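import Groth.Statements.S18731
import Groth.Agent.H8.EffCartier

set_option autoImplicit false
universe u
open CategoryTheory CategoryTheory.Limits AlgebraicGeometry TopologicalSpace
open ModPair

namespace Groth.Agent.S18731

/-- Let I on X and J on Y be quasi-coherent ideal sheaves of effective Cartier divisors and f : X ⟶ Y a
morphism satisfying the modulus condition I ≤ J.comap f (the closed subscheme J ×_Y X of X lies
inside the closed subscheme cut out by I). Then the pull-back of the divisor of J along f is
defined: J.comap f is the ideal sheaf of an effective Cartier divisor on X. -/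
theorem result {X Y : Scheme.{u}} (I : X.IdealSheafData)
    (J : Y.IdealSheafData) (hI : BlowUp.IsEffCartierIdeal I) (hJ : BlowUp.IsEffCartierIdeal J)
    (f : X ⟶ Y) (hf : ModPair.IsAmbient I J f) : BlowUp.IsEffCartierIdeal (J.comap f) := by
  intro x
  obtain ⟨V, hxV, b, hb, hV⟩ := hJ (f x)
  obtain ⟨U, hxU, hUV, a, ha, hU⟩ :=
    Groth.Agent.H8.EffCartier.exists_generator_le I hI x (f ⁻¹ᵁ V.1) hxV
  have hcomap : (J.comap f).ideal U = Ideal.span {(f.appLE V.1 U.1 hUV).hom b} := by
    rw [Groth.Agent.Lib.Helper18.ideal_comap_of_le f J U V hUV, hV, Ideal.map_span,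
      Set.image_singleton]
  refine ⟨U, hxU, (f.appLE V.1 U.1 hUV).hom b, ?_, hcomap⟩
  have hle : I.ideal U ≤ (J.comap f).ideal U := hf U
  have hamem : a ∈ Ideal.span {(f.appLE V.1 U.1 hUV).hom b} := by
    rw [← hcomap]
    apply hle
    rw [hU]
    exact Ideal.mem_span_singleton_self a
  obtain ⟨c, hc⟩ := Ideal.mem_span_singleton'.mp hamem
  rw [← hc] at ha
  exact (mul_mem_nonZeroDivisors.mp ha).2

end Groth.Agent.S18731
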