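import Groth.Statements.S18732
import Groth.Agent.Lib.Helper93.ModPairInterior

set_option autoImplicit false
universe u
open CategoryTheory CategoryTheory.Limits AlgebraicGeometry TopologicalSpace
open ModPair

namespace Groth.Agent.S18732

/-- Let X be a scheme, I the quasi-coherent ideal sheaf of an effective Cartier divisor on X with open
complement U, and f : X' ⟶ X a morphism of schemes for which the open immersion of f⁻¹(U) into X'
has all of X' as its scheme-theoretic image. Then f⁻¹(U) is scheme-theoretically dense in X' (for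
every open W of X' the inclusion of f⁻¹(U) ∩ W into W is scheme-theoretically dominant), and the
closed subscheme of X' pulled back from the divisor of I is an effective Cartier divisor: I.comap f
is the ideal sheaf of an effective Cartier divisor. -/
theorem result {X X' : Scheme.{u}}
    (I : X.IdealSheafData) (hI : BlowUp.IsEffCartierIdeal I) (f : X' ⟶ X)
    [IsSchemeTheoreticallyDominant (f ⁻¹ᵁ ModPair.interior I).ι] :
    (∀ W : X'.Opens, IsSchemeTheoreticallyDominant
        (X'.homOfLE (inf_le_right : f ⁻¹ᵁ ModPair.interior I ⊓ W ≤ W))) ∧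
      BlowUp.IsEffCartierIdeal (I.comap f) := by
  have hqc : QuasiCompact (f ⁻¹ᵁ ModPair.interior I).ι :=
    Groth.Agent.Lib.Helper93.ModPairInterior.quasiCompact_ι_preimage_interior I hI f
  refine ⟨fun W => ?_, ?_⟩
  · exact IsSchemeTheoreticallyDominant.of_isPullback
      (isPullback_opens_inf (f ⁻¹ᵁ ModPair.interior I) W)
  · intro x
    obtain ⟨V, hxV, b, hb, hV⟩ := hI (f x)
    obtain ⟨U, hU, hxU, hUV⟩ := TopologicalSpace.Opens.isBasis_iff_nbhd.mp X'.isBasis_affineOpens
      (show x ∈ f ⁻¹ᵁ V.1 from hxV)
    refine ⟨⟨U, hU⟩, hxU, (f.appLE V.1 U hUV).hom b, ?_, ?_⟩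
    · exact Groth.Agent.Lib.Helper93.ModPairInterior.appLE_generator_mem_nonZeroDivisors I hI f
        V b hV U hUV
    · rw [Groth.Agent.Lib.Helper18.ideal_comap_of_le f I ⟨U, hU⟩ V hUV, hV, Ideal.map_span,
        Set.image_singleton]

end Groth.Agent.S18732
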