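import Groth.Statements.S18733
import Groth.Agent.Lib.Helper93.ColonIdealSheaf
import Groth.Agent.Lib.Helper93.InfMulSup
import Groth.Agent.Lib.Helper93.ModPairAmbProd
import Groth.Agent.H8.EffCartier2

set_option autoImplicit false
universe u
open CategoryTheory CategoryTheory.Limits AlgebraicGeometry TopologicalSpace
open ModPair

namespace Groth.Agent.S18733

/-- Let D₁, D₂ be effective Cartier divisors on a scheme X, with quasi-coherent ideal sheaves I₁, I₂,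
such that the scheme-theoretic intersection E = D₁ ×_X D₂ (ideal sheaf I₁ ⊔ I₂) is again an
effective Cartier divisor. Then (1) the divisors D₁ − E and D₂ − E are effective and disjoint: there
are ideal sheaves I₁', I₂' of effective Cartier divisors with I₁ = I₁'·(I₁ ⊔ I₂), I₂ = I₂'·(I₁ ⊔ I₂)
and I₁' ⊔ I₂' = ⊤; and (2) the effective Cartier divisor D₁ + D₂ − E, with ideal sheaf I₁'·I₂'·(I₁ ⊔
I₂), is contained in every effective Cartier divisor D of X containing D₁ and D₂: if the ideal sheaf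
of D is ≤ I₁ and ≤ I₂ then it is ≤ I₁'·I₂'·(I₁ ⊔ I₂). -/
theorem result {X : Scheme.{u}} (I₁ I₂ : X.IdealSheafData)
    (h₁ : BlowUp.IsEffCartierIdeal I₁) (h₂ : BlowUp.IsEffCartierIdeal I₂)
    (hE : BlowUp.IsEffCartierIdeal (I₁ ⊔ I₂)) :
    ∃ I₁' I₂' : X.IdealSheafData, BlowUp.IsEffCartierIdeal I₁' ∧ BlowUp.IsEffCartierIdeal I₂' ∧
      I₁ = I₁' * (I₁ ⊔ I₂) ∧ I₂ = I₂' * (I₁ ⊔ I₂) ∧ I₁' ⊔ I₂' = ⊤ ∧
      ∀ D : X.IdealSheafData, BlowUp.IsEffCartierIdeal D → D ≤ I₁ → D ≤ I₂ →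
        D ≤ I₁' * I₂' * (I₁ ⊔ I₂) := by
  set E := I₁ ⊔ I₂ with hEdef
  have hft := Groth.Agent.Lib.Helper93.ColonIdealSheaf.isFiniteTypeIdeal_of_isEffCartierIdeal E hE
  set I₁' := Groth.Agent.Lib.Helper93.ColonIdealSheaf.colon I₁ E hft with hI₁'
  set I₂' := Groth.Agent.Lib.Helper93.ColonIdealSheaf.colon I₂ E hft with hI₂'
  have e₁ : I₁' * E = I₁ :=
    Groth.Agent.Lib.Helper93.ColonIdealSheaf.colon_mul_eq I₁ E hE le_sup_left
  have e₂ : I₂' * E = I₂ :=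
    Groth.Agent.Lib.Helper93.ColonIdealSheaf.colon_mul_eq I₂ E hE le_sup_right
  have c₁ : BlowUp.IsEffCartierIdeal I₁' :=
    (Groth.Agent.H8.EffCartier.isEffCartierIdeal_of_mul I₁' E (e₁.symm ▸ h₁)).1
  have c₂ : BlowUp.IsEffCartierIdeal I₂' :=
    (Groth.Agent.H8.EffCartier.isEffCartierIdeal_of_mul I₂' E (e₂.symm ▸ h₂)).1
  refine ⟨I₁', I₂', c₁, c₂, e₁.symm, e₂.symm, ?_, ?_⟩
  · apply le_antisymm le_top
    refine Groth.Agent.Lib.Helper93.ModPairAmbProd.le_of_mul_le_mul_of_isEffCartierIdeal E hE _ _ ?_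
    have h1 : (I₁' ⊔ I₂') * E = I₁' * E ⊔ I₂' * E := by
      apply Scheme.IdealSheafData.ext
      funext U
      change (I₁'.ideal U ⊔ I₂'.ideal U) * E.ideal U =
        I₁'.ideal U * E.ideal U ⊔ I₂'.ideal U * E.ideal U
      exact Ideal.sup_mul _ _ _
    rw [h1, e₁, e₂]
    intro U
    change (⊤ : Ideal Γ(X, U.1)) * E.ideal U ≤ E.ideal U
    exact Ideal.mul_le_right (I := (⊤ : Ideal Γ(X, U.1))) (J := E.ideal U)
  · intro D _ hD₁ hD₂
    refine le_trans (le_inf hD₁ hD₂) ?_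
    refine Groth.Agent.Lib.Helper93.ModPairAmbProd.le_of_mul_le_mul_of_isEffCartierIdeal E hE _ _ ?_
    rw [Groth.Agent.Lib.Helper93.InfMulSup.inf_mul_sup_eq_mul I₁ I₂ hE]
    apply le_of_eq
    calc I₁ * I₂ = (I₁' * E) * (I₂' * E) := by rw [e₁, e₂]
      _ = I₁' * I₂' * E * E := by ring

end Groth.Agent.S18733
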