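import Groth.Statements.S18734
-- import your own Groth.Agent.* helpers here
import Groth.Agent.Lib.Helper55.ValFlatQF

set_option autoImplicit false
universe u
open CategoryTheory CategoryTheory.Limits AlgebraicGeometry TopologicalSpace
open ModPair

namespace Groth.Agent.S18734

open TensorProduct Groth.Agent.Lib.Helper55

/-- Affine-source case: a flat, finite type `R`-algebra `A` over a valuation domain `R` whose
generic fibre is quasi-finite is quasi-finite. -/
theorem locallyQuasiFinite_of_affine {R : Type u} [CommRing R] [IsDomain R] [ValuationRing R]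
    (A : CommRingCat.{u}) (g : Spec A ⟶ Spec (CommRingCat.of R)) [Flat g]
    [LocallyOfFiniteType g]
    (hgen : LocallyQuasiFinite (pullback.snd g
      (Spec.map (CommRingCat.ofHom (algebraMap R (FractionRing R)))))) :
    LocallyQuasiFinite g := by
  obtain ⟨φ, rfl⟩ := Spec.map_surjective g
  have hflat : φ.hom.Flat := (HasRingHomProperty.Spec_iff (P := @Flat)).mp inferInstance
  have hft : φ.hom.FiniteType :=
    (HasRingHomProperty.Spec_iff (P := @LocallyOfFiniteType)).mp inferInstance
  rw [HasRingHomProperty.Spec_iff (P := @LocallyQuasiFinite)]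
  algebraize [φ.hom]
  have h0 : LocallyQuasiFinite (pullback.fst
      (Spec.map (CommRingCat.ofHom (algebraMap R (FractionRing R)))) (Spec.map φ)) := by
    rw [← pullbackSymmetry_hom_comp_snd]
    infer_instance
  have h1 : LocallyQuasiFinite (Spec.map (CommRingCat.ofHom
      (algebraMap (FractionRing R) (FractionRing R ⊗[R] A)))) := by
    rw [← pullbackSpecIso_inv_fst' R (FractionRing R) A]
    exact MorphismProperty.comp_mem _ _ _ inferInstance h0
  rw [HasRingHomProperty.Spec_iff (P := @LocallyQuasiFinite)] at h1
  have h2 : Algebra.QuasiFinite (FractionRing R) (FractionRing R ⊗[R] A) :=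
    RingHom.quasiFinite_algebraMap.mp h1
  have h3 : Module.Finite (FractionRing R) (FractionRing R ⊗[R] A) := Module.Finite.of_quasiFinite
  have h4 : Algebra.IsAlgebraic R A := isAlgebraic_of_finite_tensor (FractionRing R) A
  have h5 : Algebra.QuasiFinite R A := quasiFinite_of_hasGoingDown_of_isAlgebraic
  exact RingHom.quasiFinite_algebraMap.mpr h5

end Groth.Agent.S18734

namespace Groth.Agent.S18734

/-- Let R be a valuation ring with fraction field K and f : Y ⟶ Spec R a morphism of schemes which is
flat, proper and generically finite (the generic fibre Y ×_{Spec R} Spec K ⟶ Spec K is a finite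
morphism). Then f is finite. No finite-presentation hypothesis is assumed. -/
theorem result {R : Type u} [CommRing R]
    [IsDomain R] [ValuationRing R] {Y : Scheme.{u}} (f : Y ⟶ Spec (CommRingCat.of R)) [Flat f] [IsProper f]
    (hgen : IsFinite (pullback.snd f
      (Spec.map (CommRingCat.ofHom (algebraMap R (FractionRing R)))))) :
    IsFinite f := by
  suffices LocallyQuasiFinite f from IsFinite.of_isProper_of_locallyQuasiFinite f
  rw [IsZariskiLocalAtSource.iff_of_openCover (P := @LocallyQuasiFinite) Y.affineCover]
  intro i
  have hfl : Flat (Y.affineCover.f i ≫ f) := inferInstance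
  have hlft : LocallyOfFiniteType (Y.affineCover.f i ≫ f) := inferInstance
  refine @locallyQuasiFinite_of_affine R _ _ _ _ (Y.affineCover.f i ≫ f) hfl hlft ?_
  have h1 : pullback.snd (Y.affineCover.f i ≫ f)
      (Spec.map (CommRingCat.ofHom (algebraMap R (FractionRing R)))) =
      (pullbackRightPullbackFstIso f
        (Spec.map (CommRingCat.ofHom (algebraMap R (FractionRing R)))) (Y.affineCover.f i)).inv ≫
        pullback.snd _ _ ≫ pullback.snd _ _ := by
    simp
  have h2 : LocallyQuasiFinite ((pullbackRightPullbackFstIso f
        (Spec.map (CommRingCat.ofHom (algebraMap R (FractionRing R)))) (Y.affineCover.f i)).inv ≫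
        pullback.snd _ _ ≫ pullback.snd _ _) := inferInstance
  rw [← h1] at h2
  exact h2

end Groth.Agent.S18734
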