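import Groth.Statements.S18735
import Groth.Agent.Lib.Helper93.ModPairProd
import Groth.Agent.Lib.Helper93.RestrictPullback
import Mathlib.AlgebraicGeometry.Morphisms.Proper

set_option autoImplicit false
universe u
open CategoryTheory CategoryTheory.Limits AlgebraicGeometry TopologicalSpace
open ModPair

namespace Groth.Agent.S18735

/-- Let (S, I_S), (T, I_T), (X, I_X) be schemes equipped with quasi-coherent ideal sheaves of effective
Cartier divisors, g : T ⟶ S a morphism satisfying the modulus condition I_T ≤ I_S.comap g, and s : X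
⟶ S an abstract admissible blow-up (I_X = I_S.comap s, s proper and an isomorphism over the open
complement of the support of I_S). Let Y be the scheme-theoretic image in X ×_S T of the open
pr₁⁻¹(X°) ∩ pr₂⁻¹(T°), where X°, T° are the open complements of the supports of I_X, I_T, with
projections q : Y ⟶ T and r : Y ⟶ X. Then I_T.comap q is the ideal sheaf of an effective Cartier
divisor on Y, q is an abstract admissible blow-up from (Y, I_T.comap q) to (T, I_T), and r satisfies
the modulus condition from (Y, I_T.comap q) to (X, I_X). -/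
theorem result {S T X : Scheme.{u}} (IS : S.IdealSheafData)
    (IT : T.IdealSheafData) (IX : X.IdealSheafData) (hS : BlowUp.IsEffCartierIdeal IS)
    (hT : BlowUp.IsEffCartierIdeal IT) (hX : BlowUp.IsEffCartierIdeal IX)
    (g : T ⟶ S) (hg : ModPair.IsAmbient IT IS g) (s : X ⟶ S) (hs : ModPair.IsAdmBlowup IX IS s) :
    BlowUp.IsEffCartierIdeal (IT.comap (ModPair.mprodι s g IX IT ≫ pullback.snd s g)) ∧
      ModPair.IsAdmBlowup (IT.comap (ModPair.mprodι s g IX IT ≫ pullback.snd s g)) IT
        (ModPair.mprodι s g IX IT ≫ pullback.snd s g) ∧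
      ModPair.IsAmbient (IT.comap (ModPair.mprodι s g IX IT ≫ pullback.snd s g)) IX
        (ModPair.mprodι s g IX IT ≫ pullback.fst s g) := by
  obtain ⟨hsmin, hsprop, hsiso⟩ := hs
  have hprod := Groth.Agent.Lib.Helper93.ModPairProd.prodInterior_eq_snd IS IT IX s hsmin g hg
  have hqc : QuasiCompact (ModPair.prodInterior s g IX IT).ι := by
    rw [hprod]
    exact Groth.Agent.Lib.Helper93.ModPairInterior.quasiCompact_ι_preimage_interior IT hT _
  have hdom : IsSchemeTheoreticallyDominant
      ((ModPair.mprodι s g IX IT ≫ pullback.snd s g) ⁻¹ᵁ ModPair.interior IT).ι := by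
    have h := Groth.Agent.Lib.Helper93.ModPairProd.isSchemeTheoreticallyDominant_ι_preimage_imageι
      (ModPair.prodInterior s g IX IT)
    rw [Scheme.Hom.comp_preimage, ← hprod]
    exact h
  refine ⟨Groth.Agent.Lib.Helper93.ModPairProd.isEffCartierIdeal_comap_of_dominant IT hT _,
    ⟨rfl, ?_, ?_⟩, ?_⟩
  · -- properness
    have : IsProper (pullback.snd s g) := inferInstance
    infer_instance
  · -- isomorphism over the interior
    rw [morphismRestrict_comp]
    have h1 : IsIso (ModPair.mprodι s g IX IT ∣_ pullback.snd s g ⁻¹ᵁ ModPair.interior IT) :=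
      Groth.Agent.Lib.Helper93.ModPairProd.isIso_imageι_restrict _ _ (le_of_eq hprod.symm)
    have hrange : Set.range ((ModPair.interior IT).ι ≫ g) ⊆ Set.range (ModPair.interior IS).ι := by
      rintro _ ⟨t, rfl⟩
      rw [Scheme.Opens.range_ι, Scheme.Hom.comp_apply]
      exact Groth.Agent.Lib.Helper93.ModPairProd.interior_le_preimage_of_isAmbient IT IS g hg t.2
    let π := IsOpenImmersion.lift (ModPair.interior IS).ι ((ModPair.interior IT).ι ≫ g) hrange
    have hπ : π ≫ (ModPair.interior IS).ι = (ModPair.interior IT).ι ≫ g :=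
      IsOpenImmersion.lift_fac _ _ _
    have h2 : IsIso (pullback.snd s g ∣_ ModPair.interior IT) :=
      Groth.Agent.Lib.Helper93.RestrictPullback.restrict_of_isPullback
        (MorphismProperty.isomorphisms Scheme.{u}) (IsPullback.of_hasPullback s g).flip
        (ModPair.interior IT) (ModPair.interior IS) π hπ hsiso
    exact IsIso.comp_isIso' h1 h2
  · -- `r` is ambient
    change _ ≤ _
    have h1 : IX.comap (ModPair.mprodι s g IX IT ≫ pullback.fst s g) =
        (IS.comap g).comap (ModPair.mprodι s g IX IT ≫ pullback.snd s g) := by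
      rw [hsmin, ← Scheme.IdealSheafData.comap_comp, ← Scheme.IdealSheafData.comap_comp,
        Category.assoc, Category.assoc, pullback.condition]
    rw [h1]
    exact Scheme.IdealSheafData.comap_mono _ hg

end Groth.Agent.S18735
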