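import Groth.Statements.S18736
import Groth.Agent.Lib.Helper93.ModPairProd

set_option autoImplicit false
universe u
open CategoryTheory CategoryTheory.Limits AlgebraicGeometry TopologicalSpace
open ModPair

namespace Groth.Agent.S18736

/-- With the minimal-case product: let (S, I_S), (T, I_T), (X, I_X) be schemes equipped with
quasi-coherent ideal sheaves of effective Cartier divisors, p : X ⟶ S a morphism satisfying the
modulus condition I_X ≤ I_S.comap p, and f : T ⟶ S a minimal morphism, I_T = I_S.comap f. Let Y be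
the scheme-theoretic image in X ×_S T of the open pr₁⁻¹(X°) ∩ pr₂⁻¹(T°) (X°, T° the open complements
of the supports of I_X, I_T), with projections r : Y ⟶ X and q : Y ⟶ T, and put I_Y := I_X.comap r.
Then I_Y is the ideal sheaf of an effective Cartier divisor, q satisfies the modulus condition I_Y ≤
I_T.comap q, and (Y, I_Y) with q and r is the fibre product of (T, I_T) and (X, I_X) over (S, I_S)
among modulus pairs and morphisms satisfying the modulus condition: for every scheme W with the
ideal sheaf I_W of an effective Cartier divisor and morphisms a : W ⟶ T, b : W ⟶ X with I_W ≤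
I_T.comap a, I_W ≤ I_X.comap b and a ≫ f = b ≫ p, there is a unique c : W ⟶ Y with c ≫ q = a, c ≫ r
= b and I_W ≤ I_Y.comap c. -/
theorem result {S T X : Scheme.{u}} (IS : S.IdealSheafData)
    (IT : T.IdealSheafData) (IX : X.IdealSheafData) (hS : BlowUp.IsEffCartierIdeal IS)
    (hT : BlowUp.IsEffCartierIdeal IT) (hX : BlowUp.IsEffCartierIdeal IX)
    (p : X ⟶ S) (hp : ModPair.IsAmbient IX IS p) (f : T ⟶ S) (hf : ModPair.IsMinimal IT IS f) :
    BlowUp.IsEffCartierIdeal (IX.comap (ModPair.mprodι p f IX IT ≫ pullback.fst p f)) ∧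
      ModPair.IsAmbient (IX.comap (ModPair.mprodι p f IX IT ≫ pullback.fst p f)) IT
        (ModPair.mprodι p f IX IT ≫ pullback.snd p f) ∧
      ∀ (W : Scheme.{u}) (IW : W.IdealSheafData), BlowUp.IsEffCartierIdeal IW →
        ∀ (a : W ⟶ T) (b : W ⟶ X), ModPair.IsAmbient IW IT a → ModPair.IsAmbient IW IX b →
          a ≫ f = b ≫ p →
          ∃! c : W ⟶ ModPair.mprod p f IX IT,
            c ≫ ModPair.mprodι p f IX IT ≫ pullback.snd p f = a ∧
              c ≫ ModPair.mprodι p f IX IT ≫ pullback.fst p f = b ∧
              ModPair.IsAmbient IW (IX.comap (ModPair.mprodι p f IX IT ≫ pullback.fst p f)) c := by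
  have hprod := Groth.Agent.Lib.Helper93.ModPairProd.prodInterior_eq_fst IS IT IX p hp f hf
  have hqc : QuasiCompact (ModPair.prodInterior p f IX IT).ι := by
    rw [hprod]
    exact Groth.Agent.Lib.Helper93.ModPairInterior.quasiCompact_ι_preimage_interior IX hX _
  have hdom : IsSchemeTheoreticallyDominant
      ((ModPair.mprodι p f IX IT ≫ pullback.fst p f) ⁻¹ᵁ ModPair.interior IX).ι := by
    have h := Groth.Agent.Lib.Helper93.ModPairProd.isSchemeTheoreticallyDominant_ι_preimage_imageι
      (ModPair.prodInterior p f IX IT)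
    rw [Scheme.Hom.comp_preimage, ← hprod]
    exact h
  have hker : (ModPair.mprodι p f IX IT).ker = (ModPair.prodInterior p f IX IT).ι.ker :=
    Scheme.IdealSheafData.ker_subschemeι _
  refine ⟨Groth.Agent.Lib.Helper93.ModPairProd.isEffCartierIdeal_comap_of_dominant IX hX _, ?_, ?_⟩
  · -- `q` is ambient
    change _ ≤ _
    have h1 : IT.comap (ModPair.mprodι p f IX IT ≫ pullback.snd p f) =
        (IS.comap p).comap (ModPair.mprodι p f IX IT ≫ pullback.fst p f) := by
      rw [hf, ← Scheme.IdealSheafData.comap_comp, ← Scheme.IdealSheafData.comap_comp,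
        Category.assoc, Category.assoc, pullback.condition]
    rw [h1]
    exact Scheme.IdealSheafData.comap_mono _ hp
  · intro W IW hW a b ha hb hab
    -- the map to the fibre product
    let c₀ : W ⟶ pullback p f := pullback.lift b a hab.symm
    have hc₀1 : c₀ ≫ pullback.fst p f = b := pullback.lift_fst _ _ _
    have hc₀2 : c₀ ≫ pullback.snd p f = a := pullback.lift_snd _ _ _
    have hWqc : QuasiCompact (ModPair.interior IW).ι :=
      Groth.Agent.Lib.Helper93.ModPairInterior.quasiCompact_ι_interior IW hW
    have hWdom : IsSchemeTheoreticallyDominant (ModPair.interior IW).ι :=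
      Groth.Agent.Lib.Helper93.ModPairInterior.isSchemeTheoreticallyDominant_ι_interior IW hW
    have hrange : Set.range ((ModPair.interior IW).ι ≫ c₀) ⊆
        Set.range (ModPair.prodInterior p f IX IT).ι := by
      rintro _ ⟨w, rfl⟩
      rw [Scheme.Opens.range_ι, hprod]
      change pullback.fst p f (((ModPair.interior IW).ι ≫ c₀) w) ∈ ModPair.interior IX
      rw [← Scheme.Hom.comp_apply, Category.assoc, hc₀1, Scheme.Hom.comp_apply]
      exact Groth.Agent.Lib.Helper93.ModPairProd.interior_le_preimage_of_isAmbient IW IX b hb w.2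
    let j := IsOpenImmersion.lift (ModPair.prodInterior p f IX IT).ι
      ((ModPair.interior IW).ι ≫ c₀) hrange
    have hj : j ≫ (ModPair.prodInterior p f IX IT).ι = (ModPair.interior IW).ι ≫ c₀ :=
      IsOpenImmersion.lift_fac _ _ _
    have hle : (ModPair.mprodι p f IX IT).ker ≤ c₀.ker := by
      rw [hker]
      calc (ModPair.prodInterior p f IX IT).ι.ker
          ≤ (j ≫ (ModPair.prodInterior p f IX IT).ι).ker := Scheme.Hom.le_ker_comp _ _
        _ = c₀.ker := by
          rw [hj, Scheme.Hom.ker_comp, hWdom.ker_eq_bot, Scheme.IdealSheafData.map_bot]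
    let c : W ⟶ ModPair.mprod p f IX IT := IsClosedImmersion.lift (ModPair.mprodι p f IX IT) c₀ hle
    have hc : c ≫ ModPair.mprodι p f IX IT = c₀ := IsClosedImmersion.lift_fac _ _ _
    refine ⟨c, ⟨?_, ?_, ?_⟩, ?_⟩
    · rw [← Category.assoc, hc, hc₀2]
    · rw [← Category.assoc, hc, hc₀1]
    · change _ ≤ _
      rw [← Scheme.IdealSheafData.comap_comp, ← Category.assoc, hc, hc₀1]
      exact hb
    · rintro c' ⟨h1, h2, -⟩
      rw [← cancel_mono (ModPair.mprodι p f IX IT), hc]
      apply pullback.hom_ext
      · rw [Category.assoc, h2, hc₀1]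
      · rw [Category.assoc, h1, hc₀2]

end Groth.Agent.S18736
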