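import Groth.Statements.S18739
import Groth.Agent.Lib.Helper93.LocFiniteLimits
import Groth.Agent.S18752
import Groth.Agent.S18750
import Groth.Agent.S18749
import Groth.Agent.S18738
import Groth.Agent.H8.BlowUpOffCenter

set_option autoImplicit false
universe u
open CategoryTheory CategoryTheory.Limits AlgebraicGeometry TopologicalSpace
open ModPair

namespace Groth.Agent.S18739

/-- The localization of the category of modulus pairs and ambient morphisms at the class of abstract
admissible blow-ups has all finite limits. -/
theorem result :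
    HasFiniteLimits (ModPair.Pair.admBlowup.{u}).Localization := by
  have hcalc : (ModPair.Pair.admBlowup.{u}).HasRightCalculusOfFractions :=
    Groth.Agent.S18738.result
  let T₀ : ModPair.Pair.{u} :=
    ModPair.Pair.mk (⊤_ Scheme.{u}) ⊤ (Groth.Agent.H8.isEffCartierIdeal_top _)
  have hT₀ : IsTerminal T₀ := by
    refine IsTerminal.ofUniqueHom (fun Z => ModPair.Pair.Hom.mk (terminal.from Z.total) ?_)
      (fun Z m => ?_)
    · change _ ≤ Scheme.IdealSheafData.comap ⊤ _
      rw [Scheme.IdealSheafData.comap_top]
      exact le_top
    · apply ModPair.Pair.Hom.ext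
      exact terminal.hom_ext _ _
  refine Groth.Agent.Lib.Helper93.LocFiniteLimits.hasFiniteLimits (ModPair.Pair.admBlowup.{u})
    (ModPair.Pair.admBlowup.{u}).Q T₀ hT₀ ?_
  intro X T P f g
  obtain ⟨Y, π, K, hY⟩ := Groth.Agent.S18750.result P.mod X.mod T.mod P.isEffCartier
    X.isEffCartier T.isEffCartier g.hom g.cond f.hom f.cond
  obtain ⟨hK, hT', hX', -⟩ := Groth.Agent.S18749.result P.mod X.mod T.mod P.isEffCartier
    X.isEffCartier T.isEffCartier g.hom g.cond f.hom f.cond π K hY
  exact (Groth.Agent.S18752.result P X T g f π K hY hK hT' hX').hasPullback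

end Groth.Agent.S18739
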