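import Groth.Statements.S1874
-- import your own Groth.Agent.* helpers here
import Groth.Agent.Lib.Helper85.IntMult.Geom
import Groth.Agent.Lib.Helper85.IntMult.Alg

set_option autoImplicit false
universe u
open CategoryTheory AlgebraicGeometry
attribute [local instance] HasDerivedCategory.standard
open IntMult

namespace Groth.Agent.S1874

/-- Suppose the ideal of V in O_{X,ξ} is generated by a regular sequence g₁, …, g_c. Then c! ·
length(O_{W,ξ}/(g₁, …, g_c)^t O_{W,ξ}) / t^c tends to e(X, V·W, Z) as t → ∞ (so e is c! times the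
leading coefficient of that Hilbert polynomial), and e(X, V·W, Z) > 0. Here X is a nonsingular
variety over an algebraically closed field K (smooth, separated, of finite type, integral), V and W
are closed subvarieties given by quasi-coherent ideal sheaves with integral subschemes, of
dimensions r and s with dim X = n, intersecting properly, and ξ is the generic point of an
irreducible component Z of V ∩ W; e(X, V·W, Z) is the alternating sum of lengths of Tor over
O_{X,ξ}. -/
theorem result (K : Type u) [Field K] [IsAlgClosed K] (X : Scheme.{u}) (f : X ⟶ Spec (CommRingCat.of K)) [Smooth f] [IsSeparated f] [QuasiCompact f] [IsIntegral X] (IV IW : X.IdealSheafData) [IsIntegral IV.subscheme] [IsIntegral IW.subscheme] (n r s : ℕ) (hn : topologicalKrullDim X = n) (hr : topologicalKrullDim IV.support = r) (hs : topologicalKrullDim IW.support = s) (hprop : IntMult.ProperInt (IV.support : Set X) (IW.support : Set X) n r s) (ξ : X) (hξV : ξ ∈ IV.support) (hξW : ξ ∈ IW.support) (hmax : ∀ ξ' : X, ξ'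 ∈ IV.support → ξ' ∈ IW.support → ξ' ⤳ ξ → ξ' = ξ) (c : ℕ) (g : Fin c → ↑(X.presheaf.stalk ξ)) (hg : IntMult.stalkIdeal IV ξ = Ideal.span (Set.range g)) (hreg : RingTheory.Sequence.IsRegular (↑(X.presheaf.stalk ξ)) (List.ofFn g)) : Filter.Tendsto (fun t : ℕ => (c.factorial : ℝ) * ((Module.length (X.presheaf.stalk ξ) (↑(X.presheaf.stalk ξ) ⧸ (IntMult.stalkIdeal IW ξ ⊔ IntMult.stalkIdeal IV ξ ^ t))).toNat : ℝ) / (t : ℝ) ^ c) Filter.atTop (nhds (IntMult.mult IV IW ξ : ℝ)) ∧ 0 < IntMult.mult IV IW ξ := by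
  have : IsLocallyNoetherian X := LocallyOfFiniteType.isLocallyNoetherian f
  obtain ⟨a, p, q, d, ha, hp, hq, had, hpd, hqd, hle⟩ :=
    Groth.Agent.Lib.Helper85.IntMultGeom.exists_dims f IV IW n r s hn hr hs hprop ξ hξV hξW
  have hPm : IntMult.stalkIdeal IV ξ ≤ IsLocalRing.maximalIdeal (X.presheaf.stalk ξ) :=
    IsLocalRing.le_maximalIdeal (Groth.Agent.Lib.Helper85.IntMultGeom.stalkIdeal_ne_top hξV)
  have hgm : ∀ j, g j ∈ IsLocalRing.maximalIdeal (X.presheaf.stalk ξ) := fun j =>
    hPm (hg ▸ Ideal.subset_span ⟨j, rfl⟩)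
  -- `p + c = a`
  have h1 := ringKrullDim_add_length_eq_ringKrullDim_of_isRegular (List.ofFn g) hreg
  rw [Groth.Agent.Lib.Helper85.Serre.ofList_ofFn, ← hg, hp, ha, List.length_ofFn] at h1
  have hpc : p + c = a := by exact_mod_cast h1
  -- finite length
  have hfl := Groth.Agent.Lib.Helper85.IntMultGeom.exists_pow_maximalIdeal_le IV IW ξ hξV hξW hmax
  rw [sup_comm, hg] at hfl
  -- `q = c`
  have h0 := Groth.Agent.Lib.Helper85.IntMultGeom.ringKrullDim_quotient_sup_le_zero IV IW ξ
    hξV hξW hmax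
  rw [sup_comm, hg] at h0
  have hqc' := Groth.Agent.Lib.Helper85.IntMultAlg.ringKrullDim_quotient_le_natCast
    (IntMult.stalkIdeal IW ξ) g hgm h0
  rw [hq] at hqc'
  have hqc'' : q ≤ c := by exact_mod_cast hqc'
  have hqc : q = c := by omega
  unfold IntMult.mult
  rw [hg]
  exact ⟨Groth.Agent.Lib.Helper85.IntMultAlg.tendsto_intMult_chi g hreg.toIsWeaklyRegular
      (IntMult.stalkIdeal IW ξ) hfl,
    Groth.Agent.Lib.Helper85.IntMultAlg.intMult_chi_pos g hreg.toIsWeaklyRegular hgm
      (IntMult.stalkIdeal IW ξ) hfl (by rw [hq, hqc])⟩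

end Groth.Agent.S1874
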