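import Groth.Statements.S18743
import Groth.Agent.Lib.Helper93.ModPairInterior

set_option autoImplicit false
universe u
open CategoryTheory CategoryTheory.Limits AlgebraicGeometry TopologicalSpace
open ModPair

namespace Groth.Agent.S18743

/-- Let (S, I_S), (T, I_T), (X, I_X) be schemes equipped with quasi-coherent ideal sheaves of effective
Cartier divisors, p : X ⟶ S a morphism with the modulus condition I_X ≤ I_S.comap p, and f : T ⟶ S a
minimal morphism (I_T = I_S.comap f) which is flat. Then the ambient product of (T, I_T) and (X,
I_X) over (S, I_S) has total space all of X ×_S T with modulus pulled back from X: the open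
pr₁⁻¹(X°) ∩ pr₂⁻¹(T°) (X°, T° the complements of the supports) is scheme-theoretically dominant in X
×_S T, the closed immersion of its scheme-theoretic image is an isomorphism, and I_X.comap pr₁ is
the ideal sheaf of an effective Cartier divisor. -/
theorem result {S T X : Scheme.{u}} (IS : S.IdealSheafData)
    (IT : T.IdealSheafData) (IX : X.IdealSheafData) (hS : BlowUp.IsEffCartierIdeal IS)
    (hT : BlowUp.IsEffCartierIdeal IT) (hX : BlowUp.IsEffCartierIdeal IX)
    (p : X ⟶ S) (hp : ModPair.IsAmbient IX IS p) (f : T ⟶ S) (hf : ModPair.IsMinimal IT IS f) [Flat f] :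
    IsSchemeTheoreticallyDominant (ModPair.prodInterior p f IX IT).ι ∧
      IsIso (ModPair.mprodι p f IX IT) ∧
      BlowUp.IsEffCartierIdeal (IX.comap (pullback.fst p f)) := by
  have hflat : Flat (pullback.fst p f) := inferInstance
  -- the product interior is the preimage of the interior of `X`
  have hprod : ModPair.prodInterior p f IX IT = pullback.fst p f ⁻¹ᵁ ModPair.interior IX := by
    apply le_antisymm inf_le_left
    refine le_inf le_rfl ?_
    intro z hz
    have hz1 : pullback.fst p f z ∉ IX.support := hz
    change pullback.snd p f z ∉ IT.support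
    intro hz2
    rw [hf, Scheme.IdealSheafData.support_comap] at hz2
    have hz3 : f (pullback.snd p f z) ∈ IS.support := hz2
    rw [← Scheme.Hom.comp_apply, ← pullback.condition, Scheme.Hom.comp_apply] at hz3
    have hz4 : pullback.fst p f z ∈ (IS.comap p).support := by
      rw [Scheme.IdealSheafData.support_comap]
      exact hz3
    exact hz1 (Scheme.IdealSheafData.support_antitone hp hz4)
  have hqc : QuasiCompact (ModPair.interior IX).ι :=
    Groth.Agent.Lib.Helper93.ModPairInterior.quasiCompact_ι_interior IX hX
  have hdom : IsSchemeTheoreticallyDominant (ModPair.interior IX).ι :=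
    Groth.Agent.Lib.Helper93.ModPairInterior.isSchemeTheoreticallyDominant_ι_interior IX hX
  have hdom' : IsSchemeTheoreticallyDominant (pullback.fst p f ⁻¹ᵁ ModPair.interior IX).ι :=
    IsSchemeTheoreticallyDominant.of_isPullback
      (isPullback_morphismRestrict (pullback.fst p f) (ModPair.interior IX))
  have h1 : IsSchemeTheoreticallyDominant (ModPair.prodInterior p f IX IT).ι := by
    rw [hprod]; exact hdom'
  refine ⟨h1, ?_, Groth.Agent.H8.EffCartier.isEffCartierIdeal_comap_of_flat _ IX hX⟩
  exact (Scheme.isIso_subschemeι_iff_eq_bot _).mpr
    (ModPair.prodInterior p f IX IT).ι.ker_eq_bot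

end Groth.Agent.S18743
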