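import Groth.Statements.S18747
import Groth.Agent.Lib.Helper93.ModPairCoprod

set_option autoImplicit false
universe u
open CategoryTheory CategoryTheory.Limits AlgebraicGeometry TopologicalSpace
open ModPair

namespace Groth.Agent.S18747

/-- The category of modulus pairs and ambient morphisms admits coproducts (indexed by any type in the
universe of the schemes involved), and the total-space functor to schemes preserves them: the
coproduct of a family (X_i, I_i) is the disjoint union of the X_i with the modulus restricting to
I_i on each summand. (The published statement adds that the total-space functor detects coproducts;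
read as reflection of coproducts this fails, since the identity of a scheme X is an ambient morphism
from (X, I) to (X, unit ideal) whose image is trivially a coproduct of the one-member family while
(X, unit ideal) is not the coproduct of (X, I) when I is not the unit ideal; only existence and
preservation are stated.) -/
theorem result (σ : Type u) :
    HasColimitsOfShape (Discrete σ) ModPair.Pair.{u} ∧
      PreservesColimitsOfShape (Discrete σ) ModPair.Pair.forget.{u} := by
  have key : ∀ P : σ → ModPair.Pair.{u}, ∃ (c : Cofan P) (_ : IsColimit c),
      Nonempty (IsColimit (ModPair.Pair.forget.mapCocone c)) := by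
    intro P
    let c₀ : Cofan (fun i => (P i).total) := Cofan.mk (∐ fun i => (P i).total) (Sigma.ι _)
    have hc₀ : IsColimit c₀ := coproductIsCoproduct _
    have hoi : ∀ i, IsOpenImmersion (c₀.inj i) :=
      fun i => inferInstanceAs (IsOpenImmersion (Sigma.ι (fun i => (P i).total) i))
    have hcov : ⨆ i, (c₀.inj i).opensRange = ⊤ :=
      (AlgebraicGeometry.sigmaOpenCover fun i => (P i).total).iSup_opensRange
    have hdisj : ∀ i j, i ≠ j → Disjoint ((c₀.inj i).opensRange : Set c₀.pt)
        ((c₀.inj j).opensRange : Set c₀.pt) := fun i j h =>
      TopologicalSpace.Opens.coe_disjoint.mpr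
        (AlgebraicGeometry.disjoint_opensRange_sigmaι (fun i => (P i).total) i j h)
    exact ⟨Groth.Agent.Lib.Helper93.ModPairCoprod.cofan P c₀ hcov hdisj,
      Groth.Agent.Lib.Helper93.ModPairCoprod.isColimit P c₀ hc₀ hcov hdisj,
      ⟨Groth.Agent.Lib.Helper93.ModPairCoprod.isColimitMapCocone P c₀ hc₀ hcov hdisj⟩⟩
  constructor
  · constructor
    intro F
    have : HasColimit (Discrete.functor (F.obj ∘ Discrete.mk)) := by
      obtain ⟨c, hc, -⟩ := key (F.obj ∘ Discrete.mk)
      exact ⟨⟨⟨c, hc⟩⟩⟩
    exact hasColimit_of_iso Discrete.natIsoFunctor
  · have : ∀ P : σ → ModPair.Pair.{u},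
        PreservesColimit (Discrete.functor P) ModPair.Pair.forget.{u} := fun P => by
      obtain ⟨c, hc, ⟨hc'⟩⟩ := key P
      exact preservesColimit_of_preserves_colimit_cocone hc hc'
    exact preservesColimitsOfShape_of_discrete _

end Groth.Agent.S18747
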