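import Groth.Statements.S18748
import Groth.Agent.Lib.Helper93.ModPairLocCoprod

set_option autoImplicit false
universe u
open CategoryTheory CategoryTheory.Limits AlgebraicGeometry TopologicalSpace
open ModPair

namespace Groth.Agent.S18748

/-- The localization of the category of modulus pairs and ambient morphisms at the class of abstract
admissible blow-ups has binary coproducts, and the localization functor carries the coproduct of two
modulus pairs (the disjoint union of the total spaces with the disjoint union of the moduli) to a
coproduct. (The source also states that the interior functor detects these coproducts; that part is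
not included.) -/
theorem result :
    HasBinaryCoproducts (ModPair.Pair.admBlowup.{u}).Localization ∧
      PreservesColimitsOfShape (Discrete WalkingPair) (ModPair.Pair.admBlowup.{u}).Q := by
  have h1 : HasCoproductsOfShape WalkingPair ModPair.Pair.{u} :=
    Groth.Agent.Lib.Helper93.ModPairLocCoprod.hasCoproductsOfShape.{u} WalkingPair
  have h2 : (ModPair.Pair.admBlowup.{u}).IsStableUnderCoproductsOfShape WalkingPair :=
    Groth.Agent.Lib.Helper93.ModPairLocCoprod.admBlowup_isStableUnderCoproductsOfShape.{u} WalkingPair
  have h3 : (ModPair.Pair.admBlowup.{u}).op.IsStableUnderProductsOfShape WalkingPair :=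
    Groth.Agent.Lib.Helper93.ModPairLocCoprod.op_isStableUnderProductsOfShape _ WalkingPair
  have h4 : HasProductsOfShape WalkingPair ModPair.Pair.{u}ᵒᵖ := inferInstance
  have h5 : HasProductsOfShape WalkingPair ((ModPair.Pair.admBlowup.{u}).Localization)ᵒᵖ :=
    Localization.hasProductsOfShape (ModPair.Pair.admBlowup.{u}).Q.op
      (ModPair.Pair.admBlowup.{u}).op WalkingPair
  have h6 : PreservesLimitsOfShape (Discrete WalkingPair) (ModPair.Pair.admBlowup.{u}).Q.op :=
    Localization.preservesProductsOfShape (ModPair.Pair.admBlowup.{u}).Q.op
      (ModPair.Pair.admBlowup.{u}).op WalkingPair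
  constructor
  · exact hasCoproductsOfShape_of_opposite WalkingPair
  · have h7 : PreservesLimitsOfShape (Discrete WalkingPair)ᵒᵖ
        (ModPair.Pair.admBlowup.{u}).Q.op :=
      preservesLimitsOfShape_of_equiv (Discrete.opposite WalkingPair).symm _
    exact preservesColimitsOfShape_of_op _ _

end Groth.Agent.S18748
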