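import Groth.Statements.S18754
import Groth.Agent.Lib.Helper93.LimitHomFiniteType
import Groth.Agent.Lib.Helper93.AdmBlowupDominant
import Groth.Agent.Lib.Helper93.ModPairProd

set_option autoImplicit false
universe u
open CategoryTheory CategoryTheory.Limits AlgebraicGeometry TopologicalSpace
open ModPair

namespace Groth.Agent.S18754

/-- Let (Y, I_Y) be a modulus pair with Y quasi-compact and quasi-separated, and let (X_i ⟶ Y) be a
cofiltered system of Y-schemes with affine transition morphisms such that every X_i is quasi-compact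
and quasi-separated, the pulled-back ideal I_Y.comap (X_i ⟶ Y) is the ideal of an effective Cartier
divisor, and X_i ⟶ Y is an abstract admissible blow-up of modulus pairs which is locally of finite
presentation. Let X be the limit of the system over Y and suppose that X ⟶ Y, with the pulled-back
modulus (assumed effective Cartier), is also an abstract admissible blow-up. Then X ⟶ Y is locally
of finite presentation: an abstract admissible blow-up of quasi-compact quasi-separated modulus
pairs which is not of finite presentation is never a limit of finitely presented ones. -/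
theorem result {Y : Scheme.{u}}
    [CompactSpace Y] [QuasiSeparatedSpace Y] (IY : Y.IdealSheafData) (hY : BlowUp.IsEffCartierIdeal IY)
    {I : Type u} [SmallCategory I] [IsCofiltered I] (D : I ⥤ Over Y) (c : Cone D) (hc : IsLimit c)
    [∀ (i j : I) (t : i ⟶ j), IsAffineHom (D.map t).left]
    [∀ i, CompactSpace (D.obj i).left] [∀ i, QuasiSeparatedSpace (D.obj i).left]
    (hI : ∀ i, BlowUp.IsEffCartierIdeal (IY.comap (D.obj i).hom))
    (hadm : ∀ i, ModPair.IsAdmBlowup (IY.comap (D.obj i).hom) IY (D.obj i).hom)
    [∀ i, LocallyOfFinitePresentation (D.obj i).hom]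
    (hX : BlowUp.IsEffCartierIdeal (IY.comap c.pt.hom))
    (hXadm : ModPair.IsAdmBlowup (IY.comap c.pt.hom) IY c.pt.hom) :
    LocallyOfFinitePresentation c.pt.hom := by
  have h1 (i : I) : CompactSpace ((D ⋙ Over.forget Y).obj i) :=
    inferInstanceAs (CompactSpace (D.obj i).left)
  have h2 (i : I) : QuasiSeparatedSpace ((D ⋙ Over.forget Y).obj i) :=
    inferInstanceAs (QuasiSeparatedSpace (D.obj i).left)
  have h3 {i j : I} (f : i ⟶ j) : IsAffineHom ((D ⋙ Over.forget Y).map f) := by
    dsimp; infer_instance
  have h4 {i j : I} (f : i ⟶ j) : IsSchemeTheoreticallyDominant ((D ⋙ Over.forget Y).map f) :=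
    Groth.Agent.Lib.Helper93.AdmBlowupDominant.isSchemeTheoreticallyDominant_of_isIso_restrict
      (D.map f).left (D.obj i).hom (D.obj j).hom (Over.w _) IY (hI j) (hadm i).2.2 (hadm j).2.2
  have hlim : IsLimit ((Over.forget Y).mapCone c) := isLimitOfPreserves _ hc
  have hprop : IsProper c.pt.hom := hXadm.2.1
  obtain ⟨k, g, hg1, hg2⟩ : ∃ (k : I) (g : (D.obj k).left ⟶ c.pt.left),
      (c.π.app k).left ≫ g = 𝟙 c.pt.left ∧ g ≫ c.pt.hom = (D.obj k).hom :=
    Scheme.exists_π_app_comp_eq_of_locallyOfFiniteType_of_dominant_h93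
      (D ⋙ Over.forget _) (.mk (fun _ ↦ (D.obj _).hom)) c.pt.hom _ hlim (𝟙 c.pt.left)
      (by ext; simp)
  obtain ⟨πk, hπk, hπk'⟩ : ∃ πk : c.pt.left ⟶ (D.obj k).left, πk = (c.π.app k).left ∧
      πk ≫ (D.obj k).hom = c.pt.hom := ⟨_, rfl, Over.w _⟩
  rw [← hπk] at hg1
  have hdomk : IsSchemeTheoreticallyDominant πk :=
    Groth.Agent.Lib.Helper93.AdmBlowupDominant.isSchemeTheoreticallyDominant_of_isIso_restrict
      πk c.pt.hom (D.obj k).hom hπk' IY (hI k) hXadm.2.2 (hadm k).2.2
  have hpropk : IsProper (D.obj k).hom := (hadm k).2.1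
  have hg3 : g ≫ πk = 𝟙 _ :=
    Groth.Agent.Lib.Helper93.ModPairProd.ext_of_isSchemeTheoreticallyDominant_of_isSeparated
      (D.obj k).hom (by rw [Category.assoc, hπk', hg2, Category.id_comp]) πk
      (by rw [← Category.assoc, hg1, Category.id_comp, Category.comp_id])
  have hiso : IsIso πk := ⟨g, hg1, hg3⟩
  rw [← hπk']
  infer_instance

end Groth.Agent.S18754
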