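import Groth.Statements.S18755
import Groth.Agent.Lib.Helper93.ModPairAmbProd
import Groth.Agent.S18749

set_option autoImplicit false
universe u
open CategoryTheory CategoryTheory.Limits AlgebraicGeometry TopologicalSpace
open ModPair

namespace Groth.Agent.S18755

/-- Let (S₀, I₀), (S₁, I₁), (T, J), (X, I) be schemes with quasi-coherent ideal sheaves of effective
Cartier divisors, f : X ⟶ S₁, g : T ⟶ S₁ and σ : S₁ ⟶ S₀ morphisms satisfying the modulus condition,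
and let (Y₁, K₁) with π₁ and (Y₀, K₀) with π₀ be ambient products of (X, I) and (T, J) over S₁ and
over S₀ (the latter for f ≫ σ and g ≫ σ): blow-ups of the scheme-theoretic image of the product of
the interiors inside X ×_{S₁} T, resp. X ×_{S₀} T, in the intersection of the pulled-back moduli,
with K·E = D_X·D_T. Then the ambient product is functorial in the base: there is a unique morphism φ
: Y₁ ⟶ Y₀ compatible with the maps to X ×_{S₀} T (through the canonical X ×_{S₁} T ⟶ X ×_{S₀} T),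
and every such φ is minimal, K₁ = K₀.comap φ. -/
theorem result {S₀ S₁ T X Y₁ Y₀ : Scheme.{u}} (I₀ : S₀.IdealSheafData)
    (I₁ : S₁.IdealSheafData) (J : T.IdealSheafData) (I : X.IdealSheafData)
    (h₀ : BlowUp.IsEffCartierIdeal I₀) (h₁ : BlowUp.IsEffCartierIdeal I₁)
    (hT : BlowUp.IsEffCartierIdeal J) (hX : BlowUp.IsEffCartierIdeal I)
    (f : X ⟶ S₁) (hf : ModPair.IsAmbient I I₁ f) (g : T ⟶ S₁) (hg : ModPair.IsAmbient J I₁ g)
    (σ : S₁ ⟶ S₀) (hσ : ModPair.IsAmbient I₁ I₀ σ)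
    (π₁ : Y₁ ⟶ ModPair.mprod f g I J) (K₁ : Y₁.IdealSheafData) (hY₁ : ModPair.IsAmbProd f g I J π₁ K₁)
    (π₀ : Y₀ ⟶ ModPair.mprod (f ≫ σ) (g ≫ σ) I J) (K₀ : Y₀.IdealSheafData)
    (hY₀ : ModPair.IsAmbProd (f ≫ σ) (g ≫ σ) I J π₀ K₀) :
    (∃! φ : Y₁ ⟶ Y₀, φ ≫ π₀ ≫ ModPair.mprodι (f ≫ σ) (g ≫ σ) I J =
        π₁ ≫ ModPair.mprodι f g I J ≫ pullback.mapDesc f g σ) ∧
      ∀ φ : Y₁ ⟶ Y₀, φ ≫ π₀ ≫ ModPair.mprodι (f ≫ σ) (g ≫ σ) I J =
          π₁ ≫ ModPair.mprodι f g I J ≫ pullback.mapDesc f g σ →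
        ModPair.IsMinimal K₁ K₀ φ := by
  obtain ⟨hblow₁, hK₁⟩ := hY₁
  obtain ⟨hblow₀, hK₀⟩ := hY₀
  obtain ⟨hK₁eff, -, -, hint₁⟩ := Groth.Agent.S18749.result I₁ J I h₁ hT hX f hf g hg π₁ K₁
    ⟨hblow₁, hK₁⟩
  -- notation
  set ι₁ := ModPair.mprodι f g I J with hι₁
  set ι₀ := ModPair.mprodι (f ≫ σ) (g ≫ σ) I J with hι₀
  set m := pullback.mapDesc f g σ with hm
  have hm1 : m ≫ pullback.fst (f ≫ σ) (g ≫ σ) = pullback.fst f g := by
    rw [hm]; exact (pullback.lift_fst _ _ _).trans (Category.comp_id _)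
  have hm2 : m ≫ pullback.snd (f ≫ σ) (g ≫ σ) = pullback.snd f g := by
    rw [hm]; exact (pullback.lift_snd _ _ _).trans (Category.comp_id _)
  set θ := π₁ ≫ ι₁ ≫ m with hθ
  -- `θ` factors through the scheme-theoretic image
  have hdom : IsSchemeTheoreticallyDominant (ModPair.interior K₁).ι :=
    Groth.Agent.Lib.Helper93.ModPairInterior.isSchemeTheoreticallyDominant_ι_interior K₁ hK₁eff
  have hle : ModPair.interior K₁ ≤ θ ⁻¹ᵁ ModPair.prodInterior (f ≫ σ) (g ≫ σ) I J := by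
    rw [hint₁]
    intro y hy
    obtain ⟨hy1, hy2⟩ := hy
    refine ⟨?_, ?_⟩
    · change pullback.fst (f ≫ σ) (g ≫ σ) (θ y) ∈ ModPair.interior I
      rw [← Scheme.Hom.comp_apply, hθ, Category.assoc, Category.assoc, hm1, ← Category.assoc,
        Scheme.Hom.comp_apply]
      exact hy1
    · change pullback.snd (f ≫ σ) (g ≫ σ) (θ y) ∈ ModPair.interior J
      rw [← Scheme.Hom.comp_apply, hθ, Category.assoc, Category.assoc, hm2, ← Category.assoc,
        Scheme.Hom.comp_apply]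
      exact hy2
  have hker : ι₀.ker ≤ θ.ker :=
    Groth.Agent.Lib.Helper93.ModPairAmbProd.ker_imageι_le_of_dominant _ θ _ hle
  let ψ : Y₁ ⟶ ModPair.mprod (f ≫ σ) (g ≫ σ) I J := IsClosedImmersion.lift ι₀ θ hker
  have hψ : ψ ≫ ι₀ = θ := IsClosedImmersion.lift_fac _ _ _
  -- pulled back ideals
  have hA : (I.comap (ι₀ ≫ pullback.fst (f ≫ σ) (g ≫ σ))).comap ψ =
      (I.comap (ι₁ ≫ pullback.fst f g)).comap π₁ := by
    rw [← Scheme.IdealSheafData.comap_comp, ← Scheme.IdealSheafData.comap_comp, ← Category.assoc,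
      hψ, hθ, Category.assoc, Category.assoc, hm1]
  have hB : (J.comap (ι₀ ≫ pullback.snd (f ≫ σ) (g ≫ σ))).comap ψ =
      (J.comap (ι₁ ≫ pullback.snd f g)).comap π₁ := by
    rw [← Scheme.IdealSheafData.comap_comp, ← Scheme.IdealSheafData.comap_comp, ← Category.assoc,
      hψ, hθ, Category.assoc, Category.assoc, hm2]
  have hC : (ModPair.prodCentre (f ≫ σ) (g ≫ σ) I J).comap ψ =
      (ModPair.prodCentre f g I J).comap π₁ := by
    change (_ ⊔ _ : Scheme.IdealSheafData _).comap ψ = (_ ⊔ _ : Scheme.IdealSheafData _).comap π₁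
    rw [Scheme.IdealSheafData.comap_sup, Scheme.IdealSheafData.comap_sup, hA, hB]
  have hCeff : BlowUp.IsEffCartierIdeal ((ModPair.prodCentre (f ≫ σ) (g ≫ σ) I J).comap ψ) := by
    rw [hC]; exact hblow₁.1
  obtain ⟨φ, hφ, hφuniq⟩ := hblow₀.2 Y₁ ψ hCeff
  have hmono : Mono ι₀ := inferInstance
  have hkey : ∀ φ' : Y₁ ⟶ Y₀, φ' ≫ π₀ ≫ ι₀ = θ → φ' ≫ π₀ = ψ := by
    intro φ' h
    rw [← cancel_mono ι₀, Category.assoc, h, hψ]
  refine ⟨⟨φ, ?_, ?_⟩, ?_⟩
  · change φ ≫ π₀ ≫ ι₀ = θ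
    rw [← Category.assoc, hφ, hψ]
  · intro φ' h
    exact hφuniq φ' (hkey φ' h)
  · intro φ' h
    have h1 := hkey φ' h
    change K₁ = K₀.comap φ'
    have hE : ((ModPair.prodCentre (f ≫ σ) (g ≫ σ) I J).comap π₀).comap φ' =
        (ModPair.prodCentre f g I J).comap π₁ := by
      rw [← Scheme.IdealSheafData.comap_comp, h1, hC]
    have hA' : ((I.comap (ι₀ ≫ pullback.fst (f ≫ σ) (g ≫ σ))).comap π₀).comap φ' =
        (I.comap (ι₁ ≫ pullback.fst f g)).comap π₁ := by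
      rw [← Scheme.IdealSheafData.comap_comp (f := φ') (g := π₀), h1, hA]
    have hB' : ((J.comap (ι₀ ≫ pullback.snd (f ≫ σ) (g ≫ σ))).comap π₀).comap φ' =
        (J.comap (ι₁ ≫ pullback.snd f g)).comap π₁ := by
      rw [← Scheme.IdealSheafData.comap_comp (f := φ') (g := π₀), h1, hB]
    have h2 := congrArg (fun L => Scheme.IdealSheafData.comap L φ') hK₀
    beta_reduce at h2
    rw [Groth.Agent.Lib.Helper18.comap_mul, Groth.Agent.Lib.Helper18.comap_mul, hE, hA', hB',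
      ← hK₁] at h2
    apply le_antisymm
    · exact Groth.Agent.Lib.Helper93.ModPairAmbProd.le_of_mul_le_mul_of_isEffCartierIdeal _
        hblow₁.1 _ _ (le_of_eq h2.symm)
    · exact Groth.Agent.Lib.Helper93.ModPairAmbProd.le_of_mul_le_mul_of_isEffCartierIdeal _
        hblow₁.1 _ _ (le_of_eq h2)

end Groth.Agent.S18755
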