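import Groth.Statements.S1876
-- import your own Groth.Agent.* helpers here
import Mathlib

set_option autoImplicit false
universe u
open CategoryTheory
attribute [local instance] HasDerivedCategory.standard
open Trace

namespace Groth.Agent.S1876

open CategoryTheory.Limits DerivedCategory

section Helper

variable {Λ : Type u} [CommRing Λ]

lemma trace_eq_zero_of_isZero (M : ModuleCat.{u} Λ) (hM : IsZero M) (φ : M ⟶ M) :
    LinearMap.trace Λ M φ.hom = 0 := by
  have : φ = 0 := hM.eq_of_src _ _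
  rw [this]
  simp

lemma trace_comp_of_isZero {M N : ModuleCat.{u} Λ} (hN : IsZero N) (φ : M ⟶ N) (ψ : N ⟶ M) :
    LinearMap.trace Λ M (φ ≫ ψ).hom = 0 := by
  have : φ = 0 := hN.eq_of_tgt _ _
  rw [this, zero_comp]
  simp

lemma trace_comm {M N : ModuleCat.{u} Λ} [Module.Free Λ M] [Module.Finite Λ M]
    [Module.Free Λ N] [Module.Finite Λ N] (φ : M ⟶ N) (ψ : N ⟶ M) :
    LinearMap.trace Λ M (φ ≫ ψ).hom = LinearMap.trace Λ N (ψ ≫ φ).hom := by
  rw [ModuleCat.hom_comp, ModuleCat.hom_comp]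
  exact (LinearMap.trace_comp_comm' ψ.hom φ.hom).symm

/-- The alternating trace. -/
noncomputable def altTr (K : DRing.Cx Λ) (a b : ℤ) (u : K ⟶ K) : Λ :=
  ∑ i ∈ Finset.Icc a b, ((i.negOnePow : ℤˣ) : ℤ) • LinearMap.trace Λ (K.X i) (u.f i).hom

lemma altTr_eq_of_homotopy {K : DRing.Cx Λ} (a b : ℤ) (hK : DRing.VanishesOutside K a b)
    (hKf : DRing.TermwiseFiniteFree K) (u v : K ⟶ K) (ho : Homotopy u v) :
    altTr K a b u = altTr K a b v := by
  haveI : ∀ i, Module.Free Λ (K.X i) := fun i => (hKf i).2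
  haveI : ∀ i, Module.Finite Λ (K.X i) := fun i => (hKf i).1
  -- `t i j = tr (h_{j,i} ≫ d_{i,j})` on `K^j`
  let t : ℤ → ℤ → Λ := fun i j => LinearMap.trace Λ (K.X j) (ho.hom j i ≫ K.d i j).hom
  have ht_congr : ∀ i i' j, i = i' → t i j = t i' j := by
    intro i i' j h; subst h; rfl
  have hstep : ∀ i, LinearMap.trace Λ (K.X i) (u.f i).hom =
      t i (i + 1) + t (i - 1) i + LinearMap.trace Λ (K.X i) (v.f i).hom := by
    intro i
    have hc := ho.comm i
    rw [dNext_eq ho.hom (show (ComplexShape.up ℤ).Rel i (i + 1) from rfl),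
      prevD_eq ho.hom (show (ComplexShape.up ℤ).Rel (i - 1) i by simp)] at hc
    rw [hc, ModuleCat.hom_add, ModuleCat.hom_add, map_add, map_add]
    congr 2
    exact trace_comm (K.d i (i + 1)) (ho.hom (i + 1) i)
  let T : ℤ → Λ := fun j => ((j.negOnePow : ℤˣ) : ℤ) • t (j - 1) j
  have hTa : ∀ j, j ≤ a → T j = 0 := by
    intro j hj
    have hz : IsZero (K.X (j - 1)) := hK _ (Or.inl (by omega))
    have : t (j - 1) j = 0 := trace_comp_of_isZero hz _ _
    simp only [T, this, smul_zero]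
  have hTb : ∀ j, b < j → T j = 0 := by
    intro j hj
    have hz : IsZero (K.X j) := hK _ (Or.inr hj)
    have : t (j - 1) j = 0 := trace_eq_zero_of_isZero _ hz _
    simp only [T, this, smul_zero]
  have hterm : ∀ i, ((i.negOnePow : ℤˣ) : ℤ) • LinearMap.trace Λ (K.X i) (u.f i).hom =
      (T i - T (i + 1)) + ((i.negOnePow : ℤˣ) : ℤ) • LinearMap.trace Λ (K.X i) (v.f i).hom := by
    intro i
    rw [hstep i, smul_add, smul_add]
    congr 1
    have h1 : T (i + 1) = -(((i.negOnePow : ℤˣ) : ℤ) • t i (i + 1)) := by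
      simp only [T]
      rw [ht_congr (i + 1 - 1) i (i + 1) (by omega), Int.negOnePow_succ]
      simp
    rw [h1]
    simp only [T]
    abel
  unfold altTr
  rw [Finset.sum_congr rfl (fun i _ => hterm i), Finset.sum_add_distrib, Finset.sum_sub_distrib]
  have h2 : ∑ i ∈ Finset.Icc a b, T (i + 1) = ∑ j ∈ Finset.Icc (a + 1) (b + 1), T j := by
    rw [← Finset.image_add_right_Icc a b 1,
      Finset.sum_image (by intro x _ y _ h; exact add_right_cancel h)]
  have h3 : ∑ i ∈ Finset.Icc a b, T i = ∑ j ∈ Finset.Icc a (b + 1), T j := by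
    apply Finset.sum_subset (Finset.Icc_subset_Icc le_rfl (by omega))
    intro x hx hx'
    rw [Finset.mem_Icc] at hx hx'
    exact hTb x (by omega)
  have h4 : ∑ j ∈ Finset.Icc (a + 1) (b + 1), T j = ∑ j ∈ Finset.Icc a (b + 1), T j := by
    apply Finset.sum_subset (Finset.Icc_subset_Icc (by omega) le_rfl)
    intro x hx hx'
    rw [Finset.mem_Icc] at hx hx'
    exact hTa x (by omega)
  rw [h2, h3, h4, sub_self, zero_add]

lemma altTr_comm {K L : DRing.Cx Λ} (a b : ℤ) (hKf : DRing.TermwiseFiniteFree K)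
    (hLf : DRing.TermwiseFiniteFree L) (y : K ⟶ L) (x : L ⟶ K) :
    altTr K a b (y ≫ x) = altTr L a b (x ≫ y) := by
  haveI : ∀ i, Module.Free Λ (K.X i) := fun i => (hKf i).2
  haveI : ∀ i, Module.Finite Λ (K.X i) := fun i => (hKf i).1
  haveI : ∀ i, Module.Free Λ (L.X i) := fun i => (hLf i).2
  haveI : ∀ i, Module.Finite Λ (L.X i) := fun i => (hLf i).1
  unfold altTr
  apply Finset.sum_congr rfl
  intro i _
  congr 1
  exact trace_comm (y.f i) (x.f i)

lemma isKProjective_of_bounded (K : DRing.Cx Λ) (a b : ℤ) (hK : DRing.VanishesOutside K a b)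
    (hKf : DRing.TermwiseFiniteFree K) : K.IsKProjective := by
  haveI : K.IsStrictlyLE b := by
    rw [CochainComplex.isStrictlyLE_iff]
    intro i hi
    exact hK i (Or.inr hi)
  haveI : ∀ n, Projective (K.X n) := fun n => by
    haveI := (hKf n).2
    infer_instance
  exact CochainComplex.isKProjective_of_projective K b

lemma exists_lift (K L : DRing.Cx Λ) [K.IsKProjective] (e : Q.obj K ⟶ Q.obj L) :
    ∃ g : K ⟶ L, e = Q.map g := by
  obtain ⟨g', hg'⟩ := (CochainComplex.IsKProjective.Qh_map_bijective K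
    ((HomotopyCategory.quotient _ _).obj L)).2 e
  obtain ⟨g, rfl⟩ := (HomotopyCategory.quotient _ _).map_surjective g'
  exact ⟨g, hg'.symm⟩

lemma homotopy_of_Q_map_eq {K L : DRing.Cx Λ} [K.IsKProjective] (u v : K ⟶ L)
    (h : Q.map u = Q.map v) : Nonempty (Homotopy u v) := by
  have := (CochainComplex.IsKProjective.Qh_map_bijective K
    ((HomotopyCategory.quotient _ _).obj L)).1
    (a₁ := (HomotopyCategory.quotient _ _).map u) (a₂ := (HomotopyCategory.quotient _ _).map v) h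
  exact ⟨HomotopyCategory.homotopyOfEq _ _ this⟩

end Helper

/-- Commutative coefficient ring, finite free terms: let P and Q be bounded complexes of finite free
Λ-modules with chain endomorphisms f and g, and α : P ≅ Q an isomorphism in the derived category
D(Λ) with α ∘ f = g ∘ α there. Then Σ_i (−1)^i Tr(f^i | P^i) = Σ_i (−1)^i Tr(g^i | Q^i); that is,
the trace of an endomorphism of a perfect object of D(Λ) is well defined. -/
theorem result (Λ : Type u) [CommRing Λ] (P Q : DRing.Cx Λ) (a b : ℤ) (hP : DRing.VanishesOutside P a b) (hQ : DRing.VanishesOutside Q a b) (hPf : DRing.TermwiseFiniteFree P) (hQf : DRing.TermwiseFiniteFree Q) (f : P ⟶ P) (g : Q ⟶ Q) (α : DRing.toD P ≅ DRing.toD Q) (h : α.hom ≫ DerivedCategory.Q.map g = DerivedCategory.Q.map f ≫ α.hom) : ∑ i ∈ Finset.Icc a b, ((i.negOnePow : ℤˣ) : ℤ) • LinearMap.trace Λ (P.X i) (f.f i).hom = ∑ i ∈ Finset.Icc a b, ((i.negOnePow : ℤˣ) : ℤ) • LinearMap.trace Λ (Q.X i) (g.f i).hom := by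
  haveI := isKProjective_of_bounded P a b hP hPf
  haveI := isKProjective_of_bounded Q a b hQ hQf
  obtain ⟨x, hx⟩ := exists_lift P Q α.hom
  obtain ⟨y, hy⟩ := exists_lift Q P α.inv
  obtain ⟨h1⟩ : Nonempty (Homotopy (x ≫ y) (𝟙 P)) := homotopy_of_Q_map_eq _ _ (by
    rw [Functor.map_comp, ← hx, ← hy, Iso.hom_inv_id, CategoryTheory.Functor.map_id])
  obtain ⟨h2⟩ : Nonempty (Homotopy (y ≫ x) (𝟙 Q)) := homotopy_of_Q_map_eq _ _ (by
    rw [Functor.map_comp, ← hx, ← hy, Iso.inv_hom_id, CategoryTheory.Functor.map_id])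
  obtain ⟨h3⟩ : Nonempty (Homotopy (f ≫ x) (x ≫ g)) := homotopy_of_Q_map_eq _ _ (by
    rw [Functor.map_comp, Functor.map_comp, ← hx, h])
  change altTr P a b f = altTr Q a b g
  have e1 : altTr P a b f = altTr P a b ((f ≫ x) ≫ y) := by
    apply altTr_eq_of_homotopy a b hP hPf
    exact (Homotopy.ofEq (by simp)).trans ((h1.symm.compLeft f).trans (Homotopy.ofEq (by simp)))
  have e2 : altTr P a b ((f ≫ x) ≫ y) = altTr Q a b (y ≫ (f ≫ x)) :=
    altTr_comm a b hPf hQf (f ≫ x) y
  have e3 : altTr Q a b (y ≫ (f ≫ x)) = altTr Q a b (y ≫ (x ≫ g)) := by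
    apply altTr_eq_of_homotopy a b hQ hQf
    exact h3.compLeft y
  have e4 : altTr Q a b (y ≫ (x ≫ g)) = altTr Q a b g := by
    apply altTr_eq_of_homotopy a b hQ hQf
    exact (Homotopy.ofEq (by simp)).trans ((h2.compRight g).trans (Homotopy.ofEq (by simp)))
  rw [e1, e2, e3, e4]

end Groth.Agent.S1876
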