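import Groth.Statements.S18774
import Groth.Agent.Lib.Helper93.CurveH0

set_option autoImplicit false
universe u
open CategoryTheory CategoryTheory.Limits AlgebraicGeometry
open VBCurve

namespace Groth.Agent.S18774

/-- Let k be a finite field and C a smooth proper geometrically integral curve over k (proper, smooth
and geometrically integral over k, of dimension one), and write g = dim_k H^1(C, O_C). Let E be a
finite locally free O_C-module and F a finite locally free submodule of E of rank r' ≥ 1 (a
monomorphism F → E). Then deg F ≤ r' · (dim_k H^0(C, E) + g − 1), that is, the slope of F is at most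
h^0(C, E) + g − 1; here the degree of a rank-n locally free module G is χ(G) − n·χ(O_C). -/
theorem result (k : Type u) [Field k] [Finite k] (X : Scheme.{u}) [X.Over (Spec (CommRingCat.of k))]
    [IsProper (X ↘ Spec (CommRingCat.of k))] [Smooth (X ↘ Spec (CommRingCat.of k))]
    [GeometricallyIntegral (X ↘ Spec (CommRingCat.of k))] (hdim : topologicalKrullDim ↥X = 1)
    (E : X.Modules) (hE : FlatMod.IsFinLocFree E) (F : X.Modules) (r' : ℕ) (hr' : 0 < r')
    (hF : FlatMod.IsFinLocFreeOfRank r' F) (i : F ⟶ E) [Mono i] :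
    Curv2.deg k X F r' ≤ (r' : ℤ) * ((Module.finrank k (Coh.HH X E 0) : ℤ) + (Curv2.genus k X : ℤ) - 1) := by
  have hd : topologicalKrullDim X ≤ 1 := hdim.le
  have hne : Nonempty X := by
    by_contra hne
    rw [not_nonempty_iff] at hne
    have : topologicalKrullDim X = ⊥ := by
      unfold topologicalKrullDim
      have : IsEmpty (TopologicalSpace.IrreducibleCloseds ↥X) :=
        ⟨fun Z => hne.elim Z.isIrreducible'.nonempty.some⟩
      exact Order.krullDim_eq_bot
    rw [this] at hdim
    exact absurd hdim (by decide)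
  have hFcoh := Groth.Agent.Lib.Helper67.CurveDeg.isCoh_of_rank hF
  have hEcoh : Coh.IsCoh E :=
    ⟨Groth.Agent.Lib.Helper49.isQuasicoherent_of_isFinLocFree E hE,
      Groth.Agent.Lib.Helper49.isFiniteType_of_isFinLocFree E hE⟩
  have hOcoh := Groth.Agent.Lib.Helper45.RefHullStalk.isCoh_structureModule X
  have eF := Groth.Agent.Lib.Helper67.CurveInv.euler_eq_of_coh k X hd F hFcoh
  have eO := Groth.Agent.Lib.Helper67.CurveInv.euler_eq_of_coh k X hd _ hOcoh
  have finE := Groth.Agent.Lib.Helper67.CurveInv.finite_HH_of_coh k X hd E hEcoh 0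
  have finO := Groth.Agent.Lib.Helper67.CurveInv.finite_HH_of_coh k X hd _ hOcoh 0
  have h1 := Groth.Agent.Lib.Helper93.CurveH0.finrank_HH_zero_le_of_mono k i
  have hnt := Groth.Agent.Lib.Helper93.CurveH0.nontrivial_HH_zero_structureModule (X := X)
  have h2 : 0 < Module.finrank k (Coh.HH X (Coh.structureModule X) 0) := Module.finrank_pos
  unfold Curv2.deg Curv2.genus
  rw [eF, eO]
  have a1 : (Module.finrank k (Coh.HH X F 0) : ℤ) ≤ Module.finrank k (Coh.HH X E 0) := by
    exact_mod_cast h1
  have a2 : (1 : ℤ) ≤ Module.finrank k (Coh.HH X (Coh.structureModule X) 0) := by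
    exact_mod_cast h2
  have a3 : (1 : ℤ) ≤ r' := by exact_mod_cast hr'
  have a4 : (0 : ℤ) ≤ Module.finrank k (Coh.HH X F 1) := by positivity
  have a5 : (0 : ℤ) ≤ Module.finrank k (Coh.HH X E 0) := by positivity
  nlinarith

end Groth.Agent.S18774
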