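import Groth.Statements.S18778
import Groth.Agent.Lib.Helper93.CurvePoint2

set_option autoImplicit false
universe u
open CategoryTheory CategoryTheory.Limits AlgebraicGeometry
open VBCurve

namespace Groth.Agent.S18778

/-- Let k be a finite field and C a smooth proper geometrically integral curve over k (proper, smooth
and geometrically integral over k, of dimension one) of genus one, i.e. dim_k H^1(C, O_C) = 1, with
a k-rational point O (an elliptic curve over k). Let G be a finite locally free O_C-module of rank r
≥ 1 and degree 0, where the degree of a rank-n locally free module H is χ(H) − n·χ(O_C), which is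
semistable: deg H · r ≤ deg G · rk H = 0 for every finite locally free submodule H of G of positive
rank. Then dim_k H^0(C, G) ≤ r. -/
theorem result (k : Type u) [Field k] [Finite k] (X : Scheme.{u}) [X.Over (Spec (CommRingCat.of k))]
    [IsProper (X ↘ Spec (CommRingCat.of k))] [Smooth (X ↘ Spec (CommRingCat.of k))]
    [GeometricallyIntegral (X ↘ Spec (CommRingCat.of k))] (hdim : topologicalKrullDim ↥X = 1)
    (hg : Curv2.genus k X = 1) (O : Spec (CommRingCat.of k) ⟶ X) (hO : O ≫ (X ↘ Spec (CommRingCat.of k)) = 𝟙 _)
    (G : X.Modules) (r : ℕ) (hr : 0 < r) (hG : FlatMod.IsFinLocFreeOfRank r G)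
    (hdeg : Curv2.deg k X G r = 0)
    (hGss : (∀ (H : X.Modules) (r' : ℕ) (i : H ⟶ G), Mono i → 0 < r' → FlatMod.IsFinLocFreeOfRank r' H →
      Curv2.deg k X H r' * (r : ℤ) ≤ Curv2.deg k X G r * (r' : ℤ))) :
    Module.finrank k (Coh.HH X G 0) ≤ r := by
  have : Subsingleton ↥(Spec (CommRingCat.of k)) :=
    show Subsingleton (PrimeSpectrum k) from inferInstance
  have : IsIntegral X :=
    GeometricallyIntegral.isIntegral_of_subsingleton (X ↘ Spec (CommRingCat.of k))
  have hC : Curve.IsSmoothProperCurve k X (X ↘ Spec (CommRingCat.of k)) :=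
    ⟨inferInstance, inferInstance, inferInstance, hdim⟩
  obtain ⟨Q, j, hQ, hj, hd⟩ :=
    Groth.Agent.Lib.Helper93.CurvePoint.exists_invertible_ideal_of_section k X hC O hO
  have := hj
  have hss : ∀ (H : X.Modules) (i : H ⟶ G), Mono i → FlatMod.IsFinLocFreeOfRank 1 H →
      Curv2.deg k X H 1 * (r : ℤ) ≤ Curv2.deg k X G r := by
    intro H i hi hH
    have := hGss H 1 i hi one_pos hH
    simpa using this
  have h := Groth.Agent.Lib.Helper93.CurveTwist.finrank_HH_zero_le_of_semistable k X hdim.le hG hss
    hQ j 1 (by
      rw [hd, hdeg]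
      have : (0 : ℤ) < r := by exact_mod_cast hr
      simpa using this)
  rw [hd] at h
  simpa using h

end Groth.Agent.S18778
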