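import Groth.Statements.S18789
import Mathlib

set_option autoImplicit false
universe u v w x
open TorusGr

namespace Groth.Agent.S18789

section Helpers
open DirectSum

variable {k : Type u} [Field k] {M : Type v} [AddCommGroup M] [DecidableEq M]
    {A : Type w} [CommRing A] [Algebra k A] (𝒜 : M → Submodule k A) [GradedAlgebra 𝒜]
    {P : Type x} [AddCommGroup P] [Module A P] [Module k P]
    (ℳ : M → Submodule k P) [Decomposition ℳ] [SetLike.GradedSMul 𝒜 ℳ]

/-- the degree-`g` component of `a • p`, `p` homogeneous of degree `e`, is `a_{g-e} • p` -/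
theorem coe_decompose_smul_of_mem (a : A) {p : P} {e : M} (hp : p ∈ ℳ e) (g : M) :
    ((decompose ℳ (a • p)) g : P) = ((decompose 𝒜 a) (g - e) : A) • p := by
  induction a using DirectSum.Decomposition.inductionOn 𝒜 with
  | zero => simp
  | @homogeneous i a =>
    have h1 : (a : A) • p ∈ ℳ (i + e) := SetLike.GradedSMul.smul_mem a.2 hp
    by_cases h : i + e = g
    · subst h
      rw [decompose_of_mem_same ℳ h1, add_sub_cancel_right, decompose_of_mem_same 𝒜 a.2]
    · rw [decompose_of_mem_ne ℳ h1 h]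
      have h' : i ≠ g - e := fun h'' => h (by rw [h'', sub_add_cancel])
      rw [decompose_of_mem_ne 𝒜 a.2 h', zero_smul]
  | add a b ha hb =>
    rw [add_smul, decompose_add, DirectSum.add_apply, Submodule.coe_add, ha, hb, decompose_add,
      DirectSum.add_apply, Submodule.coe_add, add_smul]

/-- projection to the degree-`g` component, as an additive map -/
noncomputable def projP (g : M) : P →+ P where
  toFun p := ((decompose ℳ p) g : P)
  map_zero' := by simp
  map_add' a b := by rw [decompose_add, DirectSum.add_apply, Submodule.coe_add]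

variable {n : ℕ} (wt : Fin n → M) (f : Fin n → P) (hf : ∀ i, f i ∈ ℳ (wt i))

include hf in
theorem proj_sum_smul (c : Fin n → A) (g : M) :
    ((decompose ℳ (∑ i, c i • f i)) g : P) =
      ∑ i, ((decompose 𝒜 (c i)) (g - wt i) : A) • f i := by
  have h1 := map_sum (projP ℳ g) (fun i => c i • f i) Finset.univ
  refine h1.trans (Finset.sum_congr rfl fun i _ => ?_)
  exact coe_decompose_smul_of_mem 𝒜 ℳ (c i) (hf i) g

include 𝒜 hf in
theorem proj_mem_span {q : P} (hq : q ∈ Submodule.span A (Set.range f)) (g : M) :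
    ((decompose ℳ q) g : P) ∈ Submodule.span A (Set.range f) := by
  obtain ⟨c, rfl⟩ := (Submodule.mem_span_range_iff_exists_fun A).mp hq
  rw [proj_sum_smul 𝒜 ℳ wt f hf c g]
  exact Submodule.sum_mem _ fun i _ => Submodule.smul_mem _ _ (Submodule.subset_span ⟨i, rfl⟩)

include hf in
theorem smul_proj_mem_span (a : A) (ha : ∀ p : P, a • p ∈ Submodule.span A (Set.range f))
    (j : M) (p : P) :
    ((decompose 𝒜 a) j : A) • p ∈ Submodule.span A (Set.range f) := by
  classical
  rw [← DirectSum.sum_support_decompose ℳ p, Finset.smul_sum]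
  refine Submodule.sum_mem _ fun h _ => ?_
  have h1 := proj_mem_span 𝒜 ℳ wt f hf (ha ((decompose ℳ p) h : P)) (j + h)
  rw [coe_decompose_smul_of_mem 𝒜 ℳ a ((decompose ℳ p) h).2 (j + h), add_sub_cancel_right] at h1
  exact h1

include hf in
theorem proj_mul_eq_zero (d : A)
    (hd : ∀ c : Fin n → A, ∑ i, c i • f i = 0 → ∀ i, d * c i = 0) (j : M)
    (c : Fin n → A) (hc : ∑ i, c i • f i = 0) (i : Fin n) :
    ((decompose 𝒜 d) j : A) * c i = 0 := by
  classical
  have hcomp : ∀ g : M, ∑ i, ((decompose 𝒜 (c i)) (g - wt i) : A) • f i = 0 := by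
    intro g
    have h1 := proj_sum_smul 𝒜 ℳ wt f hf c g
    rw [hc, decompose_zero, DirectSum.zero_apply, ZeroMemClass.coe_zero] at h1
    exact h1.symm
  have h2 : ∀ h : M, d * ((decompose 𝒜 (c i)) h : A) = 0 := by
    intro h
    have := hd _ (hcomp (h + wt i)) i
    rwa [add_sub_cancel_right] at this
  have h3 : ∀ h : M, ((decompose 𝒜 d) j : A) * ((decompose 𝒜 (c i)) h : A) = 0 := by
    intro h
    have h4 := DirectSum.coe_decompose_mul_add_of_right_mem 𝒜 (a := d) (i := j)
      ((decompose 𝒜 (c i)) h).2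
    rw [h2 h, decompose_zero, DirectSum.zero_apply, ZeroMemClass.coe_zero] at h4
    exact h4.symm
  rw [← DirectSum.sum_support_decompose 𝒜 (c i), Finset.mul_sum]
  exact Finset.sum_eq_zero fun h _ => h3 h

end Helpers

open DirectSum in
/-- Let `A` be a commutative algebra over a field `k`, graded by an additive commutative group `M` (for
`M` the character group of a split torus `T` this is a `T`-action on `Spec A`, and an `M`-graded
`A`-module is a `T`-equivariant quasi-coherent sheaf), let `P` be a finitely generated projective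
`A`-module with a compatible `M`-grading (a locally free `T`-sheaf of finite rank), and let `m` be a
homogeneous maximal ideal with residue field `k` (a `T`-fixed rational point). If homogeneous
elements `f i` of `P` reduce to a basis of `P/mP`, then there is a homogeneous `s ∉ m` such that
after inverting `s` the `f i` generate `P` and every relation among them is killed by a power of
`s`: on the invariant open `D(s)` the module is free on the homogeneous sections `f i`, with the
weights of the fibre `P/mP`. (The published statement has `M ≅ ℤ^r`, a split torus; here `M` is any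
additive commutative group, i.e. any diagonalizable group.) -/
theorem result
    {k : Type u} [Field k] {M : Type v} [AddCommGroup M] [DecidableEq M]
    {A : Type w} [CommRing A] [Algebra k A] (𝒜 : M → Submodule k A) [GradedAlgebra 𝒜]
    {P : Type x} [AddCommGroup P] [Module A P] [Module k P] [IsScalarTower k A P]
    (ℳ : M → Submodule k P) [Decomposition ℳ] [SetLike.GradedSMul 𝒜 ℳ]
    [Module.Finite A P] [Module.Projective A P]
    (m : Ideal A) [m.IsMaximal] (hm : m.IsHomogeneous 𝒜)
    (hrat : Function.Surjective (algebraMap k (A ⧸ m)))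
    {n : ℕ} (wt : Fin n → M) (f : Fin n → P) (hf : ∀ i, f i ∈ ℳ (wt i))
    (hli : LinearIndependent (A ⧸ m)
      (fun i => (Submodule.Quotient.mk (f i) : P ⧸ (m • (⊤ : Submodule A P)))))
    (hsp : Submodule.span A (Set.range f) ⊔ m • (⊤ : Submodule A P) = ⊤) :
    ∃ s : A, SetLike.IsHomogeneousElem 𝒜 s ∧ s ∉ m ∧
      (∀ p : P, ∃ (N : ℕ) (c : Fin n → A), s ^ N • p = ∑ i, c i • f i) ∧
      (∀ c : Fin n → A, ∑ i, c i • f i = 0 → ∃ N : ℕ, ∀ i, s ^ N * c i = 0) := by
  classical
  set Q : Submodule A P := Submodule.span A (Set.range f) with hQ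
  -- Step 1: Nakayama
  have hfg : (⊤ : Submodule A (P ⧸ Q)).FG := Module.finite_def.mp inferInstance
  have htop : (⊤ : Submodule A (P ⧸ Q)) ≤ m • (⊤ : Submodule A (P ⧸ Q)) := by
    intro x _
    obtain ⟨p, rfl⟩ := Q.mkQ_surjective x
    have hp : p ∈ Q ⊔ m • (⊤ : Submodule A P) := by rw [hsp]; trivial
    obtain ⟨q, hq, y, hy, rfl⟩ := Submodule.mem_sup.mp hp
    have h1 : Q.mkQ (q + y) = Q.mkQ y := by
      rw [map_add, Submodule.mkQ_apply, (Submodule.Quotient.mk_eq_zero Q).mpr hq, zero_add]
    rw [h1]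
    have h2 : Q.mkQ y ∈ (m • (⊤ : Submodule A P)).map Q.mkQ := Submodule.mem_map_of_mem hy
    rw [Submodule.map_smul'', Submodule.map_top, Submodule.range_mkQ] at h2
    exact h2
  obtain ⟨r, hr1, hr2⟩ :=
    Submodule.exists_sub_one_mem_and_smul_eq_zero_of_fg_of_le_smul m ⊤ hfg htop
  have hrQ : ∀ p : P, r • p ∈ Q := by
    intro p
    have := hr2 (Q.mkQ p) trivial
    rwa [← map_smul, Submodule.mkQ_apply, Submodule.Quotient.mk_eq_zero] at this
  have hmtop : (1 : A) ∉ m := (Ideal.ne_top_iff_one m).mp (Ideal.IsMaximal.ne_top inferInstance)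
  have hrm : r ∉ m := by
    intro h
    apply hmtop
    have := m.sub_mem h hr1
    rwa [sub_sub_cancel] at this
  obtain ⟨j₁, hj₁⟩ : ∃ j, ((decompose 𝒜 r) j : A) ∉ m := by
    by_contra hcon
    push Not at hcon
    apply hrm
    rw [← DirectSum.sum_support_decompose 𝒜 r]
    exact Ideal.sum_mem _ fun j _ => hcon j
  have hs₁Q : ∀ p : P, ((decompose 𝒜 r) j₁ : A) • p ∈ Q :=
    fun p => smul_proj_mem_span 𝒜 ℳ wt f hf r hrQ j₁ p
  -- Step 2: relations
  let φ : (Fin n → A) →ₗ[A] P := Fintype.linearCombination A f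
  have hφ : ∀ c, φ c = ∑ i, c i • f i := fun c => Fintype.linearCombination_apply A f c
  have hrange : LinearMap.range φ = Q := Fintype.range_linearCombination A f
  let g₀ : P →ₗ[A] LinearMap.range φ :=
    LinearMap.codRestrict (LinearMap.range φ) (((decompose 𝒜 r) j₁ : A) • LinearMap.id)
      (fun p => by rw [hrange]; exact hs₁Q p)
  obtain ⟨ψ, hψ⟩ := Module.projective_lifting_property φ.rangeRestrict g₀
    φ.surjective_rangeRestrict
  have hφψ : ∀ p, φ (ψ p) = ((decompose 𝒜 r) j₁ : A) • p := by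
    intro p
    have := congrArg (fun F => ((F p : LinearMap.range φ) : P)) hψ
    exact this
  let T : (Fin n → A) →ₗ[A] (Fin n → A) := ψ ∘ₗ φ
  let Tm : Matrix (Fin n) (Fin n) A := LinearMap.toMatrix' T
  have hTm : ∀ c, Tm.mulVec c = T c := fun c => LinearMap.toMatrix'_mulVec T c
  have hentry : ∀ i j, (if i = j then ((decompose 𝒜 r) j₁ : A) else 0) - Tm i j ∈ m := by
    intro i j
    let c₀ : Fin n → A := Pi.single j 1
    let x : Fin n → A := ((decompose 𝒜 r) j₁ : A) • c₀ - T c₀
    have hφx : ∑ i, x i • f i = 0 := by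
      rw [← hφ]
      show φ (((decompose 𝒜 r) j₁ : A) • c₀ - ψ (φ c₀)) = 0
      rw [map_sub, map_smul, hφψ, sub_self]
    have h1 : ∑ i, Ideal.Quotient.mk m (x i) •
        (Submodule.Quotient.mk (f i) : P ⧸ (m • (⊤ : Submodule A P))) =
        (m • (⊤ : Submodule A P)).mkQ (∑ i, x i • f i) := by
      rw [map_sum]; rfl
    have hli' := Fintype.linearIndependent_iff.mp hli (fun i => Ideal.Quotient.mk m (x i))
      (by rw [h1, hφx, map_zero]) i
    have hxi : x i = (if i = j then ((decompose 𝒜 r) j₁ : A) else 0) - Tm i j := by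
      show ((decompose 𝒜 r) j₁ : A) * ((Pi.single j (1 : A) : Fin n → A) i) - T c₀ i = _
      rw [Pi.single_apply, mul_ite, mul_one, mul_zero]
      exact congrArg (fun z => (if i = j then ((decompose 𝒜 r) j₁ : A) else 0) - z)
        (LinearMap.toMatrix'_apply T i j).symm
    rw [← hxi]
    exact Ideal.Quotient.eq_zero_iff_mem.mp hli'
  have hdet : Ideal.Quotient.mk m Tm.det = (Ideal.Quotient.mk m ((decompose 𝒜 r) j₁ : A)) ^ n := by
    rw [RingHom.map_det]
    have hmat : (Ideal.Quotient.mk m).mapMatrix Tm =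
        (Ideal.Quotient.mk m ((decompose 𝒜 r) j₁ : A)) • (1 : Matrix (Fin n) (Fin n) (A ⧸ m)) := by
      ext i j
      rw [RingHom.mapMatrix_apply, Matrix.map_apply, Matrix.smul_apply, Matrix.one_apply,
        smul_eq_mul, mul_ite, mul_one, mul_zero]
      have h := hentry i j
      rw [← Ideal.Quotient.eq_zero_iff_mem, map_sub, sub_eq_zero] at h
      rw [← h]
      split_ifs <;> simp
    rw [hmat, Matrix.det_smul, Matrix.det_one, mul_one, Fintype.card_fin]
  have hdm : Tm.det ∉ m := by
    intro h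
    have h1 := Ideal.Quotient.eq_zero_iff_mem.mpr h
    rw [hdet] at h1
    exact hj₁ (Ideal.Quotient.eq_zero_iff_mem.mp (eq_zero_of_pow_eq_zero h1))
  have hdK : ∀ c : Fin n → A, ∑ i, c i • f i = 0 → ∀ i, Tm.det * c i = 0 := by
    intro c hc i
    have hTc : T c = 0 := by
      show ψ (φ c) = 0
      rw [hφ, hc, map_zero]
    have h1 : (Tm.adjugate * Tm).mulVec c = 0 := by
      rw [← Matrix.mulVec_mulVec, hTm, hTc, Matrix.mulVec_zero]
    rw [Matrix.adjugate_mul, Matrix.smul_mulVec, Matrix.one_mulVec] at h1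
    have := congrFun h1 i
    simpa using this
  obtain ⟨j₂, hj₂⟩ : ∃ j, ((decompose 𝒜 Tm.det) j : A) ∉ m := by
    by_contra hcon
    push Not at hcon
    apply hdm
    rw [← DirectSum.sum_support_decompose 𝒜 Tm.det]
    exact Ideal.sum_mem _ fun j _ => hcon j
  have hs₂K : ∀ c : Fin n → A, ∑ i, c i • f i = 0 →
      ∀ i, ((decompose 𝒜 Tm.det) j₂ : A) * c i = 0 :=
    fun c hc i => proj_mul_eq_zero 𝒜 ℳ wt f hf Tm.det hdK j₂ c hc i
  refine ⟨((decompose 𝒜 r) j₁ : A) * ((decompose 𝒜 Tm.det) j₂ : A),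
    ⟨j₁ + j₂, SetLike.GradedMul.mul_mem ((decompose 𝒜 r) j₁).2 ((decompose 𝒜 Tm.det) j₂).2⟩,
    fun h => (Ideal.IsPrime.mem_or_mem inferInstance h).elim hj₁ hj₂, fun p => ?_, fun c hc => ?_⟩
  · refine ⟨1, ?_⟩
    rw [pow_one]
    have hmem : (((decompose 𝒜 r) j₁ : A) * ((decompose 𝒜 Tm.det) j₂ : A)) • p ∈ Q := by
      rw [mul_comm, mul_smul]
      exact Q.smul_mem _ (hs₁Q p)
    obtain ⟨c, hc⟩ := (Submodule.mem_span_range_iff_exists_fun A).mp hmem
    exact ⟨c, hc.symm⟩
  · refine ⟨1, fun i => ?_⟩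
    rw [pow_one, mul_assoc, hs₂K c hc i, mul_zero]

end Groth.Agent.S18789
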