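import Groth.Statements.S18797
-- import your own Groth.Agent.* helpers here

set_option autoImplicit false
universe u v w
open DefMod

namespace Groth.Agent.S18797

/-- Let K be a field of characteristic zero, O a commutative K-algebra with a K-linear derivation ∂, and
E a finite free O-module equipped with a K-linear map ∂_E satisfying the Leibniz rule ∂_E(a e) =
∂(a) e + a ∂_E(e) (a differential module). The induced derivation on End_O(E) sends φ to ∂_E ∘ φ − φ
∘ ∂_E, which is again O-linear; the trace End_O(E) → O is compatible with the two derivations: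
tr(∂_E ∘ φ − φ ∘ ∂_E) = ∂(tr φ). Here the O-linear map ψ = ∂_E ∘ φ − φ ∘ ∂_E is given by its values.
(The published lemma also asserts that the trace is split surjective and that it respects commutator
brackets; the split surjectivity fails for E = 0 over a nonzero ring and holds only in positive
rank, and neither clause is restated.) -/
theorem result
    {K : Type u} [Field K] [CharZero K]
    {O : Type v} [CommRing O] [Algebra K O] (δ : Derivation K O O)
    {E : Type w} [AddCommGroup E] [Module O E] [Module K E] [IsScalarTower K O E]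
    [Module.Free O E] [Module.Finite O E]
    (δE : E →ₗ[K] E) (hδE : ∀ (a : O) (e : E), δE (a • e) = δ a • e + a • δE e)
    (φ ψ : E →ₗ[O] E) (hψ : ∀ e : E, ψ e = δE (φ e) - φ (δE e)) :
    LinearMap.trace O E ψ = δ (LinearMap.trace O E φ) := by
  classical
  let ι := Module.Free.ChooseBasisIndex O E
  let b : Module.Basis ι O E := Module.Free.chooseBasis O E
  let P : ι → ι → O := fun j i => b.repr (φ (b i)) j
  let N : ι → ι → O := fun j i => b.repr (δE (b i)) j
  have hφb : ∀ i, φ (b i) = ∑ j, P j i • b j := fun i => (b.sum_repr (φ (b i))).symm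
  have hδb : ∀ i, δE (b i) = ∑ j, N j i • b j := fun i => (b.sum_repr (δE (b i))).symm
  have hreprb : ∀ i j : ι, b.repr (b j) i = if j = i then 1 else 0 := by
    intro i j
    rw [b.repr_self, Finsupp.single_apply]
  have h1 : ∀ i, b.repr (δE (φ (b i))) i = δ (P i i) + ∑ j, P j i * N i j := by
    intro i
    rw [hφb i, map_sum]
    simp only [hδE, map_sum, map_add, map_smul, Finsupp.coe_finsetSum, Finsupp.coe_add,
      Finsupp.coe_smul, Finset.sum_apply, Pi.add_apply, Pi.smul_apply, smul_eq_mul,
      Finset.sum_add_distrib]
    congr 1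
    simp only [hreprb, mul_ite, mul_one, mul_zero]
    rw [Finset.sum_ite_eq']
    simp
  have h2 : ∀ i, b.repr (φ (δE (b i))) i = ∑ j, N j i * P i j := by
    intro i
    rw [hδb i]
    simp only [map_sum, map_smul, Finsupp.coe_finsetSum, Finsupp.coe_smul, Finset.sum_apply,
      Pi.smul_apply, smul_eq_mul]
    rfl
  rw [LinearMap.trace_eq_matrix_trace O b ψ, LinearMap.trace_eq_matrix_trace O b φ]
  simp only [Matrix.trace, Matrix.diag_apply, LinearMap.toMatrix_apply, map_sum]
  have h3 : ∀ i, b.repr (ψ (b i)) i = δ (P i i) + (∑ j, P j i * N i j - ∑ j, N j i * P i j) := by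
    intro i
    rw [hψ, map_sub, Finsupp.sub_apply, h1, h2]
    ring
  rw [Finset.sum_congr rfl (fun i _ => h3 i), Finset.sum_add_distrib, Finset.sum_sub_distrib]
  have h4 : ∑ i, ∑ j, P j i * N i j = ∑ i, ∑ j, N j i * P i j := by
    rw [Finset.sum_comm]
    refine Finset.sum_congr rfl (fun i _ => Finset.sum_congr rfl (fun j _ => ?_))
    ring
  rw [h4, sub_self, add_zero]

end Groth.Agent.S18797
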