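import Groth.Statements.S18802
import Mathlib.LinearAlgebra.Basis.VectorSpace
import Mathlib.Algebra.Module.Projective
import Mathlib.LinearAlgebra.FreeModule.Basic

set_option autoImplicit false
universe u v w w' w''
open DefMod

namespace Groth.Agent.S18802

/-- Let K be a field of characteristic zero, D an associative K-algebra and E, F left D-modules. A
K-linear map s : D → Hom_K(E, F) with s(ab)(e) = a s(b)(e) + s(a)(b e) (a derivation into the
bimodule Hom_K(E, F), i.e. a Hochschild 1-cocycle) defines the twisted sum F ⊕_s E = F × E with a ·
(f, e) = (a f + s(a) e, a e), an extension of E by F. Every extension of left D-modules 0 → F → Q →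
E → 0 arises this way: there are such an s and a D-linear isomorphism Q ≅ F ⊕_s E carrying the given
map F → Q to the inclusion f ↦ (f, 0) and compatible with the two projections onto E. (Together with
the splitting criterion this identifies derivations modulo principal derivations with Ext¹_D(E, F);
the compatibility of that identification with addition and scalars is not restated.) -/
theorem result
    {K : Type u} [Field K] [CharZero K]
    {D : Type v} [Ring D] [Algebra K D]
    {E : Type w} [AddCommGroup E] [Module K E] [Module D E] [IsScalarTower K D E]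
    {F : Type w'} [AddCommGroup F] [Module K F] [Module D F] [IsScalarTower K D F]
    {Q : Type w''} [AddCommGroup Q] [Module D Q]
    (i : F →ₗ[D] Q) (p : Q →ₗ[D] E) (hi : Function.Injective i) (hp : Function.Surjective p)
    (hex : Function.Exact i p) :
    ∃ (s : D →ₗ[K] E →ₗ[K] F) (hs : W4c6defoisocp1.IsHomDerivation s) (Φ : Q ≃ₗ[D] W4c6defoisocp1.TwistExt s hs),
      (∀ f : F, Φ (i f) = W4c6defoisocp1.TwistExt.inl f) ∧ ∀ q : Q, W4c6defoisocp1.TwistExt.snd (Φ q) = p q := by
  classical
  -- `Q` as a `K`-vector space through `D`
  letI : Module K Q := Module.compHom Q (algebraMap K D)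
  haveI : IsScalarTower K D Q := ⟨fun c a q => by
    rw [Algebra.smul_def, mul_smul]
    rfl⟩
  have hKQ : ∀ (c : K) (q : Q), c • q = (algebraMap K D c) • q := fun c q => rfl
  -- a `K`-linear section of `p`
  let pK : Q →ₗ[K] E := p.restrictScalars K
  obtain ⟨τ, hτ⟩ := LinearMap.exists_rightInverse_of_surjective pK
    (LinearMap.range_eq_top.mpr hp)
  have hpτ : ∀ e : E, p (τ e) = e := fun e => LinearMap.congr_fun hτ e
  -- the inverse of `i` on the kernel of `p`
  have hker : ∀ q : Q, p q = 0 → ∃ f : F, i f = q := fun q hq => (hex q).mp hq
  let iK : F →ₗ[K] Q := i.restrictScalars K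
  -- a `K`-linear retraction of `i`
  obtain ⟨r, hr⟩ := LinearMap.exists_leftInverse_of_injective iK (LinearMap.ker_eq_bot.mpr hi)
  have hri : ∀ f : F, r (i f) = f := fun f => LinearMap.congr_fun hr f
  have hir : ∀ q : Q, p q = 0 → i (r q) = q := by
    intro q hq
    obtain ⟨f, rfl⟩ := hker q hq
    rw [hri]
  have hpi : ∀ f : F, p (i f) = 0 := fun f => (hex (i f)).mpr ⟨f, rfl⟩
  -- the cocycle
  have hcoc : ∀ (a : D) (e : E), p (a • τ e - τ (a • e)) = 0 := by
    intro a e
    rw [map_sub, map_smul, hpτ, hpτ, sub_self]
  have hτK : ∀ (c : K) (e : E), τ (c • e) = c • τ e := fun c e => map_smul τ c e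
  have hcommQ : ∀ (a : D) (c : K) (q : Q), a • (c • q) = c • (a • q) := fun a c q => smul_comm a c q
  have hcommE : ∀ (a : D) (c : K) (e : E), a • (c • e) = c • (a • e) := fun a c e => smul_comm a c e
  let s : D →ₗ[K] E →ₗ[K] F :=
    { toFun := fun a =>
        { toFun := fun e => r (a • τ e - τ (a • e))
          map_add' := by
            intro e e'
            rw [← map_add]
            have : a • τ (e + e') - τ (a • (e + e')) =
                (a • τ e - τ (a • e)) + (a • τ e' - τ (a • e')) := by
              rw [map_add, smul_add, smul_add, map_add]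
              abel
            rw [this]
          map_smul' := by
            intro c e
            have : a • τ (c • e) - τ (a • (c • e)) = c • (a • τ e - τ (a • e)) := by
              rw [hτK, hcommQ, hcommE, hτK, smul_sub]
            change r (a • τ (c • e) - τ (a • (c • e))) = c • r (a • τ e - τ (a • e))
            rw [this, r.map_smul] }
      map_add' := by
        intro a b
        ext e
        simp only [LinearMap.coe_mk, AddHom.coe_mk, LinearMap.add_apply]
        rw [← map_add]
        have : (a + b) • τ e - τ ((a + b) • e) =
            (a • τ e - τ (a • e)) + (b • τ e - τ (b • e)) := by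
          rw [add_smul, add_smul, map_add]
          abel
        rw [this]
      map_smul' := by
        intro c a
        ext e
        have : (c • a) • τ e - τ ((c • a) • e) = c • (a • τ e - τ (a • e)) := by
          rw [smul_assoc, smul_assoc, hτK, smul_sub]
        change r ((c • a) • τ e - τ ((c • a) • e)) = c • r (a • τ e - τ (a • e))
        rw [this, r.map_smul] }
  have hs_apply : ∀ (a : D) (e : E), i (s a e) = a • τ e - τ (a • e) := fun a e => hir _ (hcoc a e)
  have hs : W4c6defoisocp1.IsHomDerivation s := by
    intro a b e
    apply hi
    rw [map_add, map_smul, hs_apply, hs_apply, hs_apply, mul_smul, mul_smul, smul_sub]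
    abel
  have hq0 : ∀ q : Q, p (q - τ (p q)) = 0 := by
    intro q
    rw [map_sub, hpτ, sub_self]
  let Φ : Q ≃ₗ[D] W4c6defoisocp1.TwistExt s hs :=
    { toFun := fun q => W4c6defoisocp1.TwistExt.mk (r (q - τ (p q)), p q)
      map_add' := by
        intro q q'
        apply W4c6defoisocp1.TwistExt.ext
        · simp only [W4c6defoisocp1.TwistExt.val_mk, W4c6defoisocp1.TwistExt.val_add, Prod.fst_add]
          rw [← map_add]
          congr 1
          rw [map_add, map_add]
          abel
        · simp
      map_smul' := by
        intro a q
        apply W4c6defoisocp1.TwistExt.ext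
        · simp only [W4c6defoisocp1.TwistExt.val_mk, W4c6defoisocp1.TwistExt.val_smul, RingHom.id_apply]
          apply hi
          rw [hir _ (hq0 _), i.map_add, i.map_smul, hir _ (hq0 q), hs_apply, p.map_smul, smul_sub]
          abel
        · simp
      invFun := fun x => i (W4c6defoisocp1.TwistExt.val x).1 + τ (W4c6defoisocp1.TwistExt.val x).2
      left_inv := by
        intro q
        simp only [W4c6defoisocp1.TwistExt.val_mk]
        rw [hir _ (hq0 _)]
        abel
      right_inv := by
        intro x
        apply W4c6defoisocp1.TwistExt.ext
        · simp only [W4c6defoisocp1.TwistExt.val_mk]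
          rw [map_add, hpi, hpτ, zero_add, add_sub_cancel_right, hri]
        · simp only [W4c6defoisocp1.TwistExt.val_mk]
          rw [map_add, hpi, hpτ, zero_add] }
  refine ⟨s, hs, Φ, fun f => ?_, fun q => ?_⟩
  · apply W4c6defoisocp1.TwistExt.ext
    · change r (i f - τ (p (i f))) = f
      rw [hpi, map_zero, sub_zero, hri]
    · change p (i f) = 0
      exact hpi f
  · rfl

end Groth.Agent.S18802
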