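import Groth.Statements.S18806
import Groth.Agent.Lib.Helper93.ComodPush

set_option autoImplicit false
universe u v v' w w' x
open TensorProduct
open HopfRep

namespace Groth.Agent.S18806

/-- Let k be a field, i : C → D an injective morphism of k-coalgebras and V a right D-comodule with
coaction ρ : V → V ⊗ D. If ρ(v) lies in the image of V ⊗ C → V ⊗ D (induced by i) for every v, then
V comes from a C-comodule: there is a C-comodule structure on V whose coaction, followed by V ⊗ C →
V ⊗ D, is ρ. (The source states this for left comodules over the coordinate bialgebras of an affine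
monoid scheme over k and of its group of units, assumed open and schematically dense, and uses that
assumption only through the injectivity of the restriction map of coordinate rings; the row is the
right-comodule mirror image for any injective coalgebra map. The converse direction is immediate.) -/
theorem result (k : Type u) [Field k]
    (C : Type v) [AddCommGroup C] [Module k C] [Coalgebra k C]
    (D : Type v') [AddCommGroup D] [Module k D] [Coalgebra k D]
    (i : C →ₗc[k] D) (hi : Function.Injective i)
    (V : Type w) [AddCommGroup V] [Module k V] [HopfRep.Comod k D V]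
    (h : ∀ v : V, HopfRep.Comod.coact (k := k) (A := D) v ∈ LinearMap.range ((i : C →ₗ[k] D).lTensor V)) :
    ∃ c : HopfRep.Comod k C V,
      (i : C →ₗ[k] D).lTensor V ∘ₗ c.coact = HopfRep.Comod.coact (k := k) (A := D) := by
  have hinj : Function.Injective ((i : C →ₗ[k] D).lTensor V) :=
    Module.Flat.lTensor_preserves_injective_linearMap _ hi
  let ρ : V →ₗ[k] V ⊗[k] C :=
    (LinearEquiv.ofInjective ((i : C →ₗ[k] D).lTensor V) hinj).symm.toLinearMap ∘ₗ
      LinearMap.codRestrict (LinearMap.range ((i : C →ₗ[k] D).lTensor V))
        (HopfRep.Comod.coact (k := k) (A := D)) h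
  have hρ : (i : C →ₗ[k] D).lTensor V ∘ₗ ρ = HopfRep.Comod.coact (k := k) (A := D) := by
    apply LinearMap.ext
    intro v
    change (i : C →ₗ[k] D).lTensor V ((LinearEquiv.ofInjective ((i : C →ₗ[k] D).lTensor V) hinj).symm
      ⟨HopfRep.Comod.coact (k := k) (A := D) v, h v⟩) = HopfRep.Comod.coact (k := k) (A := D) v
    rw [← LinearEquiv.ofInjective_apply (h := hinj), LinearEquiv.apply_symm_apply]
  exact ⟨Groth.Agent.Lib.Helper93.Comod.pull i hi inferInstance ρ hρ, hρ⟩

end Groth.Agent.S18806
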