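import Groth.Statements.S18809
import Groth.Agent.Lib.Helper93.ComodPush

set_option autoImplicit false
universe u v v' w w' x
open TensorProduct
open HopfRep

namespace Groth.Agent.S18809

/-- Let k be a field and i : C → D an injective morphism of k-coalgebras. If every right D-comodule is
semisimple (every subcomodule has a complementary subcomodule), then every right C-comodule is
semisimple. (The source states this for the coordinate bialgebras of an affine monoid scheme over k
and of its open schematically dense group of units, through the injectivity of the restriction map,
with semisimple meaning that every representation is a sum of irreducible subrepresentations;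
D-comodules are quantified in the universe of the given C-comodule.) -/
theorem result (k : Type u) [Field k]
    (C : Type v) [AddCommGroup C] [Module k C] [Coalgebra k C]
    (D : Type v') [AddCommGroup D] [Module k D] [Coalgebra k D]
    (i : C →ₗc[k] D) (hi : Function.Injective i)
    (hD : ∀ (W : Type w) [AddCommGroup W] [Module k W] [HopfRep.Comod k D W], HopfRep.IsSemisimpleComod k D W)
    (V : Type w) [AddCommGroup V] [Module k V] [HopfRep.Comod k C V] :
    HopfRep.IsSemisimpleComod k C V := by
  intro W hW
  letI cD : HopfRep.Comod k D V := Groth.Agent.Lib.Helper93.Comod.push i (inferInstance : HopfRep.Comod k C V)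
  have hcd : (i : C →ₗ[k] D).lTensor V ∘ₗ HopfRep.Comod.coact (k := k) (A := C) =
      HopfRep.Comod.coact (k := k) (A := D) (V := V) := rfl
  have hWD : HopfRep.IsSubcomod (k := k) (A := D) W :=
    (Groth.Agent.Lib.Helper93.Comod.isSubcomod_push_iff i hi hcd W).mpr hW
  obtain ⟨W', hW', hc⟩ := hD V W hWD
  exact ⟨W', (Groth.Agent.Lib.Helper93.Comod.isSubcomod_push_iff i hi hcd W').mp hW', hc⟩

end Groth.Agent.S18809
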