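import Groth.Statements.S18810
import Groth.Agent.Lib.Helper93.ComodBridge
import Groth.Agent.Lib.Helper93.Isotypic

set_option autoImplicit false
universe u v v' w w' x
open TensorProduct
open HopfRep

namespace Groth.Agent.S18810

section Aux

open Groth.Agent.Lib.Helper93.Comod

theorem aux (k : Type u) [Field k]
    (C : Type v) [AddCommGroup C] [Module k C] [Coalgebra k C]
    (V : Type w) [AddCommGroup V] [Module k V] [HopfRep.Comod k C V]
    {ι : Type x} (S : ι → Type w') [∀ j, AddCommGroup (S j)] [∀ j, Module k (S j)]
    [∀ j, HopfRep.Comod k C (S j)] (hS : ∀ j, HopfRep.IsSimpleComod k C (S j))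
    (hne : ∀ j j', j ≠ j' → ∀ e : S j ≃ₗ[k] S j', ¬ Hoch.IsComodHom C (e : S j →ₗ[k] S j')) :
    iSupIndep (fun j => ⨆ f : {f : S j →ₗ[k] V // Hoch.IsComodHom C f}, LinearMap.range f.1) := by
  have hSs : ∀ j, IsSimpleModule (DualAlg k C) (AsMod k C (S j)) :=
    fun j => (isSimpleComod_iff k C (S j)).mp (hS j)
  have hne' : ∀ j j', j ≠ j' → IsEmpty (AsMod k C (S j) ≃ₗ[DualAlg k C] AsMod k C (S j')) := by
    intro j j' hjj'
    refine ⟨fun e => ?_⟩
    exact hne j j' hjj' (ofModEquiv e) (isComodHom_ofModEquiv e)
  have hind := Groth.Agent.Lib.Helper93.Isotypic.iSupIndep_isotypicComponent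
    (R := DualAlg k C) (M := AsMod k C V) (fun j => AsMod k C (S j)) hne'
  -- each isotypic component of `V` maps into the module-theoretic one
  have hle : ∀ j, ∀ x ∈ (⨆ f : {f : S j →ₗ[k] V // Hoch.IsComodHom C f}, LinearMap.range f.1),
      AsMod.equiv k C V x ∈ isotypicComponent (DualAlg k C) (AsMod k C V) (AsMod k C (S j)) := by
    intro j x hx
    induction hx using Submodule.iSup_induction' with
    | mem f y hy =>
      obtain ⟨f, hf⟩ := f
      obtain ⟨s, rfl⟩ := hy
      rcases LinearMap.injective_or_eq_zero (toModHom f hf) with hinj | h0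
      · have hm : LinearMap.range (toModHom f hf) ≤
            isotypicComponent (DualAlg k C) (AsMod k C V) (AsMod k C (S j)) :=
          le_sSup ⟨(LinearEquiv.ofInjective (toModHom f hf) hinj).symm⟩
        apply hm
        exact ⟨AsMod.equiv k C (S j) s, by rw [toModHom_apply]; simp⟩
      · have := LinearMap.congr_fun h0 (AsMod.equiv k C (S j) s)
        rw [toModHom_apply] at this
        simp only [LinearEquiv.symm_apply_apply, LinearMap.zero_apply] at this
        rw [this]
        exact zero_mem _
    | zero => simp
    | add y z _ _ hy hz =>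
      rw [map_add]
      exact add_mem hy hz
  intro j
  have H2 : ∀ x ∈ (⨆ j', ⨆ (_ : j' ≠ j),
        (⨆ f : {f : S j' →ₗ[k] V // Hoch.IsComodHom C f}, LinearMap.range f.1)),
      AsMod.equiv k C V x ∈ ⨆ j', ⨆ (_ : j' ≠ j),
        isotypicComponent (DualAlg k C) (AsMod k C V) (AsMod k C (S j')) := by
    intro x hx
    induction hx using Submodule.iSup_induction' with
    | mem j' y hy =>
      by_cases hj' : j' = j
      · have : (⨆ (_ : j' ≠ j), (⨆ f : {f : S j' →ₗ[k] V // Hoch.IsComodHom C f},
            LinearMap.range f.1)) = ⊥ := by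
          simp [hj']
        rw [this, Submodule.mem_bot] at hy
        rw [hy, map_zero]
        exact zero_mem _
      · have hy' : y ∈ (⨆ f : {f : S j' →ₗ[k] V // Hoch.IsComodHom C f}, LinearMap.range f.1) := by
          simpa [hj'] using hy
        have := hle j' y hy'
        apply Submodule.mem_iSup_of_mem j'
        simpa [hj'] using this
    | zero => simp
    | add y z _ _ hy hz =>
      rw [map_add]
      exact add_mem hy hz
  rw [disjoint_iff, eq_bot_iff]
  rintro x ⟨hx1, hx2⟩
  have h1 := hle j x hx1
  have h2 := H2 x hx2
  have h3 := (disjoint_iff.mp (hind j)).le ⟨h1, h2⟩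
  rw [Submodule.mem_bot] at h3 ⊢
  simpa using h3

end Aux

/-- Let k be a field, C a k-coalgebra, V a right C-comodule and (S_j) a family of simple C-comodules
which are pairwise non-isomorphic (for j ≠ j' no k-linear isomorphism S_j ≃ S_j' commutes with the
coactions). For each j let V[j] be the isotypic component of type S_j: the sum of the images of all
comodule maps S_j → V (equivalently of all simple subcomodules of V isomorphic to S_j, a nonzero
such map being injective). Then the family j ↦ V[j] is independent, so that the socle of V is the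
direct sum of its isotypic components. (The source states this for representations of an affine
monoid scheme over k, i.e. left comodules over its coordinate bialgebra; the row is the
right-comodule form over any coalgebra.) -/
theorem result (k : Type u) [Field k]
    (C : Type v) [AddCommGroup C] [Module k C] [Coalgebra k C]
    (V : Type w) [AddCommGroup V] [Module k V] [HopfRep.Comod k C V]
    {ι : Type x} (S : ι → Type w') [∀ j, AddCommGroup (S j)] [∀ j, Module k (S j)]
    [∀ j, HopfRep.Comod k C (S j)] (hS : ∀ j, HopfRep.IsSimpleComod k C (S j))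
    (hne : ∀ j j', j ≠ j' → ∀ e : S j ≃ₗ[k] S j', ¬ Hoch.IsComodHom C (e : S j →ₗ[k] S j')) :
    iSupIndep (fun j => ⨆ f : {f : S j →ₗ[k] V // Hoch.IsComodHom C f}, LinearMap.range f.1) :=
  aux k C V S hS hne

end Groth.Agent.S18810
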