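import Mathlib
import Groth.Statements.S18811
-- import your own Groth.Agent.* helpers here

set_option autoImplicit false
universe u
open CategoryTheory CategoryTheory.Limits AlgebraicGeometry
open Variety

namespace Groth.Agent.S18811

/-- Let k be a field and X, Y quasi-compact k-schemes whose diagonal morphisms over k are affine
(semi-separated; for instance X and Y separated over k). Then the canonical map Γ(X, O_X) ⊗_k Γ(Y,
O_Y) → Γ(X ×_k Y, O) is an isomorphism: the commutative square of rings of global sections formed by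
Spec k, X, Y and X ×_k Y with the pullback maps along the structure morphisms and the two
projections is a pushout square of commutative rings. -/
theorem result (k : Type u) [Field k]
    (X : Scheme.{u}) [X.Over (Spec (CommRingCat.of k))] [CompactSpace ↥X]
    [IsAffineHom (pullback.diagonal (X ↘ (Spec (CommRingCat.of k))))]
    (Y : Scheme.{u}) [Y.Over (Spec (CommRingCat.of k))] [CompactSpace ↥Y]
    [IsAffineHom (pullback.diagonal (Y ↘ (Spec (CommRingCat.of k))))] :
    IsPushout (X ↘ (Spec (CommRingCat.of k))).appTop (Y ↘ (Spec (CommRingCat.of k))).appTop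
      (pullback.fst (X ↘ (Spec (CommRingCat.of k))) (Y ↘ (Spec (CommRingCat.of k)))).appTop
      (pullback.snd (X ↘ (Spec (CommRingCat.of k))) (Y ↘ (Spec (CommRingCat.of k)))).appTop := by
  let iX := X ↘ (Spec (CommRingCat.of k))
  let f := Y ↘ (Spec (CommRingCat.of k))
  have : QuasiSeparated iX := ⟨inferInstance⟩
  have : QuasiSeparated f := ⟨inferInstance⟩
  have : QuasiSeparatedSpace X := quasiSeparatedSpace_of_quasiSeparated iX
  have : QuasiSeparatedSpace Y := quasiSeparatedSpace_of_quasiSeparated f
  have : Flat f := inferInstance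
  have H : IsPullback (pullback.fst iX f) (pullback.snd iX f) iX f := IsPullback.of_hasPullback _ _
  have hflat : (iX.appLE ⊤ ⊤ le_top).hom.Flat := by
    have h1 : iX.appLE ⊤ ⊤ le_top = (Scheme.ΓSpecIso (CommRingCat.of k)).hom ≫
        ((Scheme.ΓSpecIso (CommRingCat.of k)).inv ≫ iX.appLE ⊤ ⊤ le_top) := by
      rw [Iso.hom_inv_id_assoc]
    rw [h1]
    refine RingHom.Flat.comp (RingHom.Flat.of_bijective
      ((ConcreteCategory.isIso_iff_bijective (Scheme.ΓSpecIso (CommRingCat.of k)).hom).mp
        inferInstance)) ?_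
    let ψ : k →+* Γ(X, ⊤) := ((Scheme.ΓSpecIso (CommRingCat.of k)).inv ≫ iX.appLE ⊤ ⊤ le_top).hom
    show ψ.Flat
    let _ := ψ.toAlgebra
    exact (inferInstance : Module.Flat k Γ(X, ⊤))
  have hiso := isIso_pushoutSection_of_isCompact_of_flat_right_of_ringHomFlat H
    (US := ⊤) (UT := ⊤) (UX := ⊤) (UY := ⊤) le_top le_top (by simp)
    (isAffineOpen_top _) isCompact_univ isQuasiSeparated_univ isCompact_univ isQuasiSeparated_univ
    hflat
  have hpo := (isIso_pushoutSection_iff H (US := ⊤) (UT := ⊤) (UX := ⊤) (UY := ⊤)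
    le_top le_top (by simp)).mp hiso
  have e1 : iX.appLE ⊤ ⊤ le_top = iX.appTop := iX.appLE_eq_app
  have e2 : f.appLE ⊤ ⊤ le_top = f.appTop := f.appLE_eq_app
  have e3 : (pullback.fst iX f).appLE ⊤ ⊤ le_top = (pullback.fst iX f).appTop :=
    (pullback.fst iX f).appLE_eq_app
  have e4 : (pullback.snd iX f).appLE ⊤ ⊤ le_top = (pullback.snd iX f).appTop :=
    (pullback.snd iX f).appLE_eq_app
  rw [e1, e2, e3, e4] at hpo
  exact hpo

end Groth.Agent.S18811
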