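import Groth.Statements.S18812
import Groth.Agent.Lib.Helper84.LinRedAll
-- import your own Groth.Agent.* helpers here

set_option autoImplicit false
universe u v w
open TensorProduct
open HopfRep

namespace Groth.Agent.S18812

/-- Let k be a field and A a commutative Hopf algebra over k, the coordinate ring of an affine group
scheme G. Suppose the inclusion of constants k → A splits as a map of G-representations: there is a
k-linear map α : A → k which is a comodule map from the regular comodule A to the trivial comodule k
and satisfies α(1) = 1. Then every A-comodule, of any dimension, is semisimple: every subcomodule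
has a complementary subcomodule. (The source works with left comodules; this is the right-comodule
form. The converse implication is the easy one and is not part of this row.) -/
theorem result (k : Type u) [Field k] (A : Type v) [CommRing A] [HopfAlgebra k A]
    (α : A →ₗ[k] k) (hα : @Hoch.IsComodHom k _ A _ _ _ A _ _ _ k _ _ (HopfRep.Comod.trivial k A k) α)
    (h1 : α 1 = 1)
    (V : Type w) [AddCommGroup V] [Module k V] [HopfRep.Comod k A V] :
    HopfRep.IsSemisimpleComod k A V := by
  apply Groth.Agent.Lib.Helper84.LinRedAll.isSemisimpleComod_of_hasIntegral
  have hR : ∀ a, TensorProduct.lid k A ((α.rTensor A) (Coalgebra.comul (R := k) a)) =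
      α a • (1 : A) := by
    intro a
    have h0 := LinearMap.congr_fun hα a
    simp only [LinearMap.comp_apply] at h0
    have h0' : (α a) ⊗ₜ[k] (1 : A) = (α.rTensor A) (Coalgebra.comul (R := k) a) := h0
    rw [← h0', TensorProduct.lid_tmul]
  refine ⟨α ∘ₗ HopfAlgebra.antipode k, ?_, ?_⟩
  · rw [LinearMap.comp_apply, HopfAlgebra.antipode_one, h1]
  · intro a
    have key : ∀ t : A ⊗[k] A, TensorProduct.lid k A ((α.rTensor A)
        (TensorProduct.map (HopfAlgebra.antipode k (A := A)) (HopfAlgebra.antipode k (A := A))
          (TensorProduct.comm k A A t))) =
        HopfAlgebra.antipode k (Groth.Agent.H40.slice (α ∘ₗ HopfAlgebra.antipode k) t) := by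
      intro t
      induction t using TensorProduct.induction_on with
      | zero => simp
      | tmul x y => simp
      | add x y hx hy => simp only [map_add, hx, hy]
    have h3 := hR (HopfAlgebra.antipode k a)
    rw [Groth.Agent.Lib.Helper66.comul_antipode, key] at h3
    have h4 := congrArg (HopfAlgebra.antipode k (A := A)) h3
    rw [Groth.Agent.H40.antipode_antipode, map_smul, HopfAlgebra.antipode_one] at h4
    exact h4

end Groth.Agent.S18812
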