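import Groth.Statements.S18818
import Groth.Agent.Lib.Helper93.ComodBridge

set_option autoImplicit false
universe u v w
open TensorProduct
open HopfRep

namespace Groth.Agent.S18818

/-- Let k be a field, C a k-coalgebra and V a right C-comodule which is semisimple in the sense that
every subcomodule has a complementary subcomodule (equivalently every injective comodule map into V
splits). Then V is completely reducible: V is the sum of its simple subcomodules, the nonzero
subcomodules W whose only subcomodules are 0 and W. (The source states this for representations of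
an affine monoid scheme over k, i.e. left comodules over its coordinate bialgebra; the converse
implication and the stability of the class under subobjects and quotients are not part of this row.) -/
theorem result (k : Type u) [Field k]
    (C : Type v) [AddCommGroup C] [Module k C] [Coalgebra k C]
    (V : Type w) [AddCommGroup V] [Module k V] [HopfRep.Comod k C V] (hV : HopfRep.IsSemisimpleComod k C V) :
    (⨆ W : {W : Submodule k V // HopfRep.IsSubcomod (k := k) (A := C) W ∧ W ≠ ⊥ ∧
        ∀ W' : Submodule k V, HopfRep.IsSubcomod (k := k) (A := C) W' → W' ≤ W → W' = ⊥ ∨ W' = W},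
      (W.1 : Submodule k V)) = ⊤ := by
  have h1 := (Groth.Agent.Lib.Helper93.Comod.isSemisimpleComod_iff k C V).mp hV
  have h2 := IsSemisimpleModule.sSup_simples_eq_top
    (Groth.Agent.Lib.Helper93.Comod.DualAlg k C) (Groth.Agent.Lib.Helper93.Comod.AsMod k C V)
  rw [eq_top_iff]
  intro x _
  have hx : Groth.Agent.Lib.Helper93.Comod.AsMod.equiv k C V x ∈
      sSup {m : Submodule (Groth.Agent.Lib.Helper93.Comod.DualAlg k C)
        (Groth.Agent.Lib.Helper93.Comod.AsMod k C V) |
          IsSimpleModule (Groth.Agent.Lib.Helper93.Comod.DualAlg k C) m} := by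
    rw [h2]; trivial
  -- reduce to a statement about all elements of the supremum
  suffices H : ∀ y ∈ sSup {m : Submodule (Groth.Agent.Lib.Helper93.Comod.DualAlg k C)
        (Groth.Agent.Lib.Helper93.Comod.AsMod k C V) |
          IsSimpleModule (Groth.Agent.Lib.Helper93.Comod.DualAlg k C) m},
      (Groth.Agent.Lib.Helper93.Comod.AsMod.equiv k C V).symm y ∈
        (⨆ W : {W : Submodule k V // HopfRep.IsSubcomod (k := k) (A := C) W ∧ W ≠ ⊥ ∧
          ∀ W' : Submodule k V, HopfRep.IsSubcomod (k := k) (A := C) W' → W' ≤ W → W' = ⊥ ∨ W' = W},
        (W.1 : Submodule k V)) by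
    simpa using H _ hx
  intro y hy
  rw [sSup_eq_iSup'] at hy
  induction hy using Submodule.iSup_induction' with
  | mem m z hz =>
    obtain ⟨m, hm⟩ := m
    have hatom : IsAtom m := isSimpleModule_iff_isAtom.mp hm
    refine Submodule.mem_iSup_of_mem ⟨Groth.Agent.Lib.Helper93.Comod.ofSub m,
      Groth.Agent.Lib.Helper93.Comod.isSubcomod_ofSub m, ?_, ?_⟩ ?_
    · intro h0
      exact hatom.1 (Groth.Agent.Lib.Helper93.Comod.ofSub_eq_bot_iff.mp h0)
    · intro W' hW' hle
      have hle' : Groth.Agent.Lib.Helper93.Comod.toSub W' hW' ≤ m := by
        rw [← Groth.Agent.Lib.Helper93.Comod.ofSub_le_ofSub,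
          Groth.Agent.Lib.Helper93.Comod.ofSub_toSub]
        exact hle
      rcases eq_or_lt_of_le hle' with h | h
      · right
        rw [← h, Groth.Agent.Lib.Helper93.Comod.ofSub_toSub]
      · left
        have := hatom.2 _ h
        rw [← Groth.Agent.Lib.Helper93.Comod.ofSub_toSub W' hW', this,
          Groth.Agent.Lib.Helper93.Comod.ofSub_bot]
    · simpa using hz
  | zero => simp
  | add y z _ _ hy hz =>
    rw [map_add]
    exact add_mem hy hz

end Groth.Agent.S18818
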