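import Groth.Statements.S18819
import Groth.Agent.Lib.Helper93.ComodBridge

set_option autoImplicit false
universe u v w w'
open TensorProduct
open HopfRep

namespace Groth.Agent.S18819

section Aux

open Groth.Agent.Lib.Helper93.Comod

theorem aux (k : Type u) [Field k]
    (C : Type v) [AddCommGroup C] [Module k C] [Coalgebra k C]
    (V : Type w) [AddCommGroup V] [Module k V] [HopfRep.Comod k C V]
    {n : ℕ} (K : Fin n → Type w') [∀ i, AddCommGroup (K i)] [∀ i, Module k (K i)] [∀ i, HopfRep.Comod k C (K i)]
    (hK : ∀ i, HopfRep.IsSimpleComod k C (K i)) (g : ∀ i, K i →ₗ[k] V) (hg : ∀ i, Hoch.IsComodHom C (g i))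
    (hsum : (⨆ i, LinearMap.range (g i)) = ⊤)
    (S : Type w') [AddCommGroup S] [Module k S] [HopfRep.Comod k C S] (hS : HopfRep.IsSimpleComod k C S)
    (f : S →ₗ[k] V) (hf : Hoch.IsComodHom C f) (hf0 : f ≠ 0) :
    ∃ (i : Fin n) (e : S ≃ₗ[k] K i), Hoch.IsComodHom C (e : S →ₗ[k] K i) := by
  classical
  have hKs : ∀ i, IsSimpleModule (DualAlg k C) (AsMod k C (K i)) :=
    fun i => (isSimpleComod_iff k C (K i)).mp (hK i)
  have hSs : IsSimpleModule (DualAlg k C) (AsMod k C S) := (isSimpleComod_iff k C S).mp hS
  have hF0 : toModHom f hf ≠ 0 := by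
    intro h
    apply hf0
    ext s
    have := LinearMap.congr_fun h (AsMod.equiv k C S s)
    rw [toModHom_apply] at this
    simp only [LinearEquiv.symm_apply_apply, LinearMap.zero_apply] at this
    have h3 := congrArg (AsMod.equiv k C V).symm this
    simpa using h3
  have hFinj : Function.Injective (toModHom f hf) :=
    (LinearMap.injective_or_eq_zero (toModHom f hf)).resolve_right hF0
  let s : Set (Submodule (DualAlg k C) (AsMod k C V)) :=
    {m | ∃ i, Function.Injective (toModHom (g i) (hg i)) ∧ m = LinearMap.range (toModHom (g i) (hg i))}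
  have hs_simple : ∀ m : s, IsSimpleModule (DualAlg k C) m := by
    rintro ⟨m, i, hi, rfl⟩
    exact IsSimpleModule.congr (LinearEquiv.ofInjective (toModHom (g i) (hg i)) hi).symm
  have hs_top : sSup s = ⊤ := by
    rw [eq_top_iff]
    intro x _
    have hx : (AsMod.equiv k C V).symm x ∈ (⨆ i, LinearMap.range (g i)) := by rw [hsum]; trivial
    suffices H : ∀ y ∈ (⨆ i, LinearMap.range (g i)), AsMod.equiv k C V y ∈ sSup s by
      simpa using H _ hx
    intro y hy
    induction hy using Submodule.iSup_induction' with
    | mem i z hz =>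
      obtain ⟨w, rfl⟩ := hz
      rcases LinearMap.injective_or_eq_zero (toModHom (g i) (hg i)) with hinj | h0
      · have hmem : LinearMap.range (toModHom (g i) (hg i)) ∈ s := ⟨i, hinj, rfl⟩
        apply Submodule.mem_sSup_of_mem hmem
        exact ⟨AsMod.equiv k C (K i) w, by rw [toModHom_apply]; simp⟩
      · have := LinearMap.congr_fun h0 (AsMod.equiv k C (K i) w)
        rw [toModHom_apply] at this
        simp only [LinearEquiv.symm_apply_apply, LinearMap.zero_apply] at this
        rw [this]
        exact zero_mem _
    | zero => simp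
    | add y z _ _ hy hz =>
      rw [map_add]
      exact add_mem hy hz
  have hNs : IsSimpleModule (DualAlg k C) (LinearMap.range (toModHom f hf)) :=
    IsSimpleModule.congr (LinearEquiv.ofInjective (toModHom f hf) hFinj).symm
  obtain ⟨m, ⟨i, hi, rfl⟩, ⟨e⟩⟩ :=
    Submodule.linearEquiv_of_sSup_eq_top (LinearMap.range (toModHom f hf)) s hs_top
  let E : AsMod k C S ≃ₗ[DualAlg k C] AsMod k C (K i) :=
    (LinearEquiv.ofInjective (toModHom f hf) hFinj).trans
      (e.trans (LinearEquiv.ofInjective (toModHom (g i) (hg i)) hi).symm)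
  exact ⟨i, ofModEquiv E, isComodHom_ofModEquiv E⟩

end Aux

/-- Let k be a field, C a k-coalgebra and V a right C-comodule which is the sum of finitely many simple
subcomodules, given as the images of comodule maps g_i : K_i → V (i < n) from simple comodules K_i.
If S is a simple comodule and f : S → V a nonzero comodule map (so that its image is a simple
subcomodule of V), then S is isomorphic as a comodule to some K_i: there is a k-linear isomorphism S
≃ K_i commuting with the coactions. (The source states this for representations of an affine monoid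
scheme over k with the subrepresentations given as subspaces; here the simple subcomodules are
presented as images of maps from simple comodules.) -/
theorem result (k : Type u) [Field k]
    (C : Type v) [AddCommGroup C] [Module k C] [Coalgebra k C]
    (V : Type w) [AddCommGroup V] [Module k V] [HopfRep.Comod k C V]
    {n : ℕ} (K : Fin n → Type w') [∀ i, AddCommGroup (K i)] [∀ i, Module k (K i)] [∀ i, HopfRep.Comod k C (K i)]
    (hK : ∀ i, HopfRep.IsSimpleComod k C (K i)) (g : ∀ i, K i →ₗ[k] V) (hg : ∀ i, Hoch.IsComodHom C (g i))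
    (hsum : (⨆ i, LinearMap.range (g i)) = ⊤)
    (S : Type w') [AddCommGroup S] [Module k S] [HopfRep.Comod k C S] (hS : HopfRep.IsSimpleComod k C S)
    (f : S →ₗ[k] V) (hf : Hoch.IsComodHom C f) (hf0 : f ≠ 0) :
    ∃ (i : Fin n) (e : S ≃ₗ[k] K i), Hoch.IsComodHom C (e : S →ₗ[k] K i) :=
  aux k C V K hK g hg hsum S hS f hf hf0

end Groth.Agent.S18819
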