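import Groth.Statements.S18824
import Groth.Agent.Lib.Helper93.ActionOpen

set_option autoImplicit false
universe u
open CategoryTheory MonoidalCategory CartesianMonoidalCategory MonObj AlgebraicGeometry
open AlgGrp

namespace Groth.Agent.S18824

/-- Let k be a field, G a locally algebraic group over k (a group k-scheme locally of finite type)
acting on a k-scheme X through a : G ×_k X → X, and U an open subset of X. Let G·U ⊆ X be the image
under a of G ×_k U (the preimage of U under the projection). Then G·U is open in X, contains U, is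
G-stable in the sense that a maps G ×_k (G·U) into G·U, and is the smallest such set: every G-stable
open subset of X containing U contains G·U. -/
theorem result (k : Type u) [Field k]
    (G X : Over (Spec (CommRingCat.of k))) [GrpObj G] [LocallyOfFiniteType G.hom] (a : AlgGrp.Action G X)
    (U : Set ↥X.left) (hU : IsOpen U) :
    IsOpen (a.act.left.base '' ((CartesianMonoidalCategory.snd G X).left.base ⁻¹' U)) ∧
      U ⊆ a.act.left.base '' ((CartesianMonoidalCategory.snd G X).left.base ⁻¹' U) ∧
      a.act.left.base '' ((CartesianMonoidalCategory.snd G X).left.base ⁻¹'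
          (a.act.left.base '' ((CartesianMonoidalCategory.snd G X).left.base ⁻¹' U))) ⊆
        a.act.left.base '' ((CartesianMonoidalCategory.snd G X).left.base ⁻¹' U) ∧
      ∀ W : Set ↥X.left, IsOpen W → U ⊆ W →
        a.act.left.base '' ((CartesianMonoidalCategory.snd G X).left.base ⁻¹' W) ⊆ W →
          a.act.left.base '' ((CartesianMonoidalCategory.snd G X).left.base ⁻¹' U) ⊆ W := by
  have hUO : UniversallyOpen G.hom :=
    Groth.Agent.Lib.Helper93.ActionOpen.universallyOpen_of_field G.hom
  have hopen := Groth.Agent.Lib.Helper93.ActionOpen.isOpenMap_act a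
  refine ⟨?_, ?_, ?_, ?_⟩
  · exact hopen _ (hU.preimage (CartesianMonoidalCategory.snd G X).left.continuous)
  · -- U ⊆ G·U, via the unit section
    intro x hx
    let s : X ⟶ G ⊗ X := CartesianMonoidalCategory.lift (1 : X ⟶ G) (𝟙 X)
    have hs1 : s ≫ CartesianMonoidalCategory.snd G X = 𝟙 X := CartesianMonoidalCategory.lift_snd _ _
    have hs2 : s ≫ a.act = 𝟙 X := Groth.Agent.Lib.Helper93.ActionOpen.act_one a (𝟙 X)
    refine ⟨s.left.base x, ?_, ?_⟩
    · change (CartesianMonoidalCategory.snd G X).left.base (s.left.base x) ∈ U
      have : (s.left ≫ (CartesianMonoidalCategory.snd G X).left) x = x := by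
        rw [← Over.comp_left, hs1]; rfl
      rw [Scheme.Hom.comp_apply] at this
      rw [this]
      exact hx
    · have : (s.left ≫ a.act.left) x = x := by
        rw [← Over.comp_left, hs2]; rfl
      rw [Scheme.Hom.comp_apply] at this
      exact this
  · -- stability
    rintro y ⟨q, ⟨r, hrU, hr⟩, rfl⟩
    -- q ∈ G ⊗ X with snd q = act r, snd r ∈ U
    have hpb := Groth.Agent.Lib.Helper93.ActionOpen.isPullback_whiskerLeft_snd G a.act
    obtain ⟨t', ht1, ht2⟩ := Scheme.Pullback.exists_preimage_pullback
      (f := (CartesianMonoidalCategory.snd G X).left) (g := a.act.left) q r hr.symm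
    -- transport to G ⊗ (G ⊗ X)
    let e := hpb.isoPullback
    let t := e.inv t'
    have ht1' : (G ◁ a.act).left t = q := by
      have : (e.inv ≫ (G ◁ a.act).left) t' = q := by
        rw [hpb.isoPullback_inv_fst]; exact ht1
      rwa [Scheme.Hom.comp_apply] at this
    have ht2' : (CartesianMonoidalCategory.snd G (G ⊗ X)).left t = r := by
      have : (e.inv ≫ (CartesianMonoidalCategory.snd G (G ⊗ X)).left) t' = r := by
        rw [hpb.isoPullback_inv_snd]; exact ht2
      rwa [Scheme.Hom.comp_apply] at this
    let m : G ⊗ (G ⊗ X) ⟶ G ⊗ X := (α_ G G X).inv ≫ (μ[G] ▷ X)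
    have hm1 : m ≫ a.act = (G ◁ a.act) ≫ a.act := by
      change ((α_ G G X).inv ≫ (μ[G] ▷ X)) ≫ a.act = _
      rw [Category.assoc, a.mul_act, Iso.inv_hom_id_assoc]
    have hm2 : m ≫ CartesianMonoidalCategory.snd G X =
        CartesianMonoidalCategory.snd G (G ⊗ X) ≫ CartesianMonoidalCategory.snd G X := by
      change ((α_ G G X).inv ≫ (μ[G] ▷ X)) ≫ _ = _
      rw [Category.assoc, CartesianMonoidalCategory.whiskerRight_snd,
        CartesianMonoidalCategory.associator_inv_snd]
    refine ⟨m.left.base t, ?_, ?_⟩
    · change (CartesianMonoidalCategory.snd G X).left.base (m.left.base t) ∈ U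
      have : (m.left ≫ (CartesianMonoidalCategory.snd G X).left) t =
          (CartesianMonoidalCategory.snd G X).left r := by
        rw [← Over.comp_left, hm2, Over.comp_left, Scheme.Hom.comp_apply, ht2']
      rw [Scheme.Hom.comp_apply] at this
      rw [this]
      exact hrU
    · have : (m.left ≫ a.act.left) t = a.act.left q := by
        rw [← Over.comp_left, hm1, Over.comp_left, Scheme.Hom.comp_apply, ht1']
      rw [Scheme.Hom.comp_apply] at this
      exact this
  · intro W _ hUW hW
    exact (Set.image_mono (Set.preimage_mono hUW)).trans hW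

end Groth.Agent.S18824
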