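import Groth.Statements.S18827
import Groth.Agent.Lib.Helper93.ComodBridge

set_option autoImplicit false
universe u v w
open TensorProduct
open HopfRep

namespace Groth.Agent.S18827

section Aux

open Groth.Agent.Lib.Helper93.Comod

theorem aux_restr (k : Type u) [Field k]
    (C : Type v) [AddCommGroup C] [Module k C] [Coalgebra k C]
    (V : Type w) [AddCommGroup V] [Module k V] [c : HopfRep.Comod k C V] (hV : HopfRep.IsSemisimpleComod k C V)
    (W : Submodule k V) (hW : HopfRep.IsSubcomod (k := k) (A := C) W) :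
    @HopfRep.IsSemisimpleComod k C _ _ _ _ ↥W _ _ (ComodSub.Comod.restr c W hW) := by
  letI cW : HopfRep.Comod k C ↥W := ComodSub.Comod.restr c W hW
  have hsub : Hoch.IsComodHom C W.subtype := ComodSub.isComodHom_subtype c W hW
  intro U hU
  have hU' : HopfRep.IsSubcomod (k := k) (A := C) (U.map W.subtype) :=
    isSubcomod_map W.subtype hsub U hU
  obtain ⟨U'', hU'', hc⟩ := hV (U.map W.subtype) hU'
  refine ⟨U''.comap W.subtype, isSubcomod_comap W.subtype hsub U'' hU'', ?_⟩
  rw [isCompl_iff, disjoint_iff, codisjoint_iff]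
  constructor
  · rw [eq_bot_iff]
    rintro x ⟨hxU, hxU''⟩
    have h1 : (x : V) ∈ U.map W.subtype ⊓ U'' := ⟨⟨x, hxU, rfl⟩, hxU''⟩
    rw [hc.inf_eq_bot, Submodule.mem_bot] at h1
    rw [Submodule.mem_bot]
    exact Subtype.ext h1
  · rw [eq_top_iff]
    rintro x -
    have h1 : (x : V) ∈ U.map W.subtype ⊔ U'' := by rw [hc.sup_eq_top]; trivial
    obtain ⟨a, ⟨a', ha', rfl⟩, b, hb, hab⟩ := Submodule.mem_sup.mp h1
    have hbW : b ∈ W := by
      have : b = (x : V) - W.subtype a' := by rw [← hab]; simp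
      rw [this]
      exact W.sub_mem x.2 a'.2
    have hx : x = a' + ⟨b, hbW⟩ := Subtype.ext (by simpa using hab.symm)
    rw [hx]
    exact Submodule.add_mem_sup ha' (by simpa using hb)

theorem aux_quot (k : Type u) [Field k]
    (C : Type v) [AddCommGroup C] [Module k C] [Coalgebra k C]
    (V : Type w) [AddCommGroup V] [Module k V] [c : HopfRep.Comod k C V] (hV : HopfRep.IsSemisimpleComod k C V)
    (W : Submodule k V) (hW : HopfRep.IsSubcomod (k := k) (A := C) W) :
    @HopfRep.IsSemisimpleComod k C _ _ _ _ (V ⧸ W) _ _ (ComodSub.Comod.quot c W hW) := by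
  letI cQ : HopfRep.Comod k C (V ⧸ W) := ComodSub.Comod.quot c W hW
  have hq : Hoch.IsComodHom C W.mkQ := ComodSub.isComodHom_mkQ c W hW
  intro Q hQ
  have hP : HopfRep.IsSubcomod (k := k) (A := C) (Q.comap W.mkQ) :=
    isSubcomod_comap W.mkQ hq Q hQ
  obtain ⟨P', hP', hc⟩ := hV (Q.comap W.mkQ) hP
  refine ⟨P'.map W.mkQ, isSubcomod_map W.mkQ hq P' hP', ?_⟩
  rw [isCompl_iff, disjoint_iff, codisjoint_iff]
  constructor
  · rw [eq_bot_iff]
    rintro x ⟨hxQ, ⟨p', hp', rfl⟩⟩
    have h1 : p' ∈ Q.comap W.mkQ ⊓ P' := ⟨hxQ, hp'⟩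
    rw [hc.inf_eq_bot, Submodule.mem_bot] at h1
    rw [Submodule.mem_bot, h1, map_zero]
  · rw [eq_top_iff]
    rintro x -
    obtain ⟨v, rfl⟩ := W.mkQ_surjective x
    have h1 : v ∈ Q.comap W.mkQ ⊔ P' := by rw [hc.sup_eq_top]; trivial
    obtain ⟨a, ha, b, hb, rfl⟩ := Submodule.mem_sup.mp h1
    rw [map_add]
    exact Submodule.add_mem_sup ha ⟨b, hb, rfl⟩

end Aux

/-- Let k be a field, C a k-coalgebra, V a right C-comodule which is semisimple (every subcomodule has a
complementary subcomodule, which over a field is the same as being the sum of its simple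
subcomodules) and W a subcomodule of V. Then the subcomodule W with its induced structure and the
quotient comodule V/W are again semisimple. (The source states this for representations of an affine
monoid scheme over k.) -/
theorem result (k : Type u) [Field k]
    (C : Type v) [AddCommGroup C] [Module k C] [Coalgebra k C]
    (V : Type w) [AddCommGroup V] [Module k V] [c : HopfRep.Comod k C V] (hV : HopfRep.IsSemisimpleComod k C V)
    (W : Submodule k V) (hW : HopfRep.IsSubcomod (k := k) (A := C) W) :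
    @HopfRep.IsSemisimpleComod k C _ _ _ _ ↥W _ _ (ComodSub.Comod.restr c W hW) ∧
      @HopfRep.IsSemisimpleComod k C _ _ _ _ (V ⧸ W) _ _ (ComodSub.Comod.quot c W hW) :=
  ⟨aux_restr k C V hV W hW, aux_quot k C V hV W hW⟩

end Groth.Agent.S18827
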