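import Groth.Statements.S18830
import Groth.Agent.Lib.Helper93.UnitsObj
import Mathlib.CategoryTheory.Limits.Constructions.Over.Connected
import Mathlib.AlgebraicGeometry.Morphisms.QuasiCompact

set_option autoImplicit false
universe u
open CategoryTheory MonoidalCategory CartesianMonoidalCategory MonObj AlgebraicGeometry
open AlgGrp

namespace Groth.Agent.S18830

/-- Let k be a field and M an algebraic monoid over k (a monoid k-scheme of finite type). Let i : G → M
be its group of units: a monomorphism of k-schemes through which a T-valued point of M factors if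
and only if it is invertible in the monoid M(T). Then G is of finite type over k, i.e. the unit
group is an algebraic group. -/
theorem result (k : Type u) [Field k]
    (M G : Over (Spec (CommRingCat.of k))) [MonObj M] [LocallyOfFiniteType M.hom] [QuasiCompact M.hom]
    (i : G ⟶ M) [Mono i]
    (hi : ∀ (T : Over (Spec (CommRingCat.of k))) (m : T ⟶ M), (∃ g : T ⟶ G, g ≫ i = m) ↔ IsUnit m) :
    LocallyOfFiniteType G.hom ∧ QuasiCompact G.hom := by
  obtain ⟨φ, hφ⟩ := Groth.Agent.Lib.Helper93.UnitsObj.exists_iso_of_represents i hi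
  have hG : G.hom = φ.hom.left ≫ (Groth.Agent.Lib.Helper93.UnitsObj.unitsObj M).hom :=
    (Over.w φ.hom).symm
  have hsq : IsPullback
      (Limits.pullback.snd (Groth.Agent.Lib.Helper93.UnitsObj.mulPair M)
        (Groth.Agent.Lib.Helper93.UnitsObj.onePair M))
      (Limits.pullback.fst (Groth.Agent.Lib.Helper93.UnitsObj.mulPair M)
        (Groth.Agent.Lib.Helper93.UnitsObj.onePair M))
      (Groth.Agent.Lib.Helper93.UnitsObj.onePair M)
      (Groth.Agent.Lib.Helper93.UnitsObj.mulPair M) :=
    (IsPullback.of_hasPullback _ _).flip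
  have hsq' := hsq.map (Over.forget (Spec (CommRingCat.of k)))
  have he1 : LocallyOfFiniteType (Groth.Agent.Lib.Helper93.UnitsObj.onePair M).left := by
    have h0 : LocallyOfFiniteType ((Groth.Agent.Lib.Helper93.UnitsObj.onePair M).left ≫
        (M ⊗ M).hom) := by
      rw [Over.w (Groth.Agent.Lib.Helper93.UnitsObj.onePair M), Over.tensorUnit_hom]
      exact MorphismProperty.id_mem @LocallyOfFiniteType _
    exact locallyOfFiniteType_of_comp _ (M ⊗ M).hom
  have he2 : QuasiCompact (Groth.Agent.Lib.Helper93.UnitsObj.onePair M).left := by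
    rw [quasiCompact_iff_forall_isAffineOpen]
    intro U _
    have hss : Subsingleton ↥(𝟙_ (Over (Spec (CommRingCat.of k)))).left :=
      (inferInstance : Subsingleton (PrimeSpectrum k))
    exact (Set.subsingleton_of_subsingleton).isCompact
  have hf1 : LocallyOfFiniteType (Limits.pullback.fst (Groth.Agent.Lib.Helper93.UnitsObj.mulPair M)
      (Groth.Agent.Lib.Helper93.UnitsObj.onePair M)).left :=
    MorphismProperty.of_isPullback (P := @LocallyOfFiniteType) hsq' he1
  have hf2 : QuasiCompact (Limits.pullback.fst (Groth.Agent.Lib.Helper93.UnitsObj.mulPair M)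
      (Groth.Agent.Lib.Helper93.UnitsObj.onePair M)).left :=
    MorphismProperty.of_isPullback (P := @QuasiCompact) hsq' he2
  have hMM1 : LocallyOfFiniteType (M ⊗ M).hom := by
    rw [Over.tensorObj_hom]
    infer_instance
  have hMM2 : QuasiCompact (M ⊗ M).hom := by
    rw [Over.tensorObj_hom]
    infer_instance
  have hU : (Groth.Agent.Lib.Helper93.UnitsObj.unitsObj M).hom =
      (Limits.pullback.fst (Groth.Agent.Lib.Helper93.UnitsObj.mulPair M)
        (Groth.Agent.Lib.Helper93.UnitsObj.onePair M)).left ≫ (M ⊗ M).hom := (Over.w _).symm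
  rw [hG, hU]
  constructor <;> infer_instance

end Groth.Agent.S18830
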