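import Groth.Statements.S18831
import Groth.Agent.Lib.Helper93.CurvePoint2
import Groth.Agent.Lib.Helper93.AlgClosedPoint

set_option autoImplicit false
universe u
open CategoryTheory CategoryTheory.Limits AlgebraicGeometry
open VBCurve

namespace Groth.Agent.S18831

/-- Let X be a smooth projective integral curve over an algebraically closed field k of characteristic
zero, and G a finite locally free O_X-module of rank r ≥ 1 which is slope-semistable, of slope μ =
deg G / r (deg G = χ(G) − r χ(O_X)). Then dim_k H^0(X, G) ≤ r · max(⌊μ⌋ + 1, 0); in particular a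
slope-semistable bundle of negative slope has no nonzero global section. -/
theorem result (k : Type u) [Field k] [IsAlgClosed k] [CharZero k]
    (X : Scheme.{u}) [X.Over (Spec (CommRingCat.of k))]
    [IsIntegral X] [IsProper (X ↘ Spec (CommRingCat.of k))] [Smooth (X ↘ Spec (CommRingCat.of k))]
    (hdim : topologicalKrullDim X = 1)
    (r : ℕ) (hr : 0 < r) (G : X.Modules) (hG : FlatMod.IsFinLocFreeOfRank r G)
    (hss : ModFun.IsSlopeSemistable k X G r) :
    (Module.finrank k (Coh.HH X G 0) : ℤ) ≤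
      (r : ℤ) * max (⌊(Curv2.deg k X G r : ℚ) / (r : ℚ)⌋ + 1) 0 := by
  have hC : Curve.IsSmoothProperCurve k X (X ↘ Spec (CommRingCat.of k)) :=
    ⟨inferInstance, inferInstance, inferInstance, hdim⟩
  have hne : Nonempty X := inferInstance
  obtain ⟨O, hO⟩ := Groth.Agent.Lib.Helper93.AlgClosedPoint.exists_section_of_lft
    (X ↘ Spec (CommRingCat.of k)) hne
  obtain ⟨Q, j, hQ, hj, hd⟩ :=
    Groth.Agent.Lib.Helper93.CurvePoint.exists_invertible_ideal_of_section k X hC O hO
  have := hj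
  have hss' : ∀ (H : X.Modules) (i : H ⟶ G), Mono i → FlatMod.IsFinLocFreeOfRank 1 H →
      Curv2.deg k X H 1 * (r : ℤ) ≤ Curv2.deg k X G r := by
    intro H i hi hH
    have := hss H 1 i hi one_pos hH
    simpa using this
  set μ : ℚ := (Curv2.deg k X G r : ℚ) / (r : ℚ) with hμ
  set N : ℤ := max (⌊μ⌋ + 1) 0 with hN
  have hN0 : 0 ≤ N := le_max_right _ _
  obtain ⟨n, hn⟩ := Int.eq_ofNat_of_zero_le hN0
  have hrq : (0 : ℚ) < (r : ℚ) := by exact_mod_cast hr
  have hμN : μ < (N : ℚ) := by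
    have h1 : μ < (⌊μ⌋ : ℚ) + 1 := Int.lt_floor_add_one μ
    have h2 : ((⌊μ⌋ + 1 : ℤ) : ℚ) ≤ (N : ℚ) := by exact_mod_cast le_max_left _ _
    push_cast at h2
    linarith
  have hlt : Curv2.deg k X G r < (n : ℤ) * ((1 : ℕ) : ℤ) * (r : ℤ) := by
    have h3 : (Curv2.deg k X G r : ℚ) < (N : ℚ) * (r : ℚ) := by
      rw [hμ, div_lt_iff₀ hrq] at hμN
      exact hμN
    rw [hn] at h3
    have h4 : (Curv2.deg k X G r : ℚ) < (((n : ℤ) * ((1 : ℕ) : ℤ) * (r : ℤ) : ℤ) : ℚ) := by
      push_cast
      simpa using h3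
    exact_mod_cast h4
  have h := Groth.Agent.Lib.Helper93.CurveTwist.finrank_HH_zero_le_of_semistable k X hdim.le hG
    hss' hQ j n (by rw [hd]; exact hlt)
  rw [hd] at h
  rw [hn]
  have h' : (Module.finrank k (Coh.HH X G 0) : ℤ) ≤ ((n * (r * 1) : ℕ) : ℤ) := by
    exact_mod_cast h
  push_cast at h'
  linarith

end Groth.Agent.S18831
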