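import Groth.Statements.S18832
import Groth.Agent.S2116
import Groth.Agent.Lib.Helper59.JetLift

open Groth.Agent.Lib.Helper59.JetLift IsLocalRing

set_option autoImplicit false
universe u
open Polynomial
open DefT

namespace Groth.Agent.S18832

/-- Let k be an algebraically closed field of characteristic zero, A a finitely generated k-algebra and
m a maximal ideal of A. Then A_m is a regular local ring (the pointed scheme (Spec A, m) is smooth
at m) if and only if, for every l ≥ 1, every k-algebra homomorphism φ : A → k[X]/(X^l) mapping m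
into the nilpotent elements extends to a k-algebra homomorphism ψ : A → k[X]/(X^(l+1)) reducing to φ
modulo X^l. Only jets along Spec k[X]/(X^l) are tested, not all local Artinian algebras. -/
theorem result (k : Type u) [Field k] [IsAlgClosed k] [CharZero k]
    (A : Type u) [CommRing A] [Algebra k A] [Algebra.FiniteType k A]
    (m : Ideal A) [m.IsMaximal] :
    IsRegularLocalRing (Localization.AtPrime m) ↔
      ∀ (l : ℕ), 1 ≤ l →
        ∀ (φ : A →ₐ[k] (k[X] ⧸ Ideal.span {(X : k[X]) ^ l})),
          (∀ a ∈ m, IsNilpotent (φ a)) →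
          ∃ ψ : A →ₐ[k] (k[X] ⧸ Ideal.span {(X : k[X]) ^ (l + 1)}),
            (Ideal.Quotient.factorₐ k
                (Ideal.span_singleton_le_span_singleton.mpr (pow_dvd_pow (X : k[X]) (Nat.le_succ l)))).comp ψ = φ := by
  classical
  -- the residue field of the localization is `k`
  have hres : Function.Surjective (algebraMap k (ResidueField (Localization.AtPrime m))) := by
    let _ : Field (A ⧸ m) := Ideal.Quotient.field m
    have hfin : Module.Finite k (A ⧸ m) := finite_of_finite_type_of_isJacobsonRing k (A ⧸ m)
    have hb1 : Function.Bijective (algebraMap k (A ⧸ m)) :=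
      IsAlgClosed.algebraMap_bijective_of_isIntegral
    have hb2 : Function.Bijective (algebraMap (A ⧸ m) m.ResidueField) :=
      Ideal.bijective_algebraMap_quotient_residueField m
    have hb : Function.Bijective (algebraMap k m.ResidueField) := by
      rw [IsScalarTower.algebraMap_eq k (A ⧸ m) m.ResidueField]
      exact hb2.comp hb1
    exact hb.2
  constructor
  · intro hreg l hl φ hφ
    have hs : Algebra.FormallySmooth k (Localization.AtPrime m) :=
      (Groth.Agent.S2116.result m).mp hreg
    have hunit : ∀ y : m.primeCompl, IsUnit (φ y) := fun y =>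
      isUnit_of_notMem m φ hφ y.2
    let φB : Localization.AtPrime m →ₐ[k] S k l := IsLocalization.liftAlgHom hunit
    let ψB : Localization.AtPrime m →ₐ[k] S k (l + 1) :=
      Algebra.FormallySmooth.liftOfSurjective φB (fac k (Nat.le_succ l))
        (fac_surjective k (Nat.le_succ l)) (isNilpotent_ker_fac k hl)
    refine ⟨ψB.comp (IsScalarTower.toAlgHom k A (Localization.AtPrime m)), ?_⟩
    change (fac k (Nat.le_succ l)).comp (ψB.comp _) = φ
    rw [← AlgHom.comp_assoc, Algebra.FormallySmooth.comp_liftOfSurjective]
    ext a
    have h1 : φB (algebraMap A (Localization.AtPrime m) a) = φ a :=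
      IsLocalization.lift_eq (g := (φ : A →+* S k l)) hunit a
    exact h1
  · intro H
    have : Algebra.EssFiniteType A (Localization.AtPrime m) :=
      Algebra.EssFiniteType.of_isLocalization _ m.primeCompl
    have : Algebra.EssFiniteType k (Localization.AtPrime m) :=
      Algebra.EssFiniteType.comp k A _
    refine regular_of_JL ?_ hres
    intro l hl φ
    let ι : A →ₐ[k] Localization.AtPrime m := IsScalarTower.toAlgHom k A (Localization.AtPrime m)
    have hφ₀ : ∀ a ∈ m, IsNilpotent ((φ.comp ι) a) := by
      intro a ha
      have h1 : ι a ∈ maximalIdeal (Localization.AtPrime m) :=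
        (IsLocalization.AtPrime.to_map_mem_maximal_iff _ m a).mpr ha
      apply isNilpotent_of_ρ k hl
      exact apply_eq_zero_of_mem ((ρ k hl).comp φ) h1
    obtain ⟨ψ₀, hψ₀⟩ := H l hl (φ.comp ι) hφ₀
    have hψ₀' : ∀ a, fac k (Nat.le_succ l) (ψ₀ a) = φ (ι a) := fun a =>
      congrArg (fun F : A →ₐ[k] S k l => F a) hψ₀
    have hnil : ∀ a ∈ m, IsNilpotent (ψ₀ a) := by
      intro a ha
      apply isNilpotent_of_fac k hl
      rw [hψ₀']
      exact hφ₀ a ha
    have hunit : ∀ y : m.primeCompl, IsUnit (ψ₀ y) := fun y =>
      isUnit_of_notMem m ψ₀ hnil y.2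
    refine ⟨IsLocalization.liftAlgHom hunit, ?_⟩
    apply AlgHom.coe_ringHom_injective
    apply IsLocalization.ringHom_ext m.primeCompl
    ext a
    change fac k (Nat.le_succ l) (IsLocalization.lift hunit (algebraMap A _ a)) = φ (ι a)
    rw [IsLocalization.lift_eq]
    exact hψ₀' a

end Groth.Agent.S18832
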