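import Groth.Statements.S18834
import Groth.Agent.Lib.Helper59.LinRedAlg
-- import your own Groth.Agent.* helpers here

set_option autoImplicit false
universe u
open TensorProduct
open GIT

namespace Groth.Agent.S18834

/-- Let k be an algebraically closed field of characteristic zero, G = Spec A a linearly reductive
affine group over k (A a commutative Hopf algebra whose finite-dimensional comodules are semisimple)
acting on an affine k-scheme Spec R of finite type (a multiplicative coaction of A on R), and R^G
the ring of invariants. Then for every ideal I of R^G the ideal I·R of R generated by I satisfies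
(I·R) ∩ R^G = I. (The section also assumes Spec R irreducible; that hypothesis plays no role here
and is not carried.) -/
theorem result (k : Type u) [Field k] [IsAlgClosed k] [CharZero k]
    (A : Type u) [CommRing A] [HopfAlgebra k A] (hG : HopfRep.IsLinearlyReductive k A)
    (R : Type u) [CommRing R] [Algebra k R] [Algebra.FiniteType k R]
    [HopfRep.Comod k A R] [GLin.IsCoactAlg k A R]
    (I : Ideal (GLin.invariants k A R)) :
    Ideal.comap (GLin.invariants k A R).val.toRingHom
        (Ideal.map (GLin.invariants k A R).val.toRingHom I) = I := by
  classical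
  have hmul : ∀ f g : R, HopfRep.Comod.coact (k := k) (A := A) (f * g) =
      HopfRep.Comod.coact (k := k) (A := A) f * HopfRep.Comod.coact (k := k) (A := A) g :=
    GLin.IsCoactAlg.coact_mul
  obtain ⟨E, hE⟩ := Groth.Agent.Lib.Helper59.LinRed.exists_isReynolds (V := R) hG
  apply le_antisymm
  · intro f hf
    have hf' : (f : R) ∈ Ideal.map (GLin.invariants k A R).val.toRingHom I := hf
    have key : ∀ x ∈ Ideal.map (GLin.invariants k A R).val.toRingHom I,
        ∀ r : R, ∃ i ∈ I, E (r * x) = (i : R) := by
      intro x hx
      unfold Ideal.map Ideal.span at hx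
      induction hx using Submodule.span_induction with
      | mem x hx =>
        obtain ⟨i₀, hi₀, rfl⟩ := hx
        intro r
        have hfix : ((GLin.invariants k A R).val.toRingHom i₀ : R) ∈ HopfRep.fixedPts k A R := i₀.2
        refine ⟨⟨E r, hE.apply_mem r⟩ * i₀, I.mul_mem_left _ hi₀, ?_⟩
        rw [hE.map_mul_of_mem hG hmul r hfix]
        rfl
      | zero =>
        intro r
        exact ⟨0, I.zero_mem, by simp⟩
      | add x y _ _ hx hy =>
        intro r
        obtain ⟨i, hi, hEi⟩ := hx r
        obtain ⟨j, hj, hEj⟩ := hy r
        refine ⟨i + j, I.add_mem hi hj, ?_⟩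
        rw [mul_add, map_add, hEi, hEj]
        rfl
      | smul s x _ hx =>
        intro r
        obtain ⟨i, hi, hEi⟩ := hx (r * s)
        refine ⟨i, hi, ?_⟩
        rw [smul_eq_mul, ← mul_assoc, hEi]
    obtain ⟨i, hi, hEi⟩ := key _ hf' 1
    rw [one_mul, hE.apply_of_mem (show (f : R) ∈ HopfRep.fixedPts k A R from f.2)] at hEi
    have : f = i := Subtype.ext hEi
    rw [this]
    exact hi
  · exact Ideal.le_comap_map

end Groth.Agent.S18834
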