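import Groth.Statements.S18837
import Mathlib
import Groth.Agent.Lib.Helper94.DualNumbersDeform

set_option autoImplicit false
universe u
open Polynomial TensorProduct
open Deform

namespace Groth.Agent.S18837

open Groth.Agent.Lib.Helper94.Deform

/-- Let k be an algebraically closed field of characteristic zero, n ≥ 1, D = k[X]/(X^(n+1)) (given with
a k-algebra isomorphism e identifying the class of X with τ ∈ D), and B a finitely generated
k-algebra which is a flat D-algebra such that B/tB is smooth over k, where t is the image of τ in B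
(an affine open of a flat deformation of a smooth k-scheme over Spec D); put B' = B/t^nB. Then
Ω_(B/D) is a projective B-module, B' ⊗_B Ω_(B/k) is a projective B'-module, and the sequence 0 → B'
→ B' ⊗_B Ω_(B/k) → B' ⊗_B Ω_(B/D) → 0 is exact, the first map being b ↦ b · (1 ⊗ dt) and the second
the base change of the canonical surjection Ω_(B/k) → Ω_(B/D). The source states this for a flat
proper family over Spec D with smooth central fibre; the statement is local and is given here on an
affine open. -/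
theorem result (k : Type u) [Field k] [IsAlgClosed k] [CharZero k] (n : ℕ) (hn : 1 ≤ n)
    (D : Type u) [CommRing D] [Algebra k D] (τ : D)
    (e : (k[X] ⧸ Ideal.span {(X : k[X]) ^ (n + 1)}) ≃ₐ[k] D)
    (he : e (Ideal.Quotient.mk (Ideal.span {(X : k[X]) ^ (n + 1)}) X) = τ)
    (B : Type u) [CommRing B] [Algebra k B] [Algebra D B] [IsScalarTower k D B]
    [Algebra.FiniteType k B] [Module.Flat D B]
    (t : B) (ht : t = algebraMap D B τ) (hsm : Algebra.Smooth k (B ⧸ Ideal.span {t})) :
    Module.Projective B (Ω[B⁄D]) ∧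
    Module.Projective (B ⧸ Ideal.span {t ^ n}) ((B ⧸ Ideal.span {t ^ n}) ⊗[B] Ω[B⁄k]) ∧
    Function.Injective
      (LinearMap.toSpanSingleton (B ⧸ Ideal.span {t ^ n}) ((B ⧸ Ideal.span {t ^ n}) ⊗[B] Ω[B⁄k])
        ((1 : (B ⧸ Ideal.span {t ^ n})) ⊗ₜ[B] KaehlerDifferential.D k B t)) ∧
    Function.Exact
      (LinearMap.toSpanSingleton (B ⧸ Ideal.span {t ^ n}) ((B ⧸ Ideal.span {t ^ n}) ⊗[B] Ω[B⁄k])
        ((1 : (B ⧸ Ideal.span {t ^ n})) ⊗ₜ[B] KaehlerDifferential.D k B t))
      (LinearMap.baseChange (B ⧸ Ideal.span {t ^ n}) (KaehlerDifferential.map k D B B)) ∧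
    Function.Surjective (LinearMap.baseChange (B ⧸ Ideal.span {t ^ n}) (KaehlerDifferential.map k D B B)) := by
  subst ht
  obtain ⟨q, hq, hX, hker⟩ := exists_q e he
  haveI : Algebra.Smooth D B := smooth_of_flat q hq hX hker hsm
  haveI : Algebra.FormallySmooth D B := Algebra.Smooth.formallySmooth
  obtain ⟨l, hl⟩ := exists_functional (B := B) q hq hX hker
  have hmap := map_eq_zero_iff (B := B) q hq hX
  generalize algebraMap D B τ = t at *
  let l' : (B ⧸ Ideal.span {t ^ n}) ⊗[B] Ω[B⁄k] →ₗ[B ⧸ Ideal.span {t ^ n}] B ⧸ Ideal.span {t ^ n} :=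
    LinearMap.liftBaseChange (B ⧸ Ideal.span {t ^ n}) l
  have hl' : ∀ b : B ⧸ Ideal.span {t ^ n},
      l' (b • ((1 : B ⧸ Ideal.span {t ^ n}) ⊗ₜ[B] KaehlerDifferential.D k B t)) = b := by
    intro b
    rw [map_smul, LinearMap.liftBaseChange_tmul, one_smul, hl, smul_eq_mul, mul_one]
  have hinj : Function.Injective
      (LinearMap.toSpanSingleton (B ⧸ Ideal.span {t ^ n}) ((B ⧸ Ideal.span {t ^ n}) ⊗[B] Ω[B⁄k])
        ((1 : (B ⧸ Ideal.span {t ^ n})) ⊗ₜ[B] KaehlerDifferential.D k B t)) := by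
    intro b₁ b₂ h
    have := congrArg l' h
    simp only [LinearMap.toSpanSingleton_apply] at this
    rwa [hl', hl'] at this
  have hsurj : Function.Surjective
      (LinearMap.baseChange (B ⧸ Ideal.span {t ^ n}) (KaehlerDifferential.map k D B B)) := by
    rw [LinearMap.baseChange_eq_ltensor]
    exact LinearMap.lTensor_surjective _ (KaehlerDifferential.map_surjective k D B)
  have hex : Function.Exact
      (LinearMap.toSpanSingleton (B ⧸ Ideal.span {t ^ n}) ((B ⧸ Ideal.span {t ^ n}) ⊗[B] Ω[B⁄k])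
        ((1 : (B ⧸ Ideal.span {t ^ n})) ⊗ₜ[B] KaehlerDifferential.D k B t))
      (LinearMap.baseChange (B ⧸ Ideal.span {t ^ n}) (KaehlerDifferential.map k D B B)) := by
    have hfg : Function.Exact (LinearMap.toSpanSingleton B (Ω[B⁄k]) (KaehlerDifferential.D k B t))
        (KaehlerDifferential.map k D B B) := by
      intro ω
      rw [hmap]
      constructor
      · rintro ⟨b, rfl⟩; exact ⟨b, rfl⟩
      · rintro ⟨b, rfl⟩; exact ⟨b, rfl⟩
    have h2 := lTensor_exact (B ⧸ Ideal.span {t ^ n}) hfg (KaehlerDifferential.map_surjective k D B)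
    intro x
    constructor
    · intro hx
      have hx' : LinearMap.lTensor (B ⧸ Ideal.span {t ^ n}) (KaehlerDifferential.map k D B B) x = 0 := hx
      obtain ⟨y, rfl⟩ := (h2 x).mp hx'
      show _ ∈ LinearMap.range _
      induction y using TensorProduct.induction_on with
      | zero => rw [map_zero]; exact Submodule.zero_mem _
      | add y₁ y₂ h₁ h₂ =>
        rw [map_add]
        exact Submodule.add_mem _ (h₁ (by
          have := (h2 _).mpr ⟨y₁, rfl⟩; exact this) (by have := (h2 _).mpr ⟨y₁, rfl⟩; exact this))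
          (h₂ (by have := (h2 _).mpr ⟨y₂, rfl⟩; exact this) (by have := (h2 _).mpr ⟨y₂, rfl⟩; exact this))
      | tmul b' b =>
        refine ⟨b • b', ?_⟩
        rw [LinearMap.lTensor_tmul, LinearMap.toSpanSingleton_apply, LinearMap.toSpanSingleton_apply,
          TensorProduct.smul_tmul', smul_eq_mul, mul_one, TensorProduct.smul_tmul]
    · rintro ⟨b, rfl⟩
      rw [LinearMap.toSpanSingleton_apply, map_smul, LinearMap.baseChange_tmul,
        (hmap _).mpr ⟨1, (one_smul _ _).symm⟩, TensorProduct.tmul_zero, smul_zero]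
  refine ⟨inferInstance, ?_, hinj, hex, hsurj⟩
  obtain ⟨σ, hσ⟩ := Module.projective_lifting_property
    (LinearMap.baseChange (B ⧸ Ideal.span {t ^ n}) (KaehlerDifferential.map k D B B))
    LinearMap.id hsurj
  refine Module.Projective.of_split
    (M := (B ⧸ Ideal.span {t ^ n}) × ((B ⧸ Ideal.span {t ^ n}) ⊗[B] Ω[B⁄D]))
    ((l' ∘ₗ (LinearMap.id - σ ∘ₗ
      (LinearMap.baseChange (B ⧸ Ideal.span {t ^ n}) (KaehlerDifferential.map k D B B)))).prod
      (LinearMap.baseChange (B ⧸ Ideal.span {t ^ n}) (KaehlerDifferential.map k D B B)))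
    ((LinearMap.toSpanSingleton (B ⧸ Ideal.span {t ^ n}) ((B ⧸ Ideal.span {t ^ n}) ⊗[B] Ω[B⁄k])
        ((1 : (B ⧸ Ideal.span {t ^ n})) ⊗ₜ[B] KaehlerDifferential.D k B t)).coprod σ) ?_
  refine LinearMap.ext fun x => ?_
  have hσ' : ∀ y, LinearMap.baseChange (B ⧸ Ideal.span {t ^ n}) (KaehlerDifferential.map k D B B) (σ y) = y :=
    fun y => LinearMap.congr_fun hσ y
  have h1 : LinearMap.baseChange (B ⧸ Ideal.span {t ^ n}) (KaehlerDifferential.map k D B B)
      (x - σ (LinearMap.baseChange (B ⧸ Ideal.span {t ^ n}) (KaehlerDifferential.map k D B B) x)) = 0 := by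
    rw [map_sub, hσ', sub_self]
  obtain ⟨c, hc⟩ := (hex _).mp h1
  rw [LinearMap.toSpanSingleton_apply] at hc
  show l' (x - σ (LinearMap.baseChange (B ⧸ Ideal.span {t ^ n}) (KaehlerDifferential.map k D B B) x)) •
      ((1 : (B ⧸ Ideal.span {t ^ n})) ⊗ₜ[B] KaehlerDifferential.D k B t) +
      σ (LinearMap.baseChange (B ⧸ Ideal.span {t ^ n}) (KaehlerDifferential.map k D B B) x) = x
  rw [← hc, hl', hc]
  abel

end Groth.Agent.S18837
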