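import Groth.Statements.S18838
import Mathlib
import Groth.Agent.Lib.Helper94.DualNumbersDeform
import Groth.Agent.S18837

set_option autoImplicit false
universe u
open Polynomial TensorProduct
open Deform

namespace Groth.Agent.S18838

open Groth.Agent.Lib.Helper94.Deform

/-- Let k be an algebraically closed field of characteristic zero, n ≥ 1, D = k[X]/(X^(n+1)) (given with
a k-algebra isomorphism e identifying the class of X with τ ∈ D), and B a finitely generated
k-algebra which is a flat D-algebra such that B/tB is smooth over k, where t is the image of τ in B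
(an affine open of a flat deformation of a smooth k-scheme over Spec D); put B' = B/t^nB. The map μ
: B → B' × (B' ⊗_B Ω_(B/k)) sending f to (f mod t^n, 1 ⊗ df) is injective, and its image consists
exactly of the pairs (g, α) with dg = r(α) in Ω_(B'/k), r being the canonical map B' ⊗_B Ω_(B/k) →
Ω_(B'/k). Injectivity uses that n is invertible in k. The source works with a flat proper family
over Spec D with smooth central fibre; the statement is local and is given here on an affine open. -/
theorem result (k : Type u) [Field k] [IsAlgClosed k] [CharZero k] (n : ℕ) (hn : 1 ≤ n)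
    (D : Type u) [CommRing D] [Algebra k D] (τ : D)
    (e : (k[X] ⧸ Ideal.span {(X : k[X]) ^ (n + 1)}) ≃ₐ[k] D)
    (he : e (Ideal.Quotient.mk (Ideal.span {(X : k[X]) ^ (n + 1)}) X) = τ)
    (B : Type u) [CommRing B] [Algebra k B] [Algebra D B] [IsScalarTower k D B]
    [Algebra.FiniteType k B] [Module.Flat D B]
    (t : B) (ht : t = algebraMap D B τ) (hsm : Algebra.Smooth k (B ⧸ Ideal.span {t})) :
    Function.Injective (fun f : B =>
      ((Ideal.Quotient.mk (Ideal.span {t ^ n}) f,
        (1 : (B ⧸ Ideal.span {t ^ n})) ⊗ₜ[B] KaehlerDifferential.D k B f) : (B ⧸ Ideal.span {t ^ n}) × ((B ⧸ Ideal.span {t ^ n}) ⊗[B] Ω[B⁄k]))) ∧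
    Set.range (fun f : B =>
      ((Ideal.Quotient.mk (Ideal.span {t ^ n}) f,
        (1 : (B ⧸ Ideal.span {t ^ n})) ⊗ₜ[B] KaehlerDifferential.D k B f) : (B ⧸ Ideal.span {t ^ n}) × ((B ⧸ Ideal.span {t ^ n}) ⊗[B] Ω[B⁄k]))) =
      {p | KaehlerDifferential.D k (B ⧸ Ideal.span {t ^ n}) p.1 = KaehlerDifferential.mapBaseChange k B (B ⧸ Ideal.span {t ^ n}) p.2} := by
  have hinj := (Groth.Agent.S18837.result k n hn D τ e he B t ht hsm).2.2.1
  obtain ⟨q, hq, hX, hker⟩ := exists_q e he
  have hflat := exists_eq_mul_of_pow_mul_eq_zero_flat (B := B) q hq hX hker hn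
  have htn : t ^ (n + 1) = 0 := by
    rw [ht, ← map_pow, tau_pow_succ q hX hker, map_zero]
  rw [← ht] at hflat
  constructor
  · -- injectivity
    intro f₁ f₂ h
    have h1 : Ideal.Quotient.mk (Ideal.span {t ^ n}) (f₁ - f₂) = 0 := by
      rw [map_sub, sub_eq_zero]; exact congrArg Prod.fst h
    have h2 : (1 : (B ⧸ Ideal.span {t ^ n})) ⊗ₜ[B] KaehlerDifferential.D k B (f₁ - f₂) = 0 := by
      rw [map_sub, TensorProduct.tmul_sub, sub_eq_zero]; exact congrArg Prod.snd h
    obtain ⟨c, hc⟩ := Ideal.mem_span_singleton'.mp (Ideal.Quotient.eq_zero_iff_mem.mp h1)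
    rw [← hc, one_tmul_D_mul_pow] at h2
    have h3 : Ideal.Quotient.mk (Ideal.span {t ^ n}) ((n : B) * c * t ^ (n - 1)) = 0 := by
      apply hinj
      rw [LinearMap.toSpanSingleton_apply, LinearMap.toSpanSingleton_apply, zero_smul]
      exact h2
    obtain ⟨u, hu⟩ := Ideal.mem_span_singleton'.mp (Ideal.Quotient.eq_zero_iff_mem.mp h3)
    have hnk : (n : k) ≠ 0 := Nat.cast_ne_zero.mpr (by omega)
    have hpow : t ^ n = t ^ (n - 1) * t := by
      rw [← pow_succ]; congr 1; omega
    have h4 : t ^ (n - 1) * (c - algebraMap k B ((n : k)⁻¹) * u * t) = 0 := by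
      have h5 : algebraMap k B ((n : k)⁻¹) * (n : B) = 1 := by
        rw [← map_natCast (algebraMap k B), ← map_mul, inv_mul_cancel₀ hnk, map_one]
      have h6 : c * t ^ (n - 1) = algebraMap k B ((n : k)⁻¹) * u * (t ^ (n - 1) * t) := by
        rw [← hpow, mul_assoc, hu, ← mul_assoc, ← mul_assoc, h5, one_mul]
      rw [mul_sub, mul_comm, h6]
      ring
    obtain ⟨y, hy⟩ := hflat _ h4
    have h7 : f₁ - f₂ = (y + algebraMap k B ((n : k)⁻¹) * u) * t ^ (n + 1) := by
      rw [← hc, pow_succ']
      have : c = t * y + algebraMap k B ((n : k)⁻¹) * u * t := by rw [← hy]; ring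
      rw [this]; ring
    rw [htn, mul_zero] at h7
    exact sub_eq_zero.mp h7
  · ext ⟨g, α⟩
    simp only [Set.mem_range, Set.mem_ofPred_eq, Prod.mk.injEq]
    constructor
    · rintro ⟨f, rfl, rfl⟩
      rw [KaehlerDifferential.mapBaseChange_tmul, one_smul, KaehlerDifferential.map_D,
        Ideal.Quotient.algebraMap_eq]
    · intro h
      obtain ⟨f₀, rfl⟩ := Ideal.Quotient.mk_surjective g
      have h1 : KaehlerDifferential.mapBaseChange k B (B ⧸ Ideal.span {t ^ n})
          (α - (1 : (B ⧸ Ideal.span {t ^ n})) ⊗ₜ[B] KaehlerDifferential.D k B f₀) = 0 := by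
        rw [map_sub, ← h, KaehlerDifferential.mapBaseChange_tmul, one_smul, KaehlerDifferential.map_D,
          Ideal.Quotient.algebraMap_eq, sub_self]
      obtain ⟨x, hx, hx'⟩ := exists_of_mapBaseChange_eq_zero _ _ h1
      refine ⟨f₀ + x, ?_, ?_⟩
      · rw [map_add, Ideal.Quotient.eq_zero_iff_mem.mpr hx, add_zero]
      · rw [map_add, TensorProduct.tmul_add, ← hx']
        abel

end Groth.Agent.S18838
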