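import Groth.Statements.S18839
import Mathlib
import Groth.Agent.Lib.Helper94.DualNumbersDeform
import Groth.Agent.S18837

set_option autoImplicit false
universe u
open Polynomial TensorProduct
open Deform

namespace Groth.Agent.S18839

open Groth.Agent.Lib.Helper94.Deform

/-- Let k be an algebraically closed field of characteristic zero, n ≥ 1, D = k[X]/(X^(n+1)) (given with
a k-algebra isomorphism e identifying the class of X with τ ∈ D), and B a finitely generated
k-algebra which is a flat D-algebra such that B/tB is smooth over k, where t is the image of τ in B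
(an affine open of a flat deformation of a smooth k-scheme over Spec D); put B' = B/t^nB. The map ν
: Ω_(B/k) → Ω_(B/D) × (B' ⊗_B Ω_(B/k)), η ↦ (η relative to D, 1 ⊗ η), is injective, and its image
consists exactly of the pairs (α, β) with the same image in Ω_(B'/D) under the canonical maps
Ω_(B/D) → Ω_(B'/D) and B' ⊗_B Ω_(B/k) → Ω_(B'/k) → Ω_(B'/D). Injectivity uses that n + 1 is
invertible in k (so that t^n dt = 0 in Ω_(B/k)). The source works with a flat proper family over
Spec D with smooth central fibre; the statement is local and is given here on an affine open. -/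
theorem result (k : Type u) [Field k] [IsAlgClosed k] [CharZero k] (n : ℕ) (hn : 1 ≤ n)
    (D : Type u) [CommRing D] [Algebra k D] (τ : D)
    (e : (k[X] ⧸ Ideal.span {(X : k[X]) ^ (n + 1)}) ≃ₐ[k] D)
    (he : e (Ideal.Quotient.mk (Ideal.span {(X : k[X]) ^ (n + 1)}) X) = τ)
    (B : Type u) [CommRing B] [Algebra k B] [Algebra D B] [IsScalarTower k D B]
    [Algebra.FiniteType k B] [Module.Flat D B]
    (t : B) (ht : t = algebraMap D B τ) (hsm : Algebra.Smooth k (B ⧸ Ideal.span {t})) :
    Function.Injective (fun η : Ω[B⁄k] =>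
      ((KaehlerDifferential.map k D B B η, (1 : (B ⧸ Ideal.span {t ^ n})) ⊗ₜ[B] η) : Ω[B⁄D] × ((B ⧸ Ideal.span {t ^ n}) ⊗[B] Ω[B⁄k]))) ∧
    Set.range (fun η : Ω[B⁄k] =>
      ((KaehlerDifferential.map k D B B η, (1 : (B ⧸ Ideal.span {t ^ n})) ⊗ₜ[B] η) : Ω[B⁄D] × ((B ⧸ Ideal.span {t ^ n}) ⊗[B] Ω[B⁄k]))) =
      {p | KaehlerDifferential.map D D B (B ⧸ Ideal.span {t ^ n}) p.1 =
        KaehlerDifferential.map k D (B ⧸ Ideal.span {t ^ n}) (B ⧸ Ideal.span {t ^ n}) (KaehlerDifferential.mapBaseChange k B (B ⧸ Ideal.span {t ^ n}) p.2)} := by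
  have hinj := (Groth.Agent.S18837.result k n hn D τ e he B t ht hsm).2.2.1
  obtain ⟨q, hq, hX, hker⟩ := exists_q e he
  have hmap := map_eq_zero_iff (B := B) q hq hX
  have hmap' := map_eq_zero_iff (B := B ⧸ Ideal.span {t ^ n}) q hq hX
  have hpow := pow_smul_D_eq_zero (B := B) q hX hker
  have htτ : algebraMap D (B ⧸ Ideal.span {t ^ n}) τ = Ideal.Quotient.mk _ t := by
    rw [ht]; rfl
  rw [← ht] at hmap hpow
  rw [htτ] at hmap'
  have hπt : KaehlerDifferential.map k D B B (KaehlerDifferential.D k B t) = 0 :=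
    (hmap _).mpr ⟨1, (one_smul _ _).symm⟩
  have hsmul1 : ∀ (b : B) (η : Ω[B⁄k]), (1 : (B ⧸ Ideal.span {t ^ n})) ⊗ₜ[B] (b • η) =
      Ideal.Quotient.mk (Ideal.span {t ^ n}) b • ((1 : (B ⧸ Ideal.span {t ^ n})) ⊗ₜ[B] η) := by
    intro b η
    rw [TensorProduct.tmul_smul, TensorProduct.smul_tmul', TensorProduct.smul_tmul', smul_eq_mul,
      mul_one, Algebra.smul_def, mul_one, Ideal.Quotient.algebraMap_eq]
  have key : ∀ η : Ω[B⁄k], KaehlerDifferential.map D D B (B ⧸ Ideal.span {t ^ n})
      (KaehlerDifferential.map k D B B η) =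
      KaehlerDifferential.map k D (B ⧸ Ideal.span {t ^ n}) (B ⧸ Ideal.span {t ^ n})
        (KaehlerDifferential.map k k B (B ⧸ Ideal.span {t ^ n}) η) := by
    intro η
    have hη : η ∈ Submodule.span B (Set.range (KaehlerDifferential.D k B)) := by
      rw [KaehlerDifferential.span_range_derivation]; trivial
    induction hη using Submodule.span_induction with
    | mem x hx =>
      obtain ⟨b, rfl⟩ := hx
      simp only [KaehlerDifferential.map_D, Algebra.algebraMap_self, RingHom.id_apply]
    | zero => simp only [map_zero]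
    | add x y _ _ hx hy => simp only [map_add, hx, hy]
    | smul a x _ hx =>
      rw [LinearMap.map_smul, LinearMap.map_smul, hx,
        LinearMap.map_smul (KaehlerDifferential.map k k B (B ⧸ Ideal.span {t ^ n})) a x,
        algebra_compatible_smul (B ⧸ Ideal.span {t ^ n}) a
          (KaehlerDifferential.map k k B (B ⧸ Ideal.span {t ^ n}) x),
        LinearMap.map_smul, ← algebra_compatible_smul]
  constructor
  · intro η₁ η₂ h
    have h1 : KaehlerDifferential.map k D B B (η₁ - η₂) = 0 := by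
      rw [map_sub, sub_eq_zero]; exact congrArg Prod.fst h
    have h2 : (1 : (B ⧸ Ideal.span {t ^ n})) ⊗ₜ[B] (η₁ - η₂) = 0 := by
      rw [TensorProduct.tmul_sub, sub_eq_zero]; exact congrArg Prod.snd h
    obtain ⟨b, hb⟩ := (hmap _).mp h1
    rw [hb, hsmul1] at h2
    have h3 : Ideal.Quotient.mk (Ideal.span {t ^ n}) b = 0 := by
      apply hinj
      rw [LinearMap.toSpanSingleton_apply, LinearMap.toSpanSingleton_apply, zero_smul]
      exact h2
    obtain ⟨c, hc⟩ := Ideal.mem_span_singleton'.mp (Ideal.Quotient.eq_zero_iff_mem.mp h3)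
    rw [← hc, mul_smul, hpow, smul_zero] at hb
    exact sub_eq_zero.mp hb
  · ext ⟨α, β⟩
    simp only [Set.mem_range, Set.mem_ofPred_eq, Prod.mk.injEq]
    constructor
    · rintro ⟨η, rfl, rfl⟩
      rw [KaehlerDifferential.mapBaseChange_tmul, one_smul]
      exact key η
    · intro h
      obtain ⟨η₀, rfl⟩ := KaehlerDifferential.map_surjective k D B α
      have h1 : KaehlerDifferential.map k D (B ⧸ Ideal.span {t ^ n}) (B ⧸ Ideal.span {t ^ n})
          (KaehlerDifferential.mapBaseChange k B (B ⧸ Ideal.span {t ^ n})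
            (β - (1 : (B ⧸ Ideal.span {t ^ n})) ⊗ₜ[B] η₀)) = 0 := by
        rw [map_sub, map_sub, ← h, KaehlerDifferential.mapBaseChange_tmul, one_smul, key, sub_self]
      obtain ⟨b', hb'⟩ := (hmap' _).mp h1
      obtain ⟨b, rfl⟩ := Ideal.Quotient.mk_surjective b'
      have h2 : KaehlerDifferential.mapBaseChange k B (B ⧸ Ideal.span {t ^ n})
          ((β - (1 : (B ⧸ Ideal.span {t ^ n})) ⊗ₜ[B] η₀) - Ideal.Quotient.mk (Ideal.span {t ^ n}) b •
            ((1 : (B ⧸ Ideal.span {t ^ n})) ⊗ₜ[B] KaehlerDifferential.D k B t)) = 0 := by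
        rw [map_sub, hb', map_smul, KaehlerDifferential.mapBaseChange_tmul, one_smul,
          KaehlerDifferential.map_D, Ideal.Quotient.algebraMap_eq, sub_self]
      obtain ⟨x, hx, hx'⟩ := exists_of_mapBaseChange_eq_zero _ _ h2
      obtain ⟨c, rfl⟩ := Ideal.mem_span_singleton'.mp hx
      rw [one_tmul_D_mul_pow] at hx'
      refine ⟨η₀ + (b + (n : B) * c * t ^ (n - 1)) • KaehlerDifferential.D k B t, ?_, ?_⟩
      · rw [map_add, map_smul, hπt, smul_zero, add_zero]
      · rw [TensorProduct.tmul_add, hsmul1, map_add, add_smul, ← hx']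
        abel

end Groth.Agent.S18839
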