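import Groth.Statements.S18861
import Mathlib

set_option autoImplicit false
universe u
open CategoryTheory MonoidalCategory CartesianMonoidalCategory MonObj GrpObj AlgebraicGeometry
open AlgGrp

namespace Groth.Agent.S18861

section
variable {S : Scheme.{u}} {G X : Over S} [GrpObj G] (a : AlgGrp.Action G X)

/-- `g · (h · x) = (g h) · x` on `T`-points. -/
theorem act_act {T : Over S} (g h : T ⟶ G) (x : T ⟶ X) :
    lift g (lift h x ≫ a.act) ≫ a.act = lift (g * h) x ≫ a.act := by
  have h1 : lift (g * h) x = lift (lift g h) x ≫ (μ[G] ▷ X) := by
    rw [lift_whiskerRight]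
    rfl
  rw [h1, Category.assoc, a.mul_act]
  simp

theorem one_act' {T : Over S} (x : T ⟶ X) :
    lift (1 : T ⟶ G) x ≫ a.act = x := by
  have h1 : lift (1 : T ⟶ G) x = lift (toUnit T) x ≫ (η[G] ▷ X) := by
    rw [lift_whiskerRight]
    rfl
  rw [h1, Category.assoc, a.one_act]
  simp

/-- The shear automorphism `(g, x) ↦ (g, g · x)`. -/
noncomputable def shear : G ⊗ X ≅ G ⊗ X where
  hom := lift (fst G X) a.act
  inv := lift (fst G X) (lift ((fst G X)⁻¹) (snd G X) ≫ a.act)
  hom_inv_id := by
    apply CartesianMonoidalCategory.hom_ext
    · simp
    · have h1 : lift (fst G X) a.act ≫ (fst G X)⁻¹ = (fst G X)⁻¹ := by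
        rw [Hom.inv_def, ← Category.assoc, lift_fst]
      have h2 : lift ((fst G X)⁻¹) a.act ≫ a.act = snd G X := by
        have h3 : lift ((fst G X)⁻¹) a.act ≫ a.act =
            lift ((fst G X)⁻¹) (lift (fst G X) (snd G X) ≫ a.act) ≫ a.act := by simp
        rw [h3, act_act, inv_mul_cancel, one_act']
      rw [Category.assoc, lift_snd, Category.id_comp, ← Category.assoc, comp_lift, lift_snd, h1]
      exact h2
  inv_hom_id := by
    apply CartesianMonoidalCategory.hom_ext
    · simp
    · have h2 : lift (fst G X) (lift ((fst G X)⁻¹) (snd G X) ≫ a.act) ≫ a.act = snd G X := by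
        rw [act_act, mul_inv_cancel, one_act']
      simpa using h2

theorem act_eq : a.act = (shear a).hom ≫ snd G X := by
  simp [shear]

end


/-- Let S be a scheme and G a group scheme over S acting on an S-scheme X, with action morphism G ×_S X
→ X. If G → S is surjective, resp. flat, resp. affine, resp. proper, resp. finite, resp. smooth,
then so is the action morphism. (The source works over a field, where G → S is automatically
faithfully flat, with G and X of finite type, and concludes that the action morphism is faithfully
flat, and smooth, affine, proper or finite when G is; the base and the finiteness conditions play no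
role.) -/
theorem result {S : Scheme.{u}} {G X : Over S} [GrpObj G]
    (a : AlgGrp.Action G X) :
    (Surjective G.hom → Surjective a.act.left) ∧ (Flat G.hom → Flat a.act.left) ∧
      (IsAffineHom G.hom → IsAffineHom a.act.left) ∧ (IsProper G.hom → IsProper a.act.left) ∧
      (IsFinite G.hom → IsFinite a.act.left) ∧ (Smooth G.hom → Smooth a.act.left) := by
  have key : a.act.left = (shear a).hom.left ≫ Limits.pullback.snd G.hom X.hom := by
    conv_lhs => rw [act_eq a]
    rfl
  haveI : IsIso (shear a).hom.left :=
    inferInstanceAs (IsIso ((Over.forget S).map (shear a).hom))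
  refine ⟨?_, ?_, ?_, ?_, ?_, ?_⟩
  · intro h
    rw [key]
    haveI : Surjective (Limits.pullback.snd G.hom X.hom) :=
      MorphismProperty.pullback_snd (P := @Surjective) _ _ h
    infer_instance
  · intro h
    rw [key]
    haveI : Flat (Limits.pullback.snd G.hom X.hom) :=
      MorphismProperty.pullback_snd (P := @Flat) _ _ h
    infer_instance
  · intro h
    rw [key]
    haveI : IsAffineHom (Limits.pullback.snd G.hom X.hom) :=
      MorphismProperty.pullback_snd (P := @IsAffineHom) _ _ h
    infer_instance
  · intro h
    rw [key]
    haveI : IsProper (Limits.pullback.snd G.hom X.hom) :=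
      MorphismProperty.pullback_snd (P := @IsProper) _ _ h
    infer_instance
  · intro h
    rw [key]
    haveI : IsFinite (Limits.pullback.snd G.hom X.hom) :=
      MorphismProperty.pullback_snd (P := @IsFinite) _ _ h
    infer_instance
  · intro h
    rw [key]
    haveI : Smooth (Limits.pullback.snd G.hom X.hom) :=
      MorphismProperty.pullback_snd (P := @Smooth) _ _ h
    infer_instance

end Groth.Agent.S18861
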