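import Groth.Statements.S18864
import Mathlib

set_option autoImplicit false
universe u v w
open HopfRep

namespace Groth.Agent.S18864

/-- Let k be a field and G = lim G_i a pro-algebraic group scheme over k, so that G = Spec A with A the
direct limit of the Hopf algebras A_i of the affine group schemes G_i of finite type; assume
moreover that the maps A_i → A are injective, so that A is the directed union of the A_i, here given
as injective bialgebra maps A_i → A with directed, jointly covering images. Then every homomorphism
from G to an affine group scheme H = Spec B of finite type over k factors through some projection G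
→ G_i: every bialgebra map f : B → A with B finitely generated as a k-algebra is the composite of
A_i → A with a bialgebra map B → A_i for some i. (The published statement allows arbitrary
transition maps in the system; this row assumes each A_i → A injective, the case the printed
argument treats. The source also states the pro-finite variant with H finite, which is the case of
finite-dimensional A_i and B; finite generation of the A_i is not used.) -/
theorem result (k : Type u) [Field k]
    (A : Type v) [CommRing A] [HopfAlgebra k A] {ι : Type v} (Aι : ι → Type v)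
    [∀ i, CommRing (Aι i)] [∀ i, HopfAlgebra k (Aι i)] (emb : ∀ i, Aι i →ₐc[k] A)
    (hinj : ∀ i, Function.Injective (emb i))
    (hdir : ∀ i j, ∃ l, Set.range (emb i) ⊆ Set.range (emb l) ∧ Set.range (emb j) ⊆ Set.range (emb l))
    (hcov : ∀ a : A, ∃ i, a ∈ Set.range (emb i))
    (B : Type w) [CommRing B] [HopfAlgebra k B] [Algebra.FiniteType k B] (f : B →ₐc[k] A) :
    ∃ (i : ι) (g : B →ₐc[k] Aι i), (emb i).comp g = f := by
  classical
  -- a finite generating set of B
  obtain ⟨T, hT⟩ := (Algebra.FiniteType.out : (⊤ : Subalgebra k B).FG)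
  -- a common index for finitely many elements
  have hcommon : ∀ S : Finset A, ∃ l, ∀ a ∈ S, a ∈ Set.range (emb l) := by
    intro S
    induction S using Finset.induction_on with
    | empty =>
      obtain ⟨i, _⟩ := hcov 0
      exact ⟨i, by simp⟩
    | insert a S _ ih =>
      obtain ⟨l, hl⟩ := ih
      obtain ⟨i, hi⟩ := hcov a
      obtain ⟨m, hm1, hm2⟩ := hdir i l
      refine ⟨m, ?_⟩
      intro x hx
      rw [Finset.mem_insert] at hx
      rcases hx with rfl | hx
      · exact hm1 hi
      · exact hm2 (hl x hx)
  obtain ⟨l, hl⟩ := hcommon (T.image f)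
  -- f lands in the range of emb l
  have hrange : ∀ b : B, f b ∈ (emb l : Aι l →ₐ[k] A).range := by
    intro b
    have hb : b ∈ Algebra.adjoin k (T : Set B) := by rw [hT]; trivial
    induction hb using Algebra.adjoin_induction with
    | mem x hx =>
      obtain ⟨y, hy⟩ := hl (f x) (Finset.mem_image_of_mem f hx)
      exact ⟨y, hy⟩
    | algebraMap r =>
      refine ⟨algebraMap k _ r, ?_⟩
      exact (AlgHomClass.commutes (emb l) r).trans (AlgHomClass.commutes f r).symm
    | add x y _ _ hx hy =>
      rw [map_add]; exact Subalgebra.add_mem _ hx hy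
    | mul x y _ _ hx hy =>
      rw [map_mul]; exact Subalgebra.mul_mem _ hx hy
  let e : Aι l ≃ₐ[k] (emb l : Aι l →ₐ[k] A).range := AlgEquiv.ofInjective (emb l : Aι l →ₐ[k] A) (hinj l)
  let g0 : B →ₐ[k] Aι l := (e.symm : _ →ₐ[k] _).comp ((f : B →ₐ[k] A).codRestrict _ hrange)
  have hg0 : ∀ b, emb l (g0 b) = f b := by
    intro b
    have h1 : ((e (g0 b) : (emb l : Aι l →ₐ[k] A).range) : A) = emb l (g0 b) := rfl
    rw [← h1]
    simp only [g0, AlgHom.comp_apply, AlgEquiv.coe_toAlgHom, AlgEquiv.apply_symm_apply]
    rfl
  have hmapinj : Function.Injective (TensorProduct.map (emb l : Aι l →ₗ[k] A) (emb l : Aι l →ₗ[k] A)) :=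
    TensorProduct.map_injective_of_flat_flat _ _ (hinj l) (hinj l)
  refine ⟨l, BialgHom.ofAlgHom g0 ?_ ?_, ?_⟩
  · ext b
    simp only [AlgHom.comp_apply, Bialgebra.counitAlgHom_apply]
    rw [← CoalgHomClass.counit_comp_apply (emb l) (g0 b), hg0, CoalgHomClass.counit_comp_apply]
  · ext b
    simp only [AlgHom.comp_apply, Bialgebra.comulAlgHom_apply]
    apply hmapinj
    have h1 := CoalgHomClass.map_comp_comul_apply (emb l) (g0 b)
    have h2 := CoalgHomClass.map_comp_comul_apply f b
    rw [hg0] at h1
    change TensorProduct.map (emb l : Aι l →ₗ[k] A) (emb l : Aι l →ₗ[k] A) (Coalgebra.comul (g0 b)) = _ at h1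
    rw [h1, ← h2]
    -- (emb ⊗ emb) ∘ (g0 ⊗ g0) = f ⊗ f
    have h3 : TensorProduct.map (emb l : Aι l →ₗ[k] A) (emb l : Aι l →ₗ[k] A) ∘ₗ
        TensorProduct.map (g0 : B →ₗ[k] Aι l) (g0 : B →ₗ[k] Aι l) =
        TensorProduct.map (f : B →ₗ[k] A) (f : B →ₗ[k] A) := by
      rw [← TensorProduct.map_comp]
      congr 1 <;> (ext b; exact hg0 b)
    have h4 := LinearMap.congr_fun h3 (Coalgebra.comul b)
    simp only [LinearMap.comp_apply] at h4
    exact h4
  · ext b
    exact hg0 b

end Groth.Agent.S18864
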