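import Groth.Statements.S18868
import Groth.Agent.H34.LiaisonCM

set_option autoImplicit false
universe u
open Liaison

namespace Groth.Agent.S18868

/-- Let K be a field, R = K[x_0, …, x_n] graded by degree, c ≥ 2, 𝔠 ⊂ R a homogeneous complete
intersection of codimension c, that is a homogeneous ideal of height c generated by c elements g_1,
…, g_c, and I ⊂ R a homogeneous ideal of height c with R/I Cohen–Macaulay which properly contains 𝔠
and has the form I = 𝔠 + fR for some f (so I is an almost complete intersection). Then the linked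
ideal J = 𝔠 : I has height c and R/J is a Gorenstein ring. (A Gorenstein ideal of the notes, one
whose quotient is Cohen–Macaulay with last graded Betti number 1, is rendered as: the quotient ring
is Gorenstein.) -/
theorem result (K : Type u) [Field K] (n c : ℕ) (hc : 2 ≤ c)
    (g : Fin c → MvPolynomial (Fin (n + 1)) K) (f : MvPolynomial (Fin (n + 1)) K) (𝔠 I : Ideal (MvPolynomial (Fin (n + 1)) K)) (h𝔠g : Ideal.span (Set.range g) = 𝔠)
    (h𝔠 : 𝔠.IsHomogeneous (GrSyz.stdGr K (Fin (n + 1)))) (hI : I.IsHomogeneous (GrSyz.stdGr K (Fin (n + 1))))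
    (h𝔠c : 𝔠.height = c) (hIc : I.height = c) [LocCoh.IsCohenMacaulayRing (MvPolynomial (Fin (n + 1)) K ⧸ I)]
    (hlt : 𝔠 < I) (hIf : I = 𝔠 ⊔ Ideal.span {f}) :
    (𝔠.colon (I : Set (MvPolynomial (Fin (n + 1)) K))).height = c ∧
      LocCoh.IsGorensteinRing (MvPolynomial (Fin (n + 1)) K ⧸ 𝔠.colon (I : Set (MvPolynomial (Fin (n + 1)) K))) := by
  classical
  have hc' := hc
  haveI hGor : LocCoh.IsGorensteinRing (MvPolynomial (Fin (n + 1)) K ⧸ 𝔠) :=
    Groth.Agent.H34.LiaisonCM.isGorensteinRing_quot_span_range _ c g 𝔠 h𝔠g (by rw [h𝔠c])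
  have hI𝔠 : ¬ I ≤ 𝔠 := not_le_of_gt hlt
  have h𝔠I : 𝔠 ≤ I := hlt.le
  refine ⟨?_, ?_⟩
  · have h := (Groth.Agent.H34.Liaison.colon_unmixed n 𝔠 I h𝔠 hI𝔠).1
    rw [h𝔠c] at h
    exact h
  · set J : Ideal (MvPolynomial (Fin (n + 1)) K) :=
      𝔠.colon (I : Set (MvPolynomial (Fin (n + 1)) K)) with hJ
    have h𝔠J : 𝔠 ≤ J := Groth.Agent.H34.GorLinkGlobal.le_of_colon_eq hJ.symm
    have hIu : ∀ p ∈ associatedPrimes (MvPolynomial (Fin (n + 1)) K)
        (MvPolynomial (Fin (n + 1)) K ⧸ I), p.height = c := by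
      intro p hp
      rw [← hIc]
      exact Groth.Agent.H34.BDL.height_eq_of_mem_minimalPrimes_CM n I hI
        (Groth.Agent.H34.LiaisonCM.mem_minimalPrimes_of_mem_associatedPrimes I hp)
    have hJI : 𝔠.colon (J : Set (MvPolynomial (Fin (n + 1)) K)) = I :=
      Groth.Agent.H34.DoubleAnn.colon_colon_eq 𝔠 I c h𝔠c hIu h𝔠I
    have h1 := Groth.Agent.H34.GorLinkGlobal.annihilator_map_mk h𝔠J hJ.symm
    have h2 := Groth.Agent.H34.GorLinkGlobal.annihilator_map_mk h𝔠I hJI
    have hspan : I.map (Ideal.Quotient.mk 𝔠) = Ideal.span {Ideal.Quotient.mk 𝔠 f} := by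
      rw [hIf, Ideal.map_sup, Ideal.map_quotient_self, bot_sup_eq, Ideal.map_span,
        Set.image_singleton]
    rw [hspan] at h1 h2
    haveI : LocCoh.IsCohenMacaulayRing ((MvPolynomial (Fin (n + 1)) K ⧸ 𝔠) ⧸
        (Ideal.span {Ideal.Quotient.mk 𝔠 f} : Ideal (MvPolynomial (Fin (n + 1)) K ⧸ 𝔠))) :=
      Groth.Agent.H34.GorLinkGlobal.isCohenMacaulayRing_of_ringEquiv
        ((DoubleQuot.quotQuotEquivQuotOfLE h𝔠I).symm.trans (Ideal.quotEquivOfEq hspan))
        inferInstance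
    have h3 := Groth.Agent.H34.GorQuotGlobal.isGorensteinRing_quot_of_span_singleton
      (MvPolynomial (Fin (n + 1)) K ⧸ 𝔠) (Ideal.Quotient.mk 𝔠 f) (J.map (Ideal.Quotient.mk 𝔠)) h1 h2
    exact Groth.Agent.H34.LiaisonCM.isGorensteinRing_of_ringEquiv
      (DoubleQuot.quotQuotEquivQuotOfLE h𝔠J) h3

end Groth.Agent.S18868
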