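import Groth.Statements.S18870
import Mathlib

set_option autoImplicit false
universe u
open Liaison

namespace Groth.Agent.S18870

section
variable {R : Type u} [CommRing R]

/-- Height of a basic double link: only needs that `f` is a nonzerodivisor mod `J`. -/
theorem height_basicDoubleLink (h : ℕ) (J I : Ideal R) (hJI : J ≤ I) (hJh : J.height = h)
    (hIh : I.height = h + 1) (f : R) (hJf : J.colon {f} = J) :
    (J ⊔ Ideal.span {f} * I).height = h + 1 := by
  apply le_antisymm
  · rw [← hIh]
    apply Ideal.height_mono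
    exact sup_le hJI Ideal.mul_le_right
  · rw [Ideal.height_eq_inf_minimalPrimes]
    refine le_iInf₂ fun p hp => ?_
    haveI : p.IsPrime := hp.1.1
    have hle : J ⊔ Ideal.span {f} * I ≤ p := hp.1.2
    have hJp : J ≤ p := le_sup_left.trans hle
    have hfI : Ideal.span {f} * I ≤ p := le_sup_right.trans hle
    by_cases hIp : I ≤ p
    · rw [← hIh]; exact Ideal.height_mono hIp
    · obtain ⟨x, hxI, hxp⟩ := Set.not_subset.1 hIp
      have hfx : f * x ∈ p := hfI (Ideal.mul_mem_mul (Ideal.mem_span_singleton_self f) hxI)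
      have hfp : f ∈ p := (Ideal.IsPrime.mem_or_mem ‹p.IsPrime› hfx).resolve_right hxp
      obtain ⟨q, hq, hqp⟩ := Ideal.exists_minimalPrimes_le hJp
      haveI : q.IsPrime := hq.1.1
      have hqh : (h : ℕ∞) ≤ q.height := by
        rw [← hJh, Ideal.height_eq_inf_minimalPrimes]
        exact iInf₂_le q hq
      have hfq : f ∉ q := by
        intro hfq
        rw [Ideal.minimalPrimes_eq_comap] at hq
        obtain ⟨q', hq', rfl⟩ := hq
        have h1 : Ideal.Quotient.mk J f ∈ q' := hfq
        have h2 : Ideal.Quotient.mk J f ∈ nonZeroDivisors (R ⧸ J) := by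
          rw [mem_nonZeroDivisors_iff_right]
          intro y hy
          obtain ⟨y, rfl⟩ := Ideal.Quotient.mk_surjective y
          rw [← map_mul, Ideal.Quotient.eq_zero_iff_mem] at hy
          rw [Ideal.Quotient.eq_zero_iff_mem, ← hJf, Submodule.mem_colon_singleton]
          exact hy
        exact Set.disjoint_left.1 (Ideal.disjoint_nonZeroDivisors_of_mem_minimalPrimes hq') h1 h2
      have hlt : q < p := lt_of_le_of_ne hqp (fun heq => hfq (heq ▸ hfp))
      calc ((h : ℕ∞) + 1) ≤ q.height + 1 := by gcongr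
        _ ≤ p.height := Ideal.height_add_one_le_of_lt_of_isPrime hlt

end


/-- Let K be a field, R = K[x_0, …, x_n] graded by degree, and J ⊆ I ⊂ R homogeneous ideals with J ≠ 0,
height I = height J + 1 = h + 1 and R/J Cohen–Macaulay; let f ∈ R be homogeneous of degree d with J
: f = J, and put Ĩ = J + fI (the basic double link). Then Ĩ has the same height h + 1 as I. -/
theorem result (K : Type u) [Field K] (n h : ℕ)
    (J I : Ideal (MvPolynomial (Fin (n + 1)) K))
    (hJ : J.IsHomogeneous (GrSyz.stdGr K (Fin (n + 1)))) (hI : I.IsHomogeneous (GrSyz.stdGr K (Fin (n + 1))))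
    (hJ0 : J ≠ ⊥) (hJI : J ≤ I) (hJh : J.height = h) (hIh : I.height = h + 1)
    [LocCoh.IsCohenMacaulayRing (MvPolynomial (Fin (n + 1)) K ⧸ J)]
    (f : MvPolynomial (Fin (n + 1)) K) (d : ℕ) (hf : f ∈ GrSyz.stdGr K (Fin (n + 1)) (d : ℤ)) (hJf : J.colon {f} = J) :
    (J ⊔ Ideal.span {f} * I).height = h + 1 := by
  exact height_basicDoubleLink h J I hJI hJh hIh f hJf

end Groth.Agent.S18870
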