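import Groth.Statements.S18876
import Groth.Agent.Lib.Helper65.CoarseGerbe

set_option autoImplicit false
universe u
open Gerb

namespace Groth.Agent.S18876

open CategoryTheory AlgebraicGeometry in
/-- Let S be a scheme and F : 𝒳 → 𝒴 a morphism of algebraic stacks over S which makes 𝒳 an fppf gerbe
over 𝒴 and through which every morphism from 𝒳 to an algebraic space factors, uniquely up to
2-isomorphism. Then 𝒴 admits a coarse moduli space exactly when 𝒳 does, and the two coarse moduli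
spaces coincide: for every coarse moduli map π : 𝒴 → M the composite 𝒳 → 𝒴 → M is a coarse moduli
map of 𝒳. (The published statement is about the rigidification F of 𝒳 along a flat finitely
presented subgroup stack of its inertia; only two of its properties are assumed here, that F is a
gerbe and that maps to algebraic spaces factor through F, which is what the published argument uses;
neither stack is assumed quasi-separated or locally of finite presentation over S, and their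
diagonals are not assumed quasi-compact or separated.) -/
theorem result (S : Scheme.{u}) (𝒳 𝒴 : AlgSt.Cat S)
    (h𝒳 : AlgSt.IsAlgStack Scheme.fppfPrecoverage 𝒳) (h𝒴 : AlgSt.IsAlgStack Scheme.fppfPrecoverage 𝒴)
    (F : 𝒳 ⥤ᵇ 𝒴) (hF : Gerb.IsGerbeOver (QuotSh.J Scheme.fppfPrecoverage S) F)
    (huniv : ∀ (N : AlgSp.Sp S), AlgSp.IsAlgSpace N → ∀ φ : 𝒳 ⥤ᵇ AlgSt.ofSp N,
      ∃ ψ : 𝒴 ⥤ᵇ AlgSt.ofSp N, Nonempty (BasedFunctor.comp F ψ ≅ φ) ∧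
        ∀ ψ' : 𝒴 ⥤ᵇ AlgSt.ofSp N, Nonempty (BasedFunctor.comp F ψ' ≅ φ) → Nonempty (ψ' ≅ ψ)) :
    ((∃ (M : AlgSp.Sp S) (π : 𝒴 ⥤ᵇ AlgSt.ofSp M), AlgSt.IsCoarseModuli π) ↔
        ∃ (M : AlgSp.Sp S) (π : 𝒳 ⥤ᵇ AlgSt.ofSp M), AlgSt.IsCoarseModuli π) ∧
      ∀ (M : AlgSp.Sp S) (π : 𝒴 ⥤ᵇ AlgSt.ofSp M), AlgSt.IsCoarseModuli π →
        AlgSt.IsCoarseModuli (BasedFunctor.comp F π) := by
  have hfg𝒳 : FibCat.IsFibGrpd 𝒳.p := h𝒳.isStack.1
  have hfg𝒴 : FibCat.IsFibGrpd 𝒴.p := h𝒴.isStack.1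
  have partA : ∀ (M : AlgSp.Sp S) (π : 𝒴 ⥤ᵇ AlgSt.ofSp M), AlgSt.IsCoarseModuli π →
      AlgSt.IsCoarseModuli (BasedFunctor.comp F π) := by
    intro M π hπ
    obtain ⟨⟨hM, hu⟩, hg⟩ := hπ
    refine ⟨⟨hM, ?_⟩, Groth.Agent.Lib.Helper65.CoarseGerbe.geomPtBij_comp F hfg𝒳 hF π hg⟩
    intro N hN φ
    obtain ⟨ψ, ⟨e⟩, hψ⟩ := huniv N hN φ
    obtain ⟨g, ⟨eg⟩, hguniq⟩ := hu N hN ψ
    refine ⟨g, ⟨?_⟩, ?_⟩
    · exact (show BasedFunctor.comp F (BasedFunctor.comp π (AlgSt.ofSpMap g)) ≅ φ from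
        (Groth.Agent.Lib.Helper65.bWhiskerLeftIso F eg) ≪≫ e)
    · rintro g' ⟨eg'⟩
      apply hguniq
      exact hψ (BasedFunctor.comp π (AlgSt.ofSpMap g')) ⟨eg'⟩
  have partB : (∃ (M : AlgSp.Sp S) (π : 𝒳 ⥤ᵇ AlgSt.ofSp M), AlgSt.IsCoarseModuli π) →
      ∃ (M : AlgSp.Sp S) (π : 𝒴 ⥤ᵇ AlgSt.ofSp M), AlgSt.IsCoarseModuli π := by
    rintro ⟨M, π', ⟨⟨hM, hu⟩, hg⟩⟩
    obtain ⟨ψ, ⟨e⟩, hψ⟩ := huniv M hM π'
    refine ⟨M, ψ, ⟨hM, ?_⟩, ?_⟩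
    · intro N hN φ
      obtain ⟨g, ⟨eg⟩, hguniq⟩ := hu N hN (BasedFunctor.comp F φ)
      obtain ⟨ψ₀, -, hψ₀⟩ := huniv N hN (BasedFunctor.comp F φ)
      refine ⟨g, ?_, ?_⟩
      · have i1 : Nonempty (BasedFunctor.comp ψ (AlgSt.ofSpMap g) ≅ ψ₀) :=
          hψ₀ (BasedFunctor.comp ψ (AlgSt.ofSpMap g))
            ⟨(Groth.Agent.Lib.Helper65.bWhiskerRightIso e (AlgSt.ofSpMap g)) ≪≫ eg⟩
        have i2 : Nonempty (φ ≅ ψ₀) := hψ₀ φ ⟨Iso.refl _⟩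
        obtain ⟨j1⟩ := i1
        obtain ⟨j2⟩ := i2
        exact ⟨j1 ≪≫ j2.symm⟩
      · rintro g' ⟨eg'⟩
        apply hguniq
        exact ⟨(show BasedFunctor.comp π' (AlgSt.ofSpMap g') ≅
            BasedFunctor.comp F (BasedFunctor.comp ψ (AlgSt.ofSpMap g')) from
          Groth.Agent.Lib.Helper65.bWhiskerRightIso e.symm (AlgSt.ofSpMap g')) ≪≫
          Groth.Agent.Lib.Helper65.bWhiskerLeftIso F eg'⟩
    · exact Groth.Agent.Lib.Helper65.CoarseGerbe.geomPtBij_of_comp F hfg𝒴 hF.1 ψ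
        (Groth.Agent.Lib.Helper65.CoarseGerbe.geomPtBij_congr e.symm hg)
  exact ⟨⟨fun ⟨M, π, h⟩ => ⟨M, BasedFunctor.comp F π, partA M π h⟩, partB⟩, partA⟩

end Groth.Agent.S18876
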