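import Groth.Statements.S18879
import Groth.Agent.Lib.Helper55.DimFormulaScheme

set_option autoImplicit false
universe u
open CategoryTheory AlgebraicGeometry
open Resolve

namespace Groth.Agent.S18879

/-- Let f : Y ⟶ X be a morphism locally of finite type between Noetherian separated schemes which is
birational: it maps the maximal points of Y bijectively onto the maximal points of X, and over every
maximal point of X its fibre is one point with the same residue field. Then for every point y of Y,
the Krull dimension of the local ring of Y at y is at most the Krull dimension of the local ring of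
X at f y (the codimension of a point does not increase along f). -/
theorem result {X Y : Scheme.{u}} (f : Y ⟶ X)
    [IsNoetherian X] [X.IsSeparated] [IsNoetherian Y] [Y.IsSeparated] [LocallyOfFiniteType f]
    (hf : RadPt.IsBirational f) (y : Y) :
    ringKrullDim (Y.presheaf.stalk y) ≤ ringKrullDim (X.presheaf.stalk (f.base y)) := by
  obtain ⟨n, hn⟩ := Groth.Agent.Lib.Helper55.exists_trdeg_residueField_eq_natCast f y
  have key := Groth.Agent.Lib.Helper55.ringKrullDim_stalk_add_trdeg_le f y n 0 hn ?_
  · calc ringKrullDim (Y.presheaf.stalk y)
        ≤ ringKrullDim (Y.presheaf.stalk y) + (n : WithBot ℕ∞) :=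
          le_add_of_nonneg_right (by exact_mod_cast Nat.zero_le n)
      _ ≤ ringKrullDim (X.presheaf.stalk (f y)) + ((0 : ℕ) : WithBot ℕ∞) := key
      _ = ringKrullDim (X.presheaf.stalk (f y)) := by simp
  · intro ξ hξ _
    have hξ' : ξ ∈ genericPoints Y := hξ
    have h1 : f ξ ∈ genericPoints X := hf.1.mapsTo hξ'
    have hbij := (hf.2 (f ξ) h1).2 ξ rfl
    letI := (f.residueFieldMap ξ).hom.toAlgebra
    haveI : Algebra.IsIntegral (X.residueField (f ξ)) (Y.residueField ξ) :=
      Algebra.isIntegral_of_surjective hbij.2
    haveI : Algebra.IsAlgebraic (X.residueField (f ξ)) (Y.residueField ξ) :=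
      Algebra.IsIntegral.isAlgebraic
    rw [_root_.trdeg_eq_zero]
    simp

end Groth.Agent.S18879
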