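import Groth.Statements.S18884
import Mathlib

set_option autoImplicit false
universe v u w
open CategoryTheory CategoryTheory.Limits
open Desc

namespace Groth.Agent.S18884

section aux

variable {C : Type u} [Category.{v} C] [HasPullbacks C] (W : MorphismProperty C)

/-- the cosheaf property -/
abbrev IsCosh : ObjectProperty (C ⥤ AddCommGrpCat.{w}) := fun F =>
  ∀ ⦃Y X : C⦄ (π : Y ⟶ X), W π → Function.Surjective (F.map π).hom ∧
    (F.map π).hom.ker = ((F.map (pullback.fst π π)).hom - (F.map (pullback.snd π π)).hom).range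

variable {W} (D : ObjectProperty C) (hD : ∀ X : C, ∃ (Y : C) (π : Y ⟶ X), W π ∧ D Y)

include hD in
theorem faithful_aux {F G : C ⥤ AddCommGrpCat.{w}} (hF : IsCosh W F) (α α' : F ⟶ G)
    (h : ∀ X : C, D X → α.app X = α'.app X) : α = α' := by
  ext X x
  obtain ⟨Y, π, hπ, hY⟩ := hD X
  obtain ⟨y, rfl⟩ := (hF π hπ).1 x
  have h1 := congrArg (fun φ => φ.hom y) (α.naturality π)
  have h2 := congrArg (fun φ => φ.hom y) (α'.naturality π)
  simp only [AddCommGrpCat.hom_comp, AddMonoidHom.coe_comp, Function.comp_apply] at h1 h2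
  rw [h1, h2, h Y hY]

variable {D}
variable {F G : C ⥤ AddCommGrpCat.{w}} (hF : IsCosh W F) (β : D.ι ⋙ F ⟶ D.ι ⋙ G)

/-- components of β -/
def b (Y : C) (hY : D Y) : F.obj Y →+ G.obj Y := (β.app ⟨Y, hY⟩).hom

omit [HasPullbacks C] in
theorem b_nat {Z Y : C} (hZ : D Z) (hY : D Y) (g : Z ⟶ Y) (z : F.obj Z) :
    b β Y hY ((F.map g).hom z) = (G.map g).hom (b β Z hZ z) := by
  have := congrArg (fun φ => φ.hom z)
    (β.naturality (ObjectProperty.homMk g : (⟨Z, hZ⟩ : D.FullSubcategory) ⟶ ⟨Y, hY⟩))
  simpa [b] using this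

include hD hF in
theorem ker_le {Y X : C} (π : Y ⟶ X) (hπ : W π) (hY : D Y) :
    (F.map π).hom.ker ≤ ((G.map π).hom.comp (b β Y hY)).ker := by
  rw [(hF π hπ).2]
  rintro _ ⟨t, rfl⟩
  obtain ⟨Z, ρ, hρ, hZ⟩ := hD (pullback π π)
  obtain ⟨z, rfl⟩ := (hF ρ hρ).1 t
  rw [AddMonoidHom.mem_ker]
  simp only [AddMonoidHom.sub_apply, AddMonoidHom.coe_comp, Function.comp_apply, map_sub]
  have e1 : (F.map (pullback.fst π π)).hom ((F.map ρ).hom z) =
      (F.map (ρ ≫ pullback.fst π π)).hom z := by
    rw [F.map_comp]; rfl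
  have e2 : (F.map (pullback.snd π π)).hom ((F.map ρ).hom z) =
      (F.map (ρ ≫ pullback.snd π π)).hom z := by
    rw [F.map_comp]; rfl
  rw [e1, e2, b_nat β hZ hY, b_nat β hZ hY]
  have e3 : ∀ (g : Z ⟶ Y) (t : G.obj Z), (G.map π).hom ((G.map g).hom t) = (G.map (g ≫ π)).hom t := by
    intro g t; rw [G.map_comp]; rfl
  rw [e3, e3, Category.assoc, Category.assoc, pullback.condition, sub_self]

/-- chosen cover -/
noncomputable def cov (X : C) : C := (hD X).choose
/-- chosen cover map -/
noncomputable def covπ (X : C) : cov hD X ⟶ X := (hD X).choose_spec.choose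
omit [HasPullbacks C] in
theorem covπ_W (X : C) : W (covπ hD X) := (hD X).choose_spec.choose_spec.1
omit [HasPullbacks C] in
theorem cov_D (X : C) : D (cov hD X) := (hD X).choose_spec.choose_spec.2

/-- the extension, componentwise -/
noncomputable def ext (X : C) : F.obj X →+ G.obj X :=
  (F.map (covπ hD X)).hom.liftOfSurjective (hF _ (covπ_W hD X)).1
    ⟨(G.map (covπ hD X)).hom.comp (b β _ (cov_D hD X)), ker_le hD hF β _ (covπ_W hD X) (cov_D hD X)⟩

theorem ext_spec (X : C) (y : F.obj (cov hD X)) :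
    ext hD hF β X ((F.map (covπ hD X)).hom y) = (G.map (covπ hD X)).hom (b β _ (cov_D hD X) y) :=
  AddMonoidHom.liftOfRightInverse_comp_apply _ _ _ _ y

variable [W.IsStableUnderBaseChange] [W.IsStableUnderComposition]

theorem ext_nat {X X' : C} (f : X ⟶ X') (x : F.obj X) :
    ext hD hF β X' ((F.map f).hom x) = (G.map f).hom (ext hD hF β X x) := by
  obtain ⟨Z, ρ, hρ, hZ⟩ := hD (pullback (covπ hD X ≫ f) (covπ hD X'))
  have hq1 : W (pullback.fst (covπ hD X ≫ f) (covπ hD X')) :=
    MorphismProperty.pullback_fst _ _ (covπ_W hD X')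
  have hs : Function.Surjective (F.map (ρ ≫ pullback.fst (covπ hD X ≫ f) (covπ hD X'))).hom :=
    (hF _ (W.comp_mem _ _ hρ hq1)).1
  obtain ⟨y, rfl⟩ := (hF _ (covπ_W hD X)).1 x
  obtain ⟨z, rfl⟩ := hs y
  have eF : ∀ {A B E : C} (g : A ⟶ B) (h : B ⟶ E) (t : F.obj A),
      (F.map h).hom ((F.map g).hom t) = (F.map (g ≫ h)).hom t := by
    intro A B E g h t; rw [F.map_comp]; rfl
  have eG : ∀ {A B E : C} (g : A ⟶ B) (h : B ⟶ E) (t : G.obj A),
      (G.map h).hom ((G.map g).hom t) = (G.map (g ≫ h)).hom t := by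
    intro A B E g h t; rw [G.map_comp]; rfl
  rw [ext_spec, b_nat β hZ (cov_D hD X), eG, eG]
  rw [eF, eF]
  have hc : (ρ ≫ pullback.fst (covπ hD X ≫ f) (covπ hD X')) ≫ covπ hD X ≫ f =
      (ρ ≫ pullback.snd (covπ hD X ≫ f) (covπ hD X')) ≫ covπ hD X' := by
    rw [Category.assoc, Category.assoc, pullback.condition]
  rw [hc, ← eF, ext_spec, b_nat β hZ (cov_D hD X'), eG, ← hc, Category.assoc]

omit [W.IsStableUnderBaseChange] [W.IsStableUnderComposition] in
theorem ext_D (X : C) (hX : D X) (x : F.obj X) : ext hD hF β X x = b β X hX x := by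
  obtain ⟨y, rfl⟩ := (hF _ (covπ_W hD X)).1 x
  rw [ext_spec, b_nat β (cov_D hD X) hX]

/-- the extension as a natural transformation -/
noncomputable def extNat : F ⟶ G where
  app X := AddCommGrpCat.ofHom (ext hD hF β X)
  naturality X X' f := by
    ext x
    exact ext_nat hD hF β f x

end aux


/-- Let C be a category with pullbacks equipped with a class W of morphisms, the covers, stable under
base change and under composition. An abelian cosheaf is a functor F : C ⥤ Ab such that for every
cover π : Y ⟶ X the map F(π) is surjective and its kernel is the image of F(p₁) − F(p₂), where p₁,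
p₂ : Y ×_X Y ⟶ Y are the two projections. If D is a full subcategory of C such that every object of
C is the target of a cover whose source lies in D, then the restriction functor from the full
subcategory of abelian cosheaves in C ⥤ Ab to D ⥤ Ab is full and faithful. -/
theorem result {C : Type u} [Category.{v} C]
    [HasPullbacks C] (W : MorphismProperty C) [W.IsStableUnderBaseChange] [W.IsStableUnderComposition]
    (D : ObjectProperty C) (hD : ∀ X : C, ∃ (Y : C) (π : Y ⟶ X), W π ∧ D Y) :
    (ObjectProperty.ι (fun F : C ⥤ AddCommGrpCat.{w} =>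
        ∀ ⦃Y X : C⦄ (π : Y ⟶ X), W π → Function.Surjective (F.map π).hom ∧
          (F.map π).hom.ker = ((F.map (pullback.fst π π)).hom - (F.map (pullback.snd π π)).hom).range) ⋙
      (Functor.whiskeringLeft D.FullSubcategory C AddCommGrpCat.{w}).obj D.ι).Full ∧
    (ObjectProperty.ι (fun F : C ⥤ AddCommGrpCat.{w} =>
        ∀ ⦃Y X : C⦄ (π : Y ⟶ X), W π → Function.Surjective (F.map π).hom ∧
          (F.map π).hom.ker = ((F.map (pullback.fst π π)).hom - (F.map (pullback.snd π π)).hom).range) ⋙
      (Functor.whiskeringLeft D.FullSubcategory C AddCommGrpCat.{w}).obj D.ι).Faithful := by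
  constructor
  · constructor
    intro F G β
    refine ⟨ObjectProperty.homMk (extNat hD F.property β), ?_⟩
    ext ⟨X, hX⟩ x
    exact ext_D hD F.property β X hX x
  · constructor
    intro F G α α' h
    apply ObjectProperty.hom_ext
    apply faithful_aux D hD F.property
    intro X hX
    have := congrArg (fun φ => φ.app ⟨X, hX⟩) h
    exact this

end Groth.Agent.S18884
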