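import Groth.Statements.S18887
import Mathlib

set_option autoImplicit false
universe u v
open DblCov

namespace Groth.Agent.S18887

/-- polarized Cayley-Hamilton for 2×2 matrices -/
theorem polarCH {A : Type*} [CommRing A] (X Y : Matrix (Fin 2) (Fin 2) A) :
    X * Y + Y * X - Matrix.trace X • Y - Matrix.trace Y • X
      + (Matrix.trace X * Matrix.trace Y - Matrix.trace (X * Y)) • (1 : Matrix (Fin 2) (Fin 2) A) = 0 := by
  ext i j
  fin_cases i <;> fin_cases j <;>
    simp [Matrix.mul_apply, Fin.sum_univ_two, Matrix.trace, Matrix.one_apply] <;> ring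


/-- Let A be a commutative ring in which 2 is invertible and B a commutative A-algebra which is free of
rank 2 as an A-module and whose trace form tr : B → A has kernel free of rank 1 over A. Then σ(b) =
tr(b) − b defines an A-algebra endomorphism σ of B with σ ≠ id and σ ∘ σ = id, and the elements
fixed by σ are exactly the image of A in B. -/
theorem result {A : Type u} {B : Type v} [CommRing A] [CommRing B]
    [Algebra A B] (h2 : IsUnit (2 : A)) [Module.Free A B] [Module.Finite A B]
    (hrk : Module.finrank A B = 2)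
    [Module.Free A (LinearMap.ker (Algebra.trace A B))]
    (hker : Module.finrank A (LinearMap.ker (Algebra.trace A B)) = 1) :
    ∃ σ : B →ₐ[A] B, (∀ b : B, σ b = algebraMap A B (Algebra.trace A B b) - b) ∧
      σ ≠ AlgHom.id A B ∧ σ.comp σ = AlgHom.id A B ∧
      ∀ b : B, σ b = b ↔ b ∈ Set.range (algebraMap A B) := by
  classical
  -- A is nontrivial
  haveI : Nontrivial A := by
    rcases subsingleton_or_nontrivial A with hA | hA
    · exfalso
      rw [Module.finrank_subsingleton] at hrk
      exact absurd hrk (by norm_num)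
    · exact hA
  let bas : Module.Basis (Fin 2) A B := Module.finBasisOfFinrankEq A B hrk
  let L := Algebra.leftMulMatrix bas
  have hLinj : Function.Injective L := Algebra.leftMulMatrix_injective bas
  have htr : ∀ b : B, Algebra.trace A B b = Matrix.trace (L b) := fun b =>
    Algebra.trace_eq_matrix_trace bas b
  have htrA : ∀ a : A, Algebra.trace A B (algebraMap A B a) = 2 * a := by
    intro a
    rw [Algebra.trace_algebraMap_of_basis bas]
    simp
  obtain ⟨u, hu⟩ := h2
  -- the linear map
  let σl : B →ₗ[A] B := (Algebra.linearMap A B) ∘ₗ (Algebra.trace A B) - LinearMap.id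
  have hσl : ∀ b, σl b = algebraMap A B (Algebra.trace A B b) - b := fun b => rfl
  have hone : σl 1 = 1 := by
    rw [hσl, ← map_one (algebraMap A B), htrA, map_one, mul_one]
    have : (algebraMap A B) 2 = 2 := map_ofNat _ 2
    rw [this]; ring
  have hmul : ∀ x y, σl (x * y) = σl x * σl y := by
    intro x y
    apply hLinj
    simp only [hσl, map_sub, map_mul, AlgHom.commutes, htr]
    have hcomm : L x * L y = L y * L x := by
      rw [← map_mul, ← map_mul, mul_comm]
    have key := polarCH (L x) (L y)
    rw [← hcomm] at key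
    simp only [Algebra.algebraMap_eq_smul_one]
    have gen : ∀ (X Y : Matrix (Fin 2) (Fin 2) A) (tx ty T : A),
        X * Y + X * Y - tx • Y - ty • X + (tx * ty - T) • (1 : Matrix (Fin 2) (Fin 2) A) = 0 →
        T • (1 : Matrix (Fin 2) (Fin 2) A) - X * Y = (tx • (1 : Matrix (Fin 2) (Fin 2) A) - X) * (ty • 1 - Y) := by
      intro X Y tx ty T hk
      rw [sub_mul, mul_sub, mul_sub]
      simp only [smul_mul_assoc, one_mul, mul_smul_comm, mul_one, smul_smul]
      rw [sub_smul] at hk
      rw [eq_comm, ← sub_eq_zero, ← hk, mul_comm ty tx]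
      abel
    have e := gen (L x) (L y) _ _ _ key
    rw [← map_mul] at e ⊢
    exact e
  let σ : B →ₐ[A] B := AlgHom.ofLinearMap σl hone hmul
  have hσ : ∀ b, σ b = algebraMap A B (Algebra.trace A B b) - b := fun b => rfl
  have h2inj : ∀ b : B, (2 : A) • b = 0 → b = 0 := by
    intro b hb
    have : ((u⁻¹ : Aˣ) : A) • ((2 : A) • b) = 0 := by rw [hb, smul_zero]
    rwa [smul_smul, ← hu, Units.inv_mul, one_smul] at this
  refine ⟨σ, hσ, ?_, ?_, ?_⟩
  · -- σ ≠ id
    intro hid
    haveI : Nontrivial (LinearMap.ker (Algebra.trace A B)) :=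
      Module.nontrivial_of_finrank_pos (R := A) (by rw [hker]; norm_num)
    obtain ⟨⟨y, hy⟩, hy0⟩ := exists_ne (0 : LinearMap.ker (Algebra.trace A B))
    have hy' : Algebra.trace A B y = 0 := hy
    have h1 : σ y = y := by rw [hid]; rfl
    rw [hσ, hy', map_zero, zero_sub] at h1
    have h3 : (2 : A) • y = 0 := by
      rw [two_smul]
      nth_rewrite 1 [← h1]
      exact neg_add_cancel y
    have := h2inj y h3
    exact hy0 (Subtype.ext this)
  · -- σ ∘ σ = id
    ext b
    simp only [AlgHom.comp_apply, AlgHom.id_apply, hσ, map_sub, htrA]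
    rw [map_mul]
    have : (algebraMap A B) 2 = 2 := map_ofNat _ 2
    rw [this]; ring
  · intro b
    rw [hσ]
    constructor
    · intro h
      refine ⟨(u⁻¹ : Aˣ) * Algebra.trace A B b, ?_⟩
      have h3 : algebraMap A B (Algebra.trace A B b) = (2 : A) • b := by
        rw [two_smul]
        rw [sub_eq_iff_eq_add] at h
        exact h
      rw [map_mul, h3, Algebra.algebraMap_eq_smul_one, smul_mul_assoc, one_mul, smul_smul, ← hu,
        Units.inv_mul, one_smul]
    · rintro ⟨a, rfl⟩
      rw [htrA, map_mul]
      have : (algebraMap A B) 2 = 2 := map_ofNat _ 2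
      rw [this]; ring

end Groth.Agent.S18887
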