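import Groth.Statements.S18888
import Mathlib

set_option autoImplicit false
universe u v w
open CAlg

namespace Groth.Agent.S18888

open Polynomial in
/-- if `y ∉ K` and `y² = d`, a polynomial over `K` vanishing at `a + b y` also vanishes at `a - b y`. -/
theorem conj_root {K : Type*} {L : Type*} [Field K] [Field L] [Algebra K L]
    (dK : K) (y : L) (hy : y * y = algebraMap K L dK) (hyK : y ∉ Set.range (algebraMap K L))
    (a b : K) (Q : K[X]) (hQ : aeval (algebraMap K L a + algebraMap K L b * y) Q = 0) :
    aeval (algebraMap K L a - algebraMap K L b * y) Q = 0 := by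
  set D : K[X] := X ^ 2 - C dK with hD
  have hDm : D.Monic := monic_X_pow_sub_C dK (by norm_num)
  set R : K[X] := Q.comp (C a + C b * X) with hR
  have hRy : aeval y R = 0 := by
    rw [hR, aeval_comp]
    simpa using hQ
  have hDy : aeval y D = 0 := by
    simp [hD, pow_two, hy]
  have hDy' : aeval (-y) D = 0 := by
    simp [hD, pow_two, hy]
  have hmod : aeval y (R %ₘ D) = 0 := by
    have := congrArg (aeval y) (modByMonic_add_div R D)
    rw [map_add, map_mul, hDy, zero_mul, add_zero, hRy] at this
    exact this
  have hdeg : (R %ₘ D).degree ≤ 1 := by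
    have h1 : (R %ₘ D).degree < D.degree := degree_modByMonic_lt R hDm
    have h2 : D.degree = 2 := by
      rw [hD]; exact degree_X_pow_sub_C (by norm_num) dK
    rw [h2] at h1
    by_cases h0 : R %ₘ D = 0
    · rw [h0]; simp
    · have h3 : (R %ₘ D).natDegree < 2 := (natDegree_lt_iff_degree_lt h0).2 (by exact_mod_cast h1)
      have h4 : (R %ₘ D).natDegree ≤ 1 := by omega
      exact_mod_cast degree_le_of_natDegree_le h4
  have hform := eq_X_add_C_of_degree_le_one hdeg
  set r := (R %ₘ D).coeff 0
  set s := (R %ₘ D).coeff 1
  rw [hform] at hmod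
  simp only [map_add, map_mul, aeval_C, aeval_X] at hmod
  have hs : s = 0 := by
    by_contra hs
    apply hyK
    refine ⟨-r / s, ?_⟩
    have hs' : algebraMap K L s ≠ 0 := by simpa using hs
    rw [map_div₀, map_neg, div_eq_iff hs']
    linear_combination -hmod
  have hr : r = 0 := by
    rw [hs] at hmod
    simpa using hmod
  have hzero : R %ₘ D = 0 := by rw [hform, hs, hr]; simp
  have hdiv : R = D * (R /ₘ D) := by
    have := modByMonic_add_div R D
    rw [hzero, zero_add] at this
    exact this.symm
  have h2 : aeval (-y) R = 0 := by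
    rw [hdiv, map_mul, hDy', zero_mul]
  rw [hR, aeval_comp] at h2
  simpa [sub_eq_add_neg] using h2

/-- in the fraction field of a UFD, `c² d ∈ A` with `d` squarefree forces `c ∈ A`. -/
theorem mem_of_sq_mul_squarefree {A : Type*} {K : Type*} [CommRing A] [IsDomain A]
    [UniqueFactorizationMonoid A] [Field K] [Algebra A K] [IsFractionRing A K]
    (d : A) (hd : Squarefree d) (c : K) (e : A)
    (h : c * c * algebraMap A K d = algebraMap A K e) : ∃ c' : A, algebraMap A K c' = c := by
  obtain ⟨m, ⟨n, hn⟩, hrel, rfl⟩ := IsFractionRing.exists_reduced_fraction (A := A) (K := K) c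
  have hn0 : n ≠ 0 := nonZeroDivisors.ne_zero hn
  have hnK : algebraMap A K n ≠ 0 := IsFractionRing.to_map_ne_zero_of_mem_nonZeroDivisors hn
  -- m² d = e n²
  have h1 : m * m * d = e * (n * n) := by
    apply IsFractionRing.injective A K
    simp only [map_mul]
    rw [← h, IsFractionRing.mk'_eq_div]
    simp only
    field_simp
  have hrel2 : IsRelPrime (n * n) (m * m) := by
    have : IsRelPrime n m := hrel.symm
    exact (this.mul_left this).mul_right (this.mul_left this)
  have hdvd : n * n ∣ d := by
    have : n * n ∣ m * m * d := ⟨e, by rw [h1]; ring⟩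
    exact hrel2.dvd_of_dvd_mul_left this
  have hunit : IsUnit n := hd n hdvd
  obtain ⟨u, rfl⟩ := hunit
  refine ⟨m * ((u⁻¹ : Aˣ) : A), ?_⟩
  rw [IsFractionRing.mk'_eq_div, map_mul, eq_div_iff hnK, mul_assoc, ← map_mul]
  simp


/-- Let A be a unique factorisation domain in which 2 is invertible, with fraction field K, and let L ⊇
K be a quadratic extension field (of degree 2 over K) containing an element y ∉ K whose square is a
squarefree element d of A. Then the integral closure of A in L equals the A-subalgebra A[y]
generated by y. -/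
theorem result {A : Type u} {K : Type v} {L : Type w}
    [CommRing A] [IsDomain A] [UniqueFactorizationMonoid A] [Field K] [Algebra A K] [IsFractionRing A K]
    [Field L] [Algebra K L] [Algebra A L] [IsScalarTower A K L]
    (h2 : IsUnit (2 : A)) (hL : Module.finrank K L = 2)
    (d : A) (hd : Squarefree d) (y : L) (hy : y * y = algebraMap A L d)
    (hyK : y ∉ Set.range (algebraMap K L)) :
    integralClosure A L = Algebra.adjoin A {y} := by
  classical
  haveI : FiniteDimensional K L := Module.finite_of_finrank_pos (by rw [hL]; norm_num)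
  have hinjKL : Function.Injective (algebraMap K L) := (algebraMap K L).injective
  have hAL : ∀ x : A, algebraMap A L x = algebraMap K L (algebraMap A K x) :=
    fun x => IsScalarTower.algebraMap_apply A K L x
  have hyd : y * y = algebraMap K L (algebraMap A K d) := by rw [hy, hAL]
  obtain ⟨u, hu⟩ := h2
  -- y is integral
  have hyint : IsIntegral A y := by
    refine ⟨Polynomial.X ^ 2 - Polynomial.C d, Polynomial.monic_X_pow_sub_C d (by norm_num), ?_⟩
    simp [pow_two, hy]
  apply le_antisymm
  · -- integral elements lie in A[y]
    intro z hz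
    -- decomposition z = a + b y
    have hli : LinearIndependent K ![(1 : L), y] := by
      rw [LinearIndependent.pair_iff]
      intro s t hst
      by_cases ht : t = 0
      · subst ht
        simp at hst
        exact ⟨hst, rfl⟩
      · exfalso
        apply hyK
        refine ⟨-s / t, ?_⟩
        have ht' : algebraMap K L t ≠ 0 := by simpa using ht
        rw [map_div₀, map_neg, div_eq_iff ht']
        simp only [Algebra.smul_def, mul_one] at hst
        linear_combination -hst
    have hspan := hli.span_eq_top_of_card_eq_finrank' (by simp [hL])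
    have hzmem : z ∈ Submodule.span K (Set.range ![(1 : L), y]) := by rw [hspan]; trivial
    rw [Submodule.mem_span_range_iff_exists_fun] at hzmem
    obtain ⟨c, hc⟩ := hzmem
    rw [Fin.sum_univ_two] at hc
    simp only [Matrix.cons_val_zero, Matrix.cons_val_one, Algebra.smul_def, mul_one] at hc
    set a := c 0
    set b := c 1
    -- the conjugate is integral
    obtain ⟨P, hPm, hP⟩ := hz
    have hPz : Polynomial.aeval z (P.map (algebraMap A K)) = 0 := by
      rw [Polynomial.aeval_map_algebraMap]
      exact hP
    rw [← hc] at hPz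
    have hconj := conj_root (algebraMap A K d) y hyd hyK a b _ hPz
    set z' := algebraMap K L a - algebraMap K L b * y with hz'
    have hz'int : IsIntegral A z' := by
      refine ⟨P, hPm, ?_⟩
      rw [Polynomial.aeval_map_algebraMap] at hconj
      exact hconj
    have hzint : IsIntegral A z := ⟨P, hPm, hP⟩
    -- 2a ∈ A
    have hsum : IsIntegral A (algebraMap K L (2 * a)) := by
      have : algebraMap K L (2 * a) = z + z' := by
        rw [← hc, hz', map_mul]
        have : (algebraMap K L) 2 = 2 := map_ofNat _ 2
        rw [this]; ring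
      rw [this]
      exact hzint.add hz'int
    rw [isIntegral_algebraMap_iff hinjKL] at hsum
    obtain ⟨a2, ha2⟩ := IsIntegrallyClosed.isIntegral_iff.mp hsum
    -- (2b)² d ∈ A
    have hdiff : IsIntegral A (algebraMap K L ((2 * b) * (2 * b) * algebraMap A K d)) := by
      have : algebraMap K L ((2 * b) * (2 * b) * algebraMap A K d) = (z - z') * (z - z') := by
        rw [← hc, hz', map_mul, map_mul, map_mul, ← hyd]
        have : (algebraMap K L) 2 = 2 := map_ofNat _ 2
        rw [this]; ring
      rw [this]
      exact (hzint.sub hz'int).mul (hzint.sub hz'int)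
    rw [isIntegral_algebraMap_iff hinjKL] at hdiff
    obtain ⟨e, he⟩ := IsIntegrallyClosed.isIntegral_iff.mp hdiff
    obtain ⟨b2, hb2⟩ := mem_of_sq_mul_squarefree d hd (2 * b) e he.symm
    -- now a = a2 / 2, b = b2 / 2
    have h2K : (algebraMap A K) (u : A) = 2 := by rw [hu]; exact map_ofNat _ 2
    have ha : algebraMap A K (((u⁻¹ : Aˣ) : A) * a2) = a := by
      rw [map_mul, ha2, ← mul_assoc, ← h2K, ← map_mul, Units.inv_mul, map_one, one_mul]
    have hb : algebraMap A K (((u⁻¹ : Aˣ) : A) * b2) = b := by
      rw [map_mul, hb2, ← mul_assoc, ← h2K, ← map_mul, Units.inv_mul, map_one, one_mul]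
    rw [← hc, ← ha, ← hb, ← hAL, ← hAL]
    exact Subalgebra.add_mem _ (Subalgebra.algebraMap_mem _ _)
      (Subalgebra.mul_mem _ (Subalgebra.algebraMap_mem _ _) (Algebra.subset_adjoin rfl))
  · rw [Algebra.adjoin_le_iff]
    rintro _ rfl
    exact hyint

end Groth.Agent.S18888
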