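import Groth.Statements.S18889
import Mathlib

set_option autoImplicit false
universe u v w
open CAlg

namespace Groth.Agent.S18889

/-- Let R be a commutative ring, A a commutative R-algebra of finite presentation, and G a finite group
acting on A by R-algebra automorphisms such that the order of G is invertible in R. Then the ring of
invariants A^G is an R-algebra of finite presentation. (The source takes G to be a group of
automorphisms of A; here G acts through a possibly non-faithful action, which changes nothing since
the invariants and the invertibility of the order only depend on the image of G.) -/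
theorem result {R : Type u} {A : Type v} [CommRing R] [CommRing A]
    [Algebra R A] [Algebra.FinitePresentation R A]
    {G : Type w} [Group G] [Finite G] [MulSemiringAction G A] [SMulCommClass G R A]
    (hG : IsUnit ((Nat.card G : ℕ) : R)) :
    Algebra.FinitePresentation R (FixedPoints.subalgebra R A G) := by
  classical
  haveI : Fintype G := Fintype.ofFinite G
  rw [Nat.card_eq_fintype_card] at hG
  obtain ⟨u, hu⟩ := hG
  -- generating set of A
  obtain ⟨T, hT⟩ := (inferInstance : Algebra.FiniteType R A).out
  let N : A → ℕ := fun a => (MulSemiringAction.charpoly G a).natDegree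
  let ι := Σ a : (T : Set A), Fin (N a)
  have hcoef : ∀ (a : A) (i : ℕ), (MulSemiringAction.charpoly G a).coeff i ∈ FixedPoints.subalgebra R A G :=
    fun a i g => MulSemiringAction.smul_coeff_charpoly a i g
  let cS : ι → FixedPoints.subalgebra R A G :=
    fun x => ⟨(MulSemiringAction.charpoly G (x.1 : A)).coeff x.2, hcoef _ _⟩
  let φ : MvPolynomial ι R →ₐ[R] FixedPoints.subalgebra R A G := MvPolynomial.aeval cS
  let ψ : MvPolynomial ι R →ₐ[R] A := (FixedPoints.subalgebra R A G).val.comp φ
  letI algPS : Algebra (MvPolynomial ι R) (FixedPoints.subalgebra R A G) := φ.toRingHom.toAlgebra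
  haveI towerRPS : IsScalarTower R (MvPolynomial ι R) (FixedPoints.subalgebra R A G) :=
    IsScalarTower.of_algebraMap_eq' φ.comp_algebraMap.symm
  letI algPA : Algebra (MvPolynomial ι R) A := ψ.toRingHom.toAlgebra
  haveI towerRPA : IsScalarTower R (MvPolynomial ι R) A :=
    IsScalarTower.of_algebraMap_eq' ψ.comp_algebraMap.symm
  haveI towerPSA : IsScalarTower (MvPolynomial ι R) (FixedPoints.subalgebra R A G) A :=
    IsScalarTower.of_algebraMap_eq' rfl
  have hmapX : ∀ j : ι, algebraMap (MvPolynomial ι R) A (MvPolynomial.X j) =
      (MulSemiringAction.charpoly G (j.1 : A)).coeff j.2 := by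
    intro j
    change ((φ (MvPolynomial.X j) : FixedPoints.subalgebra R A G) : A) = _
    simp only [φ, MvPolynomial.aeval_X]
    rfl
  -- integrality of generators
  have hint : ∀ a ∈ T, IsIntegral (MvPolynomial ι R) a := by
    intro a ha
    let q : Polynomial (MvPolynomial ι R) := Polynomial.X ^ (N a) +
      ∑ i : Fin (N a), Polynomial.C (MvPolynomial.X (⟨⟨a, ha⟩, i⟩ : ι)) * Polynomial.X ^ (i : ℕ)
    have hqm : q.Monic := Polynomial.monic_X_pow_add (Polynomial.degree_sum_fin_lt _)
    refine ⟨q, hqm, ?_⟩
    have hmap : q.map (algebraMap (MvPolynomial ι R) A) = MulSemiringAction.charpoly G a := by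
      conv_rhs => rw [(MulSemiringAction.monic_charpoly G a).as_sum]
      simp only [q, Polynomial.map_add, Polynomial.map_pow, Polynomial.map_X, Polynomial.map_sum,
        Polynomial.map_mul, Polynomial.map_C, hmapX]
      rw [Finset.sum_range]
    rw [← Polynomial.eval_map, hmap, MulSemiringAction.eval_charpoly]
  -- A is finite over P
  haveI hfin : Module.Finite (MvPolynomial ι R) A := by
    have h1 : Algebra.adjoin (MvPolynomial ι R) (T : Set A) = ⊤ := by
      rw [eq_top_iff]
      intro x _
      have hx : x ∈ Algebra.adjoin R (T : Set A) := by rw [hT]; trivial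
      have hle : Algebra.adjoin R (T : Set A) ≤
          (Algebra.adjoin (MvPolynomial ι R) (T : Set A)).restrictScalars R :=
        Algebra.adjoin_le Algebra.subset_adjoin
      exact hle hx
    have h2 := fg_adjoin_of_finite T.finite_toSet (fun a ha => hint a ha)
    rw [h1] at h2
    exact ⟨by simpa using h2⟩
  haveI : Algebra.FinitePresentation (MvPolynomial ι R) A :=
    Algebra.FinitePresentation.of_restrict_scalars_finitePresentation R (MvPolynomial ι R) A
  haveI : Module.FinitePresentation (MvPolynomial ι R) A :=
    Module.FinitePresentation.of_finite_of_finitePresentation (MvPolynomial ι R) A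
  -- the Reynolds operator
  have hinv : ∀ a : A, ((u⁻¹ : Rˣ) : R) • ∑ g : G, g • a ∈ FixedPoints.subalgebra R A G := by
    intro a h
    rw [smul_comm, Finset.smul_sum]
    congr 1
    simp only [smul_smul]
    exact Fintype.sum_equiv (Equiv.mulLeft h) _ _ (fun g => rfl)
  have hSmem : ∀ s : FixedPoints.subalgebra R A G, ∀ g : G, g • (s : A) = s := fun s g => s.2 g
  let ρ : A →ₗ[MvPolynomial ι R] FixedPoints.subalgebra R A G :=
    { toFun := fun a => ⟨((u⁻¹ : Rˣ) : R) • ∑ g : G, g • a, hinv a⟩
      map_add' := by
        intro a b
        apply Subtype.ext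
        simp only [smul_add, Finset.sum_add_distrib]
        rfl
      map_smul' := by
        intro q a
        apply Subtype.ext
        simp only [RingHom.id_apply]
        change ((u⁻¹ : Rˣ) : R) • ∑ g : G, g • (algebraMap (MvPolynomial ι R) A q * a) =
          algebraMap (MvPolynomial ι R) A q * (((u⁻¹ : Rˣ) : R) • ∑ g : G, g • a)
        have hq : ∀ g : G, g • (algebraMap (MvPolynomial ι R) A q) = algebraMap (MvPolynomial ι R) A q :=
          fun g => hSmem (φ q) g
        simp only [smul_mul', hq, ← Finset.mul_sum]
        rw [mul_smul_comm] }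
  have hρ : ∀ s : FixedPoints.subalgebra R A G, ρ (s : A) = s := by
    intro s
    apply Subtype.ext
    change ((u⁻¹ : Rˣ) : R) • ∑ g : G, g • (s : A) = s
    simp only [hSmem, Finset.sum_const, Finset.card_univ]
    rw [← Nat.cast_smul_eq_nsmul R, smul_smul, ← hu, Units.inv_mul, one_smul]
  let incl : FixedPoints.subalgebra R A G →ₗ[MvPolynomial ι R] A :=
    (IsScalarTower.toAlgHom (MvPolynomial ι R) (FixedPoints.subalgebra R A G) A).toLinearMap
  have hincl : ∀ s, incl s = (s : A) := fun s => rfl
  have hρsurj : Function.Surjective ρ := fun s => ⟨s, hρ s⟩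
  have hker : (LinearMap.ker ρ).FG := by
    have : LinearMap.ker ρ = LinearMap.range (LinearMap.id - incl ∘ₗ ρ) := by
      ext x
      simp only [LinearMap.mem_ker, LinearMap.mem_range, LinearMap.sub_apply, LinearMap.id_apply,
        LinearMap.comp_apply]
      constructor
      · intro hx
        exact ⟨x, by rw [hx, map_zero, sub_zero]⟩
      · rintro ⟨y, rfl⟩
        rw [map_sub, hincl, hρ, sub_self]
    rw [this, LinearMap.range_eq_map]
    exact (Module.Finite.fg_top).map _
  haveI : Module.FinitePresentation (MvPolynomial ι R) (FixedPoints.subalgebra R A G) :=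
    Module.finitePresentation_of_surjective ρ hρsurj hker
  haveI : Algebra.FinitePresentation (MvPolynomial ι R) (FixedPoints.subalgebra R A G) :=
    Algebra.FinitePresentation.of_finitePresentation _ _
  exact Algebra.FinitePresentation.trans R (MvPolynomial ι R) (FixedPoints.subalgebra R A G)

end Groth.Agent.S18889
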