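import Groth.Statements.S18890
import Mathlib

set_option autoImplicit false
universe u v w w'
open CAlg

namespace Groth.Agent.S18890

/-- Let R be a commutative ring, G a finite group whose order is invertible in R, M an R-module with an
R-linear action ρ of G and N an arbitrary R-module. Then the natural map M^G ⊗_R N → M ⊗_R N induced
by the inclusion of the invariants is injective, and its image is the submodule of invariants of M
⊗_R N under the action ρ ⊗ 1 (G acting on the first factor). (The source lets G be a group of
R-automorphisms of M; a possibly non-faithful linear action changes nothing.) -/
theorem result {R : Type u} [CommRing R]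
    {G : Type v} [Group G] [Finite G] (hG : IsUnit ((Nat.card G : ℕ) : R))
    {M : Type w} {N : Type w'} [AddCommGroup M] [Module R M] [AddCommGroup N] [Module R N]
    (ρ : Representation R G M) :
    Function.Injective (LinearMap.rTensor N ρ.invariants.subtype) ∧
      LinearMap.range (LinearMap.rTensor N ρ.invariants.subtype) =
        (ρ.tprod (Representation.trivial R G N)).invariants := by
  classical
  haveI : Fintype G := Fintype.ofFinite G
  rw [Nat.card_eq_fintype_card] at hG
  letI : Invertible ((Fintype.card G : ℕ) : R) := hG.invertible
  -- formula for the average map
  have havgM : ρ.averageMap = ⅟((Fintype.card G : ℕ) : R) • ∑ g : G, ρ g := by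
    simp [Representation.averageMap, GroupAlgebra.average, map_sum]
  -- the projection onto invariants
  let π : M →ₗ[R] ρ.invariants := ρ.isProj_averageMap.codRestrict
  have hπ : π ∘ₗ ρ.invariants.subtype = LinearMap.id :=
    LinearMap.ext (fun v => ρ.isProj_averageMap.codRestrict_apply_cod v)
  have hπ' : ρ.invariants.subtype ∘ₗ π = ρ.averageMap := by
    ext v
    rfl
  constructor
  · -- injectivity
    apply Function.LeftInverse.injective (g := LinearMap.rTensor N π)
    intro t
    rw [← LinearMap.comp_apply, ← LinearMap.rTensor_comp, hπ, LinearMap.rTensor_id, LinearMap.id_apply]
  · apply le_antisymm
    · rintro _ ⟨t, rfl⟩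
      rw [Representation.mem_invariants]
      intro g
      induction t using TensorProduct.induction_on with
      | zero => simp
      | tmul x n =>
        simp only [LinearMap.rTensor_tmul, Submodule.subtype_apply, Representation.tprod_apply,
          TensorProduct.map_tmul, Representation.trivial_apply]
        rw [(Representation.mem_invariants ρ _).1 x.2 g]
      | add a b ha hb => rw [map_add, map_add, ha, hb]
    · intro t ht
      rw [Representation.mem_invariants] at ht
      have h1 : LinearMap.rTensor N ρ.averageMap t = t := by
        have hsum : LinearMap.rTensor N (∑ g : G, ρ g) = ∑ g : G, LinearMap.rTensor N (ρ g) := by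
          simp only [← LinearMap.coe_rTensorHom]
          exact map_sum (LinearMap.rTensorHom N) _ _
        rw [havgM, LinearMap.rTensor_smul, hsum]
        simp only [LinearMap.smul_apply, LinearMap.sum_apply]
        have h2 : ∀ g : G, LinearMap.rTensor N (ρ g) t = t := by
          intro g
          have := ht g
          rw [Representation.tprod_apply] at this
          have e : Representation.trivial R G N g = LinearMap.id := by
            ext n; simp
          rw [e] at this
          exact this
        simp only [h2, Finset.sum_const, Finset.card_univ]
        rw [← Nat.cast_smul_eq_nsmul R, smul_smul, invOf_mul_self, one_smul]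
      rw [← h1, ← hπ', LinearMap.rTensor_comp]
      exact ⟨_, rfl⟩

end Groth.Agent.S18890
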