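import Groth.Statements.S18891
import Mathlib

set_option autoImplicit false
universe u
open CategoryTheory CategoryTheory.Limits AlgebraicGeometry
open Mor

namespace Groth.Agent.S18891

/-- Let f : X → Y be a morphism of schemes which is proper and formally unramified, and such that for
every algebraically closed field Ω the map X(Ω) → Y(Ω), g ↦ g ≫ f, is injective. Then f is a closed
immersion. -/
theorem result {X Y : Scheme.{u}} (f : X ⟶ Y)
    [IsProper f] [FormallyUnramified f]
    (hinj : ∀ (Ω : Type u) [Field Ω] [IsAlgClosed Ω],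
      Function.Injective (fun g : Spec (CommRingCat.of Ω) ⟶ X => g ≫ f)) :
    IsClosedImmersion f := by
  rw [IsClosedImmersion.iff_isProper_and_mono]
  refine ⟨inferInstance, ?_⟩
  rw [← Limits.pullback.isIso_diagonal_iff, isIso_iff_isOpenImmersion_and_surjective]
  refine ⟨inferInstance, ?_⟩
  rw [surjective_iff]
  intro z
  let Ω := AlgebraicClosure ((Limits.pullback f f).residueField z)
  let φ : Spec (CommRingCat.of Ω) ⟶ Limits.pullback f f :=
    Spec.map (CommRingCat.ofHom (algebraMap ((Limits.pullback f f).residueField z) Ω)) ≫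
      (Limits.pullback f f).fromSpecResidueField z
  have hφ₁ : φ ≫ Limits.pullback.fst f f = φ ≫ Limits.pullback.snd f f :=
    hinj Ω (by simp [Limits.pullback.condition])
  have hφ₂ : φ = (φ ≫ Limits.pullback.fst f f) ≫ Limits.pullback.diagonal f := by
    apply Limits.pullback.hom_ext
    · simp
    · simp [hφ₁]
  let c : Spec (CommRingCat.of Ω) := Classical.arbitrary _
  refine ⟨(φ ≫ Limits.pullback.fst f f) c, ?_⟩
  rw [← Scheme.Hom.comp_apply, ← hφ₂]
  change ((Limits.pullback f f).fromSpecResidueField z) _ = z
  rw [Scheme.fromSpecResidueField_apply]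

end Groth.Agent.S18891
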