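import Groth.Statements.S18895
import Groth.Agent.Lib.Helper67.CurveLin5
import Groth.Agent.Lib.Helper67.NonDegDeg
import Groth.Agent.Lib.Helper67.SmCurve5

set_option autoImplicit false
universe u
open CategoryTheory CategoryTheory.Limits AlgebraicGeometry
open Curves

namespace Groth.Agent.S18895

/-- Let k be an algebraically closed field of characteristic different from 2 (the standing convention
of the section; it plays no role here) and X a connected smooth proper curve over k of genus dim_k
H¹(X, O_X) ≥ 1. For every invertible O_X-module L of positive degree one has dim_k H⁰(X, L) ≤ deg L. -/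
theorem result (k : Type u) [Field k] [IsAlgClosed k] (h2 : (2 : k) ≠ 0)
    (X : Scheme.{u}) [X.Over (Spec (CommRingCat.of k))]
    [IsProper (X ↘ Spec (CommRingCat.of k))] [Smooth (X ↘ Spec (CommRingCat.of k))] [ConnectedSpace ↥X]
    (hX : topologicalKrullDim ↥X = 1) (hg : 1 ≤ Curv2.genus k X)
    (L : X.Modules) (hL : PicF.IsInvertible L) (hdeg : 0 < Curv2.deg k X L 1) :
    (Module.finrank k (Coh.HH X L 0) : ℤ) ≤ Curv2.deg k X L 1 := by
  haveI : IsNoetherian X :=
    Groth.Agent.Lib.Helper67.CurveP1.isNoetherian_of_proper k (X ↘ Spec (CommRingCat.of k))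
  haveI : IsIntegral X := Groth.Agent.Lib.Helper67.SmCurve.isIntegral_of_smooth_of_connected k X
  have hdim : topologicalKrullDim X ≤ 1 := hX.le
  have h0 := Groth.Agent.Lib.Helper67.NonDegDeg.h0_eq_one_of_isAlgClosed k X
  by_cases hz : Module.finrank k (Coh.HH X L 0) = 0
  · rw [hz]
    exact_mod_cast hdeg.le
  · -- a nonzero section
    have hpos : 0 < Module.finrank k (Coh.HH X L 0) := Nat.pos_of_ne_zero hz
    haveI : Nontrivial (Coh.HH X L 0) := Module.nontrivial_of_finrank_pos (R := k) hpos
    obtain ⟨y, hy⟩ := exists_ne (0 : Coh.HH X L 0)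
    obtain ⟨s, hs'⟩ := Groth.Agent.Lib.Helper67.CurveKL.secLin_surjective k L y
    have hs : s ≠ 0 := by
      rintro rfl
      rw [map_zero] at hs'
      exact hy hs'.symm
    obtain ⟨hd, hle, -⟩ := Groth.Agent.Lib.Helper67.CurveLin.h0_le_of_section k X hdim h0 hL s hs
    by_cases heq : Module.finrank k (Coh.HH X L 0) =
        Module.finrank k (Coh.HH X (cokernel s) 0) + 1
    · have := Groth.Agent.Lib.Helper67.CurveLin.genus_eq_zero_of_sections k X hdim h0 hL s hs heq hdeg
      omega
    · rw [hd]
      have : Module.finrank k (Coh.HH X L 0) ≤ Module.finrank k (Coh.HH X (cokernel s) 0) := by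
        omega
      exact_mod_cast this

end Groth.Agent.S18895
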