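import Groth.Statements.S18899
import Mathlib

set_option autoImplicit false
universe u v w
open CAlg

namespace Groth.Agent.S18899

open Polynomial in
/-- pointwise version, for any domain target -/
theorem pointwise {A : Type u} [CommRing A] {G : Type v} [Group G] [Fintype G]
    [MulSemiringAction G A] {K : Type w} [CommRing K] [IsDomain K] (f₁ f₂ : A →+* K)
    (h : ∀ a : A, (∀ g : G, g • a = a) → f₁ a = f₂ a) (a : A) :
    ∃ γ : G, f₂ a = f₁ (γ • a) := by
  have hmap : (MulSemiringAction.charpoly G a).map f₁ = (MulSemiringAction.charpoly G a).map f₂ := by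
    ext n
    rw [coeff_map, coeff_map]
    exact h _ (fun g => MulSemiringAction.smul_coeff_charpoly a n g)
  have h0 : ((MulSemiringAction.charpoly G a).map f₂).eval (f₂ a) = 0 := by
    rw [eval_map, eval₂_hom, MulSemiringAction.eval_charpoly, map_zero]
  rw [← hmap, MulSemiringAction.charpoly_eq, Polynomial.map_prod, eval_prod] at h0
  obtain ⟨g, -, hg⟩ := Finset.prod_eq_zero_iff.mp h0
  refine ⟨g, ?_⟩
  simpa [sub_eq_zero] using hg


/-- Let A be a commutative ring on which a finite group G acts by ring automorphisms, with ring of
invariants A^G, and let K be a field. If two ring homomorphisms f₁, f₂ : A → K have the same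
restriction to A^G, then f₂ = f₁ ∘ γ for some γ ∈ G. -/
theorem result {A : Type u} [CommRing A] {G : Type v} [Group G] [Finite G]
    [MulSemiringAction G A] {K : Type w} [Field K] (f₁ f₂ : A →+* K)
    (h : ∀ a : A, (∀ g : G, g • a = a) → f₁ a = f₂ a) :
    ∃ γ : G, ∀ a : A, f₂ a = f₁ (γ • a) := by
  classical
  haveI : Fintype G := Fintype.ofFinite G
  by_contra hcon
  push_neg at hcon
  choose a ha using hcon
  let idx : G → ℕ := fun γ => (Fintype.equivFin G γ : ℕ)
  have hidx : Function.Injective idx := fun x y hxy => by
    apply (Fintype.equivFin G).injective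
    exact Fin.ext hxy
  let p : Polynomial A := ∑ γ : G, Polynomial.monomial (idx γ) (a γ)
  have hp : ∀ g : G, p.coeff (idx g) = a g := by
    intro g
    simp only [p, Polynomial.finset_sum_coeff, Polynomial.coeff_monomial]
    rw [Finset.sum_eq_single g]
    · simp
    · intro b _ hb
      rw [if_neg]
      intro hh
      exact hb (hidx hh)
    · intro hh
      exact absurd (Finset.mem_univ g) hh
  have hagree : ∀ q : Polynomial A, (∀ g : G, g • q = q) →
      Polynomial.mapRingHom f₁ q = Polynomial.mapRingHom f₂ q := by
    intro q hq
    ext n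
    simp only [Polynomial.coe_mapRingHom, Polynomial.coeff_map]
    apply h
    intro g
    rw [← Polynomial.coeff_smul, hq]
  obtain ⟨g, hg⟩ := pointwise (Polynomial.mapRingHom f₁) (Polynomial.mapRingHom f₂) hagree p
  have := congrArg (fun q => Polynomial.coeff q (idx g)) hg
  simp only [Polynomial.coe_mapRingHom, Polynomial.coeff_map, Polynomial.coeff_smul, hp] at this
  exact ha g this

end Groth.Agent.S18899
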