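import Groth.Statements.S18905
-- import your own Groth.Agent.* helpers here

set_option autoImplicit false
universe u
open CategoryTheory CategoryTheory.Limits AlgebraicGeometry
open Mor

namespace Groth.Agent.S18905

open scoped KaehlerDifferential

/-- A `k`-algebra hom to the dual numbers from a character and a derivation-like map. -/
noncomputable def dualNumberHom (k : Type u) [Field k] (A : Type u) [CommRing A] [Algebra k A]
    (χ : A →ₐ[k] k) (δ : A →ₗ[k] k)
    (hδ : ∀ a b, δ (a * b) = χ a * δ b + χ b * δ a) (hδ1 : δ 1 = 0) : A →ₐ[k] DualNumber k where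
  toFun a := TrivSqZeroExt.inl (χ a) + TrivSqZeroExt.inr (δ a)
  map_one' := by ext <;> simp [hδ1]
  map_mul' a b := by
    ext <;> simp [hδ, mul_comm]
  map_zero' := by ext <;> simp
  map_add' a b := by
    ext <;> simp
  commutes' r := by
    have : δ (algebraMap k A r) = 0 := by
      rw [Algebra.algebraMap_eq_smul_one, map_smul, hδ1, smul_zero]
    rw [TrivSqZeroExt.algebraMap_eq_inl' k k k r]
    ext <;> simp [this]

theorem fst_dualNumberHom (k : Type u) [Field k] (A : Type u) [CommRing A] [Algebra k A]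
    (χ : A →ₐ[k] k) (δ : A →ₗ[k] k)
    (hδ : ∀ a b, δ (a * b) = χ a * δ b + χ b * δ a) (hδ1 : δ 1 = 0) :
    (TrivSqZeroExt.fstHom k k k).comp (dualNumberHom k A χ δ hδ hδ1) = χ := by
  ext a
  simp [dualNumberHom]

theorem snd_dualNumberHom (k : Type u) [Field k] (A : Type u) [CommRing A] [Algebra k A]
    (χ : A →ₐ[k] k) (δ : A →ₗ[k] k)
    (hδ : ∀ a b, δ (a * b) = χ a * δ b + χ b * δ a) (hδ1 : δ 1 = 0) (a : A) :
    TrivSqZeroExt.snd (dualNumberHom k A χ δ hδ hδ1 a) = δ a := by
  simp [dualNumberHom]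

theorem formallyUnramified_of_dualNumber (k : Type u) [Field k] [IsAlgClosed k] (A : Type u)
    [CommRing A] [Algebra k A] [Algebra.FiniteType k A]
    (H : ∀ α₁ α₂ : A →ₐ[k] DualNumber k,
      (TrivSqZeroExt.fstHom k k k).comp α₁ = (TrivSqZeroExt.fstHom k k k).comp α₂ → α₁ = α₂) :
    Algebra.FormallyUnramified k A := by
  rw [Algebra.formallyUnramified_iff]
  by_contra hne
  rw [not_subsingleton_iff_nontrivial] at hne
  -- the annihilator is a proper ideal
  have hann : (Module.annihilator A Ω[A⁄k]) ≠ ⊤ := by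
    intro h
    have h1 : (1 : A) ∈ Module.annihilator A Ω[A⁄k] := h ▸ Submodule.mem_top
    rw [Module.mem_annihilator] at h1
    obtain ⟨x, hx⟩ := exists_ne (0 : Ω[A⁄k])
    exact hx (by simpa using h1 x)
  obtain ⟨m, hm, hle⟩ := Ideal.exists_le_maximal _ hann
  -- m • ⊤ ≠ ⊤ by Nakayama
  have hmtop : (m • (⊤ : Submodule A Ω[A⁄k])) ≠ ⊤ := by
    intro h
    obtain ⟨r, hr1, hr0⟩ := Submodule.exists_sub_one_mem_and_smul_eq_zero_of_fg_of_le_smul m
      (⊤ : Submodule A Ω[A⁄k]) Module.Finite.fg_top h.ge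
    have hr : r ∈ Module.annihilator A Ω[A⁄k] := by
      rw [Module.mem_annihilator]
      intro x
      exact hr0 x Submodule.mem_top
    have h1 : (1 : A) ∈ m := by
      have := m.sub_mem (hle hr) hr1
      simpa using this
    exact hm.ne_top ((Ideal.eq_top_iff_one m).mpr h1)
  obtain ⟨ω, hω⟩ : ∃ ω : Ω[A⁄k], ω ∉ m • (⊤ : Submodule A Ω[A⁄k]) := by
    by_contra hcon
    push Not at hcon
    exact hmtop (eq_top_iff.mpr fun x _ => hcon x)
  let _ : Field (A ⧸ m) := Ideal.Quotient.field m
  -- residue field is k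
  have hfinK : Module.Finite k (A ⧸ m) := finite_of_finite_type_of_isJacobsonRing k (A ⧸ m)
  have hbij : Function.Bijective (algebraMap k (A ⧸ m)) :=
    IsAlgClosed.algebraMap_bijective_of_isIntegral
  let e : (A ⧸ m) ≃ₐ[k] k := (AlgEquiv.ofBijective (Algebra.ofId k (A ⧸ m)) hbij).symm
  -- a functional on Ω / mΩ not vanishing at ω
  let Q := Ω[A⁄k] ⧸ (m • (⊤ : Submodule A Ω[A⁄k]))
  have hωQ : (Submodule.Quotient.mk ω : Q) ≠ 0 := by
    rw [Ne, Submodule.Quotient.mk_eq_zero]; exact hω
  obtain ⟨f, hf⟩ : ∃ f : Module.Dual (A ⧸ m) Q, f (Submodule.Quotient.mk ω) ≠ 0 := by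
    by_contra hcon
    push Not at hcon
    exact hωQ ((Module.forall_dual_apply_eq_zero_iff (A ⧸ m) _).mp hcon)
  let g : Ω[A⁄k] →ₗ[A] (A ⧸ m) := (f.restrictScalars A).comp (Submodule.mkQ _)
  have hgω : g ω ≠ 0 := hf
  let D : Derivation k A (A ⧸ m) := g.compDer (KaehlerDifferential.D k A)
  obtain ⟨a₀, ha₀⟩ : ∃ a, D a ≠ 0 := by
    by_contra hcon
    push Not at hcon
    have hg0 : g = 0 := by
      apply LinearMap.ext_on_range (KaehlerDifferential.span_range_derivation k A)
      intro a
      exact hcon a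
    exact hgω (by rw [hg0]; rfl)
  let χ : A →ₐ[k] k := e.toAlgHom.comp (Ideal.Quotient.mkₐ k m)
  let δ : A →ₗ[k] k := e.toLinearMap.comp (D : A →ₗ[k] A ⧸ m)
  have hδ : ∀ a b, δ (a * b) = χ a * δ b + χ b * δ a := by
    intro a b
    change e (D (a * b)) = e (Ideal.Quotient.mk m a) * e (D b) + e (Ideal.Quotient.mk m b) * e (D a)
    rw [D.leibniz, map_add, ← map_mul, ← map_mul]
    rfl
  have hδ1 : δ 1 = 0 := by
    change e (D 1) = 0
    rw [D.map_one_eq_zero, map_zero]
  have h0 : ∀ a b : A, (0 : A →ₗ[k] k) (a * b) = χ a * (0 : A →ₗ[k] k) b + χ b * (0 : A →ₗ[k] k) a := by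
    intro a b; simp
  have key := H (dualNumberHom k A χ 0 h0 rfl) (dualNumberHom k A χ δ hδ hδ1)
    (by rw [fst_dualNumberHom, fst_dualNumberHom])
  have h1 := congrArg (fun α : A →ₐ[k] DualNumber k => TrivSqZeroExt.snd (α a₀)) key
  simp only [snd_dualNumberHom] at h1
  have h2 : e (D a₀) = 0 := h1.symm
  exact ha₀ (by simpa using h2)

theorem eq_toSpecΓ_comp {X : Scheme.{u}} {R : CommRingCat.{u}} (f : X ⟶ Spec R) :
    f = X.toSpecΓ ≫ Spec.map ((Scheme.ΓSpecIso R).inv ≫ f.appTop) := by
  rw [Spec.map_comp, ← Scheme.toSpecΓ_naturality_assoc, toSpecΓ_SpecMap_ΓSpecIso_inv,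
    Category.comp_id]

theorem isNilpotent_ker_SpecMap {R S : CommRingCat.{u}} (φ : R ⟶ S)
    (hφ : Function.Surjective φ.hom) (h2 : ∀ x y : R, φ.hom x = 0 → φ.hom y = 0 → x * y = 0) :
    IsNilpotent (Spec.map φ).ker := by
  have : IsClosedImmersion (Spec.map φ) := IsClosedImmersion.spec_of_surjective φ hφ
  refine ⟨2, ?_⟩
  apply Scheme.IdealSheafData.ext_of_isAffine
  change (Scheme.Hom.ker (Spec.map φ)).ideal ⟨⊤, isAffineOpen_top _⟩ ^ 2 = ⊥
  rw [Scheme.Hom.ker_apply, eq_bot_iff, pow_two, Ideal.mul_le]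
  intro x hx y hy
  rw [RingHom.mem_ker] at hx hy
  rw [Ideal.mem_bot]
  have hnat : ∀ z : Γ(Spec R, ⊤), (Spec.map φ).appTop.hom z = 0 →
      φ.hom ((Scheme.ΓSpecIso R).hom.hom z) = 0 := by
    intro z hz
    have h1 := Scheme.ΓSpecIso_naturality φ
    have h3 := congr($(h1).hom z)
    simp only [CommRingCat.hom_comp, RingHom.comp_apply] at h3
    rw [← h3]
    change (Scheme.ΓSpecIso S).hom.hom ((Spec.map φ).appTop.hom z) = 0
    rw [hz, map_zero]
  have hxy := h2 _ _ (hnat x hx) (hnat y hy)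
  rw [← map_mul] at hxy
  have hinj : Function.Injective (Scheme.ΓSpecIso R).hom.hom :=
    (ConcreteCategory.bijective_of_isIso (Scheme.ΓSpecIso R).hom).1
  exact hinj (by rw [hxy, map_zero])


/-- Let k be an algebraically closed field and X a scheme locally of finite type over k. Then X → Spec k
is formally unramified if and only if the map Hom_k(Spec k[ε], X) → Hom_k(Spec k, X) given by
restricting along the closed immersion of Spec k into Spec k[ε] (k[ε] the ring of dual numbers, ε ↦
0), is bijective; since that map is always surjective, the condition is stated as injectivity: two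
k-morphisms from Spec k[ε] to X which agree on Spec k are equal. -/
theorem result (k : Type u) [Field k] [IsAlgClosed k]
    {X : Scheme.{u}} (p : X ⟶ Spec (CommRingCat.of k)) [LocallyOfFiniteType p] :
    FormallyUnramified p ↔
      ∀ v₁ v₂ : Spec (CommRingCat.of (DualNumber k)) ⟶ X,
        v₁ ≫ p = Spec.map (CommRingCat.ofHom (algebraMap k (DualNumber k))) →
        v₂ ≫ p = Spec.map (CommRingCat.ofHom (algebraMap k (DualNumber k))) →
        Spec.map (CommRingCat.ofHom (TrivSqZeroExt.fstHom k k k).toRingHom) ≫ v₁ =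
          Spec.map (CommRingCat.ofHom (TrivSqZeroExt.fstHom k k k).toRingHom) ≫ v₂ →
        v₁ = v₂ := by
  constructor
  · intro hp v₁ v₂ h1 h2 h3
    have hsurj : Function.Surjective
        (CommRingCat.ofHom (TrivSqZeroExt.fstHom k k k).toRingHom).hom := by
      intro a
      exact ⟨TrivSqZeroExt.inl a, by simp⟩
    have : IsClosedImmersion (Spec.map (CommRingCat.ofHom (TrivSqZeroExt.fstHom k k k).toRingHom)) :=
      IsClosedImmersion.spec_of_surjective _ hsurj
    refine FormallyUnramified.hom_ext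
      (Spec.map (CommRingCat.ofHom (TrivSqZeroExt.fstHom k k k).toRingHom)) ?_ p h3 (h1.trans h2.symm)
    apply isNilpotent_ker_SpecMap _ hsurj
    intro x y hx hy
    have hx' : TrivSqZeroExt.fst x = 0 := hx
    have hy' : TrivSqZeroExt.fst y = 0 := hy
    ext <;> simp [hx', hy']
  · intro H
    rw [HasRingHomProperty.iff_of_iSup_eq_top (P := @FormallyUnramified)
      (fun V : X.affineOpens => V) (iSup_affineOpens_eq_top X)]
    intro V
    let ι₀ : k →+* Γ(Spec (CommRingCat.of k), ⊤) := (Scheme.ΓSpecIso (CommRingCat.of k)).inv.hom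
    let ψ : k →+* Γ(X, V.1) := (p.appLE ⊤ V.1 le_top).hom.comp ι₀
    refine RingHom.FormallyUnramified.of_comp (f := ι₀) ?_
    change ψ.FormallyUnramified
    have hι₀ : Function.Surjective ι₀ :=
      (ConcreteCategory.bijective_of_isIso (Scheme.ΓSpecIso (CommRingCat.of k)).inv).2
    have hft : ψ.FiniteType :=
      RingHom.FiniteType.comp (p.finiteType_appLE (isAffineOpen_top _) V.2 le_top)
        (RingHom.FiniteType.of_surjective _ hι₀)
    algebraize [ψ]
    refine formallyUnramified_of_dualNumber k Γ(X, V.1) (fun α₁ α₂ h => ?_)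
    have hcomp : ∀ α : Γ(X, V.1) →ₐ[k] DualNumber k,
        (Spec.map (CommRingCat.ofHom α.toRingHom) ≫ V.2.fromSpec) ≫ p =
          Spec.map (CommRingCat.ofHom (algebraMap k (DualNumber k))) := by
      intro α
      conv_lhs => rw [eq_toSpecΓ_comp p]
      rw [Category.assoc, V.2.fromSpec_toSpecΓ_assoc, ← Spec.map_comp, ← Spec.map_comp]
      congr 1
      apply CommRingCat.hom_ext
      apply RingHom.ext
      intro a
      exact α.commutes a
    have hfst : ∀ α : Γ(X, V.1) →ₐ[k] DualNumber k,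
        Spec.map (CommRingCat.ofHom (TrivSqZeroExt.fstHom k k k).toRingHom) ≫
          (Spec.map (CommRingCat.ofHom α.toRingHom) ≫ V.2.fromSpec) =
        Spec.map (CommRingCat.ofHom ((TrivSqZeroExt.fstHom k k k).comp α).toRingHom) ≫
          V.2.fromSpec := by
      intro α
      rw [← Category.assoc, ← Spec.map_comp]
      rfl
    have key := H _ _ (hcomp α₁) (hcomp α₂) (by rw [hfst, hfst, h])
    have hmono : Mono V.2.fromSpec := by
      have : IsOpenImmersion V.2.fromSpec := V.2.isOpenImmersion_fromSpec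
      infer_instance
    have h4 := (cancel_mono V.2.fromSpec).mp key
    have h5 := Spec.map_injective h4
    apply AlgHom.ext
    intro a
    exact congr($(h5).hom a)

end Groth.Agent.S18905
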