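import Groth.Statements.S18912
import Mathlib

set_option autoImplicit false
set_option linter.style.haveILetI false
universe u
open CategoryTheory CategoryTheory.Limits AlgebraicGeometry
open TFNodal

namespace Groth.Agent.S18912

/-- Roots of unity of a domain containing an algebraically closed field of characteristic zero lie
in that field. -/
theorem exists_rootOfUnity_of_pow_eq_one {k K : Type*} [Field k] [IsAlgClosed k] [CharZero k]
    [CommRing K] [IsDomain K] (φ : k →+* K) (d : ℕ) (hd : 1 ≤ d) (x : K) (hx : x ^ d = 1) :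
    ∃ ξ : k, ξ ^ d = 1 ∧ φ ξ = x := by
  have hd0 : d ≠ 0 := Nat.pos_iff_ne_zero.mp hd
  haveI : NeZero d := ⟨hd0⟩
  haveI : NeZero (d : k) := ⟨Nat.cast_ne_zero.mpr hd0⟩
  obtain ⟨ζ, hζ⟩ := HasEnoughRootsOfUnity.exists_primitiveRoot k d
  have hζ' : IsPrimitiveRoot (φ ζ) d := hζ.map_of_injective φ.injective
  obtain ⟨i, -, hi⟩ := hζ'.eq_pow_of_pow_eq_one hx
  refine ⟨ζ ^ i, ?_, ?_⟩
  · rw [← pow_mul, mul_comm, pow_mul, hζ.pow_eq_one, one_pow]
  · rw [map_pow, hi]


/-- Let k be an algebraically closed field of characteristic zero, X a reduced scheme locally of finite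
type over k, F an O_X-module, d ≥ 1 an integer and τ, τ' : F → O_X two O_X-linear maps whose d-th
symmetric powers agree, in the sense that for every open U and all sections a_1, …, a_d of F over U
the products τ(a_1)⋯τ(a_d) and τ'(a_1)⋯τ'(a_d) coincide in Γ(U, O_X). Then for every point η of X
whose local ring is a field (a generic point of an irreducible component) there is a d-th root of
unity ξ in k such that, for every section a of F over an open containing η, the germ of τ'(a) at η
is ξ times the germ of τ(a). The published statement is for a coherent module on a projective nodal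
curve and concludes that τ' = ξ τ with one root of unity ξ on each connected component; that form
fails for the union of two lines meeting at a node, F the ideal of the node, τ the inclusion and τ'
equal to τ on one line and to −τ on the other (d = 2), so the conclusion is stated here at each
generic point, i.e. per irreducible component, which is what the stalkwise argument yields. -/
theorem result
    (k : Type u) [Field k] [IsAlgClosed k] [CharZero k]
    (X : Scheme.{u}) [X.Over (Spec (CommRingCat.of k))]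
    [LocallyOfFiniteType (X ↘ Spec (CommRingCat.of k))] [AlgebraicGeometry.IsReduced X]
    (F : X.Modules) (τ τ' : F ⟶ Coh.structureModule X) (d : ℕ) (hd : 1 ≤ d)
    (hS : ∀ (U : X.Opens) (a : Fin d → Γ(F, U)),
      (∏ i, (τ.app U (a i) : Γ(X, U)) : Γ(X, U)) = (∏ i, (τ'.app U (a i) : Γ(X, U)) : Γ(X, U)))
    (η : X) (hη : IsField (X.presheaf.stalk η)) :
    ∃ ξ : k, ξ ^ d = 1 ∧ ∀ (U : X.Opens) (hU : η ∈ U) (a : Γ(F, U)),
      (X.presheaf.germ U η hU (τ'.app U a : Γ(X, U)) : X.presheaf.stalk η) =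
        Curv2.stalkMap k X η ξ * X.presheaf.germ U η hU (τ.app U a : Γ(X, U)) := by
  classical
  letI : Field (X.presheaf.stalk η) := hη.toField
  -- germs of values only depend on restrictions
  have hres : ∀ (σ : F ⟶ Coh.structureModule X) (U W : X.Opens) (hle : W ≤ U) (hW : η ∈ W)
      (a : Γ(F, U)),
      (X.presheaf.germ W η hW (σ.app W (F.presheaf.map (homOfLE hle).op a) : Γ(X, W)) :
        X.presheaf.stalk η) = X.presheaf.germ U η (hle hW) (σ.app U a : Γ(X, U)) := by
    intro σ U W hle hW a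
    have hnat := congrArg (fun g => g.hom a) (σ.mapPresheaf.naturality (homOfLE hle).op)
    have hnat' : σ.app W (F.presheaf.map (homOfLE hle).op a) =
        (Coh.structureModule X).presheaf.map (homOfLE hle).op (σ.app U a) := hnat
    rw [hnat']
    exact TopCat.Presheaf.germ_res_apply X.presheaf (homOfLE hle) η hW (σ.app U a : Γ(X, U))
  -- the product identity on germs
  have hprod : ∀ (U : X.Opens) (hU : η ∈ U) (a : Fin d → Γ(F, U)),
      (∏ i, (X.presheaf.germ U η hU (τ.app U (a i) : Γ(X, U)) : X.presheaf.stalk η)) =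
        ∏ i, (X.presheaf.germ U η hU (τ'.app U (a i) : Γ(X, U)) : X.presheaf.stalk η) := by
    intro U hU a
    have := congrArg (fun r : Γ(X, U) => (X.presheaf.germ U η hU r : X.presheaf.stalk η)) (hS U a)
    simp only [map_prod] at this
    exact this
  by_cases hzero : ∀ (U : X.Opens) (hU : η ∈ U) (a : Γ(F, U)),
      (X.presheaf.germ U η hU (τ.app U a : Γ(X, U)) : X.presheaf.stalk η) = 0
  · refine ⟨1, one_pow d, fun U hU a => ?_⟩
    rw [hzero U hU a, mul_zero]
    have h1 := hprod U hU (fun _ => a)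
    simp only [Finset.prod_const, Finset.card_univ, Fintype.card_fin] at h1
    rw [hzero U hU a, zero_pow (Nat.pos_iff_ne_zero.mp hd)] at h1
    exact (pow_eq_zero_iff (Nat.pos_iff_ne_zero.mp hd)).mp h1.symm
  · push Not at hzero
    obtain ⟨U₀, hU₀, a₀, ha₀⟩ := hzero
    set t₀ : X.presheaf.stalk η := X.presheaf.germ U₀ η hU₀ (τ.app U₀ a₀ : Γ(X, U₀)) with ht₀
    set t₀' : X.presheaf.stalk η := X.presheaf.germ U₀ η hU₀ (τ'.app U₀ a₀ : Γ(X, U₀)) with ht₀'
    have hpow : t₀ ^ d = t₀' ^ d := by
      have h1 := hprod U₀ hU₀ (fun _ => a₀)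
      simp only [Finset.prod_const, Finset.card_univ, Fintype.card_fin] at h1
      exact h1
    have hx : (t₀' / t₀) ^ d = 1 := by
      rw [div_pow, ← hpow, div_self (pow_ne_zero d ha₀)]
    obtain ⟨ξ, hξ, hξx⟩ := exists_rootOfUnity_of_pow_eq_one (Curv2.stalkMap k X η) d hd _ hx
    refine ⟨ξ, hξ, fun U hU a => ?_⟩
    rw [hξx]
    -- restrict to U ⊓ U₀
    have hW : η ∈ U ⊓ U₀ := ⟨hU, hU₀⟩
    obtain ⟨d', rfl⟩ : ∃ d', d = d' + 1 := ⟨d - 1, by omega⟩
    let b : Fin (d' + 1) → Γ(F, U ⊓ U₀) := Fin.cons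
      (F.presheaf.map (homOfLE (inf_le_left : U ⊓ U₀ ≤ U)).op a)
      (fun _ => F.presheaf.map (homOfLE (inf_le_right : U ⊓ U₀ ≤ U₀)).op a₀)
    have h1 := hprod (U ⊓ U₀) hW b
    rw [Fin.prod_univ_succ, Fin.prod_univ_succ] at h1
    simp only [b, Fin.cons_zero, Fin.cons_succ, Finset.prod_const, Finset.card_univ,
      Fintype.card_fin] at h1
    rw [hres τ U (U ⊓ U₀) inf_le_left hW a, hres τ' U (U ⊓ U₀) inf_le_left hW a,
      hres τ U₀ (U ⊓ U₀) inf_le_right hW a₀, hres τ' U₀ (U ⊓ U₀) inf_le_right hW a₀] at h1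
    change _ * t₀ ^ d' = _ * t₀' ^ d' at h1
    have ht₀'ne : t₀' ≠ 0 := by
      intro h0
      rw [h0, zero_pow (Nat.succ_ne_zero d')] at hpow
      exact ha₀ ((pow_eq_zero_iff (Nat.succ_ne_zero d')).mp hpow)
    -- t' = t * t₀^d' / t₀'^d' = t * (t₀'/t₀)
    have h2 : t₀ ^ d' * t₀ = t₀' ^ d' * t₀' := by
      rw [← pow_succ, ← pow_succ]
      exact hpow
    have h3 : (X.presheaf.germ U η hU (τ'.app U a : Γ(X, U)) : X.presheaf.stalk η) * t₀' ^ d' * t₀ =
        (X.presheaf.germ U η hU (τ.app U a : Γ(X, U)) : X.presheaf.stalk η) * t₀' ^ d' * t₀' := by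
      rw [← h1, mul_assoc, h2, mul_assoc]
    have h4 : t₀' ^ d' ≠ 0 := pow_ne_zero d' ht₀'ne
    field_simp
    have h5 : (X.presheaf.germ U η hU (τ'.app U a : Γ(X, U)) : X.presheaf.stalk η) * t₀ =
        (X.presheaf.germ U η hU (τ.app U a : Γ(X, U)) : X.presheaf.stalk η) * t₀' := by
      apply mul_right_cancel₀ h4
      calc _ = (X.presheaf.germ U η hU (τ'.app U a : Γ(X, U)) : X.presheaf.stalk η) * t₀' ^ d' * t₀ := by
            ring
        _ = _ := h3
        _ = _ := by ring
    rw [h5]
    ring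

end Groth.Agent.S18912
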