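import Groth.Statements.S18915
import Groth.Agent.Lib.Helper80.PullbackFiniteType
import Groth.Agent.Lib.Helper80.ReducedDepth
import Groth.Agent.Lib.Helper80.FibreDimProd
import Groth.Agent.Lib.Helper80.UnitIsoDepth
import Groth.Agent.H46.DepthAlong
import Groth.Agent.H46.SmoothPairCodim
import Groth.Agent.Lib.Helper73.RegularNormal
import Groth.Agent.Lib.Helper45.IsolatedPoint

set_option autoImplicit false
universe u
open CategoryTheory CategoryTheory.Limits AlgebraicGeometry
open TFNodal

namespace Groth.Agent.S18915

/-- a closed point of an irreducible scheme of dimension one is not its generic point -/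
theorem genericPoint_ne_of_isClosed (C : Scheme.{u}) [IrreducibleSpace C]
    (hdimC : topologicalKrullDim C = 1) (c : C) (hc : IsClosed ({c} : Set C)) :
    genericPoint C ≠ c := by
  intro h
  have hall : ∀ c' : C, c' = c := by
    intro c'
    have h1 : genericPoint C ⤳ c' := genericPoint_specializes c'
    rw [h] at h1
    have : c' ∈ closure ({c} : Set C) := specializes_iff_mem_closure.mp h1
    rw [hc.closure_eq] at this
    exact this
  have hsub : Subsingleton C := ⟨fun a b => (hall a).trans (hall b).symm⟩
  have hsub' : Subsingleton (TopologicalSpace.IrreducibleCloseds C) := by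
    refine ⟨fun Z₁ Z₂ => TopologicalSpace.IrreducibleCloseds.ext ?_⟩
    exact (Z₁.isIrreducible'.nonempty.eq_univ).trans (Z₂.isIrreducible'.nonempty.eq_univ).symm
  have hle : topologicalKrullDim C ≤ 0 := by
    unfold topologicalKrullDim
    exact Order.krullDim_nonpos_of_subsingleton
  rw [hdimC] at hle
  exact absurd hle (by decide)

theorem aux (k : Type u) [Field k] {X C : Scheme.{u}} (a : X ⟶ Spec (CommRingCat.of k))
    (b : C ⟶ Spec (CommRingCat.of k)) [IsProper a] [AlgebraicGeometry.IsReduced X]
    (hpure : ∀ x : X, IsClosed ({x} : Set X) → ¬ IsOpen ({x} : Set X))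
    [Smooth b] [IrreducibleSpace C] (hdimC : topologicalKrullDim C = 1)
    (c : C) (hc : IsClosed ({c} : Set C))
    (Y : Set ↑(pullback a b))
    (hYcl : ∀ z ∈ Y, IsClosed ({z} : Set _))
    (hYc : ∀ z ∈ Y, (pullback.snd a b).base z = c)
    (U : (pullback a b).Opens) (hU : (U : Set _) = Yᶜ)
    (F : X.Modules) (hF : Coh.IsCoh F) (htF : TorSh.IsTorsionFree F) :
    IsIso ((Scheme.Modules.restrictAdjunction U.ι).unit.app
      ((Scheme.Modules.pullback (pullback.fst a b)).obj F)) := by
  have hNX : IsLocallyNoetherian X := LocallyOfFiniteType.isLocallyNoetherian a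
  have hNZ : IsLocallyNoetherian (pullback a b) :=
    LocallyOfFiniteType.isLocallyNoetherian (pullback.fst a b)
  have hJX : JacobsonSpace X := LocallyOfFiniteType.jacobsonSpace a
  have hG : Coh.IsCoh ((Scheme.Modules.pullback (pullback.fst a b)).obj F) :=
    Groth.Agent.Lib.Helper80.isCoh_pullback (pullback.fst a b) F hF
  refine Groth.Agent.Lib.Helper80.isIso_unit_of_depth _ hG U fun z hz => ?_
  have hzY : z ∈ Y := by
    by_contra hzY
    apply hz
    change z ∈ (U : Set _)
    rw [hU]
    exact hzY
  rw [Groth.Agent.H46.DepthAlong.depth_stalk_pullback (pullback.fst a b) F hF z]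
  -- the base term
  have h1 : (1 : ℕ∞) ≤ LocCoh.depth (X.presheaf.stalk ((pullback.fst a b) z))
      (F.presheaf.stalk ((pullback.fst a b) z)) := by
    have hx : IsClosed ({(pullback.fst a b) z} : Set X) :=
      (pullback.fst a b).closePoints_subset_preimage_closedPoints (hYcl z hzY)
    have hdim1 : (1 : WithBot ℕ∞) ≤ ringKrullDim (X.presheaf.stalk ((pullback.fst a b) z)) := by
      rw [ringKrullDim_stalk_eq_coheight]
      have hno : ¬ ∀ y : X, y ⤳ (pullback.fst a b) z → y = (pullback.fst a b) z := fun hgen =>
        hpure _ hx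
          (Groth.Agent.Lib.Helper45.IsolatedPoint.isOpen_singleton_of_isClosed_of_forall_specializes
            _ hx hgen)
      push_neg at hno
      obtain ⟨y, hy, hne⟩ := hno
      have hlt : (pullback.fst a b) z < y := by
        refine lt_iff_le_not_ge.mpr ⟨Scheme.le_iff_specializes.mpr hy, fun h => hne ?_⟩
        exact ((Scheme.le_iff_specializes.mp h).antisymm hy).eq.symm
      have h4 : Order.coheight y + 1 ≤ Order.coheight ((pullback.fst a b) z) :=
        Order.coheight_add_one_le hlt
      have h5 : (1 : ℕ∞) ≤ Order.coheight ((pullback.fst a b) z) := le_trans (by simp) h4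
      exact WithBot.coe_le_coe.mpr h5
    have := htF ((pullback.fst a b) z)
    exact Groth.Agent.Lib.Helper80.ReducedDepth.one_le_depth_of_isTorsionFree _ hdim1 _
  -- the fibre term
  have h2 : (1 : ℕ∞) ≤ LocCoh.depth ↑(CInt.fiberStalk (pullback.fst a b) z)
      ↑(CInt.fiberStalk (pullback.fst a b) z) := by
    have hreg := Groth.Agent.H46.SmoothPairCodim.isRegularLocalRing_fiberStalk (pullback.fst a b) z
    have hd := Groth.Agent.Lib.Helper73.RegularNormal.depth_self_of_isRegularLocalRing
      (CInt.fiberStalk (pullback.fst a b) z)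
    have hzc : (pullback.snd a b) z = c := hYc z hzY
    have hdimf := Groth.Agent.Lib.Helper80.FibreDimProd.one_le_dim_fiberStalk a b z
      (genericPoint C) (genericPoint_specializes _)
      (by rw [hzc]; exact genericPoint_ne_of_isClosed C hdimC c hc)
    rw [← hd] at hdimf
    exact WithBot.coe_le_coe.mp hdimf
  calc (2 : ℕ∞) = 1 + 1 := by norm_num
    _ ≤ _ := add_le_add h1 h2



/-- Let k be an algebraically closed field of characteristic zero, X a reduced proper curve over k (a
proper k-scheme of dimension one) without isolated points (no closed point is open, i.e. X is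
one-dimensional at every point), C a smooth irreducible k-scheme of dimension one and c a closed
point of C. Put Z = X ×_k C with projections p_X and p_C, let Y be a nonempty finite set of closed
points of Z lying over c, and let j : U → Z be the inclusion of the open complement of Y. Then for
every coherent torsion free O_X-module F (every stalk a torsion free module over the local ring),
the unit map p_X^* F → j_* j^* (p_X^* F) is an isomorphism. -/
theorem result
    (k : Type u) [Field k] [IsAlgClosed k] [CharZero k]
    (X : Scheme.{u}) [X.Over (Spec (CommRingCat.of k))] [IsProper (X ↘ Spec (CommRingCat.of k))]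
    [AlgebraicGeometry.IsReduced X] (hdim : topologicalKrullDim X = 1)
    (hpure : ∀ x : X, IsClosed ({x} : Set X) → ¬ IsOpen ({x} : Set X))
    (C : Scheme.{u}) [C.Over (Spec (CommRingCat.of k))] [Smooth (C ↘ Spec (CommRingCat.of k))]
    [IrreducibleSpace C] (hdimC : topologicalKrullDim C = 1)
    (c : C) (hc : IsClosed ({c} : Set C))
    (Y : Set ↑(pullback (X ↘ Spec (CommRingCat.of k)) (C ↘ Spec (CommRingCat.of k))))
    (hYfin : Y.Finite) (hYne : Y.Nonempty) (hYcl : ∀ z ∈ Y, IsClosed ({z} : Set _))
    (hYc : ∀ z ∈ Y, (pullback.snd (X ↘ Spec (CommRingCat.of k)) (C ↘ Spec (CommRingCat.of k))).base z = c)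
    (U : (pullback (X ↘ Spec (CommRingCat.of k)) (C ↘ Spec (CommRingCat.of k))).Opens)
    (hU : (U : Set _) = Yᶜ)
    (F : X.Modules) (hF : Coh.IsCoh F) (htF : TorSh.IsTorsionFree F) :
    IsIso ((Scheme.Modules.restrictAdjunction U.ι).unit.app
      ((Scheme.Modules.pullback (pullback.fst (X ↘ Spec (CommRingCat.of k)) (C ↘ Spec (CommRingCat.of k)))).obj F)) := by
  exact aux k (X ↘ Spec (CommRingCat.of k)) (C ↘ Spec (CommRingCat.of k)) hpure hdimC c hc Y hYcl hYc U hU F hF htF

end Groth.Agent.S18915
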