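import Groth.Statements.S18920
import Mathlib

set_option autoImplicit false
universe u
open CAlg

namespace Groth.Agent.S18920

/-- Let M be a commutative monoid, s ≥ 1, and ξ_1, …, ξ_s elements of M with ξ_i ^ (s!/i) = 1 for 1 ≤ i
≤ s (an (s!/i)-th root of unity for each i). Suppose that for every finitely supported function d on
{1, …, s} with Σ_i i · d_i = s! the product ∏_i ξ_i ^ d_i equals 1. Then ξ_1 ^ j = ξ_j for every 1 ≤
j ≤ s. (The source works with roots of unity in the complex numbers.) -/
theorem result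
    {M : Type u} [CommMonoid M] (s : ℕ) (hs : 1 ≤ s) (ξ : ℕ → M)
    (hξ : ∀ i : ℕ, 1 ≤ i → i ≤ s → ξ i ^ (s.factorial / i) = 1)
    (hprod : ∀ d : ℕ →₀ ℕ, (∀ i ∈ d.support, 1 ≤ i ∧ i ≤ s) →
      (d.sum fun i n => i * n) = s.factorial → (d.prod fun i n => ξ i ^ n) = 1)
    (j : ℕ) (hj : 1 ≤ j) (hjs : j ≤ s) :
    ξ 1 ^ j = ξ j := by
  classical
  have hjdvd : j ∣ s.factorial := Nat.dvd_factorial hj hjs
  have hq : 1 ≤ s.factorial / j := by
    apply Nat.div_pos (Nat.le_of_dvd (Nat.factorial_pos s) hjdvd) hj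
  set q := s.factorial / j with hqdef
  have hqj : j * q = s.factorial := Nat.mul_div_cancel' hjdvd
  let d : ℕ →₀ ℕ := Finsupp.single 1 j + Finsupp.single j (q - 1)
  have hsupp : ∀ i ∈ d.support, 1 ≤ i ∧ i ≤ s := by
    intro i hi
    have hi' := Finsupp.support_add hi
    rw [Finset.mem_union] at hi'
    rcases hi' with hi' | hi'
    · have := Finsupp.support_single_subset hi'
      rw [Finset.mem_singleton] at this
      subst this
      exact ⟨le_refl _, hs⟩
    · have := Finsupp.support_single_subset hi'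
      rw [Finset.mem_singleton] at this
      subst this
      exact ⟨hj, hjs⟩
  have hsum : (d.sum fun i n => i * n) = s.factorial := by
    rw [Finsupp.sum_add_index' (fun i => by simp) (fun i a b => by ring)]
    rw [Finsupp.sum_single_index (by simp), Finsupp.sum_single_index (by simp)]
    have : j * (q - 1) = j * q - j := by rw [Nat.mul_sub, mul_one]
    rw [this, hqj, one_mul]
    have : j ≤ s.factorial := Nat.le_of_dvd (Nat.factorial_pos s) hjdvd
    omega
  have hp := hprod d hsupp hsum
  rw [Finsupp.prod_add_index' (fun i => by simp) (fun i a b => by rw [pow_add])] at hp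
  rw [Finsupp.prod_single_index (by simp), Finsupp.prod_single_index (by simp)] at hp
  have hξj := hξ j hj hjs
  calc ξ 1 ^ j = ξ 1 ^ j * ξ j ^ q := by rw [hξj, mul_one]
    _ = ξ 1 ^ j * (ξ j ^ (q - 1) * ξ j) := by
        congr 1
        rw [← pow_succ]
        congr 1
        omega
    _ = (ξ 1 ^ j * ξ j ^ (q - 1)) * ξ j := by rw [mul_assoc]
    _ = ξ j := by rw [hp, one_mul]

end Groth.Agent.S18920
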