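import Mathlib
import Groth.Statements.S18927

set_option autoImplicit false
universe u v
open W4c6secantcecovers

namespace Groth.Agent.S18927

open TensorProduct

variable (R : Type u) [CommRing R] (r : ℕ)

lemma ιMulti_eq_zero_of_lt (n : ℕ) (h : r < n) :
    (ExteriorAlgebra.ιMulti R n :
      (Fin r → R) [⋀^Fin n]→ₗ[R] ExteriorAlgebra R (Fin r → R)) = 0 := by
  apply Module.Basis.ext_alternating (Pi.basisFun R (Fin r))
  intro v hv
  have := Fintype.card_le_of_injective v hv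
  simp at this
  omega

lemma contr_ιMulti_mul (j : Fin r) (n : ℕ) (e : Fin n → (Fin r → R))
    (η : ExteriorAlgebra R (Fin r → R)) :
    ssContr R r j (ExteriorAlgebra.ιMulti R n e * η) =
      ssContr R r j (ExteriorAlgebra.ιMulti R n e) * η +
        (-1 : R) ^ n • (ExteriorAlgebra.ιMulti R n e * ssContr R r j η) := by
  induction n with
  | zero =>
    simp [ExteriorAlgebra.ιMulti_zero_apply, ssContr]
  | succ n ih =>
    rw [ExteriorAlgebra.ιMulti_succ_apply, mul_assoc]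
    unfold ssContr at ih ⊢
    rw [CliffordAlgebra.contractLeft_ι_mul, CliffordAlgebra.contractLeft_ι_mul,
      ih (Matrix.vecTail e)]
    simp only [mul_add, sub_mul, smul_mul_assoc, mul_smul_comm, pow_succ, mul_assoc]
    module

variable (N : Type v) [AddCommGroup N] [Module R N]

lemma ssPair_tmul (β : N →ₗ[R] N →ₗ[R] R) (k : ℕ) (a b : SSB R r) (n m : N) :
    ssPair R r N β k (a ⊗ₜ[R] n) (b ⊗ₜ[R] m) =
      ((-1 : R) ^ (k.choose 2) * β n m) • (a * b) := by
  simp [ssPair, ssPairAux, mul_smul]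

lemma ssDelta_tmul (φ : Fin r → (N →ₗ[R] N)) (ω : SSLam R r) (s : MvPolynomial (Fin r) R)
    (n : N) :
    ssDelta R r N φ ((ω ⊗ₜ[R] s) ⊗ₜ[R] n) =
      ∑ j : Fin r, (((ssContr R r j ω) ⊗ₜ[R] (MvPolynomial.X j * s)) ⊗ₜ[R] n
         - ((ssContr R r j ω) ⊗ₜ[R] s) ⊗ₜ[R] (φ j n)) := by
  simp only [ssDelta, ssDKoszul, ssDAct, LinearMap.sum_apply, LinearMap.add_apply,
    LinearMap.smul_apply, TensorProduct.map_tmul, LinearMap.mulLeft_apply, LinearMap.id_apply,
    sub_eq_add_neg]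
  apply Finset.sum_congr rfl
  intro j _
  congr 1

theorem main
    (φ : Fin r → (N →ₗ[R] N)) (β : N →ₗ[R] N →ₗ[R] R)
    (hβ : ∀ (j : Fin r) (n m : N), β (φ j n) m = β n (φ j m))
    (k : ℕ) (hk : k < r)
    (e : Fin (k + 1) → (Fin r → R)) (f : Fin (r - k) → (Fin r → R))
    (s t : MvPolynomial (Fin r) R) (n m : N) :
    W4c6secantcecovers.ssPair R r N β k
        (W4c6secantcecovers.ssDelta R r N φ ((ExteriorAlgebra.ιMulti R (k + 1) e ⊗ₜ[R] s) ⊗ₜ[R] n))
        ((ExteriorAlgebra.ιMulti R (r - k) f ⊗ₜ[R] t) ⊗ₜ[R] m) =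
      W4c6secantcecovers.ssPair R r N β (k + 1)
        ((ExteriorAlgebra.ιMulti R (k + 1) e ⊗ₜ[R] s) ⊗ₜ[R] n)
        (W4c6secantcecovers.ssDelta R r N φ ((ExteriorAlgebra.ιMulti R (r - k) f ⊗ₜ[R] t) ⊗ₜ[R] m)) := by
  have hωη : ExteriorAlgebra.ιMulti R (k + 1) e * ExteriorAlgebra.ιMulti R (r - k) f = 0 := by
    rw [ExteriorAlgebra.ιMulti_mul_ιMulti, ιMulti_eq_zero_of_lt R r _ (by omega)]
    rfl
  have hkey : ∀ j : Fin r, ssContr R r j (ExteriorAlgebra.ιMulti R (k + 1) e) *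
      ExteriorAlgebra.ιMulti R (r - k) f =
      (-1 : R) ^ k • (ExteriorAlgebra.ιMulti R (k + 1) e *
        ssContr R r j (ExteriorAlgebra.ιMulti R (r - k) f)) := by
    intro j
    have h := contr_ιMulti_mul R r j (k + 1) e (ExteriorAlgebra.ιMulti R (r - k) f)
    rw [hωη, map_zero] at h
    rw [eq_comm, add_eq_zero_iff_eq_neg] at h
    rw [h, pow_succ, mul_neg_one, neg_smul, neg_neg]
  have hc : (k + 1).choose 2 = k.choose 2 + k := by
    rw [Nat.choose_succ_succ' k 1, Nat.choose_one_right, add_comm]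
  rw [ssDelta_tmul, ssDelta_tmul]
  simp only [map_sum, LinearMap.sum_apply, map_sub, LinearMap.sub_apply, ssPair_tmul,
    Algebra.TensorProduct.tmul_mul_tmul]
  apply Finset.sum_congr rfl
  intro j _
  have e1 : (MvPolynomial.X j * s) * t = s * (MvPolynomial.X j * t) := by ring
  rw [hkey j, hβ j n m, e1, ← TensorProduct.smul_tmul', ← TensorProduct.smul_tmul', smul_smul,
    smul_smul, hc, pow_add]
  congr 2 <;> ring


open TensorProduct in
/-- Let R be a commutative ring, E = R^r the free module with its coordinate basis, S = R[X_1, …, X_r]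
(the symmetric algebra of E), and N an R-module carrying R-linear operators φ_j (the action of the
j-th basis vector of E) and an R-bilinear form β with β(φ_j n, m) = β(n, φ_j m) for every j. On (ΛE
⊗ S) ⊗ N — all terms Λ^k(S ⊗ E) ⊗ N of the Scheja–Storch complex at once — let δ be the differential
sending (e_1 ∧ ⋯ ∧ e_k) ⊗ s ⊗ n to Σ_i (-1)^(i-1) (e_1 ∧ ⋯ ê_i ⋯ ∧ e_k) ⊗ x(e_i) s ⊗ n + Σ_i (-1)^i
(e_1 ∧ ⋯ ê_i ⋯ ∧ e_k) ⊗ s ⊗ e_i · n, and pair a term u = ω ⊗ s ⊗ n of degree k with v = η ⊗ t ⊗ m by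
⟨u, v⟩_k = (-1)^(k choose 2) β(n, m) · (ω ∧ η) ⊗ s t. Then the differential is adjoint to itself for
this pairing in complementary degrees: for u = (e_0 ∧ ⋯ ∧ e_k) ⊗ s ⊗ n of degree k + 1 ≤ r and v =
(f_1 ∧ ⋯ ∧ f_(r-k)) ⊗ t ⊗ m of degree r - k, ⟨δ u, v⟩_k = ⟨u, δ v⟩_(k+1). (The source takes E
finitely generated projective and N a module over the ambient algebra with a pairing satisfying ⟨f,
g h⟩ = ⟨g f, h⟩; the proof runs on a basis, which is the form stated here, with the action of E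
recorded by the operators φ_j.) -/
theorem result
    (R : Type u) [CommRing R] (r : ℕ) (N : Type v) [AddCommGroup N] [Module R N]
    (φ : Fin r → (N →ₗ[R] N)) (β : N →ₗ[R] N →ₗ[R] R)
    (hβ : ∀ (j : Fin r) (n m : N), β (φ j n) m = β n (φ j m))
    (k : ℕ) (hk : k < r)
    (e : Fin (k + 1) → (Fin r → R)) (f : Fin (r - k) → (Fin r → R))
    (s t : MvPolynomial (Fin r) R) (n m : N) :
    W4c6secantcecovers.ssPair R r N β k
        (W4c6secantcecovers.ssDelta R r N φ ((ExteriorAlgebra.ιMulti R (k + 1) e ⊗ₜ[R] s) ⊗ₜ[R] n))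
        ((ExteriorAlgebra.ιMulti R (r - k) f ⊗ₜ[R] t) ⊗ₜ[R] m) =
      W4c6secantcecovers.ssPair R r N β (k + 1)
        ((ExteriorAlgebra.ιMulti R (k + 1) e ⊗ₜ[R] s) ⊗ₜ[R] n)
        (W4c6secantcecovers.ssDelta R r N φ ((ExteriorAlgebra.ιMulti R (r - k) f ⊗ₜ[R] t) ⊗ₜ[R] m)) := by
  exact main R r N φ β hβ k hk e f s t n m

end Groth.Agent.S18927
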