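import Groth.Statements.S18928
import Mathlib

set_option autoImplicit false
universe u
open DPow

namespace Groth.Agent.S18928

/-- Let B be a commutative ring, I an ideal of B with a divided power structure, p a prime, r a natural
number, b an element of B and δ an element of I. Then (b + δ)^(p^r) − b^(p^r) lies in the ideal p^r
I. (The source states this for a divided power thickening over the Witt vectors of length n and 0 ≤
r ≤ n; neither restriction is used.) -/
theorem result {B : Type u} [CommRing B] {I : Ideal B}
    (hI : DividedPowers I) (p : ℕ) [Fact p.Prime] (r : ℕ) (b δ : B) (hδ : δ ∈ I) :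
    (b + δ) ^ (p ^ r) - b ^ (p ^ r) ∈ Ideal.span {((p : B) ^ r)} * I := by
  have hpN : ((p : B) ^ r) = ((p ^ r : ℕ) : B) := by push_cast; rfl
  set N := p ^ r with hN
  have hNpos : 0 < N := pow_pos (Fact.out : p.Prime).pos r
  have hterm : ∀ m, m < N →
      b ^ m * δ ^ (N - m) * (N.choose m : B) ∈ Ideal.span {((p : B) ^ r)} * I := by
    intro m hm
    have hi : N - m ≠ 0 := by omega
    have h1 : δ ^ (N - m) = ((N - m).factorial : B) * hI.dpow (N - m) δ :=
      (hI.factorial_mul_dpow_eq_pow hδ).symm
    have h2 : (N.choose m) * (N - m).factorial = N * (N - 1).descFactorial (N - m - 1) := by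
      have e1 : N.choose m = N.choose (N - m) := (Nat.choose_symm hm.le).symm
      have e2 := Nat.descFactorial_eq_factorial_mul_choose N (N - m)
      have e3 : N.descFactorial (N - m) = N * (N - 1).descFactorial (N - m - 1) := by
        have gen : ∀ N m : ℕ, m < N →
            N.descFactorial (N - m) = N * (N - 1).descFactorial (N - m - 1) := by
          intro N m hm
          obtain ⟨N', rfl⟩ : ∃ N', N = N' + 1 := ⟨N - 1, by omega⟩
          obtain ⟨k, hk⟩ : ∃ k, N' + 1 - m = k + 1 := ⟨N' + 1 - m - 1, by omega⟩
          rw [hk, Nat.succ_descFactorial_succ]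
          simp
        exact gen N m hm
      rw [e1, mul_comm, ← e2, e3]
    have h2' := congrArg (Nat.cast : ℕ → B) h2
    push_cast at h2'
    have : b ^ m * δ ^ (N - m) * (N.choose m : B) =
        ((p : B) ^ r) * (b ^ m * ((N - 1).descFactorial (N - m - 1) : B) * hI.dpow (N - m) δ) := by
      rw [h1, hpN]
      linear_combination (b ^ m * hI.dpow (N - m) δ) * h2'
    rw [this]
    exact Ideal.mul_mem_mul (Ideal.mem_span_singleton_self _)
      (I.mul_mem_left _ (hI.dpow_mem hi hδ))
  rw [add_pow, Finset.sum_range_succ]
  simp only [Nat.sub_self, pow_zero, mul_one, Nat.choose_self, Nat.cast_one, add_sub_cancel_right]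
  exact Ideal.sum_mem _ (fun m hm => hterm m (Finset.mem_range.mp hm))

end Groth.Agent.S18928
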