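import Groth.Statements.S18929
import Mathlib
import Groth.Agent.S18928

set_option autoImplicit false
universe u
open DPow

namespace Groth.Agent.S18929

open WittVector in
/-- the `n`-th ghost component when `p ^ n = 0` -/
theorem ghost_eq (p : ℕ) [Fact p.Prime] (n : ℕ) {B : Type*} [CommRing B] (hp : (p : B) ^ n = 0)
    (x : WittVector p B) :
    WittVector.ghostComponent n x = ∑ i : Fin n, (p : B) ^ (i : ℕ) * (x.coeff i) ^ (p ^ (n - i)) := by
  rw [WittVector.ghostComponent_apply, wittPolynomial_eq_sum_C_mul_X_pow, map_sum,
    Finset.sum_range_succ]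
  simp only [map_mul, map_pow, MvPolynomial.aeval_C, MvPolynomial.aeval_X, Nat.sub_self, pow_zero,
    pow_one]
  rw [Finset.sum_range]
  have hpB : (algebraMap ℤ B) (p : ℤ) = (p : B) := map_natCast _ p
  rw [hpB, hp, zero_mul, add_zero]


/-- Let p be a prime, n a natural number, B a commutative ring in which p^n = 0, and I an ideal of B
equipped with divided powers. There is a ring homomorphism θ from the truncated Witt vectors
W_n(B/I) to B such that, for every Witt vector x over B, θ applied to the truncation of the image of
x in W_n(B/I) equals Σ_{i<n} p^i x_i^(p^(n−i)); in particular this sum depends only on the residues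
of x_0, …, x_{n−1} modulo I. (The source works with a divided power thickening of an algebra over a
perfect field and also checks linearity over the Witt vectors of that field; only the ring
homomorphism is asserted here. θ is unique, the truncation-of-reduction map being surjective.) -/
theorem result (p : ℕ) [Fact p.Prime] (n : ℕ)
    {B : Type u} [CommRing B] (hp : (p : B) ^ n = 0) {I : Ideal B} (hI : DividedPowers I) :
    ∃ θ : TruncatedWittVector p n (B ⧸ I) →+* B, ∀ x : WittVector p B, θ (WittVector.truncate n (WittVector.map (Ideal.Quotient.mk I) x)) =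
        ∑ i : Fin n, (p : B) ^ (i : ℕ) * (x.coeff i) ^ (p ^ (n - i)) := by
  let g : WittVector p B →+* B := WittVector.ghostComponent n
  let π : WittVector p B →+* TruncatedWittVector p n (B ⧸ I) :=
    (WittVector.truncate n).comp (WittVector.map (Ideal.Quotient.mk I))
  have hπsurj : Function.Surjective π :=
    (WittVector.truncate_surjective p n (B ⧸ I)).comp
      (WittVector.map_surjective _ Ideal.Quotient.mk_surjective)
  have hker : RingHom.ker π ≤ RingHom.ker g := by
    intro x hx
    rw [RingHom.mem_ker] at hx ⊢
    have hx' : ∀ i < n, x.coeff i ∈ I := by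
      intro i hi
      have h1 : (WittVector.map (Ideal.Quotient.mk I) x) ∈ RingHom.ker (WittVector.truncate (p := p) n) := hx
      rw [WittVector.mem_ker_truncate] at h1
      have := h1 i hi
      rw [WittVector.map_coeff] at this
      exact Ideal.Quotient.eq_zero_iff_mem.mp this
    change WittVector.ghostComponent n x = 0
    rw [ghost_eq p n hp]
    apply Finset.sum_eq_zero
    intro i _
    have h1 := Groth.Agent.S18928.result hI p (n - i) 0 (x.coeff i) (hx' i i.2)
    have hpos : p ^ (n - (i : ℕ)) ≠ 0 := pow_ne_zero _ (Fact.out : p.Prime).pos.ne'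
    rw [zero_add, zero_pow hpos, sub_zero] at h1
    -- h1 : x_i ^ p^(n-i) ∈ span {p^(n-i)} * I
    have h2 : (p : B) ^ (i : ℕ) * (x.coeff i) ^ (p ^ (n - i)) ∈ Ideal.span {((p : B) ^ n)} * I := by
      have h3 : (p : B) ^ (i : ℕ) * (x.coeff i) ^ (p ^ (n - i)) ∈
          Ideal.span {(p : B) ^ (i : ℕ)} * (Ideal.span {((p : B) ^ (n - i))} * I) :=
        Ideal.mul_mem_mul (Ideal.mem_span_singleton_self _) h1
      rw [← mul_assoc, Ideal.span_singleton_mul_span_singleton, ← pow_add] at h3
      have : (i : ℕ) + (n - i) = n := by have := i.2; omega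
      rw [this] at h3
      exact h3
    rw [hp] at h2
    simpa using h2
  let θ : TruncatedWittVector p n (B ⧸ I) →+* B :=
    RingHom.liftOfRightInverse π (Function.surjInv hπsurj) (Function.rightInverse_surjInv hπsurj) ⟨g, hker⟩
  refine ⟨θ, ?_⟩
  intro x
  have h1 : θ (π x) = g x :=
    RingHom.liftOfRightInverse_comp_apply π (Function.surjInv hπsurj) (Function.rightInverse_surjInv hπsurj) ⟨g, hker⟩ x
  change θ (π x) = _
  rw [h1]
  exact ghost_eq p n hp x

end Groth.Agent.S18929
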