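import Groth.Statements.S18930
import Mathlib

set_option autoImplicit false
universe u
open DPow

namespace Groth.Agent.S18930

/-- Let p be a prime, n ≥ 1, B a commutative ring with p^n = 0 and A = B/pB. Let θ : W_n(A) → B be the
ring homomorphism which sends the reduction of a Witt vector (x_0, …, x_{n−1}) over B to Σ_{i<n} p^i
x_i^(p^(n−i)), let J_n be its kernel and let I_n be the set of a in W_n(A) whose zeroth component
satisfies a_0^(p^n) = 0. Then J_n + (p) ⊆ I_n. (In the source B is the ring of global sections of a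
scheme over the Witt vectors of length n of a perfect field.) -/
theorem result (p : ℕ) [Fact p.Prime] (n : ℕ) (hn : 0 < n)
    {B : Type u} [CommRing B] (hp : (p : B) ^ n = 0)
    (θ : TruncatedWittVector p n (B ⧸ (Ideal.span {(p : B)})) →+* B)
    (hθ : ∀ x : WittVector p B, θ (WittVector.truncate n (WittVector.map (Ideal.Quotient.mk (Ideal.span {(p : B)})) x)) =
        ∑ i : Fin n, (p : B) ^ (i : ℕ) * (x.coeff i) ^ (p ^ (n - i)))
    (a : TruncatedWittVector p n (B ⧸ (Ideal.span {(p : B)})))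
    (ha : a ∈ RingHom.ker θ ⊔ Ideal.span {(p : TruncatedWittVector p n (B ⧸ (Ideal.span {(p : B)})))}) :
    (TruncatedWittVector.coeff ⟨0, hn⟩ a) ^ (p ^ n) = 0 := by
  have hpA : ((p : ℕ) : B ⧸ Ideal.span {(p : B)}) = 0 := by
    have : ((p : ℕ) : B ⧸ Ideal.span {(p : B)}) = Ideal.Quotient.mk (Ideal.span {(p : B)}) (p : B) := by simp
    rw [this, Ideal.Quotient.eq_zero_iff_mem]
    exact Ideal.mem_span_singleton_self _
  obtain ⟨j, hj, q, hq, rfl⟩ := Submodule.mem_sup.mp ha
  obtain ⟨c, rfl⟩ := Ideal.mem_span_singleton'.mp hq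
  -- lift j to a Witt vector over B, c to a Witt vector over A
  have hπsurj : Function.Surjective ((WittVector.truncate n).comp (WittVector.map (Ideal.Quotient.mk (Ideal.span {(p : B)}))) :
      WittVector p B →+* TruncatedWittVector p n (B ⧸ Ideal.span {(p : B)})) :=
    (WittVector.truncate_surjective p n (B ⧸ Ideal.span {(p : B)})).comp
      (WittVector.map_surjective _ Ideal.Quotient.mk_surjective)
  obtain ⟨x, hx⟩ := hπsurj j
  obtain ⟨cA, hcA⟩ := WittVector.truncate_surjective p n (B ⧸ Ideal.span {(p : B)}) c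
  simp only [RingHom.comp_apply] at hx
  -- the zeroth coefficient of j + c * p
  have h0 : TruncatedWittVector.coeff ⟨0, hn⟩ (j + c * (p : TruncatedWittVector p n (B ⧸ Ideal.span {(p : B)}))) =
      Ideal.Quotient.mk (Ideal.span {(p : B)}) (x.coeff 0) := by
    have e1 : j + c * (p : TruncatedWittVector p n (B ⧸ Ideal.span {(p : B)})) =
        WittVector.truncate n (WittVector.map (Ideal.Quotient.mk (Ideal.span {(p : B)})) x + cA * (p : WittVector p (B ⧸ Ideal.span {(p : B)}))) := by
      rw [map_add, map_mul, hx, hcA, map_natCast]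
    rw [e1, WittVector.coeff_truncate]
    have e2 : ∀ w : WittVector p (B ⧸ Ideal.span {(p : B)}), w.coeff 0 = WittVector.constantCoeff w := fun w => rfl
    rw [e2, map_add, map_mul, map_natCast, hpA, mul_zero, add_zero]
    rfl
  rw [h0]
  -- use θ j = 0
  have hθj : θ j = 0 := hj
  rw [← hx, hθ] at hθj
  obtain ⟨m, rfl⟩ : ∃ m, n = m + 1 := ⟨n - 1, by omega⟩
  rw [Fin.sum_univ_succ] at hθj
  simp only [Fin.val_zero, pow_zero, one_mul, Nat.sub_zero, Fin.val_succ] at hθj
  rw [← map_pow, Ideal.Quotient.eq_zero_iff_mem]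
  have h1 : x.coeff 0 ^ p ^ (m + 1) = -∑ i : Fin m, (p : B) ^ ((i : ℕ) + 1) * x.coeff ((i : ℕ) + 1) ^ p ^ (m + 1 - ((i : ℕ) + 1)) := by
    rw [eq_neg_iff_add_eq_zero]
    exact hθj
  rw [h1]
  apply Ideal.neg_mem_iff _ |>.mpr
  apply Ideal.sum_mem
  intro i _
  rw [pow_succ, mul_comm ((p : B) ^ (i : ℕ)), mul_assoc]
  exact Ideal.mul_mem_right _ _ (Ideal.mem_span_singleton_self _)

end Groth.Agent.S18930
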