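import Groth.Statements.S18931
import Mathlib
import Groth.Agent.Lib.Helper94.WittTheta

set_option autoImplicit false
universe u
open DPow

namespace Groth.Agent.S18931

/-- Let p be a prime, n ≥ 1, B a commutative ring with p^n = 0 and A = B/pB, and assume that the p-th
power map of A is surjective. Let θ : W_n(A) → B be the ring homomorphism which sends the reduction
of a Witt vector (x_0, …, x_{n−1}) over B to Σ_{i<n} p^i x_i^(p^(n−i)). Then every a in W_n(A) with
a_0^(p^n) = 0 lies in ker θ + (p); together with the reverse inclusion, ker θ + (p) is exactly the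
set of such a. (In the source B is the ring of global sections of a scheme over the Witt vectors of
length n of a perfect field. The printed argument subtracts a single correction term, which suffices
for n ≤ 2; in general one corrects the components one at a time.) -/
theorem result (p : ℕ) [Fact p.Prime]
    (n : ℕ) (hn : 0 < n) {B : Type u} [CommRing B] (hp : (p : B) ^ n = 0)
    (hF : Function.Surjective (fun y : B ⧸ (Ideal.span {(p : B)}) => y ^ p))
    (θ : TruncatedWittVector p n (B ⧸ (Ideal.span {(p : B)})) →+* B)
    (hθ : ∀ x : WittVector p B, θ (WittVector.truncate n (WittVector.map (Ideal.Quotient.mk (Ideal.span {(p : B)})) x)) =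
        ∑ i : Fin n, (p : B) ^ (i : ℕ) * (x.coeff i) ^ (p ^ (n - i)))
    (a : TruncatedWittVector p n (B ⧸ (Ideal.span {(p : B)}))) (ha : (TruncatedWittVector.coeff ⟨0, hn⟩ a) ^ (p ^ n) = 0) :
    a ∈ RingHom.ker θ ⊔ Ideal.span {(p : TruncatedWittVector p n (B ⧸ (Ideal.span {(p : B)})))} := by
  classical
  rcases subsingleton_or_nontrivial B with hB | hB
  · -- trivial case
    have : a = 0 := by
      ext i
      exact Subsingleton.elim _ _
    rw [this]
    exact Submodule.zero_mem _
  · have hp2 : (p : B) ∈ nonunits B := by
      intro hu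
      have := hu.pow n
      rw [hp] at this
      exact not_isUnit_zero this
    haveI : CharP (B ⧸ Ideal.span {(p : B)}) p := CharP.quotient B p hp2
    -- lift a to a Witt vector over A
    obtain ⟨aW, haW⟩ := WittVector.truncate_surjective p n (B ⧸ Ideal.span {(p : B)}) a
    obtain ⟨x₀, hx₀⟩ := Ideal.Quotient.mk_surjective (aW.coeff 0)
    have ha0 : TruncatedWittVector.coeff ⟨0, hn⟩ a = aW.coeff 0 := by
      rw [← haW, WittVector.coeff_truncate]
    rw [ha0, ← hx₀, ← map_pow, Ideal.Quotient.eq_zero_iff_mem, Ideal.mem_span_singleton'] at ha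
    obtain ⟨t₀, ht₀⟩ := ha
    obtain ⟨x', t', hx', hb⟩ := Groth.Agent.Lib.Helper94.approx p n hF (0 : B) (n - 1) 1 rfl hn
      (fun _ => x₀) (-t₀) (by
        rw [Finset.sum_range_one]
        simp only [pow_zero, one_mul, Nat.sub_zero, pow_one]
        linear_combination ht₀)
    rw [hp, zero_mul, add_zero, Finset.sum_range] at hb
    let jW : WittVector p (B ⧸ Ideal.span {(p : B)}) :=
      WittVector.map (Ideal.Quotient.mk (Ideal.span {(p : B)})) (WittVector.mk p x')
    have hj : WittVector.truncate n jW ∈ RingHom.ker θ := by
      rw [RingHom.mem_ker, hθ]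
      exact hb.symm
    -- w = aW - jW has zeroth coefficient 0
    let w := aW - jW
    have e2 : ∀ v : WittVector p (B ⧸ Ideal.span {(p : B)}), v.coeff 0 = WittVector.constantCoeff v := fun v => rfl
    have hw0 : w.coeff 0 = 0 := by
      rw [e2, map_sub, ← e2, ← e2, ← hx₀]
      change _ - Ideal.Quotient.mk _ (x' 0) = 0
      rw [hx' 0 (by omega), sub_self]
    -- take p-th roots of the higher coefficients
    choose r hr using hF
    simp only at hr
    let w'' : WittVector p (B ⧸ Ideal.span {(p : B)}) := WittVector.mk p (fun i => r (w.coeff (i + 1)))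
    have hww : w = w'' * (p : WittVector p (B ⧸ Ideal.span {(p : B)})) := by
      ext i
      cases i with
      | zero => rw [hw0, WittVector.mul_charP_coeff_zero]
      | succ i =>
        rw [WittVector.mul_charP_coeff_succ]
        change _ = (r (w.coeff (i + 1))) ^ p
        rw [hr]
    have hsplit : a = WittVector.truncate n jW + WittVector.truncate n w'' * (p : TruncatedWittVector p n (B ⧸ Ideal.span {(p : B)})) := by
      have : (p : TruncatedWittVector p n (B ⧸ Ideal.span {(p : B)})) =
          WittVector.truncate n (p : WittVector p (B ⧸ Ideal.span {(p : B)})) := (map_natCast _ p).symm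
      rw [this, ← map_mul, ← hww, ← map_add, ← haW]
      congr 1
      simp [w]
    rw [hsplit]
    exact Submodule.add_mem_sup hj (Ideal.mul_mem_left _ _ (Ideal.mem_span_singleton_self _))

end Groth.Agent.S18931
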