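import Groth.Statements.S18933
import Groth.Agent.Lib.Helper94.Syntomic
import Mathlib

set_option autoImplicit false
universe u
open Synt

namespace Groth.Agent.S18933

open MvPolynomial

section
variable (m p : ℕ) (hp : 0 < p)

/-- Euclidean division of exponent vectors -/
noncomputable def sigmaEquiv : (Σ _ : (Fin m → Fin p), (Fin m →₀ ℕ)) ≃ (Fin m →₀ ℕ) where
  toFun x := Finsupp.equivFunOnFinite.symm (fun i => p * x.2 i + (x.1 i : ℕ))
  invFun e := ⟨fun i => ⟨e i % p, Nat.mod_lt _ hp⟩, Finsupp.equivFunOnFinite.symm (fun i => e i / p)⟩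
  left_inv := by
    rintro ⟨r, d⟩
    have h1 : ∀ i, (p * d i + (r i : ℕ)) % p = r i := by
      intro i
      rw [Nat.mul_add_mod, Nat.mod_eq_of_lt (r i).isLt]
    have h2 : ∀ i, (p * d i + (r i : ℕ)) / p = d i := by
      intro i
      rw [Nat.mul_add_div hp, Nat.div_eq_of_lt (r i).isLt, add_zero]
    ext i
    · simp [h1]
    · simp [h2]
  right_inv := by
    intro e
    ext i
    simp [Nat.div_add_mod]

theorem sigmaEquiv_apply (r : Fin m → Fin p) (d : Fin m →₀ ℕ) (i : Fin m) :
    sigmaEquiv m p hp ⟨r, d⟩ i = p * d i + (r i : ℕ) := rfl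

theorem sigmaEquiv_add (r : Fin m → Fin p) (d e : Fin m →₀ ℕ) :
    sigmaEquiv m p hp ⟨r, d + e⟩ = sigmaEquiv m p hp ⟨r, d⟩ + p • e := by
  ext i
  simp only [sigmaEquiv_apply, Finsupp.coe_add, Pi.add_apply, Finsupp.coe_smul, Pi.smul_apply,
    smul_eq_mul]
  ring

end
section
variable {m p : ℕ} (hp : 0 < p) {A : Type u} [CommRing A]

/-- the `A`-linear equivalence given by Euclidean division of exponents -/
noncomputable def psiA : ((Fin m → Fin p) →₀ MvPolynomial (Fin m) A) ≃ₗ[A] MvPolynomial (Fin m) A :=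
  (Finsupp.basis (fun _ : (Fin m → Fin p) => MvPolynomial.basisMonomials (Fin m) A)).equiv
    (MvPolynomial.basisMonomials (Fin m) A) (sigmaEquiv m p hp)

theorem psiA_single (r : Fin m → Fin p) (d : Fin m →₀ ℕ) :
    psiA hp (Finsupp.single r (monomial d (1 : A))) = monomial (sigmaEquiv m p hp ⟨r, d⟩) 1 := by
  have := (Finsupp.basis (fun _ : (Fin m → Fin p) => MvPolynomial.basisMonomials (Fin m) A)).equiv_apply
    ⟨r, d⟩ (MvPolynomial.basisMonomials (Fin m) A) (sigmaEquiv m p hp)
  simpa only [psiA, Finsupp.coe_basis, MvPolynomial.coe_basisMonomials] using this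


theorem psiA_X_smul (i : Fin m) (x : (Fin m → Fin p) →₀ MvPolynomial (Fin m) A) :
    psiA hp ((X i : MvPolynomial (Fin m) A) • x) = X i ^ p * psiA hp x := by
  have key : (psiA hp).toLinearMap ∘ₗ
      ((LinearMap.lsmul (MvPolynomial (Fin m) A) ((Fin m → Fin p) →₀ MvPolynomial (Fin m) A)
        (X i)).restrictScalars A) =
      (LinearMap.mulLeft A (X i ^ p : MvPolynomial (Fin m) A)) ∘ₗ (psiA (A := A) hp).toLinearMap := by
    apply (Finsupp.basis (fun _ : (Fin m → Fin p) => MvPolynomial.basisMonomials (Fin m) A)).ext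
    rintro ⟨r, d⟩
    simp only [Finsupp.coe_basis, MvPolynomial.coe_basisMonomials, LinearMap.coe_comp,
      LinearEquiv.coe_coe, Function.comp_apply, LinearMap.coe_restrictScalars,
      LinearMap.lsmul_apply, Finsupp.smul_single, smul_eq_mul, LinearMap.mulLeft_apply]
    have e1 : (X i : MvPolynomial (Fin m) A) * monomial d 1 = monomial (d + Finsupp.single i 1) 1 := by
      rw [monomial_add_single, pow_one, mul_comm]
    have e2 : p • (Finsupp.single i 1 : Fin m →₀ ℕ) = Finsupp.single i p := by
      rw [Finsupp.smul_single, smul_eq_mul, mul_one]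
    rw [e1, psiA_single, psiA_single, sigmaEquiv_add, e2, monomial_add_single, mul_comm]
  exact LinearMap.congr_fun key x

variable (φ : MvPolynomial (Fin m) A →ₐ[A] MvPolynomial (Fin m) A)
  (hφ : ∀ i : Fin m, φ (X i) = X i ^ p)

include hφ in
theorem psiA_smul (f : MvPolynomial (Fin m) A) :
    ∀ x : (Fin m → Fin p) →₀ MvPolynomial (Fin m) A, psiA hp (f • x) = φ f * psiA hp x := by
  induction f using MvPolynomial.induction_on with
  | C a =>
    intro x
    rw [← MvPolynomial.algebraMap_eq, algebraMap_smul, map_smul, AlgHom.commutes,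
      MvPolynomial.algebraMap_eq, MvPolynomial.C_mul']
  | add f g hf hg =>
    intro x
    rw [add_smul, map_add, hf, hg, map_add, add_mul]
  | mul_X f i hf =>
    intro x
    rw [mul_smul, hf, psiA_X_smul, map_mul, hφ, mul_assoc]

/-- the target copy of the polynomial ring, an algebra over the source through `φ` -/
def Tgt (_ : MvPolynomial (Fin m) A →ₐ[A] MvPolynomial (Fin m) A) : Type u :=
  MvPolynomial (Fin m) A

noncomputable instance : CommRing (Tgt φ) := inferInstanceAs (CommRing (MvPolynomial (Fin m) A))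

noncomputable instance : Algebra (MvPolynomial (Fin m) A) (Tgt φ) := φ.toRingHom.toAlgebra

theorem tgt_smul_def (f : MvPolynomial (Fin m) A) (y : Tgt φ) :
    f • y = (show MvPolynomial (Fin m) A from φ f * (show MvPolynomial (Fin m) A from y)) := rfl

/-- the linear equivalence exhibiting freeness -/
noncomputable def psiR : ((Fin m → Fin p) →₀ MvPolynomial (Fin m) A) ≃ₗ[MvPolynomial (Fin m) A] Tgt φ where
  toFun := psiA hp
  invFun := (psiA hp).symm
  left_inv := (psiA hp).left_inv
  right_inv := (psiA hp).right_inv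
  map_add' := (psiA hp).map_add
  map_smul' f x := psiA_smul hp φ hφ f x

end

section
variable {m p : ℕ} {A : Type u} [CommRing A]
variable (φ : MvPolynomial (Fin m) A →ₐ[A] MvPolynomial (Fin m) A)
  (hφ : ∀ i : Fin m, φ (X i) = X i ^ p)

/-- the identity, as a ring isomorphism from the target copy -/
noncomputable def tgtEquiv : Tgt φ ≃+* MvPolynomial (Fin m) A := RingEquiv.refl _

/-- the variables of the target -/
noncomputable def tgtX (i : Fin m) : Tgt φ := (tgtEquiv φ).symm (X i)

theorem algebraMap_tgt (f : MvPolynomial (Fin m) A) :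
    algebraMap (MvPolynomial (Fin m) A) (Tgt φ) f = (tgtEquiv φ).symm (φ f) := rfl

theorem phi_C (a : A) : φ (C a) = C a := by
  rw [← MvPolynomial.algebraMap_eq, AlgHom.commutes]

theorem aeval_tgtX_map_C (y : MvPolynomial (Fin m) A) :
    aeval (R := MvPolynomial (Fin m) A) (tgtX φ)
      (MvPolynomial.map (C : A →+* MvPolynomial (Fin m) A) y) = (tgtEquiv φ).symm y := by
  induction y using MvPolynomial.induction_on with
  | C a =>
    rw [map_C, aeval_C, algebraMap_tgt, phi_C]
  | add f g hf hg =>
    rw [map_add, map_add, hf, hg, map_add]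
  | mul_X f i hf =>
    rw [map_mul, map_mul, hf, map_X, aeval_X, map_mul]
    rfl

/-- the generators -/
noncomputable def tgtGenerators : Algebra.Generators (MvPolynomial (Fin m) A) (Tgt φ) (Fin m) :=
  Algebra.Generators.ofSurjective (tgtX φ) (fun y =>
    ⟨MvPolynomial.map (C : A →+* MvPolynomial (Fin m) A) (tgtEquiv φ y), by
      rw [aeval_tgtX_map_C, RingEquiv.symm_apply_apply]⟩)

/-- the relations -/
noncomputable def tgtRel (p : ℕ) (i : Fin m) : MvPolynomial (Fin m) (MvPolynomial (Fin m) A) :=
  X i ^ p - C (X i)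

include hφ in
theorem aeval_tgtRel (i : Fin m) :
    aeval (R := MvPolynomial (Fin m) A) (tgtX φ) (tgtRel p i) = 0 := by
  rw [tgtRel, map_sub, map_pow, aeval_X, aeval_C, algebraMap_tgt, hφ, tgtX, ← map_pow, sub_self]

/-- the ideal of relations -/
noncomputable def relIdeal (m p : ℕ) (A : Type u) [CommRing A] :
    Ideal (MvPolynomial (Fin m) (MvPolynomial (Fin m) A)) :=
  Ideal.span (Set.range (tgtRel (A := A) (m := m) p))

/-- auxiliary ring hom from the target to the quotient by the relations -/
noncomputable def tauHom (m p : ℕ) (A : Type u) [CommRing A] : MvPolynomial (Fin m) A →+*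
    (MvPolynomial (Fin m) (MvPolynomial (Fin m) A) ⧸ relIdeal m p A) :=
  eval₂Hom ((Ideal.Quotient.mk (relIdeal m p A)).comp
      ((C : MvPolynomial (Fin m) A →+* MvPolynomial (Fin m) (MvPolynomial (Fin m) A)).comp C))
    (fun i => Ideal.Quotient.mk (relIdeal m p A) (X i))

theorem tauHom_X (i : Fin m) : tauHom m p A (X i) = Ideal.Quotient.mk (relIdeal m p A) (X i) := by
  rw [tauHom, coe_eval₂Hom, eval₂_X]

theorem tauHom_C (a : A) : tauHom m p A (C a) = Ideal.Quotient.mk (relIdeal m p A) (C (C a)) := by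
  rw [tauHom, coe_eval₂Hom, eval₂_C]
  rfl

include hφ in
theorem tau_phi (f : MvPolynomial (Fin m) A) :
    tauHom m p A (φ f) = Ideal.Quotient.mk (relIdeal m p A) (C f) := by
  induction f using MvPolynomial.induction_on with
  | C a => rw [phi_C, tauHom_C]
  | add f g hf hg => rw [C_add, map_add, map_add, map_add, hf, hg]
  | mul_X f i hf =>
    rw [C_mul, map_mul, map_mul, map_mul, hf, hφ, map_pow, tauHom_X]
    congr 1
    rw [← map_pow, Ideal.Quotient.eq]
    exact Ideal.subset_span ⟨i, rfl⟩

include hφ in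
theorem mk_eq_tau_aeval (F : MvPolynomial (Fin m) (MvPolynomial (Fin m) A)) :
    Ideal.Quotient.mk (relIdeal m p A) F =
      tauHom m p A (tgtEquiv φ (aeval (R := MvPolynomial (Fin m) A) (tgtX φ) F)) := by
  induction F using MvPolynomial.induction_on with
  | C f =>
    rw [aeval_C, algebraMap_tgt, RingEquiv.apply_symm_apply, tau_phi φ hφ]
  | add F G hF hG =>
    rw [map_add, map_add, map_add, map_add, hF, hG]
  | mul_X F i hF =>
    rw [map_mul, map_mul, map_mul, map_mul, aeval_X, hF, tgtX, RingEquiv.apply_symm_apply, tauHom_X]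

include hφ in
/-- the presentation -/
noncomputable def tgtPresentation :
    Algebra.Presentation (MvPolynomial (Fin m) A) (Tgt φ) (Fin m) (Fin m) where
  __ := tgtGenerators φ
  relation := tgtRel p
  span_range_relation_eq_ker := by
    apply le_antisymm
    · rw [Ideal.span_le]
      rintro _ ⟨i, rfl⟩
      exact aeval_tgtRel φ hφ i
    · intro F hF
      have hF' : aeval (R := MvPolynomial (Fin m) A) (tgtX φ) F = 0 := hF
      have := mk_eq_tau_aeval φ hφ F
      rw [hF', map_zero, map_zero, Ideal.Quotient.eq_zero_iff_mem] at this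
      exact this

end


/-- Let p be a prime, A a Noetherian commutative ring and m a natural number, and let φ be the A-algebra
endomorphism of the polynomial ring A[T_1, …, T_m] with φ(T_i) = T_i^p. Then φ is syntomic and
faithfully flat (so Spec φ is a covering for the syntomic topology). -/
theorem result (p : ℕ) [Fact p.Prime]
    (A : Type u) [CommRing A] [IsNoetherianRing A] (m : ℕ)
    (φ : MvPolynomial (Fin m) A →ₐ[A] MvPolynomial (Fin m) A)
    (hφ : ∀ i : Fin m, φ (MvPolynomial.X i) = MvPolynomial.X i ^ p) :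
    @Synt.IsSyntomic (MvPolynomial (Fin m) A) _ (MvPolynomial (Fin m) A) _ φ.toRingHom.toAlgebra ∧
      φ.toRingHom.FaithfullyFlat := by
  have hp : 0 < p := (Fact.out : p.Prime).pos
  have e := psiR hp φ hφ
  have : Nonempty (Fin m → Fin p) := ⟨fun _ => ⟨0, hp⟩⟩
  have hff : Module.FaithfullyFlat (MvPolynomial (Fin m) A) (Tgt φ) :=
    Module.FaithfullyFlat.of_linearEquiv (MvPolynomial (Fin m) A)
      ((Fin m → Fin p) →₀ MvPolynomial (Fin m) A) e.symm
  have hfin : Module.Finite (MvPolynomial (Fin m) A) (Tgt φ) := Module.Finite.equiv e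
  have hs : Synt.IsSyntomic (MvPolynomial (Fin m) A) (Tgt φ) :=
    Groth.Agent.Lib.Helper94.isSyntomic_of_presentation_finite (MvPolynomial (Fin m) A) (Tgt φ) m
      (tgtPresentation φ hφ)
  exact ⟨hs, hff⟩

end Groth.Agent.S18933
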