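import Groth.Statements.S18934
import Groth.Agent.Lib.Helper94.Syntomic
import Mathlib

set_option autoImplicit false
universe u
open Synt

namespace Groth.Agent.S18934

open Polynomial in
/-- Let p be a prime, A a commutative ring and a an element of A. Then the A-algebra A[T]/(T^p − a) is
syntomic and faithfully flat over A. This is the step of the source's proof showing that adjoining a
p-th root of any element is a covering for the syntomic topology. -/
theorem result (p : ℕ) [Fact p.Prime]
    (A : Type u) [CommRing A] (a : A) :
    Synt.IsSyntomic A (AdjoinRoot (X ^ p - C a)) ∧ Module.FaithfullyFlat A (AdjoinRoot (X ^ p - C a)) := by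
  have hp : p ≠ 0 := (Fact.out : p.Prime).ne_zero
  have hg : (X ^ p - C a : A[X]).Monic := monic_X_pow_sub_C a hp
  let b := (AdjoinRoot.powerBasis' hg).basis
  have hfin : Module.Finite A (AdjoinRoot (X ^ p - C a)) := Module.Finite.of_basis b
  have hfree : Module.Free A (AdjoinRoot (X ^ p - C a)) := Module.Free.of_basis b
  have hff : Module.FaithfullyFlat A (AdjoinRoot (X ^ p - C a)) := by
    rcases subsingleton_or_nontrivial A with hA | hA
    · refine ⟨fun m hm => ?_⟩
      exact absurd (Subsingleton.elim m ⊤) hm.ne_top
    · have hdeg : (X ^ p - C a : A[X]).natDegree = p := natDegree_X_pow_sub_C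
      have : Nonempty (Fin (AdjoinRoot.powerBasis' hg).dim) := by
        rw [AdjoinRoot.powerBasis'_dim, hdeg]
        exact ⟨⟨0, Nat.pos_of_ne_zero hp⟩⟩
      exact Module.FaithfullyFlat.of_linearEquiv A (Fin (AdjoinRoot.powerBasis' hg).dim →₀ A) b.repr
  exact ⟨Groth.Agent.Lib.Helper94.isSyntomic_of_presentation_finite A _ 1
    (Groth.Agent.Lib.Helper94.adjoinRootPresentation A _), hff⟩

end Groth.Agent.S18934
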