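import Groth.Statements.S18936
import Mathlib

set_option autoImplicit false
universe u
open CAlg

namespace Groth.Agent.S18936

/-- Let A be a Noetherian commutative ring, q a prime ideal of A and f an element of A whose image in
the localization A_q is a non-zero-divisor. Then there is an element b of A not in q such that the
image of f in A[1/b] is a non-zero-divisor. -/
theorem result {A : Type u} [CommRing A] [IsNoetherianRing A]
    (q : Ideal A) [q.IsPrime] (f : A)
    (hf : algebraMap A (Localization.AtPrime q) f ∈ nonZeroDivisors (Localization.AtPrime q)) :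
    ∃ b : A, b ∉ q ∧ algebraMap A (Localization.Away b) f ∈ nonZeroDivisors (Localization.Away b) := by
  classical
  -- annihilator of f
  let N : Ideal A := LinearMap.ker (LinearMap.mulLeft A f)
  have hN : ∀ a, a ∈ N ↔ f * a = 0 := fun a => by
    simp [N, LinearMap.mem_ker]
  obtain ⟨T, hT⟩ : N.FG := (isNoetherianRing_iff_ideal_fg A).mp inferInstance N
  -- each generator is killed by some element outside q
  have hkill : ∀ a ∈ N, ∃ s : A, s ∉ q ∧ s * a = 0 := by
    intro a ha
    have h1 : algebraMap A (Localization.AtPrime q) a = 0 := by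
      rw [mem_nonZeroDivisors_iff_left] at hf
      apply hf
      rw [← map_mul, (hN a).1 ha, map_zero]
    rw [IsLocalization.map_eq_zero_iff q.primeCompl] at h1
    obtain ⟨m, hm⟩ := h1
    exact ⟨m, m.2, hm⟩
  choose! s hs1 hs2 using hkill
  let b : A := ∏ a ∈ T, s a
  have hbq : b ∉ q := by
    intro hb
    obtain ⟨a, haT, ha⟩ := (Ideal.IsPrime.prod_mem_iff (hp := ‹q.IsPrime›)).1 hb
    have : a ∈ N := hT ▸ Ideal.subset_span haT
    exact hs1 a this ha
  have hbN : ∀ a ∈ N, b * a = 0 := by
    intro a ha
    rw [← hT] at ha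
    refine Submodule.span_induction ?_ ?_ ?_ ?_ ha
    · intro x hx
      have hxN : x ∈ N := hT ▸ Ideal.subset_span hx
      have : b = (∏ a ∈ T.erase x, s a) * s x := by
        simp only [b]
        rw [← Finset.prod_erase_mul T s hx]
      rw [this, mul_assoc, hs2 x hxN, mul_zero]
    · simp
    · intro x y _ _ hx hy
      rw [mul_add, hx, hy, add_zero]
    · intro c x _ hx
      rw [smul_eq_mul, mul_left_comm, hx, mul_zero]
  refine ⟨b, hbq, ?_⟩
  rw [mem_nonZeroDivisors_iff_left]
  intro x hx
  obtain ⟨⟨a, m⟩, rfl⟩ := IsLocalization.mk'_surjective (Submonoid.powers b) x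
  simp only at hx ⊢
  rw [IsLocalization.mk'_eq_zero_iff]
  have h1 : IsLocalization.mk' (Localization.Away b) (f * a) m = 0 := by
    rw [← hx, IsLocalization.mul_mk'_eq_mk'_of_mul]
  rw [IsLocalization.mk'_eq_zero_iff] at h1
  obtain ⟨c, hc⟩ := h1
  have hca : (c : A) * a ∈ N := by
    rw [hN]
    rw [← hc]; ring
  have := hbN _ hca
  refine ⟨⟨b, Submonoid.mem_powers b⟩ * c, ?_⟩
  simp only [Submonoid.coe_mul]
  rw [mul_assoc]
  exact this

end Groth.Agent.S18936
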