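import Groth.Statements.S18940
import Mathlib

set_option autoImplicit false
universe w v u
open CategoryTheory
open ShfCat

namespace Groth.Agent.S18940

/-- Let (C, J) be a site and f : F → G a morphism of sheaves of sets on it which is locally surjective
(every section of G is, after passing to a covering, in the image of f). Then for every morphism of
sheaves g : H → G the base change F ×_G H → H of f is again locally surjective. -/
theorem result {C : Type u} [Category.{v} C]
    (J : GrothendieckTopology C) {F G H : Sheaf J (Type w)} (f : F ⟶ G) (g : H ⟶ G)
    [Sheaf.IsLocallySurjective f] :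
    Sheaf.IsLocallySurjective (Limits.pullback.snd f g) := by
  constructor
  intro U s
  -- s : H(U)
  have hf := Presheaf.imageSieve_mem J f.hom (g.hom.app (Opposite.op U) s)
  refine J.superset_covering ?_ hf
  intro Y i hi
  obtain ⟨t, ht⟩ := hi
  -- the pullback square evaluated at Y
  have hpb : IsPullback (Limits.pullback.fst f g) (Limits.pullback.snd f g) f g :=
    IsPullback.of_hasPullback f g
  have hpb' := hpb.map (sheafToPresheaf J (Type w) ⋙ (evaluation _ _).obj (Opposite.op Y))
  obtain ⟨x, hx1, hx2⟩ := Limits.Types.exists_of_isPullback hpb' t (H.obj.map i.op s) (by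
    change (ConcreteCategory.hom (f.hom.app (Opposite.op Y))) t =
      (ConcreteCategory.hom (g.hom.app (Opposite.op Y))) ((ConcreteCategory.hom (H.obj.map i.op)) s)
    rw [ht]
    exact (NatTrans.naturality_apply g.hom i.op s).symm)
  exact ⟨x, hx2⟩

end Groth.Agent.S18940
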