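import Groth.Statements.S18942
import Mathlib

set_option autoImplicit false
universe u
open DPow

namespace Groth.Agent.S18942

/-- Let p be a prime, k a perfect field of characteristic p, n a natural number and x an element of
W_n(k), written here as the truncation of a Witt vector x over k. For any Witt vectors y_0, …,
y_{n−1} over k lifting the components of x under the map y ↦ (y_0)^(p^n) (that is, (y_i)_0^(p^n) =
x_i), one has x = Σ_{i<n} p^i y_i^(p^(n−i)) in W_n(k). -/
theorem result (p : ℕ) [Fact p.Prime]
    (k : Type u) [Field k] [CharP k p] [PerfectRing k p] (n : ℕ) (x : WittVector p k)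
    (y : Fin n → WittVector p k) (hy : ∀ i : Fin n, ((y i).coeff 0) ^ (p ^ n) = x.coeff i) :
    WittVector.truncate n x =
      WittVector.truncate n (∑ i : Fin n, (p : WittVector p k) ^ (i : ℕ) * (y i) ^ (p ^ (n - i))) := by
  -- reduce to divisibility by p ^ n
  suffices hdvd : (p : WittVector p k) ^ n ∣
      x - ∑ i : Fin n, (p : WittVector p k) ^ (i : ℕ) * (y i) ^ (p ^ (n - i)) by
    rw [← Ideal.mem_span_singleton, WittVector.mem_span_p_pow_iff_le_coeff_eq_zero,
      ← WittVector.mem_ker_truncate, RingHom.mem_ker, map_sub, sub_eq_zero] at hdvd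
    exact hdvd
  cases n with
  | zero => simp
  | succ m =>
    -- the Teichmuller representatives
    let c : ℕ → k := fun i => if h : i < m + 1 then ((y ⟨i, h⟩).coeff 0) ^ (p ^ (m + 1 - i)) else 0
    have hc : ∀ i (h : i < m + 1), ((_root_.frobeniusEquiv k p).symm ^ i) (x.coeff i) = c i := by
      intro i h
      rw [← iterateFrobeniusEquiv_symm, RingEquiv.symm_apply_eq, iterateFrobeniusEquiv_def]
      simp only [c, dif_pos h]
      rw [← pow_mul, ← pow_add, ← hy ⟨i, h⟩]
      congr 2
      omega
    have hD1 := WittVector.dvd_sub_sum_teichmuller_iterateFrobeniusEquiv_coeff (p := p) x m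
    have hsum1 : ∑ i ∈ Finset.Iic m, (WittVector.teichmuller p
        (((_root_.frobeniusEquiv k p).symm ^ i) (x.coeff i)) * (p : WittVector p k) ^ i) =
        ∑ i : Fin (m + 1), WittVector.teichmuller p (c i) * (p : WittVector p k) ^ (i : ℕ) := by
      rw [← Nat.range_succ_eq_Iic, Finset.sum_range]
      apply Finset.sum_congr rfl
      intro i _
      rw [hc i i.2]
    rw [hsum1] at hD1
    -- each term
    have hterm : ∀ i : Fin (m + 1), (p : WittVector p k) ^ (m + 1) ∣
        WittVector.teichmuller p (c i) * (p : WittVector p k) ^ (i : ℕ) -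
          (p : WittVector p k) ^ (i : ℕ) * (y i) ^ (p ^ (m + 1 - i)) := by
      intro i
      have h1 : (p : WittVector p k) ∣ y i - WittVector.teichmuller p ((y i).coeff 0) := by
        rw [← Ideal.mem_span_singleton, WittVector.mem_span_p_iff_coeff_zero_eq_zero]
        have e2 : ∀ v : WittVector p k, v.coeff 0 = WittVector.constantCoeff v := fun v => rfl
        rw [e2, map_sub, ← e2, ← e2, WittVector.teichmuller_coeff_zero, sub_self]
      have h2 := dvd_sub_pow_of_dvd_sub h1 (m + 1 - i)
      rw [← map_pow] at h2
      have hci : c i = (y i).coeff 0 ^ p ^ (m + 1 - (i : ℕ)) := by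
        simp only [c, dif_pos i.2]
      rw [← hci] at h2
      have h3 : WittVector.teichmuller p (c i) * (p : WittVector p k) ^ (i : ℕ) -
          (p : WittVector p k) ^ (i : ℕ) * (y i) ^ (p ^ (m + 1 - i)) =
          -((p : WittVector p k) ^ (i : ℕ) * ((y i) ^ (p ^ (m + 1 - i)) - WittVector.teichmuller p (c i))) := by
        ring
      rw [h3, dvd_neg]
      have h4 : (p : WittVector p k) ^ (m + 1) ∣ (p : WittVector p k) ^ (i : ℕ) * (p : WittVector p k) ^ (m + 1 - i + 1) := by
        rw [← pow_add]
        apply pow_dvd_pow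
        have := i.2
        omega
      exact h4.trans (mul_dvd_mul_left _ h2)
    have hfinal : x - ∑ i : Fin (m + 1), (p : WittVector p k) ^ (i : ℕ) * (y i) ^ (p ^ (m + 1 - i)) =
        (x - ∑ i : Fin (m + 1), WittVector.teichmuller p (c i) * (p : WittVector p k) ^ (i : ℕ)) +
        ∑ i : Fin (m + 1), (WittVector.teichmuller p (c i) * (p : WittVector p k) ^ (i : ℕ) -
          (p : WittVector p k) ^ (i : ℕ) * (y i) ^ (p ^ (m + 1 - i))) := by
      rw [Finset.sum_sub_distrib]
      ring
    rw [hfinal]
    exact dvd_add hD1 (Finset.dvd_sum (fun i _ => hterm i))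

end Groth.Agent.S18942
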