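import Groth.Statements.S18943
import Mathlib

set_option autoImplicit false
open scoped ContDiff
open CInfGerm

namespace Groth.Agent.S18943

open MeasureTheory

theorem hderiv_aux (h : ℝ → ℝ) (hh : ContDiff ℝ ∞ h) (k : ℕ) (x₀ : ℝ) :
    HasDerivAt (fun x => ∫ t in (0:ℝ)..1, t ^ k * h (t * x))
      (∫ t in (0:ℝ)..1, t ^ (k + 1) * deriv h (t * x₀)) x₀ := by
  have hh' : ContDiff ℝ ∞ (deriv h) := (contDiff_infty_iff_deriv.1 hh).2
  have hdiff : Differentiable ℝ h := (contDiff_infty_iff_deriv.1 hh).1
  have hc : Continuous h := hh.continuous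
  have hc' : Continuous (deriv h) := hh'.continuous
  obtain ⟨M, hM⟩ := (isCompact_closedBall (0:ℝ) (|x₀| + 1)).exists_bound_of_continuousOn
    hc'.continuousOn
  refine (intervalIntegral.hasDerivAt_integral_of_dominated_loc_of_deriv_le
    (F := fun x t => t ^ k * h (t * x)) (F' := fun x t => t ^ (k + 1) * deriv h (t * x))
    (bound := fun _ => M) (s := Metric.ball x₀ 1) (Metric.ball_mem_nhds x₀ one_pos)
    ?_ ?_ ?_ ?_ ?_ ?_).2
  · refine Filter.Eventually.of_forall fun x => ?_
    exact (by fun_prop : Continuous fun t => t ^ k * h (t * x)).aestronglyMeasurable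
  · exact (by fun_prop : Continuous fun t => t ^ k * h (t * x₀)).intervalIntegrable _ _
  · exact (by fun_prop : Continuous fun t => t ^ (k + 1) * deriv h (t * x₀)).aestronglyMeasurable
  · refine Filter.Eventually.of_forall fun t ht x hx => ?_
    rw [Set.uIoc_of_le zero_le_one] at ht
    have hx' : |x - x₀| < 1 := by simpa [Real.dist_eq] using hx
    have hxb : |x| ≤ |x₀| + 1 := by
      have := abs_sub_abs_le_abs_sub x x₀
      linarith
    have htx : |t * x| ≤ |x₀| + 1 := by
      rw [abs_mul, abs_of_pos ht.1]
      calc t * |x| ≤ 1 * |x| := by gcongr; exact ht.2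
        _ = |x| := one_mul _
        _ ≤ _ := hxb
    have h1 : ‖deriv h (t * x)‖ ≤ M := hM (t * x) (by simpa [Real.dist_eq] using htx)
    have hM0 : 0 ≤ M := le_trans (norm_nonneg _) h1
    rw [norm_mul, norm_pow, Real.norm_eq_abs, abs_of_pos ht.1]
    calc t ^ (k + 1) * ‖deriv h (t * x)‖ ≤ 1 * M := by
          gcongr
          exact pow_le_one₀ ht.1.le ht.2
      _ = M := one_mul _
  · exact intervalIntegrable_const
  · refine Filter.Eventually.of_forall fun t _ x _ => ?_
    have h1 : HasDerivAt (fun x => t * x) t x := by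
      simpa using (hasDerivAt_id x).const_mul t
    have h2 : HasDerivAt (fun x => h (t * x)) (deriv h (t * x) * t) x :=
      (hdiff (t * x)).hasDerivAt.comp x h1
    have h3 := h2.const_mul (t ^ k)
    show HasDerivAt (fun x => t ^ k * h (t * x)) (t ^ (k + 1) * deriv h (t * x)) x
    have e : t ^ (k + 1) * deriv h (t * x) = t ^ k * (deriv h (t * x) * t) := by ring
    rw [e]
    exact h3

theorem aux (n : ℕ) : ∀ (h : ℝ → ℝ) (_ : ContDiff ℝ ∞ h) (k : ℕ),
    ContDiff ℝ n (fun x => ∫ t in (0:ℝ)..1, t ^ k * h (t * x)) := by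
  induction n with
  | zero =>
    intro h hh k
    rw [Nat.cast_zero, contDiff_zero]
    apply intervalIntegral.continuous_parametric_intervalIntegral_of_continuous'
    have := hh.continuous
    fun_prop
  | succ n ih =>
    intro h hh k
    have hd := hderiv_aux h hh k
    have e : ((n + 1 : ℕ) : WithTop ℕ∞) = (n : WithTop ℕ∞) + 1 := by push_cast; rfl
    rw [e, contDiff_succ_iff_deriv]
    refine ⟨fun x => (hd x).differentiableAt, by simp, ?_⟩
    have : deriv (fun x => ∫ t in (0:ℝ)..1, t ^ k * h (t * x)) =
        fun x => ∫ t in (0:ℝ)..1, t ^ (k + 1) * deriv h (t * x) := funext fun x => (hd x).deriv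
    rw [this]
    exact ih (deriv h) (contDiff_infty_iff_deriv.1 hh).2 (k + 1)


/-- Let f be an infinitely differentiable real-valued function on the real line with f(0) = 0. Then f(x)
= x·g(x) for an infinitely differentiable function g. (The source phrases this for germs at 0: the
maximal ideal of the local ring of germs of smooth functions at the origin is generated by the
coordinate t; the global form stated here is what its argument, smooth extension of f(x)/x across 0,
gives.) -/
theorem result (f : ℝ → ℝ) (hf : ContDiff ℝ ∞ f) (h0 : f 0 = 0) :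
    ∃ g : ℝ → ℝ, ContDiff ℝ ∞ g ∧ ∀ x : ℝ, f x = x * g x := by
  refine ⟨fun x => ∫ t in (0:ℝ)..1, deriv f (t * x), ?_, ?_⟩
  · rw [contDiff_infty]
    intro n
    have := aux n (deriv f) (contDiff_infty_iff_deriv.1 hf).2 0
    simpa using this
  · intro x
    have hdiff : Differentiable ℝ f := (contDiff_infty_iff_deriv.1 hf).1
    have hc' : Continuous (deriv f) := (contDiff_infty_iff_deriv.1 hf).2.continuous
    have := intervalIntegral.integral_unitInterval_deriv_eq_sub (𝕜 := ℝ) (f := f) (f' := deriv f)
      (z₀ := 0) (z₁ := x) (by fun_prop) (fun t _ => (hdiff _).hasDerivAt)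
    simp only [zero_add, smul_eq_mul, h0, sub_zero] at this
    exact this.symm

end Groth.Agent.S18943
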