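import Groth.Statements.S18945
import Groth.Agent.Lib.Helper94.Syntomic
import Mathlib

set_option autoImplicit false
universe u
open CategoryTheory AlgebraicGeometry
open Synt

namespace Groth.Agent.S18945

section
variable {X : Scheme.{u}} {V : X.Opens} (hV : IsAffineOpen V) (B : CommRingCat.{u}) (g : Γ(X, V) ⟶ B)

theorem le_preimage : (⊤ : (Spec B).Opens) ≤ (Spec.map g ≫ hV.fromSpec) ⁻¹ᵁ V := by
  intro y _
  change (Spec.map g ≫ hV.fromSpec) y ∈ V
  rw [Scheme.Hom.comp_apply]
  have : hV.fromSpec (Spec.map g y) ∈ Set.range hV.fromSpec := ⟨_, rfl⟩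
  rw [hV.range_fromSpec] at this
  exact this

theorem appLE_eq :
    (Spec.map g ≫ hV.fromSpec).appLE V ⊤ (le_preimage hV B g) = g ≫ (Scheme.ΓSpecIso B).inv := by
  rw [Scheme.Hom.comp_appLE, hV.fromSpec_app_self, Category.assoc, Scheme.Hom.map_appLE']
  · rw [Scheme.ΓSpecIso_inv_naturality]
    rfl
  · exact le_top

end
section
variable {X : Scheme.{u}} {V : X.Opens} (hV : IsAffineOpen V)
  (B : Type u) [CommRing B] [Algebra Γ(X, V) B]

theorem isSyntomicMor_of (n : ℕ) (P : Algebra.Presentation Γ(X, V) B (Fin n) (Fin n))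
    [Module.Finite Γ(X, V) B] [Module.FaithfullyFlat Γ(X, V) B] :
    Synt.IsSyntomicMor
      (Spec.map (CommRingCat.ofHom (algebraMap Γ(X, V) B)) ≫ hV.fromSpec) := by
  intro y
  refine ⟨⟨⊤, isAffineOpen_top _⟩, ⟨V, hV⟩, le_preimage hV _ _, trivial, ?_⟩
  let alg : Algebra Γ(X, V) Γ(Spec (CommRingCat.of B), ⊤) :=
    ((Spec.map (CommRingCat.ofHom (algebraMap Γ(X, V) B)) ≫ hV.fromSpec).appLE V ⊤
      (le_preimage hV _ _)).hom.toAlgebra
  let e : B ≃ₐ[Γ(X, V)] Γ(Spec (CommRingCat.of B), ⊤) :=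
    { (Scheme.ΓSpecIso (CommRingCat.of B)).symm.commRingCatIsoToRingEquiv with
      commutes' := by
        intro r
        have h := appLE_eq hV (CommRingCat.of B) (CommRingCat.ofHom (algebraMap Γ(X, V) B))
        have h2 := congrArg (fun φ => φ.hom r) h
        exact h2.symm }
  have h1 : Module.Finite Γ(X, V) Γ(Spec (CommRingCat.of B), ⊤) := Module.Finite.equiv e.toLinearEquiv
  have h2 : Module.FaithfullyFlat Γ(X, V) Γ(Spec (CommRingCat.of B), ⊤) :=
    Module.FaithfullyFlat.of_linearEquiv Γ(X, V) B e.symm.toLinearEquiv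
  exact Groth.Agent.Lib.Helper94.isSyntomic_of_presentation_finite _ _ n (P.ofAlgEquiv e)

end

section
variable {X : Scheme.{u}} {V : X.Opens} (hV : IsAffineOpen V)
  (B : Type u) [CommRing B] [Algebra Γ(X, V) B]

theorem mem_range_of_faithfullyFlat [Module.FaithfullyFlat Γ(X, V) B] (x : X) (hx : x ∈ V) :
    ∃ y, (Spec.map (CommRingCat.ofHom (algebraMap Γ(X, V) B)) ≫ hV.fromSpec) y = x := by
  have hx' : x ∈ Set.range hV.fromSpec := by rw [hV.range_fromSpec]; exact hx
  obtain ⟨z, rfl⟩ := hx'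
  obtain ⟨y, hy⟩ := PrimeSpectrum.comap_surjective_of_faithfullyFlat (A := Γ(X, V)) (B := B) z
  refine ⟨(show (Spec (CommRingCat.of B) : Scheme) from y), ?_⟩
  rw [Scheme.Hom.comp_apply]
  congr 1

end

theorem appTop_eq {Y X : Scheme.{u}} (f : Y ⟶ X) (V : X.Opens) (e : (⊤ : Y.Opens) ≤ f ⁻¹ᵁ V)
    (a : Γ(X, ⊤)) :
    f.appTop a = (f.appLE V ⊤ e).hom ((X.presheaf.map (homOfLE (le_top : V ≤ ⊤)).op).hom a) := by
  have h2 := Scheme.Hom.map_appLE f e (homOfLE (le_top : V ≤ ⊤)).op
  have h3 : f.appLE ⊤ ⊤ (e.trans ((TopologicalSpace.Opens.map f.base).map (homOfLE (le_top : V ≤ ⊤))).le) = f.appTop :=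
    (Scheme.Hom.app_eq_appLE f (U := ⊤)).symm
  rw [h3] at h2
  rw [← h2]
  rfl

theorem exists_pow_eq {X : Scheme.{u}} {V : X.Opens} (hV : IsAffineOpen V)
    (B : Type u) [CommRing B] [Algebra Γ(X, V) B] (a : Γ(X, ⊤)) (p : ℕ) (r : B)
    (hr : r ^ p = algebraMap Γ(X, V) B ((X.presheaf.map (homOfLE (le_top : V ≤ ⊤)).op).hom a)) :
    ∃ b : Γ(Spec (CommRingCat.of B), ⊤),
      b ^ p = (Spec.map (CommRingCat.ofHom (algebraMap Γ(X, V) B)) ≫ hV.fromSpec).appTop a := by
  refine ⟨(Scheme.ΓSpecIso (CommRingCat.of B)).inv.hom r, ?_⟩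
  have h1 := appLE_eq hV (CommRingCat.of B) (CommRingCat.ofHom (algebraMap Γ(X, V) B))
  have happ := appTop_eq (Spec.map (CommRingCat.ofHom (algebraMap Γ(X, V) B)) ≫ hV.fromSpec) V
    (le_preimage hV _ _) a
  rw [h1] at happ
  rw [happ, ← map_pow, hr]
  rfl


/-- Let p be a prime, X a scheme and a a global section of the structure sheaf of X. There is a covering
of X for the syntomic topology, that is a jointly surjective family of syntomic morphisms X_i → X,
such that the restriction of a to each X_i is a p-th power. (The source states the surjectivity of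
the p-th power map of the structure sheaf on the small syntomic site of a syntomic scheme over a
perfect field of characteristic p; the covering it uses elsewhere, adjoining a p-th root T^p = a
over affine pieces, gives the statement for every scheme, which is the form given here.) -/
theorem result (p : ℕ) [Fact p.Prime] (X : Scheme.{u}) (a : Γ(X, ⊤)) :
    ∃ 𝒰 : Scheme.Cover.{u} (Scheme.precoverage @Synt.IsSyntomicMor) X,
      ∀ i : 𝒰.I₀, ∃ b : Γ(𝒰.X i, ⊤), b ^ p = (𝒰.f i).appTop a := by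
  have hp : p ≠ 0 := (Fact.out : p.Prime).ne_zero
  -- the restriction of `a`
  let aV : ∀ V : X.affineOpens, Γ(X, V.1) := fun V =>
    (X.presheaf.map (homOfLE (le_top : V.1 ≤ ⊤)).op).hom a
  -- faithful flatness and finiteness
  have hg : ∀ V : X.affineOpens, (Polynomial.X ^ p - Polynomial.C (aV V) : Polynomial Γ(X, V.1)).Monic := fun V =>
    Polynomial.monic_X_pow_sub_C _ hp
  have hfin : ∀ V : X.affineOpens, Module.Finite Γ(X, V.1) (AdjoinRoot (Polynomial.X ^ p - Polynomial.C (aV V))) :=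
    fun V => Module.Finite.of_basis (AdjoinRoot.powerBasis' (hg V)).basis
  have hff : ∀ V : X.affineOpens,
      Module.FaithfullyFlat Γ(X, V.1) (AdjoinRoot (Polynomial.X ^ p - Polynomial.C (aV V))) := by
    intro V
    have hfree : Module.Free Γ(X, V.1) (AdjoinRoot (Polynomial.X ^ p - Polynomial.C (aV V))) :=
      Module.Free.of_basis (AdjoinRoot.powerBasis' (hg V)).basis
    rcases subsingleton_or_nontrivial Γ(X, V.1) with hA | hA
    · refine ⟨fun m hm => ?_⟩
      exact absurd (Subsingleton.elim m ⊤) hm.ne_top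
    · have hdeg : (Polynomial.X ^ p - Polynomial.C (aV V) : Polynomial Γ(X, V.1)).natDegree = p := Polynomial.natDegree_X_pow_sub_C
      have : Nonempty (Fin (AdjoinRoot.powerBasis' (hg V)).dim) := by
        rw [AdjoinRoot.powerBasis'_dim, hdeg]
        exact ⟨⟨0, Nat.pos_of_ne_zero hp⟩⟩
      exact Module.FaithfullyFlat.of_linearEquiv Γ(X, V.1)
        (Fin (AdjoinRoot.powerBasis' (hg V)).dim →₀ Γ(X, V.1))
        (AdjoinRoot.powerBasis' (hg V)).basis.repr
  refine ⟨Scheme.Cover.mkOfCovers X.affineOpens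
    (fun V => Spec (CommRingCat.of (AdjoinRoot (Polynomial.X ^ p - Polynomial.C (aV V)))))
    (fun V => Spec.map (CommRingCat.ofHom (algebraMap Γ(X, V.1) (AdjoinRoot (Polynomial.X ^ p - Polynomial.C (aV V))))) ≫
      V.2.fromSpec) ?_ ?_, ?_⟩
  · intro x
    obtain ⟨V, hxV⟩ : ∃ V : X.affineOpens, x ∈ V.1 := by
      obtain ⟨U, hU, hxU, -⟩ := (TopologicalSpace.Opens.isBasis_iff_nbhd.mp X.isBasis_affineOpens)
        (show x ∈ (⊤ : X.Opens) from trivial)
      exact ⟨⟨U, hU⟩, hxU⟩
    have := hff V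
    obtain ⟨y, hy⟩ := mem_range_of_faithfullyFlat V.2 (AdjoinRoot (Polynomial.X ^ p - Polynomial.C (aV V))) x hxV
    exact ⟨V, y, hy⟩
  · intro V
    have := hff V
    have := hfin V
    exact isSyntomicMor_of V.2 (AdjoinRoot (Polynomial.X ^ p - Polynomial.C (aV V))) 1
      (Groth.Agent.Lib.Helper94.adjoinRootPresentation _ _)
  · intro V
    have hroot : (AdjoinRoot.root (Polynomial.X ^ p - Polynomial.C (aV V))) ^ p =
        algebraMap Γ(X, V.1) _ (aV V) := by
      have := AdjoinRoot.eval₂_root (Polynomial.X ^ p - Polynomial.C (aV V))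
      rw [Polynomial.eval₂_sub, Polynomial.eval₂_pow, Polynomial.eval₂_X, Polynomial.eval₂_C,
        sub_eq_zero] at this
      exact this
    exact exists_pow_eq V.2 (AdjoinRoot (Polynomial.X ^ p - Polynomial.C (aV V))) a p _ hroot

end Groth.Agent.S18945
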