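import Groth.Statements.S18946
import Mathlib

set_option autoImplicit false
universe u
open scoped BigOperators
open InvQ

namespace Groth.Agent.S18946

open MvPolynomial in
/-- coefficients after rescaling the variables -/
theorem coeff_rescale {k : Type*} [CommRing k] {ι : Type*} [Fintype ι] [DecidableEq ι]
    (a : ι → k) (f : MvPolynomial ι k) (m : ι →₀ ℕ) :
    coeff m (aeval (fun i => C (a i) * X i) f) = (∏ i, a i ^ m i) * coeff m f := by
  induction f using MvPolynomial.induction_on' with
  | monomial u c =>
    have h1 : aeval (fun i => (C (a i) * X i : MvPolynomial ι k)) (monomial u c) =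
        monomial u (c * ∏ i, a i ^ u i) := by
      rw [aeval_monomial, Finsupp.prod_fintype _ _ (fun i => by simp)]
      simp only [mul_pow, Finset.prod_mul_distrib]
      rw [monomial_eq, Finsupp.prod_fintype _ _ (fun i => by simp)]
      simp only [← map_pow, ← map_prod, algebraMap_eq]
      rw [map_mul, mul_assoc]
    rw [h1, coeff_monomial, coeff_monomial]
    by_cases h : u = m
    · subst h; simp [mul_comm]
    · simp [h]
  | add p q hp hq =>
    rw [map_add, coeff_add, coeff_add, hp, hq, mul_add]


/-- Let k be an algebraically closed field of characteristic zero and n a natural number, and let the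
torus of (n+1)-tuples of units of k with product 1 act on the polynomial ring k[t_0, ..., t_n] by
rescaling each variable t_i by the i-th unit. A polynomial is fixed by every such rescaling if and
only if it lies in the k-subalgebra generated by the product t_0 t_1 ... t_n. (This is the
computation of the ring of functions on affine (n+1)-space invariant under the maximal diagonal
torus of the special linear group, identified with the polynomial ring in the single coordinate t =
t_0 ... t_n of the line it maps to by the product map; invariance is tested on k-valued points of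
the torus, which over an infinite field is the same as invariance under the group scheme.) -/
theorem result
    (k : Type u) [Field k] [IsAlgClosed k] [CharZero k] (n : ℕ)
    (f : MvPolynomial (Fin (n + 1)) k) :
    (∀ σ : Fin (n + 1) → kˣ, ∏ i, (σ i : k) = 1 →
        MvPolynomial.aeval (fun i => MvPolynomial.C (σ i : k) * MvPolynomial.X i) f = f) ↔
      f ∈ Algebra.adjoin k ({∏ i : Fin (n + 1), MvPolynomial.X i} : Set (MvPolynomial (Fin (n + 1)) k)) := by
  classical
  constructor
  · intro hinv
    -- all monomials in the support are powers of the product of the variables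
    have hsupp : ∀ m ∈ f.support, ∀ i j : Fin (n + 1), m i = m j := by
      intro m hm i j
      by_contra hne
      have hij : i ≠ j := fun h => hne (by rw [h])
      have h2 : (2 : k) ≠ 0 := two_ne_zero
      let u : kˣ := Units.mk0 2 h2
      let σ : Fin (n + 1) → kˣ := fun l => if l = i then u else if l = j then u⁻¹ else 1
      have hσi : σ i = u := by simp [σ]
      have hσj : σ j = u⁻¹ := by simp [σ, hij.symm]
      have hσ1 : ∀ l, l ≠ i ∧ l ≠ j → σ l = 1 := by
        rintro l ⟨h1, h2⟩
        simp [σ, h1, h2]
      have hprod : ∏ l, (σ l : k) = 1 := by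
        rw [Fintype.prod_eq_mul i j hij (fun l hl => by rw [hσ1 l hl]; rfl), hσi, hσj]
        simp
      have h3 := congrArg (MvPolynomial.coeff m) (hinv σ hprod)
      rw [coeff_rescale] at h3
      have hc : MvPolynomial.coeff m f ≠ 0 := MvPolynomial.mem_support_iff.mp hm
      have h4 : ∏ l, ((σ l : kˣ) : k) ^ m l = 1 := by
        have := mul_right_cancel₀ hc (h3.trans (one_mul _).symm)
        exact this
      rw [Fintype.prod_eq_mul i j hij (fun l hl => by rw [hσ1 l hl]; simp), hσi, hσj] at h4
      have h5 : (2 : k) ^ m i = (2 : k) ^ m j := by
        have h6 : ((u⁻¹ : kˣ) : k) = (2 : k)⁻¹ := by simp [u]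
        have h7 : ((u : kˣ) : k) = 2 := rfl
        rw [h6, h7, inv_pow] at h4
        have h8 : (2 : k) ^ m j ≠ 0 := pow_ne_zero _ h2
        field_simp at h4
        exact h4
      have h9 : (2 : ℕ) ^ m i = 2 ^ m j := by
        have : ((2 ^ m i : ℕ) : k) = ((2 ^ m j : ℕ) : k) := by push_cast; exact h5
        exact Nat.cast_injective this
      exact hne (Nat.pow_right_injective (le_refl 2) h9)
    rw [f.as_sum]
    apply Subalgebra.sum_mem
    intro m hm
    have hm' : MvPolynomial.monomial m (MvPolynomial.coeff m f) =
        MvPolynomial.C (MvPolynomial.coeff m f) * (∏ i : Fin (n + 1), MvPolynomial.X i) ^ (m 0) := by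
      rw [MvPolynomial.monomial_eq, Finsupp.prod_fintype _ _ (fun i => by simp), ← Finset.prod_pow]
      congr 1
      apply Finset.prod_congr rfl
      intro i _
      rw [hsupp m hm i 0]
    rw [hm']
    apply Subalgebra.mul_mem
    · rw [← MvPolynomial.algebraMap_eq]
      exact Subalgebra.algebraMap_mem _ _
    · exact Subalgebra.pow_mem _ (Algebra.subset_adjoin (Set.mem_singleton _)) _
  · intro hf σ hσ
    have hgen : MvPolynomial.aeval (fun i => MvPolynomial.C (σ i : k) * MvPolynomial.X i)
        (∏ i : Fin (n + 1), (MvPolynomial.X i : MvPolynomial (Fin (n + 1)) k)) = ∏ i : Fin (n + 1), MvPolynomial.X i := by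
      rw [map_prod]
      simp only [MvPolynomial.aeval_X, Finset.prod_mul_distrib, ← map_prod, hσ, map_one, one_mul]
    induction hf using Algebra.adjoin_induction with
    | mem x hx =>
      rw [Set.mem_singleton_iff] at hx
      rw [hx, hgen]
    | algebraMap r => simp
    | add x y _ _ hx hy => rw [map_add, hx, hy]
    | mul x y _ _ hx hy => rw [map_mul, hx, hy]

end Groth.Agent.S18946
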