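import Groth.Statements.S18948
import Mathlib

set_option autoImplicit false
universe u v
open CExt

namespace Groth.Agent.S18948

/-- Let f : E → G be a surjective homomorphism of groups whose kernel is central in E, and let x ∈ E.
Then f maps the conjugacy class of x bijectively onto the conjugacy class of f(x) if and only if
every element of G commuting with f(x) is the image of some element of E commuting with x. (In the
source E → G is the central extension, with kernel the roots of unity, attached to a Brauer class of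
the classifying stack of a finite tame étale group scheme, and a conjugacy class of E mapping
bijectively onto a given class of G is a marking; the equivalence is stated here for an arbitrary
central extension of abstract groups.) -/
theorem result {E : Type u} {G : Type v} [Group E] [Group G]
    (f : E →* G) (hf : Function.Surjective f) (hker : f.ker ≤ Subgroup.center E) (x : E) :
    Set.BijOn f (MulAction.orbit (ConjAct E) x) (MulAction.orbit (ConjAct G) (f x)) ↔
      ∀ g : G, g * f x = f x * g → ∃ e : E, f e = g ∧ e * x = x * e := by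
  have horbE : ∀ y : E, y ∈ MulAction.orbit (ConjAct E) x ↔ ∃ e : E, e * x * e⁻¹ = y := by
    intro y
    rw [MulAction.mem_orbit_iff]
    constructor
    · rintro ⟨m, hm⟩
      exact ⟨ConjAct.ofConjAct m, by rw [← hm, ConjAct.smul_def]⟩
    · rintro ⟨e, he⟩
      exact ⟨ConjAct.toConjAct e, by rw [ConjAct.smul_def, ConjAct.ofConjAct_toConjAct, he]⟩
  have horbG : ∀ y : G, y ∈ MulAction.orbit (ConjAct G) (f x) ↔ ∃ g : G, g * f x * g⁻¹ = y := by
    intro y
    rw [MulAction.mem_orbit_iff]
    constructor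
    · rintro ⟨m, hm⟩
      exact ⟨ConjAct.ofConjAct m, by rw [← hm, ConjAct.smul_def]⟩
    · rintro ⟨e, he⟩
      exact ⟨ConjAct.toConjAct e, by rw [ConjAct.smul_def, ConjAct.ofConjAct_toConjAct, he]⟩
  constructor
  · rintro ⟨-, hinj, -⟩ g hg
    obtain ⟨e, rfl⟩ := hf g
    refine ⟨e, rfl, ?_⟩
    have h1 : e * x * e⁻¹ ∈ MulAction.orbit (ConjAct E) x := (horbE _).2 ⟨e, rfl⟩
    have h2 : x ∈ MulAction.orbit (ConjAct E) x := (horbE _).2 ⟨1, by simp⟩
    have h3 : f (e * x * e⁻¹) = f x := by
      rw [map_mul, map_mul, map_inv, hg]; group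
    have := hinj h1 h2 h3
    calc e * x = e * x * e⁻¹ * e := by group
      _ = x * e := by rw [this]
  · intro h
    refine ⟨?_, ?_, ?_⟩
    · intro y hy
      obtain ⟨e, rfl⟩ := (horbE y).1 hy
      exact (horbG _).2 ⟨f e, by simp⟩
    · intro y1 hy1 y2 hy2 hy
      obtain ⟨e1, rfl⟩ := (horbE y1).1 hy1
      obtain ⟨e2, rfl⟩ := (horbE y2).1 hy2
      have hg : f (e2⁻¹ * e1) * f x = f x * f (e2⁻¹ * e1) := by
        simp only [map_mul, map_inv] at hy ⊢
        calc (f e2)⁻¹ * f e1 * f x = (f e2)⁻¹ * (f e1 * f x * (f e1)⁻¹) * f e1 := by group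
          _ = (f e2)⁻¹ * (f e2 * f x * (f e2)⁻¹) * f e1 := by rw [hy]
          _ = f x * ((f e2)⁻¹ * f e1) := by group
      obtain ⟨e, hfe, hex⟩ := h _ hg
      have hk : e⁻¹ * (e2⁻¹ * e1) ∈ f.ker := by
        rw [MonoidHom.mem_ker, map_mul, map_inv, hfe, inv_mul_cancel]
      have hkc := hker hk
      rw [Subgroup.mem_center_iff] at hkc
      have hkx := hkc x
      -- (e2⁻¹ e1) x = x (e2⁻¹ e1)
      have hcomm : (e2⁻¹ * e1) * x = x * (e2⁻¹ * e1) := by
        calc (e2⁻¹ * e1) * x = e * ((e⁻¹ * (e2⁻¹ * e1)) * x) := by group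
          _ = e * (x * (e⁻¹ * (e2⁻¹ * e1))) := by rw [hkx]
          _ = (e * x) * (e⁻¹ * (e2⁻¹ * e1)) := by group
          _ = (x * e) * (e⁻¹ * (e2⁻¹ * e1)) := by rw [hex]
          _ = x * (e2⁻¹ * e1) := by group
      calc e1 * x * e1⁻¹ = e2 * ((e2⁻¹ * e1) * x) * e1⁻¹ := by group
        _ = e2 * (x * (e2⁻¹ * e1)) * e1⁻¹ := by rw [hcomm]
        _ = e2 * x * e2⁻¹ := by group
    · intro y hy
      obtain ⟨g, rfl⟩ := (horbG y).1 hy
      obtain ⟨e, rfl⟩ := hf g
      exact ⟨e * x * e⁻¹, (horbE _).2 ⟨e, rfl⟩, by simp⟩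

end Groth.Agent.S18948
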