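import Groth.Statements.S18949
import Mathlib

set_option autoImplicit false
universe u v
open CExt

namespace Groth.Agent.S18949

/-- Automorphisms over the base: let f : E → G be a surjective homomorphism of groups with central
kernel A. For every homomorphism χ : G → A the map e ↦ χ(f(e)) · e is an endomorphism of E over G
which is the identity on A; and every endomorphism α of E with f ∘ α = f and α equal to the identity
on A is of this form for exactly one χ. (In the source this identifies the automorphisms of a
central extension fixing its kernel with Hom(G, A), for extensions of profinite étale group schemes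
over a field; stated here for abstract groups.) -/
theorem result {E : Type u} {G : Type v} [Group E] [Group G]
    (f : E →* G) (hf : Function.Surjective f) (hker : f.ker ≤ Subgroup.center E) :
    (∀ χ : G →* f.ker, ∃ α : E →* E, f.comp α = f ∧ (∀ a ∈ f.ker, α a = a) ∧
        ∀ e : E, α e = (χ (f e) : E) * e) ∧
      ∀ α : E →* E, f.comp α = f → (∀ a ∈ f.ker, α a = a) →
        ∃! χ : G →* f.ker, ∀ e : E, α e = (χ (f e) : E) * e := by
  refine ⟨?_, ?_⟩
  · intro χ
    have hc : ∀ g : G, ∀ e : E, (χ g : E) * e = e * (χ g : E) := by
      intro g e
      have := hker (χ g).2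
      rw [Subgroup.mem_center_iff] at this
      exact (this e).symm
    refine ⟨{ toFun := fun e => (χ (f e) : E) * e
              map_one' := by simp
              map_mul' := ?_ }, ?_, ?_, ?_⟩
    · intro a b
      simp only [map_mul, Subgroup.coe_mul]
      calc (χ (f a) : E) * (χ (f b) : E) * (a * b)
          = (χ (f a) : E) * ((χ (f b) : E) * a) * b := by group
        _ = (χ (f a) : E) * (a * (χ (f b) : E)) * b := by rw [hc (f b) a]
        _ = (χ (f a) : E) * a * ((χ (f b) : E) * b) := by group
    · ext e
      simp only [MonoidHom.comp_apply, MonoidHom.coe_mk, OneHom.coe_mk, map_mul]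
      have : f (χ (f e) : E) = 1 := (χ (f e)).2
      rw [this, one_mul]
    · intro a ha
      simp only [MonoidHom.coe_mk, OneHom.coe_mk]
      rw [MonoidHom.mem_ker] at ha
      rw [ha, map_one]
      simp
    · intro e
      rfl
  · intro α hα hαA
    have hfα : ∀ e, f (α e) = f e := fun e => by
      have := congrArg (fun φ => φ e) hα
      simpa using this
    -- key lemma
    have key : ∀ e e' : E, f e = f e' → α e * e⁻¹ = α e' * e'⁻¹ := by
      intro e e' h
      have hk : e⁻¹ * e' ∈ f.ker := by
        rw [MonoidHom.mem_ker, map_mul, map_inv, h, inv_mul_cancel]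
      have h1 : α (e⁻¹ * e') = e⁻¹ * e' := hαA _ hk
      have h2 : α e' = α e * (e⁻¹ * e') := by
        rw [← h1, ← map_mul]; congr 1; group
      rw [h2]; group
    have hmem : ∀ e : E, α e * e⁻¹ ∈ f.ker := by
      intro e
      rw [MonoidHom.mem_ker, map_mul, map_inv, hfα, mul_inv_cancel]
    have hcen : ∀ e x : E, (α e * e⁻¹) * x = x * (α e * e⁻¹) := by
      intro e x
      have := hker (hmem e)
      rw [Subgroup.mem_center_iff] at this
      exact (this x).symm
    let s : G → E := Function.surjInv hf
    have hs : ∀ g, f (s g) = g := Function.surjInv_eq hf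
    let χ : G →* f.ker :=
      { toFun := fun g => ⟨α (s g) * (s g)⁻¹, hmem _⟩
        map_one' := by
          apply Subtype.ext
          simp only [Subgroup.coe_one]
          have := key (s 1) 1 (by rw [hs, map_one])
          rw [this]; simp
        map_mul' := by
          intro a b
          apply Subtype.ext
          simp only [Subgroup.coe_mul]
          have := key (s (a * b)) (s a * s b) (by rw [hs, map_mul, hs, hs])
          rw [this, map_mul]
          calc α (s a) * α (s b) * (s a * s b)⁻¹
              = α (s a) * ((α (s b) * (s b)⁻¹) * (s a)⁻¹) := by group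
            _ = α (s a) * ((s a)⁻¹ * (α (s b) * (s b)⁻¹)) := by rw [hcen]
            _ = α (s a) * (s a)⁻¹ * (α (s b) * (s b)⁻¹) := by group }
    have hχ : ∀ e : E, (χ (f e) : E) = α e * e⁻¹ := by
      intro e
      show α (s (f e)) * (s (f e))⁻¹ = α e * e⁻¹
      exact key _ _ (hs _)
    refine ⟨χ, ?_, ?_⟩
    · intro e
      rw [hχ]; group
    · intro χ' hχ'
      ext g
      obtain ⟨e, rfl⟩ := hf g
      rw [hχ]
      have := hχ' e
      rw [this]; group

end Groth.Agent.S18949
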