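import Groth.Statements.S18951
import Mathlib

set_option autoImplicit false
universe u
open OrbPic

namespace Groth.Agent.S18951

/-- Let G be a group and C ⊆ G a subset that generates G. Then the projection (χ, w) ↦ w from the group
of geometric partial orbifold line bundles with respect to C to functions G → ℚ is injective, its
image contains every conjugation-invariant integer-valued function vanishing at 1 and outside C, and
the group is torsion-free. (The source works with the geometric points of a tame finite étale group
scheme, characters with values in roots of unity and weights on conjugacy classes of the Tate twist;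
here these are identified with a group, homomorphisms to ℚ/ℤ and class functions as the source does
after choosing roots of unity. The case C = G ∖ {1} is the statement for full orbifold line
bundles.) -/
theorem result (G : Type u) [Group G] (C : Set G)
    (hC : Subgroup.closure C = ⊤) :
    Set.InjOn (fun p : (Additive G →+ W4c6brauerbgmalle.QmodZ) × (G → ℚ) => p.2) (W4c6brauerbgmalle.picOrb G C) ∧
      (∀ w ∈ W4c6brauerbgmalle.intWeights G C, ((0 : Additive G →+ W4c6brauerbgmalle.QmodZ), w) ∈ W4c6brauerbgmalle.picOrb G C) ∧
      ∀ (n : ℕ) (p : (Additive G →+ W4c6brauerbgmalle.QmodZ) × (G → ℚ)), p ∈ W4c6brauerbgmalle.picOrb G C → n ≠ 0 →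
        n • p = 0 → p = 0 := by
  have hinj : ∀ χ χ' : Additive G →+ W4c6brauerbgmalle.QmodZ, ∀ w : G → ℚ,
      (χ, w) ∈ W4c6brauerbgmalle.picOrb G C → (χ', w) ∈ W4c6brauerbgmalle.picOrb G C → χ = χ' := by
    intro χ χ' w h h'
    obtain ⟨-, -, -, h4⟩ := h
    obtain ⟨-, -, -, h4'⟩ := h'
    have key : ∀ g ∈ Subgroup.closure C, χ (Additive.ofMul g) = χ' (Additive.ofMul g) := by
      intro g hg
      induction hg using Subgroup.closure_induction with
      | mem x hx => rw [← h4 x hx, ← h4' x hx]
      | one => simp
      | mul x y _ _ hx hy => rw [ofMul_mul, map_add, map_add, hx, hy]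
      | inv x _ hx => rw [ofMul_inv, map_neg, map_neg, hx]
    ext g
    exact key g (by rw [hC]; trivial)
  refine ⟨?_, ?_, ?_⟩
  · rintro ⟨χ, w⟩ hp ⟨χ', w'⟩ hp' (hw : w = w')
    subst hw
    rw [hinj χ χ' w hp hp']
  · rintro w ⟨h1, h2, h3, h4⟩
    refine ⟨h1, h2, h3, ?_⟩
    intro g _
    obtain ⟨n, hn⟩ := h4 g
    simp only [AddMonoidHom.zero_apply]
    rw [hn]
    change ((n : ℚ) : W4c6brauerbgmalle.QmodZ) = 0
    rw [QuotientAddGroup.eq_zero_iff]
    exact ⟨n, by simp⟩
  · rintro n ⟨χ, w⟩ hp hn hnp
    have hw : w = 0 := by
      have h2 : n • w = 0 := congrArg Prod.snd hnp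
      ext g
      have := congrFun h2 g
      simp only [Pi.smul_apply, Pi.zero_apply, nsmul_eq_mul] at this
      rcases mul_eq_zero.mp this with h | h
      · exact absurd (by exact_mod_cast h) hn
      · exact h
    subst hw
    have h0 : ((0 : Additive G →+ W4c6brauerbgmalle.QmodZ), (0 : G → ℚ)) ∈ W4c6brauerbgmalle.picOrb G C :=
      (W4c6brauerbgmalle.picOrb G C).zero_mem
    rw [hinj χ 0 0 hp h0]
    rfl

end Groth.Agent.S18951
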