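import Groth.Statements.S4637
import Groth.Agent.S4636
import Groth.Agent.S6291
import Groth.Agent.Lib.Helper89.QuasiReg
import Groth.Agent.Lib.Helper45.S1Alg

set_option autoImplicit false
open CategoryTheory AlgebraicGeometry
universe u
open AssSch

namespace Groth.Agent.S4637

open Groth.Agent.Lib.Helper45

attribute [local instance] stalkModuleSections

/-- A finite module over a Noetherian local ring has finite length iff its support is contained in
the closed point. -/
theorem isFiniteLength_iff_support {B : Type u} [CommRing B] [IsLocalRing B] [IsNoetherianRing B]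
    (N : Type u) [AddCommGroup N] [Module B N] [Module.Finite B N] :
    IsFiniteLength B N ↔
      ∀ q : PrimeSpectrum B, q ∈ Module.support B N → q.asIdeal = IsLocalRing.maximalIdeal B := by
  constructor
  · intro hfl q hq
    obtain ⟨n, hn⟩ := Groth.Agent.S6291.result N hfl
    have hann : Module.annihilator B N ≤ q.asIdeal := Module.annihilator_le_of_mem_support hq
    have hpow : IsLocalRing.maximalIdeal B ^ n ≤ Module.annihilator B N := by
      intro r hr
      rw [Module.mem_annihilator]
      intro z
      have : r • z ∈ IsLocalRing.maximalIdeal B ^ n • (⊤ : Submodule B N) :=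
        Submodule.smul_mem_smul hr Submodule.mem_top
      rw [hn] at this
      exact (Submodule.mem_bot B).mp this
    have hle : IsLocalRing.maximalIdeal B ≤ q.asIdeal :=
      Ideal.IsPrime.le_of_pow_le (hpow.trans hann)
    exact le_antisymm (IsLocalRing.le_maximalIdeal q.isPrime.ne_top) hle
  · intro h
    apply Groth.Agent.Lib.Helper89.isFiniteLength_of_associatedPrimes_isMaximal
    intro P hP
    have hPP : P.IsPrime := IsAssociatedPrime.isPrime hP
    have hsupp : (⟨P, hPP⟩ : PrimeSpectrum B) ∈ Module.support B N := by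
      obtain ⟨-, m₀, hm₀⟩ := hP
      rw [Module.mem_support_iff']
      refine ⟨m₀, fun r hr h0 => hr ?_⟩
      change r ∈ P
      rw [hm₀]
      apply Ideal.le_radical
      rw [Submodule.mem_colon_singleton]
      exact h0
    have := h _ hsupp
    change P = _ at this
    rw [this]
    exact IsLocalRing.maximalIdeal.isMaximal B

/-- Let X be a locally Noetherian scheme, F a coherent O_X-module and x a point of X. Then x is the
generic point of an irreducible component of Supp F (F_x ≠ 0 and every point y with F_y ≠ 0 that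
specialises to x equals x) if and only if F_x is a nonzero module of finite length over the local
ring O_{X,x}. -/
theorem result {X : Scheme.{u}} [IsLocallyNoetherian X] (F : X.Modules)
    (hF : Coh.IsCoh F) (x : X) :
    (Nontrivial ↑(F.presheaf.stalk x) ∧ ∀ y : X, Nontrivial ↑(F.presheaf.stalk y) → y ⤳ x → y = x) ↔
      (Nontrivial ↑(F.presheaf.stalk x) ∧ IsFiniteLength ↑(X.presheaf.stalk x) ↑(F.presheaf.stalk x)) := by
  have hq : SheafOfModules.IsQuasicoherent.{u, u, u} F := hF.1
  refine and_congr_right fun hnt => ?_
  obtain ⟨_, ⟨V, hV : IsAffineOpen V, rfl⟩, hxV, -⟩ :=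
    X.isBasis_affineOpens.exists_subset_of_mem_open (Set.mem_univ x) isOpen_univ
  obtain ⟨x, rfl⟩ : ∃ x' : V, (x' : X) = x := ⟨⟨x, hxV⟩, rfl⟩
  have : IsNoetherianRing Γ(X, V) := IsLocallyNoetherian.component_noetherian ⟨V, hV⟩
  have : Module.Finite Γ(X, V) Γ(F, V) := finite_sections_of_isCoh hV F hF
  have hlocR := hV.isLocalization_stalk x
  have hlocM := isLocalizedModule_germₗ hV F x
  have hBN : IsNoetherianRing (X.presheaf.stalk (x : X)) :=
    IsLocalization.isNoetherianRing (hV.primeIdealOf x).asIdeal.primeCompl _ inferInstance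
  have hfin : Module.Finite (X.presheaf.stalk (x : X)) (F.presheaf.stalk (x : X)) :=
    Module.Finite.of_isLocalizedModule (hV.primeIdealOf x).asIdeal.primeCompl (germₗ F x)
  have hcomap : (IsLocalRing.maximalIdeal (X.presheaf.stalk (x : X))).comap
      (algebraMap Γ(X, V) (X.presheaf.stalk (x : X))) = (hV.primeIdealOf x).asIdeal :=
    IsLocalization.AtPrime.under_maximalIdeal _ _
  have hmap : (hV.primeIdealOf x).asIdeal.map (algebraMap Γ(X, V) (X.presheaf.stalk (x : X))) =
      IsLocalRing.maximalIdeal (X.presheaf.stalk (x : X)) :=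
    IsLocalization.AtPrime.map_eq_maximalIdeal _ _
  rw [isFiniteLength_iff_support]
  constructor
  · intro hmax q' hq'
    have h1 := (mem_support_iff_comap_mem_support (hV.primeIdealOf x).asIdeal.primeCompl
      (X.presheaf.stalk (x : X)) (germₗ F x) q').mp hq'
    obtain ⟨y, hy⟩ := exists_primeIdealOf_eq hV (PrimeSpectrum.comap
      (algebraMap Γ(X, V) (X.presheaf.stalk (x : X))) q')
    have hyq : (hV.primeIdealOf y).asIdeal =
        q'.asIdeal.comap (algebraMap Γ(X, V) (X.presheaf.stalk (x : X))) :=
      congrArg PrimeSpectrum.asIdeal hy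
    have hynt : Nontrivial ↑(F.presheaf.stalk (y : X)) := by
      rw [← hy, Module.mem_support_iff] at h1
      have := isLocalizedModule_germₗ hV F y
      exact (IsLocalizedModule.iso (hV.primeIdealOf y).asIdeal.primeCompl
        (germₗ F y)).symm.toEquiv.nontrivial
    have hle : (hV.primeIdealOf y).asIdeal ≤ (hV.primeIdealOf x).asIdeal := by
      rw [hyq, ← hcomap]
      exact Ideal.comap_mono (IsLocalRing.le_maximalIdeal q'.isPrime.ne_top)
    have hyx : (y : X) = (x : X) := hmax y hynt ((primeIdealOf_le_iff hV x y).mp hle)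
    have hyx' : y = x := Subtype.ext hyx
    rw [hyx'] at hyq
    rw [← hmap, hyq]
    exact (IsLocalization.map_under (hV.primeIdealOf x).asIdeal.primeCompl _ q'.asIdeal).symm
  · intro hsupp y hynt hyx
    have hyV : y ∈ V := hyx.mem_open V.2 x.2
    obtain ⟨y, rfl⟩ : ∃ y' : V, (y' : X) = y := ⟨⟨y, hyV⟩, rfl⟩
    have hle : (hV.primeIdealOf y).asIdeal ≤ (hV.primeIdealOf x).asIdeal :=
      (primeIdealOf_le_iff hV x y).mpr hyx
    have hys := Groth.Agent.S4636.primeIdealOf_mem_support F hV y hynt
    have hdisj : Disjoint ((hV.primeIdealOf x).asIdeal.primeCompl : Set Γ(X, V))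
        ((hV.primeIdealOf y).asIdeal : Set Γ(X, V)) := by
      rw [Set.disjoint_left]
      intro a ha hay
      exact ha (hle hay)
    have hprime : ((hV.primeIdealOf y).asIdeal.map
        (algebraMap Γ(X, V) (X.presheaf.stalk (x : X)))).IsPrime :=
      IsLocalization.isPrime_of_isPrime_disjoint (hV.primeIdealOf x).asIdeal.primeCompl _ _
        (hV.primeIdealOf y).isPrime hdisj
    have hcm : ((hV.primeIdealOf y).asIdeal.map
        (algebraMap Γ(X, V) (X.presheaf.stalk (x : X)))).comap
        (algebraMap Γ(X, V) (X.presheaf.stalk (x : X))) = (hV.primeIdealOf y).asIdeal :=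
      IsLocalization.under_map_of_isPrime_disjoint (hV.primeIdealOf x).asIdeal.primeCompl _
        (hV.primeIdealOf y).isPrime hdisj
    have hq' : (⟨_, hprime⟩ : PrimeSpectrum (X.presheaf.stalk (x : X))) ∈
        Module.support (X.presheaf.stalk (x : X)) (F.presheaf.stalk (x : X)) := by
      rw [mem_support_iff_comap_mem_support (hV.primeIdealOf x).asIdeal.primeCompl
        (X.presheaf.stalk (x : X)) (germₗ F x)]
      have : PrimeSpectrum.comap (algebraMap Γ(X, V) (X.presheaf.stalk (x : X)))
          ⟨_, hprime⟩ = hV.primeIdealOf y := PrimeSpectrum.ext hcm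
      rw [this]
      exact hys
    have h2 := hsupp _ hq'
    change (hV.primeIdealOf y).asIdeal.map _ = _ at h2
    have h3 : (hV.primeIdealOf y).asIdeal = (hV.primeIdealOf x).asIdeal := by
      rw [← hcm, h2, hcomap]
    exact congrArg Subtype.val (primeIdealOf_injective hV (PrimeSpectrum.ext h3))

end Groth.Agent.S4637
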