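import Groth.Statements.S1916
import Groth.Agent.S4637

set_option autoImplicit false
universe u
open CategoryTheory AlgebraicGeometry
open Cyc

namespace Groth.Agent.S1916

open TopologicalSpace in
/-- In a topological space in which every point has a neighbourhood that is a Noetherian subspace, the
irreducible components of any subspace form a locally finite family of subsets. -/
theorem locallyFinite_irreducibleComponents_subtype {X : Type*} [TopologicalSpace X]
    (hX : ∀ x : X, ∃ V : Set X, IsOpen V ∧ x ∈ V ∧ NoetherianSpace V) (S : Set X) :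
    LocallyFinite (fun Z : irreducibleComponents S => ((↑) '' (Z : Set S) : Set X)) := by
  intro x
  obtain ⟨V, hVo, hxV, hVN⟩ := hX x
  refine ⟨V, hVo.mem_nhds hxV, ?_⟩
  -- the open subspace `T = S ∩ V` of `S`
  let T : Set S := Subtype.val ⁻¹' V
  have hTo : IsOpen T := hVo.preimage continuous_subtype_val
  have hemb : Topology.IsOpenEmbedding (Subtype.val : T → S) := hTo.isOpenEmbedding_subtypeVal
  -- `T` is Noetherian
  have hTN : NoetherianSpace T := by
    let g : T → V := fun t => ⟨t.1.1, t.2⟩
    have hg : Topology.IsInducing g := by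
      have h1 : Topology.IsInducing (fun t : T => ((t : S) : X)) :=
        Topology.IsInducing.subtypeVal.comp Topology.IsInducing.subtypeVal
      have h2 : (fun t : T => ((t : S) : X)) = Subtype.val ∘ g := rfl
      rw [h2] at h1
      exact Topology.IsInducing.of_comp (by fun_prop) continuous_subtype_val h1
    exact hg.noetherianSpace
  have hfin : (irreducibleComponents T).Finite := NoetherianSpace.finite_irreducibleComponents
  -- the map `Z ↦ Z ∩ T`
  let φ : irreducibleComponents S → Set T := fun Z => Subtype.val ⁻¹' (Z : Set S)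
  have hne : ∀ Z : irreducibleComponents S, (((↑) '' (Z : Set S) : Set X) ∩ V).Nonempty →
      ((Z : Set S) ∩ Set.range (Subtype.val : T → S)).Nonempty := by
    rintro Z ⟨_, ⟨s, hsZ, rfl⟩, hsV⟩
    exact ⟨s, hsZ, ⟨⟨s, hsV⟩, rfl⟩⟩
  apply Set.Finite.of_finite_image (f := φ)
  · refine hfin.subset ?_
    rintro _ ⟨Z, hZ, rfl⟩
    exact preimage_mem_irreducibleComponents Z.2 hemb (hne Z hZ)
  · intro Z hZ Z' hZ' h
    have h1 := closure_image_preimage_of_isPreirreducible (Subtype.val : T → S) hemb.isOpenMap
      (Z : Set S) (by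
        obtain ⟨s, hsZ, ⟨t, rfl⟩⟩ := hne Z hZ
        exact ⟨t, hsZ⟩) Z.2.1.2 (isClosed_of_mem_irreducibleComponents _ Z.2)
    have h2 := closure_image_preimage_of_isPreirreducible (Subtype.val : T → S) hemb.isOpenMap
      (Z' : Set S) (by
        obtain ⟨s, hsZ, ⟨t, rfl⟩⟩ := hne Z' hZ'
        exact ⟨t, hsZ⟩) Z'.2.1.2 (isClosed_of_mem_irreducibleComponents _ Z'.2)
    apply Subtype.ext
    rw [← h1, ← h2]
    change closure (Subtype.val '' φ Z) = closure (Subtype.val '' φ Z')
    rw [h]

/-- Let F be a coherent O_X-module on a locally Noetherian scheme X. The irreducible components of Supp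
F form a locally finite family of subsets of X, and at every point ξ of Supp F admitting no proper
generalization inside Supp F the stalk F_ξ has finite length over O_{X,ξ}. -/
theorem result (X : Scheme.{u}) [IsLocallyNoetherian X] (F : X.Modules) (hF : Coh.IsCoh F) : LocallyFinite (fun Z : irreducibleComponents {x : X | Nontrivial (F.presheaf.stalk x)} => ((↑) '' (Z : Set {x : X | Nontrivial (F.presheaf.stalk x)}) : Set X)) ∧ ∀ ξ : X, Nontrivial (F.presheaf.stalk ξ) → (∀ x : X, Nontrivial (F.presheaf.stalk x) → x ⤳ ξ → x = ξ) → Module.length (X.presheaf.stalk ξ) (F.presheaf.stalk ξ) < ⊤ := by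
  refine ⟨?_, ?_⟩
  · apply locallyFinite_irreducibleComponents_subtype
    intro x
    obtain ⟨_, ⟨V, hV : IsAffineOpen V, rfl⟩, hxV, -⟩ :=
      X.isBasis_affineOpens.exists_subset_of_mem_open (Set.mem_univ x) isOpen_univ
    have : IsNoetherianRing Γ(X, V) := IsLocallyNoetherian.component_noetherian ⟨V, hV⟩
    exact ⟨V, V.2, hxV, noetherianSpace_of_isAffineOpen V hV⟩
  · intro ξ hnt hmax
    have h := (Groth.Agent.S4637.result F hF ξ).mp ⟨hnt, hmax⟩
    exact lt_top_iff_ne_top.mpr (Module.length_ne_top_iff.mpr h.2)

end Groth.Agent.S1916
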