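import Groth.Statements.S1896
-- import your own Groth.Agent.* helpers here
import Groth.Agent.Lib.Helper49.StalkExact
import Groth.Agent.Lib.Helper49.StalkNbhd
import Groth.Agent.S1916

set_option autoImplicit false
universe u
open CategoryTheory AlgebraicGeometry
open Cyc

namespace Groth.Agent.S1896

/-- For a short exact sequence 0 → F → G → H → 0 of coherent O_X-modules (X locally Noetherian with
dimension function δ) whose supports have δ-dimension at most k, one has [G]_k = [F]_k + [H]_k
coefficientwise. Here (X, δ) satisfies Cyc.IsSetup (X locally Noetherian with universally catenary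
local rings, δ a dimension function). -/
theorem result (X : Scheme.{u}) (δ : X → ℤ) (hX : Cyc.IsSetup X δ) (k : ℤ) (T : ShortComplex X.Modules) (hT : T.ShortExact) (h₁ : Coh.IsCoh T.X₁) (h₂ : Coh.IsCoh T.X₂) (h₃ : Coh.IsCoh T.X₃) (hdim : ∀ x : X, Nontrivial (T.X₂.presheaf.stalk x) → δ x ≤ k) : Cyc.sheafFun δ k T.X₂ = Cyc.sheafFun δ k T.X₁ + Cyc.sheafFun δ k T.X₃ := by
  classical
  obtain ⟨hN, -, hdimf⟩ := hX
  have : IsLocallyNoetherian X := hN
  funext x
  simp only [Pi.add_apply]
  unfold Cyc.sheafFun
  by_cases hx : δ x = k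
  · rw [if_pos hx, if_pos hx, if_pos hx]
    have hmono : Mono T.f := hT.mono_f
    have hepi : Epi T.g := hT.epi_g
    have hinj := Groth.Agent.Lib.Helper49.stalkMap_injective_of_mono T.f x
    have hsurj := Groth.Agent.Lib.Helper49.stalkMap_surjective_of_epi T.g x
    have hex := Groth.Agent.Lib.Helper49.stalkMap_exact_of_shortExact T hT x
    have hlen := Module.length_eq_add_of_exact (Groth.Agent.Lib.Helper49.stalkMapLinear T.f x)
      (Groth.Agent.Lib.Helper49.stalkMapLinear T.g x) hinj hsurj hex
    have hfin : Module.length (X.presheaf.stalk x) (T.X₂.presheaf.stalk x) ≠ ⊤ := by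
      by_cases hnt : Nontrivial (T.X₂.presheaf.stalk x)
      · refine ((Groth.Agent.S1916.result X T.X₂ h₂).2 x hnt ?_).ne
        intro x' hx' hspec
        by_contra hne
        have h1 := (hdimf x' x hspec hne).1
        have h2 := hdim x' hx'
        omega
      · rw [not_nontrivial_iff_subsingleton] at hnt
        rw [Module.length_eq_zero_iff.mpr hnt]
        exact ENat.zero_ne_top
    rw [hlen] at hfin ⊢
    have h1 : Module.length (X.presheaf.stalk x) (T.X₁.presheaf.stalk x) ≠ ⊤ :=
      fun h => hfin (by rw [h]; simp)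
    have h3 : Module.length (X.presheaf.stalk x) (T.X₃.presheaf.stalk x) ≠ ⊤ :=
      fun h => hfin (by rw [h]; simp)
    rw [ENat.toNat_add h1 h3]
    push_cast
    rfl
  · rw [if_neg hx, if_neg hx, if_neg hx]
    rfl

end Groth.Agent.S1896
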