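import Groth.Statements.S18960
import Mathlib

set_option autoImplicit false
universe w' w v u
open CategoryTheory Limits
open CatLim

namespace Groth.Agent.S18960

section construction

variable {C : Type u} [Category.{v} C] (T : C ⥤ C)
variable {J : Type w} [Category.{w'} J] [PreservesColimitsOfShape J T]

/-- the forgetful functor from algebras with invertible structure map -/
abbrev forgetIso : ObjectProperty.FullSubcategory (fun A : Endofunctor.Algebra T => IsIso A.str) ⥤ C :=
  (ObjectProperty.ι (fun A : Endofunctor.Algebra T => IsIso A.str)) ⋙ Endofunctor.Algebra.forget T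

variable {T}
variable (K : J ⥤ ObjectProperty.FullSubcategory (fun A : Endofunctor.Algebra T => IsIso A.str))

/-- the structure maps as a natural transformation -/
def strNat : (K ⋙ forgetIso T) ⋙ T ⟶ K ⋙ forgetIso T where
  app j := (K.obj j).obj.str
  naturality j j' f := (K.map f).hom.h

instance strNat_isIso : IsIso (strNat K) := by
  haveI : ∀ j, IsIso ((strNat K).app j) := fun j => (K.obj j).property
  exact NatIso.isIso_of_isIso_app _

variable {K}
variable (c : Cocone (K ⋙ forgetIso T)) (t : IsColimit c)

/-- the structure map on the colimit -/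
noncomputable def colimStr : T.obj c.pt ⟶ c.pt :=
  (isColimitOfPreserves T t).map c (strNat K)

theorem colimStr_fac (j : J) :
    T.map (c.ι.app j) ≫ colimStr c t = (K.obj j).obj.str ≫ c.ι.app j :=
  (isColimitOfPreserves T t).ι_map c (strNat K) j

instance colimStr_isIso : IsIso (colimStr c t) := by
  have : colimStr c t =
      (IsColimit.coconePointsIsoOfNatIso (isColimitOfPreserves T t) t (asIso (strNat K))).hom := rfl
  rw [this]
  infer_instance

/-- the lifted cocone -/
noncomputable def liftedCocone : Cocone K where
  pt := ⟨⟨c.pt, colimStr c t⟩, colimStr_isIso c t⟩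
  ι :=
    { app := fun j => ObjectProperty.homMk ⟨c.ι.app j, colimStr_fac c t j⟩
      naturality := fun j j' f => by
        apply ObjectProperty.hom_ext
        apply Endofunctor.Algebra.Hom.ext
        have := c.ι.naturality f
        simp only [Functor.const_obj_obj, Functor.const_obj_map, Category.comp_id] at this
        change (K.map f).hom.f ≫ c.ι.app j' = c.ι.app j ≫ 𝟙 _
        rw [Category.comp_id]
        exact this }

omit [PreservesColimitsOfShape J T] in
theorem aux_comm {X Y Z : C} (i : X ⟶ Y) (d : Y ⟶ Z) (g : X ⟶ Z) (u : T.obj X ⟶ X)
    (v : T.obj Y ⟶ Y) (w : T.obj Z ⟶ Z) (h1 : i ≫ d = g) (h2 : T.map g ≫ w = u ≫ g)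
    (h3 : T.map i ≫ v = u ≫ i) : T.map i ≫ T.map d ≫ w = T.map i ≫ v ≫ d := by
  rw [← Category.assoc, ← T.map_comp, h1, h2, ← Category.assoc, h3, Category.assoc, h1]

/-- the lifted cocone is a colimit -/
noncomputable def liftedIsColimit : IsColimit (liftedCocone c t) where
  desc s := ObjectProperty.homMk
    { f := t.desc ((forgetIso T).mapCocone s)
      h := by
        apply (isColimitOfPreserves T t).hom_ext
        intro j
        obtain ⟨d, hd⟩ : ∃ d : c.pt ⟶ s.pt.obj.a, d = t.desc ((forgetIso T).mapCocone s) := ⟨_, rfl⟩
        obtain ⟨g, hg⟩ : ∃ g : (K.obj j).obj.a ⟶ s.pt.obj.a, g = (s.ι.app j).hom.f := ⟨_, rfl⟩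
        have h1 : c.ι.app j ≫ d = g := by
          rw [hd, hg]; exact t.fac ((forgetIso T).mapCocone s) j
        have h2 : T.map g ≫ s.pt.obj.str = (K.obj j).obj.str ≫ g := by
          rw [hg]; exact (s.ι.app j).hom.h
        have h3 : T.map (c.ι.app j) ≫ colimStr c t = (K.obj j).obj.str ≫ c.ι.app j :=
          colimStr_fac c t j
        rw [← hd]
        exact aux_comm (T := T) (c.ι.app j) d g (K.obj j).obj.str (colimStr c t) s.pt.obj.str h1 h2 h3 }
  fac s j := by
    apply ObjectProperty.hom_ext
    apply Endofunctor.Algebra.Hom.ext
    exact t.fac ((forgetIso T).mapCocone s) j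
  uniq s m w := by
    apply ObjectProperty.hom_ext
    apply Endofunctor.Algebra.Hom.ext
    apply t.uniq ((forgetIso T).mapCocone s) m.hom.f
    intro j
    have := congrArg (fun φ => φ.hom.f) (w j)
    exact this

end construction


/-- Let C be a category and T an endofunctor of C; let C(T) be the category whose objects are pairs (X,
u) with u : T X → X an isomorphism and whose morphisms (X, u) → (Y, w) are the morphisms X → Y
compatible with u and w — the full subcategory of T-algebras with invertible structure map — and let
π : C(T) → C be the forgetful functor. If T preserves colimits of shape J then π creates colimits of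
shape J. (The source assumes T preserves all small colimits and concludes for all small shapes; the
argument is shape by shape.) -/
theorem result {C : Type u} [Category.{v} C] (T : C ⥤ C)
    (J : Type w) [Category.{w'} J] [PreservesColimitsOfShape J T] :
    Nonempty (CreatesColimitsOfShape J
      ((ObjectProperty.ι (fun A : Endofunctor.Algebra T => IsIso A.str)) ⋙ Endofunctor.Algebra.forget T)) := by
  refine ⟨⟨@fun K => ?_⟩⟩
  exact createsColimitOfReflectsIso (fun c t =>
    { liftedCocone := liftedCocone c t
      validLift := Cocone.ext (Iso.refl _) (fun j => Category.comp_id _)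
      makesColimit := liftedIsColimit c t })

end Groth.Agent.S18960
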