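import Groth.Statements.S18961
import Mathlib

set_option autoImplicit false
universe u
open BBDec

namespace Groth.Agent.S18961

open MvPolynomial

section Helpers

theorem taylor {A : Type u} [CommRing A] {σ : Type} [Fintype σ] [DecidableEq σ] {C : Type u} [CommRing C]
    [Algebra A C]
    (ι τ : MvPolynomial σ A →ₐ[A] C) (N : Ideal C) (hN : ∀ x ∈ N, ∀ y ∈ N, x * y = 0)
    (hδ : ∀ i, ι (X i) - τ (X i) ∈ N) (f : MvPolynomial σ A) :
    ι f - τ f = ∑ i, τ (pderiv i f) * (ι (X i) - τ (X i)) := by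
  induction f using MvPolynomial.induction_on with
  | C a => simp
  | add p q hp hq =>
    simp only [map_add, add_mul, Finset.sum_add_distrib, ← hp, ← hq]; ring
  | mul_X p j hp =>
    have h1 : ι (p * X j) - τ (p * X j) =
        (ι p - τ p) * τ (X j) + (ι p - τ p) * (ι (X j) - τ (X j)) + τ p * (ι (X j) - τ (X j)) := by
      simp only [map_mul]; ring
    have h2 : (ι p - τ p) * (ι (X j) - τ (X j)) = 0 := by
      apply hN _ _ _ (hδ j)
      rw [hp]
      exact N.sum_mem fun i _ => N.mul_mem_left _ (hδ i)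
    rw [h1, h2, add_zero, hp, Finset.sum_mul]
    simp only [Derivation.leibniz, pderiv_X, smul_eq_mul, map_add, map_mul, add_mul,
      Finset.sum_add_distrib]
    rw [add_comm]
    congr 1
    · rw [Finset.sum_eq_single j]
      · simp
      · intro i _ hij; simp [Pi.single_eq_of_ne (Ne.symm hij)]
      · simp
    · apply Finset.sum_congr rfl; intro i _; ring

theorem eq_zero_of_mul_eq_zero_of_cc {A : Type u} [CommRing A] {σ : Type} (r h : MvPolynomial σ A)
    (hr : constantCoeff r = 1) (hrh : r * h = 0) : h = 0 := by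
  have h1 : ((r : MvPolynomial σ A) : MvPowerSeries σ A) * (h : MvPowerSeries σ A) = 0 := by
    rw [← MvPolynomial.coe_mul, hrh, MvPolynomial.coe_zero]
  have hu : IsUnit ((r : MvPolynomial σ A) : MvPowerSeries σ A) := by
    rw [MvPowerSeries.isUnit_iff_constantCoeff]
    have : MvPowerSeries.constantCoeff ((r : MvPolynomial σ A) : MvPowerSeries σ A) = constantCoeff r := by
      rw [← MvPowerSeries.coeff_zero_eq_constantCoeff_apply, MvPolynomial.coeff_coe,
        MvPolynomial.constantCoeff_eq]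
    rw [this, hr]; exact isUnit_one
  have h2 := (hu.mul_right_eq_zero).1 h1
  exact MvPolynomial.coe_eq_zero_iff.1 h2

/-- Nakayama-type conclusion -/
theorem ideal_eq_bot {A : Type u} [CommRing A] {σ : Type} (I : Ideal (MvPolynomial σ A)) (hfg : I.FG)
    (h : I ≤ idealOfVars σ A • I) : I = ⊥ := by
  obtain ⟨r, hr1, hr2⟩ :=
    Submodule.exists_sub_one_mem_and_smul_eq_zero_of_fg_of_le_smul (idealOfVars σ A) I hfg h
  have hcc : constantCoeff r = 1 := by
    have : constantCoeff (r - 1) = 0 := by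
      have := (mem_pow_idealOfVars_iff' 1 (r - 1)).1 (by rwa [pow_one]) 0 (by simp)
      simpa [constantCoeff_eq] using this
    rw [map_sub, map_one, sub_eq_zero] at this
    exact this
  rw [eq_bot_iff]
  intro f hf
  have : r * f = 0 := by
    have := hr2 f hf
    simpa using this
  rw [Ideal.mem_bot]
  exact eq_zero_of_mul_eq_zero_of_cc r f hcc this

theorem exists_u {A B : Type u} [CommRing A] [CommRing B] [Algebra A B] [Algebra.FinitePresentation A B]
    (J : Ideal B) (hsm : ∀ (P : Ideal B) [P.IsPrime], J ≤ P → Algebra.IsSmoothAt A P) :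
    ∃ u : B, u - 1 ∈ J ∧ Algebra.FormallySmooth A (Localization.Away u) := by
  have hopen : IsOpen (Algebra.smoothLocus A B) := Algebra.isOpen_smoothLocus
  have hsub : PrimeSpectrum.zeroLocus (J : Set B) ⊆ Algebra.smoothLocus A B := by
    intro p hp
    exact hsm p.asIdeal ((PrimeSpectrum.mem_zeroLocus _ _).1 hp)
  obtain ⟨K, hK⟩ := (PrimeSpectrum.isClosed_iff_zeroLocus_ideal _).1 hopen.isClosed_compl
  have hdisj : PrimeSpectrum.zeroLocus ((J ⊔ K : Ideal B) : Set B) = ∅ := by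
    rw [PrimeSpectrum.zeroLocus_sup, ← hK]
    ext p
    simp only [Set.mem_inter_iff, Set.mem_compl_iff, Set.mem_empty_iff_false, iff_false, not_and,
      not_not]
    exact fun hp => hsub hp
  rw [PrimeSpectrum.zeroLocus_empty_iff_eq_top] at hdisj
  have h1 : (1 : B) ∈ J ⊔ K := by rw [hdisj]; trivial
  obtain ⟨i, hi, j, hj, hij⟩ := Submodule.mem_sup.1 h1
  refine ⟨j, ?_, ?_⟩
  · have : j - 1 = -i := by rw [← hij]; ring
    rw [this]; exact J.neg_mem hi
  · rw [← Algebra.basicOpen_subset_smoothLocus_iff]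
    intro p hp
    by_contra hns
    have hpK : p ∈ PrimeSpectrum.zeroLocus (K : Set B) := by rw [← hK]; exact hns
    exact hp (((PrimeSpectrum.mem_zeroLocus _ _).1 hpK) hj)

theorem core {A B : Type u} [CommRing A] [CommRing B] [Algebra A B] {σ : Type} [Fintype σ]
    [DecidableEq σ]
    (φ : MvPolynomial σ A →ₐ[A] B) (hφ : Function.Surjective φ) (J : Ideal B)
    (h2 : ∀ f ∈ RingHom.ker φ, ∀ i, φ (pderiv i f) ∈ J)
    (h3 : ∀ g, φ g ∈ J → g ∈ idealOfVars σ A)
    (v : MvPolynomial σ A) (hv : φ v - 1 ∈ J)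
    (hsm : Algebra.FormallySmooth A (Localization.Away (φ v))) :
    RingHom.ker φ ≤ idealOfVars σ A • RingHom.ker φ := by
  classical
  obtain ⟨I, hI⟩ : ∃ I : Ideal (MvPolynomial σ A), I = RingHom.ker φ := ⟨_, rfl⟩
  rw [← hI]
  have hI2 : I ^ 2 ≤ I := Ideal.pow_le_self two_ne_zero
  -- the square-zero thickening
  let S₂ := MvPolynomial σ A ⧸ I ^ 2
  let φ₂ : S₂ →ₐ[A] B := Ideal.Quotient.liftₐ (I ^ 2) φ (fun a ha => by
    have : a ∈ RingHom.ker φ := hI ▸ hI2 ha
    exact this)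
  have hφ₂ : Function.Surjective φ₂ := by
    intro b
    obtain ⟨s, rfl⟩ := hφ b
    exact ⟨Ideal.Quotient.mk _ s, rfl⟩
  have hker₂ : ∀ x : S₂, φ₂ x = 0 → ∃ f ∈ I, Ideal.Quotient.mk (I ^ 2) f = x := by
    intro x hx
    obtain ⟨f, rfl⟩ := Ideal.Quotient.mk_surjective x
    refine ⟨f, ?_, rfl⟩
    rw [hI]; exact hx
  let v₂ : S₂ := Ideal.Quotient.mk (I ^ 2) v
  have hv₂ : φ₂ v₂ = φ v := rfl
  let C := Localization.Away v₂
  haveI : Algebra.FormallySmooth A (Localization.Away (φ₂ v₂)) := hsm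
  let g : C →ₐ[A] Localization.Away (φ₂ v₂) := Localization.awayMapₐ φ₂ v₂
  have hg : Function.Surjective g := IsLocalization.Away.mapₐ_surjective_of_surjective v₂ hφ₂
  have hkerg : RingHom.ker (g : C →+* Localization.Away (φ₂ v₂)) =
      (RingHom.ker (φ₂ : S₂ →+* B)).map (algebraMap S₂ C) := by
    haveI : IsLocalization (Submonoid.powers ((φ₂ : S₂ →+* B) v₂)) (Localization.Away (φ₂ v₂)) :=
      inferInstanceAs (IsLocalization (Submonoid.powers (φ₂ v₂)) (Localization.Away (φ₂ v₂)))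
    exact IsLocalization.ker_map (Localization.Away (φ₂ v₂)) (φ₂ : S₂ →+* B)
      (Submonoid.map_powers (φ₂ : S₂ →+* B) v₂)
  obtain ⟨N, hNdef⟩ : ∃ N : Ideal C, N = RingHom.ker (g : C →+* Localization.Away (φ₂ v₂)) := ⟨_, rfl⟩
  obtain ⟨K₂, hK₂def⟩ : ∃ K₂ : Ideal S₂, K₂ = RingHom.ker (φ₂ : S₂ →+* B) := ⟨_, rfl⟩
  have hK₂I : K₂ ≤ I.map (Ideal.Quotient.mk (I ^ 2)) := by
    intro x hx
    rw [hK₂def] at hx
    obtain ⟨f, hf, rfl⟩ := hker₂ x hx
    exact Ideal.mem_map_of_mem _ hf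
  have hK2 : K₂ * K₂ = ⊥ := by
    rw [eq_bot_iff]
    refine (Ideal.mul_mono hK₂I hK₂I).trans ?_
    rw [← Ideal.map_mul, ← pow_two, Ideal.map_quotient_self]
  have hNN : N * N = ⊥ := by
    rw [hNdef, hkerg, ← hK₂def, ← Ideal.map_mul, hK2, Ideal.map_bot]
  have hN2 : ∀ x ∈ N, ∀ y ∈ N, x * y = 0 := by
    intro x hx y hy
    have := Ideal.mul_mem_mul hx hy
    rwa [hNN, Ideal.mem_bot] at this
  have hnil : IsNilpotent (RingHom.ker (g : C →+* Localization.Away (φ₂ v₂))) := by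
    refine ⟨2, ?_⟩
    rw [← hNdef]; rw [pow_two N, hNN]; rfl
  let σ' : Localization.Away (φ₂ v₂) →ₐ[A] C :=
    Algebra.FormallySmooth.liftOfSurjective (AlgHom.id A _) g hg hnil
  have hσ : ∀ x, g (σ' x) = x := fun x =>
    Algebra.FormallySmooth.liftOfSurjective_apply (AlgHom.id A _) g hg hnil x
  let ι : MvPolynomial σ A →ₐ[A] C :=
    (IsScalarTower.toAlgHom A S₂ C).comp (Ideal.Quotient.mkₐ A (I ^ 2))
  let τ : MvPolynomial σ A →ₐ[A] C :=
    σ'.comp ((IsScalarTower.toAlgHom A B (Localization.Away (φ₂ v₂))).comp φ)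
  have hgι : ∀ s, g (ι s) = algebraMap B (Localization.Away (φ₂ v₂)) (φ s) := by
    intro s
    have : ι s = algebraMap S₂ C (Ideal.Quotient.mk (I ^ 2) s) := rfl
    rw [this]
    haveI : IsLocalization (Submonoid.powers ((φ₂ : S₂ →+* B) v₂)) (Localization.Away (φ₂ v₂)) :=
      inferInstanceAs (IsLocalization (Submonoid.powers (φ₂ v₂)) (Localization.Away (φ₂ v₂)))
    exact IsLocalization.map_eq (M := Submonoid.powers v₂) (S := C)
      (T := Submonoid.powers ((φ₂ : S₂ →+* B) v₂)) (Q := Localization.Away (φ₂ v₂))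
      (g := (φ₂ : S₂ →+* B))
      (by rw [← Submonoid.map_le_iff_le_comap, Submonoid.map_powers]) _
  have hgτ : ∀ s, g (τ s) = algebraMap B (Localization.Away (φ₂ v₂)) (φ s) := fun s => hσ _
  have hmemN : ∀ x y : C, g x = g y → x - y ∈ N := by
    intro x y hxy
    rw [hNdef, RingHom.mem_ker, map_sub]
    exact sub_eq_zero.2 hxy
  have hδ : ∀ i, ι (X i) - τ (X i) ∈ N := fun i => hmemN _ _ ((hgι _).trans (hgτ _).symm)
  have hIn : I ≤ idealOfVars σ A := by
    intro f hf
    apply h3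
    have : φ f = 0 := by rw [hI] at hf; exact hf
    rw [this]; exact J.zero_mem
  intro f hf
  have hφf : φ f = 0 := by rw [hI] at hf; exact hf
  have hτf : τ f = 0 := by
    change σ' (algebraMap B _ (φ f)) = 0
    rw [hφf, map_zero, map_zero]
  have htay := taylor ι τ N hN2 hδ f
  rw [hτf, sub_zero] at htay
  -- each term lies in the extension of `𝔫 * I`
  have hterm : ∀ i, τ (pderiv i f) * (ι (X i) - τ (X i)) ∈
      Ideal.map (algebraMap S₂ C) ((idealOfVars σ A * I).map (Ideal.Quotient.mk (I ^ 2))) := by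
    intro i
    obtain ⟨b, hb⟩ := hφ (φ (pderiv i f))
    have hb𝔫 : b ∈ idealOfVars σ A := h3 b (by rw [hb]; exact h2 f (hI ▸ hf) i)
    have h1 : τ (pderiv i f) - ι b ∈ N := hmemN _ _ ((hgτ _).trans ((hgι _).trans (by rw [hb])).symm)
    have h2' : τ (pderiv i f) * (ι (X i) - τ (X i)) = ι b * (ι (X i) - τ (X i)) := by
      have := hN2 _ h1 _ (hδ i)
      rw [sub_mul, sub_eq_zero] at this
      exact this
    rw [h2', Ideal.map_mul, Ideal.map_mul]
    refine Ideal.mul_mem_mul ?_ ?_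
    · exact Ideal.mem_map_of_mem _ (Ideal.mem_map_of_mem _ hb𝔫)
    · have := hδ i
      rw [hNdef, hkerg, ← hK₂def] at this
      exact Ideal.map_mono hK₂I this
  have hιf : algebraMap S₂ C (Ideal.Quotient.mk (I ^ 2) f) ∈
      Ideal.map (algebraMap S₂ C) ((idealOfVars σ A * I).map (Ideal.Quotient.mk (I ^ 2))) := by
    change ι f ∈ _
    rw [htay]
    exact Ideal.sum_mem _ fun i _ => hterm i
  rw [IsLocalization.mem_map_algebraMap_iff (Submonoid.powers v₂)] at hιf
  obtain ⟨⟨⟨j, hj⟩, ⟨m, k, hk⟩⟩, hjm⟩ := hιf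
  simp only at hjm hk
  rw [← map_mul, IsLocalization.eq_iff_exists (Submonoid.powers v₂)] at hjm
  obtain ⟨⟨c, k', hk'⟩, hc⟩ := hjm
  simp only at hc hk'
  -- so `mk (v^(k'+k) * f) ∈ map mk (𝔫 * I)`
  have hmem : Ideal.Quotient.mk (I ^ 2) (v ^ (k' + k) * f) ∈
      (idealOfVars σ A * I).map (Ideal.Quotient.mk (I ^ 2)) := by
    have : Ideal.Quotient.mk (I ^ 2) (v ^ (k' + k) * f) = c * j := by
      rw [← hc, ← hk', ← hk, map_mul, map_pow, pow_add]; ring
    rw [this]
    exact Ideal.mul_mem_left _ _ hj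
  rw [Ideal.mem_map_iff_of_surjective _ Ideal.Quotient.mk_surjective] at hmem
  obtain ⟨w, hw, hwe⟩ := hmem
  have hdiff : v ^ (k' + k) * f - w ∈ I ^ 2 := by
    rw [← Ideal.Quotient.eq]; exact hwe.symm
  have hI2' : I ^ 2 ≤ idealOfVars σ A * I := by
    rw [pow_two]; exact Ideal.mul_mono_left hIn
  have hvf : v ^ (k' + k) * f ∈ idealOfVars σ A * I := by
    have := Ideal.add_mem _ (hI2' hdiff) hw
    rwa [sub_add_cancel] at this
  have h1v : 1 - v ^ (k' + k) ∈ idealOfVars σ A := by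
    apply h3
    rw [map_sub, map_one, map_pow]
    have hdvd : φ v - 1 ∣ (φ v) ^ (k' + k) - 1 ^ (k' + k) := sub_dvd_pow_sub_pow _ _ _
    rw [one_pow] at hdvd
    obtain ⟨t, ht⟩ := hdvd
    have : 1 - φ v ^ (k' + k) = -((φ v - 1) * t) := by rw [← ht]; ring
    rw [this]
    exact J.neg_mem (J.mul_mem_right _ hv)
  have : f = v ^ (k' + k) * f + (1 - v ^ (k' + k)) * f := by ring
  rw [smul_eq_mul, this]
  exact Ideal.add_mem _ hvf (Ideal.mul_mem_mul h1v hf)

theorem exists_factor {A M Q Q' : Type u} [CommRing A] [AddCommGroup M] [Module A M]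
    [AddCommGroup Q] [Module A Q] [AddCommGroup Q'] [Module A Q']
    (π : M →ₗ[A] Q) (hπ : Function.Surjective π) (f : M →ₗ[A] Q')
    (h : LinearMap.ker π ≤ LinearMap.ker f) : ∃ g : Q →ₗ[A] Q', ∀ x, g (π x) = f x := by
  refine ⟨((LinearMap.ker π).liftQ f h) ∘ₗ (π.quotKerEquivOfSurjective hπ).symm.toLinearMap, ?_⟩
  intro x
  have : (π.quotKerEquivOfSurjective hπ).symm (π x) = (LinearMap.ker π).mkQ x := by
    rw [LinearEquiv.symm_apply_eq]
    rfl
  simp [this]

section Graded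

variable {A B : Type u} [CommRing A] [CommRing B] [Algebra A B] (𝒜 : ℕ → Submodule A B)
  [GradedAlgebra 𝒜]

abbrev Ip : Ideal B := (HomogeneousIdeal.irrelevant 𝒜).toIdeal

theorem proj_mem_Ip (n : ℕ) {x : B} (hx : x ∈ Ip 𝒜) : GradedAlgebra.proj 𝒜 n x ∈ Ip 𝒜 :=
  (HomogeneousIdeal.irrelevant 𝒜).isHomogeneous n hx

theorem proj_mem_Ip2 (n : ℕ) {x : B} (hx : x ∈ Ip 𝒜 ^ 2) : GradedAlgebra.proj 𝒜 n x ∈ Ip 𝒜 ^ 2 := by
  have h : Ideal.IsHomogeneous 𝒜 (Ip 𝒜 ^ 2) := by
    rw [pow_two]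
    exact (HomogeneousIdeal.irrelevant 𝒜).isHomogeneous.mul (HomogeneousIdeal.irrelevant 𝒜).isHomogeneous
  exact h n hx

/-- the degree-`n` projection on the irrelevant ideal -/
noncomputable def prI (n : ℕ) : ↥(Ip 𝒜) →ₗ[A] ↥(Ip 𝒜) where
  toFun x := ⟨GradedAlgebra.proj 𝒜 n x, proj_mem_Ip 𝒜 n x.2⟩
  map_add' x y := Subtype.ext (by
    show GradedAlgebra.proj 𝒜 n ((x + y : ↥(Ip 𝒜)) : B) = _
    rw [Submodule.coe_add, map_add]; rfl)
  map_smul' a x := Subtype.ext (by
    show GradedAlgebra.proj 𝒜 n ((a • x : ↥(Ip 𝒜)) : B) = _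
    rw [Submodule.coe_smul_of_tower, map_smul]; rfl)

@[simp] theorem prI_coe (n : ℕ) (x : ↥(Ip 𝒜)) : ((prI 𝒜 n x : ↥(Ip 𝒜)) : B) = GradedAlgebra.proj 𝒜 n x := rfl

theorem prI_prI (n m : ℕ) (x : ↥(Ip 𝒜)) :
    prI 𝒜 n (prI 𝒜 m x) = if n = m then prI 𝒜 n x else 0 := by
  ext
  split_ifs with h
  · subst h
    simp only [prI_coe, GradedAlgebra.proj_apply]
    rw [DirectSum.decompose_of_mem_same]
    exact SetLike.coe_mem _
  · simp only [prI_coe, GradedAlgebra.proj_apply, ZeroMemClass.coe_zero]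
    rw [DirectSum.decompose_of_mem_ne 𝒜 (SetLike.coe_mem _) (Ne.symm h)]

/-- the `A`-linear cotangent projection -/
noncomputable def piA : ↥(Ip 𝒜) →ₗ[A] (Ip 𝒜).Cotangent := (Ip 𝒜).toCotangent.restrictScalars A

theorem piA_surjective : Function.Surjective (piA 𝒜) := (Ip 𝒜).toCotangent_surjective

theorem piA_eq_zero (x : ↥(Ip 𝒜)) : piA 𝒜 x = 0 ↔ (x : B) ∈ Ip 𝒜 ^ 2 := (Ip 𝒜).toCotangent_eq_zero x

theorem exists_q (n : ℕ) : ∃ q : (Ip 𝒜).Cotangent →ₗ[A] (Ip 𝒜).Cotangent,
    ∀ x, q (piA 𝒜 x) = piA 𝒜 (prI 𝒜 n x) := by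
  apply exists_factor (piA 𝒜) (piA_surjective 𝒜) ((piA 𝒜) ∘ₗ (prI 𝒜 n))
  intro x hx
  rw [LinearMap.mem_ker] at hx ⊢
  rw [LinearMap.comp_apply, piA_eq_zero] at *
  exact proj_mem_Ip2 𝒜 n hx

theorem sum_proj (x : B) : ∃ N, ∀ M, N ≤ M →
    ∑ n ∈ Finset.range M, GradedAlgebra.proj 𝒜 n x = x := by
  classical
  refine ⟨(DirectSum.decompose 𝒜 x).support.sup id + 1, fun M hM => ?_⟩
  have hsub : (DirectSum.decompose 𝒜 x).support ⊆ Finset.range M := by
    intro n hn
    rw [Finset.mem_range]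
    have : n ≤ (DirectSum.decompose 𝒜 x).support.sup id := Finset.le_sup (f := id) hn
    omega
  rw [← Finset.sum_subset hsub]
  · exact DirectSum.sum_support_decompose 𝒜 x
  · intro n _ hn
    rw [DFinsupp.notMem_support_iff] at hn
    rw [GradedAlgebra.proj_apply, hn]; rfl

theorem sum_proj_fin {r : ℕ} (t : Fin r → B) : ∃ N, ∀ i,
    ∑ n ∈ Finset.range N, GradedAlgebra.proj 𝒜 n (t i) = t i := by
  choose Nf hNf using fun i => sum_proj 𝒜 (t i)
  refine ⟨Finset.univ.sup Nf, fun i => hNf i _ (Finset.le_sup (Finset.mem_univ i))⟩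

theorem exists_graded_section [Module.Free A (Ip 𝒜).Cotangent] [Module.Finite A (Ip 𝒜).Cotangent] :
    ∃ (s : (Ip 𝒜).Cotangent →ₗ[A] ↥(Ip 𝒜)) (q : ℕ → (Ip 𝒜).Cotangent →ₗ[A] (Ip 𝒜).Cotangent),
      (∀ c, piA 𝒜 (s c) = c) ∧ (∀ m c, prI 𝒜 m (s c) = s (q m c)) ∧
      (∀ n x, q n (piA 𝒜 x) = piA 𝒜 (prI 𝒜 n x)) := by
  classical
  obtain ⟨s₀, hs₀⟩ := Module.projective_lifting_property (piA 𝒜) LinearMap.id (piA_surjective 𝒜)
  choose q hq using exists_q 𝒜
  have hqq : ∀ n m c, q n (q m c) = if n = m then q n c else 0 := by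
    intro n m c
    obtain ⟨x, rfl⟩ := piA_surjective 𝒜 c
    rw [hq, hq, prI_prI]
    split_ifs with h
    · rw [hq]
    · rw [map_zero]
  obtain ⟨m, c, hc⟩ := Module.Finite.exists_fin (R := A) (M := (Ip 𝒜).Cotangent)
  choose t ht using fun j => piA_surjective 𝒜 (c j)
  obtain ⟨N, hN⟩ := sum_proj_fin 𝒜 (fun j => (t j : B))
  have hsum : ∑ n ∈ Finset.range N, q n = LinearMap.id := by
    apply LinearMap.ext_on_range hc
    intro j
    rw [LinearMap.sum_apply, LinearMap.id_apply, ← ht j]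
    simp only [hq]
    rw [← map_sum]
    congr 1
    apply Subtype.ext
    rw [AddSubmonoidClass.coe_finsetSum]
    exact hN j
  refine ⟨∑ n ∈ Finset.range N, (prI 𝒜 n) ∘ₗ s₀ ∘ₗ (q n), q, ?_, ?_, hq⟩
  · intro c
    rw [LinearMap.sum_apply, map_sum]
    have : ∀ n ∈ Finset.range N, piA 𝒜 (((prI 𝒜 n) ∘ₗ s₀ ∘ₗ (q n)) c) = q n c := by
      intro n _
      rw [LinearMap.comp_apply, LinearMap.comp_apply, ← hq]
      have := LinearMap.congr_fun hs₀ (q n c)
      rw [LinearMap.comp_apply, LinearMap.id_apply] at this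
      rw [this, hqq, if_pos rfl]
    rw [Finset.sum_congr rfl this, ← LinearMap.sum_apply, hsum, LinearMap.id_apply]
  · intro m c
    rw [LinearMap.sum_apply, LinearMap.sum_apply, map_sum]
    apply Finset.sum_congr rfl
    intro n _
    simp only [LinearMap.comp_apply]
    rw [prI_prI, hqq]
    by_cases h : m = n
    · subst h; simp
    · rw [if_neg h, if_neg (Ne.symm h), map_zero, map_zero]

/-- products of elements of the irrelevant ideal: the degree `n` part lies in a subalgebra containing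
all lower degree pieces -/
theorem proj_mul_mem (C : Subalgebra A B) (n : ℕ) (IH : ∀ m < n, ∀ b ∈ 𝒜 m, b ∈ C)
    {y : B} (hy : y ∈ Ip 𝒜 ^ 2) : GradedAlgebra.proj 𝒜 n y ∈ C := by
  rw [pow_two] at hy
  refine Submodule.mul_induction_on hy ?_ ?_
  · intro x hx z hz
    obtain ⟨N1, h1⟩ := sum_proj 𝒜 x
    obtain ⟨N2, h2⟩ := sum_proj 𝒜 z
    have hx0 : GradedAlgebra.proj 𝒜 0 x = 0 := (HomogeneousIdeal.mem_irrelevant_iff 𝒜 x).1 hx
    have hz0 : GradedAlgebra.proj 𝒜 0 z = 0 := (HomogeneousIdeal.mem_irrelevant_iff 𝒜 z).1 hz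
    have e : x * z = (∑ i ∈ Finset.range N1, GradedAlgebra.proj 𝒜 i x) *
        (∑ j ∈ Finset.range N2, GradedAlgebra.proj 𝒜 j z) := by rw [h1 N1 le_rfl, h2 N2 le_rfl]
    rw [e, Finset.sum_mul_sum, map_sum]
    refine Subalgebra.sum_mem _ fun i _ => ?_
    rw [map_sum]
    refine Subalgebra.sum_mem _ fun j _ => ?_
    have hmem : GradedAlgebra.proj 𝒜 i x * GradedAlgebra.proj 𝒜 j z ∈ 𝒜 (i + j) :=
      SetLike.mul_mem_graded (SetLike.coe_mem _) (SetLike.coe_mem _)
    by_cases hij : i + j = n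
    · rw [GradedAlgebra.proj_apply 𝒜 n, ← hij, DirectSum.decompose_of_mem_same 𝒜 hmem]
      rcases Nat.eq_zero_or_pos i with rfl | hi
      · rw [hx0, zero_mul]; exact C.zero_mem
      rcases Nat.eq_zero_or_pos j with rfl | hj
      · rw [hz0, mul_zero]; exact C.zero_mem
      exact C.mul_mem (IH i (by omega) _ (SetLike.coe_mem _)) (IH j (by omega) _ (SetLike.coe_mem _))
    · rw [GradedAlgebra.proj_apply 𝒜 n, DirectSum.decompose_of_mem_ne 𝒜 hmem hij]
      exact C.zero_mem
  · intro x z hx hz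
    rw [map_add]; exact C.add_mem hx hz

theorem phi_surjective (h0 : ∀ b : B, b ∈ 𝒜 0 ↔ b ∈ Set.range (algebraMap A B))
    {r : ℕ} (e : Module.Basis (Fin r) A (Ip 𝒜).Cotangent)
    (s : (Ip 𝒜).Cotangent →ₗ[A] ↥(Ip 𝒜)) (q : ℕ → (Ip 𝒜).Cotangent →ₗ[A] (Ip 𝒜).Cotangent)
    (hs1 : ∀ c, piA 𝒜 (s c) = c) (hs2 : ∀ m c, prI 𝒜 m (s c) = s (q m c)) :
    Function.Surjective
      (MvPolynomial.aeval (fun i => ((s (e i) : ↥(Ip 𝒜)) : B)) : MvPolynomial (Fin r) A →ₐ[A] B) := by
  classical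
  obtain ⟨φ, hφ⟩ : ∃ φ : MvPolynomial (Fin r) A →ₐ[A] B,
      φ = MvPolynomial.aeval (fun i => ((s (e i) : ↥(Ip 𝒜)) : B)) := ⟨_, rfl⟩
  rw [← hφ]
  have hsC : ∀ c : (Ip 𝒜).Cotangent, ((s c : ↥(Ip 𝒜)) : B) ∈ φ.range := by
    intro c
    rw [← e.sum_repr c, map_sum, AddSubmonoidClass.coe_finsetSum]
    refine Subalgebra.sum_mem _ fun i _ => ?_
    rw [map_smul, Submodule.coe_smul_of_tower]
    refine Subalgebra.smul_mem _ ?_ _
    exact ⟨X i, by rw [hφ]; exact aeval_X _ _⟩
  have key : ∀ n, ∀ b ∈ 𝒜 n, b ∈ φ.range := by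
    intro n
    induction n using Nat.strong_induction_on with
    | _ n IH =>
      intro b hb
      rcases Nat.eq_zero_or_pos n with rfl | hn
      · obtain ⟨a, rfl⟩ := (h0 b).1 hb
        exact ⟨C a, by simp⟩
      · have hbI : b ∈ Ip 𝒜 := HomogeneousIdeal.mem_irrelevant_of_mem 𝒜 hn hb
        obtain ⟨c, hc⟩ : ∃ c, c = piA 𝒜 ⟨b, hbI⟩ := ⟨_, rfl⟩
        have hdiff : ((⟨b, hbI⟩ - s c : ↥(Ip 𝒜)) : B) ∈ Ip 𝒜 ^ 2 := by
          rw [← piA_eq_zero, map_sub, hs1, hc, sub_self]
        have h1 := proj_mul_mem 𝒜 φ.range n IH hdiff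
        rw [AddSubgroupClass.coe_sub, map_sub] at h1
        have h2 : GradedAlgebra.proj 𝒜 n b = b := by
          rw [GradedAlgebra.proj_apply, DirectSum.decompose_of_mem_same 𝒜 hb]
        have h3 : GradedAlgebra.proj 𝒜 n ((s c : ↥(Ip 𝒜)) : B) ∈ φ.range := by
          rw [← prI_coe, hs2]; exact hsC _
        have := Subalgebra.add_mem _ h1 h3
        rwa [sub_add_cancel, h2] at this
  intro b
  obtain ⟨N, hN⟩ : ∃ N, ∑ n ∈ Finset.range N, GradedAlgebra.proj 𝒜 n b = b := by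
    obtain ⟨N, hN⟩ := sum_proj 𝒜 b
    exact ⟨N, hN N le_rfl⟩
  have : b ∈ φ.range := by
    rw [← hN]
    refine Subalgebra.sum_mem _ fun n _ => key n _ ?_
    rw [GradedAlgebra.proj_apply]; exact SetLike.coe_mem _
  exact this

theorem sub_C_mem_idealOfVars {r : ℕ} (g : MvPolynomial (Fin r) A) :
    g - C (coeff 0 g) ∈ idealOfVars (Fin r) A := by
  have := (mem_pow_idealOfVars_iff' 1 (g - C (coeff 0 g))).2 (by
    intro x hx
    have : x = 0 := by
      rw [← Finsupp.degree_eq_zero_iff]; omega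
    subst this
    simp)
  rwa [pow_one] at this

theorem step2 (hinj : Function.Injective (algebraMap A B)) {r : ℕ}
    (e : Module.Basis (Fin r) A (Ip 𝒜).Cotangent)
    (t : Fin r → ↥(Ip 𝒜)) (ht : ∀ i, piA 𝒜 (t i) = e i)
    (φ : MvPolynomial (Fin r) A →ₐ[A] B) (hφ : φ = MvPolynomial.aeval (fun i => ((t i : ↥(Ip 𝒜)) : B))) :
    (∀ g, φ g ∈ Ip 𝒜 → g ∈ idealOfVars (Fin r) A) ∧
    (∀ f ∈ RingHom.ker φ, ∀ i, φ (pderiv i f) ∈ Ip 𝒜) := by
  classical
  have hφX : ∀ i, φ (X i) = (t i : B) := fun i => by rw [hφ]; exact aeval_X _ _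
  have hmap : (idealOfVars (Fin r) A).map φ ≤ Ip 𝒜 := by
    rw [Ideal.map_le_iff_le_comap, idealOfVars, Ideal.span_le]
    rintro _ ⟨i, rfl⟩
    show φ (X i) ∈ Ip 𝒜
    rw [hφX]; exact (t i).2
  have hmap1 : ∀ g ∈ idealOfVars (Fin r) A, φ g ∈ Ip 𝒜 := fun g hg =>
    hmap (Ideal.mem_map_of_mem _ hg)
  have hmap2 : ∀ g ∈ idealOfVars (Fin r) A ^ 2, φ g ∈ Ip 𝒜 ^ 2 := fun g hg => by
    have h1 : φ g ∈ (idealOfVars (Fin r) A ^ 2).map φ := Ideal.mem_map_of_mem _ hg
    rw [Ideal.map_pow] at h1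
    exact Ideal.pow_right_mono hmap 2 h1
  have hc : ∀ g, φ g ∈ Ip 𝒜 → g ∈ idealOfVars (Fin r) A := by
    intro g hg
    have h1 := hmap1 _ (sub_C_mem_idealOfVars g)
    have h2 : algebraMap A B (coeff 0 g) ∈ Ip 𝒜 := by
      have := (Ip 𝒜).sub_mem hg h1
      rw [map_sub, sub_sub_cancel] at this
      simpa using this
    have h3 : algebraMap A B (coeff 0 g) = 0 := by
      have := (HomogeneousIdeal.mem_irrelevant_iff 𝒜 _).1 h2
      rwa [GradedRing.proj_apply, DirectSum.decompose_of_mem_same 𝒜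
        (SetLike.algebraMap_mem_graded 𝒜 _)] at this
    have h4 : coeff 0 g = 0 := hinj (by rw [h3, map_zero])
    have := sub_C_mem_idealOfVars g
    rwa [h4, map_zero, sub_zero] at this
  refine ⟨hc, ?_⟩
  intro f hf i
  have hφf : φ f = 0 := hf
  have hf𝔫 : f ∈ idealOfVars (Fin r) A := hc f (by rw [hφf]; exact (Ip 𝒜).zero_mem)
  have hf0 : coeff 0 f = 0 := by
    have := (mem_pow_idealOfVars_iff' 1 f).1 (by rwa [pow_one]) 0 (by simp)
    exact this
  -- linear part
  have hf' : f - ∑ j, C (coeff (Finsupp.single j 1) f) * X j ∈ idealOfVars (Fin r) A ^ 2 := by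
    rw [mem_pow_idealOfVars_iff']
    intro x hx
    have hx' : x.degree = 0 ∨ x.degree = 1 := by omega
    rcases hx' with h | h
    · rw [Finsupp.degree_eq_zero_iff] at h
      subst h
      simp [hf0, coeff_sum, coeff_C_mul]
    · have : x ∈ {d : Fin r →₀ ℕ | d.degree = 1} := h
      rw [← Finsupp.range_single_one] at this
      obtain ⟨k, rfl⟩ := this
      simp only [coeff_sub, coeff_sum, coeff_C_mul, coeff_X']
      rw [Finset.sum_eq_single k]
      · simp
      · intro j _ hjk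
        have : Finsupp.single j 1 ≠ Finsupp.single k 1 := by
          intro h'
          exact hjk ((Finsupp.single_left_injective one_ne_zero) h')
        simp [this]
      · simp
  have h5 := hmap2 _ hf'
  rw [map_sub, hφf, zero_sub, map_sum] at h5
  have h6 : ((∑ j, coeff (Finsupp.single j 1) f • t j : ↥(Ip 𝒜)) : B) ∈ Ip 𝒜 ^ 2 := by
    have := (Ip 𝒜 ^ 2).neg_mem h5
    rw [neg_neg] at this
    convert this using 1
    rw [AddSubmonoidClass.coe_finsetSum]
    apply Finset.sum_congr rfl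
    intro j _
    rw [map_mul, hφX, Submodule.coe_smul_of_tower, Algebra.smul_def]
    congr 1
    simp
  rw [← piA_eq_zero, map_sum] at h6
  simp only [map_smul, ht] at h6
  have hlin := Fintype.linearIndependent_iff.1 e.linearIndependent _ h6
  -- so the constant coefficient of the partial derivative vanishes
  apply hmap1
  have := (mem_pow_idealOfVars_iff' 1 (pderiv i f)).2 (by
    intro x hx
    have : x = 0 := by
      rw [← Finsupp.degree_eq_zero_iff]; omega
    subst this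
    rw [coeff_pderiv, zero_add, hlin i, zero_mul])
  rwa [pow_one] at this

end Graded

end Helpers

/-- Let k be a field, A a finitely generated k-algebra and B a finitely generated A-algebra graded by
the natural numbers as an A-algebra, with degree-zero part equal to the image of A and A → B
injective; let B₊ be the irrelevant ideal. So Spec B → Spec A is the retraction of an affine scheme
with an action of the multiplicative monoid of the affine line onto its fixed-point scheme, with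
zero section cut out by B₊; this is the affine-local graded form, for that monoid, of the published
statement, which covers any Kempf monoid M with unit group G and a k-scheme X locally of finite
type, and concludes that the retraction X⁺ → X^G is an affine-space bundle near a fixed point at
whose section value it is smooth. Assume that A → B is smooth at every prime ideal containing B₊ and
that B₊/B₊² is a free A-module of finite rank. Then B is isomorphic, as an A-algebra, to the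
polynomial ring over A in (rank of B₊/B₊²) variables. (The published statement also makes the
isomorphism equivariant for a suitable linear action when G is linearly reductive; only the
existence of an A-algebra isomorphism is stated here. Freeness of the conormal module holds after
shrinking the base, which is how the published proof reaches this situation.) -/
theorem result (k : Type u) [Field k]
    (A B : Type u) [CommRing A] [CommRing B] [Algebra k A] [Algebra k B] [Algebra A B] [IsScalarTower k A B]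
    [Algebra.FiniteType k A] [Algebra.FiniteType A B] (𝒜 : ℕ → Submodule A B) [GradedAlgebra 𝒜]
    (h0 : ∀ b : B, b ∈ 𝒜 0 ↔ b ∈ Set.range (algebraMap A B)) (hinj : Function.Injective (algebraMap A B))
    (hsm : ∀ (P : Ideal B) [P.IsPrime], (HomogeneousIdeal.irrelevant 𝒜).toIdeal ≤ P → Algebra.IsSmoothAt A P)
    [Module.Free A (HomogeneousIdeal.irrelevant 𝒜).toIdeal.Cotangent]
    [Module.Finite A (HomogeneousIdeal.irrelevant 𝒜).toIdeal.Cotangent] :
    Nonempty (B ≃ₐ[A]
      MvPolynomial (Fin (Module.finrank A (HomogeneousIdeal.irrelevant 𝒜).toIdeal.Cotangent)) A) := by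
  classical
  rcases subsingleton_or_nontrivial A with hA | hA
  · -- degenerate case: everything is the zero ring
    haveI : Subsingleton B := Module.subsingleton A B
    haveI : Subsingleton (MvPolynomial
        (Fin (Module.finrank A (HomogeneousIdeal.irrelevant 𝒜).toIdeal.Cotangent)) A) :=
      Module.subsingleton A _
    exact ⟨{ toFun := fun _ => 0, invFun := fun _ => 0,
             left_inv := fun _ => Subsingleton.elim _ _, right_inv := fun _ => Subsingleton.elim _ _,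
             map_mul' := fun _ _ => Subsingleton.elim _ _, map_add' := fun _ _ => Subsingleton.elim _ _,
             commutes' := fun _ => Subsingleton.elim _ _ }⟩
  · haveI : IsNoetherianRing A := Algebra.FiniteType.isNoetherianRing k A
    haveI : Algebra.FinitePresentation A B := Algebra.FinitePresentation.of_finiteType.mp inferInstance
    obtain ⟨e, he⟩ : ∃ e : Module.Basis
        (Fin (Module.finrank A (HomogeneousIdeal.irrelevant 𝒜).toIdeal.Cotangent)) A
        (Ip 𝒜).Cotangent, e = Module.finBasis A (Ip 𝒜).Cotangent := ⟨_, rfl⟩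
    obtain ⟨s, q, hs1, hs2, hq⟩ := exists_graded_section 𝒜
    obtain ⟨φ, hφ⟩ : ∃ φ : MvPolynomial
        (Fin (Module.finrank A (HomogeneousIdeal.irrelevant 𝒜).toIdeal.Cotangent)) A →ₐ[A] B,
        φ = MvPolynomial.aeval (fun i => ((s (e i) : ↥(Ip 𝒜)) : B)) := ⟨_, rfl⟩
    have hsurj : Function.Surjective φ := by
      rw [hφ]; exact phi_surjective 𝒜 h0 e s q hs1 hs2
    obtain ⟨hc, hpd⟩ := step2 𝒜 hinj e (fun i => s (e i)) (fun i => hs1 _) φ hφ
    obtain ⟨u, hu1, hu2⟩ := exists_u (A := A) (Ip 𝒜) hsm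
    obtain ⟨v, rfl⟩ := hsurj u
    have hker := core φ hsurj (Ip 𝒜) hpd hc v hu1 hu2
    have hfg : (RingHom.ker φ).FG := IsNoetherian.noetherian _
    have hbot := ideal_eq_bot _ hfg hker
    have hinjφ : Function.Injective φ := (RingHom.injective_iff_ker_eq_bot _).2 hbot
    exact ⟨(AlgEquiv.ofBijective φ ⟨hinjφ, hsurj⟩).symm⟩

end Groth.Agent.S18961
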