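import Groth.Statements.S18962
import Mathlib

set_option autoImplicit false
universe u
open BBDec

namespace Groth.Agent.S18962

-- HELPERS BEGIN
open TensorProduct KaehlerDifferential

section sect
variable {A B : Type u} [CommRing A] [CommRing B] [Algebra A B] [Algebra B A]
  [IsScalarTower A B A]

/-- For an `A`-algebra `B` with a section `B → A` (given as an algebra structure), the conormal
module of the section is `A ⊗[B] Ω[B⁄A]`. -/
theorem kerCotangentToTensor_bijective_of_section :
    Function.Bijective (kerCotangentToTensor A B A) := by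
  have hsurj : Function.Surjective (algebraMap B A) := by
    intro a
    refine ⟨algebraMap A B a, ?_⟩
    rw [← IsScalarTower.algebraMap_apply A B A]
    simp
  constructor
  · -- a retraction from the section
    let g : A →ₐ[A] B ⧸ (RingHom.ker (algebraMap B A)) ^ 2 := Algebra.ofId _ _
    have hg : (IsScalarTower.toAlgHom A B A).kerSquareLift.comp g = AlgHom.id A A :=
      Subsingleton.elim _ _
    obtain ⟨l, hl⟩ := (retractionKerCotangentToTensorEquivSection (R := A) hsurj).symm ⟨g, hg⟩
    exact Function.HasLeftInverse.injective ⟨l, LinearMap.congr_fun hl⟩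
  · intro x
    have h := (exact_kerCotangentToTensor_mapBaseChange A B A hsurj x).mp (Subsingleton.elim _ _)
    exact h

end sect

section dimEq
variable {A B κ : Type u} [CommRing A] [CommRing B] [Algebra A B] [Algebra B A]
  [IsScalarTower A B A] [Field κ] [Algebra A κ] [Algebra B κ] [IsScalarTower B A κ]

/-- The cotangent module of the section as an `A`-linear equivalence. -/
noncomputable def cotEquiv :
    (RingHom.ker (algebraMap B A)).Cotangent ≃ₗ[A] A ⊗[B] Ω[B⁄A] :=
  (LinearEquiv.ofBijective (kerCotangentToTensor A B A)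
    kerCotangentToTensor_bijective_of_section).restrictScalars A

noncomputable def fibreEquiv :
    κ ⊗[B] Ω[B⁄A] ≃ₗ[κ] κ ⊗[A] (RingHom.ker (algebraMap B A)).Cotangent :=
  (AlgebraTensorModule.cancelBaseChange B A κ κ Ω[B⁄A]).symm ≪≫ₗ
    AlgebraTensorModule.congr (LinearEquiv.refl κ κ) (cotEquiv (A := A) (B := B)).symm

end dimEq

section core
variable {A B₁ B₂ L : Type u} [CommRing A] [CommRing B₁] [CommRing B₂] [CommRing L]
  [Algebra A B₁] [Algebra A B₂] [Algebra B₂ B₁] [IsScalarTower A B₂ B₁]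
  [Algebra B₁ A] [Algebra B₂ A] [IsScalarTower A B₁ A] [IsScalarTower A B₂ A]
  [IsScalarTower B₂ B₁ A]
  [Algebra A L] [Algebra B₁ L] [Algebra B₂ L] [IsScalarTower A B₁ L] [IsScalarTower B₂ B₁ L]
  [IsScalarTower A B₂ L] [IsLocalRing L]
  (P : Ideal B₁) [P.IsPrime] [IsLocalization.AtPrime L P]

include P in
theorem residue_eq (hP : RingHom.ker (algebraMap B₁ A) ≤ P) (x : B₁) :
    IsLocalRing.residue L (algebraMap B₁ L x) =
      IsLocalRing.residue L (algebraMap A L (algebraMap B₁ A x)) := by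
  have hx : x - algebraMap A B₁ (algebraMap B₁ A x) ∈ RingHom.ker (algebraMap B₁ A) := by
    rw [RingHom.mem_ker, map_sub, ← IsScalarTower.algebraMap_apply A B₁ A]
    simp
  have h2 : algebraMap B₁ L (x - algebraMap A B₁ (algebraMap B₁ A x)) ∈
      IsLocalRing.maximalIdeal L :=
    (IsLocalization.AtPrime.to_map_mem_maximal_iff L P _).mpr (hP hx)
  have h3 := (IsLocalRing.residue_eq_zero_iff _).mpr h2
  rw [map_sub, map_sub, sub_eq_zero, ← IsScalarTower.algebraMap_apply A B₁ L] at h3
  exact h3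

include P in
theorem isScalarTower₁ (hP : RingHom.ker (algebraMap B₁ A) ≤ P) :
    IsScalarTower B₁ A (IsLocalRing.ResidueField L) := by
  refine IsScalarTower.of_algebraMap_eq fun x => ?_
  exact residue_eq P hP x

include P in
theorem isScalarTower₂ (hP : RingHom.ker (algebraMap B₁ A) ≤ P) :
    IsScalarTower B₂ A (IsLocalRing.ResidueField L) := by
  refine IsScalarTower.of_algebraMap_eq fun y => ?_
  have := residue_eq (A := A) (L := L) P hP (algebraMap B₂ B₁ y)
  rw [← IsScalarTower.algebraMap_apply B₂ B₁ L, ← IsScalarTower.algebraMap_apply B₂ B₁ A] at this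
  exact this


include P in
theorem finrank_eq (hP : RingHom.ker (algebraMap B₁ A) ≤ P)
    (e : (RingHom.ker (algebraMap B₂ A)).Cotangent ≃ₗ[A]
      (RingHom.ker (algebraMap B₁ A)).Cotangent) :
    Module.finrank (IsLocalRing.ResidueField L)
        (IsLocalRing.ResidueField L ⊗[L] (L ⊗[B₂] Ω[B₂⁄A])) =
      Module.finrank (IsLocalRing.ResidueField L) (IsLocalRing.ResidueField L ⊗[L] Ω[L⁄A]) := by
  have i1 := isScalarTower₁ (A := A) (L := L) P hP
  have i2 := isScalarTower₂ (A := A) (B₂ := B₂) (L := L) P hP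
  have : Algebra.FormallyEtale B₁ L := Algebra.FormallyEtale.of_isLocalization P.primeCompl
  let E : IsLocalRing.ResidueField L ⊗[L] (L ⊗[B₂] Ω[B₂⁄A]) ≃ₗ[IsLocalRing.ResidueField L]
      IsLocalRing.ResidueField L ⊗[L] Ω[L⁄A] :=
    AlgebraTensorModule.cancelBaseChange B₂ L (IsLocalRing.ResidueField L)
        (IsLocalRing.ResidueField L) Ω[B₂⁄A] ≪≫ₗ
      fibreEquiv (A := A) (B := B₂) (κ := IsLocalRing.ResidueField L) ≪≫ₗ
      AlgebraTensorModule.congr (LinearEquiv.refl _ _) e ≪≫ₗ
      (fibreEquiv (A := A) (B := B₁) (κ := IsLocalRing.ResidueField L)).symm ≪≫ₗ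
      (AlgebraTensorModule.cancelBaseChange B₁ L (IsLocalRing.ResidueField L)
        (IsLocalRing.ResidueField L) Ω[B₁⁄A]).symm ≪≫ₗ
      AlgebraTensorModule.congr (LinearEquiv.refl _ _) (tensorKaehlerEquivOfFormallyEtale A B₁ L)
  exact E.finrank_eq


include P in
theorem D_mem_of_mem_sq (hP : RingHom.ker (algebraMap B₁ A) ≤ P) (z : B₁)
    (hz : z ∈ RingHom.ker (algebraMap B₁ A) ^ 2) :
    D A L (algebraMap B₁ L z) ∈
      IsLocalRing.maximalIdeal L • (⊤ : Submodule L Ω[L⁄A]) := by
  rw [pow_two] at hz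
  refine Submodule.mul_induction_on hz ?_ ?_
  · intro u hu v hv
    rw [map_mul, Derivation.leibniz]
    refine add_mem ?_ ?_
    · exact Submodule.smul_mem_smul
        ((IsLocalization.AtPrime.to_map_mem_maximal_iff L P _).mpr (hP hu)) Submodule.mem_top
    · exact Submodule.smul_mem_smul
        ((IsLocalization.AtPrime.to_map_mem_maximal_iff L P _).mpr (hP hv)) Submodule.mem_top
  · intro x y hx hy
    rw [map_add, map_add]
    exact add_mem hx hy

include P in
theorem mapBaseChange_surjective (hP : RingHom.ker (algebraMap B₁ A) ≤ P)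
    [Module.Finite L Ω[L⁄A]]
    (hc : ∀ x ∈ RingHom.ker (algebraMap B₁ A), ∃ x₂ : B₂,
      x - algebraMap B₂ B₁ x₂ ∈ RingHom.ker (algebraMap B₁ A) ^ 2) :
    Function.Surjective (mapBaseChange A B₂ L) := by
  rw [← LinearMap.range_eq_top, eq_top_iff]
  refine Submodule.le_of_le_smul_of_le_jacobson_bot (I := IsLocalRing.maximalIdeal L)
    Module.Finite.fg_top (IsLocalRing.maximalIdeal_le_jacobson _) ?_
  rw [← span_range_map_derivation_of_isLocalization A B₁ L P.primeCompl, Submodule.span_le]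
  rintro _ ⟨y, rfl⟩
  simp only [Function.comp_apply, KaehlerDifferential.map_D, SetLike.mem_coe]
  have hx : y - algebraMap A B₁ (algebraMap B₁ A y) ∈ RingHom.ker (algebraMap B₁ A) := by
    rw [RingHom.mem_ker, map_sub, ← IsScalarTower.algebraMap_apply A B₁ A]
    simp
  obtain ⟨x₂, hx₂⟩ := hc _ hx
  have hy : y = algebraMap A B₁ (algebraMap B₁ A y) + algebraMap B₂ B₁ x₂ +
      (y - algebraMap A B₁ (algebraMap B₁ A y) - algebraMap B₂ B₁ x₂) := by ring
  rw [hy, map_add, map_add, map_add, map_add, ← IsScalarTower.algebraMap_apply A B₁ L,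
    Derivation.map_algebraMap, zero_add, ← IsScalarTower.algebraMap_apply B₂ B₁ L]
  refine add_mem (Submodule.mem_sup_left ⟨1 ⊗ₜ D A B₂ x₂, ?_⟩)
    (Submodule.mem_sup_right ?_)
  · rw [mapBaseChange_tmul, one_smul, KaehlerDifferential.map_D]
  · rw [span_range_map_derivation_of_isLocalization A B₁ L P.primeCompl]
    exact D_mem_of_mem_sq P hP _ hx₂


include P in
theorem formallyEtale_of_cot (hP : RingHom.ker (algebraMap B₁ A) ≤ P)
    [Algebra.FormallySmooth A L] [Module.Finite L Ω[L⁄A]] [Module.Finite B₂ Ω[B₂⁄A]]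
    (e : (RingHom.ker (algebraMap B₂ A)).Cotangent ≃ₗ[A]
      (RingHom.ker (algebraMap B₁ A)).Cotangent)
    (hc : ∀ x ∈ RingHom.ker (algebraMap B₁ A), ∃ x₂ : B₂,
      x - algebraMap B₂ B₁ x₂ ∈ RingHom.ker (algebraMap B₁ A) ^ 2) :
    Algebra.FormallyEtale B₂ L := by
  have hsurj : Function.Surjective (mapBaseChange A B₂ L) := mapBaseChange_surjective P hP hc
  have hκsurj : Function.Surjective ((mapBaseChange A B₂ L).lTensor (IsLocalRing.ResidueField L)) :=
    LinearMap.lTensor_surjective _ hsurj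
  have hκinj : Function.Injective ((mapBaseChange A B₂ L).lTensor (IsLocalRing.ResidueField L)) := by
    have h := (LinearMap.injective_iff_surjective_of_finrank_eq_finrank (finrank_eq P hP e)
      (f := (mapBaseChange A B₂ L).baseChange (IsLocalRing.ResidueField L)))
    rw [LinearMap.baseChange_eq_ltensor] at h
    exact h.mpr hκsurj
  have : Module.Free L Ω[L⁄A] := Module.free_of_flat_of_isLocalRing
  obtain ⟨l', hl'⟩ :=
    (IsLocalRing.split_injective_iff_lTensor_residueField_injective (mapBaseChange A B₂ L)).mpr hκinj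
  have hinj : Function.Injective (mapBaseChange A B₂ L) :=
    Function.HasLeftInverse.injective ⟨l', LinearMap.congr_fun hl'⟩
  refine ⟨⟨fun w₁ w₂ => ?_⟩, ⟨fun x₁ x₂ => ?_⟩⟩
  · have key : ∀ w : Ω[L⁄B₂], w = 0 := by
      intro w
      obtain ⟨v, rfl⟩ := KaehlerDifferential.map_surjective A B₂ L w
      obtain ⟨n, rfl⟩ := hsurj v
      exact (exact_mapBaseChange_map A B₂ L _).mpr ⟨n, rfl⟩
    rw [key w₁, key w₂]
  · have key : ∀ x : Algebra.H1Cotangent B₂ L, x = 0 := by
      intro x
      have h1 : mapBaseChange A B₂ L (Algebra.H1Cotangent.δ A B₂ L x) = 0 :=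
        (Algebra.H1Cotangent.exact_δ_mapBaseChange A B₂ L _).mpr ⟨x, rfl⟩
      have h2 : Algebra.H1Cotangent.δ A B₂ L x = 0 := hinj (by rw [h1, map_zero])
      obtain ⟨y, rfl⟩ := (Algebra.H1Cotangent.exact_map_δ A B₂ L x).mp h2
      rw [Subsingleton.elim y 0, map_zero]
    rw [key x₁, key x₂]

end core
-- HELPERS END


/-- Let A be a commutative ring (the base V = Spec A) and B₁, B₂ commutative A-algebras (V-schemes X₁,
X₂) with A-algebra maps σ₁ : B₁ → A and σ₂ : B₂ → A (sections s₁, s₂ of the structure maps, closed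
immersions with ideals b₁ = ker σ₁, b₂ = ker σ₂), and let B₂ → B₁ be an A-algebra map (a V-morphism
f : X₁ → X₂) with σ₁ ∘ (B₂ → B₁) = σ₂ (f s₁ = s₂). Assume B₁ is finitely presented over A and smooth
over A at every prime containing b₁ (r₁ smooth along s₁(V)), B₂ is of finite type over A, and the
induced map b₂/b₂² → b₁/b₁² of conormal modules is bijective. Then B₂ → B₁ is étale at every prime
of B₁ containing b₁ (f étale along s₁(V)). (The published statement puts no finiteness condition on
B₂ over A, and in that generality the conclusion fails: over a field k, the square-zero extension of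
k[x] by k[x, 1/x] mapping onto k[y] by x ↦ y, with the zero sections, satisfies every other
hypothesis and is not étale at the origin. Here B₂ is assumed of finite type over A.) -/
theorem result (A B₁ B₂ : Type u)
    [CommRing A] [CommRing B₁] [CommRing B₂] [Algebra A B₁] [Algebra A B₂] [Algebra B₂ B₁]
    [IsScalarTower A B₂ B₁] [Algebra.FinitePresentation A B₁] [Algebra.FiniteType A B₂]
    (σ₁ : B₁ →ₐ[A] A) (σ₂ : B₂ →ₐ[A] A) (hσ : σ₁.comp (IsScalarTower.toAlgHom A B₂ B₁) = σ₂)
    (hle : RingHom.ker σ₂ ≤ (RingHom.ker σ₁).comap (IsScalarTower.toAlgHom A B₂ B₁))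
    (hcot : Function.Bijective
      (Ideal.mapCotangent (RingHom.ker σ₂) (RingHom.ker σ₁) (IsScalarTower.toAlgHom A B₂ B₁) hle))
    (hsm : ∀ (P : Ideal B₁) [P.IsPrime], RingHom.ker σ₁ ≤ P → Algebra.IsSmoothAt A P)
    (P : Ideal B₁) [P.IsPrime] (hP : RingHom.ker σ₁ ≤ P) : Algebra.IsEtaleAt B₂ P := by
  let _ : Algebra B₁ A := σ₁.toRingHom.toAlgebra
  let _ : Algebra B₂ A := σ₂.toRingHom.toAlgebra
  have t1 : IsScalarTower A B₁ A := IsScalarTower.of_algebraMap_eq fun a => (σ₁.commutes a).symm
  have t2 : IsScalarTower A B₂ A := IsScalarTower.of_algebraMap_eq fun a => (σ₂.commutes a).symm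
  have t3 : IsScalarTower B₂ B₁ A := IsScalarTower.of_algebraMap_eq fun y => by
    have := congrArg (fun g => g y) hσ
    exact this.symm
  have hsm' : Algebra.FormallySmooth A (Localization.AtPrime P) := hsm P hP
  have : Module.Finite (Localization.AtPrime P) Ω[Localization.AtPrime P⁄A] := inferInstance
  have : Module.Finite B₂ Ω[B₂⁄A] := inferInstance
  have hP' : RingHom.ker (algebraMap B₁ A) ≤ P := hP
  let e : (RingHom.ker (algebraMap B₂ A)).Cotangent ≃ₗ[A]
      (RingHom.ker (algebraMap B₁ A)).Cotangent :=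
    LinearEquiv.ofBijective (Ideal.mapCotangent (RingHom.ker σ₂) (RingHom.ker σ₁)
      (IsScalarTower.toAlgHom A B₂ B₁) hle) hcot
  have hc : ∀ x ∈ RingHom.ker (algebraMap B₁ A), ∃ x₂ : B₂,
      x - algebraMap B₂ B₁ x₂ ∈ RingHom.ker (algebraMap B₁ A) ^ 2 := by
    intro x hx
    obtain ⟨c, hc⟩ := hcot.2 ((RingHom.ker σ₁).toCotangent ⟨x, hx⟩)
    obtain ⟨⟨x₂, hx₂⟩, rfl⟩ := Ideal.toCotangent_surjective _ c
    rw [Ideal.mapCotangent_toCotangent, Ideal.toCotangent_eq] at hc
    refine ⟨x₂, ?_⟩
    have h2 := (RingHom.ker σ₁ ^ 2).neg_mem hc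
    rw [neg_sub] at h2
    exact h2
  exact formallyEtale_of_cot (A := A) (B₁ := B₁) (B₂ := B₂) (L := Localization.AtPrime P) P hP' e hc

end Groth.Agent.S18962
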