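import Groth.Statements.S1897
-- import your own Groth.Agent.* helpers here
import Groth.Agent.Lib.Helper85.IntMult.PullSheafFun

set_option autoImplicit false
universe u
open CategoryTheory AlgebraicGeometry
open Cyc

namespace Groth.Agent.S1897

/-- Let f : X → Y be flat, locally of finite type, of relative dimension r, and F a coherent O_Y-module
whose support has δ-dimension ≤ k. Then the support of f^*F has δ-dimension ≤ k + r and f^*[F]_k =
[f^*F]_{k+r} (coefficientwise). A pair (X, δ) with Cyc.IsSetup plays the role of a scheme locally of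
finite type over a fixed base with a dimension function (X locally Noetherian with universally
catenary local rings, δ a dimension function), and Cyc.DeltaCompat records that the dimension
function upstairs is the induced one. -/
theorem result (X Y : Scheme.{u}) (δX : X → ℤ) (δY : Y → ℤ) (hX : Cyc.IsSetup X δX) (hY : Cyc.IsSetup Y δY) (f : X ⟶ Y) [Flat f] [LocallyOfFiniteType f] (r : ℕ) (hr : Cyc.HasRelDim f r) (hδ : Cyc.DeltaCompat f δX δY) (k : ℤ) (F : Y.Modules) (hF : Coh.IsCoh F) (hdim : ∀ y : Y, Nontrivial (F.presheaf.stalk y) → δY y ≤ k) : (∀ x : X, Nontrivial (((Scheme.Modules.pullback f).obj F).presheaf.stalk x) → δX x ≤ k + r) ∧ Cyc.pullFun f δX δY r (Cyc.sheafFun δY k F) = Cyc.sheafFun δX (k + r) ((Scheme.Modules.pullback f).obj F) := by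
  have hle := fun x => Groth.Agent.Lib.Helper85.FlatPullGeom.delta_le_add f δX δY hδ r hr x
  refine ⟨?_, ?_⟩
  · intro x hx
    have h1 := hdim (f x)
      ((Groth.Agent.Lib.Helper85.FlatPullGeom.nontrivial_stalk_pullback_iff f F x).mp hx)
    have h2 := hle x
    omega
  · exact Groth.Agent.Lib.Helper85.PullSheafFun.pullFun_sheafFun_eq f δX δY r k F
      (fun x _ => hle x) hdim

end Groth.Agent.S1897
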