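import Groth.Statements.S18974
import Mathlib

set_option autoImplicit false
universe u
open CAlg

namespace Groth.Agent.S18974

open Polynomial Finset

section
variable {A : Type u} [CommRing A] [Algebra ℚ A] (D : Derivation ℚ A A)

local notation "Δ" => (D : A →ₗ[ℚ] A)

theorem pow_succ_apply (n : ℕ) (x : A) : (Δ ^ (n + 1)) x = D ((Δ ^ n) x) := by
  rw [pow_succ', Module.End.mul_apply]; rfl

theorem pow_succ_apply' (n : ℕ) (x : A) : (Δ ^ (n + 1)) x = (Δ ^ n) (D x) := by
  rw [pow_succ, Module.End.mul_apply]; rfl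

theorem pow_add_apply (m n : ℕ) (x : A) : (Δ ^ (m + n)) x = (Δ ^ m) ((Δ ^ n) x) := by
  rw [pow_add, Module.End.mul_apply]

theorem pow_eq_zero_of_le {N n : ℕ} {x : A} (h : (Δ ^ N) x = 0) (hn : N ≤ n) : (Δ ^ n) x = 0 := by
  obtain ⟨m, rfl⟩ := Nat.exists_eq_add_of_le' hn
  rw [pow_add_apply, h, map_zero]

theorem leibniz_pow (n : ℕ) (x y : A) :
    (Δ ^ n) (x * y) = ∑ ij ∈ antidiagonal n, (n.choose ij.1) • ((Δ ^ ij.1) x * (Δ ^ ij.2) y) := by
  induction n with
  | zero => simp
  | succ n ih =>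
    rw [sum_antidiagonal_choose_succ_nsmul (M := A) (fun i j => (Δ ^ i) x * (Δ ^ j) y) n]
    rw [pow_succ_apply, ih, map_sum]
    simp only [map_nsmul, Derivation.leibniz, smul_eq_mul, ← pow_succ_apply, smul_add,
      sum_add_distrib]
    congr 1
    refine sum_congr rfl fun ⟨i, j⟩ hij => ?_
    rw [n.choose_symm_of_eq_add (mem_antidiagonal.1 hij).symm]
    simp [mul_comm]

variable (hnil : ∀ x : A, ∃ n : ℕ, ((D : A →ₗ[ℚ] A) ^ n) x = 0)

/-- Taylor coefficient -/
def cf (n : ℕ) (x : A) : A := ((n.factorial : ℚ)⁻¹) • (Δ ^ n) x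

theorem cf_eq_zero {N n : ℕ} {x : A} (h : (Δ ^ N) x = 0) (hn : N ≤ n) : cf D n x = 0 := by
  rw [cf, pow_eq_zero_of_le D h hn, smul_zero]

open Classical in
/-- exponential of the derivation as a polynomial -/
noncomputable def Epoly (x : A) : A[X] :=
  ∑ n ∈ range (Nat.find (hnil x)), monomial n (cf D n x)

theorem coeff_Epoly (x : A) (n : ℕ) : (Epoly D hnil x).coeff n = cf D n x := by
  classical
  rw [Epoly, finsetSum_coeff]
  simp only [coeff_monomial]
  rw [Finset.sum_ite_eq' (range (Nat.find (hnil x))) n (fun k => cf D k x)]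
  split_ifs with h
  · rfl
  · have : Nat.find (hnil x) ≤ n := by simpa using h
    exact (cf_eq_zero D (Nat.find_spec (hnil x)) this).symm

theorem choose_identity (i j : ℕ) :
    ((i + j).factorial : ℚ)⁻¹ * ((i + j).choose i : ℚ) = (i.factorial : ℚ)⁻¹ * (j.factorial : ℚ)⁻¹ := by
  have h := Nat.add_choose_mul_factorial_mul_factorial i j
  rw [← Nat.choose_symm_add] at h
  have h' : (((i + j).choose i : ℕ) : ℚ) * (i.factorial : ℚ) * (j.factorial : ℚ) = ((i + j).factorial : ℚ) := by
    exact_mod_cast h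
  have hi : (i.factorial : ℚ) ≠ 0 := by exact_mod_cast i.factorial_ne_zero
  have hj : (j.factorial : ℚ) ≠ 0 := by exact_mod_cast j.factorial_ne_zero
  have hij : ((i + j).factorial : ℚ) ≠ 0 := by exact_mod_cast (i + j).factorial_ne_zero
  have hc : (((i + j).choose i : ℕ) : ℚ) ≠ 0 := by
    exact_mod_cast (Nat.choose_pos (Nat.le_add_right i j)).ne'
  rw [← h']
  field_simp

/-- the exponential as a ring hom -/
noncomputable def E : A →+* A[X] where
  toFun := Epoly D hnil
  map_one' := by
    ext n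
    rw [coeff_Epoly, coeff_one]
    cases n with
    | zero => simp [cf]
    | succ n => simp [cf, pow_succ_apply']
  map_mul' x y := by
    ext n
    rw [coeff_Epoly, coeff_mul]
    simp only [coeff_Epoly]
    rw [cf, leibniz_pow, smul_sum]
    refine sum_congr rfl fun ⟨i, j⟩ hij => ?_
    obtain rfl : i + j = n := mem_antidiagonal.1 hij
    simp only [cf]
    rw [smul_mul_smul_comm, ← Nat.cast_smul_eq_nsmul ℚ, smul_smul, choose_identity]
  map_zero' := by
    ext n
    simp [coeff_Epoly, cf]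
  map_add' x y := by
    ext n
    simp [coeff_Epoly, cf, smul_add]

theorem coeff_E (x : A) (n : ℕ) : (E D hnil x).coeff n = cf D n x := coeff_Epoly D hnil x n

theorem E_eq_sum (x : A) (N : ℕ) (h : (Δ ^ N) x = 0) :
    E D hnil x = ∑ n ∈ range N, monomial n (cf D n x) := by
  classical
  ext n
  rw [coeff_E, finsetSum_coeff]
  simp only [coeff_monomial]
  rw [Finset.sum_ite_eq' (range N) n (fun k => cf D k x)]
  split_ifs with h'
  · rfl
  · have : N ≤ n := by simpa using h'
    exact cf_eq_zero D h this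

variable (a : A)

/-- the retraction onto the kernel of `D` -/
noncomputable def psi : A →+* A := (evalRingHom (-a)).comp (E D hnil)

/-- the signed inverse factorial -/
def sg (m : ℕ) : ℚ := (-1 : ℚ) ^ m * (m.factorial : ℚ)⁻¹

theorem psi_eq (x : A) (N : ℕ) (h : (Δ ^ N) x = 0) :
    psi D hnil a x = ∑ n ∈ range N, sg n • ((Δ ^ n) x * a ^ n) := by
  rw [psi, RingHom.comp_apply, E_eq_sum D hnil x N h, coe_evalRingHom, eval_finsetSum]
  refine sum_congr rfl fun n _ => ?_
  rw [eval_monomial, cf, sg, neg_pow, Algebra.smul_def, Algebra.smul_def, map_mul, map_pow,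
    map_neg, map_one]
  ring

variable (ha : D a = 1)

theorem sg_succ (m : ℕ) : sg (m + 1) * ((m + 1 : ℕ) : ℚ) = - sg m := by
  have hm : ((m + 1 : ℕ) : ℚ) ≠ 0 := by exact_mod_cast Nat.succ_ne_zero m
  have hf : (m.factorial : ℚ) ≠ 0 := by exact_mod_cast m.factorial_ne_zero
  rw [sg, sg, Nat.factorial_succ, pow_succ]
  push_cast
  field_simp

include ha in
theorem D_term (m : ℕ) (x : A) :
    D (sg m • ((Δ ^ m) x * a ^ m)) =
      sg m • ((Δ ^ (m + 1)) x * a ^ m) + (sg m * (m : ℚ)) • ((Δ ^ m) x * a ^ (m - 1)) := by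
  rw [pow_succ_apply, Derivation.map_smul, Derivation.leibniz, Derivation.leibniz_pow, ha]
  simp only [smul_eq_mul, mul_one, nsmul_eq_mul]
  rw [Algebra.smul_def, Algebra.smul_def, Algebra.smul_def, map_mul, map_natCast]
  ring

include ha in
theorem D_psi (x : A) : D (psi D hnil a x) = 0 := by
  obtain ⟨N, hN⟩ := hnil x
  have hN1 : (Δ ^ (N + 1)) x = 0 := pow_eq_zero_of_le D hN (Nat.le_succ N)
  rw [psi_eq D hnil a x (N + 1) hN1, map_sum]
  simp_rw [D_term D a ha]
  rw [sum_add_distrib,
    sum_range_succ' (fun m => (sg m * (m : ℚ)) • ((Δ ^ m) x * a ^ (m - 1))),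
    sum_range_succ (fun m => sg m • ((Δ ^ (m + 1)) x * a ^ m))]
  simp only [Nat.cast_zero, mul_zero, zero_smul, add_zero, Nat.add_sub_cancel]
  rw [hN1, zero_mul, smul_zero, add_zero, ← sum_add_distrib]
  refine sum_eq_zero fun m _ => ?_
  rw [sg_succ, neg_smul, add_neg_cancel]

theorem mk_psi (x : A) :
    Ideal.Quotient.mk (Ideal.span ({a} : Set A)) (psi D hnil a x) =
      Ideal.Quotient.mk (Ideal.span ({a} : Set A)) x := by
  obtain ⟨N, hN⟩ := hnil x
  have hN1 : (Δ ^ (N + 1)) x = 0 := pow_eq_zero_of_le D hN (Nat.le_succ N)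
  rw [psi_eq D hnil a x (N + 1) hN1, sum_range_succ', map_add]
  have h0 : ∑ k ∈ range N, sg (k + 1) • ((Δ ^ (k + 1)) x * a ^ (k + 1)) ∈
      Ideal.span ({a} : Set A) := by
    refine Ideal.sum_mem _ fun k _ => ?_
    rw [Algebra.smul_def, pow_succ a k, ← mul_assoc, ← mul_assoc]
    exact Ideal.mul_mem_left _ _ (Ideal.mem_span_singleton_self a)
  rw [Ideal.Quotient.eq_zero_iff_mem.2 h0, zero_add]
  simp [sg]

include ha in
theorem E_a : E D hnil a = C a + X := by
  have h2 : (Δ ^ 2) a = 0 := by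
    rw [pow_succ_apply', ha, pow_one]
    exact D.map_one_eq_zero
  rw [E_eq_sum D hnil a 2 h2, sum_range_succ, sum_range_one]
  have c0 : cf D 0 a = a := by simp [cf]
  have c1 : cf D 1 a = 1 := by simp [cf, ha]
  rw [c0, c1, monomial_zero_left, monomial_one_one_eq_X]

include ha in
theorem psi_a : psi D hnil a a = 0 := by
  rw [psi, RingHom.comp_apply, E_a D hnil a ha]
  simp

include ha in
theorem psi_mem (x : A) (hx : x ∈ Ideal.span ({a} : Set A)) : psi D hnil a x = 0 := by
  obtain ⟨y, rfl⟩ := Ideal.mem_span_singleton'.1 hx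
  rw [map_mul, psi_a D hnil a ha, mul_zero]

/-- the retraction, descended to the quotient -/
noncomputable def psiBar : A ⧸ Ideal.span ({a} : Set A) →+* A :=
  Ideal.Quotient.lift (Ideal.span ({a} : Set A)) (psi D hnil a) (psi_mem D hnil a ha)

theorem psiBar_mk (x : A) :
    psiBar D hnil a ha (Ideal.Quotient.mk (Ideal.span ({a} : Set A)) x) = psi D hnil a x :=
  Ideal.Quotient.lift_mk _ _ _

/-- the forward map -/
noncomputable def phi : A →+* (A ⧸ Ideal.span ({a} : Set A))[X] :=
  (mapRingHom (Ideal.Quotient.mk (Ideal.span ({a} : Set A)))).comp (E D hnil)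

/-- the backward map -/
noncomputable def theta : (A ⧸ Ideal.span ({a} : Set A))[X] →+* A :=
  eval₂RingHom (psiBar D hnil a ha) a

theorem coeff_phi (x : A) (n : ℕ) :
    (phi D hnil a x).coeff n = Ideal.Quotient.mk (Ideal.span ({a} : Set A)) (cf D n x) := by
  rw [phi, RingHom.comp_apply, coe_mapRingHom, coeff_map, coeff_E]

theorem phi_theta (p : (A ⧸ Ideal.span ({a} : Set A))[X]) :
    phi D hnil a (theta D hnil a ha p) = p := by
  have : (phi D hnil a).comp (theta D hnil a ha) = RingHom.id _ := by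
    apply Polynomial.ringHom_ext
    · intro y
      obtain ⟨x, rfl⟩ := Ideal.Quotient.mk_surjective y
      rw [RingHom.comp_apply, theta, coe_eval₂RingHom, eval₂_C, psiBar_mk, RingHom.id_apply]
      ext n
      rw [coeff_phi, coeff_C]
      cases n with
      | zero =>
        simp only [cf, Nat.factorial_zero, Nat.cast_one, inv_one, pow_zero, one_smul, if_true]
        exact mk_psi D hnil a x
      | succ n =>
        rw [cf, pow_succ_apply', D_psi D hnil a ha, map_zero, smul_zero, map_zero]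
        simp
    · rw [RingHom.comp_apply, theta, coe_eval₂RingHom, eval₂_X, RingHom.id_apply, phi,
        RingHom.comp_apply, E_a D hnil a ha]
      simp
  exact RingHom.congr_fun this p

theorem alt_sum (k : ℕ) :
    ∑ i ∈ range (k + 1), ((i.factorial : ℚ)⁻¹ * sg (k - i)) = if k = 0 then 1 else 0 := by
  have h1 : ∀ i ∈ range (k + 1), (i.factorial : ℚ)⁻¹ * sg (k - i) =
      (k.factorial : ℚ)⁻¹ * ((1 : ℚ) ^ i * (-1) ^ (k - i) * (k.choose i : ℚ)) := by
    intro i hi
    have hik : i ≤ k := Nat.lt_succ_iff.1 (mem_range.1 hi)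
    obtain ⟨j, rfl⟩ := Nat.exists_eq_add_of_le hik
    rw [Nat.add_sub_cancel_left, sg, one_pow, one_mul]
    have := choose_identity i j
    calc (i.factorial : ℚ)⁻¹ * ((-1) ^ j * (j.factorial : ℚ)⁻¹)
        = (-1) ^ j * ((i.factorial : ℚ)⁻¹ * (j.factorial : ℚ)⁻¹) := by ring
      _ = _ := by rw [← this]; ring
  rw [sum_congr rfl h1, ← mul_sum, ← add_pow]
  rcases k with _ | k
  · simp
  · simp

include ha in
theorem theta_phi (x : A) : theta D hnil a ha (phi D hnil a x) = x := by
  obtain ⟨N, hN⟩ := hnil x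
  have hN1 : (Δ ^ (N + 1)) x = 0 := pow_eq_zero_of_le D hN (Nat.le_succ N)
  have e1 : phi D hnil a x = ∑ n ∈ range (N + 1),
      monomial n (Ideal.Quotient.mk (Ideal.span ({a} : Set A)) (cf D n x)) := by
    rw [phi, RingHom.comp_apply, E_eq_sum D hnil x (N + 1) hN1, coe_mapRingHom,
      Polynomial.map_sum]
    simp only [map_monomial]
  rw [e1, map_sum]
  have e2 : ∀ n, theta D hnil a ha
      (monomial n (Ideal.Quotient.mk (Ideal.span ({a} : Set A)) (cf D n x))) =
      ∑ m ∈ range (N + 1),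
        ((n.factorial : ℚ)⁻¹ * sg m) • ((Δ ^ (n + m)) x * a ^ (n + m)) := by
    intro n
    have hz : (Δ ^ (N + 1)) ((Δ ^ n) x) = 0 := by
      rw [← pow_add_apply]
      exact pow_eq_zero_of_le D hN1 (Nat.le_add_right _ _)
    rw [theta, coe_eval₂RingHom, eval₂_monomial, psiBar_mk, cf, map_rat_smul,
      psi_eq D hnil a _ (N + 1) hz, smul_sum, sum_mul]
    refine sum_congr rfl fun m _ => ?_
    rw [← pow_add_apply, smul_smul, smul_mul_assoc, add_comm m n]
    congr 1
    rw [pow_add]
    ring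
  simp_rw [e2]
  have hA : ∀ n ∈ range (N + 1),
      ∑ m ∈ range (N + 1), ((n.factorial : ℚ)⁻¹ * sg m) • ((Δ ^ (n + m)) x * a ^ (n + m)) =
      ∑ m ∈ range (N + 1 - n),
        ((n.factorial : ℚ)⁻¹ * sg m) • ((Δ ^ (n + m)) x * a ^ (n + m)) := by
    intro n hn
    symm
    apply sum_subset (range_subset_range.2 (Nat.sub_le _ _))
    intro m hm hm'
    have : N + 1 ≤ n + m := by
      simp only [mem_range, not_lt] at hm hm'
      omega
    rw [pow_eq_zero_of_le D hN1 this, zero_mul, smul_zero]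
  rw [sum_congr rfl hA, ← sum_range_diag_flip (N + 1)
    (fun n m => ((n.factorial : ℚ)⁻¹ * sg m) • ((Δ ^ (n + m)) x * a ^ (n + m)))]
  have hC : ∀ k ∈ range (N + 1),
      ∑ i ∈ range (k + 1), ((i.factorial : ℚ)⁻¹ * sg (k - i)) •
        ((Δ ^ (i + (k - i))) x * a ^ (i + (k - i))) =
      (if k = 0 then (1 : ℚ) else 0) • ((Δ ^ k) x * a ^ k) := by
    intro k _
    rw [← alt_sum k, sum_smul]
    refine sum_congr rfl fun i hi => ?_
    have hik : i ≤ k := Nat.lt_succ_iff.1 (mem_range.1 hi)
    rw [Nat.add_sub_cancel' hik]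
  rw [sum_congr rfl hC, sum_range_succ']
  simp

theorem phi_D (y : A) : phi D hnil a (D y) = derivative (phi D hnil a y) := by
  ext n
  rw [coeff_phi, coeff_derivative, coeff_phi, cf, cf, ← pow_succ_apply', ← map_natCast
    (Ideal.Quotient.mk (Ideal.span ({a} : Set A))) n, ← map_one
    (Ideal.Quotient.mk (Ideal.span ({a} : Set A))), ← map_add, ← map_mul]
  congr 1
  have hm : ((n + 1 : ℕ) : ℚ) ≠ 0 := by exact_mod_cast Nat.succ_ne_zero n
  have hf : (n.factorial : ℚ) ≠ 0 := by exact_mod_cast n.factorial_ne_zero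
  have e : ((n.factorial : ℚ)⁻¹) = (((n + 1).factorial : ℚ)⁻¹) * ((n + 1 : ℕ) : ℚ) := by
    rw [Nat.factorial_succ]
    push_cast
    field_simp
  rw [e, mul_smul, Algebra.smul_def (((n + 1).factorial : ℚ)⁻¹), Algebra.smul_def ((n + 1 : ℕ) : ℚ),
    Algebra.smul_def (((n + 1).factorial : ℚ)⁻¹)]
  simp only [map_natCast]
  push_cast
  ring

end


/-- Let A be a commutative algebra over the rationals, D a locally nilpotent derivation of A and a an
element with D a = 1; write A' for the quotient of A by the ideal generated by a. Then there is a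
ring isomorphism from A onto the polynomial ring A'[Y] which sends every x to the (finite) sum over
n of (1/n!) (class of D^n x) Y^n; its inverse sends Y to a and the constant polynomial on the class
of x to the sum over n of ((-1)^n/n!) (D^n x) a^n, and under it D corresponds to the derivative
d/dY. (The source says only that A is a ring, in a setting over a field of characteristic zero; the
rational coefficients 1/n! require an algebra over the rationals, which is the hypothesis taken
here. Both sums are written over any range beyond which the iterates of D vanish at x.) -/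
theorem result
    (A : Type u) [CommRing A] [Algebra ℚ A] (D : Derivation ℚ A A)
    (hnil : ∀ x : A, ∃ n : ℕ, ((D : A →ₗ[ℚ] A) ^ n) x = 0) (a : A) (ha : D a = 1) :
    ∃ χ : A ≃+* Polynomial (A ⧸ Ideal.span ({a} : Set A)),
      (∀ (x : A) (N : ℕ), ((D : A →ₗ[ℚ] A) ^ N) x = 0 →
        χ x = ∑ n ∈ Finset.range N,
          ((n.factorial : ℚ)⁻¹ • Polynomial.C (Ideal.Quotient.mk (Ideal.span ({a} : Set A)) (((D : A →ₗ[ℚ] A) ^ n) x))) *
            Polynomial.X ^ n) ∧
      χ.symm Polynomial.X = a ∧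
      (∀ (x : A) (N : ℕ), ((D : A →ₗ[ℚ] A) ^ N) x = 0 →
        χ.symm (Polynomial.C (Ideal.Quotient.mk (Ideal.span ({a} : Set A)) x)) =
          ∑ n ∈ Finset.range N, (((-1 : ℚ) ^ n * (n.factorial : ℚ)⁻¹) • ((((D : A →ₗ[ℚ] A) ^ n) x) * a ^ n))) ∧
      ∀ p : Polynomial (A ⧸ Ideal.span ({a} : Set A)), χ (D (χ.symm p)) = Polynomial.derivative p := by
  refine ⟨RingEquiv.ofRingHom (phi D hnil a) (theta D hnil a ha) ?_ ?_, ?_, ?_, ?_, ?_⟩
  · exact RingHom.ext fun p => phi_theta D hnil a ha p
  · exact RingHom.ext fun x => theta_phi D hnil a ha x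
  · intro x N hN
    change phi D hnil a x = _
    rw [phi, RingHom.comp_apply, E_eq_sum D hnil x N hN, coe_mapRingHom, Polynomial.map_sum]
    refine sum_congr rfl fun n _ => ?_
    rw [map_monomial, cf, map_rat_smul, ← C_mul_X_pow_eq_monomial, smul_C]
  · change theta D hnil a ha X = a
    rw [theta, coe_eval₂RingHom, eval₂_X]
  · intro x N hN
    change theta D hnil a ha (C _) = _
    rw [theta, coe_eval₂RingHom, eval₂_C, psiBar_mk, psi_eq D hnil a x N hN]
    simp only [sg]
  · intro p
    change phi D hnil a (D (theta D hnil a ha p)) = _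
    rw [phi_D, phi_theta]

end Groth.Agent.S18974
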