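import Groth.Statements.S19424
import Mathlib

set_option autoImplicit false
universe u
open CategoryTheory MonoidalCategory CartesianMonoidalCategory MonObj AlgebraicGeometry Topology
open NRQuot

namespace Groth.Agent.S19424

section Pts
open CategoryTheory.Limits


/-- The image of a section over a one-point base is a closed point. -/
theorem isClosed_singleton_of_section {Y T : Scheme.{u}} [Subsingleton T] (p : Y ⟶ T) (σ : T ⟶ Y)
    (hσ : σ ≫ p = 𝟙 T) (t : T) : IsClosed ({σ t} : Set Y) := by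
  set u := σ t with hu
  have hrange : Set.range σ = {u} := by
    ext z
    constructor
    · rintro ⟨w, rfl⟩
      rw [Subsingleton.elim w t]; rfl
    · rintro rfl
      exact ⟨_, rfl⟩
  refine isClosed_of_closure_subset (fun u' hu' => ?_)
  have hsp : u ⤳ u' := specializes_iff_mem_closure.2 hu'
  obtain ⟨_, ⟨W0, hW, rfl⟩, hu'W, -⟩ :=
    (Y.isBasis_affineOpens).exists_subset_of_mem_open (Set.mem_univ u') isOpen_univ
  let W : Y.Opens := W0
  have huW : u ∈ W := hsp.mem_open W.isOpen hu'W
  have hWaff : IsAffine (W : Scheme.{u}) := hW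
  have hrW : Set.range σ ⊆ Set.range W.ι := by
    rw [hrange, Scheme.Opens.range_ι]
    exact Set.singleton_subset_iff.2 huW
  let gW : T ⟶ (W : Scheme.{u}) := IsOpenImmersion.lift W.ι σ hrW
  have hgW : gW ≫ W.ι = σ := IsOpenImmersion.lift_fac _ _ _
  have hsep : IsSeparated (W.ι ≫ p) := by
    have h1 : (W : Scheme.{u}).IsSeparated := inferInstance
    have h2 : IsSeparated ((W.ι ≫ p) ≫ terminal.from T) := by
      rw [show (W.ι ≫ p) ≫ terminal.from T = terminal.from (W : Scheme.{u}) from
        terminal.hom_ext _ _]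
      exact h1.1
    exact IsSeparated.of_comp (W.ι ≫ p) (terminal.from T)
  have huc : UniversallyClosed (gW ≫ W.ι ≫ p) := by
    rw [← Category.assoc, hgW, hσ]; infer_instance
  have hgWuc : UniversallyClosed gW := UniversallyClosed.of_comp_of_isSeparated gW (W.ι ≫ p)
  have hcl : IsClosed (Set.range gW) := gW.isClosedMap.isClosed_range
  have hgWpt : ∀ w, W.ι (gW w) = u := by
    intro w
    rw [← Scheme.Hom.comp_apply, hgW, Subsingleton.elim w t]
  have hrangeW : Set.range gW = {(⟨u, huW⟩ : ↥W)} := by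
    ext z
    constructor
    · rintro ⟨w, rfl⟩
      exact Subtype.ext (hgWpt w)
    · rintro rfl
      exact ⟨t, Subtype.ext (hgWpt _)⟩
  rw [hrangeW] at hcl
  have hspW : (⟨u, huW⟩ : ↥W) ⤳ (⟨u', hu'W⟩ : ↥W) :=
    Topology.IsInducing.subtypeVal.specializes_iff.1 hsp
  have : (⟨u', hu'W⟩ : ↥W) ∈ ({(⟨u, huW⟩ : ↥W)} : Set ↥W) := by
    have := hspW.mem_closed hcl (Set.mem_singleton _)
    exact this
  exact congrArg Subtype.val (Set.mem_singleton_iff.1 this)



/-- Two sections of `p : Y ⟶ Spec K` hitting the same point are equal. -/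
theorem section_ext {Y : Scheme.{u}} {K : Type u} [Field K] (p : Y ⟶ Spec (CommRingCat.of K))
    (σ₁ σ₂ : Spec (CommRingCat.of K) ⟶ Y) (h₁ : σ₁ ≫ p = 𝟙 _) (h₂ : σ₂ ≫ p = 𝟙 _)
    (t : Spec (CommRingCat.of K)) (h : σ₁ t = σ₂ t) : σ₁ = σ₂ := by
  obtain ⟨_, ⟨W0, hW, rfl⟩, hyW, -⟩ :=
    (Y.isBasis_affineOpens).exists_subset_of_mem_open (Set.mem_univ (σ₁ t)) isOpen_univ
  let W : Y.Opens := W0
  have hWaff : IsAffine (W : Scheme.{u}) := hW
  have hsub : ∀ w : Spec (CommRingCat.of K), w = t := fun w => Subsingleton.elim _ _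
  have hr₁ : Set.range σ₁ ⊆ Set.range W.ι := by
    rintro _ ⟨w, rfl⟩
    rw [Scheme.Opens.range_ι, hsub w]
    exact hyW
  have hr₂ : Set.range σ₂ ⊆ Set.range W.ι := by
    rintro _ ⟨w, rfl⟩
    rw [Scheme.Opens.range_ι, hsub w, ← h]
    exact hyW
  let g₁ : Spec (CommRingCat.of K) ⟶ (W : Scheme.{u}) := IsOpenImmersion.lift W.ι σ₁ hr₁
  let g₂ : Spec (CommRingCat.of K) ⟶ (W : Scheme.{u}) := IsOpenImmersion.lift W.ι σ₂ hr₂
  have hg₁ : g₁ ≫ W.ι = σ₁ := IsOpenImmersion.lift_fac _ _ _
  have hg₂ : g₂ ≫ W.ι = σ₂ := IsOpenImmersion.lift_fac _ _ _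
  suffices hs : g₁ = g₂ by rw [← hg₁, ← hg₂, hs]
  have hpt : g₁ t = g₂ t := by
    apply W.ι.injective
    rw [← Scheme.Hom.comp_apply, ← Scheme.Hom.comp_apply, hg₁, hg₂]
    exact h
  apply ext_of_isAffine
  -- the ring maps
  let q := (W.ι ≫ p).appTop
  have hq₁ : q ≫ g₁.appTop = 𝟙 _ := by
    rw [← Scheme.Hom.comp_appTop, ← Category.assoc, hg₁, h₁, Scheme.Hom.id_appTop]
  have hq₂ : q ≫ g₂.appTop = 𝟙 _ := by
    rw [← Scheme.Hom.comp_appTop, ← Category.assoc, hg₂, h₂, Scheme.Hom.id_appTop]
  -- units in Γ(Spec K, ⊤)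
  let e : Γ(Spec (CommRingCat.of K), ⊤) ≃+* K :=
    (Scheme.ΓSpecIso (CommRingCat.of K)).commRingCatIsoToRingEquiv
  have hF : ∀ c : Γ(Spec (CommRingCat.of K), ⊤), c ≠ 0 → IsUnit c := by
    intro c hc
    have h1 : e c ≠ 0 := fun h0 => hc (e.injective (h0.trans (map_zero e).symm))
    have h2 : IsUnit (e c) := isUnit_iff_ne_zero.mpr h1
    have h3 := h2.map e.symm
    rwa [RingEquiv.symm_apply_apply] at h3
  have hne : (1 : Γ(Spec (CommRingCat.of K), ⊤)) ≠ 0 := by
    intro h10
    have := congrArg e h10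
    rw [map_one, map_zero] at this
    exact one_ne_zero this
  have hunit : ∀ (g : Spec (CommRingCat.of K) ⟶ (W : Scheme.{u})) (b : Γ((W : Scheme.{u}), ⊤)),
      IsUnit (g.appTop b) ↔ g t ∈ (W : Scheme.{u}).basicOpen b := by
    intro g b
    have h1 : g t ∈ (W : Scheme.{u}).basicOpen b ↔
        t ∈ (Spec (CommRingCat.of K)).basicOpen (g.appTop b) := by
      rw [← Scheme.preimage_basicOpen_top]
      rfl
    rw [h1, Scheme.mem_basicOpen_top]
    constructor
    · intro hu
      exact hu.map _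
    · intro hu
      apply RingedSpace.isUnit_of_isUnit_germ
      intro x hx
      obtain rfl := hsub x
      exact hu
  have hiff : ∀ b : Γ((W : Scheme.{u}), ⊤), IsUnit (g₁.appTop b) ↔ IsUnit (g₂.appTop b) := by
    intro b
    rw [hunit g₁ b, hunit g₂ b, hpt]
  ext b
  set c := g₁.appTop b with hc
  have e1 : g₁.appTop (q c) = c := by
    have := congrArg (fun f => f.hom c) hq₁
    simpa using this
  have e2 : g₂.appTop (q c) = c := by
    have := congrArg (fun f => f.hom c) hq₂
    simpa using this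
  have h0 : g₁.appTop (b - q c) = 0 := by
    rw [map_sub, e1, sub_self]
  have h0' : g₂.appTop (b - q c) = 0 := by
    by_contra hne0
    have hu := (hiff (b - q c)).mpr (hF _ hne0)
    rw [h0] at hu
    exact hne (isUnit_zero_iff.mp hu).symm
  rw [map_sub, e2, sub_eq_zero] at h0'
  exact h0'.symm


end Pts


section Formal

variable {S : Scheme.{u}} {G X Y : Over S} [GrpObj G]

theorem orbitMap_comp_of_isInvariant (a : AlgGrp.Action G X) (φ : X ⟶ Y)
    (h : GIT.IsInvariant a φ) (x : 𝟙_ (Over S) ⟶ X) :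
    a.orbitMap x ≫ φ = toUnit G ≫ x ≫ φ := by
  unfold AlgGrp.Action.orbitMap
  rw [Category.assoc, h, ← Category.assoc, lift_snd, Category.assoc]

theorem unit_orbitMap (a : AlgGrp.Action G X) (x : 𝟙_ (Over S) ⟶ X) :
    η[G] ≫ a.orbitMap x = x := by
  unfold AlgGrp.Action.orbitMap
  rw [← Category.assoc, comp_lift, Category.comp_id, ← Category.assoc,
    toUnit_unique (η[G] ≫ toUnit G) (𝟙 _), Category.id_comp]
  have h1 : lift η[G] x = lift (𝟙 _) x ≫ (η[G] ▷ X) := by
    rw [lift_whiskerRight, Category.id_comp]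
  rw [h1, Category.assoc, a.one_act, leftUnitor_hom, lift_snd]

/-- `g₁ · (g₂ · x) = (g₁ g₂) · x` for `T`-valued points. -/
theorem act_orbitMap (a : AlgGrp.Action G X) (x : 𝟙_ (Over S) ⟶ X) {T : Over S}
    (g₁ g₂ : T ⟶ G) :
    lift g₁ (g₂ ≫ a.orbitMap x) ≫ a.act = (lift g₁ g₂ ≫ μ[G]) ≫ a.orbitMap x := by
  unfold AlgGrp.Action.orbitMap
  have h2 : g₂ ≫ lift (𝟙 G) (toUnit G ≫ x) = lift g₂ (toUnit T ≫ x) := by
    rw [comp_lift, Category.comp_id, ← Category.assoc, toUnit_unique (g₂ ≫ toUnit G) (toUnit T)]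
  have h3 : (lift g₁ g₂ ≫ μ[G]) ≫ lift (𝟙 G) (toUnit G ≫ x) =
      lift (lift g₁ g₂) (toUnit T ≫ x) ≫ (μ[G] ▷ X) := by
    rw [comp_lift, Category.comp_id, lift_whiskerRight, ← Category.assoc,
      toUnit_unique ((lift g₁ g₂ ≫ μ[G]) ≫ toUnit G) (toUnit T)]
  rw [← Category.assoc g₂, h2, ← Category.assoc (lift g₁ g₂ ≫ μ[G]), h3, Category.assoc,
    a.mul_act, ← Category.assoc, lift_lift_associator_hom, ← Category.assoc, lift_whiskerLeft]






theorem isInvariantSet_range_orbitMap (a : AlgGrp.Action G X) (x : 𝟙_ (Over S) ⟶ X) :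
    IsInvariantSet a (Set.range (a.orbitMap x).left.base) := by
  intro p hp
  obtain ⟨q, hq⟩ := hp
  obtain ⟨z, hz1, hz2⟩ := Scheme.Pullback.exists_preimage_pullback
    (f := (snd G X).left) (g := (a.orbitMap x).left) p q hq.symm
  have hw : Limits.pullback.snd (snd G X).left (a.orbitMap x).left ≫ G.hom =
      Limits.pullback.fst (snd G X).left (a.orbitMap x).left ≫ (G ⊗ X).hom := by
    rw [← Over.w (a.orbitMap x), ← Over.w (snd G X), ← Category.assoc, ← Category.assoc,
      Limits.pullback.condition]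
  let T : Over S := Over.mk (Limits.pullback.fst (snd G X).left (a.orbitMap x).left ≫ (G ⊗ X).hom)
  let π₁ : T ⟶ G ⊗ X := Over.homMk (Limits.pullback.fst _ _) rfl
  let g₂ : T ⟶ G := Over.homMk (Limits.pullback.snd _ _) hw
  have hcond : π₁ ≫ snd G X = g₂ ≫ a.orbitMap x := by
    ext
    exact Limits.pullback.condition
  have hπ : lift (π₁ ≫ fst G X) (g₂ ≫ a.orbitMap x) = π₁ := by
    rw [← hcond]
    exact lift_comp_fst_snd π₁
  have key : π₁ ≫ a.act = (lift (π₁ ≫ fst G X) g₂ ≫ μ[G]) ≫ a.orbitMap x := by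
    rw [← act_orbitMap a x (π₁ ≫ fst G X) g₂, hπ]
  refine ⟨(lift (π₁ ≫ fst G X) g₂ ≫ μ[G]).left.base z, ?_⟩
  have h1 := congrArg (fun f => f.left.base z) key
  simp only [Over.comp_left, Scheme.Hom.comp_base, TopCat.comp_app] at h1 ⊢
  rw [← h1]
  exact congrArg _ hz1



theorem isInvariantSet_closure (a : AlgGrp.Action G X) (hopen : IsOpenMap (snd G X).left.base)
    {W : Set ↥X.left} (hW : IsInvariantSet a W) : IsInvariantSet a (closure W) := by
  intro p hp
  have h1 : p ∈ closure ((snd G X).left.base ⁻¹' W) := by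
    rw [← hopen.preimage_closure_eq_closure_preimage (snd G X).left.base.hom.continuous]
    exact hp
  exact map_mem_closure a.act.left.base.hom.continuous h1 (fun q hq => hW q hq)

end Formal


/-- Let k be an algebraically closed field, G an affine group scheme of finite type over k acting on a
k-scheme X locally of finite type, and φ : X → Y a good quotient (affine and invariant, functions on
every open of Y are exactly the invariant functions on its preimage, invariant closed subsets have
closed images, and images commute with intersections of families of invariant closed subsets). Then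
for two k-points x₁, x₂ of X, the closures of their orbits (the images of the orbit morphisms G → X)
have a common point if and only if x₁ and x₂ have the same image in Y. -/
theorem result
    (k : Type u) [Field k] [IsAlgClosed k]
    (G X Y : Over (Spec (CommRingCat.of k))) [GrpObj G] [IsAffine G.left] [LocallyOfFiniteType G.hom]
    [LocallyOfFiniteType X.hom]
    (a : AlgGrp.Action G X) (φ : X ⟶ Y) (h : NRQuot.IsGoodQuot a φ)
    (x₁ x₂ : 𝟙_ (Over (Spec (CommRingCat.of k))) ⟶ X) :
    (closure (Set.range (a.orbitMap x₁).left.base) ∩ closure (Set.range (a.orbitMap x₂).left.base)).Nonempty ↔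
      x₁ ≫ φ = x₂ ≫ φ := by
  have hGfp : LocallyOfFinitePresentation G.hom :=
    LocallyOfFinitePresentation.iff_locallyOfFiniteType.mpr inferInstance
  have hGuo : UniversallyOpen G.hom := inferInstance
  have hsnd : UniversallyOpen (snd G X).left := by
    change UniversallyOpen (Limits.pullback.snd G.hom X.hom)
    infer_instance
  have hopen : IsOpenMap (snd G X).left.base := (snd G X).left.isOpenMap
  have hinv : ∀ x : 𝟙_ (Over (Spec (CommRingCat.of k))) ⟶ X,
      IsInvariantSet a (closure (Set.range (a.orbitMap x).left.base)) := fun x =>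
    isInvariantSet_closure a hopen (isInvariantSet_range_orbitMap a x)
  let pt : ↥(Spec (CommRingCat.of k)) := default
  have hmem : ∀ x : 𝟙_ (Over (Spec (CommRingCat.of k))) ⟶ X,
      x.left.base pt ∈ Set.range (a.orbitMap x).left.base := by
    intro x
    refine ⟨η[G].left.base pt, ?_⟩
    have h1 := congrArg (fun f => f.left.base pt) (unit_orbitMap a x)
    simpa only [Over.comp_left, Scheme.Hom.comp_base, TopCat.comp_app] using h1
  have : Subsingleton ↥(𝟙_ (Over (Spec (CommRingCat.of k)))).left :=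
    inferInstanceAs (Subsingleton ↥(Spec (CommRingCat.of k)))
  constructor
  · rintro ⟨z, hz1, hz2⟩
    have hcl : ∀ x : 𝟙_ (Over (Spec (CommRingCat.of k))) ⟶ X,
        IsClosed ({(x ≫ φ).left.base pt} : Set ↥Y.left) := fun x =>
      isClosed_singleton_of_section Y.hom (x ≫ φ).left (Over.w (x ≫ φ)) pt
    have himg : ∀ (x : 𝟙_ (Over (Spec (CommRingCat.of k))) ⟶ X) (z : ↥X.left),
        z ∈ closure (Set.range (a.orbitMap x).left.base) →
          φ.left.base z = (x ≫ φ).left.base pt := by
      intro x z hz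
      have h1 : φ.left.base z ∈ closure (φ.left.base '' Set.range (a.orbitMap x).left.base) :=
        map_mem_closure φ.left.base.hom.continuous hz (fun q hq => ⟨q, hq, rfl⟩)
      have hsub : φ.left.base '' Set.range (a.orbitMap x).left.base ⊆
          {(x ≫ φ).left.base pt} := by
        rintro _ ⟨_, ⟨g, rfl⟩, rfl⟩
        have h2 := congrArg (fun f => f.left.base g) (orbitMap_comp_of_isInvariant a φ h.inv x)
        simp only [Over.comp_left, Scheme.Hom.comp_base, TopCat.comp_app] at h2
        rw [Set.mem_singleton_iff, h2]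
        simp only [Over.comp_left, Scheme.Hom.comp_base, TopCat.comp_app]
        congr 2
        exact Subsingleton.elim _ _
      exact closure_minimal hsub (hcl x) h1
    have e : (x₁ ≫ φ).left.base pt = (x₂ ≫ φ).left.base pt :=
      (himg x₁ z hz1).symm.trans (himg x₂ z hz2)
    have h3 := section_ext Y.hom (x₁ ≫ φ).left (x₂ ≫ φ).left (Over.w (x₁ ≫ φ)) (Over.w (x₂ ≫ φ))
      pt e
    exact Over.OverMorphism.ext h3
  · intro heq
    have h1 := h.inter (ULift.{u} Bool)
      (fun i => closure (Set.range (a.orbitMap (if i.down then x₁ else x₂)).left.base))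
      (fun i => isClosed_closure) (fun i => hinv _)
    have hy : (x₁ ≫ φ).left.base pt ∈ ⋂ i : ULift.{u} Bool, φ.left.base ''
        closure (Set.range (a.orbitMap (if i.down then x₁ else x₂)).left.base) := by
      rw [Set.mem_iInter]
      rintro ⟨b⟩
      cases b
      · refine ⟨x₂.left.base pt, subset_closure (hmem x₂), ?_⟩
        rw [heq]
        simp only [Over.comp_left, Scheme.Hom.comp_base, TopCat.comp_app]
      · refine ⟨x₁.left.base pt, subset_closure (hmem x₁), ?_⟩
        simp only [Over.comp_left, Scheme.Hom.comp_base, TopCat.comp_app]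
    rw [← h1] at hy
    obtain ⟨z, hz, -⟩ := hy
    rw [Set.mem_iInter] at hz
    exact ⟨z, hz ⟨true⟩, hz ⟨false⟩⟩

end Groth.Agent.S19424
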