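import Groth.Statements.S18981
import Mathlib
import Groth.Agent.Lib.Helper27.KPoints
import Groth.Agent.S19424
import Groth.Prelude.Def_ChGrp

set_option autoImplicit false
universe u
open CategoryTheory MonoidalCategory CartesianMonoidalCategory MonObj AlgebraicGeometry Topology
open NRQuot

namespace Groth.Agent.S18981

/-- Over an algebraically closed field k of characteristic zero, let G be an affine group scheme of
finite type over k acting on a k-scheme X locally of finite type, and let φ : X → Y be a good
quotient (affine and invariant, functions on every open of Y are exactly the invariant functions on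
its preimage, invariant closed subsets have closed images, images commute with intersections of
families of invariant closed subsets). If the orbit of every k-point of X is closed in X, then φ is
a geometric quotient; this row states the one clause that a good quotient lacks: fibres are orbits,
read on k-points — two k-points of X with the same image in Y are translates of each other by a
k-point of G. (Surjectivity and submersiveness of a good quotient are the content of the companion
statement on good quotients; X locally of finite type is what the argument on closed points uses.) -/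
theorem result
    (k : Type u) [Field k] [IsAlgClosed k] [CharZero k]
    (G X Y : Over (Spec (CommRingCat.of k))) [GrpObj G] [IsAffine G.left] [LocallyOfFiniteType G.hom]
    [LocallyOfFiniteType X.hom]
    (a : AlgGrp.Action G X) (φ : X ⟶ Y) (h : NRQuot.IsGoodQuot a φ)
    (hcl : ∀ x : 𝟙_ (Over (Spec (CommRingCat.of k))) ⟶ X, IsClosed (Set.range (a.orbitMap x).left.base))
    (x₁ x₂ : 𝟙_ (Over (Spec (CommRingCat.of k))) ⟶ X) (hφ : x₁ ≫ φ = x₂ ≫ φ) :
    ∃ g : 𝟙_ (Over (Spec (CommRingCat.of k))) ⟶ G, lift g x₁ ≫ a.act = x₂ := by
  have hne := (Groth.Agent.S19424.result k G X Y a φ h x₁ x₂).mpr hφ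
  rw [(hcl x₁).closure_eq, (hcl x₂).closure_eq] at hne
  obtain ⟨z, ⟨hz1, hz2⟩, hzc⟩ := Groth.Agent.Lib.Helper27.KPoints.exists_closed_point_mem X.hom _
    ((hcl x₁).inter (hcl x₂)) hne
  obtain ⟨w, hw, hwz⟩ := Groth.Agent.Lib.Helper27.KPoints.exists_section_apply X.hom z hzc
  let zp : 𝟙_ (Over (Spec (CommRingCat.of k))) ⟶ X := Over.homMk w hw
  let pt : ↥(Spec (CommRingCat.of k)) := default
  have hzp : zp.left pt = z := hwz pt
  obtain ⟨g₁, hg₁⟩ := Groth.Agent.Lib.Helper27.KPoints.exists_kpoint_lift (a.orbitMap x₁) zp pt
    (by rw [hzp]; exact hz1)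
  obtain ⟨g₂, hg₂⟩ := Groth.Agent.Lib.Helper27.KPoints.exists_kpoint_lift (a.orbitMap x₂) zp pt
    (by rw [hzp]; exact hz2)
  have hu : toUnit (𝟙_ (Over (Spec (CommRingCat.of k)))) = 𝟙 _ := toUnit_unique _ _
  have e₁ : lift g₁ x₁ ≫ a.act = zp := by
    rw [← hg₁, AlgGrp.Action.comp_orbitMap, hu, Category.id_comp]
  have e₂ : lift g₂ x₂ ≫ a.act = zp := by
    rw [← hg₂, AlgGrp.Action.comp_orbitMap, hu, Category.id_comp]
  refine ⟨g₂⁻¹ * g₁, ?_⟩
  rw [AlgGrp.Action.lift_mul_act, e₁, ← e₂, ← AlgGrp.Action.lift_mul_act, inv_mul_cancel,
    AlgGrp.Action.lift_one_act]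

end Groth.Agent.S18981
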