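import Groth.Statements.S18988
import Mathlib
import Groth.Agent.Lib.Helper68.LieComod
import Groth.Agent.S3265

set_option autoImplicit false
universe u
open TensorProduct
open HopfRep

namespace Groth.Agent.S18988

/-- In Hopf-algebra form, over an algebraically closed field k of characteristic zero, let A be a
finitely generated commutative Hopf algebra which is unipotent in the fixed-vector sense (the
coordinate ring of a unipotent group U), coacting multiplicatively on a finitely generated
commutative k-algebra R. Then a k-subspace V of R is a subcomodule (is invariant under U) if and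
only if it is stable under the infinitesimal action of every ε-derivation ξ : A → k: for every v in
V, applying ξ to the A-factor of the coaction of v gives an element of the image of V ⊗ k in R ⊗ k. -/
theorem result
    (k : Type u) [Field k] [IsAlgClosed k] [CharZero k]
    (A : Type u) [CommRing A] [HopfAlgebra k A] [Algebra.FiniteType k A] (hU : HopfRep.IsUnipotent k A)
    (R : Type u) [CommRing R] [Algebra k R] [Algebra.FiniteType k R]
    [HopfRep.Comod k A R] [GLin.IsCoactAlg k A R] (V : Submodule k R) :
    HopfRep.IsSubcomod (k := k) (A := A) V ↔
      ∀ (ξ : LieHopf.Lie k A) (v : R), v ∈ V →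
        LinearMap.lTensor R (ξ.toLinearMap.restrictScalars k) (HopfRep.Comod.coact (k := k) (A := A) v) ∈
          LinearMap.range (LinearMap.rTensor (LieHopf.K k A) V.subtype) := by
  constructor
  · intro hV ξ v hv
    rw [Groth.Agent.Lib.Helper68.LieComod.lie_mem_range_iff]
    exact Groth.Agent.Lib.Helper93.Comod.dualAct_mem_of_isSubcomod V hV _ v hv
  · intro h
    refine Groth.Agent.Lib.Helper68.LieComod.isSubcomod_of_lie_stable
      (fun e he => Groth.Agent.S3265.result k A hU e he) V ?_
    intro ξ v hv
    exact (Groth.Agent.Lib.Helper68.LieComod.lie_mem_range_iff V ξ v).mp (h ξ v hv)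

end Groth.Agent.S18988
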