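import Groth.Statements.S19004
import Mathlib

set_option autoImplicit false
open GIT

namespace Groth.Agent.S19004

open MvPolynomial

theorem prodX (n : ℕ) (g : Fin n → ℕ) :
    ∏ i, (X i : MvPolynomial (Fin n) ℤ) ^ (g i) = monomial (Finsupp.equivFunOnFinite.symm g) 1 := by
  rw [MvPolynomial.monomial_eq, Finsupp.prod_fintype]
  · simp
  · intro i; simp

theorem split (n : ℕ) :
    (∏ i : Fin n, ∏ j ∈ Finset.univ.erase i, (X i - X j : MvPolynomial (Fin n) ℤ))
      = (Matrix.vandermonde (fun i => (X i : MvPolynomial (Fin n) ℤ))).det *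
        (Matrix.projVandermonde 1 (fun i => (X i : MvPolynomial (Fin n) ℤ))).det := by
  rw [Matrix.det_vandermonde, Matrix.det_projVandermonde]
  have h1 : ∀ i : Fin n, Finset.univ.erase i = Finset.Iio i ∪ Finset.Ioi i := by
    intro i; ext j
    simp only [Finset.mem_erase, Finset.mem_univ, and_true, Finset.mem_union, Finset.mem_Iio,
      Finset.mem_Ioi]
    exact ne_iff_lt_or_gt
  have h2 : ∀ i : Fin n, Disjoint (Finset.Iio i) (Finset.Ioi i) := by
    intro i
    rw [Finset.disjoint_left]
    intro j hj hj'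
    simp only [Finset.mem_Iio] at hj
    simp only [Finset.mem_Ioi] at hj'
    exact lt_asymm hj hj'
  simp_rw [h1, Finset.prod_union (h2 _), Finset.prod_mul_distrib]
  congr 1
  · rw [Finset.prod_comm' (s' := fun j => Finset.Ioi j) (t' := Finset.univ)]
    intro x y; simp
  · simp

theorem key (n : ℕ) (σ τ : Equiv.Perm (Fin n)) :
    (Finsupp.equivFunOnFinite.symm (fun i : Fin n => ((σ i : Fin n) : ℕ)) +
      Finsupp.equivFunOnFinite.symm (fun i : Fin n => (((τ i).rev : Fin n) : ℕ)) =
      Finsupp.equivFunOnFinite.symm (fun _ : Fin n => n - 1)) ↔ σ = τ := by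
  constructor
  · intro h
    ext i
    have := DFunLike.congr_fun h i
    simp only [Finsupp.coe_add, Pi.add_apply, Finsupp.equivFunOnFinite_symm_apply_apply,
      Fin.val_rev] at this
    have h1 := (σ i).isLt
    have h2 := (τ i).isLt
    omega
  · rintro rfl
    ext i
    simp only [Finsupp.coe_add, Pi.add_apply, Finsupp.equivFunOnFinite_symm_apply_apply,
      Fin.val_rev]
    have h1 := (σ i).isLt
    omega


/-- For the group PGL(n) acting on the space of n × n matrices the T-quotient is (P^{n−1})^n with Chow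
ring ℚ[t_1,…,t_n]/(t_1^n,…,t_n^n), the class c_top(g/t) is the product of all roots t_i − t_j (i ≠
j), and the computation in the proof shows that this product equals n!·t_1^{n−1}⋯t_n^{n−1} in that
ring. Stated here as the equivalent coefficient identity in ℤ[t_1,…,t_n]: the coefficient of
t_1^{n−1}⋯t_n^{n−1} in the product over ordered pairs i ≠ j of (t_i − t_j) is n!. -/
theorem result (n : ℕ) :
    MvPolynomial.coeff (Finsupp.equivFunOnFinite.symm (fun _ : Fin n => n - 1))
      (∏ i : Fin n, ∏ j ∈ Finset.univ.erase i, (MvPolynomial.X i - MvPolynomial.X j : MvPolynomial (Fin n) ℤ)) = (n.factorial : ℤ) := by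
  rw [split, ← Matrix.det_transpose (Matrix.vandermonde _),
    ← Matrix.det_transpose (Matrix.projVandermonde _ _), Matrix.det_apply', Matrix.det_apply']
  simp only [Matrix.transpose_apply, Matrix.vandermonde_apply, Matrix.projVandermonde_apply,
    Pi.one_apply, one_pow, one_mul]
  rw [Finset.sum_mul_sum]
  simp only [prodX]
  have hterm : ∀ σ τ : Equiv.Perm (Fin n),
      coeff (Finsupp.equivFunOnFinite.symm (fun _ : Fin n => n - 1))
      ((((Equiv.Perm.sign σ : ℤˣ) : ℤ) : MvPolynomial (Fin n) ℤ) *
        monomial (Finsupp.equivFunOnFinite.symm (fun i : Fin n => ((σ i : Fin n) : ℕ))) 1 *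
       ((((Equiv.Perm.sign τ : ℤˣ) : ℤ) : MvPolynomial (Fin n) ℤ) *
        monomial (Finsupp.equivFunOnFinite.symm (fun i : Fin n => (((τ i).rev : Fin n) : ℕ))) 1))
      = if σ = τ then 1 else 0 := by
    intro σ τ
    rw [← map_intCast (C : ℤ →+* MvPolynomial (Fin n) ℤ), ← map_intCast (C : ℤ →+* MvPolynomial (Fin n) ℤ),
      C_mul_monomial, C_mul_monomial, monomial_mul, coeff_monomial]
    simp only [key]
    split_ifs with h
    · subst h
      simp
    · rfl
  rw [coeff_sum]
  simp_rw [coeff_sum, hterm]
  simp [Fintype.card_perm]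

end Groth.Agent.S19004
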