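import Groth.Statements.S19006
import Mathlib

set_option autoImplicit false
universe u v w x
open RootD

namespace Groth.Agent.S19006

section helpers
variable {R : Type*} {N : Type*} [CommRing R] [AddCommGroup N] [Module R N]

theorem quad_sub_smul (Q : QuadraticMap R N R) (y a : N) (c : R) :
    Q (y - c • a) = Q y + c * c * Q a - c * QuadraticMap.polar Q y a := by
  have h1 : QuadraticMap.polar Q y (-(c • a)) = Q (y + -(c • a)) - Q y - Q (-(c • a)) := rfl
  rw [QuadraticMap.polar_neg_right, QuadraticMap.polar_smul_right, QuadraticMap.map_neg,
    QuadraticMap.map_smul, ← sub_eq_add_neg] at h1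
  simp only [smul_eq_mul] at h1
  linear_combination (-1 : R) * h1

theorem invariant_of_polar (Q : QuadraticMap R N R) (ℓ : N →ₗ[R] R) (a y : N)
    (h : QuadraticMap.polar Q y a = ℓ y * Q a) : Q (y - ℓ y • a) = Q y := by
  rw [quad_sub_smul, h]; ring

theorem polar_of_invariant [IsDomain R] [CharZero R] (Q : QuadraticMap R N R) (ℓ : N →ₗ[R] R) (a : N)
    (hℓ : ℓ a = 2) (D : Submodule R N) (ha : a ∈ D)
    (hinv : ∀ y ∈ D, Q (y - ℓ y • a) = Q y) :
    ∀ y ∈ D, QuadraticMap.polar Q y a = ℓ y * Q a := by
  have step : ∀ y ∈ D, ℓ y ≠ 0 → QuadraticMap.polar Q y a = ℓ y * Q a := by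
    intro y hy hc
    have h1 := hinv y hy
    rw [quad_sub_smul] at h1
    have h2 : ℓ y * (ℓ y * Q a - QuadraticMap.polar Q y a) = 0 := by
      linear_combination h1
    rcases mul_eq_zero.mp h2 with h3 | h3
    · exact absurd h3 hc
    · exact (sub_eq_zero.mp h3).symm
  intro y hy
  by_cases hc : ℓ y = 0
  · have hya : y + a ∈ D := D.add_mem hy ha
    have hl : ℓ (y + a) = 2 := by rw [map_add, hc, hℓ, zero_add]
    have h2 := step (y + a) hya (by rw [hl]; exact two_ne_zero)
    rw [QuadraticMap.polar_add_left, QuadraticMap.polar_self, hl] at h2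
    rw [hc, zero_mul]
    have : (2 : ℕ) • Q a = 2 * Q a := by simp
    rw [this] at h2
    linear_combination h2
  · exact step y hy hc

end helpers


/-- For a root pairing over an integral domain of characteristic zero, a quadratic form Q on the
coweight module N with polar form B, and a root α with coroot α^∨, the form Q is invariant under the
reflection attached to α acting on N if and only if B(y, α^∨) = ⟨α, y⟩ Q(α^∨) for all y in N. (The
source states this for integer-valued forms on the cocharacter lattice of a split reductive group;
here the form takes values in the base ring of the pairing.) -/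
theorem result {ι : Type u} {R : Type v} {M : Type w} {N : Type x} [CommRing R] [IsDomain R] [CharZero R]
    [AddCommGroup M] [Module R M] [AddCommGroup N] [Module R N] (P : RootPairing ι R M N)
    (Q : QuadraticMap R N R) (j : ι) :
    (∀ y : N, Q (P.coreflection j y) = Q y) ↔
      ∀ y : N, QuadraticMap.polar Q y (P.coroot j) = P.root' j y * Q (P.coroot j) := by
  have h2 : P.root' j (P.coroot j) = 2 := by
    rw [RootPairing.root'_coroot_eq_pairing, RootPairing.pairing_same]
  constructor
  · intro h y
    refine polar_of_invariant Q (P.root' j) (P.coroot j) h2 ⊤ trivial ?_ y trivial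
    intro y _
    have := h y
    rwa [RootPairing.coreflection_apply] at this
  · intro h y
    rw [RootPairing.coreflection_apply]
    exact invariant_of_polar Q (P.root' j) (P.coroot j) y (h y)

end Groth.Agent.S19006
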