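import Groth.Statements.S19007
import Mathlib

set_option autoImplicit false
universe u v w x
open RootD

namespace Groth.Agent.S19007

open Set

section
variable {ι : Type u} {R : Type v} {M : Type w} {N : Type x} [CommRing R]
    [AddCommGroup M] [Module R M] [AddCommGroup N] [Module R N] (P : RootPairing ι R M N)
    (Q : QuadraticMap R N R)

/-- the linear defect functional -/
def L (i : ι) (y : N) : R := QuadraticMap.polar Q y (P.coroot i) - P.root' i y * Q (P.coroot i)

theorem L_add (i : ι) (y z : N) : L P Q i (y + z) = L P Q i y + L P Q i z := by
  simp only [L, QuadraticMap.polar_add_left, map_add]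
  ring

theorem L_smul (i : ι) (c : R) (y : N) : L P Q i (c • y) = c * L P Q i y := by
  simp only [L, QuadraticMap.polar_smul_left, map_smul, smul_eq_mul]
  ring

theorem L_coroot_self (i : ι) : L P Q i (P.coroot i) = 0 := by
  simp only [L, QuadraticMap.polar_self, RootPairing.root'_coroot_eq_pairing, RootPairing.pairing_same]
  simp [two_mul]

theorem Q_corefl (i : ι) (y : N) :
    Q (P.coreflection i y) = Q y - P.root' i y * L P Q i y := by
  rw [RootPairing.coreflection_apply, sub_eq_add_neg, ← neg_smul, QuadraticMap.map_add Q,
    QuadraticMap.map_smul, QuadraticMap.polar_smul_right, L]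
  simp only [smul_eq_mul]
  ring

theorem corefl_mem (i : ι) (y : N) (hy : y ∈ Submodule.span R (Set.range P.coroot)) :
    P.coreflection i y ∈ Submodule.span R (Set.range P.coroot) := by
  induction hy using Submodule.span_induction with
  | mem z hz => exact Submodule.subset_span (P.mapsTo_coreflection_coroot i hz)
  | zero => simp
  | add a b _ _ ha hb => rw [map_add]; exact add_mem ha hb
  | smul c a _ ha => rw [map_smul]; exact Submodule.smul_mem _ _ ha

theorem corefl_reflectionPerm (i j : ι) :
    P.coreflection (P.reflectionPerm j i) = P.coreflection j * P.coreflection i * P.coreflection j := by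
  have := P.flip.reflection_reflectionPerm (i := i) (j := j)
  simpa [← RootPairing.coreflection_eq_flip_reflection] using this

theorem invariant_reflectionPerm (i j : ι)
    (hi : ∀ y ∈ Submodule.span R (Set.range P.coroot), Q (P.coreflection i y) = Q y)
    (hj : ∀ y ∈ Submodule.span R (Set.range P.coroot), Q (P.coreflection j y) = Q y) :
    ∀ y ∈ Submodule.span R (Set.range P.coroot), Q (P.coreflection (P.reflectionPerm j i) y) = Q y := by
  intro y hy
  rw [corefl_reflectionPerm]
  change Q (P.coreflection j (P.coreflection i (P.coreflection j y))) = Q y
  rw [hj _ (corefl_mem P i _ (corefl_mem P j _ hy)), hi _ (corefl_mem P j _ hy), hj _ hy]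

variable [IsDomain R] [CharZero R]

theorem invariant_iff (i : ι) :
    (∀ y ∈ Submodule.span R (Set.range P.coroot), Q (P.coreflection i y) = Q y) ↔
      ∀ y ∈ Submodule.span R (Set.range P.coroot), L P Q i y = 0 := by
  constructor
  · intro h
    have key : ∀ y ∈ Submodule.span R (Set.range P.coroot), P.root' i y ≠ 0 → L P Q i y = 0 := by
      intro y hy hne
      have h1 := h y hy
      rw [Q_corefl] at h1
      have h2 : P.root' i y * L P Q i y = 0 := by
        have := sub_eq_self.1 h1
        exact this
      exact (mul_eq_zero.1 h2).resolve_left hne
    intro y hy
    by_cases hne : P.root' i y = 0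
    · have hci : P.coroot i ∈ Submodule.span R (Set.range P.coroot) :=
        Submodule.subset_span (mem_range_self i)
      have h2 : P.root' i (y + P.coroot i) ≠ 0 := by
        rw [map_add, hne, zero_add, RootPairing.root'_coroot_eq_pairing, RootPairing.pairing_same]
        exact two_ne_zero
      have h3 := key _ (add_mem hy hci) h2
      rw [L_add, L_coroot_self, add_zero] at h3
      exact h3
    · exact key y hy hne
  · intro h y hy
    rw [Q_corefl, h y hy, mul_zero, sub_zero]

end


/-- Let P be a finite reduced crystallographic root pairing over an integral domain of characteristic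
zero, b a base of P (a system of simple roots) and Q a quadratic form on the coweight module with
polar form B. Then Q is invariant under all root reflections (equivalently under the Weyl group) on
the span of the coroots if and only if for all pairs of distinct simple roots α_i ≠ α_j one has
B(α_i^∨, α_j^∨) = ⟨α_j, α_i^∨⟩ Q(α_j^∨). (In the source the form is integer-valued on the lattice
spanned by the coroots and the condition says that the bilinear form lies in the kernel of the last
map of a three-term complex built from the Bruhat cells of codimension at most two; here the form
takes values in the base ring.) -/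
theorem result {ι : Type u} {R : Type v} {M : Type w} {N : Type x} [CommRing R] [IsDomain R] [CharZero R]
    [AddCommGroup M] [Module R M] [AddCommGroup N] [Module R N] (P : RootPairing ι R M N)
    [Finite ι] [P.IsCrystallographic] [P.IsReduced] (b : P.Base) (Q : QuadraticMap R N R) :
    (∀ i : ι, ∀ y ∈ Submodule.span R (Set.range P.coroot), Q (P.coreflection i y) = Q y) ↔
      ∀ i ∈ b.support, ∀ j ∈ b.support, i ≠ j →
        QuadraticMap.polar Q (P.coroot i) (P.coroot j) = P.pairing j i * Q (P.coroot j) := by
  constructor
  · intro h i _ j _ _
    have h1 := (invariant_iff P Q j).1 (h j) (P.coroot i) (Submodule.subset_span (mem_range_self i))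
    rw [L, RootPairing.root'_coroot_eq_pairing, sub_eq_zero] at h1
    exact h1
  · intro h i
    have hsimple : ∀ j ∈ b.support, ∀ y ∈ Submodule.span R (Set.range P.coroot),
        Q (P.coreflection j y) = Q y := by
      intro j hj
      rw [invariant_iff]
      have claim : ∀ y ∈ Submodule.span R (P.coroot '' b.support), L P Q j y = 0 := by
        intro y hy
        induction hy using Submodule.span_induction with
        | mem z hz =>
          obtain ⟨i, hi, rfl⟩ := hz
          by_cases hij : i = j
          · subst hij; exact L_coroot_self P Q i
          · rw [L, RootPairing.root'_coroot_eq_pairing, sub_eq_zero]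
            exact h i hi j hj hij
        | zero => simp [L]
        | add a c _ _ ha hc => rw [L_add, ha, hc, add_zero]
        | smul c a _ ha => rw [L_smul, ha, mul_zero]
      intro y hy
      apply claim
      rw [b.span_coroot_support]
      exact hy
    refine b.induction_reflect i (p := fun i => ∀ y ∈ Submodule.span R (Set.range P.coroot),
      Q (P.coreflection i y) = Q y) ?_ hsimple ?_
    · intro i hi
      exact invariant_reflectionPerm P Q i i hi hi
    · intro i j hi hj
      exact invariant_reflectionPerm P Q i j hi (hsimple j hj)

end Groth.Agent.S19007
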