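import Groth.Statements.S19009
import Mathlib
import Groth.Agent.S19006

set_option autoImplicit false
universe u v w x
open RootD

namespace Groth.Agent.S19009

/-- Let P be a root pairing over an integral domain R of characteristic zero (roots α acting on the
coweight module N through reflections y ↦ y − ⟨α, y⟩ α^∨), D ⊆ N a submodule containing every coroot
and such that every element of D has a positive integer multiple in the span of the coroots (the
derived part), and Y₀ a complement of D in N. Let Q_d be a quadratic form on N whose restriction to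
D is invariant under all root reflections. Then there is a quadratic form on N, invariant under all
root reflections and agreeing with Q_d on D, if and only if there is an R-bilinear form Φ on N with
Φ(y₀, α^∨) = ⟨α, y₀⟩ Q_d(α^∨) for all y₀ in Y₀ and all roots α. (In the source R = ℤ, N = Y₀ ⊕ Y_der
is the cocharacter lattice of a split reductive group, and the condition is phrased as integrality
on Y₀ × Y_der of the pairing y₀, y ↦ B(q(y₀), y) deduced from the polar form B of Q_d; that pairing
is characterised by the displayed values on coroots, only the values of Φ on Y₀ × D matter, and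
forms take values in R here.) -/
theorem result {ι : Type u} {R : Type v} {M : Type w} {N : Type x} [CommRing R] [IsDomain R] [CharZero R]
    [AddCommGroup M] [Module R M] [AddCommGroup N] [Module R N] (P : RootPairing ι R M N)
    (D Y₀ : Submodule R N) (hD : ∀ i : ι, P.coroot i ∈ D)
    (hDsat : ∀ y ∈ D, ∃ n : ℕ, 0 < n ∧ n • y ∈ Submodule.span R (Set.range P.coroot))
    (hc : IsCompl Y₀ D)
    (Qd : QuadraticMap R N R) (hQd : ∀ i : ι, ∀ y ∈ D, Qd (P.coreflection i y) = Qd y) :
    (∃ Q : QuadraticMap R N R, (∀ (i : ι) (y : N), Q (P.coreflection i y) = Q y) ∧ ∀ y ∈ D, Q y = Qd y) ↔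
      ∃ Φ : N →ₗ[R] N →ₗ[R] R, ∀ y₀ ∈ Y₀, ∀ i : ι,
        Φ y₀ (P.coroot i) = P.root' i y₀ * Qd (P.coroot i) := by
  have h2 : ∀ i, P.root' i (P.coroot i) = 2 := fun i => by
    rw [RootPairing.root'_coroot_eq_pairing, RootPairing.pairing_same]
  constructor
  · rintro ⟨Q, hQinv, hQD⟩
    refine ⟨Q.polarBilin, ?_⟩
    intro y₀ _ i
    rw [QuadraticMap.polarBilin_apply_apply]
    have := (Groth.Agent.S19006.result P Q i).1 (hQinv i) y₀
    rw [this, hQD _ (hD i)]
  · rintro ⟨Φ, hΦ⟩
    -- projections
    let pD : N →ₗ[R] N := D.projection Y₀ hc.symm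
    let p0 : N →ₗ[R] N := Y₀.projection D hc
    have hsum : ∀ y, p0 y + pD y = y := fun y => Submodule.projection_add_projection_eq_self hc y
    have hpD_mem : ∀ y, pD y ∈ D := fun y => Submodule.projection_apply_mem hc.symm y
    have hp0_mem : ∀ y, p0 y ∈ Y₀ := fun y => Submodule.projection_apply_mem hc y
    have hpD_D : ∀ y ∈ D, pD y = y := fun y hy => (Submodule.projection_eq_self_iff hc.symm y).2 hy
    have hp0_D : ∀ y ∈ D, p0 y = 0 := fun y hy => by
      have := hsum y
      rw [hpD_D y hy] at this
      simpa using this
    let Q : QuadraticMap R N R := Qd.comp pD + LinearMap.BilinMap.toQuadraticMap (Φ.compl₁₂ p0 pD)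
    have hQ : ∀ y, Q y = Qd (pD y) + Φ (p0 y) (pD y) := fun y => by
      simp [Q, QuadraticMap.comp_apply,
        LinearMap.BilinMap.toQuadraticMap_apply, LinearMap.compl₁₂_apply]
    -- polar identity on D
    have hpol : ∀ i, ∀ y ∈ D, QuadraticMap.polar Qd y (P.coroot i) = P.root' i y * Qd (P.coroot i) := by
      intro i
      refine Groth.Agent.S19006.polar_of_invariant Qd (P.root' i) (P.coroot i) (h2 i) D (hD i) ?_
      intro y hy
      have := hQd i y hy
      rwa [RootPairing.coreflection_apply] at this
    refine ⟨Q, ?_, ?_⟩
    · intro i y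
      rw [RootPairing.coreflection_apply, hQ, hQ]
      have e1 : pD (y - (P.root' i) y • P.coroot i) = pD y - (P.root' i) y • P.coroot i := by
        rw [map_sub, map_smul, hpD_D _ (hD i)]
      have e2 : p0 (y - (P.root' i) y • P.coroot i) = p0 y := by
        rw [map_sub, map_smul, hp0_D _ (hD i), smul_zero, sub_zero]
      rw [e1, e2, Groth.Agent.S19006.quad_sub_smul, hpol i _ (hpD_mem y), map_sub, map_smul,
        hΦ _ (hp0_mem y) i]
      have e3 : P.root' i y = P.root' i (p0 y) + P.root' i (pD y) := by
        rw [← map_add, hsum]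
      rw [e3]
      simp only [smul_eq_mul]
      ring
    · intro y hy
      rw [hQ, hpD_D y hy, hp0_D y hy]
      simp

end Groth.Agent.S19009
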