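import Groth.Statements.S19010
import Mathlib
import Groth.Agent.Lib.Helper95.RootQuad
-- import your own Groth.Agent.* helpers here

set_option autoImplicit false
universe u v w x
open RootD

namespace Groth.Agent.S19010

/-- Let P be a root pairing over an integral domain R of characteristic zero (roots α acting on the
coweight module N through reflections y ↦ y − ⟨α, y⟩ α^∨), D ⊆ N a submodule containing every coroot
and such that every element of D has a positive integer multiple in the span of the coroots (the
derived part), and Y₀ a complement of D in N. Let Q' be a quadratic form on N invariant under all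
root reflections. Then restriction to Y₀ is a bijection from the set of quadratic forms on N that
are invariant under all root reflections and agree with Q' on D onto the set of all quadratic forms
on Y₀. (In the source R = ℤ and N = Y₀ ⊕ Y_der is the cocharacter lattice of a split reductive
group; forms take values in R here.) -/
theorem result {ι : Type u} {R : Type v} {M : Type w} {N : Type x} [CommRing R] [IsDomain R] [CharZero R]
    [AddCommGroup M] [Module R M] [AddCommGroup N] [Module R N] (P : RootPairing ι R M N)
    (D Y₀ : Submodule R N) (hD : ∀ i : ι, P.coroot i ∈ D)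
    (hDsat : ∀ y ∈ D, ∃ n : ℕ, 0 < n ∧ n • y ∈ Submodule.span R (Set.range P.coroot))
    (hc : IsCompl Y₀ D)
    (Q' : QuadraticMap R N R) (hQ' : ∀ (i : ι) (y : N), Q' (P.coreflection i y) = Q' y) :
    Set.BijOn (fun Q : QuadraticMap R N R => Q.comp Y₀.subtype)
      {Q | (∀ (i : ι) (y : N), Q (P.coreflection i y) = Q y) ∧ ∀ y ∈ D, Q y = Q' y} Set.univ := by
  classical
  refine ⟨fun _ _ => Set.mem_univ _, ?_, ?_⟩
  · -- injectivity
    rintro Q₁ ⟨h₁, h₁D⟩ Q₂ ⟨h₂, h₂D⟩ hres
    have hres' : ∀ y : Y₀, Q₁ (y : N) = Q₂ (y : N) := by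
      intro y
      have := congrArg (fun q : QuadraticMap R Y₀ R => q y) hres
      simpa using this
    have hcor : ∀ i, Q₁ (P.coroot i) = Q₂ (P.coroot i) := fun i => by
      rw [h₁D _ (hD i), h₂D _ (hD i)]
    have hpolD : ∀ (x : N) (d : N), d ∈ D →
        QuadraticMap.polar Q₁ x d = QuadraticMap.polar Q₂ x d := by
      intro x d hd
      obtain ⟨n, hn, hnd⟩ := hDsat d hd
      have h := Groth.Agent.Lib.Helper95.polar_eq_of_invariant_of_mem_span P Q₁ Q₂ h₁ h₂ hcor x hnd
      have hn' : ((n : ℕ) : R) ≠ 0 := Nat.cast_ne_zero.mpr hn.ne'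
      rw [← Nat.cast_smul_eq_nsmul R n d, QuadraticMap.polar_smul_right,
        QuadraticMap.polar_smul_right, smul_eq_mul, smul_eq_mul] at h
      exact mul_left_cancel₀ hn' h
    ext x
    obtain ⟨y, d, rfl⟩ : ∃ (y : Y₀) (d : D), (y : N) + (d : N) = x := by
      have hx : x ∈ Y₀ ⊔ D := by rw [hc.sup_eq_top]; trivial
      obtain ⟨y, hy, d, hd, rfl⟩ := Submodule.mem_sup.mp hx
      exact ⟨⟨y, hy⟩, ⟨d, hd⟩, rfl⟩
    have e₁ : Q₁ ((y : N) + d) = Q₁ y + Q₁ d + QuadraticMap.polar Q₁ (y : N) d := by
      simp only [QuadraticMap.polar]; ring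
    have e₂ : Q₂ ((y : N) + d) = Q₂ y + Q₂ d + QuadraticMap.polar Q₂ (y : N) d := by
      simp only [QuadraticMap.polar]; ring
    rw [e₁, e₂, hres' y, h₁D _ d.2, h₂D _ d.2, hpolD _ _ d.2]
  · -- surjectivity
    intro q _
    let π : N →ₗ[R] Y₀ := Submodule.projectionOnto Y₀ D hc
    refine ⟨Q' + (q - Q'.comp Y₀.subtype).comp π, ⟨?_, ?_⟩, ?_⟩
    · intro i y
      have hπ : π (P.coreflection i y) = π y := by
        rw [P.coreflection_apply, map_sub, map_smul]
        have : π (P.coroot i) = 0 :=
          Submodule.projectionOnto_apply_of_mem_right hc (hD i)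
        rw [this, smul_zero, sub_zero]
      simp only [add_apply, QuadraticMap.comp_apply, hπ, hQ']
    · intro y hy
      have : π y = 0 := Submodule.projectionOnto_apply_of_mem_right hc hy
      simp [this]
    · ext y
      have : π (y : N) = y := Submodule.projectionOnto_apply_left hc y
      simp [this]

end Groth.Agent.S19010
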