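import Groth.Statements.S19012
import Mathlib
-- import your own Groth.Agent.* helpers here

set_option autoImplicit false
universe u v w x
open RootD

namespace Groth.Agent.S19012

/-- Let P be a finite reduced crystallographic root pairing over a field of characteristic zero which is
irreducible, and b a base. A quadratic form on the coweight module that is invariant under all root
reflections and vanishes on some simple coroot is zero; in other words an invariant form is
determined by its value on a single simple coroot. (The source proves, component by component of the
Dynkin diagram, that an invariant integer-valued form on the coroot lattice with prescribed value on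
the first simple coroot of each component is unique; here the system is irreducible, the coroots
span the coweight module, and forms take values in the base field.) -/
theorem result {ι : Type u} {K : Type v} {M : Type w} {N : Type x} [Field K] [CharZero K]
    [AddCommGroup M] [Module K M] [AddCommGroup N] [Module K N] (P : RootPairing ι K M N)
    [Finite ι] [P.IsCrystallographic] [P.IsReduced] [P.IsIrreducible] (b : P.Base)
    (Q : QuadraticMap K N K) (hQ : ∀ (i : ι) (y : N), Q (P.coreflection i y) = Q y)
    (i₀ : ι) (hi₀ : i₀ ∈ b.support) (h0 : Q (P.coroot i₀) = 0) : Q = 0 := by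
  classical
  have h2 : (2 : K) ≠ 0 := two_ne_zero
  -- polar form is invariant
  have hpol : ∀ (i : ι) (x y : N),
      QuadraticMap.polar Q (P.coreflection i x) (P.coreflection i y) = QuadraticMap.polar Q x y := by
    intro i x y
    simp only [QuadraticMap.polar, ← map_add, hQ]
  -- key identity
  have key : ∀ (i : ι) (x : N),
      QuadraticMap.polar Q x (P.coroot i) = (P.root' i x) * Q (P.coroot i) := by
    intro i x
    have h1 := hpol i x (P.coroot i)
    rw [P.coreflection_apply_self, P.coreflection_apply, QuadraticMap.polar_neg_right,
      QuadraticMap.polar_sub_left, QuadraticMap.polar_smul_left, QuadraticMap.polar_self] at h1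
    have h3 : (2 : K) * QuadraticMap.polar Q x (P.coroot i)
        = 2 * ((P.root' i x) * Q (P.coroot i)) := by
      simp only [smul_eq_mul, nsmul_eq_mul, Nat.cast_ofNat] at h1
      linear_combination (-1 : K) * h1
    exact mul_left_cancel₀ h2 h3
  -- the invariant submodule
  set S : Set N := {y | ∃ j, y = P.coroot j ∧ Q (P.coroot j) = 0} with hS
  have hinv : ∀ i, Submodule.span K S ∈ Module.End.invtSubmodule (P.coreflection i).toLinearMap := by
    intro i
    rw [Module.End.mem_invtSubmodule]
    rw [Submodule.span_le]
    rintro y ⟨j, rfl, hj⟩
    refine Submodule.subset_span ⟨P.reflectionPerm i j, ?_, ?_⟩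
    · simp
    · rw [P.coroot_reflectionPerm, hQ, hj]
  have hne : Submodule.span K S ≠ ⊥ := by
    intro hbot
    have hmem : P.coroot i₀ ∈ Submodule.span K S := Submodule.subset_span ⟨i₀, rfl, h0⟩
    rw [hbot, Submodule.mem_bot] at hmem
    haveI : NeZero (2 : K) := ⟨h2⟩
    exact P.ne_zero' i₀ hmem
  have htop : Submodule.span K S = ⊤ :=
    RootPairing.IsIrreducible.eq_top_of_invtSubmodule_coreflection (P := P) _ hinv hne
  have hzero : ∀ x y : N, QuadraticMap.polar Q x y = 0 := by
    intro x y
    have hy : y ∈ Submodule.span K S := by rw [htop]; trivial
    induction hy using Submodule.span_induction with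
    | mem z hz =>
      obtain ⟨j, rfl, hj⟩ := hz
      rw [key, hj, mul_zero]
    | zero => simp
    | add a b _ _ ha hb => rw [QuadraticMap.polar_add_right, ha, hb, add_zero]
    | smul c a _ ha => rw [QuadraticMap.polar_smul_right, ha, smul_zero]
  ext x
  have hx := hzero x x
  rw [QuadraticMap.polar_self] at hx
  simp only [nsmul_eq_mul, Nat.cast_ofNat] at hx
  simpa using (mul_eq_zero.mp hx).resolve_left h2

end Groth.Agent.S19012
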