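import Groth.Statements.S19013
import Mathlib
import Groth.Agent.Lib.Helper95.MilKGen
-- import your own Groth.Agent.* helpers here

set_option autoImplicit false
universe u v
open MilnorK

namespace Groth.Agent.S19013

section Helpers
open MilK Groth.Agent.Lib.Helper39 Groth.Agent.Lib.Helper95

theorem cons_comp_units' {α β : Type*} (f : α → β) {m : ℕ} (a : α) (b : Fin m → α) :
    (Fin.cons (f a) (fun i => f (b i)) : Fin (m + 1) → β) =
      fun i => f ((Fin.cons a b : Fin (m + 1) → α) i) := by
  funext i
  refine Fin.cases ?_ (fun j => ?_) i <;> simp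

theorem symbol_cons_pow {F : Type v} [Field F] {m : ℕ} (a : Fˣ) (e : ℕ) (b : Fin m → Fˣ) :
    MilK.symbol (Fin.cons (a ^ e) b : Fin (m + 1) → Fˣ) =
      e • MilK.symbol (Fin.cons a b : Fin (m + 1) → Fˣ) := by
  have h := milK_symbol_update_zpow (Fin.cons 1 b : Fin (m + 1) → Fˣ) 0 a (e : ℤ)
  rw [Fin.update_cons_zero, Fin.update_cons_zero, zpow_natCast, natCast_zsmul] at h
  exact h

end Helpers


/-- Let A ⊆ B be discrete valuation rings, the inclusion being a local homomorphism, with fraction
fields E ⊆ F compatibly, with the induced homomorphism of residue fields κ(A) → κ(B), and with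
ramification index e, the natural number such that the maximal ideal of A generates the e-th power
of the maximal ideal of B. Let ∂_A : K_{n+1}(E) → K_n(κ(A)) and ∂_B : K_{n+1}(F) → K_n(κ(B)) be the
residue maps (tame symbols) on Milnor K-groups. Then for every x in K_{n+1}(E) one has ∂_B(x_F) = e
· (∂_A x)_{κ(B)}, where the subscripts denote the change-of-fields maps along E → F and κ(A) → κ(B).
(The published statement concerns discrete valuations of geometric type on fields finitely generated
over a base field; it is stated here for an arbitrary pair of discrete valuation rings, which is all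
the printed computation uses.) -/
theorem result
    (A B : Type u) [CommRing A] [IsDomain A] [IsDiscreteValuationRing A]
    [CommRing B] [IsDomain B] [IsDiscreteValuationRing B] [Algebra A B] [IsLocalHom (algebraMap A B)]
    (E F : Type v) [Field E] [Field F] [Algebra A E] [IsFractionRing A E] [Algebra B F] [IsFractionRing B F]
    [Algebra E F] [Algebra A F] [IsScalarTower A E F] [IsScalarTower A B F]
    (e : ℕ) (he : Ideal.map (algebraMap A B) (IsLocalRing.maximalIdeal A) = IsLocalRing.maximalIdeal B ^ e)
    (n : ℕ) (dA : MilK.K E (n + 1) →+ MilK.K (IsLocalRing.ResidueField A) n) (hdA : MilK.IsTameSymbol A E n dA)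
    (dB : MilK.K F (n + 1) →+ MilK.K (IsLocalRing.ResidueField B) n) (hdB : MilK.IsTameSymbol B F n dB)
    (x : MilK.K E (n + 1)) :
    dB (MilK.map (algebraMap E F) (n + 1) x) =
      e • MilK.map (IsLocalRing.ResidueField.map (algebraMap A B)) n (dA x) := by
  classical
  obtain ⟨ϖA, hϖA⟩ := IsDiscreteValuationRing.exists_irreducible A
  obtain ⟨ϖB, hϖB⟩ := IsDiscreteValuationRing.exists_irreducible B
  -- the image of the uniformizer of A
  have hassoc : Associated (algebraMap A B ϖA) (ϖB ^ e) := by
    rw [← Ideal.span_singleton_eq_span_singleton]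
    have h1 : Ideal.map (algebraMap A B) (IsLocalRing.maximalIdeal A) =
        Ideal.span {algebraMap A B ϖA} := by
      rw [hϖA.maximalIdeal_eq, Ideal.map_span, Set.image_singleton]
    have h2 : IsLocalRing.maximalIdeal B ^ e = Ideal.span {ϖB ^ e} := by
      rw [hϖB.maximalIdeal_eq, Ideal.span_singleton_pow]
    rw [← h1, ← h2, he]
  obtain ⟨w, hw⟩ := hassoc.symm
  -- hw : ϖB ^ e * ↑w = algebraMap A B ϖA
  have hpi : Units.map (algebraMap E F : E →* F) (MilK.unitFrac A E ϖA hϖA.ne_zero) =
      MilK.unitFrac B F ϖB hϖB.ne_zero ^ e * MilK.unitToFrac B F w := by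
    apply Units.ext
    simp only [Units.coe_map, MonoidHom.coe_coe, MilK.coe_unitFrac, Units.val_mul, Units.val_pow_eq_pow_val,
      MilK.unitToFrac]
    rw [← IsScalarTower.algebraMap_apply A E F, IsScalarTower.algebraMap_apply A B F, ← hw,
      map_mul, map_pow]
  have hunit : ∀ v : Aˣ, Units.map (algebraMap E F : E →* F) (MilK.unitToFrac A E v) =
      MilK.unitToFrac B F (Units.map (algebraMap A B : A →* B) v) := by
    intro v
    apply Units.ext
    simp only [Units.coe_map, MonoidHom.coe_coe, MilK.unitToFrac]
    rw [← IsScalarTower.algebraMap_apply A E F, IsScalarTower.algebraMap_apply A B F]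
  have hres : ∀ v : Aˣ, Units.map
      ((IsLocalRing.ResidueField.map (algebraMap A B)) :
        IsLocalRing.ResidueField A →* IsLocalRing.ResidueField B) (MilK.unitResidue A v) =
      MilK.unitResidue B (Units.map (algebraMap A B : A →* B) v) := by
    intro v
    apply Units.ext
    simp only [Units.coe_map, MonoidHom.coe_coe, MilK.unitResidue]
    exact IsLocalRing.ResidueField.map_residue (algebraMap A B) (v : A)
  let f : MilK.K E (n + 1) →+ MilK.K (IsLocalRing.ResidueField B) n :=
    dB.comp (MilK.map (algebraMap E F) (n + 1))
  let g : MilK.K E (n + 1) →+ MilK.K (IsLocalRing.ResidueField B) n :=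
    e • ((MilK.map (IsLocalRing.ResidueField.map (algebraMap A B)) n).comp dA)
  have hfg : f = g := by
    apply Groth.Agent.Lib.Helper95.milK_tame_hom_ext A E ϖA hϖA n
    · intro v
      show dB (MilK.map (algebraMap E F) (n + 1) (MilK.symbol _)) =
        e • MilK.map (IsLocalRing.ResidueField.map (algebraMap A B)) n (dA (MilK.symbol _))
      rw [hdA ϖA hϖA v, MilK.map_symbol, MilK.map_symbol]
      have e1 : (fun i => Units.map (algebraMap E F : E →* F)
          ((Fin.cons (MilK.unitFrac A E ϖA hϖA.ne_zero) fun i => MilK.unitToFrac A E (v i) :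
            Fin (n + 1) → Eˣ) i)) =
          (Fin.cons (MilK.unitFrac B F ϖB hϖB.ne_zero ^ e * MilK.unitToFrac B F w)
            (fun i => MilK.unitToFrac B F (Units.map (algebraMap A B : A →* B) (v i))) :
            Fin (n + 1) → Fˣ) := by
        funext i
        refine Fin.cases ?_ (fun j => ?_) i
        · simp only [Fin.cons_zero]
          exact hpi
        · simp only [Fin.cons_succ]
          exact hunit (v j)
      rw [e1, Groth.Agent.Lib.Helper95.milK_symbol_cons_mul, symbol_cons_pow, map_add, map_nsmul,
        hdB ϖB hϖB,
        cons_comp_units' (fun x => MilK.unitToFrac B F x) w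
          (fun i => Units.map (algebraMap A B : A →* B) (v i)),
        Groth.Agent.Lib.Helper95.milK_tame_unit_symbol_eq_zero B F n dB hdB, add_zero]
      have e2 : (fun i => MilK.unitResidue B (Units.map (algebraMap A B : A →* B) (v i))) =
          fun i => Units.map ((IsLocalRing.ResidueField.map (algebraMap A B)) :
            IsLocalRing.ResidueField A →* IsLocalRing.ResidueField B) (MilK.unitResidue A (v i)) :=
        funext fun i => (hres (v i)).symm
      rw [e2]
    · intro v
      show dB (MilK.map (algebraMap E F) (n + 1) (MilK.symbol _)) =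
        e • MilK.map (IsLocalRing.ResidueField.map (algebraMap A B)) n (dA (MilK.symbol _))
      rw [Groth.Agent.Lib.Helper95.milK_tame_unit_symbol_eq_zero A E n dA hdA v, map_zero, smul_zero,
        MilK.map_symbol]
      have e1 : (fun i => Units.map (algebraMap E F : E →* F) (MilK.unitToFrac A E (v i))) =
          fun i => MilK.unitToFrac B F (Units.map (algebraMap A B : A →* B) (v i)) := by
        funext i
        exact hunit (v i)
      rw [e1]
      exact Groth.Agent.Lib.Helper95.milK_tame_unit_symbol_eq_zero B F n dB hdB _
  exact DFunLike.congr_fun hfg x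

end Groth.Agent.S19013
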