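import Groth.Statements.S19014
import Mathlib
import Groth.Agent.Lib.Helper95.MilK
-- import your own Groth.Agent.* helpers here

set_option autoImplicit false
universe u v
open MilnorK

namespace Groth.Agent.S19014

/-- Let B be a discrete valuation ring with fraction field F and residue field κ, and let E be a field
equipped with a ring homomorphism into B, hence into F, so that the valuation of F is trivial on E.
If ∂ : K_{n+1}(F) → K_n(κ) is the residue map (tame symbol) on Milnor K-groups, then ∂(x_F) = 0 for
every x in K_{n+1}(E). (The published statement concerns discrete valuations of geometric type on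
fields finitely generated over a base field; it is stated here for an arbitrary discrete valuation
ring, which is all the printed computation uses.) -/
theorem result
    (B : Type u) [CommRing B] [IsDomain B] [IsDiscreteValuationRing B]
    (E F : Type v) [Field E] [Field F] [Algebra B F] [IsFractionRing B F]
    [Algebra E B] [Algebra E F] [IsScalarTower E B F]
    (n : ℕ) (d : MilK.K F (n + 1) →+ MilK.K (IsLocalRing.ResidueField B) n) (hd : MilK.IsTameSymbol B F n d)
    (x : MilK.K E (n + 1)) :
    d (MilK.map (algebraMap E F) (n + 1) x) = 0 := by
  -- the residue of a symbol of units vanishes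
  have key : ∀ u : Fin (n + 1) → Bˣ, d (MilK.symbol fun i => MilK.unitToFrac B F (u i)) = 0 := by
    intro u
    obtain ⟨ϖ, hϖ⟩ := IsDiscreteValuationRing.exists_irreducible B
    have hϖ' : Irreducible (ϖ * (u 0 : B)) := (irreducible_mul_units (u 0)).mpr hϖ
    have h1 := hd ϖ hϖ (fun i => u i.succ)
    have h2 := hd (ϖ * (u 0 : B)) hϖ' (fun i => u i.succ)
    have e1 : MilK.unitFrac B F (ϖ * (u 0 : B)) hϖ'.ne_zero =
        MilK.unitFrac B F ϖ hϖ.ne_zero * MilK.unitToFrac B F (u 0) := by
      ext
      simp [MilK.unitToFrac]
    rw [e1, Groth.Agent.Lib.Helper95.milK_symbol_cons_mul, map_add, h1] at h2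
    have e2 : (fun i => MilK.unitToFrac B F (u i)) =
        (Fin.cons (MilK.unitToFrac B F (u 0)) (fun i => MilK.unitToFrac B F (u i.succ)) :
          Fin (n + 1) → Fˣ) := by
      funext i
      refine Fin.cases ?_ (fun j => ?_) i <;> simp
    rw [e2]
    exact add_left_cancel (a := MilK.symbol fun i => MilK.unitResidue B (u i.succ)) (by rw [h2, add_zero])
  have hhom : d.comp (MilK.map (algebraMap E F) (n + 1)) = 0 := by
    apply Groth.Agent.Lib.Helper95.milK_hom_ext
    intro x
    rw [AddMonoidHom.comp_apply, MilK.map_symbol, AddMonoidHom.zero_apply]
    have := key (fun i => Units.map (algebraMap E B : E →* B) (x i))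
    convert this using 3
    ext
    simp [MilK.unitToFrac, IsScalarTower.algebraMap_apply E B F]
  exact DFunLike.congr_fun hhom x

end Groth.Agent.S19014
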