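import Groth.Statements.S19016
import Mathlib
import Groth.Agent.Lib.Helper95.MilKGen
-- import your own Groth.Agent.* helpers here

set_option autoImplicit false
universe u v
open MilnorK

namespace Groth.Agent.S19016

section Helpers
open MilK Groth.Agent.Lib.Helper39 Groth.Agent.Lib.Helper95

theorem cast_mul_symbol_one {F : Type v} [Field F] {m : ℕ} (a : Fˣ) (b : Fin m → Fˣ) :
    MilK.cast F (Nat.add_comm 1 m) (MilK.mul F 1 m (MilK.symbol ![a]) (MilK.symbol b)) =
      MilK.symbol (Fin.cons a b : Fin (m + 1) → Fˣ) := by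
  rw [MilK.mul_symbol_symbol, MilK.cast_symbol, Fin.append_left_eq_cons]
  congr 1

theorem cons_comp_units {α β : Type*} (f : α → β) {m : ℕ} (a : α) (b : Fin m → α) :
    (Fin.cons (f a) (fun i => f (b i)) : Fin (m + 1) → β) =
      fun i => f ((Fin.cons a b : Fin (m + 1) → α) i) := by
  funext i
  refine Fin.cases ?_ (fun j => ?_) i <;> simp

theorem cons_cons_swap {α : Type*} {m : ℕ} (a b : α) (c : Fin m → α) :
    (Fin.cons a (Fin.cons b c) : Fin (m + 1 + 1) → α) ∘ Equiv.swap 0 1 =
      (Fin.cons b (Fin.cons a c) : Fin (m + 1 + 1) → α) := by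
  funext i
  refine Fin.cases ?_ (fun j => ?_) i
  · simp
  · refine Fin.cases ?_ (fun l => ?_) j
    · simp
    · have h0 : (Fin.succ (Fin.succ l) : Fin (m + 1 + 1)) ≠ 0 := Fin.succ_ne_zero _
      have h1 : (Fin.succ (Fin.succ l) : Fin (m + 1 + 1)) ≠ 1 := by
        intro h
        have := congrArg Fin.val h
        simp at this
      simp [Equiv.swap_apply_of_ne_of_ne h0 h1]

end Helpers


/-- Let B be a discrete valuation ring with fraction field F and residue field κ, let u be a unit of B
with residue class ū, and let ∂ denote the residue maps (tame symbols) K_{n+1}(F) → K_n(κ) and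
K_{n+2}(F) → K_{n+1}(κ) on Milnor K-groups. Then ∂({u} · ρ) = −{ū} · ∂(ρ) for every ρ in K_{n+1}(F),
the products {u} · ρ in K_{1+(n+1)}(F) and {ū} · ∂ρ in K_{1+n}(κ) being regarded in K_{n+2}(F) and
K_{n+1}(κ). (The published statement concerns discrete valuations of geometric type on fields
finitely generated over a base field; it is stated here for an arbitrary discrete valuation ring,
which is all the printed computation uses.) -/
theorem result
    (B : Type u) [CommRing B] [IsDomain B] [IsDiscreteValuationRing B]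
    (F : Type v) [Field F] [Algebra B F] [IsFractionRing B F] (n : ℕ)
    (d : MilK.K F (n + 1) →+ MilK.K (IsLocalRing.ResidueField B) n) (hd : MilK.IsTameSymbol B F n d)
    (d' : MilK.K F (n + 1 + 1) →+ MilK.K (IsLocalRing.ResidueField B) (n + 1))
    (hd' : MilK.IsTameSymbol B F (n + 1) d')
    (u : Bˣ) (ρ : MilK.K F (n + 1)) :
    d' (MilK.cast F (Nat.add_comm 1 (n + 1)) (MilK.mul F 1 (n + 1) (MilK.symbol ![MilK.unitToFrac B F u]) ρ)) =
      -(MilK.cast (IsLocalRing.ResidueField B) (Nat.add_comm 1 n)
          (MilK.mul (IsLocalRing.ResidueField B) 1 n (MilK.symbol ![MilK.unitResidue B u]) (d ρ))) := by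
  classical
  obtain ⟨ϖ, hϖ⟩ := IsDiscreteValuationRing.exists_irreducible B
  let f : MilK.K F (n + 1) →+ MilK.K (IsLocalRing.ResidueField B) (n + 1) :=
    d'.comp ((MilK.cast F (Nat.add_comm 1 (n + 1))).toAddMonoidHom.comp
      (MilK.mul F 1 (n + 1) (MilK.symbol ![MilK.unitToFrac B F u])))
  let g : MilK.K F (n + 1) →+ MilK.K (IsLocalRing.ResidueField B) (n + 1) :=
    -((MilK.cast (IsLocalRing.ResidueField B) (Nat.add_comm 1 n)).toAddMonoidHom.comp
      ((MilK.mul (IsLocalRing.ResidueField B) 1 n (MilK.symbol ![MilK.unitResidue B u])).comp d))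
  have hfg : f = g := by
    apply Groth.Agent.Lib.Helper95.milK_tame_hom_ext B F ϖ hϖ n
    · intro v
      show d' (MilK.cast F (Nat.add_comm 1 (n + 1)) (MilK.mul F 1 (n + 1)
          (MilK.symbol ![MilK.unitToFrac B F u]) (MilK.symbol _))) =
        -(MilK.cast (IsLocalRing.ResidueField B) (Nat.add_comm 1 n)
          (MilK.mul (IsLocalRing.ResidueField B) 1 n (MilK.symbol ![MilK.unitResidue B u])
            (d (MilK.symbol _))))
      rw [cast_mul_symbol_one, hd ϖ hϖ v, cast_mul_symbol_one]
      have hsw := Groth.Agent.Lib.Helper39.symbol_comp_swap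
        (Fin.cons (MilK.unitToFrac B F u) (Fin.cons (MilK.unitFrac B F ϖ hϖ.ne_zero)
          fun i => MilK.unitToFrac B F (v i)) : Fin (n + 1 + 1) → Fˣ) 0 1 (by simp)
      rw [cons_cons_swap] at hsw
      have hsw' : MilK.symbol (Fin.cons (MilK.unitToFrac B F u)
          (Fin.cons (MilK.unitFrac B F ϖ hϖ.ne_zero)
          fun i => MilK.unitToFrac B F (v i)) : Fin (n + 1 + 1) → Fˣ) =
          - MilK.symbol (Fin.cons (MilK.unitFrac B F ϖ hϖ.ne_zero) (Fin.cons (MilK.unitToFrac B F u)
          fun i => MilK.unitToFrac B F (v i)) : Fin (n + 1 + 1) → Fˣ) := by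
        rw [hsw, neg_neg]
      rw [hsw', map_neg]
      congr 1
      rw [cons_comp_units (fun w => MilK.unitToFrac B F w) u v, hd' ϖ hϖ (Fin.cons u v),
        cons_comp_units (fun w => MilK.unitResidue B w) u v]
    · intro v
      show d' (MilK.cast F (Nat.add_comm 1 (n + 1)) (MilK.mul F 1 (n + 1)
          (MilK.symbol ![MilK.unitToFrac B F u]) (MilK.symbol _))) =
        -(MilK.cast (IsLocalRing.ResidueField B) (Nat.add_comm 1 n)
          (MilK.mul (IsLocalRing.ResidueField B) 1 n (MilK.symbol ![MilK.unitResidue B u])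
            (d (MilK.symbol _))))
      rw [cast_mul_symbol_one, Groth.Agent.Lib.Helper95.milK_tame_unit_symbol_eq_zero B F n d hd v,
        map_zero, map_zero, neg_zero,
        cons_comp_units (fun w => MilK.unitToFrac B F w) u v,
        Groth.Agent.Lib.Helper95.milK_tame_unit_symbol_eq_zero B F (n + 1) d' hd']
  exact DFunLike.congr_fun hfg ρ

end Groth.Agent.S19016
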