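import Groth.Statements.S19018
import Mathlib
-- import your own Groth.Agent.* helpers here

set_option autoImplicit false
universe u
open TensorProduct
open SymTen

namespace Groth.Agent.S19018

section Helpers
open Pointwise

theorem span_mul_span_eq {T : Type*} [CommRing T] (A B : Set T) :
    Ideal.span A * Ideal.span B = Ideal.span {x | ∃ a ∈ A, ∃ b ∈ B, a * b = x} := by
  rw [Ideal.span_mul_span']
  rfl

end Helpers


/-- Suppose k is a field in which 2 ≠ 0 and R is a commutative k-algebra. Write I for the ideal of the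
diagonal, i.e. the kernel of multiplication R ⊗_k R → R, and write S for the subalgebra of R ⊗_k R
consisting of elements invariant under interchanging the two tensor factors. Then, viewed as ideals
of S, the swap-invariant elements of I^4 form precisely the square of the ideal of swap-invariant
elements of I^2. (The source is stated over the complex numbers; the proof needs only that 2 is
invertible.) -/
theorem result
    (k R : Type u) [Field k] [NeZero (2 : k)] [CommRing R] [Algebra k R] :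
    Ideal.comap
        (AlgHom.equalizer ((Algebra.TensorProduct.comm k R R : R ⊗[k] R ≃ₐ[k] R ⊗[k] R) : R ⊗[k] R →ₐ[k] R ⊗[k] R)
          (AlgHom.id k (R ⊗[k] R))).val
        (KaehlerDifferential.ideal k R ^ 4) =
      (Ideal.comap
        (AlgHom.equalizer ((Algebra.TensorProduct.comm k R R : R ⊗[k] R ≃ₐ[k] R ⊗[k] R) : R ⊗[k] R →ₐ[k] R ⊗[k] R)
          (AlgHom.id k (R ⊗[k] R))).val
        (KaehlerDifferential.ideal k R ^ 2)) ^ 2 := by
  classical
  -- notation
  set σ : R ⊗[k] R →ₐ[k] R ⊗[k] R := ((Algebra.TensorProduct.comm k R R : R ⊗[k] R ≃ₐ[k] R ⊗[k] R) :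
      R ⊗[k] R →ₐ[k] R ⊗[k] R) with hσ
  set S := AlgHom.equalizer σ (AlgHom.id k (R ⊗[k] R)) with hS
  set I := KaehlerDifferential.ideal k R with hI
  set J := Ideal.comap S.val (I ^ 2) with hJ
  have hmemS : ∀ t : R ⊗[k] R, t ∈ S ↔ σ t = t := fun t => by
    rw [hS, AlgHom.mem_equalizer]; rfl
  have hσσ : ∀ t : R ⊗[k] R, σ (σ t) = t := by
    intro t
    simp only [hσ, AlgEquiv.coe_toAlgHom]
    induction t using TensorProduct.induction_on with
    | zero => simp
    | tmul a b => simp
    | add a b ha hb => simp only [map_add, ha, hb]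
  -- generators
  set D : Set (R ⊗[k] R) := Set.range (fun s : R => (1 : R) ⊗ₜ[k] s - s ⊗ₜ[k] (1 : R)) with hD
  have hspan : Ideal.span D = I := KaehlerDifferential.span_range_eq_ideal k R
  have hσD : ∀ d ∈ D, σ d = -d := by
    rintro _ ⟨s, rfl⟩
    simp only [hσ, AlgEquiv.coe_toAlgHom, map_sub, Algebra.TensorProduct.comm_tmul]
    abel
  have hDI : ∀ d ∈ D, d ∈ I := fun d hd => hspan ▸ Ideal.subset_span hd
  set E : Set (R ⊗[k] R) := {x | ∃ a ∈ D, ∃ b ∈ D, a * b = x} with hE
  have hI2 : I ^ 2 = Ideal.span E := by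
    rw [pow_two, ← hspan, span_mul_span_eq]
  have hI4 : I ^ 4 = Ideal.span {x | ∃ a ∈ E, ∃ b ∈ E, a * b = x} := by
    have : I ^ 4 = I ^ 2 * I ^ 2 := by ring
    rw [this, hI2, span_mul_span_eq]
  have hσE : ∀ e ∈ E, σ e = e := by
    rintro _ ⟨a, ha, b, hb, rfl⟩
    simp only [map_mul, hσD a ha, hσD b hb]
    ring
  have hEI : ∀ e ∈ E, e ∈ I ^ 2 := by
    rintro _ ⟨a, ha, b, hb, rfl⟩
    rw [pow_two]
    exact Ideal.mul_mem_mul (hDI a ha) (hDI b hb)
  apply le_antisymm
  · -- the hard inclusion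
    intro s hs
    have hs4 : (s : R ⊗[k] R) ∈ I ^ 4 := hs
    have key : ∀ x ∈ Ideal.span {x | ∃ a ∈ E, ∃ b ∈ E, a * b = x}, ∀ t : R ⊗[k] R,
        ∃ y ∈ J ^ 2, ((y : S) : R ⊗[k] R) = t * x + σ (t * x) := by
      intro x hx
      induction hx using Submodule.span_induction with
      | mem x hx =>
        obtain ⟨e, he, e', he', rfl⟩ := hx
        intro t
        have ht : t + σ t ∈ S := by
          rw [hmemS, map_add, hσσ, add_comm]
        refine ⟨⟨t + σ t, ht⟩ * (⟨e, (hmemS e).2 (hσE e he)⟩ * ⟨e', (hmemS e').2 (hσE e' he')⟩),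
          ?_, ?_⟩
        · apply Ideal.mul_mem_left
          rw [pow_two]
          exact Ideal.mul_mem_mul (hEI e he) (hEI e' he')
        · simp only [map_mul, hσE e he, hσE e' he', MulMemClass.coe_mul]
          ring
      | zero =>
        intro t
        exact ⟨0, Ideal.zero_mem _, by simp⟩
      | add a b _ _ ha hb =>
        intro t
        obtain ⟨y₁, hy₁, e₁⟩ := ha t
        obtain ⟨y₂, hy₂, e₂⟩ := hb t
        refine ⟨y₁ + y₂, Ideal.add_mem _ hy₁ hy₂, ?_⟩
        simp only [AddMemClass.coe_add, e₁, e₂, mul_add, map_add]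
        abel
      | smul c a _ ha =>
        intro t
        obtain ⟨y, hy, e⟩ := ha (t * c)
        refine ⟨y, hy, ?_⟩
        rw [e, smul_eq_mul, mul_assoc]
    obtain ⟨y, hy, e⟩ := key (s : R ⊗[k] R) (hI4 ▸ hs4) 1
    have hsσ : σ (s : R ⊗[k] R) = s := (hmemS _).1 s.2
    rw [one_mul, hsσ] at e
    have h2 : (2 : k) ≠ 0 := NeZero.ne _
    have : s = ((2 : k)⁻¹) • y := by
      apply Subtype.ext
      rw [Subalgebra.coe_smul, e, ← two_smul k (s : R ⊗[k] R), smul_smul, inv_mul_cancel₀ h2, one_smul]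
    rw [this, Algebra.smul_def]
    exact Ideal.mul_mem_left _ _ hy
  · -- the easy inclusion
    have h1 : J ^ 2 ≤ Ideal.comap S.val ((I ^ 2) ^ 2) := Ideal.le_comap_pow _ 2
    have h2 : (I ^ 2) ^ 2 = I ^ 4 := by rw [← pow_mul]
    rwa [h2] at h1

end Groth.Agent.S19018
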