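import Groth.Statements.S19019
import Mathlib.Analysis.Matrix.Hermitian
import Mathlib.Analysis.SpecialFunctions.Integrals.Basic
import Mathlib.MeasureTheory.Integral.IntervalIntegral.Basic
-- import your own Groth.Agent.* helpers here

set_option autoImplicit false
open scoped ComplexOrder
open Toeplitz

namespace Groth.Agent.S19019

section Helpers
open MeasureTheory

theorem pos_int (G : ℝ → ℝ) (hG : Continuous G) (bad : Set ℝ) (hbad : bad.Countable)
    (hpos : ∀ y, y ∉ bad → 0 < G y) : 0 < ∫ y in (0:ℝ)..(2 * Real.pi), G y := by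
  have hnull : volume bad = 0 := hbad.measure_zero volume
  have hae : 0 ≤ᵐ[volume] G := by
    rw [Filter.EventuallyLE, ae_iff]
    refine measure_mono_null ?_ hnull
    intro y hy
    by_contra hyb
    exact hy (hpos y hyb).le
  rw [intervalIntegral.integral_pos_iff_support_of_nonneg_ae hae (hG.intervalIntegrable _ _)]
  have h2pi : (0:ℝ) < 2 * Real.pi := by positivity
  refine ⟨h2pi, ?_⟩
  have hsub : Set.Ioc (0:ℝ) (2 * Real.pi) \ bad ⊆ Function.support G ∩ Set.Ioc 0 (2 * Real.pi) := by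
    intro y hy
    exact ⟨Function.mem_support.mpr (hpos y hy.2).ne', hy.1⟩
  refine lt_of_lt_of_le ?_ (measure_mono hsub)
  rw [measure_sdiff_null hnull, Real.volume_Ioc]
  simpa using h2pi

theorem integral_exp_int (k : ℤ) :
    ∫ y in (0:ℝ)..(2 * Real.pi), Complex.exp (Complex.I * (k : ℂ) * (y : ℂ)) =
      if k = 0 then (2 * Real.pi : ℂ) else 0 := by
  split_ifs with h
  · subst h; simp
  · have hc : Complex.I * (k : ℂ) ≠ 0 := mul_ne_zero Complex.I_ne_zero (Int.cast_ne_zero.mpr h)
    rw [integral_exp_mul_complex hc]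
    have h1 : Complex.exp (Complex.I * k * ((2 * Real.pi : ℝ) : ℂ)) = 1 := by
      have := Complex.exp_int_mul_two_pi_mul_I k
      rw [← this]; congr 1; push_cast; ring
    rw [h1]; simp

theorem fibre_countable (w : ℂ) : {y : ℝ | Complex.exp (-(Complex.I * (y : ℂ))) = w}.Countable := by
  by_cases hne : ∃ y₀ : ℝ, Complex.exp (-(Complex.I * (y₀ : ℂ))) = w
  · obtain ⟨y₀, hy₀⟩ := hne
    refine (Set.countable_range (fun n : ℤ => y₀ - 2 * Real.pi * n)).mono ?_
    intro y hy
    have hy' : Complex.exp (-(Complex.I * (y : ℂ))) = Complex.exp (-(Complex.I * (y₀ : ℂ))) :=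
      (show Complex.exp (-(Complex.I * (y : ℂ))) = w from hy).trans hy₀.symm
    obtain ⟨n, hn⟩ := Complex.exp_eq_exp_iff_exists_int.mp hy'
    refine ⟨n, ?_⟩
    have := congrArg Complex.im hn
    simp at this
    simp only
    linarith
  · refine Set.countable_empty.mono ?_
    intro y hy
    exact (hne ⟨y, hy⟩).elim

theorem zeros_countable (m : ℕ) (x : Fin m → ℂ) (hx : x ≠ 0) :
    {y : ℝ | ∑ j : Fin m, x j * Complex.exp (-(Complex.I * ((j : ℕ) : ℂ) * (y : ℂ))) = 0}.Countable := by
  classical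
  set P : Polynomial ℂ := ∑ j : Fin m, Polynomial.C (x j) * Polynomial.X ^ (j : ℕ) with hP
  have hP0 : P ≠ 0 := by
    obtain ⟨j₀, hj₀⟩ : ∃ j₀, x j₀ ≠ 0 := by
      by_contra h
      push Not at h
      exact hx (funext h)
    intro h0
    have : P.coeff (j₀ : ℕ) = x j₀ := by
      rw [hP, Polynomial.finsetSum_coeff]
      simp_rw [Polynomial.coeff_C_mul_X_pow]
      rw [Finset.sum_eq_single j₀]
      · simp
      · intro b _ hb
        rw [if_neg]
        intro h'
        exact hb (Fin.ext h'.symm)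
      · intro h; exact (h (Finset.mem_univ _)).elim
    rw [h0, Polynomial.coeff_zero] at this
    exact hj₀ this.symm
  have heval : ∀ y : ℝ, ∑ j : Fin m, x j * Complex.exp (-(Complex.I * ((j : ℕ) : ℂ) * (y : ℂ))) =
      P.eval (Complex.exp (-(Complex.I * (y : ℂ)))) := by
    intro y
    rw [hP, Polynomial.eval_finsetSum]
    refine Finset.sum_congr rfl fun j _ => ?_
    rw [Polynomial.eval_mul, Polynomial.eval_C, Polynomial.eval_pow, Polynomial.eval_X,
      ← Complex.exp_nat_mul]
    congr 2; ring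
  have hsub : {y : ℝ | ∑ j : Fin m, x j * Complex.exp (-(Complex.I * ((j : ℕ) : ℂ) * (y : ℂ))) = 0} ⊆
      ⋃ w ∈ P.roots.toFinset, {y : ℝ | Complex.exp (-(Complex.I * (y : ℂ))) = w} := by
    intro y hy
    have hy2 : P.eval (Complex.exp (-(Complex.I * (y : ℂ)))) = 0 := by
      rw [← heval]; exact hy
    simp only [Set.mem_iUnion, exists_prop, Multiset.mem_toFinset]
    exact ⟨_, (Polynomial.mem_roots hP0).mpr hy2, rfl⟩
  refine Set.Countable.mono hsub ?_
  exact Set.Countable.biUnion (Finset.countable_toSet _) fun w _ => fibre_countable w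

theorem triple {m : ℕ} (s : Finset ℤ) (a : ℤ → ℂ) (b c : Fin m → ℂ) :
    (∑ k ∈ s, a k) * ((∑ i, b i) * (∑ j, c j)) = ∑ i, ∑ j, ∑ k ∈ s, a k * (b i * c j) := by
  rw [Finset.sum_mul_sum, Finset.mul_sum]
  refine Finset.sum_congr rfl fun i _ => ?_
  rw [Finset.mul_sum]
  refine Finset.sum_congr rfl fun j _ => ?_
  rw [Finset.sum_mul]

theorem conj_q (m : ℕ) (x : Fin m → ℂ) (y : ℝ) :
    (starRingEnd ℂ) (∑ j : Fin m, x j * Complex.exp (-(Complex.I * ((j : ℕ) : ℂ) * (y : ℂ)))) =
      ∑ i : Fin m, star (x i) * Complex.exp (Complex.I * ((i : ℕ) : ℂ) * (y : ℂ)) := by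
  rw [map_sum]
  refine Finset.sum_congr rfl fun i _ => ?_
  rw [map_mul, ← Complex.exp_conj]
  congr 2
  simp

theorem main_integral (m : ℕ) (t : ℤ → ℂ) (x : Fin m → ℂ) :
    ∫ y in (0:ℝ)..(2 * Real.pi),
      (∑ k ∈ Finset.Ioo (-(m : ℤ)) (m : ℤ), t k * Complex.exp (Complex.I * (k : ℂ) * (y : ℂ))) *
      ((starRingEnd ℂ) (∑ j : Fin m, x j * Complex.exp (-(Complex.I * ((j : ℕ) : ℂ) * (y : ℂ)))) *
        (∑ j : Fin m, x j * Complex.exp (-(Complex.I * ((j : ℕ) : ℂ) * (y : ℂ))))) =
    2 * Real.pi * ∑ i : Fin m, ∑ j : Fin m, star (x i) * t ((j : ℤ) - (i : ℤ)) * x j := by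
  have hpt : ∀ y : ℝ,
      (∑ k ∈ Finset.Ioo (-(m : ℤ)) (m : ℤ), t k * Complex.exp (Complex.I * (k : ℂ) * (y : ℂ))) *
      ((starRingEnd ℂ) (∑ j : Fin m, x j * Complex.exp (-(Complex.I * ((j : ℕ) : ℂ) * (y : ℂ)))) *
        (∑ j : Fin m, x j * Complex.exp (-(Complex.I * ((j : ℕ) : ℂ) * (y : ℂ))))) =
      ∑ i : Fin m, ∑ j : Fin m, ∑ k ∈ Finset.Ioo (-(m : ℤ)) (m : ℤ),
        (star (x i) * x j * t k) *
          Complex.exp (Complex.I * (((k + (i : ℤ) - (j : ℤ) : ℤ)) : ℂ) * (y : ℂ)) := by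
    intro y
    rw [conj_q, triple]
    refine Finset.sum_congr rfl fun i _ => Finset.sum_congr rfl fun j _ =>
      Finset.sum_congr rfl fun k _ => ?_
    have : Complex.exp (Complex.I * (((k + (i : ℤ) - (j : ℤ) : ℤ)) : ℂ) * (y : ℂ)) =
        Complex.exp (Complex.I * (k : ℂ) * (y : ℂ)) *
          (Complex.exp (Complex.I * ((i : ℕ) : ℂ) * (y : ℂ)) *
            Complex.exp (-(Complex.I * ((j : ℕ) : ℂ) * (y : ℂ)))) := by
      rw [← Complex.exp_add, ← Complex.exp_add]
      congr 1
      push_cast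
      ring
    rw [this]; ring
  simp_rw [hpt]
  rw [intervalIntegral.integral_finsetSum]
  swap
  · intro i _
    exact Continuous.intervalIntegrable (by fun_prop) _ _
  rw [Finset.mul_sum]
  refine Finset.sum_congr rfl fun i _ => ?_
  rw [intervalIntegral.integral_finsetSum]
  swap
  · intro j _
    exact Continuous.intervalIntegrable (by fun_prop) _ _
  rw [Finset.mul_sum]
  refine Finset.sum_congr rfl fun j _ => ?_
  rw [intervalIntegral.integral_finsetSum]
  swap
  · intro k _
    exact Continuous.intervalIntegrable (by fun_prop) _ _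
  simp_rw [intervalIntegral.integral_const_mul, integral_exp_int]
  rw [Finset.sum_eq_single ((j : ℤ) - (i : ℤ))]
  · rw [if_pos (by ring)]; ring
  · intro k _ hk
    rw [if_neg, mul_zero]
    intro h
    apply hk
    linarith
  · intro h
    exfalso
    apply h
    rw [Finset.mem_Ioo]
    have hi := i.isLt
    have hj := j.isLt
    constructor <;> omega

end Helpers

/-- Let A be an m × m complex Hermitian Toeplitz matrix, with entries A i j = t (j - i) constant along
diagonals, and let f(y) = Σ_{-m < k < m} t k · exp(i k y) be the trigonometric polynomial attached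
to it. If f has positive real part at every real y outside a countable set, then A is positive
definite (hence nondegenerate). (The source also states the mirror case: f negative off a countable
set gives A negative definite, which is this statement for -A.) -/
theorem result
    (m : ℕ) (t : ℤ → ℂ) (A : Matrix (Fin m) (Fin m) ℂ)
    (hA : ∀ i j : Fin m, A i j = t ((j : ℤ) - (i : ℤ))) (hH : A.IsHermitian)
    (hpos : Set.Countable {y : ℝ | ¬ 0 < (∑ k ∈ Finset.Ioo (-(m : ℤ)) (m : ℤ),
        t k * Complex.exp (Complex.I * (k : ℂ) * (y : ℂ))).re}) :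
    A.PosDef := by
  refine Matrix.PosDef.of_dotProduct_mulVec_pos hH fun x hx => ?_
  have him : (star x ⬝ᵥ A.mulVec x).im = 0 := hH.im_star_dotProduct_mulVec_self x
  have hQ : star x ⬝ᵥ A.mulVec x =
      ∑ i : Fin m, ∑ j : Fin m, star (x i) * t ((j : ℤ) - (i : ℤ)) * x j := by
    simp only [dotProduct, Matrix.mulVec, Pi.star_apply, Finset.mul_sum, hA, mul_assoc]
  have hint := main_integral m t x
  rw [← hQ] at hint
  set f : ℝ → ℂ := fun y => ∑ k ∈ Finset.Ioo (-(m : ℤ)) (m : ℤ),
    t k * Complex.exp (Complex.I * (k : ℂ) * (y : ℂ)) with hf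
  set q : ℝ → ℂ := fun y => ∑ j : Fin m, x j * Complex.exp (-(Complex.I * ((j : ℕ) : ℂ) * (y : ℂ)))
    with hq
  have hfc : Continuous f := by rw [hf]; fun_prop
  have hqc : Continuous q := by rw [hq]; fun_prop
  have hre : ∀ y, (f y * ((starRingEnd ℂ) (q y) * q y)).re = (f y).re * Complex.normSq (q y) := by
    intro y
    rw [← Complex.normSq_eq_conj_mul_self, Complex.re_mul_ofReal]
  have hF_int : IntervalIntegrable (fun y => f y * ((starRingEnd ℂ) (q y) * q y)) MeasureTheory.volume 0 (2 * Real.pi) :=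
    Continuous.intervalIntegrable (by fun_prop) _ _
  have hcomm := Complex.reCLM.intervalIntegral_comp_comm hF_int
  simp only [Complex.reCLM_apply] at hcomm
  have hpos2 : 0 < ∫ y in (0:ℝ)..(2 * Real.pi), (f y * ((starRingEnd ℂ) (q y) * q y)).re := by
    simp_rw [hre]
    refine pos_int _ (by fun_prop) ({y : ℝ | ¬ 0 < (f y).re} ∪ {y : ℝ | q y = 0})
      (hpos.union (zeros_countable m x hx)) ?_
    intro y hy
    simp only [Set.mem_union, Set.mem_ofPred_eq, not_or, not_not] at hy
    exact mul_pos hy.1 (Complex.normSq_pos.mpr hy.2)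
  rw [hcomm] at hpos2
  have hint' : (∫ y in (0:ℝ)..(2 * Real.pi), f y * ((starRingEnd ℂ) (q y) * q y)) =
      2 * Real.pi * (star x ⬝ᵥ A.mulVec x) := hint
  rw [hint'] at hpos2
  have h2pi : (0:ℝ) < 2 * Real.pi := by positivity
  have hre2 : ((2 * Real.pi : ℂ) * (star x ⬝ᵥ A.mulVec x)).re = 2 * Real.pi * (star x ⬝ᵥ A.mulVec x).re := by
    have : (2 * Real.pi : ℂ) = ((2 * Real.pi : ℝ) : ℂ) := by push_cast; ring
    rw [this, Complex.re_ofReal_mul]
  rw [hre2] at hpos2
  have hrepos : 0 < (star x ⬝ᵥ A.mulVec x).re := by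
    by_contra hneg
    push Not at hneg
    have := mul_nonpos_of_nonneg_of_nonpos h2pi.le hneg
    linarith
  exact Complex.pos_iff.mpr ⟨hrepos, him.symm⟩

end Groth.Agent.S19019
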