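import Groth.Statements.S19020
import Mathlib.Algebra.Order.Star.Real
-- import your own Groth.Agent.* helpers here

set_option autoImplicit false
open Toeplitz

namespace Groth.Agent.S19020

/-- the binomial identity behind the induction step -/
theorem choose_step (n d : ℕ) :
    (2 * (n + 1)).choose (n + 1 + (d + 1)) =
      (2 * n).choose (n + d) + 2 * (2 * n).choose (n + (d + 1)) + (2 * n).choose (n + (d + 2)) := by
  have h1 : 2 * (n + 1) = (2 * n + 1) + 1 := by ring
  have h2 : n + 1 + (d + 1) = (n + d + 1) + 1 := by ring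
  rw [h1, h2, Nat.choose_succ_succ, Nat.choose_succ_succ, Nat.choose_succ_succ (2 * n) (n + d + 1)]
  have h3 : n + (d + 1) = n + d + 1 := by ring
  have h4 : n + (d + 2) = n + d + 1 + 1 := by ring
  rw [h3, h4]; ring

theorem choose_step_zero (n : ℕ) :
    (2 * (n + 1)).choose (n + 1 + 0) = 2 * (2 * n).choose (n + 0) + 2 * (2 * n).choose (n + 1) := by
  have h1 : 2 * (n + 1) = (2 * n + 1) + 1 := by ring
  rw [h1, add_zero, add_zero, Nat.choose_succ_succ]
  have hsymm : (2 * n + 1).choose n = (2 * n + 1).choose (n + 1) := by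
    rw [← Nat.choose_symm (n := 2 * n + 1) (k := n + 1) (by omega)]
    congr 1; omega
  rw [hsymm, Nat.choose_succ_succ]; ring

/-- the Toeplitz matrix -/
noncomputable def T (n m : ℕ) : Matrix (Fin m) (Fin m) ℝ :=
  Matrix.of fun i j : Fin m =>
    (-1 : ℝ) ^ ((i : ℕ) + (j : ℕ)) * (Nat.choose (2 * n) (n + Nat.dist i j) : ℝ)

/-- the difference matrix -/
def D (m : ℕ) : Matrix (Fin m) (Fin (m + 1)) ℝ :=
  Matrix.of fun i a => if a = i.castSucc then 1 else if a = i.succ then -1 else 0

theorem sumD (m : ℕ) (i : Fin m) (f : Fin (m + 1) → ℝ) :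
    ∑ a, D m i a * f a = f i.castSucc - f i.succ := by
  have h : ∀ a, D m i a * f a = (if a = i.castSucc then f a else 0) - (if a = i.succ then f a else 0) := by
    intro a
    simp only [D, Matrix.of_apply]
    by_cases h1 : a = i.castSucc
    · have h2 : a ≠ i.succ := by
        rw [h1]; exact (Fin.castSucc_lt_succ (i := i)).ne
      simp [h1, (Fin.castSucc_lt_succ (i := i)).ne]
    · by_cases h2 : a = i.succ
      · subst h2
        simp [(Fin.castSucc_lt_succ (i := i)).ne']
      · simp [h1, h2]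
  simp_rw [h, Finset.sum_sub_distrib, Finset.sum_ite_eq', Finset.mem_univ, if_true]

theorem sumD' (m : ℕ) (i : Fin m) (f : Fin (m + 1) → ℝ) :
    ∑ a, f a * D m i a = f i.castSucc - f i.succ := by
  simp_rw [mul_comm (f _)]; exact sumD m i f

theorem T_zero (m : ℕ) : T 0 m = 1 := by
  ext i j
  simp only [T, Matrix.of_apply, Matrix.one_apply]
  by_cases h : i = j
  · subst h
    simp [Nat.dist_self, ← two_mul]
  · have hne : (i : ℕ) ≠ (j : ℕ) := fun h' => h (Fin.ext h')
    have hpos := Nat.dist_pos_of_ne hne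
    rw [if_neg h, Nat.choose_eq_zero_of_lt (by omega)]
    simp

theorem entry_identity (n a b : ℕ) :
    (-1 : ℝ) ^ (a + b) * ((2 * (n + 1)).choose (n + 1 + a.dist b) : ℝ) =
    (-1) ^ (a + b) * ((2 * n).choose (n + a.dist b) : ℝ) -
        (-1) ^ (a + 1 + b) * ((2 * n).choose (n + (a + 1).dist b) : ℝ) -
      ((-1) ^ (a + (b + 1)) * ((2 * n).choose (n + a.dist (b + 1)) : ℝ) -
        (-1) ^ (a + 1 + (b + 1)) * ((2 * n).choose (n + (a + 1).dist (b + 1)) : ℝ)) := by
  have e1 : (-1 : ℝ) ^ (a + 1 + b) = -(-1) ^ (a + b) := by ring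
  have e2 : (-1 : ℝ) ^ (a + (b + 1)) = -(-1) ^ (a + b) := by ring
  have e3 : (-1 : ℝ) ^ (a + 1 + (b + 1)) = (-1) ^ (a + b) := by ring
  rw [e1, e2, e3, Nat.dist_succ_succ]
  have key : ((2 * (n + 1)).choose (n + 1 + a.dist b) : ℝ) =
      2 * ((2 * n).choose (n + a.dist b) : ℝ) + ((2 * n).choose (n + (a + 1).dist b) : ℝ)
        + ((2 * n).choose (n + a.dist (b + 1)) : ℝ) := by
    rcases lt_trichotomy a b with h | h | h
    · obtain ⟨d, rfl⟩ : ∃ d, b = a + d + 1 := ⟨b - a - 1, by omega⟩
      have d1 : a.dist (a + d + 1) = d + 1 := by rw [Nat.dist_eq_sub_of_le (by omega)]; omega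
      have d2 : (a + 1).dist (a + d + 1) = d := by rw [Nat.dist_eq_sub_of_le (by omega)]; omega
      have d3 : a.dist (a + d + 1 + 1) = d + 2 := by rw [Nat.dist_eq_sub_of_le (by omega)]; omega
      rw [d1, d2, d3, choose_step]
      push_cast; ring
    · subst h
      have d1 : a.dist a = 0 := Nat.dist_self a
      have d2 : (a + 1).dist a = 1 := by rw [Nat.dist_eq_sub_of_le_right (by omega)]; omega
      have d3 : a.dist (a + 1) = 1 := by rw [Nat.dist_eq_sub_of_le (by omega)]; omega
      rw [d1, d2, d3, choose_step_zero]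
      push_cast; ring
    · obtain ⟨d, rfl⟩ : ∃ d, a = b + d + 1 := ⟨a - b - 1, by omega⟩
      have d1 : (b + d + 1).dist b = d + 1 := by rw [Nat.dist_eq_sub_of_le_right (by omega)]; omega
      have d2 : (b + d + 1 + 1).dist b = d + 2 := by rw [Nat.dist_eq_sub_of_le_right (by omega)]; omega
      have d3 : (b + d + 1).dist (b + 1) = d := by rw [Nat.dist_eq_sub_of_le_right (by omega)]; omega
      rw [d1, d2, d3, choose_step]
      push_cast; ring
  rw [key]; ring

theorem T_succ (n m : ℕ) : T (n + 1) m = D m * T n (m + 1) * (D m).conjTranspose := by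
  ext i j
  simp only [Matrix.mul_apply, Matrix.conjTranspose_apply, star_trivial]
  simp_rw [sumD m i, sumD' m j]
  simp only [T, Matrix.of_apply, Fin.val_castSucc, Fin.val_succ]
  exact entry_identity n i j

/-- a right inverse of the difference matrix -/
def R (m : ℕ) : Matrix (Fin (m + 1)) (Fin m) ℝ :=
  Matrix.of fun a j => if (a : ℕ) ≤ (j : ℕ) then 1 else 0

theorem D_mul_R (m : ℕ) : D m * R m = 1 := by
  ext i j
  rw [Matrix.mul_apply, sumD]
  simp only [R, Matrix.of_apply, Fin.val_castSucc, Fin.val_succ, Matrix.one_apply]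
  by_cases h : i = j
  · subst h; simp
  · have hne : (i : ℕ) ≠ (j : ℕ) := fun h' => h (Fin.ext h')
    rw [if_neg h]
    by_cases h1 : (i : ℕ) ≤ (j : ℕ)
    · have h2 : (i : ℕ) + 1 ≤ (j : ℕ) := by omega
      simp [h1, h2]
    · have h2 : ¬ (i : ℕ) + 1 ≤ (j : ℕ) := by omega
      simp [h1, h2]

theorem D_inj (m : ℕ) : Function.Injective (D m).vecMul := by
  intro x y hxy
  have := congrArg (fun v => Matrix.vecMul v (R m)) hxy
  simpa [Matrix.vecMul_vecMul, D_mul_R] using this

theorem T_posDef (n : ℕ) : ∀ m : ℕ, (T n m).PosDef := by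
  induction n with
  | zero => intro m; rw [T_zero]; exact Matrix.PosDef.one
  | succ n ih =>
    intro m
    rw [T_succ]
    exact (ih (m + 1)).mul_mul_conjTranspose_same (D_inj m)

/-- For natural numbers n and m, the m × m real Toeplitz matrix with (i, j) entry (-1)^(i+j) · C(2n, n +
|i - j|), i.e. with t_k = (-1)^k C(2n, n + k) on the k-th diagonal for |k| ≤ n and zero beyond, is
positive definite; in particular it is nondegenerate, which is the printed assertion (positive
definiteness is what the printed proof establishes; m = 0 is the empty matrix). -/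
theorem result (n m : ℕ) :
    (Matrix.of fun i j : Fin m =>
        (-1 : ℝ) ^ ((i : ℕ) + (j : ℕ)) * (Nat.choose (2 * n) (n + Nat.dist i j) : ℝ)).PosDef := by
  exact T_posDef n m

end Groth.Agent.S19020
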