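import Groth.Statements.S19021
import Groth.Agent.S19020
-- import your own Groth.Agent.* helpers here

set_option autoImplicit false
open Toeplitz

namespace Groth.Agent.S19021

/-- the integer matrix, cast to the reals -/
noncomputable def S (n m : ℕ) : Matrix (Fin m) (Fin m) ℝ :=
  Matrix.of fun i j : Fin m =>
    (-1 : ℝ) ^ ((i : ℕ) + (j : ℕ)) *
      (if (j : ℕ) ≤ (i : ℕ) then (Nat.choose (2 * n + 1) (n + 1 + ((i : ℕ) - (j : ℕ))) : ℝ)
        else (Nat.choose (2 * n + 1) (n + ((j : ℕ) - (i : ℕ))) : ℝ))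

theorem S_add_transpose (n m : ℕ) :
    S n m + (S n m).transpose = Groth.Agent.S19020.T (n + 1) m := by
  ext i j
  simp only [Matrix.add_apply, Matrix.transpose_apply, S, Groth.Agent.S19020.T, Matrix.of_apply]
  have hsign : (-1 : ℝ) ^ ((j : ℕ) + (i : ℕ)) = (-1) ^ ((i : ℕ) + (j : ℕ)) := by rw [add_comm]
  rw [hsign, ← mul_add]
  congr 1
  have h1 : 2 * (n + 1) = (2 * n + 1) + 1 := by ring
  rcases lt_trichotomy (i : ℕ) (j : ℕ) with h | h | h
  · obtain ⟨d, hd⟩ : ∃ d, (j : ℕ) = (i : ℕ) + d + 1 := ⟨(j : ℕ) - (i : ℕ) - 1, by omega⟩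
    have hd1 : (i : ℕ).dist (j : ℕ) = d + 1 := by rw [Nat.dist_eq_sub_of_le (by omega)]; omega
    rw [if_neg (by omega), if_pos (by omega), hd1, h1]
    have e1 : (j : ℕ) - (i : ℕ) = d + 1 := by omega
    have e2 : n + 1 + (d + 1) = (n + (d + 1)) + 1 := by ring
    have hp : (2 * n + 1 + 1).choose (n + (d + 1) + 1) =
        (2 * n + 1).choose (n + (d + 1)) + (2 * n + 1).choose (n + (d + 1) + 1) :=
      Nat.choose_succ_succ' _ _
    rw [e1, e2, hp]
    push_cast; ring
  · have hd1 : (i : ℕ).dist (j : ℕ) = 0 := by rw [h]; exact Nat.dist_self _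
    have hp : (2 * n + 1 + 1).choose (n + 1) =
        (2 * n + 1).choose n + (2 * n + 1).choose (n + 1) :=
      Nat.choose_succ_succ' _ _
    rw [if_pos (by omega), if_pos (by omega), hd1, h1, h, Nat.sub_self, add_zero, hp]
    have hsymm : (2 * n + 1).choose n = (2 * n + 1).choose (n + 1) := by
      rw [← Nat.choose_symm (n := 2 * n + 1) (k := n + 1) (by omega)]
      congr 1; omega
    rw [hsymm]; push_cast; ring
  · obtain ⟨d, hd⟩ : ∃ d, (i : ℕ) = (j : ℕ) + d + 1 := ⟨(i : ℕ) - (j : ℕ) - 1, by omega⟩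
    have hd1 : (i : ℕ).dist (j : ℕ) = d + 1 := by rw [Nat.dist_eq_sub_of_le_right (by omega)]; omega
    rw [if_pos (by omega), if_neg (by omega), hd1, h1]
    have e1 : (i : ℕ) - (j : ℕ) = d + 1 := by omega
    have e2 : n + 1 + (d + 1) = (n + (d + 1)) + 1 := by ring
    have hp : (2 * n + 1 + 1).choose (n + (d + 1) + 1) =
        (2 * n + 1).choose (n + (d + 1)) + (2 * n + 1).choose (n + (d + 1) + 1) :=
      Nat.choose_succ_succ' _ _
    rw [e1, e2, hp]
    push_cast; ring

theorem S_det_ne_zero (n m : ℕ) : (S n m).det ≠ 0 := by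
  intro hdet
  obtain ⟨x, hx, hSx⟩ := Matrix.exists_mulVec_eq_zero_iff.mpr hdet
  have hT := Groth.Agent.S19020.T_posDef (n + 1) m
  have hpos := hT.dotProduct_mulVec_pos hx
  rw [← S_add_transpose, Matrix.add_mulVec, dotProduct_add, star_trivial, hSx, dotProduct_zero,
    zero_add, Matrix.mulVec_transpose, dotProduct_comm, ← Matrix.dotProduct_mulVec, hSx,
    dotProduct_zero] at hpos
  exact lt_irrefl _ hpos

/-- For natural numbers n and m, the m × m integer Toeplitz matrix with (i, j) entry (-1)^(i+j) ·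
C(2n+1, n+1+i-j) (the binomial coefficient being 0 outside the range 0 ≤ n+1+i-j ≤ 2n+1;
equivalently s_k = (-1)^k C(2n+1, n+k+1) on the diagonal i - j = k for -n-1 ≤ k ≤ n and zero beyond)
is nondegenerate: its determinant is nonzero (m = 0 is the empty matrix, of determinant 1). -/
theorem result (n m : ℕ) :
    (Matrix.of fun i j : Fin m =>
        (-1 : ℤ) ^ ((i : ℕ) + (j : ℕ)) *
          (if (j : ℕ) ≤ (i : ℕ) then (Nat.choose (2 * n + 1) (n + 1 + ((i : ℕ) - (j : ℕ))) : ℤ)
            else (Nat.choose (2 * n + 1) (n + ((j : ℕ) - (i : ℕ))) : ℤ))).det ≠ 0 := by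
  intro hdet
  apply S_det_ne_zero n m
  have := congrArg (Int.castRingHom ℝ) hdet
  rw [RingHom.map_det, map_zero] at this
  rw [← this]
  congr 1
  ext i j
  simp only [S, RingHom.mapMatrix_apply, Matrix.map_apply, Matrix.of_apply]
  split_ifs <;> simp

end Groth.Agent.S19021
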