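import Groth.Statements.S19022
import Groth.Agent.Lib.Helper45.InvBasis

set_option autoImplicit false
universe u
open CategoryTheory AlgebraicGeometry
open PicF

namespace Groth.Agent.S19022

/-- Let X be a scheme, L an invertible O_X-module and T a finite set of closed points of X that lies in
some affine open of X. Then T lies in an affine open U of X on which L is trivial (L restricted to U
is isomorphic to the structure sheaf). (The source states this for a smooth quasi-projective complex
surface, where every finite set of points lies in an affine open, and phrases it as: X^n and the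
symmetric product S^n X are covered by the opens U^n and S^n U with U affine and L trivial on U; the
printed argument uses only that the finitely many points lie in one affine open, which is taken as
the hypothesis here.) -/
theorem result
    (X : Scheme.{u}) (L : X.Modules) (hL : PicF.IsInvertible L)
    (T : Finset X) (hT : ∀ x ∈ T, IsClosed ({x} : Set X))
    (hU : ∃ U : X.Opens, IsAffineOpen U ∧ ∀ x ∈ T, x ∈ U) :
    ∃ U : X.Opens, IsAffineOpen U ∧ (∀ x ∈ T, x ∈ U) ∧
      Nonempty (L.restrict U.ι ≅ Coh.structureModule (↑U : Scheme.{u})) := by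
  classical
  obtain ⟨U₀, hU₀, hTU⟩ := hU
  have := Groth.Agent.Lib.Helper45.isQuasicoherent_of_isInvertible hL
  have hsp : ∀ x ∈ T, ∀ z ∈ T, z ⤳ x → z = x := by
    intro x _ z hz hzx
    have h1 : x ∈ closure ({z} : Set X) := specializes_iff_mem_closure.mp hzx
    rw [(hT z hz).closure_eq] at h1
    exact (Set.mem_singleton_iff.mp h1).symm
  obtain ⟨W, hW, p, hTW, hb⟩ := Groth.Agent.Lib.Helper45.exists_isBasisOn_of_finset hU₀
    (fun x _ => Groth.Agent.Lib.Helper45.exists_isBasisOn_of_isInvertible hL x) T hTU hsp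
  -- the ideal of functions `f` on `U₀` with `D(f) ≤ W`
  let I : Ideal Γ(X, U₀) :=
    { carrier := {f | X.basicOpen f ≤ W}
      add_mem' := fun {a b} ha hb => (X.basicOpen_add_le a b).trans (sup_le ha hb)
      zero_mem' := by simp
      smul_mem' := fun c {a} ha => by
        change X.basicOpen (c * a) ≤ W
        rw [Scheme.basicOpen_mul]
        exact inf_le_right.trans ha }
  let s : Finset (Ideal Γ(X, U₀)) := T.attach.image
    (fun i => Groth.Agent.Lib.Helper45.vanishingIdealAt i.1 (hTU i.1 i.2))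
  have hprime : ∀ i ∈ s, i ≠ (⊥ : Ideal Γ(X, U₀)) → i ≠ (⊥ : Ideal Γ(X, U₀)) →
      Ideal.IsPrime (id i) := by
    intro i hi _ _
    obtain ⟨j, -, rfl⟩ := Finset.mem_image.mp hi
    exact inferInstanceAs (Groth.Agent.Lib.Helper45.vanishingIdealAt j.1 (hTU j.1 j.2)).IsPrime
  have hnot : ¬ ((I : Set Γ(X, U₀)) ⊆ ⋃ i ∈ (↑s : Set (Ideal Γ(X, U₀))), ((id i : Ideal Γ(X, U₀)) : Set Γ(X, U₀))) := by
    rw [Ideal.subset_union_prime (⊥ : Ideal Γ(X, U₀)) (⊥ : Ideal Γ(X, U₀)) hprime]
    rintro ⟨i, hi, hle⟩
    obtain ⟨j, -, rfl⟩ := Finset.mem_image.mp hi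
    obtain ⟨h, hhW, hxh⟩ := hU₀.exists_basicOpen_le ⟨j.1, hTW j.1 j.2⟩ (hTU j.1 j.2)
    have h1 : h ∈ I := hhW
    have h2 : h ∈ Groth.Agent.Lib.Helper45.vanishingIdealAt j.1 (hTU j.1 j.2) := hle h1
    rw [Groth.Agent.Lib.Helper45.mem_vanishingIdealAt_iff] at h2
    exact h2 hxh
  obtain ⟨f, hfI, hf⟩ := Set.not_subset.mp hnot
  refine ⟨X.basicOpen f, hU₀.basicOpen f, fun x hxT => ?_, ?_⟩
  · by_contra hx
    apply hf
    rw [← Groth.Agent.Lib.Helper45.mem_vanishingIdealAt_iff x (hTU x hxT)] at hx
    refine Set.mem_biUnion (x := Groth.Agent.Lib.Helper45.vanishingIdealAt x (hTU x hxT)) ?_ hx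
    exact Finset.mem_coe.mpr (Finset.mem_image.mpr ⟨⟨x, hxT⟩, Finset.mem_attach _ _, rfl⟩)
  · have hfW : X.basicOpen f ≤ W := hfI
    exact (hb.mono hfW).nonempty_iso (hU₀.basicOpen f)

end Groth.Agent.S19022
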