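import Groth.Statements.S19023
import Mathlib
-- import your own Groth.Agent.* helpers here

set_option autoImplicit false
universe u v
open Filt

namespace Groth.Agent.S19023

/-- Let F be a module with two decreasing filtrations M and N by submodules, indexed by the natural
numbers. Suppose that for some j and l the submodule N (j+1) ⊓ M l maps onto the quotient M l / M
(l+1), that is M l ≤ M (l+1) ⊔ (N (j+1) ⊓ M l). Then for every i ≤ j the map between the graded
pieces (N i ⊓ M (l+1)) / (N (i+1) ⊓ M (l+1)) → (N i ⊓ M l) / (N (i+1) ⊓ M l) induced by the
inclusion M (l+1) ≤ M l is bijective. (The source states this for two finite decreasing filtrations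
of a coherent sheaf on an algebraic variety; the statement concerns only the lattice of subobjects
and is given here for submodules of a module.) -/
theorem result
    (R : Type u) (F : Type v) [Ring R] [AddCommGroup F] [Module R F]
    (M N : ℕ → Submodule R F) (hM : Antitone M) (hN : Antitone N) (j l : ℕ)
    (h : M l ≤ M (l + 1) ⊔ (N (j + 1) ⊓ M l)) (i : ℕ) (hi : i ≤ j) :
    Function.Bijective
      (Submodule.mapQ ((N (i + 1)).comap (N i ⊓ M (l + 1)).subtype) ((N (i + 1)).comap (N i ⊓ M l).subtype)
        (Submodule.inclusion (inf_le_inf_left (N i) (hM (Nat.le_succ l))))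
        (fun x hx => hx)) := by
  constructor
  · rw [injective_iff_map_eq_zero]
    intro x
    induction x using Submodule.Quotient.induction_on with
    | H x =>
      intro hx
      rw [Submodule.mapQ_apply, Submodule.Quotient.mk_eq_zero] at hx
      rw [Submodule.Quotient.mk_eq_zero]
      exact hx
  · intro y
    induction y using Submodule.Quotient.induction_on with
    | H y =>
      obtain ⟨y, hy⟩ := y
      have hyN : y ∈ N i := hy.1
      have hyM : y ∈ M l := hy.2
      obtain ⟨a, ha, b, hb, hab⟩ := Submodule.mem_sup.1 (h hyM)
      have hbN1 : b ∈ N (i + 1) := hN (by omega : i + 1 ≤ j + 1) hb.1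
      have hbN : b ∈ N i := hN (Nat.le_succ i) hbN1
      have haN : a ∈ N i := by
        have : a = y - b := by rw [← hab]; abel
        rw [this]; exact (N i).sub_mem hyN hbN
      refine ⟨Submodule.Quotient.mk ⟨a, ⟨haN, ha⟩⟩, ?_⟩
      rw [Submodule.mapQ_apply, Submodule.Quotient.eq]
      show (a - y) ∈ N (i + 1)
      have : a - y = -b := by rw [← hab]; abel
      rw [this]; exact (N (i+1)).neg_mem hbN1

end Groth.Agent.S19023
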