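import Groth.Statements.S19025
import Mathlib
-- import your own Groth.Agent.* helpers here

set_option autoImplicit false
universe u
open HigherRestr

namespace Groth.Agent.S19025

section Helpers
open Polynomial

variable {S : Type u} [CommRing S]

/-- The linear functional on polynomials sending `X^j` to `y j`. -/
noncomputable def Lfun (y : ℕ → S) : S[X] →ₗ[S] S :=
  Polynomial.lsum (fun j => LinearMap.toSpanSingleton S S (y j))

theorem Lfun_C_mul_X_pow (y : ℕ → S) (a : S) (j : ℕ) : Lfun y (C a * X ^ j) = a * y j := by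
  rw [Lfun, C_mul_X_pow_eq_monomial, Polynomial.lsum_apply, Polynomial.sum_monomial_index]
  · simp
  · simp

theorem Lfun_X_pow (y : ℕ → S) (j : ℕ) : Lfun y (X ^ j) = y j := by
  have := Lfun_C_mul_X_pow y 1 j
  simpa using this

theorem Lfun_C_mul (y : ℕ → S) (a : S) (p : S[X]) : Lfun y (C a * p) = a * Lfun y p := by
  rw [← smul_eq_C_mul, map_smul, smul_eq_mul]

theorem Lfun_X_pow_mul_sub_one_pow (y : ℕ → S) (n i : ℕ) :
    Lfun y (X ^ i * (X - 1) ^ n) = (fwdDiff (1 : ℕ))^[n] y i := by
  induction n generalizing i with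
  | zero => simp [Lfun_X_pow]
  | succ n ih =>
    have : (X : S[X]) ^ i * (X - 1) ^ (n + 1) = X ^ (i + 1) * (X - 1) ^ n - X ^ i * (X - 1) ^ n := by
      ring
    rw [this, map_sub, ih, ih, Function.iterate_succ_apply']
    rfl

end Helpers


/-- In abstract form, the estimate its proof establishes. Let S be a commutative ring, I an ideal of S,
g₀ and g₁ elements with g₁ - g₀ ∈ I, N a natural number and y a sequence in S such that, for 1 ≤ i ≤
N, the (N-i)-fold unit-step forward difference of y taken at i lies in I^(N-i). Then g₀^N times the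
N-fold forward difference of y at 0, minus the N-fold forward difference at 0 of the twisted
sequence j ↦ g₀^(N-j) g₁^j y_j, lies in I^N. (In the source S is the ring of functions on an affine
chart of X^n, I the ideal of a pairwise diagonal, g₀ and g₁ the two pullbacks of a transition unit
of L, and y_j the components x_λ along the compositions a₀^(N-j) a₁^j μ; the estimate is what makes
the higher order restrictions D^l_L well defined on ker D^(l-1)_L independently of the
trivialisation.) -/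
theorem result
    (S : Type u) [CommRing S] (I : Ideal S) (g₀ g₁ : S) (hg : g₁ - g₀ ∈ I)
    (N : ℕ) (y : ℕ → S)
    (hy : ∀ i : ℕ, 1 ≤ i → i ≤ N → (fwdDiff (1 : ℕ))^[N - i] y i ∈ I ^ (N - i)) :
    g₀ ^ N * (fwdDiff (1 : ℕ))^[N] y 0 -
        (fwdDiff (1 : ℕ))^[N] (fun j : ℕ => g₀ ^ (N - j) * g₁ ^ j * y j) 0 ∈ I ^ N := by
  -- Step A
  have hA : (fwdDiff (1 : ℕ))^[N] (fun j : ℕ => g₀ ^ (N - j) * g₁ ^ j * y j) 0 =
      Lfun y ((Polynomial.C g₁ * Polynomial.X - Polynomial.C g₀) ^ N) := by
    rw [fwdDiff_iter_eq_sum_shift, sub_eq_add_neg, add_pow, map_sum]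
    refine Finset.sum_congr rfl (fun m _ => ?_)
    have e1 : (Polynomial.C g₁ * Polynomial.X) ^ m * (-Polynomial.C g₀) ^ (N - m) * ((N.choose m : ℕ) : Polynomial S) =
        Polynomial.C (g₁ ^ m * (-g₀) ^ (N - m) * (N.choose m : S)) * Polynomial.X ^ m := by
      simp only [map_mul, map_pow, map_neg, map_natCast]
      ring
    rw [e1, Lfun_C_mul_X_pow, zsmul_eq_mul]
    simp only [zero_add, smul_eq_mul, mul_one]
    push_cast
    rw [neg_pow g₀]
    ring
  -- Step B
  have hB : Lfun y ((Polynomial.C g₁ * Polynomial.X - Polynomial.C g₀) ^ N) =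
      ∑ m ∈ Finset.range (N + 1),
        (N.choose m : S) * (g₁ - g₀) ^ m * g₀ ^ (N - m) * (fwdDiff (1 : ℕ))^[N - m] y m := by
    have : (Polynomial.C g₁ * Polynomial.X - Polynomial.C g₀ : Polynomial S) = Polynomial.C (g₁ - g₀) * Polynomial.X + Polynomial.C g₀ * (Polynomial.X - 1) := by
      rw [map_sub]; ring
    rw [this, add_pow, map_sum]
    refine Finset.sum_congr rfl (fun m _ => ?_)
    have e1 : (Polynomial.C (g₁ - g₀) * Polynomial.X) ^ m * (Polynomial.C g₀ * (Polynomial.X - 1)) ^ (N - m) * ((N.choose m : ℕ) : Polynomial S) =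
        Polynomial.C ((N.choose m : S) * (g₁ - g₀) ^ m * g₀ ^ (N - m)) * (Polynomial.X ^ m * (Polynomial.X - 1) ^ (N - m)) := by
      simp only [map_mul, map_pow, map_natCast, mul_pow]
      ring
    rw [e1, Lfun_C_mul, Lfun_X_pow_mul_sub_one_pow]
  rw [hA, hB, Finset.sum_range_succ']
  simp only [Nat.choose_zero_right, Nat.cast_one, pow_zero, mul_one, one_mul, Nat.sub_zero]
  rw [sub_add_cancel_right]
  refine neg_mem (Ideal.sum_mem _ (fun m hm => ?_))
  have hmN : m + 1 ≤ N := by
    have := Finset.mem_range.1 hm; omega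
  have h1 : (g₁ - g₀) ^ (m + 1) ∈ I ^ (m + 1) := Ideal.pow_mem_pow hg _
  have h2 := hy (m + 1) (by omega) hmN
  have h3 : (g₁ - g₀) ^ (m + 1) * (fwdDiff (1 : ℕ))^[N - (m + 1)] y (m + 1) ∈ I ^ N := by
    have : I ^ N = I ^ (m + 1) * I ^ (N - (m + 1)) := by
      rw [← pow_add]; congr 1; omega
    rw [this]
    exact Ideal.mul_mem_mul h1 h2
  have e : (N.choose (m + 1) : S) * (g₁ - g₀) ^ (m + 1) * g₀ ^ (N - (m + 1)) *
      (fwdDiff (1 : ℕ))^[N - (m + 1)] y (m + 1) =
      ((N.choose (m + 1) : S) * g₀ ^ (N - (m + 1))) *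
        ((g₁ - g₀) ^ (m + 1) * (fwdDiff (1 : ℕ))^[N - (m + 1)] y (m + 1)) := by ring
  rw [e]
  exact Ideal.mul_mem_left _ _ h3

end Groth.Agent.S19025
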