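import Groth.Statements.S19037
import Mathlib
-- import your own Groth.Agent.* helpers here

set_option autoImplicit false
universe u v
open scoped Polynomial LaurentPolynomial
open Instab

namespace Groth.Agent.S19037

/-- Affine form over a ring R. Let A be a commutative ℤ-graded R-algebra and t an element of degree −1
(so A is a graded algebra over R[t] with t in degree −1), and let ψ : A[1/t] → R[T, T⁻¹] be an
R-algebra map sending t to T which is graded, in the sense that each homogeneous element of degree n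
of A goes to an element of R times T^(−n). Then ψ is obtained by inverting t from an R-algebra map χ
: A → R[T] (compared through the inclusion of R[T] in R[T, T⁻¹]) if and only if ψ kills t·a for
every homogeneous a of degree 1; such a χ is unique. (The source states this for quasi-coherent
graded algebras over an arbitrary base scheme; the statement is local on the base and is given here
over an affine base.) -/
theorem result
    {R : Type u} {A : Type v} [CommRing R] [CommRing A] [Algebra R A]
    (𝒜 : ℤ → Submodule R A) [GradedAlgebra 𝒜] (t : A) (ht : t ∈ 𝒜 (-1))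
    (ψ : Localization.Away t →ₐ[R] R[T;T⁻¹])
    (hψt : ψ (algebraMap A (Localization.Away t) t) = LaurentPolynomial.T 1)
    (hψ : ∀ (n : ℤ) (a : A), a ∈ 𝒜 n →
      ∃ r : R, ψ (algebraMap A (Localization.Away t) a) = LaurentPolynomial.C r * LaurentPolynomial.T (-n)) :
    (∃! χ : A →ₐ[R] R[X], ∀ a : A,
        ψ (algebraMap A (Localization.Away t) a) = Polynomial.toLaurentAlg (χ a)) ↔
      ∀ a ∈ 𝒜 1, ψ (algebraMap A (Localization.Away t) (t * a)) = 0 := by
  classical
  -- the composite A → R[T;T⁻¹]
  let φ : A →ₐ[R] R[T;T⁻¹] := ψ.comp (IsScalarTower.toAlgHom R A (Localization.Away t))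
  have hφ : ∀ a, φ a = ψ (algebraMap A (Localization.Away t) a) := fun a => rfl
  simp only [← hφ] at hψt hψ ⊢
  have hinj : Function.Injective (Polynomial.toLaurentAlg : R[X] →ₐ[R] R[T;T⁻¹]) := by
    rw [Polynomial.coe_toLaurentAlg]; exact Polynomial.toLaurent_injective
  -- cancellation of powers of T
  have hTcancel : ∀ (k : ℕ) (x : R[T;T⁻¹]), (LaurentPolynomial.T 1) ^ k * x = 0 → x = 0 := by
    intro k x hx
    have hu : IsUnit ((LaurentPolynomial.T 1 : R[T;T⁻¹]) ^ k) := (LaurentPolynomial.isUnit_T 1).pow k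
    exact (hu.mul_right_eq_zero).1 hx
  constructor
  · rintro ⟨χ, hχ, -⟩ a ha
    obtain ⟨r, hr⟩ := hψ 1 a ha
    have hr0 : r = 0 := by
      by_contra hne
      have h1 : (LaurentPolynomial.C r * LaurentPolynomial.T (-1) : R[T;T⁻¹]).coeff.support = {-1} :=
        LaurentPolynomial.support_coeff_C_mul_T_of_ne_zero hne (-1)
      rw [← hr, hχ a, Polynomial.toLaurentAlg_apply, LaurentPolynomial.support_coeff_toLaurent] at h1
      have : (-1 : ℤ) ∈ (χ a).support.map Nat.castEmbedding := by rw [h1]; simp
      rw [Finset.mem_map] at this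
      obtain ⟨m, -, hm⟩ := this
      simp at hm
    rw [map_mul, hr, hr0]
    simp
  · intro h
    -- φ kills positive degrees
    have hpos : ∀ (n : ℕ) (a : A), a ∈ 𝒜 ((n : ℤ) + 1) → φ a = 0 := by
      intro n a ha
      have htn : t ^ n ∈ 𝒜 (n • (-1 : ℤ)) := SetLike.pow_mem_graded n ht
      have hmem : t ^ n * a ∈ 𝒜 (n • (-1 : ℤ) + ((n : ℤ) + 1)) := SetLike.mul_mem_graded htn ha
      have hidx : n • (-1 : ℤ) + ((n : ℤ) + 1) = 1 := by simp
      rw [hidx] at hmem
      have h1 := h _ hmem
      rw [map_mul, map_mul, map_pow, hψt, ← mul_assoc, ← pow_succ'] at h1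
      exact hTcancel _ _ h1
    -- image lands in polynomials
    have hrange : ∀ a : A, φ a ∈ (Polynomial.toLaurentAlg : R[X] →ₐ[R] R[T;T⁻¹]).range := by
      intro a
      rw [← DirectSum.sum_support_decompose 𝒜 a, map_sum]
      refine Subalgebra.sum_mem _ (fun n _ => ?_)
      have hn : ((DirectSum.decompose 𝒜 a n : 𝒜 n) : A) ∈ 𝒜 n := Submodule.coe_mem _
      rcases lt_or_ge 0 n with hn0 | hn0
      · obtain ⟨m, rfl⟩ : ∃ m : ℕ, n = (m : ℤ) + 1 := ⟨(n - 1).toNat, by omega⟩
        rw [hpos m _ hn]
        exact Subalgebra.zero_mem _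
      · obtain ⟨r, hr⟩ := hψ n _ hn
        rw [hr]
        obtain ⟨m, hm⟩ : ∃ m : ℕ, -n = (m : ℤ) := ⟨(-n).toNat, by omega⟩
        rw [hm]
        exact ⟨Polynomial.C r * Polynomial.X ^ m, by
          show Polynomial.toLaurent (Polynomial.C r * Polynomial.X ^ m) = _
          rw [Polynomial.toLaurent_C_mul_X_pow]⟩
    let e : R[X] ≃ₐ[R] (Polynomial.toLaurentAlg : R[X] →ₐ[R] R[T;T⁻¹]).range :=
      AlgEquiv.ofInjective _ hinj
    let χ : A →ₐ[R] R[X] := (e.symm : _ →ₐ[R] R[X]).comp (φ.codRestrict _ hrange)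
    have hχ : ∀ a, φ a = Polynomial.toLaurentAlg (χ a) := by
      intro a
      have : (e (χ a) : R[T;T⁻¹]) = φ a := by
        simp only [χ, AlgHom.comp_apply, AlgEquiv.coe_toAlgHom, AlgEquiv.apply_symm_apply]
        rfl
      rw [← this]
      rfl
    refine ⟨χ, hχ, ?_⟩
    intro χ' hχ'
    ext1 a
    apply hinj
    rw [← hχ a, ← hχ' a]

end Groth.Agent.S19037
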