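import Groth.Statements.S19039
import Groth.Agent.Lib.Helper7.GmLine

set_option autoImplicit false
universe u
open Instab

namespace Groth.Agent.S19039

open CategoryTheory MonoidalCategory CartesianMonoidalCategory MonObj GrpObj AlgebraicGeometry in
/-- The case n = 1 for a scheme X separated over an affine base Spec R, stated as the two facts that
identify equivariant families with maps whose orbit map extends. Let G_m act on X (a left action a :
G_m × X → X over Spec R) and on A¹ × T through the scaling action on A¹, for an R-scheme T; write j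
: G_m → A¹ for the inclusion t ↦ t. (a) If u, v : A¹ × T → X are G_m-equivariant R-morphisms with
the same restriction to the section {1} × T, then u = v. (b) If x : T → X is an R-morphism and u :
A¹ × T → X is an R-morphism whose restriction along j × T is the orbit family (g, t) ↦ g · x(t),
then u is G_m-equivariant. (The source works with an algebraic space X quasi-separated and locally
of finite presentation over a base B with an action of G_mⁿ and deduces that X⁺ → X is a locally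
finitely presented unramified monomorphism; only the elementary identification for n = 1 is stated
here, which uses separatedness alone.) -/
theorem result
    (R : Type u) [CommRing R] (X : Over (Spec (CommRingCat.of R))) [IsSeparated X.hom]
    (a : AlgGrp.Action (ThetaS.Gm R) X) (T : Over (Spec (CommRingCat.of R))) :
    (∀ u v : ThetaS.Line R ⊗ T ⟶ X,
        (α_ (ThetaS.Gm R) (ThetaS.Line R) T).inv ≫ ((ThetaS.lineAction R).act ▷ T) ≫ u = (ThetaS.Gm R ◁ u) ≫ a.act →
        (α_ (ThetaS.Gm R) (ThetaS.Line R) T).inv ≫ ((ThetaS.lineAction R).act ▷ T) ≫ v = (ThetaS.Gm R ◁ v) ≫ a.act →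
        lift ((1 : T ⟶ ThetaS.Gm R) ≫ (CoactBr.pt (ThetaS.linePt (ThetaS.zPow R 1)) : ThetaS.Gm R ⟶ ThetaS.Line R)) (𝟙 T) ≫ u =
          lift ((1 : T ⟶ ThetaS.Gm R) ≫ (CoactBr.pt (ThetaS.linePt (ThetaS.zPow R 1)) : ThetaS.Gm R ⟶ ThetaS.Line R)) (𝟙 T) ≫ v →
        u = v) ∧
    (∀ (x : T ⟶ X) (u : ThetaS.Line R ⊗ T ⟶ X),
        ((CoactBr.pt (ThetaS.linePt (ThetaS.zPow R 1)) : ThetaS.Gm R ⟶ ThetaS.Line R) ▷ T) ≫ u = (ThetaS.Gm R ◁ x) ≫ a.act →
        (α_ (ThetaS.Gm R) (ThetaS.Line R) T).inv ≫ ((ThetaS.lineAction R).act ▷ T) ≫ u =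
          (ThetaS.Gm R ◁ u) ≫ a.act) := by
  classical
  have hj : (CoactBr.pt (ThetaS.linePt (ThetaS.zPow R 1)) : ThetaS.Gm R ⟶ ThetaS.Line R) =
      Groth.Agent.Lib.Helper7.GmLine.jj R := rfl
  rw [hj]
  generalize hjj : Groth.Agent.Lib.Helper7.GmLine.jj R = j
  have hB : ∀ {Y : Over (Spec (CommRingCat.of R))} (g h : Y ⟶ ThetaS.Gm R),
      lift g (h ≫ j) ≫ (ThetaS.lineAction R).act = (g * h) ≫ j := by
    intro Y g h
    rw [← hjj]
    exact Groth.Agent.Lib.Helper7.GmLine.lift_jj_act R g h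
  have hBw : (ThetaS.Gm R ◁ j) ≫ (ThetaS.lineAction R).act = μ[ThetaS.Gm R] ≫ j := by
    rw [← hjj]
    exact Groth.Agent.Lib.Helper7.GmLine.whiskerLeft_jj_act R
  have hD1 : IsSchemeTheoreticallyDominant (j ▷ T).left := by
    rw [← hjj]
    exact Groth.Agent.Lib.Helper7.GmLine.isSchemeTheoreticallyDominant_jj_whiskerRight R T
  have hD2 : IsSchemeTheoreticallyDominant (ThetaS.Gm R ◁ (j ▷ T)).left := by
    rw [← hjj]
    exact Groth.Agent.Lib.Helper7.GmLine.isSchemeTheoreticallyDominant_whiskerLeft_jj_whiskerRight R T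
  clear hjj hj
  refine ⟨fun u v hu hv huv => ?_, fun x u hx => ?_⟩
  · -- the section at 1
    have hs' : (ThetaS.Gm R ◁ lift ((1 : T ⟶ ThetaS.Gm R) ≫ j) (𝟙 T)) ≫
        (α_ (ThetaS.Gm R) (ThetaS.Line R) T).inv =
        lift (lift (fst (ThetaS.Gm R) T) ((1 : ThetaS.Gm R ⊗ T ⟶ ThetaS.Gm R) ≫ j))
          (snd (ThetaS.Gm R) T) := by
      apply CartesianMonoidalCategory.hom_ext
      · apply CartesianMonoidalCategory.hom_ext <;> simp
      · simp
    have hs : (ThetaS.Gm R ◁ lift ((1 : T ⟶ ThetaS.Gm R) ≫ j) (𝟙 T)) ≫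
        (α_ (ThetaS.Gm R) (ThetaS.Line R) T).inv ≫ ((ThetaS.lineAction R).act ▷ T) = j ▷ T := by
      rw [← Category.assoc, hs', lift_whiskerRight, hB, _root_.mul_one]
      apply CartesianMonoidalCategory.hom_ext <;> simp
    have key : ∀ w : ThetaS.Line R ⊗ T ⟶ X,
        (α_ (ThetaS.Gm R) (ThetaS.Line R) T).inv ≫ ((ThetaS.lineAction R).act ▷ T) ≫ w =
          (ThetaS.Gm R ◁ w) ≫ a.act →
        (j ▷ T) ≫ w = (ThetaS.Gm R ◁ (lift ((1 : T ⟶ ThetaS.Gm R) ≫ j) (𝟙 T) ≫ w)) ≫ a.act := by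
      intro w hw
      rw [MonoidalCategory.whiskerLeft_comp, Category.assoc, ← hw, ← hs]
      simp only [Category.assoc]
    refine Groth.Agent.Lib.Helper7.SchDominant.ext_of_isSchemeTheoreticallyDominant (j ▷ T) u v ?_
    rw [key u hu, key v hv, huv]
  · refine Groth.Agent.Lib.Helper7.SchDominant.ext_of_isSchemeTheoreticallyDominant
      (ThetaS.Gm R ◁ (j ▷ T)) _ _ ?_
    have h1 : (ThetaS.Gm R ◁ (j ▷ T)) ≫ (α_ (ThetaS.Gm R) (ThetaS.Line R) T).inv ≫
        ((ThetaS.lineAction R).act ▷ T) ≫ u =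
        (α_ (ThetaS.Gm R) (ThetaS.Gm R) T).inv ≫ (μ[ThetaS.Gm R] ▷ T) ≫
          (ThetaS.Gm R ◁ x) ≫ a.act := by
      rw [← hx, associator_inv_naturality_middle_assoc, ← comp_whiskerRight_assoc, hBw,
        comp_whiskerRight_assoc]
    have h2 : (ThetaS.Gm R ◁ (j ▷ T)) ≫ (ThetaS.Gm R ◁ u) ≫ a.act =
        (α_ (ThetaS.Gm R) (ThetaS.Gm R) T).inv ≫ (μ[ThetaS.Gm R] ▷ T) ≫
          (ThetaS.Gm R ◁ x) ≫ a.act := by
      rw [← MonoidalCategory.whiskerLeft_comp_assoc, hx, MonoidalCategory.whiskerLeft_comp_assoc,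
        ← whisker_exchange_assoc, a.mul_act, associator_naturality_right_assoc,
        Iso.inv_hom_id_assoc]
    rw [h1, h2]

end Groth.Agent.S19039
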