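import Groth.Statements.S19041
import Mathlib
import Groth.Agent.Lib.Helper95.GcMod
-- import your own Groth.Agent.* helpers here

set_option autoImplicit false
universe u
open Dieu

namespace Groth.Agent.S19041

/-- Let `k` be a perfect field of characteristic `2` and `c` a natural number, and consider the explicit
`2c`-dimensional `k`-space on `X_1, …, X_c, Y_1, …, Y_c` with its operators `F` and `V` (`F Y_j =
0`; `F X_j = X_{j/2}` for `j` even and `Y_{c-(j-1)/2}` for `j` odd; `V Y_j = Y_{2j}` when `2j ≤ c`,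
else `0`; `V X_j = Y_{2c-2j+1}` when `2j > c`, else `0`). For `j = 2^e l` with `l` odd and `c < 2j ≤
2c`, and for `j'` with `c < 2j' ≤ 2c` and `n` with `2^n (2c - 2j' + 1) = c - (l-1)/2`, one has
`F^{e+1} X_j + V^{n+1} X_{j'} = 0`. (Stated over any perfect field of characteristic `2`; the source
works over an algebraically closed one.) -/
theorem result (c : ℕ) (k : Type u) [Field k] [CharP k 2] [PerfectRing k 2]
    (j e l : ℕ) (hj : j = 2 ^ e * l) (hl : Odd l) (hjc : j ≤ c) (hcj : c < 2 * j)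
    (j' n : ℕ) (hj'c : j' ≤ c) (hcj' : c < 2 * j') (hn : 2 ^ n * (2 * c - 2 * j' + 1) = c - (l - 1) / 2) :
    (W4c6eohyperellchar2.F c k)^[e + 1] (W4c6eohyperellchar2.X c k j) + (W4c6eohyperellchar2.V c k)^[n + 1] (W4c6eohyperellchar2.X c k j') = 0 := by
  have stepF : ∀ (e l : ℕ), 1 ≤ l → 2 ^ e * l ≤ c →
      (W4c6eohyperellchar2.F c k)^[e] (W4c6eohyperellchar2.X c k (2 ^ e * l)) =
        W4c6eohyperellchar2.X c k l := by
    intro e
    induction e with
    | zero => intro l _ _; simp
    | succ e ih =>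
      intro l hl1 hlc
      rw [Function.iterate_succ_apply]
      have h2 : 2 ^ (e + 1) * l = 2 * (2 ^ e * l) := by ring
      rw [h2, Groth.Agent.Lib.Helper95.gc_F_X_even c k (2 ^ e * l)
        (Nat.mul_pos (by positivity) hl1) (by omega)]
      exact ih l hl1 (by omega)
  have stepV : ∀ (n m : ℕ), 1 ≤ m → 2 ^ n * m ≤ c →
      (W4c6eohyperellchar2.V c k)^[n] (W4c6eohyperellchar2.Y c k m) =
        W4c6eohyperellchar2.Y c k (2 ^ n * m) := by
    intro n
    induction n with
    | zero => intro m _ _; simp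
    | succ n ih =>
      intro m hm1 hmc
      rw [Function.iterate_succ_apply]
      have h2 : 2 ^ (n + 1) * m = 2 ^ n * (2 * m) := by ring
      have hpos : 1 ≤ 2 ^ n := Nat.one_le_two_pow
      have h2m : 2 * m ≤ c := by
        calc 2 * m ≤ 2 ^ n * (2 * m) := Nat.le_mul_of_pos_left _ (by omega)
          _ ≤ c := by rw [← h2]; exact hmc
      rw [Groth.Agent.Lib.Helper95.gc_V_Y c k m hm1 h2m, ih (2 * m) (by omega) (by rw [← h2]; exact hmc), h2]
  obtain ⟨m, rfl⟩ := hl
  have hm : (2 * m + 1 - 1) / 2 = m := by omega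
  rw [hm] at hn
  have hlc : 2 * m + 1 ≤ c := by
    have : 1 ≤ 2 ^ e := Nat.one_le_two_pow
    calc 2 * m + 1 ≤ 2 ^ e * (2 * m + 1) := Nat.le_mul_of_pos_left _ (by omega)
      _ ≤ c := by rw [← hj]; exact hjc
  have e1 : (W4c6eohyperellchar2.F c k)^[e + 1] (W4c6eohyperellchar2.X c k j) =
      W4c6eohyperellchar2.Y c k (c - m) := by
    rw [Function.iterate_succ_apply', hj, stepF e (2 * m + 1) (by omega) (by rw [← hj]; exact hjc),
      Groth.Agent.Lib.Helper95.gc_F_X_odd c k m hlc]
  have e2 : (W4c6eohyperellchar2.V c k)^[n + 1] (W4c6eohyperellchar2.X c k j') =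
      W4c6eohyperellchar2.Y c k (c - m) := by
    rw [Function.iterate_succ_apply, Groth.Agent.Lib.Helper95.gc_V_X c k j' hj'c hcj',
      stepV n _ (by omega) (by rw [hn]; omega), hn]
  rw [e1, e2, ← two_smul k, CharTwo.two_eq_zero, zero_smul]

end Groth.Agent.S19041
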