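import Groth.Statements.S19042
import Mathlib
import Groth.Agent.Lib.Helper95.GcMod
-- import your own Groth.Agent.* helpers here

set_option autoImplicit false
universe u
open Dieu

namespace Groth.Agent.S19042

/-- Let `k` be a perfect field of characteristic `2` and `c` a natural number, and consider the explicit
`2c`-dimensional `k`-space on `X_1, …, X_c, Y_1, …, Y_c` with its operators `F` and `V` (`F Y_j =
0`; `F X_j = X_{j/2}` for `j` even and `Y_{c-(j-1)/2}` for `j` odd; `V Y_j = Y_{2j}` when `2j ≤ c`,
else `0`; `V X_j = Y_{2c-2j+1}` when `2j > c`, else `0`). The vectors `X_j` with `c < 2j ≤ 2c`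
generate it as a module over `k[F, V]`: a `k`-subspace stable under `F` and `V` containing them is
everything. (Stated over any perfect field of characteristic `2`; the source works over an
algebraically closed one.) -/
theorem result (c : ℕ) (k : Type u) [Field k] [CharP k 2] [PerfectRing k 2]
    (N : Submodule k (W4c6eohyperellchar2.GcMod c k))
    (hF : ∀ v ∈ N, W4c6eohyperellchar2.F c k v ∈ N) (hV : ∀ v ∈ N, W4c6eohyperellchar2.V c k v ∈ N)
    (hX : ∀ j : ℕ, c < 2 * j → j ≤ c → W4c6eohyperellchar2.X c k j ∈ N) : N = ⊤ := by
  have hXall : ∀ (d i : ℕ), c - i = d → 1 ≤ i → i ≤ c → W4c6eohyperellchar2.X c k i ∈ N := by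
    intro d
    induction d using Nat.strong_induction_on with
    | _ d ih =>
      intro i hd h1 hic
      by_cases h : c < 2 * i
      · exact hX i h hic
      · have h2 : 2 * i ≤ c := by omega
        rw [← Groth.Agent.Lib.Helper95.gc_F_X_even c k i h1 h2]
        exact hF _ (ih (c - 2 * i) (by omega) (2 * i) rfl (by omega) h2)
  have hYall : ∀ (m : ℕ), 1 ≤ m → m ≤ c → W4c6eohyperellchar2.Y c k m ∈ N := by
    intro m
    induction m using Nat.strong_induction_on with
    | _ m ih =>
      intro h1 hmc
      rcases Nat.even_or_odd' m with ⟨t, rfl | rfl⟩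
      · rw [← Groth.Agent.Lib.Helper95.gc_V_Y c k t (by omega) hmc]
        exact hV _ (ih t (by omega) (by omega) (by omega))
      · have hV' := Groth.Agent.Lib.Helper95.gc_V_X c k (c - t) (by omega) (by omega)
        have : 2 * c - 2 * (c - t) + 1 = 2 * t + 1 := by omega
        rw [this] at hV'
        rw [← hV']
        exact hV _ (hXall _ (c - t) rfl (by omega) (by omega))
  rw [eq_top_iff]
  rintro v -
  rw [Groth.Agent.Lib.Helper95.gc_decomp c k v]
  refine Submodule.sum_mem _ (fun i _ => ?_)
  have hi := i.isLt
  exact Submodule.add_mem _ (Submodule.smul_mem _ _ (hXall _ _ rfl (by omega) (by omega)))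
    (Submodule.smul_mem _ _ (hYall _ (by omega) (by omega)))

end Groth.Agent.S19042
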