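import Groth.Statements.S19043
import Mathlib
import Groth.Agent.Lib.Helper95.GcMod
-- import your own Groth.Agent.* helpers here

set_option autoImplicit false
universe u
open Dieu

namespace Groth.Agent.S19043

/-- Let `k` be a perfect field of characteristic `2` and `c` a natural number, and let `M` be the
explicit `2c`-dimensional `k`-space on `X_1, …, X_c, Y_1, …, Y_c` with its operators `F` and `V` (`F
Y_j = 0`; `F X_j = X_{j/2}` for `j` even and `Y_{c-(j-1)/2}` for `j` odd; `V Y_j = Y_{2j}` when `2j
≤ c`, else `0`; `V X_j = Y_{2c-2j+1}` when `2j > c`, else `0`). The classes of the `X_j` with `c <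
2j ≤ 2c` in the quotient of `M` by the `k`-span of `F(M) ∪ V(M)` are linearly independent and span
that quotient. (Stated over any perfect field of characteristic `2`; the source works over an
algebraically closed one.) -/
theorem result (c : ℕ) (k : Type u) [Field k] [CharP k 2] [PerfectRing k 2] :
    LinearIndependent k (fun j : {j : ℕ // c < 2 * j ∧ j ≤ c} =>
        Submodule.mkQ (Submodule.span k (Set.range (W4c6eohyperellchar2.F c k) ∪ Set.range (W4c6eohyperellchar2.V c k))) (W4c6eohyperellchar2.X c k j.1)) ∧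
      Submodule.span k (Set.range (fun j : {j : ℕ // c < 2 * j ∧ j ≤ c} =>
        Submodule.mkQ (Submodule.span k (Set.range (W4c6eohyperellchar2.F c k) ∪ Set.range (W4c6eohyperellchar2.V c k))) (W4c6eohyperellchar2.X c k j.1))) = ⊤ := by
  classical
  set W : Submodule k (W4c6eohyperellchar2.GcMod c k) :=
    Submodule.span k (Set.range (W4c6eohyperellchar2.F c k) ∪ Set.range (W4c6eohyperellchar2.V c k)) with hW
  -- the projection to the coordinates X_j, c < 2j ≤ 2c
  let π : W4c6eohyperellchar2.GcMod c k →ₗ[k] ({j : ℕ // c < 2 * j ∧ j ≤ c} → k) :=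
    { toFun := fun v j => W4c6eohyperellchar2.coefX v j.1
      map_add' := by
        intro v w; funext j
        simp only [W4c6eohyperellchar2.coefX, Pi.add_apply]
        split_ifs <;> simp
      map_smul' := by
        intro a v; funext j
        simp only [W4c6eohyperellchar2.coefX, Pi.smul_apply, RingHom.id_apply]
        split_ifs <;> simp }
  have hπ : ∀ v j, π v j = W4c6eohyperellchar2.coefX v j.1 := fun _ _ => rfl
  have hWker : W ≤ LinearMap.ker π := by
    rw [hW, Submodule.span_le]
    rintro u (⟨v, rfl⟩ | ⟨v, rfl⟩)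
    · rw [SetLike.mem_coe, LinearMap.mem_ker]
      funext j
      obtain ⟨j, hj1, hj2⟩ := j
      rw [hπ]
      have h1 : 1 ≤ j := by omega
      simp only [W4c6eohyperellchar2.coefX, W4c6eohyperellchar2.F, Pi.zero_apply]
      rw [dif_pos ⟨h1, hj2⟩]
      have : ¬ (1 ≤ 2 * (j - 1 + 1) ∧ 2 * (j - 1 + 1) ≤ c) := by omega
      simp only [this, ↓reduceDIte]
      simp
    · rw [SetLike.mem_coe, LinearMap.mem_ker]
      funext j
      rw [hπ]
      simp only [W4c6eohyperellchar2.coefX, W4c6eohyperellchar2.V, Pi.zero_apply]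
      split_ifs <;> rfl
  have hπX : ∀ (j' j : {j : ℕ // c < 2 * j ∧ j ≤ c}),
      π (W4c6eohyperellchar2.X c k j'.1) j = if j = j' then 1 else 0 := by
    intro j' j
    rw [hπ, Groth.Agent.Lib.Helper95.gc_coefX_X]
    obtain ⟨j, hj1, hj2⟩ := j
    obtain ⟨j', hj'1, hj'2⟩ := j'
    simp only [Subtype.mk.injEq]
    by_cases h : j = j'
    · rw [if_pos ⟨h, by omega, hj2⟩, if_pos h]
    · rw [if_neg (fun hh => h hh.1), if_neg h]
  have hYW : ∀ m : ℕ, 1 ≤ m → m ≤ c → W4c6eohyperellchar2.Y c k m ∈ W := by
    intro m h1 hmc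
    rcases Nat.even_or_odd' m with ⟨t, rfl | rfl⟩
    · rw [← Groth.Agent.Lib.Helper95.gc_V_Y c k t (by omega) hmc]
      exact Submodule.subset_span (Or.inr ⟨_, rfl⟩)
    · have hV' := Groth.Agent.Lib.Helper95.gc_V_X c k (c - t) (by omega) (by omega)
      have : 2 * c - 2 * (c - t) + 1 = 2 * t + 1 := by omega
      rw [this] at hV'
      rw [← hV']
      exact Submodule.subset_span (Or.inr ⟨_, rfl⟩)
  have hXW : ∀ i : ℕ, 1 ≤ i → 2 * i ≤ c → W4c6eohyperellchar2.X c k i ∈ W := by
    intro i h1 h2
    rw [← Groth.Agent.Lib.Helper95.gc_F_X_even c k i h1 h2]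
    exact Submodule.subset_span (Or.inl ⟨_, rfl⟩)
  constructor
  · rw [linearIndependent_iff']
    intro s g hsum j₀ hj₀
    have h1 := congrArg (W.liftQ π hWker) hsum
    rw [map_sum, map_zero] at h1
    have h2 := congrFun h1 j₀
    rw [Finset.sum_apply] at h2
    simp only [map_smul, Submodule.mkQ_apply, Submodule.liftQ_apply, Pi.smul_apply, smul_eq_mul,
      Pi.zero_apply, hπX] at h2
    rw [Finset.sum_eq_single j₀] at h2
    · simpa using h2
    · intro b _ hb
      rw [if_neg (Ne.symm hb), mul_zero]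
    · intro h; exact absurd hj₀ h
  · rw [eq_top_iff]
    rintro q -
    obtain ⟨v, rfl⟩ := Submodule.mkQ_surjective W q
    rw [Groth.Agent.Lib.Helper95.gc_decomp c k v, map_sum]
    refine Submodule.sum_mem _ (fun i _ => ?_)
    have hi := i.isLt
    rw [map_add, map_smul, map_smul]
    have hY0 : W.mkQ (W4c6eohyperellchar2.Y c k (i.val + 1)) = 0 := by
      rw [Submodule.mkQ_apply, Submodule.Quotient.mk_eq_zero]
      exact hYW _ (by omega) (by omega)
    rw [hY0, smul_zero, add_zero]
    by_cases h : 2 * (i.val + 1) ≤ c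
    · have hX0 : W.mkQ (W4c6eohyperellchar2.X c k (i.val + 1)) = 0 := by
        rw [Submodule.mkQ_apply, Submodule.Quotient.mk_eq_zero]
        exact hXW _ (by omega) h
      rw [hX0, smul_zero]
      exact Submodule.zero_mem _
    · refine Submodule.smul_mem _ _ (Submodule.subset_span ?_)
      exact ⟨⟨i.val + 1, by omega, by omega⟩, rfl⟩

end Groth.Agent.S19043
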