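import Groth.Statements.S19045
import Groth.Agent.FunFld.AS2

set_option autoImplicit false
universe u v
open FunFld
open Groth.Agent.FF

namespace Groth.Agent.S19045

/-- Let `k` be algebraically closed of characteristic `2` and `K = k(x, y)` with `y² + y = f(x)`, `K`
separable of degree `2` over `k(x)`; let `B ⊆ k` be a finite set containing `0` such that `f` has a
pole of odd order `d_β` at `x = β` for every `β ∈ B` and is integral at all other places of `k(x)`.
Then `y` is integral at the places of `K` above `x = ∞` and has order `0` at one of them, and for `α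
∈ B` and `j ∈ ℤ` the divisor of poles of `y (x - α)^j` consists of: order `max(d_α - 2j, 0)` at the
place above `α`, order exactly `d_β` above every other `β ∈ B`, order `max(j - ord_P y, 0)` at each
place `P` above `∞`, and nothing elsewhere. -/
theorem result (k : Type u) (K : Type v)
    [Field k] [IsAlgClosed k] [CharP k 2] [Field K] [Algebra k K] [Algebra (RatFunc k) K] [IsScalarTower k (RatFunc k) K]
    (hK : FunFld.IsFunctionField k K) (hdeg : Module.finrank (RatFunc k) K = 2) [Algebra.IsSeparable (RatFunc k) K]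
    (y : K) (hy : y ∉ Set.range (algebraMap (RatFunc k) K)) (f : RatFunc k)
    (heq : y ^ 2 + y = algebraMap (RatFunc k) K f)
    (B : Finset k) (h0 : (0 : k) ∈ B) (d : k → ℕ) (hd : ∀ β ∈ B, Odd (d β))
    (hpole : ∀ (p : FunFld.Place k (RatFunc k)) (β : k), β ∈ B →
      p.1 ((RatFunc.X : RatFunc k) - RatFunc.C β) < 1 → p.ord f = -(d β : ℤ))
    (hint : ∀ p : FunFld.Place k (RatFunc k), (∀ β ∈ B, 1 ≤ p.1 ((RatFunc.X : RatFunc k) - RatFunc.C β)) → p.1 f ≤ 1) :
    (∀ P : FunFld.Place k K, 1 < P.1 (algebraMap (RatFunc k) K RatFunc.X) → 0 ≤ P.ord y) ∧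
    (∃ P : FunFld.Place k K, 1 < P.1 (algebraMap (RatFunc k) K RatFunc.X) ∧ P.ord y = 0) ∧
    ∀ (α : k), α ∈ B → ∀ (j : ℤ) (P : FunFld.Place k K),
      (P.1 ((algebraMap (RatFunc k) K RatFunc.X) - (algebraMap k K α)) < 1 →
        max (-(P.ord (y * ((algebraMap (RatFunc k) K RatFunc.X) - (algebraMap k K α)) ^ j))) 0 = max ((d α : ℤ) - 2 * j) 0) ∧
      (∀ β : k, β ∈ B → β ≠ α → P.1 ((algebraMap (RatFunc k) K RatFunc.X) - (algebraMap k K β)) < 1 →
        P.ord (y * ((algebraMap (RatFunc k) K RatFunc.X) - (algebraMap k K α)) ^ j) = -(d β : ℤ)) ∧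
      (1 < P.1 (algebraMap (RatFunc k) K RatFunc.X) → max (-(P.ord (y * ((algebraMap (RatFunc k) K RatFunc.X) - (algebraMap k K α)) ^ j))) 0 = max (j - P.ord y) 0) ∧
      (P.1 (algebraMap (RatFunc k) K RatFunc.X) ≤ 1 → (∀ β : k, β ∈ B → 1 ≤ P.1 ((algebraMap (RatFunc k) K RatFunc.X) - (algebraMap k K β))) → 0 ≤ P.ord (y * ((algebraMap (RatFunc k) K RatFunc.X) - (algebraMap k K α)) ^ j)) := by
  classical
  have hKr := Groth.Agent.FF.isFunctionField_ratFunc k
  have hfd : FiniteDimensional (RatFunc k) K :=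
    FiniteDimensional.of_finrank_pos (by rw [hdeg]; norm_num)
  have halg : Algebra.IsAlgebraic (RatFunc k) K := Algebra.IsAlgebraic.of_finite _ _
  have hy0 : y ≠ 0 := AS2.y_ne_zero hy
  -- integrality of `y` above infinity
  have hinf : ∀ P : FunFld.Place k K, 1 < P.1 (algebraMap (RatFunc k) K RatFunc.X) →
      ∀ (p : FunFld.Place k (RatFunc k)) (e : ℕ), FunFld.IsOverWith P p e →
        1 < p.1 RatFunc.X ∧ p.1 f ≤ 1 := by
    intro P hP p e he
    have h1 : 1 < p.1 (RatFunc.X : RatFunc k) := by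
      by_contra hle
      rw [not_lt] at hle
      exact absurd ((Ext.le_one_iff he _).mpr hle) (not_le.mpr hP)
    refine ⟨h1, hint p fun β _ => (AS2.val_X_sub_C_of_one_lt p β h1).le⟩
  have hpart1 : ∀ P : FunFld.Place k K, 1 < P.1 (algebraMap (RatFunc k) K RatFunc.X) →
      P.1 y ≤ 1 := by
    intro P hP
    obtain ⟨p, e, he⟩ := Ext.exists_isOverWith_below (K := RatFunc k) P
    obtain ⟨h1, h2⟩ := hinf P hP p e he
    exact AS2.val_y_le_one heq P ((Ext.le_one_iff he f).mpr h2)
  refine ⟨fun P hP => (val_le_one_iff P hy0).mp (hpart1 P hP), ?_, ?_⟩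
  · -- a place above infinity where `y` is a unit
    have hXtr : Transcendental k (RatFunc.X : RatFunc k) := by
      have := RatFunc.transcendental_X (K := k)
      exact this
    obtain ⟨p, hp'⟩ := exists_pole_of_transcendental hKr hXtr
    have hp : 1 < p.1 (RatFunc.X : RatFunc k) := by
      by_contra hle
      rw [not_lt, val_le_one_iff p RatFunc.X_ne_zero] at hle
      omega
    obtain ⟨P, e, he⟩ := Ext.exists_isOver (K' := K) hKr p
    have hP : 1 < P.1 (algebraMap (RatFunc k) K RatFunc.X) := by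
      by_contra hle
      rw [not_lt] at hle
      exact absurd ((Ext.le_one_iff he _).mp hle) (not_le.mpr hp)
    by_cases h1 : P.1 y = 1
    · exact ⟨P, hP, (val_eq_one_iff P hy0).mp h1⟩
    · have hlt : P.1 y < 1 := lt_of_le_of_ne (hpart1 P hP) h1
      obtain ⟨σ, hσ⟩ := AS2.exists_conj (k := k) hdeg hy heq
      refine ⟨Groth.Agent.FF.Place.comapEquiv P σ, ?_, ?_⟩
      · rw [Place.comapEquiv_apply, σ.commutes]
        exact hP
      · rw [← val_eq_one_iff _ hy0, Place.comapEquiv_apply, hσ,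
          Valuation.map_add_eq_of_lt_right P.1 (by rw [map_one]; exact hlt), map_one]
  · intro α hα n P
    obtain ⟨p, e, he⟩ := Ext.exists_isOverWith_below (K := RatFunc k) P
    have hu0 : ∀ β : k, (algebraMap (RatFunc k) K RatFunc.X) - (algebraMap k K β) ≠ 0 := by
      intro β
      rw [AS2.sub_eq]
      exact AS2.j_ne_zero (AS2.X_sub_C_ne_zero β)
    have hordu : ∀ β : k, P.ord ((algebraMap (RatFunc k) K RatFunc.X) - (algebraMap k K β)) =
        e * p.ord (RatFunc.X - RatFunc.C β) := by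
      intro β
      rw [AS2.sub_eq, Ext.ord_eq he]
    refine ⟨?_, ?_, ?_, ?_⟩
    · intro h
      rw [AS2.sub_eq, Ext.lt_one_iff he] at h
      obtain ⟨he2, hoy⟩ := AS2.ramified_of_odd_pole hdeg heq he (hd α hα) (hpole p α hα h)
      rw [AS2.ord_mul_zpow P hy0 (hu0 α), hordu, AS2.ord_X_sub_C p α h, hoy, he2]
      congr 1
      push_cast
      ring
    · intro β hβ hβα h
      rw [AS2.sub_eq, Ext.lt_one_iff he] at h
      obtain ⟨he2, hoy⟩ := AS2.ramified_of_odd_pole hdeg heq he (hd β hβ) (hpole p β hβ h)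
      have h1 : p.ord (RatFunc.X - RatFunc.C α) = 0 :=
        (val_eq_one_iff p (AS2.X_sub_C_ne_zero α)).mp (AS2.val_X_sub_C_eq_one p hβα h)
      rw [AS2.ord_mul_zpow P hy0 (hu0 α), hordu, h1, hoy]
      ring
    · intro hP
      obtain ⟨h1, h2⟩ := hinf P hP p e he
      have he1 : e = 1 := AS2.unramified_of_val_le_one (k := k) hdeg hy heq he h2
      rw [AS2.ord_mul_zpow P hy0 (hu0 α), hordu, AS2.ord_X_sub_C_of_one_lt p α h1, he1]
      congr 1
      push_cast
      ring
    · intro hP hB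
      have hpX : p.1 (RatFunc.X : RatFunc k) ≤ 1 := (Ext.le_one_iff he _).mp hP
      have hpB : ∀ β ∈ B, 1 ≤ p.1 ((RatFunc.X : RatFunc k) - RatFunc.C β) := by
        intro β hβ
        have := hB β hβ
        rw [AS2.sub_eq] at this
        by_contra hlt
        rw [not_le] at hlt
        exact absurd ((Ext.lt_one_iff he _).mpr hlt) (not_lt.mpr this)
      have hf1 : p.1 f ≤ 1 := hint p hpB
      have hy1 : P.1 y ≤ 1 := AS2.val_y_le_one heq P ((Ext.le_one_iff he f).mpr hf1)
      have hua : p.1 ((RatFunc.X : RatFunc k) - RatFunc.C α) = 1 :=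
        le_antisymm (AS2.val_X_sub_C_le_one p α hpX) (hpB α hα)
      have h1 : p.ord (RatFunc.X - RatFunc.C α) = 0 :=
        (val_eq_one_iff p (AS2.X_sub_C_ne_zero α)).mp hua
      rw [AS2.ord_mul_zpow P hy0 (hu0 α), hordu, h1]
      have := (val_le_one_iff P hy0).mp hy1
      simpa using this

end Groth.Agent.S19045
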