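import Groth.Statements.S19047
import Groth.Agent.FunFld.AS2

set_option autoImplicit false
universe u v
open Classical
open FunFld
open Groth.Agent.FF

namespace Groth.Agent.S19047

/-- Let `k` be algebraically closed of characteristic `2`, `K = k(x, y)` with `y² + y = f(x)` separable
of degree `2` over `k(x)`, `B ⊆ k` a finite set containing `0` with `f` having a pole of odd order
`d_β` at `x = β` for `β ∈ B` and integral elsewhere, `c_β = (d_β - 1)/2`, and `P_β` a place of `K`
above `x = β`. With `H¹(X, O)` of the smooth projective model written as repartitions modulo `W =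
A(0) + K` (everywhere-integral repartitions plus constants) and its Frobenius induced by
componentwise squaring, for `α ∈ B` and `j ≥ 0`: the Frobenius of the class of the repartition
supported at `P_α` with value `y (x - α)^j` is the class of the one with value `y (x - α)^{2j}` when
`2j ≤ c_α`, and is `0` when `2j > c_α`. -/
theorem result (k : Type u) (K : Type v)
    [Field k] [IsAlgClosed k] [CharP k 2] [Field K] [Algebra k K] [Algebra (RatFunc k) K] [IsScalarTower k (RatFunc k) K]
    (hK : FunFld.IsFunctionField k K) (hdeg : Module.finrank (RatFunc k) K = 2) [Algebra.IsSeparable (RatFunc k) K]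
    (y : K) (hy : y ∉ Set.range (algebraMap (RatFunc k) K)) (f : RatFunc k)
    (heq : y ^ 2 + y = algebraMap (RatFunc k) K f)
    (B : Finset k) (h0 : (0 : k) ∈ B) (d : k → ℕ) (hd : ∀ β ∈ B, Odd (d β))
    (hpole : ∀ (p : FunFld.Place k (RatFunc k)) (β : k), β ∈ B →
      p.1 ((RatFunc.X : RatFunc k) - RatFunc.C β) < 1 → p.ord f = -(d β : ℤ))
    (hint : ∀ p : FunFld.Place k (RatFunc k), (∀ β ∈ B, 1 ≤ p.1 ((RatFunc.X : RatFunc k) - RatFunc.C β)) → p.1 f ≤ 1)
    (Pl : k → FunFld.Place k K) (hPl : ∀ β ∈ B, (Pl β).1 ((algebraMap (RatFunc k) K RatFunc.X) - (algebraMap k K β)) < 1)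
    (α : k) (hα : α ∈ B) (j : ℕ) :
    (4 * j + 1 ≤ d α → (Pi.single (Pl α) ((y * ((algebraMap (RatFunc k) K RatFunc.X) - (algebraMap k K α)) ^ j) ^ 2) : FunFld.Place k K → K) - (Pi.single (Pl α) (y * ((algebraMap (RatFunc k) K RatFunc.X) - (algebraMap k K α)) ^ (2 * j)) : FunFld.Place k K → K) ∈ (FunFld.AD (0 : FunFld.Divisor k K) ⊔ LinearMap.range (FunFld.diag k K))) ∧
    (d α < 4 * j + 1 → (Pi.single (Pl α) ((y * ((algebraMap (RatFunc k) K RatFunc.X) - (algebraMap k K α)) ^ j) ^ 2) : FunFld.Place k K → K) ∈ (FunFld.AD (0 : FunFld.Divisor k K) ⊔ LinearMap.range (FunFld.diag k K))) := by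
  have hfd : FiniteDimensional (RatFunc k) K :=
    FiniteDimensional.of_finrank_pos (by rw [hdeg]; norm_num)
  have halg : Algebra.IsAlgebraic (RatFunc k) K := Algebra.IsAlgebraic.of_finite _ _
  have hcharK : CharP K 2 := AS2.charP_K (k := k)
  have hy0 : y ≠ 0 := AS2.y_ne_zero hy
  obtain ⟨p₀, e, he⟩ := Ext.exists_isOverWith_below (K := RatFunc k) (Pl α)
  have hp₀ : p₀.1 ((RatFunc.X : RatFunc k) - RatFunc.C α) < 1 := by
    have := hPl α hα
    rwa [AS2.sub_eq, Ext.lt_one_iff he] at this
  obtain ⟨he2, hoy⟩ := AS2.ramified_of_odd_pole hdeg heq he (hd α hα) (hpole p₀ α hα hp₀)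
  subst he2
  set u : K := (algebraMap (RatFunc k) K RatFunc.X) - (algebraMap k K α) with hu
  have hu0 : u ≠ 0 := by
    rw [hu, AS2.sub_eq]
    exact AS2.j_ne_zero (AS2.X_sub_C_ne_zero α)
  have hordu : (Pl α).ord u = 2 := by
    rw [hu, AS2.sub_eq, Ext.ord_eq he, AS2.ord_X_sub_C p₀ α hp₀]
    norm_num
  have hkey : (y * u ^ j) ^ 2 = y * u ^ (2 * j) +
      algebraMap (RatFunc k) K (f * ((RatFunc.X : RatFunc k) - RatFunc.C α) ^ (2 * j)) := by
    rw [map_mul, map_pow, ← AS2.sub_eq, ← hu, ← heq, mul_pow, ← pow_mul, mul_comm j 2]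
    have : y ^ 2 = y + (y ^ 2 + y) := by
      rw [add_comm (y ^ 2) y, ← add_assoc, CharTwo.add_self_eq_zero, zero_add]
    ring_nf
    ring_nf at this
    linear_combination (u ^ (j * 2)) * this
  have hmem := AS2.single_mem hdeg he hp₀ (f * ((RatFunc.X : RatFunc k) - RatFunc.C α) ^ (2 * j))
  constructor
  · intro _
    rw [← Pi.single_sub, hkey, add_sub_cancel_left]
    exact hmem
  · intro hlt
    rw [hkey, Pi.single_add]
    refine Submodule.add_mem _ (Submodule.mem_sup_left ?_) hmem
    rw [AS2.mem_AD_zero_iff]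
    intro P
    by_cases hP : P = Pl α
    · subst hP
      rw [Pi.single_eq_same, val_le_one_iff _ (mul_ne_zero hy0 (pow_ne_zero _ hu0)),
        ord_mul _ hy0 (pow_ne_zero _ hu0), ord_pow, hoy, hordu]
      push_cast
      omega
    · rw [Pi.single_eq_of_ne hP, map_zero]
      exact zero_le_one

end Groth.Agent.S19047
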