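import Groth.Statements.S19048
import Mathlib
import Groth.Agent.Lib.Helper95.GcNil
-- import your own Groth.Agent.* helpers here

set_option autoImplicit false
universe u
open Dieu

namespace Groth.Agent.S19048

section Helpers
open W4c6eohyperellchar2 Groth.Agent.Lib.Helper95

variable (c : ℕ) (k : Type u) [Field k] [CharP k 2] [PerfectRing k 2] (a : ℕ → k)

omit [CharP k 2] [PerfectRing k 2] in
theorem coefX_eq (v : GcMod c k) (j : Fin c) : coefX v (j.val + 1) = v.1 j := by
  unfold coefX
  have hj := j.isLt
  rw [dif_pos ⟨by omega, by omega⟩]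
  congr 1

omit [CharP k 2] [PerfectRing k 2] in
theorem NF_fst (v : GcMod c k) (i : Fin c) : (NF c k a v).1 i =
    if (i.val + 1) % 2 = 0 then coefX v ((i.val + 1) / 2) ^ 2 else 0 := rfl

omit [CharP k 2] [PerfectRing k 2] in
theorem NF_snd (v : GcMod c k) (i : Fin c) : (NF c k a v).2 i =
    if (i.val + 1) % 2 = 1 then
      Finset.univ.sum (fun j : Fin c =>
        if c < 2 * (j.val + 1) ∧ (j.val + 1) + i.val / 2 ≤ c then v.1 j ^ 2 * a ((j.val + 1) + i.val / 2) else 0)
    else 0 := rfl

theorem part_b (ha : a c ≠ 0) (i : ℕ) (hi : i ≤ 2 * c) :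
    NV c k a '' (Nfil c k i : Set (GcMod c k)) = (Nfil c k (i / 2) : Set (GcMod c k)) := by
  apply Set.Subset.antisymm
  · rintro _ ⟨v, hv, rfl⟩
    rw [SetLike.mem_coe, gcN_mem_Nfil_iff] at hv ⊢
    obtain ⟨h2, h1⟩ := hv
    refine ⟨fun idx hidx => ?_, fun idx _ => rfl⟩
    rw [gcN_NV_snd]
    have hidx' := idx.isLt
    have e1 : coefY v (2 * (idx.val + 1)) = 0 := by
      unfold coefY
      split_ifs with h
      · exact h2 _ (by simp only; omega)
      · rfl
    rw [e1, map_zero, zero_add]
    apply Finset.sum_eq_zero
    intro j _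
    split_ifs with h
    · rw [h1 j (by omega), zero_mul, map_zero]
    · rfl
  · -- the image is a subspace
    let W' : Submodule k (GcMod c k) :=
      { carrier := NV c k a '' (Nfil c k i : Set (GcMod c k))
        zero_mem' := ⟨0, Submodule.zero_mem _, by
          have := gcN_NV_smul c k a 0 0
          simpa using this⟩
        add_mem' := by
          rintro _ _ ⟨v, hv, rfl⟩ ⟨w, hw, rfl⟩
          exact ⟨v + w, Submodule.add_mem _ hv hw, gcN_NV_add c k a v w⟩
        smul_mem' := by
          rintro r _ ⟨v, hv, rfl⟩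
          refine ⟨r ^ 2 • v, Submodule.smul_mem _ _ hv, ?_⟩
          rw [gcN_NV_smul, frobeniusEquiv_symm_pow] }
    have hW' : ∀ x, x ∈ W' ↔ x ∈ NV c k a '' (Nfil c k i : Set (GcMod c k)) := fun x => Iff.rfl
    have hY : ∀ m, 1 ≤ m → m ≤ i / 2 → Y c k m ∈ W' := by
      intro m
      induction m using Nat.strong_induction_on with
      | _ m ih =>
        intro h1 hm
        by_cases h2m : 2 * m ≤ c
        · rw [hW']
          refine ⟨Y c k (2 * m), ?_, gcN_NV_Y c k a m h1 h2m⟩
          rw [SetLike.mem_coe]
          apply Submodule.subset_span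
          left
          exact ⟨2 * m, ⟨by omega, by omega⟩, rfl⟩
        · have hmc : m ≤ c := by omega
          have hn1 : 1 ≤ 2 * (c - m) + 1 := by omega
          have hnc : 2 * (c - m) + 1 ≤ c := by omega
          have hnodd : (2 * (c - m) + 1) % 2 = 1 := by omega
          have hXn : NV c k a (X c k (2 * (c - m) + 1)) ∈ W' := by
            rw [hW']
            refine ⟨X c k (2 * (c - m) + 1), ?_, rfl⟩
            rw [SetLike.mem_coe]
            apply Submodule.subset_span
            right
            exact ⟨2 * (c - m) + 1, ⟨by omega, by omega⟩, rfl⟩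
          have hdec := gcN_decomp c k (NV c k a (X c k (2 * (c - m) + 1)))
          simp only [gcN_NV_fst, Pi.zero_apply, zero_smul, zero_add] at hdec
          let idx₀ : Fin c := ⟨m - 1, by omega⟩
          rw [← Finset.add_sum_erase Finset.univ _ (Finset.mem_univ idx₀)] at hdec
          have hrest : ∑ x ∈ Finset.univ.erase idx₀,
              (NV c k a (X c k (2 * (c - m) + 1))).2 x • Y c k (x.val + 1) ∈ W' := by
            apply Submodule.sum_mem
            intro x hx
            have hxne : x ≠ idx₀ := (Finset.mem_erase.mp hx).1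
            have hxv : x.val ≠ m - 1 := fun h => hxne (Fin.ext h)
            by_cases hlt : x.val + 1 < m
            · exact Submodule.smul_mem _ _ (ih (x.val + 1) hlt (by omega) (by omega))
            · rw [gcN_NV_X c k a _ hn1 hnc hnodd, if_neg (by omega), zero_smul]
              exact Submodule.zero_mem _
          have hmain : (NV c k a (X c k (2 * (c - m) + 1))).2 idx₀ • Y c k (idx₀.val + 1) ∈ W' := by
            have : (NV c k a (X c k (2 * (c - m) + 1))).2 idx₀ • Y c k (idx₀.val + 1) =
                NV c k a (X c k (2 * (c - m) + 1)) - ∑ x ∈ Finset.univ.erase idx₀,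
                  (NV c k a (X c k (2 * (c - m) + 1))).2 x • Y c k (x.val + 1) := by
              rw [eq_sub_iff_add_eq]
              exact hdec.symm
            rw [this]
            exact Submodule.sub_mem _ hXn hrest
          rw [gcN_NV_X c k a _ hn1 hnc hnodd] at hmain
          have e1 : idx₀.val + 1 = m := by show m - 1 + 1 = m; omega
          have e2 : idx₀.val + 1 + (2 * (c - m) + 1 - 1) / 2 = c := by
            show m - 1 + 1 + (2 * (c - m) + 1 - 1) / 2 = c
            omega
          rw [e2, if_pos le_rfl, e1] at hmain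
          have hne : (frobeniusEquiv k 2).symm (a c) ≠ 0 := by
            rw [Ne, map_eq_zero_iff _ (frobeniusEquiv k 2).symm.injective]
            exact ha
          exact (Submodule.smul_mem_iff W' hne).1 hmain
    intro w hw
    rw [SetLike.mem_coe, gcN_mem_Nfil_iff] at hw
    obtain ⟨h2, h1⟩ := hw
    rw [← hW', gcN_decomp c k w]
    apply Submodule.sum_mem
    intro j _
    have hj := j.isLt
    rw [h1 j (by omega), zero_smul, zero_add]
    by_cases hjm : min (i / 2) c < j.val + 1
    · rw [h2 j hjm, zero_smul]
      exact Submodule.zero_mem _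
    · exact Submodule.smul_mem _ _ (hY (j.val + 1) (by omega) (by omega))

omit [CharP k 2] [PerfectRing k 2] in
theorem part_c (ha : a c ≠ 0) (i : ℕ) (hi : i ≤ 2 * c) :
    NF c k a ⁻¹' (Nfil c k i : Set (GcMod c k)) =
      (Nfil c k (c + (i + 1) / 2) : Set (GcMod c k)) := by
  ext v
  rw [Set.mem_preimage, SetLike.mem_coe, SetLike.mem_coe, gcN_mem_Nfil_iff, gcN_mem_Nfil_iff]
  constructor
  · rintro ⟨cond1, cond2⟩
    refine ⟨fun j hj => absurd hj (by have := j.isLt; omega), ?_⟩
    have key : ∀ n, ∀ j : Fin c, j.val = n → j.val + 1 ≤ 2 * c - (c + (i + 1) / 2) → v.1 j = 0 := by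
      intro n
      induction n using Nat.strong_induction_on with
      | _ n ih =>
        intro j hjn hj
        have hjc := j.isLt
        by_cases h2 : 2 * (j.val + 1) ≤ c
        · have h := cond2 ⟨2 * (j.val + 1) - 1, by omega⟩ (by simp only; omega)
          rw [NF_fst] at h
          have e1 : (2 * (j.val + 1) - 1 + 1) % 2 = 0 := by omega
          have e2 : (2 * (j.val + 1) - 1 + 1) / 2 = j.val + 1 := by omega
          simp only [e1, e2, if_true] at h
          rw [coefX_eq] at h
          exact pow_eq_zero_iff (two_ne_zero) |>.1 h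
        · have h := cond1 ⟨2 * (c - (j.val + 1)), by omega⟩ (by simp only; omega)
          rw [NF_snd] at h
          have e1 : (2 * (c - (j.val + 1)) + 1) % 2 = 1 := by omega
          have e2 : (2 * (c - (j.val + 1))) / 2 = c - (j.val + 1) := by omega
          simp only [e1, e2, if_true] at h
          rw [Finset.sum_eq_single j] at h
          · rw [if_pos ⟨by omega, by omega⟩] at h
            have e3 : j.val + 1 + (c - (j.val + 1)) = c := by omega
            rw [e3] at h
            have := (mul_eq_zero.mp h).resolve_right ha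
            exact pow_eq_zero_iff (two_ne_zero) |>.1 this
          · intro j' _ hj'
            split_ifs with hcond
            · have hlt : j'.val < j.val := by
                have : j'.val ≠ j.val := fun h => hj' (Fin.ext h)
                omega
              rw [ih j'.val (by omega) j' rfl (by omega)]
              ring
            · rfl
          · intro h'
            exact absurd (Finset.mem_univ _) h'
    exact fun j hj => key j.val j rfl hj
  · rintro ⟨-, hs⟩
    constructor
    · intro idx hidx
      have hidxc := idx.isLt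
      rw [NF_snd]
      split_ifs with hodd
      · apply Finset.sum_eq_zero
        intro j _
        split_ifs with hcond
        · rw [hs j (by omega)]
          ring
        · rfl
      · rfl
    · intro idx hidx
      have hidxc := idx.isLt
      rw [NF_fst]
      split_ifs with heven
      · have hn1 : 1 ≤ (idx.val + 1) / 2 := by omega
        have := coefX_eq c k v ⟨(idx.val + 1) / 2 - 1, by omega⟩
        have e : (idx.val + 1) / 2 - 1 + 1 = (idx.val + 1) / 2 := by omega
        simp only [e] at this
        rw [this, hs _ (by simp only; omega)]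
        ring
      · rfl

end Helpers


/-- Let `k` be a perfect field of characteristic `2`, `c` a natural number and `a_1, …, a_c ∈ k` with
`a_c ≠ 0`. On the `2c`-dimensional `k`-space with basis `λ_1, …, λ_c, σ_1, …, σ_c` let `F` be
Frobenius-semilinear with `F λ_j = 0`, `F σ_j = σ_{2j}` for `2j ≤ c`, `F σ_j = Σ_{i=j}^{c} a_i
λ_{2i-2j+1}` for `2j > c`, and `V` inverse-Frobenius-semilinear with `V λ_j = λ_{j/2}` (`j` even),
`0` (`j` odd), `V σ_j = 0` (`j` even), `V σ_j = Σ_{i=(j+1)/2}^{c} a_i^{1/2} λ_{i-(j-1)/2}` (`j` odd)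
— the shape of `F` and `V` on the block of the first de Rham cohomology of `y² − y = f(x)` belonging
to a branch point with invariant `d = 2c + 1`, `a_i` the coefficients of the odd polynomial `f_α`.
Put `N_i = ⟨λ_1, …, λ_i⟩` for `i ≤ c` and `N_i = ⟨λ_1, …, λ_c, σ_{2c-i+1}, …, σ_c⟩` for `c ≤ i ≤
2c`. Then for `0 ≤ i ≤ 2c`: `dim N_i = i`, `V(N_i) = N_{⌊i/2⌋}` and `F⁻¹(N_i) = N_{c+⌈i/2⌉}`; so
`(N_i)` is a final filtration with `dim V(N_i) = ⌊i/2⌋`. (The published statement adjoins the `σ_j`
starting from `σ_1`; then `V(N_{c+1})` contains `V σ_1`, whose `λ_c`-coefficient is a square root of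
`a_c ≠ 0`, so it is not `N_{⌊(c+1)/2⌋}` once `c ≥ 2`; adjoining them from `σ_c` downward, as here,
makes both identities hold.) -/
theorem result (c : ℕ) (k : Type u) [Field k] [CharP k 2] [PerfectRing k 2]
    (a : ℕ → k) (ha : a c ≠ 0) (i : ℕ) (hi : i ≤ 2 * c) :
    Module.finrank k (W4c6eohyperellchar2.Nfil c k i) = i ∧
      W4c6eohyperellchar2.NV c k a '' (W4c6eohyperellchar2.Nfil c k i : Set (W4c6eohyperellchar2.GcMod c k)) = (W4c6eohyperellchar2.Nfil c k (i / 2) : Set (W4c6eohyperellchar2.GcMod c k)) ∧
      W4c6eohyperellchar2.NF c k a ⁻¹' (W4c6eohyperellchar2.Nfil c k i : Set (W4c6eohyperellchar2.GcMod c k)) = (W4c6eohyperellchar2.Nfil c k (c + (i + 1) / 2) : Set (W4c6eohyperellchar2.GcMod c k)) := by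
  exact ⟨Groth.Agent.Lib.Helper95.gcN_finrank_Nfil c k i hi, part_b c k a ha i hi, part_c c k a ha i hi⟩

end Groth.Agent.S19048
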