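import Groth.Statements.S1905
-- import your own Groth.Agent.* helpers here
import Groth.Agent.Lib.Helper85.IntMult.DivPull
import Groth.Agent.Lib.Helper85.IntMult.RelDimGeneric

set_option autoImplicit false
universe u
open CategoryTheory AlgebraicGeometry
open Cyc

namespace Groth.Agent.S1905

/-- Let f : X → Y be a flat morphism, locally of finite type, of relative dimension r between integral
schemes, and g a nonzero rational function on Y, taken in the residue field at f(η_X) (the generic
point of Y). Then f^*(div_Y g) = div_X(g ∘ f) coefficientwise, where g ∘ f is the image of g in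
κ(η_X). A pair (X, δ) with Cyc.IsSetup plays the role of a scheme locally of finite type over a
fixed base with a dimension function (X locally Noetherian with universally catenary local rings, δ
a dimension function), and Cyc.DeltaCompat records that the dimension function upstairs is the
induced one. -/
theorem result (X Y : Scheme.{u}) [IsIntegral X] [IsIntegral Y] (δX : X → ℤ) (δY : Y → ℤ) (hX : Cyc.IsSetup X δX) (hY : Cyc.IsSetup Y δY) (f : X ⟶ Y) [Flat f] [LocallyOfFiniteType f] (r : ℕ) (hr : Cyc.HasRelDim f r) (hδ : Cyc.DeltaCompat f δX δY) (g : Y.residueField (f (genericPoint X))) (hg : g ≠ 0) : Cyc.pullFun f δX δY r (Cyc.divFun δY (f (genericPoint X)) g) = Cyc.divFun δX (genericPoint X) (f.residueFieldMap (genericPoint X) g) := by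
  have hc : ∀ x : X, Groth.Agent.Lib.Helper85.DivPull.GenFib f x → δX x = δY (f x) + (r : ℤ) :=
    fun x hmax => Groth.Agent.Lib.Helper85.RelDimGeneric.delta_eq_add_of_generic f r hr δX δY hδ
      x hmax
  funext x
  rw [Groth.Agent.Lib.Helper85.DivPull.pullFun_divFun_eq f δY δX hY hX (r : ℤ) hc
    (f (genericPoint X)) g hg x]
  have hgenη : Groth.Agent.Lib.Helper85.DivPull.GenFib f (genericPoint X) := by
    intro y _ hy
    exact (hy.antisymm (genericPoint_specializes y)).eq
  have huniq : ∀ s : {ξ' : X // f ξ' = f (genericPoint X) ∧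
      Groth.Agent.Lib.Helper85.DivPull.GenFib f ξ'},
      s = ⟨genericPoint X, rfl, hgenη⟩ := by
    rintro ⟨ξ', h1, h2⟩
    apply Subtype.ext
    exact (h2 (genericPoint X) h1.symm (genericPoint_specializes ξ')).symm
  let hU : Unique {ξ' : X // f ξ' = f (genericPoint X) ∧
      Groth.Agent.Lib.Helper85.DivPull.GenFib f ξ'} :=
    ⟨⟨⟨genericPoint X, rfl, hgenη⟩⟩, huniq⟩
  rw [finsum_unique]
  have hm : Groth.Agent.Lib.Helper85.DivPull.fibMult f (genericPoint X) = 1 := by
    unfold Groth.Agent.Lib.Helper85.DivPull.fibMult
    have hfield : IsField (X.presheaf.stalk (genericPoint X)) :=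
      Field.toIsField (X.functionField)
    have hI : Ideal.map (f.stalkMap (genericPoint X)).hom
        (IsLocalRing.maximalIdeal (Y.presheaf.stalk (f (genericPoint X)))) = ⊥ := by
      have hloc : IsLocalHom (f.stalkMap (genericPoint X)).hom := inferInstance
      have h1 : Ideal.map (f.stalkMap (genericPoint X)).hom
          (IsLocalRing.maximalIdeal (Y.presheaf.stalk (f (genericPoint X)))) ≤
          IsLocalRing.maximalIdeal (X.presheaf.stalk (genericPoint X)) :=
        ((IsLocalRing.local_hom_TFAE (f.stalkMap (genericPoint X)).hom).out 0 2).mp hloc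
      rw [IsLocalRing.isField_iff_maximalIdeal_eq.mp hfield] at h1
      exact le_bot_iff.mp h1
    rw [hI, (Submodule.quotEquivOfEqBot (⊥ : Ideal (X.presheaf.stalk (genericPoint X)))
      rfl).length_eq]
    let _ : Field (X.presheaf.stalk (genericPoint X)) := hfield.toField
    have h2 : Module.length (X.presheaf.stalk (genericPoint X))
        (X.presheaf.stalk (genericPoint X)) = 1 := Module.length_eq_one _ _
    rw [h2]
    rfl
  show (Groth.Agent.Lib.Helper85.DivPull.fibMult f (genericPoint X) : ℤ) *
    Cyc.divFun δX (genericPoint X) ((f.residueFieldMap (genericPoint X)).hom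
      ((Y.residueFieldCongr (rfl : f (genericPoint X) = f (genericPoint X))).hom g)) x = _
  have h0 : (Y.residueFieldCongr (rfl : f (genericPoint X) = f (genericPoint X))).hom = 𝟙 _ := by
    simp [Scheme.residueFieldCongr]
  rw [hm, h0]
  simp only [Nat.cast_one, one_mul, CommRingCat.hom_id, RingHom.id_apply]

end Groth.Agent.S1905
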