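import Groth.Statements.S1907
-- import your own Groth.Agent.* helpers here
import Groth.Agent.Lib.Helper85.IntMult.DivPull
import Groth.Agent.Lib.Helper85.IntMult.RelDimGeneric

set_option autoImplicit false
universe u
open CategoryTheory AlgebraicGeometry
open Cyc

namespace Groth.Agent.S1907

/-- Let Y be integral with δY(η_Y) = k, f : X → Y flat, locally of finite type, of relative dimension r,
and g a nonzero rational function on Y. Then f^*(div_Y g) = Σ_j n_j · div_{X_j}(g|_{X_j}) as (k + r
− 1)-cycles on X, the sum over the irreducible components X_j of X (generic points ξ_j, which map to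
η_Y) with n_j the length of O_{X,ξ_j}, and g|_{X_j} the image of g in κ(ξ_j). A pair (X, δ) with
Cyc.IsSetup plays the role of a scheme locally of finite type over a fixed base with a dimension
function (X locally Noetherian with universally catenary local rings, δ a dimension function), and
Cyc.DeltaCompat records that the dimension function upstairs is the induced one. -/
theorem result (X Y : Scheme.{u}) [IsIntegral Y] (δX : X → ℤ) (δY : Y → ℤ) (hX : Cyc.IsSetup X δX) (hY : Cyc.IsSetup Y δY) (f : X ⟶ Y) [Flat f] [LocallyOfFiniteType f] (r : ℕ) (hr : Cyc.HasRelDim f r) (hδ : Cyc.DeltaCompat f δX δY) (k : ℤ) (hk : δY (genericPoint Y) = k) (g : Y.residueField (genericPoint Y)) (hg : g ≠ 0) (x : X) : Cyc.pullFun f δX δY r (Cyc.divFun δY (genericPoint Y) g) x = ∑ᶠ ξ : {ξ : X // (∀ x' : X, x' ⤳ ξ → x' = ξ) ∧ f ξ = genericPoint Y}, ((Module.length (X.presheaf.stalk ξ.1) (X.presheaf.stalk ξ.1)).toNat : ℤ) * Cyc.divFun δX ξ.1 (f.residueFieldMap ξ.1 ((Y.residueFieldCongr ξ.2.2.symm).hom g)) x := by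
  have hc : ∀ x : X, Groth.Agent.Lib.Helper85.DivPull.GenFib f x → δX x = δY (f x) + (r : ℤ) :=
    fun x hmax => Groth.Agent.Lib.Helper85.RelDimGeneric.delta_eq_add_of_generic f r hr δX δY hδ
      x hmax
  rw [Groth.Agent.Lib.Helper85.DivPull.pullFun_divFun_eq f δY δX hY hX (r : ℤ) hc
    (genericPoint Y) g hg x]
  -- the two index sets agree
  have hiff : ∀ ξ : X, ((∀ x' : X, x' ⤳ ξ → x' = ξ) ∧ f ξ = genericPoint Y) ↔
      (f ξ = genericPoint Y ∧ Groth.Agent.Lib.Helper85.DivPull.GenFib f ξ) := by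
    intro ξ
    constructor
    · rintro ⟨h1, h2⟩
      exact ⟨h2, fun y _ hy => h1 y hy⟩
    · rintro ⟨h1, h2⟩
      refine ⟨fun x' hx' => h2 x' ?_ hx', h1⟩
      have h3 : f x' ⤳ genericPoint Y := h1 ▸ hx'.map f.continuous
      have h4 : genericPoint Y ⤳ f x' := genericPoint_specializes (f x')
      rw [h1]
      exact (h3.antisymm h4).eq
  have hbot : ∀ y : Y, y = genericPoint Y →
      IsLocalRing.maximalIdeal (Y.presheaf.stalk y) = ⊥ := by
    intro y hy
    subst hy
    exact IsLocalRing.isField_iff_maximalIdeal_eq.mp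
      (Field.toIsField (Y.functionField))
  rw [← finsum_comp_equiv (Equiv.subtypeEquivRight hiff)]
  apply finsum_congr
  intro ξ
  have hm : (Groth.Agent.Lib.Helper85.DivPull.fibMult f ξ.1 : ℤ) =
      ((Module.length (X.presheaf.stalk ξ.1) (X.presheaf.stalk ξ.1)).toNat : ℤ) := by
    unfold Groth.Agent.Lib.Helper85.DivPull.fibMult
    rw [hbot (f ξ.1) ξ.2.2, Ideal.map_bot]
    congr 2
    exact (Submodule.quotEquivOfEqBot (⊥ : Ideal (X.presheaf.stalk ξ.1)) rfl).length_eq
  show (Groth.Agent.Lib.Helper85.DivPull.fibMult f ξ.1 : ℤ) * _ = _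
  rw [hm]
  rfl

end Groth.Agent.S1907
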