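import Groth.Statements.S19093
import Mathlib
import Groth.Agent.S19092
import Groth.Agent.Lib.Helper79.FFinite
-- import your own Groth.Agent.* helpers here

set_option autoImplicit false
universe u
open FrobAlg

namespace Groth.Agent.S19093

/-- Let p be a prime, k a finite field of characteristic p, A a commutative k[[t]]-algebra of finite
type over the power series ring k[[t]], and P a prime ideal of A. Then the absolute Frobenius a ↦
a^p of the local ring A_P is a finite ring homomorphism. In particular every local ring of a scheme
of finite type over k[[t]] has finite absolute Frobenius. (The instance hypothesis that A_P has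
characteristic p always holds, A_P being a nonzero algebra over k.) The published statement is for
the local rings of a projective strictly semistable scheme over k[[t]] and adds that such a scheme
is regular with F-finite local rings; its proof uses only that the scheme is of finite type over
k[[t]], which is the form stated here. -/
theorem result (p : ℕ) [Fact p.Prime]
    (k : Type u) [Field k] [Finite k] [CharP k p]
    (A : Type u) [CommRing A] [Algebra (PowerSeries k) A] [Algebra.FiniteType (PowerSeries k) A]
    (P : Ideal A) [P.IsPrime] [CharP (Localization.AtPrime P) p] :
    (frobenius (Localization.AtPrime P) p).Finite := by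
  haveI hPS : CharP (PowerSeries k) p :=
    charP_of_injective_algebraMap (R := k) (A := PowerSeries k) PowerSeries.C_injective p
  haveI : PerfectRing k p := inferInstance
  have h1 := Groth.Agent.Lib.Helper79.FFinite.frobenius_finite_powerSeries p k
  obtain ⟨n, f, hf⟩ := Algebra.FiniteType.iff_quotient_mvPolynomial''.mp
    ‹Algebra.FiniteType (PowerSeries k) A›
  have h2 := Groth.Agent.Lib.Helper79.FFinite.frobenius_finite_mvPolynomial p h1 n
  haveI : Nontrivial A :=
    nontrivial_of_ne (0 : A) 1 (fun h => ‹P.IsPrime›.ne_top (by
      rw [Ideal.eq_top_iff_one, ← h]
      exact P.zero_mem))
  have hpA : (p : A) = 0 := by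
    have h0 : (p : PowerSeries k) = 0 := CharP.cast_eq_zero _ p
    rw [← map_natCast (algebraMap (PowerSeries k) A), h0, map_zero]
  haveI : CharP A p := ringChar.of_eq (CharP.ringChar_of_prime_eq_zero (Fact.out : p.Prime) hpA)
  have h3 : (frobenius A p).Finite :=
    Groth.Agent.Lib.Helper79.FFinite.frobenius_finite_of_surjective p
      (f : MvPolynomial (Fin n) (PowerSeries k) →+* A) hf h2
  exact (Groth.Agent.S19092.result p A h3).2 P.primeCompl (Localization.AtPrime P)

end Groth.Agent.S19093
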