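import Groth.Statements.S19106
import Mathlib
-- import your own Groth.Agent.* helpers here

set_option autoImplicit false
open HilbD

namespace Groth.Agent.S19106

/-- Let μ be a non-empty Young diagram, V the number of its cells, E the number of unordered pairs of
cells sharing a side (a cell together with the cell immediately below it, or immediately to its
right, both in μ) and Q the number of 2 × 2 blocks of cells of μ (cells c such that the cell
diagonally below-right of c is in μ, the other two corners being in μ automatically). Then V − E + Q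
− 1 = 0, stated as V + Q = E + 1 in the naturals. (The empty diagram, for which the count reads 0 −
0 + 0 − 1, is excluded.) -/
theorem result (μ : YoungDiagram) (hμ : μ ≠ ⊥) :
    μ.cells.card + (μ.cells.filter (fun c => (c.1 + 1, c.2 + 1) ∈ μ)).card =
      (μ.cells.filter (fun c => (c.1 + 1, c.2) ∈ μ)).card + (μ.cells.filter (fun c => (c.1, c.2 + 1) ∈ μ)).card + 1 := by
  classical
  set r := μ.colLen 0 with hr
  have hr1 : 1 ≤ r := by
    have : (0, 0) ∈ μ := by
      by_contra h
      apply hμ
      rw [eq_bot_iff]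
      intro c hc
      exact absurd (μ.up_left_mem (Nat.zero_le _) (Nat.zero_le _) hc) h
    exact YoungDiagram.mem_iff_lt_colLen.1 this
  have hrow_pos : ∀ i, 0 < μ.rowLen i ↔ i < r := by
    intro i
    rw [← YoungDiagram.mem_iff_lt_rowLen, YoungDiagram.mem_iff_lt_colLen]
  -- cells without right neighbour
  have hA : (μ.cells.filter (fun c => ¬ (c.1, c.2 + 1) ∈ μ)) =
      (Finset.range r).image (fun i => (i, μ.rowLen i - 1)) := by
    ext ⟨i, j⟩
    simp only [Finset.mem_filter, YoungDiagram.mem_cells, YoungDiagram.mem_iff_lt_rowLen,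
      Finset.mem_image, Finset.mem_range, Prod.mk.injEq]
    constructor
    · rintro ⟨h1, h2⟩
      refine ⟨i, (hrow_pos i).1 (by omega), rfl, by omega⟩
    · rintro ⟨i', hi', rfl, rfl⟩
      have := (hrow_pos i').2 hi'
      constructor <;> omega
  have hAcard : (μ.cells.filter (fun c => ¬ (c.1, c.2 + 1) ∈ μ)).card = r := by
    rw [hA, Finset.card_image_of_injective _ (fun a b h => by simpa using (Prod.mk.inj h).1),
      Finset.card_range]
  have hV : (μ.cells.filter (fun c => (c.1, c.2 + 1) ∈ μ)).card + r = μ.cells.card := by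
    rw [← hAcard]
    exact Finset.card_filter_add_card_filter_not _
  -- below neighbour in, diagonal out
  have hB : ((μ.cells.filter (fun c => (c.1 + 1, c.2) ∈ μ)).filter (fun c => ¬ (c.1 + 1, c.2 + 1) ∈ μ)) =
      (Finset.range (r - 1)).image (fun i => (i, μ.rowLen (i + 1) - 1)) := by
    ext ⟨i, j⟩
    simp only [Finset.mem_filter, YoungDiagram.mem_cells, YoungDiagram.mem_iff_lt_rowLen,
      Finset.mem_image, Finset.mem_range, Prod.mk.injEq]
    constructor
    · rintro ⟨⟨h1, h2⟩, h3⟩
      refine ⟨i, ?_, rfl, by omega⟩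
      have := (hrow_pos (i + 1)).1 (by omega)
      omega
    · rintro ⟨i', hi', rfl, rfl⟩
      have := (hrow_pos (i' + 1)).2 (by omega)
      have := μ.rowLen_anti i' (i' + 1) (Nat.le_succ _)
      refine ⟨⟨?_, ?_⟩, ?_⟩ <;> omega
  have hBcard : ((μ.cells.filter (fun c => (c.1 + 1, c.2) ∈ μ)).filter
      (fun c => ¬ (c.1 + 1, c.2 + 1) ∈ μ)).card = r - 1 := by
    rw [hB, Finset.card_image_of_injective _ (fun a b h => by simpa using (Prod.mk.inj h).1),
      Finset.card_range]
  have hQ : ((μ.cells.filter (fun c => (c.1 + 1, c.2) ∈ μ)).filter (fun c => (c.1 + 1, c.2 + 1) ∈ μ)) =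
      μ.cells.filter (fun c => (c.1 + 1, c.2 + 1) ∈ μ) := by
    ext ⟨i, j⟩
    simp only [Finset.mem_filter, YoungDiagram.mem_cells]
    constructor
    · rintro ⟨⟨h1, _⟩, h3⟩; exact ⟨h1, h3⟩
    · rintro ⟨h1, h3⟩
      exact ⟨⟨h1, μ.up_left_mem le_rfl (Nat.le_succ _) h3⟩, h3⟩
  have hE : (μ.cells.filter (fun c => (c.1 + 1, c.2 + 1) ∈ μ)).card + (r - 1) =
      (μ.cells.filter (fun c => (c.1 + 1, c.2) ∈ μ)).card := by
    rw [← hBcard, ← hQ]
    exact Finset.card_filter_add_card_filter_not _
  omega

end Groth.Agent.S19106
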