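import Groth.Statements.S19130
import Groth.Agent.Lib.Helper33.EtSepClosed

set_option autoImplicit false
universe u
open CategoryTheory CategoryTheory.Limits AlgebraicGeometry Opposite
open EtCoh

namespace Groth.Agent.S19130

/-- Let p be a prime and Y an integral scheme which is normal (every local ring is integrally closed in
its fraction field) and whose function field is algebraically closed. Then the étale cohomology of
the constant sheaf Z/p on Y is Z/p in degree 0 and vanishes in positive degrees: H^0(Y_et, Z/p) has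
exactly p elements and H^i(Y_et, Z/p) = 0 for i > 0. Moreover, for every nonempty open subscheme j :
U → Y, the unit morphism from the constant sheaf Z/p on Y_et to j_* of its restriction to U is an
isomorphism. -/
theorem result
    (p : ℕ) [Fact p.Prime] (Y : Scheme.{u}) [IsIntegral Y]
    (hnorm : ∀ y : Y, IsIntegrallyClosed (Y.presheaf.stalk y)) [IsAlgClosed Y.functionField] :
    Nat.card (EtCoh.H Y (EtCoh.const Y (ZMod p)) 0) = p ∧
      (∀ i : ℕ, 0 < i → Subsingleton (EtCoh.H Y (EtCoh.const Y (ZMod p)) i)) ∧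
      ∀ U : Y.Opens, (U : Set Y).Nonempty →
        IsIso ((EtCoh.pullPushAdj U.ι).unit.app (EtCoh.const Y (ZMod p))) := by
  have hsc : IsSepClosed Y.functionField := inferInstance
  refine ⟨?_, ?_, ?_⟩
  · let G : EtCoh.Ab Y := EtCoh.const Y (ZMod p)
    have e1 : EtCoh.H Y G 0 ≃ G.obj.obj (op (EtCoh.top Y)) :=
      (Sheaf.H.equiv₀ G (EtCore.topIsTerminal Y)).toEquiv
    have hirr : IrreducibleSpace (EtCoh.top Y).left := inferInstanceAs (IrreducibleSpace Y)
    have hne : Nonempty (EtCoh.top Y).left := inferInstanceAs (Nonempty Y)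
    have hbij : Function.Bijective
        (Groth.Agent.Lib.Helper43.ConstSheaf.cst.{u + 1} Y.smallEtaleTopology
          (AddCommGrpCat.of (ULift.{u + 1} (ZMod p))) (EtCoh.top Y)) := by
      refine ⟨Groth.Agent.Lib.Helper33.EtConstNormal.cst_injective_of_nonempty _ _, ?_⟩
      intro s
      obtain ⟨m, hm⟩ := Groth.Agent.Lib.Helper33.EtConstNormal.exists_eq_cst_of_irreducible
        (AddCommGrpCat.of (ULift.{u + 1} (ZMod p))) (EtCoh.top Y) s
      exact ⟨m, hm.symm⟩
    rw [Nat.card_congr e1, ← Nat.card_congr (Equiv.ofBijective _ hbij)]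
    show Nat.card (ULift.{u + 1} (ZMod p)) = p
    rw [Nat.card_congr Equiv.ulift, Nat.card_zmod]
  · intro i hi
    obtain ⟨n, rfl⟩ : ∃ n, i = n + 1 := ⟨i - 1, by omega⟩
    exact Groth.Agent.Lib.Helper33.EtSepClosed.subsingleton_H_const hnorm
      (AddCommGrpCat.of (ULift.{u + 1} (ZMod p))) n
  · intro U hU
    have hU' : (Set.range U.ι).Nonempty := by
      obtain ⟨x, hx⟩ := hU
      exact ⟨x, by rw [Scheme.Opens.range_ι]; exact hx⟩
    exact Groth.Agent.Lib.Helper33.EtConstNormal.isIso_unit_const_of_normal U.ι hU' hnorm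
      (AddCommGrpCat.of (ULift.{u + 1} (ZMod p)))

end Groth.Agent.S19130
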