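import Groth.Statements.S19144
import Groth.Agent.Lib.Helper7.ProperDescent
import Mathlib.AlgebraicGeometry.ValuativeCriterion

set_option autoImplicit false
open CategoryTheory MonoidalCategory CartesianMonoidalCategory MonObj GrpObj AlgebraicGeometry
universe u
open TwC

namespace Groth.Agent.S19144

open CategoryTheory.Limits MorphismProperty Groth.Agent.Lib.Helper7

section Generic

variable {X S : Scheme.{u}} (p : X ⟶ S)

/-- Base change along a composite is a base change of the base change. -/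
lemma snd_comp (P : MorphismProperty Scheme.{u}) [P.IsStableUnderBaseChange] {S' W : Scheme.{u}}
    (f : S' ⟶ S) (g : W ⟶ S') (h : P (pullback.snd p f)) : P (pullback.snd p (g ≫ f)) := by
  let m : pullback p (g ≫ f) ⟶ pullback p f :=
    pullback.lift (pullback.fst p (g ≫ f)) (pullback.snd p (g ≫ f) ≫ g)
      (by rw [pullback.condition, Category.assoc])
  have hm1 : m ≫ pullback.fst p f = pullback.fst p (g ≫ f) := pullback.lift_fst _ _ _
  have hm2 : m ≫ pullback.snd p f = pullback.snd p (g ≫ f) ≫ g := pullback.lift_snd _ _ _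
  have big : IsPullback (m ≫ pullback.fst p f) (pullback.snd p (g ≫ f)) p (g ≫ f) := by
    rw [hm1]; exact IsPullback.of_hasPullback _ _
  have left : IsPullback m (pullback.snd p (g ≫ f)) (pullback.snd p f) g :=
    IsPullback.of_right big hm2 (IsPullback.of_hasPullback p f)
  exact P.of_isPullback left h

/-- A property that is Zariski-local on the target and satisfies fpqc descent can be checked
étale locally on the target. -/
theorem of_etale_local (P : MorphismProperty Scheme.{u}) [IsZariskiLocalAtTarget P]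
    [P.IsStableUnderBaseChange]
    [P.DescendsAlong (@Surjective ⊓ @Flat ⊓ @QuasiCompact : MorphismProperty Scheme.{u})]
    (H : ∀ s : S, ∃ (S' : Scheme.{u}) (f : S' ⟶ S), Etale f ∧ s ∈ Set.range f.base ∧
      P (pullback.snd p f)) : P p := by
  apply IsZariskiLocalAtTarget.of_forall_exists_morphismRestrict
  intro s
  obtain ⟨S', f, hf, ⟨s', rfl⟩, hP⟩ := H s
  obtain ⟨V, hV, hsV, -⟩ : ∃ V : S.Opens, V ∈ S.affineOpens ∧ f s' ∈ V ∧ V ≤ ⊤ :=
    TopologicalSpace.Opens.isBasis_iff_nbhd.mp S.isBasis_affineOpens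
    (TopologicalSpace.Opens.mem_top (f s'))
  have hV : IsAffineOpen V := hV
  obtain ⟨W, hW, hsW, hWV⟩ : ∃ W : S'.Opens, W ∈ S'.affineOpens ∧ s' ∈ W ∧ W ≤ f ⁻¹ᵁ V :=
    TopologicalSpace.Opens.isBasis_iff_nbhd.mp S'.isBasis_affineOpens
    (show s' ∈ f ⁻¹ᵁ V from hsV)
  have hW : IsAffineOpen W := hW
  let U : S.Opens := ⟨f '' W, f.isOpenMap _ W.2⟩
  have hUV : U ≤ V := by
    rintro _ ⟨w, hw, rfl⟩
    exact hWV hw
  refine ⟨U, ⟨s', hsW, rfl⟩, ?_⟩
  have hr : Set.range (W.ι ≫ f) ⊆ Set.range U.ι := by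
    rintro _ ⟨w, rfl⟩
    rw [Scheme.Opens.range_ι, Scheme.Hom.comp_apply]
    exact ⟨W.ι w, by simpa using w.2, rfl⟩
  let q : (W : Scheme.{u}) ⟶ U := IsOpenImmersion.lift U.ι (W.ι ≫ f) hr
  have hq : q ≫ U.ι = W.ι ≫ f := IsOpenImmersion.lift_fac _ _ _
  have hqs : Surjective q := by
    refine ⟨fun u => ?_⟩
    obtain ⟨w, hw, hwu⟩ := u.2
    refine ⟨⟨w, hw⟩, ?_⟩
    apply U.ι.injective
    rw [← Scheme.Hom.comp_apply, hq, Scheme.Hom.comp_apply]
    exact hwu
  have hqf : Flat q := by
    have : Flat (q ≫ U.ι) := by rw [hq]; infer_instance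
    exact MorphismProperty.of_postcomp (W := @Flat) (W' := @IsOpenImmersion) q U.ι inferInstance this
  have hqc : QuasiCompact q := by
    have : IsAffine (W : Scheme.{u}) := hW
    have : IsAffine (V : Scheme.{u}) := hV
    have h1 : QuasiCompact (q ≫ S.homOfLE hUV) := inferInstance
    exact QuasiCompact.of_comp q (S.homOfLE hUV)
  -- the pullback square
  have hr2 : Set.range (pullback.fst p (W.ι ≫ f)) ⊆ Set.range (p ⁻¹ᵁ U).ι := by
    rintro _ ⟨a, rfl⟩
    rw [Scheme.Opens.range_ι]
    show p (pullback.fst p (W.ι ≫ f) a) ∈ U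
    have h1 : p (pullback.fst p (W.ι ≫ f) a) =
        U.ι (q (pullback.snd p (W.ι ≫ f) a)) := by
      rw [← Scheme.Hom.comp_apply, ← Scheme.Hom.comp_apply, ← Scheme.Hom.comp_apply, hq,
        pullback.condition]
    rw [h1]
    exact (q _).2
  let snd' : pullback p (W.ι ≫ f) ⟶ (p ⁻¹ᵁ U : Scheme.{u}) :=
    IsOpenImmersion.lift (p ⁻¹ᵁ U).ι (pullback.fst p (W.ι ≫ f)) hr2
  have hsnd' : snd' ≫ (p ⁻¹ᵁ U).ι = pullback.fst p (W.ι ≫ f) := IsOpenImmersion.lift_fac _ _ _
  have big : IsPullback (snd' ≫ (p ⁻¹ᵁ U).ι) (pullback.snd p (W.ι ≫ f)) p (q ≫ U.ι) := by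
    rw [hsnd', hq]; exact IsPullback.of_hasPullback _ _
  have hcomm : snd' ≫ (p ∣_ U) = pullback.snd p (W.ι ≫ f) ≫ q := by
    rw [← cancel_mono U.ι, Category.assoc, Category.assoc, morphismRestrict_ι, ← Category.assoc,
      hsnd', hq, pullback.condition]
  have sq : IsPullback snd' (pullback.snd p (W.ι ≫ f)) (p ∣_ U) q :=
    IsPullback.of_right big hcomm (isPullback_morphismRestrict p U).flip
  exact MorphismProperty.of_isPullback_of_descendsAlong (P := P)
    (Q := (@Surjective ⊓ @Flat ⊓ @QuasiCompact : MorphismProperty Scheme.{u})) sq.flip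
    ⟨⟨hqs, hqf⟩, hqc⟩ (snd_comp p P f W.ι hP)

/-- The existence part of the valuative criterion can be checked flat locally on the target
(no quasi-compactness needed). -/
theorem existence_of_flat_local
    (H : ∀ s : S, ∃ (S' : Scheme.{u}) (f : S' ⟶ S), Flat f ∧ s ∈ Set.range f.base ∧
      ValuativeCriterion.Existence (pullback.snd p f)) : ValuativeCriterion.Existence p := by
  rw [ValuativeCriterion.Existence.eq]
  intro X' Y' i₁ i₂ p' hsq
  intro x' z hz
  obtain ⟨S', f, hf, ⟨s', hs'⟩, HE⟩ := H (i₂ z)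
  rw [ValuativeCriterion.Existence.eq] at HE
  -- the point of `T = Y' ×_S S'` over `z` and `s'`
  obtain ⟨t₀, ht₀1, ht₀2⟩ := Scheme.Pullback.exists_preimage_pullback (f := i₂) (g := f) z s'
    hs'.symm
  have hgen : GeneralizingMap (pullback.fst i₂ f) := Flat.generalizingMap _
  obtain ⟨t, htt₀, ht⟩ := hgen (show p' x' ⤳ pullback.fst i₂ f t₀ by rw [ht₀1]; exact hz)
  obtain ⟨a, ha1, ha2⟩ := Scheme.Pullback.exists_preimage_pullback (f := p')
    (g := pullback.fst i₂ f) x' t ht.symm
  -- `a₂ : A → T` is a base change of `pullback.snd p f`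
  let m : pullback p' (pullback.fst i₂ f) ⟶ pullback p f :=
    pullback.lift (pullback.fst p' (pullback.fst i₂ f) ≫ i₁)
      (pullback.snd p' (pullback.fst i₂ f) ≫ pullback.snd i₂ f)
      (by rw [Category.assoc, ← hsq.w, ← Category.assoc, pullback.condition, Category.assoc,
        pullback.condition, Category.assoc])
  have hm1 : m ≫ pullback.fst p f = pullback.fst p' (pullback.fst i₂ f) ≫ i₁ :=
    pullback.lift_fst _ _ _
  have hm2 : m ≫ pullback.snd p f =
      pullback.snd p' (pullback.fst i₂ f) ≫ pullback.snd i₂ f := pullback.lift_snd _ _ _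
  have big : IsPullback (m ≫ pullback.fst p f) (pullback.snd p' (pullback.fst i₂ f)) p
      (pullback.snd i₂ f ≫ f) := by
    rw [hm1, ← pullback.condition]
    exact (IsPullback.of_hasPullback p' (pullback.fst i₂ f)).paste_horiz hsq.flip
  have left : IsPullback m (pullback.snd p' (pullback.fst i₂ f)) (pullback.snd p f)
      (pullback.snd i₂ f) := IsPullback.of_right big hm2 (IsPullback.of_hasPullback p f)
  have hsp : SpecializingMap (pullback.snd p' (pullback.fst i₂ f)) :=
    HE m (pullback.snd i₂ f) _ left.flip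
  obtain ⟨a₀, haa₀, ha₀⟩ := hsp (show pullback.snd p' (pullback.fst i₂ f) a ⤳ t₀ by
    rw [ha2]; exact htt₀)
  refine ⟨pullback.fst p' (pullback.fst i₂ f) a₀, ?_, ?_⟩
  · show x' ⤳ _
    rw [← ha1]
    exact haa₀.map (pullback.fst p' (pullback.fst i₂ f)).continuous
  · rw [← Scheme.Hom.comp_apply, pullback.condition, Scheme.Hom.comp_apply, ha₀, ht₀1]

end Generic

section Const

variable (S' : Scheme.{u}) (I : Type u)

/-- The structure map of the constant scheme. -/
noncomputable abbrev c : (∐ fun _ : I => S') ⟶ S' := Sigma.desc fun _ : I => 𝟙 S'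

lemma etale_c : Etale (c S' I) :=
  IsZariskiLocalAtSource.sigmaDesc (P := @Etale) (fun _ => inferInstance)

lemma existence_c : ValuativeCriterion.Existence (c S' I) := by
  intro sq
  obtain ⟨i, hi⟩ : ∃ i : I, Set.range sq.i₁ ⊆ Set.range (Sigma.ι (fun _ : I => S') i) := by
    obtain ⟨i, y, hy⟩ := (sigmaOpenCover (fun _ : I => S')).exists_eq
      (sq.i₁ (IsLocalRing.closedPoint sq.K))
    refine ⟨i, ?_⟩
    rintro _ ⟨pt, rfl⟩
    rw [Subsingleton.elim pt (IsLocalRing.closedPoint sq.K)]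
    exact ⟨y, hy⟩
  let i₁' : Spec (.of sq.K) ⟶ S' := IsOpenImmersion.lift (Sigma.ι (fun _ : I => S') i) sq.i₁ hi
  have hi₁' : i₁' ≫ Sigma.ι (fun _ : I => S') i = sq.i₁ := IsOpenImmersion.lift_fac _ _ _
  have hιc : Sigma.ι (fun _ : I => S') i ≫ c S' I = 𝟙 S' := Sigma.ι_desc _ _
  have h1 : i₁' = Spec.map (CommRingCat.ofHom (algebraMap sq.R sq.K)) ≫ sq.i₂ := by
    rw [← sq.commSq.w, ← hi₁', Category.assoc, hιc, Category.comp_id]
  refine ⟨⟨⟨sq.i₂ ≫ Sigma.ι (fun _ : I => S') i, ?_, ?_⟩⟩⟩
  · rw [← Category.assoc, ← h1, hi₁']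
  · rw [Category.assoc, hιc, Category.comp_id]

set_option backward.isDefEq.respectTransparency false in
lemma isSeparated_c : IsSeparated (c S' I) := by
  have := etale_c S' I
  have hopen : IsOpenImmersion (pullback.diagonal (c S' I)) := inferInstance
  refine ⟨IsClosedImmersion.of_isPreimmersion _ ?_⟩
  have hιc : ∀ i, Sigma.ι (fun _ : I => S') i ≫ c S' I = 𝟙 S' := fun i => Sigma.ι_desc _ _
  let 𝒰 := Scheme.Pullback.openCoverOfLeftRight (sigmaOpenCover (fun _ : I => S'))
    (sigmaOpenCover (fun _ : I => S')) (c S' I) (c S' I)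
  have hf : ∀ i j : I, ∃ a b : 𝒰.X (i, j) ⟶ S',
      𝒰.f (i, j) ≫ pullback.fst (c S' I) (c S' I) = a ≫ Sigma.ι (fun _ : I => S') i ∧
      𝒰.f (i, j) ≫ pullback.snd (c S' I) (c S' I) = b ≫ Sigma.ι (fun _ : I => S') j ∧
      a = b := by
    intro i j
    refine ⟨pullback.fst _ _, pullback.snd _ _, ?_, ?_, ?_⟩
    · simp [𝒰, Scheme.Pullback.openCoverOfLeftRight_f]
    · simp [𝒰, Scheme.Pullback.openCoverOfLeftRight_f]
    · have hcond := pullback.condition (f := (sigmaOpenCover fun _ : I => S').f i ≫ c S' I)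
        (g := (sigmaOpenCover fun _ : I => S').f j ≫ c S' I)
      have h1 : (sigmaOpenCover fun _ : I => S').f i ≫ c S' I = 𝟙 S' := hιc i
      have h2 : (sigmaOpenCover fun _ : I => S').f j ≫ c S' I = 𝟙 S' := hιc j
      exact (Category.comp_id _).symm.trans ((congrArg (fun t => pullback.fst _ _ ≫ t) h1.symm).trans
        (hcond.trans ((congrArg (fun t => pullback.snd _ _ ≫ t) h2).trans (Category.comp_id _))))
  have hcompl : (Set.range (pullback.diagonal (c S' I)))ᶜ =
      ⋃ (ij : I × I) (_ : ij.1 ≠ ij.2), Set.range (𝒰.f ij) := by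
    ext z
    simp only [Set.mem_compl_iff, Set.mem_iUnion, exists_prop]
    constructor
    · intro hz
      obtain ⟨⟨i, j⟩, w, hw⟩ := 𝒰.exists_eq z
      refine ⟨⟨i, j⟩, ?_, ⟨w, hw⟩⟩
      rintro (rfl : i = j)
      apply hz
      obtain ⟨a, b, h1, h2, rfl⟩ := hf i i
      have hfac : 𝒰.f (i, i) = (a ≫ Sigma.ι (fun _ : I => S') i) ≫
          pullback.diagonal (c S' I) := by
        apply pullback.hom_ext
        · rw [h1, Category.assoc, pullback.diagonal_fst, Category.comp_id]
        · rw [h2, Category.assoc, pullback.diagonal_snd, Category.comp_id]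
      rw [← hw, hfac, Scheme.Hom.comp_apply]
      exact ⟨_, rfl⟩
    · rintro ⟨⟨i, j⟩, hij, w, rfl⟩ ⟨x, hx⟩
      obtain ⟨a, b, h1, h2, -⟩ := hf i j
      have e1 : x = Sigma.ι (fun _ : I => S') i (a w) := by
        have := congr((pullback.fst (c S' I) (c S' I)) $hx)
        rw [← Scheme.Hom.comp_apply, pullback.diagonal_fst, ← Scheme.Hom.comp_apply, h1] at this
        exact this
      have e2 : x = Sigma.ι (fun _ : I => S') j (b w) := by
        have := congr((pullback.snd (c S' I) (c S' I)) $hx)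
        rw [← Scheme.Hom.comp_apply, pullback.diagonal_snd, ← Scheme.Hom.comp_apply, h2] at this
        exact this
      exact (eq_bot_iff.mp <| disjoint_iff.mp <|
        disjoint_opensRange_sigmaι (fun _ : I => S') i j hij)
        (show x ∈ (Sigma.ι (fun _ : I => S') i).opensRange ⊓
          (Sigma.ι (fun _ : I => S') j).opensRange from ⟨⟨_, e1.symm⟩, ⟨_, e2.symm⟩⟩)
  rw [← isOpen_compl_iff, hcompl]
  exact isOpen_iUnion fun ij => isOpen_iUnion fun _ => (𝒰.f ij).isOpenEmbedding.isOpen_range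

end Const

/-- A quasi-isotrivial twisted constant S-scheme X (etale-locally on S isomorphic to a constant scheme)
is separated and etale over S, and its structure morphism satisfies the valuative criterion of
properness (every valuative square has exactly one lift; X ⟶ S need not be quasi-compact). -/
theorem result {S : Scheme.{u}} (X : Over S)
    (hX : TwC.IsTwConst TwC.Topology.etale X) :
    IsSeparated X.hom ∧ Etale X.hom ∧ ValuativeCriterion X.hom := by
  have hloc : ∀ s : S, ∃ (S' : Scheme.{u}) (f : S' ⟶ S), Etale f ∧ s ∈ Set.range f.base ∧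
      ∃ (I : Type u) (e : pullback X.hom f ≅ ∐ fun _ : I => S'),
        e.hom ≫ c S' I = pullback.snd X.hom f := by
    intro s
    obtain ⟨S', f, hf, hs, I, ⟨e⟩⟩ := hX s
    refine ⟨S', f, hf, hs, I, (Over.forget S').mapIso e, ?_⟩
    exact Over.w e.hom
  have key : ∀ (P : MorphismProperty Scheme.{u}) [P.RespectsIso],
      (∀ (S' : Scheme.{u}) (I : Type u), P (c S' I)) →
      ∀ s : S, ∃ (S' : Scheme.{u}) (f : S' ⟶ S), Etale f ∧ s ∈ Set.range f.base ∧
        P (pullback.snd X.hom f) := by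
    intro P _ hP s
    obtain ⟨S', f, hf, hs, I, e, he⟩ := hloc s
    refine ⟨S', f, hf, hs, ?_⟩
    rw [← he, P.cancel_left_of_respectsIso]
    exact hP S' I
  have h1 : IsSeparated X.hom := of_etale_local X.hom @IsSeparated (key @IsSeparated isSeparated_c)
  have h2 : Etale X.hom := of_etale_local X.hom @Etale (key @Etale etale_c)
  have h3 : ValuativeCriterion.Existence X.hom := by
    apply existence_of_flat_local
    intro s
    obtain ⟨S', f, hf, hs, hP⟩ := key ValuativeCriterion.Existence existence_c s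
    exact ⟨S', f, inferInstance, hs, hP⟩
  exact ⟨h1, h2, ValuativeCriterion.iff.mpr ⟨h3, IsSeparated.valuativeCriterion X.hom⟩⟩

end Groth.Agent.S19144
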