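import Groth.Statements.S19145
import Groth.Agent.Lib.Helper7.TwConst.Finite
import Groth.Agent.Lib.Helper61.GU10
import Groth.Agent.Lib.Helper69.Rigid

set_option autoImplicit false
open CategoryTheory MonoidalCategory CartesianMonoidalCategory MonObj GrpObj AlgebraicGeometry
universe u
open TwC

namespace Groth.Agent.S19145

open CategoryTheory.Limits Groth.Agent.Lib.Helper7.TwConst Groth.Agent.Lib.Helper61.GU

/-- Étale schemes over an irreducible geometrically unibranch scheme are locally preconnected. -/
theorem locPreconn {S : Scheme.{u}} [IrreducibleSpace S]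
    (hS : ∀ s : S, CAlg2.IsGeomUnibranch (S.presheaf.stalk s)) : LocPreconn S := by
  intro S' g hg s'
  obtain ⟨h1, h2⟩ := irreducibleComponents_of_etale g hS
  obtain ⟨Z, ⟨hZ, hs'Z⟩, -⟩ := h1 s'
  exact ⟨⟨Z, (h2 Z hZ).1⟩, hs'Z, hZ.1.isPreirreducible.isPreconnected⟩

/-- The closure of a point of the generic fibre is an irreducible component. -/
theorem closure_mem_irreducibleComponents {S X : Scheme.{u}} [IrreducibleSpace S]
    (hS : ∀ s : S, CAlg2.IsGeomUnibranch (S.presheaf.stalk s)) (f : X ⟶ S) [Etale f] (l : X)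
    (hl : f l = genericPoint S) : closure ({l} : Set X) ∈ irreducibleComponents X := by
  obtain ⟨-, h2⟩ := irreducibleComponents_of_etale f hS
  obtain ⟨Z, hZ, hlZ⟩ := exists_mem_irreducibleComponents_subset_of_isIrreducible
    (closure ({l} : Set X)) isIrreducible_singleton.closure
  have hZcl := isClosed_of_mem_irreducibleComponents Z hZ
  obtain ⟨g, hg⟩ := QuasiSober.sober hZ.1 hZcl
  have hlZ' : l ∈ Z := hlZ (subset_closure rfl)
  have hgl : g ⤳ l := by rw [specializes_iff_mem_closure, hg.def]; exact hlZ'
  have hfg : f g = genericPoint S := by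
    have h1 : f g ⤳ f l := hgl.map f.continuous
    rw [hl] at h1
    exact (h1.antisymm (genericPoint_specializes _)).eq
  obtain ⟨x₀, -, hx₀⟩ := (h2 Z hZ).2
  have hgZ : g ∈ Z := by rw [← hg.def]; exact subset_closure rfl
  have e1 : g = x₀ := hx₀ g ⟨hgZ, hfg⟩
  have e2 : l = x₀ := hx₀ l ⟨hlZ', hl⟩
  have : Z = closure ({l} : Set X) := by rw [e2, ← e1, hg.def]
  rw [← this]; exact hZ

/-- The closure of a point of the generic fibre: clopen, finite étale surjective over `S`, and the
point is the only one of its closure in the generic fibre. -/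
theorem piece {S : Scheme.{u}} [IrreducibleSpace S]
    (hS : ∀ s : S, CAlg2.IsGeomUnibranch (S.presheaf.stalk s))
    (X : Over S) (hX : TwC.IsTwConst TwC.Topology.etale X) (l : X.left)
    (hl : X.hom l = genericPoint S) :
    ∃ U : X.left.Opens, (U : Set X.left) = closure ({l} : Set X.left) ∧ IsClosed (U : Set X.left) ∧
      IsFinite (U.ι ≫ X.hom) ∧ Etale (U.ι ≫ X.hom) ∧ Surjective (U.ι ≫ X.hom) ∧
      ∀ a : U, X.hom (U.ι a) = genericPoint S → U.ι a = l := by
  obtain ⟨h1, h2, h3⟩ := Groth.Agent.S19144.result X hX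
  obtain ⟨-, hc2⟩ := irreducibleComponents_of_etale X.hom hS
  have hcomp := closure_mem_irreducibleComponents hS X.hom l hl
  have hopen : IsOpen (closure ({l} : Set X.left)) := (hc2 _ hcomp).1
  let U : X.left.Opens := ⟨closure ({l} : Set X.left), hopen⟩
  have hUc : IsClosed (U : Set X.left) := isClosed_closure
  have hUcl : IsClosedImmersion U.ι := IsClosedImmersion.of_isPreimmersion _ (by simpa using hUc)
  have huniq : ∀ a : U, X.hom (U.ι a) = genericPoint S → U.ι a = l := by
    intro a ha
    obtain ⟨x₀, -, hx₀⟩ := (hc2 _ hcomp).2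
    have e1 : U.ι a = x₀ := hx₀ _ ⟨a.2, ha⟩
    have e2 : l = x₀ := hx₀ l ⟨subset_closure rfl, hl⟩
    rw [e1, e2]
  have hlc := locPreconn hS
  have hclopen := isClopen_finiteFibreLocus hlc X hX U.ι
  have hηfib : ((U.ι ≫ X.hom) ⁻¹' {genericPoint S}).Finite := by
    apply Set.Subsingleton.finite
    intro a ha b hb
    have ha' : X.hom (U.ι a) = genericPoint S := by
      rw [← Scheme.Hom.comp_apply]; exact ha
    have hb' : X.hom (U.ι b) = genericPoint S := by
      rw [← Scheme.Hom.comp_apply]; exact hb
    exact U.ι.injective ((huniq a ha').trans (huniq b hb').symm)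
  have hall : ∀ s : S, ((U.ι ≫ X.hom) ⁻¹' {s}).Finite := by
    intro s
    have := (isPreconnected_univ (α := S)).subset_isClopen hclopen
      ⟨genericPoint S, Set.mem_univ _, hηfib⟩
    exact this (Set.mem_univ s)
  have hfin : IsFinite (U.ι ≫ X.hom) := isFinite_of_forall_finite_fibre hlc X hX U.ι hall
  refine ⟨U, rfl, hUc, hfin, inferInstance, ?_, huniq⟩
  -- surjectivity: the image is closed and contains the generic point
  have hcl : IsClosed (Set.range (U.ι ≫ X.hom)) := (U.ι ≫ X.hom).isClosedMap.isClosed_range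
  have hη : genericPoint S ∈ Set.range (U.ι ≫ X.hom) := by
    refine ⟨⟨l, subset_closure rfl⟩, ?_⟩
    rw [Scheme.Hom.comp_apply]
    exact hl
  have hrange : Set.range (U.ι ≫ X.hom) = Set.univ := by
    rw [Set.eq_univ_iff_forall]
    intro s
    have hs : genericPoint S ⤳ s := genericPoint_specializes s
    exact hs.mem_closed hcl hη
  exact ⟨fun s => by have : s ∈ Set.range (U.ι ≫ X.hom) := hrange ▸ Set.mem_univ s; exact this⟩


/-- Let S be an irreducible scheme whose local rings are all geometrically unibranch, η its generic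
point, and X a quasi-isotrivial twisted constant S-scheme (etale-locally on S isomorphic to a
constant scheme). Then X is the disjoint union, over the points λ of the generic fibre X_η, of the
closures X(λ) of λ: every point of X lies in the closure of exactly one such λ, each X(λ) is open
and closed in X and, as an open subscheme, is a finite etale cover of S (finite, etale and
surjective); and restricting a section of X ⟶ S to the generic point is a bijection from the
sections of X over S onto the sections of X_η over η. -/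
theorem result {S : Scheme.{u}} [IrreducibleSpace S]
    (hS : ∀ s : S, CAlg2.IsGeomUnibranch (S.presheaf.stalk s))
    (X : Over S) (hX : TwC.IsTwConst TwC.Topology.etale X) :
    (∀ x : X.left, ∃! l : X.left, X.hom.base l = genericPoint S ∧ x ∈ closure ({l} : Set X.left)) ∧
    (∀ l : X.left, X.hom.base l = genericPoint S →
      ∃ U : X.left.Opens, (U : Set X.left) = closure ({l} : Set X.left) ∧ IsClosed (U : Set X.left) ∧
        IsFinite (U.ι ≫ X.hom) ∧ Etale (U.ι ≫ X.hom) ∧ Surjective (U.ι ≫ X.hom)) ∧
    (∀ σ₁ σ₂ : S ⟶ X.left, σ₁ ≫ X.hom = 𝟙 S → σ₂ ≫ X.hom = 𝟙 S →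
      S.fromSpecResidueField (genericPoint S) ≫ σ₁ = S.fromSpecResidueField (genericPoint S) ≫ σ₂ → σ₁ = σ₂) ∧
    (∀ τ : Spec (S.residueField (genericPoint S)) ⟶ X.left, τ ≫ X.hom = S.fromSpecResidueField (genericPoint S) →
      ∃ σ : S ⟶ X.left, σ ≫ X.hom = 𝟙 S ∧ S.fromSpecResidueField (genericPoint S) ≫ σ = τ) := by
  obtain ⟨h1, h2, h3⟩ := Groth.Agent.S19144.result X hX
  obtain ⟨hc1, hc2⟩ := irreducibleComponents_of_etale X.hom hS
  refine ⟨?_, ?_, ?_, ?_⟩
  · intro x
    obtain ⟨Z, ⟨hZ, hxZ⟩, hZuniq⟩ := hc1 x
    obtain ⟨l, ⟨hlZ, hl⟩, hluniq⟩ := (hc2 Z hZ).2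
    have hcl : closure ({l} : Set X.left) = Z := by
      have hc := closure_mem_irreducibleComponents hS X.hom l hl
      have hsub : closure ({l} : Set X.left) ⊆ Z :=
        closure_minimal (Set.singleton_subset_iff.mpr hlZ)
          (isClosed_of_mem_irreducibleComponents Z hZ)
      exact hc.eq_of_subset hZ.1 hsub
    refine ⟨l, ⟨hl, hcl ▸ hxZ⟩, ?_⟩
    rintro l' ⟨hl', hxl'⟩
    have hc' := closure_mem_irreducibleComponents hS X.hom l' hl'
    have : closure ({l'} : Set X.left) = Z := hZuniq _ ⟨hc', hxl'⟩
    exact hluniq l' ⟨this ▸ subset_closure rfl, hl'⟩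
  · intro l hl
    obtain ⟨U, hU1, hU2, hU3, hU4, hU5, -⟩ := piece hS X hX l hl
    exact ⟨U, hU1, hU2, hU3, hU4, hU5⟩
  · intro σ₁ σ₂ hσ₁ hσ₂ hη
    have : Nonempty (Spec (S.residueField (genericPoint S))) := inferInstance
    exact Groth.Agent.Lib.Helper69.eq_of_comp_eq_of_connected X.hom σ₁ σ₂ (by rw [hσ₁, hσ₂])
      (S.fromSpecResidueField (genericPoint S)) hη
  · intro τ hτ
    let pt : Spec (S.residueField (genericPoint S)) := Classical.arbitrary _
    have hl : X.hom (τ pt) = genericPoint S := by
      rw [← Scheme.Hom.comp_apply, hτ, Scheme.fromSpecResidueField_apply]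
    obtain ⟨U, hU1, hU2, hU3, hU4, hU5, huniq⟩ := piece hS X hX (τ pt) hl
    -- `τ` factors through `U`
    have hrange : Set.range τ ⊆ Set.range U.ι := by
      rintro _ ⟨q, rfl⟩
      rw [Scheme.Opens.range_ι, hU1, Subsingleton.elim q pt]
      exact subset_closure rfl
    let τU := IsOpenImmersion.lift U.ι τ hrange
    have hτU : τU ≫ U.ι = τ := IsOpenImmersion.lift_fac _ _ _
    have hτUg : τU ≫ (U.ι ≫ X.hom) = S.fromSpecResidueField (genericPoint S) := by
      rw [← Category.assoc, hτU, hτ]
    -- the generic fibre of `U` is a point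
    let g := U.ι ≫ X.hom
    let q := pullback.snd g (S.fromSpecResidueField (genericPoint S))
    let τ' : Spec (S.residueField (genericPoint S)) ⟶
        pullback g (S.fromSpecResidueField (genericPoint S)) :=
      pullback.lift τU (𝟙 _) (by rw [Category.id_comp]; exact hτUg)
    have hτ'q : τ' ≫ q = 𝟙 _ := pullback.lift_snd _ _ _
    have hqet : Etale q := inferInstance
    have hτ'et : Etale τ' :=
      MorphismProperty.of_postcomp (W := @Etale) (W' := @Etale) τ' q inferInstance
        (by rw [hτ'q]; infer_instance)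
    have hmono : Mono τ' := mono_of_mono_fac hτ'q
    have hoi : IsOpenImmersion τ' := IsOpenImmersion.of_flat_of_mono τ'
    have hinj : Function.Injective (pullback.fst g (S.fromSpecResidueField (genericPoint S))) :=
      Scheme.Hom.injective _
    have hsub : Subsingleton ↥(pullback g (S.fromSpecResidueField (genericPoint S))) := by
      refine ⟨fun a b => hinj ?_⟩
      have key : ∀ w : ↥(pullback g (S.fromSpecResidueField (genericPoint S))),
          U.ι (pullback.fst g (S.fromSpecResidueField (genericPoint S)) w) = τ pt := by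
        intro w
        apply huniq
        have : g (pullback.fst g (S.fromSpecResidueField (genericPoint S)) w) = genericPoint S := by
          rw [← Scheme.Hom.comp_apply, pullback.condition, Scheme.Hom.comp_apply,
            Scheme.fromSpecResidueField_apply]
        rw [← Scheme.Hom.comp_apply]
        exact this
      exact U.ι.injective ((key a).trans (key b).symm)
    have hsurj : Surjective τ' := ⟨fun w => ⟨pt, Subsingleton.elim _ _⟩⟩
    have hiso : IsIso τ' := (isIso_iff_isOpenImmersion_and_surjective _).mpr ⟨hoi, hsurj⟩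
    have hqiso : IsIso q := by
      have : q = inv τ' := by
        rw [← cancel_epi τ', hτ'q, IsIso.hom_inv_id]
      rw [this]; infer_instance
    -- hence the degree of `g` is one
    have hrank1 : Scheme.Hom.finrank g (genericPoint S) = 1 := by
      have h4 := Scheme.Hom.finrank_pullback_snd g (S.fromSpecResidueField (genericPoint S)) pt
      rw [Scheme.fromSpecResidueField_apply] at h4
      rw [← h4, Scheme.Hom.finrank_eq_one_of_isIso]
      rfl
    have hlocconst := Scheme.Hom.isLocallyConstant_finrank g
    have hrank : Scheme.Hom.finrank g = 1 := by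
      ext s
      rw [hlocconst.apply_eq_of_isPreconnected isPreconnected_univ (Set.mem_univ s)
        (Set.mem_univ (genericPoint S)), hrank1]
      rfl
    have hgiso : IsIso g := (Scheme.Hom.isIso_iff_finrank_eq g).mpr hrank
    refine ⟨inv g ≫ U.ι, ?_, ?_⟩
    · rw [Category.assoc]
      exact IsIso.inv_hom_id g
    · rw [← Category.assoc, ← hτU]
      congr 1
      rw [IsIso.comp_inv_eq]
      exact hτUg.symm

end Groth.Agent.S19145
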