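import Groth.Statements.S5266
import Groth.Agent.S19144
import Mathlib.AlgebraicGeometry.ZariskisMainTheorem

set_option autoImplicit false
open CategoryTheory MonoidalCategory CartesianMonoidalCategory MonObj GrpObj AlgebraicGeometry
universe u
open SGA3x

namespace Groth.Agent.S5266

open CategoryTheory.Limits MorphismProperty Groth.Agent.S19144

section Generic

variable {X S : Scheme.{u}} (p : X ⟶ S)

lemma of_isPullback_snd (P : MorphismProperty Scheme.{u}) [P.RespectsIso] {T A : Scheme.{u}}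
    (g : T ⟶ S) {a : A ⟶ X} {b : A ⟶ T} (sq : IsPullback a b p g) (h : P (pullback.snd p g)) :
    P b := by
  rw [← sq.isoPullback_hom_snd, P.cancel_left_of_respectsIso]
  exact h

lemma snd_congr (P : MorphismProperty Scheme.{u}) {T : Scheme.{u}} {g₁ g₂ : T ⟶ S} (hg : g₁ = g₂)
    (h : P (pullback.snd p g₁)) : P (pullback.snd p g₂) := by
  subst hg
  exact h

/-- A property that is Zariski-local on the target, stable under base change and satisfies fpqc
descent can be checked locally for an "fpqc covering" in the sense of `TwC.Locally`. -/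
theorem of_fpqc_local (P : MorphismProperty Scheme.{u}) [IsZariskiLocalAtTarget P]
    [P.IsStableUnderBaseChange]
    [P.DescendsAlong (@Surjective ⊓ @Flat ⊓ @QuasiCompact : MorphismProperty Scheme.{u})]
    {S' : Scheme.{u}} (f : S' ⟶ S) [Flat f]
    (hcov : ∀ V : S.Opens, IsAffineOpen V → ∃ W : S'.Opens, IsCompact (W : Set S') ∧
      f.base '' (W : Set S') = (V : Set S))
    (H : ∀ s' : S', ∃ U : S'.Opens, s' ∈ U ∧ P (pullback.snd p (U.ι ≫ f))) : P p := by
  apply IsZariskiLocalAtTarget.of_forall_exists_morphismRestrict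
  intro s
  obtain ⟨V, hV, hsV, -⟩ : ∃ V : S.Opens, V ∈ S.affineOpens ∧ s ∈ V ∧ V ≤ ⊤ :=
    TopologicalSpace.Opens.isBasis_iff_nbhd.mp S.isBasis_affineOpens
    (TopologicalSpace.Opens.mem_top s)
  have hV : IsAffineOpen V := hV
  obtain ⟨W, hWc, hWV⟩ := hcov V hV
  refine ⟨V, hsV, ?_⟩
  have hr : Set.range (W.ι ≫ f) ⊆ Set.range V.ι := by
    rintro _ ⟨w, rfl⟩
    rw [Scheme.Opens.range_ι, Scheme.Hom.comp_apply, ← hWV]
    exact ⟨W.ι w, by simpa using w.2, rfl⟩
  let q : (W : Scheme.{u}) ⟶ V := IsOpenImmersion.lift V.ι (W.ι ≫ f) hr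
  have hq : q ≫ V.ι = W.ι ≫ f := IsOpenImmersion.lift_fac _ _ _
  have hqs : Surjective q := by
    refine ⟨fun v => ?_⟩
    have hv : v.1 ∈ f.base '' (W : Set S') := by rw [hWV]; exact v.2
    obtain ⟨w, hw, hwv⟩ := hv
    refine ⟨⟨w, hw⟩, ?_⟩
    apply V.ι.injective
    rw [← Scheme.Hom.comp_apply, hq, Scheme.Hom.comp_apply]
    exact hwv
  have hqf : Flat q := by
    have : Flat (q ≫ V.ι) := by rw [hq]; infer_instance
    exact MorphismProperty.of_postcomp (W := @Flat) (W' := @IsOpenImmersion) q V.ι inferInstance this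
  have hqc : QuasiCompact q := by
    have : CompactSpace (W : Scheme.{u}) := isCompact_iff_compactSpace.mp hWc
    have : IsAffine (V : Scheme.{u}) := hV
    infer_instance
  -- the pullback square
  have hr2 : Set.range (pullback.fst p (W.ι ≫ f)) ⊆ Set.range (p ⁻¹ᵁ V).ι := by
    rintro _ ⟨a, rfl⟩
    rw [Scheme.Opens.range_ι]
    show p (pullback.fst p (W.ι ≫ f) a) ∈ V
    have h1 : p (pullback.fst p (W.ι ≫ f) a) =
        V.ι (q (pullback.snd p (W.ι ≫ f) a)) := by
      rw [← Scheme.Hom.comp_apply, ← Scheme.Hom.comp_apply, ← Scheme.Hom.comp_apply, hq,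
        pullback.condition]
    rw [h1]
    exact (q _).2
  let snd' : pullback p (W.ι ≫ f) ⟶ (p ⁻¹ᵁ V : Scheme.{u}) :=
    IsOpenImmersion.lift (p ⁻¹ᵁ V).ι (pullback.fst p (W.ι ≫ f)) hr2
  have hsnd' : snd' ≫ (p ⁻¹ᵁ V).ι = pullback.fst p (W.ι ≫ f) := IsOpenImmersion.lift_fac _ _ _
  have big : IsPullback (snd' ≫ (p ⁻¹ᵁ V).ι) (pullback.snd p (W.ι ≫ f)) p (q ≫ V.ι) := by
    rw [hsnd', hq]; exact IsPullback.of_hasPullback _ _
  have hcomm : snd' ≫ (p ∣_ V) = pullback.snd p (W.ι ≫ f) ≫ q := by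
    rw [← cancel_mono V.ι, Category.assoc, Category.assoc, morphismRestrict_ι, ← Category.assoc,
      hsnd', hq, pullback.condition]
  have sq : IsPullback snd' (pullback.snd p (W.ι ≫ f)) (p ∣_ V) q :=
    IsPullback.of_right big hcomm (isPullback_morphismRestrict p V).flip
  refine MorphismProperty.of_isPullback_of_descendsAlong (P := P)
    (Q := (@Surjective ⊓ @Flat ⊓ @QuasiCompact : MorphismProperty Scheme.{u})) sq.flip
    ⟨⟨hqs, hqf⟩, hqc⟩ ?_
  -- `P` over `W`, Zariski-locally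
  choose U hU hPU using H
  refine IsZariskiLocalAtTarget.of_iSup_eq_top (P := P)
    (fun w : W => W.ι ⁻¹ᵁ U w.1) ?_ (fun w => ?_)
  · rw [eq_top_iff]
    intro w _
    exact TopologicalSpace.Opens.mem_iSup.mpr ⟨w, hU w.1⟩
  · have hr3 : Set.range ((W.ι ⁻¹ᵁ U w.1).ι ≫ W.ι) ⊆ Set.range (U w.1).ι := by
      rintro _ ⟨a, rfl⟩
      rw [Scheme.Opens.range_ι, Scheme.Hom.comp_apply]
      exact a.2
    let j : ((W.ι ⁻¹ᵁ U w.1 : (W : Scheme.{u}).Opens) : Scheme.{u}) ⟶ (U w.1 : Scheme.{u}) :=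
      IsOpenImmersion.lift (U w.1).ι ((W.ι ⁻¹ᵁ U w.1).ι ≫ W.ι) hr3
    have hj : j ≫ (U w.1).ι = (W.ι ⁻¹ᵁ U w.1).ι ≫ W.ι := IsOpenImmersion.lift_fac _ _ _
    have h1 : P (pullback.snd p ((W.ι ⁻¹ᵁ U w.1).ι ≫ W.ι ≫ f)) := by
      refine snd_congr p P ?_ (snd_comp p P ((U w.1).ι ≫ f) j (hPU w.1))
      rw [← Category.assoc, hj, Category.assoc]
    have sqAB := (isPullback_morphismRestrict (pullback.snd p (W.ι ≫ f))
      (W.ι ⁻¹ᵁ U w.1)).flip.paste_horiz (IsPullback.of_hasPullback p (W.ι ≫ f))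
    exact of_isPullback_snd p P _ sqAB h1

end Generic

/-- A formally unramified morphism locally of finite type is locally quasi-finite. -/
theorem locallyQuasiFinite_of_formallyUnramified {X Y : Scheme.{u}} (f : X ⟶ Y)
    [FormallyUnramified f] [LocallyOfFiniteType f] : LocallyQuasiFinite f := by
  rw [HasRingHomProperty.iff_appLE (P := @LocallyQuasiFinite)]
  intro U V e
  have h1 : (f.appLE U V e).hom.FiniteType := f.finiteType_appLE U.2 V.2 e
  have h2 : (f.appLE U V e).hom.FormallyUnramified :=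
    HasRingHomProperty.appLE (P := @FormallyUnramified) f ‹_› U V e
  algebraize [(f.appLE U V e).hom]
  rw [RingHom.QuasiFinite]
  infer_instance

/-- The existence part of the valuative criterion is stable under composition. -/
theorem existence_comp {X Y Z : Scheme.{u}} (f : X ⟶ Y) (g : Y ⟶ Z)
    (hf : ValuativeCriterion.Existence f) (hg : ValuativeCriterion.Existence g) :
    ValuativeCriterion.Existence (f ≫ g) := by
  intro T
  have sq1 : CommSq (T.i₁ ≫ f) (Spec.map (CommRingCat.ofHom (algebraMap T.R T.K))) g T.i₂ :=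
    ⟨by rw [Category.assoc, T.commSq.w]⟩
  obtain ⟨⟨l₁, h1, h2⟩⟩ := hg { R := T.R, K := T.K, i₁ := T.i₁ ≫ f, i₂ := T.i₂, commSq := sq1 }
  have sq2 : CommSq T.i₁ (Spec.map (CommRingCat.ofHom (algebraMap T.R T.K))) f l₁ := ⟨h1.symm⟩
  obtain ⟨⟨l₂, h3, h4⟩⟩ := hf { R := T.R, K := T.K, i₁ := T.i₁, i₂ := l₁, commSq := sq2 }
  exact ⟨⟨⟨l₂, h3, by rw [← Category.assoc, h4, h2]⟩⟩⟩

/-- Let R be a twisted constant S-scheme (fpqc-locally on S isomorphic to a constant scheme, the index
set being allowed to vary) and Z a closed subscheme of R which is quasi-compact over S. Then Z is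
finite over S. -/
theorem result {S : Scheme.{u}} (R : Over S) (hR : TwC.IsTwConst TwC.Topology.fpqc R)
    {Z : Scheme.{u}} (z : Z ⟶ R.left) [IsClosedImmersion z] [QuasiCompact (z ≫ R.hom)] :
    IsFinite (z ≫ R.hom) := by
  obtain ⟨S', f, hf, hfs, hcov, H⟩ := hR
  have hloc : ∀ s' : S', ∃ U : S'.Opens, s' ∈ U ∧
      ∃ (I : Type u) (e : pullback R.hom (U.ι ≫ f) ≅ ∐ fun _ : I => (U : Scheme.{u})),
        e.hom ≫ c (U : Scheme.{u}) I = pullback.snd R.hom (U.ι ≫ f) := by
    intro s'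
    obtain ⟨U, hU, I, ⟨e⟩⟩ := H s'
    exact ⟨U, hU, I, (Over.forget (U : Scheme.{u})).mapIso e, Over.w e.hom⟩
  have key : ∀ (P : MorphismProperty Scheme.{u}) [P.RespectsIso],
      (∀ (S' : Scheme.{u}) (I : Type u), P (c S' I)) →
      ∀ s' : S', ∃ U : S'.Opens, s' ∈ U ∧ P (pullback.snd R.hom (U.ι ≫ f)) := by
    intro P _ hP s'
    obtain ⟨U, hU, I, e, he⟩ := hloc s'
    refine ⟨U, hU, ?_⟩
    rw [← he, P.cancel_left_of_respectsIso]
    exact hP _ I
  have h1 : IsSeparated R.hom :=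
    of_fpqc_local R.hom @IsSeparated f hcov (key @IsSeparated isSeparated_c)
  have h2 : Etale R.hom := of_fpqc_local R.hom @Etale f hcov (key @Etale etale_c)
  have h3 : ValuativeCriterion.Existence R.hom := by
    apply existence_of_flat_local
    intro s
    obtain ⟨s', rfl⟩ := f.surjective s
    obtain ⟨U, hU, hP⟩ := key ValuativeCriterion.Existence existence_c s'
    exact ⟨U, U.ι ≫ f, inferInstance, ⟨⟨s', hU⟩, rfl⟩, hP⟩
  have h4 : ValuativeCriterion.Existence (z ≫ R.hom) := by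
    refine existence_comp z R.hom ?_ h3
    have : UniversallyClosed z := inferInstance
    rw [UniversallyClosed.eq_valuativeCriterion] at this
    exact this.1
  have h5 : UniversallyClosed (z ≫ R.hom) := UniversallyClosed.of_valuativeCriterion _ h4
  have h6 : IsProper (z ≫ R.hom) := {}
  have h7 : LocallyQuasiFinite R.hom := locallyQuasiFinite_of_formallyUnramified R.hom
  have h8 : LocallyQuasiFinite (z ≫ R.hom) := inferInstance
  exact IsFinite.of_isProper_of_locallyQuasiFinite _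

end Groth.Agent.S5266
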