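import Groth.Statements.S19146
import Groth.Agent.S19144
import Groth.Agent.S5266
import Groth.Agent.Lib.Helper7.HensSection

set_option autoImplicit false
open CategoryTheory MonoidalCategory CartesianMonoidalCategory MonObj GrpObj AlgebraicGeometry
universe u
open TwC

namespace Groth.Agent.S19146

open CategoryTheory.Limits Groth.Agent.Lib.Helper7.HensSection TopologicalSpace

set_option backward.isDefEq.respectTransparency.types false in
/-- An affine scheme whose only closed point is `w₀` is the spectrum of its local ring at `w₀`. -/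
theorem isIso_fromSpecStalk_of_forall_isClosed {W : Scheme.{u}} [IsAffine W] (w₀ : W)
    (h : ∀ w : W, IsClosed ({w} : Set W) → w = w₀) : IsIso (W.fromSpecStalk w₀) := by
  have hW := isAffineOpen_top W
  have hw₀ : w₀ ∈ (⊤ : W.Opens) := trivial
  rw [← hW.fromSpecStalk_eq_fromSpecStalk hw₀]
  unfold IsAffineOpen.fromSpecStalk
  have h1 : IsIso hW.fromSpec := by rw [IsAffineOpen.fromSpec_top]; infer_instance
  suffices IsIso (W.presheaf.germ ⊤ w₀ hw₀) by infer_instance
  letI : Algebra Γ(W, ⊤) (W.presheaf.stalk w₀) := (W.presheaf.germ ⊤ w₀ hw₀).hom.toAlgebra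
  have hloc : IsLocalization.AtPrime (W.presheaf.stalk w₀) (hW.primeIdealOf ⟨w₀, hw₀⟩).asIdeal :=
    hW.isLocalization_stalk ⟨w₀, hw₀⟩
  have hunits : (hW.primeIdealOf ⟨w₀, hw₀⟩).asIdeal.primeCompl ≤ IsUnit.submonoid Γ(W, ⊤) := by
    intro b hb
    by_contra hnu
    obtain ⟨m, hm, hbm⟩ := exists_max_ideal_of_mem_nonunits hnu
    let w' : ↥(Spec Γ(W, ⊤)) := (⟨m, hm.isPrime⟩ : PrimeSpectrum Γ(W, ⊤))
    have hcl : IsClosed ({w'} : Set ↥(Spec Γ(W, ⊤))) :=
      (PrimeSpectrum.isClosed_singleton_iff_isMaximal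
        (⟨m, hm.isPrime⟩ : PrimeSpectrum Γ(W, ⊤))).mpr hm
    have hhomeo : IsHomeomorph hW.fromSpec := (TopCat.isIso_iff_isHomeomorph _).mp inferInstance
    have hcl2 : IsClosed ({hW.fromSpec w'} : Set W) := by
      have := hhomeo.isClosedMap _ hcl
      rwa [Set.image_singleton] at this
    have h2 := h _ hcl2
    have h3 : w' = hW.primeIdealOf ⟨w₀, hw₀⟩ := by
      apply hhomeo.injective
      rw [hW.fromSpec_primeIdealOf]
      exact h2
    apply hb
    rw [← h3]
    exact hbm
  have hbij : Function.Bijective (algebraMap Γ(W, ⊤) (W.presheaf.stalk w₀)) :=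
    (IsLocalization.atUnits Γ(W, ⊤) _ (S := W.presheaf.stalk w₀) hunits).bijective
  exact (ConcreteCategory.isIso_iff_bijective _).mpr hbij

/-- Over a henselian local base, every point of the closed fibre of a separated étale scheme with
discrete closed fibre lies in an open and closed piece finite over the base which meets the closed
fibre only in that point. -/
theorem exists_piece (R : Type u) [CommRing R] [HenselianLocalRing R] {X : Scheme.{u}}
    (f : X ⟶ Spec (CommRingCat.of R)) [Etale f] [IsSeparated f] (x : X)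
    (hx : f x = IsLocalRing.closedPoint R) :
    ∃ (W₀ : Scheme.{u}) (k : W₀ ⟶ X) (w₀ : W₀), IsOpenImmersion k ∧ IsClosedImmersion k ∧
      IsFinite (k ≫ f) ∧ k w₀ = x ∧ ∀ w : W₀, f (k w) = IsLocalRing.closedPoint R → w = w₀ := by
  have hlqf : LocallyQuasiFinite f := Groth.Agent.S5266.locallyQuasiFinite_of_formallyUnramified f
  have hd := f.isDiscrete_preimage_singleton (IsLocalRing.closedPoint R)
  have hdt : DiscreteTopology ↥(f ⁻¹' {IsLocalRing.closedPoint R}) := hd.to_subtype
  have hxo : IsOpen ({⟨x, hx⟩} : Set ↥(f ⁻¹' {IsLocalRing.closedPoint R})) := isOpen_discrete _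
  obtain ⟨O', hO', hO'eq⟩ := isOpen_induced_iff.mp hxo
  let O : X.Opens := ⟨O', hO'⟩
  have hxO : x ∈ O := by
    have : (⟨x, hx⟩ : ↥(f ⁻¹' {IsLocalRing.closedPoint R})) ∈
        Subtype.val ⁻¹' O' := by rw [hO'eq]; rfl
    exact this
  have hOuniq : ∀ y : X, y ∈ O → f y = IsLocalRing.closedPoint R → y = x := by
    intro y hyO hy
    have : (⟨y, hy⟩ : ↥(f ⁻¹' {IsLocalRing.closedPoint R})) ∈ Subtype.val ⁻¹' O' := hyO
    rw [hO'eq] at this
    exact congrArg Subtype.val this
  have hfin : ((O.ι ≫ f) ⁻¹' {IsLocalRing.closedPoint R}).Finite := by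
    apply Set.Subsingleton.finite
    intro a ha b hb
    have ha' : f (O.ι a) = IsLocalRing.closedPoint R := by
      rw [← Scheme.Hom.comp_apply]; exact ha
    have hb' : f (O.ι b) = IsLocalRing.closedPoint R := by
      rw [← Scheme.Hom.comp_apply]; exact hb
    exact O.ι.injective ((hOuniq _ a.2 ha').trans (hOuniq _ b.2 hb').symm)
  obtain ⟨W', hW'c, hW'f, hW'⟩ := exists_clopen_finite_of_henselian R (O.ι ≫ f) hfin
  have hxW' : (⟨x, hxO⟩ : O) ∈ W' := by
    apply hW'
    rw [Scheme.Hom.comp_apply]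
    exact hx
  have hfin2 : IsFinite ((W'.ι ≫ O.ι) ≫ f) := by rw [Category.assoc]; exact hW'f
  have hprop : IsProper (W'.ι ≫ O.ι) :=
    MorphismProperty.of_postcomp (W := @IsProper) (W' := @IsSeparated) (W'.ι ≫ O.ι) f
      inferInstance inferInstance
  have hcl : IsClosedImmersion (W'.ι ≫ O.ι) :=
    IsClosedImmersion.of_isPreimmersion _ (W'.ι ≫ O.ι).isClosedMap.isClosed_range
  refine ⟨W', W'.ι ≫ O.ι, ⟨⟨x, hxO⟩, hxW'⟩, inferInstance, hcl, hfin2, rfl, ?_⟩
  intro w hw
  have hmem : O.ι (W'.ι w) ∈ O := (W'.ι w).2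
  have h1 : (W'.ι ≫ O.ι) w = x := hOuniq _ hmem hw
  apply (W'.ι ≫ O.ι).injective
  rw [h1]
  rfl


/-- Let R be a henselian local ring, s the closed point of S = Spec R, and X a quasi-isotrivial twisted
constant S-scheme (etale-locally on S isomorphic to a constant scheme). Then X is the disjoint
union, over the points x of the closed fibre X_s, of the local schemes X(x) = Spec O_{X,x}: for each
such x the canonical morphism Spec O_{X,x} ⟶ X is an open and closed immersion and X(x) is a finite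
etale cover of S (finite, etale, surjective), every point of X lies in X(x) for exactly one x ∈ X_s,
and restricting a section of X ⟶ S to the closed point is a bijection from the sections of X over S
onto the sections of X_s over s. -/
theorem result (R : Type u) [CommRing R] [HenselianLocalRing R]
    (X : Over (Spec (CommRingCat.of R))) (hX : TwC.IsTwConst TwC.Topology.etale X) :
    (∀ x : X.left, X.hom.base x = IsLocalRing.closedPoint R →
      IsOpenImmersion (X.left.fromSpecStalk x) ∧ IsClosedImmersion (X.left.fromSpecStalk x) ∧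
        IsFinite (X.left.fromSpecStalk x ≫ X.hom) ∧ Etale (X.left.fromSpecStalk x ≫ X.hom) ∧
        Surjective (X.left.fromSpecStalk x ≫ X.hom)) ∧
    (∀ y : X.left, ∃! x : X.left, X.hom.base x = IsLocalRing.closedPoint R ∧
      y ∈ Set.range (X.left.fromSpecStalk x).base) ∧
    (∀ σ₁ σ₂ : Spec (CommRingCat.of R) ⟶ X.left, σ₁ ≫ X.hom = 𝟙 _ → σ₂ ≫ X.hom = 𝟙 _ →
      Spec.map (CommRingCat.ofHom (IsLocalRing.residue R)) ≫ σ₁ = Spec.map (CommRingCat.ofHom (IsLocalRing.residue R)) ≫ σ₂ → σ₁ = σ₂) ∧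
    (∀ τ : Spec (CommRingCat.of (IsLocalRing.ResidueField R)) ⟶ X.left,
      τ ≫ X.hom = Spec.map (CommRingCat.ofHom (IsLocalRing.residue R)) →
      ∃ σ : Spec (CommRingCat.of R) ⟶ X.left, σ ≫ X.hom = 𝟙 _ ∧ Spec.map (CommRingCat.ofHom (IsLocalRing.residue R)) ≫ σ = τ) := by
  obtain ⟨h1, h2, h3⟩ := Groth.Agent.S19144.result X hX
  have h3' := (ValuativeCriterion.iff.mp h3).1
  refine ⟨?_, ?_, ?_, ?_⟩
  · intro x hx
    obtain ⟨W₀, k, w₀, hko, hkc, hkf, rfl, huniq⟩ := exists_piece R X.hom x hx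
    have haff : IsAffine W₀ := isAffine_of_isAffineHom (k ≫ X.hom)
    have hclosed : ∀ w : W₀, IsClosed ({w} : Set W₀) → w = w₀ := by
      intro w hw
      apply huniq
      have hcl : IsClosed ((k ≫ X.hom) '' {w}) := (k ≫ X.hom).isClosedMap _ hw
      rw [Set.image_singleton] at hcl
      have hmax := (PrimeSpectrum.isClosed_singleton_iff_isMaximal _).mp hcl
      have : ((k ≫ X.hom) w) = IsLocalRing.closedPoint R := by
        apply PrimeSpectrum.ext
        exact IsLocalRing.eq_maximalIdeal hmax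
      rw [← Scheme.Hom.comp_apply]
      exact this
    have hiso : IsIso (W₀.fromSpecStalk w₀) := isIso_fromSpecStalk_of_forall_isClosed w₀ hclosed
    have hisoS : IsIso (k.stalkMap w₀) := inferInstance
    have hfac : X.left.fromSpecStalk (k w₀) =
        inv (Spec.map (k.stalkMap w₀)) ≫ W₀.fromSpecStalk w₀ ≫ k := by
      rw [IsIso.eq_inv_comp]
      exact Scheme.SpecMap_stalkMap_fromSpecStalk k
    have hsurj : Surjective (k ≫ X.hom) := by
      have hopen : IsOpen (Set.range (k ≫ X.hom)) := (k ≫ X.hom).isOpenMap.isOpen_range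
      refine ⟨fun s => ?_⟩
      have hs : s ⤳ IsLocalRing.closedPoint R := IsLocalRing.specializes_closedPoint s
      refine hs.mem_open hopen ⟨w₀, ?_⟩
      rw [Scheme.Hom.comp_apply]
      exact hx
    rw [hfac]
    refine ⟨inferInstance, inferInstance, ?_, ?_, ?_⟩
    · rw [Category.assoc, Category.assoc]; infer_instance
    · rw [Category.assoc, Category.assoc]; infer_instance
    · rw [Category.assoc, Category.assoc]; infer_instance
  · intro y
    have hsp : X.hom y ⤳ IsLocalRing.closedPoint R := IsLocalRing.specializes_closedPoint _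
    obtain ⟨x, hyx, hx⟩ := ValuativeCriterion.Existence.specializingMap X.hom h3' hsp
    refine ⟨x, ⟨hx, ?_⟩, ?_⟩
    · rw [Scheme.range_fromSpecStalk]; exact hyx
    · rintro x' ⟨hx', hyx'⟩
      rw [Scheme.range_fromSpecStalk] at hyx'
      have hyx'' : y ⤳ x' := hyx'
      obtain ⟨W₀, k, w₀, hko, hkc, hkf, rfl, huniq⟩ := exists_piece R X.hom x hx
      have hyW : y ∈ Set.range k := hyx.mem_open k.isOpenEmbedding.isOpen_range ⟨w₀, rfl⟩
      have hx'W : x' ∈ Set.range k := hyx''.mem_closed k.isClosedEmbedding.isClosed_range hyW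
      obtain ⟨w, rfl⟩ := hx'W
      rw [huniq w hx']
  · intro σ₁ σ₂ hσ₁ hσ₂ hσ
    obtain ⟨s, -, hs⟩ := existsUnique_section_of_point R X.hom
      (Spec.map (CommRingCat.ofHom (IsLocalRing.residue R)) ≫ σ₁)
      (by rw [Category.assoc, hσ₁, Category.comp_id])
    rw [hs σ₁ ⟨hσ₁, rfl⟩, hs σ₂ ⟨hσ₂, hσ.symm⟩]
  · intro τ hτ
    obtain ⟨s, hs, -⟩ := existsUnique_section_of_point R X.hom τ hτ
    exact ⟨s, hs⟩

end Groth.Agent.S19146
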