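import Groth.Statements.S19148
import Mathlib
-- import your own Groth.Agent.* helpers here

set_option autoImplicit false
open scoped TensorProduct
universe u v
open FiltMod

namespace Groth.Agent.S19148

section Helpers

variable {R : Type u} [CommRing R] {M : Type v} [AddCommGroup M] [Module R M]

/-- Base fact: a product of functionals, the first of which kills `F₂`, kills pure tensors
from `F₁` as soon as `F₁^{⊗ (m+1)} ⊆ F₂^{⊗ (m+1)}` inside `M^{⊗ (m+1)}`. -/
theorem prod_eq_zero_of_range_le (F₁ F₂ : Submodule R M) (m : ℕ)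
    (h : LinearMap.range (PiTensorProduct.map (R := R) (fun _ : Fin (m + 1) => F₁.subtype)) ≤
      LinearMap.range (PiTensorProduct.map (R := R) (fun _ : Fin (m + 1) => F₂.subtype)))
    (ψ : Fin (m + 1) → Module.Dual R M) (hψ : ∀ y ∈ F₂, ψ 0 y = 0) (z : Fin (m + 1) → F₁) :
    ∏ j, ψ j (z j) = 0 := by
  classical
  let L : (PiTensorProduct R (fun _ : Fin (m + 1) => M)) →ₗ[R] R :=
    PiTensorProduct.lift ((MultilinearMap.mkPiAlgebra R (Fin (m + 1)) R).compLinearMap ψ)
  have hL : ∀ f : Fin (m + 1) → M, L (PiTensorProduct.tprod R f) = ∏ j, ψ j (f j) := by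
    intro f
    simp only [L, PiTensorProduct.lift.tprod, MultilinearMap.compLinearMap_apply,
      MultilinearMap.mkPiAlgebra_apply]
  have hkill : ∀ t : PiTensorProduct R (fun _ : Fin (m + 1) => F₂),
      L (PiTensorProduct.map (R := R) (fun _ : Fin (m + 1) => F₂.subtype) t) = 0 := by
    intro t
    induction t using PiTensorProduct.induction_on with
    | smul_tprod r f =>
      rw [map_smul, map_smul, PiTensorProduct.map_tprod, hL]
      rw [Finset.prod_eq_zero (i := (0 : Fin (m + 1))) (Finset.mem_univ _) (hψ _ (f 0).2),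
        smul_zero]
    | add x y hx hy => rw [map_add, map_add, hx, hy, add_zero]
  have hmem : PiTensorProduct.tprod R (fun j => ((z j : F₁) : M)) ∈
      LinearMap.range (PiTensorProduct.map (R := R) (fun _ : Fin (m + 1) => F₂.subtype)) := by
    apply h
    exact ⟨PiTensorProduct.tprod R z, by rw [PiTensorProduct.map_tprod]; rfl⟩
  obtain ⟨t, ht⟩ := hmem
  rw [← hL, ← ht, hkill]

theorem le_of_range_tensorPower_le [Module.Finite R M] [Module.Projective R M]
    (F₁ F₂ : Submodule R M) (C₁ : Submodule R M) (hC₁ : IsCompl F₁ C₁)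
    (C₂ : Submodule R M) (hC₂ : IsCompl F₂ C₂) (m : ℕ)
    (h : LinearMap.range (PiTensorProduct.map (R := R) (fun _ : Fin (m + 1) => F₁.subtype)) ≤
      LinearMap.range (PiTensorProduct.map (R := R) (fun _ : Fin (m + 1) => F₂.subtype))) :
    F₁ ≤ F₂ := by
  classical
  obtain ⟨n, f, g, -, -, hfg⟩ := Module.Finite.exists_comp_eq_id_of_projective R M
  -- projection onto F₁
  let p₁ : M →ₗ[R] F₁ := Submodule.projectionOnto F₁ C₁ hC₁
  -- expansion
  let φ' : Fin n → Module.Dual R M := fun a => (LinearMap.proj a) ∘ₗ g
  let e : Fin n → F₁ := fun a => p₁ (f (fun j => if a = j then 1 else 0))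
  have hexp : ∀ x : F₁, x = ∑ a, φ' a (x : M) • e a := by
    intro x
    have h1 : (x : M) = ∑ a, (g (x : M)) a • f (fun j => if a = j then 1 else 0) := by
      have : f (g (x : M)) = x := by
        have := congrArg (fun l : M →ₗ[R] M => l (x : M)) hfg
        simpa using this
      rw [← LinearMap.pi_apply_eq_sum_univ, this]
    have h2 : p₁ (x : M) = x := Submodule.projectionOnto_apply_left hC₁ x
    calc x = p₁ (x : M) := h2.symm
      _ = p₁ (∑ a, (g (x : M)) a • f (fun j => if a = j then 1 else 0)) := by rw [← h1]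
      _ = ∑ a, φ' a (x : M) • e a := by
        rw [map_sum]
        simp only [map_smul]
        rfl
  -- the claim, for a functional θ killing F₂
  have main : ∀ θ : Module.Dual R M, (∀ y ∈ F₂, θ y = 0) → ∀ z₁ : F₁, θ (z₁ : M) = 0 := by
    intro θ hθ
    have P : ∀ d k : ℕ, k + d = m → ∀ (φ : Fin k → Module.Dual R M) (z : Fin k → F₁) (z₁ : F₁),
        (∏ j, φ j (z j)) * θ (z₁ : M) = 0 := by
      intro d
      induction d with
      | zero =>
        intro k hk φ z z₁
        have hk' : k = m := by simpa using hk
        subst hk'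
        have := prod_eq_zero_of_range_le F₁ F₂ k h (Fin.cons θ φ) (by simpa using hθ)
          (Fin.cons z₁ z)
        rw [Fin.prod_univ_succ] at this
        simp only [Fin.cons_zero, Fin.cons_succ] at this
        rw [mul_comm]
        exact this
      | succ d ih =>
        intro k hk φ z z₁
        have hk' : (k + 1) + d = m := by omega
        have hz : θ (z₁ : M) = ∑ a, φ' a (z₁ : M) * θ (e a : M) := by
          conv_lhs => rw [hexp z₁]
          simp [map_sum]
        rw [hz, Finset.mul_sum]
        apply Finset.sum_eq_zero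
        intro a _
        have := ih (k + 1) hk' (Fin.cons (φ' a) φ) (Fin.cons z₁ z) (e a)
        rw [Fin.prod_univ_succ] at this
        simp only [Fin.cons_zero, Fin.cons_succ] at this
        rw [← this]
        ring
    intro z₁
    have := P m 0 (by simp) Fin.elim0 Fin.elim0 z₁
    simpa using this
  -- conclude
  intro x hx
  let π₂ : M →ₗ[R] C₂ := Submodule.projectionOnto C₂ F₂ hC₂.symm
  have hπ : π₂ x = 0 := by
    have hπM : ((π₂ x : C₂) : M) = 0 := by
      rw [← Module.forall_dual_apply_eq_zero_iff R]
      intro θ'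
      have := main (θ' ∘ₗ C₂.subtype ∘ₗ π₂) (fun y hy => by
        have : π₂ y = 0 := Submodule.projectionOnto_apply_of_mem_right hC₂.symm hy
        simp [this]) ⟨x, hx⟩
      simpa using this
    exact Subtype.ext hπM
  exact (Submodule.projectionOnto_apply_eq_zero_iff hC₂.symm).1 hπ

end Helpers



/-- In affine form, let R be a commutative ring, M a finitely generated projective R-module (a finite
locally free sheaf on Spec R), F₁ and F₂ direct summands of M and k ≥ 1. Then the images of F₁^{⊗k}
and F₂^{⊗k} in the k-th tensor power M^{⊗k} are equal if and only if F₁ = F₂. (The source states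
this for local direct factors of a finite locally free sheaf on a scheme; equality of subsheaves
being local, this is the affine case with global direct summands, to which it reduces.) -/
theorem result {R : Type u} [CommRing R] {M : Type v} [AddCommGroup M] [Module R M]
    [Module.Finite R M] [Module.Projective R M] (F₁ F₂ : Submodule R M)
    (h₁ : ∃ C : Submodule R M, IsCompl F₁ C) (h₂ : ∃ C : Submodule R M, IsCompl F₂ C) (k : ℕ) (hk : 1 ≤ k) :
    LinearMap.range (PiTensorProduct.map (R := R) (fun _ : Fin k => F₁.subtype)) =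
      LinearMap.range (PiTensorProduct.map (R := R) (fun _ : Fin k => F₂.subtype)) ↔ F₁ = F₂ := by
  obtain ⟨m, rfl⟩ : ∃ m, k = m + 1 := ⟨k - 1, by omega⟩
  obtain ⟨C₁, hC₁⟩ := h₁
  obtain ⟨C₂, hC₂⟩ := h₂
  constructor
  · intro h
    exact le_antisymm (le_of_range_tensorPower_le F₁ F₂ C₁ hC₁ C₂ hC₂ m h.le)
      (le_of_range_tensorPower_le F₂ F₁ C₂ hC₂ C₁ hC₁ m h.ge)
  · rintro rfl
    rfl

end Groth.Agent.S19148
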