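import Groth.Statements.S19149
import Mathlib
import Groth.Agent.S18962

set_option autoImplicit false
universe u
open GrpSch

namespace Groth.Agent.S19149

-- HELPERS BEGIN
open TensorProduct KaehlerDifferential IsLocalRing

section part1
variable {R A B : Type u} [CommRing R] [CommRing A] [CommRing B]
    [Algebra R A] [Algebra R B] [Algebra A B] [IsScalarTower R A B]
    (P : Ideal B) [P.IsPrime]

theorem formallySmooth_localization_of_injective
    [Algebra.FormallySmooth R A] [Module.Finite A Ω[A⁄R]]
    (hsurj : Function.Surjective (algebraMap A B)) (hfg : (RingHom.ker (algebraMap A B)).FG)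
    (hinj : Function.Injective
      (cotangentComplexBaseChange R B A (ResidueField (Localization.AtPrime P)))) :
    Algebra.FormallySmooth R (Localization.AtPrime P) := by
  let P₀ : Ideal A := P.under A
  let A' := Localization.AtPrime P₀
  let L := Localization.AtPrime P
  let κ := ResidueField L
  let _ : Algebra A' L := Localization.AtPrime.algebraOfLiesOver P₀ P
  have t1 : IsScalarTower R A' L := inferInstance
  have t2 : IsScalarTower A A' L := inferInstance
  have t3 : IsScalarTower A A' κ := IsScalarTower.to₁₂₄ A A' L κ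
  have e1 : Algebra.FormallyEtale A A' := Algebra.FormallyEtale.of_isLocalization P₀.primeCompl
  have s1 : Algebra.FormallySmooth R A' := Algebra.FormallySmooth.comp R A A'
  have hmap : ∀ a : A, algebraMap A' L (algebraMap A A' a) = algebraMap B L (algebraMap A B a) := by
    intro a
    rw [← IsScalarTower.algebraMap_apply A A' L, IsScalarTower.algebraMap_apply A B L]
  -- surjectivity of A' → L
  have h₁ : Function.Surjective (algebraMap A' L) := by
    intro x
    obtain ⟨b, ⟨s, hs⟩, rfl⟩ := IsLocalization.exists_mk'_eq P.primeCompl x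
    obtain ⟨a, rfl⟩ := hsurj b
    obtain ⟨t, rfl⟩ := hsurj s
    have ht : t ∈ P₀.primeCompl := hs
    refine ⟨IsLocalization.mk' A' a ⟨t, ht⟩, ?_⟩
    rw [IsLocalization.eq_mk'_iff_mul_eq, ← hmap, ← hmap, ← map_mul, IsLocalization.mk'_spec]
  -- elements of the kernel
  have hker : ∀ x ∈ RingHom.ker (algebraMap A' L), ∃ j ∈ RingHom.ker (algebraMap A B),
      ∃ u : A', x = u * algebraMap A A' j := by
    intro x hx
    obtain ⟨a, ⟨s, hs⟩, rfl⟩ := IsLocalization.exists_mk'_eq P₀.primeCompl x
    have h0 : algebraMap B L (algebraMap A B a) = 0 := by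
      rw [← hmap, ← IsLocalization.mk'_spec A' a ⟨s, hs⟩, map_mul, (RingHom.mem_ker).mp hx,
        zero_mul]
    obtain ⟨⟨m, hm⟩, hm0⟩ := (IsLocalization.map_eq_zero_iff P.primeCompl L _).mp h0
    obtain ⟨t, rfl⟩ := hsurj m
    have ht : t ∈ P₀.primeCompl := hm
    refine ⟨t * a, ?_, IsLocalization.mk' A' 1 (⟨t, ht⟩ * ⟨s, hs⟩ : P₀.primeCompl), ?_⟩
    · rw [RingHom.mem_ker, map_mul]
      exact hm0
    · rw [mul_comm, ← IsLocalization.mk'_eq_mul_mk'_one, eq_comm, IsLocalization.mk'_eq_iff_eq]
      simp only [Submonoid.coe_mul]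
      congr 1
      ring
  have h₂ : (RingHom.ker (algebraMap A' L)).FG := by
    have : RingHom.ker (algebraMap A' L) =
        (RingHom.ker (algebraMap A B)).map (algebraMap A A') := by
      refine le_antisymm ?_ ?_
      · intro x hx
        obtain ⟨j, hj, u, rfl⟩ := hker x hx
        exact Ideal.mul_mem_left _ _ (Ideal.mem_map_of_mem _ hj)
      · rw [Ideal.map_le_iff_le_comap]
        intro j hj
        rw [Ideal.mem_comap, RingHom.mem_ker, hmap, (RingHom.mem_ker).mp hj, map_zero]
    rw [this]
    exact hfg.map _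
  -- freeness of the differentials of A'
  let eΩ : A' ⊗[A] Ω[A⁄R] ≃ₗ[A'] Ω[A'⁄R] := tensorKaehlerEquivOfFormallyEtale R A A'
  have f1 : Module.Finite A' Ω[A'⁄R] := Module.Finite.equiv eΩ
  have f2 : Module.Projective A' Ω[A'⁄R] := inferInstance
  have f3 : Module.Free A' Ω[A'⁄R] := Module.free_of_flat_of_isLocalRing
  rw [Algebra.FormallySmooth.iff_injective_cotangentComplexBaseChange_residueField (P := A') h₁ h₂]
  -- comparison maps
  let ι : κ ⊗[A] Ω[A⁄R] ≃ₗ[κ] κ ⊗[A'] Ω[A'⁄R] :=
    (AlgebraTensorModule.cancelBaseChange A A' κ κ Ω[A⁄R]).symm ≪≫ₗ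
      AlgebraTensorModule.congr (LinearEquiv.refl κ κ) eΩ
  have hcomp : ∀ (k : κ) (j : RingHom.ker (algebraMap A B))
      (hj : algebraMap A A' j.1 ∈ RingHom.ker (algebraMap A' L)),
      cotangentComplexBaseChange R L A' κ (k ⊗ₜ ⟨algebraMap A A' j.1, hj⟩) =
        ι (cotangentComplexBaseChange R B A κ (k ⊗ₜ j)) := by
    intro k j hj
    rw [cotangentComplexBaseChange_tmul, cotangentComplexBaseChange_tmul]
    simp only [kerToTensor_apply, map_smul]
    congr 1
    simp only [ι, LinearEquiv.trans_apply, AlgebraTensorModule.cancelBaseChange_symm_tmul,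
      AlgebraTensorModule.congr_tmul, LinearEquiv.refl_apply, eΩ]
    rw [tensorKaehlerEquivOfFormallyEtale_apply, mapBaseChange_tmul, one_smul,
      KaehlerDifferential.map_D]
  -- the comparison map `π`
  have hK : ∀ j : RingHom.ker (algebraMap A B),
      algebraMap A A' j.1 ∈ RingHom.ker (algebraMap A' L) := by
    intro j
    rw [RingHom.mem_ker, hmap, (RingHom.mem_ker).mp j.2, map_zero]
  let g : RingHom.ker (algebraMap A B) →ₗ[A] κ ⊗[A'] RingHom.ker (algebraMap A' L) :=
    { toFun := fun j => (1 : κ) ⊗ₜ[A'] (⟨algebraMap A A' j.1, hK j⟩ : RingHom.ker (algebraMap A' L))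
      map_add' := fun j₁ j₂ => by
        rw [← TensorProduct.tmul_add]
        congr 1
        ext
        simp
      map_smul' := fun a j => by
        rw [RingHom.id_apply, TensorProduct.smul_tmul', ← algebraMap_smul A' a (1 : κ),
          TensorProduct.smul_tmul]
        congr 1
        ext
        simp [Algebra.smul_def] }
  let π : κ ⊗[A] RingHom.ker (algebraMap A B) →ₗ[κ] κ ⊗[A'] RingHom.ker (algebraMap A' L) :=
    LinearMap.liftBaseChange κ g
  have hπ : ∀ (k : κ) (j : RingHom.ker (algebraMap A B)),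
      π (k ⊗ₜ j) = k ⊗ₜ ⟨algebraMap A A' j.1, hK j⟩ := by
    intro k j
    simp only [π, LinearMap.liftBaseChange_tmul, g, LinearMap.coe_mk, AddHom.coe_mk,
      TensorProduct.smul_tmul', smul_eq_mul, mul_one]
  have hπsurj : Function.Surjective π := by
    intro x
    induction x using TensorProduct.induction_on with
    | zero => exact ⟨0, map_zero _⟩
    | tmul k z =>
      obtain ⟨j, hj, u, hu⟩ := hker z.1 z.2
      have hz : z = u • (⟨algebraMap A A' j, hK ⟨j, hj⟩⟩ : RingHom.ker (algebraMap A' L)) :=
        Subtype.ext hu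
      refine ⟨(u • k) ⊗ₜ ⟨j, hj⟩, ?_⟩
      rw [hπ, hz, TensorProduct.tmul_smul, TensorProduct.smul_tmul']
    | add x y hx hy =>
      obtain ⟨x', rfl⟩ := hx
      obtain ⟨y', rfl⟩ := hy
      exact ⟨x' + y', map_add _ _ _⟩
  have hsq : ∀ y, cotangentComplexBaseChange R L A' κ (π y) =
      ι (cotangentComplexBaseChange R B A κ y) := by
    intro y
    induction y using TensorProduct.induction_on with
    | zero => simp
    | tmul k j => rw [hπ, hcomp]
    | add x y hx hy => simp only [map_add, hx, hy]
  -- injectivity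
  rw [injective_iff_map_eq_zero]
  intro x hx
  obtain ⟨y, rfl⟩ := hπsurj x
  rw [hsq] at hx
  have h0 : cotangentComplexBaseChange R B A κ y = 0 := by
    have := ι.injective (hx.trans (map_zero ι).symm)
    exact this
  have hy : y = 0 := hinj (h0.trans (map_zero _).symm)
  rw [hy, map_zero]

end part1

section part2b
variable {R A κ : Type u} [CommRing R] [CommRing A] [Algebra R A] [Algebra A R] [IsScalarTower R A R]
  [Field κ] [Algebra R κ] [Algebra A κ] [IsScalarTower A R κ]

theorem cotEquiv_toCotangent (x : RingHom.ker (algebraMap A R)) :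
    Groth.Agent.S18962.cotEquiv (A := R) (B := A) ((RingHom.ker (algebraMap A R)).toCotangent x) =
      (1 : R) ⊗ₜ[A] D R A x.1 := rfl

theorem fibreEquiv_tmul_D (k : κ) (x : RingHom.ker (algebraMap A R)) :
    Groth.Agent.S18962.fibreEquiv (A := R) (B := A) (κ := κ) (k ⊗ₜ[A] D R A x.1) =
      k ⊗ₜ[R] (RingHom.ker (algebraMap A R)).toCotangent x := by
  unfold Groth.Agent.S18962.fibreEquiv
  rw [LinearEquiv.trans_apply, AlgebraTensorModule.cancelBaseChange_symm_tmul,
    AlgebraTensorModule.congr_tmul, LinearEquiv.refl_apply, ← cotEquiv_toCotangent,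
    LinearEquiv.symm_apply_apply]

end part2b

section part2
variable {R A : Type u} [CommRing R] [CommRing A] [Algebra R A] [Algebra A R] [IsScalarTower R A R]

theorem sub_mem_ker_section (a : A) :
    a - algebraMap R A (algebraMap A R a) ∈ RingHom.ker (algebraMap A R) := by
  rw [RingHom.mem_ker, map_sub, ← IsScalarTower.algebraMap_apply R A R]
  simp

theorem isScalarTower_cotangent :
    IsScalarTower A R (RingHom.ker (algebraMap A R)).Cotangent := by
  refine IsScalarTower.of_algebraMap_smul fun a m => ?_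
  have h := Ideal.Cotangent.smul_eq_zero_of_mem (sub_mem_ker_section (R := R) a) m
  rw [sub_smul, sub_eq_zero, algebraMap_smul] at h
  exact h.symm

variable (J : Ideal A)

/-- the map `R ⊗[A] K → I/I²`. -/
noncomputable def gammaMap (hKI : RingHom.ker (algebraMap A (A ⧸ J)) ≤ RingHom.ker (algebraMap A R)) :
    R ⊗[A] RingHom.ker (algebraMap A (A ⧸ J)) →ₗ[R] (RingHom.ker (algebraMap A R)).Cotangent :=
  have := isScalarTower_cotangent (R := R) (A := A)
  LinearMap.liftBaseChange R
    ((RingHom.ker (algebraMap A R)).toCotangent ∘ₗ Submodule.inclusion hKI)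

theorem gammaMap_tmul (hKI : RingHom.ker (algebraMap A (A ⧸ J)) ≤ RingHom.ker (algebraMap A R))
    (r : R) (j : RingHom.ker (algebraMap A (A ⧸ J))) :
    gammaMap J hKI (r ⊗ₜ j) = r • (RingHom.ker (algebraMap A R)).toCotangent ⟨j.1, hKI j.2⟩ := by
  have := isScalarTower_cotangent (R := R) (A := A)
  simp only [gammaMap, LinearMap.liftBaseChange_tmul, LinearMap.comp_apply]
  rfl

theorem exists_one_tmul (x : R ⊗[A] RingHom.ker (algebraMap A (A ⧸ J))) :
    ∃ j, x = (1 : R) ⊗ₜ[A] j := by
  induction x using TensorProduct.induction_on with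
  | zero => exact ⟨0, (TensorProduct.tmul_zero _ _).symm⟩
  | tmul r j =>
    refine ⟨algebraMap R A r • j, ?_⟩
    rw [← TensorProduct.smul_tmul, Algebra.smul_def, mul_one,
      ← IsScalarTower.algebraMap_apply R A R, Algebra.algebraMap_self_apply]
  | add x y hx hy =>
    obtain ⟨j₁, rfl⟩ := hx
    obtain ⟨j₂, rfl⟩ := hy
    exact ⟨j₁ + j₂, (TensorProduct.tmul_add _ _ _).symm⟩

theorem one_tmul_eq_zero_of_mem_mul (j : RingHom.ker (algebraMap A (A ⧸ J)))
    (hj : j.1 ∈ RingHom.ker (algebraMap A R) * J) :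
    (1 : R) ⊗ₜ[A] j = 0 := by
  let φ : RingHom.ker (algebraMap A (A ⧸ J)) →ₗ[A] R ⊗[A] RingHom.ker (algebraMap A (A ⧸ J)) :=
    TensorProduct.mk A R _ 1
  have hle : RingHom.ker (algebraMap A R) * J ≤
      (LinearMap.ker φ).map (RingHom.ker (algebraMap A (A ⧸ J))).subtype := by
    rw [Ideal.mul_le]
    intro i hi j' hj'
    have hj'K : j' ∈ RingHom.ker (algebraMap A (A ⧸ J)) := by
      rw [RingHom.mem_ker, Ideal.Quotient.algebraMap_eq, Ideal.Quotient.eq_zero_iff_mem]
      exact hj'
    refine ⟨i • ⟨j', hj'K⟩, ?_, rfl⟩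
    change (1 : R) ⊗ₜ[A] (i • (⟨j', hj'K⟩ : RingHom.ker (algebraMap A (A ⧸ J)))) = 0
    rw [← TensorProduct.smul_tmul, Algebra.smul_def, mul_one, (RingHom.mem_ker).mp hi,
      TensorProduct.zero_tmul]
  obtain ⟨k, hk, hkj⟩ := hle hj
  have : k = j := Subtype.ext hkj
  rw [← this]
  exact hk

theorem gammaMap_injective
    (hKI : RingHom.ker (algebraMap A (A ⧸ J)) ≤ RingHom.ker (algebraMap A R))
    (h2 : J ⊓ RingHom.ker (algebraMap A R) ^ 2 = RingHom.ker (algebraMap A R) * J) :
    Function.Injective (gammaMap (R := R) J hKI) := by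
  rw [injective_iff_map_eq_zero]
  intro x hx
  obtain ⟨j, rfl⟩ := exists_one_tmul J x
  rw [gammaMap_tmul, one_smul, Ideal.toCotangent_eq_zero] at hx
  refine one_tmul_eq_zero_of_mem_mul J j ?_
  rw [← h2]
  refine ⟨?_, hx⟩
  have := (RingHom.mem_ker).mp j.2
  exact Ideal.Quotient.eq_zero_iff_mem.mp this

/-- the projection `I/I² → I/(J + I²)`. -/
noncomputable def cotProj :
    (RingHom.ker (algebraMap A R)).Cotangent →ₗ[R]
      (↥(RingHom.ker (algebraMap A R)) ⧸
        Submodule.comap (RingHom.ker (algebraMap A R)).subtype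
          (J ⊔ RingHom.ker (algebraMap A R) ^ 2)) :=
  (Submodule.mapQ (RingHom.ker (algebraMap A R) • ⊤)
    (Submodule.comap (RingHom.ker (algebraMap A R)).subtype
          (J ⊔ RingHom.ker (algebraMap A R) ^ 2)) LinearMap.id (by
      intro x hx
      rw [Submodule.comap_id, Submodule.mem_comap]
      refine Submodule.mem_sup_right ?_
      have h0 : (RingHom.ker (algebraMap A R)).toCotangent x = 0 :=
        (Submodule.Quotient.mk_eq_zero _).mpr hx
      exact (Ideal.toCotangent_eq_zero _ x).mp h0)).restrictScalars R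

theorem cotProj_toCotangent (i : RingHom.ker (algebraMap A R)) :
    cotProj (R := R) J ((RingHom.ker (algebraMap A R)).toCotangent i) =
      Submodule.Quotient.mk i := rfl

theorem gammaMap_retraction
    (hKI : RingHom.ker (algebraMap A (A ⧸ J)) ≤ RingHom.ker (algebraMap A R))
    (h2 : J ⊓ RingHom.ker (algebraMap A R) ^ 2 = RingHom.ker (algebraMap A R) * J)
    (h3 : Module.Projective R (↥(RingHom.ker (algebraMap A R)) ⧸
        Submodule.comap (RingHom.ker (algebraMap A R)).subtype
          (J ⊔ RingHom.ker (algebraMap A R) ^ 2))) :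
    ∃ l, l ∘ₗ gammaMap (R := R) J hKI = LinearMap.id := by
  have hJK : ∀ j ∈ J, j ∈ RingHom.ker (algebraMap A (A ⧸ J)) := by
    intro j hj
    rw [RingHom.mem_ker, Ideal.Quotient.algebraMap_eq, Ideal.Quotient.eq_zero_iff_mem]
    exact hj
  have hKJ : ∀ j ∈ RingHom.ker (algebraMap A (A ⧸ J)), j ∈ J := by
    intro j hj
    exact Ideal.Quotient.eq_zero_iff_mem.mp ((RingHom.mem_ker).mp hj)
  have hsurj : Function.Surjective (cotProj (R := R) J) := by
    intro y
    obtain ⟨i, rfl⟩ := Submodule.Quotient.mk_surjective _ y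
    exact ⟨(RingHom.ker (algebraMap A R)).toCotangent i, rfl⟩
  have hex : Function.Exact (gammaMap (R := R) J hKI) (cotProj (R := R) J) := by
    intro y
    constructor
    · intro hy
      obtain ⟨i, rfl⟩ := Ideal.toCotangent_surjective _ y
      rw [cotProj_toCotangent, Submodule.Quotient.mk_eq_zero, Submodule.mem_comap] at hy
      obtain ⟨j, hj, z, hz, hjz⟩ := Submodule.mem_sup.mp hy
      refine ⟨(1 : R) ⊗ₜ[A] ⟨j, hJK j hj⟩, ?_⟩
      rw [gammaMap_tmul, one_smul, Ideal.toCotangent_eq]
      have : (j : A) - i.1 = -z := by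
        have h' : (RingHom.ker (algebraMap A R)).subtype i = i.1 := rfl
        rw [h'] at hjz
        rw [← hjz]
        ring
      rw [this]
      exact neg_mem hz
    · rintro ⟨x, rfl⟩
      obtain ⟨j, rfl⟩ := exists_one_tmul J x
      rw [gammaMap_tmul, one_smul, cotProj_toCotangent, Submodule.Quotient.mk_eq_zero,
        Submodule.mem_comap]
      exact Submodule.mem_sup_left (hKJ _ j.2)
  have := (Function.Exact.split_tfae hex (gammaMap_injective J hKI h2) hsurj).out 0 1
  exact this.mp (Module.projective_lifting_property _ _ hsurj)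

theorem injective_cotangentComplexBaseChange {κ : Type u} [Field κ] [Algebra R κ] [Algebra A κ]
    [IsScalarTower A R κ] [Algebra (A ⧸ J) κ] [IsScalarTower A (A ⧸ J) κ]
    (hKI : RingHom.ker (algebraMap A (A ⧸ J)) ≤ RingHom.ker (algebraMap A R))
    (h2 : J ⊓ RingHom.ker (algebraMap A R) ^ 2 = RingHom.ker (algebraMap A R) * J)
    (h3 : Module.Projective R (↥(RingHom.ker (algebraMap A R)) ⧸
        Submodule.comap (RingHom.ker (algebraMap A R)).subtype
          (J ⊔ RingHom.ker (algebraMap A R) ^ 2))) :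
    Function.Injective (cotangentComplexBaseChange R (A ⧸ J) A κ) := by
  obtain ⟨l, hl⟩ := gammaMap_retraction J hKI h2 h3
  have hγ : Function.Injective ((gammaMap (R := R) J hKI).baseChange κ) := by
    have : (l.baseChange κ) ∘ₗ ((gammaMap (R := R) J hKI).baseChange κ) = LinearMap.id := by
      rw [← LinearMap.baseChange_comp, hl, LinearMap.baseChange_id]
    exact Function.HasLeftInverse.injective ⟨_, LinearMap.congr_fun this⟩
  let Ψ₁ : κ ⊗[A] RingHom.ker (algebraMap A (A ⧸ J)) ≃ₗ[κ]
      κ ⊗[R] (R ⊗[A] RingHom.ker (algebraMap A (A ⧸ J))) :=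
    (AlgebraTensorModule.cancelBaseChange A R κ κ _).symm
  let Ψ₂ : κ ⊗[A] Ω[A⁄R] ≃ₗ[κ] κ ⊗[R] (RingHom.ker (algebraMap A R)).Cotangent :=
    Groth.Agent.S18962.fibreEquiv (A := R) (B := A) (κ := κ)
  have hsq : ∀ x, Ψ₂ (cotangentComplexBaseChange R (A ⧸ J) A κ x) =
      (gammaMap (R := R) J hKI).baseChange κ (Ψ₁ x) := by
    intro x
    induction x using TensorProduct.induction_on with
    | zero => rw [map_zero, map_zero, map_zero, map_zero]
    | tmul k j =>
      have e1 : cotangentComplexBaseChange R (A ⧸ J) A κ (k ⊗ₜ j) = k ⊗ₜ[A] D R A j.1 := by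
        rw [cotangentComplexBaseChange_tmul, kerToTensor_apply, TensorProduct.smul_tmul',
          smul_eq_mul, mul_one]
      have e2 : Ψ₁ (k ⊗ₜ j) = k ⊗ₜ[R] ((1 : R) ⊗ₜ[A] j) :=
        AlgebraTensorModule.cancelBaseChange_symm_tmul ..
      rw [e1, e2, LinearMap.baseChange_tmul, gammaMap_tmul, one_smul]
      exact fibreEquiv_tmul_D k ⟨j.1, hKI j.2⟩
    | add x y hx hy => rw [map_add, map_add, map_add, map_add, hx, hy]
  rw [injective_iff_map_eq_zero]
  intro x hx
  have h0 : (gammaMap (R := R) J hKI).baseChange κ (Ψ₁ x) = 0 := by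
    rw [← hsq, hx, map_zero]
  have h1 : Ψ₁ x = 0 := hγ (h0.trans (map_zero _).symm)
  exact Ψ₁.injective (h1.trans (map_zero _).symm)

end part2

-- HELPERS END


/-- In affine form, let R be a commutative ring, A a smooth R-algebra with an augmentation ε : A → R
(the unit section of G = Spec A over S = Spec R), I = ker ε its augmentation ideal, and J ⊆ I an
ideal (defining a closed subscheme H of G through the unit section) such that (1) J is finitely
generated, (2) J ∩ I² = I·J in A, and (3) I/(J + I²) is a finitely generated projective R-module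
(finite locally free on S). Then H = Spec (A/J) is smooth over S at every point of the unit section:
for every prime P of A/J containing the image of I, the localization (A/J)_P is formally smooth over
R. (The source states this for G an affine smooth group scheme over a scheme S and H a closed
subgroup, concluding that the neutral component H° is a smooth open subgroup scheme; that conclusion
is smoothness of H along the unit section, which is the statement here in affine form; the group
structure is not used.) -/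
theorem result (R A : Type u) [CommRing R] [CommRing A] [Algebra R A]
    [Algebra.Smooth R A] (ε : A →ₐ[R] R) (J : Ideal A) (hJI : J ≤ RingHom.ker ε)
    (h1 : J.FG)
    (h2 : J ⊓ RingHom.ker ε ^ 2 = RingHom.ker ε * J)
    (h3 : Module.Finite R (↥(RingHom.ker ε) ⧸ Submodule.comap (RingHom.ker ε).subtype (J ⊔ RingHom.ker ε ^ 2)) ∧
      Module.Projective R (↥(RingHom.ker ε) ⧸ Submodule.comap (RingHom.ker ε).subtype (J ⊔ RingHom.ker ε ^ 2)))
    (P : Ideal (A ⧸ J)) [P.IsPrime] (hP : (RingHom.ker ε).map (Ideal.Quotient.mk J) ≤ P) :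
    Algebra.IsSmoothAt R P := by
  let _ : Algebra A R := ε.toRingHom.toAlgebra
  have t1 : IsScalarTower R A R := IsScalarTower.of_algebraMap_eq fun a => (ε.commutes a).symm
  have hJI' : J ≤ RingHom.ker (algebraMap A R) := hJI
  have h2' : J ⊓ RingHom.ker (algebraMap A R) ^ 2 = RingHom.ker (algebraMap A R) * J := h2
  have h3' : Module.Projective R (↥(RingHom.ker (algebraMap A R)) ⧸
        Submodule.comap (RingHom.ker (algebraMap A R)).subtype
          (J ⊔ RingHom.ker (algebraMap A R) ^ 2)) := h3.2
  have hP' : (RingHom.ker (algebraMap A R)).map (algebraMap A (A ⧸ J)) ≤ P := hP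
  have t2 : IsScalarTower A R (ResidueField (Localization.AtPrime P)) := by
    refine IsScalarTower.of_algebraMap_eq fun a => ?_
    have hmem : a - algebraMap R A (algebraMap A R a) ∈ RingHom.ker (algebraMap A R) :=
      sub_mem_ker_section a
    have hP'' : algebraMap A (A ⧸ J) (a - algebraMap R A (algebraMap A R a)) ∈ P :=
      hP' (Ideal.mem_map_of_mem _ hmem)
    have h4 : algebraMap (A ⧸ J) (Localization.AtPrime P)
        (algebraMap A (A ⧸ J) (a - algebraMap R A (algebraMap A R a))) ∈
          maximalIdeal (Localization.AtPrime P) :=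
      (IsLocalization.AtPrime.to_map_mem_maximal_iff (Localization.AtPrime P) P _).mpr hP''
    have h5 := (residue_eq_zero_iff _).mpr h4
    rw [← IsScalarTower.algebraMap_apply A (A ⧸ J) (Localization.AtPrime P), map_sub, map_sub,
      sub_eq_zero, ← IsScalarTower.algebraMap_apply R A (Localization.AtPrime P)] at h5
    exact h5
  have hKI : RingHom.ker (algebraMap A (A ⧸ J)) ≤ RingHom.ker (algebraMap A R) := by
    rw [Ideal.Quotient.algebraMap_eq, Ideal.mk_ker]
    exact hJI'
  have hfg : (RingHom.ker (algebraMap A (A ⧸ J))).FG := by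
    rw [Ideal.Quotient.algebraMap_eq, Ideal.mk_ker]
    exact h1
  exact formallySmooth_localization_of_injective P Ideal.Quotient.mk_surjective hfg
    (injective_cotangentComplexBaseChange J hKI h2' h3')

end Groth.Agent.S19149
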