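import Groth.Statements.S19154
import Groth.Agent.Lib.Helper1.FiltSplit.Main

set_option autoImplicit false
open scoped TensorProduct
universe u v w
open FiltMod

namespace Groth.Agent.S19154

/-- (1) ⇔ (4): in affine form, let Γ be a non-trivial totally ordered commutative group, R a commutative
ring, M a finitely generated projective R-module (a finite locally free sheaf on X = Spec R) and F a
non-increasing Γ-indexed family of submodules of M; write F^γ_+ for the sum of the F^η with η > γ
and Gr^γ = F^γ/F^γ_+. Then the following are equivalent: (1) there is a Γ-grading M = ⊕_γ G_γ by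
submodules (internal direct sum) with F^γ = Σ_{η ≥ γ} G_η for every γ; (4) every Gr^γ is finitely
generated projective over R and, for every prime p of R, dim_{κ(p)} (κ(p) ⊗ M) = Σ_γ dim_{κ(p)} Gr^γ
of the image filtration on κ(p) ⊗ M (whose γ-th term F_x^γ is the image of κ(p) ⊗ F^γ; dim Gr^γ is
written as dim F_x^γ − dim F_x^γ_+, and the sum has finitely many non-zero terms). (The source's
conditions (2), (3) are the Zariski- and fpqc-local forms of (1) on a general scheme; its further
assertions on F^γ ⊗ κ(x) are not stated.) -/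
theorem result
    {Γ : Type w} [AddCommGroup Γ] [LinearOrder Γ] [IsOrderedAddMonoid Γ] [Nontrivial Γ]
    {R : Type u} [CommRing R] {M : Type v} [AddCommGroup M] [Module R M] [Module.Finite R M] [Module.Projective R M]
    (F : Γ → Submodule R M) (hF : Antitone F)
    (Fp : Γ → Submodule R M) (hFp : ∀ γ, Fp γ = ⨆ η ∈ Set.Ioi γ, F η) :
    (∃ G : Γ → Submodule R M, DirectSum.IsInternal G ∧ ∀ γ, F γ = ⨆ η ∈ Set.Ici γ, G η) ↔
    ((∀ γ, Module.Finite R (↥(F γ) ⧸ Submodule.comap (F γ).subtype (Fp γ)) ∧
        Module.Projective R (↥(F γ) ⧸ Submodule.comap (F γ).subtype (Fp γ))) ∧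
      ∀ (p : PrimeSpectrum R) (Fx : Γ → Submodule p.asIdeal.ResidueField (p.asIdeal.ResidueField ⊗[R] M)),
        (∀ γ, Fx γ = LinearMap.range ((F γ).subtype.baseChange p.asIdeal.ResidueField)) →
        Module.finrank p.asIdeal.ResidueField (p.asIdeal.ResidueField ⊗[R] M) =
          ∑ᶠ γ, (Module.finrank p.asIdeal.ResidueField ↥(Fx γ) -
            Module.finrank p.asIdeal.ResidueField ↥(⨆ η ∈ Set.Ioi γ, Fx η))) := by
  classical
  have hFp' : Fp = Lib.Helper1.FiltSplit.mplus F := funext hFp
  subst hFp'
  constructor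
  · rintro ⟨G, hG, hFG⟩
    have hc := Lib.Helper1.FiltSplit.isComplFam_of_isInternal hG hFG
    refine ⟨fun γ => ?_, ?_⟩
    · obtain ⟨hfin, hproj⟩ := Lib.Helper1.FiltSplit.finite_projective_of_isInternal hG γ
      exact ⟨Module.Finite.equiv (hc.equiv γ), Module.Projective.of_equiv (hc.equiv γ)⟩
    · intro p Fx hFx
      have hFx' : Fx = fun γ => (F γ).baseChange p.asIdeal.ResidueField := funext hFx
      subst hFx'
      exact Lib.Helper1.FiltSplit.finrank_fibre_of_isInternal hG hFG p.asIdeal.ResidueField
  · rintro ⟨h1, h2⟩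
    exact Lib.Helper1.FiltSplit.split_of_fibre F hF (fun γ => (h1 γ).2)
      (fun p => h2 p (fun γ => (F γ).baseChange p.asIdeal.ResidueField) (fun γ => rfl))

end Groth.Agent.S19154
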