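import Groth.Statements.S19158
import Mathlib
-- import your own Groth.Agent.* helpers here

set_option autoImplicit false
universe u v w
open FiltMod

namespace Groth.Agent.S19158

open Submodule in
theorem exists_grading_of_step_filtration {Γ : Type*} [LinearOrder Γ] {R : Type*} [Ring R]
    {N : Type*} [AddCommGroup N] [Module R N]
    (F : Γ → Submodule R N) (hF : Antitone F) (S : Finset Γ)
    (ha : ∀ γ, F γ = ⨆ η ∈ S.filter (fun η => γ ≤ η), F η)
    (hc : ∀ γ, ∃ C, IsCompl (F γ) C) :
    ∃ G : Γ → Submodule R N, iSupIndep G ∧ ∀ γ, F γ = ⨆ η ∈ Set.Ici γ, G η := by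
  classical
  set P : Γ → Submodule R N := fun γ => ⨆ η ∈ S.filter (fun η => γ < η), F η with hPdef
  have hP : ∀ γ, ∃ C, IsCompl (P γ) C := by
    intro γ
    by_cases hne : (S.filter (fun η => γ < η)).Nonempty
    · have hmin := Finset.min'_mem _ hne
      have hPeq : P γ = F ((S.filter (fun η => γ < η)).min' hne) := by
        apply le_antisymm
        · refine iSup₂_le fun η hη => hF (Finset.min'_le _ _ hη)
        · exact le_iSup₂_of_le _ hmin le_rfl
      rw [hPeq]
      exact hc _
    · rw [Finset.not_nonempty_iff_eq_empty] at hne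
      refine ⟨⊤, ?_⟩
      have : P γ = ⊥ := by
        simp only [hPdef, hne]
        simp
      rw [this]
      exact isCompl_bot_top
  choose K hK using hP
  have hPF : ∀ γ, P γ ≤ F γ := fun γ =>
    iSup₂_le fun η hη => hF (le_of_lt (Finset.mem_filter.mp hη).2)
  have hFP : ∀ γ η, γ < η → F η ≤ P γ := by
    intro γ η h
    rw [ha η]
    refine iSup₂_le fun ζ hζ => ?_
    have hζ' := Finset.mem_filter.mp hζ
    exact le_iSup₂_of_le ζ (Finset.mem_filter.mpr ⟨hζ'.1, lt_of_lt_of_le h hζ'.2⟩) le_rfl
  refine ⟨fun γ => F γ ⊓ K γ, ?_, ?_⟩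
  · rw [iSupIndep_iff_finsetSum_eq_zero_imp_eq_zero]
    intro s v hv hsum
    by_contra hcon
    push Not at hcon
    obtain ⟨i, his, hi0⟩ := hcon
    set T := s.filter (fun i => v i ≠ 0) with hT
    have hTne : T.Nonempty := ⟨i, Finset.mem_filter.mpr ⟨his, hi0⟩⟩
    set γ0 := T.min' hTne with hγ0
    have hγ0T : γ0 ∈ T := Finset.min'_mem _ hTne
    have hsumT : ∑ i ∈ T, v i = 0 := by
      rw [hT, Finset.sum_filter_ne_zero]; exact hsum
    rw [← Finset.add_sum_erase _ _ hγ0T] at hsumT
    have hrest : ∑ i ∈ T.erase γ0, v i ∈ P γ0 := by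
      refine Submodule.sum_mem _ fun j hj => ?_
      have hj' := Finset.mem_erase.mp hj
      have hlt : γ0 < j := lt_of_le_of_ne (Finset.min'_le _ _ hj'.2) (Ne.symm hj'.1)
      have hjs : j ∈ s := (Finset.mem_filter.mp hj'.2).1
      exact hFP γ0 j hlt ((hv j hjs).1)
    have hv0 : v γ0 ∈ P γ0 := by
      have : v γ0 = - ∑ i ∈ T.erase γ0, v i := eq_neg_of_add_eq_zero_left hsumT
      rw [this]; exact Submodule.neg_mem _ hrest
    have hv0' : v γ0 ∈ K γ0 := (hv γ0 (Finset.mem_filter.mp hγ0T).1).2
    have := (Submodule.disjoint_def.mp (hK γ0).disjoint) _ hv0 hv0'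
    exact (Finset.mem_filter.mp hγ0T).2 this
  · intro γ
    apply le_antisymm
    · have key : ∀ n γ, (S.filter (fun η => γ < η)).card < n →
          F γ ≤ ⨆ η ∈ Set.Ici γ, F η ⊓ K η := by
        intro n
        induction n with
        | zero => intro γ h; omega
        | succ n ih =>
          intro γ hcard
          have h1 : F γ = P γ ⊔ (F γ ⊓ K γ) := by
            have := sup_inf_assoc_of_le (K γ) (hPF γ)
            rw [(hK γ).sup_eq_top, top_inf_eq, inf_comm] at this
            exact this
          rw [h1]
          refine sup_le ?_ (le_iSup₂_of_le γ (Set.mem_Ici.mpr le_rfl) le_rfl)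
          refine iSup₂_le fun η hη => ?_
          have hη' := Finset.mem_filter.mp hη
          have hlt : (S.filter (fun ζ => η < ζ)).card < (S.filter (fun ζ => γ < ζ)).card := by
            apply Finset.card_lt_card
            refine ⟨fun ζ hζ => ?_, fun hsub => ?_⟩
            · have := Finset.mem_filter.mp hζ
              exact Finset.mem_filter.mpr ⟨this.1, lt_trans hη'.2 this.2⟩
            · have := hsub hη
              exact lt_irrefl _ (Finset.mem_filter.mp this).2
          refine (ih η (by omega)).trans ?_
          refine iSup₂_le fun ζ hζ => ?_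
          exact le_iSup₂_of_le ζ (Set.mem_Ici.mpr (le_trans (le_of_lt hη'.2) hζ)) le_rfl
      exact key _ γ (Nat.lt_succ_self _)
    · refine iSup₂_le fun η hη => ?_
      exact inf_le_left.trans (hF hη)



/-- In affine form, let Γ be a non-trivial totally ordered commutative group, R a commutative ring and
(M_a) a finite family of finitely generated projective R-modules, each carrying a non-increasing
Γ-indexed family of submodules F_a; give M = Π_a M_a the family F^γ = Π_a F_a^γ. Then F is split by
a Γ-grading of M (an internal direct sum decomposition M = ⊕_γ G_γ with F^γ = Σ_{η ≥ γ} G_η for all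
γ) if and only if each F_a is split by a Γ-grading of M_a. (The published statement is for finite
locally free sheaves on a scheme, where a filtration counts as split when it is split by a grading
locally on the scheme; this row is the affine case, in which that is the same as being split by one
global grading.) -/
theorem result
    {Γ : Type w} [AddCommGroup Γ] [LinearOrder Γ] [IsOrderedAddMonoid Γ] [Nontrivial Γ]
    {R : Type u} [CommRing R] {A : Type v} [Fintype A] (M : A → Type v) [∀ a, AddCommGroup (M a)] [∀ a, Module R (M a)]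
    [∀ a, Module.Finite R (M a)] [∀ a, Module.Projective R (M a)]
    (F : ∀ a, Γ → Submodule R (M a)) (hF : ∀ a, Antitone (F a)) :
    (∃ G : Γ → Submodule R (∀ a, M a), DirectSum.IsInternal G ∧
        ∀ γ, Submodule.pi Set.univ (fun a => F a γ) = ⨆ η ∈ Set.Ici γ, G η) ↔
    ∀ a, ∃ G : Γ → Submodule R (M a), DirectSum.IsInternal G ∧ ∀ γ, F a γ = ⨆ η ∈ Set.Ici γ, G η := by
  classical
  constructor
  · -- (⇒)
    rintro ⟨G, hG, hFG⟩ a
    rw [DirectSum.isInternal_submodule_iff_iSupIndep_and_iSup_eq_top] at hG
    obtain ⟨hind, htop⟩ := hG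
    -- finite support
    have hfg : (⊤ : Submodule R (∀ a, M a)).FG := Module.Finite.fg_top
    have hcomp := (Submodule.fg_iff_compact _).mp hfg
    obtain ⟨S, hS⟩ := CompleteLattice.IsCompactElement.exists_finset_of_le_iSup _ hcomp G
      (le_of_eq htop.symm)
    have hbot : ∀ η, η ∉ S → G η = ⊥ := by
      intro η hη
      have h1 : G η ≤ ⨆ ζ, ⨆ (_ : ζ ≠ η), G ζ := by
        refine le_top.trans (hS.trans ?_)
        refine iSup₂_le fun ζ hζ => ?_
        exact le_iSup₂_of_le ζ (fun h => hη (h ▸ hζ)) le_rfl
      exact (hind η).eq_bot_of_le h1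
    set FF : Γ → Submodule R (∀ a, M a) := fun γ => Submodule.pi Set.univ (fun b => F b γ) with hFF
    have hFFanti : Antitone FF := by
      intro γ η h x hx
      rw [hFF, Submodule.mem_pi] at hx ⊢
      exact fun b hb => hF b h (hx b hb)
    have hmap : ∀ γ, Submodule.map (LinearMap.proj a) (FF γ) = F a γ := by
      intro γ
      apply le_antisymm
      · rintro _ ⟨x, hx, rfl⟩
        exact (Submodule.mem_pi.mp hx) a (Set.mem_univ _)
      · intro x hx
        refine ⟨Pi.single a x, ?_, by simp⟩
        rw [SetLike.mem_coe, hFF, Submodule.mem_pi]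
        intro b _
        by_cases hb : b = a
        · subst hb; simpa using hx
        · rw [Pi.single_eq_of_ne hb]; exact Submodule.zero_mem _
    have hGFF : ∀ η, G η ≤ FF η := by
      intro η
      rw [show FF η = _ from hFG η]
      exact le_iSup₂_of_le η (Set.mem_Ici.mpr le_rfl) le_rfl
    have haFF : ∀ γ, FF γ = ⨆ η ∈ S.filter (fun η => γ ≤ η), FF η := by
      intro γ
      apply le_antisymm
      · rw [show FF γ = _ from hFG γ]
        refine iSup₂_le fun η hη => ?_
        by_cases hηS : η ∈ S
        · exact le_iSup₂_of_le η (Finset.mem_filter.mpr ⟨hηS, hη⟩) (hGFF η)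
        · rw [hbot η hηS]; exact bot_le
      · exact iSup₂_le fun η hη => hFFanti (Finset.mem_filter.mp hη).2
    have ha : ∀ γ, F a γ = ⨆ η ∈ S.filter (fun η => γ ≤ η), F a η := by
      intro γ
      rw [← hmap γ, haFF γ, Submodule.map_iSup]
      congr 1
      funext η
      rw [Submodule.map_iSup]
      congr 1
      funext _
      exact hmap η
    have hc : ∀ γ, ∃ C, IsCompl (F a γ) C := by
      intro γ
      have hcompl : IsCompl (FF γ) (⨆ η ∈ Set.Iio γ, G η) := by
        constructor
        · rw [show FF γ = _ from hFG γ]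
          apply hind.disjoint_biSup_biSup
          rw [Set.disjoint_left]
          intro x hx hx'
          exact absurd (Set.mem_Iio.mp hx') (not_lt.mpr (Set.mem_Ici.mp hx))
        · rw [codisjoint_iff, eq_top_iff, ← htop]
          refine iSup_le fun η => ?_
          rcases le_or_gt γ η with h | h
          · refine le_sup_of_le_left ?_
            rw [show FF γ = _ from hFG γ]
            exact le_iSup₂_of_le η (Set.mem_Ici.mpr h) le_rfl
          · exact le_sup_of_le_right (le_iSup₂_of_le η (Set.mem_Iio.mpr h) le_rfl)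
      let pr := Submodule.projectionOnto (FF γ) _ hcompl
      let q : M a →ₗ[R] F a γ :=
        (((LinearMap.proj a).comp (FF γ).subtype).codRestrict (F a γ)
          (fun x => (Submodule.mem_pi.mp x.2) a (Set.mem_univ _))).comp
          (pr.comp (LinearMap.single R M a))
      refine ⟨LinearMap.ker q, LinearMap.isCompl_of_proj (f := q) ?_⟩
      intro x
      have hmem : (LinearMap.single R M a) (x : M a) ∈ FF γ := by
        rw [hFF, Submodule.mem_pi]
        intro b _
        by_cases hb : b = a
        · subst hb; simp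
        · rw [LinearMap.single_apply, Pi.single_eq_of_ne hb]; exact Submodule.zero_mem _
      have hpr : pr ((LinearMap.single R M a) (x : M a)) = ⟨_, hmem⟩ :=
        Submodule.projectionOnto_apply_left hcompl ⟨_, hmem⟩
      apply Subtype.ext
      simp only [q, LinearMap.comp_apply, hpr, LinearMap.codRestrict_apply]
      simp
    obtain ⟨Ga, hGa_ind, hGa⟩ := exists_grading_of_step_filtration (F a) (hF a) S ha hc
    refine ⟨Ga, ?_, hGa⟩
    rw [DirectSum.isInternal_submodule_iff_iSupIndep_and_iSup_eq_top]
    refine ⟨hGa_ind, ?_⟩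
    obtain ⟨γ1, hγ1⟩ : ∃ γ1, ∀ η ∈ S, γ1 ≤ η := by
      rcases S.eq_empty_or_nonempty with h | h
      · exact ⟨Classical.arbitrary Γ, by simp [h]⟩
      · exact ⟨S.min' h, fun η hη => Finset.min'_le _ _ hη⟩
    have hFFtop : FF γ1 = ⊤ := by
      rw [eq_top_iff, show FF γ1 = _ from hFG γ1]
      refine hS.trans (iSup₂_le fun η hη => ?_)
      exact le_iSup₂_of_le η (Set.mem_Ici.mpr (hγ1 η hη)) le_rfl
    have hFatop : F a γ1 = ⊤ := by
      rw [← hmap γ1, hFFtop, Submodule.map_top, LinearMap.range_eq_top]
      exact LinearMap.proj_surjective a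
    rw [eq_top_iff, ← hFatop, hGa γ1]
    exact iSup₂_le fun η _ => le_iSup Ga η
  · -- (⇐)
    intro h
    choose Ga hint hFa using h
    set G : Γ → Submodule R (∀ a, M a) := fun γ => Submodule.pi Set.univ (fun a => Ga a γ) with hGdef
    have hsingle_mem : ∀ a γ (y : M a), y ∈ Ga a γ → Pi.single a y ∈ G γ := by
      intro a γ y hy
      rw [hGdef, Submodule.mem_pi]
      intro b _
      by_cases hb : b = a
      · subst hb; simpa using hy
      · rw [Pi.single_eq_of_ne hb]; exact Submodule.zero_mem _
    have hsingle : ∀ a (T : Set Γ) (y : M a), y ∈ (⨆ η ∈ T, Ga a η) →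
        Pi.single a y ∈ (⨆ η ∈ T, G η) := by
      intro a T y hy
      have h1 : Submodule.map (LinearMap.single R M a) (⨆ η ∈ T, Ga a η) ≤ ⨆ η ∈ T, G η := by
        rw [Submodule.map_iSup]
        refine iSup_le fun η => ?_
        rw [Submodule.map_iSup]
        refine iSup_le fun hη => ?_
        refine le_iSup₂_of_le η hη ?_
        rintro _ ⟨z, hz, rfl⟩
        exact hsingle_mem a η z hz
      exact h1 ⟨y, hy, rfl⟩
    refine ⟨G, ?_, ?_⟩
    · rw [DirectSum.isInternal_submodule_iff_iSupIndep_and_iSup_eq_top]
      constructor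
      · rw [iSupIndep_def]
        intro γ
        rw [Submodule.disjoint_def]
        intro x hx hx'
        funext a
        have hia := (DirectSum.isInternal_submodule_iff_iSupIndep_and_iSup_eq_top _).mp (hint a)
        have h1 : x a ∈ Ga a γ := (Submodule.mem_pi.mp hx) a (Set.mem_univ _)
        have h2 : x a ∈ ⨆ η, ⨆ (_ : η ≠ γ), Ga a η := by
          have h3 : Submodule.map (LinearMap.proj a) (⨆ η, ⨆ (_ : η ≠ γ), G η) ≤
              ⨆ η, ⨆ (_ : η ≠ γ), Ga a η := by
            rw [Submodule.map_iSup]
            refine iSup_le fun η => ?_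
            rw [Submodule.map_iSup]
            refine iSup_le fun hη => ?_
            refine le_iSup₂_of_le η hη ?_
            rintro _ ⟨z, hz, rfl⟩
            exact (Submodule.mem_pi.mp hz) a (Set.mem_univ _)
          exact h3 ⟨x, hx', rfl⟩
        exact (Submodule.disjoint_def.mp (hia.1 γ)) _ h1 h2
      · rw [eq_top_iff]
        intro x _
        rw [← Finset.univ_sum_single x]
        refine Submodule.sum_mem _ fun a _ => ?_
        have hia := (DirectSum.isInternal_submodule_iff_iSupIndep_and_iSup_eq_top _).mp (hint a)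
        have h1 : x a ∈ ⨆ η ∈ (Set.univ : Set Γ), Ga a η := by
          simp only [Set.mem_univ, iSup_pos]
          rw [hia.2]; trivial
        have := hsingle a Set.univ (x a) h1
        simpa only [Set.mem_univ, iSup_pos] using this
    · intro γ
      apply le_antisymm
      · intro x hx
        rw [← Finset.univ_sum_single x]
        refine Submodule.sum_mem _ fun a _ => ?_
        apply hsingle a (Set.Ici γ)
        rw [← hFa a γ]
        exact (Submodule.mem_pi.mp hx) a (Set.mem_univ _)
      · refine iSup₂_le fun η hη => ?_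
        intro x hx
        rw [Submodule.mem_pi] at hx ⊢
        intro a ha
        rw [hFa a γ]
        exact (le_iSup₂_of_le (f := fun η _ => Ga a η) η hη le_rfl) (hx a ha)

end Groth.Agent.S19158
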