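import Groth.Statements.S19170
import Mathlib
-- import your own Groth.Agent.* helpers here

set_option autoImplicit false
universe u
open ProCompl

namespace Groth.Agent.S19170

theorem QZ_torsion (x : ℚ ⧸ AddSubgroup.zmultiples (1 : ℚ)) : IsOfFinAddOrder x := by
  obtain ⟨q, rfl⟩ := QuotientAddGroup.mk_surjective x
  rw [isOfFinAddOrder_iff_nsmul_eq_zero]
  refine ⟨q.den, q.den_pos, ?_⟩
  rw [← QuotientAddGroup.mk_nsmul, QuotientAddGroup.eq_zero_iff]
  refine AddSubgroup.mem_zmultiples_iff.mpr ⟨q.num, ?_⟩
  simp [nsmul_eq_mul, Rat.den_mul_eq_num]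


/-- Let B be a topological abelian group generated as a group by a compact subset. Then every character
χ : B → ℚ/ℤ with open kernel (a continuous character for discrete ℚ/ℤ) has kernel of finite index;
consequently each such character factors through B^∧, the completion of B taken along its
finite-index open subgroups, i.e. (B^∧)^D = B^D. (The published statement assumes moreover that B is
Hausdorff, locally compact and totally disconnected; only compact generation is needed for this
assertion, so those assumptions are dropped here.) -/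
theorem result
    {B : Type u} [AddCommGroup B] [TopologicalSpace B] [IsTopologicalAddGroup B]
    (hcg : ∃ K : Set B, IsCompact K ∧ AddSubgroup.closure K = ⊤)
    (χ : B →+ ℚ ⧸ AddSubgroup.zmultiples (1 : ℚ)) (hχ : IsOpen (χ.ker : Set B)) : χ.ker.FiniteIndex := by
  obtain ⟨K, hK, hcl⟩ := hcg
  -- the open cover of K by level sets of χ
  have hopen : ∀ b : B, IsOpen {x : B | χ x = χ b} := by
    intro b
    have : {x : B | χ x = χ b} = (fun x => -b + x) ⁻¹' (χ.ker : Set B) := by
      ext x
      simp only [Set.mem_ofPred_eq, Set.mem_preimage, SetLike.mem_coe, AddMonoidHom.mem_ker, map_add,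
        map_neg]
      constructor
      · intro h; rw [h]; simp
      · intro h; rw [neg_add_eq_zero] at h; exact h.symm
    rw [this]
    exact hχ.preimage (continuous_const.add continuous_id)
  obtain ⟨T, hT⟩ := hK.elim_finite_subcover (fun b : B => {x : B | χ x = χ b}) hopen
    (fun x _ => Set.mem_iUnion.2 ⟨x, rfl⟩)
  have hfin : (χ '' K).Finite := by
    refine (T.finite_toSet.image χ).subset ?_
    rintro _ ⟨x, hx, rfl⟩
    obtain ⟨b, hb⟩ := Set.mem_iUnion.1 (hT hx)
    obtain ⟨hbT, hxb⟩ := Set.mem_iUnion.1 hb
    exact ⟨b, hbT, hxb.symm⟩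
  have hrange : χ.range = AddSubgroup.closure (χ '' K) := by
    rw [← AddMonoidHom.map_closure, hcl, AddMonoidHom.range_eq_map]
  have hfg : AddGroup.FG χ.range := by
    rw [AddGroup.fg_iff_addSubgroup_fg, hrange]
    exact ⟨hfin.toFinset, by simp⟩
  have htor : IsAddTorsion χ.range := by
    intro x
    have := QZ_torsion x.1
    rw [isOfFinAddOrder_iff_nsmul_eq_zero] at this ⊢
    obtain ⟨n, hn, h⟩ := this
    exact ⟨n, hn, Subtype.ext (by simpa using h)⟩
  have : Finite χ.range := AddCommGroup.finite_of_fg_isAddTorsion _ htor
  exact AddSubgroup.finiteIndex_ker χ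

end Groth.Agent.S19170
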