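import Groth.Statements.S19169
import Mathlib
import Groth.Agent.Lib.Helper95.ProCompl
import Groth.Agent.S19170
-- import your own Groth.Agent.* helpers here

set_option autoImplicit false
universe u
open ProCompl

namespace Groth.Agent.S19169

/-- Let B be a Hausdorff, locally compact, totally disconnected topological abelian group which is
compactly generated, i.e. generated as a group by a compact subset. Then the open subgroups of
finite index of B have trivial intersection: every nonzero b lies outside some open subgroup of
finite index. Equivalently, the natural map from B to its completion with respect to open subgroups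
of finite index is injective. -/
theorem result
    {B : Type u} [AddCommGroup B] [TopologicalSpace B] [IsTopologicalAddGroup B]
    [T2Space B] [LocallyCompactSpace B] [TotallyDisconnectedSpace B]
    (hcg : ∃ K : Set B, IsCompact K ∧ AddSubgroup.closure K = ⊤) (b : B) (hb : b ≠ 0) :
    ∃ B' : AddSubgroup B, IsOpen (B' : Set B) ∧ B'.FiniteIndex ∧ b ∉ B' := by
  obtain ⟨H, hHopen, hHsub⟩ := Groth.Agent.Lib.Helper95.exists_open_addSubgroup_subset
    ({b}ᶜ : Set B) isOpen_compl_singleton (by simpa using hb.symm)
  have hbH : b ∉ H := fun h => (hHsub h) rfl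
  have hne : (QuotientAddGroup.mk' H b) ≠ 0 := by
    intro h
    exact hbH ((QuotientAddGroup.eq_zero_iff b).1 h)
  obtain ⟨c, hc⟩ := CharacterModule.exists_character_apply_ne_zero_of_ne_zero hne
  let χ : B →+ ℚ ⧸ AddSubgroup.zmultiples (1 : ℚ) :=
    (show (B ⧸ H) →+ ℚ ⧸ AddSubgroup.zmultiples (1 : ℚ) from c).comp (QuotientAddGroup.mk' H)
  have hHker : H ≤ χ.ker := by
    intro x hx
    show c (QuotientAddGroup.mk' H x) = 0
    have : (QuotientAddGroup.mk' H x) = 0 := (QuotientAddGroup.eq_zero_iff x).2 hx
    rw [this]
    exact map_zero c
  have hχopen : IsOpen (χ.ker : Set B) := AddSubgroup.isOpen_mono hHker hHopen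
  refine ⟨χ.ker, hχopen, Groth.Agent.S19170.result hcg χ hχopen, ?_⟩
  intro h
  exact hc h

end Groth.Agent.S19169
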