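import Groth.Statements.S19171
import Mathlib
import Groth.Agent.Lib.Helper95.ProCompl
-- import your own Groth.Agent.* helpers here

set_option autoImplicit false
universe u v
open ProCompl

namespace Groth.Agent.S19171

open Topology in
/-- Let B be a Hausdorff, locally compact, totally disconnected topological abelian group generated as a
group by a compact subset, and let i : A → B be an injective continuous homomorphism inducing the
topology of A from that of B (a strict injection) whose image is closed. Then every character χ : A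
→ ℚ/ℤ with open kernel extends along i to a character ψ : B → ℚ/ℤ with open kernel; with ℚ/ℤ
discrete this says that restriction B^D → A^D of continuous characters is surjective, i.e. the dual
of a topological exact sequence 0 → A → B → C → 0 with such B, strict closed i and open p is a short
exact sequence 0 → C^D → B^D → A^D → 0. -/
theorem result
    {A : Type u} {B : Type v} [AddCommGroup A] [TopologicalSpace A] [IsTopologicalAddGroup A]
    [AddCommGroup B] [TopologicalSpace B] [IsTopologicalAddGroup B]
    [T2Space B] [LocallyCompactSpace B] [TotallyDisconnectedSpace B]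
    (hcg : ∃ K : Set B, IsCompact K ∧ AddSubgroup.closure K = ⊤)
    (i : A →+ B) (hi : Continuous i) (hinj : Function.Injective i) (hind : IsInducing i)
    (hcl : IsClosed (Set.range i))
    (χ : A →+ ℚ ⧸ AddSubgroup.zmultiples (1 : ℚ)) (hχ : IsOpen (χ.ker : Set A)) :
    ∃ ψ : B →+ ℚ ⧸ AddSubgroup.zmultiples (1 : ℚ), IsOpen (ψ.ker : Set B) ∧ ψ.comp i = χ := by
  -- ker χ is the preimage of an open subset of B
  obtain ⟨U, hUopen, hUpre⟩ := hind.isOpen_iff.1 hχ
  have h0U : (0 : B) ∈ U := by
    have : (0 : A) ∈ i ⁻¹' U := by rw [hUpre]; exact χ.ker.zero_mem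
    simpa using this
  obtain ⟨H, hHopen, hHsub⟩ := Groth.Agent.Lib.Helper95.exists_open_addSubgroup_subset U hUopen h0U
  -- the pulled back subgroup
  let H' : AddSubgroup A := H.comap i
  have hH'ker : H' ≤ χ.ker := by
    intro a ha
    have : a ∈ i ⁻¹' U := hHsub ha
    rw [hUpre] at this
    exact this
  let ibar : A ⧸ H' →+ B ⧸ H := QuotientAddGroup.map H' H i le_rfl
  have hibar : Function.Injective ibar := by
    rw [injective_iff_map_eq_zero]
    intro x hx
    obtain ⟨a, rfl⟩ := QuotientAddGroup.mk_surjective x
    have h1 : ibar (QuotientAddGroup.mk a) = QuotientAddGroup.mk (i a) := rfl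
    rw [h1, QuotientAddGroup.eq_zero_iff] at hx
    exact (QuotientAddGroup.eq_zero_iff a).2 hx
  let χbar : A ⧸ H' →+ ℚ ⧸ AddSubgroup.zmultiples (1 : ℚ) := QuotientAddGroup.lift H' χ hH'ker
  obtain ⟨ψbar, hψbar⟩ :=
    (Module.Baer.of_divisible (AddCircle (1 : ℚ))).extension_property_addMonoidHom ibar hibar χbar
  let ψ : B →+ ℚ ⧸ AddSubgroup.zmultiples (1 : ℚ) := ψbar.comp (QuotientAddGroup.mk' H)
  refine ⟨ψ, ?_, ?_⟩
  · refine AddSubgroup.isOpen_mono (H₁ := H) ?_ hHopen
    intro x hx
    show ψbar (QuotientAddGroup.mk' H x) = 0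
    have : (QuotientAddGroup.mk' H x) = 0 := (QuotientAddGroup.eq_zero_iff x).2 hx
    rw [this]
    exact map_zero ψbar
  · ext a
    have h1 : ψbar (ibar (QuotientAddGroup.mk a)) = χbar (QuotientAddGroup.mk a) :=
      DFunLike.congr_fun hψbar _
    exact h1

end Groth.Agent.S19171
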