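import Groth.Statements.S19172
import Mathlib
-- import your own Groth.Agent.* helpers here

set_option autoImplicit false
universe u v w
open ProCompl

namespace Groth.Agent.S19172

section Helpers
open W4c61motalbduality CategoryTheory Opposite

variable {G : Type u} [AddCommGroup G] [TopologicalSpace G]

/-- reverse inclusion preorder on open finite index subgroups -/
local instance instPreorderOpenFI : Preorder (OpenFI G) where
  le U V := V.toAddSubgroup ≤ U.toAddSubgroup
  le_refl U := le_refl _
  le_trans U V W h₁ h₂ := le_trans h₂ h₁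

theorem openFI_le_iff (U V : OpenFI G) : U ≤ V ↔ V.toAddSubgroup ≤ U.toAddSubgroup := Iff.rfl

def OpenFI_inf [IsTopologicalAddGroup G] (U V : OpenFI G) : OpenFI G where
  toAddSubgroup := U.toAddSubgroup ⊓ V.toAddSubgroup
  isOpen' := U.isOpen'.inter V.isOpen'
  finiteIndex' := by
    have := U.finiteIndex'
    have := V.finiteIndex'
    infer_instance

local instance instDirectedOpenFI [IsTopologicalAddGroup G] : IsDirectedOrder (OpenFI G) :=
  ⟨fun U V => ⟨OpenFI_inf U V, (inf_le_left : U.toAddSubgroup ⊓ V.toAddSubgroup ≤ _),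
    (inf_le_right : U.toAddSubgroup ⊓ V.toAddSubgroup ≤ _)⟩⟩

instance finite_quot_openFI (U : OpenFI G) : Finite (G ⧸ U.toAddSubgroup) := by
  have := U.finiteIndex'
  exact AddSubgroup.finite_quotient_of_finiteIndex

/-- The functor of an inverse system of subsets. -/
def sysFunctor (Y : ∀ U : OpenFI G, Set (G ⧸ U.toAddSubgroup))
    (hmap : ∀ (U V : OpenFI G) (h : U.toAddSubgroup ≤ V.toAddSubgroup), ∀ y ∈ Y U,
      QuotientAddGroup.map U.toAddSubgroup V.toAddSubgroup (AddMonoidHom.id G) h y ∈ Y V) :
    (OpenFI G)ᵒᵖ ⥤ Type u where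
  obj U := {y : G ⧸ (unop U).toAddSubgroup // y ∈ Y (unop U)}
  map {U V} f := ↾(fun (y : {y : G ⧸ (unop U).toAddSubgroup // y ∈ Y (unop U)}) =>
    (⟨QuotientAddGroup.map (unop U).toAddSubgroup (unop V).toAddSubgroup
      (AddMonoidHom.id G) (leOfHom f.unop) y.1, hmap _ _ (leOfHom f.unop) y.1 y.2⟩ :
      {y : G ⧸ (unop V).toAddSubgroup // y ∈ Y (unop V)}))
  map_id U := by
    ext y
    obtain ⟨y, hy⟩ := y
    obtain ⟨a, rfl⟩ := QuotientAddGroup.mk_surjective y
    rfl
  map_comp {U V W} f g := by
    ext y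
    obtain ⟨y, hy⟩ := y
    obtain ⟨a, rfl⟩ := QuotientAddGroup.mk_surjective y
    rfl

theorem exists_ficompl_of_finite_system [IsTopologicalAddGroup G]
    (Y : ∀ U : OpenFI G, Set (G ⧸ U.toAddSubgroup))
    (hne : ∀ U, (Y U).Nonempty)
    (hmap : ∀ (U V : OpenFI G) (h : U.toAddSubgroup ≤ V.toAddSubgroup), ∀ y ∈ Y U,
      QuotientAddGroup.map U.toAddSubgroup V.toAddSubgroup (AddMonoidHom.id G) h y ∈ Y V) :
    ∃ x : FICompl G, ∀ U, x.1 U ∈ Y U := by
  have : ∀ j : (OpenFI G)ᵒᵖ, Finite ((sysFunctor Y hmap).obj j) := fun j => by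
    dsimp only [sysFunctor]
    infer_instance
  have : ∀ j : (OpenFI G)ᵒᵖ, Nonempty ((sysFunctor Y hmap).obj j) := fun j => by
    obtain ⟨y, hy⟩ := hne (unop j)
    exact ⟨(⟨y, hy⟩ : {y : G ⧸ (unop j).toAddSubgroup // y ∈ Y (unop j)})⟩
  obtain ⟨s, hs⟩ := nonempty_sections_of_finite_inverse_system (sysFunctor Y hmap)
  let s' : ∀ U : OpenFI G, {y : G ⧸ U.toAddSubgroup // y ∈ Y U} := fun U => s (op U)
  refine ⟨⟨fun U => (s' U).1, ?_⟩, fun U => (s' U).2⟩
  intro U V h
  have hVU : V ≤ U := h
  have := hs (homOfLE hVU).op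
  exact congrArg Subtype.val this

/-- image of an open finite-index subgroup under an open surjection -/
def OpenFI_map {B : Type v} {C : Type w} [AddCommGroup B] [TopologicalSpace B]
    [AddCommGroup C] [TopologicalSpace C] (p : B →+ C) (hpo : IsOpenMap p)
    (hps : Function.Surjective p) (V : OpenFI B) : OpenFI C where
  toAddSubgroup := V.toAddSubgroup.map p
  isOpen' := by
    rw [AddSubgroup.coe_map]
    exact hpo _ V.isOpen'
  finiteIndex' := by
    have := V.finiteIndex'
    refine ⟨?_⟩
    have hdvd := AddSubgroup.index_map_dvd V.toAddSubgroup hps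
    exact ne_zero_of_dvd_ne_zero AddSubgroup.FiniteIndex.index_ne_zero hdvd

theorem ficompl_surjective
    {B : Type v} {C : Type w}
    [AddCommGroup B] [TopologicalSpace B] [IsTopologicalAddGroup B]
    [AddCommGroup C] [TopologicalSpace C] [IsTopologicalAddGroup C]
    (p : B →+ C) (hp : Continuous p)
    (hpo : IsOpenMap p) (hps : Function.Surjective p) :
    Function.Surjective (FICompl.map p hp) := by
  intro z
  have hle : ∀ V : OpenFI B, V.toAddSubgroup ≤ (OpenFI_map p hpo hps V).toAddSubgroup.comap p :=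
    fun V => AddSubgroup.le_comap_map _ _
  let Y : ∀ V : OpenFI B, Set (B ⧸ V.toAddSubgroup) := fun V =>
    {y | QuotientAddGroup.map V.toAddSubgroup (OpenFI_map p hpo hps V).toAddSubgroup p (hle V) y
      = z.1 (OpenFI_map p hpo hps V)}
  have hne : ∀ V, (Y V).Nonempty := by
    intro V
    obtain ⟨c, hc⟩ := QuotientAddGroup.mk_surjective (z.1 (OpenFI_map p hpo hps V))
    obtain ⟨b, rfl⟩ := hps c
    exact ⟨QuotientAddGroup.mk b, by simp only [Y, Set.mem_ofPred_eq, QuotientAddGroup.map_mk, hc]⟩
  have hmap : ∀ (U V : OpenFI B) (h : U.toAddSubgroup ≤ V.toAddSubgroup), ∀ y ∈ Y U,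
      QuotientAddGroup.map U.toAddSubgroup V.toAddSubgroup (AddMonoidHom.id B) h y ∈ Y V := by
    intro U V h y hy
    have hUV : (OpenFI_map p hpo hps U).toAddSubgroup ≤ (OpenFI_map p hpo hps V).toAddSubgroup :=
      AddSubgroup.map_mono h
    have hz := z.2 _ _ hUV
    obtain ⟨b, rfl⟩ := QuotientAddGroup.mk_surjective y
    simp only [Y, Set.mem_ofPred_eq, QuotientAddGroup.map_mk] at hy ⊢
    rw [← hz, ← hy]
    rfl
  obtain ⟨x, hx⟩ := exists_ficompl_of_finite_system Y hne hmap
  refine ⟨x, ?_⟩
  apply Subtype.ext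
  funext W
  have h1 := hx (W.comap p hp)
  have hle' : (OpenFI_map p hpo hps (W.comap p hp)).toAddSubgroup ≤ W.toAddSubgroup :=
    AddSubgroup.map_comap_le _ _
  have hz := z.2 _ _ hle'
  obtain ⟨b, hb⟩ := QuotientAddGroup.mk_surjective (x.1 (W.comap p hp))
  show QuotientAddGroup.map (W.comap p hp).toAddSubgroup W.toAddSubgroup p
      (W.comap_le p) (x.1 (W.comap p hp)) = z.1 W
  simp only [Y, Set.mem_ofPred_eq] at h1
  rw [← hz, ← h1, ← hb]
  rfl

theorem ficompl_exact
    {A : Type u} {B : Type v} {C : Type w}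
    [AddCommGroup A] [TopologicalSpace A] [IsTopologicalAddGroup A]
    [AddCommGroup B] [TopologicalSpace B] [IsTopologicalAddGroup B]
    [AddCommGroup C] [TopologicalSpace C] [IsTopologicalAddGroup C]
    (i : A →+ B) (hi : Continuous i) (p : B →+ C) (hp : Continuous p)
    (hpo : IsOpenMap p) (hps : Function.Surjective p) (hex : p.ker = i.range) :
    (FICompl.map p hp).ker = (FICompl.map i hi).range := by
  have hpi : ∀ a, p (i a) = 0 := fun a => by
    have : i a ∈ p.ker := by rw [hex]; exact ⟨a, rfl⟩
    exact this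
  apply le_antisymm
  · intro y hy
    have hy0 : FICompl.map p hp y = 0 := hy
    -- each component of y comes from A
    have hcomp : ∀ V : OpenFI B, ∃ a : A, (QuotientAddGroup.mk (i a) : B ⧸ V.toAddSubgroup) = y.1 V := by
      intro V
      let W := OpenFI_map p hpo hps V
      have hVW : V.toAddSubgroup ≤ (W.comap p hp).toAddSubgroup := AddSubgroup.le_comap_map _ _
      have hyc := y.2 V (W.comap p hp) hVW
      have h0 : (FICompl.map p hp y).1 W = 0 := by rw [hy0]; rfl
      have h0' : QuotientAddGroup.map (W.comap p hp).toAddSubgroup W.toAddSubgroup p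
          (W.comap_le p) (y.1 (W.comap p hp)) = 0 := h0
      obtain ⟨b, hb⟩ := QuotientAddGroup.mk_surjective (y.1 V)
      rw [← hyc, ← hb] at h0'
      simp only [QuotientAddGroup.map_mk, AddMonoidHom.id_apply] at h0'
      rw [QuotientAddGroup.eq_zero_iff] at h0'
      obtain ⟨v, hv, hpv⟩ := h0'
      have hker : b - v ∈ p.ker := by
        rw [AddMonoidHom.mem_ker, map_sub, hpv, sub_self]
      rw [hex] at hker
      obtain ⟨a, ha⟩ := hker
      refine ⟨a, ?_⟩
      rw [← hb, ha, QuotientAddGroup.eq]
      simpa using hv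
    -- the sets T U V
    let T : ∀ U : OpenFI A, OpenFI B → Set (A ⧸ U.toAddSubgroup) := fun U V =>
      {x | ∃ a : A, (QuotientAddGroup.mk a : A ⧸ U.toAddSubgroup) = x ∧
        (QuotientAddGroup.mk (i a) : B ⧸ V.toAddSubgroup) = y.1 V}
    have hTne : ∀ U V, (T U V).Nonempty := by
      intro U V
      obtain ⟨a, ha⟩ := hcomp V
      exact ⟨QuotientAddGroup.mk a, a, rfl, ha⟩
    have hTmono : ∀ U (V V' : OpenFI B), V'.toAddSubgroup ≤ V.toAddSubgroup → T U V' ⊆ T U V := by
      rintro U V V' h x ⟨a, rfl, ha⟩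
      refine ⟨a, rfl, ?_⟩
      rw [← y.2 V' V h, ← ha]
      rfl
    let Y : ∀ U : OpenFI A, Set (A ⧸ U.toAddSubgroup) := fun U => ⋂ V, T U V
    have hne : ∀ U, (Y U).Nonempty := by
      intro U
      letI : TopologicalSpace (A ⧸ U.toAddSubgroup) := ⊥
      haveI : DiscreteTopology (A ⧸ U.toAddSubgroup) := ⟨rfl⟩
      haveI : Nonempty (OpenFI B) := ⟨⟨⊤, isOpen_univ, inferInstance⟩⟩
      apply IsCompact.nonempty_iInter_of_directed_nonempty_isCompact_isClosed
      · intro V V'
        exact ⟨OpenFI_inf V V', hTmono U _ _ inf_le_left, hTmono U _ _ inf_le_right⟩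
      · exact hTne U
      · intro V
        exact (Set.toFinite _).isCompact
      · intro V
        exact isClosed_discrete _
    have hmap : ∀ (U U' : OpenFI A) (h : U.toAddSubgroup ≤ U'.toAddSubgroup), ∀ x ∈ Y U,
        QuotientAddGroup.map U.toAddSubgroup U'.toAddSubgroup (AddMonoidHom.id A) h x ∈ Y U' := by
      intro U U' h x hx
      simp only [Y, Set.mem_iInter] at hx ⊢
      intro V
      obtain ⟨a, rfl, ha⟩ := hx V
      exact ⟨a, rfl, ha⟩
    obtain ⟨x, hx⟩ := exists_ficompl_of_finite_system Y hne hmap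
    refine ⟨x, ?_⟩
    apply Subtype.ext
    funext V
    have h1 := hx (V.comap i hi)
    simp only [Y, Set.mem_iInter] at h1
    obtain ⟨a, ha, hav⟩ := h1 V
    show QuotientAddGroup.map (V.comap i hi).toAddSubgroup V.toAddSubgroup i
      (V.comap_le i) (x.1 (V.comap i hi)) = y.1 V
    rw [← ha, ← hav]
    rfl
  · rintro _ ⟨x, rfl⟩
    rw [AddMonoidHom.mem_ker]
    apply Subtype.ext
    funext W
    show QuotientAddGroup.map (W.comap p hp).toAddSubgroup W.toAddSubgroup p
      (W.comap_le p) ((FICompl.map i hi x).1 (W.comap p hp)) = 0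
    show QuotientAddGroup.map (W.comap p hp).toAddSubgroup W.toAddSubgroup p
      (W.comap_le p) (QuotientAddGroup.map ((W.comap p hp).comap i hi).toAddSubgroup
        (W.comap p hp).toAddSubgroup i ((W.comap p hp).comap_le i)
        (x.1 ((W.comap p hp).comap i hi))) = 0
    obtain ⟨a, ha⟩ := QuotientAddGroup.mk_surjective (x.1 ((W.comap p hp).comap i hi))
    rw [← ha]
    simp only [QuotientAddGroup.map_mk, hpi]
    rfl

end Helpers



open W4c61motalbduality in
/-- Let i : A → B and p : B → C be continuous homomorphisms of topological abelian groups with p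
surjective and open and with the kernel of p equal to the image of i. Then the induced sequence of
completions with respect to open subgroups of finite index, A^∧ → B^∧ → C^∧ → 0, is exact: the map
B^∧ → C^∧ is surjective and its kernel is the image of A^∧. The completion is the group of
compatible families of residues modulo all open subgroups of finite index. (The published statement
takes i injective, as the first map of an exact sequence 0 → A → B → C → 0 of topological abelian
groups; here it is only assumed that the image of i is the kernel of p, which is all the proof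
uses.) -/
theorem result
    {A : Type u} {B : Type v} {C : Type w}
    [AddCommGroup A] [TopologicalSpace A] [IsTopologicalAddGroup A]
    [AddCommGroup B] [TopologicalSpace B] [IsTopologicalAddGroup B]
    [AddCommGroup C] [TopologicalSpace C] [IsTopologicalAddGroup C]
    (i : A →+ B) (hi : Continuous i) (p : B →+ C) (hp : Continuous p)
    (hpo : IsOpenMap p) (hps : Function.Surjective p) (hex : p.ker = i.range) :
    Function.Surjective (FICompl.map p hp) ∧ (FICompl.map p hp).ker = (FICompl.map i hi).range := by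
  exact ⟨ficompl_surjective p hp hpo hps, ficompl_exact i hi p hp hpo hps hex⟩

end Groth.Agent.S19172
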