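import Groth.Statements.S19173
import Mathlib
import Groth.Agent.S19170
import Groth.Agent.S19171
-- import your own Groth.Agent.* helpers here

set_option autoImplicit false
universe u v
open ProCompl

namespace Groth.Agent.S19173

open W4c61motalbduality Topology in
/-- Let B be a Hausdorff, locally compact, totally disconnected topological abelian group generated as a
group by a compact subset, and let i : A → B be an injective continuous homomorphism inducing the
topology of A from that of B (a strict injection) with closed image. Then the map induced by i on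
completions with respect to open subgroups of finite index is injective; together with right
exactness for open surjections this makes 0 → A^∧ → B^∧ → C^∧ → 0 exact for a topological exact
sequence 0 → A → B → C → 0 with such B, strict closed i and open p. -/
theorem result
    {A : Type u} {B : Type v} [AddCommGroup A] [TopologicalSpace A] [IsTopologicalAddGroup A]
    [AddCommGroup B] [TopologicalSpace B] [IsTopologicalAddGroup B]
    [T2Space B] [LocallyCompactSpace B] [TotallyDisconnectedSpace B]
    (hcg : ∃ K : Set B, IsCompact K ∧ AddSubgroup.closure K = ⊤)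
    (i : A →+ B) (hi : Continuous i) (hinj : Function.Injective i) (hind : IsInducing i)
    (hcl : IsClosed (Set.range i)) :
    Function.Injective (FICompl.map i hi) := by
  classical
  rw [injective_iff_map_eq_zero]
  intro x hx
  -- key: every open finite-index subgroup of A contains the preimage of one of B
  have key : ∀ U : OpenFI A, ∃ V : OpenFI B, (V.comap i hi).toAddSubgroup ≤ U.toAddSubgroup := by
    intro U
    have hfin : Finite (A ⧸ U.toAddSubgroup) := by
      have := U.finiteIndex'
      exact AddSubgroup.finite_quotient_of_finiteIndex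
    -- for each nonzero class choose a character not vanishing there
    have hchar : ∀ g : {g : A ⧸ U.toAddSubgroup // g ≠ 0},
        ∃ ψ : B →+ ℚ ⧸ AddSubgroup.zmultiples (1 : ℚ), IsOpen (ψ.ker : Set B) ∧
          ∀ a : A, (QuotientAddGroup.mk a : A ⧸ U.toAddSubgroup) = g.1 → ψ (i a) ≠ 0 := by
      rintro ⟨g, hg⟩
      obtain ⟨c, hc⟩ := CharacterModule.exists_character_apply_ne_zero_of_ne_zero hg
      let χ : A →+ ℚ ⧸ AddSubgroup.zmultiples (1 : ℚ) :=
        (show (A ⧸ U.toAddSubgroup) →+ ℚ ⧸ AddSubgroup.zmultiples (1 : ℚ) from c).comp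
          (QuotientAddGroup.mk' U.toAddSubgroup)
      have hUker : U.toAddSubgroup ≤ χ.ker := by
        intro a ha
        show c (QuotientAddGroup.mk' U.toAddSubgroup a) = 0
        have : (QuotientAddGroup.mk' U.toAddSubgroup a) = 0 := (QuotientAddGroup.eq_zero_iff a).2 ha
        rw [this]
        exact map_zero c
      have hχopen : IsOpen (χ.ker : Set A) := AddSubgroup.isOpen_mono hUker U.isOpen'
      obtain ⟨ψ, hψopen, hψ⟩ := Groth.Agent.S19171.result hcg i hi hinj hind hcl χ hχopen
      refine ⟨ψ, hψopen, ?_⟩
      intro a ha
      have h1 : ψ (i a) = χ a := DFunLike.congr_fun hψ a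
      rw [h1]
      show c (QuotientAddGroup.mk' U.toAddSubgroup a) ≠ 0
      have : (QuotientAddGroup.mk' U.toAddSubgroup a) = g := ha
      rw [this]
      exact hc
    choose ψ hψopen hψ using hchar
    have hfi : ∀ g, (ψ g).ker.FiniteIndex := fun g => Groth.Agent.S19170.result hcg (ψ g) (hψopen g)
    have : Finite {g : A ⧸ U.toAddSubgroup // g ≠ 0} := inferInstance
    refine ⟨⟨⨅ g, (ψ g).ker, ?_, ?_⟩, ?_⟩
    · rw [AddSubgroup.coe_iInf]
      exact isOpen_iInter_of_finite hψopen
    · exact AddSubgroup.finiteIndex_iInf hfi
    · intro a ha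
      by_contra hna
      have hne : (QuotientAddGroup.mk a : A ⧸ U.toAddSubgroup) ≠ 0 := by
        intro h
        exact hna ((QuotientAddGroup.eq_zero_iff a).1 h)
      have h1 : i a ∈ ⨅ g, (ψ g).ker := ha
      rw [AddSubgroup.mem_iInf] at h1
      exact hψ ⟨_, hne⟩ a rfl (h1 ⟨_, hne⟩)
  -- now show x = 0 componentwise
  apply Subtype.ext
  funext U
  obtain ⟨V, hV⟩ := key U
  have hcompat := x.2 (V.comap i hi) U hV
  have hxV : x.1 (V.comap i hi) = 0 := by
    have h1 : (FICompl.map i hi x).1 V = 0 := by rw [hx]; rfl
    have h2 : (FICompl.map i hi x).1 V =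
        QuotientAddGroup.map (V.comap i hi).toAddSubgroup V.toAddSubgroup i (V.comap_le i)
          (x.1 (V.comap i hi)) := rfl
    rw [h2] at h1
    obtain ⟨a, ha⟩ := QuotientAddGroup.mk_surjective (x.1 (V.comap i hi))
    rw [← ha] at h1 ⊢
    rw [QuotientAddGroup.map_mk, QuotientAddGroup.eq_zero_iff] at h1
    exact (QuotientAddGroup.eq_zero_iff a).2 h1
  rw [hxV, map_zero] at hcompat
  exact hcompat.symm

end Groth.Agent.S19173
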