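import Groth.Statements.S19176
import Mathlib
-- import your own Groth.Agent.* helpers here

set_option autoImplicit false
universe u
open PlaneCurve

namespace Groth.Agent.S19176

section Helpers
open MvPolynomial

variable {k : Type u} [Field k]

/-- exponent vector of `x^i y^j` -/
noncomputable def expo (i j : ℕ) : Fin 2 →₀ ℕ := Finsupp.single 0 i + Finsupp.single 1 j

theorem expo_apply_zero (i j : ℕ) : expo i j 0 = i := by simp [expo]
theorem expo_apply_one (i j : ℕ) : expo i j 1 = j := by simp [expo]

theorem eq_expo (m : Fin 2 →₀ ℕ) : m = expo (m 0) (m 1) := by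
  ext t
  fin_cases t
  · simp [expo]
  · simp [expo]

theorem expo_inj {i j i' j' : ℕ} (h : expo i j = expo i' j') : i = i' ∧ j = j' := by
  constructor
  · have := congrArg (fun m => m 0) h
    simpa [expo] using this
  · have := congrArg (fun m => m 1) h
    simpa [expo] using this

theorem finrank_quot_monomial (a b : ℕ) :
    Module.finrank k (MvPolynomial (Fin 2) k ⧸
      Ideal.span ({X 0 ^ a, X 1 ^ b} : Set (MvPolynomial (Fin 2) k))) = a * b := by
  classical
  let Φ : MvPolynomial (Fin 2) k →ₗ[k] (Fin a × Fin b → k) :=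
    LinearMap.pi (fun ij => MvPolynomial.lcoeff k (expo ij.1 ij.2))
  have hΦ : ∀ p ij, Φ p ij = coeff (expo ij.1 ij.2) p := fun p ij => rfl
  have hsurj : Function.Surjective Φ := by
    intro c
    refine ⟨∑ ij : Fin a × Fin b, monomial (expo ij.1 ij.2) (c ij), ?_⟩
    funext ij'
    rw [hΦ, coeff_sum, Finset.sum_eq_single ij']
    · simp
    · intro ij _ hne
      rw [coeff_monomial, if_neg]
      intro h
      obtain ⟨h1, h2⟩ := expo_inj h
      exact hne (Prod.ext (Fin.ext h1) (Fin.ext h2))
    · simp
  have hspan : Ideal.span ({X 0 ^ a, X 1 ^ b} : Set (MvPolynomial (Fin 2) k)) =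
      Ideal.span ((fun s => monomial s (1 : k)) ''
        ({Finsupp.single 0 a, Finsupp.single 1 b} : Set (Fin 2 →₀ ℕ))) := by
    rw [Set.image_pair, X_pow_eq_monomial, X_pow_eq_monomial]
  have hker : ∀ p : MvPolynomial (Fin 2) k,
      p ∈ Ideal.span ({X 0 ^ a, X 1 ^ b} : Set (MvPolynomial (Fin 2) k)) ↔ Φ p = 0 := by
    intro p
    rw [hspan, mem_ideal_span_monomial_image]
    constructor
    · intro h
      funext ij
      rw [hΦ]
      by_contra hne
      have hsupp : expo ij.1 ij.2 ∈ p.support := mem_support_iff.2 hne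
      obtain ⟨si, hsi, hle⟩ := h _ hsupp
      rcases hsi with rfl | rfl
      · rw [Finsupp.single_le_iff, expo_apply_zero] at hle
        exact absurd ij.1.isLt (by omega)
      · rw [Finsupp.single_le_iff, expo_apply_one] at hle
        exact absurd ij.2.isLt (by omega)
    · intro h m hm
      by_cases h0 : a ≤ m 0
      · exact ⟨_, Or.inl rfl, Finsupp.single_le_iff.2 h0⟩
      by_cases h1 : b ≤ m 1
      · exact ⟨_, Or.inr rfl, Finsupp.single_le_iff.2 h1⟩
      exfalso
      have := congrFun h (⟨m 0, by omega⟩, ⟨m 1, by omega⟩)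
      rw [hΦ] at this
      simp only [Pi.zero_apply] at this
      rw [← eq_expo m] at this
      exact (mem_support_iff.1 hm) this
  -- the quotient is linearly equivalent to the function space
  have hkereq : (Ideal.span ({X 0 ^ a, X 1 ^ b} : Set (MvPolynomial (Fin 2) k))).restrictScalars k =
      LinearMap.ker Φ := by
    ext p
    simp only [Submodule.restrictScalars_mem, LinearMap.mem_ker]
    exact hker p
  let e1 : (MvPolynomial (Fin 2) k ⧸
      (Ideal.span ({X 0 ^ a, X 1 ^ b} : Set (MvPolynomial (Fin 2) k))).restrictScalars k) ≃ₗ[k]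
      (Fin a × Fin b → k) :=
    (Submodule.quotEquivOfEq _ _ hkereq).trans (Φ.quotKerEquivOfSurjective hsurj)
  have h1 : Module.finrank k (MvPolynomial (Fin 2) k ⧸
      (Ideal.span ({X 0 ^ a, X 1 ^ b} : Set (MvPolynomial (Fin 2) k))).restrictScalars k) = a * b := by
    rw [e1.finrank_eq, Module.finrank_pi]
    simp
  exact h1

end Helpers


open MvPolynomial in
/-- Let k be a field of characteristic p (p = 0 allowed) and F = y² − x³ in k[x, y] (x the variable of
index 0, y of index 1). The singular subscheme of the plane curve F = 0, cut out by F and its two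
partial derivatives, is finite over k of degree 4 when p = 2, of degree 3 when p = 3, and of degree
2 otherwise: the k-dimension of k[x, y]/(F, ∂F/∂x, ∂F/∂y) is that number. (The source phrases this
through the complete local ring of a cusp; the row is the computation for the standard cusp y² =
x³.) -/
theorem result (k : Type u) [Field k] (p : ℕ) [CharP k p] :
    Module.finrank k (MvPolynomial (Fin 2) k ⧸ Ideal.span
      ({X 1 ^ 2 - X 0 ^ 3, pderiv 0 (X 1 ^ 2 - X 0 ^ 3), pderiv 1 (X 1 ^ 2 - X 0 ^ 3)} :
        Set (MvPolynomial (Fin 2) k))) = (if p = 2 then 4 else if p = 3 then 3 else 2) := by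
  have hC3 : (3 : MvPolynomial (Fin 2) k) = C (3 : k) := (map_ofNat C 3).symm
  have hC2 : (2 : MvPolynomial (Fin 2) k) = C (2 : k) := (map_ofNat C 2).symm
  have hp0 : pderiv 0 (X 1 ^ 2 - X 0 ^ 3 : MvPolynomial (Fin 2) k) = - (C (3 : k) * X 0 ^ 2) := by
    simp [pderiv_X, hC3]
  have hp1 : pderiv 1 (X 1 ^ 2 - X 0 ^ 3 : MvPolynomial (Fin 2) k) = C (2 : k) * X 1 := by
    simp [pderiv_X, hC2]
  rw [hp0, hp1]
  set J : Ideal (MvPolynomial (Fin 2) k) := Ideal.span ({X 1 ^ 2 - X 0 ^ 3, -(C (3 : k) * X 0 ^ 2),
    C (2 : k) * X 1} : Set (MvPolynomial (Fin 2) k)) with hJ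
  have g1 : (X 1 ^ 2 - X 0 ^ 3 : MvPolynomial (Fin 2) k) ∈ J := Ideal.subset_span (by simp)
  have g2 : (-(C (3 : k) * X 0 ^ 2) : MvPolynomial (Fin 2) k) ∈ J := Ideal.subset_span (by simp)
  have g3 : (C (2 : k) * X 1 : MvPolynomial (Fin 2) k) ∈ J := Ideal.subset_span (by simp)
  have hp1' : p ≠ 1 := CharP.char_ne_one k p
  have h2 : (2 : k) = 0 ↔ p = 2 := by
    have := CharP.cast_eq_zero_iff k p 2
    rw [Nat.cast_ofNat] at this
    rw [this]
    constructor
    · intro h
      have := Nat.le_of_dvd (by norm_num) h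
      interval_cases p
      · simp at h
      · exact absurd rfl hp1'
      · rfl
    · rintro rfl; exact dvd_rfl
  have h3 : (3 : k) = 0 ↔ p = 3 := by
    have := CharP.cast_eq_zero_iff k p 3
    rw [Nat.cast_ofNat] at this
    rw [this]
    constructor
    · intro h
      have := Nat.le_of_dvd (by norm_num) h
      interval_cases p
      · simp at h
      · exact absurd rfl hp1'
      · norm_num at h
      · rfl
    · rintro rfl; exact dvd_rfl
  by_cases hp2 : p = 2
  · rw [if_pos hp2]
    have e2 : (2 : k) = 0 := h2.2 hp2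
    have e3 : (3 : k) = 1 := by
      have : (3 : k) = 2 + 1 := by norm_num
      rw [this, e2, zero_add]
    have : J = Ideal.span {X 0 ^ 2, X 1 ^ 2} := by
      apply le_antisymm
      · rw [hJ, Ideal.span_le]
        rintro _ (rfl | rfl | rfl)
        · exact Ideal.mem_span_pair.2 ⟨-X 0, 1, by ring⟩
        · exact Ideal.mem_span_pair.2 ⟨-1, 0, by rw [e3]; simp⟩
        · rw [e2]; simp
      · rw [Ideal.span_le]
        have hx2 : (X 0 ^ 2 : MvPolynomial (Fin 2) k) ∈ J := by
          have := J.mul_mem_left (-1) g2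
          convert this using 1
          rw [e3]; simp
        rintro _ (rfl | rfl)
        · exact hx2
        · have := J.add_mem g1 (J.mul_mem_left (X 0) hx2)
          have e : (X 1 ^ 2 : MvPolynomial (Fin 2) k) = X 1 ^ 2 - X 0 ^ 3 + X 0 * X 0 ^ 2 := by ring
          show X 1 ^ 2 ∈ J
          rw [e]; exact this
    rw [this, finrank_quot_monomial]
  · rw [if_neg hp2]
    have e2 : (2 : k) ≠ 0 := fun h => hp2 (h2.1 h)
    have hy : (X 1 : MvPolynomial (Fin 2) k) ∈ J := by
      have := J.mul_mem_left (C (2 : k)⁻¹) g3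
      convert this using 1
      rw [← mul_assoc, ← C_mul, inv_mul_cancel₀ e2, C_1, one_mul]
    by_cases hp3 : p = 3
    · rw [if_pos hp3]
      have e3 : (3 : k) = 0 := h3.2 hp3
      have : J = Ideal.span {X 0 ^ 3, X 1 ^ 1} := by
        apply le_antisymm
        · rw [hJ, Ideal.span_le]
          rintro _ (rfl | rfl | rfl)
          · exact Ideal.mem_span_pair.2 ⟨-1, X 1, by ring⟩
          · rw [e3]; simp
          · exact Ideal.mem_span_pair.2 ⟨0, C 2, by ring⟩
        · rw [Ideal.span_le]
          rintro _ (rfl | rfl)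
          · have := J.add_mem (J.mul_mem_left (-1) g1) (J.mul_mem_left (X 1) hy)
            have e : (X 0 ^ 3 : MvPolynomial (Fin 2) k) = -1 * (X 1 ^ 2 - X 0 ^ 3) + X 1 * X 1 := by ring
            show X 0 ^ 3 ∈ J
            rw [e]; exact this
          · rw [pow_one]; exact hy
      rw [this, finrank_quot_monomial]
    · rw [if_neg hp3]
      have e3 : (3 : k) ≠ 0 := fun h => hp3 (h3.1 h)
      have : J = Ideal.span {X 0 ^ 2, X 1 ^ 1} := by
        apply le_antisymm
        · rw [hJ, Ideal.span_le]
          rintro _ (rfl | rfl | rfl)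
          · exact Ideal.mem_span_pair.2 ⟨-X 0, X 1, by ring⟩
          · exact Ideal.mem_span_pair.2 ⟨-C 3, 0, by ring⟩
          · exact Ideal.mem_span_pair.2 ⟨0, C 2, by ring⟩
        · rw [Ideal.span_le]
          rintro _ (rfl | rfl)
          · have := J.mul_mem_left (-C (3 : k)⁻¹) g2
            have e : (X 0 ^ 2 : MvPolynomial (Fin 2) k) = -C (3 : k)⁻¹ * -(C (3 : k) * X 0 ^ 2) := by
              rw [neg_mul_neg, ← mul_assoc, ← C_mul, inv_mul_cancel₀ e3, C_1, one_mul]
            show X 0 ^ 2 ∈ J
            rw [e]; exact this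
          · rw [pow_one]; exact hy
      rw [this, finrank_quot_monomial]

end Groth.Agent.S19176
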