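import Groth.Statements.S19177
import Mathlib
-- import your own Groth.Agent.* helpers here

set_option autoImplicit false
universe u
open CAlg

namespace Groth.Agent.S19177

/-- Let S → R be a homomorphism of commutative rings making R a finitely generated projective S-module
of rank 2 at every prime of S (the affine form of a finite locally free morphism of degree 2). Then
the cokernel of the (injective) structure map S → R, the S-module R/S, is a projective S-module of
rank 1 at every prime of S (locally free of rank 1). -/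
theorem result
    (S R : Type u) [CommRing S] [CommRing R] [Algebra S R] [Module.Finite S R] [Module.Projective S R]
    (h2 : ∀ p : PrimeSpectrum S, Module.rankAtStalk (R := S) R p = 2) :
    Module.Projective S (R ⧸ LinearMap.range (Algebra.linearMap S R)) ∧
      ∀ p : PrimeSpectrum S,
        Module.rankAtStalk (R := S) (R ⧸ LinearMap.range (Algebra.linearMap S R)) p = 1 := by
  classical
  have hpos : ∀ p : PrimeSpectrum S, 0 < Module.rankAtStalk (R := S) R p := fun p => by rw [h2 p]; norm_num
  have hsurj : Function.Surjective (PrimeSpectrum.comap (algebraMap S R)) :=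
    PrimeSpectrum.rankAtStalk_pos_iff_comap_surjective.1 hpos
  -- the ideal of values f(1)
  let ev : (R →ₗ[S] S) →ₗ[S] S := LinearMap.applyₗ (1 : R)
  have hev : LinearMap.range ev = ⊤ := by
    by_contra hne
    obtain ⟨m, hm, hle⟩ := Ideal.exists_le_maximal (LinearMap.range ev : Ideal S) hne
    -- dual basis: 1 ∈ m R
    obtain ⟨s, hs⟩ := Module.projective_def'.1 (inferInstance : Module.Projective S R)
    have h1 : (1 : R) = ∑ x ∈ (s 1).support, (s 1) x • x := by
      have := LinearMap.congr_fun hs 1
      simp only [LinearMap.comp_apply, LinearMap.id_apply] at this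
      rw [Finsupp.linearCombination_apply] at this
      exact this.symm
    have hmem : ∀ x, (s 1) x ∈ m := by
      intro x
      apply hle
      exact ⟨(Finsupp.lapply x).comp s, rfl⟩
    have h1m : (1 : R) ∈ Ideal.map (algebraMap S R) m := by
      rw [h1]
      refine Ideal.sum_mem _ (fun x _ => ?_)
      rw [Algebra.smul_def]
      exact Ideal.mul_mem_right _ _ (Ideal.mem_map_of_mem _ (hmem x))
    obtain ⟨Q, hQ⟩ := hsurj ⟨m, hm.isPrime⟩
    have hQm : Q.asIdeal.comap (algebraMap S R) = m := congrArg PrimeSpectrum.asIdeal hQ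
    have : Ideal.map (algebraMap S R) m ≤ Q.asIdeal := by
      rw [Ideal.map_le_iff_le_comap, hQm]
    exact Q.isPrime.ne_top ((Ideal.eq_top_iff_one _).2 (this h1m))
  obtain ⟨ρ, hρ⟩ : ∃ ρ : R →ₗ[S] S, ρ 1 = 1 := by
    have : (1 : S) ∈ LinearMap.range ev := by rw [hev]; trivial
    obtain ⟨ρ, hρ⟩ := this
    exact ⟨ρ, hρ⟩
  set ι : S →ₗ[S] R := Algebra.linearMap S R with hι
  have hρι : ∀ s, ρ (ι s) = s := by
    intro s
    rw [hι, Algebra.linearMap_apply, Algebra.algebraMap_eq_smul_one, map_smul, hρ, smul_eq_mul, mul_one]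
  set N := LinearMap.range ι with hN
  -- section of the quotient map
  let j : (R ⧸ N) →ₗ[S] R := N.liftQ (LinearMap.id - ι.comp ρ) (by
    rintro _ ⟨s, rfl⟩
    simp only [LinearMap.mem_ker, LinearMap.sub_apply, LinearMap.id_apply, LinearMap.comp_apply, hρι,
      sub_self])
  have hj : ∀ r, j (N.mkQ r) = r - ι (ρ r) := fun r => rfl
  have hmkj : ∀ q, N.mkQ (j q) = q := by
    intro q
    obtain ⟨r, rfl⟩ := N.mkQ_surjective q
    rw [hj, map_sub]
    have : N.mkQ (ι (ρ r)) = 0 := by
      rw [Submodule.mkQ_apply, Submodule.Quotient.mk_eq_zero]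
      exact ⟨_, rfl⟩
    rw [this, sub_zero]
  have hproj : Module.Projective S (R ⧸ N) :=
    Module.Projective.of_split j N.mkQ (LinearMap.ext hmkj)
  refine ⟨hproj, ?_⟩
  -- R ≃ S × R/N
  let φ : R →ₗ[S] S × (R ⧸ N) := ρ.prod N.mkQ
  have hφ : Function.Bijective φ := by
    constructor
    · rw [injective_iff_map_eq_zero]
      intro r hr
      have h1 : ρ r = 0 := congrArg Prod.fst hr
      have h2 : N.mkQ r = 0 := congrArg Prod.snd hr
      rw [Submodule.mkQ_apply, Submodule.Quotient.mk_eq_zero] at h2
      obtain ⟨s, rfl⟩ := h2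
      rw [hρι] at h1
      rw [h1, map_zero]
    · rintro ⟨s, q⟩
      refine ⟨ι s + j q, ?_⟩
      obtain ⟨r, rfl⟩ := N.mkQ_surjective q
      apply Prod.ext
      · show ρ (ι s + j (N.mkQ r)) = s
        rw [map_add, hρι, hj, map_sub, hρι, sub_self, add_zero]
      · show N.mkQ (ι s + j (N.mkQ r)) = N.mkQ r
        rw [map_add, hmkj]
        have : N.mkQ (ι s) = 0 := by
          rw [Submodule.mkQ_apply, Submodule.Quotient.mk_eq_zero]
          exact ⟨_, rfl⟩
        rw [this, zero_add]
  let e : R ≃ₗ[S] S × (R ⧸ N) := LinearEquiv.ofBijective φ hφ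
  intro p
  have hrk := Module.rankAtStalk_eq_of_equiv (R := S) e
  have hprod := Module.rankAtStalk_prod (R := S) S (R ⧸ N)
  have hnt : Nontrivial S := ⟨⟨0, 1, fun h => by
    have := p.isPrime.ne_top
    exact this ((Ideal.eq_top_iff_one _).2 (h ▸ p.asIdeal.zero_mem))⟩⟩
  have h3 := congrFun hrk p
  rw [hprod, h2 p, Pi.add_apply, Module.rankAtStalk_self, Pi.one_apply] at h3
  omega

end Groth.Agent.S19177
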