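import Groth.Statements.S19178
import Mathlib
-- import your own Groth.Agent.* helpers here

set_option autoImplicit false
universe u
open Curves

namespace Groth.Agent.S19178

/-- For every field k and every choice of coefficients a₁, a₂, a₃, a₄, a₆ in k, the homogeneous
Weierstrass cubic Y²Z + a₁XYZ + a₃YZ² − (X³ + a₂X²Z + a₄XZ² + a₆Z³) is an irreducible polynomial in
k[X, Y, Z]. Applied to all fields, this says every fibre of the Weierstrass family over the affine
space of coefficients is geometrically integral. -/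
theorem result (k : Type u) [Field k]
    (W : WeierstrassCurve k) :
    Irreducible (WeierstrassCurve.Projective.polynomial W) := by
  classical
  let A := MvPolynomial (Fin 2) k
  let Yv : A := MvPolynomial.X 0
  let Zv : A := MvPolynomial.X 1
  let e := MvPolynomial.finSuccEquiv k 2
  -- the monic cubic in Polynomial.X over k[Y,Z]
  let Q : Polynomial A := Polynomial.X ^ 3 + Polynomial.C (MvPolynomial.C W.a₂ * Zv) * Polynomial.X ^ 2
      - Polynomial.C (MvPolynomial.C W.a₁ * Yv * Zv - MvPolynomial.C W.a₄ * Zv ^ 2) * Polynomial.X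
      - Polynomial.C (Yv ^ 2 * Zv + MvPolynomial.C W.a₃ * Yv * Zv ^ 2 - MvPolynomial.C W.a₆ * Zv ^ 3)
  have heF : e (WeierstrassCurve.Projective.polynomial W) = -Q := by
    have h1 : e (MvPolynomial.X 1) = Polynomial.C (MvPolynomial.X 0) :=
      MvPolynomial.finSuccEquiv_X_succ (n := 2) (j := 0)
    have h2 : e (MvPolynomial.X 2) = Polynomial.C (MvPolynomial.X 1) :=
      MvPolynomial.finSuccEquiv_X_succ (n := 2) (j := 1)
    have h0 : e (MvPolynomial.X 0) = Polynomial.X := MvPolynomial.finSuccEquiv_X_zero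
    have hC : ∀ a : k, e (MvPolynomial.C a) = Polynomial.C (MvPolynomial.C a) := fun a => by
      simp [e, MvPolynomial.finSuccEquiv_apply]
    simp only [WeierstrassCurve.Projective.polynomial, map_sub, map_add, map_mul, map_pow, h0, h1, h2, hC, Q]
    ring
  rw [← MulEquiv.irreducible_iff e.toMulEquiv]
  show Irreducible (e (WeierstrassCurve.Projective.polynomial W))
  rw [heF]
  have hQmonic : Q.Monic := by
    simp only [Q]
    monicity!
  have hQdeg : Q.natDegree = 3 := by
    simp only [Q]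
    compute_degree!
  have hQirr : Irreducible Q := by
    rw [hQmonic.irreducible_iff_roots_eq_zero_of_degree_le_three (by omega) (by omega)]
    rw [Multiset.eq_zero_iff_forall_notMem]
    intro r hr
    rw [Polynomial.mem_roots hQmonic.ne_zero, Polynomial.IsRoot.def] at hr
    simp only [Q, Polynomial.eval_sub, Polynomial.eval_add, Polynomial.eval_mul, Polynomial.eval_pow, Polynomial.eval_X, Polynomial.eval_C] at hr
    -- r^3 + a₂ Z r^2 - (a₁ Y Z - a₄ Z^2) r - (Y^2 Z + a₃ Y Z^2 - a₆ Z^3) = 0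
    have hZprime : Prime Zv := MvPolynomial.X_prime
    have hZr3 : Zv ∣ r ^ 3 := by
      refine ⟨-(MvPolynomial.C W.a₂ * r ^ 2) + (MvPolynomial.C W.a₁ * Yv - MvPolynomial.C W.a₄ * Zv) * r
        + (Yv ^ 2 + MvPolynomial.C W.a₃ * Yv * Zv - MvPolynomial.C W.a₆ * Zv ^ 2), ?_⟩
      linear_combination hr
    obtain ⟨r', rfl⟩ := hZprime.dvd_of_dvd_pow hZr3
    have hZne : Zv ≠ 0 := hZprime.ne_zero
    have h2 : Zv * (Zv ^ 2 * r' ^ 3 + MvPolynomial.C W.a₂ * Zv ^ 2 * r' ^ 2
        - (MvPolynomial.C W.a₁ * Yv - MvPolynomial.C W.a₄ * Zv) * Zv * r'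
        - (Yv ^ 2 + MvPolynomial.C W.a₃ * Yv * Zv - MvPolynomial.C W.a₆ * Zv ^ 2)) = 0 := by
      linear_combination hr
    have h3 := (mul_eq_zero.1 h2).resolve_left hZne
    have hZY2 : Zv ∣ Yv ^ 2 := by
      refine ⟨Zv * r' ^ 3 + MvPolynomial.C W.a₂ * Zv * r' ^ 2
        - (MvPolynomial.C W.a₁ * Yv - MvPolynomial.C W.a₄ * Zv) * r'
        - (MvPolynomial.C W.a₃ * Yv - MvPolynomial.C W.a₆ * Zv), ?_⟩
      linear_combination -h3
    have hZY : Zv ∣ Yv := hZprime.dvd_of_dvd_pow hZY2
    have := (MvPolynomial.X_dvd_X (R := k) (i := (1 : Fin 2)) (j := (0 : Fin 2))).1 hZY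
    exact absurd this (by decide)
  exact ((Associated.refl Q).neg_left.irreducible_iff).2 hQirr

end Groth.Agent.S19178
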