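import Groth.Statements.S1918
import Mathlib
import Groth.Agent.Lib.Helper71.PushRatE

set_option autoImplicit false
universe u
open CategoryTheory AlgebraicGeometry
open CategoryTheory.Limits
open Cyc

namespace Groth.Agent.S1918

-- HELPERS BEGIN
open Groth.Agent.Lib.Helper71.PushRat
-- HELPERS END


/-- Mayer–Vietoris for Chow groups, exactness in the middle: let i₁ : X₁ → X, i₂ : X₂ → X be closed
immersions covering X set-theoretically and X₁₂ = X₁ ×_X X₂ their scheme-theoretic intersection. If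
k-cycles α₁ on X₁ and α₂ on X₂ have rationally equivalent pushforwards on X, then there is a k-cycle
β on X₁₂ with α₁ ∼_rat (pr₁)_*β on X₁ and α₂ ∼_rat (pr₂)_*β on X₂. (The published statement also
asserts that CH_k(X₁) ⊕ CH_k(X₂) → CH_k(X) is surjective; that is not asserted here.) Here a pair
(X, δ) with Cyc.IsSetup plays the role of a scheme locally of finite type over a fixed base with a
dimension function (X locally Noetherian with universally catenary local rings, δ a dimension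
function). -/
theorem result (X : Scheme.{u}) (δ : X → ℤ) (hX : Cyc.IsSetup X δ) (X₁ X₂ : Scheme.{u}) (i₁ : X₁ ⟶ X) (i₂ : X₂ ⟶ X) [IsClosedImmersion i₁] [IsClosedImmersion i₂] (hcov : Set.range ⇑i₁ ∪ Set.range ⇑i₂ = Set.univ) (k : ℤ) (α₁ : AlgebraicCycle X₁ ℤ) (α₂ : AlgebraicCycle X₂ ℤ) (h₁ : α₁ ∈ Cyc.Zk X₁ (fun x => δ (i₁ x)) k) (h₂ : α₂ ∈ Cyc.Zk X₂ (fun x => δ (i₂ x)) k) (h : Cyc.RatEquiv δ k (AlgebraicCycle.map i₁ (fun x => δ (i₁ x)) δ α₁) (AlgebraicCycle.map i₂ (fun x => δ (i₂ x)) δ α₂)) : ∃ β : AlgebraicCycle (pullback i₁ i₂) ℤ, β ∈ Cyc.Zk (pullback i₁ i₂) (fun z => δ (i₁ (pullback.fst i₁ i₂ z))) k ∧ Cyc.RatEquiv (fun x => δ (i₁ x)) k α₁ (AlgebraicCycle.map (pullback.fst i₁ i₂) (fun z => δ (i₁ (pullback.fst i₁ i₂ z))) (fun x => δ (i₁ x)) β) ∧ Cyc.RatEquiv (fun x => δ (i₂ x)) k α₂ (AlgebraicCycle.map (pullback.snd i₁ i₂) (fun z => δ (i₁ (pullback.fst i₁ i₂ z)))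 (fun x => δ (i₂ x)) β) := by
  classical
  have hXN : IsLocallyNoetherian X := hX.1
  have hdim := hX.2.2
  obtain ⟨ι, ξ, f, hξ, hf, hlf, hsum⟩ := h
  have hX₁ := ci_isSetup i₁ δ hX
  have hX₂ := ci_isSetup i₂ δ hX
  have hN₁ : IsLocallyNoetherian X₁ := hX₁.1
  have hN₂ : IsLocallyNoetherian X₂ := hX₂.1
  -- lifts of the divisors
  have hmem₂ : ∀ j : {j : ι // ξ j ∉ Set.range i₁}, ξ j.1 ∈ Set.range i₂ := fun j => by
    have : ξ j.1 ∈ Set.range i₁ ∪ Set.range i₂ := by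
      rw [hcov]
      trivial
    exact this.resolve_left j.2
  have hl₁ : ∀ j : {j : ι // ξ j ∈ Set.range i₁}, ∃ (w : X₁) (f' : X₁.residueField w),
      i₁ w = ξ j.1 ∧ f' ≠ 0 ∧ ∀ w', Cyc.divFun (fun x => δ (i₁ x)) w f' w' =
        Cyc.divFun δ (ξ j.1) (f j.1) (i₁ w') :=
    fun j => exists_divFun_ci i₁ δ hdim (ξ j.1) j.2 (f j.1) (hf j.1)
  have hl₂ : ∀ j : {j : ι // ξ j ∉ Set.range i₁}, ∃ (w : X₂) (f' : X₂.residueField w),
      i₂ w = ξ j.1 ∧ f' ≠ 0 ∧ ∀ w', Cyc.divFun (fun x => δ (i₂ x)) w f' w' =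
        Cyc.divFun δ (ξ j.1) (f j.1) (i₂ w') :=
    fun j => exists_divFun_ci i₂ δ hdim (ξ j.1) (hmem₂ j) (f j.1) (hf j.1)
  choose w₁ f₁ hw₁ hf₁ hdiv₁ using hl₁
  choose w₂ f₂ hw₂ hf₂ hdiv₂ using hl₂
  have hlf₁ := lf_of_map i₁ i₁.continuous ξ w₁ Subtype.val Subtype.val_injective hw₁ hlf
  have hlf₂ := lf_of_map i₂ i₂.continuous ξ w₂ Subtype.val Subtype.val_injective hw₂ hlf
  have hδ₁ : ∀ j, δ (i₁ (w₁ j)) = k + 1 := fun j => by rw [hw₁ j]; exact hξ j.1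
  have hδ₂ : ∀ j, δ (i₂ (w₂ j)) = k + 1 := fun j => by rw [hw₂ j]; exact hξ j.1
  let C₁ : AlgebraicCycle X₁ ℤ := sumDivCycle (fun x => δ (i₁ x)) hX₁.2.2 w₁ f₁ hf₁ hlf₁
  let C₂ : AlgebraicCycle X₂ ℤ := sumDivCycle (fun x => δ (i₂ x)) hX₂.2.2 w₂ f₂ hf₂ hlf₂
  have hC₁ : ∀ x₁, C₁ x₁ = ∑ᶠ j : {j : ι // ξ j ∈ Set.range i₁},
      Cyc.divFun δ (ξ j.1) (f j.1) (i₁ x₁) := fun x₁ => finsum_congr (fun j => hdiv₁ j x₁)
  have hC₂ : ∀ x₂, C₂ x₂ = ∑ᶠ j : {j : ι // ξ j ∉ Set.range i₁},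
      Cyc.divFun δ (ξ j.1) (f j.1) (i₂ x₂) := fun x₂ => finsum_congr (fun j => hdiv₂ j x₂)
  -- the key identity
  have hE : ∀ x : X, AlgebraicCycle.map i₁ (fun x => δ (i₁ x)) δ α₁ x -
      AlgebraicCycle.map i₂ (fun x => δ (i₂ x)) δ α₂ x =
      ∑ᶠ j : {j : ι // ξ j ∈ Set.range i₁}, Cyc.divFun δ (ξ j.1) (f j.1) x +
      ∑ᶠ j : {j : ι // ξ j ∉ Set.range i₁}, Cyc.divFun δ (ξ j.1) (f j.1) x := by
    intro x
    have h0 := hsum x
    rw [Function.locallyFinsuppWithin.coe_sub] at h0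
    rw [← finsum_split (fun j => ξ j ∈ Set.range i₁) (fun j => Cyc.divFun δ (ξ j) (f j) x)
      (finite_support_divFun_family δ ξ f hlf x)]
    exact h0
  have hz₁ : ∀ x : X, x ∉ Set.range i₁ →
      ∑ᶠ j : {j : ι // ξ j ∈ Set.range i₁}, Cyc.divFun δ (ξ j.1) (f j.1) x = 0 := by
    intro x hx
    apply finsum_eq_zero_of_forall_eq_zero
    intro j
    exact divFun_eq_zero_of_notMem_range i₁ δ (ξ j.1) j.2 (f j.1) x hx
  have hz₂ : ∀ x : X, x ∉ Set.range i₂ →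
      ∑ᶠ j : {j : ι // ξ j ∉ Set.range i₁}, Cyc.divFun δ (ξ j.1) (f j.1) x = 0 := by
    intro x hx
    apply finsum_eq_zero_of_forall_eq_zero
    intro j
    exact divFun_eq_zero_of_notMem_range i₂ δ (ξ j.1) (hmem₂ j) (f j.1) x hx
  -- (I), (II), (III)
  have hI : ∀ x₁ : X₁, i₁ x₁ ∉ Set.range i₂ → (α₁ - C₁) x₁ = 0 := by
    intro x₁ hx
    have h0 := hE (i₁ x₁)
    rw [ci_map_apply i₁ δ α₁ x₁, ci_map_apply_of_notMem i₂ δ α₂ _ hx, hz₂ _ hx, ← hC₁] at h0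
    rw [Function.locallyFinsuppWithin.coe_sub]
    show α₁ x₁ - C₁ x₁ = 0
    linarith
  have hII : ∀ x₂ : X₂, i₂ x₂ ∉ Set.range i₁ → (α₂ + C₂) x₂ = 0 := by
    intro x₂ hx
    have h0 := hE (i₂ x₂)
    rw [ci_map_apply i₂ δ α₂ x₂, ci_map_apply_of_notMem i₁ δ α₁ _ hx, hz₁ _ hx, ← hC₂] at h0
    rw [Function.locallyFinsuppWithin.coe_add]
    show α₂ x₂ + C₂ x₂ = 0
    linarith
  have hIII : ∀ (x₁ : X₁) (x₂ : X₂), i₁ x₁ = i₂ x₂ → (α₁ - C₁) x₁ = (α₂ + C₂) x₂ := by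
    intro x₁ x₂ hx
    have h0 := hE (i₁ x₁)
    rw [ci_map_apply i₁ δ α₁ x₁, ← hC₁, hx, ci_map_apply i₂ δ α₂ x₂, ← hC₂] at h0
    rw [Function.locallyFinsuppWithin.coe_sub, Function.locallyFinsuppWithin.coe_add]
    show α₁ x₁ - C₁ x₁ = α₂ x₂ + C₂ x₂
    linarith
  -- the cycle on the intersection
  have hcond : ∀ z : ↥(pullback i₁ i₂), i₁ (pullback.fst i₁ i₂ z) = i₂ (pullback.snd i₁ i₂ z) := by
    intro z
    have := congrArg (fun t : pullback i₁ i₂ ⟶ X => t z) (pullback.condition (f := i₁) (g := i₂))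
    simpa using this
  let β : AlgebraicCycle (pullback i₁ i₂) ℤ := ciPullCycle (pullback.fst i₁ i₂) (α₁ - C₁)
  have hβ : ∀ z, β z = (α₁ - C₁) (pullback.fst i₁ i₂ z) := fun z => rfl
  have hp₁ : AlgebraicCycle.map (pullback.fst i₁ i₂) (fun z => δ (i₁ (pullback.fst i₁ i₂ z)))
      (fun x => δ (i₁ x)) β = α₁ - C₁ := by
    ext x₁
    by_cases hx : x₁ ∈ Set.range (pullback.fst i₁ i₂)
    · obtain ⟨z, rfl⟩ := hx
      rw [ci_map_apply' (pullback.fst i₁ i₂) (fun z => δ (i₁ (pullback.fst i₁ i₂ z)))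
        (fun x => δ (i₁ x)) (fun _ => rfl) β z, hβ]
    · rw [ci_map_apply_of_notMem' (pullback.fst i₁ i₂) (fun z => δ (i₁ (pullback.fst i₁ i₂ z)))
        (fun x => δ (i₁ x)) (fun _ => rfl) β x₁ hx]
      rw [Scheme.Pullback.range_fst] at hx
      exact (hI x₁ hx).symm
  have hp₂ : AlgebraicCycle.map (pullback.snd i₁ i₂) (fun z => δ (i₁ (pullback.fst i₁ i₂ z)))
      (fun x => δ (i₂ x)) β = α₂ + C₂ := by
    ext x₂
    by_cases hx : x₂ ∈ Set.range (pullback.snd i₁ i₂)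
    · obtain ⟨z, rfl⟩ := hx
      rw [ci_map_apply' (pullback.snd i₁ i₂) (fun z => δ (i₁ (pullback.fst i₁ i₂ z)))
        (fun x => δ (i₂ x)) (fun z => congrArg δ (hcond z)) β z, hβ]
      exact hIII _ _ (hcond z)
    · rw [ci_map_apply_of_notMem' (pullback.snd i₁ i₂) (fun z => δ (i₁ (pullback.fst i₁ i₂ z)))
        (fun x => δ (i₂ x)) (fun z => congrArg δ (hcond z)) β x₂ hx]
      rw [Scheme.Pullback.range_snd] at hx
      exact (hII x₂ hx).symm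
  refine ⟨β, ?_, ?_, ?_⟩
  · intro z hz
    rw [hβ, Function.locallyFinsuppWithin.coe_sub]
    show α₁ (pullback.fst i₁ i₂ z) - C₁ (pullback.fst i₁ i₂ z) = 0
    rw [h₁ _ hz]
    have : C₁ (pullback.fst i₁ i₂ z) = 0 :=
      sumDivFun_eq_zero_of_ne (fun x => δ (i₁ x)) w₁ f₁ k hδ₁ _ hz
    rw [this, sub_zero]
  · show Cyc.RatEquivZero _ k _
    rw [hp₁, sub_sub_cancel]
    exact ⟨_, w₁, f₁, hδ₁, hf₁, hlf₁, fun x => rfl⟩
  · show Cyc.RatEquivZero _ k _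
    rw [hp₂, sub_add_cancel_left]
    refine ⟨_, w₂, fun j => (f₂ j)⁻¹, hδ₂, fun j => inv_ne_zero (hf₂ j), hlf₂, fun x => ?_⟩
    rw [Function.locallyFinsuppWithin.coe_neg]
    show - C₂ x = _
    rw [finsum_congr (fun j => divFun_inv (fun x => δ (i₂ x)) (w₂ j) (f₂ j) (hf₂ j) x),
      finsum_neg_distrib]
    rfl

end Groth.Agent.S1918
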