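import Groth.Statements.S19180
import Groth.Agent.Lib.Helper17.PnVanish
import Groth.Agent.Lib.Helper1.HHTools
import Groth.Agent.Lib.Helper45.SectionHom

set_option autoImplicit false
universe u
open Coherent

namespace Groth.Agent.S19180

open CategoryTheory AlgebraicGeometry in
/-- Let R be a local ring and m ≥ 1, and consider the projective line P¹_R with its structure sheaf O
and twisting sheaf O(m). For every O-module F and every short exact sequence 0 → O(m) → F → O → 0 of
O-modules, the surjection F → O admits a section; consequently F is isomorphic to O(m) ⊕ O. -/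
theorem result (R : Type u) [CommRing R] [IsLocalRing R]
    (m : ℕ) (hm : 1 ≤ m) (F : (CohB1.ProjSpace 1 R).Modules)
    (i : Twist.twistProjSpace 1 R (m : ℤ) ⟶ F) (p : F ⟶ Coh.structureModule (CohB1.ProjSpace 1 R))
    (w : i ≫ p = 0) (hex : (ShortComplex.mk i p w).ShortExact) :
    ∃ s : Coh.structureModule (CohB1.ProjSpace 1 R) ⟶ F, s ≫ p = 𝟙 _ := by
  have h1 : Subsingleton (Coh.HH (CohB1.ProjSpace 1 R) (Twist.twistProjSpace 1 R (m : ℤ)) 1) :=
    Groth.Agent.Lib.Helper17.PnVanish.subsingleton_HH 1 R (m : ℤ) 1 (by simp) (by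
      rintro ⟨-, h⟩
      norm_num at h
      omega)
  obtain ⟨t, ht⟩ := Groth.Agent.Lib.Helper1.exists_lift_sections_of_subsingleton_HH_one
    hex h1 (show Γ(Coh.structureModule (CohB1.ProjSpace 1 R), ⊤) from
      (1 : Γ(CohB1.ProjSpace 1 R, ⊤)))
  refine ⟨Groth.Agent.Lib.Helper45.SectionHom.sectionHom F t, ?_⟩
  apply (SheafOfModules.unitHomEquiv _).injective
  apply (Groth.Agent.Lib.Helper45.SummandFree.sectionsEquiv (R := (CohB1.ProjSpace 1 R).ringCatSheaf)
      (T := (⊤ : (CohB1.ProjSpace 1 R).Opens)) Limits.isTerminalTop _).injective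
  change ((SheafOfModules.unitHomEquiv _
    (Groth.Agent.Lib.Helper45.SectionHom.sectionHom F t ≫ p)).val (Opposite.op ⊤)) =
    ((SheafOfModules.unitHomEquiv _ (𝟙 (Coh.structureModule (CohB1.ProjSpace 1 R)))).val
      (Opposite.op ⊤))
  rw [SheafOfModules.unitHomEquiv_apply_coe, SheafOfModules.unitHomEquiv_apply_coe]
  have e2 := Groth.Agent.Lib.Helper45.SectionHom.sectionHom_app_top_one F t
  change p.app ⊤ ((Groth.Agent.Lib.Helper45.SectionHom.sectionHom F t).app ⊤
        (1 : Γ(CohB1.ProjSpace 1 R, ⊤))) = _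
  rw [e2]
  exact ht

end Groth.Agent.S19180
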