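import Groth.Statements.S19181
import Mathlib
-- import your own Groth.Agent.* helpers here

set_option autoImplicit false
universe u
open CAlg

namespace Groth.Agent.S19181

section Helpers

open MvPolynomial

variable {R : Type u} [CommRing R]

noncomputable def ev0 : MvPolynomial (Fin 2) R →ₐ[R] Polynomial R :=
  MvPolynomial.aeval ![0, Polynomial.X]

noncomputable def iota : Polynomial R →ₐ[R] MvPolynomial (Fin 2) R :=
  Polynomial.aeval (X 1)

theorem ev0_X0 : ev0 (X 0 : MvPolynomial (Fin 2) R) = 0 := by simp [ev0]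
theorem ev0_X1 : ev0 (X 1 : MvPolynomial (Fin 2) R) = Polynomial.X := by simp [ev0]

theorem X0_dvd_sub (h : MvPolynomial (Fin 2) R) : (X 0 : MvPolynomial (Fin 2) R) ∣ h - iota (ev0 h) := by
  induction h using MvPolynomial.induction_on with
  | C r => simp [ev0, iota]
  | add p q hp hq =>
    rw [map_add, map_add]
    have : p + q - (iota (ev0 p) + iota (ev0 q)) = (p - iota (ev0 p)) + (q - iota (ev0 q)) := by ring
    rw [this]; exact dvd_add hp hq
  | mul_X p i hp =>
    rw [map_mul, map_mul]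
    fin_cases i
    · simp only [Fin.zero_eta, ev0_X0, mul_zero, map_zero, sub_zero]
      exact dvd_mul_left _ _
    · simp only [Fin.mk_one, ev0_X1]
      have : iota (Polynomial.X : Polynomial R) = X 1 := by simp [iota]
      rw [this, ← sub_mul]
      exact dvd_mul_of_dvd_left hp _

theorem X0_dvd_of_dvd_mul {g h : MvPolynomial (Fin 2) R} (hg : ev0 g ∈ nonZeroDivisors (Polynomial R))
    (hd : (X 0 : MvPolynomial (Fin 2) R) ∣ g * h) : (X 0 : MvPolynomial (Fin 2) R) ∣ h := by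
  obtain ⟨q, hq⟩ := hd
  have h1 : ev0 g * ev0 h = 0 := by
    rw [← map_mul, hq, map_mul, ev0_X0, zero_mul]
  have h2 : ev0 h = 0 := by
    rw [mul_comm] at h1
    exact hg.2 _ h1
  have := X0_dvd_sub h
  rwa [h2, map_zero, sub_zero] at this

theorem dvd_of_pow_mul_eq {g : MvPolynomial (Fin 2) R} (hg : ev0 g ∈ nonZeroDivisors (Polynomial R)) :
    ∀ (m : ℕ) (s h : MvPolynomial (Fin 2) R), X 0 ^ m * s = g * h → g ∣ s := by
  intro m
  induction m with
  | zero => intro s h e; exact ⟨h, by simpa using e⟩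
  | succ m ih =>
    intro s h e
    have hd : (X 0 : MvPolynomial (Fin 2) R) ∣ g * h := ⟨X 0 ^ m * s, by rw [← e]; ring⟩
    obtain ⟨h', rfl⟩ := X0_dvd_of_dvd_mul hg hd
    apply ih s h'
    have : (X 0 : MvPolynomial (Fin 2) R) * (X 0 ^ m * s) = X 0 * (g * h') := by
      rw [← mul_assoc, ← pow_succ', e]; ring
    exact (X_mul_cancel_left_iff).1 this

theorem sat_iff {g : MvPolynomial (Fin 2) R} (hg : ev0 g ∈ nonZeroDivisors (Polynomial R))
    (s : MvPolynomial (Fin 2) R) :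
    (∃ n : ℕ, X 0 ^ n * s ∈ Ideal.span ({X 0 ^ 2 * g} : Set (MvPolynomial (Fin 2) R))) ↔
      s ∈ Ideal.span ({g} : Set (MvPolynomial (Fin 2) R)) := by
  constructor
  · rintro ⟨n, hn⟩
    rw [Ideal.mem_span_singleton] at hn ⊢
    obtain ⟨h, hh⟩ := hn
    -- X0^n * s = X0^2 * g * h; multiply: X0^n * s = g * (X0^2 * h)
    apply dvd_of_pow_mul_eq hg n s (X 0 ^ 2 * h)
    rw [hh]; ring
  · intro hs
    rw [Ideal.mem_span_singleton] at hs
    obtain ⟨h, rfl⟩ := hs
    refine ⟨2, ?_⟩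
    rw [Ideal.mem_span_singleton]
    exact ⟨h, by ring⟩


end Helpers


open MvPolynomial in
/-- Let R be a commutative ring, a₁, a₂ ∈ R, and C ⊂ A²_R the curve y² + a₁xy = x³ + a₂x², blown up at
the section x = y = 0. In the chart where x = yα (variables y = X 0, α = X 1) the equation of C
becomes y²·g₁ with g₁ = 1 + a₁α − yα³ − a₂α², and the y-saturation of the ideal (y²g₁) is (g₁): for
s ∈ R[y, α], some yⁿs lies in (y²g₁) if and only if s ∈ (g₁). In the chart where y = xβ (variables x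
= X 0, β = X 1) the equation becomes x²·g₂ with g₂ = β² + a₁β − x − a₂, and some xⁿs lies in (x²g₂)
if and only if s ∈ (g₂). In other words the strict transform of C is cut out by g₁, resp. g₂, in the
two charts. -/
theorem result (R : Type u) [CommRing R] (a₁ a₂ : R) :
    (∀ s : MvPolynomial (Fin 2) R,
      (∃ n : ℕ, X 0 ^ n * s ∈ Ideal.span ({X 0 ^ 2 * (1 + C a₁ * X 1 - X 0 * X 1 ^ 3 - C a₂ * X 1 ^ 2)} :
        Set (MvPolynomial (Fin 2) R))) ↔
      s ∈ Ideal.span ({1 + C a₁ * X 1 - X 0 * X 1 ^ 3 - C a₂ * X 1 ^ 2} : Set (MvPolynomial (Fin 2) R))) ∧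
    (∀ s : MvPolynomial (Fin 2) R,
      (∃ n : ℕ, X 0 ^ n * s ∈ Ideal.span ({X 0 ^ 2 * (X 1 ^ 2 + C a₁ * X 1 - X 0 - C a₂)} :
        Set (MvPolynomial (Fin 2) R))) ↔
      s ∈ Ideal.span ({X 1 ^ 2 + C a₁ * X 1 - X 0 - C a₂} : Set (MvPolynomial (Fin 2) R))) := by
  have h1 : ev0 (1 + C a₁ * X 1 - X 0 * X 1 ^ 3 - C a₂ * X 1 ^ 2 : MvPolynomial (Fin 2) R) ∈
      nonZeroDivisors (Polynomial R) := by
    apply Polynomial.mem_nonzeroDivisors_of_coeff_mem 0
    have : (ev0 (1 + C a₁ * X 1 - X 0 * X 1 ^ 3 - C a₂ * X 1 ^ 2 : MvPolynomial (Fin 2) R)).coeff 0 = 1 := by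
      simp [ev0]
    rw [this]
    exact one_mem _
  have h2 : ev0 (X 1 ^ 2 + C a₁ * X 1 - X 0 - C a₂ : MvPolynomial (Fin 2) R) ∈
      nonZeroDivisors (Polynomial R) := by
    apply Polynomial.mem_nonzeroDivisors_of_coeff_mem 2
    have : (ev0 (X 1 ^ 2 + C a₁ * X 1 - X 0 - C a₂ : MvPolynomial (Fin 2) R)).coeff 2 = 1 := by
      simp [ev0, Polynomial.coeff_X, Polynomial.coeff_C]
    rw [this]
    exact one_mem _
  exact ⟨fun s => sat_iff h1 s, fun s => sat_iff h2 s⟩

end Groth.Agent.S19181
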