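import Groth.Statements.S19183
import Mathlib
-- import your own Groth.Agent.* helpers here

set_option autoImplicit false
universe u
open CAlg

namespace Groth.Agent.S19183

/-- Let A be a non-zero commutative ring and f ∈ A a non-zero-divisor. The fibre product A ×_{A/(f)} A
of two copies of A over A/(f) — the A-submodule of A × A of pairs (x, y) with x − y ∈ (f), which is
the coordinate ring of two copies of Spec A glued along the Cartier divisor f = 0 — is a free
A-module of rank 2. (This is what makes the gluing of two copies of a curve along an effective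
Cartier divisor finite locally free of degree 2 over the curve.) -/
theorem result (A : Type u) [CommRing A] [Nontrivial A]
    (f : A) (hf : f ∈ nonZeroDivisors A) :
    Module.Free A (Submodule.comap (LinearMap.fst A A A - LinearMap.snd A A A) (Ideal.span ({f} : Set A))) ∧
      Module.finrank A (Submodule.comap (LinearMap.fst A A A - LinearMap.snd A A A) (Ideal.span ({f} : Set A))) = 2 := by
  set M := Submodule.comap (LinearMap.fst A A A - LinearMap.snd A A A) (Ideal.span ({f} : Set A)) with hM
  have hmem : ∀ p : A × A, p ∈ M ↔ ∃ a, p.1 - p.2 = f * a := by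
    intro p
    simp only [hM, Submodule.mem_comap, LinearMap.sub_apply, LinearMap.fst_apply, LinearMap.snd_apply,
      Ideal.mem_span_singleton']
    constructor
    · rintro ⟨a, ha⟩; exact ⟨a, by rw [← ha, mul_comm]⟩
    · rintro ⟨a, ha⟩; exact ⟨a, by rw [ha, mul_comm]⟩
  -- the linear equivalence A × A ≃ M
  let φ : (A × A) →ₗ[A] M :=
    { toFun := fun q => ⟨(q.1 + f * q.2, q.1), (hmem _).2 ⟨q.2, by ring⟩⟩
      map_add' := by
        intro q r; ext <;> simp <;> ring
      map_smul' := by
        intro c q; ext <;> simp <;> ring }
  have hφ : Function.Bijective φ := by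
    constructor
    · intro q r h
      have h1 : q.1 + f * q.2 = r.1 + f * r.2 := congrArg (fun m : M => m.1.1) h
      have h2 : q.1 = r.1 := congrArg (fun m : M => m.1.2) h
      have h3 : f * q.2 = f * r.2 := by rw [h2] at h1; exact add_left_cancel h1
      have h4 : q.2 = r.2 := by
        have h5 : f * (q.2 - r.2) = 0 := by rw [mul_sub, h3, sub_self]
        exact sub_eq_zero.mp ((mem_nonZeroDivisors_iff.mp hf).1 _ h5)
      exact Prod.ext h2 h4
    · rintro ⟨p, hp⟩
      obtain ⟨a, ha⟩ := (hmem p).1 hp
      refine ⟨(p.2, a), ?_⟩
      ext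
      · simp [φ, ← ha]
      · simp [φ]
  let e : (A × A) ≃ₗ[A] M := LinearEquiv.ofBijective φ hφ
  refine ⟨Module.Free.of_equiv e, ?_⟩
  rw [← e.finrank_eq, Module.finrank_prod, Module.finrank_self]

end Groth.Agent.S19183
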