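import Groth.Statements.S19184
import Mathlib
-- import your own Groth.Agent.* helpers here

set_option autoImplicit false
universe u
open CAlg

namespace Groth.Agent.S19184

open Polynomial in
/-- Let S be a commutative ring, a, b ∈ S, f = x² + ax + b ∈ S[x] and R = S[x]/(f), a free S-algebra of
rank 2. Let A ⊂ S[x] be the S-subalgebra of polynomials whose class in R lies in the image of S → R;
it is the fibre product S[x] ×_R S, the coordinate ring of the affine line over S with the degree-2
subscheme Spec R collapsed onto Spec S. Then A is a free S-module and S[x] is a finitely generated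
A-module. -/
theorem result (S : Type u) [CommRing S] (a b : S) :
    Module.Free S ((⊥ : Subalgebra S (S[X] ⧸ Ideal.span ({X ^ 2 + C a * X + C b} : Set S[X]))).comap
        (Ideal.Quotient.mkₐ S (Ideal.span ({X ^ 2 + C a * X + C b} : Set S[X])))) ∧
      Module.Finite ((⊥ : Subalgebra S (S[X] ⧸ Ideal.span ({X ^ 2 + C a * X + C b} : Set S[X]))).comap
        (Ideal.Quotient.mkₐ S (Ideal.span ({X ^ 2 + C a * X + C b} : Set S[X])))) S[X] := by
  classical
  set f : S[X] := X ^ 2 + C a * X + C b with hf
  set I : Ideal S[X] := Ideal.span ({f} : Set S[X]) with hI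
  set A : Subalgebra S S[X] := (⊥ : Subalgebra S (S[X] ⧸ I)).comap (Ideal.Quotient.mkₐ S I) with hA
  rcases subsingleton_or_nontrivial S with hS | hS
  · have : Subsingleton S[X] := inferInstance
    have : Subsingleton A := inferInstance
    exact ⟨inferInstance, inferInstance⟩
  have hmem : ∀ g : S[X], g ∈ A ↔ ∃ (s : S) (q : S[X]), g = C s + f * q := by
    intro g
    rw [hA, Subalgebra.mem_comap, Algebra.mem_bot]
    constructor
    · rintro ⟨s, hs⟩
      have : Ideal.Quotient.mk I (g - C s) = 0 := by
        rw [map_sub, sub_eq_zero]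
        exact hs.symm
      rw [Ideal.Quotient.eq_zero_iff_mem, hI, Ideal.mem_span_singleton'] at this
      obtain ⟨q, hq⟩ := this
      exact ⟨s, q, by rw [mul_comm, hq]; ring⟩
    · rintro ⟨s, q, rfl⟩
      refine ⟨s, ?_⟩
      have : Ideal.Quotient.mk I (f * q) = 0 := by
        rw [Ideal.Quotient.eq_zero_iff_mem]
        exact Ideal.mul_mem_right _ _ (Ideal.subset_span rfl)
      show _ = Ideal.Quotient.mk I (C s + f * q)
      rw [map_add, this, add_zero]
      rfl
  have hmonic : f.Monic := by
    rw [hf]
    monicity!
  have hfdeg : f.natDegree = 2 := by rw [hf]; compute_degree!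
  constructor
  · -- the linear equivalence S × S[X] ≃ A
    let φ : (S × S[X]) →ₗ[S] A :=
      { toFun := fun p => ⟨C p.1 + f * p.2, (hmem _).2 ⟨p.1, p.2, rfl⟩⟩
        map_add' := by
          intro p q; ext1; simp only [Prod.fst_add, Prod.snd_add, map_add]
          show _ = (C p.1 + f * p.2) + (C q.1 + f * q.2)
          ring
        map_smul' := by
          intro c p; ext1
          simp only [Prod.smul_fst, Prod.smul_snd, smul_eq_mul, RingHom.id_apply, map_mul]
          show _ = c • (C p.1 + f * p.2)
          rw [smul_eq_C_mul, smul_eq_C_mul]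
          ring }
    have hφ : Function.Bijective φ := by
      constructor
      · rw [injective_iff_map_eq_zero]
        rintro ⟨s, q⟩ h
        have h0 : C s + f * q = 0 := congrArg Subtype.val h
        by_cases hq : q = 0
        · subst hq
          simp only [mul_zero, add_zero] at h0
          rw [C_eq_zero] at h0
          simp [h0]
        · exfalso
          have hdeg : (f * q).natDegree = 2 + q.natDegree := by
            rw [hmonic.natDegree_mul' hq, hfdeg]
          have : f * q = - C s := (neg_eq_of_add_eq_zero_right h0).symm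
          rw [this, natDegree_neg, natDegree_C] at hdeg
          omega
      · rintro ⟨g, hg⟩
        obtain ⟨s, q, rfl⟩ := (hmem g).1 hg
        exact ⟨(s, q), rfl⟩
    exact Module.Free.of_equiv (LinearEquiv.ofBijective φ hφ)
  · refine ⟨⟨({1, X} : Finset S[X]), ?_⟩⟩
    rw [eq_top_iff]
    rintro g -
    have hdiv := modByMonic_add_div g f
    have hdeg : (g %ₘ f).natDegree < 2 := by
      have := natDegree_modByMonic_lt g hmonic (by
        intro h
        rw [h] at hfdeg
        simp at hfdeg)
      omega
    obtain ⟨c, d', hcd⟩ : ∃ c d' : S, g %ₘ f = C c * X + C d' := by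
      exact ⟨(g %ₘ f).coeff 1, (g %ₘ f).coeff 0, by
        conv_lhs => rw [eq_X_add_C_of_natDegree_le_one (by omega : (g %ₘ f).natDegree ≤ 1)]⟩
    have hg : g = (⟨C d' + f * (g /ₘ f), (hmem _).2 ⟨d', _, rfl⟩⟩ : A) • (1 : S[X]) +
        (⟨C c, (hmem _).2 ⟨c, 0, by simp⟩⟩ : A) • (X : S[X]) := by
      show g = (C d' + f * (g /ₘ f)) * 1 + C c * X
      linear_combination -hdiv + hcd
    rw [hg]
    refine Submodule.add_mem _ (Submodule.smul_mem _ _ (Submodule.subset_span (by simp)))
      (Submodule.smul_mem _ _ (Submodule.subset_span (by simp)))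

end Groth.Agent.S19184
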