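import Groth.Statements.S19185
import Mathlib

set_option autoImplicit false
universe u
open Curves

namespace Groth.Agent.S19185

section jac
open MvPolynomial
variable {k : Type u} [Field k]

local notation "P" => MvPolynomial (Fin 2) k

/-- The first-order "Taylor" algebra map `p ↦ p + (Σ cᵢ ∂ᵢp) F` modulo an ideal containing `F²`. -/
noncomputable def taylorHom (F : P) (c : Fin 2 → P) (I2 : Ideal P) (hI2 : F * F ∈ I2) :
    P →ₐ[k] P ⧸ I2 :=
  MvPolynomial.aeval (fun i => Ideal.Quotient.mk I2 (X i + c i * F))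

theorem taylorHom_X (F : P) (c : Fin 2 → P) (I2 : Ideal P) (hI2 : F * F ∈ I2) (i : Fin 2) :
    taylorHom F c I2 hI2 (X i) = Ideal.Quotient.mk I2 (X i + c i * F) := by
  unfold taylorHom
  exact aeval_X _ i

theorem taylorHom_apply (F : P) (c : Fin 2 → P) (I2 : Ideal P) (hI2 : F * F ∈ I2) (p : P) :
    taylorHom F c I2 hI2 p = Ideal.Quotient.mk I2 (p + (∑ i, c i * pderiv i p) * F) := by
  induction p using MvPolynomial.induction_on with
  | C a =>
    simp only [taylorHom, aeval_C, pderiv_C, mul_zero, Finset.sum_const_zero, zero_mul, add_zero]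
    rfl
  | add p q hp hq =>
    rw [map_add, hp, hq, ← map_add]
    congr 1
    simp only [map_add, mul_add, Finset.sum_add_distrib]
    ring
  | mul_X p j hp =>
    rw [map_mul, hp]
    have : taylorHom F c I2 hI2 (X j) = Ideal.Quotient.mk I2 (X j + c j * F) := taylorHom_X ..
    rw [this, ← map_mul, Ideal.Quotient.eq]
    have hsum : (∑ i, c i * pderiv i (p * X j)) = (∑ i, c i * pderiv i p) * X j + c j * p := by
      simp only [Derivation.leibniz, smul_eq_mul, pderiv_X, Fin.sum_univ_two]
      fin_cases j <;> simp <;> ring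
    rw [hsum]
    have : (p + (∑ i, c i * pderiv i p) * F) * (X j + c j * F) -
        (p * X j + ((∑ i, c i * pderiv i p) * X j + c j * p) * F) =
        ((∑ i, c i * pderiv i p) * c j) * (F * F) := by ring
    rw [this]
    exact I2.mul_mem_left _ hI2

end jac

section jac2
open MvPolynomial
variable {k : Type u} [Field k]

local notation "P" => MvPolynomial (Fin 2) k

theorem formallySmooth_iff_jacobian (F : P) (hF : F ≠ 0) :
    Algebra.FormallySmooth k (P ⧸ Ideal.span ({F} : Set P)) ↔
      Ideal.span ({F, pderiv 0 F, pderiv 1 F} : Set P) = ⊤ := by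
  set I : Ideal P := Ideal.span ({F} : Set P) with hI
  have hf : Function.Surjective (Ideal.Quotient.mkₐ k I) := Ideal.Quotient.mkₐ_surjective k I
  rw [Algebra.FormallySmooth.iff_split_surjection (Ideal.Quotient.mkₐ k I) hf]
  have hker : RingHom.ker (Ideal.Quotient.mkₐ k I).toRingHom = I := Ideal.mk_ker
  have hFI : F ∈ I := Ideal.mem_span_singleton_self F
  have hfF : Ideal.Quotient.mkₐ k I F = 0 := Ideal.Quotient.eq_zero_iff_mem.mpr hFI
  have mem_I2 : ∀ x, x ∈ RingHom.ker (Ideal.Quotient.mkₐ k I).toRingHom ^ 2 ↔ F * F ∣ x := by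
    intro x
    rw [hker, hI, Ideal.span_singleton_pow, Ideal.mem_span_singleton, pow_two]
  have hFF : F * F ∈ RingHom.ker (Ideal.Quotient.mkₐ k I).toRingHom ^ 2 :=
    (mem_I2 _).mpr dvd_rfl
  constructor
  · rintro ⟨g, hg⟩
    have hy : ∀ i : Fin 2, ∃ c : P, g (Ideal.Quotient.mkₐ k I (X i)) =
        Ideal.Quotient.mk _ (X i + c * F) := by
      intro i
      obtain ⟨y, hy⟩ := Ideal.Quotient.mk_surjective (g (Ideal.Quotient.mkₐ k I (X i)))
      have h1 := AlgHom.congr_fun hg (Ideal.Quotient.mkₐ k I (X i))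
      rw [AlgHom.comp_apply, ← hy] at h1
      have h2 : Ideal.Quotient.mkₐ k I y = Ideal.Quotient.mkₐ k I (X i) := h1
      rw [Ideal.Quotient.mkₐ_eq_mk, Ideal.Quotient.eq, hI, Ideal.mem_span_singleton'] at h2
      obtain ⟨c, hc⟩ := h2
      refine ⟨c, ?_⟩
      rw [← hy, hc]
      congr 1
      ring
    choose c hc using hy
    have hψ : g.comp (Ideal.Quotient.mkₐ k I) = taylorHom F c _ hFF := by
      apply MvPolynomial.algHom_ext
      intro i
      rw [AlgHom.comp_apply, hc i, taylorHom_X]
    have h0 : taylorHom F c _ hFF F = 0 := by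
      rw [← hψ, AlgHom.comp_apply, hfF, map_zero]
    rw [taylorHom_apply, Ideal.Quotient.eq_zero_iff_mem, mem_I2] at h0
    have h1 : F + (∑ i, c i * pderiv i F) * F = F * (1 + ∑ i, c i * pderiv i F) := by ring
    rw [h1, mul_dvd_mul_iff_left hF] at h0
    obtain ⟨h, hh⟩ := h0
    rw [Ideal.eq_top_iff_one]
    have h2 : (1 : P) = h * F - c 0 * pderiv 0 F - c 1 * pderiv 1 F := by
      rw [Fin.sum_univ_two] at hh
      linear_combination hh
    rw [h2]
    refine Ideal.sub_mem _ (Ideal.sub_mem _ ?_ ?_) ?_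
    · exact Ideal.mul_mem_left _ _ (Ideal.subset_span (by simp))
    · exact Ideal.mul_mem_left _ _ (Ideal.subset_span (by simp))
    · exact Ideal.mul_mem_left _ _ (Ideal.subset_span (by simp))
  · intro htop
    have h1 : (1 : P) ∈ Ideal.span ({F, pderiv 0 F, pderiv 1 F} : Set P) := by
      rw [htop]; trivial
    rw [Ideal.mem_span_insert] at h1
    obtain ⟨h, z, hz, e1⟩ := h1
    rw [Ideal.mem_span_insert] at hz
    obtain ⟨g0, z', hz', e2⟩ := hz
    rw [Ideal.mem_span_singleton'] at hz'
    obtain ⟨g1, e3⟩ := hz'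
    let c : Fin 2 → P := ![-g0, -g1]
    have hθF : taylorHom F c _ hFF F = 0 := by
      rw [taylorHom_apply, Ideal.Quotient.eq_zero_iff_mem, mem_I2]
      refine ⟨h, ?_⟩
      rw [Fin.sum_univ_two]
      simp only [c, Matrix.cons_val_zero, Matrix.cons_val_one]
      linear_combination F * e1 + F * e2 - F * e3
    have hθI : ∀ a ∈ I, taylorHom F c _ hFF a = 0 := by
      intro a ha
      rw [hI, Ideal.mem_span_singleton'] at ha
      obtain ⟨r, rfl⟩ := ha
      rw [map_mul, hθF, mul_zero]
    refine ⟨Ideal.Quotient.liftₐ I (taylorHom F c _ hFF) hθI, ?_⟩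
    apply Ideal.Quotient.algHom_ext
    apply MvPolynomial.algHom_ext
    intro i
    simp only [AlgHom.comp_apply, Ideal.Quotient.mkₐ_eq_mk, Ideal.Quotient.liftₐ_apply,
      AlgHom.id_apply]
    have : taylorHom F c _ hFF (X i) = Ideal.Quotient.mk _ (X i + c i * F) := taylorHom_X ..
    change (Ideal.Quotient.mkₐ k I).kerSquareLift (taylorHom F c _ hFF (X i)) = _
    rw [this, AlgHom.kerSquareLift_mk, Ideal.Quotient.mkₐ_eq_mk, map_add, map_mul,
      Ideal.Quotient.eq_zero_iff_mem.mpr hFI, mul_zero, add_zero]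

end jac2

section charts
open MvPolynomial
variable {k : Type u} [Field k]

local notation "P" => MvPolynomial (Fin 2) k

/-- `k[X] → k[x₀,x₁]`, `X ↦ x₀`. -/
noncomputable def iot : Polynomial k →ₐ[k] P := Polynomial.aeval (X 0 : P)

theorem pderiv_zero_iot (a : Polynomial k) :
    pderiv 0 (iot a) = iot (Polynomial.derivative a) := by
  induction a using Polynomial.induction_on' with
  | add p q hp hq => simp only [map_add, hp, hq]
  | monomial n c =>
    simp only [iot, Polynomial.aeval_monomial, Polynomial.derivative_monomial]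
    rw [Derivation.leibniz, Derivation.leibniz_pow, pderiv_X_self]
    simp only [MvPolynomial.algebraMap_eq, pderiv_C, smul_zero, add_zero, smul_eq_mul, map_mul,
      map_natCast]
    ring

theorem pderiv_one_iot (a : Polynomial k) : pderiv 1 (iot a) = 0 := by
  induction a using Polynomial.induction_on' with
  | add p q hp hq => simp only [map_add, hp, hq, add_zero]
  | monomial n c =>
    simp only [iot, Polynomial.aeval_monomial]
    rw [Derivation.leibniz, Derivation.leibniz_pow, pderiv_X_of_ne (by decide)]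
    simp

theorem aeval_iot {K : Type*} [CommRing K] [Algebra k K] (f : Fin 2 → K) (a : Polynomial k) :
    MvPolynomial.aeval f (iot a) = Polynomial.aeval (f 0) a := by
  unfold iot
  rw [← Polynomial.aeval_algHom_apply, aeval_X]

theorem iot_injective : Function.Injective (iot (k := k)) := by
  intro a b h
  have := congrArg (MvPolynomial.aeval (fun _ : Fin 2 => (Polynomial.X : Polynomial k))) h
  simpa [aeval_iot] using this

end charts

section charts2
open MvPolynomial
variable {k : Type u} [Field k]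

local notation "P" => MvPolynomial (Fin 2) k

open Polynomial in
theorem jac_top_of_isCoprime (a b : Polynomial k) (h : IsCoprime a b) (J : Ideal P)
    (ha : iot a ∈ J) (hb : iot b ∈ J) : J = ⊤ := by
  obtain ⟨u, v, e⟩ := h
  rw [Ideal.eq_top_iff_one]
  have : (1 : P) = iot u * iot a + iot v * iot b := by
    rw [← map_mul, ← map_mul, ← map_add, e, map_one]
  rw [this]
  exact J.add_mem (J.mul_mem_left _ ha) (J.mul_mem_left _ hb)

open Polynomial in
theorem isCoprime_of_jac (a b : Polynomial k) (hab : ¬(a = 0 ∧ b = 0))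
    (h1 : Ideal.span ({iot a + iot b * X 1, iot (derivative a) + iot (derivative b) * X 1,
      iot b} : Set P) = ⊤)
    (h2 : Ideal.span ({iot a * X 1 + iot b, iot (derivative a) * X 1 + iot (derivative b),
      iot a} : Set P) = ⊤) : IsCoprime a b := by
  apply isCoprime_of_irreducible_dvd hab
  intro π hπ ha hb
  have := Fact.mk hπ
  set θ : AdjoinRoot π := AdjoinRoot.root π with hθ
  have ha0 : Polynomial.aeval θ a = 0 := by
    rw [AdjoinRoot.aeval_eq, AdjoinRoot.mk_eq_zero]; exact ha
  have hb0 : Polynomial.aeval θ b = 0 := by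
    rw [AdjoinRoot.aeval_eq, AdjoinRoot.mk_eq_zero]; exact hb
  have key1 : ∀ w : AdjoinRoot π,
      Polynomial.aeval θ (derivative a) + Polynomial.aeval θ (derivative b) * w ≠ 0 := by
    intro w hw
    have h := (Ideal.eq_top_iff_one _).mp h1
    rw [Ideal.mem_span_insert] at h
    obtain ⟨r1, z, hz, e1⟩ := h
    rw [Ideal.mem_span_insert] at hz
    obtain ⟨r2, z', hz', e2⟩ := hz
    rw [Ideal.mem_span_singleton'] at hz'
    obtain ⟨r3, e3⟩ := hz'
    have := congrArg (MvPolynomial.aeval (![θ, w] : Fin 2 → AdjoinRoot π)) e1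
    rw [e2, ← e3] at this
    simp only [map_one, map_add, map_mul, aeval_iot, MvPolynomial.aeval_X, Matrix.cons_val_zero,
      Matrix.cons_val_one, ha0, hb0, zero_mul, mul_zero, add_zero, zero_add] at this
    rw [hw, mul_zero] at this
    exact one_ne_zero this
  have key2 : ∀ w : AdjoinRoot π,
      Polynomial.aeval θ (derivative a) * w + Polynomial.aeval θ (derivative b) ≠ 0 := by
    intro w hw
    have h := (Ideal.eq_top_iff_one _).mp h2
    rw [Ideal.mem_span_insert] at h
    obtain ⟨r1, z, hz, e1⟩ := h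
    rw [Ideal.mem_span_insert] at hz
    obtain ⟨r2, z', hz', e2⟩ := hz
    rw [Ideal.mem_span_singleton'] at hz'
    obtain ⟨r3, e3⟩ := hz'
    have := congrArg (MvPolynomial.aeval (![θ, w] : Fin 2 → AdjoinRoot π)) e1
    rw [e2, ← e3] at this
    simp only [map_one, map_add, map_mul, aeval_iot, MvPolynomial.aeval_X, Matrix.cons_val_zero,
      Matrix.cons_val_one, ha0, hb0, zero_mul, mul_zero, add_zero, zero_add] at this
    rw [hw, mul_zero] at this
    exact one_ne_zero this
  by_cases hb' : Polynomial.aeval θ (derivative b) = 0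
  · exact key2 0 (by rw [hb', mul_zero, add_zero])
  · refine key1 (-(Polynomial.aeval θ (derivative a)) / Polynomial.aeval θ (derivative b)) ?_
    field_simp
    ring

end charts2

section charts3
open MvPolynomial
variable {k : Type u} [Field k]

local notation "P" => MvPolynomial (Fin 2) k

theorem smooth_iff_jacobian (F : P) (hF : F ≠ 0) :
    Algebra.Smooth k (P ⧸ Ideal.span ({F} : Set P)) ↔
      Ideal.span ({F, pderiv 0 F, pderiv 1 F} : Set P) = ⊤ := by
  rw [← formallySmooth_iff_jacobian F hF]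
  constructor
  · intro h
    exact h.formallySmooth
  · intro h
    have : Algebra.FinitePresentation k (P ⧸ Ideal.span ({F} : Set P)) :=
      Algebra.FinitePresentation.quotient ⟨{F}, by simp⟩
    exact ⟨h, this⟩

open Polynomial in
theorem pderivs_G1 (a b : Polynomial k) :
    pderiv 0 (iot a + iot b * X 1 : P) = iot (derivative a) + iot (derivative b) * X 1 ∧
    pderiv 1 (iot a + iot b * X 1 : P) = iot b := by
  constructor
  · rw [map_add, Derivation.leibniz, pderiv_zero_iot, pderiv_zero_iot,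
      pderiv_X_of_ne (by decide)]
    simp [mul_comm]
  · rw [map_add, Derivation.leibniz, pderiv_one_iot, pderiv_one_iot, pderiv_X_self]
    simp

open Polynomial in
theorem pderivs_G2 (a b : Polynomial k) :
    pderiv 0 (iot a * X 1 + iot b : P) = iot (derivative a) * X 1 + iot (derivative b) ∧
    pderiv 1 (iot a * X 1 + iot b : P) = iot a := by
  constructor
  · rw [map_add, Derivation.leibniz, pderiv_zero_iot, pderiv_zero_iot,
      pderiv_X_of_ne (by decide)]
    simp [mul_comm]
  · rw [map_add, Derivation.leibniz, pderiv_one_iot, pderiv_one_iot, pderiv_X_self]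
    simp

theorem G1_ne_zero (a b : Polynomial k) (hab : ¬(a = 0 ∧ b = 0)) :
    (iot a + iot b * X 1 : P) ≠ 0 := by
  intro h
  apply hab
  have h0 := congrArg (MvPolynomial.aeval (![Polynomial.X, 0] : Fin 2 → Polynomial k)) h
  have h1 := congrArg (MvPolynomial.aeval (![Polynomial.X, 1] : Fin 2 → Polynomial k)) h
  simp only [map_add, map_mul, aeval_iot, MvPolynomial.aeval_X, Matrix.cons_val_zero,
    Matrix.cons_val_one, Polynomial.aeval_X_left_apply, mul_zero, add_zero, map_zero,
    mul_one] at h0 h1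
  refine ⟨h0, ?_⟩
  rw [h0, zero_add] at h1
  exact h1

theorem G2_ne_zero (a b : Polynomial k) (hab : ¬(a = 0 ∧ b = 0)) :
    (iot a * X 1 + iot b : P) ≠ 0 := by
  intro h
  apply hab
  have h0 := congrArg (MvPolynomial.aeval (![Polynomial.X, 0] : Fin 2 → Polynomial k)) h
  have h1 := congrArg (MvPolynomial.aeval (![Polynomial.X, 1] : Fin 2 → Polynomial k)) h
  simp only [map_add, map_mul, aeval_iot, MvPolynomial.aeval_X, Matrix.cons_val_zero,
    Matrix.cons_val_one, Polynomial.aeval_X_left_apply, mul_zero, zero_add, map_zero,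
    mul_one] at h0 h1
  refine ⟨?_, h0⟩
  rw [h0, add_zero] at h1
  exact h1

theorem charts_smooth_iff (a b : Polynomial k) (hab : ¬(a = 0 ∧ b = 0)) :
    (Algebra.Smooth k (P ⧸ Ideal.span ({iot a + iot b * X 1} : Set P)) ∧
      Algebra.Smooth k (P ⧸ Ideal.span ({iot a * X 1 + iot b} : Set P))) ↔ IsCoprime a b := by
  rw [smooth_iff_jacobian _ (G1_ne_zero a b hab), smooth_iff_jacobian _ (G2_ne_zero a b hab),
    (pderivs_G1 a b).1, (pderivs_G1 a b).2, (pderivs_G2 a b).1, (pderivs_G2 a b).2]
  constructor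
  · rintro ⟨h1, h2⟩
    exact isCoprime_of_jac a b hab h1 h2
  · intro h
    constructor
    · apply jac_top_of_isCoprime a b h
      · have e : (iot a + iot b * X 1) - X 1 * iot b = (iot a : P) := by ring
        have h1 := Ideal.sub_mem _ (Ideal.subset_span (s := ({iot a + iot b * X 1,
          iot (Polynomial.derivative a) + iot (Polynomial.derivative b) * X 1, iot b} : Set P))
            (a := iot a + iot b * X 1) (by simp))
          (Ideal.mul_mem_left _ (X 1) (Ideal.subset_span (s := ({iot a + iot b * X 1,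
          iot (Polynomial.derivative a) + iot (Polynomial.derivative b) * X 1, iot b} : Set P))
            (a := iot b) (by simp)))
        rwa [e] at h1
      · exact Ideal.subset_span (by simp)
    · apply jac_top_of_isCoprime a b h
      · exact Ideal.subset_span (by simp)
      · have e : (iot a * X 1 + iot b) - X 1 * iot a = (iot b : P) := by ring
        have h1 := Ideal.sub_mem _ (Ideal.subset_span (s := ({iot a * X 1 + iot b,
          iot (Polynomial.derivative a) * X 1 + iot (Polynomial.derivative b), iot a} : Set P))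
            (a := iot a * X 1 + iot b) (by simp))
          (Ideal.mul_mem_left _ (X 1) (Ideal.subset_span (s := ({iot a * X 1 + iot b,
          iot (Polynomial.derivative a) * X 1 + iot (Polynomial.derivative b), iot a} : Set P))
            (a := iot a) (by simp)))
        rwa [e] at h1

end charts3

section coeffvec
variable {k : Type u} [Field k]
open Polynomial

/-- The polynomial with coefficient vector `c`. -/
noncomputable def pol (N : ℕ) (c : Fin (N + 1) → k) : k[X] := ∑ j : Fin (N + 1), C (c j) * X ^ (j : ℕ)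

theorem coeff_pol (N : ℕ) (c : Fin (N + 1) → k) (j : Fin (N + 1)) : (pol N c).coeff j = c j := by
  unfold pol
  rw [Polynomial.finsetSum_coeff, Finset.sum_eq_single j]
  · simp
  · intro i _ hij
    rw [coeff_C_mul, coeff_X_pow, if_neg, mul_zero]
    exact fun h => hij (Fin.ext h.symm)
  · intro h; exact absurd (Finset.mem_univ j) h

theorem natDegree_pol_le (N : ℕ) (c : Fin (N + 1) → k) : (pol N c).natDegree ≤ N := by
  unfold pol
  apply Polynomial.natDegree_sum_le_of_forall_le
  intro j _
  exact (natDegree_C_mul_X_pow_le _ _).trans (Nat.lt_succ_iff.mp j.2)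

theorem pol_eq_zero (N : ℕ) (c : Fin (N + 1) → k) (h : pol N c = 0) : c = 0 := by
  funext j
  rw [← coeff_pol N c j, h, coeff_zero, Pi.zero_apply]

theorem rev_eq_pol (N : ℕ) (c : Fin (N + 1) → k) :
    (∑ j : Fin (N + 1), C (c j) * X ^ (N - (j : ℕ)) : k[X]) = pol N (c ∘ Fin.rev) := by
  unfold pol
  rw [← Equiv.sum_comp Fin.revPerm]
  refine Finset.sum_congr rfl fun j _ => ?_
  simp only [Fin.revPerm_apply, Function.comp_apply, Fin.val_rev]
  congr 2
  have := j.2
  omega

theorem natDegree_pol_eq (N : ℕ) (c : Fin (N + 1) → k) (h : c (Fin.last N) ≠ 0) :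
    (pol N c).natDegree = N := by
  apply natDegree_eq_of_le_of_coeff_ne_zero (natDegree_pol_le N c)
  have := coeff_pol N c (Fin.last N)
  rw [Fin.val_last] at this
  rw [this]; exact h

theorem natDegree_pol_lt (N : ℕ) (hN : 0 < N) (c : Fin (N + 1) → k) (h : c (Fin.last N) = 0) :
    (pol N c).natDegree < N := by
  refine lt_of_le_of_ne (natDegree_pol_le N c) fun hN' => ?_
  have h1 := coeff_pol N c (Fin.last N)
  rw [Fin.val_last, h] at h1
  have h2 : (pol N c).coeff (pol N c).natDegree = 0 := by rw [hN']; exact h1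
  rw [coeff_natDegree, leadingCoeff_eq_zero] at h2
  rw [h2, natDegree_zero] at hN'
  omega

theorem aeval_inv_pol {K : Type*} [Field K] [Algebra k K] (N : ℕ) (c : Fin (N + 1) → k) (θ : K)
    (hθ : θ ≠ 0) :
    θ ^ N * Polynomial.aeval θ⁻¹ (pol N c) = Polynomial.aeval θ (pol N (c ∘ Fin.rev)) := by
  rw [← rev_eq_pol]
  unfold pol
  simp only [map_sum, map_mul, map_pow, aeval_C, aeval_X, Finset.mul_sum]
  refine Finset.sum_congr rfl fun j _ => ?_
  have hj : (j : ℕ) ≤ N := Nat.lt_succ_iff.mp j.2
  rw [pow_sub₀ θ hθ hj, inv_pow]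
  ring

end coeffvec

section res
variable {k : Type u} [Field k]
open Polynomial

theorem isCoprime_of_resultant_ne_zero (M N : ℕ) (hM : M ≠ 0) (c : Fin (M + 1) → k)
    (d : Fin (N + 1) → k)
    (hres : resultant (pol M c) (pol N d) M N ≠ 0) : IsCoprime (pol M c) (pol N d) := by
  obtain ⟨p, q, -, -, e⟩ := exists_mul_add_mul_eq_C_resultant (pol M c) (pol N d)
    (natDegree_pol_le M c) (natDegree_pol_le N d) (Or.inl hM)
  refine ⟨C (resultant (pol M c) (pol N d) M N)⁻¹ * p, C (resultant (pol M c) (pol N d) M N)⁻¹ * q, ?_⟩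
  have : C (resultant (pol M c) (pol N d) M N)⁻¹ * p * pol M c +
      C (resultant (pol M c) (pol N d) M N)⁻¹ * q * pol N d =
      C (resultant (pol M c) (pol N d) M N)⁻¹ * (pol M c * p + pol N d * q) := by ring
  rw [this, e, ← C_mul, inv_mul_cancel₀ hres, C_1]

theorem isCoprime_rev_of_resultant_ne_zero (M N : ℕ) (hM : 0 < M) (hN : 0 < N)
    (c : Fin (M + 1) → k) (d : Fin (N + 1) → k) (hcd : c ≠ 0 ∨ d ≠ 0)
    (hres : resultant (pol M c) (pol N d) M N ≠ 0) :
    IsCoprime (pol M (c ∘ Fin.rev)) (pol N (d ∘ Fin.rev)) := by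
  have hnz : ¬(pol M (c ∘ Fin.rev) = 0 ∧ pol N (d ∘ Fin.rev) = 0) := by
    rintro ⟨h1, h2⟩
    have e1 := pol_eq_zero M _ h1
    have e2 := pol_eq_zero N _ h2
    rcases hcd with h | h
    · apply h
      funext j
      have := congrFun e1 (Fin.rev j)
      simpa using this
    · apply h
      funext j
      have := congrFun e2 (Fin.rev j)
      simpa using this
  apply isCoprime_of_irreducible_dvd hnz
  intro π hπ ha hb
  have := Fact.mk hπ
  set θ : AdjoinRoot π := AdjoinRoot.root π with hθ
  have ha0 : Polynomial.aeval θ (pol M (c ∘ Fin.rev)) = 0 := by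
    rw [AdjoinRoot.aeval_eq, AdjoinRoot.mk_eq_zero]; exact ha
  have hb0 : Polynomial.aeval θ (pol N (d ∘ Fin.rev)) = 0 := by
    rw [AdjoinRoot.aeval_eq, AdjoinRoot.mk_eq_zero]; exact hb
  by_cases hθ0 : θ = 0
  · -- both top coefficients vanish
    rw [hθ0] at ha0 hb0
    have hc : c (Fin.last M) = 0 := by
      have h1 : (pol M (c ∘ Fin.rev)).coeff 0 = 0 := by
        rw [← Polynomial.coeff_zero_eq_aeval_zero'] at ha0
        exact (map_eq_zero_iff _ (algebraMap k (AdjoinRoot π)).injective).mp ha0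
      have h2 := coeff_pol M (c ∘ Fin.rev) 0
      rw [Fin.val_zero, h1] at h2
      simpa using h2.symm
    have hd : d (Fin.last N) = 0 := by
      have h1 : (pol N (d ∘ Fin.rev)).coeff 0 = 0 := by
        rw [← Polynomial.coeff_zero_eq_aeval_zero'] at hb0
        exact (map_eq_zero_iff _ (algebraMap k (AdjoinRoot π)).injective).mp hb0
      have h2 := coeff_pol N (d ∘ Fin.rev) 0
      rw [Fin.val_zero, h1] at h2
      simpa using h2.symm
    exact hres (resultant_eq_zero_of_lt_lt _ _ _ _ (natDegree_pol_lt M hM c hc)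
      (natDegree_pol_lt N hN d hd))
  · obtain ⟨p, q, -, -, e⟩ := exists_mul_add_mul_eq_C_resultant (pol M c) (pol N d)
      (natDegree_pol_le M c) (natDegree_pol_le N d) (Or.inl hM.ne')
    have h1 := aeval_inv_pol M c θ hθ0
    have h2 := aeval_inv_pol N d θ hθ0
    rw [ha0] at h1
    rw [hb0] at h2
    have h1' : Polynomial.aeval θ⁻¹ (pol M c) = 0 := by
      rcases mul_eq_zero.mp h1 with h | h
      · exact absurd (pow_eq_zero_iff hM.ne' |>.mp h) hθ0
      · exact h
    have h2' : Polynomial.aeval θ⁻¹ (pol N d) = 0 := by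
      rcases mul_eq_zero.mp h2 with h | h
      · exact absurd (pow_eq_zero_iff hN.ne' |>.mp h) hθ0
      · exact h
    have h3 := congrArg (Polynomial.aeval θ⁻¹) e
    rw [map_add, map_mul, map_mul, h1', h2', zero_mul, zero_mul, add_zero, aeval_C] at h3
    exact hres ((map_eq_zero_iff _ (algebraMap k (AdjoinRoot π)).injective).mp h3.symm)

theorem resultant_ne_zero_of_isCoprime (M N : ℕ) (c : Fin (M + 1) → k) (d : Fin (N + 1) → k)
    (h1 : IsCoprime (pol M c) (pol N d))
    (h2 : IsCoprime (pol M (c ∘ Fin.rev)) (pol N (d ∘ Fin.rev))) :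
    resultant (pol M c) (pol N d) M N ≠ 0 := by
  have hres := resultant_ne_zero (pol M c) (pol N d) h1
  have htop : ¬(c (Fin.last M) = 0 ∧ d (Fin.last N) = 0) := by
    rintro ⟨hc, hd⟩
    have hX1 : (X : k[X]) ∣ pol M (c ∘ Fin.rev) := by
      rw [Polynomial.X_dvd_iff]
      have := coeff_pol M (c ∘ Fin.rev) 0
      rw [Fin.val_zero] at this
      rw [this]; simpa using hc
    have hX2 : (X : k[X]) ∣ pol N (d ∘ Fin.rev) := by
      rw [Polynomial.X_dvd_iff]
      have := coeff_pol N (d ∘ Fin.rev) 0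
      rw [Fin.val_zero] at this
      rw [this]; simpa using hd
    exact Polynomial.not_isUnit_X (h2.isUnit_of_dvd' hX1 hX2)
  by_cases hc : c (Fin.last M) = 0
  · have hd : d (Fin.last N) ≠ 0 := fun hd => htop ⟨hc, hd⟩
    have hdeg : (pol N d).natDegree = N := natDegree_pol_eq N d hd
    obtain ⟨t, ht⟩ := Nat.exists_eq_add_of_le (natDegree_pol_le M c)
    have key := resultant_add_left_deg (pol M c) (pol N d) (pol M c).natDegree N t le_rfl
    rw [← ht] at key
    rw [key]
    have hcoef : (pol N d).coeff N ≠ 0 := by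
      have := coeff_pol N d (Fin.last N)
      rw [Fin.val_last] at this
      rw [this]; exact hd
    refine mul_ne_zero (mul_ne_zero (pow_ne_zero _ (by simp)) (pow_ne_zero _ hcoef)) ?_
    have : resultant (pol M c) (pol N d) (pol M c).natDegree N = resultant (pol M c) (pol N d) := by
      show _ = resultant (pol M c) (pol N d) (pol M c).natDegree (pol N d).natDegree
      rw [hdeg]
    rw [this]
    exact hres
  · have hdeg : (pol M c).natDegree = M := natDegree_pol_eq M c hc
    obtain ⟨t, ht⟩ := Nat.exists_eq_add_of_le (natDegree_pol_le N d)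
    have key := resultant_add_right_deg (pol M c) (pol N d) M (pol N d).natDegree t le_rfl
    rw [← ht] at key
    rw [key]
    have hcoef : (pol M c).coeff M ≠ 0 := by
      have := coeff_pol M c (Fin.last M)
      rw [Fin.val_last] at this
      rw [this]; exact hc
    refine mul_ne_zero (pow_ne_zero _ hcoef) ?_
    have : resultant (pol M c) (pol N d) M (pol N d).natDegree = resultant (pol M c) (pol N d) := by
      show _ = resultant (pol M c) (pol N d) (pol M c).natDegree (pol N d).natDegree
      rw [hdeg]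
    rw [this]
    exact hres

end res

section final
variable {k : Type u} [Field k]

theorem iot_pol (N : ℕ) (c : Fin (N + 1) → k) :
    iot (pol N c) = ∑ j : Fin (N + 1), MvPolynomial.C (c j) * MvPolynomial.X 0 ^ (j : ℕ) := by
  unfold pol iot
  simp only [map_sum, map_mul, map_pow, Polynomial.aeval_C, Polynomial.aeval_X,
    MvPolynomial.algebraMap_eq]

theorem iot_pol_rev (N : ℕ) (c : Fin (N + 1) → k) :
    iot (pol N (c ∘ Fin.rev)) =
      ∑ j : Fin (N + 1), MvPolynomial.C (c j) * MvPolynomial.X 0 ^ (N - (j : ℕ)) := by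
  rw [← rev_eq_pol]
  unfold iot
  simp only [map_sum, map_mul, map_pow, Polynomial.aeval_C, Polynomial.aeval_X,
    MvPolynomial.algebraMap_eq]

theorem rev_ne_zero {N : ℕ} (c : Fin (N + 1) → k) (h : c ∘ Fin.rev = 0) : c = 0 := by
  funext j
  have := congrFun h (Fin.rev j)
  simpa using this

end final


/-- Let k be a field, n ≥ 3, q a binary quadratic form and ξ a binary form of degree n over k, given by
coefficient vectors (q_i the coefficient of x^i y^(2−i), ξ_j that of x^j y^(n−j)), not both zero.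
The pair (q, ξ) is a global section of O(2) ⊕ O(n) on P¹_k, i.e. of the line bundle of class e + nf
on the Hirzebruch surface F_{n−2} = P(O ⊕ O(n−2)) → P¹_k, and cuts out the curve W : q·u + ξ·v = 0
there ([u : v] the fibre coordinates). Over the two standard opens of P¹ (t = x/y, s = y/x) and the
two opens u ≠ 0, v ≠ 0 of the fibres, W is covered by four affine charts with coordinate rings k[t,
w]/(q(t,1) + ξ(t,1)·w), k[t, w]/(q(t,1)·w + ξ(t,1)), k[s, w]/(q(1,s) + ξ(1,s)·w) and k[s,
w]/(q(1,s)·w + ξ(1,s)) (variables indexed 0 for t or s and 1 for w). Then W is smooth over k — all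
four chart algebras are smooth k-algebras — if and only if the resultant of q and ξ (the Sylvester
determinant of the two coefficient vectors with size parameters 2 and n) is nonzero. (The published
statement is over a general base scheme B, for a section (q, ξ) vanishing on no fibre, with 'the
resultant is a unit on B' in place of 'nonzero'; its proof reduces at once to the statement over a
field given here, which is the case B = Spec k.) -/
theorem result (k : Type u) [Field k] (n : ℕ) (hn : 3 ≤ n)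
    (q : Fin 3 → k) (ξ : Fin (n + 1) → k) (hqξ : q ≠ 0 ∨ ξ ≠ 0) :
    (Algebra.Smooth k (MvPolynomial (Fin 2) k ⧸ Ideal.span ({(∑ i : Fin 3, MvPolynomial.C (q i) * MvPolynomial.X 0 ^ (i : ℕ)) + (∑ j : Fin (n + 1), MvPolynomial.C (ξ j) * MvPolynomial.X 0 ^ (j : ℕ)) * MvPolynomial.X 1} : Set (MvPolynomial (Fin 2) k))) ∧
      Algebra.Smooth k (MvPolynomial (Fin 2) k ⧸ Ideal.span ({(∑ i : Fin 3, MvPolynomial.C (q i) * MvPolynomial.X 0 ^ (i : ℕ)) * MvPolynomial.X 1 + (∑ j : Fin (n + 1), MvPolynomial.C (ξ j) * MvPolynomial.X 0 ^ (j : ℕ))} : Set (MvPolynomial (Fin 2) k))) ∧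
      Algebra.Smooth k (MvPolynomial (Fin 2) k ⧸ Ideal.span ({(∑ i : Fin 3, MvPolynomial.C (q i) * MvPolynomial.X 0 ^ (2 - (i : ℕ))) + (∑ j : Fin (n + 1), MvPolynomial.C (ξ j) * MvPolynomial.X 0 ^ (n - (j : ℕ))) * MvPolynomial.X 1} : Set (MvPolynomial (Fin 2) k))) ∧
      Algebra.Smooth k (MvPolynomial (Fin 2) k ⧸ Ideal.span ({(∑ i : Fin 3, MvPolynomial.C (q i) * MvPolynomial.X 0 ^ (2 - (i : ℕ))) * MvPolynomial.X 1 + (∑ j : Fin (n + 1), MvPolynomial.C (ξ j) * MvPolynomial.X 0 ^ (n - (j : ℕ)))} : Set (MvPolynomial (Fin 2) k)))) ↔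
    Polynomial.resultant (∑ i : Fin 3, Polynomial.C (q i) * Polynomial.X ^ (i : ℕ))
      (∑ j : Fin (n + 1), Polynomial.C (ξ j) * Polynomial.X ^ (j : ℕ)) 2 n ≠ 0 := by
  have hab : ¬(pol 2 q = 0 ∧ pol n ξ = 0) := by
    rintro ⟨h1, h2⟩
    rcases hqξ with h | h
    · exact h (pol_eq_zero 2 q h1)
    · exact h (pol_eq_zero n ξ h2)
  have hab' : ¬(pol 2 (q ∘ Fin.rev) = 0 ∧ pol n (ξ ∘ Fin.rev) = 0) := by
    rintro ⟨h1, h2⟩
    rcases hqξ with h | h
    · exact h (rev_ne_zero q (pol_eq_zero 2 _ h1))
    · exact h (rev_ne_zero ξ (pol_eq_zero n _ h2))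
  have e1 : (∑ i : Fin 3, MvPolynomial.C (q i) * MvPolynomial.X 0 ^ (i : ℕ) :
      MvPolynomial (Fin 2) k) = iot (pol 2 q) := (iot_pol 2 q).symm
  have e2 : (∑ j : Fin (n + 1), MvPolynomial.C (ξ j) * MvPolynomial.X 0 ^ (j : ℕ) :
      MvPolynomial (Fin 2) k) = iot (pol n ξ) := (iot_pol n ξ).symm
  have e3 : (∑ i : Fin 3, MvPolynomial.C (q i) * MvPolynomial.X 0 ^ (2 - (i : ℕ)) :
      MvPolynomial (Fin 2) k) = iot (pol 2 (q ∘ Fin.rev)) := (iot_pol_rev 2 q).symm
  have e4 : (∑ j : Fin (n + 1), MvPolynomial.C (ξ j) * MvPolynomial.X 0 ^ (n - (j : ℕ)) :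
      MvPolynomial (Fin 2) k) = iot (pol n (ξ ∘ Fin.rev)) := (iot_pol_rev n ξ).symm
  rw [e1, e2, e3, e4]
  have e5 : Polynomial.resultant (∑ i : Fin 3, Polynomial.C (q i) * Polynomial.X ^ (i : ℕ))
      (∑ j : Fin (n + 1), Polynomial.C (ξ j) * Polynomial.X ^ (j : ℕ)) 2 n =
      Polynomial.resultant (pol 2 q) (pol n ξ) 2 n := rfl
  rw [e5]
  constructor
  · rintro ⟨s1, s2, s3, s4⟩
    exact resultant_ne_zero_of_isCoprime 2 n q ξ ((charts_smooth_iff _ _ hab).mp ⟨s1, s2⟩)
      ((charts_smooth_iff _ _ hab').mp ⟨s3, s4⟩)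
  · intro hres
    have c1 := isCoprime_of_resultant_ne_zero 2 n (by norm_num) q ξ hres
    have c2 := isCoprime_rev_of_resultant_ne_zero 2 n (by norm_num) (by omega) q ξ hqξ hres
    exact ⟨((charts_smooth_iff _ _ hab).mpr c1).1, ((charts_smooth_iff _ _ hab).mpr c1).2,
      ((charts_smooth_iff _ _ hab').mpr c2).1, ((charts_smooth_iff _ _ hab').mpr c2).2⟩

end Groth.Agent.S19185
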