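import Groth.Statements.S19186
import Mathlib
-- import your own Groth.Agent.* helpers here

set_option autoImplicit false
universe u
open OneMot

namespace Groth.Agent.S19186

/-- Let p and ℓ be distinct prime numbers, r and n natural numbers, and f : A → B a homomorphism of
abelian groups whose kernel and cokernel are annihilated by p^r (f a = 0 implies p^r • a = 0, and
every p^r • b lies in the image of f). Then f induces a bijection between the ℓ^n-torsion subgroups
of A and B and a bijection A/ℓ^n A → B/ℓ^n B. Spelled out without quotients: every ℓ^n-torsion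
element of B has exactly one ℓ^n-torsion preimage; an element of A whose image is an ℓ^n-multiple is
itself an ℓ^n-multiple; and every element of B is the sum of an image and an ℓ^n-multiple. -/
theorem result {A B : Type u} [AddCommGroup A] [AddCommGroup B] (f : A →+ B) (p ℓ r n : ℕ) (hp : p.Prime) (hl : ℓ.Prime) (hne : ℓ ≠ p) (hker : ∀ a : A, f a = 0 → p ^ r • a = 0) (hcoker : ∀ b : B, ∃ a : A, f a = p ^ r • b) : (∀ b : B, ℓ ^ n • b = 0 → ∃! a : A, ℓ ^ n • a = 0 ∧ f a = b) ∧ (∀ a : A, (∃ b' : B, f a = ℓ ^ n • b') → ∃ a' : A, a = ℓ ^ n • a') ∧ (∀ b : B, ∃ (a : A) (b' : B), b = f a + ℓ ^ n • b') := by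
  have hcop : Nat.Coprime (p ^ r) (ℓ ^ n) :=
    Nat.Coprime.pow _ _ ((Nat.coprime_primes hp hl).2 (Ne.symm hne))
  have hcop2 : Nat.Coprime (p ^ (2 * r)) (ℓ ^ n) :=
    Nat.Coprime.pow _ _ ((Nat.coprime_primes hp hl).2 (Ne.symm hne))
  obtain ⟨u, v, huv⟩ : ∃ u v : ℤ, u * (p ^ r : ℕ) + v * (ℓ ^ n : ℕ) = 1 := by
    have := (Nat.isCoprime_iff_coprime.2 hcop)
    obtain ⟨u, v, h⟩ := this
    exact ⟨u, v, by exact_mod_cast h⟩
  obtain ⟨u', v', huv'⟩ : ∃ u v : ℤ, u * (p ^ (2 * r) : ℕ) + v * (ℓ ^ n : ℕ) = 1 := by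
    have := (Nat.isCoprime_iff_coprime.2 hcop2)
    obtain ⟨u, v, h⟩ := this
    exact ⟨u, v, by exact_mod_cast h⟩
  -- cast helper
  have hkerZ : ∀ a : A, f a = 0 → ((p ^ r : ℕ) : ℤ) • a = 0 := by
    intro a ha; rw [natCast_zsmul]; exact hker a ha
  have hcokerZ : ∀ b : B, ∃ a : A, f a = ((p ^ r : ℕ) : ℤ) • b := by
    intro b; obtain ⟨a, ha⟩ := hcoker b; exact ⟨a, by rw [natCast_zsmul]; exact ha⟩
  set P : ℤ := ((p ^ r : ℕ) : ℤ) with hP
  set L : ℤ := ((ℓ ^ n : ℕ) : ℤ) with hL
  have hLsmulA : ∀ a : A, ℓ ^ n • a = L • a := fun a => (natCast_zsmul a _).symm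
  have hLsmulB : ∀ b : B, ℓ ^ n • b = L • b := fun b => (natCast_zsmul b _).symm
  have hP2 : ((p ^ (2 * r) : ℕ) : ℤ) = P * P := by
    rw [hP]; push_cast; ring
  rw [hP2] at huv'
  simp only [hLsmulA, hLsmulB]
  refine ⟨?_, ?_, ?_⟩
  · intro b hb
    obtain ⟨a₀, ha₀⟩ := hcokerZ b
    have hb1 : (u * P) • b = b := by
      have : (u * P + v * L) • b = b := by rw [huv, one_smul]
      rw [add_smul, mul_smul v L b, hb, smul_zero, add_zero] at this
      exact this
    have hfa : f ((u * P * u) • a₀) = b := by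
      rw [map_zsmul, ha₀, smul_smul]
      have : u * P * u * P = (u * P) * (u * P) := by ring
      rw [this, mul_smul, hb1, hb1]
    have hk : P • (L • a₀) = 0 := by
      apply hkerZ
      rw [map_zsmul, ha₀, smul_comm, hb, smul_zero]
    refine ⟨(u * P * u) • a₀, ⟨?_, hfa⟩, ?_⟩
    · rw [smul_smul]
      have : L * (u * P * u) = (u * u) * (P * L) := by ring
      rw [this, mul_smul, mul_smul P L, hk, smul_zero]
    · rintro a' ⟨ha'1, ha'2⟩
      have hd : f (a' - (u * P * u) • a₀) = 0 := by rw [map_sub, ha'2, hfa, sub_self]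
      have hd1 := hkerZ _ hd
      have hd2 : L • (a' - (u * P * u) • a₀) = 0 := by
        rw [smul_sub, ha'1, smul_smul]
        have : L * (u * P * u) = (u * u) * (P * L) := by ring
        rw [this, mul_smul, mul_smul P L, hk, smul_zero, sub_zero]
      have : (u * P + v * L) • (a' - (u * P * u) • a₀) = 0 := by
        rw [add_smul, mul_smul u P, mul_smul v L, hd1, hd2, smul_zero, smul_zero, add_zero]
      rw [huv, one_smul] at this
      exact sub_eq_zero.mp this
  · rintro a ⟨b', hb'⟩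
    obtain ⟨a₁, ha₁⟩ := hcokerZ b'
    have h0 : f (P • a - L • a₁) = 0 := by
      rw [map_sub, map_zsmul, map_zsmul, hb', ha₁, smul_comm, sub_self]
    have h1 := hkerZ _ h0
    rw [smul_sub, sub_eq_zero] at h1
    refine ⟨(u' * P) • a₁ + v' • a, ?_⟩
    have : (u' * (P * P) + v' * L) • a = a := by rw [huv', one_smul]
    rw [add_smul, mul_smul u' (P * P), mul_smul P P, h1] at this
    calc a = u' • P • L • a₁ + (v' * L) • a := this.symm
      _ = L • ((u' * P) • a₁ + v' • a) := by
        rw [smul_add, smul_smul, smul_smul, smul_smul, smul_smul]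
        congr 1
        · congr 1; ring
        · congr 1; ring
  · intro b
    obtain ⟨a₀, ha₀⟩ := hcokerZ b
    refine ⟨u • a₀, v • b, ?_⟩
    rw [map_zsmul, ha₀, smul_smul, smul_smul, ← add_smul]
    have : u * P + L * v = 1 := by rw [← huv]; ring
    rw [this, one_smul]

end Groth.Agent.S19186
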