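import Mathlib
import Groth.Statements.S19187
-- import your own Groth.Agent.* helpers here

set_option autoImplicit false
universe u
open Cpct

namespace Groth.Agent.S19187

open CategoryTheory AlgebraicGeometry in
/-- Let k be a field, X̄ and Ȳ schemes proper over Spec k, j : X → X̄ an open immersion with dense image
and v : Y → Ȳ an open immersion (compactifications of X and Y), f : X → Y a proper morphism and f̄ :
X̄ → Ȳ a morphism over Spec k with f̄ ∘ j = v ∘ f. Then the preimage under f̄ of the open v(Y) is
the open j(X); equivalently, the complement of X in X̄ is the preimage of the complement of Y in Ȳ.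
(The base field k is arbitrary: no perfectness assumption is needed.) -/
theorem result {k : Type u} [Field k] {X Y Xb Yb : Scheme.{u}} (a : Xb ⟶ Spec (CommRingCat.of k)) (b : Yb ⟶ Spec (CommRingCat.of k)) [IsProper a] [IsProper b] (j : X ⟶ Xb) [IsOpenImmersion j] (hj : Dense (Set.range j.base)) (v : Y ⟶ Yb) [IsOpenImmersion v] (f : X ⟶ Y) [IsProper f] (fb : Xb ⟶ Yb) (hfb : fb ≫ b = a) (hsq : j ≫ fb = f ≫ v) : fb ⁻¹ᵁ v.opensRange = j.opensRange := by
  have hsep : IsSeparated fb := by
    have : IsSeparated (fb ≫ b) := by rw [hfb]; infer_instance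
    exact IsSeparated.of_comp fb b
  have hle : j.opensRange ≤ fb ⁻¹ᵁ v.opensRange := by
    rintro _ ⟨x, rfl⟩
    show fb.base (j.base x) ∈ v.opensRange
    rw [← Scheme.Hom.comp_apply, hsq]
    exact ⟨f.base x, rfl⟩
  apply le_antisymm _ hle
  intro x hx
  set U := fb ⁻¹ᵁ v.opensRange with hU
  have hjU : Set.range j.base ⊆ Set.range U.ι.base := by
    rw [Scheme.Opens.range_ι]
    exact hle
  let g : X ⟶ U := IsOpenImmersion.lift U.ι j hjU
  have hg : g ≫ U.ι = j := IsOpenImmersion.lift_fac _ _ _
  have hUv : Set.range (U.ι ≫ fb).base ⊆ Set.range v.base := by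
    rintro _ ⟨y, rfl⟩
    exact y.2
  let h : (U : Scheme) ⟶ Y := IsOpenImmersion.lift v (U.ι ≫ fb) hUv
  have hh : h ≫ v = U.ι ≫ fb := IsOpenImmersion.lift_fac _ _ _
  have hgh : g ≫ h = f := by
    rw [← cancel_mono v, Category.assoc, hh, ← Category.assoc, hg, hsq]
  have : IsSeparated h := by
    have : IsSeparated (h ≫ v) := by rw [hh]; infer_instance
    exact IsSeparated.of_comp h v
  have : IsProper g := by
    have : IsProper (g ≫ h) := by rw [hgh]; infer_instance
    exact IsProper.of_comp g h
  have hclosed : IsClosed (Set.range g.base) := g.isClosedMap.isClosed_range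
  have hdense : Dense (Set.range g.base) := by
    rw [U.ι.isOpenEmbedding.isInducing.dense_iff]
    intro y
    rw [← Set.range_comp]
    have : (U.ι.base ∘ g.base) = j.base := by
      rw [← hg]; rfl
    rw [this]
    exact hj _
  have huniv : Set.range g.base = Set.univ := by
    rw [← hclosed.closure_eq]; exact hdense.closure_eq
  have hx' : (⟨x, hx⟩ : U) ∈ Set.range g.base := huniv ▸ Set.mem_univ _
  obtain ⟨y, hy⟩ := hx'
  refine ⟨y, ?_⟩
  rw [← hg, Scheme.Hom.comp_apply, hy]
  rfl

end Groth.Agent.S19187
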