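import Groth.Statements.S19190
import Mathlib.CategoryTheory.Localization.CalculusOfFractions
import Mathlib.CategoryTheory.Localization.Triangulated
import Mathlib.CategoryTheory.Triangulated.Orthogonal
-- import your own Groth.Agent.* helpers here

set_option autoImplicit false
universe w v u v' u'
open CategoryTheory CategoryTheory.Limits CategoryTheory.Pretriangulated CategoryTheory.Triangulated
open CohDer

namespace Groth.Agent.S19190

section Helpers

variable {A : Type w} [CommRing A] (S : Submonoid A)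
    {T : Type u} [Category.{v} T] [Preadditive T] [Linear A T] [HasZeroObject T] [HasShift T ℤ]
    [∀ n : ℤ, (shiftFunctor T n).Additive] [∀ n : ℤ, (shiftFunctor T n).Linear A]
    [Pretriangulated T]

omit [HasZeroObject T] [HasShift T ℤ] [∀ n : ℤ, (shiftFunctor T n).Additive]
  [∀ n : ℤ, (shiftFunctor T n).Linear A] [Pretriangulated T] in
lemma smul_id_comp {X Y : T} (s : A) (f : X ⟶ Y) : (s • 𝟙 X) ≫ f = s • f := by
  rw [Linear.smul_comp, Category.id_comp]

omit [HasZeroObject T] [HasShift T ℤ] [∀ n : ℤ, (shiftFunctor T n).Additive]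
  [∀ n : ℤ, (shiftFunctor T n).Linear A] [Pretriangulated T] in
lemma comp_smul_id {X Y : T} (s : A) (f : X ⟶ Y) : f ≫ (s • 𝟙 Y) = s • f := by
  rw [Linear.comp_smul, Category.comp_id]

/-- The objects killed by some element of `S`. -/
def tors : ObjectProperty T := fun Z => ∃ s : A, s ∈ S ∧ s • 𝟙 Z = 0

instance : (tors (T := T) S).IsStableUnderRetracts where
  of_retract {X Y} r hY := by
    obtain ⟨s, hs, h0⟩ := hY
    refine ⟨s, hs, ?_⟩
    calc s • 𝟙 X = r.i ≫ (s • 𝟙 Y) ≫ r.r := by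
          rw [smul_id_comp, Linear.comp_smul, r.retract]
      _ = 0 := by rw [h0, zero_comp, comp_zero]

open ZeroObject in
instance : (tors (T := T) S).ContainsZero where
  exists_zero := ⟨0, isZero_zero T, 1, S.one_mem, (isZero_zero T).eq_of_src _ _⟩

instance : (tors (T := T) S).IsStableUnderShift ℤ where
  isStableUnderShiftBy n := ⟨fun Z hZ => by
    obtain ⟨s, hs, h0⟩ := hZ
    refine ⟨s, hs, ?_⟩
    rw [← (shiftFunctor T n).map_id, ← Functor.map_smul, h0, Functor.map_zero]⟩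

instance : (tors (T := T) S).IsTriangulatedClosed₂ :=
  ObjectProperty.IsTriangulatedClosed₂.mk' (fun Tr hTr h₁ h₃ => by
    obtain ⟨s₁, hs₁, h1⟩ := h₁
    obtain ⟨s₃, hs₃, h3⟩ := h₃
    refine ⟨s₁ * s₃, S.mul_mem hs₁ hs₃, ?_⟩
    have e1 : (s₃ • 𝟙 Tr.obj₂) ≫ Tr.mor₂ = 0 := by
      rw [smul_id_comp, ← comp_smul_id, h3, comp_zero]
    obtain ⟨w, hw⟩ := Triangle.coyoneda_exact₂ _ hTr _ e1
    rw [mul_smul, hw, ← Linear.comp_smul, ← smul_id_comp s₁ Tr.mor₁, h1, zero_comp, comp_zero])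

instance : (tors (T := T) S).IsTriangulated where

/-- The cone of `f • 𝟙 X` is killed by `f ^ 2`. -/
lemma tors_cone (X : T) (f : A) (hf : f ∈ S) (Z : T) (g : X ⟶ Z) (h : Z ⟶ X⟦(1 : ℤ)⟧)
    (hT : Triangle.mk (f • 𝟙 X) g h ∈ distTriang T) : tors S Z := by
  refine ⟨f * f, S.mul_mem hf hf, ?_⟩
  have h31 : h ≫ (f • 𝟙 X)⟦(1 : ℤ)⟧' = 0 := comp_distTriang_mor_zero₃₁ _ hT
  have h12 : (f • 𝟙 X) ≫ g = 0 := comp_distTriang_mor_zero₁₂ _ hT
  have e1 : (f • 𝟙 Z) ≫ h = 0 := by
    rw [smul_id_comp, ← comp_smul_id]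
    rw [Functor.map_smul, (shiftFunctor T (1 : ℤ)).map_id] at h31
    exact h31
  obtain ⟨w, hw⟩ := Triangle.coyoneda_exact₃ _ hT _ e1
  change Z ⟶ X at w
  change f • 𝟙 Z = w ≫ g at hw
  rw [mul_smul, hw, ← Linear.comp_smul, ← smul_id_comp f g, h12, comp_zero]

end Helpers

/-- Let `A` be a commutative ring, `S` a multiplicative subset of `A` and `T` an `A`-linear triangulated
category (octahedron axiom included; the shift functors are `A`-linear). Call an object of `T`
`S`-torsion when it lies in the smallest thick subcategory `U` of `T` (a property of objects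
containing zero, stable under shifts, extensions, isomorphisms and direct factors) containing every
cone of an endomorphism `f • 𝟙 X` with `f ∈ S`. Let `Q : T ⥤ E` exhibit `E` as the localization of
`T` at the morphisms whose cone lies in `U` (the Verdier quotient `T/U`), where `E` is preadditive
and `A`-linear and `Q` is `A`-linear. Then for all objects `X`, `Y` of `T` the `A`-linear map
`Hom_T(X, Y) → Hom_E(Q X, Q Y)` given by `Q` exhibits its target as the localization of `Hom_T(X,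
Y)` at `S`. Since `Q` is essentially surjective, this says that the comparison functor from `T/U` to
the category having the objects of `T` and morphism modules `Hom_T(X, Y) ⊗_A S⁻¹A` is an
equivalence. -/
theorem result
    {A : Type w} [CommRing A] (S : Submonoid A)
    {T : Type u} [Category.{v} T] [Preadditive T] [Linear A T] [HasZeroObject T] [HasShift T ℤ]
    [∀ n : ℤ, (shiftFunctor T n).Additive] [∀ n : ℤ, (shiftFunctor T n).Linear A]
    [Pretriangulated T] [IsTriangulated T]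
    (U : ObjectProperty T) [U.IsTriangulated] [U.IsClosedUnderIsomorphisms] [U.IsStableUnderRetracts]
    (hU : ∀ (X : T) (f : A), f ∈ S → ∀ (Z : T) (g : X ⟶ Z) (h : Z ⟶ X⟦(1 : ℤ)⟧),
      Triangle.mk (f • 𝟙 X) g h ∈ distTriang T → U Z)
    (hmin : ∀ (U' : ObjectProperty T) [U'.IsTriangulated] [U'.IsClosedUnderIsomorphisms]
      [U'.IsStableUnderRetracts],
      (∀ (X : T) (f : A), f ∈ S → ∀ (Z : T) (g : X ⟶ Z) (h : Z ⟶ X⟦(1 : ℤ)⟧),
        Triangle.mk (f • 𝟙 X) g h ∈ distTriang T → U' Z) → U ≤ U')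
    {E : Type u'} [Category.{v'} E] [Preadditive E] [Linear A E]
    (Q : T ⥤ E) [Q.Additive] [Q.Linear A] [Q.IsLocalization U.trW] (X Y : T) :
    IsLocalizedModule S (Q.mapLinearMap A : (X ⟶ Y) →ₗ[A] (Q.obj X ⟶ Q.obj Y)) := by

  -- every object of `U` is killed by some element of `S`
  have hK : ∀ Z : T, U Z → ∃ s : A, s ∈ S ∧ s • 𝟙 Z = 0 := by
    have := hmin (tors S) (fun X f hf Z g h hT => tors_cone S X f hf Z g h hT)
    exact fun Z hZ => this Z hZ
  have hinv : ∀ (s : A), s ∈ S → ∀ Z : T, IsIso (Q.map (s • 𝟙 Z)) := by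
    intro s hs Z
    obtain ⟨C, g, h, hT⟩ := distinguished_cocone_triangle (s • 𝟙 Z)
    exact Localization.inverts Q U.trW _ ⟨C, g, h, hT, hU Z s hs C g h hT⟩
  refine ⟨?_, ?_, ?_⟩
  · -- elements of `S` act invertibly
    intro s
    have hiso := hinv s.1 s.2 Y
    have hσ : Q.map (s.1 • 𝟙 Y) = s.1 • 𝟙 (Q.obj Y) := by rw [Functor.map_smul, Q.map_id]
    generalize Q.map (s.1 • 𝟙 Y) = σ at hiso hσ
    rw [Module.End.isUnit_iff]
    constructor
    · intro φ φ' hφ
      simp only [Module.algebraMap_end_apply] at hφ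
      have h1 : φ ≫ σ = φ' ≫ σ := by
        rw [hσ, comp_smul_id, comp_smul_id]
        exact hφ
      exact (cancel_mono _).mp h1
    · intro ψ
      refine ⟨ψ ≫ inv σ, ?_⟩
      simp only [Module.algebraMap_end_apply]
      have h2 : (ψ ≫ inv σ) ≫ (s.1 • 𝟙 (Q.obj Y)) = ψ := by rw [← hσ]; simp
      rw [comp_smul_id] at h2
      exact h2
  · -- surjectivity up to denominators
    intro y
    obtain ⟨φ, hφ⟩ := Localization.exists_leftFraction Q U.trW y
    obtain ⟨Z, g, h, hT, hZ⟩ := φ.hs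
    obtain ⟨s, hs, h0⟩ := hK Z hZ
    have e1 : (s • 𝟙 φ.Y') ≫ g = 0 := by
      rw [smul_id_comp, ← comp_smul_id, h0, comp_zero]
    obtain ⟨r, hr⟩ := Triangle.coyoneda_exact₂ _ hT _ e1
    change φ.Y' ⟶ Y at r
    change s • 𝟙 φ.Y' = r ≫ φ.s at hr
    refine ⟨(φ.f ≫ r, ⟨s, hs⟩), ?_⟩
    have := Localization.inverts Q U.trW φ.s φ.hs
    change s • y = Q.map (φ.f ≫ r)
    have hQr : Q.map r = (s • 𝟙 (Q.obj φ.Y')) ≫ inv (Q.map φ.s) := by
      rw [← cancel_mono (Q.map φ.s), ← Functor.map_comp, ← hr, Category.assoc, IsIso.inv_hom_id,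
        Category.comp_id, Functor.map_smul, Q.map_id]
    rw [hφ, Functor.map_comp, hQr, smul_id_comp, Linear.comp_smul]
    rfl
  · -- kernel
    intro x₁ x₂ hx
    change Q.map x₁ = Q.map x₂ at hx
    obtain ⟨X', t, ht, heq⟩ := (MorphismProperty.map_eq_iff_precomp Q U.trW x₁ x₂).mp hx
    obtain ⟨Z, p, h, hT, hZ⟩ := ht
    obtain ⟨s, hs, h0⟩ := hK Z hZ
    have e1 : t ≫ (x₁ - x₂) = 0 := by rw [Preadditive.comp_sub, heq, sub_self]
    obtain ⟨w, hw⟩ := Triangle.yoneda_exact₂ _ hT _ e1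
    change Z ⟶ Y at w
    change x₁ - x₂ = p ≫ w at hw
    refine ⟨⟨s, hs⟩, ?_⟩
    change s • x₁ = s • x₂
    rw [← sub_eq_zero, ← smul_sub, hw, ← Linear.smul_comp, ← comp_smul_id s p, h0, comp_zero,
      zero_comp]
end Groth.Agent.S19190
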