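import Groth.Statements.S19191
import Mathlib.CategoryTheory.Localization.CalculusOfFractions
import Mathlib.CategoryTheory.Localization.Triangulated
-- import your own Groth.Agent.* helpers here

set_option autoImplicit false
universe w v u v' u'
open CategoryTheory CategoryTheory.Limits CategoryTheory.Pretriangulated CategoryTheory.Triangulated
open CohDer

namespace Groth.Agent.S19191

/-- Let `A` be a commutative ring, `T` an `A`-linear triangulated category (octahedron axiom included;
shift functors `A`-linear), `U` a thick subcategory of `T` (a property of objects containing zero,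
stable under shifts, extensions, isomorphisms and direct factors), and `Q : T ⥤ E` a localization of
`T` at the morphisms whose cone lies in `U` (the Verdier quotient `T/U`), where `E` is preadditive
and `A`-linear and `Q` is `A`-linear. For an object `X` of `T` the following two conditions are
equivalent: (i) `X` lies in `U`; (ii) for every maximal ideal `m` of `A` the image of `X` in the
category obtained from `T/U` by tensoring the morphism modules with `A_m` is zero, i.e. some element
of `A` outside `m` annihilates the identity of `Q X`. (The published statement also lists a third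
equivalent condition, phrased with idempotent completions of the localized categories; it is not
asserted here.) -/
theorem result
    {A : Type w} [CommRing A]
    {T : Type u} [Category.{v} T] [Preadditive T] [Linear A T] [HasZeroObject T] [HasShift T ℤ]
    [∀ n : ℤ, (shiftFunctor T n).Additive] [∀ n : ℤ, (shiftFunctor T n).Linear A]
    [Pretriangulated T] [IsTriangulated T]
    (U : ObjectProperty T) [U.IsTriangulated] [U.IsClosedUnderIsomorphisms] [U.IsStableUnderRetracts]
    {E : Type u'} [Category.{v'} E] [Preadditive E] [Linear A E]
    (Q : T ⥤ E) [Q.Additive] [Q.Linear A] [Q.IsLocalization U.trW] (X : T) :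
    U X ↔ ∀ m : Ideal A, m.IsMaximal → ∃ s : A, s ∉ m ∧ s • 𝟙 (Q.obj X) = 0 := by
  constructor
  · intro hX m hm
    refine ⟨1, fun h => hm.ne_top ((Ideal.eq_top_iff_one m).mpr h), ?_⟩
    have hW := ObjectProperty.trW.mk U (contractible_distinguished₁ X) hX
    have hiso := Localization.inverts Q U.trW _ hW
    have hz : IsZero (Q.obj X) :=
      IsZero.of_iso (Q.map_isZero (isZero_zero T)) (@asIso _ _ _ _ _ hiso).symm
    exact hz.eq_of_src _ _
  · intro h
    let I : Ideal A :=
      { carrier := {s | s • 𝟙 (Q.obj X) = 0}
        add_mem' := fun {a b} ha hb => by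
          change (a + b) • 𝟙 (Q.obj X) = 0
          rw [add_smul, show a • 𝟙 (Q.obj X) = 0 from ha, show b • 𝟙 (Q.obj X) = 0 from hb,
            add_zero]
        zero_mem' := by
          change (0 : A) • 𝟙 (Q.obj X) = 0
          exact zero_smul _ _
        smul_mem' := fun c {a} ha => by
          change (c • a) • 𝟙 (Q.obj X) = 0
          rw [smul_assoc, show a • 𝟙 (Q.obj X) = 0 from ha, smul_zero] }
    have hI : I = ⊤ := by
      by_contra hne
      obtain ⟨m, hm, hIm⟩ := Ideal.exists_le_maximal I hne
      obtain ⟨s, hs, hs0⟩ := h m hm
      exact hs (hIm hs0)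
    have h1 : (1 : A) • 𝟙 (Q.obj X) = 0 := (Ideal.eq_top_iff_one I).mp hI
    have hid : Q.map (𝟙 X) = Q.map (0 : X ⟶ X) := by
      rw [Q.map_id, Functor.map_zero, ← h1, one_smul]
    obtain ⟨Y, s, hs, heq⟩ := (MorphismProperty.map_eq_iff_postcomp Q U.trW (𝟙 X) 0).mp hid
    have hs0 : s = 0 := by simpa using heq
    subst hs0
    rw [ObjectProperty.trW_iff] at hs
    obtain ⟨Z, g, k, hT, hZ⟩ := hs
    have hT' := rot_of_distTriang _ hT
    have hepi : Epi k := by
      refine Triangle.epi₂ _ hT' ?_
      change -(0 : X ⟶ Y)⟦(1 : ℤ)⟧' = 0
      rw [Functor.map_zero, neg_zero]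
    have hsplit : IsSplitEpi k := isSplitEpi_of_epi k
    have hX1 : U (X⟦(1 : ℤ)⟧) :=
      ObjectProperty.prop_of_retract U ⟨section_ k, k, IsSplitEpi.id k⟩ hZ
    have := U.le_shift (-1 : ℤ) _ hX1
    exact ObjectProperty.prop_of_iso U ((shiftEquiv T (1 : ℤ)).unitIso.app X).symm this
end Groth.Agent.S19191
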