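import Mathlib
import Groth.Statements.S19193
-- import your own Groth.Agent.* helpers here

set_option autoImplicit false
universe u
open CategoryTheory Opposite TopologicalSpace
open CohTop

namespace Groth.Agent.S19193

open W4c6blochformula0cyc

section aux

variable {X : Type u} [TopologicalSpace X] (F : (Opens X)ᵒᵖ ⥤ AddCommGrpCat.{u})

theorem res_res {V W Z : Opens X} (h1 : W ≤ V) (h2 : Z ≤ W) (x : F.obj (op V)) :
    res F h2 (res F h1 x) = res F (h2.trans h1) x := by
  unfold res
  have : F.map (homOfLE (h2.trans h1)).op = F.map (homOfLE h1).op ≫ F.map (homOfLE h2).op := by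
    rw [← F.map_comp]
    rfl
  rw [this]
  rfl

theorem res_self {V : Opens X} (h : V ≤ V) (x : F.obj (op V)) : res F h x = x := by
  unfold res
  have : F.map (homOfLE h).op = 𝟙 _ := by
    rw [← F.map_id]
    rfl
  rw [this]
  rfl

variable {ι : Type u} (U : ι → Opens X)

theorem res_congr {n : ℕ} (f : Cochain F U n) {s s' : Fin n → ι} (h : s = s') {W : Opens X}
    (hW : W ≤ cechOpen U s) (hW' : W ≤ cechOpen U s') : res F hW (f s) = res F hW' (f s') := by
  subst h
  rfl

theorem E_congr (E : ∀ (V : Opens X) (α : ι), F.obj (op (V ⊓ U α)) →+ F.obj (op V))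
    {V V' : Opens X} (h : V = V') (α : ι) (g : F.obj (op (V' ⊓ U α)))
    (h1 : V ⊓ U α ≤ V' ⊓ U α) (h2 : V ≤ V') :
    E V α (res F h1 g) = res F h2 (E V' α g) := by
  subst h
  rw [res_self, res_self]

theorem cechOpen_eq {n : ℕ} (t : Fin (n + 1) → ι) (i : Fin (n + 1)) :
    cechOpen U t = cechOpen U (t ∘ i.succAbove) ⊓ U (t i) := by
  apply le_antisymm
  · exact le_inf (cechOpen_le_comp U t i) (iInf_le (fun j => U (t j)) i)
  · refine le_iInf fun j => ?_
    rcases Fin.eq_self_or_eq_succAbove i j with h | ⟨k, h⟩
    · rw [h]; exact inf_le_right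
    · rw [h]
      exact inf_le_left.trans (iInf_le (fun k => U ((t ∘ i.succAbove) k)) k)

theorem cons_comp_zero_succAbove {n : ℕ} (α : ι) (t : Fin n → ι) :
    (Fin.cons α t : Fin (n + 1) → ι) ∘ (0 : Fin (n + 1)).succAbove = t := by
  funext k
  simp

theorem cons_comp_succ_succAbove {n : ℕ} (α : ι) (t : Fin (n + 1) → ι) (i : Fin (n + 1)) :
    (Fin.cons α t : Fin (n + 2) → ι) ∘ i.succ.succAbove =
      (Fin.cons α (t ∘ i.succAbove) : Fin (n + 1) → ι) := by
  funext k
  refine Fin.cases ?_ (fun k' => ?_) k
  · simp
  · simp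

end aux

open W4c6blochformula0cyc in
/-- Let `F` be a presheaf of abelian groups on a topological space `X`, `U` a family of opens of `X`
indexed by a finite type, and suppose given, for every open `V` and every index `α`, an additive map
`E V α : F(V ∩ U_α) → F(V)` such that for every nonempty tuple of indices `t`, with `V = U_{t_0} ∩ ⋯
∩ U_{t_m}`: (i) `∑_α E V α (f|_{V ∩ U_α}) = f` for all `f ∈ F(V)`, and (ii) `(E V α g)|_{V ∩ U_β} =
E (V ∩ U_β) α (g|_{V ∩ U_β ∩ U_α})` for all indices `α, β` and all `g ∈ F(V ∩ U_α)`. Then the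
operator `H` on ordered Čech cochains, `(H f)_t = ∑_α E (U_t) α (f_{(α, t)})`, satisfies `H (δ f) +
δ (H f) = f` for every Čech cochain `f` on tuples of length at least `2`, i.e. in every Čech degree
`≥ 1`. (The published statement takes a flasque sheaf on an open cover and extension maps attached
to pairs of finite intersections; this row takes any presheaf, any finite family of opens, and maps
that may depend on the index, none of which the printed argument needs. The published statement also
asserts the identity in every degree of the Čech complex without augmentation term, and allows an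
infinite index set with finitely supported sums; in Čech degree `0`, where that complex has no term
below and the identity reads `H (δ f) = f`, it fails in general — for the one-member cover of a
point and the constant presheaf `ℤ` with `E` the identity, `δ f` vanishes on the pair while `f` need
not — so it is stated here from degree `1` on, i.e. for cochains on tuples of length at least `2`
(the whole-space term on the empty tuple carried by the cochain groups used here plays no role), and
for a finite index type.) -/
theorem result {X : Type u} [TopologicalSpace X]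
    {ι : Type u} [Fintype ι] (F : (Opens X)ᵒᵖ ⥤ AddCommGrpCat.{u}) (U : ι → Opens X)
    (E : ∀ (V : Opens X) (α : ι), F.obj (op (V ⊓ U α)) →+ F.obj (op V))
    (h2 : ∀ (m : ℕ) (t : Fin (m + 1) → ι) (f : F.obj (op (cechOpen U t))),
      ∑ α, E (cechOpen U t) α (res F inf_le_left f) = f)
    (h3 : ∀ (m : ℕ) (t : Fin (m + 1) → ι) (α β : ι) (g : F.obj (op (cechOpen U t ⊓ U α))),
      res F inf_le_left (E (cechOpen U t) α g) =
        E (cechOpen U t ⊓ U β) α (res F (inf_le_inf_right (U α) inf_le_left) g))
    (n : ℕ) (f : Cochain F U (n + 2)) :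
    homotopy F U E (n + 2) (delta F U (n + 2) f) + delta F U (n + 1) (homotopy F U E (n + 1) f) = f := by
  funext t
  -- the common terms
  have hle : ∀ (α : ι) (i : Fin (n + 2)), cechOpen U t ⊓ U α ≤
      cechOpen U (Fin.cons α (t ∘ i.succAbove) : Fin (n + 2) → ι) := fun α i =>
    (inf_le_inf_right (U α) (cechOpen_le_comp U t i)).trans (inf_le_cechOpen_cons U _ α)
  set T : ι → Fin (n + 2) → F.obj (op (cechOpen U t)) := fun α i =>
    E (cechOpen U t) α (res F (hle α i) (f (Fin.cons α (t ∘ i.succAbove)))) with hT
  -- first part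
  have h1 : (homotopy F U E (n + 2) (delta F U (n + 2) f)) t =
      ∑ α, (E (cechOpen U t) α (res F inf_le_left (f t)) -
        ∑ i : Fin (n + 2), ((-1 : ℤ) ^ (i : ℕ)) • T α i) := by
    change ∑ α : ι, E (cechOpen U t) α (res F (inf_le_cechOpen_cons U t α)
      (∑ j : Fin (n + 3), ((-1 : ℤ) ^ (j : ℕ)) •
        res F (cechOpen_le_comp U (Fin.cons α t : Fin (n + 3) → ι) j)
          (f ((Fin.cons α t : Fin (n + 3) → ι) ∘ j.succAbove)))) = _
    refine Finset.sum_congr rfl fun α _ => ?_
    rw [map_sum, map_sum, Fin.sum_univ_succ, sub_eq_add_neg]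
    congr 1
    · simp only [Fin.val_zero, pow_zero, one_smul]
      rw [res_res]
      exact congrArg _ (res_congr F U f (cons_comp_zero_succAbove α t) _ _)
    · rw [← Finset.sum_neg_distrib]
      refine Finset.sum_congr rfl fun i _ => ?_
      rw [map_zsmul, map_zsmul, Fin.val_succ, pow_succ, mul_neg_one, neg_smul, res_res, hT]
      congr 3
      exact res_congr F U f (cons_comp_succ_succAbove α t i) _ _
  -- second part
  have h4 : (delta F U (n + 1) (homotopy F U E (n + 1) f)) t =
      ∑ i : Fin (n + 2), ((-1 : ℤ) ^ (i : ℕ)) • ∑ α, T α i := by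
    change ∑ i : Fin (n + 2), ((-1 : ℤ) ^ (i : ℕ)) • res F (cechOpen_le_comp U t i)
      (∑ α : ι, E (cechOpen U (t ∘ i.succAbove)) α
        (res F (inf_le_cechOpen_cons U (t ∘ i.succAbove) α)
          (f (Fin.cons α (t ∘ i.succAbove))))) = _
    refine Finset.sum_congr rfl fun i _ => ?_
    congr 1
    rw [map_sum]
    refine Finset.sum_congr rfl fun α _ => ?_
    set g := res F (inf_le_cechOpen_cons U (t ∘ i.succAbove) α)
      (f (Fin.cons α (t ∘ i.succAbove))) with hg
    have hV := cechOpen_eq U t i
    have e1 : res F (cechOpen_le_comp U t i) (E (cechOpen U (t ∘ i.succAbove)) α g) =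
        res F (hV.le) (res F inf_le_left (E (cechOpen U (t ∘ i.succAbove)) α g)) := by
      rw [res_res]
    rw [e1, h3 n (t ∘ i.succAbove) α (t i) g,
      ← E_congr F U E hV α _ (inf_le_inf_right (U α) hV.le) hV.le, res_res, hg, res_res]
  rw [Pi.add_apply, h1, h4, Finset.sum_sub_distrib, h2 (n + 1) t (f t)]
  simp only [Finset.smul_sum]
  rw [Finset.sum_comm]
  abel

end Groth.Agent.S19193
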