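import Mathlib
import Groth.Statements.S19196
-- import your own Groth.Agent.* helpers here

set_option autoImplicit false
universe u
open RelS1

namespace Groth.Agent.S19196

/-- Let R be a Noetherian commutative ring and N a finitely generated R-module which fails Serre's
condition (S_1), in the sense that some associated prime of N is not a minimal prime of the
annihilator of N. Then there exist an element a of R lying in no minimal prime of the annihilator of
N and a nonzero element b of N with a • b = 0; thus the basic open set D(a) meets the support of N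
densely while restriction to it is not injective on N. -/
theorem result (R N : Type u) [CommRing R] [IsNoetherianRing R]
    [AddCommGroup N] [Module R N] [Module.Finite R N]
    (h : ¬ associatedPrimes R N ⊆ (Module.annihilator R N).minimalPrimes) :
    ∃ (a : R) (b : N), (∀ P ∈ (Module.annihilator R N).minimalPrimes, a ∉ P) ∧ b ≠ 0 ∧ a • b = 0 := by
  rw [Set.not_subset] at h
  obtain ⟨P, hP, hPmin⟩ := h
  have hPprime : P.IsPrime := hP.isPrime
  obtain ⟨b, hb⟩ := (isAssociatedPrime_iff.1 hP).2
  have hmem : ∀ r : R, r ∈ P ↔ r • b = 0 := by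
    intro r
    rw [hb, Submodule.mem_colon_singleton, Submodule.mem_bot]
  have hfin : ((Module.annihilator R N).minimalPrimes).Finite :=
    Ideal.finite_minimalPrimes_of_isNoetherianRing R _
  have hannle : Module.annihilator R N ≤ P := by
    intro r hr
    rw [hmem]
    exact Module.mem_annihilator.1 hr b
  have hnot : ¬ ((P : Set R) ⊆ ⋃ Q ∈ (hfin.toFinset : Set (Ideal R)), (Q : Set R)) := by
    intro hsub
    obtain ⟨Q, hQ, hPQ⟩ := (Ideal.subset_union_prime (s := hfin.toFinset) (f := fun Q => Q) ⊥ ⊥
      (fun Q hQ _ _ => by
        have : Q ∈ (Module.annihilator R N).minimalPrimes := hfin.mem_toFinset.1 hQ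
        exact this.1.1)).1 hsub
    have hQ' : Q ∈ (Module.annihilator R N).minimalPrimes := hfin.mem_toFinset.1 hQ
    have hQP : Q ≤ P := hQ'.2 ⟨hPprime, hannle⟩ hPQ
    exact hPmin (le_antisymm hPQ hQP ▸ hQ')
  rw [Set.not_subset] at hnot
  obtain ⟨a, haP, hanot⟩ := hnot
  refine ⟨a, b, ?_, ?_, ?_⟩
  · intro Q hQ haQ
    apply hanot
    simp only [Set.mem_iUnion]
    exact ⟨Q, by simpa using hQ, haQ⟩
  · rintro rfl
    apply hPprime.ne_top
    rw [Ideal.eq_top_iff_one, hmem]
    simp
  · exact (hmem a).1 haP

end Groth.Agent.S19196
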