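import Mathlib
import Groth.Statements.S5165
import Groth.Agent.S0563

set_option autoImplicit false
universe u
open CategoryTheory
open LocCoh

namespace Groth.Agent.S5165

variable {A : Type u} [CommRing A]

/-- the locus where `pd M_p ≤ n` -/
def U (M : Type u) [AddCommGroup M] [Module A M] (n : ℕ) : Set (PrimeSpectrum A) :=
  {p | HasProjectiveDimensionLE ((ModuleCat.of A M).localizedModule p.asIdeal.primeCompl) n}

lemma U_zero (M : Type u) [AddCommGroup M] [Module A M] [Module.Finite A M] :
    U (A := A) M 0 = Module.freeLocus A M := by
  ext p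
  change HasProjectiveDimensionLT ((ModuleCat.of A M).localizedModule p.asIdeal.primeCompl) (0 + 1) ↔
    Module.Free (Localization.AtPrime p.asIdeal) (LocalizedModule p.asIdeal.primeCompl M)
  rw [zero_add, ← projective_iff_hasProjectiveDimensionLT_one]
  change Projective (ModuleCat.of (Localization p.asIdeal.primeCompl)
    (Shrink.{u} (LocalizedModule p.asIdeal.primeCompl M))) ↔ _
  rw [← IsProjective.iff_projective]
  constructor
  · intro h
    have : Module.Projective (Localization.AtPrime p.asIdeal)
        (LocalizedModule p.asIdeal.primeCompl M) :=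
      Module.Projective.of_equiv (Shrink.linearEquiv (Localization p.asIdeal.primeCompl)
        (LocalizedModule p.asIdeal.primeCompl M))
    exact Module.free_of_flat_of_isLocalRing
  · intro h
    have : Module.Projective (Localization.AtPrime p.asIdeal)
        (LocalizedModule p.asIdeal.primeCompl M) := inferInstance
    exact Module.Projective.of_equiv (Shrink.linearEquiv (Localization p.asIdeal.primeCompl)
        (LocalizedModule p.asIdeal.primeCompl M)).symm

lemma isOpen_U [IsNoetherianRing A] (n : ℕ) :
    ∀ (M : Type u) [AddCommGroup M] [Module A M] [Module.Finite A M], IsOpen (U (A := A) M n) := by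
  induction n with
  | zero =>
    intro M _ _ _
    rw [U_zero]
    have : Module.FinitePresentation A M := Module.finitePresentation_of_finite A M
    exact Module.isOpen_freeLocus
  | succ n ih =>
    intro M _ _ _
    rcases Module.exists_finite_presentation A M with ⟨P, _, _, _, _, f, surjf⟩
    let S := f.shortComplexKer
    have S_exact := LinearMap.shortExact_shortComplexKer surjf
    have proj := ModuleCat.projective_of_categoryTheory_projective S.X₂
    have key : U (A := A) M (n + 1) = U (A := A) (LinearMap.ker f) n := by
      ext p
      let Sp := S.map (ModuleCat.localizedModuleFunctor p.asIdeal.primeCompl)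
      have Sp_exact : Sp.ShortExact :=
        S_exact.map_of_exact (ModuleCat.localizedModuleFunctor p.asIdeal.primeCompl)
      have projp : Projective Sp.X₂ :=
        (ModuleCat.localizedModuleFunctor.{u} p.asIdeal.primeCompl).projective_obj_of_projective proj
      exact Sp_exact.hasProjectiveDimensionLT_X₃_iff n projp
    rw [key]
    exact ih (LinearMap.ker f)

lemma U_mono (M : Type u) [AddCommGroup M] [Module A M] {m n : ℕ} (h : m ≤ n) :
    U (A := A) M m ⊆ U (A := A) M n := by
  intro p hp
  have : HasProjectiveDimensionLT ((ModuleCat.of A M).localizedModule p.asIdeal.primeCompl) (m + 1) := hp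
  exact hasProjectiveDimensionLT_of_ge _ (m + 1) (n + 1) (by omega)

theorem result (A : Type u) [CommRing A] [IsRegularRing A] (M : Type u) [AddCommGroup M] [Module A M] [Module.Finite A M] : ∃ d : ℕ, HasProjectiveDimensionLE (ModuleCat.of A M) d := by
  have hcover : (Set.univ : Set (PrimeSpectrum A)) ⊆ ⋃ n, U (A := A) M n := by
    intro p _
    have := IsRegularRing.isRegularLocalRing_localization (R := A) p.asIdeal
    obtain ⟨d, hd⟩ : ∃ d : ℕ, ringKrullDim (Localization.AtPrime p.asIdeal) = d :=
      ⟨_, (IsRegularLocalRing.spanFinrank_maximalIdeal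
        (R := Localization.AtPrime p.asIdeal)).symm⟩
    refine Set.mem_iUnion.mpr ⟨d, ?_⟩
    exact Groth.Agent.S0563.result (Localization.AtPrime p.asIdeal) d hd _
  obtain ⟨t, ht⟩ := isCompact_univ.elim_finite_subcover (fun n => U (A := A) M n)
    (fun n => isOpen_U n M) hcover
  refine ⟨t.sup id, ?_⟩
  rw [ModuleCat.hasProjectiveDimensionLE_iff_forall_primeSpectrum]
  intro p
  obtain ⟨n, hn, hp⟩ : ∃ n ∈ t, p ∈ U (A := A) M n := by
    have := ht (Set.mem_univ p)
    simpa using this
  exact U_mono M (Finset.le_sup (f := id) hn) hp

end Groth.Agent.S5165
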