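import Groth.Statements.S19197
import Mathlib
import Groth.Agent.Lib.Helper71.PdLocSyz
import Groth.Agent.S5165

set_option autoImplicit false
universe u
open TensorProduct CategoryTheory
open RelS1

namespace Groth.Agent.S19197

-- HELPERS BEGIN
open Groth.Agent.Lib.Helper71 in
/-- Localizations of an `A`-flat `B`-module are `A`-flat. -/
theorem flat_localizedModule (A : Type*) {B M : Type*} [CommRing A] [CommRing B] [Algebra A B]
    [AddCommGroup M] [Module A M] [Module B M] [IsScalarTower A B M] [Module.Flat A M]
    (W : Submonoid B) : Module.Flat A (LocalizedModule W M) := by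
  rw [Groth.Agent.H76.FlatLocal.flat_localized_iff]
  intro I hI z hz
  refine ⟨1, W.one_mem, ?_⟩
  rw [one_smul]
  exact Module.Flat.lTensor_preserves_injective_linearMap (M := M) I.subtype
    Subtype.val_injective (by rw [hz, map_zero])

/-- Openness of the locus `pd M_P ≤ n` for finitely presented `A`-flat modules. -/
theorem isOpen_U (A : Type u) {B : Type u} [CommRing A] [CommRing B] [Algebra A B]
    [Algebra.FinitePresentation A B] [Module.Flat A B] (n : ℕ) :
    ∀ (M : Type u) [AddCommGroup M] [Module B M] [Module A M] [IsScalarTower A B M]
      [Module.FinitePresentation B M] [Module.Flat A M],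
      IsOpen (Groth.Agent.S5165.U (A := B) M n) := by
  induction n with
  | zero =>
    intro M _ _ _ _ _ _
    rw [Groth.Agent.S5165.U_zero]
    exact Module.isOpen_freeLocus
  | succ n ih =>
    intro M _ _ _ _ _ _
    obtain ⟨r, f, surjf, hK⟩ := Groth.Agent.Lib.Helper71.PdSyzygy.exists_fp_syzygy A B M
    have hFflat : Module.Flat A (Fin r → B) := Module.Flat.trans A B (Fin r → B)
    have hKflat : Module.Flat A (LinearMap.ker f) :=
      Groth.Agent.Lib.Helper71.PdSyzygy.flat_ker A f surjf
    let S := f.shortComplexKer
    have S_exact := LinearMap.shortExact_shortComplexKer surjf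
    have proj := ModuleCat.projective_of_categoryTheory_projective S.X₂
    have key : Groth.Agent.S5165.U (A := B) M (n + 1) =
        Groth.Agent.S5165.U (A := B) (LinearMap.ker f) n := by
      ext p
      let Sp := S.map (ModuleCat.localizedModuleFunctor p.asIdeal.primeCompl)
      have Sp_exact : Sp.ShortExact :=
        S_exact.map_of_exact (ModuleCat.localizedModuleFunctor p.asIdeal.primeCompl)
      have projp : Projective Sp.X₂ :=
        (ModuleCat.localizedModuleFunctor.{u} p.asIdeal.primeCompl).projective_obj_of_projective proj
      exact Sp_exact.hasProjectiveDimensionLT_X₃_iff n projp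
    rw [key]
    exact ih (LinearMap.ker f)

/-- The fibre projective dimension at `P` equals the projective dimension of the stalk `M_P`. -/
theorem fibre_pd_eq (A B M : Type u) [CommRing A] [CommRing B] [Algebra A B]
    [Algebra.FinitePresentation A B] [Module.Flat A B] [AddCommGroup M] [Module B M] [Module A M]
    [IsScalarTower A B M] [Module.FinitePresentation B M] [Module.Flat A M]
    (P : PrimeSpectrum B) :
    projectiveDimension (ModuleCat.of
      (Localization.AtPrime P.asIdeal ⧸ (P.asIdeal.under A).map (algebraMap A (Localization.AtPrime P.asIdeal)))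
      ((Localization.AtPrime P.asIdeal ⧸ (P.asIdeal.under A).map (algebraMap A (Localization.AtPrime P.asIdeal))) ⊗[B] M)) =
    projectiveDimension ((ModuleCat.of B M).localizedModule P.asIdeal.primeCompl) := by
  have hBR : Module.Flat B (Localization.AtPrime P.asIdeal) :=
    IsLocalization.flat _ P.asIdeal.primeCompl
  have hAR : Module.Flat A (Localization.AtPrime P.asIdeal) := Module.Flat.trans A B _
  have hsyz := Groth.Agent.Lib.Helper71.PdLocSyz.hasFPSyzygies_atPrime A P.asIdeal
    (Localization.AtPrime P.asIdeal)
  have h𝔞 : (P.asIdeal.under A).map (algebraMap A (Localization.AtPrime P.asIdeal)) ≤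
      IsLocalRing.maximalIdeal (Localization.AtPrime P.asIdeal) := by
    rw [Ideal.map_le_iff_le_comap]
    intro v hv
    rw [Ideal.mem_comap, IsScalarTower.algebraMap_apply A B (Localization.AtPrime P.asIdeal),
      IsLocalization.AtPrime.to_map_mem_maximal_iff (Localization.AtPrime P.asIdeal) P.asIdeal]
    exact hv
  have hflat : Module.Flat A (LocalizedModule P.asIdeal.primeCompl M) :=
    flat_localizedModule A _
  have h1 := Groth.Agent.Lib.Helper71.PdLocal.projectiveDimension_eq_quotient
    (P.asIdeal.under A) hsyz h𝔞 (LocalizedModule P.asIdeal.primeCompl M)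
  let e₁ : Localization.AtPrime P.asIdeal ⊗[B] M ≃ₗ[Localization.AtPrime P.asIdeal]
      LocalizedModule P.asIdeal.primeCompl M :=
    (IsLocalizedModule.isBaseChange P.asIdeal.primeCompl (Localization.AtPrime P.asIdeal)
      (LocalizedModule.mkLinearMap P.asIdeal.primeCompl M)).equiv
  let e : ((Localization.AtPrime P.asIdeal ⧸ (P.asIdeal.under A).map
        (algebraMap A (Localization.AtPrime P.asIdeal))) ⊗[Localization.AtPrime P.asIdeal]
        LocalizedModule P.asIdeal.primeCompl M) ≃ₗ[Localization.AtPrime P.asIdeal ⧸
          (P.asIdeal.under A).map (algebraMap A (Localization.AtPrime P.asIdeal))]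
      ((Localization.AtPrime P.asIdeal ⧸ (P.asIdeal.under A).map
        (algebraMap A (Localization.AtPrime P.asIdeal))) ⊗[B] M) :=
    (TensorProduct.AlgebraTensorModule.congr (LinearEquiv.refl _ _) e₁.symm).trans
      (TensorProduct.AlgebraTensorModule.cancelBaseChange B (Localization.AtPrime P.asIdeal) _ _ M)
  rw [← projectiveDimension_eq_of_iso e.toModuleIso, ← h1]
  exact projectiveDimension_eq_of_iso
    (Shrink.linearEquiv (Localization P.asIdeal.primeCompl)
      (LocalizedModule P.asIdeal.primeCompl M)).symm.toModuleIso
-- HELPERS END


/-- In affine form, let A be a commutative ring, B a finitely presented A-algebra which is flat over A,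
and M a finitely presented B-module which is flat over A. For a prime P of B lying over the prime p
of A, let B_P/pB_P be the local ring of the fibre at P and M_P/pM_P = (B_P/pB_P) ⊗_B M the fibre
stalk module. Then the function sending P to the projective dimension of M_P/pM_P over B_P/pB_P
(valued in WithBot ℕ∞, the zero module having dimension ⊥) is upper semicontinuous on Spec B: for
every bound, the set of P where the fibre projective dimension is below the bound is open. -/
theorem result (A B M : Type u) [CommRing A] [CommRing B] [Algebra A B]
    [Algebra.FinitePresentation A B] [Module.Flat A B] [AddCommGroup M] [Module B M] [Module A M]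
    [IsScalarTower A B M] [Module.FinitePresentation B M] [Module.Flat A M] :
    UpperSemicontinuous fun P : PrimeSpectrum B => projectiveDimension (ModuleCat.of
      (Localization.AtPrime P.asIdeal ⧸ (P.asIdeal.under A).map (algebraMap A (Localization.AtPrime P.asIdeal)))
      ((Localization.AtPrime P.asIdeal ⧸ (P.asIdeal.under A).map (algebraMap A (Localization.AtPrime P.asIdeal))) ⊗[B] M)) := by
  have hfun : (fun P : PrimeSpectrum B => projectiveDimension (ModuleCat.of
      (Localization.AtPrime P.asIdeal ⧸ (P.asIdeal.under A).map (algebraMap A (Localization.AtPrime P.asIdeal)))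
      ((Localization.AtPrime P.asIdeal ⧸ (P.asIdeal.under A).map (algebraMap A (Localization.AtPrime P.asIdeal))) ⊗[B] M))) =
      fun P : PrimeSpectrum B =>
        projectiveDimension ((ModuleCat.of B M).localizedModule P.asIdeal.primeCompl) :=
    funext (fibre_pd_eq A B M)
  rw [hfun, upperSemicontinuous_iff_isOpen_preimage]
  intro y
  induction y with
  | bot =>
    have : (fun P : PrimeSpectrum B =>
        projectiveDimension ((ModuleCat.of B M).localizedModule P.asIdeal.primeCompl)) ⁻¹'
        Set.Iio (⊥ : WithBot ℕ∞) = ∅ := by
      ext P
      simp
    rw [this]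
    exact isOpen_empty
  | coe y =>
    induction y with
    | top =>
      have : (fun P : PrimeSpectrum B =>
          projectiveDimension ((ModuleCat.of B M).localizedModule P.asIdeal.primeCompl)) ⁻¹'
          Set.Iio (((⊤ : ℕ∞) : WithBot ℕ∞)) = ⋃ n, Groth.Agent.S5165.U (A := B) M n := by
        ext P
        simp only [Set.mem_preimage, Set.mem_Iio, Set.mem_iUnion]
        rw [WithBot.coe_top, lt_top_iff_ne_top, projectiveDimension_ne_top_iff]
        rfl
      rw [this]
      exact isOpen_iUnion (fun n => isOpen_U A n M)
    | coe n =>
      cases n with
      | zero =>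
        have : (fun P : PrimeSpectrum B =>
            projectiveDimension ((ModuleCat.of B M).localizedModule P.asIdeal.primeCompl)) ⁻¹'
            Set.Iio (((0 : ℕ) : ℕ∞) : WithBot ℕ∞) = (Module.support B M)ᶜ := by
          ext P
          simp only [Set.mem_preimage, Set.mem_Iio, Set.mem_compl_iff]
          change projectiveDimension _ < ((0 : ℕ) : WithBot ℕ∞) ↔ _
          rw [projectiveDimension_lt_iff, hasProjectiveDimensionLT_zero_iff_isZero,
            Module.notMem_support_iff]
          constructor
          · intro h
            have h1 : Subsingleton (Shrink.{u} (LocalizedModule P.asIdeal.primeCompl M)) :=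
              ModuleCat.subsingleton_of_isZero h
            exact (equivShrink _).subsingleton
          · intro h
            have h1 : Subsingleton (Shrink.{u} (LocalizedModule P.asIdeal.primeCompl M)) :=
              (equivShrink _).symm.subsingleton
            have h2 : Subsingleton ((ModuleCat.of B M).localizedModule P.asIdeal.primeCompl) := h1
            exact ModuleCat.isZero_of_subsingleton _
        rw [this]
        exact Module.isClosed_support.isOpen_compl
      | succ n =>
        have : (fun P : PrimeSpectrum B =>
            projectiveDimension ((ModuleCat.of B M).localizedModule P.asIdeal.primeCompl)) ⁻¹'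
            Set.Iio (((n + 1 : ℕ) : ℕ∞) : WithBot ℕ∞) = Groth.Agent.S5165.U (A := B) M n := by
          ext P
          simp only [Set.mem_preimage, Set.mem_Iio]
          change projectiveDimension _ < ((n + 1 : ℕ) : WithBot ℕ∞) ↔ _
          exact projectiveDimension_lt_iff
        rw [this]
        exact isOpen_U A n M

end Groth.Agent.S19197
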