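import Groth.Statements.S19202
import Mathlib

set_option autoImplicit false
universe u
open CategoryTheory AlgebraicGeometry
open FlatMor

namespace Groth.Agent.S19202
open CategoryTheory AlgebraicGeometry TopologicalSpace

/-- Localization commutes with the colon by a single element. -/
theorem colon_singleton_map_localization {A S : Type*} [CommRing A] [CommRing S] [Algebra A S]
    (M : Submonoid A) [IsLocalization M S] (I : Ideal A) (a : A) :
    (I.colon {a}).map (algebraMap A S) =
      (I.map (algebraMap A S)).colon {algebraMap A S a} := by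
  ext z
  obtain ⟨y, m, rfl⟩ := IsLocalization.exists_mk'_eq M z
  rw [IsLocalization.mk'_mem_map_algebraMap_iff M, Submodule.mem_colon_singleton, smul_eq_mul,
    mul_comm, ← IsLocalization.mk'_one (M := M) S a, ← IsLocalization.mk'_mul,
    IsLocalization.mk'_mem_map_algebraMap_iff M]
  simp only [Submodule.mem_colon_singleton, smul_eq_mul]
  constructor
  · rintro ⟨s, hs, h⟩
    exact ⟨s, hs, by convert h using 1; ring⟩
  · rintro ⟨s, hs, h⟩
    exact ⟨s, hs, by convert h using 1; ring⟩

/-- The colon ideal sheaf `(I : a)` for a global function `a`. -/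
noncomputable def colonSheaf {Y : Scheme.{u}} (I : Y.IdealSheafData) (a : Γ(Y, ⊤)) :
    Y.IdealSheafData where
  ideal U := (I.ideal U).colon {(Y.presheaf.map (homOfLE le_top).op).hom a}
  map_ideal_basicOpen U s := by
    have := U.2.isLocalization_basicOpen s
    have h1 := colon_singleton_map_localization (S := Γ(Y, Y.basicOpen s)) (Submonoid.powers s)
      (I.ideal U) ((Y.presheaf.map (homOfLE (le_top : U.1 ≤ ⊤)).op).hom a)
    rw [RingHom.algebraMap_toAlgebra] at h1
    rw [h1, I.map_ideal_basicOpen U s]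
    congr 2
    rw [← CommRingCat.comp_apply, ← Functor.map_comp]
    rfl

theorem mem_colonSheaf {Y : Scheme.{u}} (I : Y.IdealSheafData) (a : Γ(Y, ⊤)) (U : Y.affineOpens)
    (y : Γ(Y, U)) :
    y ∈ (colonSheaf I a).ideal U ↔ y * (Y.presheaf.map (homOfLE le_top).op).hom a ∈ I.ideal U := by
  simp [colonSheaf]

/-- Sections of a flat scheme over an affine base are torsion-free with respect to
nonzerodivisors of the base. -/
theorem eq_zero_of_appLE_mul_eq_zero_of_flat {X S : Scheme.{u}} (p : X ⟶ S) [IsAffine S] [Flat p]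
    (r : Γ(S, ⊤)) (hr : r ∈ nonZeroDivisors Γ(S, ⊤)) (W : X.Opens) (s : Γ(X, W))
    (h : (p.appLE ⊤ W le_top).hom r * s = 0) : s = 0 := by
  refine TopCat.Sheaf.eq_of_locally_eq' X.sheaf
    (fun V : {V : X.affineOpens // V.1 ≤ W} => V.1.1) W (fun V => homOfLE V.2) ?_ s 0 ?_
  · intro x hx
    obtain ⟨V, hV, hxV, hVW⟩ := Opens.isBasis_iff_nbhd.mp X.isBasis_affineOpens hx
    exact Opens.mem_iSup.mpr ⟨⟨⟨V, hV⟩, hVW⟩, hxV⟩
  · rintro ⟨V, hVW⟩
    rw [map_zero]
    show (X.presheaf.map (homOfLE hVW).op).hom s = 0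
    have hflat : (p.appLE ⊤ V.1 le_top).hom.Flat :=
      HasRingHomProperty.appLE (P := @Flat) p inferInstance ⟨⊤, isAffineOpen_top S⟩ V _
    have hcomp : p.appLE ⊤ W le_top ≫ X.presheaf.map (homOfLE hVW).op = p.appLE ⊤ V.1 le_top :=
      Scheme.Hom.appLE_map _ _ _
    have h2 : (p.appLE ⊤ V.1 le_top).hom r * (X.presheaf.map (homOfLE hVW).op).hom s = 0 := by
      rw [← hcomp]
      simp only [CommRingCat.hom_comp, RingHom.coe_comp, Function.comp_apply]
      rw [← map_mul, h, map_zero]
    let _ := (p.appLE ⊤ V.1 le_top).hom.toAlgebra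
    have : Module.Flat Γ(S, ⊤) Γ(X, V.1) := hflat
    have hreg := Module.Flat.isSMulRegular_of_nonZeroDivisors (M := Γ(X, V.1)) hr
    apply hreg
    show r • _ = r • (0 : Γ(X, V.1))
    rw [smul_zero, Algebra.smul_def, RingHom.algebraMap_toAlgebra]
    exact h2

/-- A ring map from a Dedekind domain is flat as soon as it is torsion-free. -/
theorem flat_of_torsionFree {R C : Type u} [CommRing R] [IsDedekindDomain R] [CommRing C]
    (ψ : R →+* C) (h : ∀ r : R, r ≠ 0 → ∀ c : C, ψ r * c = 0 → c = 0) : ψ.Flat := by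
  let _ := ψ.toAlgebra
  show Module.Flat R C
  rw [IsDedekindDomain.flat_iff_torsion_eq_bot, eq_bot_iff]
  rintro c ⟨⟨r, hr⟩, hc⟩
  rw [Submodule.mem_bot]
  apply h r (nonZeroDivisors.ne_zero hr) c
  rw [← RingHom.algebraMap_toAlgebra ψ, ← Algebra.smul_def]
  exact hc

/-- Let R be a Dedekind domain, X and Y schemes over Spec R with X flat over Spec R, and f : X → Y a
morphism over Spec R. Then the scheme-theoretic image of f, i.e. the closed subscheme of Y cut out
by the kernel ideal sheaf of f, is flat over Spec R. (The published statement takes the base to be a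
non-singular curve and f proper; this row takes the spectrum of any Dedekind domain and any morphism
f over it.) -/
theorem result (R : Type u) [CommRing R] [IsDedekindDomain R]
    {X Y : Scheme.{u}} (p : X ⟶ Spec (CommRingCat.of R)) (q : Y ⟶ Spec (CommRingCat.of R))
    (f : X ⟶ Y) (w : f ≫ q = p) [Flat p] : Flat (f.imageι ≫ q) := by
  subst w
  let e : Γ(Spec (CommRingCat.of R), ⊤) ≅ CommRingCat.of R := Scheme.ΓSpecIso (CommRingCat.of R)
  have haff : ∀ U : Y.affineOpens, IsAffineOpen (f.imageι ⁻¹ᵁ U.1) := fun U => U.2.preimage f.imageι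
  refine HasRingHomProperty.of_iSup_eq_top (P := @Flat)
    (fun U : Y.affineOpens => (⟨f.imageι ⁻¹ᵁ U.1, haff U⟩ : f.image.affineOpens)) ?_ ?_
  · show ⨆ U : Y.affineOpens, f.imageι ⁻¹ᵁ U.1 = ⊤
    rw [← Scheme.Hom.preimage_iSup, iSup_affineOpens_eq_top]
    rfl
  · intro U
    show ((f.imageι ≫ q).appLE ⊤ (f.imageι ⁻¹ᵁ U.1) le_top).hom.Flat
    have hfac : (f.imageι ≫ q).appLE ⊤ (f.imageι ⁻¹ᵁ U.1) le_top =
        q.appLE ⊤ U.1 le_top ≫ f.imageι.app U.1 := by
      rw [← Scheme.Hom.appLE_comp_appLE f.imageι q ⊤ U.1 (f.imageι ⁻¹ᵁ U.1) le_top le_rfl,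
        Scheme.Hom.appLE_eq_app]
    rw [← RingHom.Flat.respectsIso.cancel_left_isIso e.inv, ← CommRingCat.hom_comp]
    apply flat_of_torsionFree
    intro r hr c hc
    obtain ⟨y, rfl⟩ := f.ker.subschemeι_app_surjective U c
    set r' : Γ(Spec (CommRingCat.of R), ⊤) := e.inv.hom r with hr'def
    have hr' : r' ∈ nonZeroDivisors Γ(Spec (CommRingCat.of R), ⊤) := by
      rw [mem_nonZeroDivisors_iff]
      have key : ∀ x : Γ(Spec (CommRingCat.of R), ⊤), x * r' = 0 → x = 0 := by
        intro x hx
        have h1 : e.hom.hom x * r = 0 := by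
          have := congr(e.hom.hom $hx)
          rw [map_mul, map_zero, hr'def, ← CommRingCat.comp_apply, e.inv_hom_id] at this
          exact this
        have h2 : e.hom.hom x = 0 := (mul_eq_zero.mp h1).resolve_right hr
        have := congr(e.inv.hom $h2)
        rwa [← CommRingCat.comp_apply, e.hom_inv_id, map_zero] at this
      exact ⟨fun x hx => key x (by rwa [mul_comm] at hx), key⟩
    -- the global function on `Y`
    let a : Γ(Y, ⊤) := q.appTop.hom r'
    have ha : ∀ V : Y.Opens, (Y.presheaf.map (homOfLE (le_top : V ≤ ⊤)).op).hom a =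
        (q.appLE ⊤ V le_top).hom r' := fun V => rfl
    have hle : colonSheaf f.ker a ≤ f.ker := by
      refine Scheme.IdealSheafData.le_ofIdeals_iff.mpr fun U' y' hy' => ?_
      rw [mem_colonSheaf, ha] at hy'
      have h1 := f.ideal_ker_le U' hy'
      rw [RingHom.mem_ker, map_mul] at h1
      rw [RingHom.mem_ker]
      apply eq_zero_of_appLE_mul_eq_zero_of_flat (f ≫ q) r' hr' (f ⁻¹ᵁ U'.1)
      rw [mul_comm]
      convert h1 using 2
      rw [← Scheme.Hom.appLE_comp_appLE f q ⊤ U'.1 (f ⁻¹ᵁ U'.1) le_top le_rfl,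
        Scheme.Hom.appLE_eq_app]
      rfl
    have hy : y ∈ (colonSheaf f.ker a).ideal U := by
      rw [mem_colonSheaf, ha, ← f.ker.ker_subschemeι_app U, RingHom.mem_ker, mul_comm, map_mul]
      rw [hfac] at hc
      exact hc
    have := hle U hy
    rwa [← f.ker.ker_subschemeι_app U, RingHom.mem_ker] at this

end Groth.Agent.S19202
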