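import Groth.Statements.S19207
import Groth.Agent.Lib.Helper91.PSLenIdent
open Groth.Agent.Lib.Helper91

set_option autoImplicit false
universe u
open Filter
open LocAlg

namespace Groth.Agent.S19207

/-- Let k be a field and n ≥ 3, and let A = k[[x, y, t]]/(x^2 − y^n), the power-series ring in t over
the higher double point O = k[[x, y]]/(x^2 − y^n), a two-dimensional local ring. The ideal I = (x^2,
xy, y^2, xt, yt^2, t^4) of A has length(A/I) = 7 and Samuel multiplicity e(I) = 16, in the sense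
that 2·length(A/I^m)/m^2 tends to 16. Hence e(I)/(2!·length(A/I)) = 8/7, which gives the bound
e_1(O) ≥ 8/7 for the first flat multiplicity of a higher double point (the supremum of
e(I)/(2!·length(A/I)) over ideals of finite colength of A = O[[t]]). Here x, y, t are the
power-series variables indexed 0, 1, 2. -/
theorem result (k : Type u) [Field k] (n : ℕ) (hn : 3 ≤ n)
    (I : Ideal (MvPowerSeries (Fin 3) k ⧸ Ideal.span {(MvPowerSeries.X 0 ^ 2 - MvPowerSeries.X 1 ^ n : MvPowerSeries (Fin 3) k)}))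
    (hI : I = Ideal.map (Ideal.Quotient.mk (Ideal.span {(MvPowerSeries.X 0 ^ 2 - MvPowerSeries.X 1 ^ n : MvPowerSeries (Fin 3) k)}))
      (Ideal.span {(MvPowerSeries.X 0 ^ 2 : MvPowerSeries (Fin 3) k), MvPowerSeries.X 0 * MvPowerSeries.X 1,
        MvPowerSeries.X 1 ^ 2, MvPowerSeries.X 0 * MvPowerSeries.X 2,
        MvPowerSeries.X 1 * MvPowerSeries.X 2 ^ 2, MvPowerSeries.X 2 ^ 4})) :
    Module.length (MvPowerSeries (Fin 3) k ⧸ Ideal.span {(MvPowerSeries.X 0 ^ 2 - MvPowerSeries.X 1 ^ n : MvPowerSeries (Fin 3) k)}) ((MvPowerSeries (Fin 3) k ⧸ Ideal.span {(MvPowerSeries.X 0 ^ 2 - MvPowerSeries.X 1 ^ n : MvPowerSeries (Fin 3) k)}) ⧸ I) = 7 ∧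
      Tendsto (fun m : ℕ => (2 : ℝ) * ((Module.length (MvPowerSeries (Fin 3) k ⧸ Ideal.span {(MvPowerSeries.X 0 ^ 2 - MvPowerSeries.X 1 ^ n : MvPowerSeries (Fin 3) k)}) ((MvPowerSeries (Fin 3) k ⧸ Ideal.span {(MvPowerSeries.X 0 ^ 2 - MvPowerSeries.X 1 ^ n : MvPowerSeries (Fin 3) k)}) ⧸ I ^ m)).toNat : ℝ) / (m : ℝ) ^ 2)
        atTop (nhds 16) := by
  subst hI
  have key : ∀ m : ℕ, Module.length (MvPowerSeries (Fin 3) k ⧸ Ideal.span {(MvPowerSeries.X 0 ^ 2 - MvPowerSeries.X 1 ^ n : MvPowerSeries (Fin 3) k)})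
      ((MvPowerSeries (Fin 3) k ⧸ Ideal.span {(MvPowerSeries.X 0 ^ 2 - MvPowerSeries.X 1 ^ n : MvPowerSeries (Fin 3) k)}) ⧸
        (Ideal.map (Ideal.Quotient.mk (Ideal.span {(MvPowerSeries.X 0 ^ 2 - MvPowerSeries.X 1 ^ n : MvPowerSeries (Fin 3) k)}))
          (Ideal.span {(MvPowerSeries.X 0 ^ 2 : MvPowerSeries (Fin 3) k), MvPowerSeries.X 0 * MvPowerSeries.X 1,
            MvPowerSeries.X 1 ^ 2, MvPowerSeries.X 0 * MvPowerSeries.X 2,
            MvPowerSeries.X 1 * MvPowerSeries.X 2 ^ 2, MvPowerSeries.X 2 ^ 4})) ^ m) =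
      Module.length (MvPowerSeries (Fin 3) k) (MvPowerSeries (Fin 3) k ⧸ PSLen.Km k n m) :=
    fun m => PSLen.length_quot_quot_pow (Ideal.span {PSLen.gg k n}) (PSLen.Itil k) m
  constructor
  · exact (PSLen.length_quot_quot (Ideal.span {PSLen.gg k n}) (PSLen.Itil k)).trans
      (PSLen.length_quot_sup_one k n hn)
  · -- bounds
    have hup : ∀ m : ℕ, Module.length (MvPowerSeries (Fin 3) k)
        (MvPowerSeries (Fin 3) k ⧸ PSLen.Km k n m) ≤ ((16 * PSLen.triSum m : ℕ) : ℕ∞) :=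
      fun m => PSLen.length_quot_Km_le k n m
    have hlow : ∀ m : ℕ, ((PSLen.idxL n m).card : ℕ∞) ≤ Module.length (MvPowerSeries (Fin 3) k)
        (MvPowerSeries (Fin 3) k ⧸ PSLen.Km k n m) :=
      fun m => PSLen.le_length_quot_Km k n hn m
    simp only [key]
    set ℓ : ℕ → ℕ := fun m => (Module.length (MvPowerSeries (Fin 3) k)
        (MvPowerSeries (Fin 3) k ⧸ PSLen.Km k n m)).toNat with hℓ
    have hfin : ∀ m : ℕ, Module.length (MvPowerSeries (Fin 3) k)
        (MvPowerSeries (Fin 3) k ⧸ PSLen.Km k n m) = (ℓ m : ℕ∞) := by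
      intro m
      rw [hℓ]
      simp only
      rw [ENat.natCast_toNat]
      exact ne_top_of_le_ne_top (ENat.natCast_ne_top _) (hup m)
    have hup' : ∀ m : ℕ, 2 * ℓ m ≤ 16 * m * (m + 1) := by
      intro m
      have h := hup m
      rw [hfin m] at h
      have h' : ℓ m ≤ 16 * PSLen.triSum m := by exact_mod_cast h
      have h2 := PSLen.triSum_mul_two m
      nlinarith
    have hlow' : ∀ m : ℕ, 16 * m * m ≤ 2 * ℓ m + 8 * n * m := by
      intro m
      have h := hlow m
      rw [hfin m] at h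
      have h' : (PSLen.idxL n m).card ≤ ℓ m := by exact_mod_cast h
      have h2 := PSLen.card_idxL_ge n m
      nlinarith
    have hlim1 : Tendsto (fun m : ℕ => (16 : ℝ) - (8 * n : ℝ) / (m : ℝ)) atTop (nhds 16) := by
      have := (tendsto_const_div_atTop_nhds_zero_nat (8 * n : ℝ))
      simpa using (tendsto_const_nhds (x := (16 : ℝ))).sub this
    have hlim2 : Tendsto (fun m : ℕ => (16 : ℝ) + (16 : ℝ) / (m : ℝ)) atTop (nhds 16) := by
      have := (tendsto_const_div_atTop_nhds_zero_nat (16 : ℝ))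
      simpa using (tendsto_const_nhds (x := (16 : ℝ))).add this
    refine tendsto_of_tendsto_of_tendsto_of_le_of_le' hlim1 hlim2 ?_ ?_
    · filter_upwards [eventually_ge_atTop 1] with m hm
      have hm' : (0 : ℝ) < (m : ℝ) := by exact_mod_cast hm
      have h := hlow' m
      have hR : (16 : ℝ) * m * m ≤ 2 * (ℓ m : ℝ) + 8 * n * m := by exact_mod_cast h
      rw [le_div_iff₀ (by positivity)]
      have : ((16 : ℝ) - 8 * n / m) * (m : ℝ) ^ 2 = 16 * m * m - 8 * n * m := by
        field_simp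
      rw [this]
      linarith
    · filter_upwards [eventually_ge_atTop 1] with m hm
      have hm' : (0 : ℝ) < (m : ℝ) := by exact_mod_cast hm
      have h := hup' m
      have hR : 2 * (ℓ m : ℝ) ≤ 16 * m * (m + 1) := by exact_mod_cast h
      rw [div_le_iff₀ (by positivity)]
      have : ((16 : ℝ) + 16 / m) * (m : ℝ) ^ 2 = 16 * m * (m + 1) := by
        field_simp
      rw [this]
      exact hR

end Groth.Agent.S19207
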