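import Mathlib
import Groth.Statements.S19209
-- import your own Groth.Agent.* helpers here

set_option autoImplicit false
universe u
open Curves

namespace Groth.Agent.S19209

theorem full_chain_sum (p : ℕ → ℝ) (m : ℕ) :
    (∑ k ∈ Finset.range (m + 1), (p k - p (k + 1)) * ((k : ℝ) + ((k + 1 : ℕ) : ℝ))) =
      2 * (∑ k ∈ Finset.range (m + 1), p k) - p 0 - (2 * ((m : ℝ) + 1) - 1) * p (m + 1) := by
  induction m with
  | zero => simp; ring
  | succ m ih =>
    rw [Finset.sum_range_succ, ih, Finset.sum_range_succ _ (m + 1)]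
    push_cast
    ring

/-- Let n ≥ 1 and let p_0 ≥ p_1 ≥ … ≥ p_n = 0 be real numbers. Then some chain 0 = s_0 < s_1 < … < s_l =
n satisfies Σ_{k<l} (p_{s_k} − p_{s_{k+1}})·(s_k + s_{k+1}) ≤ (2n/(n+1))·(p_0 + p_1 + … + p_n).
Equivalently the minimum of these sums over all chains, which is twice the area under the Newton
polygon (lower convex hull) of the points (k, p_k), is at most 2n/(n+1) times the sum of the
weights. -/
theorem result (n : ℕ) (hn : 1 ≤ n) (p : ℕ → ℝ)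
    (hp : ∀ i j : ℕ, i ≤ j → j ≤ n → p j ≤ p i) (hpn : p n = 0) :
    ∃ (l : ℕ) (s : ℕ → ℕ), s 0 = 0 ∧ s l = n ∧ (∀ k : ℕ, k < l → s k < s (k + 1)) ∧
      (∑ k ∈ Finset.range l, (p (s k) - p (s (k + 1))) * ((s k : ℝ) + (s (k + 1) : ℝ))) ≤
        2 * (n : ℝ) / ((n : ℝ) + 1) * ∑ i ∈ Finset.range (n + 1), p i := by
  obtain ⟨m, rfl⟩ : ∃ m, n = m + 1 := ⟨n - 1, by omega⟩
  set S := ∑ i ∈ Finset.range (m + 1 + 1), p i with hS
  have hpos : (0 : ℝ) < ((m + 1 : ℕ) : ℝ) + 1 := by positivity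
  have hpos' : (0 : ℝ) < ((m + 1 : ℕ) : ℝ) := by positivity
  by_cases hcase : p 0 ≤ 2 / (((m + 1 : ℕ) : ℝ) + 1) * S
  · -- chain 0 → n
    refine ⟨1, fun k => if k = 0 then 0 else m + 1, by simp, by simp, ?_, ?_⟩
    · intro k hk
      have : k = 0 := by omega
      subst this
      simp
    · simp only [Finset.range_one, Finset.sum_singleton]
      simp only [if_true, one_ne_zero, if_false, zero_add, hpn, sub_zero, Nat.cast_zero]
      calc p 0 * ((m + 1 : ℕ) : ℝ) ≤ (2 / (((m + 1 : ℕ) : ℝ) + 1) * S) * ((m + 1 : ℕ) : ℝ) :=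
            mul_le_mul_of_nonneg_right hcase hpos'.le
        _ = 2 * ((m + 1 : ℕ) : ℝ) / (((m + 1 : ℕ) : ℝ) + 1) * S := by ring
  · -- full chain
    push Not at hcase
    refine ⟨m + 1, id, rfl, rfl, fun k _ => Nat.lt_succ_self k, ?_⟩
    simp only [id]
    rw [full_chain_sum p m, hpn, mul_zero, sub_zero]
    have hS' : S = (∑ k ∈ Finset.range (m + 1), p k) := by
      rw [hS, Finset.sum_range_succ, hpn, add_zero]
    rw [← hS']
    have h1 : 2 * ((m + 1 : ℕ) : ℝ) / (((m + 1 : ℕ) : ℝ) + 1) * S =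
        2 * S - 2 / (((m + 1 : ℕ) : ℝ) + 1) * S := by
      field_simp
      ring
    rw [h1]
    linarith

end Groth.Agent.S19209
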