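import Mathlib
import Groth.Statements.S19210
-- import your own Groth.Agent.* helpers here

set_option autoImplicit false
universe u
open LocAlg

namespace Groth.Agent.S19210

theorem pow_succ_ge (x : ℝ) (hx : 0 ≤ x) (b : ℕ) :
    x ^ (b + 1) + ((b : ℝ) + 1) * x ^ b ≤ (x + 1) ^ (b + 1) := by
  induction b with
  | zero => simp
  | succ b ih =>
    have h1 : (x + 1) ^ (b + 1 + 1) = (x + 1) * (x + 1) ^ (b + 1) := by ring
    rw [h1]
    have h2 : (x + 1) * (x ^ (b + 1) + ((b : ℝ) + 1) * x ^ b) ≤ (x + 1) * (x + 1) ^ (b + 1) :=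
      mul_le_mul_of_nonneg_left ih (by linarith)
    have h3 : 0 ≤ x ^ b := pow_nonneg hx b
    have h4 : (x + 1) * (x ^ (b + 1) + ((b : ℝ) + 1) * x ^ b) =
        x ^ (b + 1 + 1) + ((b : ℝ) + 1 + 1) * x ^ (b + 1) + ((b : ℝ) + 1) * x ^ b := by ring
    rw [h4] at h2
    have h5 : 0 ≤ ((b : ℝ) + 1) * x ^ b := mul_nonneg (by positivity) h3
    push_cast
    linarith

theorem pow_succ_le (x : ℝ) (hx : 0 ≤ x) (b : ℕ) :
    (x + 1) ^ (b + 1) ≤ x ^ (b + 1) + ((b : ℝ) + 1) * (x + 1) ^ b := by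
  induction b with
  | zero => simp
  | succ b ih =>
    have h1 : (x + 1) ^ (b + 1 + 1) = (x + 1) * (x + 1) ^ (b + 1) := by ring
    have h2 : (x + 1) * (x + 1) ^ (b + 1) ≤ (x + 1) * (x ^ (b + 1) + ((b : ℝ) + 1) * (x + 1) ^ b) :=
      mul_le_mul_of_nonneg_left ih (by linarith)
    have h3 : x ^ (b + 1) ≤ (x + 1) ^ (b + 1) := pow_le_pow_left₀ hx (by linarith) _
    push_cast
    rw [h1]
    have h4 : (x + 1) * (x ^ (b + 1) + ((b : ℝ) + 1) * (x + 1) ^ b) =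
        x ^ (b + 1 + 1) + x ^ (b + 1) + ((b : ℝ) + 1) * (x + 1) ^ (b + 1) := by ring
    rw [h4] at h2
    linarith

theorem base_bound (b n : ℕ) :
    ((n : ℝ) ^ (b + 1) / ((b : ℝ) + 1) - (n : ℝ) ^ b ≤ ∑ i ∈ Finset.range n, (i : ℝ) ^ b) ∧
      (∑ i ∈ Finset.range n, (i : ℝ) ^ b ≤ (n : ℝ) ^ (b + 1) / ((b : ℝ) + 1)) := by
  have hb : (0 : ℝ) < (b : ℝ) + 1 := by positivity
  induction n with
  | zero =>
    constructor
    · simp
    · simp
  | succ n ih =>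
    obtain ⟨ih1, ih2⟩ := ih
    rw [Finset.sum_range_succ]
    have hn : (0 : ℝ) ≤ (n : ℝ) := Nat.cast_nonneg n
    have hge := pow_succ_ge (n : ℝ) hn b
    have hle := pow_succ_le (n : ℝ) hn b
    push_cast
    constructor
    · have : ((n : ℝ) + 1) ^ (b + 1) / ((b : ℝ) + 1) ≤
          (n : ℝ) ^ (b + 1) / ((b : ℝ) + 1) + ((n : ℝ) + 1) ^ b := by
        rw [div_add' _ _ _ hb.ne']
        apply div_le_div_of_nonneg_right _ hb.le
        linarith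
      linarith
    · have : (n : ℝ) ^ (b + 1) / ((b : ℝ) + 1) + (n : ℝ) ^ b ≤
          ((n : ℝ) + 1) ^ (b + 1) / ((b : ℝ) + 1) := by
        rw [div_add' _ _ _ hb.ne']
        apply div_le_div_of_nonneg_right _ hb.le
        linarith
      linarith

theorem coeff_rec (a b : ℕ) :
    ((a + 1).factorial : ℝ) * (b.factorial : ℝ) / ((a + 1 + b + 1).factorial : ℝ) =
      (a.factorial : ℝ) * (b.factorial : ℝ) / ((a + b + 1).factorial : ℝ) -
        (a.factorial : ℝ) * ((b + 1).factorial : ℝ) / ((a + (b + 1) + 1).factorial : ℝ) := by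
  have e1 : a + 1 + b + 1 = (a + b + 1) + 1 := by ring
  have e2 : a + (b + 1) + 1 = (a + b + 1) + 1 := by ring
  rw [e1, e2, Nat.factorial_succ (a + b + 1), Nat.factorial_succ a, Nat.factorial_succ b]
  have h1 : ((a + b + 1).factorial : ℝ) ≠ 0 := by positivity
  push_cast
  field_simp
  ring

theorem main (a : ℕ) : ∀ b : ℕ, ∃ C : ℝ, ∀ n : ℕ, 1 ≤ n →
    |(∑ i ∈ Finset.range n, ((n : ℝ) - (i : ℝ)) ^ a * (i : ℝ) ^ b) -
        (a.factorial : ℝ) * (b.factorial : ℝ) / ((a + b + 1).factorial : ℝ) * (n : ℝ) ^ (a + b + 1)| ≤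
      C * (n : ℝ) ^ (a + b) := by
  induction a with
  | zero =>
    intro b
    refine ⟨1, fun n _ => ?_⟩
    obtain ⟨h1, h2⟩ := base_bound b n
    simp only [pow_zero, one_mul, Nat.factorial_zero, Nat.cast_one, zero_add]
    have hc : (b.factorial : ℝ) / ((b + 1).factorial : ℝ) * (n : ℝ) ^ (b + 1) =
        (n : ℝ) ^ (b + 1) / ((b : ℝ) + 1) := by
      rw [Nat.factorial_succ]
      have : (b.factorial : ℝ) ≠ 0 := by positivity
      push_cast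
      field_simp
    rw [hc, abs_le]
    constructor <;> linarith
  | succ a ih =>
    intro b
    obtain ⟨C1, hC1⟩ := ih b
    obtain ⟨C2, hC2⟩ := ih (b + 1)
    refine ⟨C1 + C2, fun n hn => ?_⟩
    have hsplit : (∑ i ∈ Finset.range n, ((n : ℝ) - (i : ℝ)) ^ (a + 1) * (i : ℝ) ^ b) =
        (n : ℝ) * (∑ i ∈ Finset.range n, ((n : ℝ) - (i : ℝ)) ^ a * (i : ℝ) ^ b) -
          ∑ i ∈ Finset.range n, ((n : ℝ) - (i : ℝ)) ^ a * (i : ℝ) ^ (b + 1) := by
      rw [Finset.mul_sum, ← Finset.sum_sub_distrib]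
      apply Finset.sum_congr rfl
      intro i _
      ring
    have h1 := hC1 n hn
    have h2 := hC2 n hn
    rw [hsplit, coeff_rec]
    have e1 : a + 1 + b + 1 = (a + b + 1) + 1 := by ring
    have e2 : a + (b + 1) + 1 = (a + b + 1) + 1 := by ring
    have e3 : a + 1 + b = a + b + 1 := by ring
    have e4 : a + (b + 1) = a + b + 1 := by ring
    rw [e2, e4] at h2
    rw [e1, e3, e2]
    have hn0 : (0 : ℝ) ≤ (n : ℝ) := Nat.cast_nonneg n
    set T1 := ∑ i ∈ Finset.range n, ((n : ℝ) - (i : ℝ)) ^ a * (i : ℝ) ^ b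
    set T2 := ∑ i ∈ Finset.range n, ((n : ℝ) - (i : ℝ)) ^ a * (i : ℝ) ^ (b + 1)
    set c1 := (a.factorial : ℝ) * (b.factorial : ℝ) / ((a + b + 1).factorial : ℝ)
    set c2 := (a.factorial : ℝ) * ((b + 1).factorial : ℝ) / ((a + b + 1 + 1).factorial : ℝ)
    have key : (n : ℝ) * T1 - T2 - (c1 - c2) * (n : ℝ) ^ (a + b + 1 + 1) =
        (n : ℝ) * (T1 - c1 * (n : ℝ) ^ (a + b + 1)) - (T2 - c2 * (n : ℝ) ^ (a + b + 1 + 1)) := by
      ring
    rw [key]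
    calc |(n : ℝ) * (T1 - c1 * (n : ℝ) ^ (a + b + 1)) - (T2 - c2 * (n : ℝ) ^ (a + b + 1 + 1))|
        ≤ |(n : ℝ) * (T1 - c1 * (n : ℝ) ^ (a + b + 1))| + |T2 - c2 * (n : ℝ) ^ (a + b + 1 + 1)| :=
          abs_sub _ _
      _ = (n : ℝ) * |T1 - c1 * (n : ℝ) ^ (a + b + 1)| + |T2 - c2 * (n : ℝ) ^ (a + b + 1 + 1)| := by
          rw [abs_mul, abs_of_nonneg hn0]
      _ ≤ (n : ℝ) * (C1 * (n : ℝ) ^ (a + b)) + C2 * (n : ℝ) ^ (a + b + 1) := by
          apply add_le_add (mul_le_mul_of_nonneg_left h1 hn0) h2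
      _ = (C1 + C2) * (n : ℝ) ^ (a + b + 1) := by ring

/-- For natural numbers j ≤ r, the sums Σ_{i=0}^{n−1} (n − i)^{r−j} i^j equal n^{r+1}·(r − j)!·j!/(r +
1)! up to O(n^r): there is a real constant C with |Σ_{i<n} (n − i)^{r−j} i^j − ((r − j)!·j!/(r +
1)!)·n^{r+1}| ≤ C·n^r for all n ≥ 1. -/
theorem result (r j : ℕ) (hj : j ≤ r) :
    ∃ C : ℝ, ∀ n : ℕ, 1 ≤ n →
      |(∑ i ∈ Finset.range n, ((n : ℝ) - (i : ℝ)) ^ (r - j) * (i : ℝ) ^ j) -
          ((r - j).factorial : ℝ) * (j.factorial : ℝ) / ((r + 1).factorial : ℝ) * (n : ℝ) ^ (r + 1)| ≤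
        C * (n : ℝ) ^ r := by
  obtain ⟨C, hC⟩ := main (r - j) j
  rw [Nat.sub_add_cancel hj] at hC
  exact ⟨C, hC⟩

end Groth.Agent.S19210
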