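import Groth.Statements.S19216
import Mathlib

set_option autoImplicit false
universe u
open SymRep

namespace Groth.Agent.S19216

/-- The linear map used for the decomposition. -/
noncomputable def Emap (k : Type u) [Field k] (r s : ℕ) :
    (Fin r ⊕ Fin s → k) →ₗ[k] (Fin r → k) × (Fin s → k) × k where
  toFun f := (fun i => f (Sum.inl i) - (r : k)⁻¹ * ∑ i, f (Sum.inl i),
    fun j => f (Sum.inr j) - (s : k)⁻¹ * ∑ j, f (Sum.inr j),
    (r : k)⁻¹ * ∑ i, f (Sum.inl i))
  map_add' f g := by
    refine Prod.ext ?_ (Prod.ext ?_ ?_)
    · funext i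
      simp only [Pi.add_apply, Finset.sum_add_distrib, Prod.fst_add]
      ring
    · funext j
      simp only [Pi.add_apply, Finset.sum_add_distrib, Prod.snd_add, Prod.fst_add]
      ring
    · simp only [Pi.add_apply, Finset.sum_add_distrib, Prod.snd_add]
      ring
  map_smul' c f := by
    refine Prod.ext ?_ (Prod.ext ?_ ?_)
    · funext i
      simp only [Pi.smul_apply, smul_eq_mul, ← Finset.mul_sum, Prod.smul_fst, RingHom.id_apply]
      ring
    · funext j
      simp only [Pi.smul_apply, smul_eq_mul, ← Finset.mul_sum, Prod.smul_snd, Prod.smul_fst,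
        RingHom.id_apply]
      ring
    · simp only [Pi.smul_apply, smul_eq_mul, ← Finset.mul_sum, Prod.smul_snd, RingHom.id_apply]
      ring

/-- Let k be a field of characteristic zero and r, s ≥ 1. Realise the standard representation of the
symmetric group on a finite set T as the hyperplane of functions T → k with sum zero, the group
acting by precomposition with the inverse. Then the standard representation of the symmetric group
of Fin r ⊕ Fin s, restricted to the subgroup S_r × S_s, is isomorphic to the direct sum of the
standard representations of S_r and of S_s and of a one-dimensional trivial representation: there is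
a k-linear map E from functions on Fin r ⊕ Fin s to triples (function on Fin r, function on Fin s,
scalar), compatible with the actions of S_r × S_s (trivial on the scalar), which maps the sum-zero
hyperplane bijectively onto the product of the two sum-zero hyperplanes and k. (The published
statement is over the complex numbers; a field of characteristic zero is used here. The published
statement also gives the analogous decomposition for any number of blocks, which follows by
induction; only the two-block case is stated here.) -/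
theorem result (k : Type u) [Field k] [CharZero k]
    (r s : ℕ) (hr : 1 ≤ r) (hs : 1 ≤ s) :
    ∃ E : (Fin r ⊕ Fin s → k) →ₗ[k] (Fin r → k) × (Fin s → k) × k,
      (∀ (σ : Equiv.Perm (Fin r)) (τ : Equiv.Perm (Fin s)) (f : Fin r ⊕ Fin s → k),
        E (f ∘ ⇑(Equiv.sumCongr σ τ).symm) = ((E f).1 ∘ ⇑σ.symm, (E f).2.1 ∘ ⇑τ.symm, (E f).2.2)) ∧
      Set.BijOn E {f | ∑ i, f i = 0}
        ({g : Fin r → k | ∑ i, g i = 0} ×ˢ ({h : Fin s → k | ∑ i, h i = 0} ×ˢ Set.univ)) := by
  have hr0 : (r : k) ≠ 0 := by exact_mod_cast (by omega : r ≠ 0)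
  have hs0 : (s : k) ≠ 0 := by exact_mod_cast (by omega : s ≠ 0)
  refine ⟨Emap k r s, ?_, ?_, ?_, ?_⟩
  · intro σ τ f
    have h1 : ∑ i, f (Sum.inl (σ.symm i)) = ∑ i, f (Sum.inl i) :=
      Equiv.sum_comp σ.symm (fun i => f (Sum.inl i))
    have h2 : ∑ j, f (Sum.inr (τ.symm j)) = ∑ j, f (Sum.inr j) :=
      Equiv.sum_comp τ.symm (fun j => f (Sum.inr j))
    refine Prod.ext ?_ (Prod.ext ?_ ?_)
    · funext i
      simp [Emap, h1]
    · funext j
      simp [Emap, h2]
    · simp [Emap, h1]
  · -- MapsTo
    intro f _
    refine ⟨?_, ?_, trivial⟩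
    · change ∑ i, (f (Sum.inl i) - (r : k)⁻¹ * ∑ i, f (Sum.inl i)) = 0
      rw [Finset.sum_sub_distrib, Finset.sum_const, Finset.card_univ, Fintype.card_fin, nsmul_eq_mul,
        ← mul_assoc, mul_inv_cancel₀ hr0, one_mul, sub_self]
    · change ∑ j, (f (Sum.inr j) - (s : k)⁻¹ * ∑ j, f (Sum.inr j)) = 0
      rw [Finset.sum_sub_distrib, Finset.sum_const, Finset.card_univ, Fintype.card_fin, nsmul_eq_mul,
        ← mul_assoc, mul_inv_cancel₀ hs0, one_mul, sub_self]
  · -- InjOn
    intro f hf g hg hfg
    have hf' : ∑ i, f (Sum.inl i) + ∑ j, f (Sum.inr j) = 0 := by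
      rw [← Fintype.sum_sum_type]; exact hf
    have hg' : ∑ i, g (Sum.inl i) + ∑ j, g (Sum.inr j) = 0 := by
      rw [← Fintype.sum_sum_type]; exact hg
    have e1 := congrArg (fun x => x.1) hfg
    have e2 := congrArg (fun x => x.2.1) hfg
    have e3 := congrArg (fun x => x.2.2) hfg
    simp only [Emap, LinearMap.coe_mk, AddHom.coe_mk] at e1 e2 e3
    have ha : ∑ i, f (Sum.inl i) = ∑ i, g (Sum.inl i) := by
      have := mul_left_cancel₀ (inv_ne_zero hr0) e3
      exact this
    have hb : ∑ j, f (Sum.inr j) = ∑ j, g (Sum.inr j) := by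
      linear_combination hf' - hg' - ha
    funext x
    rcases x with i | j
    · have := congrFun e1 i
      simp only [ha] at this
      exact sub_left_injective this
    · have := congrFun e2 j
      simp only [hb] at this
      exact sub_left_injective this
  · -- SurjOn
    rintro ⟨g, h, c⟩ ⟨hg, hh, -⟩
    have hg' : ∑ i, g i = 0 := hg
    have hh' : ∑ j, h j = 0 := hh
    refine ⟨Sum.elim (fun i => g i + c) (fun j => h j - (r : k) * (s : k)⁻¹ * c), ?_, ?_⟩
    · change ∑ x, Sum.elim (fun i => g i + c) (fun j => h j - (r : k) * (s : k)⁻¹ * c) x = 0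
      rw [Fintype.sum_sum_type]
      simp only [Sum.elim_inl, Sum.elim_inr, Finset.sum_add_distrib, Finset.sum_sub_distrib, hg', hh',
        Finset.sum_const, Finset.card_univ, Fintype.card_fin, nsmul_eq_mul]
      field_simp
      ring
    · have hsum1 : ∑ i : Fin r, (g i + c) = (r : k) * c := by
        rw [Finset.sum_add_distrib, hg', Finset.sum_const, Finset.card_univ, Fintype.card_fin,
          nsmul_eq_mul, zero_add]
      have hsum2 : ∑ j : Fin s, (h j - (r : k) * (s : k)⁻¹ * c) = -((r : k) * c) := by
        rw [Finset.sum_sub_distrib, hh', Finset.sum_const, Finset.card_univ, Fintype.card_fin,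
          nsmul_eq_mul, zero_sub]
        field_simp
      refine Prod.ext ?_ (Prod.ext ?_ ?_)
      · funext i
        simp only [Emap, LinearMap.coe_mk, AddHom.coe_mk, Sum.elim_inl, hsum1]
        field_simp
        ring
      · funext j
        simp only [Emap, LinearMap.coe_mk, AddHom.coe_mk, Sum.elim_inr, hsum2]
        field_simp
        ring
      · simp only [Emap, LinearMap.coe_mk, AddHom.coe_mk, Sum.elim_inl, hsum1]
        field_simp

end Groth.Agent.S19216
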