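import Mathlib
import Groth.Statements.S19218
-- import your own Groth.Agent.* helpers here

set_option autoImplicit false
universe u v
open TensorProduct
open DiagIdeal

namespace Groth.Agent.S19218

section aux

variable {k : Type u} [Field k] {A : Type v} [CommRing A] [Algebra k A] {n : ℕ}


theorem reindex_mul (σ : Equiv.Perm (Fin n)) (x y : ⨂[k] _ : Fin n, A) :
    PiTensorProduct.reindex k (fun _ : Fin n => A) σ (x * y) =
      (PiTensorProduct.reindex k (fun _ : Fin n => A) σ x : ⨂[k] _ : Fin n, A) *
        (PiTensorProduct.reindex k (fun _ : Fin n => A) σ y : ⨂[k] _ : Fin n, A) := by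
  induction x using PiTensorProduct.induction_on with
  | smul_tprod r f =>
    induction y using PiTensorProduct.induction_on with
    | smul_tprod r' g =>
      simp only [map_smul, smul_mul_assoc, mul_smul_comm, PiTensorProduct.tprod_mul_tprod,
        PiTensorProduct.reindex_tprod]
      rfl
    | add y y' hy hy' => rw [mul_add, map_add, map_add, mul_add, hy, hy']
  | add x x' hx hx' => rw [add_mul, map_add, map_add, add_mul, hx, hx']

/-- the action of a permutation as an algebra endomorphism -/
noncomputable def T (σ : Equiv.Perm (Fin n)) :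
    (⨂[k] _ : Fin n, A) →ₐ[k] (⨂[k] _ : Fin n, A) :=
  AlgHom.ofLinearMap (PiTensorProduct.reindex k (fun _ : Fin n => A) σ).toLinearMap
    (by
      rw [PiTensorProduct.one_def]
      change PiTensorProduct.reindex k (fun _ : Fin n => A) σ _ = _
      rw [PiTensorProduct.reindex_tprod]
      rfl)
    (fun x y => reindex_mul σ x y)

theorem T_apply (σ : Equiv.Perm (Fin n)) (x : ⨂[k] _ : Fin n, A) :
    T σ x = PiTensorProduct.reindex k (fun _ : Fin n => A) σ x := rfl

theorem T_single (σ : Equiv.Perm (Fin n)) (l : Fin n) (a : A) :
    T σ (PiTensorProduct.singleAlgHom (R := k) (A := fun _ : Fin n => A) l a) =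
      PiTensorProduct.singleAlgHom (R := k) (A := fun _ : Fin n => A) (σ l) a := by
  rw [T_apply, PiTensorProduct.singleAlgHom_apply, PiTensorProduct.singleAlgHom_apply,
    PiTensorProduct.reindex_tprod]
  congr 1
  funext i
  simp only [MonoidHom.mulSingle_apply, Pi.mulSingle_apply]
  by_cases h : i = σ l
  · subst h; simp
  · rw [if_neg h, if_neg]
    intro h'
    exact h (by rw [← h', Equiv.apply_symm_apply])

end aux

/-- Let k be an algebraically closed field of characteristic zero and A a smooth k-algebra which is a
domain of Krull dimension 2. In the n-fold tensor power R of A over k, indexed by Fin n, let I_p (p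
= (i, j), i < j) be the ideal generated by the a_i − a_j, a ∈ A, and let I be the intersection of
the I_p, the ideal of the big diagonal. Assume that for every s ≥ 0 the power I ^ s is the
intersection of the powers I_p ^ s (a property of the big diagonal of a smooth surface that the
source takes from the literature). Then for m ≥ 1 every element of R fixed by all permutations of
the n factors and lying in I ^ (2m − 1) lies in I ^ (2m): on the symmetric product the invariants of
the odd power and of the next even power of the ideal of the big diagonal coincide. (The source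
states the sheaf version for a smooth quasi-projective complex surface, using the displayed property
of the powers without restating it as a hypothesis.) -/
theorem result (k : Type u) [Field k] [IsAlgClosed k] [CharZero k]
    (A : Type v) [CommRing A] [Algebra k A] [Algebra.Smooth k A] [IsDomain A]
    (hdim : ringKrullDim A = 2) (n : ℕ)
    (I : Fin n × Fin n → Ideal (⨂[k] _ : Fin n, A))
    (hI : ∀ p, I p = Ideal.span (Set.range fun a : A =>
        PiTensorProduct.singleAlgHom (R := k) (A := fun _ : Fin n => A) p.1 a -
        PiTensorProduct.singleAlgHom (R := k) (A := fun _ : Fin n => A) p.2 a))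
    (IΔ : Ideal (⨂[k] _ : Fin n, A))
    (hIΔ : IΔ = ⨅ p ∈ Finset.univ.filter (fun p : Fin n × Fin n => p.1 < p.2), I p)
    (hpow : ∀ s : ℕ, IΔ ^ s = ⨅ p ∈ Finset.univ.filter (fun p : Fin n × Fin n => p.1 < p.2), (I p) ^ s)
    (m : ℕ) (hm : 1 ≤ m) (x : ⨂[k] _ : Fin n, A)
    (hx : ∀ σ : Equiv.Perm (Fin n), PiTensorProduct.reindex k (fun _ : Fin n => A) σ x = x)
    (hmem : x ∈ IΔ ^ (2 * m - 1)) :
    x ∈ IΔ ^ (2 * m) := by
  classical
  rw [hpow (2 * m)]
  rw [hpow (2 * m - 1)] at hmem
  simp only [Submodule.mem_iInf] at hmem ⊢
  intro p hp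
  have hmem_p := hmem p hp
  have hlt : p.1 < p.2 := (Finset.mem_filter.mp hp).2
  have hne : p.1 ≠ p.2 := ne_of_lt hlt
  set i := p.1 with hi
  set j := p.2 with hj
  set τ : Equiv.Perm (Fin n) := Equiv.swap i j with hτ
  set J : Ideal (⨂[k] _ : Fin n, A) := I p with hJ
  have hJspan := hI p
  rw [← hJ] at hJspan
  have hgen : ∀ a : A, PiTensorProduct.singleAlgHom (R := k) (A := fun _ : Fin n => A) i a -
      PiTensorProduct.singleAlgHom (R := k) (A := fun _ : Fin n => A) j a ∈ J := by
    intro a
    rw [hJspan]
    exact Ideal.subset_span ⟨a, rfl⟩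
  -- P_0
  have hP0 : ∀ r : ⨂[k] _ : Fin n, A, T τ r - r ∈ J := by
    have hcomp : (Ideal.Quotient.mkₐ k J).comp (T τ) = Ideal.Quotient.mkₐ k J := by
      apply PiTensorProduct.algHom_ext
      intro l
      ext a
      simp only [AlgHom.comp_apply, Ideal.Quotient.mkₐ_eq_mk]
      rw [T_single, Ideal.Quotient.eq]
      by_cases hli : l = i
      · subst hli
        rw [hτ, Equiv.swap_apply_left]
        have := J.neg_mem (hgen a)
        rwa [neg_sub] at this
      · by_cases hlj : l = j
        · subst hlj
          rw [hτ, Equiv.swap_apply_right]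
          exact hgen a
        · rw [hτ, Equiv.swap_apply_of_ne_of_ne hli hlj, sub_self]
          exact J.zero_mem
    intro r
    have := congrArg (fun φ => φ r) hcomp
    simp only [AlgHom.comp_apply, Ideal.Quotient.mkₐ_eq_mk] at this
    exact Ideal.Quotient.eq.mp this
  -- P_1
  have hP1 : ∀ g ∈ J, T τ g + g ∈ J ^ 2 := by
    intro g hg
    rw [hJspan] at hg
    induction hg using Submodule.span_induction with
    | mem g hg =>
      obtain ⟨a, rfl⟩ := hg
      rw [map_sub, T_single, T_single, hτ, Equiv.swap_apply_left, Equiv.swap_apply_right]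
      rw [sub_add_sub_cancel, sub_self]
      exact (J ^ 2).zero_mem
    | zero => rw [map_zero, add_zero]; exact (J ^ 2).zero_mem
    | add g g' _ _ h1 h2 =>
      have : T τ (g + g') + (g + g') = (T τ g + g) + (T τ g' + g') := by rw [map_add]; ring
      rw [this]
      exact Submodule.add_mem _ h1 h2
    | smul r g hg h1 =>
      have hgJ : g ∈ J := by rw [hJspan]; exact hg
      have : T τ (r • g) + r • g = (T τ r - r) * (T τ g + g) - (T τ r - r) * g + r * (T τ g + g) := by
        rw [smul_eq_mul, map_mul]; ring
      rw [this]
      refine Submodule.add_mem _ (Submodule.sub_mem _ ?_ ?_) ?_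
      · exact Ideal.mul_mem_left _ _ h1
      · rw [pow_two]
        exact Ideal.mul_mem_mul (hP0 r) hgJ
      · exact Ideal.mul_mem_left _ _ h1
  have hTJ : ∀ g ∈ J, T τ g ∈ J := by
    intro g hg
    have h1 := hP1 g hg
    have h2 : T τ g = (T τ g + g) - g := by ring
    rw [h2]
    exact Submodule.sub_mem _ (Ideal.pow_le_self two_ne_zero h1) hg
  -- P_s
  have hPs : ∀ s : ℕ, ∀ y ∈ J ^ s, T τ y - (-1) ^ s * y ∈ J ^ (s + 1) := by
    intro s
    induction s with
    | zero =>
      intro y _
      rw [pow_zero, one_mul, zero_add, pow_one]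
      exact hP0 y
    | succ s ih =>
      intro y hy
      rw [pow_succ] at hy
      refine Submodule.mul_induction_on hy ?_ ?_
      · intro y' hy' g hg
        have : T τ (y' * g) - (-1) ^ (s + 1) * (y' * g) =
            (T τ y' - (-1) ^ s * y') * T τ g + (-1) ^ s * (y' * (T τ g + g)) := by
          rw [map_mul]; ring
        rw [this]
        refine Submodule.add_mem _ ?_ ?_
        · rw [pow_succ (J) (s + 1)]
          exact Ideal.mul_mem_mul (ih y' hy') (hTJ g hg)
        · apply Ideal.mul_mem_left
          have h2 : J ^ (s + 1 + 1) = J ^ s * J ^ 2 := by rw [← pow_add]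
          rw [h2]
          exact Ideal.mul_mem_mul hy' (hP1 g hg)
      · intro y y' h1 h2
        have : T τ (y + y') - (-1) ^ (s + 1) * (y + y') =
            (T τ y - (-1) ^ (s + 1) * y) + (T τ y' - (-1) ^ (s + 1) * y') := by
          rw [map_add]; ring
        rw [this]
        exact Submodule.add_mem _ h1 h2
  -- conclusion
  have h1 := hPs (2 * m - 1) x hmem_p
  have hodd : Odd (2 * m - 1) := by
    refine ⟨m - 1, by omega⟩
  have hTx : T τ x = x := hx τ
  rw [hodd.neg_one_pow, hTx, show 2 * m - 1 + 1 = 2 * m by omega] at h1
  have h2 : x = (2 : k)⁻¹ • (x - -1 * x) := by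
    have : x - -1 * x = (2 : k) • x := by rw [two_smul]; ring
    rw [this, smul_smul, inv_mul_cancel₀ (two_ne_zero), one_smul]
  rw [h2]
  exact Submodule.smul_of_tower_mem _ _ h1

end Groth.Agent.S19218
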