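import Mathlib
import Groth.Statements.S19221
-- import your own Groth.Agent.* helpers here

set_option autoImplicit false
universe u
open SymRep

namespace Groth.Agent.S19221

namespace W

/-- integer-valued cycle function -/
def zI (i j l a b : Fin 4) : ℤ :=
  (if a = i ∧ b = j then 1 else 0) + (if a = j ∧ b = l then 1 else 0) + (if a = l ∧ b = i then 1 else 0)
    - (if a = j ∧ b = i then 1 else 0) - (if a = l ∧ b = j then 1 else 0) - (if a = i ∧ b = l then 1 else 0)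

theorem det4 {k : Type u} [Field k] (a b c d : k) :
    Matrix.det !![a, c, 0, 0; 0, 0, a, c; b, d, 0, 0; 0, 0, b, d] = -(a * d - b * c) ^ 2 := by
  rw [Matrix.det_succ_row_zero]
  simp [Fin.sum_univ_succ, Matrix.det_fin_three, Fin.succAbove]
  ring

theorem swap4 {R : Type*} [Ring R] (a0 a1 b0 b1 : R) (h00 : b0 * a0 = -(a0 * b0))
    (h10 : b1 * a0 = -(a0 * b1)) (h01 : b0 * a1 = -(a1 * b0)) (h11 : b1 * a1 = -(a1 * b1)) :
    b0 * b1 * a0 * a1 = a0 * a1 * b0 * b1 := by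
  have e1 : b0 * b1 * a0 * a1 = b0 * (b1 * a0) * a1 := by noncomm_ring
  rw [e1, h10]
  have e2 : b0 * -(a0 * b1) * a1 = -((b0 * a0) * (b1 * a1)) := by noncomm_ring
  rw [e2, h00, h11]
  have e3 : -(-(a0 * b0) * -(a1 * b1)) = -(a0 * (b0 * a1) * b1) := by noncomm_ring
  rw [e3, h01]
  noncomm_ring

section
variable (k : Type u) [Field k]
    (P : Equiv.Perm (Fin 4) → ((Fin 2 → Fin 4 → Fin 4 → k) →ₗ[k] (Fin 2 → Fin 4 → Fin 4 → k)))
    (hP : ∀ (σ : Equiv.Perm (Fin 4)) (f : Fin 2 → Fin 4 → Fin 4 → k) (c : Fin 2) (a b : Fin 4),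
      P σ f c a b = f c (σ.symm a) (σ.symm b))
    (z : Fin 2 → Fin 4 → Fin 4 → Fin 4 → (Fin 2 → Fin 4 → Fin 4 → k))
    (hz : ∀ (c : Fin 2) (i j l : Fin 4) (c' : Fin 2) (a b : Fin 4), z c i j l c' a b =
      if c' = c then
        ((if a = i ∧ b = j then 1 else 0) + (if a = j ∧ b = l then 1 else 0) + (if a = l ∧ b = i then 1 else 0)
          - (if a = j ∧ b = i then 1 else 0) - (if a = l ∧ b = j then 1 else 0) - (if a = i ∧ b = l then 1 else 0))
      else 0)

include hz in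
theorem hz' (c : Fin 2) (i j l : Fin 4) (c' : Fin 2) (a b : Fin 4) :
    z c i j l c' a b = if c' = c then ((zI i j l a b : ℤ) : k) else 0 := by
  rw [hz]
  unfold zI
  push_cast
  rfl

include hz in
theorem z_rev (c : Fin 2) (i j l : Fin 4) : z c l j i = - z c i j l := by
  funext c' a b
  rw [Pi.neg_apply, Pi.neg_apply, Pi.neg_apply, hz, hz]
  by_cases h : c' = c
  · rw [if_pos h, if_pos h]
    ring
  · rw [if_neg h, if_neg h, neg_zero]

include hz in
theorem z_rot (c : Fin 2) (i j l : Fin 4) : z c j l i = z c i j l := by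
  funext c' a b
  rw [hz, hz]
  by_cases h : c' = c
  · rw [if_pos h, if_pos h]
    ring
  · rw [if_neg h, if_neg h]

include hP hz in
theorem P_z (σ : Equiv.Perm (Fin 4)) (c : Fin 2) (i j l : Fin 4) :
    P σ (z c i j l) = z c (σ i) (σ j) (σ l) := by
  funext c' a b
  rw [hP, hz, hz]
  simp only [Equiv.symm_apply_eq]


include hP hz in
theorem part1 (ω : ExteriorAlgebra k (Fin 2 → Fin 4 → Fin 4 → k))
    (hω : ω = ExteriorAlgebra.ι k (z 0 0 1 2) * ExteriorAlgebra.ι k (z 1 0 1 2) *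
      ExteriorAlgebra.ι k (z 0 0 2 3) * ExteriorAlgebra.ι k (z 1 0 2 3)) :
    ExteriorAlgebra.map (P (Equiv.swap 0 2)) ω = ω := by
  have h0 : (Equiv.swap (0 : Fin 4) 2) 0 = 2 := by decide
  have h1 : (Equiv.swap (0 : Fin 4) 2) 1 = 1 := by decide
  have h2 : (Equiv.swap (0 : Fin 4) 2) 2 = 0 := by decide
  have h3 : (Equiv.swap (0 : Fin 4) 2) 3 = 3 := by decide
  have hA : ∀ c, P (Equiv.swap 0 2) (z c 0 1 2) = - z c 0 1 2 := by
    intro c
    rw [P_z k P hP z hz, h0, h1, h2, z_rev k z hz]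
  have hB : ∀ c, P (Equiv.swap 0 2) (z c 0 2 3) = - z c 0 2 3 := by
    intro c
    rw [P_z k P hP z hz, h0, h2, h3, z_rot k z hz c 3 2 0, z_rev k z hz]
  rw [hω]
  simp only [map_mul, ExteriorAlgebra.map_apply_ι, hA, hB, map_neg, neg_mul, mul_neg, neg_neg]

include hP hz in
theorem part2 (ω : ExteriorAlgebra k (Fin 2 → Fin 4 → Fin 4 → k))
    (hω : ω = ExteriorAlgebra.ι k (z 0 0 1 2) * ExteriorAlgebra.ι k (z 1 0 1 2) *
      ExteriorAlgebra.ι k (z 0 0 2 3) * ExteriorAlgebra.ι k (z 1 0 2 3)) :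
    ExteriorAlgebra.map (P (Equiv.swap 1 3)) ω = ω := by
  have h0 : (Equiv.swap (1 : Fin 4) 3) 0 = 0 := by decide
  have h1 : (Equiv.swap (1 : Fin 4) 3) 1 = 3 := by decide
  have h2 : (Equiv.swap (1 : Fin 4) 3) 2 = 2 := by decide
  have h3 : (Equiv.swap (1 : Fin 4) 3) 3 = 1 := by decide
  have hA : ∀ c, P (Equiv.swap 1 3) (z c 0 1 2) = - z c 0 2 3 := by
    intro c
    rw [P_z k P hP z hz, h0, h1, h2, z_rev k z hz c 2 3 0, z_rot k z hz c 0 2 3]
  have hB : ∀ c, P (Equiv.swap 1 3) (z c 0 2 3) = - z c 0 1 2 := by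
    intro c
    rw [P_z k P hP z hz, h0, h2, h3, z_rev k z hz c 1 2 0, z_rot k z hz c 0 1 2]
  have anti : ∀ u v : Fin 2 → Fin 4 → Fin 4 → k,
      ExteriorAlgebra.ι k u * ExteriorAlgebra.ι k v =
        -(ExteriorAlgebra.ι k v * ExteriorAlgebra.ι k u) := fun u v =>
    eq_neg_of_add_eq_zero_left (ExteriorAlgebra.ι_add_mul_swap u v)
  rw [hω]
  simp only [map_mul, ExteriorAlgebra.map_apply_ι, hA, hB, map_neg, neg_mul, mul_neg, neg_neg]
  exact swap4 _ _ _ _ (anti _ _) (anti _ _) (anti _ _) (anti _ _)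


/-- the coordinate map -/
def L : (Fin 2 → Fin 4 → Fin 4 → k) →ₗ[k] (Fin 4 → k) where
  toFun f := ![f 0 1 2, f 0 2 3, f 1 1 2, f 1 2 3]
  map_add' f g := by
    ext i
    fin_cases i <;> rfl
  map_smul' r f := by
    ext i
    fin_cases i <;> rfl

/-- the functional on the exterior algebra -/
noncomputable def Phi : ExteriorAlgebra k (Fin 2 → Fin 4 → Fin 4 → k) →ₗ[k] k :=
  ExteriorAlgebra.liftAlternating
    (Function.update (0 : ∀ i, (Fin 2 → Fin 4 → Fin 4 → k) [⋀^Fin i]→ₗ[k] k) 4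
      ((Matrix.detRowAlternating (n := Fin 4) (R := k)).compLinearMap (L k)))

theorem Phi_ιMulti (v : Fin 4 → (Fin 2 → Fin 4 → Fin 4 → k)) :
    Phi k (ExteriorAlgebra.ιMulti k 4 v) = Matrix.det (Matrix.of fun i => L k (v i)) := by
  unfold Phi
  rw [ExteriorAlgebra.liftAlternating_apply_ιMulti, Function.update_self]
  rfl

/-- the integer minor -/
def Mi (σ : Equiv.Perm (Fin 4)) : ℤ :=
  zI 0 1 2 (σ.symm 1) (σ.symm 2) * zI 0 2 3 (σ.symm 2) (σ.symm 3)
    - zI 0 2 3 (σ.symm 1) (σ.symm 2) * zI 0 1 2 (σ.symm 2) (σ.symm 3)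

include hP hz in
theorem Phi_map (σ : Equiv.Perm (Fin 4)) (ω : ExteriorAlgebra k (Fin 2 → Fin 4 → Fin 4 → k))
    (hω : ω = ExteriorAlgebra.ι k (z 0 0 1 2) * ExteriorAlgebra.ι k (z 1 0 1 2) *
      ExteriorAlgebra.ι k (z 0 0 2 3) * ExteriorAlgebra.ι k (z 1 0 2 3)) :
    Phi k (ExteriorAlgebra.map (P σ) ω) = -((Mi σ : ℤ) : k) ^ 2 := by
  have hω' : ω = ExteriorAlgebra.ιMulti k 4 ![z 0 0 1 2, z 1 0 1 2, z 0 0 2 3, z 1 0 2 3] := by
    rw [hω, ExteriorAlgebra.ιMulti_apply]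
    simp [List.ofFn_succ, mul_assoc]
  rw [hω', ExteriorAlgebra.map_apply_ιMulti, Phi_ιMulti]
  have hmat : (Matrix.of fun i => L k ((⇑(P σ) ∘ ![z 0 0 1 2, z 1 0 1 2, z 0 0 2 3, z 1 0 2 3]) i)) =
      !![((zI 0 1 2 (σ.symm 1) (σ.symm 2) : ℤ) : k), ((zI 0 1 2 (σ.symm 2) (σ.symm 3) : ℤ) : k), 0, 0;
         0, 0, ((zI 0 1 2 (σ.symm 1) (σ.symm 2) : ℤ) : k), ((zI 0 1 2 (σ.symm 2) (σ.symm 3) : ℤ) : k);
         ((zI 0 2 3 (σ.symm 1) (σ.symm 2) : ℤ) : k), ((zI 0 2 3 (σ.symm 2) (σ.symm 3) : ℤ) : k), 0, 0;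
         0, 0, ((zI 0 2 3 (σ.symm 1) (σ.symm 2) : ℤ) : k), ((zI 0 2 3 (σ.symm 2) (σ.symm 3) : ℤ) : k)] := by
    ext i j
    fin_cases i <;> fin_cases j <;>
      simp [L, hP, hz' k z hz]
  rw [hmat, det4]
  unfold Mi
  push_cast
  ring


theorem Mi_one : Mi 1 = 1 := by
  have h : ∀ a : Fin 4, (1 : Equiv.Perm (Fin 4)).symm a = a := fun a => rfl
  unfold Mi zI
  simp only [h]
  decide

include hP hz in
theorem part3 [CharZero k] (ω : ExteriorAlgebra k (Fin 2 → Fin 4 → Fin 4 → k))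
    (hω : ω = ExteriorAlgebra.ι k (z 0 0 1 2) * ExteriorAlgebra.ι k (z 1 0 1 2) *
      ExteriorAlgebra.ι k (z 0 0 2 3) * ExteriorAlgebra.ι k (z 1 0 2 3)) :
    (∑ σ : Equiv.Perm (Fin 4), ExteriorAlgebra.map (P σ) ω) ≠ 0 := by
  intro h0
  have h1 := congrArg (Phi k) h0
  rw [map_sum, map_zero] at h1
  simp only [Phi_map k P hP z hz _ ω hω] at h1
  have h2 : ((-(∑ σ : Equiv.Perm (Fin 4), (Mi σ) ^ 2) : ℤ) : k) = 0 := by
    push_cast
    rw [← h1, Finset.sum_neg_distrib]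
  have h3 : (-(∑ σ : Equiv.Perm (Fin 4), (Mi σ) ^ 2) : ℤ) = 0 := by exact_mod_cast h2
  have h4 : (Mi 1) ^ 2 ≤ ∑ σ : Equiv.Perm (Fin 4), (Mi σ) ^ 2 :=
    Finset.single_le_sum (f := fun σ => (Mi σ) ^ 2) (fun σ _ => sq_nonneg _) (Finset.mem_univ 1)
  rw [Mi_one] at h4
  omega

end

end W


/-- Let k be a field of characteristic zero and F the k-space of functions Fin 2 → Fin 4 → Fin 4 → k,
with the symmetric group of Fin 4 acting through P σ f c a b = f c (σ⁻¹ a) (σ⁻¹ b). The signed edge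
vectors of the complete graph on four vertices live in F as the functions antisymmetric in the two
vertex arguments, and for a colour c and an oriented 3-cycle i → j → l → i the cycle vector z c i j
l is the function equal, in colour c, to +1 at (i,j), (j,l), (l,i), to −1 at (j,i), (l,j), (i,l) and
to 0 elsewhere (and 0 in the other colour); these cycle vectors span k² ⊗ (cycle space), the
representation written C² ⊗ q in the published text. Let Γ be the graph with edges 01, 02, 03, 12,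
23 (a 4-cycle with one chord), whose cycle space is spanned by the cycles (0,1,2) and (0,2,3), and
let ω be the product in the exterior algebra of F of the four vectors z 0 0 1 2, z 1 0 1 2, z 0 0 2
3, z 1 0 2 3 (a generator of the top exterior power of k² ⊗ q_Γ). Then ω is fixed by the stabiliser
of Γ in the symmetric group (generated by the transpositions (0 2) and (1 3)), and the sum over all
24 permutations σ of the images of ω under the maps induced by P σ is nonzero: the projection of ω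
to the invariants of the fourth exterior power of k² ⊗ q_{K₄} does not vanish. (The published
statement is over the complex numbers; a field of characteristic zero is used here. The published
statement also asserts that this map is an isomorphism onto the one-dimensional space of
S₄-invariants of the fourth exterior power of k² ⊗ q_{K₄}; only its non-vanishing is stated here.) -/
theorem result (k : Type u) [Field k] [CharZero k]
    (P : Equiv.Perm (Fin 4) → ((Fin 2 → Fin 4 → Fin 4 → k) →ₗ[k] (Fin 2 → Fin 4 → Fin 4 → k)))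
    (hP : ∀ (σ : Equiv.Perm (Fin 4)) (f : Fin 2 → Fin 4 → Fin 4 → k) (c : Fin 2) (a b : Fin 4),
      P σ f c a b = f c (σ.symm a) (σ.symm b))
    (z : Fin 2 → Fin 4 → Fin 4 → Fin 4 → (Fin 2 → Fin 4 → Fin 4 → k))
    (hz : ∀ (c : Fin 2) (i j l : Fin 4) (c' : Fin 2) (a b : Fin 4), z c i j l c' a b =
      if c' = c then
        ((if a = i ∧ b = j then 1 else 0) + (if a = j ∧ b = l then 1 else 0) + (if a = l ∧ b = i then 1 else 0)
          - (if a = j ∧ b = i then 1 else 0) - (if a = l ∧ b = j then 1 else 0) - (if a = i ∧ b = l then 1 else 0))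
      else 0)
    (ω : ExteriorAlgebra k (Fin 2 → Fin 4 → Fin 4 → k))
    (hω : ω = ExteriorAlgebra.ι k (z 0 0 1 2) * ExteriorAlgebra.ι k (z 1 0 1 2) *
      ExteriorAlgebra.ι k (z 0 0 2 3) * ExteriorAlgebra.ι k (z 1 0 2 3)) :
    ExteriorAlgebra.map (P (Equiv.swap 0 2)) ω = ω ∧
    ExteriorAlgebra.map (P (Equiv.swap 1 3)) ω = ω ∧
    (∑ σ : Equiv.Perm (Fin 4), ExteriorAlgebra.map (P σ) ω) ≠ 0 := by
  exact ⟨W.part1 k P hP z hz ω hω, W.part2 k P hP z hz ω hω, W.part3 k P hP z hz ω hω⟩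

end Groth.Agent.S19221
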