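import Mathlib
import Groth.Statements.S19223

set_option autoImplicit false
attribute [local instance] Units.mulDistribMulActionRight
open GalCoh

namespace Groth.Agent.S19223

open CategoryTheory CategoryTheory.Limits groupCohomology

section General
universe u
variable {k G : Type u} [CommRing k] [Group G]

def UDiv (N : ℕ) (A : Rep.{u} k G) : Prop := Function.Bijective (fun a : A.V => N • a)

lemma shortExact_of_concrete (X : ShortComplex (Rep.{u} k G))
    (hf : Function.Injective X.f.hom) (hg : Function.Surjective X.g.hom)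
    (hex : ∀ b, X.g.hom b = 0 → ∃ a, X.f.hom a = b) : X.ShortExact where
  exact := by
    rw [← ShortComplex.exact_map_iff_of_faithful X (forget₂ (Rep.{u} k G) (ModuleCat.{u} k))]
    rw [ShortComplex.moduleCat_exact_iff]
    intro b hb
    exact hex b hb
  mono_f := (Rep.mono_iff_injective _).2 hf
  epi_g := (Rep.epi_iff_surjective _).2 hg


lemma isZero_H1 [Fintype G] (A : Rep.{u} k G) (hA : UDiv (Fintype.card G) A) :
    IsZero (groupCohomology A 1) := by
  rw [ModuleCat.isZero_iff_subsingleton]
  suffices h : ∀ z : groupCohomology A 1, z = 0 from ⟨fun x y => by rw [h x, h y]⟩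
  intro z
  induction z using H1_induction_on with
  | h x =>
    rw [H1π_eq_zero_iff]
    have hx := (mem_cocycles₁_iff (A := A) (⇑x)).1 x.2
    obtain ⟨a, ha⟩ := hA.2 (- ∑ h, x h)
    refine ⟨a, ?_⟩
    funext g
    apply hA.1
    simp only [d₀₁_hom_apply]
    have ha' : Fintype.card G • a = - ∑ h, x h := ha
    rw [smul_sub, ← map_nsmul, ha', map_neg, map_sum]
    have h1 : ∀ h, A.ρ g (x h) = x (g * h) - x g := fun h => by rw [hx g h]; abel
    simp only [h1, Finset.sum_sub_distrib, Finset.sum_const, Finset.card_univ]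
    have h2 : ∑ h, x (g * h) = ∑ h, x h := Fintype.sum_equiv (Equiv.mulLeft g) _ _ (fun _ => rfl)
    rw [h2]; abel


section Step
variable (A : Rep.{u} k G)

noncomputable abbrev resA : Rep.{u} k (⊥ : Subgroup G) := Rep.res (⊥ : Subgroup G).subtype A
noncomputable abbrev Cnd : Rep.{u} k G := Rep.coind (⊥ : Subgroup G).subtype (resA A)
noncomputable def η : A ⟶ Cnd A := Rep.resCoindToHom (⊥ : Subgroup G).subtype A (resA A) (𝟙 _)

lemma η_apply (a : A.V) (h : G) : ((η A).hom a).1 h = A.ρ h a := rfl

lemma η_injective : Function.Injective (η A).hom := by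
  intro a b hab
  have : A.ρ 1 a = A.ρ 1 b := by rw [← η_apply, ← η_apply, hab]
  simpa using this

lemma udiv_Cnd (N : ℕ) (hA : UDiv N A) : UDiv N (Cnd A) := by
  constructor
  · intro f f' h
    apply Subtype.ext
    funext x
    apply hA.1
    exact congrArg (fun t => t.1 x) h
  · intro f
    choose b hb0 using hA.2
    have hb : ∀ y, N • b y = y := hb0
    refine ⟨⟨fun x => b (f.1 x), ?_⟩, ?_⟩
    · intro s x
      apply hA.1
      show N • b (f.1 (_ * x)) = N • ((resA A).ρ s) (b (f.1 x))
      rw [← map_nsmul, hb, hb]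
      exact f.2 s x
    · apply Subtype.ext; funext x; exact hb (f.1 x)


noncomputable def W : Submodule k (Cnd A).V := LinearMap.range (η A).hom.toLinearMap

lemma W_le (g : G) : W A ≤ (W A).comap ((Cnd A).ρ g) := by
  rintro _ ⟨a, rfl⟩
  exact ⟨A.ρ g a, Rep.hom_comm_apply (η A) g a⟩

noncomputable abbrev Q : Rep.{u} k G := (Cnd A).quotient (W A) (W_le A)
noncomputable def π : Cnd A ⟶ Q A := (Cnd A).mkQ (W A) (W_le A)

lemma π_apply (c : (Cnd A).V) : (π A).hom c = (W A).mkQ c := rfl

lemma udiv_Q (N : ℕ) (hA : UDiv N A) : UDiv N (Q A) := by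
  have hC := udiv_Cnd A N hA
  constructor
  · intro q q' h
    have key : ∀ q : (Q A).V, N • q = 0 → q = 0 := by
      intro q hq
      obtain ⟨c, rfl⟩ := (W A).mkQ_surjective q
      rw [← map_nsmul, Submodule.mkQ_apply, Submodule.Quotient.mk_eq_zero] at hq
      obtain ⟨a, ha⟩ := hq
      obtain ⟨a', rfl⟩ := hA.2 a
      rw [Submodule.mkQ_apply, Submodule.Quotient.mk_eq_zero]
      refine ⟨a', ?_⟩
      apply hC.1
      show N • _ = N • c
      rw [← ha]; exact (map_nsmul _ _ _).symm
    have h' : N • q = N • q' := h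
    have := key (q - q') (by rw [smul_sub, h', sub_self])
    exact sub_eq_zero.1 this
  · intro q
    obtain ⟨c, rfl⟩ := (W A).mkQ_surjective q
    obtain ⟨c', rfl⟩ := hC.2 c
    exact ⟨(W A).mkQ c', (map_nsmul _ _ _).symm⟩

noncomputable def Xses : ShortComplex (Rep.{u} k G) := ShortComplex.mk (η A) (π A) (by
  refine Rep.hom_ext (Representation.IntertwiningMap.ext (LinearMap.ext fun a => ?_))
  exact (Submodule.Quotient.mk_eq_zero _).2 ⟨a, rfl⟩)


lemma Xses_shortExact : (Xses A).ShortExact := by
  refine shortExact_of_concrete (Xses A) (η_injective A) ?_ ?_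
  · intro (q : (Q A).V); obtain ⟨c, rfl⟩ := (W A).mkQ_surjective q; exact ⟨c, rfl⟩
  · intro (c : (Cnd A).V) hc
    have : (W A).mkQ c = 0 := hc
    rw [Submodule.mkQ_apply, Submodule.Quotient.mk_eq_zero] at this
    obtain ⟨a, ha⟩ := this
    exact ⟨a, ha⟩

end Step

theorem isZero_of_udiv [Finite G] (n : ℕ) :
    ∀ (A : Rep.{u} k G), UDiv (Nat.card G) A → IsZero (groupCohomology A (n+1)) := by
  induction n with
  | zero =>
    intro A hA
    have := Fintype.ofFinite G
    rw [Nat.card_eq_fintype_card] at hA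
    exact isZero_H1 A hA
  | succ n ih =>
    intro A hA
    have hX := Xses_shortExact A
    have h2 : IsZero (groupCohomology (Cnd A) (n+1+1)) :=
      (isZero_groupCohomology_succ_of_subsingleton (resA A) (n+1)).of_iso (coindIso (resA A) (n+1+1))
    have h3 : IsZero (groupCohomology (Q A) (n+1)) := ih _ (udiv_Q A _ hA)
    exact (mapShortComplex₁_exact hX (rfl : n+1+1 = n+1+1)).isZero_of_both_zeros
      (h3.eq_of_src _ _) (h2.eq_of_tgt _ _)


theorem bijective_of_udiv_ker [Finite G] {A B : Rep.{u} k G} (φ : A ⟶ B)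
    (hsurj : Function.Surjective φ.hom)
    (hinj : ∀ a : A.V, φ.hom a = 0 → Nat.card G • a = 0 → a = 0)
    (hdiv : ∀ a : A.V, φ.hom a = 0 → ∃ b : A.V, φ.hom b = 0 ∧ Nat.card G • b = a)
    (n : ℕ) : Function.Bijective ((functor k G (n+1)).map φ).hom := by
  let WK : Submodule k A.V := LinearMap.ker φ.hom.toLinearMap
  have hWK : ∀ g, WK ≤ WK.comap (A.ρ g) := by
    intro g a ha
    have ha' : φ.hom a = 0 := ha
    show φ.hom (A.ρ g a) = 0
    rw [Rep.hom_comm_apply, ha', map_zero]
  let K : Rep.{u} k G := A.subrepresentation WK hWK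
  let ι : K ⟶ A := A.subtype WK hWK
  let Y : ShortComplex (Rep.{u} k G) := ShortComplex.mk ι φ (by
    refine Rep.hom_ext (Representation.IntertwiningMap.ext (LinearMap.ext fun a => ?_))
    exact a.2)
  have hY : Y.ShortExact := shortExact_of_concrete Y (fun a b h => Subtype.ext h) hsurj
    (fun b hb => ⟨⟨b, hb⟩, rfl⟩)
  have hK : UDiv (Nat.card G) K := by
    constructor
    · intro (a : WK) (b : WK) h
      have h' : Nat.card G • a = Nat.card G • b := h
      have ha : φ.hom a.1 = 0 := a.2
      have hb : φ.hom b.1 = 0 := b.2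
      have h1 : Nat.card G • (a.1 - b.1) = 0 := by
        have := congrArg Subtype.val h'
        rw [smul_sub]; exact sub_eq_zero.2 this
      have h2 : φ.hom (a.1 - b.1) = 0 := by rw [map_sub, ha, hb, sub_zero]
      exact Subtype.ext (sub_eq_zero.1 (hinj _ h2 h1))
    · intro (a : WK)
      obtain ⟨b, hb, hba⟩ := hdiv a.1 a.2
      exact ⟨⟨b, hb⟩, Subtype.ext hba⟩
  have hKz : ∀ m, IsZero (groupCohomology K (m+1)) := fun m => isZero_of_udiv m K hK
  constructor
  · have : Mono ((functor k G (n+1)).map φ) :=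
      (mapShortComplex₂_exact hY (n+1)).mono_g ((hKz n).eq_of_src _ _)
    exact (ModuleCat.mono_iff_injective _).1 this
  · have : Epi ((functor k G (n+1)).map φ) :=
      (mapShortComplex₃_exact hY (rfl : n+1+1 = n+1+1)).epi_f ((hKz (n+1)).eq_of_tgt _ _)
    exact (ModuleCat.epi_iff_surjective _).1 this


end General

section Hensel
open Polynomial
variable (R : Type) [CommRing R] [HenselianLocalRing R]

lemma isUnit_geom_sum (N : ℕ) (hN : (N : IsLocalRing.ResidueField R) ≠ 0) (w : R)
    (hw : IsLocalRing.residue R w = 1) : IsUnit (∑ i ∈ Finset.range N, w ^ i) := by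
  rw [← IsLocalRing.residue_ne_zero_iff_isUnit, map_sum]
  simpa [map_pow, hw] using hN

lemma unit_eq_one (N : ℕ) (hN : (N : IsLocalRing.ResidueField R) ≠ 0) (u : Rˣ)
    (hu : IsLocalRing.residue R (u : R) = 1) (hpow : u ^ N = 1) : u = 1 := by
  have h1 : (∑ i ∈ Finset.range N, (u : R) ^ i) * ((u : R) - 1) = 0 := by
    rw [geom_sum_mul, ← Units.val_pow_eq_pow_val, hpow, Units.val_one, sub_self]
  have h2 := (isUnit_geom_sum R N hN u hu).mul_right_eq_zero.1 h1
  exact Units.ext (sub_eq_zero.1 h2)

lemma exists_root (N : ℕ) (hN : (N : IsLocalRing.ResidueField R) ≠ 0) (u : Rˣ)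
    (hu : IsLocalRing.residue R (u : R) = 1) :
    ∃ v : Rˣ, IsLocalRing.residue R (v : R) = 1 ∧ v ^ N = u := by
  have hN0 : N ≠ 0 := by rintro rfl; simp at hN
  have hNu : IsUnit (N : R) := by
    rw [← IsLocalRing.residue_ne_zero_iff_isUnit, map_natCast]; exact hN
  obtain ⟨a, ha, ha1⟩ := HenselianLocalRing.is_henselian (X ^ N - C (u : R))
    (monic_X_pow_sub_C _ hN0) 1
    (by
      rw [← IsLocalRing.residue_eq_zero_iff]
      simp [hu])
    (by
      simp only [derivative_sub, derivative_X_pow, derivative_C, sub_zero, eval_mul, eval_C,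
        eval_pow, eval_X, one_pow, mul_one]
      exact hNu)
  have ha' : a ^ N = u := by
    have : eval a (X ^ N - C (u : R)) = 0 := ha
    simpa [sub_eq_zero] using this
  have hra : IsLocalRing.residue R a = 1 := by
    rw [← IsLocalRing.residue_eq_zero_iff, map_sub, map_one, sub_eq_zero] at ha1
    exact ha1
  have hau : IsUnit a := by
    rw [← IsLocalRing.residue_ne_zero_iff_isUnit, hra]; exact one_ne_zero
  refine ⟨hau.unit, hra, Units.ext ?_⟩
  rw [Units.val_pow_eq_pow_val]; exact ha'


end Hensel

/-- For a strictly henselian local ring R whose residue field k has characteristic p ≥ 0, and a finite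
group G of order prime to p acting on R by ring automorphisms (hence on the unit groups R^× and
k^×), consider the homomorphism H^n(G, R^×) → H^n(G, k^×) induced by the reduction map. It is
bijective for every n ≥ 2; it is also bijective for n = 1 provided that p = 0 or the only p-power
root of unity in R is 1. (The reduction map on cohomology is pinned by its values on units; groups,
rings and modules are taken in the lowest universe, as integral coefficients in the group-cohomology
library require.) -/
theorem result (R : Type) [CommRing R]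
    [HenselianLocalRing R] [IsSepClosed (IsLocalRing.ResidueField R)] (p : ℕ) [CharP (IsLocalRing.ResidueField R) p]
    (G : Type) [Group G] [Finite G] [MulSemiringAction G R] (hp : ¬ p ∣ Nat.card G)
    (φ : Rep.ofMulDistribMulAction G Rˣ ⟶ Rep.ofMulDistribMulAction G (IsLocalRing.ResidueField R)ˣ)
    (hφ : ∀ x : Rˣ, Additive.toMul (φ.hom (Additive.ofMul x)) = Units.map (IsLocalRing.residue R).toMonoidHom x)
    (n : ℕ) (hn : 1 ≤ n) (h1 : n = 1 → p ≠ 0 → ∀ (ζ : Rˣ) (m : ℕ), ζ ^ p ^ m = 1 → ζ = 1) :
    Function.Bijective ((groupCohomology.functor ℤ G n).map φ).hom := by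
  obtain ⟨m, rfl⟩ : ∃ m, n = m + 1 := ⟨n - 1, by omega⟩
  have hNk : ((Nat.card G : ℕ) : IsLocalRing.ResidueField R) ≠ 0 := by
    rw [Ne, CharP.cast_eq_zero_iff (IsLocalRing.ResidueField R) p]; exact hp
  have hφ0 : ∀ u : Rˣ, φ.hom (Additive.ofMul u) = 0 ↔ IsLocalRing.residue R (u : R) = 1 := by
    intro u
    constructor
    · intro h
      have h2 : Additive.toMul (φ.hom (Additive.ofMul u)) = (1 : (IsLocalRing.ResidueField R)ˣ) :=
        congrArg Additive.toMul h
      rw [hφ u] at h2
      have h3 := congrArg Units.val h2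
      simpa using h3
    · intro h
      have h2 : Additive.toMul (φ.hom (Additive.ofMul u)) = (1 : (IsLocalRing.ResidueField R)ˣ) := by
        rw [hφ u]; apply Units.ext; simpa using h
      exact Additive.toMul.injective h2
  apply bijective_of_udiv_ker φ
  · intro (y : Additive (IsLocalRing.ResidueField R)ˣ)
    obtain ⟨r, hr⟩ := IsLocalRing.residue_surjective
      ((Additive.toMul y : (IsLocalRing.ResidueField R)ˣ) : IsLocalRing.ResidueField R)
    have hru : IsUnit r := by
      rw [← IsLocalRing.residue_ne_zero_iff_isUnit, hr]; exact Units.ne_zero _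
    refine ⟨Additive.ofMul hru.unit, ?_⟩
    have h2 : Additive.toMul (φ.hom (Additive.ofMul hru.unit)) = Additive.toMul y := by
      rw [hφ]; apply Units.ext; simpa using hr
    exact Additive.toMul.injective h2
  · intro (a : Additive Rˣ) ha hNa
    have h1 : Additive.toMul a = 1 := unit_eq_one R _ hNk (Additive.toMul a)
      ((hφ0 (Additive.toMul a)).1 ha) (congrArg Additive.toMul hNa)
    exact Additive.toMul.injective h1
  · intro (a : Additive Rˣ) ha
    obtain ⟨v, hv, hvN⟩ := exists_root R _ hNk (Additive.toMul a) ((hφ0 (Additive.toMul a)).1 ha)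
    exact ⟨Additive.ofMul v, (hφ0 v).2 hv, congrArg Additive.ofMul hvN⟩

end Groth.Agent.S19223
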