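import Groth.Statements.S19224
import Mathlib

set_option autoImplicit false
open GalCoh
open groupCohomology

namespace Groth.Agent.S19224

section Abstract
variable {Q : Type*} [Group Q] [Fintype Q] {B : Type*} [AddCommGroup B]

/-- trivial-action 2-cocycle condition -/
def IsCoc (f : Q × Q → B) : Prop :=
  ∀ g h j : Q, f (g * h, j) + f (g, h) = f (h, j) + f (g, h * j)

/-- trivial-action 2-coboundary condition -/
def IsCob (f : Q × Q → B) : Prop :=
  ∃ φ : Q → B, ∀ g h, f (g, h) = φ h - φ (g * h) + φ g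

theorem card_smul_isCob (f : Q × Q → B) (hf : IsCoc f) :
    IsCob (fun x => Fintype.card Q • f x) := by
  classical
  refine ⟨fun g => ∑ j, f (g, j), fun g h => ?_⟩
  have h1 : ∑ j : Q, (f (g * h, j) + f (g, h)) = ∑ j : Q, (f (h, j) + f (g, h * j)) :=
    Finset.sum_congr rfl fun j _ => hf g h j
  rw [Finset.sum_add_distrib, Finset.sum_add_distrib, Finset.sum_const, Finset.card_univ] at h1
  have h2 : ∑ j : Q, f (g, h * j) = ∑ j : Q, f (g, j) :=
    Equiv.sum_comp (Equiv.mulLeft h) (fun j => f (g, j))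
  rw [h2] at h1
  dsimp only
  rw [eq_sub_of_add_eq' h1]
  abel

theorem IsCob.add {f f' : Q × Q → B} (h : IsCob f) (h' : IsCob f') : IsCob (fun x => f x + f' x) := by
  obtain ⟨φ, hφ⟩ := h
  obtain ⟨φ', hφ'⟩ := h'
  refine ⟨fun g => φ g + φ' g, fun g h => ?_⟩
  dsimp only
  rw [hφ, hφ']
  abel

theorem isCoc_of_cob (φ : Q → B) : IsCoc (fun x : Q × Q => φ x.2 - φ (x.1 * x.2) + φ x.1) := by
  intro g h j
  dsimp only
  rw [mul_assoc]
  abel

/-- The key step using the vanishing of `H³(Q, ℤ)` in explicit form. -/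
theorem isCob_of_torsion
    (hQ3 : ∀ (c : Q × Q × Q → ℤ) (d : ℤ), d ≠ 0 → ∀ F : Q × Q → ℤ,
      (∀ g h j, d * c (g, h, j) = F (h, j) - F (g * h, j) + F (g, h * j) - F (g, h)) →
      ∃ E : Q × Q → ℤ, ∀ g h j, c (g, h, j) = E (h, j) - E (g * h, j) + E (g, h * j) - E (g, h))
    (f : Q × Q → B) (hf : IsCoc f) (ζ ξ : B) (hξ : Fintype.card Q • ξ = ζ)
    (hζ : 0 < addOrderOf ζ) (hval : ∀ x, f x ∈ AddSubgroup.zmultiples ζ) : IsCob f := by
  classical
  choose F hF using fun x => AddSubgroup.mem_zmultiples_iff.mp (hval x)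
  set d : ℤ := (addOrderOf ζ : ℤ) with hd
  have hd0 : d ≠ 0 := by
    rw [hd]; exact_mod_cast hζ.ne'
  have hdvd : ∀ g h j, d ∣ F (h, j) - F (g * h, j) + F (g, h * j) - F (g, h) := by
    intro g h j
    rw [hd, addOrderOf_dvd_iff_zsmul_eq_zero]
    have := hf g h j
    rw [← hF, ← hF, ← hF, ← hF, ← sub_eq_zero] at this
    have key : (F (h, j) - F (g * h, j) + F (g, h * j) - F (g, h)) • ζ =
        -(F (g * h, j) • ζ + F (g, h) • ζ - (F (h, j) • ζ + F (g, h * j) • ζ)) := by
      simp only [sub_smul, add_smul]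
      abel
    rw [key, this, neg_zero]
  obtain ⟨E, hE⟩ := hQ3
    (fun x => (F (x.2.1, x.2.2) - F (x.1 * x.2.1, x.2.2) + F (x.1, x.2.1 * x.2.2) - F (x.1, x.2.1)) / d)
    d hd0 F (fun g h j => by
      dsimp only
      rw [Int.mul_ediv_cancel' (hdvd g h j)])
  dsimp only at hE
  set F' : Q × Q → ℤ := fun x => F x - d * E x with hF'
  have hF'coc : IsCoc (fun x => F' x • ξ) := by
    intro g h j
    dsimp only
    rw [← add_smul, ← add_smul]
    congr 1
    have := hE g h j
    have h2 := Int.mul_ediv_cancel' (hdvd g h j)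
    rw [this] at h2
    simp only [hF']
    linear_combination h2
  have hfeq : f = fun x => Fintype.card Q • (F' x • ξ) := by
    funext x
    rw [← hF x, smul_comm, hξ, hF', sub_smul, mul_comm, mul_smul, hd, natCast_zsmul,
      addOrderOf_nsmul_eq_zero, smul_zero, sub_zero]
  rw [hfeq]
  exact card_smul_isCob _ hF'coc

end Abstract


open groupCohomology CategoryTheory

theorem hQ3_of_subsingleton (Q : Type) [Group Q]
    (hQ : Subsingleton (groupCohomology (Rep.trivial ℤ Q ℤ) 3)) :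
    ∀ (c : Q × Q × Q → ℤ) (d : ℤ), d ≠ 0 → ∀ F : Q × Q → ℤ,
      (∀ g h j, d * c (g, h, j) = F (h, j) - F (g * h, j) + F (g, h * j) - F (g, h)) →
      ∃ E : Q × Q → ℤ, ∀ g h j, c (g, h, j) = E (h, j) - E (g * h, j) + E (g, h * j) - E (g, h) := by
  intro c d hd F hF
  set A : Rep ℤ Q := Rep.trivial ℤ Q ℤ with hA
  set K := inhomogeneousCochains A with hK
  have hex : K.ExactAt 3 := by
    rw [HomologicalComplex.exactAt_iff_isZero_homology]
    haveI : Subsingleton ↑(K.homology 3) := hQ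
    exact ModuleCat.isZero_of_subsingleton _
  rw [HomologicalComplex.exactAt_iff' K 2 3 4 (by simp) (by simp),
    ShortComplex.moduleCat_exact_iff] at hex
  have hex' : ∀ x₂ : K.X 3, (K.d 3 4).hom x₂ = 0 → ∃ x₁ : K.X 2, (K.d 2 3).hom x₁ = x₂ := hex
  -- the cochains
  let c0 : ModuleCat.of ℤ (Q × Q × Q → A) := c
  let F0 : ModuleCat.of ℤ (Q × Q → A) := F
  have hcF : d • c0 = (d₂₃ A).hom F0 := by
    funext x
    obtain ⟨g, h, j⟩ := x
    have := hF g h j
    simp only [d₂₃_hom_apply]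
    change d * c (g, h, j) = _
    rw [this]
    rfl
  set c' : K.X 3 := (cochainsIso₃ A).inv.hom c0 with hc'
  have h1 : d • c' = (K.d 2 3).hom ((cochainsIso₂ A).inv.hom F0) := by
    rw [hc', ← map_smul, hcF]
    have := congrArg (fun φ => φ.hom F0) (eq_d₂₃_comp_inv A)
    simp only [ModuleCat.hom_comp, LinearMap.comp_apply] at this
    exact this.symm
  have h2 : (K.d 3 4).hom c' = 0 := by
    have h3 : d • (K.d 3 4).hom c' = 0 := by
      rw [← map_smul, h1]
      have := congrArg (fun φ => φ.hom ((cochainsIso₂ A).inv.hom F0)) (K.d_comp_d 2 3 4)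
      simp only [ModuleCat.hom_comp, LinearMap.comp_apply] at this
      exact this
    funext y
    have h4 := congrFun h3 y
    exact (smul_eq_zero.mp h4).resolve_left hd
  obtain ⟨E', hE'⟩ := hex' c' h2
  refine ⟨(cochainsIso₂ A).hom.hom E', fun g h j => ?_⟩
  have h5 : (d₂₃ A).hom ((cochainsIso₂ A).hom.hom E') = c0 := by
    have := congrArg (fun φ => φ.hom E') (comp_d₂₃_eq A)
    simp only [ModuleCat.hom_comp, LinearMap.comp_apply] at this
    rw [this]
    change (cochainsIso₃ A).hom.hom ((K.d 2 3).hom E') = c0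
    have hE'' : (K.d 2 3).hom E' = c' := hE'
    rw [hE'', hc']
    have := congrArg (fun φ => φ.hom c0) (cochainsIso₃ A).inv_hom_id
    simp only [ModuleCat.hom_comp, LinearMap.comp_apply] at this
    exact this
  have h6 := congrFun h5 (g, h, j)
  simp only [d₂₃_hom_apply] at h6
  exact h6.symm


/-- Let Q be a finite group such that H^3(Q, ℤ) = 0 for the trivial action, and let k be a separably
closed field of characteristic p ≥ 0 with p not dividing the order of Q. Then H^2(Q, k^×) = 0, where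
Q acts trivially on the units of k. (Groups and fields are taken in the lowest universe, as integral
coefficients in the group-cohomology library require.) -/
theorem result (Q : Type) [Group Q] [Finite Q]
    (hQ : Subsingleton (groupCohomology (Rep.trivial ℤ Q ℤ) 3)) (k : Type) [Field k] [IsSepClosed k]
    (p : ℕ) [CharP k p] (hp : ¬ p ∣ Nat.card Q) :
    Subsingleton (groupCohomology (Rep.trivial ℤ Q (Additive kˣ)) 2) := by
  classical
  haveI := Fintype.ofFinite Q
  set M : Rep ℤ Q := Rep.trivial ℤ Q (Additive kˣ) with hM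
  suffices h : ∀ x : cocycles₂ M, (⇑x) ∈ coboundaries₂ M by
    have h0 : ∀ a : H2 M, a = 0 := fun a => by
      induction a using H2_induction_on with
      | h x => exact (H2π_eq_zero_iff x).mpr (h x)
    exact ⟨fun a b => by rw [h0 a, h0 b]⟩
  intro x
  have hcoc : IsCoc (B := Additive kˣ) (⇑x) := fun g h j => by
    have := (mem_cocycles₂_iff (A := M) (⇑x)).mp x.2 g h j
    exact this
  suffices hcob : IsCob (B := Additive kˣ) (⇑x) by
    obtain ⟨φ, hφ⟩ := hcob
    refine ⟨φ, ?_⟩
    funext ⟨g, h⟩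
    rw [hφ g h]
    rfl
  set n := Fintype.card Q with hn
  have hnpos : 0 < n := Fintype.card_pos
  have hnk : NeZero ((n : ℕ) : k) := by
    refine ⟨fun h0 => hp ?_⟩
    rw [Nat.card_eq_fintype_card]
    exact (CharP.cast_eq_zero_iff k p n).mp h0
  -- divisibility of `kˣ`
  have hdiv : ∀ y : Additive kˣ, ∃ z : Additive kˣ, n • z = y := by
    intro y
    obtain ⟨z, hz⟩ := IsSepClosed.exists_pow_nat_eq ((Additive.toMul y : kˣ) : k) n
    have hz0 : z ≠ 0 := by
      rintro rfl
      rw [zero_pow hnpos.ne'] at hz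
      exact (Additive.toMul y : kˣ).ne_zero hz.symm
    refine ⟨Additive.ofMul (Units.mk0 z hz0), ?_⟩
    rw [← ofMul_pow]
    apply Additive.toMul.injective
    apply Units.ext
    simpa using hz
  obtain ⟨φ, hφ⟩ := card_smul_isCob (B := Additive kˣ) (⇑x) hcoc
  choose ψ hψ using fun g => hdiv (φ g)
  set f' : Q × Q → Additive kˣ := fun y => x y - (ψ y.2 - ψ (y.1 * y.2) + ψ y.1) with hf'
  have hf'coc : IsCoc f' := by
    intro g h j
    have h1 := hcoc g h j
    have h2 := isCoc_of_cob ψ g h j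
    simp only [hf']
    dsimp only at h2 ⊢
    rw [sub_add_sub_comm, sub_add_sub_comm, h1, h2]
  have hf'tors : ∀ y, n • f' y = 0 := by
    rintro ⟨g, h⟩
    simp only [hf']
    rw [nsmul_sub, nsmul_add, nsmul_sub, hψ, hψ, hψ]
    have := hφ g h
    dsimp only at this
    rw [← hn] at this
    rw [this, sub_self]
  -- roots of unity
  have : NeZero n := ⟨hnpos.ne'⟩
  obtain ⟨ζ₀, hζ₀⟩ := IsCyclic.exists_generator (α := rootsOfUnity n k)
  set ζ : Additive kˣ := Additive.ofMul (ζ₀ : kˣ) with hζdef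
  have hζn : (ζ₀ : kˣ) ^ n = 1 := (mem_rootsOfUnity n _).mp ζ₀.2
  have hζ : 0 < addOrderOf ζ := by
    rw [hζdef, addOrderOf_ofMul_eq_orderOf, orderOf_pos_iff, isOfFinOrder_iff_pow_eq_one]
    exact ⟨n, hnpos, hζn⟩
  obtain ⟨ξ, hξ⟩ := hdiv ζ
  have hval : ∀ y, f' y ∈ AddSubgroup.zmultiples ζ := by
    intro y
    have h1 : (Additive.toMul (f' y) : kˣ) ∈ rootsOfUnity n k := by
      rw [mem_rootsOfUnity]
      have := hf'tors y
      have h2 := congrArg Additive.toMul this
      rwa [toMul_nsmul, toMul_zero] at h2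
    obtain ⟨m, hm⟩ := Subgroup.mem_zpowers_iff.mp (hζ₀ ⟨_, h1⟩)
    rw [AddSubgroup.mem_zmultiples_iff]
    refine ⟨m, ?_⟩
    apply Additive.toMul.injective
    rw [toMul_zsmul, hζdef, toMul_ofMul]
    have := congrArg (fun u : rootsOfUnity n k => (u : kˣ)) hm
    simpa using this
  have hcob' : IsCob f' :=
    isCob_of_torsion (hQ3_of_subsingleton Q hQ) f' hf'coc ζ ξ hξ hζ hval
  have hcobψ : IsCob (B := Additive kˣ) (fun y : Q × Q => ψ y.2 - ψ (y.1 * y.2) + ψ y.1) :=
    ⟨ψ, fun g h => rfl⟩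
  have := hcob'.add hcobψ
  have heq : (fun y => f' y + (ψ y.2 - ψ (y.1 * y.2) + ψ y.1)) = ⇑x := by
    funext y
    simp only [hf']
    abel
  rwa [heq] at this

end Groth.Agent.S19224
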