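import Groth.Statements.S1923
-- import your own Groth.Agent.* helpers here
import Groth.Agent.Lib.Helper45.InvOrd
import Groth.Agent.Lib.Helper85.IntMult.NormPush
import Groth.Agent.Lib.Helper74.LatticeDet

set_option autoImplicit false
universe u
open CategoryTheory AlgebraicGeometry
open Cyc

namespace Groth.Agent.S1923

/-- Let X be integral with δ(η) = n, L an invertible O_X-module and s a global section of L whose germ
at η is nonzero. Then div_L(s) = [Z(s)]_{n−1} as (n − 1)-cycles, where s is viewed as a rational
section through its image in L(η). Here L(ξ) = L_ξ/𝔪_ξ L_ξ is the space of rational sections of L on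
the closure of ξ, div_{L|W}(s) and c_1(L) ∩ α are computed as coefficient functions from chosen
nonzero rational sections (Cyc.secDivFun, Cyc.c1CapFun), and results are compared up to rational
equivalence for any cycles with those coefficients. A pair (X, δ) with Cyc.IsSetup plays the role of
a scheme locally of finite type over a fixed base with a dimension function (X locally Noetherian
with universally catenary local rings, δ a dimension function), and Cyc.DeltaCompat records that the
dimension function upstairs is the induced one. -/
theorem result (X : Scheme.{u}) [IsIntegral X] (δ : X → ℤ) (hX : Cyc.IsSetup X δ) (n : ℤ) (hn : δ (genericPoint X) = n) (L : X.Modules) (hL : PicF.IsInvertible L) (s : L.presheaf.obj (Opposite.op ⊤)) (hs : (L.presheaf.germ ⊤ (genericPoint X) trivial) s ≠ 0) : Cyc.secDivFun δ L (genericPoint X) (Submodule.Quotient.mk ((L.presheaf.germ ⊤ (genericPoint X) trivial) s)) = Cyc.zeroSectionFun δ (n - 1) L s := by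
  classical
  have hN : IsLocallyNoetherian X := hX.1
  have hdimf : Cyc.IsDimFun X δ := hX.2.2
  funext x
  have hspec : genericPoint X ⤳ x := genericPoint_specializes x
  unfold Cyc.secDivFun Cyc.zeroSectionFun
  by_cases hd : δ x = n - 1
  · have hd1 : δ x + 1 = δ (genericPoint X) := by omega
    simp only
    rw [dif_pos ⟨hspec, hd1⟩, if_pos hd]
    obtain ⟨V, hxV, τ, hτ⟩ := Groth.Agent.Lib.Helper45.exists_isBasisOn_of_isInvertible hL x
    have hspan0 := Groth.Agent.Lib.Helper45.InvOrd.germ_basis_span hτ x hxV
    have hann0 := Groth.Agent.Lib.Helper45.InvOrd.germ_basis_ann hτ x hxV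
    have hex : ∃ t : L.presheaf.stalk x, Submodule.span (X.presheaf.stalk x) {t} = ⊤ :=
      ⟨_, hspan0⟩
    rw [dif_pos hex]
    have ht' := Classical.choose_spec hex
    generalize Classical.choose hex = t at ht'
    have hf : ∃ f : X.presheaf.stalk x, (L.presheaf.germ ⊤ x trivial) s = f • t := by
      obtain ⟨f, hf⟩ := Submodule.mem_span_singleton.mp
        (show (L.presheaf.germ ⊤ x trivial) s ∈ Submodule.span (X.presheaf.stalk x) {t} by
          rw [ht']; exact Submodule.mem_top)
      exact ⟨f, hf.symm⟩
    rw [dif_pos hf]
    have hf' := Classical.choose_spec hf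
    generalize Classical.choose hf = f at hf'
    -- annihilator of t is zero
    obtain ⟨u, hu⟩ : ∃ u : X.presheaf.stalk x, u • L.presheaf.germ V x hxV τ = t :=
      Submodule.mem_span_singleton.mp (by rw [hspan0]; exact Submodule.mem_top)
    obtain ⟨u', hu'⟩ : ∃ u' : X.presheaf.stalk x, u' • t = L.presheaf.germ V x hxV τ :=
      Submodule.mem_span_singleton.mp (by rw [ht']; exact Submodule.mem_top)
    have huu : u' * u = 1 := by
      have h1 : (u' * u - 1) • L.presheaf.germ V x hxV τ = 0 := by
        rw [sub_smul, mul_smul, hu, hu', one_smul, sub_self]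
      exact sub_eq_zero.mp (hann0 _ h1)
    have hann : ∀ a : X.presheaf.stalk x, a • t = 0 → a = 0 := by
      intro a ha
      rw [← hu, smul_smul] at ha
      have h2 := hann0 _ ha
      calc a = a * (u * u') := by rw [mul_comm u u', huu, mul_one]
        _ = (a * u) * u' := by ring
        _ = 0 := by rw [h2, zero_mul]
    have hgerm : (L.presheaf.germ ⊤ (genericPoint X) trivial) s =
        X.presheaf.stalkSpecializes hspec f • L.presheaf.stalkSpecializes hspec t := by
      rw [← Groth.Agent.Lib.Helper45.HomExtend.stalkSpecializes_smul, ← hf']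
      exact (TopCat.Presheaf.germ_stalkSpecializes_apply _ _ _ _).symm
    have hne : L.presheaf.stalkSpecializes hspec t ≠ 0 := by
      intro h0
      rw [h0, smul_zero] at hgerm
      exact hs hgerm
    have hf0 : f ≠ 0 := by
      intro h0
      rw [h0, map_zero, zero_smul] at hgerm
      exact hs hgerm
    rw [hgerm, Groth.Agent.Lib.Helper45.OrdGeneric.secOrdAt_eq x hspec L t ht' hann hne]
    rw [Groth.Agent.Lib.Helper85.NormPush.ordAt_eq_ordFrac_generic δ hdimf x (genericPoint X) rfl
      hspec hd1]
    have hd1' : ringKrullDim (X.presheaf.stalk x) = 1 :=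
      Groth.Agent.Lib.Helper85.NormPush.ringKrullDim_stalk_generic δ hdimf x (genericPoint X) rfl
        hspec hd1
    have : Ring.KrullDimLE 1 (X.presheaf.stalk x) := by
      rw [Ring.krullDimLE_iff, hd1']
      rfl
    let aK := (Cyc.specMap x (genericPoint X) hspec).toAlgebra
    have frK := Groth.Agent.Lib.Helper85.NormPush.isFractionRing_specMap_generic x
      (genericPoint X) rfl hspec
    exact @Groth.Agent.Lib.Helper74.ordFracInt_algebraMap (X.presheaf.stalk x) _ _ _ _
      (X.residueField (genericPoint X)) _ aK frK f hf0
  · have hd1 : ¬ (genericPoint X ⤳ x ∧ δ x + 1 = δ (genericPoint X)) := by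
      rintro ⟨-, h1⟩
      exact hd (by omega)
    simp only
    rw [dif_neg hd1, if_neg hd]

end Groth.Agent.S1923
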