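import Groth.Statements.S19238
import Groth.Agent.Lib.Helper96.SigmaLinWitt

set_option autoImplicit false
universe u v
open SigmaLin

namespace Groth.Agent.S19238

open Polynomial in
theorem finite_frobenius_fixed (p : ℕ) [Fact p.Prime] (k : Type u) [Field k] [CharP k p] :
    {a : k | a ^ p = a}.Finite := by
  classical
  have hp : p.Prime := Fact.out
  have hne : (X ^ p - X : k[X]) ≠ 0 := FiniteField.X_pow_card_sub_X_ne_zero k hp.one_lt
  refine ((X ^ p - X : k[X]).roots.toFinset.finite_toSet).subset ?_
  intro a ha
  simp only [Finset.mem_coe, Multiset.mem_toFinset, mem_roots hne, IsRoot.def, eval_sub, eval_pow,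
    eval_X]
  exact sub_eq_zero.mpr ha

/-- Let k be an algebraically closed field of characteristic p > 0 and n a natural number; let M be a
finitely generated module over the ring W_n(k) of truncated Witt vectors and T : M → M an additive
map with T (c • m) = σ(c) • T m, where σ is either the Frobenius endomorphism of W_n(k) or its
inverse. Then the set of T-fixed elements of M is finite. (The printed statement says that the
T-fixed elements form a finitely generated module over the σ-fixed subring of W_n(k), which is the
finite ring of integers modulo p^n.) -/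
theorem result
    (p : ℕ) [Fact p.Prime] (k : Type u) [Field k] [CharP k p] [IsAlgClosed k] (n : ℕ)
    (σ : TruncatedWittVector p n k →+* TruncatedWittVector p n k)
    (hσ : σ = WittGrp.truncMap p n (frobenius k p) ∨
      σ = WittGrp.truncMap p n (frobeniusEquiv k p).symm.toRingHom)
    (M : Type v) [AddCommGroup M] [Module (TruncatedWittVector p n k) M] [Module.Finite (TruncatedWittVector p n k) M]
    (T : M →ₛₗ[σ] M) :
    {m : M | T m = m}.Finite := by
  rcases hσ with rfl | rfl
  · refine Groth.Agent.Lib.Helper96.SigmaLin.witt_fixed_finite p k n (frobenius k p)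
      (frobeniusEquiv k p).surjective
      (Groth.Agent.Lib.Helper96.SigmaLin.hyp2_frobenius p k)
      (Groth.Agent.Lib.Helper96.SigmaLin.hyp3_frobenius p k) ?_ T
    exact finite_frobenius_fixed p k
  · refine Groth.Agent.Lib.Helper96.SigmaLin.witt_fixed_finite p k n
      (frobeniusEquiv k p).symm.toRingHom
      (frobeniusEquiv k p).symm.surjective
      (Groth.Agent.Lib.Helper96.SigmaLin.hyp2_frobeniusEquiv_symm p k)
      (Groth.Agent.Lib.Helper96.SigmaLin.hyp3_frobeniusEquiv_symm p k) ?_ T
    refine (finite_frobenius_fixed p k).subset ?_
    intro a ha
    have ha' : (frobeniusEquiv k p).symm a = a := ha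
    have := congrArg (frobenius k p) ha'
    rw [frobenius_apply_frobeniusEquiv_symm] at this
    exact this.symm

end Groth.Agent.S19238
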