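import Groth.Statements.S1925
-- import your own Groth.Agent.* helpers here
import Groth.Agent.Lib.Helper45.InvOrd
import Groth.Agent.Lib.Helper85.IntMult.C1Zero

set_option autoImplicit false
universe u
open CategoryTheory AlgebraicGeometry
open Cyc

namespace Groth.Agent.S1925

/-- Let L be an invertible O_Y-module and s a global section of L; assume δ ≤ k + 1 on Y, δ ≤ k on the
zero locus of s, and multiplication by the germ of s injective on O_{Y,ξ} at the points ξ of
δ-dimension k. Writing [Y]_{k+1} = Σ n_i[Y_i] over the irreducible components of δ-dimension k + 1,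
one has [Z(s)]_k = Σ n_i [Z(s|_{Y_i})]_k as k-cycles on Y; here the right side is computed as c_1(L)
∩ [Y]_{k+1} with the rational sections induced by s. Here L(ξ) = L_ξ/𝔪_ξ L_ξ is the space of
rational sections of L on the closure of ξ, div_{L|W}(s) and c_1(L) ∩ α are computed as coefficient
functions from chosen nonzero rational sections (Cyc.secDivFun, Cyc.c1CapFun), and results are
compared up to rational equivalence for any cycles with those coefficients. A pair (X, δ) with
Cyc.IsSetup plays the role of a scheme locally of finite type over a fixed base with a dimension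
function (X locally Noetherian with universally catenary local rings, δ a dimension function), and
Cyc.DeltaCompat records that the dimension function upstairs is the induced one. -/
theorem result (Y : Scheme.{u}) (δ : Y → ℤ) (hY : Cyc.IsSetup Y δ) (L : Y.Modules) (hL : PicF.IsInvertible L) (k : ℤ) (hdim : ∀ y : Y, δ y ≤ k + 1) (s : L.presheaf.obj (Opposite.op ⊤)) (hZ : ∀ y : Y, (L.presheaf.germ ⊤ y trivial) s ∈ IsLocalRing.maximalIdeal (Y.presheaf.stalk y) • (⊤ : Submodule (Y.presheaf.stalk y) (L.presheaf.stalk y)) → δ y ≤ k) (hreg : ∀ y : Y, δ y = k → Function.Injective (fun a : Y.presheaf.stalk y => a • (L.presheaf.germ ⊤ y trivial) s)) : Cyc.zeroSectionFun δ k L s = Cyc.c1CapFun δ L (Cyc.subschemeFun δ (k + 1) (𝟙 Y)) (fun ξ => Submodule.Quotient.mk ((L.presheaf.germ ⊤ ξ trivial) s)) := by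
  classical
  have hN : IsLocallyNoetherian Y := hY.1
  have hdimf : Cyc.IsDimFun Y δ := hY.2.2
  funext y
  unfold Cyc.zeroSectionFun Cyc.c1CapFun
  simp only
  by_cases hd : δ y = k
  · rw [if_pos hd]
    obtain ⟨V, hyV, τ, hτ⟩ := Groth.Agent.Lib.Helper45.exists_isBasisOn_of_isInvertible hL y
    have hspan0 := Groth.Agent.Lib.Helper45.InvOrd.germ_basis_span hτ y hyV
    have hann0 := Groth.Agent.Lib.Helper45.InvOrd.germ_basis_ann hτ y hyV
    have hex : ∃ t : L.presheaf.stalk y, Submodule.span (Y.presheaf.stalk y) {t} = ⊤ :=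
      ⟨_, hspan0⟩
    rw [dif_pos hex]
    have ht' := Classical.choose_spec hex
    generalize Classical.choose hex = t at ht'
    have hf : ∃ f : Y.presheaf.stalk y, (L.presheaf.germ ⊤ y trivial) s = f • t := by
      obtain ⟨f, hf⟩ := Submodule.mem_span_singleton.mp
        (show (L.presheaf.germ ⊤ y trivial) s ∈ Submodule.span (Y.presheaf.stalk y) {t} by
          rw [ht']; exact Submodule.mem_top)
      exact ⟨f, hf.symm⟩
    rw [dif_pos hf]
    have hf' := Classical.choose_spec hf
    generalize Classical.choose hf = f at hf'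
    obtain ⟨u, hu⟩ : ∃ u : Y.presheaf.stalk y, u • L.presheaf.germ V y hyV τ = t :=
      Submodule.mem_span_singleton.mp (by rw [hspan0]; exact Submodule.mem_top)
    obtain ⟨u', hu'⟩ : ∃ u' : Y.presheaf.stalk y, u' • t = L.presheaf.germ V y hyV τ :=
      Submodule.mem_span_singleton.mp (by rw [ht']; exact Submodule.mem_top)
    have huu : u' * u = 1 := by
      have h1 : (u' * u - 1) • L.presheaf.germ V y hyV τ = 0 := by
        rw [sub_smul, mul_smul, hu, hu', one_smul, sub_self]
      exact sub_eq_zero.mp (hann0 _ h1)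
    have hann : ∀ a : Y.presheaf.stalk y, a • t = 0 → a = 0 := by
      intro a ha
      rw [← hu, smul_smul] at ha
      have h2 := hann0 _ ha
      calc a = a * (u * u') := by rw [mul_comm u u', huu, mul_one]
        _ = (a * u) * u' := by ring
        _ = 0 := by rw [h2, zero_mul]
    have hfreg : IsSMulRegular (Y.presheaf.stalk y) f := by
      intro a b hab
      apply hreg y hd
      simp only
      rw [hf', smul_smul, smul_smul, mul_comm a f, mul_comm b f]
      have h3 : f * a = f * b := hab
      rw [h3]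
    have hgermξ : ∀ (ξ : Y) (h : ξ ⤳ y), (L.presheaf.germ ⊤ ξ trivial) s =
        Y.presheaf.stalkSpecializes h f • L.presheaf.stalkSpecializes h t := by
      intro ξ h
      rw [← Groth.Agent.Lib.Helper45.HomExtend.stalkSpecializes_smul, ← hf']
      exact (TopCat.Presheaf.germ_stalkSpecializes_apply _ _ _ _).symm
    have hnotmem : ∀ (ξ : Y) (h : ξ ⤳ y), ξ ≠ y → (L.presheaf.germ ⊤ ξ trivial) s ∉
        IsLocalRing.maximalIdeal (Y.presheaf.stalk ξ) •
          (⊤ : Submodule (Y.presheaf.stalk ξ) (L.presheaf.stalk ξ)) := by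
      intro ξ h hne hmem
      have h1 := hZ ξ hmem
      have h2 := (hdimf ξ y h hne).1
      omega
    have hfξ : ∀ (ξ : Y) (h : ξ ⤳ y), ξ ≠ y → Cyc.specMap y ξ h f ≠ 0 := by
      intro ξ h hne h0
      apply hnotmem ξ h hne
      rw [hgermξ ξ h]
      have h4 : Y.presheaf.stalkSpecializes h f ∈
          IsLocalRing.maximalIdeal (Y.presheaf.stalk ξ) :=
        (IsLocalRing.residue_eq_zero_iff _).mp h0
      exact Submodule.smul_mem_smul h4 Submodule.mem_top
    have htξ : ∀ (ξ : Y) (h : ξ ⤳ y), ξ ≠ y → L.presheaf.stalkSpecializes h t ∉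
        IsLocalRing.maximalIdeal (Y.presheaf.stalk ξ) •
          (⊤ : Submodule (Y.presheaf.stalk ξ) (L.presheaf.stalk ξ)) := by
      intro ξ h hne hmem
      apply hnotmem ξ h hne
      rw [hgermξ ξ h]
      exact Submodule.smul_mem _ _ hmem
    have hle : ∀ ξ : Y, ξ ⤳ y → δ ξ ≤ δ y + 1 := fun ξ _ => by rw [hd]; exact hdim ξ
    rw [Groth.Agent.Lib.Helper85.C1Zero.length_quot_eq_finsum δ hdimf y hle f hfreg hfξ]
    apply finsum_congr
    intro ξ
    unfold Cyc.secDivFun Cyc.subschemeFun
    simp only
    by_cases hc : ξ ⤳ y ∧ δ y + 1 = δ ξ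
    · rw [dif_pos hc, dif_pos hc]
      have hδξ : δ ξ = k + 1 := by omega
      rw [if_pos hδξ]
      have hset : {z : Y | (𝟙 Y : Y ⟶ Y) z = ξ} = {ξ} := by
        ext z
        simp
      rw [hset, finsum_mem_singleton]
      have hne : ξ ≠ y := by
        rintro rfl
        omega
      rw [hgermξ ξ hc.1, Groth.Agent.Lib.Helper85.SecOrd.secOrdAt_eq_general L ξ y hc.1 t ht' hann
        (htξ ξ hc.1 hne)]
      rfl
    · rw [dif_neg hc, dif_neg hc, mul_zero]
  · rw [if_neg hd]
    symm
    apply finsum_eq_zero_of_forall_eq_zero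
    intro ξ
    unfold Cyc.secDivFun Cyc.subschemeFun
    simp only
    by_cases hc : ξ ⤳ y ∧ δ y + 1 = δ ξ
    · have h5 : δ ξ ≠ k + 1 := by omega
      rw [if_neg h5, zero_mul]
    · rw [dif_neg hc, mul_zero]

end Groth.Agent.S1925
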