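import Mathlib
import Groth.Statements.S19244
-- import your own Groth.Agent.* helpers here

set_option autoImplicit false
universe v v' u u'
open HomAlg3

namespace Groth.Agent.S19244

open CategoryTheory CategoryTheory.Limits

section aux

variable {A : Type u} [Category.{v} A] [Abelian A]

theorem zsmul_id_of_mono {K X : A} (ι : K ⟶ X) [Mono ι] (n : ℤ) (h : n • ι = 0) :
    n • 𝟙 K = 0 := by
  rw [← cancel_mono ι, Preadditive.zsmul_comp, Category.id_comp, h, zero_comp]

theorem zsmul_id_of_epi {X C : A} (π : X ⟶ C) [Epi π] (n : ℤ) (h : n • π = 0) :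
    n • 𝟙 C = 0 := by
  rw [← cancel_epi π, Preadditive.comp_zsmul, Category.comp_id, h, comp_zero]

end aux

open CategoryTheory in
/-- Let A be an abelian category and let P be the class of bounded-torsion objects of A, those X with n
• 𝟙_X = 0 for some nonzero integer n; assume P is a Serre class. Let L : A ⥤ D be an additive
functor to a preadditive category exhibiting D as the localization of A at the morphisms whose
kernel and cokernel are in P (so D is the quotient category A_ℚ = A ⧸ A_{b-tor}; the source assumes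
A well-powered, which guarantees that this quotient exists). Then for all objects X, Y of A: (1) for
every nonzero integer n, multiplication by n is bijective on Hom_D(L X, L Y), so that this group is
naturally a ℚ-vector space; (2) a morphism f : X ⟶ Y satisfies L f = 0 if and only if n • f = 0 for
some nonzero integer n; (3) for every g : L X ⟶ L Y there are a nonzero integer n and f : X ⟶ Y with
n • g = L f. Equivalently, the natural map Hom_A(X, Y) ⊗_ℤ ℚ → Hom_D(L X, L Y) is an isomorphism. -/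
theorem result
    {A : Type u} [Category.{v} A] [Abelian A] {D : Type u'} [Category.{v'} D] [Preadditive D]
    (P : ObjectProperty A) (hP : ∀ X : A, P X ↔ ∃ n : ℤ, n ≠ 0 ∧ n • (𝟙 X) = 0) [P.IsSerreClass]
    (L : A ⥤ D) [L.Additive] [L.IsLocalization P.isoModSerre] (X Y : A) :
    (∀ n : ℤ, n ≠ 0 → Function.Bijective (fun g : L.obj X ⟶ L.obj Y => n • g)) ∧
    (∀ f : X ⟶ Y, L.map f = 0 ↔ ∃ n : ℤ, n ≠ 0 ∧ n • f = 0) ∧
    (∀ g : L.obj X ⟶ L.obj Y, ∃ (n : ℤ) (f : X ⟶ Y), n ≠ 0 ∧ n • g = L.map f) := by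
  have hW : ∀ (Z : A) (n : ℤ), n ≠ 0 → P.isoModSerre (n • 𝟙 Z) := by
    intro Z n hn
    constructor
    · change P (kernel (n • 𝟙 Z))
      rw [hP]
      refine ⟨n, hn, zsmul_id_of_mono (kernel.ι (n • 𝟙 Z)) n ?_⟩
      have := kernel.condition (n • 𝟙 Z)
      rwa [Preadditive.comp_zsmul, Category.comp_id] at this
    · change P (cokernel (n • 𝟙 Z))
      rw [hP]
      refine ⟨n, hn, zsmul_id_of_epi (cokernel.π (n • 𝟙 Z)) n ?_⟩
      have := cokernel.condition (n • 𝟙 Z)
      rwa [Preadditive.zsmul_comp, Category.id_comp] at this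
  have hiso : ∀ (Z : A) (n : ℤ), n ≠ 0 → IsIso (n • 𝟙 (L.obj Z)) := by
    intro Z n hn
    have h1 : IsIso (L.map (n • 𝟙 Z)) := Localization.inverts L P.isoModSerre _ (hW Z n hn)
    rwa [Functor.map_zsmul, L.map_id] at h1
  have part1 : ∀ n : ℤ, n ≠ 0 → Function.Bijective (fun g : L.obj X ⟶ L.obj Y => n • g) := by
    intro n hn
    have := hiso X n hn
    constructor
    · intro g g' h
      simp only at h
      have h' : (n • 𝟙 (L.obj X)) ≫ g = (n • 𝟙 (L.obj X)) ≫ g' := by
        rw [Preadditive.zsmul_comp, Preadditive.zsmul_comp, Category.id_comp, Category.id_comp, h]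
      exact (cancel_epi _).mp h'
    · intro g
      refine ⟨inv (n • 𝟙 (L.obj X)) ≫ g, ?_⟩
      simp only
      have : n • (inv (n • 𝟙 (L.obj X)) ≫ g) = (n • 𝟙 (L.obj X)) ≫ inv (n • 𝟙 (L.obj X)) ≫ g := by
        rw [Preadditive.zsmul_comp, Category.id_comp]
      rw [this, IsIso.hom_inv_id_assoc]
  refine ⟨part1, ?_, ?_⟩
  · intro f
    rw [ObjectProperty.SerreClassLocalization.map_eq_zero_iff L P, hP]
    constructor
    · rintro ⟨n, hn, h⟩
      refine ⟨n, hn, ?_⟩
      have : n • f = Abelian.factorThruImage f ≫ (n • 𝟙 _) ≫ Abelian.image.ι f := by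
        rw [Preadditive.zsmul_comp, Category.id_comp, Preadditive.comp_zsmul,
          Abelian.image.fac]
      rw [this, h, zero_comp, comp_zero]
    · rintro ⟨n, hn, h⟩
      refine ⟨n, hn, ?_⟩
      apply zsmul_id_of_mono (Abelian.image.ι f)
      rw [← cancel_epi (Abelian.factorThruImage f), Preadditive.comp_zsmul, Abelian.image.fac, h,
        comp_zero]
  · intro g
    obtain ⟨φ, rfl⟩ := Localization.exists_leftFraction L P.isoModSerre g
    -- φ.f : X ⟶ Y', φ.s : Y ⟶ Y'
    obtain ⟨n₁, hn₁, hk⟩ := (hP _).mp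
      (ObjectProperty.monoModSerre.isoModSerre_factorThruImage φ.hs.1).1
    obtain ⟨n₂, hn₂, hc⟩ := (hP _).mp φ.hs.2
    -- a : Y' ⟶ image s
    have ha0 : (n₂ • 𝟙 φ.Y') ≫ cokernel.π φ.s = 0 := by
      rw [Preadditive.zsmul_comp, Category.id_comp]
      have : n₂ • cokernel.π φ.s = cokernel.π φ.s ≫ (n₂ • 𝟙 _) := by
        rw [Preadditive.comp_zsmul, Category.comp_id]
      rw [this, hc, comp_zero]
    set a : φ.Y' ⟶ Abelian.image φ.s := kernel.lift (cokernel.π φ.s) (n₂ • 𝟙 φ.Y') ha0 with ha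
    have haι : a ≫ Abelian.image.ι φ.s = n₂ • 𝟙 φ.Y' := kernel.lift_ι _ _ _
    have hιa : Abelian.image.ι φ.s ≫ a = n₂ • 𝟙 _ := by
      rw [← cancel_mono (Abelian.image.ι φ.s), Category.assoc, haι, Preadditive.comp_zsmul,
        Category.comp_id, Preadditive.zsmul_comp, Category.id_comp]
    -- b : image s ⟶ Y
    set e := Abelian.factorThruImage φ.s with he
    have hb0 : kernel.ι e ≫ (n₁ • 𝟙 Y) = 0 := by
      rw [Preadditive.comp_zsmul, Category.comp_id]
      have : n₁ • kernel.ι e = (n₁ • 𝟙 _) ≫ kernel.ι e := by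
        rw [Preadditive.zsmul_comp, Category.id_comp]
      rw [this, hk, zero_comp]
    set b : Abelian.image φ.s ⟶ Y := Abelian.epiDesc e (n₁ • 𝟙 Y) hb0 with hb
    have heb : e ≫ b = n₁ • 𝟙 Y := Abelian.comp_epiDesc _ _ _
    have hst : φ.s ≫ a ≫ b = (n₂ * n₁) • 𝟙 Y := by
      calc φ.s ≫ a ≫ b = (e ≫ Abelian.image.ι φ.s) ≫ a ≫ b := by rw [he, Abelian.image.fac]
      _ = e ≫ (Abelian.image.ι φ.s ≫ a) ≫ b := by simp only [Category.assoc]
      _ = _ := by
        rw [hιa, Preadditive.zsmul_comp, Category.id_comp, Preadditive.comp_zsmul, heb, mul_smul]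
    refine ⟨n₂ * n₁, φ.f ≫ a ≫ b, mul_ne_zero hn₂ hn₁, ?_⟩
    have hs : IsIso (L.map φ.s) := Localization.inverts L P.isoModSerre _ φ.hs
    have h1 : L.map φ.s ≫ L.map (a ≫ b) = (n₂ * n₁) • 𝟙 (L.obj Y) := by
      rw [← L.map_comp, hst, Functor.map_zsmul, L.map_id]
    have h2 : L.map (a ≫ b) = inv (L.map φ.s) ≫ ((n₂ * n₁) • 𝟙 (L.obj Y)) := by
      rw [← h1, IsIso.inv_hom_id_assoc]
    rw [L.map_comp, h2]
    change (n₂ * n₁) • (L.map φ.f ≫ inv (L.map φ.s)) = _
    simp only [Preadditive.comp_zsmul, Category.comp_id]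

end Groth.Agent.S19244
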