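import Mathlib
import Groth.Statements.S19246
import Groth.Agent.Lib.Helper96.TowerLim
-- import your own Groth.Agent.* helpers here

set_option autoImplicit false
universe u
open CohTop

namespace Groth.Agent.S19246

open CategoryTheory CategoryTheory.Limits TopologicalSpace Opposite Groth.Agent.Lib.Helper96 in
/-- Let X be a topological space and (M_n)_{n ≥ 0} an inverse system of abelian sheaves on X indexed by
the natural numbers, such that every M_n is flasque and every transition map M_{n+1} ⟶ M_n is an
epimorphism of sheaves with flasque kernel. Then the limit sheaf lim_n M_n is flasque. (The source's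
statement is about flasque de Rham–Witt systems on a scheme, whose definition is exactly this
condition on the underlying tower of abelian sheaves; the additional structure plays no role in the
assertion or its proof, so the row is stated for towers of abelian sheaves on any space.) -/
theorem result {X : TopCat.{u}} (M : ℕᵒᵖ ⥤ CohTop.Ab X) :
    (∀ n : ℕ, TopCat.Sheaf.IsFlasque (M.obj (op n))) →
      (∀ n : ℕ, Epi (M.map (homOfLE (Nat.le_succ n)).op)) →
      (∀ n : ℕ, TopCat.Sheaf.IsFlasque (kernel (M.map (homOfLE (Nat.le_succ n)).op) : CohTop.Ab X)) →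
      TopCat.Sheaf.IsFlasque (limit M : CohTop.Ab X) := by
  intro hfl hepi hker
  constructor
  intro U V i
  rw [AddCommGrpCat.epi_iff_surjective]
  have hVU : V.unop ≤ U.unop := leOfHom i.unop
  have hi : i = (homOfLE hVU).op := Subsingleton.elim _ _
  rw [hi]
  set U' := U.unop with hU'
  set V' := V.unop with hV'
  -- the morphism of towers
  let φ : M ⋙ TowerLim.Γ U' ⟶ M ⋙ TowerLim.Γ V' := Functor.whiskerLeft M (TowerLim.resNat hVU)
  have hφ : ∀ n : ℕ, φ.app (op n) = TowerLim.res (M.obj (op n)) hVU := fun n => rfl
  have h0 : Function.Surjective (φ.app (op 0)) := by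
    rw [hφ]
    have := (hfl 0).epi (homOfLE hVU).op
    exact (AddCommGrpCat.epi_iff_surjective _).mp this
  have hstep : ∀ (n : ℕ) (a : (TowerLim.Γ U').obj (M.obj (op n)))
      (b' : (TowerLim.Γ V').obj (M.obj (op (n + 1)))),
      φ.app (op n) a = TowerLim.tr (M ⋙ TowerLim.Γ V') n b' →
        ∃ a' : (TowerLim.Γ U').obj (M.obj (op (n + 1))),
          TowerLim.tr (M ⋙ TowerLim.Γ U') n a' = a ∧ φ.app (op (n + 1)) a' = b' := by
    intro n a b' hab
    set f := M.map (homOfLE (Nat.le_succ n)).op with hf
    have := hepi n
    change TowerLim.res (M.obj (op n)) hVU a = (TowerLim.Γ V').map f b' at hab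
    obtain ⟨t₀, ht₀⟩ := TowerLim.surjective_of_epi_of_isFlasque_kernel f (hker n) U' a
    have hδ : (TowerLim.Γ V').map f (TowerLim.res (M.obj (op (n + 1))) hVU t₀ - b') = 0 := by
      rw [map_sub, ← TowerLim.res_naturality, ht₀, hab, sub_self]
    obtain ⟨κ, hκ⟩ := TowerLim.exists_kernel_section f V' _ hδ
    have hKsurj : Function.Surjective (TowerLim.res (kernel f) hVU) :=
      (AddCommGrpCat.epi_iff_surjective _).mp ((hker n).epi (homOfLE hVU).op)
    obtain ⟨κ', hκ'⟩ := hKsurj κ
    refine ⟨t₀ - (TowerLim.Γ U').map (kernel.ι f) κ', ?_, ?_⟩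
    · change (TowerLim.Γ U').map f (t₀ - (TowerLim.Γ U').map (kernel.ι f) κ') = a
      rw [map_sub, ht₀]
      have : (TowerLim.Γ U').map f ((TowerLim.Γ U').map (kernel.ι f) κ') = 0 := by
        rw [← ConcreteCategory.comp_apply, ← Functor.map_comp, kernel.condition, Functor.map_zero]
        rfl
      rw [this, sub_zero]
    · change TowerLim.res (M.obj (op (n + 1))) hVU (t₀ - (TowerLim.Γ U').map (kernel.ι f) κ') = b'
      rw [map_sub, TowerLim.res_naturality, hκ', hκ, sub_sub_cancel]
  refine TowerLim.surjective_of_tower φ h0 hstep (TowerLim.secIsLimit M U') (TowerLim.secIsLimit M V')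
    (TowerLim.res (limit M) hVU) ?_
  intro n y
  exact (TowerLim.res_naturality (limit.π M (op n)) hVU y).symm

end Groth.Agent.S19246
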