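import Mathlib
import Groth.Statements.S19247
import Groth.Agent.Lib.Helper96.TowerLim
-- import your own Groth.Agent.* helpers here

set_option autoImplicit false
universe u
open CohTop

namespace Groth.Agent.S19247

open CategoryTheory CategoryTheory.Limits TopologicalSpace Opposite Groth.Agent.Lib.Helper96 in
/-- Let X be a topological space and S : 0 ⟶ M' ⟶ M ⟶ M'' ⟶ 0 a short exact sequence of ℕ-indexed
inverse systems of abelian sheaves on X (short exact in the abelian category of such systems, i.e.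
levelwise), such that each of M', M, M'' is a flasque tower: every term is flasque and every
transition map is an epimorphism of sheaves with flasque kernel. Then the induced map lim M ⟶ lim
M'' is an epimorphism of sheaves, so that, lim being left exact, the sequence 0 ⟶ lim M' ⟶ lim M ⟶
lim M'' ⟶ 0 is exact. (The source's statement is the exactness of lim on flasque de Rham–Witt
systems on a scheme; the de Rham–Witt structure plays no role, so the row is stated for towers of
abelian sheaves on any space.) -/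
theorem result {X : TopCat.{u}}
    (S : ShortComplex (ℕᵒᵖ ⥤ CohTop.Ab X)) (hS : S.ShortExact) :
    (∀ n : ℕ, TopCat.Sheaf.IsFlasque (S.X₁.obj (op n))) →
      (∀ n : ℕ, Epi (S.X₁.map (homOfLE (Nat.le_succ n)).op)) →
      (∀ n : ℕ, TopCat.Sheaf.IsFlasque (kernel (S.X₁.map (homOfLE (Nat.le_succ n)).op) : CohTop.Ab X)) →
    (∀ n : ℕ, TopCat.Sheaf.IsFlasque (S.X₂.obj (op n))) →
      (∀ n : ℕ, Epi (S.X₂.map (homOfLE (Nat.le_succ n)).op)) →
      (∀ n : ℕ, TopCat.Sheaf.IsFlasque (kernel (S.X₂.map (homOfLE (Nat.le_succ n)).op) : CohTop.Ab X)) →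
    (∀ n : ℕ, TopCat.Sheaf.IsFlasque (S.X₃.obj (op n))) →
      (∀ n : ℕ, Epi (S.X₃.map (homOfLE (Nat.le_succ n)).op)) →
      (∀ n : ℕ, TopCat.Sheaf.IsFlasque (kernel (S.X₃.map (homOfLE (Nat.le_succ n)).op) : CohTop.Ab X)) →
      Epi (limMap S.g) := by
  intro hfl₁ hepi₁ hker₁ _ _ _ _ _ _
  apply TowerLim.epi_of_surjective_sections
  intro U
  -- levelwise short exact sequences
  have hSn : ∀ n : ℕ, (S.map ((evaluation ℕᵒᵖ (CohTop.Ab X)).obj (op n))).ShortExact :=
    fun n => hS.map_of_exact _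
  have hg : ∀ n : ℕ, Function.Surjective ((TowerLim.Γ U).map (S.g.app (op n))) := by
    intro n
    have : TopCat.Sheaf.IsFlasque (S.map ((evaluation ℕᵒᵖ (CohTop.Ab X)).obj (op n))).X₁ := hfl₁ n
    have hepi := TopCat.Sheaf.IsFlasque.epi_of_shortExact (U := U) (hSn n)
    exact (AddCommGrpCat.epi_iff_surjective _).mp hepi
  have hex : ∀ (n : ℕ) (d : (TowerLim.Γ U).obj (S.X₂.obj (op n))),
      (TowerLim.Γ U).map (S.g.app (op n)) d = 0 →
        ∃ c : (TowerLim.Γ U).obj (S.X₁.obj (op n)), (TowerLim.Γ U).map (S.f.app (op n)) c = d := by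
    intro n d hd
    have h1 := (hSn n).exact.map_of_mono_of_preservesKernel (TowerLim.Γ U) (hSn n).mono_f
      inferInstance
    rw [ShortComplex.ab_exact_iff] at h1
    exact h1 d hd
  let φ : S.X₂ ⋙ TowerLim.Γ U ⟶ S.X₃ ⋙ TowerLim.Γ U := Functor.whiskerRight S.g (TowerLim.Γ U)
  have hφ : ∀ n : ℕ, φ.app (op n) = (TowerLim.Γ U).map (S.g.app (op n)) := fun n => rfl
  have hstep : ∀ (n : ℕ) (a : (TowerLim.Γ U).obj (S.X₂.obj (op n)))
      (b' : (TowerLim.Γ U).obj (S.X₃.obj (op (n + 1)))),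
      φ.app (op n) a = TowerLim.tr (S.X₃ ⋙ TowerLim.Γ U) n b' →
        ∃ a' : (TowerLim.Γ U).obj (S.X₂.obj (op (n + 1))),
          TowerLim.tr (S.X₂ ⋙ TowerLim.Γ U) n a' = a ∧ φ.app (op (n + 1)) a' = b' := by
    intro n a b' hab
    set j := (homOfLE (Nat.le_succ n)).op with hj
    change (TowerLim.Γ U).map (S.g.app (op n)) a = (TowerLim.Γ U).map (S.X₃.map j) b' at hab
    obtain ⟨a₀, ha₀⟩ := hg (n + 1) b'
    -- naturality of `g` and `f` on sections
    have hgnat : ∀ x : (TowerLim.Γ U).obj (S.X₂.obj (op (n + 1))),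
        (TowerLim.Γ U).map (S.g.app (op n)) ((TowerLim.Γ U).map (S.X₂.map j) x) =
          (TowerLim.Γ U).map (S.X₃.map j) ((TowerLim.Γ U).map (S.g.app (op (n + 1))) x) := by
      intro x
      rw [← ConcreteCategory.comp_apply, ← ConcreteCategory.comp_apply, ← Functor.map_comp,
        ← Functor.map_comp, S.g.naturality]
    have hfnat : ∀ x : (TowerLim.Γ U).obj (S.X₁.obj (op (n + 1))),
        (TowerLim.Γ U).map (S.f.app (op n)) ((TowerLim.Γ U).map (S.X₁.map j) x) =
          (TowerLim.Γ U).map (S.X₂.map j) ((TowerLim.Γ U).map (S.f.app (op (n + 1))) x) := by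
      intro x
      rw [← ConcreteCategory.comp_apply, ← ConcreteCategory.comp_apply, ← Functor.map_comp,
        ← Functor.map_comp, S.f.naturality]
    have hd : (TowerLim.Γ U).map (S.g.app (op n)) ((TowerLim.Γ U).map (S.X₂.map j) a₀ - a) = 0 := by
      rw [map_sub, hgnat, ha₀, hab, sub_self]
    obtain ⟨c, hc⟩ := hex n _ hd
    have := hepi₁ n
    obtain ⟨c', hc'⟩ := TowerLim.surjective_of_epi_of_isFlasque_kernel (S.X₁.map j) (hker₁ n) U c
    refine ⟨a₀ - (TowerLim.Γ U).map (S.f.app (op (n + 1))) c', ?_, ?_⟩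
    · change (TowerLim.Γ U).map (S.X₂.map j) (a₀ - (TowerLim.Γ U).map (S.f.app (op (n + 1))) c') = a
      rw [map_sub, ← hfnat, hc', hc, sub_sub_cancel]
    · change (TowerLim.Γ U).map (S.g.app (op (n + 1)))
        (a₀ - (TowerLim.Γ U).map (S.f.app (op (n + 1))) c') = b'
      rw [map_sub, ha₀]
      have : (TowerLim.Γ U).map (S.g.app (op (n + 1)))
          ((TowerLim.Γ U).map (S.f.app (op (n + 1))) c') = 0 := by
        rw [← ConcreteCategory.comp_apply, ← Functor.map_comp, ← NatTrans.comp_app, S.zero]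
        simp
      rw [this, sub_zero]
  refine TowerLim.surjective_of_tower φ (by rw [hφ]; exact hg 0) hstep
    (TowerLim.secIsLimit S.X₂ U) (TowerLim.secIsLimit S.X₃ U) ((TowerLim.Γ U).map (limMap S.g)) ?_
  intro n y
  change (TowerLim.Γ U).map (limit.π S.X₃ (op n)) ((TowerLim.Γ U).map (limMap S.g) y) =
    (TowerLim.Γ U).map (S.g.app (op n)) ((TowerLim.Γ U).map (limit.π S.X₂ (op n)) y)
  rw [← ConcreteCategory.comp_apply, ← ConcreteCategory.comp_apply, ← Functor.map_comp,
    ← Functor.map_comp, limMap_π]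

end Groth.Agent.S19247
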