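import Groth.Statements.S19253
import Groth.Agent.Lib.Helper83.RFColim
import Groth.Agent.Lib.Helper32.KInjRes
-- import your own Groth.Agent.* helpers here

set_option autoImplicit false
universe w w' v u
open CategoryTheory CategoryTheory.Limits
open CohDer

namespace Groth.Agent.S19253

section Aux
variable (C : Type u) [Category.{v} C] [Abelian C] [IsGrothendieckAbelian.{v} C]

lemma hasColimNat : HasColimitsOfShape ℕ C := by
  have : HasColimitsOfSize.{0, 0} C := hasColimitsOfSizeShrink.{0, 0, v, v} C
  infer_instance

lemma hasColimDiscNat : HasColimitsOfShape (Discrete ℕ) C := by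
  have : HasColimitsOfSize.{0, 0} C := hasColimitsOfSizeShrink.{0, 0, v, v} C
  infer_instance

lemma hasExactNat : haveI := hasColimNat C; HasExactColimitsOfShape ℕ C := by
  have : HasFilteredColimitsOfSize.{0, 0} C := hasFilteredColimitsOfSize_shrink.{0, 0, v, v}
  have : AB5OfSize.{0, 0} C := AB5OfSize_shrink.{0, 0, v, v} C
  exact AB5OfSize.ofShape ℕ

lemma hasExactDiscNat : haveI := hasColimDiscNat C; HasExactColimitsOfShape (Discrete ℕ) C := by
  have := hasColimNat C
  have := hasExactNat C
  have : HasColimitsOfSize.{0, 0} C := hasColimitsOfSizeShrink.{0, 0, v, v} C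
  have : HasCountableCoproducts C := ⟨fun J _ => inferInstance⟩
  have : HasFiniteBiproducts C := HasFiniteBiproducts.of_hasFiniteProducts
  have := CountableAB4.of_countableAB5 C
  infer_instance

lemma hasKInjRes : Groth.Agent.Lib.Helper32.KInjDerived.HasKInjRes C := fun K => by
  obtain ⟨I, f, hI, hf, _, _⟩ := Groth.Agent.Lib.Helper32.KInjRes.exists_kInjective_resolution K
  exact ⟨I, f, hI, hf⟩

end Aux


/-- (iii) ⇒ (iv): let A be a Grothendieck abelian category and F : A ⥤ Ab an additive left exact functor
such that every right derived functor RⁿF, n ≥ 0, preserves small filtered colimits; let RF : D(A) ⥤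
D(Ab) be the total right derived functor of F on unbounded derived categories (its existence is an
instance hypothesis). If RF preserves countable direct sums (countable direct sums in D(A) being
assumed to exist), then for every cochain complex K all of whose terms are F-acyclic (RⁱF(Kᵐ) = 0
for i > 0 and all m) the canonical map F(K) ⟶ RF(K) is an isomorphism in D(Ab). -/
theorem result
    {A : Type u} [Category.{v} A] [Abelian A] [IsGrothendieckAbelian.{v} A] [HasDerivedCategory.{w} A]
    [HasDerivedCategory.{w'} AddCommGrpCat.{v}]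
    (F : A ⥤ AddCommGrpCat.{v}) [F.Additive] [PreservesFiniteLimits F]
    (hcolim : ∀ (n : ℕ) (J : Type v) [SmallCategory J] [IsFiltered J], PreservesColimitsOfShape J (F.rightDerived n))
    [(F.mapHomotopyCategory (ComplexShape.up ℤ) ⋙ DerivedCategory.Qh).HasRightDerivedFunctor
      (HomotopyCategory.quasiIso A (ComplexShape.up ℤ))]
    [HasColimitsOfShape (Discrete ℕ) (DerivedCategory A)]
    [PreservesColimitsOfShape (Discrete ℕ) ((F.mapHomotopyCategory (ComplexShape.up ℤ) ⋙ DerivedCategory.Qh).totalRightDerived
      DerivedCategory.Qh (HomotopyCategory.quasiIso A (ComplexShape.up ℤ)))]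
    (K : CochainComplex A ℤ) (hK : ∀ (m : ℤ) (i : ℕ), 0 < i → IsZero ((F.rightDerived i).obj (K.X m))) :
    IsIso (((F.mapHomotopyCategory (ComplexShape.up ℤ) ⋙ DerivedCategory.Qh).totalRightDerivedUnit DerivedCategory.Qh
      (HomotopyCategory.quasiIso A (ComplexShape.up ℤ))).app ((HomotopyCategory.quotient A (ComplexShape.up ℤ)).obj K)) := by

  have := hasColimNat A
  have := hasColimDiscNat A
  have := hasExactNat A
  have := hasExactDiscNat A
  have := hasColimNat AddCommGrpCat.{v}
  have := hasColimDiscNat AddCommGrpCat.{v}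
  have := hasExactNat AddCommGrpCat.{v}
  have := hasExactDiscNat AddCommGrpCat.{v}
  have h := Groth.Agent.Lib.Helper83.RFColim.isIso_β_of_acyc F
    ((F.mapHomotopyCategory (ComplexShape.up ℤ) ⋙ DerivedCategory.Qh).totalRightDerived
      DerivedCategory.Qh (HomotopyCategory.quasiIso A (ComplexShape.up ℤ)))
    ((F.mapHomotopyCategory (ComplexShape.up ℤ) ⋙ DerivedCategory.Qh).totalRightDerivedUnit
      DerivedCategory.Qh (HomotopyCategory.quasiIso A (ComplexShape.up ℤ)))
    (hasKInjRes A) K (fun k => hK k)
  dsimp only [Groth.Agent.Lib.Helper32.TriRF.β] at h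
  have h2 := @IsIso.of_isIso_comp_left _ _ _ _ _ _ _ inferInstance h
  have h3 := @IsIso.of_isIso_comp_left _ _ _ _ _ _ _ inferInstance h2
  exact @IsIso.of_isIso_comp_right _ _ _ _ _ _ _ inferInstance h3
end Groth.Agent.S19253
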