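import Mathlib
import Groth.Statements.S19258
-- import your own Groth.Agent.* helpers here

set_option autoImplicit false
universe u
open PontDual

namespace Groth.Agent.S19258

abbrev T := AddCircle (1 : ℚ)

theorem torsion_mem (m : ℕ) (hm : 0 < m) (y : T) (hy : m • y = 0) :
    ∃ z : ℤ, y = z • ((((1 : ℚ) / m : ℚ)) : T) := by
  obtain ⟨q, rfl⟩ := QuotientAddGroup.mk_surjective y
  have h1 : ((m • q : ℚ) : T) = 0 := hy
  rw [AddCircle.coe_eq_zero_iff] at h1
  obtain ⟨n, hn⟩ := h1
  refine ⟨n, ?_⟩
  have hm' : (m : ℚ) ≠ 0 := by exact_mod_cast hm.ne'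
  have : q = n • ((1 : ℚ) / m) := by
    simp only [zsmul_eq_mul, mul_one, nsmul_eq_mul] at hn ⊢
    field_simp
    linarith
  rw [this]
  rfl

theorem one_char {G : Type u} [AddCommGroup G] (c χ : G →+ T) (hc : IsOfFinAddOrder c)
    (h : ∀ x, c x = 0 → χ x = 0) : ∃ k : ℤ, χ = k • c := by
  have hle : c.ker ≤ χ.ker := fun x hx => h x hx
  let χ'' : G ⧸ c.ker →+ T := QuotientAddGroup.lift c.ker χ hle
  obtain ⟨θ, hθ⟩ := (Module.Baer.of_divisible (AddCircle (1:ℚ))).extension_property_addMonoidHom
    (QuotientAddGroup.kerLift c) (QuotientAddGroup.kerLift_injective c) χ''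
  have hθ' : ∀ x, θ (c x) = χ x := by
    intro x
    have := DFunLike.congr_fun hθ (QuotientAddGroup.mk x)
    exact this
  set m := addOrderOf c with hm
  have hm0 : 0 < m := hc.addOrderOf_pos
  have hmc : ∀ x, m • c x = 0 := by
    intro x
    have : m • c = 0 := addOrderOf_nsmul_eq_zero c
    exact DFunLike.congr_fun this x
  set e : T := (((1 : ℚ) / m : ℚ) : T) with he
  have hme : m • e = 0 := by
    have hm' : (m : ℚ) ≠ 0 := by exact_mod_cast hm0.ne'
    change ((m • ((1 : ℚ) / m) : ℚ) : T) = 0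
    rw [AddCircle.coe_eq_zero_iff]
    exact ⟨1, by simp [hm']⟩
  obtain ⟨k, hk⟩ := torsion_mem m hm0 (θ e) (by rw [← map_nsmul, hme, map_zero])
  refine ⟨k, ?_⟩
  ext x
  obtain ⟨j, hj⟩ := torsion_mem m hm0 (c x) (hmc x)
  rw [← hθ' x, AddMonoidHom.smul_apply, hj, map_zsmul, hk, smul_comm]

theorem many_char : ∀ (n : ℕ) (G : Type u) [AddCommGroup G] (c : Fin n → G →+ T)
    (_ : ∀ i, IsOfFinAddOrder (c i)) (χ : G →+ T) (_ : ∀ x, (∀ i, c i x = 0) → χ x = 0),
    ∃ m : Fin n → ℤ, χ = ∑ i, m i • c i := by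
  intro n
  induction n with
  | zero =>
    intro G _ c _ χ h
    refine ⟨fun _ => 0, ?_⟩
    ext x
    simp only [Finset.univ_eq_empty, Finset.sum_empty, AddMonoidHom.zero_apply]
    exact h x (fun i => i.elim0)
  | succ n ih =>
    intro G _ c hc χ h
    let G1 : AddSubgroup G := (c 0).ker
    obtain ⟨m, hm⟩ := ih G1 (fun i => (c i.succ).comp G1.subtype)
      (fun i => by
        obtain ⟨N, hN0, hN⟩ := (hc i.succ).exists_nsmul_eq_zero
        rw [isOfFinAddOrder_iff_nsmul_eq_zero]
        refine ⟨N, hN0, ?_⟩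
        ext x
        have := DFunLike.congr_fun hN (x : G)
        simpa using this)
      (χ.comp G1.subtype)
      (fun x hx => by
        apply h
        intro i
        refine Fin.cases ?_ (fun i => ?_) i
        · exact x.2
        · exact hx i)
    let χ' : G →+ T := χ - ∑ i, m i • c i.succ
    have hχ' : ∀ x, c 0 x = 0 → χ' x = 0 := by
      intro x hx
      have := DFunLike.congr_fun hm (⟨x, hx⟩ : G1)
      simp only [χ', AddMonoidHom.sub_apply, AddMonoidHom.finsetSum_apply, AddMonoidHom.smul_apply]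
      simp only [AddMonoidHom.comp_apply, AddMonoidHom.finsetSum_apply, AddMonoidHom.smul_apply] at this
      rw [sub_eq_zero]
      exact this
    obtain ⟨k, hk⟩ := one_char (c 0) χ' (hc 0) hχ'
    refine ⟨Fin.cons k m, ?_⟩
    rw [Fin.sum_univ_succ]
    simp only [Fin.cons_zero, Fin.cons_succ]
    rw [← hk]
    simp [χ']


/-- Let G and G' be abelian groups such that every element of G' has finite order, and let β : G' →
Hom(G, ℚ/ℤ) be an injective homomorphism (equivalently a pairing G' × G → ℚ/ℤ with no left kernel).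
Endow G with the weak topology defined by G': the coarsest topology for which every character β(f),
f ∈ G', is continuous when ℚ/ℤ carries the discrete topology. Then every homomorphism χ : G → ℚ/ℤ
that is continuous for this topology on G and the discrete topology on ℚ/ℤ equals β(f) for some f ∈
G', so that β is a bijection from G' onto the group of continuous characters of G. -/
theorem result
    (G : Type u) (G' : Type u) [AddCommGroup G] [AddCommGroup G'] (hG' : IsAddTorsion G')
    (β : G' →+ (G →+ AddCircle (1 : ℚ))) (hβ : Function.Injective β)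
    (χ : G →+ AddCircle (1 : ℚ))
    (hχ : @Continuous G (AddCircle (1 : ℚ)) (⨅ f' : G', TopologicalSpace.induced (fun x : G => β f' x) ⊥) ⊥ χ) :
    ∃ f' : G', β f' = χ := by
  have hopen : @IsOpen G (⨅ f' : G', TopologicalSpace.induced (fun x : G => β f' x) ⊥) (χ ⁻¹' {0}) :=
    @IsOpen.preimage G T (⨅ f' : G', TopologicalSpace.induced (fun x : G => β f' x) ⊥) ⊥ χ hχ {0}
      (by trivial)
  have hmem : χ ⁻¹' {0} ∈ @nhds G (⨅ f' : G', TopologicalSpace.induced (fun x : G => β f' x) ⊥) 0 :=
    @IsOpen.mem_nhds G (⨅ f' : G', TopologicalSpace.induced (fun x : G => β f' x) ⊥) 0 _ hopen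
      (by simp)
  rw [nhds_iInf] at hmem
  have hpure : ∀ y : T, @nhds T ⊥ y = pure y := fun y =>
    congrFun (@nhds_discrete T ⊥ (@DiscreteTopology.mk T ⊥ rfl)) y
  simp only [nhds_induced, hpure] at hmem
  rw [Filter.mem_iInf] at hmem
  obtain ⟨I, hI, V, hV, hVeq⟩ := hmem
  have hfin : Finite I := hI
  obtain ⟨n, ⟨eI⟩⟩ := Finite.exists_equiv_fin I
  have hker : ∀ x : G, (∀ i : Fin n, β ((eI.symm i : I) : G') x = 0) → χ x = 0 := by
    intro x hx
    have hxmem : x ∈ χ ⁻¹' {0} := by
      rw [hVeq, Set.mem_iInter]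
      intro i
      have hVi := hV i
      rw [Filter.mem_comap] at hVi
      obtain ⟨t, ht, hts⟩ := hVi
      apply hts
      have h0 : β (i : G') 0 ∈ t := Filter.mem_pure.mp ht
      rw [map_zero] at h0
      have := hx (eI i)
      rw [Equiv.symm_apply_apply] at this
      change β (i : G') x ∈ t
      rw [this]
      exact h0
    exact hxmem
  obtain ⟨m, hm⟩ := many_char n G (fun i => β ((eI.symm i : I) : G'))
    (fun i => AddMonoidHom.isOfFinAddOrder β (hG' _)) χ hker
  refine ⟨∑ i, m i • ((eI.symm i : I) : G'), ?_⟩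
  rw [map_sum, hm]
  simp only [map_zsmul]

end Groth.Agent.S19258
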