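import Mathlib
import Groth.Statements.S19264
import Groth.Agent.Lib.Helper96.UFDAwayRem
-- import your own Groth.Agent.* helpers here

set_option autoImplicit false
universe u
open WittFil

namespace Groth.Agent.S19264

/-- the key identity: `zmon u n = (zmon u (n / p)) ^ p * ∏ x i ^ (n i % p)`. -/
theorem zmon_eq {A B : Type u} [CommRing A] [CommRing B] [Algebra A B] {r : ℕ} (x : Fin r → A)
    (u : Fin r → Bˣ) (hu : ∀ i, (u i : B) = algebraMap A B (x i)) (n : Fin r → ℤ) (p : ℕ)
    (hp : 0 < p) :
    WittFil.zmon u n = (WittFil.zmon u (fun i => n i / (p : ℤ))) ^ p *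
      algebraMap A B (∏ i, x i ^ (n i % (p : ℤ)).toNat) := by
  have hp' : (0 : ℤ) < (p : ℤ) := by exact_mod_cast hp
  have h1 : (∏ i, u i ^ n i : Bˣ) =
      (∏ i, u i ^ (n i / (p : ℤ))) ^ p * ∏ i, u i ^ (n i % (p : ℤ)).toNat := by
    rw [← Finset.prod_pow, ← Finset.prod_mul_distrib]
    refine Finset.prod_congr rfl fun i _ => ?_
    have h2 : n i = (n i / (p : ℤ)) * (p : ℤ) + (((n i % (p : ℤ)).toNat : ℕ) : ℤ) := by
      rw [Int.toNat_of_nonneg (Int.emod_nonneg _ hp'.ne')]
      exact (Int.ediv_mul_add_emod (n i) p).symm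
    conv_lhs => rw [h2]
    rw [zpow_add, zpow_mul, zpow_natCast, zpow_natCast]
  unfold WittFil.zmon
  rw [h1, Units.val_mul, Units.val_pow_eq_pow_val, map_prod]
  congr 1
  rw [Units.coe_prod]
  refine Finset.prod_congr rfl fun i _ => ?_
  rw [Units.val_pow_eq_pow_val, hu, map_pow]

open Groth.Agent.Lib.Helper96 in
/-- Let A be a unique factorisation domain of characteristic p, x_1, …, x_r pairwise non-associate prime
elements of A, B = A[1/(x_1⋯x_r)] with u_i the unit of B defined by x_i, n ∈ ℤ^r and m ≥ 0. The
restriction map from truncated p-typical Witt vectors of length m+1 to those of length m over B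
(forgetting the last coordinate) maps the filtered piece cut out by ∏ u_i ^ n_i onto the filtered
piece cut out by ∏ u_i ^ ⌊n_i / p⌋; that is, the image is exactly that piece. (The other parts of
the exact sequence, injectivity of the (m-fold) Verschiebung from the fractional ideal generated by
(∏ u_i ^ n_i)⁻¹ and exactness in the middle, are immediate from the definition and are not restated.
The published setting is a regular local ring; only unique factorisation is used.) -/
theorem result (p : ℕ) [Fact p.Prime] {A B : Type u} [CommRing A] [IsDomain A]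
    [UniqueFactorizationMonoid A] [CharP A p] [CommRing B] [Algebra A B] {r : ℕ} (x : Fin r → A)
    (hx : ∀ i, Prime (x i)) (hxa : ∀ i j, Associated (x i) (x j) → i = j)
    [IsLocalization.Away (∏ i, x i) B] (u : Fin r → Bˣ)
    (hu : ∀ i, (u i : B) = algebraMap A B (x i)) (n : Fin r → ℤ) (m : ℕ) :
    (TruncatedWittVector.truncate (Nat.le_succ m)) '' WittFil.fil p (m + 1) (A := A) (WittFil.zmon u n) =
      WittFil.fil p m (A := A) (WittFil.zmon u (fun i => n i / (p : ℤ))) := by
  have hp : p.Prime := Fact.out
  have hp' : (0 : ℤ) < (p : ℤ) := by exact_mod_cast hp.pos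
  set c := WittFil.zmon u n with hc
  set c' := WittFil.zmon u (fun i => n i / (p : ℤ)) with hc'
  set P : A := ∏ i, x i ^ (n i % (p : ℤ)).toNat with hP
  have hcc : c = c' ^ p * algebraMap A B P := zmon_eq x u hu n p hp.pos
  have hρ : ∀ i, (n i % (p : ℤ)).toNat < p := by
    intro i
    have h1 := Int.emod_lt_of_pos (n i) hp'
    have h2 := Int.emod_nonneg (n i) hp'.ne'
    omega
  ext y
  constructor
  · rintro ⟨X, hX, rfl⟩
    intro j
    rw [TruncatedWittVector.coeff_truncate]
    have hXj := hX (Fin.castLE (Nat.le_succ m) j)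
    set z := TruncatedWittVector.coeff (Fin.castLE (Nat.le_succ m) j) X with hz
    apply UFDAway.mem_range_of_pow_mul_prod_pow_mem_range x hx hxa
      (fun i => (n i % (p : ℤ)).toNat) hρ
    have hexp : m + 1 - 1 - ((Fin.castLE (Nat.le_succ m) j : Fin (m + 1)) : ℕ) =
        (m - 1 - (j : ℕ)) + 1 := by
      have := j.2
      simp only [Fin.val_castLE]
      omega
    rw [hexp, pow_succ, pow_mul, hcc] at hXj
    have : (z ^ p ^ (m - 1 - (j : ℕ)) * c') ^ p * algebraMap A B P =
        (z ^ p ^ (m - 1 - (j : ℕ))) ^ p * (c' ^ p * algebraMap A B P) := by ring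
    rw [this]
    exact hXj
  · intro hy
    refine ⟨TruncatedWittVector.mk p (fun j : Fin (m + 1) =>
      if h : (j : ℕ) < m then TruncatedWittVector.coeff ⟨j, h⟩ y else 0), ?_, ?_⟩
    · intro j
      rw [TruncatedWittVector.coeff_mk]
      by_cases h : (j : ℕ) < m
      · rw [dif_pos h]
        have hyj := hy ⟨j, h⟩
        have hexp : m + 1 - 1 - (j : ℕ) = (m - 1 - (j : ℕ)) + 1 := by omega
        rw [hexp, pow_succ, pow_mul, hcc]
        set z := TruncatedWittVector.coeff ⟨(j : ℕ), h⟩ y with hz
        have : (z ^ p ^ (m - 1 - (j : ℕ))) ^ p * (c' ^ p * algebraMap A B P) =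
            (z ^ p ^ (m - 1 - (j : ℕ)) * c') ^ p * algebraMap A B P := by ring
        rw [this]
        exact Subring.mul_mem _ (Subring.pow_mem _ hyj p) ⟨P, rfl⟩
      · rw [dif_neg h]
        have hj : (j : ℕ) = m := by have := j.2; omega
        rw [hj]
        simp only [Nat.add_sub_cancel, Nat.sub_self, pow_zero, pow_one, zero_mul]
        exact Subring.zero_mem _
    · apply TruncatedWittVector.ext
      intro i
      rw [TruncatedWittVector.coeff_truncate, TruncatedWittVector.coeff_mk]
      simp only [Fin.val_castLE]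
      rw [dif_pos i.2]

end Groth.Agent.S19264
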