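import Groth.Statements.S19267
import Groth.Agent.Lib.Helper96.WittTeich

set_option autoImplicit false
universe u
open WittFil

namespace Groth.Agent.S19267

open Groth.Agent.Lib.Helper96.WittTeich in
theorem coeff_truncate_teichmuller_mul (p : ℕ) [Fact p.Prime] {B : Type u} [CommRing B] (m : ℕ)
    (c : B) (a : TruncatedWittVector p m B) (j : Fin m) :
    TruncatedWittVector.coeff j (WittVector.truncate m (WittVector.teichmuller p c) * a) =
      c ^ p ^ (j : ℕ) * TruncatedWittVector.coeff j a := by
  obtain ⟨X, rfl⟩ := WittVector.truncate_surjective p m B a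
  rw [← map_mul, WittVector.coeff_truncate, WittVector.coeff_truncate, teichmuller_mul_coeff]

theorem key (p : ℕ) [Fact p.Prime] {A B : Type u}
    [CommRing A] [CommRing B] [Algebra A B] (m : ℕ) (u : Bˣ) (n l : ℤ)
    (a : TruncatedWittVector p m B) (ha : a ∈ WittFil.fil p m (A := A) ((u ^ n : Bˣ) : B)) :
    WittVector.truncate m (WittVector.teichmuller p ((u ^ l : Bˣ) : B)) * a ∈
      WittFil.fil p m (A := A) ((u ^ (n - (p : ℤ) ^ (m - 1) * l) : Bˣ) : B) := by
  intro j
  have h := ha j
  rw [coeff_truncate_teichmuller_mul, mul_pow, ← pow_mul, ← pow_add]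
  have hj : (j : ℕ) + (m - 1 - (j : ℕ)) = m - 1 := by have := j.2; omega
  rw [hj]
  have e : ((u ^ l : Bˣ) : B) ^ p ^ (m - 1) *
      ((u ^ (n - (p : ℤ) ^ (m - 1) * l) : Bˣ) : B) = ((u ^ n : Bˣ) : B) := by
    rw [← Units.val_pow_eq_pow_val, ← Units.val_mul]
    congr 1
    rw [← zpow_natCast, ← zpow_mul, ← zpow_add]
    congr 1
    push_cast
    ring
  have e2 : ((u ^ l : Bˣ) : B) ^ p ^ (m - 1) *
      TruncatedWittVector.coeff j a ^ p ^ (m - 1 - (j : ℕ)) *
      ((u ^ (n - (p : ℤ) ^ (m - 1) * l) : Bˣ) : B) =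
      TruncatedWittVector.coeff j a ^ p ^ (m - 1 - (j : ℕ)) * ((u ^ n : Bˣ) : B) := by
    rw [← e]; ring
  rw [e2]
  exact h

/-- Let A → B be a homomorphism of commutative rings, u a unit of B, m ≥ 0 and n, l integers. For an
element c of B call the filtered piece cut out by c the set of truncated p-typical Witt vectors of
length m over B whose j-th coordinate y_j satisfies: y_j ^ (p ^ (m-1-j)) · c lies in the image of A,
for every j < m. Then the piece cut out by u ^ (n − p^(m−1)·l) is exactly the image of the piece cut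
out by u ^ n under multiplication by the truncated Teichmüller representative [u ^ l]. (The
published case is B = S[[π]][1/π] over A = S[[π]] with u = π; the computation is the same in
general.) -/
theorem result (p : ℕ) [Fact p.Prime] {A B : Type u}
    [CommRing A] [CommRing B] [Algebra A B] (m : ℕ) (u : Bˣ) (n l : ℤ) :
    WittFil.fil p m (A := A) ((u ^ (n - (p : ℤ) ^ (m - 1) * l) : Bˣ) : B) =
      (fun a => WittVector.truncate m (WittVector.teichmuller p ((u ^ l : Bˣ) : B)) * a) ''
        WittFil.fil p m (A := A) ((u ^ n : Bˣ) : B) := by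
  apply Set.Subset.antisymm
  · intro b hb
    refine ⟨WittVector.truncate m (WittVector.teichmuller p ((u ^ (-l) : Bˣ) : B)) * b, ?_, ?_⟩
    · have := key p (A := A) m u (n - (p : ℤ) ^ (m - 1) * l) (-l) b hb
      have e : n - (p : ℤ) ^ (m - 1) * l - (p : ℤ) ^ (m - 1) * (-l) = n := by ring
      rwa [e] at this
    · simp only
      rw [← mul_assoc, ← map_mul, ← map_mul, ← Units.val_mul, ← zpow_add, add_neg_cancel, zpow_zero,
        Units.val_one, map_one, map_one, one_mul]
  · rintro _ ⟨a, ha, rfl⟩
    exact key p m u n l a ha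

end Groth.Agent.S19267
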