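import Mathlib
import Groth.Statements.S19268
import Groth.Agent.Lib.Helper96.WittFilLib2
import Groth.Agent.Lib.Helper96.PrimeAway
-- import your own Groth.Agent.* helpers here

set_option autoImplicit false
universe u
open WittFil

namespace Groth.Agent.S19268

open Groth.Agent.Lib.Helper96

section units

variable {B : Type u} [CommRing B] (u : Bˣ)

theorem upow (i : ℤ) (k : ℕ) : ((u ^ i : Bˣ) : B) ^ k = ((u ^ (i * k) : Bˣ) : B) := by
  rw [← Units.val_pow_eq_pow_val, ← zpow_natCast, ← zpow_mul]

theorem umul (a b : ℤ) : ((u ^ a : Bˣ) : B) * ((u ^ b : Bˣ) : B) = ((u ^ (a + b) : Bˣ) : B) := by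
  rw [← Units.val_mul, ← zpow_add]

theorem uzero : ((u ^ (0 : ℤ) : Bˣ) : B) = 1 := by
  rw [zpow_zero, Units.val_one]

end units

section setup

variable {S B : Type u} [CommRing S] [IsDomain S] [CommRing B]
  [Algebra (PowerSeries S) B] [Algebra S B]
  [IsScalarTower S (PowerSeries S) B] [IsLocalization.Away (PowerSeries.X : PowerSeries S) B]
  (u : Bˣ) (hu : (u : B) = algebraMap (PowerSeries S) B PowerSeries.X)

omit [IsDomain S] in
theorem finMult : ∀ a : PowerSeries S, a ≠ 0 → FiniteMultiplicity (PowerSeries.X : PowerSeries S) a := by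
  intro a ha
  obtain ⟨n, hn⟩ := PowerSeries.exists_coeff_ne_zero_iff_ne_zero.mpr ha
  exact ⟨n, fun hdvd => hn (PowerSeries.X_pow_dvd_iff.mp hdvd n (Nat.lt_succ_self n))⟩

omit [IsDomain S] [IsLocalization.Away (PowerSeries.X : PowerSeries S) B] in
theorem smap_eq (σ : S) :
    algebraMap S B σ = algebraMap (PowerSeries S) B (PowerSeries.C σ) := by
  rw [IsScalarTower.algebraMap_apply S (PowerSeries S) B σ, PowerSeries.algebraMap_apply]
  rfl

include hu in
theorem eq_zero_of_mul_inv_mem (σ : S)
    (h : algebraMap S B σ * ((u ^ (-1 : ℤ) : Bˣ) : B) ∈ (algebraMap (PowerSeries S) B).range) :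
    σ = 0 := by
  have hinj := PrimeAway.algebraMap_injective (B := B) (PowerSeries.X : PowerSeries S)
    PowerSeries.X_prime
  obtain ⟨a, ha⟩ := h
  have h1 : algebraMap (PowerSeries S) B (PowerSeries.C σ) =
      algebraMap (PowerSeries S) B (a * PowerSeries.X) := by
    rw [map_mul, ← hu, ha, ← smap_eq, mul_assoc, zpow_neg_one, Units.inv_mul, mul_one]
  have h2 := congrArg PowerSeries.constantCoeff (hinj h1)
  rw [map_mul, PowerSeries.constantCoeff_X, mul_zero, PowerSeries.constantCoeff_C] at h2
  exact h2

omit [IsDomain S] [Algebra (PowerSeries S) B] [IsScalarTower S (PowerSeries S) B]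
  [IsLocalization.Away (PowerSeries.X : PowerSeries S) B] in
theorem key1 (p m s j : ℕ) (hsj : s ≤ j) (hjm : j < m) (i t : ℤ) (σ : S) :
    (algebraMap S B σ * ((u ^ i : Bˣ) : B) ^ p ^ (j - s)) ^ p ^ (m - 1 - j) *
        ((u ^ (-((p : ℤ) ^ (m - 1 - s) * i) + t) : Bˣ) : B) =
      algebraMap S B (σ ^ p ^ (m - 1 - j)) * ((u ^ t : Bˣ) : B) := by
  have hexp : p ^ (j - s) * p ^ (m - 1 - j) = p ^ (m - 1 - s) := by
    rw [← pow_add]; congr 1; omega
  rw [mul_pow, ← pow_mul, hexp, upow, map_pow, mul_assoc, umul]
  congr 3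
  push_cast
  ring

end setup

/-- Let S be an integral domain of characteristic p, A = S[[π]] the power series ring, B = A[1/π] with u
the unit of B given by π, and let m > s ≥ 0 and i be an integer with s = 0 or p ∤ i; put n = p ^
(m−1−s) · i. For e in B write fil(e) for the set of truncated p-typical Witt vectors of length m
over B whose j-th coordinate y_j satisfies y_j ^ (p ^ (m−1−j)) · e ∈ A for all j, and for a Witt
vector c over S let Φ(c) ∈ W_m(B) be the length-m truncation of V^s(c · [u ^ i]) (V the
Verschiebung, [ ] the Teichmüller map, c mapped to B). Then Φ induces a bijection from the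
length-(m−s) truncated Witt vectors of S onto the graded piece fil(u^(−n)) / fil(u^(−n−1)): (1) Φ(c)
lies in fil(u^(−n)) for every c; (2) Φ(c) lies in fil(u^(−n−1)) exactly when the length-(m−s)
truncation of c is zero; (3) every element of fil(u^(−n)) is congruent to some Φ(c) modulo
fil(u^(−n−1)). (Published for S a regular local Noetherian F-finite F_p-algebra; the argument uses
only that S is a domain.) -/
theorem result (p : ℕ) [Fact p.Prime] {S B : Type u} [CommRing S]
    [IsDomain S] [CharP S p] [CommRing B] [Algebra (PowerSeries S) B] [Algebra S B]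
    [IsScalarTower S (PowerSeries S) B] [IsLocalization.Away (PowerSeries.X : PowerSeries S) B]
    (u : Bˣ) (hu : (u : B) = algebraMap (PowerSeries S) B PowerSeries.X) (m s : ℕ) (hs : s < m)
    (i : ℤ) (hsi : s = 0 ∨ ¬ ((p : ℤ) ∣ i)) :
    (∀ c : WittVector p S,
        WittFil.vShiftTeich p m s ((u ^ i : Bˣ) : B) c ∈
          WittFil.fil p m (A := PowerSeries S) ((u ^ (-((p : ℤ) ^ (m - 1 - s) * i)) : Bˣ) : B)) ∧
      (∀ c : WittVector p S,
        WittFil.vShiftTeich p m s ((u ^ i : Bˣ) : B) c ∈
            WittFil.fil p m (A := PowerSeries S) ((u ^ (-((p : ℤ) ^ (m - 1 - s) * i) - 1) : Bˣ) : B) ↔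
          WittVector.truncate (m - s) c = 0) ∧
      (∀ y ∈ WittFil.fil p m (A := PowerSeries S) ((u ^ (-((p : ℤ) ^ (m - 1 - s) * i)) : Bˣ) : B),
        ∃ c : WittVector p S,
          y - WittFil.vShiftTeich p m s ((u ^ i : Bˣ) : B) c ∈
            WittFil.fil p m (A := PowerSeries S)
              ((u ^ (-((p : ℤ) ^ (m - 1 - s) * i) - 1) : Bˣ) : B)) := by
  have hp : p.Prime := Fact.out
  have hXp : Prime (PowerSeries.X : PowerSeries S) := PowerSeries.X_prime
  have hinj : Function.Injective (algebraMap (PowerSeries S) B) :=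
    PrimeAway.algebraMap_injective (PowerSeries.X : PowerSeries S) hXp
  have hinjS : Function.Injective (algebraMap S B) := by
    intro a b hab
    rw [smap_eq a, smap_eq b] at hab
    exact PowerSeries.C_injective (hinj hab)
  have hchar : CharP B p := charP_of_injective_algebraMap hinjS p
  have hroot : ∀ (w : B) (k : ℕ), 1 ≤ k → w ^ k ∈ (algebraMap (PowerSeries S) B).range →
      w ∈ (algebraMap (PowerSeries S) B).range := fun w k hk h =>
    PrimeAway.mem_range_of_pow_mem_range (PowerSeries.X : PowerSeries S) hXp hk h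
  have hpk : ∀ k : ℕ, p ^ k ≠ 0 := fun k => pow_ne_zero k hp.ne_zero
  have hpk1 : ∀ k : ℕ, 1 ≤ p ^ k := fun k => Nat.one_le_pow _ _ hp.pos
  set N : ℤ := (p : ℤ) ^ (m - 1 - s) * i with hN
  -- part (1)
  have part1 : ∀ c : WittVector p S,
      WittFil.vShiftTeich p m s ((u ^ i : Bˣ) : B) c ∈
        WittFil.fil p m (A := PowerSeries S) ((u ^ (-N) : Bˣ) : B) := by
    intro c j
    by_cases hj : (j : ℕ) < s
    · rw [WittFilLib2.vShiftTeich_coeff_of_lt p m s _ c j hj, zero_pow (hpk _), zero_mul]
      exact Subring.zero_mem _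
    · push Not at hj
      rw [WittFilLib2.vShiftTeich_coeff_of_le p m s _ c j hj]
      have := key1 (B := B) u p m s j hj j.2 i 0 (c.coeff (j - s))
      rw [add_zero, uzero, mul_one] at this
      rw [this, smap_eq]
      exact ⟨_, rfl⟩
  refine ⟨part1, ?_, ?_⟩
  · -- part (2)
    intro c
    constructor
    · intro h
      apply TruncatedWittVector.ext
      intro l
      rw [WittVector.coeff_truncate, TruncatedWittVector.coeff_zero]
      have hl : (l : ℕ) + s < m := by have := l.2; omega
      have h1 := h ⟨l + s, hl⟩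
      rw [WittFilLib2.vShiftTeich_coeff_of_le p m s _ c ⟨l + s, hl⟩ (Nat.le_add_left _ _)] at h1
      simp only [Nat.add_sub_cancel] at h1
      have h2 := key1 (B := B) u p m s (l + s) (Nat.le_add_left _ _) hl i (-1) (c.coeff l)
      simp only [Nat.add_sub_cancel] at h2
      rw [sub_eq_add_neg, h2] at h1
      have h3 := eq_zero_of_mul_inv_mem u hu _ h1
      exact (pow_eq_zero_iff (hpk _)).mp h3
    · intro h j
      by_cases hj : (j : ℕ) < s
      · rw [WittFilLib2.vShiftTeich_coeff_of_lt p m s _ c j hj, zero_pow (hpk _), zero_mul]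
        exact Subring.zero_mem _
      · push Not at hj
        rw [WittFilLib2.vShiftTeich_coeff_of_le p m s _ c j hj]
        have hjs : (j : ℕ) - s < m - s := by have := j.2; omega
        have h1 := congrArg (TruncatedWittVector.coeff ⟨(j : ℕ) - s, hjs⟩) h
        rw [WittVector.coeff_truncate, TruncatedWittVector.coeff_zero] at h1
        rw [h1, map_zero, zero_mul, zero_pow (hpk _), zero_mul]
        exact Subring.zero_mem _
  · -- part (3)
    intro y hy
    obtain ⟨yy, rfl⟩ := WittVector.truncate_surjective p m B y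
    -- the normalised coordinates
    have hω : ∀ j : ℕ, ∃ ω : PowerSeries S, s ≤ j → j < m →
        algebraMap (PowerSeries S) B ω =
          yy.coeff j * ((u ^ (-((p : ℤ) ^ (j - s) * i)) : Bˣ) : B) := by
      intro j
      by_cases h : s ≤ j ∧ j < m
      · have hj := hy ⟨j, h.2⟩
        rw [WittVector.coeff_truncate] at hj
        have hexp : p ^ (j - s) * p ^ (m - 1 - j) = p ^ (m - 1 - s) := by
          rw [← pow_add]; congr 1; omega
        have h1 : (yy.coeff j * ((u ^ (-((p : ℤ) ^ (j - s) * i)) : Bˣ) : B)) ^ p ^ (m - 1 - j) =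
            yy.coeff j ^ p ^ (m - 1 - j) * ((u ^ (-N) : Bˣ) : B) := by
          rw [mul_pow, upow]
          congr 3
          have hexpZ : ((p : ℤ) ^ (j - s)) * (p : ℤ) ^ (m - 1 - j) = (p : ℤ) ^ (m - 1 - s) := by
            exact_mod_cast hexp
          push_cast
          linear_combination (-i) * hexpZ
        rw [← h1] at hj
        obtain ⟨ω, hω⟩ := hroot _ _ (hpk1 _) hj
        exact ⟨ω, fun _ _ => hω⟩
      · exact ⟨0, fun h1 h2 => absurd ⟨h1, h2⟩ h⟩
    choose ω hω using hω
    set c : WittVector p S := WittVector.mk p (fun l => PowerSeries.constantCoeff (ω (l + s)))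
      with hc
    refine ⟨c, ?_⟩
    set Φ : WittVector p B := (WittVector.verschiebung)^[s]
      (WittVector.map (algebraMap S B) c * WittVector.teichmuller p ((u ^ i : Bˣ) : B)) with hΦ
    have hΦt : WittFil.vShiftTeich p m s ((u ^ i : Bˣ) : B) c = WittVector.truncate m Φ := rfl
    set D : WittVector p B := yy - Φ with hD
    have hDt : WittVector.truncate m yy - WittFil.vShiftTeich p m s ((u ^ i : Bˣ) : B) c =
        WittVector.truncate m D := by
      rw [hΦt, hD, map_sub]
    set e : B := ((u ^ (-N) : Bˣ) : B) with he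
    -- Step A
    have hA : WittVector.truncate m D ∈ WittFil.fil p m (A := PowerSeries S) e := by
      rw [← hDt]
      exact WittFilLib2.fil_sub p hroot m e hy (part1 c)
    -- Step B
    have hΨy : WittFilLib.Psi p m e yy ∈ WittFilLib.Tm p (A := PowerSeries S) m :=
      (WittFilLib2.mem_fil_iff p hroot m e yy).mp hy
    obtain ⟨α, hα⟩ := (WittFilLib.mem_Tm_iff p m _).mp hΨy
    set γ : WittVector p (PowerSeries S) := WittVector.mk p (fun j =>
      if s ≤ j then (PowerSeries.C (c.coeff (j - s))) ^ p ^ (m - 1) else 0) with hγ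
    have hΦcoeff_lt : ∀ j, j < m → j < s → Φ.coeff j = 0 := by
      intro j _ hjs
      rw [hΦ, WittVector.iterate_verschiebung_coeff_eq_zero _ hjs]
    have hΦcoeff_le : ∀ j, j < m → s ≤ j → Φ.coeff j =
        algebraMap S B (c.coeff (j - s)) * ((u ^ i : Bˣ) : B) ^ p ^ (j - s) := by
      intro j hjm hjs
      have := WittFilLib2.vShiftTeich_coeff_of_le p m s ((u ^ i : Bˣ) : B) c ⟨j, hjm⟩ hjs
      rw [hΦt, WittVector.coeff_truncate] at this
      exact this
    have hexp2 : ∀ j, s ≤ j → j < m → p ^ (j - s) * p ^ (m - 1) = p ^ (m - 1 - s) * p ^ j := by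
      intro j hjs hjm
      rw [← pow_add, ← pow_add]; congr 1; omega
    have hγt : WittVector.truncate m (WittVector.map (algebraMap (PowerSeries S) B) γ) =
        WittVector.truncate m (WittFilLib.Psi p m e Φ) := by
      apply TruncatedWittVector.ext
      intro j
      rw [WittVector.coeff_truncate, WittVector.coeff_truncate, WittVector.map_coeff,
        WittFilLib.Psi_coeff, hγ, WittVector.coeff_mk]
      by_cases hjs : s ≤ (j : ℕ)
      · rw [if_pos hjs, hΦcoeff_le j j.2 hjs, map_pow, ← smap_eq, mul_pow, ← pow_mul,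
          hexp2 j hjs j.2, he, upow, upow, mul_assoc, umul]
        have : i * ((p ^ (m - 1 - s) * p ^ (j : ℕ) : ℕ) : ℤ) + -N * ((p ^ (j : ℕ) : ℕ) : ℤ) = 0 := by
          rw [hN]; push_cast; ring
        rw [this, uzero, mul_one]
      · push Not at hjs
        rw [if_neg (by omega), hΦcoeff_lt j j.2 hjs, zero_pow (hpk _), zero_mul, map_zero]
    have hDΨ : WittVector.truncate m (WittFilLib.Psi p m e D) =
        WittVector.truncate m (WittVector.map (algebraMap (PowerSeries S) B) (α - γ)) := by
      rw [hD, WittFilLib.Psi_sub, map_sub, map_sub, map_sub, hα, hγt]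
    have hcc : WittVector.truncate m (WittVector.map (PowerSeries.constantCoeff (R := S)) (α - γ)) = 0 := by
      rw [map_sub, map_sub, sub_eq_zero]
      apply TruncatedWittVector.ext
      intro j
      rw [WittVector.coeff_truncate, WittVector.coeff_truncate, WittVector.map_coeff,
        WittVector.map_coeff, hγ, WittVector.coeff_mk]
      have hαj := congrArg (TruncatedWittVector.coeff j) hα
      rw [WittVector.coeff_truncate, WittVector.coeff_truncate, WittVector.map_coeff,
        WittFilLib.Psi_coeff] at hαj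
      by_cases hjs : s ≤ (j : ℕ)
      · rw [if_pos hjs]
        have hαω : α.coeff j = (ω j) ^ p ^ (m - 1) := by
          apply hinj
          rw [hαj, map_pow, hω j hjs j.2, mul_pow, he, upow, upow]
          congr 3
          rw [hN]
          have := hexp2 j hjs j.2
          have h' : ((p : ℤ) ^ ((j : ℕ) - s)) * (p : ℤ) ^ (m - 1) = (p : ℤ) ^ (m - 1 - s) * (p : ℤ) ^ (j : ℕ) := by
            exact_mod_cast this
          push_cast
          linear_combination i * h'
        rw [hαω, map_pow, map_pow, PowerSeries.constantCoeff_C, hc, WittVector.coeff_mk,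
          Nat.sub_add_cancel hjs]
      · push Not at hjs
        rw [if_neg (by omega), map_zero]
        rw [← PowerSeries.X_dvd_iff]
        have hs0 : s ≠ 0 := by omega
        have hpi : ¬ ((p : ℤ) ∣ i) := hsi.resolve_left hs0
        set q := p ^ (s - (j : ℕ)) with hq
        set r := p ^ (m - 1 - s + (j : ℕ)) with hr
        have hqr : q * r = p ^ (m - 1) := by
          rw [hq, hr, ← pow_add]; congr 1; omega
        have hNr : N * ((p ^ (j : ℕ) : ℕ) : ℤ) = (r : ℤ) * i := by
          rw [hN, hr, pow_add]; push_cast; ring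
        have h1 : yy.coeff j ^ p ^ (m - 1) * e ^ p ^ (j : ℕ) =
            (yy.coeff j ^ q * ((u ^ (-i) : Bˣ) : B)) ^ r := by
          rw [mul_pow, ← pow_mul, hqr, he, upow, upow]
          congr 3
          rw [neg_mul, hNr]; ring
        have ht : yy.coeff j ^ q * ((u ^ (-i) : Bˣ) : B) ∈ (algebraMap (PowerSeries S) B).range := by
          apply hroot _ r (hpk1 _)
          rw [← h1, ← hαj]
          exact ⟨_, rfl⟩
        have hkn : ¬ ((q : ℤ) ∣ -i) := by
          intro hdiv
          apply hpi
          rw [dvd_neg] at hdiv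
          refine dvd_trans ?_ hdiv
          rw [hq]
          push_cast
          exact dvd_pow_self _ (by omega)
        obtain ⟨τ, hτ⟩ := PrimeAway.pow_mul_zpow_pred_mem_range (PowerSeries.X : PowerSeries S)
          hXp u hu finMult (hpk _) hkn ht
        have h2 : yy.coeff j ^ q * ((u ^ (-i) : Bˣ) : B) =
            algebraMap (PowerSeries S) B (τ * PowerSeries.X) := by
          rw [map_mul, hτ, ← hu, mul_assoc]
          congr 1
          rw [← Units.val_mul, ← zpow_add_one, sub_add_cancel]
        have h3 : α.coeff j = (τ * PowerSeries.X) ^ r := by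
          apply hinj
          rw [hαj, h1, h2, map_pow]
        rw [h3]
        exact dvd_pow (Dvd.intro_left τ rfl) (hpk _)
    -- Step C
    rw [hDt]
    intro j
    rw [WittVector.coeff_truncate]
    obtain ⟨a, ha⟩ := hA j
    rw [WittVector.coeff_truncate] at ha
    set d := D.coeff j with hd
    -- the constant coefficient vanishes
    have h1 := congrArg (TruncatedWittVector.coeff j) hcc
    rw [WittVector.coeff_truncate, WittVector.map_coeff, TruncatedWittVector.coeff_zero,
      ← PowerSeries.X_dvd_iff] at h1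
    obtain ⟨b, hb⟩ := h1
    have h2 := congrArg (TruncatedWittVector.coeff j) hDΨ
    rw [WittVector.coeff_truncate, WittVector.coeff_truncate, WittVector.map_coeff,
      WittFilLib.Psi_coeff, hb] at h2
    have hexp : m - 1 = (m - 1 - (j : ℕ)) + j := by have := j.2; omega
    have h3 : a ^ p ^ (j : ℕ) = PowerSeries.X * b := by
      apply hinj
      rw [← h2, map_pow, ha, mul_pow, ← pow_mul, ← pow_add, ← hexp]
    have h4 : (PowerSeries.X : PowerSeries S) ∣ a := by
      apply hXp.dvd_of_dvd_pow (n := p ^ (j : ℕ))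
      rw [h3]
      exact Dvd.intro _ rfl
    obtain ⟨a', rfl⟩ := h4
    refine ⟨a', ?_⟩
    rw [zpow_sub_one, Units.val_mul, ← mul_assoc, ← he, ← ha, map_mul, ← hu]
    rw [mul_comm (u : B), mul_assoc, Units.mul_inv, mul_one]

end Groth.Agent.S19268
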