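import Mathlib
import Groth.Statements.S19269
-- import your own Groth.Agent.* helpers here

set_option autoImplicit false
universe u
open CAlg

namespace Groth.Agent.S19269

open IsLocalRing in
/-- Let R be a Noetherian local ring with maximal ideal 𝔪, M a finitely generated R-module and M^ its
𝔪-adic completion, a module over the 𝔪-adic completion R^ of R. Let N' be an R^-submodule of M^ and
N an R-submodule of M whose image in M^ is contained in N' and is dense in N' for the 𝔪-adic
topology, in the sense that for every y in N' and every k there is x in N with y ≡ x modulo the
kernel of M^ → M/𝔪^k M. Then N' equals the image of the completion of N under the map induced by the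
inclusion N → M (so N' is the completion of N), and N is the set of elements of M whose image in M^
lies in N'. -/
theorem result {R : Type u} [CommRing R]
    [IsNoetherianRing R] [IsLocalRing R] {M : Type u} [AddCommGroup M] [Module R M]
    [Module.Finite R M] (N : Submodule R M)
    (N' : Submodule (AdicCompletion (maximalIdeal R) R) (AdicCompletion (maximalIdeal R) M))
    (hle : ∀ x ∈ N, AdicCompletion.of (maximalIdeal R) M x ∈ N')
    (hdense : ∀ y ∈ N', ∀ k : ℕ, ∃ x ∈ N,
      AdicCompletion.eval (maximalIdeal R) M k y = Submodule.Quotient.mk x) :
    (N'.restrictScalars R =
        (LinearMap.range (AdicCompletion.map (maximalIdeal R) N.subtype)).restrictScalars R) ∧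
      (∀ x : M, x ∈ N ↔ AdicCompletion.of (maximalIdeal R) M x ∈ N') := by
  have hexact : Function.Exact (AdicCompletion.map (maximalIdeal R) N.subtype)
      (AdicCompletion.map (maximalIdeal R) N.mkQ) :=
    AdicCompletion.map_exact (I := maximalIdeal R) (f := N.subtype) (g := N.mkQ) N.injective_subtype
      (LinearMap.exact_subtype_mkQ N) N.mkQ_surjective
  constructor
  · ext y
    simp only [Submodule.restrictScalars_mem, LinearMap.mem_range]
    constructor
    · intro hy
      refine (hexact y).1 ?_
      apply AdicCompletion.ext
      intro k
      obtain ⟨x, hxN, hx⟩ := hdense y hy k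
      rw [AdicCompletion.map_val_apply, AdicCompletion.val_zero_apply]
      rw [AdicCompletion.eval_apply] at hx
      rw [hx, LinearMap.reduceModIdeal_apply]
      have : N.mkQ x = 0 := by simpa using hxN
      rw [this]
      rfl
    · rintro ⟨z, rfl⟩
      obtain ⟨t, rfl⟩ := AdicCompletion.ofTensorProduct_surjective_of_finite (maximalIdeal R) N z
      induction t using TensorProduct.induction_on with
      | zero => simp
      | tmul r n =>
        rw [AdicCompletion.ofTensorProduct_tmul, map_smul, AdicCompletion.map_of]
        exact N'.smul_mem r (hle _ n.2)
      | add a b ha hb =>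
        rw [map_add, map_add]
        exact N'.add_mem ha hb
  · intro x
    constructor
    · exact hle x
    · intro hx
      have hzero : N.mkQ x = 0 := by
        apply IsHausdorff.haus (inferInstance : IsHausdorff (maximalIdeal R) (M ⧸ N))
        intro k
        obtain ⟨xk, hxkN, hxk⟩ := hdense _ hx k
        rw [AdicCompletion.eval_of] at hxk
        have h1 : x - xk ∈ ((maximalIdeal R) ^ k • ⊤ : Submodule R M) := by
          rw [← Submodule.Quotient.eq]
          exact hxk
        rw [SModEq.zero]
        have h2 : N.mkQ x = N.mkQ (x - xk) := by
          rw [map_sub]
          have : N.mkQ xk = 0 := by simpa using hxkN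
          rw [this, sub_zero]
        rw [h2]
        have h3 : N.mkQ (x - xk) ∈ Submodule.map N.mkQ ((maximalIdeal R) ^ k • ⊤ : Submodule R M) :=
          Submodule.mem_map_of_mem h1
        rw [Submodule.map_smul''] at h3
        exact Submodule.smul_mono le_rfl le_top h3
      simpa using hzero

end Groth.Agent.S19269
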