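import Groth.Statements.S19270
import Mathlib
import Groth.Agent.Lib.Helper81.SmoothLength

set_option autoImplicit false
universe u
open CAlg

namespace Groth.Agent.S19270

open IsLocalRing TensorProduct

section deriv

/-- the quotient `A/𝔪²` -/
abbrev C (A : Type u) [CommRing A] [IsLocalRing A] : Type u := A ⧸ (maximalIdeal A) ^ 2

/-- a ring section of `A/𝔪² → k` (exists in characteristic `p` by formal smoothness of
`k` over `𝔽_p`) -/
theorem exists_section (p : ℕ) [Fact p.Prime] {A : Type u} [CommRing A] [IsLocalRing A] [CharP A p] :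
    ∃ σ : ResidueField A →+* C A, ∀ a : A,
      Ideal.Quotient.mk ((maximalIdeal A) ^ 2) a - σ (residue A a) ∈
        (maximalIdeal A).map (Ideal.Quotient.mk ((maximalIdeal A) ^ 2)) := by
  letI : Algebra (ZMod p) A := ZMod.algebra A p
  haveI : Algebra.FormallySmooth (ZMod p) (ResidueField A) :=
    Groth.Agent.Lib.Helper81.FieldSmooth.formallySmooth_zmod p _
  let g : C A →ₐ[ZMod p] ResidueField A :=
    Ideal.Quotient.factorₐ (ZMod p) (Ideal.pow_le_self (two_ne_zero))
  have hle : (maximalIdeal A) ^ 2 ≤ maximalIdeal A := Ideal.pow_le_self two_ne_zero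
  have hg : Function.Surjective g := Ideal.Quotient.factor_surjective hle
  have hgmk : ∀ a : A, g (Ideal.Quotient.mk _ a) = residue A a := fun a => rfl
  have hker : RingHom.ker (g : C A →+* ResidueField A) =
      (maximalIdeal A).map (Ideal.Quotient.mk ((maximalIdeal A) ^ 2)) := by
    ext c
    obtain ⟨a, rfl⟩ := Ideal.Quotient.mk_surjective c
    rw [RingHom.mem_ker]
    constructor
    · intro h
      have : a ∈ maximalIdeal A := by
        have h' : residue A a = 0 := h
        rwa [residue_eq_zero_iff] at h'
      exact Ideal.mem_map_of_mem _ this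
    · intro h
      rw [Ideal.mem_map_iff_of_surjective _ Ideal.Quotient.mk_surjective] at h
      obtain ⟨b, hb, hab⟩ := h
      rw [← hab]
      show residue A b = 0
      rwa [residue_eq_zero_iff]
  have hnil : IsNilpotent (RingHom.ker (g : C A →+* ResidueField A)) := by
    refine ⟨2, ?_⟩
    rw [hker, ← Ideal.map_pow, Ideal.zero_eq_bot, Ideal.map_eq_bot_iff_le_ker, Ideal.mk_ker]
  let σ := Algebra.FormallySmooth.liftOfSurjective (AlgHom.id (ZMod p) (ResidueField A)) g hg hnil
  refine ⟨σ, fun a => ?_⟩
  rw [← hker, RingHom.mem_ker, map_sub]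
  have := Algebra.FormallySmooth.liftOfSurjective_apply (AlgHom.id (ZMod p) (ResidueField A)) g hg
    hnil (residue A a)
  rw [RingHom.coe_coe, RingHom.coe_coe, this, hgmk, AlgHom.id_apply, sub_self]


variable {A : Type u} [CommRing A] [IsLocalRing A]

/-- the ideal `𝔪/𝔪²` of `A/𝔪²` -/
abbrev mC (A : Type u) [CommRing A] [IsLocalRing A] : Ideal (C A) :=
  (maximalIdeal A).map (Ideal.Quotient.mk ((maximalIdeal A) ^ 2))

lemma mC_mul_eq_zero {c c' : C A} (hc : c ∈ mC A) (hc' : c' ∈ mC A) : c * c' = 0 := by
  have : c * c' ∈ mC A * mC A := Ideal.mul_mem_mul hc hc'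
  rw [← Ideal.map_mul, ← pow_two] at this
  have h0 : ((maximalIdeal A) ^ 2).map (Ideal.Quotient.mk ((maximalIdeal A) ^ 2)) = ⊥ := by
    rw [Ideal.map_eq_bot_iff_le_ker, Ideal.mk_ker]
  rw [h0] at this
  exact this

/-- the derivation `a ↦ [a] - σ(ā)` -/
noncomputable def derivOfSection (σ : ResidueField A →+* C A)
    (hσ : ∀ a : A, Ideal.Quotient.mk ((maximalIdeal A) ^ 2) a - σ (residue A a) ∈ mC A) :
    Derivation ℤ A (C A) where
  toLinearMap := ((Ideal.Quotient.mk ((maximalIdeal A) ^ 2) : A →+ C A) -
    ((σ.comp (residue A) : A →+* C A) : A →+ C A)).toIntLinearMap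
  map_one_eq_zero' := by
    simp
  leibniz' a b := by
    have h := mC_mul_eq_zero (hσ a) (hσ b)
    simp only [AddMonoidHom.coe_toIntLinearMap, AddMonoidHom.sub_apply, AddMonoidHom.coe_coe,
      RingHom.comp_apply, map_mul, Algebra.smul_def, Ideal.Quotient.algebraMap_eq]
    linear_combination (-1 : C A) * h

lemma derivOfSection_apply (σ : ResidueField A →+* C A)
    (hσ : ∀ a : A, Ideal.Quotient.mk ((maximalIdeal A) ^ 2) a - σ (residue A a) ∈ mC A) (a : A) :
    derivOfSection σ hσ a = Ideal.Quotient.mk ((maximalIdeal A) ^ 2) a - σ (residue A a) := rfl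

end deriv


section key
open KaehlerDifferential

theorem cotangent_linearIndependent {A : Type u} [CommRing A] [IsRegularLocalRing A]
    {N : ℕ} (x : Fin N → A) (hx : Ideal.span (Set.range x) = maximalIdeal A)
    (hN : ringKrullDim A = (N : WithBot ℕ∞)) (hxm : ∀ j, x j ∈ maximalIdeal A) :
    LinearIndependent (ResidueField A)
      (fun j => (maximalIdeal A).toCotangent ⟨x j, hxm j⟩ : Fin N → CotangentSpace A) := by
  apply linearIndependent_of_top_le_span_of_card_eq_finrank
  · rw [top_le_iff]
    have h1 : Submodule.span A (Set.range (fun j => (⟨x j, hxm j⟩ : maximalIdeal A))) = ⊤ := by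
      apply Submodule.map_injective_of_injective (maximalIdeal A).injective_subtype
      rw [Submodule.map_span, ← Set.range_comp, Submodule.map_top, Submodule.range_subtype]
      exact hx
    rw [← CotangentSpace.span_image_eq_top_iff, ← Set.range_comp] at h1
    exact h1
  · have h := (IsRegularLocalRing.iff_finrank_cotangentSpace A).mp inferInstance
    rw [hN] at h
    rw [Fintype.card_fin]
    exact_mod_cast h.symm

theorem mem_maximalIdeal_of_sum_smul_D_mem (p : ℕ) [Fact p.Prime]
    {A : Type u} [CommRing A] [IsRegularLocalRing A] [CharP A p]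
    {N : ℕ} (x : Fin N → A) (hx : Ideal.span (Set.range x) = maximalIdeal A)
    (hN : ringKrullDim A = (N : WithBot ℕ∞)) (a : Fin N → A)
    (h : ∑ j, a j • KaehlerDifferential.D ℤ A (x j) ∈
      maximalIdeal A • (⊤ : Submodule A (Ω[A⁄ℤ]))) :
    ∀ j, a j ∈ maximalIdeal A := by
  have hxm : ∀ j, x j ∈ maximalIdeal A := fun j => hx ▸ Ideal.subset_span ⟨j, rfl⟩
  obtain ⟨σ, hσ⟩ := exists_section p (A := A)
  let L := (derivOfSection σ hσ).liftKaehlerDifferential
  have hLD : ∀ b : A, L (KaehlerDifferential.D ℤ A b) =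
      Ideal.Quotient.mk ((maximalIdeal A) ^ 2) b - σ (residue A b) := by
    intro b
    rw [Derivation.liftKaehlerDifferential_comp_D, derivOfSection_apply]
  have hL : ∀ ω, L ω ∈ mC A := by
    intro ω
    have hω : ω ∈ Submodule.span A (Set.range (KaehlerDifferential.D ℤ A)) := by
      rw [KaehlerDifferential.span_range_derivation]; trivial
    induction hω using Submodule.span_induction with
    | mem ω hω =>
      obtain ⟨b, rfl⟩ := hω
      rw [hLD]; exact hσ b
    | zero => rw [map_zero]; exact zero_mem _
    | add ω ω' _ _ h1 h2 => rw [map_add]; exact add_mem h1 h2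
    | smul r ω _ h1 =>
      rw [map_smul, Algebra.smul_def]
      exact Ideal.mul_mem_left _ _ h1
  have hL0 : ∀ ω ∈ maximalIdeal A • (⊤ : Submodule A (Ω[A⁄ℤ])), L ω = 0 := by
    intro ω hω
    refine Submodule.smul_induction_on hω (fun μ hμ ω' _ => ?_) (fun ω₁ ω₂ h1 h2 => ?_)
    · rw [map_smul, Algebra.smul_def]
      exact mC_mul_eq_zero (Ideal.mem_map_of_mem _ hμ) (hL ω')
    · rw [map_add, h1, h2, add_zero]
  have h1 : L (∑ j, a j • KaehlerDifferential.D ℤ A (x j)) =
      Ideal.Quotient.mk ((maximalIdeal A) ^ 2) (∑ j, a j * x j) := by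
    rw [map_sum, map_sum]
    refine Finset.sum_congr rfl fun j _ => ?_
    rw [map_smul, hLD, (residue_eq_zero_iff _).mpr (hxm j), map_zero, sub_zero, Algebra.smul_def,
      map_mul]
    rfl
  rw [hL0 _ h] at h1
  have h2 : ∑ j, a j * x j ∈ (maximalIdeal A) ^ 2 := Ideal.Quotient.eq_zero_iff_mem.mp h1.symm
  have hli := cotangent_linearIndependent x hx hN hxm
  rw [Fintype.linearIndependent_iff] at hli
  have h3 : ∑ j, residue A (a j) • (maximalIdeal A).toCotangent ⟨x j, hxm j⟩ = 0 := by
    have : ∀ j, residue A (a j) • (maximalIdeal A).toCotangent ⟨x j, hxm j⟩ =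
        (maximalIdeal A).toCotangent (a j • ⟨x j, hxm j⟩) := by
      intro j
      rw [map_smul]
      exact algebraMap_smul (ResidueField A) (a j) _
    simp_rw [this]
    rw [← map_sum, Ideal.toCotangent_eq_zero]
    convert h2
    simp
  intro j
  exact (residue_eq_zero_iff _).mp (hli _ h3 j)

end key




open IsLocalRing KaehlerDifferential in
/-- Let A be a regular local ring of prime characteristic p, of Krull dimension N, with maximal ideal
generated by x_1, …, x_N, and assume that the module Ω_A of absolute Kähler differentials of A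
(differentials relative to ℤ, equivalently relative to the prime field) is a free A-module of finite
rank. Then dx_1, …, dx_N are part of a basis of Ω_A: there exist a basis b of Ω_A and an injection e
of the indices 1, …, N into the index type of b with b (e i) = d(x_i) for all i. (In the published
statement A is a regular local F-finite algebra over the prime field and the freeness and finiteness
of Ω_A form the first assertion, taken there from the literature; here they are hypotheses.) -/
theorem result (p : ℕ) [Fact p.Prime]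
    {A : Type u} [CommRing A] [IsRegularLocalRing A] [CharP A p]
    [Module.Free A (KaehlerDifferential ℤ A)] [Module.Finite A (KaehlerDifferential ℤ A)]
    {N : ℕ} (x : Fin N → A) (hx : Ideal.span (Set.range x) = maximalIdeal A)
    (hN : ringKrullDim A = (N : WithBot ℕ∞)) :
    ∃ (ι : Type u) (b : Module.Basis ι A (KaehlerDifferential ℤ A)) (e : Fin N ↪ ι),
      ∀ i : Fin N, b (e i) = KaehlerDifferential.D ℤ A (x i) := by
  classical
  let mk1 : (Ω[A⁄ℤ]) →ₗ[A] (ResidueField A) ⊗[A] (Ω[A⁄ℤ]) :=
    TensorProduct.mk A (ResidueField A) (Ω[A⁄ℤ]) 1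
  let vbar : Fin N → (ResidueField A) ⊗[A] (Ω[A⁄ℤ]) := fun j => mk1 (D ℤ A (x j))
  have hli : LinearIndependent (ResidueField A) vbar := by
    rw [Fintype.linearIndependent_iff]
    intro c hc j
    choose a ha using fun j => Ideal.Quotient.mk_surjective (c j)
    have h1 : mk1 (∑ j, a j • D ℤ A (x j)) = ∑ j, c j • vbar j := by
      rw [map_sum]
      refine Finset.sum_congr rfl fun j _ => ?_
      rw [map_smul, ← ha j]
      exact (algebraMap_smul (ResidueField A) (a j) _).symm
    have hmem : ∑ j, a j • D ℤ A (x j) ∈ maximalIdeal A • (⊤ : Submodule A (Ω[A⁄ℤ])) := by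
      rw [← LinearMap.ker_tensorProductMk]
      exact h1.trans hc
    have := mem_maximalIdeal_of_sum_smul_D_mem p x hx hN a hmem j
    rw [← ha j]
    exact (residue_eq_zero_iff _).mpr this
  have hs : LinearIndepOn (ResidueField A) id (Set.range vbar) := hli.linearIndepOn_id
  let bk := Module.Basis.extend hs
  have hsurj : Function.Surjective mk1 :=
    TensorProduct.mk_surjective A (Ω[A⁄ℤ]) (ResidueField A) Ideal.Quotient.mk_surjective
  let w : ↥(hs.extend (Set.subset_univ _)) → Ω[A⁄ℤ] := fun i =>
    if h : ∃ j, vbar j = i.1 then D ℤ A (x h.choose) else Function.surjInv hsurj i.1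
  have hw : ∀ i, mk1 (w i) = i.1 := by
    intro i
    by_cases h : ∃ j, vbar j = i.1
    · simp only [w, dif_pos h]
      exact h.choose_spec
    · simp only [w, dif_neg h]
      exact Function.surjInv_eq hsurj _
  have hbij : Function.Bijective (Finsupp.linearCombination (ResidueField A) (mk1 ∘ w)) := by
    have : mk1 ∘ w = bk := by
      funext i
      rw [Function.comp_apply, hw, Module.Basis.coe_extend]
    rw [this, ← Module.Basis.coe_repr_symm]
    exact bk.repr.symm.bijective
  have hbij' := Module.IsLocalRing.linearCombination_bijective_of_flat w hbij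
  let b : Module.Basis _ A (Ω[A⁄ℤ]) := Module.Basis.mk (v := w) hbij'.1 (by
    rw [← Finsupp.range_linearCombination, LinearMap.range_eq_top.mpr hbij'.2])
  refine ⟨_, b, ⟨fun j => ⟨vbar j, hs.subset_extend _ ⟨j, rfl⟩⟩, fun j j' h => ?_⟩, fun i => ?_⟩
  · exact hli.injective (congrArg Subtype.val h)
  · rw [Module.Basis.mk_apply]
    have h : ∃ j, vbar j = vbar i := ⟨i, rfl⟩
    simp only [w, Function.Embedding.coeFn_mk, dif_pos h]
    rw [hli.injective h.choose_spec]


end Groth.Agent.S19270
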