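import Groth.Statements.S19272
import Mathlib

set_option autoImplicit false
universe u
open WittFil

namespace Groth.Agent.S19272

/-- If `x` is prime and `x ^ (N * k + 1) ∣ β ^ k` with `k ≥ 1` then `x ^ (N + 1) ∣ β`. -/
theorem pow_dvd_of_pow_dvd_pow {A : Type u} [CommRing A] [IsDomain A] {x β : A} (hx : Prime x)
    {N k : ℕ} (h : x ^ (N * k + 1) ∣ β ^ k) : x ^ (N + 1) ∣ β := by
  rw [pow_dvd_iff_le_emultiplicity] at h ⊢
  rw [emultiplicity_pow hx] at h
  by_cases hfin : emultiplicity x β = ⊤
  · rw [hfin]; exact le_top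
  · obtain ⟨v, hv⟩ := ENat.ne_top_iff_exists.mp hfin
    rw [← hv] at h ⊢
    have h3 : N * k + 1 ≤ k * v := by exact_mod_cast h
    have h4 : N + 1 ≤ v := by
      by_contra hlt
      have : v ≤ N := by omega
      have : k * v ≤ k * N := Nat.mul_le_mul_left k this
      nlinarith
    exact_mod_cast h4

/-- Let A be a unique factorisation domain of characteristic p, x_1, …, x_r pairwise non-associate prime
elements of A, B = A[1/(x_1⋯x_r)] with u_i the unit of B defined by x_i, m ≥ 0, and n ∈ ℤ^r with n_i
< 0 for every i. Then every truncated p-typical Witt vector of length m over B lying in the filtered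
piece cut out by ∏ u_i ^ n_i (every coordinate y_j has y_j ^ (p ^ (m−1−j)) · ∏ u_i ^ n_i in the
image of A) has all its coordinates in the image of the ideal (x_1⋯x_r)·A. (The published item,
stated for the filtered de Rham–Witt pieces in all degrees over a regular local ring, says only that
such vectors have all coordinates in A; this row states the divisibility of every coordinate by
x_1⋯x_r that its proof establishes, in degree zero, for a unique factorisation domain in place of a
regular local ring.) -/
theorem result (p : ℕ) [Fact p.Prime] {A B : Type u} [CommRing A] [IsDomain A]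
    [UniqueFactorizationMonoid A] [CharP A p] [CommRing B] [Algebra A B] {r : ℕ} (x : Fin r → A)
    (hx : ∀ i, Prime (x i)) (hxa : ∀ i j, Associated (x i) (x j) → i = j)
    [IsLocalization.Away (∏ i, x i) B] (u : Fin r → Bˣ)
    (hu : ∀ i, (u i : B) = algebraMap A B (x i)) (m : ℕ) (n : Fin r → ℤ) (hn : ∀ i, n i < 0)
    (a : TruncatedWittVector p m B) (ha : a ∈ WittFil.fil p m (A := A) (WittFil.zmon u n))
    (j : Fin m) :
    ∃ b : A, TruncatedWittVector.coeff j a = algebraMap A B ((∏ i, x i) * b) := by
  classical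
  have hp : p.Prime := Fact.out
  set π : A := ∏ i, x i with hπ
  have hπ0 : π ≠ 0 := Finset.prod_ne_zero_iff.mpr fun i _ => (hx i).ne_zero
  have hinj : Function.Injective (algebraMap A B) :=
    IsLocalization.injective B (M := Submonoid.powers π)
      (powers_le_nonZeroDivisors_of_noZeroDivisors hπ0)
  set y : B := TruncatedWittVector.coeff j a with hy
  set k : ℕ := p ^ (m - 1 - (j : ℕ)) with hk
  have hk1 : 1 ≤ k := Nat.one_le_pow _ _ hp.pos
  obtain ⟨α, hα⟩ := ha j
  -- the inverse of the monomial
  let e : Fin r → ℕ := fun i => (-(n i)).toNat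
  have he : ∀ i, (e i : ℤ) = -(n i) := fun i => Int.toNat_of_nonneg (by have := hn i; omega)
  have he1 : ∀ i, 1 ≤ e i := fun i => by
    have := he i; have := hn i; omega
  set γ : A := ∏ i, x i ^ e i with hγ
  have hcγ : WittFil.zmon u n * algebraMap A B γ = 1 := by
    have h1 : (∏ i, u i ^ n i : Bˣ) * (∏ i, u i ^ e i : Bˣ) = 1 := by
      rw [← Finset.prod_mul_distrib]
      refine Finset.prod_eq_one fun i _ => ?_
      rw [← zpow_natCast, ← zpow_add, he, add_neg_cancel, zpow_zero]
    have h2 := congrArg (fun z : Bˣ => (z : B)) h1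
    simp only [Units.val_mul, Units.val_one] at h2
    rw [WittFil.zmon, hγ, map_prod]
    rw [← h2]
    congr 1
    rw [Units.coe_prod]
    refine Finset.prod_congr rfl fun i _ => ?_
    rw [Units.val_pow_eq_pow_val, hu, map_pow]
  have hyk : y ^ k = algebraMap A B (α * γ) := by
    rw [map_mul, hα, mul_assoc, hcγ, mul_one]
  -- write y as a fraction
  obtain ⟨⟨β, ⟨_, ⟨N, rfl⟩⟩⟩, hβ⟩ := IsLocalization.surj (Submonoid.powers π) y
  simp only at hβ
  -- hβ : y * algebraMap (π ^ N) = algebraMap β
  have hβk : β ^ k = α * γ * π ^ (N * k) := by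
    apply hinj
    rw [map_pow, ← hβ, mul_pow, hyk, ← map_pow, ← map_mul, ← pow_mul]
  -- each x i ^ (N+1) divides β
  have hdiv : ∀ i, x i ^ (N + 1) ∣ β := by
    intro i
    apply pow_dvd_of_pow_dvd_pow (hx i) (k := k)
    rw [hβk]
    have h1 : x i ^ (N * k) ∣ π ^ (N * k) :=
      pow_dvd_pow_of_dvd (Finset.dvd_prod_of_mem x (Finset.mem_univ i)) _
    have h2 : x i ∣ γ := by
      have : x i ∣ x i ^ e i := dvd_pow_self _ (by have := he1 i; omega)
      exact this.trans (Finset.dvd_prod_of_mem (fun i => x i ^ e i) (Finset.mem_univ i))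
    rw [pow_succ, mul_comm (x i ^ (N * k)) (x i)]
    calc x i * x i ^ (N * k) ∣ γ * π ^ (N * k) := mul_dvd_mul h2 h1
      _ ∣ α * γ * π ^ (N * k) := by rw [mul_assoc]; exact dvd_mul_left _ _
  have hprod : (∏ i, x i ^ (N + 1)) ∣ β := by
    refine Finset.prod_dvd_of_isRelPrime ?_ (fun i _ => hdiv i)
    intro i _ i' _ hii'
    change IsRelPrime (x i ^ (N + 1)) (x i' ^ (N + 1))
    apply IsRelPrime.pow
    rw [(hx i).irreducible.isRelPrime_iff_not_dvd]
    intro hd
    exact hii' (hxa i i' ((hx i).associated_of_dvd (hx i') hd))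
  rw [Finset.prod_pow] at hprod
  obtain ⟨b, hb⟩ := hprod
  refine ⟨b, ?_⟩
  have hunit : IsUnit (algebraMap A B (π ^ N)) := by
    rw [map_pow]
    exact (IsLocalization.Away.algebraMap_isUnit (S := B) π).pow N
  apply hunit.mul_right_cancel
  rw [hβ, hb, ← map_mul]
  congr 1
  rw [pow_succ]
  ring

end Groth.Agent.S19272
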