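import Mathlib
import Groth.Statements.S19273
-- import your own Groth.Agent.* helpers here

set_option autoImplicit false
universe u
open WittFil

namespace Groth.Agent.S19273

open KaehlerDifferential in
/-- Let A be an integral domain of prime characteristic p, x_1, …, x_N elements of A, r ≤ N, B =
A[1/(x_1⋯x_r)] with u_i the unit of B defined by x_i for i ≤ r, and suppose that the module Ω_A of
absolute Kähler differentials of A is free with a basis b indexed by {1, …, N} ⊔ ι whose i-th vector
is d(x_i) for i ≤ N. Then the module of logarithmic 1-forms — the A-submodule of Ω_B spanned by the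
image of Ω_A and the forms u_i⁻¹ · d(x_i), i ≤ r — is a free A-module: it has a basis indexed by {1,
…, N} ⊔ ι whose vector at i ≤ r is u_i⁻¹ · d(x_i), at r < i ≤ N is d(x_i), and at k ∈ ι is the image
of b_k. (In the published statement A is a regular local F-finite algebra over the prime field with
maximal ideal (x_1, …, x_N), the basis of Ω_A comes from the preceding lemma, and the assertion
covers the logarithmic q-forms for all q together with their identification with the log de Rham
complex of the log ring; only the degree-one freeness is stated here, from the properties of A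
actually used.) -/
theorem result (p : ℕ) [Fact p.Prime]
    {A B : Type u} [CommRing A] [IsDomain A] [CharP A p] [CommRing B] [Algebra A B] {r N : ℕ}
    (hr : r ≤ N) (x : Fin N → A) [IsLocalization.Away (∏ i : Fin r, x (Fin.castLE hr i)) B]
    (u : Fin r → Bˣ) (hu : ∀ i, (u i : B) = algebraMap A B (x (Fin.castLE hr i)))
    {ι : Type u} (b : Module.Basis (Fin N ⊕ ι) A (Ω[A⁄ℤ])) (hb : ∀ i, b (Sum.inl i) = D ℤ A (x i)) :
    ∃ e : Module.Basis (Fin N ⊕ ι) A
        (W4c6katofilta.logForms1 (fun i : Fin r => x (Fin.castLE hr i)) u),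
      (∀ i : Fin r, (e (Sum.inl (Fin.castLE hr i)) : Ω[B⁄ℤ]) =
          ((u i)⁻¹ : Bˣ) • KaehlerDifferential.map ℤ ℤ A B (D ℤ A (x (Fin.castLE hr i)))) ∧
      (∀ i : Fin N, r ≤ (i : ℕ) →
          (e (Sum.inl i) : Ω[B⁄ℤ]) = KaehlerDifferential.map ℤ ℤ A B (D ℤ A (x i))) ∧
      (∀ k : ι, (e (Sum.inr k) : Ω[B⁄ℤ]) = KaehlerDifferential.map ℤ ℤ A B (b (Sum.inr k))) := by
  classical
  set π : A := ∏ i : Fin r, x (Fin.castLE hr i) with hπ
  set f : Ω[A⁄ℤ] →ₗ[A] Ω[B⁄ℤ] := KaehlerDifferential.map ℤ ℤ A B with hf
  have hloc : IsLocalization (Submonoid.powers π) B := ‹IsLocalization.Away π B›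
  have hlm : IsLocalizedModule (Submonoid.powers π) f :=
    KaehlerDifferential.isLocalizedModule_map (R := ℤ) (S := A) (T := B) (Submonoid.powers π)
  -- the elements are nonzero
  have hxne : ∀ i : Fin N, x i ≠ 0 := by
    intro i h0
    have := b.ne_zero (Sum.inl i)
    rw [hb, h0, map_zero] at this
    exact this rfl
  have hπ0 : π ≠ 0 := Finset.prod_ne_zero_iff.mpr fun i _ => hxne _
  have hinj : Function.Injective (algebraMap A B) :=
    IsLocalization.injective B (M := Submonoid.powers π)
      (powers_le_nonZeroDivisors_of_noZeroDivisors hπ0)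
  -- the bases over `B`
  set βB : Module.Basis (Fin N ⊕ ι) B (Ω[B⁄ℤ]) :=
    b.ofIsLocalizedModule B (Submonoid.powers π) f with hβB
  set c : Fin N ⊕ ι → Bˣ :=
    Sum.elim (fun i : Fin N => if h : (i : ℕ) < r then (u ⟨i, h⟩)⁻¹ else 1) (fun _ => 1) with hc
  set eB : Module.Basis (Fin N ⊕ ι) B (Ω[B⁄ℤ]) := βB.unitsSMul c with heB
  have heB_apply : ∀ j, eB j = c j • f (b j) := by
    intro j
    rw [heB, Module.Basis.unitsSMul_apply, hβB, Module.Basis.ofIsLocalizedModule_apply]
  have hc_lt : ∀ i : Fin r, c (Sum.inl (Fin.castLE hr i)) = (u i)⁻¹ := by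
    intro i
    have h : ((Fin.castLE hr i : Fin N) : ℕ) < r := by simp
    rw [hc, Sum.elim_inl, dif_pos h]
    rfl
  have hc_ge : ∀ i : Fin N, r ≤ (i : ℕ) → c (Sum.inl i) = 1 := by
    intro i hi
    rw [hc, Sum.elim_inl, dif_neg (by omega)]
  have hc_inr : ∀ k : ι, c (Sum.inr k) = 1 := fun k => rfl
  -- linear independence over `A`
  have hliA : LinearIndependent A (fun j => eB j) := by
    apply LinearIndependent.restrict_scalars (K := B) _ eB.linearIndependent
    intro a a' h
    simp only [Algebra.smul_def, mul_one] at h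
    exact hinj h
  -- membership
  set L := W4c6katofilta.logForms1 (fun i : Fin r => x (Fin.castLE hr i)) u with hL
  have hfL : ∀ ω, f ω ∈ L := fun ω =>
    Submodule.subset_span (Set.mem_union_left _ ⟨ω, rfl⟩)
  have hmem : ∀ j, eB j ∈ L := by
    intro j
    rw [heB_apply]
    rcases j with i | k
    · by_cases h : (i : ℕ) < r
      · have hi : i = Fin.castLE hr ⟨i, h⟩ := by ext; simp
        rw [hi, hc_lt, hb]
        exact Submodule.subset_span (Set.mem_union_right _ ⟨⟨i, h⟩, rfl⟩)
      · rw [hc_ge i (by omega), one_smul]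
        exact hfL _
    · rw [hc_inr, one_smul]
      exact hfL _
  -- the images of the basis vectors are in the span
  have hfb : ∀ j, f (b j) ∈ Submodule.span A (Set.range fun j => eB j) := by
    intro j
    rcases j with i | k
    · by_cases h : (i : ℕ) < r
      · obtain ⟨i', rfl⟩ : ∃ i' : Fin r, i = Fin.castLE hr i' := ⟨⟨i, h⟩, by ext; simp⟩
        have h1 : f (b (Sum.inl (Fin.castLE hr i'))) =
            x (Fin.castLE hr i') • eB (Sum.inl (Fin.castLE hr i')) := by
          rw [heB_apply, hc_lt, ← algebraMap_smul B (x (Fin.castLE hr i')), ← hu i',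
            Units.smul_def, smul_smul, Units.mul_inv, one_smul]
        rw [h1]
        exact Submodule.smul_mem _ _ (Submodule.subset_span ⟨_, rfl⟩)
      · have h1 : f (b (Sum.inl i)) = eB (Sum.inl i) := by
          rw [heB_apply, hc_ge i (by omega), one_smul]
        rw [h1]
        exact Submodule.subset_span ⟨_, rfl⟩
    · have h1 : f (b (Sum.inr k)) = eB (Sum.inr k) := by
        rw [heB_apply, hc_inr, one_smul]
      rw [h1]
      exact Submodule.subset_span ⟨_, rfl⟩
  have hLle : L ≤ Submodule.span A (Set.range fun j => eB j) := by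
    rw [hL, W4c6katofilta.logForms1, Submodule.span_le]
    rintro z (⟨ω, rfl⟩ | ⟨i, rfl⟩)
    · have hω : ω ∈ Submodule.span A (Set.range b) := by rw [b.span_eq]; trivial
      change f ω ∈ _
      induction hω using Submodule.span_induction with
      | mem ω h =>
        obtain ⟨j, rfl⟩ := h
        exact hfb j
      | zero => rw [map_zero]; exact Submodule.zero_mem _
      | add ω ω' _ _ h1 h2 => rw [map_add]; exact Submodule.add_mem _ h1 h2
      | smul a ω _ h1 => rw [map_smul]; exact Submodule.smul_mem _ _ h1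
    · have h1 : ((u i)⁻¹ : Bˣ) • f (D ℤ A (x (Fin.castLE hr i))) =
          eB (Sum.inl (Fin.castLE hr i)) := by
        rw [heB_apply, hc_lt, hb]
      change ((u i)⁻¹ : Bˣ) • f (D ℤ A (x (Fin.castLE hr i))) ∈ _
      rw [h1]
      exact Submodule.subset_span ⟨_, rfl⟩
  -- the basis
  set ê : Fin N ⊕ ι → L := fun j => ⟨eB j, hmem j⟩ with hê
  have hli : LinearIndependent A ê := by
    apply LinearIndependent.of_comp L.subtype
    exact hliA
  have hsp : ⊤ ≤ Submodule.span A (Set.range ê) := by
    rintro ⟨z, hz⟩ -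
    have hz' := hLle hz
    have h1 : Submodule.span A (Set.range fun j => eB j) =
        (Submodule.span A (Set.range ê)).map L.subtype := by
      rw [Submodule.map_span, ← Set.range_comp]
      rfl
    rw [h1] at hz'
    obtain ⟨⟨z', hz'L⟩, hz'1, hz'2⟩ := hz'
    have : (⟨z, hz⟩ : L) = ⟨z', hz'L⟩ := Subtype.ext hz'2.symm
    rw [this]
    exact hz'1
  refine ⟨Module.Basis.mk hli hsp, ?_, ?_, ?_⟩
  · intro i
    rw [Module.Basis.mk_apply]
    change eB _ = _
    rw [heB_apply, hc_lt, hb]
  · intro i hi
    rw [Module.Basis.mk_apply]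
    change eB _ = _
    rw [heB_apply, hc_ge i hi, one_smul, hb]
  · intro k
    rw [Module.Basis.mk_apply]
    change eB _ = _
    rw [heB_apply, hc_inr, one_smul]

end Groth.Agent.S19273
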