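import Mathlib
import Groth.Statements.S19274
import Groth.Agent.Lib.Helper96.WittFilLib
import Groth.Agent.Lib.Helper96.UFDAwayVal
-- import your own Groth.Agent.* helpers here

set_option autoImplicit false
universe u
open WittFil

namespace Groth.Agent.S19274

open Groth.Agent.Lib.Helper96 in
/-- Let A be a unique factorisation domain of characteristic p, x a prime element of A, B = A[1/x] with
u the unit of B defined by x, m ≥ 1, and n an integer NOT divisible by p^m. For e in B and k ≥ 0
write fil_k(e) for the set of truncated p-typical Witt vectors of length k over B whose j-th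
coordinate y_j satisfies y_j ^ (p ^ (k−1−j)) · e ∈ A for all j < k (the filtered piece; fil_k(u^n)
is the piece of index n). Then fil_{m+1}(u^n) is contained in fil_{m+1}(u^(n−1)) + V(fil_m(u^n))
(the reverse inclusion is immediate): every a in fil_{m+1}(u^n) can be written a = b + V(y) with b
in fil_{m+1}(u^(n−1)) and y a Witt vector over B whose length-m truncation lies in fil_m(u^n), V(y)
being truncated to length m+1. (In the source A is a henselian discrete valuation ring, n = p^r·l >
1 with p not dividing l, and the condition reads m ≥ r + 1.) -/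
theorem result (p : ℕ) [Fact p.Prime]
    {A B : Type u} [CommRing A] [IsDomain A] [UniqueFactorizationMonoid A] [CharP A p]
    [CommRing B] [Algebra A B] (x : A) (hx : Prime x) [IsLocalization.Away x B] (u : Bˣ)
    (hu : (u : B) = algebraMap A B x) (m : ℕ) (hm : 0 < m) (n : ℤ) (hn : ¬ ((p : ℤ) ^ m ∣ n)) :
    ∀ a ∈ WittFil.fil p (m + 1) (A := A) ((u ^ n : Bˣ) : B),
      ∃ b ∈ WittFil.fil p (m + 1) (A := A) ((u ^ (n - 1) : Bˣ) : B),
        ∃ y : WittVector p B,
          WittVector.truncate m y ∈ WittFil.fil p m (A := A) ((u ^ n : Bˣ) : B) ∧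
            a = b + WittVector.truncate (m + 1) (WittVector.verschiebung y) := by
  have hp : p.Prime := Fact.out
  -- set-up for the family version of the library
  have hxfam : ∀ i : Fin 1, Prime ((fun _ : Fin 1 => x) i) := fun _ => hx
  have hxa : ∀ i j : Fin 1, Associated ((fun _ : Fin 1 => x) i) ((fun _ : Fin 1 => x) j) → i = j :=
    fun i j _ => Subsingleton.elim i j
  have heq : (∏ i : Fin 1, (fun _ : Fin 1 => x) i) = x := by simp
  have inst : IsLocalization.Away (∏ i : Fin 1, (fun _ : Fin 1 => x) i) B := by
    rw [heq]; infer_instance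
  have hinj : Function.Injective (algebraMap A B) :=
    UFDAway.algebraMap_injective (fun _ : Fin 1 => x) hxfam
  have hchar : CharP B p := charP_of_injective_algebraMap hinj p
  intro a ha
  obtain ⟨ã, rfl⟩ := WittVector.truncate_surjective p (m + 1) B a
  set a0 : B := ã.coeff 0 with ha0
  set c : B := ((u ^ n : Bˣ) : B) with hc
  set c' : B := ((u ^ (n - 1) : Bˣ) : B) with hc'
  have hcc' : c = c' * algebraMap A B x := by
    rw [hc, hc', ← hu, ← Units.val_mul]
    congr 1
    rw [zpow_sub_one, inv_mul_cancel_right]
  -- the Teichmüller part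
  have hb : WittVector.truncate (m + 1) (WittVector.teichmuller p a0) ∈
      WittFil.fil p (m + 1) (A := A) c' := by
    intro j
    rw [WittVector.coeff_truncate]
    by_cases hj : (j : ℕ) = 0
    · rw [hj, WittVector.teichmuller_coeff_zero]
      have h0 := ha ⟨0, Nat.succ_pos m⟩
      rw [WittVector.coeff_truncate] at h0
      simp only [Nat.add_sub_cancel, Nat.sub_zero] at h0 ⊢
      have hkn : ¬ (((p ^ m : ℕ) : ℤ) ∣ n) := by
        rwa [Nat.cast_pow]
      exact UFDAwayVal.pow_mul_zpow_pred_mem_range x u hu hx (pow_ne_zero m hp.ne_zero) hkn h0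
    · rw [WittVector.teichmuller_coeff_pos p a0 _ (Nat.pos_of_ne_zero hj),
        zero_pow (pow_ne_zero _ hp.ne_zero), zero_mul]
      exact Subring.zero_mem _
  have hb' : WittVector.truncate (m + 1) (WittVector.teichmuller p a0) ∈
      WittFil.fil p (m + 1) (A := A) c := by
    intro j
    have := hb j
    rw [hcc', ← mul_assoc]
    exact Subring.mul_mem _ this ⟨x, rfl⟩
  -- the difference
  set z : WittVector p B := ã - WittVector.teichmuller p a0 with hz
  have hz0 : z.coeff 0 = 0 := by
    have h1 : WittVector.constantCoeff z = WittVector.constantCoeff ã -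
        WittVector.constantCoeff (WittVector.teichmuller p a0) := by rw [hz, map_sub]
    simp only [WittVector.constantCoeff_apply] at h1
    rw [h1, WittVector.teichmuller_coeff_zero, sub_self]
  have hzfil : WittVector.truncate (m + 1) z ∈ WittFil.fil p (m + 1) (A := A) c := by
    rw [WittFilLib.mem_fil_iff p (fun _ : Fin 1 => x) hxfam hxa, hz, WittFilLib.Psi_sub]
    apply WittFilLib.Tm_sub
    · rwa [← WittFilLib.mem_fil_iff p (fun _ : Fin 1 => x) hxfam hxa]
    · rwa [← WittFilLib.mem_fil_iff p (fun _ : Fin 1 => x) hxfam hxa]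
  have hV : WittVector.verschiebung (z.shift 1) = z := by
    ext i
    cases i with
    | zero => rw [WittVector.verschiebung_coeff_zero, hz0]
    | succ i => rw [WittVector.verschiebung_coeff_succ, WittVector.shift_coeff, add_comm]
  refine ⟨_, hb, z.shift 1, ?_, ?_⟩
  · intro j
    rw [WittVector.coeff_truncate, WittVector.shift_coeff]
    have hj := hzfil ⟨1 + j, by have := j.2; omega⟩
    rw [WittVector.coeff_truncate] at hj
    have hexp : m + 1 - 1 - (1 + (j : ℕ)) = m - 1 - (j : ℕ) := by omega
    simp only [hexp] at hj
    exact hj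
  · rw [hV, hz, map_sub]
    abel

end Groth.Agent.S19274
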