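import Mathlib
import Groth.Statements.S19275
import Groth.Agent.Lib.Helper96.FlatHomology

set_option autoImplicit false
universe u v w
open Hoch

namespace Groth.Agent.S19275

attribute [local instance] CoactBr.Comod.baseChange

section Helpers

open TensorProduct

variable (K : Type u) [Field K] (A : Type v) [CommRing A] [HopfAlgebra K A]
    (V : Type v) [AddCommGroup V] [Module K V] [HopfRep.Comod K A V]
    (R : Type w) [CommRing R] [Algebra K R]


/-- `t ↦ Σ (1 ⊗ t₁) ⊗ (1 ⊗ t₂)`. -/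
noncomputable def jj (t : A ⊗[K] A) : (R ⊗[K] A) ⊗[R] (R ⊗[K] A) :=
  TensorProduct.AlgebraTensorModule.tensorTensorTensorComm K R K R R R A A
    (((1 : R) ⊗ₜ[R] (1 : R)) ⊗ₜ[K] t)

theorem jj_tmul (a b : A) :
    jj K A R (a ⊗ₜ[K] b) = ((1 : R) ⊗ₜ[K] a) ⊗ₜ[R] ((1 : R) ⊗ₜ[K] b) := by
  simp [jj]

theorem jj_zero : jj K A R 0 = 0 := by simp [jj]

theorem jj_add (s t : A ⊗[K] A) : jj K A R (s + t) = jj K A R s + jj K A R t := by
  simp [jj, TensorProduct.tmul_add]

theorem jj_sub (s t : A ⊗[K] A) : jj K A R (s - t) = jj K A R s - jj K A R t := by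
  simp [jj, TensorProduct.tmul_sub]

theorem comul_one_tmul (a : A) :
    Coalgebra.comul (R := R) ((1 : R) ⊗ₜ[K] a) = jj K A R (Coalgebra.comul (R := K) a) := rfl

variable (φ : ∀ n : ℕ, R ⊗[K] (Hoch.cochain K A V n) →ₗ[R] (Hoch.cochain R (R ⊗[K] A) (R ⊗[K] V) n))

theorem phi_succ_eq
    (hφs : ∀ (n : ℕ) (r : R) (c : Hoch.cochain K A V n) (a : A),
      φ (n + 1) (r ⊗ₜ[K] (c ⊗ₜ[K] a)) = (φ n (r ⊗ₜ[K] c)) ⊗ₜ[R] ((1 : R) ⊗ₜ[K] a))
    (n : ℕ) (x : R ⊗[K] (Hoch.cochain K A V (n + 1))) :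
    φ (n + 1) x = (φ n).rTensor (R ⊗[K] A)
      (TensorProduct.AlgebraTensorModule.distribBaseChange K R (Hoch.cochain K A V n) A x) := by
  induction x using TensorProduct.induction_on with
  | zero => simp
  | tmul r m =>
    induction m using TensorProduct.induction_on with
    | zero => simp
    | tmul c a =>
      rw [hφs, TensorProduct.AlgebraTensorModule.distribBaseChange_tmul, LinearMap.rTensor_tmul]
    | add m₁ m₂ h₁ h₂ => rw [TensorProduct.tmul_add, map_add, h₁, h₂, map_add, map_add]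
  | add x y hx hy => rw [map_add, hx, hy, map_add, map_add]

theorem phi_bijective
    (hφ0 : ∀ x : R ⊗[K] V, φ 0 x = x)
    (hφs : ∀ (n : ℕ) (r : R) (c : Hoch.cochain K A V n) (a : A),
      φ (n + 1) (r ⊗ₜ[K] (c ⊗ₜ[K] a)) = (φ n (r ⊗ₜ[K] c)) ⊗ₜ[R] ((1 : R) ⊗ₜ[K] a))
    (n : ℕ) : Function.Bijective (φ n) := by
  induction n with
  | zero => exact ⟨fun x y h => by rwa [hφ0, hφ0] at h, fun y => ⟨y, hφ0 y⟩⟩
  | succ n ih =>
    have h : (φ (n + 1) : _ → _) =
        (LinearEquiv.rTensor (R ⊗[K] A) (LinearEquiv.ofBijective (φ n) ih)) ∘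
          (TensorProduct.AlgebraTensorModule.distribBaseChange K R (Hoch.cochain K A V n) A) := by
      funext x
      rw [phi_succ_eq K A V R φ hφs]
      rfl
    rw [h]
    exact (LinearEquiv.bijective _).comp (LinearEquiv.bijective _)

theorem phi_one
    (hφ0 : ∀ x : R ⊗[K] V, φ 0 x = x)
    (hφs : ∀ (n : ℕ) (r : R) (c : Hoch.cochain K A V n) (a : A),
      φ (n + 1) (r ⊗ₜ[K] (c ⊗ₜ[K] a)) = (φ n (r ⊗ₜ[K] c)) ⊗ₜ[R] ((1 : R) ⊗ₜ[K] a))
    (r : R) (t : V ⊗[K] A) :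
    φ 1 (r ⊗ₜ[K] t) = TensorProduct.AlgebraTensorModule.tensorTensorTensorComm K R K R R R V A
      (((1 : R) ⊗ₜ[R] r) ⊗ₜ[K] t) := by
  induction t using TensorProduct.induction_on with
  | zero => simp
  | tmul v a =>
    have h := hφs 0 r v a
    rw [hφ0] at h
    refine h.trans ?_
    rw [TensorProduct.AlgebraTensorModule.tensorTensorTensorComm_tmul]
    have h1 : (r ⊗ₜ[K] a : R ⊗[K] A) = r • ((1 : R) ⊗ₜ[K] a) := by
      rw [TensorProduct.smul_tmul', smul_eq_mul, mul_one]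
    have h2 : (r ⊗ₜ[K] v : R ⊗[K] V) = r • ((1 : R) ⊗ₜ[K] v) := by
      rw [TensorProduct.smul_tmul', smul_eq_mul, mul_one]
    rw [h1, TensorProduct.tmul_smul, TensorProduct.smul_tmul', ← h2]
  | add s t hs ht => rw [TensorProduct.tmul_add, map_add, hs, ht, TensorProduct.tmul_add, map_add]

theorem phi_assoc_symm
    (hφs : ∀ (n : ℕ) (r : R) (c : Hoch.cochain K A V n) (a : A),
      φ (n + 1) (r ⊗ₜ[K] (c ⊗ₜ[K] a)) = (φ n (r ⊗ₜ[K] c)) ⊗ₜ[R] ((1 : R) ⊗ₜ[K] a))
    (n : ℕ) (r : R) (c : Hoch.cochain K A V n) (t : A ⊗[K] A) :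
    φ (n + 2) (r ⊗ₜ[K] ((TensorProduct.assoc K (Hoch.cochain K A V n) A A).symm (c ⊗ₜ[K] t))) =
      (TensorProduct.assoc R (Hoch.cochain R (R ⊗[K] A) (R ⊗[K] V) n) (R ⊗[K] A) (R ⊗[K] A)).symm
        ((φ n (r ⊗ₜ[K] c)) ⊗ₜ[R] jj K A R t) := by
  induction t using TensorProduct.induction_on with
  | zero => simp [jj_zero]
  | tmul a b =>
    rw [TensorProduct.assoc_symm_tmul, jj_tmul, TensorProduct.assoc_symm_tmul]
    have h := hφs (n + 1) r (c ⊗ₜ[K] a) b
    rw [hφs n r c a] at h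
    exact h
  | add s t hs ht =>
    rw [TensorProduct.tmul_add, map_add, TensorProduct.tmul_add, map_add, hs, ht, jj_add,
      TensorProduct.tmul_add, map_add]

theorem phi_tail
    (hφs : ∀ (n : ℕ) (r : R) (c : Hoch.cochain K A V n) (a : A),
      φ (n + 1) (r ⊗ₜ[K] (c ⊗ₜ[K] a)) = (φ n (r ⊗ₜ[K] c)) ⊗ₜ[R] ((1 : R) ⊗ₜ[K] a))
    (n : ℕ) (r : R) (c : Hoch.cochain K A V n) (a : A) :
    φ (n + 2) (r ⊗ₜ[K] (Hoch.tail K A (Hoch.cochain K A V n) (c ⊗ₜ[K] a))) =
      Hoch.tail R (R ⊗[K] A) (Hoch.cochain R (R ⊗[K] A) (R ⊗[K] V) n)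
        ((φ n (r ⊗ₜ[K] c)) ⊗ₜ[R] ((1 : R) ⊗ₜ[K] a)) := by
  rw [Hoch.tail_tmul, Hoch.tail_tmul, phi_assoc_symm K A V R φ hφs, comul_one_tmul, jj_sub, jj_sub,
    jj_tmul, jj_tmul]
  rfl

theorem phi_d
    (hφ0 : ∀ x : R ⊗[K] V, φ 0 x = x)
    (hφs : ∀ (n : ℕ) (r : R) (c : Hoch.cochain K A V n) (a : A),
      φ (n + 1) (r ⊗ₜ[K] (c ⊗ₜ[K] a)) = (φ n (r ⊗ₜ[K] c)) ⊗ₜ[R] ((1 : R) ⊗ₜ[K] a))
    (n : ℕ) : ∀ x : R ⊗[K] (Hoch.cochain K A V n),
    φ (n + 1) ((Hoch.d K A V n).baseChange R x) =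
      Hoch.d R (R ⊗[K] A) (R ⊗[K] V) n (φ n x) := by
  induction n with
  | zero =>
    intro x
    induction x using TensorProduct.induction_on with
    | zero => simp
    | tmul r v =>
      rw [LinearMap.baseChange_tmul, Hoch.d_zero_apply, TensorProduct.tmul_sub, map_sub,
        phi_one K A V R φ hφ0 hφs, hφs 0 r v 1, hφ0, Hoch.d_zero_apply]
      rfl
    | add x y hx hy => rw [map_add, map_add, hx, hy, map_add, map_add]
  | succ n ih =>
    intro x
    induction x using TensorProduct.induction_on with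
    | zero => simp
    | tmul r m =>
      induction m using TensorProduct.induction_on with
      | zero => simp
      | tmul c a =>
        have ihc := ih (r ⊗ₜ[K] c)
        rw [LinearMap.baseChange_tmul] at ihc
        rw [LinearMap.baseChange_tmul, Hoch.d_succ, LinearMap.add_apply, LinearMap.smul_apply,
          LinearMap.rTensor_tmul, TensorProduct.tmul_add, map_add, hφs (n + 1) r _ a, ihc,
          TensorProduct.tmul_smul, ← algebraMap_smul R, map_smul, phi_tail K A V R φ hφs,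
          hφs n r c a, Hoch.d_succ, LinearMap.add_apply, LinearMap.smul_apply,
          LinearMap.rTensor_tmul, map_pow, map_neg, map_one]
      | add m₁ m₂ h₁ h₂ =>
        rw [TensorProduct.tmul_add, map_add, map_add, h₁, h₂, map_add, map_add]
    | add x y hx hy => rw [map_add, map_add, hx, hy, map_add, map_add]

end Helpers

open TensorProduct in
/-- In the case of an affine group scheme over a field (a K-groupoid acting on Spec K itself),
cohomology commutes with arbitrary base change. Precisely: let K be a field, A a commutative Hopf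
algebra over K (the coordinate ring of an affine K-group scheme G), V a right A-comodule (a linear
representation of G) and R any commutative K-algebra. Give R ⊗ V the base-changed comodule structure
over the R-bialgebra R ⊗ A, whose coaction sends r ⊗ v to the image of r ⊗ ρ(v) under the canonical
identification of R ⊗ (V ⊗ A) with (R ⊗ V) ⊗_R (R ⊗ A), and let φ_n : R ⊗ C^n(A, V) → C^n(R ⊗ A, R ⊗
V) be the canonical R-linear maps between the Hochschild cochain modules, determined by φ_0 = id and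
φ_{n+1}(r ⊗ (c ⊗ a)) = φ_n(r ⊗ c) ⊗ (1 ⊗ a). Then every φ_n is bijective, the φ_n commute with the
Hochschild differentials, and for every n there is an R-linear isomorphism R ⊗ H^n(A, V) ≅ H^n(R ⊗
A, R ⊗ V) sending r ⊗ [z] to [φ_n(r ⊗ z)] for every n-cocycle z. (The published statement is for an
affine K-groupoid acting on the spectrum of a finite extension L of K and its coherent
representations, with K of characteristic 0; this is its case L = K, in which the cochain complex of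
a representation is the Hochschild complex of the comodule; V is not assumed finite-dimensional and
K may be any field.) -/
theorem result
    (K : Type u) [Field K] (A : Type v) [CommRing A] [HopfAlgebra K A]
    (V : Type v) [AddCommGroup V] [Module K V] [HopfRep.Comod K A V]
    (R : Type w) [CommRing R] [Algebra K R]
    (φ : ∀ n : ℕ, R ⊗[K] (Hoch.cochain K A V n) →ₗ[R] (Hoch.cochain R (R ⊗[K] A) (R ⊗[K] V) n))
    (hφ0 : ∀ x : R ⊗[K] V, φ 0 x = x)
    (hφs : ∀ (n : ℕ) (r : R) (c : Hoch.cochain K A V n) (a : A),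
      φ (n + 1) (r ⊗ₜ[K] (c ⊗ₜ[K] a)) = (φ n (r ⊗ₜ[K] c)) ⊗ₜ[R] ((1 : R) ⊗ₜ[K] a)) :
    letI := CoactBr.Comod.baseChange K R A V
    (∀ n : ℕ, Function.Bijective (φ n)) ∧
    (∀ (n : ℕ) (x : R ⊗[K] (Hoch.cochain K A V n)),
        φ (n + 1) ((Hoch.d K A V n).baseChange R x) = Hoch.d R (R ⊗[K] A) (R ⊗[K] V) n (φ n x)) ∧
      ∀ n : ℕ, ∃ e : R ⊗[K] Hoch.H K A V n ≃ₗ[R] Hoch.H R (R ⊗[K] A) (R ⊗[K] V) n,
        ∀ (r : R) (z : Hoch.cocycles K A V n)
          (hz : φ n (r ⊗ₜ[K] (z : Hoch.cochain K A V n)) ∈ Hoch.cocycles R (R ⊗[K] A) (R ⊗[K] V) n),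
          e (r ⊗ₜ[K] Hoch.H.mk K A V n z) = Hoch.H.mk R (R ⊗[K] A) (R ⊗[K] V) n ⟨φ n (r ⊗ₜ[K] (z : Hoch.cochain K A V n)), hz⟩ := by
  have hbij := phi_bijective K A V R φ hφ0 hφs
  have hd := phi_d K A V R φ hφ0 hφs
  refine ⟨hbij, hd, fun n => ?_⟩
  cases n with
  | zero =>
    obtain ⟨e, he⟩ := Groth.Agent.Lib.Helper96.FlatHomology.exists_linearEquiv_homology'
      (R := R) (0 : Hoch.cochain K A V 0 →ₗ[K] Hoch.cochain K A V 0) (Hoch.d K A V 0)
      (0 : Hoch.cochain R (R ⊗[K] A) (R ⊗[K] V) 0 →ₗ[R] Hoch.cochain R (R ⊗[K] A) (R ⊗[K] V) 0)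
      (Hoch.d R (R ⊗[K] A) (R ⊗[K] V) 0) (φ 0) (φ 0) (φ 1) (hbij 0).2 (hbij 0) (hbij 1).1
      (fun x => by simp) (hd 0) ⊥ ⊥ LinearMap.range_zero.symm LinearMap.range_zero.symm
    exact ⟨e, he⟩
  | succ n =>
    obtain ⟨e, he⟩ := Groth.Agent.Lib.Helper96.FlatHomology.exists_linearEquiv_homology
      (R := R) (Hoch.d K A V n) (Hoch.d K A V (n + 1))
      (Hoch.d R (R ⊗[K] A) (R ⊗[K] V) n) (Hoch.d R (R ⊗[K] A) (R ⊗[K] V) (n + 1))
      (φ n) (φ (n + 1)) (φ (n + 2)) (hbij n).2 (hbij (n + 1)) (hbij (n + 2)).1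
      (hd n) (hd (n + 1))
    exact ⟨e, he⟩

end Groth.Agent.S19275
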