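import Groth.Statements.S19288
import Groth.Agent.Lib.Helper69.UnivHomeo

set_option autoImplicit false
universe u
open CategoryTheory CategoryTheory.Limits MonoidalCategory CartesianMonoidalCategory MonObj AlgebraicGeometry
open AbSch

namespace Groth.Agent.S19288
open Groth.Agent.Lib.Helper69

/-- Let S be a scheme, X a commutative S-group scheme which is etale and separated over S (hence locally
of finite presentation), and P a commutative S-group scheme of finite presentation over S all of
whose fibres are connected. Then every homomorphism of S-group schemes from P to X is trivial (it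
factors through the unit section). -/
theorem result {S : Scheme.{u}} (P X : Over S)
    [GrpObj P] [IsCommMonObj P] [GrpObj X] [IsCommMonObj X]
    [Etale X.hom] [IsSeparated X.hom]
    [QuasiCompact P.hom] [QuasiSeparated P.hom] [LocallyOfFinitePresentation P.hom]
    (hP : ∀ s : S, ConnectedSpace ↥(P.hom.fiber s))
    (f : P ⟶ X) [IsMonHom f] : f = 1 := by
  ext1
  have hw : f.left ≫ X.hom = (1 : P ⟶ X).left ≫ X.hom := by
    rw [Over.w, Over.w]
  obtain ⟨E, i, hio, hic, hieq, hilift⟩ := exists_clopen_equalizer X.hom f.left (1 : P ⟶ X).left hw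
  -- the unit section
  have hη : (η[P] : 𝟙_ (Over S) ⟶ P) ≫ f = η[P] ≫ (1 : P ⟶ X) := by
    rw [IsMonHom.one_hom, Hom.one_def]
    have : toUnit (𝟙_ (Over S)) = 𝟙 _ := Subsingleton.elim _ _
    rw [← Category.assoc, toUnit_unique (η[P] ≫ toUnit P) (𝟙 _), Category.id_comp]
  have hηl : (η[P] : 𝟙_ (Over S) ⟶ P).left ≫ f.left = (η[P] : 𝟙_ (Over S) ⟶ P).left ≫ (1 : P ⟶ X).left := by
    rw [← Over.comp_left, hη, Over.comp_left]
  obtain ⟨e, he⟩ := hilift _ _ hηl
  have hηP : (η[P] : 𝟙_ (Over S) ⟶ P).left ≫ P.hom = 𝟙 S := by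
    have := Over.w (η[P] : 𝟙_ (Over S) ⟶ P)
    simpa using this
  -- surjectivity of i
  have hsurj : Surjective i := by
    constructor
    intro x
    obtain ⟨s, hs⟩ : ∃ s : S, s = P.hom.base x := ⟨_, rfl⟩
    have := hP s
    -- preimage of range i in the fibre
    let A : Set (P.hom.fiber s) := (P.hom.fiberι s).base ⁻¹' (Set.range i.base)
    have hAclopen : IsClopen A := by
      refine ⟨?_, ?_⟩
      · exact (i.isClosedEmbedding.isClosed_range).preimage (P.hom.fiberι s).base.hom.continuous
      · exact (i.isOpenEmbedding.isOpen_range).preimage (P.hom.fiberι s).base.hom.continuous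
    have hAne : A.Nonempty := by
      have h0 : (η[P] : 𝟙_ (Over S) ⟶ P).left.base s ∈ Set.range (P.hom.fiberι s).base := by
        rw [Scheme.Hom.range_fiberι]
        change P.hom.base ((η[P] : 𝟙_ (Over S) ⟶ P).left.base s) = s
        rw [← Scheme.Hom.comp_apply, hηP]; rfl
      obtain ⟨y0, hy0⟩ := h0
      refine ⟨y0, ?_⟩
      change (P.hom.fiberι s).base y0 ∈ Set.range i.base
      rw [hy0, ← he]
      exact ⟨e.base s, rfl⟩
    have hAuniv : A = Set.univ := by
      rcases isClopen_iff.mp hAclopen with h | h
      · rw [h] at hAne; exact absurd hAne Set.not_nonempty_empty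
      · exact h
    have hx : x ∈ Set.range (P.hom.fiberι s).base := by
      rw [Scheme.Hom.range_fiberι]; exact hs.symm
    obtain ⟨y, hy⟩ := hx
    have : y ∈ A := by rw [hAuniv]; trivial
    rw [← hy]
    exact this
  have hiso : IsIso i := (isIso_iff_isOpenImmersion_and_surjective i).mpr ⟨hio, hsurj⟩
  exact (cancel_epi i).mp hieq

end Groth.Agent.S19288
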