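import Groth.Statements.S19291
import Groth.Agent.Lib.Helper75.BiaddSh
-- import your own Groth.Agent.* helpers here

set_option autoImplicit false
universe u
open CategoryTheory CategoryTheory.Limits MonoidalCategory CartesianMonoidalCategory MonObj AlgebraicGeometry
open AbSch

namespace Groth.Agent.S19291

/-- Let S be a scheme and A, B, C three abelian S-schemes (smooth proper S-group schemes with connected
fibres). Then the group of homomorphisms from A to the S-sheaf of homomorphisms from B to C is
trivial: on the big fppf site of S, every morphism of abelian sheaves from the sheaf of points of A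
to the internal Hom sheaf of the sheaves of points of B and C is zero (equivalently, there is no
non-zero biadditive morphism from A × B to C). -/
theorem result {S : Scheme.{u}} (A B C : Over S)
    [GrpObj A] [IsCommMonObj A] [Smooth A.hom] [IsProper A.hom]
    (hA : ∀ s : S, ConnectedSpace ↥(A.hom.fiber s))
    [GrpObj B] [IsCommMonObj B] [Smooth B.hom] [IsProper B.hom]
    (hB : ∀ s : S, ConnectedSpace ↥(B.hom.fiber s))
    [GrpObj C] [IsCommMonObj C] [Smooth C.hom] [IsProper C.hom]
    (hC : ∀ s : S, ConnectedSpace ↥(C.hom.fiber s))
    (φ : (CGrpSh.pts Scheme.fppfPrecoverage A) ⟶ HomSh.homSh (QuotSh.J Scheme.fppfPrecoverage S) (CGrpSh.pts Scheme.fppfPrecoverage B) (CGrpSh.pts Scheme.fppfPrecoverage C)) : φ = 0 := by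
  have hgrA : GeometricallyReduced A.hom :=
    Groth.Agent.Lib.Helper41.SmoothGeomRed.geometricallyReduced_of_smooth A.hom
  have hgcA : GeometricallyConnected A.hom :=
    Groth.Agent.Lib.Helper75.BiaddSh.geometricallyConnected_of_connected_fibres A hA
  have hgcB : GeometricallyConnected B.hom :=
    Groth.Agent.Lib.Helper75.BiaddSh.geometricallyConnected_of_connected_fibres B hB
  have hconnB : ∀ s : S, _root_.IsPreconnected (B.hom ⁻¹' {s}) := fun s =>
    (B.hom.isConnected_preimage_singleton s).isPreconnected
  apply Groth.Agent.Lib.Helper75.BiaddSh.eq_zero_of_pair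
  exact Groth.Agent.Lib.Helper75.BiaddSh.pair_univ_eq_one _ φ hconnB

end Groth.Agent.S19291
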