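import Mathlib
import Groth.Statements.S19308
import Groth.Agent.Lib.Helper96.UnitContent

set_option autoImplicit false
universe u
open TensorProduct
open CAlg

namespace Groth.Agent.S19308

section helpers

open Groth.Agent.Lib.Helper96.UnitContent

lemma ev_map {k : Type u} [Field k] {A : Type u} [CommRing A] [Algebra k A]
    {R R' : Type u} [CommRing R] [Algebra k R] [CommRing R'] [Algebra k R']
    (ψ : R →ₐ[k] R') (z : A →ₐ[k] k) (x : TensorProduct k R A) :
    Algebra.TensorProduct.lift (AlgHom.id k R') ((Algebra.ofId k R').comp z)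
        (fun _ _ => Commute.all _ _) (Algebra.TensorProduct.map ψ (AlgHom.id k A) x) =
      ψ (Algebra.TensorProduct.lift (AlgHom.id k R) ((Algebra.ofId k R).comp z)
        (fun _ _ => Commute.all _ _) x) := by
  induction x using TensorProduct.induction_on with
  | zero => simp
  | tmul r a =>
    rw [Algebra.TensorProduct.map_tmul, Algebra.TensorProduct.lift_tmul,
      Algebra.TensorProduct.lift_tmul, map_mul]
    simp only [AlgHom.coe_id, id_eq, AlgHom.comp_apply, Algebra.ofId_apply, AlgHom.commutes]
  | add x y hx hy => rw [map_add, map_add, hx, hy, map_add, map_add]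

theorem main
    (k : Type u) [Field k] [IsAlgClosed k]
    (A : Type u) [CommRing A] [Algebra k A] [IsDomain A]
    (Z : Finset (A →ₐ[k] k))
    (R : Type u) [CommRing R] [Algebra k R]
    (U : TopologicalSpace.Opens (PrimeSpectrum (TensorProduct k R A)))
    (hZ : ∀ z ∈ Z, ∀ q : PrimeSpectrum R,
      PrimeSpectrum.comap (Algebra.TensorProduct.lift (AlgHom.id k R) ((Algebra.ofId k R).comp z)
        (fun _ _ => Commute.all _ _)).toRingHom q ∈ U)
    (hsurj : ∀ q : PrimeSpectrum R, ∃ P ∈ U,
      PrimeSpectrum.comap (Algebra.TensorProduct.includeLeftRingHom : R →+* TensorProduct k R A) P = q)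
    (p : PrimeSpectrum R) :
    ∃ r : R, r ∉ p.asIdeal ∧
      ∃ f : TensorProduct k (Localization.Away r) A,
        f ∈ nonZeroDivisors (TensorProduct k (Localization.Away r) A) ∧
        Module.Flat (Localization.Away r)
          (TensorProduct k (Localization.Away r) A ⧸ Ideal.span {f}) ∧
        (∀ z ∈ Z, IsUnit (Algebra.TensorProduct.lift (AlgHom.id k (Localization.Away r))
          ((Algebra.ofId k (Localization.Away r)).comp z) (fun _ _ => Commute.all _ _) f)) ∧
        (∀ P : PrimeSpectrum (TensorProduct k (Localization.Away r) A), f ∉ P.asIdeal →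
          PrimeSpectrum.comap (Algebra.TensorProduct.map
            (IsScalarTower.toAlgHom k R (Localization.Away r)) (AlgHom.id k A)).toRingHom P ∈ U) := by
  classical
  obtain ⟨J, hJ⟩ := (PrimeSpectrum.isClosed_iff_zeroLocus_ideal _).mp U.isOpen.isClosed_compl
  have hmemU : ∀ Q : PrimeSpectrum (TensorProduct k R A), Q ∈ U ↔ ¬ (J ≤ Q.asIdeal) := by
    intro Q
    have h1 : Q ∈ (U : Set (PrimeSpectrum (TensorProduct k R A)))ᶜ ↔
        Q ∈ PrimeSpectrum.zeroLocus (J : Set (TensorProduct k R A)) := by rw [hJ]
    rw [Set.mem_compl_iff, PrimeSpectrum.mem_zeroLocus] at h1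
    constructor
    · intro hQ hle
      exact (h1.mpr hle) hQ
    · intro hn
      by_contra hQ
      exact hn (h1.mp hQ)
  obtain ⟨P, hPU, hPp⟩ := hsurj p
  let b := Module.Basis.ofVectorSpace k A
  let ev : (A →ₐ[k] k) → (TensorProduct k R A →ₐ[k] R) := fun z =>
    Algebra.TensorProduct.lift (AlgHom.id k R) ((Algebra.ofId k R).comp z)
      (fun _ _ => Commute.all _ _)
  let T : Finset (PrimeSpectrum (TensorProduct k R A)) :=
    insert P (Z.image fun z => PrimeSpectrum.comap (ev z).toRingHom p)
  have hT : ∀ Q ∈ T, ¬ J ≤ Q.asIdeal := by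
    intro Q hQ
    rcases Finset.mem_insert.mp hQ with rfl | hQ
    · exact (hmemU _).mp hPU
    · obtain ⟨z, hz, rfl⟩ := Finset.mem_image.mp hQ
      exact (hmemU _).mp (hZ z hz p)
  have hav : ¬ ((J : Set (TensorProduct k R A)) ⊆
      ⋃ Q ∈ (T : Set (PrimeSpectrum (TensorProduct k R A))), (Q.asIdeal : Set (TensorProduct k R A))) := by
    rw [Ideal.subset_union_prime (f := fun Q : PrimeSpectrum (TensorProduct k R A) => Q.asIdeal)
      P P (fun Q _ _ _ => Q.isPrime)]
    rintro ⟨Q, hQ, hle⟩
    exact hT Q hQ hle
  obtain ⟨f₀, hf₀J, hf₀⟩ := Set.not_subset.mp hav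
  have hf₀T : ∀ Q ∈ T, f₀ ∉ Q.asIdeal := by
    intro Q hQ hmem
    exact hf₀ (Set.mem_biUnion (Finset.mem_coe.mpr hQ) hmem)
  have hcoef : ∃ i₀, (tb b R).repr f₀ i₀ ∉ p.asIdeal := by
    by_contra hcon
    push Not at hcon
    apply hf₀T P (Finset.mem_insert_self _ _)
    have key : (∑ i ∈ ((tb b R).repr f₀).support, ((tb b R).repr f₀ i) ⊗ₜ[k] (b i)) ∈ P.asIdeal := by
      refine Ideal.sum_mem _ fun i _ => ?_
      have h1 : ((tb b R).repr f₀ i) ⊗ₜ[k] (b i) =
          (Algebra.TensorProduct.includeLeftRingHom ((tb b R).repr f₀ i) : TensorProduct k R A) *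
            ((1 : R) ⊗ₜ[k] (b i)) := by
        rw [Algebra.TensorProduct.includeLeftRingHom_apply, Algebra.TensorProduct.tmul_mul_tmul,
          mul_one, one_mul]
      rw [h1]
      refine Ideal.mul_mem_right _ _ ?_
      have h2 : (tb b R).repr f₀ i ∈
          (PrimeSpectrum.comap (Algebra.TensorProduct.includeLeftRingHom :
            R →+* TensorProduct k R A) P).asIdeal := by
        rw [hPp]
        exact hcon i
      exact h2
    rw [sum_repr b R f₀] at key
    exact key
  obtain ⟨i₀, hi₀⟩ := hcoef
  let r : R := (tb b R).repr f₀ i₀ * ∏ z ∈ Z, ev z f₀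
  have hr : r ∉ p.asIdeal := by
    intro hmem
    rcases p.isPrime.mem_or_mem hmem with h | h
    · exact hi₀ h
    · haveI := p.isPrime
      obtain ⟨z, hz, hzmem⟩ := Ideal.IsPrime.prod_mem_iff.mp h
      exact hf₀T _ (Finset.mem_insert_of_mem (Finset.mem_image_of_mem _ hz)) hzmem
  refine ⟨r, hr, ?_⟩
  have hunit_r : IsUnit (algebraMap R (Localization.Away r) r) :=
    IsLocalization.Away.algebraMap_isUnit r
  have hψ : ∀ c : R, IsScalarTower.toAlgHom k R (Localization.Away r) c =
      algebraMap R (Localization.Away r) c := fun c => rfl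
  have hu : IsUnit ((tb b (Localization.Away r)).repr
      (Algebra.TensorProduct.map (IsScalarTower.toAlgHom k R (Localization.Away r))
        (AlgHom.id k A) f₀) i₀) := by
    rw [repr_map, hψ]
    exact isUnit_of_dvd_unit (map_dvd _ (Dvd.intro _ rfl)) hunit_r
  refine ⟨Algebra.TensorProduct.map (IsScalarTower.toAlgHom k R (Localization.Away r))
      (AlgHom.id k A) f₀,
    mem_nonZeroDivisors_of_isUnit_repr b _ _ i₀ hu, flat_quotient b _ _ i₀ hu, ?_, ?_⟩
  · intro z hz
    rw [ev_map, hψ]
    have hdvd : ev z f₀ ∣ r := Dvd.dvd.mul_left (Finset.dvd_prod_of_mem _ hz) _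
    exact isUnit_of_dvd_unit (map_dvd _ hdvd) hunit_r
  · intro P' hfP'
    rw [hmemU]
    intro hle
    apply hfP'
    have h1 : f₀ ∈ (PrimeSpectrum.comap (Algebra.TensorProduct.map
        (IsScalarTower.toAlgHom k R (Localization.Away r)) (AlgHom.id k A)).toRingHom P').asIdeal :=
      hle hf₀J
    exact h1

end helpers


/-- Let k be an algebraically closed field, A a finitely generated k-algebra which is an integral domain
(an affine variety X = Spec A), Z a finite (possibly empty) set of k-points of A, R a commutative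
k-algebra and U an open dense subset of Spec (R ⊗_k A) = X_R containing every point of Z_R and
meeting every fibre of X_R → Spec R. Then locally on Spec R there is a principal relative effective
Cartier divisor missing Z_R whose complement lies in U: for every prime p of R there are r ∉ p and f
∈ R[1/r] ⊗_k A such that f is a non-zero-divisor, (R[1/r] ⊗_k A)/(f) is flat over R[1/r], f maps to
a unit under every point of Z, and the basic open set D(f) of X_{R[1/r]} maps into U. (The published
statement is for a quasi-projective variety X and asks for relative Cartier divisors D_i over an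
open cover of Spec R; this row is the affine case, to which the published proof reduces, where the
divisors produced are principal.) -/
theorem result
    (k : Type u) [Field k] [IsAlgClosed k]
    (A : Type u) [CommRing A] [Algebra k A] [IsDomain A] [Algebra.FiniteType k A]
    (Z : Finset (A →ₐ[k] k))
    (R : Type u) [CommRing R] [Algebra k R]
    (U : TopologicalSpace.Opens (PrimeSpectrum (TensorProduct k R A)))
    (hU : Dense (U : Set (PrimeSpectrum (TensorProduct k R A))))
    (hZ : ∀ z ∈ Z, ∀ q : PrimeSpectrum R,
      PrimeSpectrum.comap (Algebra.TensorProduct.lift (AlgHom.id k R) ((Algebra.ofId k R).comp z)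
        (fun _ _ => Commute.all _ _)).toRingHom q ∈ U)
    (hsurj : ∀ q : PrimeSpectrum R, ∃ P ∈ U,
      PrimeSpectrum.comap (Algebra.TensorProduct.includeLeftRingHom : R →+* TensorProduct k R A) P = q)
    (p : PrimeSpectrum R) :
    ∃ r : R, r ∉ p.asIdeal ∧
      ∃ f : TensorProduct k (Localization.Away r) A,
        f ∈ nonZeroDivisors (TensorProduct k (Localization.Away r) A) ∧
        Module.Flat (Localization.Away r)
          (TensorProduct k (Localization.Away r) A ⧸ Ideal.span {f}) ∧
        (∀ z ∈ Z, IsUnit (Algebra.TensorProduct.lift (AlgHom.id k (Localization.Away r))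
          ((Algebra.ofId k (Localization.Away r)).comp z) (fun _ _ => Commute.all _ _) f)) ∧
        (∀ P : PrimeSpectrum (TensorProduct k (Localization.Away r) A), f ∉ P.asIdeal →
          PrimeSpectrum.comap (Algebra.TensorProduct.map
            (IsScalarTower.toAlgHom k R (Localization.Away r)) (AlgHom.id k A)).toRingHom P ∈ U) := by
  exact main k A Z R U hZ hsurj p

end Groth.Agent.S19308
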