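import Groth.Statements.S19309
import Mathlib

set_option autoImplicit false
universe u
open PowerSeries LaurentSeries
open CAlg

namespace Groth.Agent.S19309

/-- Let k be a field, R a commutative k-algebra, B a finitely presented R⟦X⟧-algebra (an affine scheme V
= Spec B of finite presentation over the disc D_R = Spec R⟦X⟧) and s : B → R((X)) an R⟦X⟧-algebra
map (a section of V over the punctured disc). Then there is an ideal I of R such that for every ring
map φ : R → R', writing θ : R((X)) → R'((X)) for the ring map compatible with R⟦X⟧ → R'⟦X⟧, the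
section s extends to a section over D_{R'} — an R⟦X⟧-algebra map s' : B → R'⟦X⟧ whose composite with
R'⟦X⟧ → R'((X)) is θ ∘ s — if and only if φ kills I. In other words the sub-presheaf of Spec R where
s extends over the disc is the closed subscheme defined by I. -/
theorem result
    (k : Type u) [Field k] (R : Type u) [CommRing R] [Algebra k R]
    (B : Type u) [CommRing B] [Algebra R⟦X⟧ B] [Algebra.FinitePresentation R⟦X⟧ B]
    (s : B →ₐ[R⟦X⟧] R⸨X⸩) :
    ∃ I : Ideal R, ∀ (R' : Type u) [CommRing R'] (φ : R →+* R') (θ : R⸨X⸩ →+* R'⸨X⸩),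
      θ.comp (algebraMap R⟦X⟧ R⸨X⸩) = (algebraMap R'⟦X⟧ R'⸨X⸩).comp (PowerSeries.map φ) →
      ((∃ s' : B →+* R'⟦X⟧, s'.comp (algebraMap R⟦X⟧ B) = PowerSeries.map φ ∧
          (algebraMap R'⟦X⟧ R'⸨X⸩).comp s' = θ.comp s.toRingHom) ↔ I ≤ RingHom.ker φ) := by
  classical
  refine ⟨Ideal.span {a | ∃ (b : B) (N : ℕ) (u : R⟦X⟧),
    s b * algebraMap R⟦X⟧ R⸨X⸩ ((PowerSeries.X : R⟦X⟧) ^ N) = algebraMap R⟦X⟧ R⸨X⸩ u ∧
      ∃ i, i < N ∧ a = PowerSeries.coeff i u}, ?_⟩
  intro R' _ φ θ hθ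
  have hθ' : ∀ p : R⟦X⟧, θ (algebraMap R⟦X⟧ R⸨X⸩ p) =
      algebraMap R'⟦X⟧ R'⸨X⸩ (PowerSeries.map φ p) := fun p => RingHom.congr_fun hθ p
  have hinj : Function.Injective (algebraMap R'⟦X⟧ R'⸨X⸩) :=
    HahnSeries.ofPowerSeries_injective
  constructor
  · rintro ⟨s', hs'1, hs'2⟩
    rw [Ideal.span_le]
    rintro a ⟨b, N, u, hu, i, hi, rfl⟩
    have h1 : θ (s b) * θ (algebraMap R⟦X⟧ R⸨X⸩ ((PowerSeries.X : R⟦X⟧) ^ N)) =
        θ (algebraMap R⟦X⟧ R⸨X⸩ u) := by rw [← map_mul, hu]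
    rw [hθ', hθ'] at h1
    have h2 : θ (s b) = algebraMap R'⟦X⟧ R'⸨X⸩ (s' b) := (RingHom.congr_fun hs'2 b).symm
    rw [h2, ← map_mul] at h1
    have h3 := hinj h1
    rw [SetLike.mem_coe, RingHom.mem_ker, ← PowerSeries.coeff_map, ← h3, map_pow,
      PowerSeries.map_X, PowerSeries.coeff_mul_X_pow', if_neg (not_le.2 hi)]
  · intro hI
    have key : ∀ b : B, ∃ w : R'⟦X⟧, θ (s b) = algebraMap R'⟦X⟧ R'⸨X⸩ w := by
      intro b
      obtain ⟨⟨u, ⟨_, N, rfl⟩⟩, hu⟩ :=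
        IsLocalization.surj (Submonoid.powers (PowerSeries.X : R⟦X⟧)) (s b)
      have hu' : s b * algebraMap R⟦X⟧ R⸨X⸩ ((PowerSeries.X : R⟦X⟧) ^ N) =
          algebraMap R⟦X⟧ R⸨X⸩ u := hu
      have hdvd : (PowerSeries.X : R'⟦X⟧) ^ N ∣ PowerSeries.map φ u := by
        rw [PowerSeries.X_pow_dvd_iff]
        intro m hm
        rw [PowerSeries.coeff_map]
        exact hI (Ideal.subset_span ⟨b, N, u, hu', m, hm, rfl⟩)
      obtain ⟨w, hw⟩ := hdvd
      refine ⟨w, ?_⟩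
      have h1 : θ (s b) * θ (algebraMap R⟦X⟧ R⸨X⸩ ((PowerSeries.X : R⟦X⟧) ^ N)) =
          θ (algebraMap R⟦X⟧ R⸨X⸩ u) := by rw [← map_mul, hu']
      rw [hθ', hθ', hw, map_mul (algebraMap R'⟦X⟧ R'⸨X⸩), map_pow (PowerSeries.map φ),
        PowerSeries.map_X, mul_comm] at h1
      have hunit : IsUnit (algebraMap R'⟦X⟧ R'⸨X⸩ ((PowerSeries.X : R'⟦X⟧) ^ N)) :=
        IsLocalization.map_units (M := Submonoid.powers (PowerSeries.X : R'⟦X⟧)) R'⸨X⸩
          ⟨(PowerSeries.X : R'⟦X⟧) ^ N, N, rfl⟩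
      exact hunit.mul_left_cancel h1
    choose w hw using key
    let s' : B →+* R'⟦X⟧ :=
      { toFun := w
        map_one' := hinj (by rw [← hw, map_one, map_one, map_one])
        map_mul' := fun a b => hinj (by rw [← hw, map_mul, map_mul, map_mul, hw, hw])
        map_zero' := hinj (by rw [← hw, map_zero, map_zero, map_zero])
        map_add' := fun a b => hinj (by rw [← hw, map_add, map_add, map_add, hw, hw]) }
    refine ⟨s', ?_, ?_⟩
    · refine RingHom.ext fun p => hinj ?_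
      change algebraMap R'⟦X⟧ R'⸨X⸩ (w (algebraMap R⟦X⟧ B p)) = _
      rw [← hw, s.commutes, hθ']
    · refine RingHom.ext fun b => ?_
      exact (hw b).symm

end Groth.Agent.S19309
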