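import Mathlib
import Groth.Statements.S19322
-- import your own Groth.Agent.* helpers here

set_option autoImplicit false
universe v u
open CategoryTheory CategoryTheory.Limits
open SpSeq

namespace Groth.Agent.S19322

namespace W2
variable {K : Type u} [Field K]

theorem finrank_le_of_mono {M N : ModuleCat.{v} K} (f : M ⟶ N) [Mono f] [Module.Finite K N] :
    Module.Finite K M ∧ Module.finrank K M ≤ Module.finrank K N := by
  have hinj : Function.Injective f.hom := (ModuleCat.mono_iff_injective f).mp inferInstance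
  exact ⟨Module.Finite.of_injective f.hom hinj, LinearMap.finrank_le_finrank_of_injective hinj⟩

theorem finrank_le_of_epi {M N : ModuleCat.{v} K} (f : M ⟶ N) [Epi f] [Module.Finite K M] :
    Module.Finite K N ∧ Module.finrank K N ≤ Module.finrank K M := by
  have hsurj : Function.Surjective f.hom := (ModuleCat.epi_iff_surjective f).mp inferInstance
  exact ⟨Module.Finite.of_surjective f.hom hsurj, LinearMap.finrank_le_finrank_of_surjective hsurj⟩

theorem isIso_of_mono_of_finrank_eq {M N : ModuleCat.{v} K} (f : M ⟶ N) [Mono f]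
    [Module.Finite K N] [Module.Finite K M] (h : Module.finrank K M = Module.finrank K N) : Epi f := by
  have hinj : Function.Injective f.hom := (ModuleCat.mono_iff_injective f).mp inferInstance
  rw [ModuleCat.epi_iff_surjective]
  exact (LinearMap.injective_iff_surjective_of_finrank_eq_finrank h).mp hinj

theorem isIso_of_epi_of_finrank_eq {M N : ModuleCat.{v} K} (f : M ⟶ N) [Epi f]
    [Module.Finite K N] [Module.Finite K M] (h : Module.finrank K M = Module.finrank K N) : Mono f := by
  have hsurj : Function.Surjective f.hom := (ModuleCat.epi_iff_surjective f).mp inferInstance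
  rw [ModuleCat.mono_iff_injective]
  exact (LinearMap.injective_iff_surjective_of_finrank_eq_finrank h).mpr hsurj

variable {ι : Type*} {c : ComplexShape ι}

theorem homology_finrank_le (P : HomologicalComplex (ModuleCat.{v} K) c) (j : ι)
    [Module.Finite K (P.X j)] :
    Module.Finite K (P.homology j) ∧ Module.finrank K (P.homology j) ≤ Module.finrank K (P.X j) := by
  obtain ⟨h1, h2⟩ := finrank_le_of_mono (P.iCycles j)
  obtain ⟨h3, h4⟩ := finrank_le_of_epi (P.homologyπ j)
  exact ⟨h3, h4.trans h2⟩

theorem d_eq_zero_of_finrank_homology_eq (P : HomologicalComplex (ModuleCat.{v} K) c) (j : ι)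
    [Module.Finite K (P.X j)]
    (h : Module.finrank K (P.homology j) = Module.finrank K (P.X j)) (i k : ι) :
    P.d i j = 0 ∧ P.d j k = 0 := by
  obtain ⟨h1, h2⟩ := finrank_le_of_mono (P.iCycles j)
  obtain ⟨h3, h4⟩ := finrank_le_of_epi (P.homologyπ j)
  have e1 : Module.finrank K (P.cycles j) = Module.finrank K (P.X j) := by omega
  have e2 : Module.finrank K (P.cycles j) = Module.finrank K (P.homology j) := by omega
  have hepi : Epi (P.iCycles j) := isIso_of_mono_of_finrank_eq _ e1
  have hmono : Mono (P.homologyπ j) := isIso_of_epi_of_finrank_eq _ e2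
  constructor
  · have h0 : P.toCycles i j = 0 := by
      rw [← cancel_mono (P.homologyπ j), zero_comp, HomologicalComplex.toCycles_comp_homologyπ]
    rw [← P.toCycles_i i j, h0, zero_comp]
  · rw [← cancel_epi (P.iCycles j), comp_zero, HomologicalComplex.iCycles_d]


theorem finrank_of_isZero {M : ModuleCat.{v} K} (h : IsZero M) : Module.finrank K M = 0 := by
  have : Subsingleton M := ModuleCat.subsingleton_of_isZero h
  exact Module.finrank_zero_of_subsingleton

theorem finrank_of_iso {M N : ModuleCat.{v} K} (e : M ≅ N) : Module.finrank K M = Module.finrank K N :=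
  LinearEquiv.finrank_eq e.toLinearEquiv

theorem finrank_of_eq_top {X : ModuleCat.{v} K} (S : Subobject X) (h : S = ⊤) :
    Module.finrank K (S : ModuleCat.{v} K) = Module.finrank K X := by
  subst h
  exact finrank_of_iso (asIso (⊤ : Subobject X).arrow)

theorem finrank_of_eq_bot {X : ModuleCat.{v} K} (S : Subobject X) (h : S = ⊥) :
    Module.finrank K (S : ModuleCat.{v} K) = 0 := by
  subst h
  exact finrank_of_isZero (IsZero.of_iso (isZero_zero _) Subobject.botCoeIsoZero)


theorem finrank_cokernel {M N : ModuleCat.{v} K} (f : M ⟶ N) [Mono f] [Module.Finite K N] :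
    Module.finrank K N = Module.finrank K M + Module.finrank K (cokernel f : ModuleCat.{v} K) := by
  have hinj : Function.Injective f.hom := (ModuleCat.mono_iff_injective f).mp inferInstance
  have hsurj : Function.Surjective (cokernel.π f).hom :=
    (ModuleCat.epi_iff_surjective _).mp inferInstance
  have hex : (ShortComplex.mk f (cokernel.π f) (cokernel.condition f)).Exact :=
    ShortComplex.exact_cokernel f
  have hker : LinearMap.ker (cokernel.π f).hom = LinearMap.range f.hom :=
    hex.moduleCat_range_eq_ker.symm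
  have h1 := LinearMap.finrank_range_add_finrank_ker (cokernel.π f).hom
  rw [hker, LinearMap.finrank_range_of_inj hinj, LinearMap.range_eq_top.mpr hsurj, _root_.finrank_top] at h1
  omega

/-- additivity of dimension along a finite filtration -/
theorem finrank_filtration {X : ModuleCat.{v} K} [Module.Finite K X] (F : ℤ → Subobject X)
    (hF : Antitone F) (a : ℤ) (m : ℕ) :
    Module.finrank K (F a : ModuleCat.{v} K) =
      Module.finrank K (F (a + m) : ModuleCat.{v} K) +
        ∑ i ∈ Finset.range m, Module.finrank K (SpSeq.grPiece F hF (a + i) : ModuleCat.{v} K) := by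
  induction m with
  | zero =>
    have e0 : a + ((0 : ℕ) : ℤ) = a := by simp
    rw [e0]
    simp only [Finset.range_zero, Finset.sum_empty, add_zero]
  | succ m ih =>
    rw [Finset.sum_range_succ, ih]
    have hfin : Module.Finite K (F (a + m) : ModuleCat.{v} K) := by
      have hinj : Function.Injective (F (a + m)).arrow.hom :=
        (ModuleCat.mono_iff_injective _).mp inferInstance
      exact Module.Finite.of_injective _ hinj
    have := finrank_cokernel ((F (a + m + 1)).ofLE (F (a + m)) (hF (Int.le_add_one le_rfl)))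
    have e : (a + ((m + 1 : ℕ) : ℤ)) = a + m + 1 := by push_cast; ring
    rw [e]
    unfold SpSeq.grPiece SpSeq.subquot
    omega


section SS
variable {r₀ : ℤ} (E : CohomologicalSpectralSequence (ModuleCat.{v} K) r₀)

theorem page_props
    (hquad : ∀ pq : ℤ × ℤ, pq.1 < 0 ∨ pq.2 < 0 → IsZero ((E.page r₀ le_rfl).X pq))
    (hfd : ∀ pq : ℤ × ℤ, Module.Finite K ((E.page r₀ le_rfl).X pq)) :
    ∀ (r : ℤ) (hr : r₀ ≤ r),
      (∀ pq : ℤ × ℤ, pq.1 < 0 ∨ pq.2 < 0 → IsZero ((E.page r hr).X pq)) ∧
        (∀ pq : ℤ × ℤ, Module.Finite K ((E.page r hr).X pq)) := by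
  intro r hr
  induction r, hr using Int.leInduction with
  | base => exact ⟨hquad, hfd⟩
  | succ r hr ih =>
    obtain ⟨ihA, ihB⟩ := ih
    constructor
    · intro pq hpq
      have hz : IsZero ((E.page r hr).homology pq) :=
        ShortComplex.isZero_homology_of_isZero_X₂ _ (ihA pq hpq)
      exact hz.of_iso (E.iso r (r + 1) pq rfl hr).symm
    · intro pq
      have := ihB pq
      obtain ⟨h1, -⟩ := homology_finrank_le (E.page r hr) pq
      exact Module.Finite.equiv (E.iso r (r + 1) pq rfl hr).toLinearEquiv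

theorem finrank_succ_le
    (hfd : ∀ (r : ℤ) (hr : r₀ ≤ r) (pq : ℤ × ℤ), Module.Finite K ((E.page r hr).X pq))
    (r : ℤ) (hr : r₀ ≤ r) (pq : ℤ × ℤ) :
    Module.finrank K ((E.page (r + 1) (by omega)).X pq) ≤ Module.finrank K ((E.page r hr).X pq) := by
  have := hfd r hr pq
  obtain ⟨-, h2⟩ := homology_finrank_le (E.page r hr) pq
  rw [← finrank_of_iso (E.iso r (r + 1) pq rfl hr)]
  exact h2

theorem finrank_mono
    (hfd : ∀ (r : ℤ) (hr : r₀ ≤ r) (pq : ℤ × ℤ), Module.Finite K ((E.page r hr).X pq))
    (r : ℤ) (hr : r₀ ≤ r) (pq : ℤ × ℤ) (r' : ℤ) (hrr' : r ≤ r') :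
    Module.finrank K ((E.page r' (hr.trans hrr')).X pq) ≤ Module.finrank K ((E.page r hr).X pq) := by
  induction r', hrr' using Int.leInduction with
  | base => exact le_rfl
  | succ r' hrr' ih =>
    exact (finrank_succ_le E hfd r' (hr.trans hrr') pq).trans ih

theorem d_eq_zero_of_finrank_eq
    (hfd : ∀ (r : ℤ) (hr : r₀ ≤ r) (pq : ℤ × ℤ), Module.Finite K ((E.page r hr).X pq))
    (pq : ℤ × ℤ) (R : ℤ) (hR : r₀ ≤ R)
    (heq : Module.finrank K ((E.page R hR).X pq) = Module.finrank K ((E.page r₀ le_rfl).X pq))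
    (r : ℤ) (hr : r₀ ≤ r) (hrR : r < R) (i k : ℤ × ℤ) :
    (E.page r hr).d i pq = 0 ∧ (E.page r hr).d pq k = 0 := by
  have := hfd r hr pq
  have h1 : Module.finrank K ((E.page R hR).X pq) ≤ Module.finrank K ((E.page (r + 1) (by omega)).X pq) :=
    finrank_mono E hfd (r + 1) (by omega) pq R (by omega)
  have h2 := finrank_succ_le E hfd r hr pq
  have h3 : Module.finrank K ((E.page r hr).X pq) ≤ Module.finrank K ((E.page r₀ le_rfl).X pq) :=
    finrank_mono E hfd r₀ le_rfl pq r hr
  have h4 : Module.finrank K ((E.page r hr).homology pq) = Module.finrank K ((E.page r hr).X pq) := by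
    rw [finrank_of_iso (E.iso r (r + 1) pq rfl hr)]
    omega
  exact d_eq_zero_of_finrank_homology_eq (E.page r hr) pq h4 i k

end SS

end W2


/-- Let K be a field and E a cohomological spectral sequence of K-vector spaces, pages from r₀,
concentrated in the first quadrant on page r₀ and with all terms of page r₀ finite-dimensional, and
let H be abutment data for E whose filtration in degree n is finite, H n finite-dimensional. If the
dimensions of the page-r₀ terms E^{s, n-s}, 0 ≤ s ≤ n, add up to the dimension of H n, then every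
position of total degree n is stationary from page r₀ on: all differentials into and out of it
vanish on every page. (The printed statement takes r₀ a positive integer and n ≥ 0; neither
restriction is needed.) -/
theorem result
    {K : Type u} [Field K] {r₀ : ℤ}
    (E : CohomologicalSpectralSequence (ModuleCat.{v} K) r₀) (H : ℤ → ModuleCat.{v} K)
    (a : SpSeq.Abutment E H) (n : ℤ) (hfin : a.IsFinite n)
    (hquad : ∀ pq : ℤ × ℤ, pq.1 < 0 ∨ pq.2 < 0 → IsZero ((E.page r₀ le_rfl).X pq))
    (hfd : ∀ pq : ℤ × ℤ, Module.Finite K ((E.page r₀ le_rfl).X pq))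
    (hH : Module.Finite K (H n))
    (hsum : ∑ s ∈ Finset.Icc (0 : ℤ) n, Module.finrank K ((E.page r₀ le_rfl).X (s, n - s)) =
      Module.finrank K (H n)) :
    ∀ s : ℤ, SpSeq.StationaryAt E (s, n - s) r₀ := by
  classical
  have hpp := W2.page_props E hquad hfd
  have hfd' : ∀ (r : ℤ) (hr : r₀ ≤ r) (pq : ℤ × ℤ), Module.Finite K ((E.page r hr).X pq) :=
    fun r hr pq => (hpp r hr).2 pq
  have hz' : ∀ (r : ℤ) (hr : r₀ ≤ r) (pq : ℤ × ℤ), pq.1 < 0 ∨ pq.2 < 0 →
      IsZero ((E.page r hr).X pq) := fun r hr => (hpp r hr).1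
  obtain ⟨⟨a0, ha0⟩, ⟨b0, hb0⟩⟩ := hfin
  change a.fil n a0 = ⊤ at ha0
  change a.fil n b0 = ⊥ at hb0
  set a' : ℤ := min a0 0 with ha'
  set b' : ℤ := max b0 (max (n + 1) 0) with hb'
  have hta : a.fil n a' = ⊤ := by
    have := a.anti n (min_le_left a0 0)
    rw [ha0] at this
    exact top_le_iff.mp this
  have hbb : a.fil n b' = ⊥ := by
    have := a.anti n (le_max_left b0 (max (n + 1) 0))
    rw [hb0] at this
    exact le_bot_iff.mp this
  have hab : a' ≤ b' := by
    have h1 : a' ≤ 0 := min_le_right _ _
    have h2 : (0 : ℤ) ≤ b' := (le_max_right _ _).trans (le_max_right _ _)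
    omega
  have hnb : n < b' := by
    have : n + 1 ≤ b' := (le_max_left _ _).trans (le_max_right _ _)
    omega
  have ha0' : a' ≤ 0 := min_le_right _ _
  obtain ⟨m, hm⟩ : ∃ m : ℕ, a' + (m : ℤ) = b' := ⟨(b' - a').toNat, by omega⟩
  have hfilt := W2.finrank_filtration (a.fil n) (a.anti n) a' m
  rw [hm, W2.finrank_of_eq_top _ hta, W2.finrank_of_eq_bot _ hbb, zero_add] at hfilt
  -- the limit dimensions
  let eInf : ℤ → ℕ := fun s =>
    Module.finrank K ((E.page (a.rk (s, n - s)) (a.stat (s, n - s)).1).X (s, n - s))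
  have hcast : ∀ (m' : ℤ) (_ : m' = n) (s : ℤ),
      Module.finrank K (SpSeq.grPiece (a.fil m') (a.anti m') s : ModuleCat.{v} K) =
        Module.finrank K (SpSeq.grPiece (a.fil n) (a.anti n) s : ModuleCat.{v} K) := by
    rintro m' rfl s
    rfl
  have hgr : ∀ s : ℤ,
      Module.finrank K (SpSeq.grPiece (a.fil n) (a.anti n) s : ModuleCat.{v} K) = eInf s := by
    intro s
    rw [← hcast (s + (n - s)) (by ring) s]
    exact (W2.finrank_of_iso (a.β (s, n - s))).symm
  have hvan : ∀ s : ℤ, s ∉ Finset.Icc (0 : ℤ) n → eInf s = 0 := by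
    intro s hs
    apply W2.finrank_of_isZero
    apply hz'
    rw [Finset.mem_Icc] at hs
    change s < 0 ∨ n - s < 0
    omega
  have hsum2 : ∑ s ∈ Finset.Icc (0 : ℤ) n, eInf s = Module.finrank K (H n) := by
    rw [hfilt]
    have hinj : Set.InjOn (fun i : ℕ => a' + (i : ℤ)) (Finset.range m : Set ℕ) := by
      intro x _ y _ hxy
      simpa using hxy
    have h1 : ∑ i ∈ Finset.range m,
        Module.finrank K (SpSeq.grPiece (a.fil n) (a.anti n) (a' + (i : ℤ)) : ModuleCat.{v} K) =
        ∑ s ∈ (Finset.range m).image (fun i : ℕ => a' + (i : ℤ)), eInf s := by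
      rw [Finset.sum_image hinj]
      exact Finset.sum_congr rfl (fun i _ => hgr _)
    rw [h1]
    apply Finset.sum_subset
    · intro s hs
      rw [Finset.mem_Icc] at hs
      rw [Finset.mem_image]
      refine ⟨(s - a').toNat, ?_, ?_⟩
      · rw [Finset.mem_range]
        omega
      · omega
    · intro s _ hs
      exact hvan s hs
  have hle : ∀ s ∈ Finset.Icc (0 : ℤ) n,
      eInf s ≤ Module.finrank K ((E.page r₀ le_rfl).X (s, n - s)) := by
    intro s _
    exact W2.finrank_mono E hfd' r₀ le_rfl (s, n - s) (a.rk (s, n - s)) (a.stat (s, n - s)).1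
  have heq := (Finset.sum_eq_sum_iff_of_le hle).mp (hsum2.trans hsum.symm)
  intro s
  refine ⟨le_rfl, fun r' h₀ _ => ?_⟩
  by_cases hs : s ∈ Finset.Icc (0 : ℤ) n
  · by_cases hr' : r' < a.rk (s, n - s)
    · exact W2.d_eq_zero_of_finrank_eq E hfd' (s, n - s) (a.rk (s, n - s)) (a.stat (s, n - s)).1
        (heq s hs) r' h₀ hr' _ _
    · exact (a.stat (s, n - s)).2 r' h₀ (by omega)
  · have hz : IsZero ((E.page r' h₀).X (s, n - s)) := by
      apply hz'
      rw [Finset.mem_Icc] at hs
      change s < 0 ∨ n - s < 0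
      omega
    exact ⟨hz.eq_of_tgt _ _, hz.eq_of_src _ _⟩

end Groth.Agent.S19322
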