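import Mathlib
import Groth.Statements.S19323
-- import your own Groth.Agent.* helpers here

set_option autoImplicit false
universe v u
open CategoryTheory CategoryTheory.Limits
open SpSeq

namespace Groth.Agent.S19323

section aux

variable {C : Type u} [Category.{v} C] [Abelian C] {ι : Type*} {c : ComplexShape ι}

/-- a chain map which is mono at `j` is mono on homology at `j` as soon as the differentials
arriving at `j` vanish -/
theorem mono_homologyMap_of_mono_of_d_eq_zero {K L : HomologicalComplex C c} (φ : K ⟶ L) (j : ι)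
    [Mono (φ.f j)] (hK : K.d (c.prev j) j = 0) (hL : L.d (c.prev j) j = 0) :
    Mono (HomologicalComplex.homologyMap φ j) := by
  have hKiso := K.isIso_homologyπ _ j rfl hK
  have hLiso := L.isIso_homologyπ _ j rfl hL
  have hnat := HomologicalComplex.homologyπ_naturality φ j
  have : HomologicalComplex.homologyMap φ j =
      inv (K.homologyπ j) ≫ HomologicalComplex.cyclesMap φ j ≫ L.homologyπ j := by
    rw [← hnat, IsIso.inv_hom_id_assoc]
  rw [this]
  infer_instance

end aux

/-- In an abelian category let E and E' be first-quadrant E₂ cohomological spectral sequences and φ : E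
⟶ E' a morphism of spectral sequences such that (i) every differential of E' leaving a position
whose first coordinate is nonzero vanishes, (ii) on every page the map φ at each position followed
by the outgoing differential of E' is zero, and (iii) φ is a monomorphism at every position of page
2. Then E degenerates at page 2. -/
theorem result
    {C : Type u} [Category.{v} C] [Abelian C]
    (E E' : E₂CohomologicalSpectralSequence C) (φ : E ⟶ E')
    (hE : ∀ pq : ℤ × ℤ, pq.1 < 0 ∨ pq.2 < 0 → IsZero ((E.page 2 le_rfl).X pq))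
    (hE' : ∀ pq : ℤ × ℤ, pq.1 < 0 ∨ pq.2 < 0 → IsZero ((E'.page 2 le_rfl).X pq))
    (hd' : ∀ (r : ℤ) (hr : 2 ≤ r) (pq : ℤ × ℤ), pq.1 ≠ 0 →
      (E'.page r hr).d pq (pq + (r, 1 - r)) = 0)
    (hφd : ∀ (r : ℤ) (hr : 2 ≤ r) (pq : ℤ × ℤ),
      (φ.hom r hr).f pq ≫ (E'.page r hr).d pq (pq + (r, 1 - r)) = 0)
    (hmono : ∀ pq : ℤ × ℤ, Mono ((φ.hom 2 le_rfl).f pq)) :
    SpSeq.Degenerates E 2 := by
  -- the inductive statement
  have key : ∀ (r : ℤ) (hr : 2 ≤ r),
      (∀ pq : ℤ × ℤ, pq.1 < 0 ∨ pq.2 < 0 → IsZero ((E.page r hr).X pq)) ∧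
        (∀ pq : ℤ × ℤ, r ≤ pq.1 → Mono ((φ.hom r hr).f pq)) := by
    intro r hr
    induction r, hr using Int.leInduction with
    | base => exact ⟨hE, fun pq _ => hmono pq⟩
    | succ r hr ih =>
      obtain ⟨ihA, ihB⟩ := ih
      -- all differentials of page `r` vanish
      have hd : ∀ pq pq' : ℤ × ℤ, (E.page r hr).d pq pq' = 0 := by
        intro pq pq'
        by_cases hrel : (ComplexShape.up' (⟨r, 1 - r⟩ : ℤ × ℤ)).Rel pq pq'
        · have hrel' : pq + (r, 1 - r) = pq' := hrel
          by_cases hneg : pq.1 < 0
          · exact (ihA pq (Or.inl hneg)).eq_of_src _ _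
          · have hle : r ≤ pq'.1 := by
              rw [← hrel']
              simp only [Prod.fst_add]
              omega
            have := ihB pq' hle
            rw [← cancel_mono ((φ.hom r hr).f pq'), zero_comp, ← (φ.hom r hr).comm pq pq']
            rw [← hrel']
            exact hφd r hr pq
        · exact (E.page r hr).shape _ _ hrel
      constructor
      · intro pq hpq
        have hz : IsZero ((E.page r hr).homology pq) :=
          ShortComplex.isZero_homology_of_isZero_X₂ _ (ihA pq hpq)
        exact hz.of_iso (E.iso r (r + 1) pq rfl hr).symm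
      · intro pq hpq
        have hmono_r : Mono ((φ.hom r hr).f pq) := ihB pq (by omega)
        have hL : (E'.page r hr).d ((ComplexShape.up' (⟨r, 1 - r⟩ : ℤ × ℤ)).prev pq) pq = 0 := by
          set pq0 := (ComplexShape.up' (⟨r, 1 - r⟩ : ℤ × ℤ)).prev pq with hpq0
          by_cases hrel : (ComplexShape.up' (⟨r, 1 - r⟩ : ℤ × ℤ)).Rel pq0 pq
          · have hrel' : pq0 + (r, 1 - r) = pq := hrel
            have h1 : pq0.1 ≠ 0 := by
              have : pq0.1 + r = pq.1 := by rw [← hrel']; rfl
              omega
            have := hd' r hr pq0 h1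
            rwa [hrel'] at this
          · exact (E'.page r hr).shape _ _ hrel
        have hH : Mono (HomologicalComplex.homologyMap (φ.hom r hr) pq) :=
          mono_homologyMap_of_mono_of_d_eq_zero (φ.hom r hr) pq (hd _ _) hL
        have hcomm := φ.comm r (r + 1) pq rfl hr
        have heq : (φ.hom (r + 1) (by omega)).f pq =
            (E.iso r (r + 1) pq rfl hr).inv ≫ HomologicalComplex.homologyMap (φ.hom r hr) pq ≫
              (E'.iso r (r + 1) pq rfl hr).hom := by
          rw [hcomm, Iso.inv_hom_id_assoc]
        rw [heq]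
        infer_instance
  refine ⟨le_rfl, ?_⟩
  intro r h₀ _ pq pq'
  obtain ⟨ihA, ihB⟩ := key r h₀
  by_cases hrel : (ComplexShape.up' (⟨r, 1 - r⟩ : ℤ × ℤ)).Rel pq pq'
  · have hrel' : pq + (r, 1 - r) = pq' := hrel
    by_cases hneg : pq.1 < 0
    · exact (ihA pq (Or.inl hneg)).eq_of_src _ _
    · have hle : r ≤ pq'.1 := by
        rw [← hrel']
        simp only [Prod.fst_add]
        omega
      have := ihB pq' hle
      rw [← cancel_mono ((φ.hom r h₀).f pq'), zero_comp, ← (φ.hom r h₀).comm pq pq']
      rw [← hrel']
      exact hφd r h₀ pq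
  · exact (E.page r h₀).shape _ _ hrel

end Groth.Agent.S19323
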