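import Mathlib
import Groth.Statements.S19326
-- import your own Groth.Agent.* helpers here

set_option autoImplicit false
universe u
open TensorProduct
open GLin

namespace Groth.Agent.S19326

section Aux

variable {k : Type u} [Field k] {M : Type u} [AddCommGroup M]

/-- coefficient functional -/
noncomputable def ev (m : M) : AddMonoidAlgebra k M →ₗ[k] k :=
  (Finsupp.lapply m) ∘ₗ (AddMonoidAlgebra.coeffLinearEquiv k).toLinearMap

theorem ev_apply (m : M) (x : AddMonoidAlgebra k M) : ev m x = x.coeff m := rfl

variable (V : Type u) [AddCommGroup V] [Module k V]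

/-- the `m`-component of an element of `V ⊗ k[M]` -/
noncomputable def proj (m : M) : V ⊗[k] AddMonoidAlgebra k M →ₗ[k] V :=
  (TensorProduct.rid k V).toLinearMap ∘ₗ (LinearMap.lTensor V (ev m))

theorem proj_tmul (m : M) (v : V) (x : AddMonoidAlgebra k M) :
    proj V m (v ⊗ₜ[k] x) = x.coeff m • v := by
  simp [proj, ev_apply]

theorem sum_single_coeff [Fintype M] (x : AddMonoidAlgebra k M) :
    ∑ m, AddMonoidAlgebra.single m (x.coeff m) = x := by
  conv_rhs => rw [← AddMonoidAlgebra.sum_coeff_single x]
  rw [Finsupp.sum_fintype]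
  intro m
  exact AddMonoidAlgebra.single_zero m

theorem decomp [Fintype M] (t : V ⊗[k] AddMonoidAlgebra k M) :
    t = ∑ m, proj V m t ⊗ₜ[k] (AddMonoidAlgebra.single m (1 : k)) := by
  induction t using TensorProduct.induction_on with
  | zero => simp
  | tmul v x =>
    simp only [proj_tmul]
    conv_lhs => rw [← sum_single_coeff x, TensorProduct.tmul_sum]
    refine Finset.sum_congr rfl fun m _ => ?_
    rw [TensorProduct.smul_tmul, AddMonoidAlgebra.smul_single, smul_eq_mul, mul_one]
  | add a b ha hb =>
    conv_lhs => rw [ha, hb]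
    rw [← Finset.sum_add_distrib]
    refine Finset.sum_congr rfl fun m _ => ?_
    rw [map_add, TensorProduct.add_tmul]

end Aux


section Aux2

variable {k : Type u} [Field k] {M : Type u} [AddCommGroup M]
  {R : Type u} [AddCommGroup R] [Module k R] [HopfRep.Comod k (AddMonoidAlgebra k M) R]

/-- `id ⊗ (id ⊗ ev m)` followed by `A ⊗ k ≅ A`. -/
noncomputable def Phi (m : M) :
    R ⊗[k] (AddMonoidAlgebra k M ⊗[k] AddMonoidAlgebra k M) →ₗ[k] R ⊗[k] AddMonoidAlgebra k M :=
  LinearMap.lTensor R ((TensorProduct.rid k (AddMonoidAlgebra k M)).toLinearMap ∘ₗ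
    (LinearMap.lTensor (AddMonoidAlgebra k M) (ev m)))

theorem Phi_assoc_tmul (m : M) (u : R ⊗[k] AddMonoidAlgebra k M) (x : AddMonoidAlgebra k M) :
    Phi m (TensorProduct.assoc k R (AddMonoidAlgebra k M) (AddMonoidAlgebra k M) (u ⊗ₜ[k] x)) =
      x.coeff m • u := by
  induction u using TensorProduct.induction_on with
  | zero => simp
  | tmul r y => simp [Phi, ev_apply, TensorProduct.tmul_smul]
  | add a b ha hb => rw [TensorProduct.add_tmul, map_add, map_add, ha, hb, smul_add]

theorem rid_lTensor_ev_comul (m : M) (x : AddMonoidAlgebra k M) :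
    (TensorProduct.rid k (AddMonoidAlgebra k M))
      (LinearMap.lTensor (AddMonoidAlgebra k M) (ev m) (Coalgebra.comul (R := k) x)) =
      x.coeff m • AddMonoidAlgebra.single m (1 : k) := by
  classical
  induction x using AddMonoidAlgebra.induction_linear with
  | zero => simp
  | add a b ha hb => simp only [map_add, ha, hb, AddMonoidAlgebra.coeff_add, Finsupp.add_apply, add_smul]
  | single n a =>
    rw [AddMonoidAlgebra.comul_single, CommSemiring.comul_apply, TensorProduct.map_tmul,
      LinearMap.lTensor_tmul, TensorProduct.rid_tmul, AddMonoidAlgebra.lsingle_apply,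
      AddMonoidAlgebra.lsingle_apply, ev_apply, AddMonoidAlgebra.coeff_single]
    by_cases hnm : n = m
    · subst hnm
      rfl
    · rw [Finsupp.single_eq_of_ne (Ne.symm hnm), zero_smul, zero_smul]

theorem Phi_lTensor_comul (m : M) (t : R ⊗[k] AddMonoidAlgebra k M) :
    Phi m (LinearMap.lTensor R (Coalgebra.comul (R := k) (A := AddMonoidAlgebra k M)) t) =
      proj R m t ⊗ₜ[k] AddMonoidAlgebra.single m (1 : k) := by
  induction t using TensorProduct.induction_on with
  | zero => simp
  | tmul r x =>
    rw [LinearMap.lTensor_tmul, Phi, LinearMap.lTensor_tmul, LinearMap.comp_apply,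
      LinearEquiv.coe_coe, rid_lTensor_ev_comul, proj_tmul, TensorProduct.tmul_smul,
      TensorProduct.smul_tmul']
  | add a b ha hb => rw [map_add, map_add, ha, hb, map_add, TensorProduct.add_tmul]

/-- the components are eigenvectors -/
theorem coact_proj (m : M) (f : R) :
    HopfRep.Comod.coact (k := k) (A := AddMonoidAlgebra k M)
        (proj R m (HopfRep.Comod.coact (k := k) (A := AddMonoidAlgebra k M) f)) =
      proj R m (HopfRep.Comod.coact (k := k) (A := AddMonoidAlgebra k M) f) ⊗ₜ[k]
        AddMonoidAlgebra.single m (1 : k) := by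
  set ρ : R →ₗ[k] R ⊗[k] AddMonoidAlgebra k M :=
    HopfRep.Comod.coact (k := k) (A := AddMonoidAlgebra k M) with hρ
  have hco := HopfRep.Comod.coassoc (k := k) (A := AddMonoidAlgebra k M) (V := R)
  have h1 := congrArg (fun g => Phi m (g f)) hco
  simp only [LinearMap.comp_apply, LinearEquiv.coe_coe] at h1
  rw [← hρ] at h1
  rw [Phi_lTensor_comul] at h1
  rw [← h1]
  -- general statement on `t = ρ f`
  have key : ∀ t : R ⊗[k] AddMonoidAlgebra k M,
      ρ (proj R m t) = Phi m (TensorProduct.assoc k R (AddMonoidAlgebra k M) (AddMonoidAlgebra k M)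
        (LinearMap.rTensor (AddMonoidAlgebra k M) ρ t)) := by
    intro t
    induction t using TensorProduct.induction_on with
    | zero => simp
    | tmul r x => rw [LinearMap.rTensor_tmul, Phi_assoc_tmul, proj_tmul, map_smul]
    | add a b ha hb => simp only [map_add, ha, hb]
  exact key (ρ f)

/-- an element is the sum of its components -/
theorem sum_proj [Fintype M] (f : R) :
    ∑ m, proj R m (HopfRep.Comod.coact (k := k) (A := AddMonoidAlgebra k M) f) = f := by
  set ρ : R →ₗ[k] R ⊗[k] AddMonoidAlgebra k M :=
    HopfRep.Comod.coact (k := k) (A := AddMonoidAlgebra k M) with hρ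
  have hcu := HopfRep.Comod.counit_comp (k := k) (A := AddMonoidAlgebra k M) (V := R)
  have h1 := congrArg (fun g => TensorProduct.rid k R (g f)) hcu
  simp only [LinearMap.comp_apply, LinearMap.flip_apply, TensorProduct.mk_apply,
    TensorProduct.rid_tmul, one_smul] at h1
  rw [← hρ] at h1
  conv_rhs => rw [← h1]
  conv_rhs => rw [decomp R (ρ f)]
  rw [map_sum, map_sum]
  refine Finset.sum_congr rfl fun m _ => ?_
  rw [LinearMap.lTensor_tmul, TensorProduct.rid_tmul, AddMonoidAlgebra.counit_single,
    CommSemiring.counit_apply, one_smul]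

end Aux2

/-- Let k be a field, M a finite abelian group and D = Spec k[M] the finite diagonalizable group scheme
it defines, acting on an affine k-scheme U = Spec R through a multiplicative coaction R → R ⊗ k[M];
write R_a for the weight space of a ∈ M (elements with coaction f ⊗ a). For an ideal J of R the
induced action of D on the closed subscheme V(J) is trivial, meaning that the coaction followed by
reduction modulo J equals f ↦ (f mod J) ⊗ 1, exactly when J contains the ideal generated by the
weight spaces R_a for a ≠ 0; in other words that ideal defines the largest closed subscheme of U on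
which D acts trivially. (The printed setting has U smooth, which plays no role here and is not
assumed; the further assertion that the construction commutes with flat base change on U/D is not
part of this statement.) -/
theorem result
    {k : Type u} [Field k] {M : Type u} [AddCommGroup M] [Finite M]
    {R : Type u} [CommRing R] [Algebra k R] [HopfRep.Comod k (AddMonoidAlgebra k M) R]
    [GLin.IsCoactAlg k (AddMonoidAlgebra k M) R] (J : Ideal R) :
    (∀ f : R, LinearMap.rTensor (AddMonoidAlgebra k M) (Ideal.Quotient.mkₐ k J).toLinearMap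
        (HopfRep.Comod.coact (k := k) (A := AddMonoidAlgebra k M) f) =
        (Ideal.Quotient.mk J f) ⊗ₜ[k] (1 : AddMonoidAlgebra k M)) ↔
      Ideal.span (⋃ (a : M) (_ : a ≠ 0),
        (HopfRep.eigenspace k (AddMonoidAlgebra k M) R (AddMonoidAlgebra.single a 1) : Set R)) ≤ J := by
  classical
  have : Fintype M := Fintype.ofFinite M
  set ρ : R →ₗ[k] R ⊗[k] AddMonoidAlgebra k M :=
    HopfRep.Comod.coact (k := k) (A := AddMonoidAlgebra k M) with hρ
  constructor
  · intro h
    rw [Ideal.span_le]
    intro f hf
    simp only [Set.mem_iUnion] at hf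
    obtain ⟨a, ha, hfa⟩ := hf
    have hfa' : ρ f = f ⊗ₜ[k] AddMonoidAlgebra.single a 1 := hfa
    have h1 := h f
    rw [hfa', LinearMap.rTensor_tmul] at h1
    have h2 := congrArg (proj (R ⧸ J) a) h1
    rw [proj_tmul, proj_tmul, AddMonoidAlgebra.one_def, AddMonoidAlgebra.coeff_single,
      AddMonoidAlgebra.coeff_single, Finsupp.single_eq_same, Finsupp.single_eq_of_ne ha,
      one_smul, zero_smul] at h2
    exact Ideal.Quotient.eq_zero_iff_mem.1 h2
  · intro hJ f
    have hmem : ∀ m : M, m ≠ 0 → proj R m (ρ f) ∈ J := by
      intro m hm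
      apply hJ
      apply Ideal.subset_span
      simp only [Set.mem_iUnion]
      exact ⟨m, hm, coact_proj m f⟩
    have hzero : ∀ m : M, m ≠ 0 → Ideal.Quotient.mk J (proj R m (ρ f)) = 0 :=
      fun m hm => Ideal.Quotient.eq_zero_iff_mem.2 (hmem m hm)
    have h1 : Ideal.Quotient.mk J f = Ideal.Quotient.mk J (proj R 0 (ρ f)) := by
      conv_lhs => rw [← sum_proj (k := k) (M := M) f, map_sum]
      rw [Finset.sum_eq_single (0 : M)]
      · intro m _ hm
        exact hzero m hm
      · intro h0; exact absurd (Finset.mem_univ _) h0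
    conv_lhs => rw [decomp R (ρ f), map_sum]
    rw [Finset.sum_eq_single (0 : M)]
    · rw [LinearMap.rTensor_tmul, h1, AddMonoidAlgebra.one_def]
      rfl
    · intro m _ hm
      rw [LinearMap.rTensor_tmul]
      have : (Ideal.Quotient.mkₐ k J).toLinearMap (proj R m (ρ f)) = 0 := hzero m hm
      rw [this, TensorProduct.zero_tmul]
    · intro h0; exact absurd (Finset.mem_univ _) h0

end Groth.Agent.S19326
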