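import Mathlib
import Groth.Statements.S19328
-- import your own Groth.Agent.* helpers here

set_option autoImplicit false
universe u
open CategoryTheory CategoryTheory.Limits AlgebraicGeometry
open ModPair

namespace Groth.Agent.S19328

open Polynomial in
/-- A monic polynomial of positive degree over `A` has a root in `A`, if `Spec A` is fppf-local. -/
theorem exists_root_of_local (A : Type u) [CommRing A] [Nontrivial A]
    (hloc : ∀ (X : Scheme.{u}) (R : Presieve X),
      R ∈ Scheme.precoverage (@Flat ⊓ @LocallyOfFinitePresentation ⊓ @QuasiCompact ⊓ @QuasiSeparated) X →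
      ∀ g : Spec (CommRingCat.of A) ⟶ X,
        ∃ (Y : Scheme.{u}) (v : Y ⟶ X) (h : Spec (CommRingCat.of A) ⟶ Y), R v ∧ h ≫ v = g)
    (G : A[X]) (hG : G.Monic) (hdeg : G.natDegree ≠ 0) : ∃ a : A, G.eval a = 0 := by
  let B := AdjoinRoot G
  let pb : PowerBasis A B := AdjoinRoot.powerBasis' hG
  have hfree : Module.Free A B := Module.Free.of_basis pb.basis
  have hfin : Module.Finite A B := Module.Finite.of_basis pb.basis
  have hne : Nonempty (Fin pb.dim) := by
    have : pb.dim = G.natDegree := AdjoinRoot.powerBasis'_dim hG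
    rw [this]
    exact ⟨⟨0, Nat.pos_of_ne_zero hdeg⟩⟩
  have hnt : Nontrivial B := pb.basis.repr.symm.injective.nontrivial
  have hff : Module.FaithfullyFlat A B := inferInstance
  let φ : CommRingCat.of A ⟶ CommRingCat.of B := CommRingCat.ofHom (algebraMap A B)
  let v : Spec (CommRingCat.of B) ⟶ Spec (CommRingCat.of A) := Spec.map φ
  have hφff : φ.hom.FaithfullyFlat := by
    show (algebraMap A B).FaithfullyFlat
    rw [RingHom.faithfullyFlat_algebraMap_iff]
    exact hff
  obtain ⟨hflat, hsurj⟩ := (flat_and_surjective_SpecMap_iff φ).2 hφff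
  have hlfp : LocallyOfFinitePresentation v := by
    rw [HasRingHomProperty.Spec_iff (P := @LocallyOfFinitePresentation)]
    show (algebraMap A B).FinitePresentation
    rw [RingHom.finitePresentation_algebraMap]
    infer_instance
  have hmem : Presieve.singleton v ∈ Scheme.precoverage
      (@Flat ⊓ @LocallyOfFinitePresentation ⊓ @QuasiCompact ⊓ @QuasiSeparated) _ := by
    rw [Scheme.singleton_mem_precoverage_iff]
    refine ⟨hsurj.surj, ⟨⟨⟨hflat, hlfp⟩, inferInstance⟩, inferInstance⟩⟩
  obtain ⟨Y, v', h, hv', hcomp⟩ := hloc _ _ hmem (𝟙 _)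
  obtain ⟨⟩ := hv'
  let ψ : B →+* A := (Spec.preimage h).hom
  have hψφ : ψ.comp (algebraMap A B) = RingHom.id A := by
    have h1 : Spec.map (φ ≫ Spec.preimage h) = Spec.map (𝟙 _) := by
      rw [Spec.map_comp, Spec.map_preimage, Spec.map_id]
      exact hcomp
    have h2 := Spec.map_injective h1
    have h3 := congrArg CommRingCat.Hom.hom h2
    exact h3
  refine ⟨ψ (AdjoinRoot.root G), ?_⟩
  have h1 : ψ (eval₂ (algebraMap A B) (AdjoinRoot.root G) G) =
      eval₂ (ψ.comp (algebraMap A B)) (ψ (AdjoinRoot.root G)) G := Polynomial.hom_eval₂ _ _ _ _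
  rw [hψφ] at h1
  have h2 : eval₂ (algebraMap A B) (AdjoinRoot.root G) G = 0 := AdjoinRoot.eval₂_root G
  rw [h2, map_zero] at h1
  exact h1.symm

open Polynomial in
/-- Let A be a commutative ring such that Spec A is local for fppf coverings, in the sense that for
every scheme X, every jointly surjective family of morphisms to X each of which is flat and of
finite presentation (locally of finite presentation, quasi-compact and quasi-separated), and every
morphism Spec A ⟶ X, the morphism factors through a member of the family. Then the residue field of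
A at every prime ideal is algebraically closed. -/
theorem result (A : Type u) [CommRing A]
    (hloc : ∀ (X : Scheme.{u}) (R : Presieve X),
      R ∈ Scheme.precoverage (@Flat ⊓ @LocallyOfFinitePresentation ⊓ @QuasiCompact ⊓ @QuasiSeparated) X →
      ∀ g : Spec (CommRingCat.of A) ⟶ X,
        ∃ (Y : Scheme.{u}) (v : Y ⟶ X) (h : Spec (CommRingCat.of A) ⟶ Y), R v ∧ h ≫ v = g)
    (p : Ideal A) [p.IsPrime] : IsAlgClosed p.ResidueField := by
  have hntA : Nontrivial A := ⟨⟨0, 1, fun h => (Ideal.IsPrime.ne_top ‹p.IsPrime›)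
    (p.eq_top_iff_one.2 (h ▸ p.zero_mem))⟩⟩
  apply IsAlgClosed.of_exists_root
  intro g hg hirr
  classical
  have hdeg : g.natDegree ≠ 0 := (Polynomial.natDegree_pos_iff_degree_pos.2
    (Polynomial.degree_pos_of_irreducible hirr)).ne'
  -- common denominator
  obtain ⟨b, hb⟩ := IsLocalization.exist_integer_multiples_of_finset (nonZeroDivisors (A ⧸ p))
    (S := p.ResidueField) (g.support.image g.coeff)
  set s : p.ResidueField := algebraMap (A ⧸ p) p.ResidueField b with hs
  have hs0 : s ≠ 0 := by
    rw [hs]
    have hinj : Function.Injective (algebraMap (A ⧸ p) p.ResidueField) :=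
      IsFractionRing.injective _ _
    intro h0
    have : (b : A ⧸ p) = 0 := hinj (h0.trans (map_zero _).symm)
    exact nonZeroDivisors.ne_zero b.2 this
  have hrange : ∀ x : A ⧸ p, algebraMap (A ⧸ p) p.ResidueField x ∈
      Set.range (algebraMap A p.ResidueField) := by
    intro x
    obtain ⟨a, rfl⟩ := Ideal.Quotient.mk_surjective x
    exact ⟨a, (IsScalarTower.algebraMap_apply A (A ⧸ p) p.ResidueField a)⟩
  have hlifts : scaleRoots g s ∈ Polynomial.lifts (algebraMap A p.ResidueField) := by
    rw [Polynomial.lifts_iff_coeff_lifts]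
    intro i
    rw [coeff_scaleRoots]
    rcases lt_trichotomy i g.natDegree with hi | hi | hi
    · by_cases hci : g.coeff i = 0
      · rw [hci, zero_mul]; exact ⟨0, map_zero _⟩
      · obtain ⟨x, hx⟩ := hb (g.coeff i) (Finset.mem_image_of_mem _ (Polynomial.mem_support_iff.2 hci))
        have h1 : g.natDegree - i = (g.natDegree - i - 1) + 1 := by omega
        rw [h1, pow_succ]
        have h2 : g.coeff i * (s ^ (g.natDegree - i - 1) * s) =
            algebraMap (A ⧸ p) p.ResidueField (x * b ^ (g.natDegree - i - 1)) := by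
          rw [map_mul, map_pow, hx, ← hs, Algebra.smul_def, ← hs]
          ring
        rw [h2]
        exact hrange _
    · rw [hi, Nat.sub_self, pow_zero, mul_one, ← Polynomial.leadingCoeff, hg.leadingCoeff]
      exact ⟨1, map_one _⟩
    · rw [Polynomial.coeff_eq_zero_of_natDegree_lt hi, zero_mul]
      exact ⟨0, map_zero _⟩
  have hmonic : (scaleRoots g s).Monic := (monic_scaleRoots_iff s).2 hg
  obtain ⟨G, hGmap, hGdeg, hGmonic⟩ := Polynomial.lifts_and_natDegree_eq_and_monic hlifts hmonic
  rw [natDegree_scaleRoots] at hGdeg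
  obtain ⟨a, ha⟩ := exists_root_of_local A hloc G hGmonic (hGdeg ▸ hdeg)
  set w : p.ResidueField := algebraMap A p.ResidueField a with hw
  have hroot : (scaleRoots g s).eval w = 0 := by
    rw [← hGmap, Polynomial.eval_map, hw, Polynomial.eval₂_at_apply, ha, map_zero]
  refine ⟨s⁻¹ * w, ?_⟩
  have h3 := scaleRoots_eval_mul g (s⁻¹ * w) s
  rw [← mul_assoc, mul_inv_cancel₀ hs0, one_mul, hroot] at h3
  rcases mul_eq_zero.1 h3.symm with h4 | h4
  · exact absurd (pow_eq_zero_iff (hdeg) |>.1 h4) hs0
  · exact h4

end Groth.Agent.S19328
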