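import Mathlib
import Groth.Statements.S19329
import Groth.Agent.H8.EffCartier

set_option autoImplicit false
universe u
open CategoryTheory CategoryTheory.Limits AlgebraicGeometry TopologicalSpace
open ModPair

namespace Groth.Agent.S19329

open Groth.Agent.Lib.Helper18 Groth.Agent.H8.EffCartier

/-! ### Algebra -/

theorem isUnit_of_span_eq {A : Type*} [CommRing A] {a b c : A} (ha : a ∈ nonZeroDivisors A)
    (habc : a = c * b) (h : Ideal.span {a} = Ideal.span {b}) : IsUnit c := by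
  have hb : b ∈ Ideal.span {a} := h ▸ Ideal.mem_span_singleton_self b
  obtain ⟨d, hd⟩ := Ideal.mem_span_singleton'.mp hb
  have hbn : b ∈ nonZeroDivisors A := by
    rw [mem_nonZeroDivisors_iff_right]
    intro x hx
    apply (mem_nonZeroDivisors_iff_right.mp ha) x
    rw [habc, mul_comm c b, ← mul_assoc, hx, zero_mul]
  have h1 : (1 - d * c) * b = 0 := by
    rw [sub_mul, one_mul, mul_assoc, ← habc, hd, sub_self]
  have h2 : 1 - d * c = 0 := (mem_nonZeroDivisors_iff_right.mp hbn) _ h1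
  exact IsUnit.of_mul_eq_one d (by rw [mul_comm]; exact (sub_eq_zero.mp h2).symm)

theorem span_eq_of_isUnit {A : Type*} [CommRing A] {a b c : A} (hc : IsUnit c)
    (habc : a = c * b) : Ideal.span {a} = Ideal.span {b} := by
  rw [habc, Ideal.span_singleton_mul_left_unit hc]

theorem mem_nonZeroDivisors_of_span_eq {A : Type*} [CommRing A] {s a : A}
    (hs : s ∈ nonZeroDivisors A) (h : Ideal.span {s} = Ideal.span {a}) :
    a ∈ nonZeroDivisors A := by
  have hsa : s ∈ Ideal.span {a} := h ▸ Ideal.mem_span_singleton_self s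
  obtain ⟨r, hr⟩ := Ideal.mem_span_singleton'.mp hsa
  rw [mem_nonZeroDivisors_iff_right]
  intro x hx
  apply (mem_nonZeroDivisors_iff_right.mp hs) x
  rw [← hr, mul_comm r a, ← mul_assoc, hx, zero_mul]

/-! ### The open where two ideal sheaves agree -/

variable {Y : Scheme.{u}}

/-- The union of the affine opens on which the two ideal sheaves have the same ideal. -/
noncomputable def agreeOpen (J K' : Y.IdealSheafData) : Y.Opens :=
  ⨆ W : {W : Y.affineOpens // J.ideal W = K'.ideal W}, (W.1.1 : Y.Opens)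

theorem comap_agreeOpen_eq (J K' : Y.IdealSheafData) :
    J.comap (agreeOpen J K').ι = K'.comap (agreeOpen J K').ι := by
  set U := agreeOpen J K' with hU
  let S := {V : (U : Scheme.{u}).affineOpens // ∃ W : Y.affineOpens,
    J.ideal W = K'.ideal W ∧ V.1 ≤ U.ι ⁻¹ᵁ W.1}
  have hcov : ⨆ i : S, (i.1.1 : (U : Scheme.{u}).Opens) = ⊤ := by
    rw [eq_top_iff]
    intro x _
    have hx : U.ι x ∈ U := by
      have : U.ι x ∈ Set.range U.ι := ⟨x, rfl⟩
      rwa [Scheme.Opens.range_ι] at this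
    obtain ⟨⟨W, hW⟩, hxW⟩ := TopologicalSpace.Opens.mem_iSup.mp hx
    obtain ⟨V, hV, hxV, hVW⟩ := TopologicalSpace.Opens.isBasis_iff_nbhd.mp
      (U : Scheme.{u}).isBasis_affineOpens (show x ∈ U.ι ⁻¹ᵁ W.1 from hxW)
    exact TopologicalSpace.Opens.mem_iSup.mpr ⟨⟨⟨V, hV⟩, W, hW, hVW⟩, hxV⟩
  apply Scheme.IdealSheafData.ext_of_iSup_eq_top (fun i : S => i.1) hcov
  rintro ⟨V, W, hW, hVW⟩
  rw [ideal_comap_of_le U.ι J V W hVW, ideal_comap_of_le U.ι K' V W hVW]
  exact congrArg (Ideal.map _) hW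

/-- Local data: `J = (a)`, `K' = (b)`, `a = c b` on an affine open `W`. -/
structure LocalData (J K' : Y.IdealSheafData) (W : Y.affineOpens) (a b c : Γ(Y, W.1)) : Prop where
  ha : a ∈ nonZeroDivisors Γ(Y, W.1)
  hJ : J.ideal W = Ideal.span {a}
  hK : K'.ideal W = Ideal.span {b}
  habc : a = c * b

theorem LocalData.restrict {J K' : Y.IdealSheafData} {W : Y.affineOpens} {a b c : Γ(Y, W.1)}
    (h : LocalData J K' W a b c) (W' : Y.affineOpens) (e : W'.1 ≤ W.1) :
    LocalData J K' W' ((Y.presheaf.map (homOfLE e).op).hom a)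
      ((Y.presheaf.map (homOfLE e).op).hom b) ((Y.presheaf.map (homOfLE e).op).hom c) := by
  obtain ⟨h1, h2⟩ := restrict_generator J W a h.ha h.hJ W' e
  refine ⟨h1, h2, ?_, ?_⟩
  · have e' : W' ≤ W := e
    rw [← K'.map_ideal e', h.hK, Ideal.map_span, Set.image_singleton]
    rfl
  · rw [h.habc, map_mul]

theorem LocalData.basicOpen_le {J K' : Y.IdealSheafData} {W : Y.affineOpens} {a b c : Γ(Y, W.1)}
    (h : LocalData J K' W a b c) : Y.basicOpen c ≤ agreeOpen J K' := by
  have hle : Y.basicOpen c ≤ W.1 := Y.basicOpen_le c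
  have h' := h.restrict ⟨Y.basicOpen c, W.2.basicOpen c⟩ hle
  have hu : IsUnit ((Y.presheaf.map (homOfLE hle).op).hom c) :=
    RingedSpace.isUnit_res_basicOpen Y.toRingedSpace c
  have hgood : J.ideal ⟨Y.basicOpen c, W.2.basicOpen c⟩ =
      K'.ideal ⟨Y.basicOpen c, W.2.basicOpen c⟩ := by
    rw [h'.hJ, h'.hK]
    exact span_eq_of_isUnit hu h'.habc
  exact le_iSup (fun W : {W : Y.affineOpens // J.ideal W = K'.ideal W} => (W.1.1 : Y.Opens))
    ⟨⟨Y.basicOpen c, W.2.basicOpen c⟩, hgood⟩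

theorem LocalData.inf_le_basicOpen {J K' : Y.IdealSheafData} {W : Y.affineOpens}
    {a b c : Γ(Y, W.1)} (h : LocalData J K' W a b c) :
    agreeOpen J K' ⊓ W.1 ≤ Y.basicOpen c := by
  rintro y ⟨hyU, hyW⟩
  obtain ⟨⟨W'', hW''⟩, hyW''⟩ := TopologicalSpace.Opens.mem_iSup.mp hyU
  obtain ⟨W3, hW3, hy3, hW3le⟩ := TopologicalSpace.Opens.isBasis_iff_nbhd.mp
    Y.isBasis_affineOpens (show y ∈ W.1 ⊓ W''.1 from ⟨hyW, hyW''⟩)
  have e1 : W3 ≤ W.1 := hW3le.trans inf_le_left
  have e2 : (⟨W3, hW3⟩ : Y.affineOpens) ≤ W'' := hW3le.trans inf_le_right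
  have h' := h.restrict ⟨W3, hW3⟩ e1
  have hgood : J.ideal ⟨W3, hW3⟩ = K'.ideal ⟨W3, hW3⟩ := by
    rw [← J.map_ideal e2, ← K'.map_ideal e2, hW'']
  rw [h'.hJ, h'.hK] at hgood
  have hu := isUnit_of_span_eq h'.ha h'.habc hgood
  have hb := Y.basicOpen_of_isUnit hu
  rw [Scheme.basicOpen_res] at hb
  have : y ∈ W3 ⊓ Y.basicOpen c := by
    rw [hb]
    exact hy3
  exact this.2

/-- Let (X, I), (Y, J), (Z, K) be modulus pairs, i.e. schemes with quasi-coherent ideal sheaves of
effective Cartier divisors, and let f : X ⟶ Y and g : Y ⟶ Z satisfy the modulus conditions I ≤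
J.comap f and J ≤ K.comap g. Suppose the composite X ⟶ Z is minimal, I = K.comap (f ≫ g). Then f is
minimal, and there is an open subset U of Y whose inclusion is quasi-compact, which contains the
image of f, and such that U ⟶ Z is minimal for the modulus of Y restricted to U. -/
theorem result {X Y Z : Scheme.{u}}
    (I : X.IdealSheafData) (J : Y.IdealSheafData) (K : Z.IdealSheafData)
    (hI : BlowUp.IsEffCartierIdeal I) (hJ : BlowUp.IsEffCartierIdeal J)
    (hK : BlowUp.IsEffCartierIdeal K) (f : X ⟶ Y) (g : Y ⟶ Z)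
    (hf : ModPair.IsAmbient I J f) (hg : ModPair.IsAmbient J K g)
    (hfg : ModPair.IsMinimal I K (f ≫ g)) :
    ModPair.IsMinimal I J f ∧
      ∃ U : Y.Opens, QuasiCompact U.ι ∧ Set.range f.base ⊆ (U : Set Y) ∧
        ModPair.IsMinimal (J.comap U.ι) K (U.ι ≫ g) := by
  have hmin : I = J.comap f := by
    apply le_antisymm hf
    have h1 : J.comap f ≤ (K.comap g).comap f := Scheme.IdealSheafData.comap_mono f hg
    rw [← Scheme.IdealSheafData.comap_comp] at h1
    exact h1.trans (le_of_eq hfg.symm)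
  refine ⟨hmin, ?_⟩
  set K' := K.comap g with hK'
  have hloc : ∀ y : Y, ∃ (W : Y.affineOpens) (a b c : Γ(Y, W.1)),
      y ∈ W.1 ∧ LocalData J K' W a b c := by
    intro y
    obtain ⟨T, hyT, t, ht, hT⟩ := hK (g y)
    obtain ⟨W, hyW, hWT, a, ha, hW⟩ := exists_generator_le J hJ y (g ⁻¹ᵁ T.1) hyT
    have hKW : K'.ideal W = Ideal.span {(g.appLE T.1 W.1 hWT).hom t} := by
      rw [hK', ideal_comap_of_le g K W T hWT, hT, Ideal.map_span, Set.image_singleton]
    have hle : J.ideal W ≤ K'.ideal W := hg W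
    have hmem : a ∈ Ideal.span {(g.appLE T.1 W.1 hWT).hom t} := by
      rw [← hKW]
      exact hle (hW ▸ Ideal.mem_span_singleton_self a)
    obtain ⟨c, hc⟩ := Ideal.mem_span_singleton'.mp hmem
    exact ⟨W, a, _, c, hyW, ha, hW, hKW, hc.symm⟩
  refine ⟨agreeOpen J K', ?_, ?_, ?_⟩
  · let S' := {W : Y.affineOpens // ∃ a b c : Γ(Y, W.1), LocalData J K' W a b c}
    have hcov : ⨆ i : S', (i.1.1 : Y.Opens) = ⊤ := by
      rw [eq_top_iff]
      intro y _
      obtain ⟨W, a, b, c, hyW, hd⟩ := hloc y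
      exact TopologicalSpace.Opens.mem_iSup.mpr ⟨⟨W, a, b, c, hd⟩, hyW⟩
    rw [@HasAffineProperty.iff_of_iSup_eq_top @QuasiCompact _
      AlgebraicGeometry.instHasAffinePropertyQuasiCompactCompactSpaceCarrierCarrierCommRingCat
      _ _ _ _ (fun i : S' => i.1) hcov]
    rintro ⟨W, a, b, c, hd⟩
    change CompactSpace ↥((agreeOpen J K').ι ⁻¹ᵁ W.1)
    apply isCompact_iff_compactSpace.mp
    have h1 : IsCompact ((Y.basicOpen c : Y.Opens) : Set Y) := (W.2.basicOpen c).isCompact
    have heq : Y.basicOpen c = agreeOpen J K' ⊓ W.1 :=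
      le_antisymm (le_inf hd.basicOpen_le (Y.basicOpen_le c)) hd.inf_le_basicOpen
    rw [heq] at h1
    have h2 := (agreeOpen J K').ι.isOpenEmbedding.isInducing.isCompact_preimage' h1 (by
      rw [Scheme.Opens.range_ι]
      exact Set.inter_subset_left)
    convert h2 using 1
    ext y
    constructor
    · intro hy
      exact ⟨y.2, hy⟩
    · intro hy
      exact hy.2
  · rintro _ ⟨x, rfl⟩
    obtain ⟨W, a, b, c, hyW, hd⟩ := hloc (f x)
    obtain ⟨X', hxX', hX'W, s, hs, hX'⟩ := exists_generator_le I hI x (f ⁻¹ᵁ W.1) hyW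
    have h1 : I.ideal X' = Ideal.span {(f.appLE W.1 X'.1 hX'W).hom a} := by
      rw [hmin, ideal_comap_of_le f J X' W hX'W, hd.hJ, Ideal.map_span, Set.image_singleton]
    have h2 : I.ideal X' = Ideal.span {(f.appLE W.1 X'.1 hX'W).hom b} := by
      have hIK : I = K'.comap f := by
        rw [hK', ← Scheme.IdealSheafData.comap_comp]
        exact hfg
      rw [hIK, ideal_comap_of_le f K' X' W hX'W, hd.hK, Ideal.map_span, Set.image_singleton]
    have ha' : (f.appLE W.1 X'.1 hX'W).hom a ∈ nonZeroDivisors _ :=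
      mem_nonZeroDivisors_of_span_eq hs (hX'.symm.trans h1)
    have hu : IsUnit ((f.appLE W.1 X'.1 hX'W).hom c) :=
      isUnit_of_span_eq ha' (by rw [hd.habc, map_mul]) (h1.symm.trans h2)
    have hb := X.basicOpen_of_isUnit hu
    rw [Scheme.basicOpen_appLE] at hb
    have hx2 : x ∈ X'.1 ⊓ f ⁻¹ᵁ Y.basicOpen c := by
      rw [hb]
      exact hxX'
    exact hd.basicOpen_le hx2.2
  · show J.comap _ = K.comap _
    rw [Scheme.IdealSheafData.comap_comp]
    exact comap_agreeOpen_eq J K'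

end Groth.Agent.S19329
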