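import Mathlib
import Groth.Statements.S19330
import Groth.Agent.Lib.Helper93.ModPairProd

set_option autoImplicit false
universe u
open CategoryTheory CategoryTheory.Limits AlgebraicGeometry TopologicalSpace
open ModPair

namespace Groth.Agent.S19330

open Groth.Agent.Lib.Helper18 Groth.Agent.H8.EffCartier Groth.Agent.Lib.Helper93.ModPairInterior
  Groth.Agent.Lib.Helper93.ModPairProd

variable {X Y : Scheme.{u}}

/-- Every point of a scheme is a specialisation of a point of the interior of an effective
Cartier divisor (a minimal prime below it avoids the local equation). -/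
theorem exists_specializes_of_isEffCartierIdeal (I : Y.IdealSheafData)
    (hI : BlowUp.IsEffCartierIdeal I) (s : Y) :
    ∃ u : Y, u ∈ ModPair.interior I ∧ u ⤳ s := by
  obtain ⟨W, hsW, a, ha, hW⟩ := hI s
  have hWa : IsAffineOpen W.1 := W.2
  set P := hWa.primeIdealOf ⟨s, hsW⟩ with hP
  obtain ⟨q, hq, hqP⟩ := Ideal.exists_minimalPrimes_le (show (⊥ : Ideal Γ(Y, W.1)) ≤ P.asIdeal
    from bot_le)
  have hqprime : q.IsPrime := hq.1.1
  have haq : a ∉ q := fun h =>
    (Set.disjoint_left.mp (Ideal.disjoint_nonZeroDivisors_of_mem_minimalPrimes hq) h) ha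
  let Q : PrimeSpectrum Γ(Y, W.1) := ⟨q, hqprime⟩
  have hQP : Q ⤳ P := (PrimeSpectrum.le_iff_specializes Q P).mp hqP
  have hspec : hWa.fromSpec Q ⤳ hWa.fromSpec P := hQP.map hWa.fromSpec.continuous
  have hPs : hWa.fromSpec P = s := hWa.fromSpec_primeIdealOf ⟨s, hsW⟩
  rw [hPs] at hspec
  refine ⟨hWa.fromSpec Q, ?_, hspec⟩
  have hQW : hWa.fromSpec Q ∈ W.1 := by
    have : hWa.fromSpec Q ∈ Set.range hWa.fromSpec := ⟨Q, rfl⟩
    rwa [hWa.range_fromSpec] at this
  show hWa.fromSpec Q ∉ I.support
  rw [Scheme.IdealSheafData.mem_support_iff_of_mem hQW, hW, Scheme.zeroLocus_span,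
    Scheme.zeroLocus_singleton]
  intro hcon
  apply hcon
  have hmem : Q ∈ PrimeSpectrum.basicOpen a := haq
  have h2 : hWa.fromSpec Q ∈ hWa.fromSpec ''ᵁ (PrimeSpectrum.basicOpen a) := ⟨Q, hmem, rfl⟩
  rwa [hWa.fromSpec_image_basicOpen] at h2

/-- If `f` is quasi-compact with image inside the open `U`, then the preimage of `U` is
scheme-theoretically dense in the scheme-theoretic image of `f`. -/
theorem isSchemeTheoreticallyDominant_ι_preimage_imageι' (f : X ⟶ Y) [QuasiCompact f]
    (U : Y.Opens) (hU : Set.range f ⊆ (U : Set Y)) :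
    IsSchemeTheoreticallyDominant (f.imageι ⁻¹ᵁ U).ι := by
  have hT := isSchemeTheoreticallyDominant_toImage f
  have hrange : Set.range f.toImage ⊆ Set.range (f.imageι ⁻¹ᵁ U).ι := by
    rintro _ ⟨y, rfl⟩
    rw [Scheme.Opens.range_ι]
    change f.imageι (f.toImage y) ∈ U
    rw [← Scheme.Hom.comp_apply, Scheme.Hom.toImage_imageι]
    exact hU ⟨y, rfl⟩
  let k := IsOpenImmersion.lift (f.imageι ⁻¹ᵁ U).ι f.toImage hrange
  have hk : k ≫ (f.imageι ⁻¹ᵁ U).ι = f.toImage := IsOpenImmersion.lift_fac _ _ _
  rw [isSchemeTheoreticallyDominant_iff, eq_bot_iff]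
  calc (f.imageι ⁻¹ᵁ U).ι.ker ≤ (k ≫ (f.imageι ⁻¹ᵁ U).ι).ker := Scheme.Hom.le_ker_comp _ _
    _ = ⊥ := by rw [hk]; exact hT.ker_eq_bot

/-- Let (S, I) be a modulus pair, i.e. a scheme with the quasi-coherent ideal sheaf of an effective
Cartier divisor, with interior U, and let g_i : V_i ⟶ U be a jointly surjective family of closed
immersions into the interior. Let V̄_i be the scheme-theoretic image of V_i ⟶ U ⟶ S. Then the closed
immersions V̄_i ⟶ S are jointly surjective, the modulus restricted to each V̄_i is again the ideal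
sheaf of an effective Cartier divisor (so that V̄_i ⟶ S is a minimal morphism of modulus pairs), and
the interior of V̄_i is V_i: the canonical morphism V_i ⟶ V̄_i is an open immersion whose image is
the preimage of U. -/
theorem result {S : Scheme.{u}} (I : S.IdealSheafData)
    (hI : BlowUp.IsEffCartierIdeal I) {ι : Type u} (V : ι → Scheme.{u})
    (g : ∀ i, V i ⟶ (ModPair.interior I : Scheme.{u})) [∀ i, IsClosedImmersion (g i)]
    (hsurj : ∀ u : (ModPair.interior I : Scheme.{u}), ∃ (i : ι) (v : V i), (g i).base v = u) :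
    (∀ s : S, ∃ (i : ι) (v : (g i ≫ (ModPair.interior I).ι).image),
        (g i ≫ (ModPair.interior I).ι).imageι.base v = s) ∧
      (∀ i, BlowUp.IsEffCartierIdeal (I.comap (g i ≫ (ModPair.interior I).ι).imageι)) ∧
      ∀ i, IsOpenImmersion (g i ≫ (ModPair.interior I).ι).toImage ∧
        Set.range (g i ≫ (ModPair.interior I).ι).toImage.base =
          (g i ≫ (ModPair.interior I).ι).imageι.base ⁻¹' (ModPair.interior I : Set S) := by
  have hqcU : QuasiCompact (ModPair.interior I).ι := quasiCompact_ι_interior I hI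
  have hqc : ∀ i, QuasiCompact (g i ≫ (ModPair.interior I).ι) := fun i => inferInstance
  have himm : ∀ i, IsImmersion (g i ≫ (ModPair.interior I).ι) := fun i => inferInstance
  have hrangeU : ∀ i, Set.range (g i ≫ (ModPair.interior I).ι) ⊆
      (ModPair.interior I : Set S) := by
    rintro i _ ⟨v, rfl⟩
    rw [Scheme.Hom.comp_apply]
    have : (ModPair.interior I).ι (g i v) ∈ Set.range (ModPair.interior I).ι := ⟨_, rfl⟩
    rwa [Scheme.Opens.range_ι] at this
  refine ⟨?_, ?_, ?_⟩
  · intro s
    obtain ⟨u, hu, hus⟩ := exists_specializes_of_isEffCartierIdeal I hI s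
    obtain ⟨i, v, hv⟩ := hsurj ⟨u, hu⟩
    refine ⟨i, ?_⟩
    have hcl : IsClosed (Set.range (g i ≫ (ModPair.interior I).ι).imageι) :=
      (g i ≫ (ModPair.interior I).ι).imageι.isClosedEmbedding.isClosed_range
    have hmem : u ∈ Set.range (g i ≫ (ModPair.interior I).ι).imageι := by
      refine ⟨(g i ≫ (ModPair.interior I).ι).toImage v, ?_⟩
      rw [← Scheme.Hom.comp_apply, Scheme.Hom.toImage_imageι, Scheme.Hom.comp_apply]
      exact congrArg Subtype.val hv
    obtain ⟨z, hz⟩ := hus.mem_closed hcl hmem
    exact ⟨z, hz⟩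
  · intro i
    have := isSchemeTheoreticallyDominant_ι_preimage_imageι' (g i ≫ (ModPair.interior I).ι)
      (ModPair.interior I) (hrangeU i)
    exact isEffCartierIdeal_comap_of_dominant I hI _
  · intro i
    refine ⟨inferInstance, ?_⟩
    set f := g i ≫ (ModPair.interior I).ι with hf
    apply Set.Subset.antisymm
    · rintro _ ⟨v, rfl⟩
      show f.imageι (f.toImage v) ∈ (ModPair.interior I : Set S)
      rw [← Scheme.Hom.comp_apply, Scheme.Hom.toImage_imageι]
      exact hrangeU i ⟨v, rfl⟩
    · intro z hz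
      have hzU : f.imageι z ∈ (ModPair.interior I : Set S) := hz
      have H := IsImmersion.isPullback_toImage_liftCoborder f
      have hcob : f.imageι z ∈ f.coborderRange := by
        show f.imageι z ∈ coborder (Set.range f)
        intro hcon
        apply hcon.2
        have hcl := hcon.1
        -- write `f.imageι z = U.ι u`
        set u : (ModPair.interior I : Scheme.{u}) := ⟨f.imageι z, hzU⟩ with hu
        have hyu : (ModPair.interior I).ι u = f.imageι z := rfl
        have hrf : Set.range f = (ModPair.interior I).ι '' Set.range (g i) := by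
          rw [hf, Scheme.Hom.comp_base, TopCat.coe_comp, Set.range_comp]
        have hucl : u ∈ closure (Set.range (g i)) := by
          rw [(ModPair.interior I).ι.isOpenEmbedding.isInducing.closure_eq_preimage_closure_image]
          rw [Set.mem_preimage, hyu, ← hrf]
          exact hcl
        rw [(g i).isClosedEmbedding.isClosed_range.closure_eq] at hucl
        obtain ⟨v, hv⟩ := hucl
        refine ⟨v, ?_⟩
        show (g i ≫ (ModPair.interior I).ι) v = _
        rw [Scheme.Hom.comp_apply, hv]
        exact hyu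
      have hzr : z ∈ Set.range (pullback.fst f.imageι f.coborderRange.ι) := by
        rw [Scheme.Pullback.range_fst]
        show f.imageι z ∈ Set.range f.coborderRange.ι
        rw [Scheme.Opens.range_ι]
        exact hcob
      obtain ⟨w, hw⟩ := hzr
      refine ⟨H.isoPullback.inv w, ?_⟩
      show f.toImage (H.isoPullback.inv w) = z
      rw [← Scheme.Hom.comp_apply, H.isoPullback_inv_fst]
      exact hw

end Groth.Agent.S19330
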