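import Groth.Statements.S19331
-- import your own Groth.Agent.* helpers here
import Groth.Agent.S19330
import Groth.Agent.H72.FinExt
import Groth.Agent.H72.FinFactGlue

set_option autoImplicit false
universe u
open CategoryTheory CategoryTheory.Limits AlgebraicGeometry TopologicalSpace
open ModPair

namespace Groth.Agent.S19331


open Groth.Agent.Lib.Helper93.ModPairInterior Groth.Agent.Lib.Helper93.ModPairProd

theorem range_fst_of_isPullback {P X Y Z : Scheme.{u}} {fst : P ⟶ X} {snd : P ⟶ Y} {f : X ⟶ Z}
    {g : Y ⟶ Z} (h : IsPullback fst snd f g) : Set.range fst = f ⁻¹' Set.range g := by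
  have h1 : fst = h.isoPullback.hom ≫ pullback.fst f g := (h.isoPullback_hom_fst).symm
  have h2 : Function.Surjective h.isoPullback.hom :=
    (inferInstance : Surjective h.isoPullback.hom).surj
  rw [h1, Scheme.Hom.comp_base, TopCat.coe_comp, Set.range_comp, Set.range_eq_univ.mpr h2,
    Set.image_univ, Scheme.Pullback.range_fst]

/-- Let (S, I) be a modulus pair, i.e. a scheme with the quasi-coherent ideal sheaf of an effective
Cartier divisor, with S quasi-compact and quasi-separated and with interior U, and let t₀ : T₀ ⟶ U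
be a finite surjective morphism. Then there are a finite surjective morphism t : T ⟶ S such that the
pulled-back modulus I.comap t is again the ideal sheaf of an effective Cartier divisor, making T ⟶ S
a minimal morphism of modulus pairs, and an open immersion j : T₀ ⟶ T with image t⁻¹(U) and j ≫ t =
t₀ ≫ (U ⟶ S), so that t₀ is the interior of t. -/
theorem result {S : Scheme.{u}}
    [CompactSpace S] [QuasiSeparatedSpace S] (I : S.IdealSheafData)
    (hI : BlowUp.IsEffCartierIdeal I) {T₀ : Scheme.{u}}
    (t₀ : T₀ ⟶ (ModPair.interior I : Scheme.{u})) [IsFinite t₀] [Surjective t₀] :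
    ∃ (T : Scheme.{u}) (t : T ⟶ S) (j : T₀ ⟶ T), IsFinite t ∧ Surjective t ∧
      BlowUp.IsEffCartierIdeal (I.comap t) ∧ IsOpenImmersion j ∧
      Set.range j.base = t.base ⁻¹' (ModPair.interior I : Set S) ∧
      j ≫ t = t₀ ≫ (ModPair.interior I).ι := by
  classical
  obtain ⟨U, hUdef⟩ : ∃ U : S.Opens, U = ModPair.interior I := ⟨_, rfl⟩
  have hqcU : QuasiCompact (ModPair.interior I).ι := quasiCompact_ι_interior I hI
  haveI : CompactSpace ((ModPair.interior I : S.Opens) : Scheme.{u}) :=
    QuasiCompact.compactSpace_of_compactSpace (ModPair.interior I).ι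
  have hU : IsCompact ((ModPair.interior I : S.Opens) : Set S) :=
    isCompact_iff_compactSpace.mpr
      (show CompactSpace ((ModPair.interior I : S.Opens) : Scheme.{u}) from inferInstance)
  obtain ⟨V', π, i, hπf, hsq⟩ :=
    Groth.Agent.H72.FinExt.exists_finite_extension (ModPair.interior I) hU t₀
  haveI : IsOpenImmersion i :=
    MorphismProperty.of_isPullback (P := @IsOpenImmersion) hsq.flip inferInstance
  haveI : QuasiCompact i :=
    MorphismProperty.of_isPullback (P := @QuasiCompact) hsq.flip hqcU
  have hri : Set.range i = π ⁻¹' ((ModPair.interior I : S.Opens) : Set S) := by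
    rw [range_fst_of_isPullback hsq, Scheme.Opens.range_ι]
  have hpb : IsPullback i.toImage (𝟙 T₀) (i.imageι ≫ 𝟙 V') i :=
    Groth.Agent.H72.FinFact.isPullback_toImage_of_isSeparated i (𝟙 V') i (Category.comp_id i)
  have hjo : IsOpenImmersion i.toImage :=
    MorphismProperty.of_isPullback (P := @IsOpenImmersion) hpb.flip inferInstance
  have hjt : i.toImage ≫ (i.imageι ≫ π) = t₀ ≫ (ModPair.interior I).ι := by
    rw [← Category.assoc, Scheme.Hom.toImage_imageι, hsq.w]
  have hrj : Set.range i.toImage = (i.imageι ≫ π) ⁻¹' ((ModPair.interior I : S.Opens) : Set S) := by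
    rw [range_fst_of_isPullback hpb, Category.comp_id, hri]
    rfl
  have hdom : IsSchemeTheoreticallyDominant
      ((i.imageι ≫ π) ⁻¹ᵁ ModPair.interior I).ι := by
    have h1 := Groth.Agent.S19330.isSchemeTheoreticallyDominant_ι_preimage_imageι' i
      (π ⁻¹ᵁ ModPair.interior I) (by rw [hri]; rfl)
    exact h1
  refine ⟨i.image, i.imageι ≫ π, i.toImage, inferInstance, ⟨?_⟩,
    isEffCartierIdeal_comap_of_dominant I hI _, hjo, hrj, hjt⟩
  intro s
  obtain ⟨u, hu, hus⟩ := Groth.Agent.S19330.exists_specializes_of_isEffCartierIdeal I hI s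
  have hcl : IsClosed (Set.range (i.imageι ≫ π)) := (i.imageι ≫ π).isClosedMap.isClosed_range
  have hmem : u ∈ Set.range (i.imageι ≫ π) := by
    obtain ⟨x, hx⟩ := t₀.surjective ⟨u, hu⟩
    refine ⟨i.toImage x, ?_⟩
    rw [← Scheme.Hom.comp_apply, hjt, Scheme.Hom.comp_apply, hx]
    rfl
  obtain ⟨z, hz⟩ := hus.mem_closed hcl hmem
  exact ⟨z, hz⟩

end Groth.Agent.S19331
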