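import Mathlib
import Groth.Statements.S19333
-- import your own Groth.Agent.* helpers here

set_option autoImplicit false
universe u
open ModPair

namespace Groth.Agent.S19333

open Polynomial in
theorem forward {A B : Type u} [CommRing A] [CommRing B] [Algebra A B] (x : B)
    (hx : IsIntegral A x) (K : Type u) [Field K] (R : ValuationSubring K) (φ : B →+* K)
    (hφ : ∀ a : A, φ (algebraMap A B a) ∈ R) : φ x ∈ R := by
  obtain ⟨p, hp, hpx⟩ := hx
  let ψ : A →+* R := (φ.comp (algebraMap A B)).codRestrict R.toSubring hφ
  have hint : IsIntegral R (φ x) := by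
    refine ⟨p.map ψ, hp.map ψ, ?_⟩
    rw [Polynomial.eval₂_map]
    have : (algebraMap R K).comp ψ = φ.comp (algebraMap A B) := by
      ext a; rfl
    rw [this, ← Polynomial.hom_eval₂, hpx, map_zero]
  obtain ⟨y, hy⟩ := (IsIntegrallyClosed.isIntegral_iff (R := R) (K := K)).1 hint
  rw [← hy]
  exact y.2

open Polynomial in
theorem backward {A B : Type u} [CommRing A] [CommRing B] [Algebra A B] (x : B)
    (h : ∀ (K : Type u) [Field K] (R : ValuationSubring K) (φ : B →+* K),
        (∀ a : A, φ (algebraMap A B a) ∈ R) → φ x ∈ R) : IsIntegral A x := by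
  rcases subsingleton_or_nontrivial A with hA | hA
  · have : Subsingleton B := by
      refine ⟨fun a b => ?_⟩
      have h1 : (1 : B) = 0 := by
        rw [← map_one (algebraMap A B), Subsingleton.elim (1 : A) 0, map_zero]
      rw [← mul_one a, ← mul_one b, h1, mul_zero, mul_zero]
    exact ⟨X, monic_X, Subsingleton.elim _ _⟩
  let S := Localization.Away x
  let y : S := IsLocalization.Away.invSelf x
  have hxy : algebraMap B S x * y = 1 := IsLocalization.Away.mul_invSelf x
  let _ : Invertible y := ⟨algebraMap B S x, hxy, by rw [mul_comm]; exact hxy⟩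
  have hinv : ⅟y = algebraMap B S x := rfl
  let C : Subalgebra A S := Algebra.adjoin A {y}
  let yC : C := ⟨y, Algebra.subset_adjoin rfl⟩
  by_cases hspan : Ideal.span {yC} = ⊤
  · -- case 1: integral
    have hI : (⊥ : Ideal A) ≠ ⊤ := bot_ne_top
    obtain ⟨p, hp1, hp2⟩ := Algebra.exists_aeval_invOf_eq_zero_of_idealMap_adjoin_sup_span_eq_top y
      (⊥ : Ideal A) hI (by rw [Ideal.map_bot, bot_sup_eq]; exact hspan)
    have hmonic : p.Monic := by
      rw [Ideal.mem_bot, sub_eq_zero] at hp1
      exact hp1
    rw [hinv, Polynomial.aeval_algebraMap_apply] at hp2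
    obtain ⟨⟨_, m, rfl⟩, hm⟩ := (IsLocalization.map_eq_zero_iff (Submonoid.powers x) S _).1 hp2
    refine ⟨X ^ m * p, (monic_X_pow m).mul hmonic, ?_⟩
    rw [← Polynomial.aeval_def, map_mul, map_pow, aeval_X]
    exact hm
  · -- case 2: find a valuation ring
    exfalso
    obtain ⟨m, hm, hle⟩ := Ideal.exists_le_maximal _ hspan
    have hmprime : m.IsPrime := hm.isPrime
    obtain ⟨q, hq, hqm⟩ := Ideal.exists_minimalPrimes_le (I := ⊥) (J := m) bot_le
    obtain ⟨Q, hQ, hQq⟩ := Ideal.exists_comap_eq_of_mem_minimalPrimes_of_injective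
      (f := C.val.toRingHom) Subtype.val_injective q hq
    let K := FractionRing (S ⧸ Q)
    let ψ : S →+* K := (algebraMap (S ⧸ Q) K).comp (Ideal.Quotient.mk Q)
    have hψker : ∀ s : S, ψ s = 0 → s ∈ Q := by
      intro s hs
      have : Ideal.Quotient.mk Q s = 0 :=
        (IsFractionRing.injective (S ⧸ Q) K) (hs.trans (map_zero _).symm)
      exact Ideal.Quotient.eq_zero_iff_mem.1 this
    let g : C →+* K := ψ.comp C.val.toRingHom
    let A₁ : Subring K := g.range
    let f : C →+* A₁ := g.rangeRestrict
    have hf : Function.Surjective f := g.rangeRestrict_surjective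
    let I₁ : Ideal A₁ := Ideal.map f m
    have hI₁ : I₁ ≠ ⊤ := by
      intro htop
      have h1 : (1 : A₁) ∈ Ideal.map f m := by
        show (1 : A₁) ∈ I₁
        rw [htop]; exact Submodule.mem_top
      obtain ⟨c, hcm, hc1⟩ := (Ideal.mem_map_iff_of_surjective f hf).1 h1
      have h2 : ψ ((c : S) - 1) = 0 := by
        have := congrArg Subtype.val hc1
        rw [map_sub, map_one, sub_eq_zero]
        exact this
      have h3 : c - 1 ∈ q := by
        rw [← hQq]
        exact hψker _ h2
      have h4 : (1 : C) ∈ m := by
        have := m.sub_mem hcm (hqm h3)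
        simpa using this
      exact hm.ne_top (m.eq_top_iff_one.2 h4)
    obtain ⟨V, hV1, hV2⟩ := Ideal.image_subset_nonunits_valuationSubring I₁ hI₁
    let φ : B →+* K := ψ.comp (algebraMap B S)
    have hφA : ∀ a : A, φ (algebraMap A B a) ∈ V := by
      intro a
      apply hV1
      refine ⟨algebraMap A C a, ?_⟩
      show ψ (algebraMap A S a) = ψ (algebraMap B S (algebraMap A B a))
      rw [← IsScalarTower.algebraMap_apply A B S]
    have hφx : φ x ∈ V := h K V φ hφA
    have hψy : ψ y ∈ V.nonunits := by
      apply hV2
      refine ⟨f yC, Ideal.mem_map_of_mem f (hle (Ideal.subset_span rfl)), rfl⟩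
    have h5 : φ x * ψ y = 1 := by
      show ψ (algebraMap B S x) * ψ y = 1
      rw [← map_mul, hxy, map_one]
    rw [ValuationSubring.mem_nonunits_iff] at hψy
    rw [← ValuationSubring.valuation_le_one_iff] at hφx
    have h6 : V.valuation (φ x * ψ y) = 1 := by rw [h5, map_one]
    rw [map_mul] at h6
    have h7 : V.valuation (φ x) * V.valuation (ψ y) < 1 := by
      calc V.valuation (φ x) * V.valuation (ψ y) ≤ 1 * V.valuation (ψ y) :=
            mul_le_mul_left hφx _
        _ = V.valuation (ψ y) := one_mul _
        _ < 1 := hψy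
    exact (ne_of_lt h7) h6

/-- Let A → B be any homomorphism of commutative rings. An element x of B is integral over A if and only
if for every field K, every valuation subring R of K and every ring homomorphism φ : B → K which
sends the image of A into R, the element φ(x) lies in R. In other words the integral closure of A in
B is the intersection of the subrings R ×_K B taken over all commutative squares A → R ⊆ K ← B with
R a valuation ring of the field K. -/
theorem result {A B : Type u} [CommRing A]
    [CommRing B] [Algebra A B] (x : B) :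
    x ∈ integralClosure A B ↔
      ∀ (K : Type u) [Field K] (R : ValuationSubring K) (φ : B →+* K),
        (∀ a : A, φ (algebraMap A B a) ∈ R) → φ x ∈ R := by
  constructor
  · intro hx K _ R φ hφ
    exact forward x hx K R φ hφ
  · intro h
    exact backward x h

end Groth.Agent.S19333
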