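import Mathlib
import Groth.Statements.S19334
import Groth.Agent.Lib.Helper18.IdealComap

set_option autoImplicit false
universe u
open CategoryTheory CategoryTheory.Limits AlgebraicGeometry TopologicalSpace
open ModPair

namespace Groth.Agent.S19334

/-- Algebra: a nonzerodivisor lying in a prime ideal survives as a nonzero nonunit in some valuation
ring (dominate the localisation of `A/q` at `P/q` for a minimal prime `q ≤ P`). -/
theorem exists_valuationRing_hom {A : Type u} [CommRing A] (f : A) (hf : f ∈ nonZeroDivisors A)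
    (P : Ideal A) [P.IsPrime] (hfP : f ∈ P) :
    ∃ (R : Type u) (_ : CommRing R) (_ : IsDomain R) (_ : ValuationRing R) (φ : A →+* R),
      φ f ≠ 0 ∧ ¬ IsUnit (φ f) := by
  obtain ⟨q, hq, hqP⟩ := Ideal.exists_minimalPrimes_le (show (⊥ : Ideal A) ≤ P from bot_le)
  have hqprime : q.IsPrime := hq.1.1
  have hfq : f ∉ q := fun h =>
    (Set.disjoint_left.mp (Ideal.disjoint_nonZeroDivisors_of_mem_minimalPrimes hq) h) hf
  let g : A →+* FractionRing (A ⧸ q) :=
    (algebraMap (A ⧸ q) (FractionRing (A ⧸ q))).comp (Ideal.Quotient.mk q)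
  have hg0 : ∀ a : A, g a = 0 → a ∈ q := by
    intro a h0
    have h1 : algebraMap (A ⧸ q) (FractionRing (A ⧸ q)) (Ideal.Quotient.mk q a) = 0 := h0
    have h2 : Ideal.Quotient.mk q a = 0 :=
      (IsFractionRing.injective (A ⧸ q) (FractionRing (A ⧸ q))) (by rw [h1, map_zero])
    exact Ideal.Quotient.eq_zero_iff_mem.mp h2
  have hg : ∀ y : P.primeCompl, IsUnit (g y) := by
    intro y
    apply IsUnit.mk0
    intro h0
    exact y.2 (hqP (hg0 _ h0))
  let ψ : Localization.AtPrime P →+* FractionRing (A ⧸ q) := IsLocalization.lift hg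
  obtain ⟨V, hV, hloc⟩ := IsLocalRing.exists_factor_valuationRing ψ
  refine ⟨V, inferInstance, inferInstance, inferInstance,
    (ψ.codRestrict V.toSubring hV).comp (algebraMap A (Localization.AtPrime P)), ?_, ?_⟩
  · intro h0
    have h1 := congrArg Subtype.val h0
    have h2 : g f = 0 := by
      have h3 : ψ (algebraMap A (Localization.AtPrime P) f) = g f := IsLocalization.lift_eq hg f
      rw [← h3]
      exact h1
    exact hfq (hg0 _ h2)
  · intro hu
    have h1 : IsUnit (algebraMap A (Localization.AtPrime P) f) := hloc.map_nonunit _ hu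
    exact ((IsLocalization.AtPrime.isUnit_to_map_iff (Localization.AtPrime P) P f).mp h1) hfP

/-- Let (X, I) be a modulus pair, i.e. a scheme X with the quasi-coherent ideal sheaf I of an effective
Cartier divisor. Suppose that for every valuation ring R and every morphism p : Spec R ⟶ X along
which the divisor of I pulls back to an effective Cartier divisor on Spec R (so that p is a minimal
morphism of modulus pairs for the pulled-back modulus), the pulled-back divisor is empty, I.comap p
= ⊤. Then the divisor of I is empty: I = ⊤. -/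
theorem result {X : Scheme.{u}}
    (I : X.IdealSheafData) (hI : BlowUp.IsEffCartierIdeal I)
    (h : ∀ (R : Type u) [CommRing R] [IsDomain R] [ValuationRing R]
      (p : Spec (CommRingCat.of R) ⟶ X), BlowUp.IsEffCartierIdeal (I.comap p) → I.comap p = ⊤) :
    I = ⊤ := by
  by_contra hne
  have hsupp : (I.support : Set X).Nonempty := by
    by_contra hemp
    apply hne
    rw [Set.not_nonempty_iff_eq_empty] at hemp
    apply (Scheme.IdealSheafData.support_eq_bot_iff I).mp
    exact TopologicalSpace.Closeds.ext hemp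
  obtain ⟨x, hx⟩ := hsupp
  obtain ⟨V, hxV, f, hf, hV⟩ := hI x
  have hx' : x ∈ I.support := hx
  rw [Scheme.IdealSheafData.mem_support_iff_of_mem hxV, hV, Scheme.zeroLocus_span,
    Scheme.zeroLocus_singleton] at hx'
  replace hx : x ∉ X.basicOpen f := hx'
  have hfu : ¬ IsUnit f := fun hu => hx (by rw [X.basicOpen_of_isUnit hu]; exact hxV)
  obtain ⟨P, hPmax, hfP⟩ := Ideal.exists_le_maximal (Ideal.span {f})
    (by rwa [Ne, Ideal.span_singleton_eq_top])
  have hPprime : P.IsPrime := hPmax.isPrime
  obtain ⟨R, _, _, _, φ, hφ0, hφu⟩ := exists_valuationRing_hom f hf P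
    (hfP (Ideal.mem_span_singleton_self f))
  have hVa : IsAffineOpen V.1 := V.2
  let p : Spec (CommRingCat.of R) ⟶ X := Spec.map (CommRingCat.ofHom φ) ≫ hVa.fromSpec
  have e : (⊤ : (Spec (CommRingCat.of R)).Opens) ≤ p ⁻¹ᵁ V.1 := by
    intro y _
    show (Spec.map (CommRingCat.ofHom φ) ≫ hVa.fromSpec) y ∈ V.1
    rw [Scheme.Hom.comp_apply]
    have : hVa.fromSpec (Spec.map (CommRingCat.ofHom φ) y) ∈ Set.range hVa.fromSpec := ⟨_, rfl⟩
    rw [hVa.range_fromSpec] at this
    exact this
  have key : p.appLE V.1 ⊤ e = CommRingCat.ofHom φ ≫ (Scheme.ΓSpecIso (CommRingCat.of R)).inv := by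
    have h1 := IsAffineOpen.SpecMap_appLE_fromSpec p hVa (isAffineOpen_top _) e
    rw [IsAffineOpen.fromSpec_top, Scheme.isoSpec_Spec_inv] at h1
    have hmono : Mono hVa.fromSpec := inferInstance
    have h2 : Spec.map (p.appLE V.1 ⊤ e) =
        Spec.map (Scheme.ΓSpecIso (CommRingCat.of R)).inv ≫ Spec.map (CommRingCat.ofHom φ) := by
      apply (cancel_mono hVa.fromSpec).mp
      rw [h1, Category.assoc]
    rw [← Spec.map_comp] at h2
    exact Spec.map_injective h2
  have hideal : (I.comap p).ideal ⟨⊤, isAffineOpen_top _⟩ =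
      Ideal.span {(p.appLE V.1 ⊤ e).hom f} := by
    rw [Groth.Agent.Lib.Helper18.ideal_comap_of_le p I ⟨⊤, isAffineOpen_top _⟩ V e, hV,
      Ideal.map_span, Set.image_singleton]
  have hval : (p.appLE V.1 ⊤ e).hom f =
      (Scheme.ΓSpecIso (CommRingCat.of R)).inv.hom (φ f) := by
    rw [key]; rfl
  let eR : R ≃+* Γ(Spec (CommRingCat.of R), ⊤) :=
    (Scheme.ΓSpecIso (CommRingCat.of R)).commRingCatIsoToRingEquiv.symm
  have heR : ∀ r : R, (Scheme.ΓSpecIso (CommRingCat.of R)).inv.hom r = eR r := fun r => rfl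
  have hdom : IsDomain Γ(Spec (CommRingCat.of R), ⊤) := eR.toMulEquiv.isDomain_iff.mp inferInstance
  have hne0 : (p.appLE V.1 ⊤ e).hom f ≠ 0 := by
    rw [hval, heR]
    intro h0
    exact hφ0 (eR.injective (by rw [h0, map_zero]))
  have hnu : ¬ IsUnit ((p.appLE V.1 ⊤ e).hom f) := by
    rw [hval, heR]
    intro hu
    apply hφu
    have := hu.map eR.symm
    simpa using this
  have hcart : BlowUp.IsEffCartierIdeal (I.comap p) := by
    intro y
    exact ⟨⟨⊤, isAffineOpen_top _⟩, trivial, _, mem_nonZeroDivisors_of_ne_zero hne0, hideal⟩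
  have htop := h R p hcart
  rw [htop] at hideal
  apply hnu
  rw [← Ideal.span_singleton_eq_top, ← hideal]
  rfl

end Groth.Agent.S19334
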