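import Mathlib
import Groth.Statements.S19338
-- import your own Groth.Agent.* helpers here

set_option autoImplicit false
universe w v u
open CategoryTheory
open ModPair

namespace Groth.Agent.S19338

/-- Ore condition in convenient form. -/
theorem ore {C : Type u} [Category.{v} C] (S : MorphismProperty C) [S.HasRightCalculusOfFractions]
    {X Y Z : C} (f : Z ⟶ X) (s : Y ⟶ X) (hs : S s) :
    ∃ (Z' : C) (s' : Z' ⟶ Z) (f' : Z' ⟶ Y), S s' ∧ s' ≫ f = f' ≫ s := by
  obtain ⟨ψ, hψ⟩ := MorphismProperty.HasRightCalculusOfFractions.exists_rightFraction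
    (W := S) (⟨f, s, hs⟩ : S.LeftFraction Z Y)
  exact ⟨ψ.X', ψ.s, ψ.f, ψ.hs, hψ⟩

/-- The topology. -/
def topo {C : Type u} [Category.{v} C] (S : MorphismProperty C) [S.HasRightCalculusOfFractions] :
    GrothendieckTopology C where
  sieves X := {T | ∃ (Y : C) (s : Y ⟶ X), S s ∧ T s}
  top_mem' X := ⟨X, 𝟙 X, S.id_mem X, trivial⟩
  pullback_stable' := by
    rintro X X' T f ⟨Y, s, hs, hTs⟩
    obtain ⟨Z', s', f', hs', hcomm⟩ := ore S f s hs
    refine ⟨Z', s', hs', ?_⟩
    show T (s' ≫ f)
    rw [hcomm]
    exact T.downward_closed hTs f'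
  transitive' := by
    rintro X T ⟨Y, s, hs, hTs⟩ R hR
    obtain ⟨Z, t, ht, hRt⟩ := hR hTs
    exact ⟨Z, t ≫ s, S.comp_mem t s ht hs, hRt⟩

/-- Let C be a category and S a class of morphisms which contains the identities, is closed under
composition, admits a right calculus of fractions, and consists of monomorphisms. Then the sieves
containing a morphism of S are the covering sieves of a Grothendieck topology on C, and for every
such topology J a presheaf of types F on C is a J-sheaf if and only if it is S-local, i.e. F sends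
every morphism of S to a bijection. -/
theorem result {C : Type u} [Category.{v} C]
    (S : MorphismProperty C) [S.HasRightCalculusOfFractions]
    (hmono : ∀ ⦃X Y : C⦄ (s : X ⟶ Y), S s → Mono s) :
    (∃ J : GrothendieckTopology C, ∀ (X : C) (T : Sieve X),
        T ∈ J X ↔ ∃ (Y : C) (s : Y ⟶ X), S s ∧ T s) ∧
      ∀ J : GrothendieckTopology C, (∀ (X : C) (T : Sieve X),
          T ∈ J X ↔ ∃ (Y : C) (s : Y ⟶ X), S s ∧ T s) →
        ∀ F : Cᵒᵖ ⥤ Type w,
          Presheaf.IsSheaf J F ↔ ∀ ⦃X Y : C⦄ (s : X ⟶ Y), S s → IsIso (F.map s.op) := by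
  refine ⟨⟨topo S, fun X T => Iff.rfl⟩, ?_⟩
  intro J hJ F
  rw [isSheaf_iff_isSheaf_of_type]
  constructor
  · intro hF X Y s hs
    have hsmono : Mono s := hmono s hs
    rw [isIso_iff_bijective]
    have hmem : Sieve.generate (Presieve.singleton s) ∈ J Y := by
      rw [hJ]
      exact ⟨X, s, hs, ⟨X, 𝟙 X, s, Presieve.singleton.mk, Category.id_comp s⟩⟩
    have hsh := hF _ hmem
    rw [← Presieve.isSheafFor_iff_generate, Presieve.isSheafFor_singleton] at hsh
    constructor
    · intro a b hab
      have := hsh (F.map s.op a) (fun p₁ p₂ h12 => by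
        have : p₁ = p₂ := (cancel_mono s).1 h12
        rw [this])
      exact this.unique rfl hab.symm
    · intro c
      obtain ⟨y, hy, -⟩ := hsh c (fun p₁ p₂ h12 => by
        have : p₁ = p₂ := (cancel_mono s).1 h12
        rw [this])
      exact ⟨y, hy⟩
  · intro hF X T hT
    rw [hJ] at hT
    obtain ⟨Y, s, hs, hTs⟩ := hT
    have hbij : Function.Bijective (F.map s.op) := (isIso_iff_bijective _).1 (hF s hs)
    intro x hx
    obtain ⟨a, ha⟩ := hbij.2 (x s hTs)
    refine ⟨a, ?_, ?_⟩
    · intro Z f hf
      obtain ⟨Z', s', f', hs', hcomm⟩ := ore S f s hs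
      have hinj : Function.Injective (F.map s'.op) := ((isIso_iff_bijective _).1 (hF s' hs')).1
      apply hinj
      have h1 : F.map s'.op (F.map f.op a) = F.map f'.op (F.map s.op a) := by
        rw [← Functor.map_comp_apply, ← Functor.map_comp_apply, ← op_comp, ← op_comp,
          hcomm]
      rw [h1, ha]
      exact hx f' s' hTs hf hcomm.symm
    · intro a' ha'
      apply hbij.1
      rw [ha]
      exact ha' s hTs

end Groth.Agent.S19338
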