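import Groth.Statements.S19340
import Mathlib

set_option autoImplicit false
universe v v' u u'
open CategoryTheory
open ModPair

namespace Groth.Agent.S19340

/-- Let C be a category, S a class of morphisms of C containing the identities, closed under composition
and admitting a right calculus of fractions, and L : C ⥤ D a localization functor for S. Then for
every object X of C the comma category of L under X, whose objects are pairs (Y, L(X) ⟶ L(Y)) and
whose morphisms are morphisms Y ⟶ Y' of C compatible with the structure maps, is cofiltered. The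
published statement calls this category filtered; its proof verifies, and this row states,
cofilteredness. -/
theorem result {C : Type u}
    [Category.{v} C] {D : Type u'} [Category.{v'} D] (S : MorphismProperty C)
    [S.HasRightCalculusOfFractions] (L : C ⥤ D) [L.IsLocalization S] (X : C) :
    IsCofiltered (StructuredArrow (L.obj X) L) := by
  have hinv := Localization.inverts L S
  refine { cone_objs := ?_, cone_maps := ?_, nonempty := ⟨StructuredArrow.mk (𝟙 (L.obj X))⟩ }
  · intro A B
    obtain ⟨φ, hφ⟩ := Localization.exists_rightFraction L S A.hom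
    obtain ⟨ψ, hψ⟩ := Localization.exists_rightFraction L S B.hom
    obtain ⟨χ, hχ⟩ := (MorphismProperty.LeftFraction.mk φ.s ψ.s ψ.hs).exists_rightFraction
    dsimp at hχ
    have hu : S (χ.s ≫ φ.s) := S.comp_mem _ _ χ.hs φ.hs
    have : IsIso (L.map (χ.s ≫ φ.s)) := hinv _ hu
    have : IsIso (L.map φ.s) := hinv _ φ.hs
    have : IsIso (L.map ψ.s) := hinv _ ψ.hs
    refine ⟨StructuredArrow.mk (inv (L.map (χ.s ≫ φ.s))),
      StructuredArrow.homMk (χ.s ≫ φ.f) ?_, StructuredArrow.homMk (χ.f ≫ ψ.f) ?_, trivial⟩
    · dsimp
      rw [IsIso.inv_comp_eq, hφ, MorphismProperty.RightFraction.map]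
      simp
    · dsimp
      rw [IsIso.inv_comp_eq, hψ, MorphismProperty.RightFraction.map, hχ]
      simp
  · intro A B g h
    obtain ⟨φ, hφ⟩ := Localization.exists_rightFraction L S A.hom
    have : IsIso (L.map φ.s) := hinv _ φ.hs
    have hg := StructuredArrow.w g
    have hh := StructuredArrow.w h
    have heq : L.map (φ.f ≫ g.right) = L.map (φ.f ≫ h.right) := by
      have h1 : A.hom ≫ L.map g.right = A.hom ≫ L.map h.right := hg.trans hh.symm
      rw [hφ, MorphismProperty.RightFraction.map] at h1
      simp only [Category.assoc, IsIso.inv_comp_eq] at h1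
      simpa using h1
    obtain ⟨X₀, t, ht, hfac⟩ := (MorphismProperty.map_eq_iff_precomp L S _ _).mp heq
    have hu : S (t ≫ φ.s) := S.comp_mem _ _ ht φ.hs
    have : IsIso (L.map (t ≫ φ.s)) := hinv _ hu
    refine ⟨StructuredArrow.mk (inv (L.map (t ≫ φ.s))),
      StructuredArrow.homMk (t ≫ φ.f) ?_, ?_⟩
    · dsimp
      rw [IsIso.inv_comp_eq, hφ, MorphismProperty.RightFraction.map]
      simp
    · ext
      dsimp
      simpa using hfac

end Groth.Agent.S19340
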