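import Groth.Statements.S19345
import Groth.Agent.Lib.Helper25.AICLocal

set_option autoImplicit false
universe u
open CategoryTheory CategoryTheory.Limits AlgebraicGeometry TopologicalSpace
open ModPair

namespace Groth.Agent.S19345

/-- Let P be a quasi-separated scheme. Then P is local for Zariski coverings (for every scheme X, every
jointly surjective family of quasi-compact open immersions into X and every morphism P ⟶ X, the
morphism factors through a member) and for finite coverings (the same for jointly surjective
families of finite morphisms) — which together is locality for the rqfh coverings, the finite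
composites of coverings of these two kinds — if and only if P is affine and Γ(P) is a local integral
domain in which every monic polynomial of positive degree has a root, i.e. the spectrum of an
absolutely integrally closed local domain. The published statement allows any scheme P; this row
assumes P quasi-separated. -/
theorem result (P : Scheme.{u}) [QuasiSeparatedSpace P] :
    ((∀ (X : Scheme.{u}) (R : Presieve X), R ∈ Scheme.precoverage (@IsOpenImmersion ⊓ @QuasiCompact) X →
        ∀ g : P ⟶ X, ∃ (Y : Scheme.{u}) (w : Y ⟶ X) (h : P ⟶ Y), R w ∧ h ≫ w = g) ∧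
      (∀ (X : Scheme.{u}) (R : Presieve X), R ∈ Scheme.precoverage @IsFinite X →
        ∀ g : P ⟶ X, ∃ (Y : Scheme.{u}) (w : Y ⟶ X) (h : P ⟶ Y), R w ∧ h ≫ w = g)) ↔
    (IsAffine P ∧ IsLocalRing Γ(P, ⊤) ∧ IsDomain Γ(P, ⊤) ∧ Curves.IsAIC Γ(P, ⊤)) := by
  constructor
  · rintro ⟨hZ, hF⟩
    have : Nonempty P := Helper25.AICLocal.nonempty_of_local P hZ
    have : IsAffine P := Helper25.AICLocal.isAffine_of_local P hZ
    have : Nonempty (⊤ : P.Opens) := ⟨⟨Classical.arbitrary P, trivial⟩⟩
    have : Nontrivial Γ(P, ⊤) := Scheme.component_nontrivial P ⊤
    have : IsDomain Γ(P, ⊤) := Helper25.AICLocal.isDomain_of_local P hF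
    exact ⟨inferInstance, Helper25.AICLocal.isLocalRing_of_local P hZ, inferInstance,
      Helper25.AICLocal.isAIC_of_local P hF⟩
  · rintro ⟨hAff, hLoc, hDom, hAIC⟩
    exact ⟨fun X R hR g => Helper25.AICLocal.zariski_local_of_isLocalRing P X R hR g,
      fun X R hR g => Helper25.AICLocal.finite_local_of_isAIC P hAIC X R hR g⟩

end Groth.Agent.S19345
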