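import Groth.Statements.S19350
import Mathlib
import Groth.Agent.S1696
import Groth.Agent.Lib.Helper18.LimFinLocFree
import Groth.Agent.Lib.Helper49.FinLocFree
-- import your own Groth.Agent.* helpers here

set_option autoImplicit false
set_option linter.style.haveILetI false
universe u
open RigCh

namespace Groth.Agent.S19350

open AlgebraicGeometry CategoryTheory in
/-- Let X be a separated scheme of finite type over a field k, I a quasi-coherent ideal sheaf on X, b :
X' → X a blowing up of X in I and F a finite locally free O_X-module. Then for any strict transform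
G of F along b (an epimorphism π from the pullback of F onto G whose kernel consists,
affine-locally, of the sections annihilated by a power of the exceptional ideal), π is an
isomorphism and G is finite locally free. (The published statement asserts only that the strict
transform is locally free. The source assumes k of positive characteristic, which plays no role
here.) -/
theorem result (k : Type u) [Field k]
    (X : Scheme.{u}) (f : X ⟶ Spec (CommRingCat.of k)) [IsSeparated f] [QuasiCompact f] [LocallyOfFiniteType f]
    (I : X.IdealSheafData) {X' : Scheme.{u}} (b : X' ⟶ X) (hb : BlowUp.IsBlowUp b I)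
    (F : X.Modules) (hF : FlatMod.IsFinLocFree F) (G : X'.Modules) (π : (Scheme.Modules.pullback b).obj F ⟶ G)
    (hG : BlowUp.IsStrictTransform b I F G π) : IsIso π ∧ FlatMod.IsFinLocFree G := by
  classical
  have hflat : FlatMod.IsFlat F := Groth.Agent.Lib.Helper49.isFlat_of_isFinLocFree F hF
  have hinj : ∀ W : X'.Opens, Function.Injective (π.app W) := by
    intro W
    rw [injective_iff_map_eq_zero]
    intro s hs
    refine Groth.Agent.Lib.Helper45.section_ext_germ _ W s 0 (fun x hx => ?_)
    obtain ⟨_, ⟨V, hV, rfl⟩, hxV, hVW⟩ :=
      X'.isBasis_affineOpens.exists_subset_of_mem_open hx W.2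
    have hVW' : V ≤ W := hVW
    have h1 : π.app V (Groth.Agent.Lib.Helper49.mres _ hVW' s) = 0 := by
      have := π.mapPresheaf.naturality (homOfLE hVW').op
      have h2 := congr($this s)
      refine Eq.trans h2 ?_
      change (G.presheaf.map (homOfLE hVW').op) (π.app W s) = 0
      rw [hs, map_zero]
    obtain ⟨n, hn⟩ := (hG.2 ⟨V, hV⟩ _).mp h1
    have h3 : Groth.Agent.Lib.Helper49.mres _ hVW' s = 0 :=
      Groth.Agent.S1696.eq_zero_of_killed (BlowUp.exceptional b I) hb.1 _
        (fun y _ => Groth.Agent.S1696.isFlatAt_pullback b F y (hflat _)) ⟨V, hV⟩ _ n hn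
    have e1 : ((Scheme.Modules.pullback b).obj F).presheaf.germ V x hxV
        (Groth.Agent.Lib.Helper49.mres _ hVW' s) =
        ((Scheme.Modules.pullback b).obj F).presheaf.germ W x hx s :=
      TopCat.Presheaf.germ_res_apply _ (homOfLE hVW') x hxV s
    rw [map_zero, ← e1, h3, map_zero]
  have hmono : Mono π := by
    refine ⟨fun {K} ψ₁ ψ₂ e => Scheme.Modules.hom_ext _ _ fun W => ?_⟩
    have : Mono (π.app W) := (AddCommGrpCat.mono_iff_injective _).mpr (hinj W)
    rw [← cancel_mono (π.app W), ← Scheme.Modules.Hom.comp_app, e, Scheme.Modules.Hom.comp_app]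
  haveI : Epi π := hG.1
  have hiso : IsIso π := isIso_of_mono_of_epi π
  refine ⟨hiso, ?_⟩
  exact Groth.Agent.Lib.Helper18.LimFinLocFree.isFinLocFree_of_iso (asIso π)
    (Groth.Agent.Lib.Helper18.LimFinLocFree.isFinLocFree_pullback b F hF)

end Groth.Agent.S19350
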