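import Groth.Statements.S19356
import Mathlib

set_option autoImplicit false
universe u
open AbVar

namespace Groth.Agent.S19356

set_option linter.unusedSectionVars false

section Lemmas

variable {R : Type*} [Ring R] [Algebra ℚ R] [Module.Finite ℚ R] [StarRing R] [StarModule ℚ R]
  (σ : R →ₗ[ℚ] ℚ)

/-- the quadratic form `x ↦ σ (x x†)` -/
noncomputable def qf : QuadraticForm ℚ R :=
  LinearMap.BilinMap.toQuadraticMap
    (LinearMap.mk₂ ℚ (fun x y => σ (x * star y))
      (fun x x' y => by rw [add_mul, map_add])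
      (fun c x y => by rw [smul_mul_assoc, map_smul])
      (fun x y y' => by rw [star_add, mul_add, map_add])
      (fun c x y => by rw [star_smul, star_trivial, mul_smul_comm, map_smul]))

lemma qf_apply (x : R) : qf σ x = σ (x * star x) := by
  simp [qf, LinearMap.BilinMap.toQuadraticMap_apply]

lemma exists_bound (hpos : ∀ x : R, x ≠ 0 → 0 < σ (x * star x)) (f : R →ₗ[ℚ] ℂ) :
    ∃ K : ℝ, 0 ≤ K ∧ ∀ x : R, ‖f x‖ ^ 2 ≤ K * ((σ (x * star x) : ℚ) : ℝ) := by
  classical
  obtain ⟨v, hv⟩ := LinearMap.BilinForm.exists_orthogonal_basis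
    (QuadraticForm.associated_isSymm ℚ (qf σ))
  have hrepr := QuadraticMap.basisRepr_eq_of_iIsOrtho (qf σ) v hv
  have hD : ∀ i, 0 < qf σ (v i) := fun i => by rw [qf_apply]; exact hpos _ (v.ne_zero i)
  have hQ : ∀ x, qf σ x = ∑ i, qf σ (v i) * (v.repr x i * v.repr x i) := by
    intro x
    conv_lhs => rw [← v.sum_repr x]
    rw [← QuadraticMap.basisRepr_apply, hrepr, QuadraticMap.weightedSumSquares_apply]
    simp [smul_eq_mul]
  refine ⟨(Module.finrank ℚ R : ℝ) * ∑ i, ‖f (v i)‖ ^ 2 / ((qf σ (v i) : ℚ) : ℝ), ?_, fun x => ?_⟩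
  · refine mul_nonneg (Nat.cast_nonneg _) (Finset.sum_nonneg fun i _ => ?_)
    have : (0 : ℝ) < ((qf σ (v i) : ℚ) : ℝ) := by exact_mod_cast hD i
    positivity
  have hfx : f x = ∑ i, ((v.repr x i : ℚ) : ℂ) * f (v i) := by
    conv_lhs => rw [← v.sum_repr x]
    rw [map_sum]
    refine Finset.sum_congr rfl fun i _ => ?_
    rw [map_smul, Rat.smul_def]
  have hQx : ((qf σ x : ℚ) : ℝ) = ∑ i, ((qf σ (v i) : ℚ) : ℝ) * (((v.repr x i : ℚ) : ℝ) * ((v.repr x i : ℚ) : ℝ)) := by
    rw [hQ x]; push_cast; rfl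
  have hterm : ∀ i, ((qf σ (v i) : ℚ) : ℝ) * (((v.repr x i : ℚ) : ℝ) * ((v.repr x i : ℚ) : ℝ)) ≤ ((qf σ x : ℚ) : ℝ) := by
    intro i
    rw [hQx]
    refine Finset.single_le_sum (f := fun i => ((qf σ (v i) : ℚ) : ℝ) * (((v.repr x i : ℚ) : ℝ) * ((v.repr x i : ℚ) : ℝ))) (fun j _ => ?_) (Finset.mem_univ i)
    have : (0 : ℝ) < ((qf σ (v j) : ℚ) : ℝ) := by exact_mod_cast hD j
    exact mul_nonneg this.le (mul_self_nonneg _)
  rw [← qf_apply]
  calc ‖f x‖ ^ 2 = ‖∑ i, ((v.repr x i : ℚ) : ℂ) * f (v i)‖ ^ 2 := by rw [hfx]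
    _ ≤ (∑ i, |((v.repr x i : ℚ) : ℝ)| * ‖f (v i)‖) ^ 2 := by
        gcongr
        refine (norm_sum_le _ _).trans (le_of_eq ?_)
        refine Finset.sum_congr rfl fun i _ => ?_
        rw [norm_mul]
        congr 1
        simp
    _ ≤ (Finset.univ : Finset (Fin (Module.finrank ℚ R))).card * ∑ i, (|((v.repr x i : ℚ) : ℝ)| * ‖f (v i)‖) ^ 2 :=
        sq_sum_le_card_mul_sum_sq
    _ ≤ (Module.finrank ℚ R : ℝ) * ∑ i, (‖f (v i)‖ ^ 2 / ((qf σ (v i) : ℚ) : ℝ)) * ((qf σ x : ℚ) : ℝ) := by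
        rw [Finset.card_univ, Fintype.card_fin]
        gcongr with i _
        have hDi : (0 : ℝ) < ((qf σ (v i) : ℚ) : ℝ) := by exact_mod_cast hD i
        have h1 := hterm i
        rw [mul_pow, sq_abs, div_mul_eq_mul_div, le_div_iff₀ hDi]
        calc ((v.repr x i : ℚ) : ℝ) ^ 2 * ‖f (v i)‖ ^ 2 * ((qf σ (v i) : ℚ) : ℝ)
            = ‖f (v i)‖ ^ 2 * (((qf σ (v i) : ℚ) : ℝ) * (((v.repr x i : ℚ) : ℝ) * ((v.repr x i : ℚ) : ℝ))) := by ring
          _ ≤ ‖f (v i)‖ ^ 2 * ((qf σ x : ℚ) : ℝ) := by gcongr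
    _ = (Module.finrank ℚ R : ℝ) * (∑ i, ‖f (v i)‖ ^ 2 / ((qf σ (v i) : ℚ) : ℝ)) * ((qf σ x : ℚ) : ℝ) := by
        rw [← Finset.sum_mul, mul_assoc]

lemma norm_sq_le [Nontrivial R] (hpos : ∀ x : R, x ≠ 0 → 0 < σ (x * star x))
    (γ : R) (r : ℚ) (hγ : γ * star γ = algebraMap ℚ R r) (hcomm : Commute γ (star γ))
    (f : R →ₗ[ℚ] ℂ) (μ : ℂ) (hμ : ∀ n : ℕ, f (γ ^ n) = μ ^ n) : ‖μ‖ ^ 2 ≤ (r : ℝ) := by
  obtain ⟨K, hK0, hK⟩ := exists_bound σ hpos f
  have hσ1 : 0 < σ 1 := by
    have := hpos 1 one_ne_zero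
    rwa [star_one, mul_one] at this
  have h1 : ∀ n : ℕ, σ (γ ^ n * star (γ ^ n)) = r ^ n * σ 1 := by
    intro n
    rw [star_pow, ← hcomm.mul_pow, hγ, ← map_pow, Algebra.algebraMap_eq_smul_one, map_smul, smul_eq_mul]
  have hr0 : 0 ≤ r := by
    have h2 : 0 ≤ σ (γ * star γ) := by
      by_cases hγ0 : γ = 0
      · simp [hγ0]
      · exact (hpos γ hγ0).le
    have h3 := h1 1
    simp only [pow_one] at h3
    rw [h3] at h2
    exact nonneg_of_mul_nonneg_left h2 hσ1
  have key : ∀ n : ℕ, (‖μ‖ ^ 2) ^ n ≤ K * ((σ 1 : ℚ) : ℝ) * (r : ℝ) ^ n := by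
    intro n
    have := hK (γ ^ n)
    rw [hμ n, h1 n, norm_pow] at this
    calc (‖μ‖ ^ 2) ^ n = (‖μ‖ ^ n) ^ 2 := by ring
      _ ≤ K * ((r ^ n * σ 1 : ℚ) : ℝ) := this
      _ = K * ((σ 1 : ℚ) : ℝ) * (r : ℝ) ^ n := by push_cast; ring
  by_contra hlt
  rw [not_le] at hlt
  rcases hr0.eq_or_lt with h0 | hrpos
  · have := key 1
    rw [← h0] at this hlt
    simp only [pow_one, Rat.cast_zero, mul_zero] at this hlt
    linarith
  · have hrpos' : (0 : ℝ) < (r : ℝ) := by exact_mod_cast hrpos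
    have ht : 1 < ‖μ‖ ^ 2 / (r : ℝ) := by rwa [one_lt_div hrpos']
    obtain ⟨n, hn⟩ := pow_unbounded_of_one_lt (K * ((σ 1 : ℚ) : ℝ)) ht
    have := key n
    rw [div_pow, lt_div_iff₀ (pow_pos hrpos' n)] at hn
    linarith

end Lemmas

/-- Let R be a finite-dimensional ℚ-algebra with a ℚ-linear involution x ↦ x† (an anti-automorphism of
order two) and a ℚ-linear functional σ with σ(x x†) > 0 for every x ≠ 0; this is the positivity of
the involution, σ being the trace of R over ℚ in the case of the endomorphism algebra of an abelian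
variety with a Rosati involution, and the trace on a cohomology group in the case of an algebra of
correspondences with the adjoint for a Weil form. Let α ∈ R with α α† = q for a rational number q.
Then α† lies in the subalgebra ℚ[α], and for every ℚ-algebra homomorphism ρ : ℚ[α] → ℂ one has ρ(α†)
= the complex conjugate of ρ(α) and |ρ(α)|² = q. (The published statement is for the endomorphism
algebra of an abelian variety with a Rosati involution, with σ its trace over ℚ and q an integer;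
the form given here, for an arbitrary ℚ-linear functional σ positive on every x x† with x ≠ 0 and
rational q, is what its proof establishes.) -/
theorem result (R : Type u) [Ring R] [Algebra ℚ R]
    [Module.Finite ℚ R] [StarRing R] [StarModule ℚ R]
    (σ : R →ₗ[ℚ] ℚ) (hpos : ∀ x : R, x ≠ 0 → 0 < σ (x * star x))
    (α : R) (q : ℚ) (hα : α * star α = algebraMap ℚ R q) :
    ∃ hmem : star α ∈ Algebra.adjoin ℚ ({α} : Set R),
      ∀ ρ : Algebra.adjoin ℚ ({α} : Set R) →ₐ[ℚ] ℂ,
        ρ ⟨star α, hmem⟩ = starRingEnd ℂ (ρ ⟨α, Algebra.self_mem_adjoin_singleton ℚ α⟩) ∧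
          ‖ρ ⟨α, Algebra.self_mem_adjoin_singleton ℚ α⟩‖ ^ 2 = (q : ℝ) := by
  classical
  by_cases hα0 : α = 0
  · have hmem : star α ∈ Algebra.adjoin ℚ ({α} : Set R) := by
      rw [hα0, star_zero]; exact zero_mem _
    refine ⟨hmem, fun ρ => ?_⟩
    have hnt : Nontrivial R := by
      by_contra hne
      rw [not_nontrivial_iff_subsingleton] at hne
      have h10 : (1 : Algebra.adjoin ℚ ({α} : Set R)) = 0 := Subtype.ext (Subsingleton.elim _ _)
      have h := congrArg ρ h10
      simp at h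
    have hq : q = 0 := by
      rw [hα0, zero_mul] at hα
      exact (map_eq_zero_iff _ (algebraMap ℚ R).injective).mp hα.symm
    have e1 : (⟨star α, hmem⟩ : Algebra.adjoin ℚ ({α} : Set R)) = 0 := Subtype.ext (by simp [hα0])
    have e2 : (⟨α, Algebra.self_mem_adjoin_singleton ℚ α⟩ : Algebra.adjoin ℚ ({α} : Set R)) = 0 :=
      Subtype.ext hα0
    rw [e1, e2, map_zero, map_zero, hq]
    simp
  · have hnt : Nontrivial R := ⟨⟨α, 0, hα0⟩⟩
    have hσ1 : 0 < σ 1 := by simpa using hpos 1 one_ne_zero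
    have hq : 0 < q := by
      have := hpos α hα0
      rw [hα, Algebra.algebraMap_eq_smul_one, map_smul, smul_eq_mul] at this
      exact (mul_pos_iff_of_pos_right hσ1).mp this
    set α' : R := q⁻¹ • star α with hα'
    have h1 : α * α' = 1 := by
      rw [hα', mul_smul_comm, hα, Algebra.algebraMap_eq_smul_one, smul_smul, inv_mul_cancel₀ hq.ne',
        one_smul]
    have hinj : Function.Injective (LinearMap.mulLeft ℚ α) := by
      rw [LinearMap.injective_iff_surjective]
      intro y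
      exact ⟨α' * y, by simp [← mul_assoc, h1]⟩
    have h2 : α' * α = 1 := by
      apply hinj
      simp [← mul_assoc, h1]
    set E := Algebra.adjoin ℚ ({α} : Set R) with hE
    set a : E := ⟨α, Algebra.self_mem_adjoin_singleton ℚ α⟩ with ha
    have hinjE : Function.Injective (LinearMap.mulLeft ℚ a) := by
      intro x y hxy
      have : α * (x : R) = α * (y : R) := congrArg Subtype.val hxy
      exact Subtype.ext (hinj this)
    have hsurjE : Function.Surjective (LinearMap.mulLeft ℚ a) :=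
      LinearMap.injective_iff_surjective.mp hinjE
    obtain ⟨b, hb⟩ := hsurjE 1
    have hb' : α * (b : R) = 1 := congrArg Subtype.val hb
    have hbα' : (b : R) = α' := by
      calc (b : R) = α' * α * b := by rw [h2, one_mul]
        _ = α' := by rw [mul_assoc, hb', mul_one]
    have hstar : star α = q • α' := by
      rw [hα', smul_smul, mul_inv_cancel₀ hq.ne', one_smul]
    have hmem : star α ∈ E := by
      rw [hstar, ← hbα']; exact E.smul_mem b.2 q
    refine ⟨hmem, fun ρ => ?_⟩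
    have e1 : (⟨star α, hmem⟩ : E) = q • b := Subtype.ext (by simp [hstar, hbα'])
    set lam := ρ a with hlam
    have hab : lam * ρ b = 1 := by
      rw [hlam, ← map_mul, show a * b = 1 from hb, map_one]
    have hlam0 : lam ≠ 0 := left_ne_zero_of_mul_eq_one hab
    have hρb : ρ b = lam⁻¹ := eq_inv_of_mul_eq_one_right hab
    obtain ⟨f, hf⟩ := LinearMap.exists_extend (p := Subalgebra.toSubmodule E) (ρ.toLinearMap)
    have hfE : ∀ x : E, f x = ρ x := fun x => LinearMap.congr_fun hf x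
    have hcommα : Commute α (star α) := by
      rw [hstar]
      exact Commute.smul_right (h1.trans h2.symm) q
    have hU := norm_sq_le σ hpos α q hα hcommα f lam (fun n => by
      rw [show α ^ n = ((a ^ n : E) : R) from rfl, hfE, map_pow])
    have hα'star : star α' = q⁻¹ • α := by
      rw [hα', star_smul, star_trivial, star_star]
    have hγ' : α' * star α' = algebraMap ℚ R q⁻¹ := by
      rw [hα'star, mul_smul_comm, h2, Algebra.algebraMap_eq_smul_one]
    have hcommα' : Commute α' (star α') := by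
      rw [hα'star]
      exact Commute.smul_right (h2.trans h1.symm) _
    have hL := norm_sq_le σ hpos α' q⁻¹ hγ' hcommα' f lam⁻¹ (fun n => by
      rw [← hbα', show (b : R) ^ n = ((b ^ n : E) : R) from rfl, hfE, map_pow, hρb])
    have hqR : (0 : ℝ) < (q : ℝ) := by exact_mod_cast hq
    have hnorm : ‖lam‖ ^ 2 = (q : ℝ) := by
      rw [norm_inv, inv_pow] at hL
      push_cast at hL
      have hl2 : 0 < ‖lam‖ ^ 2 := by positivity
      have := (inv_le_inv₀ hl2 hqR).mp hL
      linarith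
    refine ⟨?_, hnorm⟩
    rw [e1, map_smul, hρb]
    have hc : (starRingEnd ℂ) lam * lam = (q : ℂ) := by
      rw [Complex.conj_mul']
      exact_mod_cast congrArg (fun t : ℝ => (t : ℂ)) hnorm
    rw [Rat.smul_def, eq_comm, ← hc, mul_assoc, mul_inv_cancel₀ hlam0, mul_one]

end Groth.Agent.S19356
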