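import Mathlib
import Groth.Statements.S19358
import Groth.Agent.Lib.Helper97.FanSub
-- import your own Groth.Agent.* helpers here

set_option autoImplicit false
universe u
open CategoryTheory Opposite Instab
open Instab Instab.Fan

namespace Groth.Agent.S19358

open Groth.Agent.Lib.Helper97 in
/-- Let f : F ⟶ G be a map of formal fans. If f is injective on n-cones for every n, then the induced
continuous map of projective realizations P F → P G is injective; if f is surjective on n-cones for
every n, then P F → P G is surjective. -/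
theorem result {F G : Fan.{u}} (f : F ⟶ G) :
    ((∀ n : ICone, Function.Injective (f.app (op n))) → Function.Injective (Fan.P.map f)) ∧
    ((∀ n : ICone, Function.Surjective (f.app (op n))) → Function.Surjective (Fan.P.map f)) := by
  constructor
  · intro hinj x x' hxx'
    obtain ⟨n, ξ, v, rfl⟩ := FanLib.exists_mk x
    obtain ⟨n', ξ', v', rfl⟩ := FanLib.exists_mk x'
    rw [FanLib.map_mk, FanLib.map_mk] at hxx'
    obtain ⟨k, φ₁, φ₂, y, c₁, c₂, he, hc₁, hc₂, h₁, h₂⟩ :=
      FanLib.exists_common_subcone _ _ _ _ hxx'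
    rw [← FanLib.naturality_apply', ← FanLib.naturality_apply'] at he
    exact FanLib.mk_eq_mk_of_common_subcone ξ ξ' v v' k φ₁ φ₂ y c₁ c₂ (hinj k he) hc₁ hc₂ h₁ h₂
  · intro hsurj y
    obtain ⟨n, η, v, rfl⟩ := FanLib.exists_mk y
    obtain ⟨ξ, rfl⟩ := hsurj n η
    exact ⟨P.mk ξ v, FanLib.map_mk f ξ v⟩

end Groth.Agent.S19358
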