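import Groth.Statements.S19359
import Groth.Agent.Lib.Helper97.FanBdd

set_option autoImplicit false
universe u
open CategoryTheory Opposite Instab
open Instab Instab.Fan

namespace Groth.Agent.S19359

open Groth.Agent.Lib.Helper97

/-- The representable fan is bounded: it is covered by the simplex of the identity cone. -/
lemma isBounded_yoneda (n : ICone) : Fan.IsBounded (uliftYoneda.{u}.obj n) := by
  classical
  refine ⟨{⟨n, ULift.up (𝟙 n)⟩}, fun x => ?_⟩
  obtain ⟨k, ζ, v, rfl⟩ := FanLib.exists_mk x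
  refine ⟨⟨n, ULift.up (𝟙 n)⟩, Finset.mem_singleton_self _, FanLib.orthMap ζ.down v, ?_⟩
  rw [FanLib.mk_orthMap]
  congr 1

/-- Base change of a bounded fan to a quasi-separated fan along a cone. -/
lemma isBounded_pullback {F G : Fan.{u}} (hG : G.IsQuasiSeparated) (f : F ⟶ G) (hF : F.IsBounded)
    {n : ICone} (σ : G.obj (op n)) : Fan.IsBounded (Limits.pullback f (coneMap σ)) := by
  classical
  obtain ⟨s, hs⟩ := hF
  -- covers of the fibre products of cones
  have hcov : ∀ e : (Σ m : ICone, F.obj (op m)),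
      Fan.IsBounded (Limits.pullback (coneMap (f.app _ e.2)) (coneMap σ)) :=
    fun e => hG e.1 n (f.app _ e.2) σ
  choose t ht using hcov
  -- transport of the cones
  have hL : ∀ (e : (Σ m : ICone, F.obj (op m)))
      (e' : (Σ k : ICone, (Limits.pullback (coneMap (f.app _ e.2)) (coneMap σ)).obj (op k))),
      ∃ ζ : (Limits.pullback f (coneMap σ)).obj (op e'.1),
        FanLib.bcFst f σ ζ = F.map (FanLib.bcFst (coneMap (f.app _ e.2)) σ e'.2).down.op e.2 ∧
        FanLib.bcSnd f σ ζ = FanLib.bcSnd (coneMap (f.app _ e.2)) σ e'.2 := by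
    intro e e'
    obtain ⟨ζ, h1, h2⟩ := FanLib.exists_pullback_elt f (coneMap σ)
      (F.map (FanLib.bcFst (coneMap (f.app _ e.2)) σ e'.2).down.op e.2)
      (ULift.up (FanLib.bcSnd (coneMap (f.app _ e.2)) σ e'.2)) (by
        rw [FanLib.naturality_apply', FanLib.coneMap_app]
        exact FanLib.bc_cond_cone σ (f.app _ e.2) e'.2)
    exact ⟨ζ, h1, congrArg ULift.down h2⟩
  choose L hL1 hL2 using hL
  refine ⟨s.biUnion fun e => (t e).image fun e' => ⟨e'.1, L e e'⟩, fun x => ?_⟩
  obtain ⟨k₀, ζ, y, rfl⟩ := FanLib.exists_mk x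
  -- the image in `P F` lies in a cell of the cover
  obtain ⟨e, hes, u, hu⟩ := hs (Fan.P.mk (FanLib.bcFst f σ ζ) y)
  obtain ⟨k', θ', θ₀, y', c', c, he, hc', hc, hu', hy⟩ :=
    FanLib.exists_common_subcone e.2 (FanLib.bcFst f σ ζ) u y hu
  -- the corresponding cone of the fibre product of cones
  obtain ⟨ζi, hζi1, hζi2⟩ := FanLib.exists_pullback_elt (coneMap (f.app _ e.2)) (coneMap σ)
    (k := k') (ULift.up θ') (ULift.up (θ₀ ≫ FanLib.bcSnd f σ ζ)) (by
      rw [FanLib.coneMap_app, FanLib.coneMap_app, ← FanLib.naturality_apply', he,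
        FanLib.naturality_apply', FanLib.bc_cond, op_comp, G.map_comp_apply])
  obtain ⟨e', he't, y'', hy''⟩ := ht e (Fan.P.mk ζi y')
  obtain ⟨k₃, β, α, y₃, d', d, he3, hd', hd, hyy'', hyy'⟩ :=
    FanLib.exists_common_subcone e'.2 ζi y'' y' hy''
  refine ⟨⟨e'.1, L e e'⟩, Finset.mem_biUnion.2 ⟨e, hes, Finset.mem_image.2 ⟨e', he't, rfl⟩⟩,
    FanLib.orthMap β y₃, ?_⟩
  -- the two cones over `k₃` agree
  have hfst := congrArg (fun z => ((Limits.pullback.fst (coneMap (f.app _ e.2)) (coneMap σ)).app _ z).down) he3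
  have hsnd := congrArg (fun z => ((Limits.pullback.snd (coneMap (f.app _ e.2)) (coneMap σ)).app _ z).down) he3
  simp only at hfst hsnd
  rw [FanLib.naturality_apply', FanLib.naturality_apply', hζi1] at hfst
  rw [FanLib.naturality_apply', FanLib.naturality_apply', hζi2] at hsnd
  have hfst' : β ≫ (FanLib.bcFst (coneMap (f.app _ e.2)) σ e'.2).down = α ≫ θ' := hfst
  have hsnd' : β ≫ FanLib.bcSnd (coneMap (f.app _ e.2)) σ e'.2 = α ≫ θ₀ ≫ FanLib.bcSnd f σ ζ := hsnd
  have hkey : (Limits.pullback f (coneMap σ)).map β.op (L e e') =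
      (Limits.pullback f (coneMap σ)).map α.op ((Limits.pullback f (coneMap σ)).map θ₀.op ζ) := by
    apply FanLib.pullback_elt_ext
    · show FanLib.bcFst f σ _ = FanLib.bcFst f σ _
      rw [FanLib.bcFst_map, FanLib.bcFst_map, FanLib.bcFst_map, hL1, ← he,
        ← F.map_comp_apply, ← F.map_comp_apply, ← op_comp, ← op_comp, hfst']
    · apply ULift.ext
      show FanLib.bcSnd f σ _ = FanLib.bcSnd f σ _
      rw [FanLib.bcSnd_map, FanLib.bcSnd_map, FanLib.bcSnd_map, hL2, hsnd']
  rw [FanLib.mk_orthMap, hkey]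
  rw [FanLib.mk_map α _ y₃ y' d hd hyy', FanLib.mk_map θ₀ ζ y' y c hc hy]

/-- A formal fan G is quasi-separated (the fibre product of any two of its cones is a bounded fan) if
and only if, for every bounded formal fan F, every map of fans F ⟶ G is bounded (its base change
along each cone of G is a bounded fan). -/
theorem result (G : Fan.{u}) :
    G.IsQuasiSeparated ↔
      ∀ (F : Fan.{u}) (f : F ⟶ G), F.IsBounded → Fan.IsBoundedMap f := by
  constructor
  · intro hG F f hF n σ
    exact isBounded_pullback hG f hF σ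
  · intro h n₀ n₁ σ₀ σ₁
    exact h _ (coneMap σ₀) (isBounded_yoneda n₀) n₁ σ₁

end Groth.Agent.S19359
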