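import Groth.Statements.S19362
import Groth.Agent.Lib.Helper97.FanSub

set_option autoImplicit false
universe u
open CategoryTheory Opposite Instab
open Instab Instab.Fan

namespace Groth.Agent.S19362

open Groth.Agent.Lib.Helper97 in
/-- Let f : F ⟶ G be a map of formal fans. (1) The image of the induced map P F → P G is the image of
the projective realization of the image sub-fan of f. (2) For a map g : G' ⟶ G, the image of the
projective realization of the base change F ×_G G' ⟶ G' is the preimage, under P G' → P G, of the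
image of P F → P G. -/
theorem result {F G G' : Fan.{u}} (f : F ⟶ G) (g : G' ⟶ G) :
    Set.range (Fan.P.map f) = Set.range (Fan.P.map (Subfunctor.range f).ι) ∧
    Set.range (Fan.P.map (Limits.pullback.snd f g)) = Fan.P.map g ⁻¹' Set.range (Fan.P.map f) := by
  constructor
  · ext x
    rw [FanLib.mem_range_map_ι]
    constructor
    · rintro ⟨y, rfl⟩
      obtain ⟨n, ξ, v, rfl⟩ := FanLib.exists_mk y
      exact ⟨n, f.app _ ξ, v, ⟨ξ, rfl⟩, rfl⟩
    · rintro ⟨n, ξ, v, ⟨ξ₀, rfl⟩, rfl⟩
      exact ⟨Fan.P.mk ξ₀ v, rfl⟩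
  · ext y
    constructor
    · rintro ⟨z, rfl⟩
      refine ⟨Fan.P.map (Limits.pullback.fst f g) z, ?_⟩
      rw [← FanLib.map_comp, ← FanLib.map_comp, Limits.pullback.condition]
    · rintro ⟨x, hx⟩
      obtain ⟨n, ξ, v, rfl⟩ := FanLib.exists_mk x
      obtain ⟨m, η, w, rfl⟩ := FanLib.exists_mk y
      rw [FanLib.map_mk, FanLib.map_mk] at hx
      obtain ⟨k, φ₁, φ₂, y₀, c₁, c₂, he, hc₁, hc₂, h₁, h₂⟩ :=
        FanLib.exists_common_subcone _ _ v w hx
      rw [← FanLib.naturality_apply', ← FanLib.naturality_apply'] at he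
      obtain ⟨z, hz1, hz2⟩ := FanLib.exists_pullback_elt f g _ _ he
      refine ⟨Fan.P.mk z y₀, ?_⟩
      rw [FanLib.map_mk, hz2]
      exact FanLib.mk_map φ₂ η y₀ w c₂ hc₂ h₂

end Groth.Agent.S19362
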