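import Groth.Statements.S19363
import Groth.Agent.Lib.Helper97.FanBdd

set_option autoImplicit false
universe u
open CategoryTheory Opposite Instab
open Instab Instab.Fan

namespace Groth.Agent.S19363

open Groth.Agent.Lib.Helper97 in
/-- Let ψ : F ⟶ G be a bounded map of formal fans. Then the induced map P F → P G is a closed map whose
fibres are finite, and its image meets each rational simplex of P G in a finite union of closed
rational sub-simplices: for every n-cone ξ of G there are finitely many cone morphisms φ into [n]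
such that a nonzero nonnegative vector v of ℝ^n gives a point of the image exactly when v is a
positive multiple of φ y for one of these φ and some nonzero nonnegative y. -/
theorem result {F G : Fan.{u}} (ψ : F ⟶ G)
    (hψ : Fan.IsBoundedMap ψ) :
    IsClosedMap (Fan.P.map ψ) ∧ (∀ y : Fan.P G, (Fan.P.map ψ ⁻¹' {y}).Finite) ∧
    ∀ (n : ICone) (ξ : G.obj (op n)), ∃ s : Finset (Σ k : ICone, k ⟶ n),
      {v : Fan.Orth n | Fan.P.mk ξ v ∈ Set.range (Fan.P.map ψ)} =
        ⋃ e ∈ s, {v : Fan.Orth n | ∃ (y : Fan.Orth e.1) (c : ℝ), 0 < c ∧ v.1 = c • e.2.realMap y.1} := by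
  classical
  refine ⟨?_, ?_, ?_⟩
  · intro Z hZ
    rw [FanLib.isClosed_iff_cells]
    intro n ξ
    obtain ⟨t, ht⟩ := hψ n ξ
    rw [FanLib.image_cell_eq ψ ξ t ht Z]
    refine Set.Finite.isClosed_biUnion t.finite_toSet fun e _ => ?_
    refine FanLib.isClosed_subcone _ _ (hZ.preimage (FanLib.continuous_mk _)) ?_
    intro y y' hy c hc hyy'
    simp only [Set.mem_ofPred_eq] at hy ⊢
    rwa [← FanLib.mk_smul _ y y' c hc hyy']
  · intro y
    obtain ⟨n, ξ, v, rfl⟩ := FanLib.exists_mk y
    obtain ⟨t, ht⟩ := hψ n ξ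
    exact FanLib.finite_fibre ψ ξ t ht v
  · intro n ξ
    obtain ⟨t, ht⟩ := hψ n ξ
    refine ⟨t.image fun e => ⟨e.1, FanLib.bcSnd ψ ξ e.2⟩, ?_⟩
    have h := FanLib.image_cell_eq ψ ξ t ht Set.univ
    rw [Set.image_univ] at h
    rw [h]
    ext v
    simp only [Set.mem_iUnion, Set.mem_ofPred_eq, Set.mem_univ, true_and, exists_prop,
      Finset.mem_image]
    constructor
    · rintro ⟨e, het, y, c, hc, hv⟩
      exact ⟨_, ⟨e, het, rfl⟩, y, c, hc, hv⟩
    · rintro ⟨_, ⟨e, het, rfl⟩, y, c, hc, hv⟩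
      exact ⟨e, het, y, c, hc, hv⟩

end Groth.Agent.S19363
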