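import Groth.Statements.S19364
import Groth.Agent.Lib.Helper97.FanBdd
import Groth.Agent.S19363

set_option autoImplicit false
universe u
open CategoryTheory Opposite Instab
open Instab Instab.Fan

namespace Groth.Agent.S19364

open Groth.Agent.Lib.Helper97 in
/-- Let ψ : F ⟶ G be a bounded map of formal fans. Then the induced map P F → P G is surjective if and
only if every rational point of P G lies in its image. (The published lemma also claims that such a
map is injective as soon as it is injective on rational points; that fails, since two copies of the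
standard 2-cone glued to each other along all their rational rays map to the standard 2-cone by a
bounded map that is bijective on rational points and two-to-one elsewhere, and it is not stated
here.) -/
theorem result {F G : Fan.{u}} (ψ : F ⟶ G)
    (hψ : Fan.IsBoundedMap ψ) :
    Function.Surjective (Fan.P.map ψ) ↔
      ∀ y : Fan.P G, y.IsRational → y ∈ Set.range (Fan.P.map ψ) := by
  constructor
  · intro hsurj y _
    exact hsurj y
  · intro hrat y
    obtain ⟨n, ξ, v, rfl⟩ := FanLib.exists_mk y
    have hcl : IsClosed (Set.range (Fan.P.map ψ)) := by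
      rw [← Set.image_univ]
      exact (Groth.Agent.S19363.result ψ hψ).1 _ isClosed_univ
    let T : Set (Fan.Orth n) := {v | Fan.P.mk ξ v ∈ Set.range (Fan.P.map ψ)}
    have hT : IsClosed T := hcl.preimage (FanLib.continuous_mk ξ)
    by_contra hv
    have hmem : v ∈ Tᶜ := hv
    have hsc : ∀ u u' : Fan.Orth n, u ∈ Tᶜ → ∀ c : ℝ, 0 < c → u'.1 = c • u.1 → u' ∈ Tᶜ := by
      intro u u' hu c hc huu' hu'
      apply hu
      show Fan.P.mk ξ u ∈ Set.range (Fan.P.map ψ)
      rw [FanLib.mk_smul ξ u u' c hc huu']
      exact hu'
    obtain ⟨N, hN, hNT⟩ := FanLib.exists_natVec_mem Tᶜ hT.isOpen_compl hsc v hmem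
    exact hNT (hrat _ (FanLib.isRational_mk_natOrth ξ N hN))

end Groth.Agent.S19364
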