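import Groth.Statements.S19365
import Groth.Agent.Lib.Helper97.FanBdd
import Groth.Agent.S19363

set_option autoImplicit false
universe u
open CategoryTheory Opposite Instab
open Instab Instab.Fan

namespace Groth.Agent.S19365

open Groth.Agent.Lib.Helper97 in
/-- Let F ⟶ G be a map of formal fans which is bounded and injective on n-cones for every n (a bounded
sub-fan). Then the induced map P F → P G is a closed embedding. (The description of its preimage
under a rational simplex as a finite union of rational sub-simplices is the corresponding assertion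
for bounded maps and is not repeated here.) -/
theorem result {F G : Fan.{u}} (ψ : F ⟶ G)
    (hψ : Fan.IsBoundedMap ψ) (hinj : ∀ n : ICone, Function.Injective (ψ.app (op n))) :
    Topology.IsClosedEmbedding (Fan.P.map ψ) := by
  refine Topology.IsClosedEmbedding.of_continuous_injective_isClosedMap
    (FanLib.continuous_map ψ) ?_ (Groth.Agent.S19363.result ψ hψ).1
  intro x y hxy
  obtain ⟨n, ξ, v, rfl⟩ := FanLib.exists_mk x
  obtain ⟨m, η, w, rfl⟩ := FanLib.exists_mk y
  rw [FanLib.map_mk, FanLib.map_mk] at hxy
  obtain ⟨k, φ₁, φ₂, y₀, c₁, c₂, he, hc₁, hc₂, h₁, h₂⟩ :=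
    FanLib.exists_common_subcone _ _ v w hxy
  rw [← FanLib.naturality_apply', ← FanLib.naturality_apply'] at he
  exact FanLib.mk_eq_mk_of_common_subcone ξ η v w k φ₁ φ₂ y₀ c₁ c₂ (hinj k he) hc₁ hc₂ h₁ h₂

end Groth.Agent.S19365
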