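import Groth.Statements.S19373
import Groth.Agent.Lib.Helper97.FanSub

set_option autoImplicit false
universe u
open CategoryTheory Opposite Instab
open Instab Instab.Fan

namespace Groth.Agent.S19373

open Groth.Agent.Lib.Helper97 in
/-- Let G be a quasi-separated formal fan, ξ an n-cone and ξ' an n'-cone of G. The pairs of points of
the rational simplices of ξ and ξ' with the same image in P G form a finite union of diagonally
embedded common rational sub-simplices: there is a finite set of pairs of cone morphisms φ : [k] ⟶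
[n], φ' : [k] ⟶ [n'] with G(φ) ξ = G(φ') ξ' such that nonzero nonnegative vectors v of ℝ^n and w of
ℝ^n' give the same point of P G if and only if, for one of these pairs and some nonzero nonnegative
y in ℝ^k, v is a positive multiple of φ y and w is a positive multiple of φ' y. (The assertion that
the image of finitely many rational simplices carries the quotient topology is not stated.) -/
theorem result (G : Fan.{u}) (hG : G.IsQuasiSeparated)
    {n n' : ICone} (ξ : G.obj (op n)) (ξ' : G.obj (op n')) :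
    ∃ s : Finset (Σ k : ICone, (k ⟶ n) × (k ⟶ n')),
      (∀ e ∈ s, G.map e.2.1.op ξ = G.map e.2.2.op ξ') ∧
      ∀ (v : Fan.Orth n) (w : Fan.Orth n'), Fan.P.mk ξ v = Fan.P.mk ξ' w ↔
        ∃ e ∈ s, ∃ (y : Fan.Orth e.1) (c c' : ℝ), 0 < c ∧ 0 < c' ∧
          v.1 = c • e.2.1.realMap y.1 ∧ w.1 = c' • e.2.2.realMap y.1 := by
  classical
  set H : Fan.{u} := Limits.pullback (coneMap ξ) (coneMap ξ') with hH
  obtain ⟨t, ht⟩ : H.IsBounded := hG n n' ξ ξ'
  let proj : (Σ k : ICone, H.obj (op k)) → (Σ k : ICone, (k ⟶ n) × (k ⟶ n')) := fun e =>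
    ⟨e.1, (((Limits.pullback.fst (coneMap ξ) (coneMap ξ')).app _ e.2).down,
      ((Limits.pullback.snd (coneMap ξ) (coneMap ξ')).app _ e.2).down)⟩
  have hcond : ∀ (k : ICone) (ζ : H.obj (op k)),
      G.map ((Limits.pullback.fst (coneMap ξ) (coneMap ξ')).app _ ζ).down.op ξ =
        G.map ((Limits.pullback.snd (coneMap ξ) (coneMap ξ')).app _ ζ).down.op ξ' := by
    intro k ζ
    have h1 := congrArg (fun α => α.app (op k) ζ)
      (Limits.pullback.condition (f := coneMap ξ) (g := coneMap ξ'))
    simp only [NatTrans.comp_app] at h1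
    rw [← FanLib.coneMap_app, ← FanLib.coneMap_app]
    exact h1
  refine ⟨t.image proj, ?_, ?_⟩
  · intro e he
    obtain ⟨e₀, -, rfl⟩ := Finset.mem_image.1 he
    exact hcond e₀.1 e₀.2
  · intro v w
    constructor
    · intro hvw
      obtain ⟨k₀, φ₀, φ₀', y₀, c, c', he, hc, hc', hv, hw⟩ :=
        FanLib.exists_common_subcone ξ ξ' v w hvw
      -- the corresponding cone of the fibre product
      obtain ⟨ζ₀, hζ1, hζ2⟩ := FanLib.exists_pullback_elt (coneMap ξ) (coneMap ξ')
        (k := k₀) (ULift.up φ₀) (ULift.up φ₀') (by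
          rw [FanLib.coneMap_app, FanLib.coneMap_app]; exact he)
      obtain ⟨e, het, y₁, hy₁⟩ := ht (Fan.P.mk ζ₀ y₀)
      obtain ⟨k₂, ψ, ψ₀, y₂, d, d₀, he2, hd, hd₀, hy1, hy0⟩ :=
        FanLib.exists_common_subcone e.2 ζ₀ y₁ y₀ hy₁
      refine ⟨proj e, Finset.mem_image_of_mem _ het, y₁, c * d₀ / d, c' * d₀ / d,
        div_pos (mul_pos hc hd₀) hd, div_pos (mul_pos hc' hd₀) hd, ?_, ?_⟩
      · -- first projection
        have h1 := congrArg (fun z => ((Limits.pullback.fst (coneMap ξ) (coneMap ξ')).app _ z).down) he2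
        simp only at h1
        rw [FanLib.naturality_apply', FanLib.naturality_apply', hζ1] at h1
        have h2 : ψ ≫ (proj e).2.1 = ψ₀ ≫ φ₀ := h1
        have hL : v.1 = (c * d₀) • (ψ₀ ≫ φ₀).realMap y₂.1 := by
          rw [hv, hy0, FanLib.realMap_smul, smul_smul, FanLib.realMap_comp]
        have hR : (c * d₀ / d) • (proj e).2.1.realMap y₁.1 =
            (c * d₀) • (ψ ≫ (proj e).2.1).realMap y₂.1 := by
          rw [hy1, FanLib.realMap_smul, smul_smul, FanLib.realMap_comp]
          congr 1
          field_simp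
        rw [hL, hR, h2]
      · have h1 := congrArg (fun z => ((Limits.pullback.snd (coneMap ξ) (coneMap ξ')).app _ z).down) he2
        simp only at h1
        rw [FanLib.naturality_apply', FanLib.naturality_apply', hζ2] at h1
        have h2 : ψ ≫ (proj e).2.2 = ψ₀ ≫ φ₀' := h1
        have hL : w.1 = (c' * d₀) • (ψ₀ ≫ φ₀').realMap y₂.1 := by
          rw [hw, hy0, FanLib.realMap_smul, smul_smul, FanLib.realMap_comp]
        have hR : (c' * d₀ / d) • (proj e).2.2.realMap y₁.1 =
            (c' * d₀) • (ψ ≫ (proj e).2.2).realMap y₂.1 := by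
          rw [hy1, FanLib.realMap_smul, smul_smul, FanLib.realMap_comp]
          congr 1
          field_simp
        rw [hL, hR, h2]
    · rintro ⟨e, he, y, c, c', hc, hc', hv, hw⟩
      obtain ⟨e₀, -, rfl⟩ := Finset.mem_image.1 he
      exact FanLib.mk_eq_mk_of_common_subcone ξ ξ' v w _ _ _ y c c' (hcond e₀.1 e₀.2) hc hc' hv hw

end Groth.Agent.S19373
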