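import Groth.Statements.S19366
import Groth.Agent.Lib.Helper97.FanTop
import Groth.Agent.S19373

set_option autoImplicit false
universe u
open CategoryTheory Opposite Instab
open Instab Instab.Fan

namespace Groth.Agent.S19366

open Groth.Agent.Lib.Helper97 in
/-- Let F be a quasi-separated formal fan (the fibre product of any two cones over F is a fan covered by
finitely many rational simplices). Then (1) each rational simplex is a closed map into P F: for
every n-cone ξ and every closed set S of nonzero nonnegative vectors of ℝ^n that is closed under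
positive rescaling, the image of S in P F is closed; and (2) the topology of P F is compactly
generated by the images of the rational simplices: a subset is closed exactly when it meets the
image of each rational simplex in a closed set. (The published proposition also asserts that P F is
a Hausdorff space; that fails for suitable quasi-separated fans with uncountably many cones, the
colimit topology on a product of realizations being finer than the product topology, and it is not
stated here.) -/
theorem result (F : Fan.{u}) (hF : F.IsQuasiSeparated) :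
    (∀ (n : ICone) (ξ : F.obj (op n)) (S : Set (Fan.Orth n)), IsClosed S →
      (∀ v w : Fan.Orth n, v ∈ S → ∀ c : ℝ, 0 < c → w.1 = c • v.1 → w ∈ S) →
        IsClosed (Fan.P.mk ξ '' S)) ∧
    ∀ S : Set (Fan.P F), IsClosed S ↔ ∀ (n : ICone) (ξ : F.obj (op n)), IsClosed (S ∩ Fan.P.cell ξ) := by
  classical
  have h1 : ∀ (n : ICone) (ξ : F.obj (op n)) (S : Set (Fan.Orth n)), IsClosed S →
      (∀ v w : Fan.Orth n, v ∈ S → ∀ c : ℝ, 0 < c → w.1 = c • v.1 → w ∈ S) →
        IsClosed (Fan.P.mk ξ '' S) := by
    intro n ξ S hS hsc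
    rw [FanLib.isClosed_iff_cells]
    intro m η
    obtain ⟨s, hs1, hs2⟩ := Groth.Agent.S19373.result F hF η ξ
    have : {w : Fan.Orth m | Fan.P.mk η w ∈ Fan.P.mk ξ '' S} =
        ⋃ e ∈ s, {w : Fan.Orth m | ∃ y ∈ {y : Fan.Orth e.1 | FanLib.orthMap e.2.2 y ∈ S},
          ∃ c : ℝ, 0 < c ∧ w.1 = c • e.2.1.realMap y.1} := by
      ext w
      simp only [Set.mem_ofPred_eq, Set.mem_iUnion, exists_prop, Set.mem_image]
      constructor
      · rintro ⟨v, hvS, hvw⟩
        obtain ⟨e, he, y, c, c', hc, hc', hw, hv⟩ := (hs2 w v).1 hvw.symm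
        refine ⟨e, he, y, ?_, c, hc, hw⟩
        refine hsc v _ hvS (1 / c') (by positivity) ?_
        show e.2.2.realMap y.1 = (1 / c') • v.1
        rw [hv, smul_smul, one_div, inv_mul_cancel₀ hc'.ne', one_smul]
      · rintro ⟨e, he, y, hy, c, hc, hw⟩
        refine ⟨FanLib.orthMap e.2.2 y, hy, ?_⟩
        exact ((hs2 w (FanLib.orthMap e.2.2 y)).2 ⟨e, he, y, c, 1, hc, one_pos, hw, by
          simp [FanLib.orthMap]⟩).symm
    rw [this]
    refine Set.Finite.isClosed_biUnion s.finite_toSet fun e _ => ?_
    refine FanLib.isClosed_subcone _ _ (hS.preimage (FanLib.continuous_orthMap _)) ?_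
    intro y y' hy c hc hyy'
    simp only [Set.mem_ofPred_eq] at hy ⊢
    refine hsc _ _ hy c hc ?_
    show e.2.2.realMap y'.1 = c • e.2.2.realMap y.1
    rw [hyy', FanLib.realMap_smul]
  refine ⟨h1, fun S => ⟨fun hS n ξ => ?_, fun h => ?_⟩⟩
  · have hcell : IsClosed (Fan.P.cell ξ) := by
      have := h1 n ξ Set.univ isClosed_univ (fun _ _ _ _ _ _ => Set.mem_univ _)
      rwa [Set.image_univ] at this
    exact hS.inter hcell
  · rw [FanLib.isClosed_iff_cells]
    intro n ξ
    have : {v : Fan.Orth n | Fan.P.mk ξ v ∈ S} = Fan.P.mk ξ ⁻¹' (S ∩ Fan.P.cell ξ) := by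
      ext v
      simp only [Set.mem_ofPred_eq, Set.mem_preimage, Set.mem_inter_iff]
      exact ⟨fun hv => ⟨hv, ⟨v, rfl⟩⟩, fun hv => hv.1⟩
    rw [this]
    exact (h n ξ).preimage (FanLib.continuous_mk ξ)

end Groth.Agent.S19366
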