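import Groth.Statements.S19367
import Groth.Agent.Lib.Helper97.FanTop
import Groth.Agent.S19373

set_option autoImplicit false
universe u
open CategoryTheory Opposite Instab
open Instab Instab.Fan

namespace Groth.Agent.S19367

open Groth.Agent.Lib.Helper97 in
/-- Let ψ : F ⟶ G be a map of formal fans with F quasi-separated. Then injectivity of the induced map P
F → P G is equivalent to its injectivity on the rational points of P F. -/
theorem result {F G : Fan.{u}} (ψ : F ⟶ G)
    (hF : F.IsQuasiSeparated) :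
    Function.Injective (Fan.P.map ψ) ↔
      ∀ x y : Fan.P F, x.IsRational → y.IsRational → Fan.P.map ψ x = Fan.P.map ψ y → x = y := by
  classical
  constructor
  · intro hinj x y _ _ hxy
    exact hinj hxy
  · intro hrat x y hxy
    obtain ⟨n, ξ, v, rfl⟩ := FanLib.exists_mk x
    obtain ⟨m, η, w, rfl⟩ := FanLib.exists_mk y
    rw [FanLib.map_mk, FanLib.map_mk] at hxy
    obtain ⟨k, φ₁, φ₂, y₀, c₁, c₂, he, hc₁, hc₂, h₁, h₂⟩ :=
      FanLib.exists_common_subcone _ _ v w hxy
    rw [← FanLib.naturality_apply', ← FanLib.naturality_apply'] at he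
    rw [← FanLib.mk_map φ₁ ξ y₀ v c₁ hc₁ h₁, ← FanLib.mk_map φ₂ η y₀ w c₂ hc₂ h₂]
    set ξ' := F.map φ₁.op ξ with hξ'
    set η' := F.map φ₂.op η with hη'
    -- the coincidence locus of the two simplices
    obtain ⟨s, hs1, hs2⟩ := Groth.Agent.S19373.result F hF ξ' η'
    let B : Set (Fan.Orth k) := {u | Fan.P.mk ξ' u = Fan.P.mk η' u}
    have hBeq : B = ⋃ e ∈ s, {u : Fan.Orth k | ∃ (y : Fan.Orth e.1) (c c' : ℝ), 0 < c ∧ 0 < c' ∧
        u.1 = c • e.2.1.realMap y.1 ∧ u.1 = c' • e.2.2.realMap y.1} := by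
      ext u
      simp only [B, Set.mem_ofPred_eq, Set.mem_iUnion, exists_prop]
      exact hs2 u u
    have hBcl : IsClosed B := by
      rw [hBeq]
      exact Set.Finite.isClosed_biUnion s.finite_toSet fun e _ =>
        FanLib.isClosed_coincidence e.2.1 e.2.2
    by_contra hne
    have hmem : y₀ ∈ Bᶜ := hne
    have hsc : ∀ u u' : Fan.Orth k, u ∈ Bᶜ → ∀ c : ℝ, 0 < c → u'.1 = c • u.1 → u' ∈ Bᶜ := by
      intro u u' hu c hc huu' hu'
      apply hu
      show Fan.P.mk ξ' u = Fan.P.mk η' u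
      rw [FanLib.mk_smul ξ' u u' c hc huu', FanLib.mk_smul η' u u' c hc huu']
      exact hu'
    obtain ⟨N, hN, hNB⟩ := FanLib.exists_natVec_mem Bᶜ hBcl.isOpen_compl hsc y₀ hmem
    apply hNB
    show Fan.P.mk ξ' (FanLib.natOrth N hN) = Fan.P.mk η' (FanLib.natOrth N hN)
    apply hrat _ _ (FanLib.isRational_mk_natOrth ξ' N hN) (FanLib.isRational_mk_natOrth η' N hN)
    rw [FanLib.map_mk, FanLib.map_mk, he]

end Groth.Agent.S19367
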