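import Groth.Statements.S19368
import Groth.Agent.Lib.Helper97.FanSub

set_option autoImplicit false
universe u
open CategoryTheory Opposite Instab
open Instab Instab.Fan

namespace Groth.Agent.S19368

open Groth.Agent.Lib.Helper97 in
/-- Let F be a formal fan; a subset of P F is realizable when it is the image of the projective
realization of some sub-fan of F. The intersection of two realizable subsets is realizable, and the
union of an arbitrary family of realizable subsets is realizable. -/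
theorem result (F : Fan.{u}) :
    (∀ U V : Set (Fan.P F), Fan.IsRealizable U → Fan.IsRealizable V → Fan.IsRealizable (U ∩ V)) ∧
    ∀ (ι : Type u) (U : ι → Set (Fan.P F)), (∀ i, Fan.IsRealizable (U i)) →
      Fan.IsRealizable (Set.iUnion U) := by
  constructor
  · rintro U V ⟨S, rfl⟩ ⟨T, rfl⟩
    refine ⟨S ⊓ T, ?_⟩
    ext x
    simp only [Set.mem_inter_iff, FanLib.mem_range_map_ι, Subfunctor.min_obj]
    constructor
    · rintro ⟨⟨n, ξ, v, hξ, rfl⟩, ⟨m, η, w, hη, h⟩⟩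
      obtain ⟨k, φ₁, φ₂, y, c₁, c₂, he, hc₁, hc₂, h₁, h₂⟩ :=
        FanLib.exists_common_subcone ξ η v w h
      refine ⟨k, F.map φ₁.op ξ, y, ⟨S.map φ₁.op hξ, ?_⟩, ?_⟩
      · rw [he]; exact T.map φ₂.op hη
      · exact (FanLib.mk_map φ₁ ξ y v c₁ hc₁ h₁).symm
    · rintro ⟨n, ξ, v, ⟨hξS, hξT⟩, rfl⟩
      exact ⟨⟨n, ξ, v, hξS, rfl⟩, ⟨n, ξ, v, hξT, rfl⟩⟩
  · intro ι U hU
    choose S hS using hU
    refine ⟨⨆ i, S i, ?_⟩
    ext x
    simp only [Set.mem_iUnion, FanLib.mem_range_map_ι, Subfunctor.iSup_obj, hS]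
    constructor
    · rintro ⟨i, n, ξ, v, hξ, rfl⟩
      exact ⟨n, ξ, v, ⟨i, hξ⟩, rfl⟩
    · rintro ⟨n, ξ, v, ⟨i, hξ⟩, rfl⟩
      exact ⟨i, n, ξ, v, hξ, rfl⟩

end Groth.Agent.S19368
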