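import Groth.Statements.S19369
import Groth.Agent.Lib.Helper97.FanTop
import Groth.Agent.S19366

set_option autoImplicit false
universe u
open CategoryTheory Opposite Instab
open Instab Instab.Fan

namespace Groth.Agent.S19369

open Groth.Agent.Lib.Helper97 in
/-- Let F be a quasi-separated formal fan and let (x i) be a sequence in P F converging to a point x.
Then there are an n-cone σ of F and a subsequence of (x i) whose terms lift to nonzero nonnegative
vectors of ℝ^n, mapping to them under the rational simplex of σ, such that the lifts converge to a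
vector that lifts x. -/
theorem result (F : Fan.{u}) (hF : F.IsQuasiSeparated)
    (x : ℕ → Fan.P F) (x₀ : Fan.P F) (hx : Filter.Tendsto x Filter.atTop (nhds x₀)) :
    ∃ (n : ICone) (σ : F.obj (op n)) (r : ℕ → ℕ) (v : ℕ → Fan.Orth n) (v₀ : Fan.Orth n),
      StrictMono r ∧ (∀ j, Fan.P.mk σ (v j) = x (r j)) ∧ Fan.P.mk σ v₀ = x₀ ∧
        Filter.Tendsto v Filter.atTop (nhds v₀) := by
  classical
  have hcl := (Groth.Agent.S19366.result F hF).1
  by_cases hfreq : ∃ᶠ i in Filter.atTop, x i = x₀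
  · obtain ⟨r, hr, hrx⟩ := Filter.extraction_of_frequently_atTop hfreq
    obtain ⟨n, σ, u₀, rfl⟩ := FanLib.exists_mk x₀
    exact ⟨n, σ, r, fun _ => u₀, u₀, hr, fun j => (hrx j).symm, rfl, tendsto_const_nhds⟩
  · rw [Filter.not_frequently] at hfreq
    obtain ⟨I₀, hI₀⟩ := Filter.eventually_atTop.1 hfreq
    let W : Set (Fan.P F) := x '' Set.Ici I₀
    have hx₀W : x₀ ∉ W := by
      rintro ⟨i, hi, hxi⟩
      exact hI₀ i hi hxi
    have hWncl : ¬ IsClosed W := by
      intro hW
      have h1 : ∀ᶠ i in Filter.atTop, x i ∈ Wᶜ := hx (hW.isOpen_compl.mem_nhds hx₀W)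
      obtain ⟨i, hi⟩ := (h1.and (Filter.eventually_ge_atTop I₀)).exists
      exact hi.1 ⟨i, hi.2, rfl⟩
    rw [FanLib.isClosed_iff_cells] at hWncl
    push Not at hWncl
    obtain ⟨n, ξ, hA⟩ := hWncl
    -- closedness of the fibres of the simplex map
    have hpt : ∀ k : Fan.Orth n, IsClosed {v : Fan.Orth n | Fan.P.mk ξ v = Fan.P.mk ξ k} := by
      intro k
      have h1 := hcl n ξ _ (FanLib.isClosed_coneOver {k} isCompact_singleton) (by
        rintro v w ⟨k', hk', c', hc', hv⟩ c hc hw
        exact ⟨k', hk', c * c', mul_pos hc hc', by rw [hw, hv, smul_smul]⟩)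
      have h2 := h1.preimage (FanLib.continuous_mk ξ)
      convert h2 using 1
      ext v
      simp only [Set.mem_ofPred_eq, Set.mem_preimage, Set.mem_image, Set.mem_singleton_iff,
        exists_eq_left]
      constructor
      · intro hv
        exact ⟨k, ⟨1, one_pos, by rw [one_smul]⟩, hv.symm⟩
      · rintro ⟨w, ⟨c, hc, hw⟩, hwv⟩
        rw [← hwv]
        exact (FanLib.mk_smul ξ k w c hc hw).symm
    have : FirstCountableTopology (Fan.Orth n) :=
      inferInstanceAs (FirstCountableTopology {v : Fin n.dim → ℝ // (∀ i, 0 ≤ v i) ∧ v ≠ 0})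
    have hseq : ¬ IsSeqClosed {v : Fan.Orth n | Fan.P.mk ξ v ∈ W} := fun h => hA h.isClosed
    unfold IsSeqClosed at hseq
    push Not at hseq
    obtain ⟨a, a', haA, hlim, ha'⟩ := hseq
    choose idx hidx1 hidx2 using haA
    -- each index occurs finitely often
    have hfin : ∀ i, {l | idx l = i}.Finite := by
      intro i
      by_contra hinf
      have hfr : ∃ᶠ l in Filter.atTop, idx l = i := Nat.frequently_atTop_iff_infinite.2 hinf
      obtain ⟨l₁, hl₁⟩ := hfr.exists
      have hfr' : ∃ᶠ l in Filter.atTop, a l ∈ {v : Fan.Orth n | Fan.P.mk ξ v = Fan.P.mk ξ (a l₁)} := by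
        refine hfr.mono fun l hl => ?_
        show Fan.P.mk ξ (a l) = Fan.P.mk ξ (a l₁)
        rw [← hidx2 l, ← hidx2 l₁, hl, hl₁]
      have hmem := (hpt (a l₁)).mem_of_frequently_of_tendsto hfr' hlim
      apply ha'
      show Fan.P.mk ξ a' ∈ W
      rw [show Fan.P.mk ξ a' = Fan.P.mk ξ (a l₁) from hmem, ← hidx2 l₁]
      exact ⟨idx l₁, hidx1 l₁, rfl⟩
    have htend : Filter.Tendsto idx Filter.atTop Filter.atTop := by
      rw [Filter.tendsto_atTop]
      intro B
      have hfinB : {l | idx l < B}.Finite := by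
        have : {l | idx l < B} ⊆ ⋃ i ∈ Finset.range B, {l | idx l = i} := by
          intro l hl
          simp only [Set.mem_iUnion, Finset.mem_range, Set.mem_ofPred_eq, exists_prop]
          exact ⟨idx l, hl, rfl⟩
        exact Set.Finite.subset (Set.Finite.biUnion (Finset.range B).finite_toSet
          fun i _ => hfin i) this
      have := hfinB.eventually_cofinite_notMem
      rw [Nat.cofinite_eq_atTop] at this
      exact this.mono fun l hl => not_lt.1 hl
    obtain ⟨φ, hφ, hφidx⟩ := Filter.strictMono_subseq_of_tendsto_atTop htend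
    have hlim' : Filter.Tendsto (a ∘ φ) Filter.atTop (nhds a') := hlim.comp hφ.tendsto_atTop
    refine ⟨n, ξ, idx ∘ φ, a ∘ φ, a', hφidx, fun j => (hidx2 (φ j)).symm, ?_, hlim'⟩
    -- the limit of the lifts lies over `x₀`
    by_contra hne
    let K₀ : Set (Fan.Orth n) := insert a' (Set.range (a ∘ φ))
    have hK₀ : IsCompact K₀ := hlim'.isCompact_insert_range
    have hT := hcl n ξ _ (FanLib.isClosed_coneOver K₀ hK₀) (by
      rintro v w ⟨k', hk', c', hc', hv⟩ c hc hw
      exact ⟨k', hk', c * c', mul_pos hc hc', by rw [hw, hv, smul_smul]⟩)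
    set T := Fan.P.mk ξ '' {w : Fan.Orth n | ∃ k ∈ K₀, ∃ c : ℝ, 0 < c ∧ w.1 = c • k.1} with hTdef
    have hx₀T : x₀ ∉ T := by
      rintro ⟨w, ⟨k, hk, c, hc, hw⟩, hwx⟩
      have h1 : Fan.P.mk ξ k = x₀ := by rw [FanLib.mk_smul ξ k w c hc hw]; exact hwx
      rcases hk with rfl | ⟨j, rfl⟩
      · exact hne h1
      · apply hI₀ (idx (φ j)) (hidx1 (φ j))
        rw [hidx2 (φ j)]
        exact h1
    have h1 : ∀ᶠ j in Filter.atTop, x ((idx ∘ φ) j) ∈ Tᶜ :=
      (hx.comp hφidx.tendsto_atTop) (hT.isOpen_compl.mem_nhds hx₀T)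
    obtain ⟨j, hj⟩ := h1.exists
    apply hj
    refine ⟨a (φ j), ⟨a (φ j), Or.inr ⟨j, rfl⟩, 1, one_pos, by rw [one_smul]⟩, ?_⟩
    exact (hidx2 (φ j)).symm

end Groth.Agent.S19369
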