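import Groth.Statements.S1937
import Groth.Agent.Lib.Helper80.OmegaGroup
import Groth.Agent.Lib.Helper80.GroupShear
import Groth.Agent.Lib.Helper80.FreeOverField
import Groth.Agent.Lib.Helper1.IdealMod

set_option autoImplicit false
universe u
open CategoryTheory MonoidalCategory CartesianMonoidalCategory MonObj GrpObj AlgebraicGeometry
open GrpSch

namespace Groth.Agent.S1937


/-- Let G be a group scheme over S with structure morphism f and unit section e : S → G. Then Ω_{G/S} ≅
f^* C_{S/G}, the pullback of the conormal sheaf of the immersion e; and when S is the spectrum of a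
field, Ω_{G/S} is a free O_G-module (a coproduct of copies of O_G). Stated for G → S
quasi-separated, where the shared prelude's Ω (conormal sheaf of the diagonal through Mathlib's
kernel ideal sheaf) and conormal sheaf of e are the usual ones. -/
theorem result (S : Scheme.{u}) (G : Over S) [GrpObj G] [QuasiSeparated G.hom] : Nonempty (Omega.sheaf G.hom ≅ (Scheme.Modules.pullback G.hom).obj (Omega.conormal η[G].left)) ∧ ∀ (K : Type u) [Field K], Nonempty (S ≅ Spec (CommRingCat.of K)) → ∃ I : Type u, Nonempty (Omega.sheaf G.hom ≅ ∐ fun _ : I => Coh.structureModule G.left) := by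
  obtain ⟨κ⟩ := Groth.Agent.Lib.Helper80.OmegaGroup.nonempty_omega_iso_pullback_conormal
    G.hom η[G].left (Groth.Agent.Lib.Helper80.GroupShear.unit_left_hom G) G.hom
    (fst G G).left (snd G G).left
    (Groth.Agent.Lib.Helper80.GroupShear.isPullback_fst_snd G) μ[G].left
    (Groth.Agent.Lib.Helper80.GroupShear.isPullback_mul G)
    (Groth.Agent.Lib.Helper80.GroupShear.unitSection G)
    (Groth.Agent.Lib.Helper80.GroupShear.unitSection_snd G)
    (Groth.Agent.Lib.Helper80.GroupShear.unitSection_mul G)
  refine ⟨⟨κ⟩, ?_⟩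
  intro K _ hK
  obtain ⟨φ⟩ := hK
  have hq : (Omega.conormal η[G].left).IsQuasicoherent :=
    Groth.Agent.Lib.Helper16.FlatPull.isQuasicoherent_pullback η[G].left
      (ClSub.idealMod (η[G].left).ker)
  obtain ⟨I, ⟨e⟩⟩ := Groth.Agent.Lib.Helper80.FreeOverField.exists_iso_free_of_iso_spec_field K φ
    (Omega.conormal η[G].left)
  obtain ⟨e'⟩ := Groth.Agent.Lib.Helper80.FreeOverField.nonempty_pullback_free_iso G.hom I
  exact ⟨I, ⟨κ ≪≫ (Scheme.Modules.pullback G.hom).mapIso e ≪≫ e'⟩⟩

end Groth.Agent.S1937
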