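import Groth.Statements.S19370
import Groth.Agent.Lib.Helper97.FanRat

set_option autoImplicit false
universe u v
open CategoryTheory Opposite Instab
open Instab Instab.Fan

namespace Groth.Agent.S19370

open Groth.Agent.Lib.Helper97

section path

variable {F : Fan.{u}}

/-- The point `e_i + |t| e_j` of the punctured quadrant. -/
def pathVec (i j : Fin Fan.two.dim) (t : ℝ) : Orth Fan.two :=
  ⟨(Orth.basis Fan.two i).1 + |t| • (Orth.basis Fan.two j).1, fun l => by
    simp only [Pi.add_apply, Pi.smul_apply, smul_eq_mul]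
    exact add_nonneg ((Orth.basis Fan.two i).2.1 l) (mul_nonneg (abs_nonneg t)
      ((Orth.basis Fan.two j).2.1 l)), fun h => by
    have h1 := congr_fun h i
    simp only [Pi.add_apply, Pi.smul_apply, smul_eq_mul, Pi.zero_apply, Orth.basis] at h1
    simp only [if_true] at h1
    have : 0 ≤ |t| * (if i = j then (1 : ℝ) else 0) :=
      mul_nonneg (abs_nonneg t) (by split_ifs <;> norm_num)
    linarith⟩

lemma continuous_pathVec (i j : Fin Fan.two.dim) : Continuous (pathVec i j) := by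
  apply Continuous.subtype_mk
  exact continuous_const.add ((continuous_abs).smul continuous_const)

lemma pathVec_zero (i j : Fin Fan.two.dim) : pathVec i j 0 = Orth.basis Fan.two i := by
  apply Subtype.ext
  show (Orth.basis Fan.two i).1 + |(0 : ℝ)| • (Orth.basis Fan.two j).1 = _
  rw [abs_zero, zero_smul, add_zero]

lemma pathVec_eq (i j : Fin Fan.two.dim) (t : ℝ) :
    (pathVec i j t).1 = (1 : ℝ) • (Orth.basis Fan.two i).1 + |t| • (Orth.basis Fan.two j).1 := by
  rw [one_smul]; rfl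

/-- A local maximum at a vertex of a `1`-simplex inside `U` cannot be exceeded strictly along the
whole open edge. -/
lemma no_strict_increase (U : Set (Fan.P F)) {Γ : Type v} [LinearOrder Γ] (Φ : U → Γ)
    (τ : F.obj (op Fan.two)) (hτ : P.cell τ ⊆ U) (i j : Fin Fan.two.dim)
    (x : U) (hx : (x : Fan.P F) = P.mk τ (Orth.basis Fan.two i)) (hloc : IsLocalMax Φ x)
    (hgt : ∀ t : ℝ, t ≠ 0 → Φ x < Φ ⟨P.mk τ (pathVec i j t), hτ ⟨_, rfl⟩⟩) : False := by
  let γ : ℝ → U := fun t => ⟨P.mk τ (pathVec i j t), hτ ⟨_, rfl⟩⟩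
  have hγc : Continuous γ :=
    Continuous.subtype_mk ((FanLib.continuous_mk τ).comp (continuous_pathVec i j)) _
  have hγ0 : γ 0 = x := by
    apply Subtype.ext
    simp only [γ]
    rw [pathVec_zero, hx]
  have hev : ∀ᶠ t in nhds (0 : ℝ), Φ (γ t) ≤ Φ x := by
    have : Filter.Tendsto γ (nhds 0) (nhds x) := by
      rw [← hγ0]; exact hγc.continuousAt
    exact this.eventually hloc
  obtain ⟨ε, hε, hball⟩ := Metric.eventually_nhds_iff.1 hev
  have h1 : dist (ε / 2) (0 : ℝ) < ε := by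
    rw [Real.dist_eq, sub_zero, abs_of_pos (by linarith)]
    linarith
  exact absurd (hgt (ε / 2) (by linarith)) (not_lt.2 (hball h1))

end path

/-- Let F be a formal fan, U ⊆ P F a convex subset, Γ a totally ordered set and Φ : U → Γ a
quasi-concave function that is lower semicontinuous in the sense that every sublevel set {Φ ≤ c} is
closed in U. Then every rational point of U at which Φ has a local maximum is a global maximum of Φ,
and if Φ is strictly quasi-concave there is at most one such rational point. -/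
theorem result (F : Fan.{u}) (U : Set (Fan.P F))
    (hU : Fan.IsConvex U) {Γ : Type v} [LinearOrder Γ] (Φ : U → Γ) (hΦ : Fan.IsQuasiConcaveOn U Φ)
    (hlsc : ∀ c : Γ, IsClosed {x : U | Φ x ≤ c}) :
    (∀ x : U, (x : Fan.P F).IsRational → IsLocalMax Φ x → ∀ y : U, Φ y ≤ Φ x) ∧
    (Fan.IsStrictQuasiConcaveOn U Φ → ∀ x y : U, (x : Fan.P F).IsRational → (y : Fan.P F).IsRational →
      IsLocalMax Φ x → IsLocalMax Φ y → x = y) := by
  obtain ⟨hlc, hreal, hseg⟩ := hU
  have hnp : ¬ ∃ c : ℝ, (Orth.basis Fan.two 1).1 = c • (Orth.basis Fan.two 0).1 := by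
    rintro ⟨c, hc⟩
    have := congr_fun hc 1
    have h10 : (1 : Fin Fan.two.dim) ≠ 0 := by decide
    simp only [Orth.basis, Pi.smul_apply, smul_eq_mul, if_true, if_neg h10, mul_zero] at this
    exact one_ne_zero this
  have hnp' : ¬ ∃ c : ℝ, (Orth.basis Fan.two 0).1 = c • (Orth.basis Fan.two 1).1 := by
    rintro ⟨c, hc⟩
    have := congr_fun hc 0
    have h01 : (0 : Fin Fan.two.dim) ≠ 1 := by decide
    simp only [Orth.basis, Pi.smul_apply, smul_eq_mul, if_true, if_neg h01, mul_zero] at this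
    exact one_ne_zero this
  constructor
  · intro x hxrat hloc y
    by_contra hlt
    push Not at hlt
    obtain ⟨S, hS⟩ := hreal
    have hy : (y : Fan.P F) ∈ Set.range (P.map S.ι) := hS ▸ y.2
    obtain ⟨y₀, hy₀⟩ := hy
    obtain ⟨n, η₀, w, rfl⟩ := FanLib.exists_mk y₀
    set η : F.obj (op n) := S.ι.app (op n) η₀ with hη
    have hcell : ∀ w', P.mk η w' ∈ U := fun w' => hS ▸ ⟨P.mk η₀ w', rfl⟩
    let g : Orth n → U := fun w' => ⟨P.mk η w', hcell w'⟩
    have hg : Continuous g := (FanLib.continuous_mk η).subtype_mk _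
    have hgw : g w = y := Subtype.ext hy₀
    let O : Set (Orth n) := g ⁻¹' {z | Φ z ≤ Φ x}ᶜ
    have hO : IsOpen O := (hlsc (Φ x)).isOpen_compl.preimage hg
    have hwO : w ∈ O := by
      simp only [O, Set.mem_preimage, Set.mem_compl_iff, Set.mem_ofPred_eq, hgw, not_le]
      exact hlt
    have hsc : ∀ v w' : Orth n, v ∈ O → ∀ c : ℝ, 0 < c → w'.1 = c • v.1 → w' ∈ O := by
      intro v w' hv c hc h
      have : g w' = g v := Subtype.ext (FanLib.mk_smul η v w' c hc h).symm
      simp only [O, Set.mem_preimage] at hv ⊢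
      rwa [this]
    obtain ⟨N, hN, hNO⟩ := FanLib.exists_natVec_mem O hO hsc w hwO
    set y' : U := g (FanLib.natOrth N hN) with hy'
    have hy'rat : (y' : Fan.P F).IsRational := FanLib.isRational_mk_natOrth η N hN
    have hy'gt : Φ x < Φ y' := by
      simpa only [O, Set.mem_preimage, Set.mem_compl_iff, Set.mem_ofPred_eq, not_le] using hNO
    have hne : (x : Fan.P F) ≠ y' := fun h => by
      have : x = y' := Subtype.ext h
      rw [this] at hy'gt
      exact lt_irrefl _ hy'gt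
    obtain ⟨τ, hτ, hτ0, hτ1⟩ := hseg x y' x.2 y'.2 hxrat hy'rat hne
    refine no_strict_increase U Φ τ hτ 0 1 x hτ0.symm hloc ?_
    intro t ht
    have hq := hΦ Fan.two τ (Orth.basis Fan.two 0) (pathVec 0 1 t) (Orth.basis Fan.two 1)
      (hτ ⟨_, rfl⟩) (hτ ⟨_, rfl⟩) (hτ ⟨_, rfl⟩) hnp ⟨1, |t|, one_pos, abs_pos.2 ht, pathVec_eq _ _ _⟩
    have e0 : (⟨P.mk τ (Orth.basis Fan.two 0), hτ ⟨_, rfl⟩⟩ : U) = x := Subtype.ext hτ0
    have e1 : (⟨P.mk τ (Orth.basis Fan.two 1), hτ ⟨_, rfl⟩⟩ : U) = y' := Subtype.ext hτ1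
    rw [e0, e1, min_eq_left hy'gt.le] at hq
    rcases hq.1.lt_or_eq with h | h
    · exact h
    · exact absurd (hq.2 h.symm) hy'gt.ne
  · intro hstrict x y hxrat hyrat hlx hly
    by_contra hxy
    have hne : (x : Fan.P F) ≠ y := fun h => hxy (Subtype.ext h)
    obtain ⟨τ, hτ, hτ0, hτ1⟩ := hseg x y x.2 y.2 hxrat hyrat hne
    have e0 : (⟨P.mk τ (Orth.basis Fan.two 0), hτ ⟨_, rfl⟩⟩ : U) = x := Subtype.ext hτ0
    have e1 : (⟨P.mk τ (Orth.basis Fan.two 1), hτ ⟨_, rfl⟩⟩ : U) = y := Subtype.ext hτ1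
    rcases le_total (Φ x) (Φ y) with hle | hle
    · refine no_strict_increase U Φ τ hτ 0 1 x hτ0.symm hlx ?_
      intro t ht
      have hq := hstrict Fan.two τ (Orth.basis Fan.two 0) (pathVec 0 1 t) (Orth.basis Fan.two 1)
        (hτ ⟨_, rfl⟩) (hτ ⟨_, rfl⟩) (hτ ⟨_, rfl⟩) hnp ⟨1, |t|, one_pos, abs_pos.2 ht, pathVec_eq _ _ _⟩
      rwa [e0, e1, min_eq_left hle] at hq
    · refine no_strict_increase U Φ τ hτ 1 0 y hτ1.symm hly ?_
      intro t ht
      have hq := hstrict Fan.two τ (Orth.basis Fan.two 1) (pathVec 1 0 t) (Orth.basis Fan.two 0)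
        (hτ ⟨_, rfl⟩) (hτ ⟨_, rfl⟩) (hτ ⟨_, rfl⟩) hnp' ⟨1, |t|, one_pos, abs_pos.2 ht, pathVec_eq _ _ _⟩
      rwa [e0, e1, min_eq_left hle] at hq

end Groth.Agent.S19370
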