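import Groth.Statements.S19374
import Groth.Agent.Lib.Helper97.Fan

set_option autoImplicit false
universe u
open CategoryTheory Opposite Instab
open Instab Instab.Fan

namespace Groth.Agent.S19374

open Groth.Agent.Lib.Helper97 in
/-- Let F be a formal fan and U ⊆ P F. Then U is locally convex in the simplex-wise sense — for every
rational simplex, a ray lying strictly between two rays that map into U also maps into U — if and
only if, for every n-cone ξ of F, the set of nonzero nonnegative vectors v of ℝ^n whose point of the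
rational simplex of ξ lies in U is a convex subset of ℝ^n (convexity of the preimage of U in each
punctured cone of the affine realization). -/
theorem result (F : Fan.{u}) (U : Set (Fan.P F)) :
    Fan.IsLocallyConvex U ↔
      ∀ (n : ICone) (ξ : F.obj (op n)),
        Convex ℝ {v : Fin n.dim → ℝ | ∃ h : (∀ i, 0 ≤ v i) ∧ v ≠ 0, Fan.P.mk ξ (⟨v, h⟩ : Fan.Orth n) ∈ U} := by
  constructor
  · intro hU n ξ v hv w hw a b ha hb hab
    obtain ⟨hv1, hv2⟩ := hv
    obtain ⟨hw1, hw2⟩ := hw
    rcases ha.eq_or_lt with rfl | ha'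
    · rw [zero_add] at hab
      subst hab
      simpa using ⟨hw1, hw2⟩
    rcases hb.eq_or_lt with rfl | hb'
    · rw [add_zero] at hab
      subst hab
      simpa using ⟨hv1, hv2⟩
    have hnn : ∀ i, 0 ≤ (a • v + b • w) i := fun i => by
      simp only [Pi.add_apply, Pi.smul_apply, smul_eq_mul]
      exact add_nonneg (mul_nonneg ha (hv1.1 i)) (mul_nonneg hb (hw1.1 i))
    have hne : a • v + b • w ≠ 0 := by
      intro h0
      apply hv1.2
      funext i
      have hi := congr_fun h0 i
      simp only [Pi.add_apply, Pi.smul_apply, smul_eq_mul, Pi.zero_apply] at hi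
      have h1 : 0 ≤ a * v i := mul_nonneg ha (hv1.1 i)
      have h2 : 0 ≤ b * w i := mul_nonneg hb (hw1.1 i)
      have h3 : a * v i = 0 := by linarith
      rcases mul_eq_zero.1 h3 with h | h
      · exact absurd h ha'.ne'
      · exact h
    exact ⟨⟨hnn, hne⟩, hU n ξ ⟨v, hv1⟩ ⟨a • v + b • w, hnn, hne⟩ ⟨w, hw1⟩ hv2 hw2
      ⟨a, b, ha', hb', rfl⟩⟩
  · intro hC n ξ v₀ v₁ v₂ h₀ h₂ h
    obtain ⟨a, b, ha, hb, hab⟩ := h
    have hs : 0 < a + b := add_pos ha hb
    have hconv := hC n ξ (x := v₀.1) ⟨v₀.2, h₀⟩ (y := v₂.1) ⟨v₂.2, h₂⟩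
      (a := a / (a + b)) (b := b / (a + b)) (div_nonneg ha.le hs.le) (div_nonneg hb.le hs.le)
      (by field_simp)
    obtain ⟨hx1, hx2⟩ := hconv
    have := FanLib.mk_smul ξ ⟨_, hx1⟩ v₁ (a + b) hs (by
      rw [hab]
      simp only [smul_add, smul_smul]
      congr 1 <;> congr 1 <;> field_simp)
    rwa [← this]

end Groth.Agent.S19374
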