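import Groth.Statements.S1938
import Groth.Agent.Lib.Helper80.OmegaGroup
import Groth.Agent.Lib.Helper80.GroupoidShear

set_option autoImplicit false
universe u
open CategoryTheory CategoryTheory.Limits AlgebraicGeometry
open Grpd

namespace Groth.Agent.S1938


/-- Let (U, R, s, t, c) be a groupoid scheme over S, e : U → R its identity and C_{U/R} the conormal
sheaf of the immersion e. View R as a scheme over U via t. Then there is an epimorphism of
O_R-modules s^*C_{U/R} → Ω_{R/U}, and if s is flat there is an isomorphism s^*C_{U/R} ≅ Ω_{R/U}.
(The published statement has t^*C_{U/R} here; with R over U via t that version is false — for the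
pair groupoid of the disjoint union of a point and the affine line over ℚ the two sheaves have
different supports — and the statement given here has s^*C_{U/R} instead.) Stated for t
quasi-separated, where the shared prelude's Ω_{R/U} (conormal sheaf of the diagonal of t through
Mathlib's kernel ideal sheaf) and conormal sheaf of the section e are the usual ones. (A groupoid
scheme carries U, R, s, t, c, e, i over S with the groupoid axioms on T-points.) -/
theorem result (S : Scheme.{u}) (G : Grpd.GroupoidScheme S) [QuasiSeparated G.t] : (∃ φ : (Scheme.Modules.pullback G.s).obj (Omega.conormal G.e) ⟶ Omega.sheaf G.t, Epi φ) ∧ (Flat G.s → Nonempty ((Scheme.Modules.pullback G.s).obj (Omega.conormal G.e) ≅ Omega.sheaf G.t)) := by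
  obtain ⟨κ⟩ := Groth.Agent.Lib.Helper80.OmegaGroup.nonempty_omega_iso_pullback_conormal
    G.t G.e G.e_t G.s (pullback.fst G.s G.t) (pullback.snd G.s G.t)
    (IsPullback.of_hasPullback G.s G.t) G.c
    (Groth.Agent.Lib.Helper80.GroupoidShear.isPullback_c G)
    (Groth.Agent.Lib.Helper80.GroupoidShear.unitSection G)
    (Groth.Agent.Lib.Helper80.GroupoidShear.unitSection_snd G)
    (Groth.Agent.Lib.Helper80.GroupoidShear.unitSection_c G)
  exact ⟨⟨κ.symm.hom, inferInstance⟩, fun _ => ⟨κ.symm⟩⟩

end Groth.Agent.S1938
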