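import Groth.Statements.S19382
import Groth.Agent.Lib.Helper95.AdicFlatBC
-- import your own Groth.Agent.* helpers here

set_option autoImplicit false
universe u
open CategoryTheory CategoryTheory.Limits AlgebraicGeometry
open FlatMor

namespace Groth.Agent.S19382

/-- Over a discrete valuation ring, let V be a henselian discrete valuation ring with maximal ideal 𝔪, A
a smooth V-algebra, Â the 𝔪A-adic completion of A, and h : X → Spec A a proper morphism with
reduction h₀ over Spec(A/𝔪A). Then X is flat over V and h₀ is smooth if and only if the base change
of h to Spec Â is smooth. (As for the flat case, the published statement concerns an excellent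
normal base ring with a henselian pair and the projective lift built from lifted equations, together
with the weak completion and the henselization; it is given here over a discrete valuation ring and
for an arbitrary proper h.) -/
theorem result
    (V : Type u) [CommRing V] [IsDomain V] [IsDiscreteValuationRing V] [HenselianLocalRing V]
    (A : Type u) [CommRing A] [Algebra V A] [Algebra.Smooth V A]
    (X : Scheme.{u}) (h : X ⟶ Spec (.of A)) [IsProper h] :
    (Flat (h ≫ Spec.map (CommRingCat.ofHom (algebraMap V A))) ∧
        Smooth (pullback.snd h (Spec.map (CommRingCat.ofHom
          (Ideal.Quotient.mk ((IsLocalRing.maximalIdeal V).map (algebraMap V A))))))) ↔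
      Smooth (pullback.snd h (Spec.map (CommRingCat.ofHom
          (algebraMap A (AdicCompletion ((IsLocalRing.maximalIdeal V).map (algebraMap V A)) A))))) := by
  haveI : IsNoetherianRing V := inferInstance
  haveI : Algebra.FinitePresentation V A := inferInstance
  haveI : IsNoetherianRing A := Algebra.FiniteType.isNoetherianRing V A
  haveI : Module.Flat V A := inferInstance
  constructor
  · rintro ⟨h1, h2⟩
    exact Groth.Agent.Lib.Helper95.AdicFlatBC.smooth_snd_completion V A h h1 h2
  · intro hc
    have hcflat : Flat (pullback.snd h (Spec.map (CommRingCat.ofHom (algebraMap A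
        (AdicCompletion ((IsLocalRing.maximalIdeal V).map (algebraMap V A)) A))))) :=
      inferInstance
    refine ⟨?_, ?_⟩
    · rw [IsZariskiLocalAtSource.iff_of_openCover (P := @Flat) X.affineOpenCover.openCover]
      intro j
      exact Groth.Agent.Lib.Helper95.AdicFlatBC.flat_chart_of_flat_snd V A h hcflat
        (X.affineOpenCover.f j)
    · obtain ⟨l, hl⟩ := Groth.Agent.Lib.Helper95.AdicFlatBC.exists_isPullback_snd_comp
        (IsPullback.of_hasPullback h (Spec.map (CommRingCat.ofHom (algebraMap A
          (AdicCompletion ((IsLocalRing.maximalIdeal V).map (algebraMap V A)) A)))))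
        (Spec.map (CommRingCat.ofHom (AdicCompletion.evalOneₐ
          ((IsLocalRing.maximalIdeal V).map (algebraMap V A))).toRingHom))
      have he : Spec.map (CommRingCat.ofHom (Ideal.Quotient.mk
            ((IsLocalRing.maximalIdeal V).map (algebraMap V A)))) =
          Spec.map (CommRingCat.ofHom (AdicCompletion.evalOneₐ
            ((IsLocalRing.maximalIdeal V).map (algebraMap V A))).toRingHom) ≫
          Spec.map (CommRingCat.ofHom (algebraMap A
            (AdicCompletion ((IsLocalRing.maximalIdeal V).map (algebraMap V A)) A))) := by
        rw [← Spec.map_comp, ← CommRingCat.ofHom_comp,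
          AdicCompletion.evalOneₐ_comp_algebraMap_eq_mk]
      rw [he]
      exact MorphismProperty.of_isPullback (P := @Smooth) hl hc

end Groth.Agent.S19382
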