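import Groth.Statements.S19383
import Mathlib

set_option autoImplicit false
universe u
open CAlg

namespace Groth.Agent.S19383

/-- Over a discrete valuation ring, let V be a henselian discrete valuation ring with maximal ideal 𝔪
and B a Noetherian V-algebra, B̂ its 𝔪B-adic completion. Then B is flat over V if and only if B̂ is
flat over V. (The published lemma takes V an excellent normal ring with an ideal I such that (V,
V/I) is a henselian pair and B of finite type; in that generality it fails: for V = ℤ_p[[x]], I =
(p) and B = V[y]/(x, py − 1) ≅ ℚ_p one has IB = B, so B̂ = 0 is flat while B is not flat over V.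
Over a discrete valuation ring flatness is torsion-freeness and the statement holds for every
Noetherian B.) -/
theorem result
    (V : Type u) [CommRing V] [IsDomain V] [IsDiscreteValuationRing V] [HenselianLocalRing V]
    (B : Type u) [CommRing B] [Algebra V B] [IsNoetherianRing B] :
    Module.Flat V B ↔
      Module.Flat V (AdicCompletion ((IsLocalRing.maximalIdeal V).map (algebraMap V B)) B) := by
  set J := (IsLocalRing.maximalIdeal V).map (algebraMap V B) with hJ
  constructor
  · intro h
    exact Module.Flat.trans V B (AdicCompletion J B)
  · intro h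
    rw [Module.Flat.flat_iff_torsion_eq_bot_of_isBezout]
    obtain ⟨ϖ, hϖ⟩ := IsDiscreteValuationRing.exists_irreducible V
    have hm : IsLocalRing.maximalIdeal V = Ideal.span {ϖ} := hϖ.maximalIdeal_eq
    -- elements of `J` kill everything killed by `ϖ`
    have hJkill : ∀ b : B, ϖ • b = 0 → ∀ r ∈ J, r * b = 0 := by
      intro b hb r hr
      rw [hJ, hm, Ideal.map_span, Set.image_singleton] at hr
      obtain ⟨c, rfl⟩ := Ideal.mem_span_singleton'.mp hr
      rw [mul_assoc, ← Algebra.smul_def, hb, mul_zero]
    -- Lemma A
    have hA : ∀ b : B, ϖ • b = 0 → b = 0 := by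
      intro b hb
      have h1 : ϖ • (AdicCompletion.of J B b) = 0 := by
        rw [← LinearMap.map_smul_of_tower, hb, map_zero]
      have h2 : AdicCompletion.of J B b = 0 := by
        have hreg : IsSMulRegular (AdicCompletion J B) ϖ :=
          Module.Flat.isSMulRegular_of_nonZeroDivisors (mem_nonZeroDivisors_of_ne_zero hϖ.ne_zero)
        apply hreg
        simpa using h1
      have h3 : b ∈ (⨅ i : ℕ, J ^ i • ⊤ : Submodule B B) := by
        rw [Submodule.mem_iInf]
        intro n
        have := congrArg (fun x => x.1 n) h2
        simp only [AdicCompletion.of_apply] at this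
        exact (Submodule.Quotient.mk_eq_zero _).mp this
      obtain ⟨r, hr⟩ := (J.mem_iInf_smul_pow_eq_bot_iff b).mp h3
      rw [← hr, smul_eq_mul]
      exact hJkill b hb r.1 r.2
    have hpow : ∀ (e : ℕ) (b : B), ϖ ^ e • b = 0 → b = 0 := by
      intro e
      induction e with
      | zero => intro b hb; simpa using hb
      | succ e ih =>
        intro b hb
        rw [pow_succ, mul_smul] at hb
        exact hA b (ih _ hb)
    rw [eq_bot_iff]
    rintro b ⟨⟨a, ha⟩, hab⟩
    have ha0 : a ≠ 0 := nonZeroDivisors.ne_zero ha
    obtain ⟨e, u, rfl⟩ := IsDiscreteValuationRing.eq_unit_mul_pow_irreducible ha0 hϖ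
    simp only [Submonoid.mk_smul] at hab
    rw [mul_smul] at hab
    have := hpow e b ((u.isUnit.smul_eq_zero).mp hab)
    simpa using this

end Groth.Agent.S19383
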