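import Groth.Statements.S19390
import Mathlib

set_option autoImplicit false
universe u
open GIT

namespace Groth.Agent.S19390

def iFun (e : ℕ) (k : ℕ) : ℕ :=
  if k = 0 then 0 else if k = 1 then e else if k = 2 then 2 * e else if k ≤ e + 1 then k - 2
  else k - 1

def jFun (e : ℕ) (k : ℕ) : ℕ :=
  if k = 0 then e else if k = 1 then 2 * e else if k = 2 then 0 else if k ≤ e + 1 then k - 2 + e
  else k - 1 - e

theorem iFun_lt (e : ℕ) (he : 1 ≤ e) (k : ℕ) (hk : k < 2 * e + 1) : iFun e k < 2 * e + 1 := by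
  unfold iFun; split_ifs <;> omega

theorem jFun_lt (e : ℕ) (he : 1 ≤ e) (k : ℕ) (hk : k < 2 * e + 1) : jFun e k < 2 * e + 1 := by
  unfold jFun; split_ifs <;> omega

theorem iFun_inj (e : ℕ) (he : 1 ≤ e) (k l : ℕ) (hk : k < 2 * e + 1) (hl : l < 2 * e + 1)
    (h : iFun e k = iFun e l) : k = l := by
  unfold iFun at h; split_ifs at h <;> omega

theorem jFun_inj (e : ℕ) (he : 1 ≤ e) (k l : ℕ) (hk : k < 2 * e + 1) (hl : l < 2 * e + 1)
    (h : jFun e k = jFun e l) : k = l := by
  unfold jFun at h; split_ifs at h <;> omega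

theorem ij_far (e : ℕ) (he : 1 ≤ e) (k : ℕ) (hk : k < 2 * e + 1) :
    iFun e k + e ≤ jFun e k ∨ jFun e k + e ≤ iFun e k := by
  unfold iFun jFun; split_ifs <;> omega

/-- explicit construction on sorted positions -/
theorem sorted_case {β : Type*} (e : ℕ) (he : 1 ≤ e) (y : Fin (2 * e + 1) → β)
    (H : ∀ a b : Fin (2 * e + 1), a.val + e ≤ b.val → y a ≠ y b) :
    ∃ i j : Fin (2 * e + 1) → Fin (2 * e + 1), Function.Bijective i ∧ Function.Bijective j ∧
      (∀ k, y (i k) ≠ y (j k)) ∧ i 0 = j 2 ∧ i 1 = j 0 ∧ i 2 = j 1 := by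
  have h1 : ((1 : Fin (2 * e + 1)) : ℕ) = 1 := by
    rw [Fin.val_one']; exact Nat.mod_eq_of_lt (by omega)
  have h2 : ((2 : Fin (2 * e + 1)) : ℕ) = 2 := by
    rw [Fin.coe_ofNat_eq_mod]; exact Nat.mod_eq_of_lt (by omega)
  refine ⟨fun k => ⟨iFun e k, iFun_lt e he k k.2⟩, fun k => ⟨jFun e k, jFun_lt e he k k.2⟩,
    ?_, ?_, ?_, ?_, ?_, ?_⟩
  · rw [← Finite.injective_iff_bijective]
    intro k l h
    exact Fin.ext (iFun_inj e he k l k.2 l.2 (by simpa using h))
  · rw [← Finite.injective_iff_bijective]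
    intro k l h
    exact Fin.ext (jFun_inj e he k l k.2 l.2 (by simpa using h))
  · intro k
    rcases ij_far e he k k.2 with h | h
    · exact H _ _ h
    · exact (H _ _ h).symm
  · apply Fin.ext
    simp only [Fin.val_zero, h2]
    unfold iFun jFun; simp
  · apply Fin.ext
    simp only [Fin.val_zero, h1]
    unfold iFun jFun; simp
  · apply Fin.ext
    simp only [h1, h2]
    unfold iFun jFun; simp

theorem card_filter_bij {n : ℕ} (g : Fin n → Fin n) (hg : Function.Bijective g) (m : Fin n) :
    (Finset.univ.filter fun k => g k = m).card = 1 := by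
  obtain ⟨k0, hk0, huniq⟩ := hg.existsUnique m
  rw [Finset.card_eq_one]
  refine ⟨k0, ?_⟩
  ext k
  simp only [Finset.mem_filter, Finset.mem_univ, true_and, Finset.mem_singleton]
  constructor
  · intro h; exact huniq k h
  · rintro rfl; exact hk0

/-- Let e ≥ 1, n = 2e + 1, and let x_1, …, x_n be points such that no point occurs more than e times
among them (the stability condition for n ordered points on a line, n odd). Then there are index
sequences i_1, …, i_n and j_1, …, j_n in which every index between 1 and n occurs exactly twice in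
total, such that x_{i_k} ≠ x_{j_k} for every k and (i_1, i_2, i_3) = (j_3, j_1, j_2). Indices are
written 0, …, n − 1 here. -/
theorem result {α : Type u} [DecidableEq α] (e : ℕ) (he : 1 ≤ e)
    (x : Fin (2 * e + 1) → α)
    (hx : ∀ a : α, (Finset.univ.filter fun k => x k = a).card ≤ e) :
    ∃ i j : Fin (2 * e + 1) → Fin (2 * e + 1),
      (∀ m : Fin (2 * e + 1),
        (Finset.univ.filter fun k => i k = m).card + (Finset.univ.filter fun k => j k = m).card = 2) ∧
      (∀ k, x (i k) ≠ x (j k)) ∧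
      i 0 = j 2 ∧ i 1 = j 0 ∧ i 2 = j 1 := by
  classical
  obtain ⟨inst, -⟩ := exists_wellFoundedLT α
  let _ : LinearOrder α := inst
  let σ : Equiv.Perm (Fin (2 * e + 1)) := Tuple.sort x
  have hmono : Monotone (x ∘ σ) := Tuple.monotone_sort x
  have H : ∀ a b : Fin (2 * e + 1), a.val + e ≤ b.val → (x ∘ σ) a ≠ (x ∘ σ) b := by
    intro a b hab heq
    have hsub : (Finset.Icc a b).image σ ⊆ Finset.univ.filter fun k => x k = (x ∘ σ) a := by
      intro k hk
      rw [Finset.mem_image] at hk
      obtain ⟨c, hc, rfl⟩ := hk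
      rw [Finset.mem_Icc] at hc
      simp only [Finset.mem_filter, Finset.mem_univ, true_and]
      apply le_antisymm
      · rw [heq]; exact hmono hc.2
      · exact hmono hc.1
    have hcard := Finset.card_le_card hsub
    rw [Finset.card_image_of_injective _ σ.injective, Fin.card_Icc] at hcard
    have := hx ((x ∘ σ) a)
    omega
  obtain ⟨i', j', hi, hj, hne, h0, h1, h2⟩ := sorted_case e he (x ∘ σ) H
  refine ⟨σ ∘ i', σ ∘ j', ?_, ?_, ?_, ?_, ?_⟩
  · intro m
    rw [card_filter_bij _ (σ.bijective.comp hi), card_filter_bij _ (σ.bijective.comp hj)]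
  · intro k; exact hne k
  · simp only [Function.comp_apply, h0]
  · simp only [Function.comp_apply, h1]
  · simp only [Function.comp_apply, h2]

end Groth.Agent.S19390
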