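import Groth.Statements.S19392
import Groth.Agent.S19391
import Mathlib

set_option autoImplicit false
universe u
open InvQ

namespace Groth.Agent.S19392

open W4c6intromoduli

theorem coef_eq {R : Type u} [CommRing R] (la mu : Fin 4 → R) :
    coef la mu 0 = mu 0 * mu 1 * mu 2 * mu 3 ∧
    coef la mu 1 = -(la 0 * mu 1 * mu 2 * mu 3 + mu 0 * la 1 * mu 2 * mu 3 + mu 0 * mu 1 * la 2 * mu 3
            + mu 0 * mu 1 * mu 2 * la 3) ∧
    coef la mu 2 = la 0 * la 1 * mu 2 * mu 3 + la 0 * mu 1 * la 2 * mu 3 + la 0 * mu 1 * mu 2 * la 3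
            + mu 0 * la 1 * la 2 * mu 3 + mu 0 * la 1 * mu 2 * la 3 + mu 0 * mu 1 * la 2 * la 3 ∧
    coef la mu 3 = -(la 0 * la 1 * la 2 * mu 3 + la 0 * la 1 * mu 2 * la 3 + la 0 * mu 1 * la 2 * la 3
            + mu 0 * la 1 * la 2 * la 3) ∧
    coef la mu 4 = la 0 * la 1 * la 2 * la 3 := by
  have h := Groth.Agent.S19391.coeff_quartic
    (mu 0 * mu 1 * mu 2 * mu 3)
    (-(la 0 * mu 1 * mu 2 * mu 3 + mu 0 * la 1 * mu 2 * mu 3 + mu 0 * mu 1 * la 2 * mu 3
            + mu 0 * mu 1 * mu 2 * la 3))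
    (la 0 * la 1 * mu 2 * mu 3 + la 0 * mu 1 * la 2 * mu 3 + la 0 * mu 1 * mu 2 * la 3
            + mu 0 * la 1 * la 2 * mu 3 + mu 0 * la 1 * mu 2 * la 3 + mu 0 * mu 1 * la 2 * la 3)
    (-(la 0 * la 1 * la 2 * mu 3 + la 0 * la 1 * mu 2 * la 3 + la 0 * mu 1 * la 2 * la 3
            + mu 0 * la 1 * la 2 * la 3))
    (la 0 * la 1 * la 2 * la 3)
  rw [← Groth.Agent.S19391.rootPoly_eq] at h
  exact h

theorem invI_of_double {R : Type u} [CommRing R] (la mu : Fin 4 → R) (c : R)
    (h1 : la 1 = c * la 0) (h2 : mu 1 = c * mu 0) :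
    invI (coef la mu) = c ^ 2 * ((la 0 * mu 2 - la 2 * mu 0) * (la 0 * mu 3 - la 3 * mu 0)) ^ 2 := by
  obtain ⟨e0, e1, e2, e3, e4⟩ := coef_eq la mu
  unfold invI
  rw [e0, e1, e2, e3, e4, h1, h2]
  ring

theorem invJ_of_double {R : Type u} [CommRing R] (la mu : Fin 4 → R) (c : R)
    (h1 : la 1 = c * la 0) (h2 : mu 1 = c * mu 0) :
    invJ (coef la mu) = -2 * c ^ 3 * ((la 0 * mu 2 - la 2 * mu 0) * (la 0 * mu 3 - la 3 * mu 0)) ^ 3 := by
  obtain ⟨e0, e1, e2, e3, e4⟩ := coef_eq la mu
  unfold invJ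
  rw [e0, e1, e2, e3, e4, h1, h2]
  ring

theorem coef_perm {R : Type u} [CommRing R] (la mu : Fin 4 → R) (σ : Equiv.Perm (Fin 4)) :
    coef (la ∘ σ) (mu ∘ σ) = coef la mu := by
  funext n
  unfold coef rootPoly
  congr 1
  exact Equiv.prod_comp σ (fun i => Polynomial.C (mu i) - Polynomial.C (la i) * Polynomial.X)

theorem exists_perm2 : ∀ i j : Fin 4, i ≠ j → ∃ σ : Equiv.Perm (Fin 4), σ 0 = i ∧ σ 1 = j := by
  decide

theorem exists_perm3 : ∀ i j l : Fin 4, i ≠ j → j ≠ l → i ≠ l →
    ∃ σ : Equiv.Perm (Fin 4), σ 0 = i ∧ σ 1 = j ∧ σ 2 = l := by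
  decide

theorem prop_param {k : Type u} [Field k] (a b a' b' : k) (h : a * b' = a' * b) (hne : a ≠ 0 ∨ b ≠ 0) :
    ∃ c, a' = c * a ∧ b' = c * b := by
  rcases hne with ha | hb
  · refine ⟨a' / a, by field_simp, ?_⟩
    field_simp
    linear_combination h
  · refine ⟨b' / b, ?_, by field_simp⟩
    field_simp
    linear_combination -h

/-- Over a field of characteristic different from 2 and 3, a nonzero binary quartic f has P(f) = Q(f) =
0 for the two basic invariants P, Q if and only if f has a triple zero. Stated for f = ∏_i (μ_i X₀ −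
λ_i X₁) given by four root points (λ_i, μ_i) ≠ (0, 0) (over an algebraically closed field every
nonzero quartic form is of this shape), with the integral invariants I = 6P and J = 72Q of the
coefficients of f; a triple zero means that three of the four root points are pairwise proportional. -/
theorem result (k : Type u) [Field k]
    (h2 : (2 : k) ≠ 0) (h3 : (3 : k) ≠ 0) (la mu : Fin 4 → k) (hne : ∀ i, la i ≠ 0 ∨ mu i ≠ 0) :
    (W4c6intromoduli.invI (W4c6intromoduli.coef la mu) = 0 ∧
        W4c6intromoduli.invJ (W4c6intromoduli.coef la mu) = 0) ↔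
      ∃ i j l : Fin 4, i ≠ j ∧ j ≠ l ∧ i ≠ l ∧
        la i * mu j = la j * mu i ∧ la j * mu l = la l * mu j := by
  constructor
  · rintro ⟨hI, hJ⟩
    have hD : disc la mu = 0 := by
      have h27 : (27 : k) ≠ 0 := by
        have : (27 : k) = 3 ^ 3 := by norm_num
        rw [this]; exact pow_ne_zero _ h3
      have := Groth.Agent.S19391.result k la mu
      rw [hI, hJ] at this
      have h0 : 27 * disc la mu = 0 := by rw [this]; ring
      exact (mul_eq_zero.mp h0).resolve_left h27
    unfold disc at hD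
    rw [Finset.prod_eq_zero_iff] at hD
    obtain ⟨⟨i, j⟩, hp, hz⟩ := hD
    simp only [Finset.mem_filter, Finset.mem_univ, true_and] at hp
    have hij : i ≠ j := ne_of_lt hp
    have hprop : la i * mu j = la j * mu i := by
      have := pow_eq_zero_iff (two_ne_zero) |>.mp hz
      linear_combination -this
    obtain ⟨σ, hσ0, hσ1⟩ := exists_perm2 i j hij
    obtain ⟨c, hc1, hc2⟩ := prop_param (la i) (mu i) (la j) (mu j) hprop (hne i)
    have hc : c ≠ 0 := by
      rintro rfl
      rcases hne j with h | h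
      · exact h (by rw [hc1, zero_mul])
      · exact h (by rw [hc2, zero_mul])
    have hI' := invI_of_double (la ∘ σ) (mu ∘ σ) c (by simp [hσ0, hσ1, hc1]) (by simp [hσ0, hσ1, hc2])
    rw [coef_perm, hI] at hI'
    have hX : (la (σ 0) * mu (σ 2) - la (σ 2) * mu (σ 0)) * (la (σ 0) * mu (σ 3) - la (σ 3) * mu (σ 0)) = 0 := by
      have := hI'.symm
      simp only [Function.comp_apply] at this
      rcases mul_eq_zero.mp this with h | h
      · exact absurd (pow_eq_zero_iff two_ne_zero |>.mp h) hc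
      · exact pow_eq_zero_iff two_ne_zero |>.mp h
    rcases mul_eq_zero.mp hX with h | h
    · refine ⟨σ 1, σ 0, σ 2, ?_, ?_, ?_, ?_, ?_⟩
      · exact fun e => by simpa using σ.injective e
      · exact fun e => by simpa using σ.injective e
      · exact fun e => by simpa using σ.injective e
      · rw [hσ0, hσ1]; exact hprop.symm
      · linear_combination h
    · refine ⟨σ 1, σ 0, σ 3, ?_, ?_, ?_, ?_, ?_⟩
      · exact fun e => by simpa using σ.injective e
      · exact fun e => by simpa using σ.injective e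
      · exact fun e => by simpa using σ.injective e
      · rw [hσ0, hσ1]; exact hprop.symm
      · linear_combination h
  · rintro ⟨i, j, l, hij, hjl, hil, hp1, hp2⟩
    obtain ⟨σ, hσ0, hσ1, hσ2⟩ := exists_perm3 i j l hij hjl hil
    obtain ⟨c, hc1, hc2⟩ := prop_param (la i) (mu i) (la j) (mu j) hp1 (hne i)
    have hc : c ≠ 0 := by
      rintro rfl
      rcases hne j with h | h
      · exact h (by rw [hc1, zero_mul])
      · exact h (by rw [hc2, zero_mul])
    have hil' : la i * mu l - la l * mu i = 0 := by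
      rw [hc1, hc2] at hp2
      have : c * (la i * mu l - la l * mu i) = 0 := by linear_combination hp2
      exact (mul_eq_zero.mp this).resolve_left hc
    have hI' := invI_of_double (la ∘ σ) (mu ∘ σ) c (by simp [hσ0, hσ1, hc1]) (by simp [hσ0, hσ1, hc2])
    have hJ' := invJ_of_double (la ∘ σ) (mu ∘ σ) c (by simp [hσ0, hσ1, hc1]) (by simp [hσ0, hσ1, hc2])
    rw [coef_perm] at hI' hJ'
    simp only [Function.comp_apply, hσ0, hσ2, hil'] at hI' hJ'
    constructor
    · rw [hI']; ring
    · rw [hJ']; ring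

end Groth.Agent.S19392
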