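import Groth.Statements.S19393
import Mathlib
import Groth.Agent.Lib.Helper95.BinQuarticB
-- import your own Groth.Agent.* helpers here

set_option autoImplicit false
universe u
open InvQ Groth.Agent.Lib.Helper95

namespace Groth.Agent.S19393

/-- Over a field of characteristic different from 2 and 3, two binary quartics without double zeros
lying in the same fibre of the map to the projective line given by the invariants, i.e. with
proportional (P³, Q²), are equivalent under a linear substitution of the variables up to a nonzero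
constant factor. Stated for split quartics f = ∏_i (μ_i X₀ − λ_i X₁) given by root points (λ_i, μ_i)
≠ (0, 0), with the integral invariants I = 6P, J = 72Q and the discriminant ∏_{i<j} (λ_j μ_i − λ_i
μ_j)²; only the assertion that such a fibre is a single orbit is stated (not its closedness). -/
theorem result (k : Type u) [Field k]
    (h2 : (2 : k) ≠ 0) (h3 : (3 : k) ≠ 0) (la mu la' mu' : Fin 4 → k)
    (hne : ∀ i, la i ≠ 0 ∨ mu i ≠ 0) (hne' : ∀ i, la' i ≠ 0 ∨ mu' i ≠ 0)
    (hd : W4c6intromoduli.disc la mu ≠ 0) (hd' : W4c6intromoduli.disc la' mu' ≠ 0)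
    (h : W4c6intromoduli.invI (W4c6intromoduli.coef la mu) ^ 3
          * W4c6intromoduli.invJ (W4c6intromoduli.coef la' mu') ^ 2 =
        W4c6intromoduli.invI (W4c6intromoduli.coef la' mu') ^ 3
          * W4c6intromoduli.invJ (W4c6intromoduli.coef la mu) ^ 2) :
    ∃ (M : Matrix (Fin 2) (Fin 2) k) (c : k), IsUnit M.det ∧ c ≠ 0 ∧
      W4c6intromoduli.binForm la' mu' =
        MvPolynomial.C c * W4c6intromoduli.subst M (W4c6intromoduli.binForm la mu) := by
  have hD := Groth.Agent.S19391.disc_eq la mu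
  have hD' := Groth.Agent.S19391.disc_eq la' mu'
  have hI := invI_eq la mu
  have hI' := invI_eq la' mu'
  have h27 := Groth.Agent.S19391.result k la mu
  have h27' := Groth.Agent.S19391.result k la' mu'
  have h27ne : (27 : k) ≠ 0 := by
    have e : (27 : k) = 3 ^ 3 := by norm_num
    rw [e]; exact pow_ne_zero _ h3
  have key : W4c6intromoduli.invI (W4c6intromoduli.coef la mu) ^ 3 * W4c6intromoduli.disc la' mu' =
      W4c6intromoduli.invI (W4c6intromoduli.coef la' mu') ^ 3 * W4c6intromoduli.disc la mu := by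
    apply mul_left_cancel₀ h27ne
    linear_combination W4c6intromoduli.invI (W4c6intromoduli.coef la mu) ^ 3 * h27' -
      W4c6intromoduli.invI (W4c6intromoduli.coef la' mu') ^ 3 * h27 - h
  -- nonvanishing of the brackets
  have hd1 := hd
  rw [hD] at hd1
  have hd1' := hd'
  rw [hD'] at hd1'
  simp only [mul_ne_zero_iff, ne_eq, pow_eq_zero_iff, OfNat.ofNat_ne_zero, not_false_eq_true] at hd1 hd1'
  obtain ⟨⟨⟨⟨⟨h01, h02⟩, h03⟩, h12⟩, h13⟩, h23⟩ := hd1
  obtain ⟨⟨⟨⟨⟨h01', h02'⟩, h03'⟩, h12'⟩, h13'⟩, h23'⟩ := hd1'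
  have hcases := six_cases
    ((la 1 * mu 0 - la 0 * mu 1) * (la 3 * mu 2 - la 2 * mu 3))
    ((la 2 * mu 0 - la 0 * mu 2) * (la 3 * mu 1 - la 1 * mu 3))
    ((la 3 * mu 0 - la 0 * mu 3) * (la 2 * mu 1 - la 1 * mu 2))
    ((la' 1 * mu' 0 - la' 0 * mu' 1) * (la' 3 * mu' 2 - la' 2 * mu' 3))
    ((la' 2 * mu' 0 - la' 0 * mu' 2) * (la' 3 * mu' 1 - la' 1 * mu' 3))
    ((la' 3 * mu' 0 - la' 0 * mu' 3) * (la' 2 * mu' 1 - la' 1 * mu' 2))
    (W4c6intromoduli.invI (W4c6intromoduli.coef la mu))
    (W4c6intromoduli.invI (W4c6intromoduli.coef la' mu'))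
    (W4c6intromoduli.disc la mu) (W4c6intromoduli.disc la' mu')
    (by ring) (by ring) hI hI' (by rw [hD]; ring) (by rw [hD']; ring) key
  unfold W4c6intromoduli.binForm
  rw [Fin.prod_univ_four, Fin.prod_univ_four]
  exact quartic_equiv_six (la 0) (la 1) (la 2) (la 3) (mu 0) (mu 1) (mu 2) (mu 3)
    (la' 0) (la' 1) (la' 2) (la' 3) (mu' 0) (mu' 1) (mu' 2) (mu' 3)
    h01 h02 h03 h12 h13 h23 h01' h02' h12' h13' _ _ _ _ _ rfl rfl rfl rfl rfl hcases

end Groth.Agent.S19393
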