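import Groth.Statements.S19394
import Mathlib
-- import your own Groth.Agent.* helpers here

set_option autoImplicit false
universe u
open InvQ

namespace Groth.Agent.S19394


open Matrix

namespace T19394
variable {k : Type*} [Field k] {n : ℕ}

/-- closure relation -/
def InCl (B M : Matrix (Fin n) (Fin n) k) : Prop :=
  ∀ F : MvPolynomial (Fin n × Fin n) k,
    (∀ A : Matrix (Fin n) (Fin n) k, IsUnit A.det →
      MvPolynomial.eval (fun p => (A * B * A⁻¹) p.1 p.2) F = 0) →
    MvPolynomial.eval (fun p => M p.1 p.2) F = 0

lemma InCl.refl (B : Matrix (Fin n) (Fin n) k) : InCl B B := fun F h => by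
  simpa using h 1 (by simp)

/-- conjugated polynomial -/
noncomputable def conjPoly (A : Matrix (Fin n) (Fin n) k) (F : MvPolynomial (Fin n × Fin n) k) :
    MvPolynomial (Fin n × Fin n) k :=
  MvPolynomial.bind₁ (fun p => ((A.map MvPolynomial.C) * Matrix.mvPolynomialX (Fin n) (Fin n) k *
    (A⁻¹.map MvPolynomial.C) : Matrix (Fin n) (Fin n) (MvPolynomial (Fin n × Fin n) k)) p.1 p.2) F

lemma eval_conjPoly (A M : Matrix (Fin n) (Fin n) k) (F : MvPolynomial (Fin n × Fin n) k) :
    MvPolynomial.eval (fun p => M p.1 p.2) (conjPoly A F) =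
      MvPolynomial.eval (fun p => (A * M * A⁻¹) p.1 p.2) F := by
  unfold conjPoly
  have h := MvPolynomial.eval₂Hom_bind₁ (RingHom.id k) (fun p : Fin n × Fin n => M p.1 p.2)
    (fun p => ((A.map MvPolynomial.C) * Matrix.mvPolynomialX (Fin n) (Fin n) k *
    (A⁻¹.map MvPolynomial.C) : Matrix (Fin n) (Fin n) (MvPolynomial (Fin n × Fin n) k)) p.1 p.2) F
  change MvPolynomial.eval _ _ = _ at h
  rw [h]
  refine congrArg (fun x => MvPolynomial.eval x F) (funext fun p => ?_)
  change MvPolynomial.eval _ _ = _
  have : (MvPolynomial.eval (fun p : Fin n × Fin n => M p.1 p.2)).mapMatrix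
      ((A.map MvPolynomial.C) * Matrix.mvPolynomialX (Fin n) (Fin n) k *
        (A⁻¹.map MvPolynomial.C)) = A * M * A⁻¹ := by
    rw [map_mul, map_mul]
    congr 1
    · congr 1
      · ext i j; simp
      · ext i j; simp [Matrix.mvPolynomialX]
    · ext i j; simp
  have h2 := congrFun (congrFun this p.1) p.2
  simpa using h2

lemma InCl.trans {B M M' : Matrix (Fin n) (Fin n) k} (h1 : InCl B M) (h2 : InCl M M') :
    InCl B M' := by
  intro F hF
  apply h2 F
  intro A hA
  have := h1 (conjPoly A F) ?_
  · rwa [eval_conjPoly] at this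
  · intro A' hA'
    rw [eval_conjPoly]
    have h3 := hF (A * A') (by rw [Matrix.det_mul]; exact hA.mul hA')
    have : A * A' * B * (A * A')⁻¹ = A * (A' * B * A'⁻¹) * A⁻¹ := by
      rw [Matrix.mul_inv_rev]
      simp only [Matrix.mul_assoc]
    rwa [this] at h3

lemma InCl_step [Infinite k] (S N P : Matrix (Fin n) (Fin n) k) (hPP : P * P = P)
    (hSP : S * P = P * S) (hPN : P * N = 0) : InCl (S + N) (S + N * (1 - P)) := by
  intro F hF
  let g : Polynomial k := MvPolynomial.aeval (fun p : Fin n × Fin n =>
    Polynomial.C ((S + N * (1 - P)) p.1 p.2) + Polynomial.X * Polynomial.C ((N * P) p.1 p.2)) F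
  have hg : ∀ t : k, g.eval t =
      MvPolynomial.eval (fun p => (S + N * (1 - P) + t • (N * P)) p.1 p.2) F := by
    intro t
    have : (Polynomial.evalRingHom t).comp (MvPolynomial.aeval (fun p : Fin n × Fin n =>
        Polynomial.C ((S + N * (1 - P)) p.1 p.2) + Polynomial.X * Polynomial.C ((N * P) p.1 p.2))
          : MvPolynomial (Fin n × Fin n) k →ₐ[k] Polynomial k).toRingHom =
        MvPolynomial.eval (fun p => (S + N * (1 - P) + t • (N * P)) p.1 p.2) := by
      apply MvPolynomial.ringHom_ext
      · intro r; simp
      · intro p; simp; ring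
    exact congrArg (fun f => f F) this
  have hroot : ∀ t : k, t ≠ 0 → g.eval t = 0 := by
    intro t ht
    rw [hg]
    have h01 : (1 - P) * P = 0 := by rw [sub_mul, one_mul, hPP, sub_self]
    have h10 : P * (1 - P) = 0 := by rw [mul_sub, mul_one, hPP, sub_self]
    have h00 : (1 - P) * (1 - P) = 1 - P := by rw [mul_sub, mul_one, h01, sub_zero]
    have hA : ((1 - P) + t⁻¹ • P) * ((1 - P) + t • P) = 1 := by
      rw [add_mul, mul_add, mul_add, h00, Matrix.mul_smul, h01, Matrix.smul_mul, h10,
        Matrix.smul_mul, Matrix.mul_smul, hPP, smul_smul, inv_mul_cancel₀ ht, one_smul, smul_zero,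
        smul_zero, add_zero, zero_add, sub_add_cancel]
    have hinv := Matrix.inv_eq_right_inv hA
    have h3 := hF ((1 - P) + t⁻¹ • P) (Matrix.isUnit_det_of_right_inverse hA)
    rw [hinv] at h3
    have : ((1 - P) + t⁻¹ • P) * (S + N) * ((1 - P) + t • P) = S + N * (1 - P) + t • (N * P) := by
      have e1 : ((1 - P) + t⁻¹ • P) * S = S * ((1 - P) + t⁻¹ • P) := by
        simp only [mul_add, add_mul, mul_sub, sub_mul, mul_one, one_mul, Matrix.smul_mul,
          Matrix.mul_smul, hSP]
      have e2 : ((1 - P) + t⁻¹ • P) * N = N := by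
        simp only [add_mul, sub_mul, one_mul, Matrix.smul_mul, hPN, smul_zero, sub_zero, add_zero]
      rw [Matrix.mul_add ((1 - P) + t⁻¹ • P) S N, e1, e2, Matrix.add_mul, Matrix.mul_assoc, hA,
        Matrix.mul_one, Matrix.mul_add N, Matrix.mul_smul, add_assoc]
    rwa [this] at h3
  have hg0 : g = 0 := by
    apply Polynomial.eq_zero_of_infinite_isRoot
    apply Set.Infinite.mono (s := {t : k | t ≠ 0})
    · intro t ht; exact hroot t ht
    · exact (Set.finite_singleton (0 : k)).infinite_compl
  have := hg 0
  rw [hg0] at this
  simpa using this.symm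

lemma pow_succ_mul_one_sub (N P : Matrix (Fin n) (Fin n) k) (hPN : P * N = 0) (j : ℕ) :
    (N * (1 - P)) ^ (j + 1) = N ^ (j + 1) * (1 - P) := by
  induction j with
  | zero => simp
  | succ j ih =>
    rw [pow_succ, ih, pow_succ N (j + 1)]
    have : (1 - P) * (N * (1 - P)) = N * (1 - P) := by
      rw [← Matrix.mul_assoc, sub_mul, one_mul, hPN, sub_zero]
    rw [Matrix.mul_assoc, this, Matrix.mul_assoc]

theorem main [IsAlgClosed k] (S : Matrix (Fin n) (Fin n) k)
    (hS : Module.End.IsSemisimple (Matrix.toLin' S)) :
    ∀ (m : ℕ) (N : Matrix (Fin n) (Fin n) k), N ^ (m + 1) = 0 → Commute S N → InCl (S + N) S := by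
  intro m
  induction m with
  | zero =>
    intro N hN _
    have : N = 0 := by simpa using hN
    rw [this, add_zero]
    exact InCl.refl S
  | succ m ih =>
    intro N hN hSN
    let e := Matrix.toLinAlgEquiv' (R := k) (n := Fin n)
    have heS : e S = Matrix.toLin' S := rfl
    set s := e S with hs
    set ν := e N with hν
    have hsν : s * ν = ν * s := by
      rw [hs, hν, ← map_mul, ← map_mul, hSN.eq]
    have hν0 : ν ^ (m + 2) = 0 := by rw [hν, ← map_pow, hN, map_zero]
    let W : Submodule k (Fin n → k) := LinearMap.ker (ν ^ (m + 1))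
    have hW : W ∈ Module.End.invtSubmodule s := by
      rw [Module.End.mem_invtSubmodule]
      intro v hv
      rw [Submodule.mem_comap, LinearMap.mem_ker]
      rw [LinearMap.mem_ker] at hv
      have hc : (ν ^ (m + 1)) * s = s * (ν ^ (m + 1)) := by
        have : Commute s ν := hsν
        exact (this.pow_right (m + 1)).eq.symm
      have := congrArg (fun f => f v) hc
      simp only [Module.End.mul_apply] at this
      rw [this, hv, map_zero]
    rw [heS.symm] at hS
    obtain ⟨C, hC, hWC⟩ := (Module.End.isSemisimple_iff.mp hS) W hW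
    let π : Module.End k (Fin n → k) := C.projection W hWC.symm
    have hππ : π * π = π := (Submodule.isIdempotentElem_projection hWC.symm)
    have hπν : π * ν = 0 := by
      refine LinearMap.ext fun v => ?_
      simp only [Module.End.mul_apply, LinearMap.zero_apply]
      apply Submodule.projection_apply_of_mem_right
      change ν v ∈ LinearMap.ker (ν ^ (m + 1))
      rw [LinearMap.mem_ker, ← Module.End.mul_apply, ← pow_succ, hν0, LinearMap.zero_apply]
    have hsπ : s * π = π * s := by
      refine LinearMap.ext fun v => ?_
      simp only [Module.End.mul_apply]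
      have hv := Submodule.projection_add_projection_eq_self hWC.symm v
      conv_rhs => rw [← hv]
      rw [map_add, map_add]
      have h1 : s (C.projection W hWC.symm v) ∈ C :=
        (Module.End.mem_invtSubmodule_iff_forall_mem_of_mem s).mp hC _ (Submodule.projection_apply_mem _ _)
      have h2 : s (W.projection C hWC.symm.symm v) ∈ W :=
        (Module.End.mem_invtSubmodule_iff_forall_mem_of_mem s).mp hW _ (Submodule.projection_apply_mem _ _)
      change _ = C.projection W hWC.symm _ + C.projection W hWC.symm _
      rw [Submodule.projection_apply_of_mem_left _ h1, Submodule.projection_apply_of_mem_right _ h2,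
        add_zero]
    have hνπ : ν ^ (m + 1) * (1 - π) = 0 := by
      refine LinearMap.ext fun v => ?_
      simp only [Module.End.mul_apply, LinearMap.zero_apply, LinearMap.sub_apply,
        Module.End.one_apply]
      have hv := Submodule.projection_add_projection_eq_self hWC.symm v
      have : v - π v = W.projection C hWC.symm.symm v := by
        rw [sub_eq_iff_eq_add, add_comm]; exact hv.symm
      rw [this]
      have hmem : W.projection C hWC.symm.symm v ∈ W := Submodule.projection_apply_mem _ _
      exact LinearMap.mem_ker.mp hmem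
    -- transport to matrices
    let P : Matrix (Fin n) (Fin n) k := e.symm π
    have heP : e P = π := e.apply_symm_apply π
    have hPP : P * P = P := by
      apply e.injective; rw [map_mul, heP, hππ]
    have hSP : S * P = P * S := by
      apply e.injective; rw [map_mul, map_mul, heP]; exact hsπ
    have hPN : P * N = 0 := by
      apply e.injective; rw [map_mul, heP, map_zero]; exact hπν
    have hNP : N ^ (m + 1) * (1 - P) = 0 := by
      apply e.injective; rw [map_mul, map_pow, map_sub, map_one, heP, map_zero]; exact hνπ
    have step := InCl_step S N P hPP hSP hPN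
    have hN' : (N * (1 - P)) ^ (m + 1) = 0 := by
      rw [pow_succ_mul_one_sub N P hPN, hNP]
    have hcomm : Commute S (N * (1 - P)) := by
      change S * (N * (1 - P)) = N * (1 - P) * S
      rw [← Matrix.mul_assoc, hSN.eq, Matrix.mul_assoc, Matrix.mul_assoc, mul_sub, sub_mul, hSP,
        mul_one, one_mul]
    exact step.trans (ih _ hN' hcomm)

end T19394


/-- Over an algebraically closed field, the semisimple part of a square matrix B lies in the Zariski
closure of the orbit of B under conjugation by the general linear group. The semisimple part is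
given as S with B = S + N, S semisimple, N nilpotent and SN = NS; membership in the Zariski closure
is spelled out as: every polynomial in the n² matrix entries vanishing at all conjugates A B A⁻¹ (A
invertible) vanishes at S. -/
theorem result (k : Type u) [Field k] [IsAlgClosed k] (n : ℕ)
    (B S N : Matrix (Fin n) (Fin n) k) (hS : Module.End.IsSemisimple (Matrix.toLin' S))
    (hN : IsNilpotent N) (hSN : Commute S N) (hB : B = S + N)
    (F : MvPolynomial (Fin n × Fin n) k)
    (hF : ∀ A : Matrix (Fin n) (Fin n) k, IsUnit A.det →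
      MvPolynomial.eval (fun p => (A * B * A⁻¹) p.1 p.2) F = 0) :
    MvPolynomial.eval (fun p => S p.1 p.2) F = 0 := by
  obtain ⟨m, hm⟩ := hN
  have hm' : N ^ (m + 1) = 0 := by rw [pow_succ, hm, zero_mul]
  have h := T19394.main S hS m N hm' hSN
  subst hB
  exact h F hF

end Groth.Agent.S19394
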