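import Groth.Statements.S19395
import Groth.Agent.S19394
import Mathlib

set_option autoImplicit false
universe u
open InvQ

namespace Groth.Agent.S19395

open Matrix Groth.Agent.S19394.T19394

namespace T19395

section A
variable {k : Type u} [Field k] {n : ℕ}

lemma eval_charpoly_coeff (M : Matrix (Fin n) (Fin n) k) (i : ℕ) :
    MvPolynomial.eval (fun p => M p.1 p.2)
      ((Matrix.charpoly (Matrix.mvPolynomialX (Fin n) (Fin n) k)).coeff i) = M.charpoly.coeff i := by
  have h := Matrix.charpoly_map (Matrix.mvPolynomialX (Fin n) (Fin n) k)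
    (MvPolynomial.eval fun p : Fin n × Fin n => M p.1 p.2)
  have h2 : (Matrix.mvPolynomialX (Fin n) (Fin n) k).map
      (MvPolynomial.eval fun p : Fin n × Fin n => M p.1 p.2) = M :=
    Matrix.mvPolynomialX_mapMatrix_eval M
  rw [h2] at h
  rw [h, Polynomial.coeff_map]

lemma charpoly_eq_of_InCl {B M : Matrix (Fin n) (Fin n) k} (h : InCl B M) :
    M.charpoly = B.charpoly := by
  ext i
  have := h ((Matrix.charpoly (Matrix.mvPolynomialX (Fin n) (Fin n) k)).coeff i -
    MvPolynomial.C (B.charpoly.coeff i)) ?_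
  · rw [map_sub, eval_charpoly_coeff, MvPolynomial.eval_C, sub_eq_zero] at this
    exact this
  · intro A hA
    rw [map_sub, eval_charpoly_coeff, MvPolynomial.eval_C, sub_eq_zero]
    have hu : IsUnit A := (Matrix.isUnit_iff_isUnit_det A).mpr hA
    obtain ⟨u, rfl⟩ := hu
    rw [Matrix.charpoly_units_conj]

lemma InCl_conj (S A : Matrix (Fin n) (Fin n) k) (hA : IsUnit A.det) : InCl S (A * S * A⁻¹) :=
  fun F hF => hF A hA


end A

section B

variable {k : Type u} [Field k] [IsAlgClosed k] 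

open Module in
lemma exists_equiv_of_semisimple {V : Type*} [AddCommGroup V] [Module k V] [FiniteDimensional k V]
    (f g : Module.End k V) (hf : f.IsSemisimple) (hg : g.IsSemisimple)
    (hc : f.charpoly = g.charpoly) :
    ∃ e : V ≃ₗ[k] V, ∀ v, e (f v) = g (e v) := by
  classical
  have hdim : ∀ μ : k, finrank k (f.eigenspace μ) = finrank k (g.eigenspace μ) := by
    intro μ
    rw [← hf.isFinitelySemisimple.maxGenEigenspace_eq_eigenspace,
      ← hg.isFinitelySemisimple.maxGenEigenspace_eq_eigenspace,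
      LinearMap.finrank_maxGenEigenspace_eq, LinearMap.finrank_maxGenEigenspace_eq, hc]
  have hIf : DirectSum.IsInternal (fun μ : k => f.eigenspace μ) :=
    DirectSum.isInternal_submodule_of_iSupIndep_of_iSup_eq_top f.eigenspaces_iSupIndep
      hf.iSup_eigenspace_eq_top
  have hIg : DirectSum.IsInternal (fun μ : k => g.eigenspace μ) :=
    DirectSum.isInternal_submodule_of_iSupIndep_of_iSup_eq_top g.eigenspaces_iSupIndep
      hg.iSup_eigenspace_eq_top
  let vf : ∀ μ : k, Basis (Fin (finrank k (f.eigenspace μ))) k (f.eigenspace μ) :=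
    fun μ => Module.finBasisOfFinrankEq k _ rfl
  let vg : ∀ μ : k, Basis (Fin (finrank k (f.eigenspace μ))) k (g.eigenspace μ) :=
    fun μ => Module.finBasisOfFinrankEq k _ (hdim μ).symm
  let bf := hIf.collectedBasis vf
  let bg := hIg.collectedBasis vg
  let e : V ≃ₗ[k] V := bf.equiv bg (Equiv.refl _)
  refine ⟨e, ?_⟩
  have : (e : V →ₗ[k] V) ∘ₗ f = g ∘ₗ (e : V →ₗ[k] V) := by
    apply bf.ext
    intro a
    have h1 : f (bf a) = a.1 • bf a :=
      Module.End.mem_eigenspace_iff.mp (hIf.collectedBasis_mem vf a)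
    have h2 : g (bg a) = a.1 • bg a :=
      Module.End.mem_eigenspace_iff.mp (hIg.collectedBasis_mem vg a)
    have h3 : e (bf a) = bg a := by
      simp [e]
    simp only [LinearMap.comp_apply, LinearEquiv.coe_coe]
    rw [h1, map_smul, h3, h2]
  intro v
  exact congrArg (fun φ => φ v) this

lemma exists_conj_of_semisimple {n : ℕ} (S₁ S₂ : Matrix (Fin n) (Fin n) k)
    (h₁ : Module.End.IsSemisimple (Matrix.toLin' S₁))
    (h₂ : Module.End.IsSemisimple (Matrix.toLin' S₂)) (hc : S₁.charpoly = S₂.charpoly) :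
    ∃ A : Matrix (Fin n) (Fin n) k, IsUnit A.det ∧ A * S₁ * A⁻¹ = S₂ := by
  obtain ⟨e, he⟩ := exists_equiv_of_semisimple (Matrix.toLin' S₁) (Matrix.toLin' S₂) h₁ h₂
    (by rw [Matrix.charpoly_toLin', Matrix.charpoly_toLin', hc])
  let A : Matrix (Fin n) (Fin n) k := LinearMap.toMatrix' (e : (Fin n → k) →ₗ[k] (Fin n → k))
  let A' : Matrix (Fin n) (Fin n) k := LinearMap.toMatrix' (e.symm : (Fin n → k) →ₗ[k] (Fin n → k))
  have hAA' : A * A' = 1 := by
    rw [← LinearMap.toMatrix'_comp]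
    have : (e : (Fin n → k) →ₗ[k] (Fin n → k)) ∘ₗ (e.symm : (Fin n → k) →ₗ[k] (Fin n → k)) =
        LinearMap.id := by
      ext v; simp
    rw [this, LinearMap.toMatrix'_id]
  have hA : IsUnit A.det := Matrix.isUnit_det_of_right_inverse hAA'
  have hcomm : A * S₁ = S₂ * A := by
    have h1 : A * S₁ = LinearMap.toMatrix' ((e : (Fin n → k) →ₗ[k] (Fin n → k)) ∘ₗ Matrix.toLin' S₁) := by
      rw [LinearMap.toMatrix'_comp, LinearMap.toMatrix'_toLin']
    have h2 : S₂ * A = LinearMap.toMatrix' (Matrix.toLin' S₂ ∘ₗ (e : (Fin n → k) →ₗ[k] (Fin n → k))) := by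
      rw [LinearMap.toMatrix'_comp, LinearMap.toMatrix'_toLin']
    rw [h1, h2]
    congr 1
    exact LinearMap.ext fun v => he v
  refine ⟨A, hA, ?_⟩
  rw [hcomm, Matrix.mul_assoc, Matrix.mul_nonsing_inv A hA, Matrix.mul_one]


end B

end T19395

/-- Over an algebraically closed field, the Zariski closures of the conjugation orbits of two square
matrices B₁, B₂ meet if and only if their semisimple parts lie in one orbit. The semisimple parts
are given as S_i with B_i = S_i + N_i, S_i semisimple, N_i nilpotent, S_i N_i = N_i S_i; a common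
point of the two closures is a matrix C at which every polynomial in the matrix entries vanishing on
the whole orbit of B₁, and every one vanishing on the whole orbit of B₂, vanishes. -/
theorem result (k : Type u) [Field k] [IsAlgClosed k]
    (n : ℕ) (B₁ S₁ N₁ B₂ S₂ N₂ : Matrix (Fin n) (Fin n) k)
    (hS₁ : Module.End.IsSemisimple (Matrix.toLin' S₁)) (hN₁ : IsNilpotent N₁) (hc₁ : Commute S₁ N₁)
    (hB₁ : B₁ = S₁ + N₁)
    (hS₂ : Module.End.IsSemisimple (Matrix.toLin' S₂)) (hN₂ : IsNilpotent N₂) (hc₂ : Commute S₂ N₂)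
    (hB₂ : B₂ = S₂ + N₂) :
    (∃ C : Matrix (Fin n) (Fin n) k,
        (∀ F : MvPolynomial (Fin n × Fin n) k,
          (∀ A : Matrix (Fin n) (Fin n) k, IsUnit A.det →
            MvPolynomial.eval (fun p => (A * B₁ * A⁻¹) p.1 p.2) F = 0) →
          MvPolynomial.eval (fun p => C p.1 p.2) F = 0) ∧
        (∀ F : MvPolynomial (Fin n × Fin n) k,
          (∀ A : Matrix (Fin n) (Fin n) k, IsUnit A.det →
            MvPolynomial.eval (fun p => (A * B₂ * A⁻¹) p.1 p.2) F = 0) →
          MvPolynomial.eval (fun p => C p.1 p.2) F = 0)) ↔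
      ∃ A : Matrix (Fin n) (Fin n) k, IsUnit A.det ∧ A * S₁ * A⁻¹ = S₂ := by
  constructor
  · rintro ⟨C, hC₁, hC₂⟩
    have e1 : C.charpoly = B₁.charpoly := T19395.charpoly_eq_of_InCl (B := B₁) (M := C) hC₁
    have e2 : C.charpoly = B₂.charpoly := T19395.charpoly_eq_of_InCl (B := B₂) (M := C) hC₂
    have e3 : S₁.charpoly = B₁.charpoly := T19395.charpoly_eq_of_InCl (B := B₁) (M := S₁)
      (fun F hF => Groth.Agent.S19394.result k n B₁ S₁ N₁ hS₁ hN₁ hc₁ hB₁ F hF)
    have e4 : S₂.charpoly = B₂.charpoly := T19395.charpoly_eq_of_InCl (B := B₂) (M := S₂)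
      (fun F hF => Groth.Agent.S19394.result k n B₂ S₂ N₂ hS₂ hN₂ hc₂ hB₂ F hF)
    exact T19395.exists_conj_of_semisimple S₁ S₂ hS₁ hS₂ (by rw [e3, ← e1, e2, ← e4])
  · rintro ⟨A, hA, hAS⟩
    refine ⟨S₂, ?_, ?_⟩
    · have h1 : InCl B₁ S₁ :=
        fun F hF => Groth.Agent.S19394.result k n B₁ S₁ N₁ hS₁ hN₁ hc₁ hB₁ F hF
      have h2 : InCl S₁ S₂ := hAS ▸ T19395.InCl_conj S₁ A hA
      exact h1.trans h2
    · exact fun F hF => Groth.Agent.S19394.result k n B₂ S₂ N₂ hS₂ hN₂ hc₂ hB₂ F hF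

end Groth.Agent.S19395
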