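import Groth.Statements.S19400
import Groth.Agent.Lib.Helper84.GITPoints
-- import your own Groth.Agent.* helpers here

set_option autoImplicit false
universe u
open GIT

namespace Groth.Agent.S19400

/-- For a reductive group G (here: every finite-dimensional representation completely reducible, i.e.
linearly reductive; any characteristic) acting on an affine variety X = Spec R over an algebraically
closed field with all orbits of closed points closed, the morphism X → Y = Spec R^G is a geometric
quotient; in particular it is surjective on closed points and its fibre over every closed point of Y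
is a single orbit. This row states those two point-set assertions in coaction form: G = Spec A with
A a finitely generated commutative Hopf algebra whose finite-dimensional comodules are semisimple, R
of finite type with a multiplicative unital coaction, points as k-algebra maps. The published
statement takes X to be a variety (reduced and irreducible); this row does not assume R reduced or a
domain. -/
theorem result (k : Type u) [Field k] [IsAlgClosed k]
    (A : Type u) [CommRing A] [HopfAlgebra k A] [Algebra.FiniteType k A]
    (hG : HopfRep.IsLinearlyReductive k A)
    (R : Type u) [CommRing R] [Algebra k R] [Algebra.FiniteType k R]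
    [HopfRep.Comod k A R] [GLin.IsCoactAlg k A R]
    (hcl : ∀ x : R →ₐ[k] k, GLin.IsClosedOrbit k A x)
    (y : GLin.invariants k A R →ₐ[k] k) :
    (∃ x : R →ₐ[k] k, x.comp (GLin.invariants k A R).val = y) ∧
      ∀ x x' : R →ₐ[k] k, x.comp (GLin.invariants k A R).val = y →
        x'.comp (GLin.invariants k A R).val = y →
          ∃ g : A →ₐ[k] k, x' = GLin.actPt k g x := by
  refine ⟨Groth.Agent.Lib.Helper84.GITPoints.exists_point_over hG y, ?_⟩
  intro x x' hx hx'
  obtain ⟨z, hz, hz'⟩ := (Groth.Agent.S19602.result k A hG R x x').mp (hx.trans hx'.symm)
  obtain ⟨g, hg⟩ := Groth.Agent.Lib.Helper84.GITPoints.exists_actPt_of_isClosedOrbit x z (hcl x) hz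
  obtain ⟨g', hg'⟩ := Groth.Agent.Lib.Helper84.GITPoints.exists_actPt_of_isClosedOrbit x' z (hcl x') hz'
  exact Groth.Agent.Lib.Helper84.GITPoints.exists_actPt_of_actPt_eq g g' x x' (hg.symm.trans hg')

end Groth.Agent.S19400
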