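import Groth.Statements.S19403
import Mathlib
import Groth.Agent.H40.EqZMT1
import Groth.Agent.H40.EqZMT2
import Groth.Agent.H40.EqZMT3
import Groth.Agent.Lib.Helper84.HopfCartier

set_option autoImplicit false
universe u
open TensorProduct
open GLin

namespace Groth.Agent.S19403

/-- The equivariant form of Zariski's Main Theorem. Let k be an algebraically closed field of
characteristic zero, A a finitely generated commutative Hopf algebra over k all of whose
finite-dimensional comodules are semisimple (a reductive group G), R and S finitely generated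
commutative k-algebras with multiplicative A-coactions (G acting on the affine schemes X = Spec R, Y
= Spec S), and S → R an algebra map compatible with the coactions (a G-morphism φ : X → Y) which is
quasi-finite. Then there exist a finitely generated commutative k-algebra B with a multiplicative
A-coaction (an affine G-scheme Z), an algebra map ψ : S → B compatible with the coactions and
finite, and an algebra map i : B → R compatible with the coactions such that Spec R → Spec B is an
open immersion, with i ∘ ψ the given map S → R (φ factors as an equivariant open immersion followed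
by a finite G-morphism). -/
theorem result (k : Type u) [Field k] [IsAlgClosed k] [CharZero k]
    (A : Type u) [CommRing A] [HopfAlgebra k A] [Algebra.FiniteType k A] (hG : HopfRep.IsLinearlyReductive k A)
    (S : Type u) [CommRing S] [Algebra k S] [Algebra.FiniteType k S] [HopfRep.Comod k A S] [GLin.IsCoactAlg k A S]
    (R : Type u) [CommRing R] [Algebra k R] [Algebra.FiniteType k R] [HopfRep.Comod k A R] [GLin.IsCoactAlg k A R]
    [Algebra S R] [IsScalarTower k S R] [Algebra.QuasiFinite S R]
    (hequiv : (∀ s : S, HopfRep.Comod.coact (k := k) (A := A) (algebraMap S R s) =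
      Algebra.TensorProduct.map (IsScalarTower.toAlgHom k S R) (AlgHom.id k A) (HopfRep.Comod.coact (k := k) (A := A) s))) :
    ∃ (B : Type u) (_ : CommRing B) (_ : Algebra k B) (_ : HopfRep.Comod k A B) (_ : GLin.IsCoactAlg k A B),
      Algebra.FiniteType k B ∧
      ∃ (ψ : S →ₐ[k] B) (i : B →ₐ[k] R),
        (∀ s : S, HopfRep.Comod.coact (k := k) (A := A) (ψ s) =
        Algebra.TensorProduct.map ψ (AlgHom.id k A) (HopfRep.Comod.coact (k := k) (A := A) s)) ∧
        (∀ s : B, HopfRep.Comod.coact (k := k) (A := A) (i s) =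
        Algebra.TensorProduct.map i (AlgHom.id k A) (HopfRep.Comod.coact (k := k) (A := A) s)) ∧
        i.comp ψ = IsScalarTower.toAlgHom k S R ∧ ψ.toRingHom.Finite ∧
        AlgebraicGeometry.IsOpenImmersion (AlgebraicGeometry.Spec.map (CommRingCat.ofHom i.toRingHom)) := by
  classical
  have hred : IsReduced A := Groth.Agent.Lib.Helper84.HopfCartier.isReduced_of_charZero k A
  have hA : ∀ a : A, (∀ g : A →ₐ[k] k, g a = 0) → a = 0 :=
    fun a h => Groth.Agent.H40.EqZMT2.eq_zero_of_forall_algHom k A a h
  have hft : Algebra.FiniteType S R := Algebra.FiniteType.of_restrictScalars_finiteType k S R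
  obtain ⟨t, htspan, ht⟩ := Groth.Agent.H40.EqZMT1.exists_cover S R
  obtain ⟨gen, hgen⟩ := (Algebra.FiniteType.out : (⊤ : Subalgebra k R).FG)
  -- exponents
  have hex : ∀ r x : R, ∃ m : ℕ, r ∈ t → IsIntegral S (r ^ m * x) := by
    intro r x
    by_cases hr : r ∈ t
    · obtain ⟨m, hm⟩ := (ht r hr).2 x
      exact ⟨m, fun _ => hm⟩
    · exact ⟨0, fun h => absurd h hr⟩
  choose m hm using hex
  let F : Finset R := t ∪ (t ×ˢ gen).image (fun p => p.1 ^ m p.1 p.2 * p.2)
  have hFint : ∀ f ∈ F, IsIntegral S f := by
    intro f hf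
    rcases Finset.mem_union.mp hf with hf | hf
    · exact (ht f hf).1
    · obtain ⟨p, hp, rfl⟩ := Finset.mem_image.mp hf
      exact hm p.1 p.2 (Finset.mem_product.mp hp).1
  obtain ⟨W, hWfin, hFW, hW⟩ :=
    Groth.Agent.H40.EqZMT2.exists_finite_subcomod_subset (k := k) (A := A) F
  let Bbar : Submodule k R := Subalgebra.toSubmodule ((integralClosure S R).restrictScalars k)
  have hBbar : HopfRep.IsSubcomod (k := k) (A := A) Bbar :=
    Groth.Agent.H40.EqZMT3.isSubcomod_integralClosure hA hequiv
  let V : Submodule k R := W ⊓ Bbar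
  have hV : HopfRep.IsSubcomod (k := k) (A := A) V :=
    Groth.Agent.H40.EqZMT2.isSubcomod_inf W Bbar hW hBbar
  have hFV : (F : Set R) ⊆ V := fun f hf => ⟨hFW hf, hFint f hf⟩
  have hVfin : Module.Finite k V := Submodule.finiteDimensional_inf_left W Bbar
  obtain ⟨G, hG⟩ : V.FG := (Submodule.fg_iff_finiteDimensional V).mpr hVfin
  have hGV : (G : Set R) ⊆ V := by
    intro x hx
    rw [← hG]
    exact Submodule.subset_span hx
  let B' : Subalgebra S R := Algebra.adjoin S (G : Set R)
  let B : Subalgebra k R := B'.restrictScalars k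
  have hVB : (V : Set R) ⊆ B' := by
    intro x hx
    have hx' : x ∈ Submodule.span k (G : Set R) := by rw [hG]; exact hx
    have hle : Submodule.span k (G : Set R) ≤ Subalgebra.toSubmodule B :=
      Submodule.span_le.mpr (fun y hy => Algebra.subset_adjoin (R := S) hy)
    exact hle hx'
  have hB := Groth.Agent.H40.EqZMT3.adjoin_stable hequiv V hV (G : Set R) hGV hVB
  let c : HopfRep.Comod k A ↥B := Groth.Agent.H40.EqZMT3.subComod B hB
  have hc : @GLin.IsCoactAlg k _ A _ _ ↥B _ _ c := Groth.Agent.H40.EqZMT3.subComod_isCoactAlg B hB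
  have hfg : (Subalgebra.toSubmodule B').FG :=
    fg_adjoin_of_finite G.finite_toSet (fun x hx => (hGV hx).2)
  let ψ : S →ₐ[k] ↥B := AlgHom.codRestrict (IsScalarTower.toAlgHom k S R) B
    (fun s => B'.algebraMap_mem s)
  have hψfin : ψ.toRingHom.Finite := by
    have hfin : Module.Finite S ↥(Subalgebra.toSubmodule B') := Module.Finite.iff_fg.mpr hfg
    let _ : Algebra S ↥B := ψ.toRingHom.toAlgebra
    let e : ↥(Subalgebra.toSubmodule B') →ₗ[S] ↥B :=
      { toFun := fun x => ⟨x.1, x.2⟩
        map_add' := fun x y => rfl
        map_smul' := fun s x => by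
          apply Subtype.ext
          show s • x.1 = (ψ s : R) * x.1
          rw [Algebra.smul_def]
          rfl }
    have he : Function.Surjective e := fun b => ⟨⟨b.1, b.2⟩, rfl⟩
    exact Module.Finite.of_surjective e he
  refine ⟨↥B, inferInstance, inferInstance, c, hc, ?_, ψ, B.val, ?_, ?_, ?_, hψfin, ?_⟩
  · rw [← RingHom.finiteType_algebraMap, ← ψ.comp_algebraMap]
    exact RingHom.FiniteType.comp hψfin.finiteType
      (RingHom.finiteType_algebraMap.mpr inferInstance)
  · intro s
    apply Groth.Agent.H40.EqZMT3.tmap_injective (A := A) B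
    have h1 := Groth.Agent.H40.EqZMT3.tmap_subCoact B hB (ψ s)
    have h2 : Groth.Agent.H40.EqZMT3.tmap (A := A) B
        (Algebra.TensorProduct.map ψ (AlgHom.id k A) (HopfRep.Comod.coact (k := k) (A := A) s)) =
        Algebra.TensorProduct.map (IsScalarTower.toAlgHom k S R) (AlgHom.id k A)
          (HopfRep.Comod.coact (k := k) (A := A) s) := by
      generalize HopfRep.Comod.coact (k := k) (A := A) s = t
      induction t using TensorProduct.induction_on with
      | zero => simp
      | tmul a b => rfl
      | add a b ha hb => rw [map_add, map_add, map_add, ha, hb]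
    rw [h2, ← hequiv]
    exact h1
  · intro b
    exact (Groth.Agent.H40.EqZMT3.tmap_subCoact B hB b).symm
  · apply AlgHom.ext
    intro s
    rfl
  · refine Groth.Agent.H40.EqZMT1.isOpenImmersion_of_cover B.val.toRingHom Subtype.val_injective
      {b : ↥B | b.1 ∈ t} ?_ ?_
    · rw [← htspan]
      congr 1
      ext x
      constructor
      · rintro ⟨b, hb, rfl⟩
        exact hb
      · intro hx
        exact ⟨⟨x, hVB (hFV (Finset.mem_union_left _ hx))⟩, hx, rfl⟩
    · intro r hr x
      obtain ⟨n, hn⟩ := Groth.Agent.H40.EqZMT1.exists_pow_mul_mem B r.1 r.2 (gen : Set R) hgen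
        (fun y hy => ⟨m r.1 y, hVB (hFV (Finset.mem_union_right _
          (Finset.mem_image.mpr ⟨(r.1, y), Finset.mem_product.mpr ⟨hr, hy⟩, rfl⟩)))⟩) x
      exact ⟨n, ⟨_, hn⟩, rfl⟩

end Groth.Agent.S19403
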