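import Groth.Statements.S19406
import Groth.Agent.Lib.Helper59.OrbitFF
import Groth.Agent.Lib.Helper59.EigenLift

set_option autoImplicit false
universe u
open TensorProduct
open GLin

namespace Groth.Agent.S19406

/-- Let k be an algebraically closed field of characteristic zero, A a finitely generated commutative
Hopf algebra over k which is an integral domain and all of whose finite-dimensional comodules are
semisimple (a connected reductive group G), R a reduced finitely generated commutative k-algebra
with a multiplicative A-coaction (G acting on the affine variety X = Spec R), and χ a group-like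
element of A (a character of G). Then there is a set E of G-invariant functions on X such that, for
every k-point x of X whose orbit is closed, χ − 1 lies in the stabilizer ideal of x (χ is trivial on
the stabilizer of x) if and only if some member of E does not vanish at x: the set of points of X//G
over which the closed orbit has stabilizer on which χ is trivial is open. (The published statement
allows any reductive G; this row assumes G connected, the case the source's argument covers.) -/
theorem result (k : Type u) [Field k] [IsAlgClosed k] [CharZero k]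
    (A : Type u) [CommRing A] [IsDomain A] [HopfAlgebra k A] [Algebra.FiniteType k A] (hG : HopfRep.IsLinearlyReductive k A)
    (R : Type u) [CommRing R] [IsReduced R] [Algebra k R] [Algebra.FiniteType k R] [HopfRep.Comod k A R] [GLin.IsCoactAlg k A R]
    (χ : A) (hχ : IsGroupLikeElem k χ) :
    ∃ E : Set R, E ⊆ GLin.invariants k A R ∧
      ∀ x : R →ₐ[k] k, GLin.IsClosedOrbit k A x →
        (χ - 1 ∈ GLin.stabIdeal k A x ↔ ∃ f ∈ E, x f ≠ 0) := by
  classical
  refine ⟨{f | f ∈ GLin.invariants k A R ∧
    ∃ F ∈ HopfRep.eigenspace k A R χ, ∃ F' : R, f = F * F'}, fun f hf => hf.1, ?_⟩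
  intro x hx
  have hcoχ : ∀ F : R, F ∈ HopfRep.eigenspace k A R χ → GLin.orbitHom k A x F = x F • χ := by
    intro F hF
    have hF' : HopfRep.Comod.coact (k := k) (A := A) F = F ⊗ₜ[k] χ := hF
    unfold GLin.orbitHom
    simp only [AlgHom.comp_apply, GLin.coactAlgHom_apply, hF', Algebra.TensorProduct.map_tmul,
      AlgHom.id_apply]
    exact Algebra.TensorProduct.lid_tmul _ _
  constructor
  · intro hmem
    have h1 := Groth.Agent.Lib.Helper59.OrbitFF.mem_range_orbitHom_of_sub_one_mem_stabIdeal
      x hx hχ hmem
    have hχ' : IsGroupLikeElem k (HopfAlgebra.antipode k χ) := hχ.antipode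
    have hmem' : HopfAlgebra.antipode k χ - 1 ∈ GLin.stabIdeal k A x := by
      have h : HopfAlgebra.antipode k χ - 1 = -(HopfAlgebra.antipode k χ) * (χ - 1) := by
        rw [mul_sub, neg_mul, hχ.antipode_mul_cancel]
        ring
      rw [h]
      exact Ideal.mul_mem_left _ _ hmem
    have h2 := Groth.Agent.Lib.Helper59.OrbitFF.mem_range_orbitHom_of_sub_one_mem_stabIdeal
      x hx hχ' hmem'
    have hcm := Groth.Agent.Lib.Helper59.OrbitFF.isComodHom_orbitHom (k := k) (A := A) x
    obtain ⟨F, hF, hFχ⟩ := Groth.Agent.Lib.Helper59.LinRed.exists_eigen_preimage hG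
      (GLin.orbitHom k A x).toLinearMap hcm (a := χ) (w := χ) hχ.comul_eq_tmul_self
      (by obtain ⟨r, hr⟩ := h1; exact ⟨r, hr⟩)
    obtain ⟨F', hF', hF'χ⟩ := Groth.Agent.Lib.Helper59.LinRed.exists_eigen_preimage hG
      (GLin.orbitHom k A x).toLinearMap hcm (a := HopfAlgebra.antipode k χ)
      (w := HopfAlgebra.antipode k χ) hχ'.comul_eq_tmul_self
      (by obtain ⟨r, hr⟩ := h2; exact ⟨r, hr⟩)
    have hxF : x F = 1 := by
      have := Groth.Agent.Lib.Helper59.OrbitFF.counit_orbitHom (k := k) (A := A) x F
      rw [← this]
      change Coalgebra.counit ((GLin.orbitHom k A x).toLinearMap F) = 1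
      rw [hFχ, hχ.counit_eq_one]
    have hxF' : x F' = 1 := by
      have := Groth.Agent.Lib.Helper59.OrbitFF.counit_orbitHom (k := k) (A := A) x F'
      rw [← this]
      change Coalgebra.counit ((GLin.orbitHom k A x).toLinearMap F') = 1
      rw [hF'χ, hχ'.counit_eq_one]
    refine ⟨F * F', ⟨?_, F, hF, F', rfl⟩, ?_⟩
    · rw [GLin.mem_invariants_iff, GLin.IsCoactAlg.coact_mul]
      have e1 : HopfRep.Comod.coact (k := k) (A := A) F = F ⊗ₜ[k] χ := hF
      have e2 : HopfRep.Comod.coact (k := k) (A := A) F' = F' ⊗ₜ[k] HopfAlgebra.antipode k χ := hF'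
      rw [e1, e2, Algebra.TensorProduct.tmul_mul_tmul, hχ.mul_antipode_cancel]
    · rw [map_mul, hxF, hxF', mul_one]
      exact one_ne_zero
  · rintro ⟨f, ⟨-, F, hF, F', rfl⟩, hne⟩
    have hxF : x F ≠ 0 := by
      rw [map_mul] at hne
      exact left_ne_zero_of_mul hne
    have h2 : GLin.orbitHom k A x (F - algebraMap k R (x F)) ∈ GLin.stabIdeal k A x := by
      apply Ideal.mem_map_of_mem
      rw [RingHom.mem_ker, map_sub, AlgHom.commutes]
      simp
    rw [map_sub, hcoχ F hF, AlgHom.commutes, Algebra.algebraMap_eq_smul_one, ← smul_sub] at h2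
    have h3 := Ideal.mul_mem_left _ (algebraMap k A (x F)⁻¹) h2
    rw [← Algebra.smul_def, smul_smul, inv_mul_cancel₀ hxF, one_smul] at h3
    exact h3

end Groth.Agent.S19406
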