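import Groth.Statements.S19409
import Groth.Agent.S19424
import Mathlib

set_option autoImplicit false
universe u
open CategoryTheory MonoidalCategory CartesianMonoidalCategory MonObj AlgebraicGeometry Topology
open NRQuot

namespace Groth.Agent.S19409

set_option linter.unusedSectionVars false
set_option linter.style.haveILetI false

namespace T19409

section TopPart
open Set Topology Set.Notation


section Top
variable {X : Type*} [TopologicalSpace X]

/-- generic decidedness of `s` relative to `Z` -/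
def GenDec (Z s : Set X) : Prop :=
  ∀ Ω : Set X, IsOpen Ω → (Ω ∩ Z).Nonempty →
    ∃ Ω' : Set X, IsOpen Ω' ∧ Ω' ⊆ Ω ∧ (Ω' ∩ Z).Nonempty ∧ (Ω' ∩ Z ⊆ s ∨ Ω' ∩ Z ⊆ sᶜ)

lemma genDec_of_isOpen (Z : Set X) {U : Set X} (hU : IsOpen U) : GenDec Z U := by
  intro Ω hΩ hne
  by_cases h : (Ω ∩ U ∩ Z).Nonempty
  · exact ⟨Ω ∩ U, hΩ.inter hU, inter_subset_left, h, Or.inl fun r hr => hr.1.2⟩
  · refine ⟨Ω, hΩ, subset_rfl, hne, Or.inr fun r hr hrU => h ⟨r, ⟨hr.1, hrU⟩, hr.2⟩⟩

lemma GenDec.compl {Z s : Set X} (h : GenDec Z s) : GenDec Z sᶜ := by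
  intro Ω hΩ hne
  obtain ⟨Ω', h1, h2, h3, h4⟩ := h Ω hΩ hne
  refine ⟨Ω', h1, h2, h3, ?_⟩
  rcases h4 with h4 | h4
  · exact Or.inr (by rwa [compl_compl])
  · exact Or.inl h4

lemma GenDec.union {Z s t : Set X} (hs : GenDec Z s) (ht : GenDec Z t) : GenDec Z (s ∪ t) := by
  intro Ω hΩ hne
  obtain ⟨Ω₁, h1, h2, h3, h4⟩ := hs Ω hΩ hne
  rcases h4 with h4 | h4
  · exact ⟨Ω₁, h1, h2, h3, Or.inl fun r hr => Or.inl (h4 hr)⟩
  · obtain ⟨Ω₂, g1, g2, g3, g4⟩ := ht Ω₁ h1 h3
    rcases g4 with g4 | g4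
    · exact ⟨Ω₂, g1, g2.trans h2, g3, Or.inl fun r hr => Or.inr (g4 hr)⟩
    · refine ⟨Ω₂, g1, g2.trans h2, g3, Or.inr fun r hr hrst => ?_⟩
      rcases hrst with hrs | hrt
      · exact h4 ⟨g2 hr.1, hr.2⟩ hrs
      · exact g4 hr hrt

lemma genDec_of_isConstructible (Z : Set X) {s : Set X} (hs : IsConstructible s) : GenDec Z s := by
  induction hs using IsConstructible.empty_union_induction with
  | open_retrocompact U hU _ => exact genDec_of_isOpen Z hU
  | union s _ t _ hs ht => exact hs.union ht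
  | compl s _ hs => exact hs.compl

lemma genDec_of_isLocallyConstructible (Z : Set X) {s : Set X} (hs : IsLocallyConstructible s) :
    GenDec Z s := by
  intro Ω hΩ hne
  obtain ⟨q, hqΩ, hqZ⟩ := hne
  obtain ⟨N, hN, hNo, hNc⟩ := hs q
  have hqN : q ∈ N := mem_of_mem_nhds hN
  obtain ⟨Ω', h1, h2, h3, h4⟩ := genDec_of_isConstructible (N ↓∩ Z) hNc (N ↓∩ Ω)
    (hΩ.preimage continuous_subtype_val) ⟨⟨q, hqN⟩, hqΩ, hqZ⟩
  refine ⟨Subtype.val '' Ω', hNo.isOpenMap_subtype_val _ h1, ?_, ?_, ?_⟩
  · rintro _ ⟨r, hr, rfl⟩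
    exact h2 hr
  · obtain ⟨r, hr1, hr2⟩ := h3
    exact ⟨r.1, ⟨r, hr1, rfl⟩, hr2⟩
  · rcases h4 with h4 | h4
    · left
      rintro _ ⟨⟨r, hr, rfl⟩, hrZ⟩
      exact h4 ⟨hr, hrZ⟩
    · right
      rintro _ ⟨⟨r, hr, rfl⟩, hrZ⟩
      exact h4 ⟨hr, hrZ⟩

/-- if `s` is dense in `Z`, it contains a nonempty relatively open part of `Z`. -/
lemma GenDec.exists_open_subset {Z s : Set X} (h : GenDec Z s) (hsZ : s ⊆ Z) (hZs : Z ⊆ closure s)
    (Ω : Set X) (hΩ : IsOpen Ω) (hne : (Ω ∩ Z).Nonempty) :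
    ∃ Ω' : Set X, IsOpen Ω' ∧ Ω' ⊆ Ω ∧ (Ω' ∩ Z).Nonempty ∧ Ω' ∩ Z ⊆ s := by
  obtain ⟨Ω', h1, h2, h3, h4⟩ := h Ω hΩ hne
  refine ⟨Ω', h1, h2, h3, ?_⟩
  rcases h4 with h4 | h4
  · exact h4
  · exfalso
    obtain ⟨r, hr1, hr2⟩ := h3
    obtain ⟨r', hr'1, hr'2⟩ := mem_closure_iff.mp (hZs hr2) Ω' h1 hr1
    exact h4 ⟨hr'1, hsZ hr'2⟩ hr'2

/-- two generically decided dense subsets of a closed set in a Jacobson space share a closed point -/
lemma exists_closedPoint_inter [JacobsonSpace X] {Z s t : Set X} (hZ : IsClosed Z)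
    (hne : Z.Nonempty) (hs : GenDec Z s) (ht : GenDec Z t)
    (hsZ : s ⊆ Z) (hZs : Z ⊆ closure s) (htZ : t ⊆ Z) (hZt : Z ⊆ closure t) :
    ∃ c ∈ s ∩ t, IsClosed ({c} : Set X) := by
  obtain ⟨Ω₁, h1, -, h3, h4⟩ := hs.exists_open_subset hsZ hZs univ isOpen_univ (by simpa using hne)
  obtain ⟨Ω₂, g1, g2, g3, g4⟩ := ht.exists_open_subset htZ hZt Ω₁ h1 h3
  obtain ⟨c, hc1, hc2⟩ := nonempty_inter_closedPoints g3
    (g1.isLocallyClosed.inter hZ.isLocallyClosed)
  exact ⟨c, ⟨h4 ⟨g2 hc1.1, hc1.2⟩, g4 hc1⟩, hc2⟩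

/-- if every closed point of the closed set `Z` lies in the generically decided `s`, then `Z ⊆ s` -/
lemma subset_of_closedPoints_subset [JacobsonSpace X] {Z s : Set X} (hZ : IsClosed Z)
    (hs : ∀ Z' : Set X, GenDec Z' s) (hcl : ∀ c ∈ Z, IsClosed ({c} : Set X) → c ∈ s) : Z ⊆ s := by
  by_contra hne
  rw [not_subset] at hne
  obtain ⟨r, hrZ, hrs⟩ := hne
  set T := Z \ s with hT
  have hTne : (univ ∩ closure T).Nonempty := ⟨r, mem_univ _, subset_closure ⟨hrZ, hrs⟩⟩
  obtain ⟨Ω', h1, -, h3, h4⟩ := hs (closure T) univ isOpen_univ hTne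
  have hTZ : closure T ⊆ Z := closure_minimal sdiff_subset hZ
  have h5 : Ω' ∩ closure T ⊆ sᶜ := by
    rcases h4 with h4 | h4
    · exfalso
      obtain ⟨q, hq1, hq2⟩ := h3
      obtain ⟨q', hq'1, hq'2⟩ := mem_closure_iff.mp hq2 Ω' h1 hq1
      exact hq'2.2 (h4 ⟨hq'1, subset_closure hq'2⟩)
    · exact h4
  obtain ⟨c, hc1, hc2⟩ := nonempty_inter_closedPoints h3
    (h1.isLocallyClosed.inter isClosed_closure.isLocallyClosed)
  exact h5 hc1 (hcl c (hTZ hc1.2) hc2)

end Top


end TopPart


section Pts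
variable {S : Scheme.{u}} {G X : Over S} [GrpObj G] (a : AlgGrp.Action G X)

theorem lift_one_act {T : Over S} (x : T ⟶ X) : lift (1 : T ⟶ G) x ≫ a.act = x := by
  rw [Hom.one_def, ← lift_whiskerRight_assoc, a.one_act, leftUnitor_hom, lift_snd]

theorem lift_mul_act {T : Over S} (g g' : T ⟶ G) (x : T ⟶ X) :
    lift (g * g') x ≫ a.act = lift g (lift g' x ≫ a.act) ≫ a.act := by
  rw [Hom.mul_def, ← lift_whiskerRight_assoc, a.mul_act, lift_lift_associator_hom_assoc,
    lift_whiskerLeft_assoc]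

theorem comp_orbitMap' (g : 𝟙_ (Over S) ⟶ G) (o : 𝟙_ (Over S) ⟶ X) :
    g ≫ a.orbitMap o = lift g o ≫ a.act := by
  rw [AlgGrp.Action.orbitMap, comp_lift_assoc, Category.comp_id, ← Category.assoc,
    toUnit_unique (g ≫ toUnit G) (𝟙 _), Category.id_comp]

theorem exists_act_eq (x x' z : 𝟙_ (Over S) ⟶ X) (g g' : 𝟙_ (Over S) ⟶ G)
    (h : g ≫ a.orbitMap x = z) (h' : g' ≫ a.orbitMap x' = z) :
    ∃ g'' : 𝟙_ (Over S) ⟶ G, lift g'' x ≫ a.act = x' := by
  rw [comp_orbitMap'] at h h'
  refine ⟨g'⁻¹ * g, ?_⟩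
  rw [lift_mul_act, h, ← h', ← lift_mul_act, inv_mul_cancel, lift_one_act]

end Pts



section AG
variable {k : Type u} [Field k] [IsAlgClosed k]
  {G X : Over (Spec (CommRingCat.of k))} [GrpObj G] [IsAffine G.left] [LocallyOfFiniteType G.hom]
  [LocallyOfFiniteType X.hom] (a : AlgGrp.Action G X)

/-- the point of `Spec k` -/
noncomputable abbrev pt (k : Type u) [Field k] : ↥(Spec (CommRingCat.of k)) := default

instance : Subsingleton ↥(𝟙_ (Over (Spec (CommRingCat.of k)))).left :=
  inferInstanceAs (Subsingleton ↥(Spec (CommRingCat.of k)))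

theorem isLocallyNoetherian_left : IsLocallyNoetherian X.left :=
  LocallyOfFiniteType.isLocallyNoetherian X.hom

theorem jacobsonSpace_left : JacobsonSpace ↥X.left :=
  LocallyOfFiniteType.jacobsonSpace X.hom

theorem isLocallyConstructible_orbit (x : 𝟙_ (Over (Spec (CommRingCat.of k))) ⟶ X) :
    IsLocallyConstructible (Set.range (a.orbitMap x).left.base) := by
  have : IsLocallyNoetherian X.left := isLocallyNoetherian_left
  have : LocallyOfFiniteType ((a.orbitMap x).left ≫ X.hom) := by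
    rw [Over.w (a.orbitMap x)]; infer_instance
  have : LocallyOfFiniteType (a.orbitMap x).left :=
    locallyOfFiniteType_of_comp (a.orbitMap x).left X.hom
  have : LocallyOfFinitePresentation (a.orbitMap x).left :=
    LocallyOfFinitePresentation.iff_locallyOfFiniteType.mpr inferInstance
  have := (a.orbitMap x).left.isLocallyConstructible_image (s := Set.univ)
    IsLocallyConstructible.univ
  rwa [Set.image_univ] at this

/-- the `k`-point at a closed point -/
noncomputable def kpt (c : ↥X.left) (hc : IsClosed ({c} : Set ↥X.left)) :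
    𝟙_ (Over (Spec (CommRingCat.of k))) ⟶ X :=
  Over.homMk (pointOfClosedPoint X.hom c hc) (by simp)

theorem kpt_apply (c : ↥X.left) (hc : IsClosed ({c} : Set ↥X.left)) (t) :
    (kpt c hc).left.base t = c :=
  pointOfClosedPoint_apply X.hom c hc t

theorem range_orbitMap_subset (x : 𝟙_ (Over (Spec (CommRingCat.of k))) ⟶ X) {W : Set ↥X.left}
    (hW : IsInvariantSet a W) (hx : x.left.base (pt k) ∈ W) :
    Set.range (a.orbitMap x).left.base ⊆ W := by
  rintro _ ⟨g, rfl⟩
  have h1 : (a.orbitMap x).left.base g =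
      a.act.left.base ((lift (𝟙 G) (toUnit G ≫ x)).left.base g) := by
    unfold AlgGrp.Action.orbitMap
    simp only [Over.comp_left, Scheme.Hom.comp_base, TopCat.comp_app]
  rw [h1]
  apply hW
  have h2 : (snd G X).left.base ((lift (𝟙 G) (toUnit G ≫ x)).left.base g) =
      x.left.base ((toUnit G).left.base g) := by
    have := congrArg (fun f => f.left.base g) (lift_snd (𝟙 G) (toUnit G ≫ x))
    simpa only [Over.comp_left, Scheme.Hom.comp_base, TopCat.comp_app] using this
  rw [h2, Subsingleton.elim ((toUnit G).left.base g) (pt k)]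
  exact hx

theorem mem_range_orbitMap (x : 𝟙_ (Over (Spec (CommRingCat.of k))) ⟶ X) :
    x.left.base (pt k) ∈ Set.range (a.orbitMap x).left.base := by
  refine ⟨η[G].left.base (pt k), ?_⟩
  have h1 := congrArg (fun f => f.left.base (pt k)) (Groth.Agent.S19424.unit_orbitMap a x)
  simpa only [Over.comp_left, Scheme.Hom.comp_base, TopCat.comp_app] using h1

/-- lifting a `k`-point of the orbit to a `k`-point of the group -/
theorem exists_lift_of_mem_range (x z : 𝟙_ (Over (Spec (CommRingCat.of k))) ⟶ X)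
    (hz : z.left.base (pt k) ∈ Set.range (a.orbitMap x).left.base) :
    ∃ g : 𝟙_ (Over (Spec (CommRingCat.of k))) ⟶ G, g ≫ a.orbitMap x = z := by
  obtain ⟨g₀, hg₀⟩ := hz
  obtain ⟨w, hw1, hw2⟩ := Scheme.Pullback.exists_preimage_pullback
    (f := (a.orbitMap x).left) (g := z.left) g₀ (pt k) hg₀
  let P := Limits.pullback (a.orbitMap x).left z.left
  have : LocallyOfFiniteType ((a.orbitMap x).left ≫ X.hom) := by
    rw [Over.w (a.orbitMap x)]; infer_instance
  have : LocallyOfFiniteType (a.orbitMap x).left :=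
    locallyOfFiniteType_of_comp (a.orbitMap x).left X.hom
  let q : P ⟶ Spec (CommRingCat.of k) := Limits.pullback.snd (a.orbitMap x).left z.left
  have : LocallyOfFiniteType q := by
    change LocallyOfFiniteType (Limits.pullback.snd (a.orbitMap x).left z.left)
    infer_instance
  have : JacobsonSpace ↥P := LocallyOfFiniteType.jacobsonSpace q
  obtain ⟨c, -, hc⟩ := nonempty_inter_closedPoints (X := ↥P) (Z := Set.univ) ⟨w, trivial⟩
    isOpen_univ.isLocallyClosed
  have hc' : IsClosed ({c} : Set ↥P) := hc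
  let σ : Spec (CommRingCat.of k) ⟶ P := pointOfClosedPoint q c hc'
  have hσ : σ ≫ q = 𝟙 _ := pointOfClosedPoint_comp q c hc'
  have hz' : z.left ≫ X.hom = 𝟙 _ := Over.w z
  have hcomm : σ ≫ Limits.pullback.fst (a.orbitMap x).left z.left ≫ G.hom =
      (𝟙_ (Over (Spec (CommRingCat.of k)))).hom := by
    rw [← Over.w (a.orbitMap x), ← Category.assoc (Limits.pullback.fst _ _),
      Limits.pullback.condition, Category.assoc, hz']
    change σ ≫ q ≫ 𝟙 _ = _
    rw [Category.comp_id, hσ]
    rfl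
  refine ⟨Over.homMk (σ ≫ Limits.pullback.fst (a.orbitMap x).left z.left)
    (by rw [Category.assoc]; exact hcomm), ?_⟩
  ext : 1
  rw [Over.comp_left]
  change (σ ≫ Limits.pullback.fst (a.orbitMap x).left z.left) ≫ (a.orbitMap x).left = z.left
  rw [Category.assoc, Limits.pullback.condition]
  change σ ≫ q ≫ z.left = z.left
  rw [← Category.assoc, hσ]
  exact Category.id_comp _

end AG


end T19409

open T19409

/-- Suppose k is a field that is algebraically closed (its characteristic is arbitrary, since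
characteristic zero plays no role in the argument). Consider an algebraic group G over k, i.e. an
affine group scheme of finite type over k, together with an action of G on a k-scheme X that is
locally of finite type, and assume φ : X → Y is a good quotient (meaning φ is affine and invariant,
on each open of Y the functions are precisely the invariant functions on its preimage, closed
invariant subsets are sent to closed subsets, and taking images commutes with intersecting families
of closed invariant subsets). Given any k-point y of Y, one can find a k-point x of X lying over y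
whose orbit (the image of the orbit morphism G → X) is a closed subset of X; moreover, whenever x'
is a k-point of X over y with closed orbit, x' is obtained from x by acting with some k-point of G.
In other words, each fibre of φ over a k-point contains a unique closed orbit. -/
theorem result
    (k : Type u) [Field k] [IsAlgClosed k]
    (G X Y : Over (Spec (CommRingCat.of k))) [GrpObj G] [IsAffine G.left] [LocallyOfFiniteType G.hom]
    [LocallyOfFiniteType X.hom]
    (a : AlgGrp.Action G X) (φ : X ⟶ Y) (h : NRQuot.IsGoodQuot a φ)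
    (y : 𝟙_ (Over (Spec (CommRingCat.of k))) ⟶ Y) :
    ∃ x : 𝟙_ (Over (Spec (CommRingCat.of k))) ⟶ X, x ≫ φ = y ∧ IsClosed (Set.range (a.orbitMap x).left.base) ∧
      ∀ x' : 𝟙_ (Over (Spec (CommRingCat.of k))) ⟶ X, x' ≫ φ = y → IsClosed (Set.range (a.orbitMap x').left.base) →
        ∃ g : 𝟙_ (Over (Spec (CommRingCat.of k))) ⟶ G, lift g x ≫ a.act = x' := by
  have hGfp : LocallyOfFinitePresentation G.hom :=
    LocallyOfFinitePresentation.iff_locallyOfFiniteType.mpr inferInstance
  have hsnd : UniversallyOpen (snd G X).left := by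
    change UniversallyOpen (Limits.pullback.snd G.hom X.hom)
    infer_instance
  have hopen : IsOpenMap (snd G X).left.base := (snd G X).left.isOpenMap
  have hJ : JacobsonSpace ↥X.left := jacobsonSpace_left
  have hAff : IsAffineHom φ.left := h.affine
  -- the point `y₀` and the fibre `F`
  set y₀ : ↥Y.left := y.left.base (pt k) with hy₀def
  have hy₀ : IsClosed ({y₀} : Set ↥Y.left) :=
    Groth.Agent.S19424.isClosed_singleton_of_section Y.hom y.left (Over.w y) (pt k)
  let F : Set ↥X.left := φ.left.base ⁻¹' {y₀}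
  have hFcl : IsClosed F := hy₀.preimage φ.left.base.hom.continuous
  have hφinv : ∀ p : ↥(G ⊗ X).left,
      φ.left.base (a.act.left.base p) = φ.left.base ((snd G X).left.base p) := by
    intro p
    have h1 := congrArg (fun f => f.base p) h.inv.left
    simpa only [Scheme.Hom.comp_base, TopCat.comp_app] using h1
  have hFinv : IsInvariantSet a F := by
    intro p hp
    change φ.left.base (a.act.left.base p) ∈ ({y₀} : Set ↥Y.left)
    rw [hφinv p]
    exact hp
  have hsurj : Function.Surjective φ.left.base := by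
    have h1 := h.inter PEmpty (fun i => i.elim) (fun i => i.elim) (fun i => i.elim)
    intro z
    have h2 : z ∈ φ.left.base '' (⋂ i : PEmpty, (PEmpty.elim i : Set ↥X.left)) := by
      rw [h1]
      exact Set.mem_iInter.mpr fun i => i.elim
    obtain ⟨w, -, hw⟩ := h2
    exact ⟨w, hw⟩
  obtain ⟨x₁, hx₁⟩ := hsurj y₀
  have hFne : F.Nonempty := ⟨x₁, hx₁⟩
  -- compactness of `F`
  obtain ⟨_, ⟨V0, hV, rfl⟩, hyV, -⟩ :=
    (Y.left.isBasis_affineOpens).exists_subset_of_mem_open (Set.mem_univ y₀) isOpen_univ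
  let V : Y.left.Opens := V0
  have hU : IsAffineOpen (φ.left ⁻¹ᵁ V) := IsAffineOpen.preimage hV φ.left
  have hFU : F ⊆ ((φ.left ⁻¹ᵁ V : X.left.Opens) : Set ↥X.left) := by
    intro p hp
    have hp' : φ.left.base p = y₀ := hp
    change φ.left.base p ∈ (V : Set ↥Y.left)
    rw [hp']
    exact hyV
  have hFcpt : IsCompact F := hU.isCompact.of_isClosed_subset hFcl hFU
  -- Zorn: a minimal nonempty closed invariant subset of `F`
  let 𝒮 : Set (Set ↥X.left) := {W | IsClosed W ∧ W.Nonempty ∧ IsInvariantSet a W ∧ W ⊆ F}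
  obtain ⟨Z, hZF, hZmin⟩ := zorn_superset_nonempty 𝒮 (by
    intro c hc hchain hcne
    refine ⟨⋂₀ c, ⟨?_, ?_, ?_, ?_⟩, fun s hs => Set.sInter_subset_of_mem hs⟩
    · exact isClosed_sInter fun W hW => (hc hW).1
    · haveI : Nonempty c := hcne.to_subtype
      refine IsCompact.nonempty_sInter_of_directed_nonempty_isCompact_isClosed ?_
        (fun W hW => (hc hW).2.1) (fun W hW => hFcpt.of_isClosed_subset (hc hW).1 (hc hW).2.2.2)
        (fun W hW => (hc hW).1)
      intro A hA B hB
      rcases hchain.total hA hB with hAB | hBA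
      · exact ⟨A, hA, subset_rfl, hAB⟩
      · exact ⟨B, hB, hBA, subset_rfl⟩
    · intro p hp
      rw [Set.mem_sInter] at hp ⊢
      exact fun W hW => (hc hW).2.2.1 p (hp W hW)
    · obtain ⟨W, hW⟩ := hcne
      exact (Set.sInter_subset_of_mem hW).trans (hc hW).2.2.2) F ⟨hFcl, hFne, hFinv, subset_rfl⟩
  obtain ⟨hZcl, hZne, hZinv, -⟩ := hZmin.prop
  -- orbits of closed points of `Z` are dense in `Z`
  have hdense : ∀ (c : ↥X.left) (hc : IsClosed ({c} : Set ↥X.left)), c ∈ Z →
      Set.range (a.orbitMap (kpt c hc)).left.base ⊆ Z ∧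
        Z ⊆ closure (Set.range (a.orbitMap (kpt c hc)).left.base) := by
    intro c hc hcZ
    have hsub : Set.range (a.orbitMap (kpt c hc)).left.base ⊆ Z :=
      range_orbitMap_subset a (kpt c hc) hZinv (by rw [kpt_apply]; exact hcZ)
    refine ⟨hsub, ?_⟩
    have hclsub : closure (Set.range (a.orbitMap (kpt c hc)).left.base) ⊆ Z :=
      closure_minimal hsub hZcl
    refine hZmin.le_of_le (y := closure (Set.range (a.orbitMap (kpt c hc)).left.base))
      ⟨isClosed_closure, ?_, ?_, hclsub.trans hZF⟩ hclsub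
    · exact ⟨_, subset_closure (mem_range_orbitMap a (kpt c hc))⟩
    · exact Groth.Agent.S19424.isInvariantSet_closure a hopen
        (Groth.Agent.S19424.isInvariantSet_range_orbitMap a (kpt c hc))
  have hgd : ∀ (x : 𝟙_ (Over (Spec (CommRingCat.of k))) ⟶ X) (Z' : Set ↥X.left),
      GenDec Z' (Set.range (a.orbitMap x).left.base) := fun x Z' =>
    genDec_of_isLocallyConstructible Z' (isLocallyConstructible_orbit a x)
  -- any two k-points with a common closed point in their orbits are translates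
  have htrans : ∀ (x x' : 𝟙_ (Over (Spec (CommRingCat.of k))) ⟶ X) (r : ↥X.left),
      IsClosed ({r} : Set ↥X.left) → r ∈ Set.range (a.orbitMap x).left.base →
      r ∈ Set.range (a.orbitMap x').left.base →
      ∃ g : 𝟙_ (Over (Spec (CommRingCat.of k))) ⟶ G, lift g x ≫ a.act = x' := by
    intro x x' r hr h1 h2
    obtain ⟨g, hg⟩ := exists_lift_of_mem_range a x (kpt r hr) (by rw [kpt_apply]; exact h1)
    obtain ⟨g', hg'⟩ := exists_lift_of_mem_range a x' (kpt r hr) (by rw [kpt_apply]; exact h2)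
    exact exists_act_eq a x x' (kpt r hr) g g' hg hg'
  -- a section is determined by its point
  have hsec : ∀ (x x' : 𝟙_ (Over (Spec (CommRingCat.of k))) ⟶ X),
      x.left.base (pt k) = x'.left.base (pt k) → x = x' := by
    intro x x' hxx
    ext : 1
    exact Groth.Agent.S19424.section_ext X.hom x.left x'.left (Over.w x) (Over.w x') (pt k) hxx
  -- the closed orbit
  obtain ⟨c, hcZ, hc⟩ := nonempty_inter_closedPoints hZne hZcl.isLocallyClosed
  have hc' : IsClosed ({c} : Set ↥X.left) := hc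
  obtain ⟨hOZ, hZO⟩ := hdense c hc' hcZ
  have hZsubO : Z ⊆ Set.range (a.orbitMap (kpt c hc')).left.base := by
    refine subset_of_closedPoints_subset hZcl (hgd (kpt c hc')) ?_
    intro p hpZ hp
    obtain ⟨hOpZ, hZOp⟩ := hdense p hp hpZ
    obtain ⟨r, ⟨hr1, hr2⟩, hr⟩ := exists_closedPoint_inter hZcl hZne (hgd (kpt c hc') Z)
      (hgd (kpt p hp) Z) hOZ hZO hOpZ hZOp
    obtain ⟨g, hg⟩ := htrans (kpt c hc') (kpt p hp) r hr hr1 hr2
    rw [← comp_orbitMap'] at hg
    have h1 := congrArg (fun f => f.left.base (pt k)) hg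
    simp only [Over.comp_left, Scheme.Hom.comp_base, TopCat.comp_app] at h1
    rw [kpt_apply] at h1
    exact ⟨_, h1⟩
  have hOeq : Set.range (a.orbitMap (kpt c hc')).left.base = Z := hOZ.antisymm hZsubO
  refine ⟨kpt c hc', ?_, by rw [hOeq]; exact hZcl, ?_⟩
  · ext : 1
    refine Groth.Agent.S19424.section_ext Y.hom (kpt c hc' ≫ φ).left y.left
      (Over.w (kpt c hc' ≫ φ)) (Over.w y) (pt k) ?_
    have h1 : (kpt c hc' ≫ φ).left.base (pt k) = φ.left.base ((kpt c hc').left.base (pt k)) := by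
      simp only [Over.comp_left, Scheme.Hom.comp_base, TopCat.comp_app]
    rw [h1, kpt_apply]
    exact hZF hcZ
  · intro x' hx' hx'cl
    have hmeet := (Groth.Agent.S19424.result k G X Y a φ h (kpt c hc') x').mpr (by
      rw [hx']
      ext : 1
      refine Groth.Agent.S19424.section_ext Y.hom (kpt c hc' ≫ φ).left y.left
        (Over.w (kpt c hc' ≫ φ)) (Over.w y) (pt k) ?_
      have h1 : (kpt c hc' ≫ φ).left.base (pt k) =
          φ.left.base ((kpt c hc').left.base (pt k)) := by
        simp only [Over.comp_left, Scheme.Hom.comp_base, TopCat.comp_app]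
      rw [h1, kpt_apply]
      exact hZF hcZ)
    rw [hOeq, hZcl.closure_eq, hx'cl.closure_eq] at hmeet
    obtain ⟨r, hr, hrcl⟩ := nonempty_inter_closedPoints hmeet
      (hZcl.inter hx'cl).isLocallyClosed
    have hrcl' : IsClosed ({r} : Set ↥X.left) := hrcl
    exact htrans (kpt c hc') x' r hrcl' (by rw [hOeq]; exact hr.1) hr.2

end Groth.Agent.S19409
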