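import Groth.Statements.S19410
import Mathlib
import Groth.Prelude.Def_ComodSub
import Groth.Agent.H40.EqThick3

set_option autoImplicit false
universe u
open TensorProduct
open GLin

namespace Groth.Agent.S19410

/-- Work over a field k that is algebraically closed and of characteristic zero. Suppose A is a finitely
generated commutative Hopf algebra over k whose finite-dimensional comodules are all semisimple (a
reductive group G). Take finitely generated commutative k-algebras S and R, each carrying a
multiplicative A-coaction (G acting on the affine schemes Y = Spec S and X = Spec R), together with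
an injective, quasi-finite algebra map S → R that respects the coactions (a dominant quasi-finite
G-morphism φ : X → Y). Then one can find finitely generated commutative k-algebras R' and S', both
integral domains with R' integrally closed, each equipped with a multiplicative A-coaction, along
with coaction-compatible surjective algebra maps R' → R and S' → S (so X and Y sit as closed
G-stable subschemes inside the integral affine G-varieties X' = Spec R' and Y' = Spec S', where X'
is normal), and a coaction-compatible algebra map S' → R' that is injective and quasi-finite (a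
dominant quasi-finite G-morphism X' → Y'), such that following S' → R' by R' → R gives the same map
as following S' → S by S → R. -/
theorem result (k : Type u) [Field k] [IsAlgClosed k] [CharZero k]
    (A : Type u) [CommRing A] [HopfAlgebra k A] [Algebra.FiniteType k A] (hG : HopfRep.IsLinearlyReductive k A)
    (S : Type u) [CommRing S] [Algebra k S] [Algebra.FiniteType k S] [HopfRep.Comod k A S] [GLin.IsCoactAlg k A S]
    (R : Type u) [CommRing R] [Algebra k R] [Algebra.FiniteType k R] [HopfRep.Comod k A R] [GLin.IsCoactAlg k A R]
    [Algebra S R] [IsScalarTower k S R] [Algebra.QuasiFinite S R] (hinj : Function.Injective (algebraMap S R))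
    (hequiv : (∀ s : S, HopfRep.Comod.coact (k := k) (A := A) (algebraMap S R s) =
      Algebra.TensorProduct.map (IsScalarTower.toAlgHom k S R) (AlgHom.id k A) (HopfRep.Comod.coact (k := k) (A := A) s))) :
    ∃ (R' : Type u) (_ : CommRing R') (_ : IsDomain R') (_ : IsIntegrallyClosed R') (_ : Algebra k R')
      (_ : HopfRep.Comod k A R') (_ : GLin.IsCoactAlg k A R')
      (S' : Type u) (_ : CommRing S') (_ : IsDomain S') (_ : Algebra k S')
      (_ : HopfRep.Comod k A S') (_ : GLin.IsCoactAlg k A S'),
      Algebra.FiniteType k R' ∧ Algebra.FiniteType k S' ∧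
      ∃ (pR : R' →ₐ[k] R) (pS : S' →ₐ[k] S) (φ' : S' →ₐ[k] R'),
        Function.Surjective pR ∧ Function.Surjective pS ∧ Function.Injective φ' ∧ φ'.toRingHom.QuasiFinite ∧
        (∀ s : R', HopfRep.Comod.coact (k := k) (A := A) (pR s) =
        Algebra.TensorProduct.map pR (AlgHom.id k A) (HopfRep.Comod.coact (k := k) (A := A) s)) ∧
        (∀ s : S', HopfRep.Comod.coact (k := k) (A := A) (pS s) =
        Algebra.TensorProduct.map pS (AlgHom.id k A) (HopfRep.Comod.coact (k := k) (A := A) s)) ∧
        (∀ s : S', HopfRep.Comod.coact (k := k) (A := A) (φ' s) =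
        Algebra.TensorProduct.map φ' (AlgHom.id k A) (HopfRep.Comod.coact (k := k) (A := A) s)) ∧
        pR.comp φ' = (IsScalarTower.toAlgHom k S R).comp pS := by
  classical
  by_cases hR : Nontrivial R
  · -- main case
    obtain ⟨gen, hgen⟩ := (Algebra.FiniteType.out : (⊤ : Subalgebra k R).FG)
    obtain ⟨W, hWfin, hgenW, hW⟩ :=
      Groth.Agent.H40.EqZMT2.exists_finite_subcomod_subset (k := k) (A := A) gen
    let cW : HopfRep.Comod k A ↥W := ComodSub.Comod.restr inferInstance W hW
    let cP : HopfRep.Comod k A (SymmetricAlgebra k ↥W) :=
      Groth.Agent.H40.CoactAlgHom.symComod (A := A) (V := ↥W)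
    have hcP : GLin.IsCoactAlg k A (SymmetricAlgebra k ↥W) :=
      Groth.Agent.H40.CoactAlgHom.symComod_isCoactAlg (A := A) (V := ↥W)
    let b := Module.finBasis k ↥W
    let eP : SymmetricAlgebra k ↥W ≃ₐ[k] MvPolynomial (Fin (Module.finrank k ↥W)) k :=
      SymmetricAlgebra.equivMvPolynomial b
    have hicP : IsIntegrallyClosed (SymmetricAlgebra k ↥W) :=
      IsIntegrallyClosed.of_equiv eP.symm.toRingEquiv
    have hftP : Algebra.FiniteType k (SymmetricAlgebra k ↥W) :=
      Algebra.FiniteType.equiv inferInstance eP.symm
    let π : SymmetricAlgebra k ↥W →ₐ[k] R := SymmetricAlgebra.lift W.subtype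
    have hπs : Function.Surjective π := by
      rw [← AlgHom.range_eq_top, eq_top_iff, ← hgen]
      apply Algebra.adjoin_le
      intro x hx
      exact ⟨SymmetricAlgebra.ι k ↥W ⟨x, hgenW hx⟩, SymmetricAlgebra.lift_ι_apply _ _⟩
    have hπ : ∀ x, HopfRep.Comod.coact (k := k) (A := A) (π x) =
        Algebra.TensorProduct.map π (AlgHom.id k A) (HopfRep.Comod.coact (k := k) (A := A) x) :=
      fun x => Groth.Agent.H40.CoactAlgHom.coact_lift (A := A) W.subtype
        (ComodSub.isComodHom_subtype inferInstance W hW) x
    exact Groth.Agent.H40.EqThick3.main1 k A hG S R hinj hequiv (SymmetricAlgebra k ↥W) π hπs hπ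
  · -- degenerate case: `R` (hence `S`) is the zero ring
    have hRs : Subsingleton R := not_nontrivial_iff_subsingleton.mp hR
    have hSs : Subsingleton S := hinj.subsingleton
    have hRA : Subsingleton (R ⊗[k] A) := by
      apply subsingleton_of_zero_eq_one
      rw [Algebra.TensorProduct.one_def, Subsingleton.elim (1 : R) 0, TensorProduct.zero_tmul]
    have hSA : Subsingleton (S ⊗[k] A) := by
      apply subsingleton_of_zero_eq_one
      rw [Algebra.TensorProduct.one_def, Subsingleton.elim (1 : S) 0, TensorProduct.zero_tmul]
    let c : HopfRep.Comod k A k := HopfRep.Comod.trivial k A k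
    have hc : @GLin.IsCoactAlg k _ A _ _ k _ _ c :=
      @GLin.IsCoactAlg.mk k _ A _ _ k _ _ c rfl (fun f g => by
        change (f * g) ⊗ₜ[k] (1 : A) = (f ⊗ₜ[k] (1 : A)) * (g ⊗ₜ[k] (1 : A))
        rw [Algebra.TensorProduct.tmul_mul_tmul, mul_one])
    refine ⟨k, inferInstance, inferInstance, inferInstance, inferInstance, c, hc,
      k, inferInstance, inferInstance, inferInstance, c, hc, inferInstance, inferInstance,
      Algebra.ofId k R, Algebra.ofId k S, AlgHom.id k k, ?_, ?_, ?_, ?_, ?_, ?_, ?_, ?_⟩
    · intro r; exact ⟨0, Subsingleton.elim _ _⟩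
    · intro s; exact ⟨0, Subsingleton.elim _ _⟩
    · exact Function.injective_id
    · exact RingHom.QuasiFinite.of_finite (RingHom.Finite.id k)
    · intro s; exact Subsingleton.elim _ _
    · intro s; exact Subsingleton.elim _ _
    · intro s
      rw [Algebra.TensorProduct.map_id]
      rfl
    · apply AlgHom.ext
      intro s
      exact Subsingleton.elim _ _

end Groth.Agent.S19410
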