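import Groth.Statements.S19414
import Groth.Agent.Lib.Helper97.VarDim
import Groth.Agent.Lib.Helper67.WeilCoh

set_option autoImplicit false
universe u v
open CategoryTheory AlgebraicGeometry
open WeilCoh

namespace Groth.Agent.S19414

open Groth.Agent.Lib.Helper97.VarDim Groth.Agent.Lib.Helper67 in
/-- a class of even degree commutes with every homogeneous class -/
theorem comm_of_even {k : Type u} [Field k] [IsAlgClosed k]
    {K : Type v} [Field K] [CharZero K] (T : WeilCoh.Theory k K) (X : WeilCoh.Var k)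
    (i : ℤ) (c : ℕ) (a b : T.H X) (ha : a ∈ T.gr X i) (hb : b ∈ T.gr X (2 * (c : ℤ))) :
    a * b = b * a := by
  have h := T.gradedComm X i (2 * (c : ℤ)) a b ha hb
  have h2 : (2 * (c : ℤ)).natAbs = 2 * c := by
    rw [Int.natAbs_mul]
    simp
  rw [h2, ← mul_assoc, mul_comm _ 2, mul_assoc, pow_mul] at h
  simpa using h

/-- Let H be a Weil cohomology theory with coefficients in a field K of characteristic zero on
nonsingular connected projective varieties over an algebraically closed field k, X such a variety, P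
= X × X with its projections p and q, and d : X → P the diagonal (the section of p and of q). For a
closed irreducible subset Z ⊆ X with generic point η and a class α ∈ H^i(X), the cohomological
correspondence given by the class of the diagonal image d(Z) ⊆ P acts on α as cup product with the
class of Z: q_*(p^*(α) · cl_P(d(Z))) = α · cl_X(Z) in the total cohomology ring of X. The
push-forward q_* (Gysin map, defined through Poincaré duality) is taken on the homogeneous component
of degree i + 2 codim_P(d(Z)) that contains p^*(α) · cl_P(d(Z)). The published statement takes Z to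
be a smooth hyperplane section, in which case cup product with cl_X(Z) is the Lefschetz operator L
and the identity says that L is given by an algebraic correspondence; it is stated here for every
closed irreducible Z, which is what the argument establishes. -/
theorem result (k : Type u) [Field k] [IsAlgClosed k]
    (K : Type v) [Field K] [CharZero K] (T : WeilCoh.Theory k K) (X P : WeilCoh.Var k)
    (p q : P ⟶ X) (hP : WeilCoh.IsProd p q) (d : X ⟶ P) (hdp : d ≫ p = 𝟙 X) (hdq : d ≫ q = 𝟙 X)
    (η : ↥X.obj.left) (i : ℤ) (a : ↥(T.gr X i)) :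
    (T.push q (i + 2 * (WeilCoh.codim P.obj.left (WeilCoh.sm d η) : ℤ))
        ⟨T.pull p (a : T.H X) * T.cl P (WeilCoh.sm d η),
          SetLike.mul_mem_graded (T.pull_mem p i a a.2) (T.cl_mem P (WeilCoh.sm d η))⟩ : T.H X) =
      (a : T.H X) * T.cl X η := by
  classical
  have hsepP : IsSeparated P.obj.hom := Groth.Agent.Lib.Helper97.VarDim.var_isSeparated k P
  have hsepp : IsSeparated (WeilCoh.sm p) := by
    have h1 : WeilCoh.sm p ≫ X.obj.hom = P.obj.hom := Over.w p.hom
    have : IsSeparated (WeilCoh.sm p ≫ X.obj.hom) := by rw [h1]; exact hsepP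
    exact IsSeparated.of_comp (WeilCoh.sm p) X.obj.hom
  have hdp' : WeilCoh.sm d ≫ WeilCoh.sm p = 𝟙 X.obj.left := by
    have := congrArg (fun φ => WeilCoh.sm φ) hdp
    exact this
  have hci : IsClosedImmersion (WeilCoh.sm d) := by
    have : IsClosedImmersion (WeilCoh.sm d ≫ WeilCoh.sm p) := by rw [hdp']; infer_instance
    exact IsClosedImmersion.of_comp (WeilCoh.sm d) (WeilCoh.sm p)
  have hfinP : topologicalKrullDim P.obj.left < ⊤ :=
    Groth.Agent.Lib.Helper97.VarDim.var_dim_lt_top k P
  have hfinX : topologicalKrullDim X.obj.left < ⊤ :=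
    Groth.Agent.Lib.Helper97.VarDim.var_dim_lt_top k X
  have hπ : WeilCoh.pdim P.obj.left (WeilCoh.sm d η) = WeilCoh.pdim X.obj.left η :=
    Groth.Agent.Lib.Helper97.VarDim.pdim_map_of_isClosedImmersion (WeilCoh.sm d) η
  have hπP : WeilCoh.pdim P.obj.left (WeilCoh.sm d η) ≤ WeilCoh.dim P.obj.left :=
    Groth.Agent.Lib.Helper97.VarDim.pdim_le_dim _ hfinP _
  have hπX : WeilCoh.pdim X.obj.left η ≤ WeilCoh.dim X.obj.left :=
    Groth.Agent.Lib.Helper97.VarDim.pdim_le_dim _ hfinX _
  have hdeg : (WeilCoh.sm d).residueDegree η = 1 :=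
    Groth.Agent.Lib.Helper97.VarDim.residueDegree_of_isClosedImmersion (WeilCoh.sm d) η
  have hcP : (WeilCoh.codim P.obj.left (WeilCoh.sm d η) : ℤ) =
      (WeilCoh.dim P.obj.left : ℤ) - (WeilCoh.pdim X.obj.left η : ℤ) := by
    unfold WeilCoh.codim
    rw [hπ] at hπP ⊢
    omega
  have hcX : (WeilCoh.codim X.obj.left η : ℤ) =
      (WeilCoh.dim X.obj.left : ℤ) - (WeilCoh.pdim X.obj.left η : ℤ) := by
    unfold WeilCoh.codim
    omega
  set m : ℤ := i + 2 * (WeilCoh.codim P.obj.left (WeilCoh.sm d η) : ℤ) with hm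
  set x : T.gr P m := ⟨T.pull p (a : T.H X) * T.cl P (WeilCoh.sm d η),
          SetLike.mul_mem_graded (T.pull_mem p i a a.2) (T.cl_mem P (WeilCoh.sm d η))⟩ with hx
  have hRHS : (a : T.H X) * T.cl X η ∈
      T.gr X (m + 2 * (WeilCoh.dim X.obj.left : ℤ) - 2 * (WeilCoh.dim P.obj.left : ℤ)) := by
    have h1 := SetLike.mul_mem_graded a.2 (T.cl_mem X η)
    have h2 : i + 2 * (WeilCoh.codim X.obj.left η : ℤ) =
        m + 2 * (WeilCoh.dim X.obj.left : ℤ) - 2 * (WeilCoh.dim P.obj.left : ℤ) := by
      rw [hm, hcP, hcX]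
      ring
    rw [← h2]
    exact h1
  refine Groth.Agent.Lib.Helper67.eq_of_forall_tr_mul_eq T X
    (m + 2 * (WeilCoh.dim X.obj.left : ℤ) - 2 * (WeilCoh.dim P.obj.left : ℤ))
    (2 * (WeilCoh.dim P.obj.left : ℤ) - m) (by ring) _ _ (T.push q m x).2 hRHS ?_
  intro b hb
  rw [Groth.Agent.Lib.Helper67.tr_push_mul T q m x b hb]
  have hpa : T.pull p (a : T.H X) ∈ T.gr P i := T.pull_mem p i a a.2
  have hqb : T.pull q b ∈ T.gr P (2 * (WeilCoh.dim P.obj.left : ℤ) - m) := T.pull_mem q _ b hb
  have hab : T.pull p (a : T.H X) * T.pull q b ∈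
      T.gr P (2 * (WeilCoh.pdim X.obj.left η : ℤ)) := by
    have h1 := SetLike.mul_mem_graded hpa hqb
    have h2 : i + (2 * (WeilCoh.dim P.obj.left : ℤ) - m) = 2 * (WeilCoh.pdim X.obj.left η : ℤ) := by
      rw [hm, hcP]
      ring
    rw [← h2]
    exact h1
  have hpush := T.cl_push d η (T.pull p (a : T.H X) * T.pull q b) hab
  rw [hdeg, Nat.cast_one, one_mul] at hpush
  have hpd : T.pull d (T.pull p (a : T.H X)) = (a : T.H X) := by
    have h1 := T.pull_comp d p
    rw [hdp, T.pull_id] at h1
    have h2 := congrArg (fun φ => φ (a : T.H X)) h1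
    exact h2.symm
  have hqd : T.pull d (T.pull q b) = b := by
    have h1 := T.pull_comp d q
    rw [hdq, T.pull_id] at h1
    have h2 := congrArg (fun φ => φ b) h1
    exact h2.symm
  rw [map_mul (T.pull d), hpd, hqd] at hpush
  have hx' : (x : T.H P) = T.pull p (a : T.H X) * T.cl P (WeilCoh.sm d η) := rfl
  rw [hx', comm_of_even T P i _ _ _ hpa (T.cl_mem P (WeilCoh.sm d η)), mul_assoc, ← hpush,
    comm_of_even T X i _ _ _ a.2 (T.cl_mem X η), mul_assoc]

end Groth.Agent.S19414
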