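import Groth.Statements.S19415
import Mathlib
import Groth.Agent.Lib.Helper97.VarProd
import Groth.Agent.Lib.Helper67.WeilCoh

set_option autoImplicit false
universe u v
open CategoryTheory AlgebraicGeometry
open WeilCoh

namespace Groth.Agent.S19415

section helpers

variable {k : Type u} [Field k] [IsAlgClosed k] {K : Type v} [Field K] [CharZero K]
  (T : WeilCoh.Theory k K)

/-- iterates of an endomorphism -/
noncomputable def iter {X : WeilCoh.Var k} (F : X ⟶ X) : ℕ → (X ⟶ X)
  | 0 => 𝟙 X
  | (m + 1) => F ≫ iter F m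

theorem pull_iter {X : WeilCoh.Var k} (F : X ⟶ X) (m : ℕ) (j : ℤ) (b : ↥(T.gr X j)) :
    T.pull (iter F m) (b : T.H X) = (((T.pullDeg F j) ^ m) b : T.H X) := by
  induction m with
  | zero =>
    show T.pull (𝟙 X) (b : T.H X) = _
    rw [T.pull_id, pow_zero]
    rfl
  | succ m ih =>
    show T.pull (F ≫ iter F m) (b : T.H X) = _
    rw [T.pull_comp, pow_succ']
    show T.pull F (T.pull (iter F m) (b : T.H X)) = _
    rw [ih]
    rfl

/-- the section (G, id) of the product -/
theorem exists_graph {X P : WeilCoh.Var k} (p q : P ⟶ X) (hP : WeilCoh.IsProd p q) (G : X ⟶ X) :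
    ∃ g : X ⟶ P, g ≫ p = G ∧ g ≫ q = 𝟙 X := by
  have hG : WeilCoh.sm G ≫ X.obj.hom = X.obj.hom := Over.w G.hom
  have hcomm : WeilCoh.sm G ≫ X.obj.hom = 𝟙 X.obj.left ≫ X.obj.hom := by
    rw [hG, Category.id_comp]
  have hfst : hP.lift (WeilCoh.sm G) (𝟙 X.obj.left) hcomm ≫ WeilCoh.sm p = WeilCoh.sm G :=
    hP.lift_fst _ _ _
  have hsnd : hP.lift (WeilCoh.sm G) (𝟙 X.obj.left) hcomm ≫ WeilCoh.sm q = 𝟙 X.obj.left :=
    hP.lift_snd _ _ _
  have hw : hP.lift (WeilCoh.sm G) (𝟙 X.obj.left) hcomm ≫ P.obj.hom = X.obj.hom := by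
    have h1 : WeilCoh.sm q ≫ X.obj.hom = P.obj.hom := Over.w q.hom
    rw [← h1, ← Category.assoc, hsnd, Category.id_comp]
  refine ⟨ObjectProperty.homMk (Over.homMk (hP.lift (WeilCoh.sm G) (𝟙 X.obj.left) hcomm) hw),
    ?_, ?_⟩
  · apply ObjectProperty.hom_ext
    apply Over.OverMorphism.ext
    exact hfst
  · apply ObjectProperty.hom_ext
    apply Over.OverMorphism.ext
    exact hsnd

theorem mem_of_eq {X : WeilCoh.Var k} {x : T.H X} {i j : ℤ} (h : x ∈ T.gr X i) (hij : i = j) :
    x ∈ T.gr X j := hij ▸ h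

/-- class of the image of a section of `q` has degree `2 dim X` -/
theorem cl_section_mem {X P : WeilCoh.Var k} [IrreducibleSpace ↥X.obj.left] (p q : P ⟶ X)
    (hP : WeilCoh.IsProd p q) (g : X ⟶ P) (hgq : g ≫ q = 𝟙 X) :
    IsClosedImmersion (WeilCoh.sm g) ∧
    T.cl P (WeilCoh.sm g (genericPoint ↥X.obj.left)) ∈ T.gr P (2 * (WeilCoh.dim X.obj.left : ℤ)) := by
  have hsepP : IsSeparated P.obj.hom := Groth.Agent.Lib.Helper97.VarDim.var_isSeparated k P
  have hsepq : IsSeparated (WeilCoh.sm q) := by
    have h1 : WeilCoh.sm q ≫ X.obj.hom = P.obj.hom := Over.w q.hom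
    have : IsSeparated (WeilCoh.sm q ≫ X.obj.hom) := by rw [h1]; exact hsepP
    exact IsSeparated.of_comp (WeilCoh.sm q) X.obj.hom
  have hgq' : WeilCoh.sm g ≫ WeilCoh.sm q = 𝟙 X.obj.left := by
    have := congrArg (fun ψ => WeilCoh.sm ψ) hgq
    exact this
  have hci : IsClosedImmersion (WeilCoh.sm g) := by
    have : IsClosedImmersion (WeilCoh.sm g ≫ WeilCoh.sm q) := by rw [hgq']; infer_instance
    exact IsClosedImmersion.of_comp (WeilCoh.sm g) (WeilCoh.sm q)
  refine ⟨hci, ?_⟩
  have hN : WeilCoh.dim P.obj.left = WeilCoh.dim X.obj.left + WeilCoh.dim X.obj.left :=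
    Groth.Agent.Lib.Helper97.VarProd.var_dim_prod k p q hP
  have hπ : WeilCoh.pdim P.obj.left (WeilCoh.sm g (genericPoint ↥X.obj.left)) =
      WeilCoh.dim X.obj.left := by
    rw [Groth.Agent.Lib.Helper97.VarDim.pdim_map_of_isClosedImmersion (WeilCoh.sm g) _,
      Groth.Agent.Lib.Helper97.VarPt.pdim_genericPoint]
  have hcP : (WeilCoh.codim P.obj.left (WeilCoh.sm g (genericPoint ↥X.obj.left)) : ℤ) =
      (WeilCoh.dim X.obj.left : ℤ) := by
    unfold WeilCoh.codim
    rw [hπ, hN]
    omega
  exact mem_of_eq T (T.cl_mem P _) (by rw [hcP])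

/-- a class of even degree commutes with every homogeneous class -/
theorem comm_of_even (X : WeilCoh.Var k)
    (i : ℤ) (c : ℕ) (a b : T.H X) (ha : a ∈ T.gr X i) (hb : b ∈ T.gr X (2 * (c : ℤ))) :
    a * b = b * a := by
  have h := T.gradedComm X i (2 * (c : ℤ)) a b ha hb
  have h2 : (2 * (c : ℤ)).natAbs = 2 * c := by
    rw [Int.natAbs_mul]
    simp
  rw [h2, ← mul_assoc, mul_comm _ 2, mul_assoc, pow_mul] at h
  simpa using h

/-- the action of a linear combination of transposed graphs of the iterates of `F` -/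
theorem action_sum {X P : WeilCoh.Var k} [IrreducibleSpace ↥X.obj.left] (p q : P ⟶ X)
    (hP : WeilCoh.IsProd p q) (F : X ⟶ X) (g : ℕ → (X ⟶ P))
    (hgp : ∀ m, g m ≫ p = iter F m) (hgq : ∀ m, g m ≫ q = 𝟙 X) (Q : Polynomial K)
    (j : ℤ) (b : ↥(T.gr X j))
    (hmem : T.pull p (b : T.H X) * (∑ m ∈ Finset.range (Q.natDegree + 1),
        Q.coeff m • T.cl P (WeilCoh.sm (g m) (genericPoint ↥X.obj.left))) ∈
      T.gr P (j + 2 * (WeilCoh.dim X.obj.left : ℤ))) :
    (T.push q (j + 2 * (WeilCoh.dim X.obj.left : ℤ))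
      ⟨T.pull p (b : T.H X) * (∑ m ∈ Finset.range (Q.natDegree + 1),
        Q.coeff m • T.cl P (WeilCoh.sm (g m) (genericPoint ↥X.obj.left))), hmem⟩ : T.H X) =
      ((Polynomial.aeval (T.pullDeg F j) Q) b : T.H X) := by
  classical
  set η := genericPoint ↥X.obj.left with hη
  have hN : WeilCoh.dim P.obj.left = WeilCoh.dim X.obj.left + WeilCoh.dim X.obj.left :=
    Groth.Agent.Lib.Helper97.VarProd.var_dim_prod k p q hP
  have hclX : T.cl X η = 1 := Groth.Agent.Lib.Helper97.VarPt.cl_genericPoint k T X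
  set M : ℤ := j + 2 * (WeilCoh.dim X.obj.left : ℤ) with hM
  have hRHS : ((Polynomial.aeval (T.pullDeg F j) Q) b : T.H X) ∈
      T.gr X (M + 2 * (WeilCoh.dim X.obj.left : ℤ) - 2 * (WeilCoh.dim P.obj.left : ℤ)) :=
    mem_of_eq T (Subtype.property _) (by rw [hM, hN]; push_cast; ring)
  refine Groth.Agent.Lib.Helper67.eq_of_forall_tr_mul_eq T X
    (M + 2 * (WeilCoh.dim X.obj.left : ℤ) - 2 * (WeilCoh.dim P.obj.left : ℤ))
    (2 * (WeilCoh.dim P.obj.left : ℤ) - M) (by ring) _ _ (T.push q M _).2 hRHS ?_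
  intro c hc
  rw [Groth.Agent.Lib.Helper67.tr_push_mul T q M _ c hc]
  show T.tr P ((T.pull p (b : T.H X) * (∑ m ∈ Finset.range (Q.natDegree + 1),
        Q.coeff m • T.cl P (WeilCoh.sm (g m) η))) * T.pull q c) = _
  rw [Polynomial.aeval_eq_sum_range, LinearMap.sum_apply, Submodule.coe_sum, Finset.sum_mul,
    map_sum, Finset.mul_sum, Finset.sum_mul, map_sum]
  apply Finset.sum_congr rfl
  intro m _
  have hpb : T.pull p (b : T.H X) ∈ T.gr P j := T.pull_mem p j b b.2
  obtain ⟨hci, hclm⟩ := cl_section_mem T p q hP (g m) (hgq m)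
  have hdeg : (WeilCoh.sm (g m)).residueDegree η = 1 :=
    Groth.Agent.Lib.Helper97.VarDim.residueDegree_of_isClosedImmersion (WeilCoh.sm (g m)) η
  have h := Groth.Agent.Lib.Helper97.VarTrdeg.tr_cl_mul_pull k T (g m) η
    (T.pull p (b : T.H X) * T.pull q c)
  rw [hdeg, Nat.cast_one, one_mul, hclX, one_mul, map_mul] at h
  have hpg : T.pull (g m) (T.pull p (b : T.H X)) = T.pull (iter F m) (b : T.H X) := by
    have h1 := T.pull_comp (g m) p
    rw [hgp m] at h1
    exact (congrArg (fun ψ => ψ (b : T.H X)) h1).symm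
  have hqg : T.pull (g m) (T.pull q c) = c := by
    have h1 := T.pull_comp (g m) q
    rw [hgq m, T.pull_id] at h1
    exact (congrArg (fun ψ => ψ c) h1).symm
  rw [hpg, hqg, pull_iter T F m j b] at h
  rw [mul_smul_comm, smul_mul_assoc, map_smul, LinearMap.smul_apply, Submodule.coe_smul,
    smul_mul_assoc, map_smul]
  congr 1
  rw [comm_of_even T P j _ _ _ hpb hclm, mul_assoc, ← h]

end helpers


/-- Let H be a Weil cohomology theory with coefficients in a field K of characteristic zero on
nonsingular connected projective varieties over an algebraically closed field k, X such a variety of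
dimension n, P = X × X with its projections p, q, and F : X → X an endomorphism such that the
characteristic polynomials of F^* on the cohomology groups H^i(X), i ∈ ℤ, are pairwise coprime in
K[T]. Then for every i the i-th Künneth projector of X is given by an algebraic correspondence with
coefficients in K: there is a class u in H^{2n}(P), lying in the K-linear span of the classes of
closed irreducible subsets of P, whose action β ↦ q_*(p^*(β) · u) is the identity on H^i(X) and zero
on H^j(X) for every j ≠ i (push-forward q_* taken on the homogeneous piece of degree j + 2n). The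
published statement has rational coefficients, X defined over a finite field and F its Frobenius
endomorphism, the coprimality of the characteristic polynomials being deduced there from the Riemann
hypothesis over finite fields and from the independence of these polynomials of the cohomology
theory; here that coprimality is the hypothesis and F is any endomorphism. -/
theorem result (k : Type u) [Field k]
    [IsAlgClosed k] (K : Type v) [Field K] [CharZero K] (T : WeilCoh.Theory k K)
    (X P : WeilCoh.Var k) (p q : P ⟶ X) (hP : WeilCoh.IsProd p q) (F : X ⟶ X)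
    (hF : ∀ i j : ℤ, i ≠ j → IsCoprime (T.pullDeg F i).charpoly (T.pullDeg F j).charpoly)
    (i : ℤ) :
    ∃ u : ↥(T.gr P (2 * (WeilCoh.dim X.obj.left : ℤ))),
      (u : T.H P) ∈ Submodule.span K (Set.range (T.cl P)) ∧
        ∀ (j : ℤ) (b : ↥(T.gr X j)),
          (T.push q (j + 2 * (WeilCoh.dim X.obj.left : ℤ))
              ⟨T.pull p (b : T.H X) * (u : T.H P),
                SetLike.mul_mem_graded (T.pull_mem p j b b.2) u.2⟩ : T.H X) =
            if j = i then (b : T.H X) else 0 := by
  classical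
  haveI : IrreducibleSpace ↥X.obj.left := X.property.2.2
  set n := WeilCoh.dim X.obj.left with hn
  -- the polynomial
  let S : Finset ℤ := insert i (Finset.Icc (0 : ℤ) (2 * (n : ℤ)))
  have hcop : IsCoprime (T.pullDeg F i).charpoly
      (∏ j ∈ S.erase i, (T.pullDeg F j).charpoly) := by
    apply IsCoprime.prod_right
    intro j hj
    exact hF i j (Finset.ne_of_mem_erase hj).symm
  obtain ⟨a, b', hab⟩ := hcop
  set Q : Polynomial K := b' * ∏ j ∈ S.erase i, (T.pullDeg F j).charpoly with hQ
  have hQi : Polynomial.aeval (T.pullDeg F i) Q = 1 := by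
    have h1 : Q = 1 - a * (T.pullDeg F i).charpoly := by rw [hQ, ← hab]; ring
    rw [h1, map_sub, map_one, map_mul, LinearMap.aeval_self_charpoly, mul_zero]
    simp
  have hQj : ∀ j ∈ S, j ≠ i → Polynomial.aeval (T.pullDeg F j) Q = 0 := by
    intro j hj hji
    have hdvd : (T.pullDeg F j).charpoly ∣ Q := by
      rw [hQ]
      exact Dvd.dvd.mul_left (Finset.dvd_prod_of_mem _ (Finset.mem_erase.mpr ⟨hji, hj⟩)) _
    obtain ⟨c, hc⟩ := hdvd
    rw [hc, map_mul, LinearMap.aeval_self_charpoly, zero_mul]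
  -- the sections
  choose g hgp hgq using fun m : ℕ => exists_graph p q hP (iter F m)
  set η := genericPoint ↥X.obj.left with hη
  have hu : (∑ m ∈ Finset.range (Q.natDegree + 1), Q.coeff m • T.cl P (WeilCoh.sm (g m) η)) ∈
      T.gr P (2 * (n : ℤ)) := by
    refine Submodule.sum_mem _ (fun m _ => Submodule.smul_mem _ _ ?_)
    exact (cl_section_mem T p q hP (g m) (hgq m)).2
  refine ⟨⟨_, hu⟩, ?_, ?_⟩
  · show (∑ m ∈ Finset.range (Q.natDegree + 1), Q.coeff m • T.cl P (WeilCoh.sm (g m) η)) ∈
      Submodule.span K (Set.range (T.cl P))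
    refine Submodule.sum_mem _ (fun m _ => Submodule.smul_mem _ _ ?_)
    exact Submodule.subset_span ⟨_, rfl⟩
  · intro j b
    have hact := action_sum T p q hP F g hgp hgq Q j b
      (SetLike.mul_mem_graded (T.pull_mem p j b b.2) hu)
    rw [hact]
    by_cases hji : j = i
    · subst hji
      rw [if_pos rfl, hQi]
      rfl
    · rw [if_neg hji]
      by_cases hjS : j ∈ S
      · rw [hQj j hjS hji]
        rfl
      · have hbot : T.gr X j = ⊥ := by
          apply T.vanish X j
          have h1 : j ∉ Finset.Icc (0 : ℤ) (2 * (n : ℤ)) := fun h => hjS (Finset.mem_insert_of_mem h)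
          rw [Finset.mem_Icc] at h1
          omega
        have hb0 : b = 0 := by
          apply Subtype.ext
          have h0 : ∀ x ∈ T.gr X j, x = 0 := by
            rw [hbot]
            intro x hx
            exact (Submodule.mem_bot K).mp hx
          exact h0 _ b.2
        rw [hb0, map_zero]
        rfl

end Groth.Agent.S19415
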