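import Groth.Statements.S19418
import Mathlib
import Groth.Agent.Lib.Helper97.VarProd
import Groth.Agent.Lib.Helper97.VarTrdeg
import Groth.Agent.Lib.Helper67.WeilCoh
import Groth.Agent.S19871
import Groth.Agent.S15748

set_option autoImplicit false
universe u v
open CategoryTheory AlgebraicGeometry
open WeilCoh

namespace Groth.Agent.S19418

section helpers

variable {k : Type u} [Field k] [IsAlgClosed k] {K : Type v} [Field K] [CharZero K]
  (T : WeilCoh.Theory k K)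

open Groth.Agent.S15748 (act)

/-- the swap of a product is an involution -/
theorem swap_sq {X P : WeilCoh.Var k} (p q : P ⟶ X) (hP : WeilCoh.IsProd p q) (σ : P ⟶ P)
    (hσp : σ ≫ p = q) (hσq : σ ≫ q = p) : σ ≫ σ = 𝟙 P := by
  have h1 : (σ ≫ σ) ≫ p = 𝟙 P ≫ p := by rw [Category.assoc, hσp, hσq, Category.id_comp]
  have h2 : (σ ≫ σ) ≫ q = 𝟙 P ≫ q := by rw [Category.assoc, hσq, hσp, Category.id_comp]
  apply ObjectProperty.hom_ext
  apply Over.OverMorphism.ext
  apply hP.hom_ext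
  · exact congrArg (fun ψ => WeilCoh.sm ψ) h1
  · exact congrArg (fun ψ => WeilCoh.sm ψ) h2

/-- the residue degree of an isomorphism is one -/
theorem residueDegree_of_isIso {X Y : Scheme.{u}} (f : X ⟶ Y) [IsIso f] (x : X) :
    f.residueDegree x = 1 := by
  unfold Scheme.Hom.residueDegree
  letI := (f.residueFieldMap x).hom.toAlgebra
  have hbij : Function.Bijective (algebraMap (Y.residueField (f x)) (X.residueField x)) :=
    ConcreteCategory.bijective_of_isIso (f.residueFieldMap x)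
  have e : Y.residueField (f x) ≃ₗ[Y.residueField (f x)] X.residueField x :=
    LinearEquiv.ofBijective (Algebra.linearMap _ _) hbij
  rw [← e.finrank_eq, Module.finrank_self]

/-- pulling back a cycle class along the swap -/
theorem pull_swap_cl {X P : WeilCoh.Var k} (p q : P ⟶ X) (hP : WeilCoh.IsProd p q) (σ : P ⟶ P)
    (hσp : σ ≫ p = q) (hσq : σ ≫ q = p) (ξ : P.obj.left) :
    T.pull σ (T.cl P ξ) = T.cl P (WeilCoh.sm σ ξ) := by
  have hσσ := swap_sq p q hP σ hσp hσq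
  have hdP : WeilCoh.dim P.obj.left = WeilCoh.dim X.obj.left + WeilCoh.dim X.obj.left :=
    Groth.Agent.Lib.Helper97.VarProd.var_dim_prod k p q hP
  have hinv : ∀ c : T.H P, T.pull σ (T.pull σ c) = c := by
    intro c
    have h1 := T.pull_comp σ σ
    rw [hσσ, T.pull_id] at h1
    exact (congrArg (fun ψ => ψ c) h1).symm
  have hsm : WeilCoh.sm σ ≫ WeilCoh.sm σ = 𝟙 P.obj.left :=
    congrArg (fun ψ => WeilCoh.sm ψ) hσσ
  haveI : IsIso (WeilCoh.sm σ) := ⟨⟨WeilCoh.sm σ, hsm, hsm⟩⟩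
  have hdeg : (WeilCoh.sm σ).residueDegree ξ = 1 := residueDegree_of_isIso _ _
  have hpd : WeilCoh.pdim P.obj.left (WeilCoh.sm σ ξ) = WeilCoh.pdim P.obj.left ξ :=
    Groth.Agent.Lib.Helper97.VarDim.pdim_map_of_isClosedImmersion (WeilCoh.sm σ) ξ
  have hcd : WeilCoh.codim P.obj.left (WeilCoh.sm σ ξ) = WeilCoh.codim P.obj.left ξ := by
    unfold WeilCoh.codim; rw [hpd]
  have hsw : ∀ c : T.H P, T.tr P (T.pull σ c) = T.tr P c :=
    Groth.Agent.S15748.tr_swap T p q hP p q hP σ hσp hσq hdP hdP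
  refine Groth.Agent.Lib.Helper67.eq_of_forall_tr_mul_eq T P
    (2 * (WeilCoh.codim P.obj.left ξ : ℤ))
    (2 * (WeilCoh.dim P.obj.left : ℤ) - 2 * (WeilCoh.codim P.obj.left ξ : ℤ)) (by ring) _ _
    (T.pull_mem σ _ _ (T.cl_mem P ξ))
    (Groth.Agent.S19871.mem_of_eq T (T.cl_mem P _) (by rw [hcd])) ?_
  intro b _
  have h1 := Groth.Agent.Lib.Helper97.VarTrdeg.tr_cl_mul_pull k T σ ξ b
  rw [hdeg, Nat.cast_one, one_mul] at h1
  rw [← h1, ← hsw (T.pull σ (T.cl P ξ) * b), map_mul, hinv]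

/-- the swap preserves algebraic classes -/
theorem pull_swap_mem_span {X P : WeilCoh.Var k} (p q : P ⟶ X) (hP : WeilCoh.IsProd p q)
    (σ : P ⟶ P) (hσp : σ ≫ p = q) (hσq : σ ≫ q = p) (v : T.H P)
    (hv : v ∈ Submodule.span K (Set.range (T.cl P))) :
    T.pull σ v ∈ Submodule.span K (Set.range (T.cl P)) := by
  induction hv using Submodule.span_induction with
  | mem x hx =>
    obtain ⟨ξ, rfl⟩ := hx
    rw [pull_swap_cl T p q hP σ hσp hσq]
    exact Submodule.subset_span ⟨_, rfl⟩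
  | zero => rw [map_zero]; exact Submodule.zero_mem _
  | add x y _ _ hx hy => rw [map_add]; exact Submodule.add_mem _ hx hy
  | smul a x _ hx => rw [map_smul]; exact Submodule.smul_mem _ a hx

/-- components of a nilpotent family are nilpotent -/
theorem pi_nilpotent {ι : Type*} {R : ι → Type*} [∀ i, MonoidWithZero (R i)] (f : ∀ i, R i)
    (h : IsNilpotent f) (i : ι) : IsNilpotent (f i) := by
  obtain ⟨m, hm⟩ := h
  exact ⟨m, by rw [← Pi.pow_apply, hm]; rfl⟩

/-- the trace formula for the composite of two degree-zero correspondences on `X × X` -/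
theorem trace_formula {X P : WeilCoh.Var k} (p q : P ⟶ X) (hP : WeilCoh.IsProd p q) (σ : P ⟶ P)
    (hσp : σ ≫ p = q) (hσq : σ ≫ q = p)
    (hdim : ∀ j : ℤ, j + 2 * (WeilCoh.dim X.obj.left : ℤ) + 2 * (WeilCoh.dim X.obj.left : ℤ) - 2 * (WeilCoh.dim P.obj.left : ℤ) = j)
    (u w : ↥(T.gr P (2 * (WeilCoh.dim X.obj.left : ℤ)))) :
    T.tr P ((u : T.H P) * T.pull σ (w : T.H P)) =
      ∑ a ∈ Finset.range (2 * WeilCoh.dim X.obj.left + 1),
        (-1 : K) ^ a * LinearMap.trace K ↥(T.gr X (a : ℤ))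
          (((LinearEquiv.ofEq (T.gr X ((a : ℤ) + 2 * (WeilCoh.dim X.obj.left : ℤ) + 2 * (WeilCoh.dim X.obj.left : ℤ) - 2 * (WeilCoh.dim P.obj.left : ℤ))) (T.gr X (a : ℤ)) (congrArg (T.gr X) (hdim (a : ℤ)))).toLinearMap ∘ₗ
            act T p q (2 * (WeilCoh.dim X.obj.left : ℤ)) w (a : ℤ)) ∘ₗ
           ((LinearEquiv.ofEq (T.gr X ((a : ℤ) + 2 * (WeilCoh.dim X.obj.left : ℤ) + 2 * (WeilCoh.dim X.obj.left : ℤ) - 2 * (WeilCoh.dim P.obj.left : ℤ))) (T.gr X (a : ℤ)) (congrArg (T.gr X) (hdim (a : ℤ)))).toLinearMap ∘ₗ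
            act T p q (2 * (WeilCoh.dim X.obj.left : ℤ)) u (a : ℤ))) := by
  classical
  have hdP : WeilCoh.dim P.obj.left = WeilCoh.dim X.obj.left + WeilCoh.dim X.obj.left :=
    Groth.Agent.Lib.Helper97.VarProd.var_dim_prod k p q hP
  have hNP : (WeilCoh.dim P.obj.left : ℤ) =
      (WeilCoh.dim X.obj.left : ℤ) + (WeilCoh.dim X.obj.left : ℤ) := by
    rw [hdP]; push_cast; ring
  let ι : ℕ → Type := fun a => Fin (Module.finrank K ↥(T.gr X (a : ℤ)))
  let e : (a : ℕ) → Module.Basis (ι a) K ↥(T.gr X (a : ℤ)) := fun a =>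
    Module.finBasis K ↥(T.gr X (a : ℤ))
  choose f hf using fun a : ℕ => Groth.Agent.S19871.exists_dual T X a (ι a) (e a)
  have hdec := Groth.Agent.S15748.decomp_class T p q hP hdP (2 * (WeilCoh.dim X.obj.left : ℤ)) u ι e f hf
  have hp' : ∀ y : T.H X, T.pull σ (T.pull p y) = T.pull q y := by
    intro y
    have h1 := T.pull_comp σ p
    rw [hσp] at h1
    exact (congrArg (fun ψ => ψ y) h1).symm
  have hq' : ∀ x : T.H X, T.pull σ (T.pull q x) = T.pull p x := by
    intro x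
    have h1 := T.pull_comp σ q
    rw [hσq] at h1
    exact (congrArg (fun ψ => ψ x) h1).symm
  have hsw : ∀ c : T.H P, T.tr P (T.pull σ c) = T.tr P c :=
    Groth.Agent.S15748.tr_swap T p q hP p q hP σ hσp hσq hdP hdP
  conv_lhs => rw [hdec]
  rw [Finset.sum_mul, map_sum]
  apply Finset.sum_congr rfl
  intro a ha
  rw [Finset.mem_range] at ha
  have ha' : a ≤ 2 * WeilCoh.dim X.obj.left := by omega
  rw [Groth.Agent.S15748.trace_eq' T X a (ι a) (e a) (f a) (hf a), Finset.sum_mul, map_sum,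
    Finset.mul_sum]
  apply Finset.sum_congr rfl
  intro l _
  have hfl : (f a l : T.H X) ∈ T.gr X (2 * (WeilCoh.dim P.obj.left : ℤ) - ((a : ℤ) + 2 * (WeilCoh.dim X.obj.left : ℤ))) :=
    Groth.Agent.S19871.mem_of_eq T (f a l).2 (by rw [hNP]; ring)
  have hR := Groth.Agent.S19871.tr_act T p q (2 * (WeilCoh.dim X.obj.left : ℤ)) w (a : ℤ)
    ((LinearEquiv.ofEq (T.gr X ((a : ℤ) + 2 * (WeilCoh.dim X.obj.left : ℤ) + 2 * (WeilCoh.dim X.obj.left : ℤ) - 2 * (WeilCoh.dim P.obj.left : ℤ))) (T.gr X (a : ℤ)) (congrArg (T.gr X) (hdim (a : ℤ))))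
      (act T p q (2 * (WeilCoh.dim X.obj.left : ℤ)) u (a : ℤ) (e a l)))
    (f a l : T.H X) hfl
  have hstep : T.tr X ((((((LinearEquiv.ofEq (T.gr X ((a : ℤ) + 2 * (WeilCoh.dim X.obj.left : ℤ) + 2 * (WeilCoh.dim X.obj.left : ℤ) - 2 * (WeilCoh.dim P.obj.left : ℤ))) (T.gr X (a : ℤ)) (congrArg (T.gr X) (hdim (a : ℤ)))).toLinearMap ∘ₗ
            act T p q (2 * (WeilCoh.dim X.obj.left : ℤ)) w (a : ℤ)) ∘ₗ
           ((LinearEquiv.ofEq (T.gr X ((a : ℤ) + 2 * (WeilCoh.dim X.obj.left : ℤ) + 2 * (WeilCoh.dim X.obj.left : ℤ) - 2 * (WeilCoh.dim P.obj.left : ℤ))) (T.gr X (a : ℤ)) (congrArg (T.gr X) (hdim (a : ℤ)))).toLinearMap ∘ₗ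
            act T p q (2 * (WeilCoh.dim X.obj.left : ℤ)) u (a : ℤ))) (e a l) : ↥(T.gr X (a : ℤ))) : T.H X) *
        (f a l : T.H X)) =
      T.tr P (T.pull p (act T p q (2 * (WeilCoh.dim X.obj.left : ℤ)) u (a : ℤ) (e a l) : T.H X) * (w : T.H P) *
        T.pull q (f a l : T.H X)) := hR
  refine Eq.trans ?_ (congrArg (fun t => (-1 : K) ^ a * t) hstep).symm
  rw [← hsw (T.pull p (act T p q (2 * (WeilCoh.dim X.obj.left : ℤ)) u (a : ℤ) (e a l) : T.H X) * (w : T.H P) *
        T.pull q (f a l : T.H X)), map_mul (T.pull σ), map_mul (T.pull σ), hp', hq']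
  have hzq : T.pull q (act T p q (2 * (WeilCoh.dim X.obj.left : ℤ)) u (a : ℤ) (e a l) : T.H X) * T.pull σ (w : T.H P) ∈
      T.gr P (((a : ℤ) + 2 * (WeilCoh.dim X.obj.left : ℤ) + 2 * (WeilCoh.dim X.obj.left : ℤ) - 2 * (WeilCoh.dim P.obj.left : ℤ)) + 2 * (WeilCoh.dim X.obj.left : ℤ)) :=
    SetLike.mul_mem_graded (T.pull_mem q _ _ (act T p q (2 * (WeilCoh.dim X.obj.left : ℤ)) u (a : ℤ) (e a l)).2)
      (T.pull_mem σ _ _ w.2)
  have hc := T.gradedComm P (((a : ℤ) + 2 * (WeilCoh.dim X.obj.left : ℤ) + 2 * (WeilCoh.dim X.obj.left : ℤ) - 2 * (WeilCoh.dim P.obj.left : ℤ)) + 2 * (WeilCoh.dim X.obj.left : ℤ)) (2 * (WeilCoh.dim X.obj.left : ℤ) - a) _ _ hzq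
    (T.pull_mem p _ _ (f a l).2)
  have hJm : (((a : ℤ) + 2 * (WeilCoh.dim X.obj.left : ℤ) + 2 * (WeilCoh.dim X.obj.left : ℤ) - 2 * (WeilCoh.dim P.obj.left : ℤ)) + 2 * (WeilCoh.dim X.obj.left : ℤ)).natAbs = a + 2 * WeilCoh.dim X.obj.left := by
    rw [hNP]; omega
  have h2 : (2 * (WeilCoh.dim X.obj.left : ℤ) - a).natAbs = 2 * WeilCoh.dim X.obj.left - a := by
    omega
  rw [hc, map_smul, smul_eq_mul, hJm, h2, Groth.Agent.S15748.parity'' a _ _ ha', ← mul_assoc ((-1 : K) ^ a),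
    ← pow_add, ← two_mul, pow_mul]
  simp [mul_assoc]

end helpers


/-- Key step, cohomological form: let H be a Weil cohomology theory with coefficients in a field K of
characteristic zero on nonsingular connected projective varieties over an algebraically closed field
k, X such a variety of dimension n, P = X × X with projections p, q and the swap automorphism σ (σ p
= q, σ q = p); the identity dim P = 2n is carried as the arithmetic hypothesis hdim. A class u ∈
H^{2n}(P) acts as a degree-0 correspondence on each H^j(X), 0 ≤ j ≤ 2n, by β ↦ q_*(p^*(β) · u); call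
u algebraic when it lies in the K-linear span of the classes of closed irreducible subsets of P, and
let A be the K-subalgebra of ∏_j End_K(H^j(X)) generated by the actions of the algebraic classes in
H^{2n}(P). If u is algebraic and ψ ∘ (action of u) is nilpotent for every ψ ∈ A — that is, the
action of u lies in the Jacobson radical of the finite-dimensional algebra A — then u is numerically
trivial against algebraic classes: Tr_P(u · v) = 0 for every algebraic v ∈ H^{2n}(P). In the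
published argument this is the step showing that the algebra of degree-0 algebraic correspondences
modulo numerical equivalence has zero Jacobson radical, hence is semisimple; it is stated here on
the cohomological side, with the algebra generated by the correspondence actions in place of the
algebra of cycle classes. -/
theorem result (k : Type u) [Field k] [IsAlgClosed k]
    (K : Type v) [Field K] [CharZero K] (T : WeilCoh.Theory k K) (X P : WeilCoh.Var k)
    (p q : P ⟶ X) (hP : WeilCoh.IsProd p q) (σ : P ⟶ P) (hσp : σ ≫ p = q) (hσq : σ ≫ q = p)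
    (hdim : ∀ j : ℤ, j + 2 * (WeilCoh.dim X.obj.left : ℤ) + 2 * (WeilCoh.dim X.obj.left : ℤ) - 2 * (WeilCoh.dim P.obj.left : ℤ) = j)
    (u : ↥(T.gr P (2 * (WeilCoh.dim X.obj.left : ℤ)))) (hu : (u : T.H P) ∈ Submodule.span K (Set.range (T.cl P)))
    (hJ : ∀ ψ ∈ Algebra.adjoin K
          (Set.range (fun w : {w : ↥(T.gr P (2 * (WeilCoh.dim X.obj.left : ℤ))) // (w : T.H P) ∈ Submodule.span K (Set.range (T.cl P))} =>
            fun j : Fin (2 * WeilCoh.dim X.obj.left + 1) =>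
              ((LinearEquiv.ofEq (T.gr X (((j : ℕ) : ℤ) + 2 * (WeilCoh.dim X.obj.left : ℤ) + 2 * (WeilCoh.dim X.obj.left : ℤ) - 2 * (WeilCoh.dim P.obj.left : ℤ))) (T.gr X ((j : ℕ) : ℤ)) (congrArg (T.gr X) (hdim ((j : ℕ) : ℤ)))).toLinearMap ∘ₗ
              ((T.push q (((j : ℕ) : ℤ) + 2 * (WeilCoh.dim X.obj.left : ℤ))) ∘ₗ
                (((LinearMap.mulRight K (w.1 : T.H P)).restrict (p := T.gr P ((j : ℕ) : ℤ))
                    (q := T.gr P (((j : ℕ) : ℤ) + 2 * (WeilCoh.dim X.obj.left : ℤ))) (fun x hx => SetLike.mul_mem_graded hx w.1.2)) ∘ₗ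
                  T.pullDeg p ((j : ℕ) : ℤ)))))),
        IsNilpotent (ψ * fun j : Fin (2 * WeilCoh.dim X.obj.left + 1) =>
          ((LinearEquiv.ofEq (T.gr X (((j : ℕ) : ℤ) + 2 * (WeilCoh.dim X.obj.left : ℤ) + 2 * (WeilCoh.dim X.obj.left : ℤ) - 2 * (WeilCoh.dim P.obj.left : ℤ))) (T.gr X ((j : ℕ) : ℤ)) (congrArg (T.gr X) (hdim ((j : ℕ) : ℤ)))).toLinearMap ∘ₗ
              ((T.push q (((j : ℕ) : ℤ) + 2 * (WeilCoh.dim X.obj.left : ℤ))) ∘ₗ
                (((LinearMap.mulRight K (u : T.H P)).restrict (p := T.gr P ((j : ℕ) : ℤ))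
                    (q := T.gr P (((j : ℕ) : ℤ) + 2 * (WeilCoh.dim X.obj.left : ℤ))) (fun x hx => SetLike.mul_mem_graded hx u.2)) ∘ₗ
                  T.pullDeg p ((j : ℕ) : ℤ))))))
    (v : ↥(T.gr P (2 * (WeilCoh.dim X.obj.left : ℤ)))) (hv : (v : T.H P) ∈ Submodule.span K (Set.range (T.cl P))) :
    T.tr P ((u : T.H P) * (v : T.H P)) = 0 := by
  classical
  have hσσ := swap_sq p q hP σ hσp hσq
  have hinv : ∀ c : T.H P, T.pull σ (T.pull σ c) = c := by
    intro c
    have h1 := T.pull_comp σ σ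
    rw [hσσ, T.pull_id] at h1
    exact (congrArg (fun ψ => ψ c) h1).symm
  have hwmem : T.pull σ (v : T.H P) ∈ T.gr P (2 * (WeilCoh.dim X.obj.left : ℤ)) :=
    T.pull_mem σ _ _ v.2
  have hwspan : T.pull σ (v : T.H P) ∈ Submodule.span K (Set.range (T.cl P)) :=
    pull_swap_mem_span T p q hP σ hσp hσq _ hv
  have hgen := hJ _ (Algebra.subset_adjoin ⟨⟨⟨T.pull σ (v : T.H P), hwmem⟩, hwspan⟩, rfl⟩)
  have hform := trace_formula T p q hP σ hσp hσq hdim u ⟨T.pull σ (v : T.H P), hwmem⟩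
  have key : ∀ (a : ℕ) (ha : a < 2 * WeilCoh.dim X.obj.left + 1),
      LinearMap.trace K ↥(T.gr X (a : ℤ))
          (((LinearEquiv.ofEq (T.gr X ((a : ℤ) + 2 * (WeilCoh.dim X.obj.left : ℤ) + 2 * (WeilCoh.dim X.obj.left : ℤ) - 2 * (WeilCoh.dim P.obj.left : ℤ))) (T.gr X (a : ℤ)) (congrArg (T.gr X) (hdim (a : ℤ)))).toLinearMap ∘ₗ
            Groth.Agent.S15748.act T p q (2 * (WeilCoh.dim X.obj.left : ℤ)) ⟨T.pull σ (v : T.H P), hwmem⟩ (a : ℤ)) ∘ₗ
           ((LinearEquiv.ofEq (T.gr X ((a : ℤ) + 2 * (WeilCoh.dim X.obj.left : ℤ) + 2 * (WeilCoh.dim X.obj.left : ℤ) - 2 * (WeilCoh.dim P.obj.left : ℤ))) (T.gr X (a : ℤ)) (congrArg (T.gr X) (hdim (a : ℤ)))).toLinearMap ∘ₗ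
            Groth.Agent.S15748.act T p q (2 * (WeilCoh.dim X.obj.left : ℤ)) u (a : ℤ))) = 0 := by
    intro a ha
    have h1 := pi_nilpotent _ hgen ⟨a, ha⟩
    exact (LinearMap.isNilpotent_trace_of_isNilpotent h1).eq_zero
  calc T.tr P ((u : T.H P) * (v : T.H P))
      = T.tr P ((u : T.H P) * T.pull σ (T.pull σ (v : T.H P))) := by rw [hinv]
    _ = _ := hform
    _ = 0 := by
      apply Finset.sum_eq_zero
      intro a ha
      rw [Finset.mem_range] at ha
      rw [key a ha, mul_zero]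

end Groth.Agent.S19418
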