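import Groth.Statements.S19422
import Mathlib

set_option autoImplicit false
universe u
open TensorProduct LaurentPolynomial
open GIT

namespace Groth.Agent.S19422

section
variable (k : Type u) [Field k]
    (ι : Type u) [Fintype ι] [HopfRep.Comod k k[T;T⁻¹] (MvPolynomial ι k)] [GLin.IsCoactAlg k k[T;T⁻¹] (MvPolynomial ι k)]
    (r : ι → ℤ)
    (hr : ∀ i : ι, HopfRep.Comod.coact (k := k) (A := k[T;T⁻¹]) (MvPolynomial.X i : MvPolynomial ι k) =
      (MvPolynomial.X i : MvPolynomial ι k) ⊗ₜ[k] (T (r i) : k[T;T⁻¹]))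

/-- weight of a monomial -/
def wt (m : ι →₀ ℕ) : ℤ := ∑ i, (m i : ℤ) * r i

lemma prod_tmul_T {R : Type*} [CommRing R] [Algebra k R] (s : Finset ι) (f : ι → R) (g : ι → ℤ) :
    ∏ i ∈ s, (f i ⊗ₜ[k] (T (g i) : k[T;T⁻¹])) = (∏ i ∈ s, f i) ⊗ₜ[k] (T (∑ i ∈ s, g i) : k[T;T⁻¹]) := by
  classical
  induction s using Finset.induction_on with
  | empty => simp [Algebra.TensorProduct.one_def]
  | insert a s ha ih =>
    rw [Finset.prod_insert ha, Finset.prod_insert ha, Finset.sum_insert ha, ih,
      Algebra.TensorProduct.tmul_mul_tmul, T_add]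

include hr in
lemma coact_monomial (m : ι →₀ ℕ) (c : k) :
    HopfRep.Comod.coact (k := k) (A := k[T;T⁻¹]) (MvPolynomial.monomial m c : MvPolynomial ι k) =
      (MvPolynomial.monomial m c : MvPolynomial ι k) ⊗ₜ[k] (T (wt ι r m) : k[T;T⁻¹]) := by
  classical
  have hX : ∀ i, GLin.coactAlgHom k k[T;T⁻¹] (MvPolynomial ι k) (MvPolynomial.X i) =
      (MvPolynomial.X i : MvPolynomial ι k) ⊗ₜ[k] (T (r i) : k[T;T⁻¹]) := fun i => hr i
  have hmon : (MvPolynomial.monomial m c : MvPolynomial ι k) =
      c • ∏ i, (MvPolynomial.X i : MvPolynomial ι k) ^ m i := by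
    rw [MvPolynomial.monomial_eq, MvPolynomial.C_mul', Finsupp.prod_fintype]
    intro i; simp
  rw [← GLin.coactAlgHom_apply, hmon, map_smul, map_prod]
  have h1 : ∀ i ∈ Finset.univ, GLin.coactAlgHom k k[T;T⁻¹] (MvPolynomial ι k) (MvPolynomial.X i ^ m i) =
      ((MvPolynomial.X i : MvPolynomial ι k) ^ m i) ⊗ₜ[k] (T ((m i : ℤ) * r i) : k[T;T⁻¹]) := by
    intro i _
    rw [map_pow, hX, Algebra.TensorProduct.tmul_pow, T_pow]
  rw [Finset.prod_congr rfl h1, prod_tmul_T, TensorProduct.smul_tmul']
  rfl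

/-- The functional extracting the coefficient of `X^m ⊗ T^n`. -/
noncomputable def coeffFun (m : ι →₀ ℕ) (n : ℤ) : MvPolynomial ι k ⊗[k] k[T;T⁻¹] →ₗ[k] k :=
  TensorProduct.lift ((LinearMap.mul k k).compl₁₂ (MvPolynomial.lcoeff k m)
    ((Finsupp.lapply n : (ℤ →₀ k) →ₗ[k] k) ∘ₗ (AddMonoidAlgebra.coeffLinearEquiv k).toLinearMap))

lemma coeffFun_tmul (m : ι →₀ ℕ) (n : ℤ) (f : MvPolynomial ι k) (a : k[T;T⁻¹]) :
    coeffFun k ι m n (f ⊗ₜ a) = MvPolynomial.coeff m f * a.coeff n := rfl

include hr in
lemma coeff_eq_zero_of_invariant (F : MvPolynomial ι k)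
    (hF : F ∈ GLin.invariants k k[T;T⁻¹] (MvPolynomial ι k)) (m : ι →₀ ℕ) (hm : wt ι r m ≠ 0) :
    MvPolynomial.coeff m F = 0 := by
  classical
  rw [GLin.mem_invariants_iff] at hF
  have h1 := congrArg (coeffFun k ι m (wt ι r m)) hF
  rw [coeffFun_tmul] at h1
  conv_lhs at h1 => rw [F.as_sum]
  rw [map_sum, map_sum] at h1
  simp_rw [coact_monomial k ι r hr, coeffFun_tmul] at h1
  rw [← T_zero, T_apply, if_neg (Ne.symm hm), mul_zero] at h1
  rw [Finset.sum_eq_single m] at h1
  · simpa using h1
  · intro b _ hb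
    rw [MvPolynomial.coeff_monomial, if_neg hb, zero_mul]
  · intro hmF
    rw [MvPolynomial.notMem_support_iff.1 hmF]
    simp

include hr in
lemma invariant_X_pow_mul (i j : ι) (a b : ℕ) (h : (a : ℤ) * r i + (b : ℤ) * r j = 0) :
    (MvPolynomial.X i ^ a * MvPolynomial.X j ^ b : MvPolynomial ι k) ∈
      GLin.invariants k k[T;T⁻¹] (MvPolynomial ι k) := by
  rw [GLin.mem_invariants_iff, GLin.IsCoactAlg.coact_mul, ← GLin.coactAlgHom_apply,
    ← GLin.coactAlgHom_apply, map_pow, map_pow, GLin.coactAlgHom_apply, GLin.coactAlgHom_apply,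
    hr, hr, Algebra.TensorProduct.tmul_pow, Algebra.TensorProduct.tmul_pow,
    Algebra.TensorProduct.tmul_mul_tmul, T_pow, T_pow, ← T_add, h, T_zero]

end


/-- Over an algebraically closed field k, let the multiplicative group, whose coordinate Hopf algebra is
the Laurent polynomial ring, act diagonally on affine ι-space, ι finite: the coaction on the
polynomial ring is multiplicative and sends the coordinate function X_i to X_i ⊗ T^(r_i) for
integers r_i. Then a vector v is semistable (some invariant homogeneous polynomial of positive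
degree does not vanish at v) if and only if there are indices i and j, possibly equal, with v_i ≠ 0,
v_j ≠ 0 and r_i ≤ 0 ≤ r_j, i.e. the origin lies in the convex hull of the weights of v. (Stated for
the ambient projective space on its affine cone; the published statement is for a point of a closed
invariant subvariety, whose semistability is that of the point in the ambient space.) -/
theorem result (k : Type u) [Field k] [IsAlgClosed k]
    (ι : Type u) [Fintype ι] [HopfRep.Comod k k[T;T⁻¹] (MvPolynomial ι k)] [GLin.IsCoactAlg k k[T;T⁻¹] (MvPolynomial ι k)]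
    (r : ι → ℤ)
    (hr : ∀ i : ι, HopfRep.Comod.coact (k := k) (A := k[T;T⁻¹]) (MvPolynomial.X i : MvPolynomial ι k) =
      (MvPolynomial.X i : MvPolynomial ι k) ⊗ₜ[k] (T (r i) : k[T;T⁻¹]))
    (v : ι → k) :
    GLin.IsSemistableVec k k[T;T⁻¹] v ↔ ∃ i j : ι, v i ≠ 0 ∧ v j ≠ 0 ∧ r i ≤ 0 ∧ 0 ≤ r j := by
  classical
  unfold GLin.IsSemistableVec GLin.IsNullform
  constructor
  · intro h
    push Not at h
    obtain ⟨F, hF, d, hd, hhom, hev⟩ := h
    rw [MvPolynomial.eval_eq'] at hev
    obtain ⟨m, hm, hne⟩ := Finset.exists_ne_zero_of_sum_ne_zero hev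
    have hc : MvPolynomial.coeff m F ≠ 0 := left_ne_zero_of_mul hne
    have hp : ∏ i, v i ^ m i ≠ 0 := right_ne_zero_of_mul hne
    have hv : ∀ i, m i ≠ 0 → v i ≠ 0 := by
      intro i hmi hvi
      apply hp
      apply Finset.prod_eq_zero (Finset.mem_univ i)
      rw [hvi, zero_pow hmi]
    have hw : wt ι r m = 0 := by
      by_contra hw
      exact hc (coeff_eq_zero_of_invariant k ι r hr F hF m hw)
    have hdeg : m.degree = d := by
      by_contra hdeg
      exact hc (hhom.coeff_eq_zero hdeg)
    have hex : ∃ i, m i ≠ 0 := by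
      by_contra hno
      push Not at hno
      have : m = 0 := Finsupp.ext hno
      rw [this] at hdeg
      simp at hdeg
      omega
    unfold wt at hw
    have h1 : ∃ i, m i ≠ 0 ∧ r i ≤ 0 := by
      by_contra hno
      push Not at hno
      obtain ⟨i₀, hi₀⟩ := hex
      have : 0 < ∑ i, (m i : ℤ) * r i := by
        apply Finset.sum_pos'
        · intro i _
          by_cases hmi : m i = 0
          · simp [hmi]
          · exact mul_nonneg (by positivity) (hno i hmi).le
        · exact ⟨i₀, Finset.mem_univ _, mul_pos (by positivity) (hno i₀ hi₀)⟩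
      omega
    have h2 : ∃ j, m j ≠ 0 ∧ 0 ≤ r j := by
      by_contra hno
      push Not at hno
      obtain ⟨i₀, hi₀⟩ := hex
      have : ∑ i, (m i : ℤ) * r i < 0 := by
        apply Finset.sum_neg'
        · intro i _
          by_cases hmi : m i = 0
          · simp [hmi]
          · exact mul_nonpos_of_nonneg_of_nonpos (by positivity) (hno i hmi).le
        · exact ⟨i₀, Finset.mem_univ _, mul_neg_of_pos_of_neg (by positivity) (hno i₀ hi₀)⟩
      omega
    obtain ⟨i, hmi, hri⟩ := h1
    obtain ⟨j, hmj, hrj⟩ := h2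
    exact ⟨i, j, hv i hmi, hv j hmj, hri, hrj⟩
  · rintro ⟨i, j, hvi, hvj, hri, hrj⟩ hnull
    by_cases h0 : r i = 0
    · have hinv := invariant_X_pow_mul k ι r hr i i 1 0 (by simp [h0])
      have := hnull _ hinv 1 one_pos (by
        simpa using (MvPolynomial.isHomogeneous_X k i))
      simp at this
      exact hvi this
    by_cases h0' : r j = 0
    · have hinv := invariant_X_pow_mul k ι r hr j j 1 0 (by simp [h0'])
      have := hnull _ hinv 1 one_pos (by
        simpa using (MvPolynomial.isHomogeneous_X k j))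
      simp at this
      exact hvj this
    have hri' : r i < 0 := lt_of_le_of_ne hri h0
    have hrj' : 0 < r j := lt_of_le_of_ne hrj (Ne.symm h0')
    have hinv := invariant_X_pow_mul k ι r hr i j (r j).toNat (-r i).toNat (by
      rw [Int.toNat_of_nonneg hrj, Int.toNat_of_nonneg (by omega)]
      ring)
    have := hnull _ hinv ((r j).toNat + (-r i).toNat) (by omega)
      ((MvPolynomial.isHomogeneous_X_pow i _).mul (MvPolynomial.isHomogeneous_X_pow j _))
    simp only [map_mul, map_pow, MvPolynomial.eval_X] at this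
    rcases mul_eq_zero.1 this with h | h
    · exact hvi (pow_eq_zero_iff (by omega) |>.1 h)
    · exact hvj (pow_eq_zero_iff (by omega) |>.1 h)

end Groth.Agent.S19422
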