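import Groth.Statements.S19423
import Mathlib

set_option autoImplicit false
universe u
open TensorProduct LaurentPolynomial
open GIT

namespace Groth.Agent.S19423

/-- Integrality of the image of every Laurent polynomial from integrality of the images of the
constants and of `T^{±1}`. -/
lemma isIntegral_of_T {k : Type*} [Field k] {R B : Type*} [CommRing R] [CommRing B] [Algebra R B]
    (ψ : k[T;T⁻¹] →+* B) (hC : ∀ c : k, IsIntegral R (ψ (C c)))
    (h1 : IsIntegral R (ψ (T 1))) (h2 : IsIntegral R (ψ (T (-1)))) (a : k[T;T⁻¹]) :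
    IsIntegral R (ψ a) := by
  induction a using LaurentPolynomial.induction_on' with
  | add p q hp hq => rw [map_add]; exact hp.add hq
  | C_mul_T n c =>
    rw [map_mul]
    refine (hC c).mul ?_
    rcases le_total 0 n with hn | hn
    · have : (T n : k[T;T⁻¹]) = T 1 ^ n.toNat := by
        rw [T_pow, mul_one, Int.toNat_of_nonneg hn]
      rw [this, map_pow]
      exact h1.pow _
    · have : (T n : k[T;T⁻¹]) = T (-1) ^ (-n).toNat := by
        rw [T_pow, Int.toNat_of_nonneg (by omega)]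
        congr 1; ring
      rw [this, map_pow]
      exact h2.pow _

section
variable (k : Type u) [Field k]
    (ι : Type u) [Fintype ι] [HopfRep.Comod k k[T;T⁻¹] (MvPolynomial ι k)] [GLin.IsCoactAlg k k[T;T⁻¹] (MvPolynomial ι k)]
    (r : ι → ℤ)
    (hr : ∀ i : ι, HopfRep.Comod.coact (k := k) (A := k[T;T⁻¹]) (MvPolynomial.X i : MvPolynomial ι k) =
      (MvPolynomial.X i : MvPolynomial ι k) ⊗ₜ[k] (T (r i) : k[T;T⁻¹]))
    (v : ι → k)

include hr in
lemma orbitHom_X (i : ι) :
    GLin.orbitHom k k[T;T⁻¹] (GLin.vecPt k ι v) (MvPolynomial.X i) = v i • (T (r i) : k[T;T⁻¹]) := by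
  simp [GLin.orbitHom, hr]

include hr in
lemma T_mem_range (i : ι) (hvi : v i ≠ 0) :
    ∃ f, GLin.orbitHom k k[T;T⁻¹] (GLin.vecPt k ι v) f = (T (r i) : k[T;T⁻¹]) := by
  refine ⟨MvPolynomial.C (v i)⁻¹ * MvPolynomial.X i, ?_⟩
  rw [map_mul, orbitHom_X k ι r hr v i, MvPolynomial.algHom_C, Algebra.algebraMap_eq_smul_one,
    smul_mul_assoc, one_mul, smul_smul, inv_mul_cancel₀ hvi, one_smul]

include hr in
lemma isClosedOrbit_of (i j : ι) (hvi : v i ≠ 0) (hvj : v j ≠ 0) (hri : r i < 0) (hrj : 0 < r j) :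
    GLin.IsClosedOrbit k k[T;T⁻¹] (GLin.vecPt k ι v) := by
  unfold GLin.IsClosedOrbit
  set φ := GLin.orbitHom k k[T;T⁻¹] (GLin.vecPt k ι v) with hφ
  have hint : φ.toRingHom.IsIntegral := by
    letI : Algebra (MvPolynomial ι k) k[T;T⁻¹] := φ.toRingHom.toAlgebra
    have hrange : ∀ a, (∃ f, φ f = a) → IsIntegral (MvPolynomial ι k) a := by
      rintro a ⟨f, rfl⟩
      exact isIntegral_algebraMap (R := MvPolynomial ι k) (A := k[T;T⁻¹]) (x := f)
    intro a
    change IsIntegral (MvPolynomial ι k) a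
    have := isIntegral_of_T (R := MvPolynomial ι k) (RingHom.id k[T;T⁻¹]) ?_ ?_ ?_ a
    · exact this
    · intro c
      refine hrange _ ⟨MvPolynomial.C c, ?_⟩
      rw [MvPolynomial.algHom_C]; rfl
    · refine IsIntegral.of_pow (n := (r j).toNat) (by omega) ?_
      simp only [RingHom.id_apply]
      rw [T_pow, mul_one, Int.toNat_of_nonneg hrj.le]
      exact hrange _ (T_mem_range k ι r hr v j hvj)
    · refine IsIntegral.of_pow (n := (-r i).toNat) (by omega) ?_
      simp only [RingHom.id_apply]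
      rw [T_pow, Int.toNat_of_nonneg (by omega), show -r i * -1 = r i by ring]
      exact hrange _ (T_mem_range k ι r hr v i hvi)
  exact (PrimeSpectrum.isClosedMap_comap_of_isIntegral _ hint).isClosed_range

include hr in
lemma hasFiniteStab_of (j : ι) (hvj : v j ≠ 0) (hrj : r j ≠ 0) :
    GLin.HasFiniteStab k k[T;T⁻¹] (GLin.vecPt k ι v) := by
  unfold GLin.HasFiniteStab
  set I := GLin.stabIdeal k k[T;T⁻¹] (GLin.vecPt k ι v) with hI
  -- `T (r j) - 1 ∈ I`
  have hmem : (T (r j) : k[T;T⁻¹]) - 1 ∈ I := by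
    have h1 : (MvPolynomial.X j - MvPolynomial.C (v j) : MvPolynomial ι k) ∈
        RingHom.ker (GLin.vecPt k ι v) := by
      rw [RingHom.mem_ker]; simp
    have h2 := Ideal.mem_map_of_mem (GLin.orbitHom k k[T;T⁻¹] (GLin.vecPt k ι v)) h1
    rw [map_sub, orbitHom_X k ι r hr v j, MvPolynomial.algHom_C,
      Algebra.algebraMap_eq_smul_one, ← smul_sub] at h2
    have h3 := I.mul_mem_left (algebraMap k k[T;T⁻¹] (v j)⁻¹) h2
    rwa [← Algebra.smul_def, smul_smul, inv_mul_cancel₀ hvj, one_smul] at h3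
  -- in the quotient, `T^{±1}` are roots of unity
  set n : ℕ := (r j).natAbs with hn
  have hnpos : 0 < n := Int.natAbs_pos.2 hrj
  have hq1 : Ideal.Quotient.mk I (T (r j)) = 1 := by
    rw [← sub_eq_zero, ← map_one (Ideal.Quotient.mk I), ← map_sub]
    exact Ideal.Quotient.eq_zero_iff_mem.2 hmem
  have hq2 : Ideal.Quotient.mk I (T (-r j)) = 1 := by
    have : Ideal.Quotient.mk I (T (-r j)) * Ideal.Quotient.mk I (T (r j)) = 1 := by
      rw [← map_mul, ← T_add, neg_add_cancel, T_zero, map_one]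
    rwa [hq1, mul_one] at this
  have hT1 : Ideal.Quotient.mk I (T 1) ^ n = 1 := by
    rw [← map_pow, T_pow, mul_one]
    rcases Int.natAbs_eq (r j) with h | h
    · rw [hn, ← h]; exact hq1
    · rw [hn, show ((r j).natAbs : ℤ) = - r j by omega]; exact hq2
  have hT2 : Ideal.Quotient.mk I (T (-1)) ^ n = 1 := by
    rw [← map_pow, T_pow]
    rcases Int.natAbs_eq (r j) with h | h
    · rw [hn, show ((r j).natAbs : ℤ) * -1 = - r j by omega]; exact hq2
    · rw [hn, show ((r j).natAbs : ℤ) * -1 = r j by omega]; exact hq1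
  have hint : Algebra.IsIntegral k (k[T;T⁻¹] ⧸ I) := by
    refine ⟨fun q => ?_⟩
    obtain ⟨a, rfl⟩ := Ideal.Quotient.mk_surjective q
    refine isIntegral_of_T (R := k) (Ideal.Quotient.mk I) ?_ ?_ ?_ a
    · intro c
      exact isIntegral_algebraMap (R := k) (A := k[T;T⁻¹] ⧸ I) (x := c)
    · exact IsIntegral.of_pow hnpos (hT1 ▸ isIntegral_one)
    · exact IsIntegral.of_pow hnpos (hT2 ▸ isIntegral_one)
  have hft : Algebra.FiniteType k (k[T;T⁻¹] ⧸ I) :=
    Algebra.FiniteType.of_surjective (Ideal.Quotient.mkₐ k I) (Ideal.Quotient.mkₐ_surjective k I)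
  exact Algebra.IsIntegral.finite

include hr in
/-- If all weights on the support of `v` have the same sign `ε` (weakly) and one of them is
nonzero, the orbit is not closed: the limit point is missing. -/
lemma not_isClosedOrbit (ε : ℤ) (σ : k[T;T⁻¹] ≃ₐ[k] k[T;T⁻¹]) (hσ : ∀ n, σ (T n) = T (ε * n))
    (hε : ε * ε = 1) (hnn : ∀ i, v i ≠ 0 → 0 ≤ ε * r i) (i₀ : ι) (hv₀ : v i₀ ≠ 0)
    (hpos : 0 < ε * r i₀) :
    ¬ GLin.IsClosedOrbit k k[T;T⁻¹] (GLin.vecPt k ι v) := by
  unfold GLin.IsClosedOrbit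
  set φ := GLin.orbitHom k k[T;T⁻¹] (GLin.vecPt k ι v) with hφ
  intro hcl
  let h : MvPolynomial ι k →ₐ[k] Polynomial k :=
    MvPolynomial.aeval (fun i => Polynomial.C (v i) * Polynomial.X ^ (ε * r i).toNat)
  let ψ : Polynomial k →ₐ[k] k[T;T⁻¹] := σ.toAlgHom.comp Polynomial.toLaurentAlg
  have hψinj : Function.Injective ψ := σ.injective.comp Polynomial.toLaurent_injective
  have hcomp : ψ.comp h = φ := by
    apply MvPolynomial.algHom_ext
    intro i
    rw [hφ, orbitHom_X k ι r hr v i]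
    simp only [AlgHom.comp_apply, h, ψ, MvPolynomial.aeval_X]
    by_cases hvi : v i = 0
    · simp [hvi]
    · simp only [map_mul, map_pow, Polynomial.toLaurentAlg_apply, Polynomial.toLaurent_C,
        Polynomial.toLaurent_X]
      change σ (C (v i)) * σ (T 1) ^ (ε * r i).toNat = v i • T (r i)
      rw [C_eq_algebraMap, σ.commutes, ← C_eq_algebraMap, hσ, T_pow,
        Int.toNat_of_nonneg (hnn i hvi), mul_one,
        show ε * r i * ε = (ε * ε) * r i by ring, hε, one_mul, smul_eq_C_mul]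
  -- the limit point
  let y : MvPolynomial ι k →ₐ[k] k := (Polynomial.aeval (0 : k)).comp h
  have hker : RingHom.ker φ.toRingHom ≤ RingHom.ker y.toRingHom := by
    intro f hf
    rw [RingHom.mem_ker] at hf ⊢
    have h1 : ψ (h f) = 0 := by
      have := congrArg (fun g : MvPolynomial ι k →ₐ[k] k[T;T⁻¹] => g f) hcomp
      simp only [AlgHom.comp_apply] at this
      rw [this]; exact hf
    have h2 : h f = 0 := hψinj (by rw [h1, map_zero])
    change Polynomial.aeval (0 : k) (h f) = 0
    rw [h2, map_zero]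
  have hprime : (RingHom.ker y.toRingHom).IsPrime := RingHom.ker_isPrime _
  let Py : PrimeSpectrum (MvPolynomial ι k) := ⟨RingHom.ker y.toRingHom, hprime⟩
  have hmem : Py ∈ closure (Set.range (PrimeSpectrum.comap φ.toRingHom)) := by
    rw [PrimeSpectrum.closure_range_comap, PrimeSpectrum.mem_zeroLocus]
    exact hker
  rw [hcl.closure_eq] at hmem
  obtain ⟨P, hP⟩ := hmem
  have hX : (MvPolynomial.X i₀ : MvPolynomial ι k) ∈ Py.asIdeal := by
    change MvPolynomial.X i₀ ∈ RingHom.ker y.toRingHom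
    rw [RingHom.mem_ker]
    change Polynomial.aeval (0 : k) (h (MvPolynomial.X i₀)) = 0
    simp only [h, MvPolynomial.aeval_X, map_mul, map_pow, Polynomial.aeval_X, Polynomial.aeval_C]
    have : (ε * r i₀).toNat ≠ 0 := by omega
    rw [zero_pow this, mul_zero]
  rw [← hP] at hX
  have hX' : φ (MvPolynomial.X i₀) ∈ P.asIdeal := hX
  rw [hφ, orbitHom_X k ι r hr v i₀] at hX'
  apply P.2.ne_top
  rw [Ideal.eq_top_iff_one]
  have h3 := P.asIdeal.mul_mem_left (C (v i₀)⁻¹ * T (- r i₀)) hX'
  rw [smul_eq_C_mul] at h3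
  have h4 : C (v i₀)⁻¹ * T (-r i₀) * (C (v i₀) * T (r i₀)) = (1 : k[T;T⁻¹]) := by
    have : C (v i₀)⁻¹ * T (-r i₀) * (C (v i₀) * T (r i₀)) =
        (C (v i₀)⁻¹ * C (v i₀)) * (T (-r i₀) * T (r i₀) : k[T;T⁻¹]) := by ring
    rw [this, ← map_mul, inv_mul_cancel₀ hv₀, ← T_add, neg_add_cancel, T_zero, map_one, one_mul]
  rwa [h4] at h3

include hr in
/-- If every weight on the support of `v` vanishes, the stabiliser is everything, not finite. -/
lemma not_hasFiniteStab (h : ∀ i, v i = 0 ∨ r i = 0) :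
    ¬ GLin.HasFiniteStab k k[T;T⁻¹] (GLin.vecPt k ι v) := by
  have hO : GLin.orbitHom k k[T;T⁻¹] (GLin.vecPt k ι v) =
      (Algebra.ofId k k[T;T⁻¹]).comp (GLin.vecPt k ι v) := by
    apply MvPolynomial.algHom_ext
    intro i
    rw [orbitHom_X k ι r hr v i]
    rcases h i with h0 | h0
    · simp [h0]
    · simp [h0, Algebra.ofId_apply, Algebra.algebraMap_eq_smul_one]
  have hbot : GLin.stabIdeal k k[T;T⁻¹] (GLin.vecPt k ι v) = ⊥ := by
    unfold GLin.stabIdeal
    rw [hO, eq_bot_iff, Ideal.map_le_iff_le_comap]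
    intro f hf
    rw [RingHom.mem_ker] at hf
    simp only [Ideal.mem_comap, Ideal.mem_bot]
    change (Algebra.ofId k k[T;T⁻¹]) ((GLin.vecPt k ι v) f) = 0
    have : (GLin.vecPt k ι v) f = 0 := hf
    rw [this, map_zero]
  unfold GLin.HasFiniteStab
  rw [hbot]
  intro hfin
  have e : (k[T;T⁻¹] ⧸ (⊥ : Ideal k[T;T⁻¹])) ≃ₗ[k] k[T;T⁻¹] :=
    (AlgEquiv.quotientBot k k[T;T⁻¹]).toLinearEquiv
  have hfin' : Module.Finite k k[T;T⁻¹] := Module.Finite.equiv e
  have := Module.Finite.finite_basis (AddMonoidAlgebra.basis ℤ k)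
  exact not_finite ℤ

end

/-- Over an algebraically closed field k, let the multiplicative group, whose coordinate Hopf algebra is
the Laurent polynomial ring, act diagonally on affine ι-space, ι finite: the coaction on the
polynomial ring is multiplicative and sends the coordinate function X_i to X_i ⊗ T^(r_i) for
integers r_i. Then a vector v is stable (the orbit of the point v of affine space is closed and its
stabiliser is a finite group scheme) if and only if there are indices i and j with v_i ≠ 0, v_j ≠ 0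
and r_i < 0 < r_j, i.e. the origin is an interior point of the convex hull of the weights of v.
(Stated for the ambient projective space on its affine cone, where stability means a closed orbit
with finite stabiliser in the cone.) -/
theorem result (k : Type u) [Field k] [IsAlgClosed k]
    (ι : Type u) [Fintype ι] [HopfRep.Comod k k[T;T⁻¹] (MvPolynomial ι k)] [GLin.IsCoactAlg k k[T;T⁻¹] (MvPolynomial ι k)]
    (r : ι → ℤ)
    (hr : ∀ i : ι, HopfRep.Comod.coact (k := k) (A := k[T;T⁻¹]) (MvPolynomial.X i : MvPolynomial ι k) =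
      (MvPolynomial.X i : MvPolynomial ι k) ⊗ₜ[k] (T (r i) : k[T;T⁻¹]))
    (v : ι → k) :
    GLin.IsStableVec k k[T;T⁻¹] v ↔ ∃ i j : ι, v i ≠ 0 ∧ v j ≠ 0 ∧ r i < 0 ∧ 0 < r j := by
  unfold GLin.IsStableVec GLin.IsStablePt
  constructor
  · rintro ⟨hcl, hfin⟩
    have h1 : ∃ i, v i ≠ 0 ∧ r i ≠ 0 := by
      by_contra hno
      push Not at hno
      refine not_hasFiniteStab k ι r hr v (fun i => ?_) hfin
      by_cases h : v i = 0
      · exact Or.inl h
      · exact Or.inr (hno i h)
    obtain ⟨i₀, hv₀, hr₀⟩ := h1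
    by_contra hno
    push Not at hno
    rcases lt_or_gt_of_ne hr₀ with hneg | hpos
    · refine not_isClosedOrbit k ι r hr v (-1) invert (fun n => by simp) (by norm_num) ?_ i₀ hv₀
        (by omega) hcl
      intro i hvi
      have := hno i₀ i hv₀ hvi hneg
      omega
    · refine not_isClosedOrbit k ι r hr v 1 AlgEquiv.refl (fun n => by simp) (by norm_num) ?_ i₀ hv₀
        (by omega) hcl
      intro i hvi
      by_contra hlt
      have := hno i i₀ hvi hv₀ (by omega)
      omega
  · rintro ⟨i, j, hvi, hvj, hri, hrj⟩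
    exact ⟨isClosedOrbit_of k ι r hr v i j hvi hvj hri hrj,
      hasFiniteStab_of k ι r hr v j hvj hrj.ne'⟩

end Groth.Agent.S19423
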