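import Groth.Statements.S19425
import Groth.Agent.S19424
import Mathlib

set_option autoImplicit false
universe u
open CategoryTheory MonoidalCategory CartesianMonoidalCategory MonObj AlgebraicGeometry Topology
open NRQuot

namespace Groth.Agent.S19425


theorem appLE_congr_hom {X Y : Scheme.{u}} {f g : X ⟶ Y} (h : f = g) (U : Y.Opens) (V : X.Opens)
    (e : V ≤ f ⁻¹ᵁ U) : f.appLE U V e = g.appLE U V (h ▸ e) := by
  subst h
  rfl

theorem isIso_appLE_of_image_eq {X Y : Scheme.{u}} (f : X ⟶ Y) [IsOpenImmersion f] (U : Y.Opens)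
    (V : X.Opens) (e : V ≤ f ⁻¹ᵁ U) (h : f ''ᵁ V = U) : IsIso (f.appLE U V e) := by
  subst h
  rw [← Scheme.Hom.appIso_hom']
  infer_instance

section Restr

variable {S : Scheme.{u}} {G X Y : Over S} [GrpObj G]
  (a : AlgGrp.Action G X) (φ : X ⟶ Y) (U : Y.left.Opens)
  (aU : AlgGrp.Action G (Over.mk ((φ.left ⁻¹ᵁ U).ι ≫ X.hom)))
  (jU : Over.mk ((φ.left ⁻¹ᵁ U).ι ≫ X.hom) ⟶ X) (hjU : jU.left = (φ.left ⁻¹ᵁ U).ι)
  (haU : aU.act ≫ jU = (G ◁ jU) ≫ a.act)
  (φU : Over.mk ((φ.left ⁻¹ᵁ U).ι ≫ X.hom) ⟶ Over.mk (U.ι ≫ Y.hom))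
  (hφU : φU.left ≫ U.ι = (φ.left ⁻¹ᵁ U).ι ≫ φ.left)

include hφU in
theorem left_eq_morphismRestrict : φU.left = φ.left ∣_ U := by
  rw [← cancel_mono U.ι, hφU, morphismRestrict_ι]

set_option backward.isDefEq.respectTransparency false in
include hφU in
theorem isAffineHom_restrict [IsAffineHom φ.left] : IsAffineHom φU.left := by
  rw [left_eq_morphismRestrict φ U φU hφU]
  exact IsZariskiLocalAtTarget.restrict ‹IsAffineHom φ.left› U

include hjU hφU haU in
theorem isInvariant_restrict (hinv : GIT.IsInvariant a φ) : GIT.IsInvariant aU φU := by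
  unfold GIT.IsInvariant at hinv ⊢
  let jY : Over.mk (U.ι ≫ Y.hom) ⟶ Y := Over.homMk U.ι rfl
  have hm : Mono jY.left := by
    change Mono U.ι
    infer_instance
  have hmono : Mono jY := Over.mono_of_mono_left jY
  have hsq : φU ≫ jY = jU ≫ φ := by
    ext : 1
    rw [Over.comp_left, Over.comp_left, hjU]
    exact hφU
  rw [← cancel_mono jY, Category.assoc, Category.assoc, hsq, ← Category.assoc, haU, Category.assoc,
    hinv, ← Category.assoc, whiskerLeft_snd, Category.assoc]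

include hjU in
theorem injective_jU : Function.Injective jU.left.base := by
  rw [hjU]
  exact (φ.left ⁻¹ᵁ U).ι.isOpenEmbedding.injective

include hjU in
theorem range_jU : Set.range jU.left.base = φ.left.base ⁻¹' (U : Set ↥Y.left) := by
  rw [hjU]
  exact Scheme.Opens.range_ι _

include hjU in
theorem isOpenImmersion_jU : IsOpenImmersion jU.left := by
  rw [hjU]
  infer_instance

omit [GrpObj G] in
include hjU in
theorem range_whiskerLeft :
    Set.range (G ◁ jU).left.base = (snd G X).left.base ⁻¹' Set.range jU.left.base := by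
  have := isOpenImmersion_jU φ U jU hjU
  rw [Over.whiskerLeft_left]
  have h := Scheme.Pullback.range_map (f := G.hom)
    (g := (Over.mk ((φ.left ⁻¹ᵁ U).ι ≫ X.hom)).hom) G.hom X.hom (𝟙 _) jU.left (𝟙 _)
    (by simp) (by simp)
  refine h.trans ?_
  ext p
  simp only [Set.mem_inter_iff, Set.mem_preimage]
  constructor
  · rintro ⟨-, h2⟩
    exact h2
  · intro h2
    exact ⟨⟨_, rfl⟩, h2⟩

include hjU haU in
theorem isInvariantSet_image (W : Set ↥(Over.mk ((φ.left ⁻¹ᵁ U).ι ≫ X.hom)).left)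
    (hW : IsInvariantSet aU W) : IsInvariantSet a (jU.left.base '' W) := by
  intro p hp
  obtain ⟨w, hw, hwp⟩ := hp
  have hp' : p ∈ Set.range (G ◁ jU).left.base := by
    rw [range_whiskerLeft φ U jU hjU]
    exact ⟨w, hwp⟩
  obtain ⟨p', rfl⟩ := hp'
  have hsnd : jU.left.base ((snd G _).left.base p') =
      (snd G X).left.base ((G ◁ jU).left.base p') := by
    have h0 := congrArg (fun f => f.left.base p') (whiskerLeft_snd G jU)
    simpa only [Over.comp_left, Scheme.Hom.comp_base, TopCat.comp_app] using h0.symm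
  have h1 : (snd G _).left.base p' = w := injective_jU φ U jU hjU (hsnd.trans hwp.symm)
  refine ⟨aU.act.left.base p', hW p' (h1 ▸ hw), ?_⟩
  have h2 := congrArg (fun f => f.left.base p') haU
  simpa only [Over.comp_left, Scheme.Hom.comp_base, TopCat.comp_app] using h2

include hφU hjU in
theorem map_jU (w : ↥(Over.mk ((φ.left ⁻¹ᵁ U).ι ≫ X.hom)).left) :
    φ.left.base (jU.left.base w) = U.ι.base (φU.left.base w) := by
  have h0 := congrArg (fun f => f.base w) hφU
  simp only [Scheme.Hom.comp_base, TopCat.comp_app] at h0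
  rw [h0, hjU]

include hjU hφU in
theorem exists_preimage_of_map_eq (w' : ↥X.left) (y' : ↥(Over.mk (U.ι ≫ Y.hom)).left)
    (h : φ.left.base w' = U.ι.base y') :
    ∃ w, jU.left.base w = w' ∧ φU.left.base w = y' := by
  have hmem : w' ∈ Set.range jU.left.base := by
    rw [range_jU φ U jU hjU, Set.mem_preimage, h]
    exact y'.2
  obtain ⟨w, rfl⟩ := hmem
  refine ⟨w, rfl, ?_⟩
  apply U.ι.isOpenEmbedding.injective
  exact (map_jU φ U jU hjU φU hφU w).symm.trans h

include hjU in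
theorem preimage_closure_image (W : Set ↥(Over.mk ((φ.left ⁻¹ᵁ U).ι ≫ X.hom)).left)
    (hW : IsClosed W) : jU.left.base ⁻¹' closure (jU.left.base '' W) = W := by
  have hind : IsInducing jU.left.base := by
    rw [hjU]
    exact (φ.left ⁻¹ᵁ U).ι.isOpenEmbedding.isInducing
  rw [← hind.closure_eq_preimage_closure_image, hW.closure_eq]

include hjU haU hφU in
theorem closed_restrict (hopen : IsOpenMap (snd G X).left.base)
    (hcl : ∀ W : Set ↥X.left, IsClosed W → IsInvariantSet a W → IsClosed (φ.left.base '' W))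
    (W : Set ↥(Over.mk ((φ.left ⁻¹ᵁ U).ι ≫ X.hom)).left) (hWc : IsClosed W)
    (hWi : IsInvariantSet aU W) : IsClosed (φU.left.base '' W) := by
  have h1 := hcl _ isClosed_closure (Groth.Agent.S19424.isInvariantSet_closure a hopen
    (isInvariantSet_image a φ U aU jU hjU haU W hWi))
  have h2 : φU.left.base '' W =
      U.ι.base ⁻¹' (φ.left.base '' closure (jU.left.base '' W)) := by
    ext y'
    constructor
    · rintro ⟨w, hw, rfl⟩
      exact ⟨jU.left.base w, subset_closure ⟨w, hw, rfl⟩, map_jU φ U jU hjU φU hφU w⟩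
    · rintro ⟨w', hw', h⟩
      obtain ⟨w, rfl, rfl⟩ := exists_preimage_of_map_eq φ U jU hjU φU hφU w' y' h
      refine ⟨w, ?_, rfl⟩
      have h3 : w ∈ jU.left.base ⁻¹' closure (jU.left.base '' W) := hw'
      rwa [preimage_closure_image φ U jU hjU W hWc] at h3
  rw [h2]
  exact h1.preimage U.ι.base.hom.continuous

include hjU haU hφU in
theorem inter_restrict (hopen : IsOpenMap (snd G X).left.base)
    (hint : ∀ (J : Type u) (W : J → Set ↥X.left), (∀ i, IsClosed (W i)) →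
      (∀ i, IsInvariantSet a (W i)) → φ.left.base '' (⋂ i, W i) = ⋂ i, φ.left.base '' (W i))
    (J : Type u) (W : J → Set ↥(Over.mk ((φ.left ⁻¹ᵁ U).ι ≫ X.hom)).left)
    (hWc : ∀ i, IsClosed (W i)) (hWi : ∀ i, IsInvariantSet aU (W i)) :
    φU.left.base '' (⋂ i, W i) = ⋂ i, φU.left.base '' (W i) := by
  apply Set.Subset.antisymm (Set.image_iInter_subset _ _)
  intro y' hy'
  rw [Set.mem_iInter] at hy'
  have h1 := hint J (fun i => closure (jU.left.base '' W i)) (fun i => isClosed_closure)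
    (fun i => Groth.Agent.S19424.isInvariantSet_closure a hopen
      (isInvariantSet_image a φ U aU jU hjU haU (W i) (hWi i)))
  have h2 : U.ι.base y' ∈ ⋂ i, φ.left.base '' closure (jU.left.base '' W i) := by
    rw [Set.mem_iInter]
    intro i
    obtain ⟨w, hw, rfl⟩ := hy' i
    exact ⟨jU.left.base w, subset_closure ⟨w, hw, rfl⟩, map_jU φ U jU hjU φU hφU w⟩
  rw [← h1] at h2
  obtain ⟨w', hw', h⟩ := h2
  obtain ⟨w, rfl, rfl⟩ := exists_preimage_of_map_eq φ U jU hjU φU hφU w' y' h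
  refine ⟨w, ?_, rfl⟩
  rw [Set.mem_iInter] at hw' ⊢
  intro i
  have h3 : w ∈ jU.left.base ⁻¹' closure (jU.left.base '' W i) := hw' i
  rwa [preimage_closure_image φ U jU hjU (W i) (hWc i)] at h3

include hjU haU hφU in
theorem sections_restrict
    (hsec : ∀ V' : Y.left.Opens, Function.Injective (φ.left.app V') ∧
      Set.range (φ.left.app V') = {f | GIT.IsInvSection a φ V' f})
    (V : (Over.mk (U.ι ≫ Y.hom)).left.Opens) :
    Function.Injective (φU.left.app V) ∧
      Set.range (φU.left.app V) = {f | GIT.IsInvSection aU φU V f} := by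
  have hoj := isOpenImmersion_jU φ U jU hjU
  have hoι : IsOpenImmersion (G ◁ jU).left := by
    rw [Over.whiskerLeft_left]
    infer_instance
  -- image equalities
  have hjW : jU.left ''ᵁ (φU.left ⁻¹ᵁ V) = φ.left ⁻¹ᵁ (U.ι ''ᵁ V) := by
    apply TopologicalSpace.Opens.ext
    ext x
    constructor
    · rintro ⟨x', hx', rfl⟩
      exact ⟨φU.left.base x', hx', (map_jU φ U jU hjU φU hφU x').symm⟩
    · rintro ⟨v, hv, hvx⟩
      obtain ⟨x', rfl, rfl⟩ := exists_preimage_of_map_eq φ U jU hjU φU hφU x v hvx.symm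
      exact ⟨x', hv, rfl⟩
  have eW : φU.left ⁻¹ᵁ V ≤ jU.left ⁻¹ᵁ (φ.left ⁻¹ᵁ (U.ι ''ᵁ V)) := by
    rw [← hjW, Scheme.Hom.preimage_image_eq]
  have eV : V ≤ U.ι ⁻¹ᵁ (U.ι ''ᵁ V) := (Scheme.Hom.preimage_image_eq U.ι V).ge
  have hβ : IsIso (jU.left.appLE (φ.left ⁻¹ᵁ (U.ι ''ᵁ V)) (φU.left ⁻¹ᵁ V) eW) :=
    isIso_appLE_of_image_eq _ _ _ _ hjW
  have hα : IsIso (U.ι.appLE (U.ι ''ᵁ V) V eV) := isIso_appLE_of_image_eq _ _ _ _ rfl
  have hsq : φ.left.app (U.ι ''ᵁ V) ≫ jU.left.appLE (φ.left ⁻¹ᵁ (U.ι ''ᵁ V)) (φU.left ⁻¹ᵁ V) eW =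
      U.ι.appLE (U.ι ''ᵁ V) V eV ≫ φU.left.app V := by
    rw [Scheme.Hom.app_eq_appLE, Scheme.Hom.app_eq_appLE, Scheme.Hom.appLE_comp_appLE,
      Scheme.Hom.appLE_comp_appLE]
    apply appLE_congr_hom
    rw [hjU, hφU]
  -- the opens in `G ⊗ X`
  have hσ : aU.act.left ≫ jU.left = (G ◁ jU).left ≫ a.act.left := by
    rw [← Over.comp_left, ← Over.comp_left, haU]
  have hπ : (snd G _).left ≫ jU.left = (G ◁ jU).left ≫ (snd G X).left := by
    rw [← Over.comp_left, ← Over.comp_left, whiskerLeft_snd]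
  have hσp : ∀ p', a.act.left.base ((G ◁ jU).left.base p') = jU.left.base (aU.act.left.base p') := by
    intro p'
    have h0 := congrArg (fun f => f.base p') hσ
    simpa only [Scheme.Hom.comp_base, TopCat.comp_app] using h0.symm
  have hπp : ∀ p', (snd G X).left.base ((G ◁ jU).left.base p') =
      jU.left.base ((snd G _).left.base p') := by
    intro p'
    have h0 := congrArg (fun f => f.base p') hπ
    simpa only [Scheme.Hom.comp_base, TopCat.comp_app] using h0.symm
  have hιN : (G ◁ jU).left ''ᵁ (aU.act.left ⁻¹ᵁ (φU.left ⁻¹ᵁ V) ⊓ (snd G _).left ⁻¹ᵁ (φU.left ⁻¹ᵁ V)) =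
      a.act.left ⁻¹ᵁ (φ.left ⁻¹ᵁ (U.ι ''ᵁ V)) ⊓ (snd G X).left ⁻¹ᵁ (φ.left ⁻¹ᵁ (U.ι ''ᵁ V)) := by
    apply TopologicalSpace.Opens.ext
    ext p
    constructor
    · rintro ⟨p', ⟨h1, h2⟩, rfl⟩
      constructor
      · have h3 : a.act.left.base ((G ◁ jU).left.base p') ∈
            (φ.left ⁻¹ᵁ (U.ι ''ᵁ V) : Set _) := by
          rw [hσp, ← hjW]
          exact ⟨_, h1, rfl⟩
        exact h3
      · have h3 : (snd G X).left.base ((G ◁ jU).left.base p') ∈
            (φ.left ⁻¹ᵁ (U.ι ''ᵁ V) : Set _) := by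
          rw [hπp, ← hjW]
          exact ⟨_, h2, rfl⟩
        exact h3
    · rintro ⟨h1, h2⟩
      have h1' : a.act.left.base p ∈ (φ.left ⁻¹ᵁ (U.ι ''ᵁ V) : Set _) := h1
      have h2' : (snd G X).left.base p ∈ (φ.left ⁻¹ᵁ (U.ι ''ᵁ V) : Set _) := h2
      rw [← hjW] at h1' h2'
      have hp : p ∈ Set.range (G ◁ jU).left.base := by
        rw [range_whiskerLeft φ U jU hjU]
        obtain ⟨x', -, hx'⟩ := h2'
        exact ⟨x', hx'⟩
      obtain ⟨p', rfl⟩ := hp
      refine ⟨p', ⟨?_, ?_⟩, rfl⟩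
      · obtain ⟨x', hx', hx'e⟩ := h1'
        have h3 : aU.act.left.base p' = x' :=
          injective_jU φ U jU hjU ((hσp p').symm.trans hx'e.symm)
        change aU.act.left.base p' ∈ (φU.left ⁻¹ᵁ V : Set _)
        rw [h3]
        exact hx'
      · obtain ⟨x', hx', hx'e⟩ := h2'
        have h3 : (snd G _).left.base p' = x' :=
          injective_jU φ U jU hjU ((hπp p').symm.trans hx'e.symm)
        change (snd G _).left.base p' ∈ (φU.left ⁻¹ᵁ V : Set _)
        rw [h3]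
        exact hx'
  have eN : aU.act.left ⁻¹ᵁ (φU.left ⁻¹ᵁ V) ⊓ (snd G _).left ⁻¹ᵁ (φU.left ⁻¹ᵁ V) ≤
      (G ◁ jU).left ⁻¹ᵁ (a.act.left ⁻¹ᵁ (φ.left ⁻¹ᵁ (U.ι ''ᵁ V)) ⊓
        (snd G X).left ⁻¹ᵁ (φ.left ⁻¹ᵁ (U.ι ''ᵁ V))) := by
    rw [← hιN, Scheme.Hom.preimage_image_eq]
  have hρ : IsIso ((G ◁ jU).left.appLE _ _ eN) := isIso_appLE_of_image_eq _ _ _ _ hιN
  have I1 : a.act.left.appLE (φ.left ⁻¹ᵁ (U.ι ''ᵁ V)) _ inf_le_left ≫ (G ◁ jU).left.appLE _ _ eN =
      jU.left.appLE (φ.left ⁻¹ᵁ (U.ι ''ᵁ V)) (φU.left ⁻¹ᵁ V) eW ≫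
        aU.act.left.appLE (φU.left ⁻¹ᵁ V) _ inf_le_left := by
    rw [Scheme.Hom.appLE_comp_appLE, Scheme.Hom.appLE_comp_appLE]
    exact appLE_congr_hom hσ.symm _ _ _
  have I2 : (snd G X).left.appLE (φ.left ⁻¹ᵁ (U.ι ''ᵁ V)) _ inf_le_right ≫
        (G ◁ jU).left.appLE _ _ eN =
      jU.left.appLE (φ.left ⁻¹ᵁ (U.ι ''ᵁ V)) (φU.left ⁻¹ᵁ V) eW ≫
        (snd G _).left.appLE (φU.left ⁻¹ᵁ V) _ inf_le_right := by
    rw [Scheme.Hom.appLE_comp_appLE, Scheme.Hom.appLE_comp_appLE]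
    exact appLE_congr_hom hπ.symm _ _ _
  have hρinj := (ConcreteCategory.bijective_of_isIso ((G ◁ jU).left.appLE _ _ eN)).injective
  have hβbij := ConcreteCategory.bijective_of_isIso
    (jU.left.appLE (φ.left ⁻¹ᵁ (U.ι ''ᵁ V)) (φU.left ⁻¹ᵁ V) eW)
  have hαbij := ConcreteCategory.bijective_of_isIso (U.ι.appLE (U.ι ''ᵁ V) V eV)
  have key : ∀ f : Γ(X.left, φ.left ⁻¹ᵁ (U.ι ''ᵁ V)),
      GIT.IsInvSection a φ (U.ι ''ᵁ V) f ↔
        GIT.IsInvSection aU φU V (jU.left.appLE (φ.left ⁻¹ᵁ (U.ι ''ᵁ V)) (φU.left ⁻¹ᵁ V) eW f) := by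
    intro f
    unfold GIT.IsInvSection
    have e1 := congrArg (fun g => g.hom f) I1
    have e2 := congrArg (fun g => g.hom f) I2
    simp only [CommRingCat.hom_comp, RingHom.comp_apply] at e1 e2
    constructor
    · intro h
      exact e1.symm.trans ((congrArg _ h).trans e2)
    · intro h
      exact hρinj (e1.trans (h.trans e2.symm))
  have hsq' : ∀ s, jU.left.appLE (φ.left ⁻¹ᵁ (U.ι ''ᵁ V)) (φU.left ⁻¹ᵁ V) eW
      (φ.left.app (U.ι ''ᵁ V) s) = φU.left.app V (U.ι.appLE (U.ι ''ᵁ V) V eV s) := by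
    intro s
    have e0 := congrArg (fun g => g.hom s) hsq
    simpa only [CommRingCat.hom_comp, RingHom.comp_apply] using e0
  obtain ⟨hinj, hrange⟩ := hsec (U.ι ''ᵁ V)
  constructor
  · intro t₁ t₂ ht
    obtain ⟨s₁, rfl⟩ := hαbij.surjective t₁
    obtain ⟨s₂, rfl⟩ := hαbij.surjective t₂
    rw [← hsq', ← hsq'] at ht
    rw [hinj (hβbij.injective ht)]
  · ext f'
    constructor
    · rintro ⟨t, rfl⟩
      obtain ⟨s, rfl⟩ := hαbij.surjective t
      rw [Set.mem_ofPred_eq, ← hsq', ← key]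
      have : φ.left.app (U.ι ''ᵁ V) s ∈ Set.range (φ.left.app (U.ι ''ᵁ V)) := ⟨s, rfl⟩
      rw [hrange] at this
      exact this
    · intro hf'
      obtain ⟨f, rfl⟩ := hβbij.surjective f'
      rw [Set.mem_ofPred_eq, ← key] at hf'
      have : f ∈ Set.range (φ.left.app (U.ι ''ᵁ V)) := by rw [hrange]; exact hf'
      obtain ⟨s, rfl⟩ := this
      exact ⟨U.ι.appLE (U.ι ''ᵁ V) V eV s, (hsq' s).symm⟩

end Restr



/-- Let k be an algebraically closed field, G an affine group scheme of finite type over k acting on a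
k-scheme X locally of finite type, φ : X → Y a good quotient (affine and invariant, functions on
every open of Y are exactly the invariant functions on its preimage, invariant closed subsets have
closed images, and images commute with intersections of families of invariant closed subsets), and U
an open subset of Y. Equip the open subscheme φ⁻¹(U) of X with the restricted action, given here as
an action compatible with the inclusion into X, and let φ_U : φ⁻¹(U) → U be the restriction of φ.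
Then φ_U is a good quotient for the restricted action. -/
theorem result
    (k : Type u) [Field k] [IsAlgClosed k]
    (G X Y : Over (Spec (CommRingCat.of k))) [GrpObj G] [IsAffine G.left] [LocallyOfFiniteType G.hom]
    [LocallyOfFiniteType X.hom]
    (a : AlgGrp.Action G X) (φ : X ⟶ Y) (h : NRQuot.IsGoodQuot a φ)
    (U : Y.left.Opens)
    (aU : AlgGrp.Action G (Over.mk ((φ.left ⁻¹ᵁ U).ι ≫ X.hom)))
    (jU : Over.mk ((φ.left ⁻¹ᵁ U).ι ≫ X.hom) ⟶ X) (hjU : jU.left = (φ.left ⁻¹ᵁ U).ι)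
    (haU : aU.act ≫ jU = (G ◁ jU) ≫ a.act)
    (φU : Over.mk ((φ.left ⁻¹ᵁ U).ι ≫ X.hom) ⟶ Over.mk (U.ι ≫ Y.hom))
    (hφU : φU.left ≫ U.ι = (φ.left ⁻¹ᵁ U).ι ≫ φ.left) :
    NRQuot.IsGoodQuot aU φU := by
  have hGfp : LocallyOfFinitePresentation G.hom :=
    LocallyOfFinitePresentation.iff_locallyOfFiniteType.mpr inferInstance
  have hGuo : UniversallyOpen G.hom := inferInstance
  have hsnd : UniversallyOpen (snd G X).left := by
    change UniversallyOpen (Limits.pullback.snd G.hom X.hom)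
    infer_instance
  have hopen : IsOpenMap (snd G X).left.base := (snd G X).left.isOpenMap
  have haff := h.affine
  exact
    { affine := isAffineHom_restrict φ U φU hφU
      inv := isInvariant_restrict a φ U aU jU hjU haU φU hφU h.inv
      sections := sections_restrict a φ U aU jU hjU haU φU hφU h.sections
      closed := closed_restrict a φ U aU jU hjU haU φU hφU hopen h.closed
      inter := inter_restrict a φ U aU jU hjU haU φU hφU hopen h.inter }

end Groth.Agent.S19425
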