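import Groth.Statements.S19435
import Groth.Agent.Lib.Helper59.P1Curve
import Groth.Agent.Lib.Helper1.IdealMod
import Groth.Agent.Lib.Helper11.GenLocus
import Groth.Agent.Lib.Helper67.TensRank2

set_option autoImplicit false
universe u
open Coherent

namespace Groth.Agent.S19435

open CategoryTheory CategoryTheory.Limits AlgebraicGeometry in
/-- The case d = 0. Let F be a field, k ≥ 1, P = P^1_F and X ⊆ P a hypersurface of degree k: a closed
subscheme (ideal sheaf I) whose ideal sheaf is isomorphic as an O_P-module to O_P(-k), with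
coordinate ring A = F[x_0, x_1]/(q) whose degree-m piece has dimension a(m) = C(m+1, 1) - C(m-k+1,
1) (negative upper entries read as 0); O_X(n) = O_X ⊗ O_P(n) as an O_P-module. Then H^0(P, O_X(n))
is finite-dimensional of dimension a(n) + a(k-2-n), that of an extension of the dual of the
degree-(k-2-n) piece of A by the degree-n piece (the exact sequence itself is not stated here); and
H^p(P, O_X(n)) vanishes for every p ≥ 1. -/
theorem result (F : Type u) [Field F] (k : ℕ)
    (hk : 1 ≤ k) (I : (CohB1.ProjSpace 1 F).IdealSheafData)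
    (hI : Nonempty (ClSub.idealMod I ≅ Twist.twistProjSpace 1 F (-(k : ℤ)))) (n : ℤ) :
    (Module.Finite F (Coh.HH (CohB1.ProjSpace 1 F)
        (CohB1.tensorMod (ClSub.quotMod I) (Twist.twistProjSpace 1 F n)) 0) ∧
      Module.finrank F (Coh.HH (CohB1.ProjSpace 1 F)
        (CohB1.tensorMod (ClSub.quotMod I) (Twist.twistProjSpace 1 F n)) 0) =
        (Nat.choose (n + 1).toNat 1 - Nat.choose (n - (k : ℤ) + 1).toNat 1) +
        (Nat.choose ((k : ℤ) - 2 - n + 1).toNat 1 - Nat.choose ((k : ℤ) - 2 - n - (k : ℤ) + 1).toNat 1)) ∧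
    (∀ p : ℕ, 1 ≤ p →
      Subsingleton (Coh.HH (CohB1.ProjSpace 1 F)
        (CohB1.tensorMod (ClSub.quotMod I) (Twist.twistProjSpace 1 F n)) p)) := by
  classical
  obtain ⟨eI⟩ := hI
  have hd := Groth.Agent.Lib.Helper59.P1Curve.hdim F
  have hS := Groth.Agent.Lib.Helper1.idealModComplex_shortExact I
  have hS' : ((Groth.Agent.Lib.Helper1.idealModComplex I).map
      (Groth.Agent.Lib.Helper38.SerreVanishPn.tw 1 F n)).ShortExact :=
    Groth.Agent.Lib.Helper38.SerreVanishPn.shortExact_tw 1 F n hS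
  let e₁ : ((Groth.Agent.Lib.Helper1.idealModComplex I).map
      (Groth.Agent.Lib.Helper38.SerreVanishPn.tw 1 F n)).X₁ ≅
      Twist.twistProjSpace 1 F (-(k : ℤ) + n) :=
    (Groth.Agent.Lib.Helper38.SerreVanishPn.tw 1 F n).mapIso eI ≪≫
      Groth.Agent.Lib.Helper38.SerreVanishPn.twistTensorIso 1 F (-(k : ℤ)) n
  let e₂ : ((Groth.Agent.Lib.Helper1.idealModComplex I).map
      (Groth.Agent.Lib.Helper38.SerreVanishPn.tw 1 F n)).X₂ ≅ Twist.twistProjSpace 1 F n :=
    Groth.Agent.Lib.Helper11.GenLocus.unitTensorIso _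
  -- coherence
  have cO : Coh.IsCoh (Coh.structureModule (CohB1.ProjSpace 1 F)) :=
    Groth.Agent.Lib.Helper45.RefHullStalk.isCoh_structureModule _
  have cn : Coh.IsCoh (Twist.twistProjSpace 1 F n) :=
    Groth.Agent.Lib.Helper17.FinCoh.isCoh_twist 1 F n
  have cI : Coh.IsCoh (ClSub.idealMod I) :=
    ⟨Groth.Agent.Lib.Helper1.isQuasicoherent_idealMod I,
      Groth.Agent.Lib.Helper49.isFiniteType_of_epi eI.inv
        (Groth.Agent.Lib.Helper17.FinCoh.isCoh_twist 1 F _).2⟩
  have cQ : Coh.IsCoh (ClSub.quotMod I) :=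
    ⟨Groth.Agent.Lib.Helper1.isQuasicoherent_quotMod I,
      Groth.Agent.Lib.Helper49.isFiniteType_of_epi (ClSub.toSubscheme I) cO.2⟩
  have c₁ : Coh.IsCoh ((Groth.Agent.Lib.Helper1.idealModComplex I).map
      (Groth.Agent.Lib.Helper38.SerreVanishPn.tw 1 F n)).X₁ :=
    Groth.Agent.Lib.Helper67.TensZero.isCoh_tensorMod cI cn
  have c₂ : Coh.IsCoh ((Groth.Agent.Lib.Helper1.idealModComplex I).map
      (Groth.Agent.Lib.Helper38.SerreVanishPn.tw 1 F n)).X₂ :=
    Groth.Agent.Lib.Helper67.TensZero.isCoh_tensorMod cO cn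
  have c₃ : Coh.IsCoh (CohB1.tensorMod (ClSub.quotMod I) (Twist.twistProjSpace 1 F n)) :=
    Groth.Agent.Lib.Helper67.TensZero.isCoh_tensorMod cQ cn
  -- Euler characteristic
  have hχ := Groth.Agent.Lib.Helper67.CurveDeg.euler_additive_of_coh F (CohB1.ProjSpace 1 F) hd
    hS' c₁ c₂ c₃
  rw [Groth.Agent.Lib.Helper67.TensRank.euler_eq_of_iso F e₁,
    Groth.Agent.Lib.Helper67.TensRank.euler_eq_of_iso F e₂,
    Groth.Agent.Lib.Helper59.P1Curve.euler_twist, Groth.Agent.Lib.Helper59.P1Curve.euler_twist]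
    at hχ
  -- generic rank
  have hrk := Groth.Agent.Lib.Helper67.TensRank.rk_additive hS' c₂
  rw [Groth.Agent.Lib.Helper67.TensRank.rk_eq_of_iso e₁,
    Groth.Agent.Lib.Helper67.TensRank.rk_eq_of_iso e₂,
    Groth.Agent.Lib.Helper67.SmCurve.rk_eq_of_rank
      (Groth.Agent.Lib.Helper59.P1Curve.rank_one_twist F 1 _),
    Groth.Agent.Lib.Helper67.SmCurve.rk_eq_of_rank
      (Groth.Agent.Lib.Helper59.P1Curve.rank_one_twist F 1 _)] at hrk
  have hrk0 : Groth.Agent.Lib.Helper67.TensRank.rk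
      (CohB1.tensorMod (ClSub.quotMod I) (Twist.twistProjSpace 1 F n)) = 0 := by
    change 1 = 1 + Groth.Agent.Lib.Helper67.TensRank.rk
      (CohB1.tensorMod (ClSub.quotMod I) (Twist.twistProjSpace 1 F n)) at hrk
    omega
  have hξ : Subsingleton ((CohB1.tensorMod (ClSub.quotMod I)
      (Twist.twistProjSpace 1 F n)).presheaf.stalk (genericPoint (CohB1.ProjSpace 1 F))) := by
    let : Field ((CohB1.ProjSpace 1 F).presheaf.stalk (genericPoint (CohB1.ProjSpace 1 F))) :=
      inferInstanceAs (Field (CohB1.ProjSpace 1 F).functionField)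
    have := Groth.Agent.Lib.Helper67.TensRank.finite_stalk_of_isCoh c₃
      (genericPoint (CohB1.ProjSpace 1 F))
    exact Module.finrank_zero_iff.mp hrk0
  have h1 := Groth.Agent.Lib.Helper67.CurveTors.subsingleton_HH_one_of_stalk F
    (CohB1.ProjSpace 1 F) hd _ c₃ hξ
  have hg := Groth.Agent.Lib.Helper67.CurveCoh.isGood_of_coh F (CohB1.ProjSpace 1 F) hd _ c₃
  have he := Groth.Agent.Lib.Helper67.EulerLES.euler_eq F hg
  have h10 : Module.finrank F (Coh.HH (CohB1.ProjSpace 1 F)
      (CohB1.tensorMod (ClSub.quotMod I) (Twist.twistProjSpace 1 F n)) 1) = 0 :=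
    Module.finrank_zero_of_subsingleton
  refine ⟨⟨hg.1 0, ?_⟩, ?_⟩
  · have h0 : (Module.finrank F (Coh.HH (CohB1.ProjSpace 1 F)
        (CohB1.tensorMod (ClSub.quotMod I) (Twist.twistProjSpace 1 F n)) 0) : ℤ) = k := by
      change n + 1 = (-(k : ℤ) + n + 1) + Curv2.euler F (CohB1.ProjSpace 1 F)
        (CohB1.tensorMod (ClSub.quotMod I) (Twist.twistProjSpace 1 F n)) at hχ
      rw [h10] at he
      push_cast at he
      linarith
    have h0' : Module.finrank F (Coh.HH (CohB1.ProjSpace 1 F)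
        (CohB1.tensorMod (ClSub.quotMod I) (Twist.twistProjSpace 1 F n)) 0) = k := by
      exact_mod_cast h0
    rw [h0']
    simp only [Nat.choose_one_right]
    omega
  · intro p hp
    rcases Nat.lt_or_ge p 2 with h | h
    · obtain rfl : p = 1 := by omega
      exact h1
    · exact hg.2 p h

end Groth.Agent.S19435
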