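import Groth.Statements.S19436
import Mathlib

set_option autoImplicit false
universe u
open CAlg

namespace Groth.Agent.S19436

/-- For a Noetherian local commutative algebra R over a field k, with maximal ideal M, and an ideal I of
R whose quotient R/I is finite-dimensional over k of dimension n, the power M^n lies in I. -/
theorem result (k : Type u) [Field k] (R : Type u) [CommRing R]
    [Algebra k R] [IsNoetherianRing R] [IsLocalRing R] (I : Ideal R) [Module.Finite k (R ⧸ I)] (n : ℕ)
    (hn : Module.finrank k (R ⧸ I) = n) : IsLocalRing.maximalIdeal R ^ n ≤ I := by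
  set M := IsLocalRing.maximalIdeal R with hM
  let f : R →ₗ[k] R ⧸ I := (Ideal.Quotient.mkₐ k I).toLinearMap
  have hf : ∀ x, f x = Ideal.Quotient.mk I x := fun x => rfl
  let W : ℕ → Submodule k (R ⧸ I) := fun j => Submodule.map f ((M ^ j).restrictScalars k)
  have hWbot : ∀ j, W j = ⊥ → M ^ j ≤ I := by
    intro j hj x hx
    have : f x ∈ W j := Submodule.mem_map_of_mem (by simpa using hx)
    rw [hj, Submodule.mem_bot, hf, Ideal.Quotient.eq_zero_iff_mem] at this
    exact this
  have hWanti : ∀ j, W (j + 1) ≤ W j := by
    intro j
    apply Submodule.map_mono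
    intro x hx
    exact Ideal.pow_le_pow_right (Nat.le_succ j) hx
  have hWstrict : ∀ j, W (j + 1) = W j → W j = ⊥ := by
    intro j hj
    have h1 : M ^ j ≤ I ⊔ M • M ^ j := by
      intro x hx
      have hx' : f x ∈ W j := Submodule.mem_map_of_mem (by simpa using hx)
      rw [← hj] at hx'
      obtain ⟨y, hy, hyx⟩ := hx'
      have hy' : y ∈ M ^ (j + 1) := by simpa using hy
      rw [hf, hf, Ideal.Quotient.eq] at hyx
      have : x = (x - y) + y := by ring
      rw [this]
      apply Submodule.add_mem_sup
      · have := I.neg_mem hyx
        simpa using this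
      · rw [smul_eq_mul, ← pow_succ']
        exact hy'
    have h2 : M ^ j ≤ I :=
      Submodule.le_of_le_smul_of_le_jacobson_bot (IsNoetherian.noetherian _)
        (IsLocalRing.maximalIdeal_le_jacobson ⊥) h1
    rw [eq_bot_iff]
    rintro _ ⟨x, hx, rfl⟩
    have hx' : x ∈ M ^ j := by simpa using hx
    rw [Submodule.mem_bot, hf, Ideal.Quotient.eq_zero_iff_mem]
    exact h2 hx'
  have key : ∀ j, W j = ⊥ ∨ Module.finrank k (W j) + j ≤ n := by
    intro j
    induction j with
    | zero =>
      right
      rw [← hn]
      simpa using Submodule.finrank_le (W 0)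
    | succ j ih =>
      rcases ih with h | h
      · left
        rw [eq_bot_iff, ← h]
        exact hWanti j
      · by_cases hj : W (j + 1) = W j
        · left
          rw [hj]
          exact hWstrict j hj
        · right
          have : Module.finrank k (W (j + 1)) < Module.finrank k (W j) :=
            Submodule.finrank_lt_finrank_of_lt (lt_of_le_of_ne (hWanti j) hj)
          omega
  apply hWbot
  rcases key n with h | h
  · exact h
  · have : Module.finrank k (W n) = 0 := by omega
    exact Submodule.finrank_eq_zero.mp this

end Groth.Agent.S19436
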