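import Groth.Statements.S19438
import Mathlib

set_option autoImplicit false
universe u
open CAlg

namespace Groth.Agent.S19438

open Polynomial

/-- First assertion: let A be a Noetherian local commutative algebra over a field k with maximal ideal
M, residue field k (the map from k to A/M is onto) and embedding dimension dim M/M^2 at least 2, and
let I be a proper ideal with A/I finite-dimensional over k. If A/I is generated as a k-algebra by
one element, then some element of I does not lie in M^2; that is, the finite closed subscheme
defined by I lies on a smooth hypersurface germ (it is curvilinear). (The published statement is for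
the local ring of a smooth surface at a closed point; only a Noetherian local algebra with residue
field k and embedding dimension at least 2 is assumed here, which is what the published argument
uses.) -/
theorem result (k : Type u) [Field k]
    (A : Type u) [CommRing A] [Algebra k A] [IsNoetherianRing A] [IsLocalRing A]
    (hres : Function.Surjective (algebraMap k (IsLocalRing.ResidueField A)))
    (hemb : 2 ≤ Module.finrank (IsLocalRing.ResidueField A) (IsLocalRing.CotangentSpace A))
    (I : Ideal A) (hI : I ≠ ⊤) [Module.Finite k (A ⧸ I)]
    (f : A ⧸ I) (hf : Algebra.adjoin k {f} = ⊤) :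
    ∃ g ∈ I, g ∉ IsLocalRing.maximalIdeal A ^ 2 := by
  by_contra hcon
  push Not at hcon
  set M := IsLocalRing.maximalIdeal A with hM
  have hIM : I ≤ M ^ 2 := fun g hg => hcon g hg
  -- decomposition A = k + M
  have hdec : ∀ x : A, ∃ c : k, x - algebraMap k A c ∈ M := by
    intro x
    obtain ⟨c, hc⟩ := hres (IsLocalRing.residue A x)
    refine ⟨c, ?_⟩
    rw [IsScalarTower.algebraMap_apply k A (IsLocalRing.ResidueField A)] at hc
    have : IsLocalRing.residue A (x - algebraMap k A c) = 0 := by
      rw [map_sub, ← hc]; exact sub_self _
    exact (IsLocalRing.residue_eq_zero_iff _).mp this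
  obtain ⟨F, rfl⟩ := Ideal.Quotient.mk_surjective f
  obtain ⟨c₀, hc₀⟩ := hdec F
  set m := F - algebraMap k A c₀ with hm
  -- every element of M is a multiple of m modulo M²
  have key : ∀ x ∈ M, ∃ b : k, x - algebraMap k A b * m ∈ M ^ 2 := by
    intro x hx
    have hx' : Ideal.Quotient.mk I x ∈ Algebra.adjoin k {Ideal.Quotient.mk I F} := by
      rw [hf]; trivial
    rw [Algebra.adjoin_singleton_eq_range_aeval] at hx'
    obtain ⟨p, hp⟩ := hx'
    have hp' : Ideal.Quotient.mk I (aeval F p) = Ideal.Quotient.mk I x := by
      rw [← hp]
      change (Ideal.Quotient.mkₐ k I) (aeval F p) = aeval ((Ideal.Quotient.mkₐ k I) F) p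
      rw [aeval_algHom_apply]
    have h1 : aeval F p - x ∈ I := Ideal.Quotient.eq.mp hp'
    obtain ⟨K, hK⟩ := binomExpansion (p.map (algebraMap k A)) (algebraMap k A c₀) m
    have hF : algebraMap k A c₀ + m = F := by rw [hm]; ring
    rw [hF, derivative_map] at hK
    simp only [eval_map_algebraMap, aeval_algebraMap_apply_eq_algebraMap_eval] at hK
    set a := eval c₀ p
    set b := eval c₀ (derivative p)
    refine ⟨b, ?_⟩
    have hm2 : K * m ^ 2 ∈ M ^ 2 := Ideal.mul_mem_left _ _ (Ideal.pow_mem_pow hc₀ 2)
    have h2 : algebraMap k A a - (x - algebraMap k A b * m) ∈ M ^ 2 := by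
      have : algebraMap k A a - (x - algebraMap k A b * m) = (aeval F p - x) - K * m ^ 2 := by
        rw [hK]; ring
      rw [this]
      exact Ideal.sub_mem _ (hIM h1) hm2
    have ha : a = 0 := by
      by_contra ha
      have hunit : IsUnit (algebraMap k A a) := (IsUnit.mk0 a ha).map (algebraMap k A)
      have : algebraMap k A a ∈ M := by
        have h3 : algebraMap k A a = (algebraMap k A a - (x - algebraMap k A b * m)) + x - algebraMap k A b * m := by ring
        rw [h3]
        exact Ideal.sub_mem _ (Ideal.add_mem _ (Ideal.pow_le_self two_ne_zero h2) hx) (Ideal.mul_mem_left _ _ hc₀)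
      exact (IsLocalRing.mem_maximalIdeal _).mp this hunit
    rw [ha, map_zero, zero_sub, neg_mem_iff] at h2
    exact h2
  have hle : Module.finrank (IsLocalRing.ResidueField A) (IsLocalRing.CotangentSpace A) ≤ 1 := by
    apply finrank_le_one (M.toCotangent ⟨m, hc₀⟩)
    intro w
    obtain ⟨⟨x, hx⟩, rfl⟩ := M.toCotangent_surjective w
    obtain ⟨b, hb⟩ := key x hx
    refine ⟨algebraMap A (IsLocalRing.ResidueField A) (algebraMap k A b), ?_⟩
    rw [algebraMap_smul, ← map_smul, Ideal.toCotangent_eq]
    have : ((algebraMap k A b • (⟨m, hc₀⟩ : M) : M) : A) - ((⟨x, hx⟩ : M) : A) = -(x - algebraMap k A b * m) := by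
      simp only [Submodule.coe_smul, smul_eq_mul]
      ring
    rw [this, neg_mem_iff]
    exact hb
  omega

end Groth.Agent.S19438
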