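import Groth.Statements.S19439
import Mathlib

set_option autoImplicit false
universe u
open CAlg

namespace Groth.Agent.S19439

open MvPolynomial

/-- the image of the polynomials of degree at most `j` in the quotient. -/
noncomputable def F {k : Type u} [Field k] {N : ℕ} (I : Ideal (MvPolynomial (Fin N) k)) (j : ℕ) :
    Submodule k (MvPolynomial (Fin N) k ⧸ I) :=
  Submodule.map (Ideal.Quotient.mkₐ k I).toLinearMap (MvPolynomial.restrictTotalDegree (Fin N) k j)

theorem F_mono {k : Type u} [Field k] {N : ℕ} (I : Ideal (MvPolynomial (Fin N) k)) (j : ℕ) :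
    F I j ≤ F I (j + 1) := by
  apply Submodule.map_mono
  intro p hp
  rw [mem_restrictTotalDegree] at hp ⊢
  omega

theorem one_mem_F {k : Type u} [Field k] {N : ℕ} (I : Ideal (MvPolynomial (Fin N) k)) (j : ℕ) :
    (1 : MvPolynomial (Fin N) k ⧸ I) ∈ F I j := by
  refine ⟨1, ?_, by simp⟩
  simp [mem_restrictTotalDegree]

theorem F_eq_top_of_stable {k : Type u} [Field k] {N : ℕ} (I : Ideal (MvPolynomial (Fin N) k)) (j : ℕ)
    (h : F I (j + 1) = F I j) : F I j = ⊤ := by
  -- `F I j` is stable under multiplication by the variables
  have hX : ∀ (i : Fin N) (w : MvPolynomial (Fin N) k ⧸ I), w ∈ F I j →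
      Ideal.Quotient.mk I (X i) * w ∈ F I j := by
    rintro i _ ⟨p, hp, rfl⟩
    rw [← h]
    refine ⟨X i * p, ?_, by simp⟩
    rw [SetLike.mem_coe, mem_restrictTotalDegree] at hp ⊢
    calc (X i * p).totalDegree ≤ (X i : MvPolynomial (Fin N) k).totalDegree + p.totalDegree :=
          totalDegree_mul _ _
      _ ≤ 1 + j := by
          gcongr
          rw [totalDegree_X]
      _ = j + 1 := by ring
  have hall : ∀ (p : MvPolynomial (Fin N) k) (w : MvPolynomial (Fin N) k ⧸ I), w ∈ F I j →
      Ideal.Quotient.mk I p * w ∈ F I j := by
    intro p
    induction p using MvPolynomial.induction_on with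
    | C a =>
      intro w hw
      have : Ideal.Quotient.mk I (C a) * w = a • w := by
        rw [Algebra.smul_def (R := k) (A := MvPolynomial (Fin N) k ⧸ I) a w]; rfl
      rw [this]
      exact Submodule.smul_mem _ _ hw
    | add p q hp hq =>
      intro w hw
      rw [map_add, add_mul]
      exact Submodule.add_mem _ (hp w hw) (hq w hw)
    | mul_X p i hp =>
      intro w hw
      rw [map_mul, mul_assoc]
      exact hp _ (hX i w hw)
  rw [eq_top_iff]
  rintro w -
  obtain ⟨p, rfl⟩ := Ideal.Quotient.mk_surjective w
  have := hall p 1 (one_mem_F I j)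
  rwa [mul_one] at this

/-- Affine form: for all n and N there is an integer d, that depends only on n and N, such that for
every algebraically closed field k and every ideal I of the polynomial ring in N variables over k
whose quotient has finite dimension n over k, the polynomials of total degree at most d map onto the
quotient. -/
theorem result (n N : ℕ) :
    ∃ d : ℕ, ∀ (k : Type u) [Field k] [IsAlgClosed k] (I : Ideal (MvPolynomial (Fin N) k))
      [Module.Finite k (MvPolynomial (Fin N) k ⧸ I)],
      Module.finrank k (MvPolynomial (Fin N) k ⧸ I) = n →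
      Submodule.map (Ideal.Quotient.mkₐ k I).toLinearMap (MvPolynomial.restrictTotalDegree (Fin N) k d) = ⊤ := by
  refine ⟨n, ?_⟩
  intro k _ _ I _ hn
  change F I n = ⊤
  have key : ∀ j, F I j = ⊤ ∨ j + 1 ≤ Module.finrank k (F I j) := by
    intro j
    induction j with
    | zero =>
      by_cases h0 : F I 0 = ⊥
      · left
        have h1 := one_mem_F I 0
        rw [h0, Submodule.mem_bot] at h1
        have : Subsingleton (MvPolynomial (Fin N) k ⧸ I) := subsingleton_of_zero_eq_one h1.symm
        exact Subsingleton.elim _ _
      · right
        have : Module.finrank k (F I 0) ≠ 0 := fun h => h0 (Submodule.finrank_eq_zero.mp h)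
        omega
    | succ j ih =>
      rcases ih with h | h
      · left
        rw [eq_top_iff, ← h]
        exact F_mono I j
      · by_cases hj : F I (j + 1) = F I j
        · left
          rw [hj]
          exact F_eq_top_of_stable I j hj
        · right
          have : Module.finrank k (F I j) < Module.finrank k (F I (j + 1)) :=
            Submodule.finrank_lt_finrank_of_lt (lt_of_le_of_ne (F_mono I j) (Ne.symm hj))
          omega
  rcases key n with h | h
  · exact h
  · have := Submodule.finrank_le (F I n)
    omega

end Groth.Agent.S19439
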