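import Groth.Statements.S19444
import Mathlib

set_option autoImplicit false
universe u
open SymTen

namespace Groth.Agent.S19444

section polar
open Finset

theorem incl_excl_aux {A : Type*} [CommRing A] {ι : Type*} [Fintype ι] [DecidableEq ι]
    (T : Finset ι) :
    (∑ S ∈ (univ : Finset ι).powerset, if Disjoint S T then (-1 : A) ^ S.card else 0) =
      if T = univ then 1 else 0 := by
  have h1 : (∑ S ∈ (univ : Finset ι).powerset, if Disjoint S T then (-1 : A) ^ S.card else 0) =
      ∑ S ∈ (Tᶜ).powerset, (-1 : A) ^ S.card := by
    rw [← Finset.sum_filter]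
    congr 1
    ext S
    simp only [mem_filter, mem_powerset, subset_univ, true_and]
    rw [Finset.subset_compl_iff_disjoint_right]
  rw [h1]
  have h2 := Finset.sum_powerset_neg_one_pow_card (x := Tᶜ)
  have h3 := congrArg (Int.cast : ℤ → A) h2
  rw [Int.cast_sum] at h3
  simp only [Int.cast_pow, Int.cast_neg, Int.cast_one] at h3
  rw [h3]
  by_cases hT : T = univ
  · simp [hT]
  · have : Tᶜ ≠ ∅ := by
      intro h
      apply hT
      rw [← compl_compl T, h, compl_empty]
    simp [hT, this]

theorem polarization {A : Type*} [CommRing A] {M N : Type*} [AddCommGroup M] [Module A M]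
    [AddCommGroup N] [Module A N] {ι : Type*} [Fintype ι] [DecidableEq ι]
    (m : MultilinearMap A (fun _ : ι => M) N) (f : ι → M) :
    ∑ σ : Equiv.Perm ι, m (fun i => f (σ i)) =
      ∑ S ∈ (univ : Finset ι).powerset, (-1 : A) ^ S.card • m (fun _ => ∑ i ∈ Sᶜ, f i) := by
  have h1 : ∀ S : Finset ι, m (fun _ => ∑ i ∈ Sᶜ, f i) =
      ∑ r : ι → ι, if Disjoint S (image r univ) then m (fun i => f (r i)) else 0 := by
    intro S
    rw [MultilinearMap.map_sum_finset m (fun _ j => f j) (fun _ => Sᶜ), ← Finset.sum_filter]
    congr 1
    ext r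
    simp only [Fintype.mem_piFinset, mem_compl, mem_filter, mem_univ, true_and]
    rw [Finset.disjoint_right]
    constructor
    · intro h x hx
      obtain ⟨i, -, rfl⟩ := Finset.mem_image.mp hx
      exact h i
    · intro h i
      exact h (Finset.mem_image_of_mem r (mem_univ i))
  simp_rw [h1, Finset.smul_sum]
  rw [Finset.sum_comm]
  have h2 : ∀ r : ι → ι, (∑ S ∈ (univ : Finset ι).powerset,
      (-1 : A) ^ S.card • (if Disjoint S (image r univ) then m (fun i => f (r i)) else 0)) =
      (if image r univ = univ then (1 : A) else 0) • m (fun i => f (r i)) := by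
    intro r
    rw [← incl_excl_aux (A := A) (image r univ), Finset.sum_smul]
    refine Finset.sum_congr rfl fun S _ => ?_
    split_ifs <;> simp
  simp_rw [h2]
  -- sum over surjective functions = sum over permutations
  have h3 : (∑ r : ι → ι, (if image r univ = univ then (1 : A) else 0) • m (fun i => f (r i))) =
      ∑ r ∈ (univ : Finset (ι → ι)).filter (fun r => Function.Bijective r),
        m (fun i => f (r i)) := by
    rw [Finset.sum_filter]
    refine Finset.sum_congr rfl fun r _ => ?_
    have : image r univ = univ ↔ Function.Bijective r := by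
      constructor
      · intro h
        have hs : Function.Surjective r := by
          intro y
          have : y ∈ image r univ := by rw [h]; exact mem_univ y
          obtain ⟨x, -, hx⟩ := Finset.mem_image.mp this
          exact ⟨x, hx⟩
        exact ⟨Finite.injective_iff_surjective.mpr hs, hs⟩
      · intro h
        exact Finset.image_univ_of_surjective h.2
    by_cases h : Function.Bijective r
    · rw [if_pos (this.mpr h), if_pos h, one_smul]
    · rw [if_neg (fun h' => h (this.mp h')), if_neg h, zero_smul]
  rw [h3]
  refine Finset.sum_bij (fun σ _ => (σ : ι → ι)) ?_ ?_ ?_ ?_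
  · intro σ _
    simp only [mem_filter, mem_univ, true_and]
    exact σ.bijective
  · intro σ _ τ _ h
    exact Equiv.coe_fn_injective h
  · intro r hr
    simp only [mem_filter, mem_univ, true_and] at hr
    exact ⟨Equiv.ofBijective r hr, mem_univ _, rfl⟩
  · intro σ _
    rfl

end polar

section span
open scoped TensorProduct
variable (A : Type u) [CommRing A] (R : Type u) [CommRing R] [Algebra A R] (n : ℕ)

theorem sym_mem_span (t : ⨂[A] _ : Fin n, R) :
    (∑ σ : Equiv.Perm (Fin n), PiTensorProduct.reindex A (fun _ : Fin n => R) σ t) ∈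
      Submodule.span A (Set.range fun r : R => PiTensorProduct.tprod A (fun _ : Fin n => r)) := by
  induction t using PiTensorProduct.induction_on with
  | smul_tprod a f =>
    simp only [map_smul, PiTensorProduct.reindex_tprod, ← Finset.smul_sum]
    apply Submodule.smul_mem
    have h1 : (∑ σ : Equiv.Perm (Fin n), PiTensorProduct.tprod A (fun i => f (σ.symm i))) =
        ∑ σ : Equiv.Perm (Fin n), PiTensorProduct.tprod A (fun i => f (σ i)) :=
      Equiv.sum_comp (Equiv.inv (Equiv.Perm (Fin n)))
        (fun σ => PiTensorProduct.tprod A (fun i => f (σ i)))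
    rw [h1, polarization (PiTensorProduct.tprod A) f]
    apply Submodule.sum_mem
    intro S _
    apply Submodule.smul_mem
    exact Submodule.subset_span ⟨_, rfl⟩
  | add x y hx hy =>
    simp only [map_add, Finset.sum_add_distrib]
    exact Submodule.add_mem _ hx hy

theorem mem_span_of_mem_TS (hfact : IsUnit ((Nat.factorial n : ℕ) : A))
    (z : ⨂[A] _ : Fin n, R) (hz : z ∈ SymTen.TS A R n) :
    z ∈ Submodule.span A (Set.range fun r : R => PiTensorProduct.tprod A (fun _ : Fin n => r)) := by
  obtain ⟨u, hu⟩ := hfact.exists_left_inv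
  have h1 : (∑ σ : Equiv.Perm (Fin n), PiTensorProduct.reindex A (fun _ : Fin n => R) σ z) =
      ((Nat.factorial n : ℕ) : A) • z := by
    rw [Finset.sum_congr rfl (fun σ _ => hz σ), Finset.sum_const, Finset.card_univ,
      Fintype.card_perm, Fintype.card_fin, Nat.cast_smul_eq_nsmul]
  have h2 : z = u • (∑ σ : Equiv.Perm (Fin n), PiTensorProduct.reindex A (fun _ : Fin n => R) σ z) := by
    rw [h1, smul_smul, hu, one_smul]
  rw [h2]
  exact Submodule.smul_mem _ _ (sym_mem_span A R n z)

theorem span_tpow_eq_top (hfact : IsUnit ((Nat.factorial n : ℕ) : A)) :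
    Submodule.span A (Set.range (SymTen.tpow A R n : R → SymTen.TS A R n)) = ⊤ := by
  rw [eq_top_iff]
  rintro ⟨z, hz⟩ -
  have h := mem_span_of_mem_TS A R n hfact z hz
  have h3 : Submodule.span A (Set.range fun r : R => PiTensorProduct.tprod A (fun _ : Fin n => r)) =
      Submodule.map (SymTen.TS A R n).val.toLinearMap
        (Submodule.span A (Set.range (SymTen.tpow A R n : R → SymTen.TS A R n))) := by
    rw [Submodule.map_span, ← Set.range_comp]
    rfl
  rw [h3] at h
  obtain ⟨w, hw, e⟩ := h
  have : w = ⟨z, hz⟩ := Subtype.ext e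
  rw [← this]
  exact hw

end span

section detlin
open scoped TensorProduct
variable (A : Type u) [CommRing A] (R : Type u) [CommRing R] [Algebra A R] (n : ℕ)

/-- The `i`-th row of the matrix of left multiplication. -/
noncomputable def rowmap (b : Module.Basis (Fin n) A R) (i : Fin n) : R →ₗ[A] (Fin n → A) where
  toFun r := (Algebra.leftMulMatrix b r) i
  map_add' r s := by rw [map_add]; rfl
  map_smul' a r := by rw [map_smul]; rfl

/-- The determinant of the matrix whose `i`-th row is the `i`-th row of multiplication by `v i`. -/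
noncomputable def detM (b : Module.Basis (Fin n) A R) : MultilinearMap A (fun _ : Fin n => R) A :=
  (Matrix.detRowAlternating (R := A) (n := Fin n)).toMultilinearMap.compLinearMap (rowmap A R n b)

theorem detM_const (b : Module.Basis (Fin n) A R) (r : R) :
    detM A R n b (fun _ => r) = Algebra.norm A r := by
  rw [Algebra.norm_eq_matrix_det b r]
  rfl

/-- The polarised determinant on the tensor power. -/
noncomputable def polDet (b : Module.Basis (Fin n) A R) : (⨂[A] _ : Fin n, R) →ₗ[A] A :=
  PiTensorProduct.lift (∑ σ : Equiv.Perm (Fin n), (detM A R n b).domDomCongr σ)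

theorem polDet_tprod_const (b : Module.Basis (Fin n) A R) (r : R) :
    polDet A R n b (PiTensorProduct.tprod A (fun _ : Fin n => r)) =
      ((Nat.factorial n : ℕ) : A) * Algebra.norm A r := by
  unfold polDet
  rw [PiTensorProduct.lift.tprod, FunLike.coe_sum, Finset.sum_apply]
  simp only [MultilinearMap.domDomCongr_apply, detM_const]
  rw [Finset.sum_const, Finset.card_univ, Fintype.card_perm, Fintype.card_fin, nsmul_eq_mul]

end detlin


/-- Linearised norm: let A be a commutative ring in which n! is invertible and R a commutative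
A-algebra, free of rank n as an A-module. There is a unique A-algebra homomorphism from the
symmetric tensors TS^n_A(R) to A taking r ⊗ ⋯ ⊗ r to the norm of r for every r in R. (The published
corollary is stated for any free algebra of rank n; the construction printed for it divides by n!,
and n! invertible is assumed here.) -/
theorem result (A : Type u) [CommRing A] (R : Type u) [CommRing R]
    [Algebra A R] [Module.Free A R] [Module.Finite A R] (n : ℕ) (hn : Module.finrank A R = n)
    (hfact : IsUnit ((Nat.factorial n : ℕ) : A)) :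
    ∃! φ : SymTen.TS A R n →ₐ[A] A, ∀ r : R, φ (SymTen.tpow A R n r) = Algebra.norm A r := by
  classical
  rcases subsingleton_or_nontrivial A with hA | hA
  · have hsub : Subsingleton (SymTen.TS A R n) := by
      refine ⟨fun x y => ?_⟩
      have h1 : x = (1 : A) • x := (one_smul A x).symm
      have h2 : y = (1 : A) • y := (one_smul A y).symm
      rw [h1, h2, Subsingleton.elim (1 : A) 0, zero_smul, zero_smul]
    refine ⟨AlgHom.ofLinearMap 0 (Subsingleton.elim _ _) (fun _ _ => Subsingleton.elim _ _),
      fun r => Subsingleton.elim _ _, fun ψ _ => ?_⟩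
    ext x
    exact Subsingleton.elim _ _
  obtain ⟨u, hu⟩ := hfact.exists_left_inv
  let b : Module.Basis (Fin n) A R := Module.finBasisOfFinrankEq A R hn
  have hspan := span_tpow_eq_top A R n hfact
  let φ₀ : SymTen.TS A R n →ₗ[A] A :=
    u • ((polDet A R n b).comp (SymTen.TS A R n).val.toLinearMap)
  have hφ₀ : ∀ r : R, φ₀ (SymTen.tpow A R n r) = Algebra.norm A r := by
    intro r
    have : φ₀ (SymTen.tpow A R n r) =
        u • polDet A R n b (PiTensorProduct.tprod A (fun _ : Fin n => r)) := rfl
    rw [this, polDet_tprod_const, smul_eq_mul, ← mul_assoc, hu, one_mul]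
  have hmul : ∀ x y : SymTen.TS A R n, φ₀ (x * y) = φ₀ x * φ₀ y := by
    intro x y
    have hx : x ∈ Submodule.span A (Set.range (SymTen.tpow A R n : R → SymTen.TS A R n)) := by
      rw [hspan]; trivial
    have hy : y ∈ Submodule.span A (Set.range (SymTen.tpow A R n : R → SymTen.TS A R n)) := by
      rw [hspan]; trivial
    induction hx using Submodule.span_induction with
    | mem x hx =>
      obtain ⟨r, rfl⟩ := hx
      induction hy using Submodule.span_induction with
      | mem y hy =>
        obtain ⟨s, rfl⟩ := hy
        rw [← map_mul, hφ₀, hφ₀, hφ₀, map_mul]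
      | zero => simp
      | add y y' _ _ hy hy' => rw [mul_add, map_add, hy, hy', map_add, mul_add]
      | smul a y _ hy => rw [mul_smul_comm, map_smul, hy, map_smul, smul_eq_mul, smul_eq_mul]; ring
    | zero => simp
    | add x x' _ _ hx hx' => rw [add_mul, map_add, hx, hx', map_add, add_mul]
    | smul a x _ hx => rw [smul_mul_assoc, map_smul, hx, map_smul, smul_eq_mul, smul_eq_mul]; ring
  have hone : φ₀ 1 = 1 := by
    rw [← map_one (SymTen.tpow A R n), hφ₀, map_one]
  refine ⟨AlgHom.ofLinearMap φ₀ hone hmul, fun r => hφ₀ r, ?_⟩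
  intro ψ hψ
  apply AlgHom.toLinearMap_injective
  apply LinearMap.ext_on_range hspan
  intro r
  show ψ (SymTen.tpow A R n r) = φ₀ (SymTen.tpow A R n r)
  rw [hψ, hφ₀]

end Groth.Agent.S19444
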