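import Groth.Statements.S19448
import Mathlib

set_option autoImplicit false
universe u
open CAlg

namespace Groth.Agent.S19448

/-- Let k be a field, A a Noetherian local k-algebra with maximal ideal M and residue field k, and G a
finite group with |G| ≠ 0 in k acting on A by k-algebra automorphisms. An element of G which acts
trivially on M/M^2 acts trivially on A; in other words the stabilizer acts faithfully on the
cotangent space whenever it acts faithfully on the local ring. -/
theorem result (k : Type u) [Field k] (A : Type u) [CommRing A]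
    [Algebra k A] [IsLocalRing A] [IsNoetherianRing A]
    (hres : Function.Surjective (algebraMap k (IsLocalRing.ResidueField A)))
    (G : Type u) [Group G] [Finite G] [MulSemiringAction G A] [SMulCommClass G k A]
    (hG : (Nat.card G : k) ≠ 0) (g : G)
    (hg : ∀ a ∈ IsLocalRing.maximalIdeal A, g • a - a ∈ IsLocalRing.maximalIdeal A ^ 2) (a : A) :
    g • a = a := by
  set M := IsLocalRing.maximalIdeal A with hM
  let δ : A → A := fun x => g • x - x
  have hδ : ∀ x, δ x = g • x - x := fun _ => rfl
  have δ_add : ∀ x y, δ (x + y) = δ x + δ y := by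
    intro x y; simp only [hδ, smul_add]; ring
  have δ_mul : ∀ x y, δ (x * y) = δ x * (g • y) + x * δ y := by
    intro x y; simp only [hδ, smul_mul']; ring
  have δ_smul : ∀ (n : ℕ) x, δ (n • x) = n • δ x := by
    intro n x; simp only [hδ, smul_sub, smul_comm g n x]
  -- constants are fixed
  have δ_alg : ∀ c : k, δ (algebraMap k A c) = 0 := by
    intro c
    simp only [hδ, Algebra.algebraMap_eq_smul_one, smul_comm g c (1 : A), smul_one, sub_self]
  -- decomposition A = k + M
  have hdec : ∀ x : A, ∃ c : k, x - algebraMap k A c ∈ M := by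
    intro x
    obtain ⟨c, hc⟩ := hres (IsLocalRing.residue A x)
    refine ⟨c, ?_⟩
    rw [IsScalarTower.algebraMap_apply k A (IsLocalRing.ResidueField A)] at hc
    have : IsLocalRing.residue A (x - algebraMap k A c) = 0 := by
      rw [map_sub, ← hc]; exact sub_self _
    exact (IsLocalRing.residue_eq_zero_iff _).mp this
  -- δ A ⊆ M²
  have hδ2 : ∀ x, δ x ∈ M ^ 2 := by
    intro x
    obtain ⟨c, hc⟩ := hdec x
    have : x = (x - algebraMap k A c) + algebraMap k A c := by ring
    rw [this, δ_add, δ_alg, add_zero]
    exact hg _ hc
  -- g preserves powers of M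
  have hgM : ∀ x ∈ M, g • x ∈ M := by
    intro x hx
    have : g • x = δ x + x := by simp [hδ]
    rw [this]
    exact M.add_mem (Ideal.pow_le_self two_ne_zero (hδ2 x)) hx
  have hgMj : ∀ (j : ℕ) x, x ∈ M ^ j → g • x ∈ M ^ j := by
    intro j
    induction j with
    | zero => intro x _; simp
    | succ j ih =>
      intro x hx
      rw [pow_succ] at hx ⊢
      refine Submodule.mul_induction_on hx ?_ ?_
      · intro m hm n hn
        rw [smul_mul']
        exact Ideal.mul_mem_mul (ih m hm) (hgM n hn)
      · intro x y hx hy
        rw [smul_add]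
        exact Ideal.add_mem _ hx hy
  -- δ (M^j) ⊆ M^(j+1)
  have hδM : ∀ (j : ℕ) x, x ∈ M ^ j → δ x ∈ M ^ (j + 1) := by
    intro j
    induction j with
    | zero =>
      intro x _
      exact Ideal.pow_le_pow_right (by omega) (hδ2 x)
    | succ j ih =>
      intro x hx
      rw [pow_succ] at hx
      refine Submodule.mul_induction_on hx ?_ ?_
      · intro m hm n hn
        rw [δ_mul]
        apply Ideal.add_mem
        · have h1 : δ m * g • n ∈ M ^ (j + 1) * M := Ideal.mul_mem_mul (ih m hm) (hgM n hn)
          rwa [← pow_succ] at h1
        · have h1 : m * δ n ∈ M ^ j * M ^ 2 := Ideal.mul_mem_mul hm (hδ2 n)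
          rwa [← pow_add] at h1
      · intro x y hx hy
        rw [δ_add]
        exact Ideal.add_mem _ hx hy
  -- main induction
  have hN : g ^ (Nat.card G) = 1 := pow_card_eq_one'
  have hmain : ∀ i : ℕ, ∀ x, δ x ∈ M ^ (i + 2) := by
    intro i
    induction i with
    | zero => exact hδ2
    | succ i ih =>
      intro x
      have hstep : ∀ j : ℕ, g ^ j • x - x - j • δ x ∈ M ^ (i + 3) := by
        intro j
        induction j with
        | zero => simp
        | succ j ihj =>
          set b := g ^ j • x with hb
          set r := b - x - j • δ x with hr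
          have hbx : b = x + j • δ x + r := by rw [hr]; ring
          have h1 : g ^ (j + 1) • x = b + δ b := by
            rw [pow_succ', mul_smul, hδ]; ring
          have h2 : δ b = δ x + j • δ (δ x) + δ r := by
            rw [hbx, δ_add, δ_add, δ_smul]
          have h3 : g ^ (j + 1) • x - x - (j + 1) • δ x = r + (j • δ (δ x) + δ r) := by
            rw [h1, h2, hr, add_smul, one_smul]; ring
          rw [h3]
          apply Ideal.add_mem _ ihj
          apply Ideal.add_mem
          · exact Submodule.smul_of_tower_mem _ _ (hδM _ _ (ih x))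
          · exact Ideal.pow_le_pow_right (by omega) (hδM _ _ ihj)
      have h4 := hstep (Nat.card G)
      rw [hN, one_smul, sub_self, zero_sub, neg_mem_iff] at h4
      have h5 : δ x = algebraMap k A ((Nat.card G : k)⁻¹) * (Nat.card G • δ x) := by
        rw [← Algebra.smul_def, ← Nat.cast_smul_eq_nsmul k, smul_smul, inv_mul_cancel₀ hG, one_smul]
      rw [h5]
      exact Ideal.mul_mem_left _ _ h4
  have hzero : δ a = 0 := by
    have hne : M ≠ ⊤ := Ideal.IsPrime.ne_top'
    have hK := Ideal.iInf_pow_eq_bot_of_isLocalRing M hne
    have : δ a ∈ (⨅ i : ℕ, M ^ i) := by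
      rw [Ideal.mem_iInf]
      intro i
      exact Ideal.pow_le_pow_right (by omega : i ≤ i + 2) (hmain i a)
    rwa [hK] at this
  exact sub_eq_zero.mp hzero

end Groth.Agent.S19448
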