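import Mathlib
import Groth.Statements.S19449

set_option autoImplicit false
universe u
open SymRep

namespace Groth.Agent.S19449


open MvPolynomial

/-- the permutation action on the `2n` variables. -/
noncomputable def act (k : Type u) [CommRing k] {n : ℕ} (σ : Equiv.Perm (Fin n)) :
    MvPolynomial (Fin n × Fin 2) k →ₐ[k] MvPolynomial (Fin n × Fin 2) k :=
  rename (fun v : Fin n × Fin 2 => (σ v.1, v.2))

/-- the matrix `(x_i^{p_j} y_i^{q_j})`. -/
noncomputable def mat (k : Type u) [CommRing k] {n : ℕ} (p : Fin n → ℕ × ℕ) :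
    Matrix (Fin n) (Fin n) (MvPolynomial (Fin n × Fin 2) k) :=
  Matrix.of fun i j => X (i, 0) ^ (p j).1 * X (i, 1) ^ (p j).2

theorem act_det (k : Type u) [CommRing k] {n : ℕ} (σ : Equiv.Perm (Fin n)) (p : Fin n → ℕ × ℕ) :
    act k σ (mat k p).det = ((Equiv.Perm.sign σ : ℤˣ) : ℤ) • (mat k p).det := by
  rw [AlgHom.map_det]
  have : (act k σ).mapMatrix (mat k p) = (mat k p).submatrix σ id := by
    ext i j
    simp [act, mat]
  rw [this, Matrix.det_permute, zsmul_eq_mul]

/-- the alternation operator. -/
noncomputable def alt (k : Type u) [CommRing k] {n : ℕ} (f : MvPolynomial (Fin n × Fin 2) k) :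
    MvPolynomial (Fin n × Fin 2) k :=
  ∑ σ : Equiv.Perm (Fin n), ((Equiv.Perm.sign σ : ℤˣ) : ℤ) • act k σ f

theorem alt_add (k : Type u) [CommRing k] {n : ℕ} (f g : MvPolynomial (Fin n × Fin 2) k) :
    alt k (f + g) = alt k f + alt k g := by
  simp only [alt, map_add, smul_add, Finset.sum_add_distrib]

theorem monomial_eq_prod (k : Type u) [CommRing k] {n : ℕ} (m : Fin n × Fin 2 →₀ ℕ) (c : k) :
    monomial m c = C c * ∏ i : Fin n, (X (i, 0) ^ m (i, 0) * X (i, 1) ^ m (i, 1)) := by
  rw [monomial_eq, Finsupp.prod_fintype _ _ (fun _ => pow_zero _), Fintype.prod_prod_type]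
  simp only [Fin.prod_univ_two]

theorem alt_monomial (k : Type u) [CommRing k] {n : ℕ} (m : Fin n × Fin 2 →₀ ℕ) (c : k) :
    alt k (monomial m c) = c • (mat k (fun j => (m (j, 0), m (j, 1)))).det := by
  rw [Matrix.det_apply, Finset.smul_sum, alt]
  refine Finset.sum_congr rfl ?_
  intro σ _
  rw [monomial_eq_prod, Units.smul_def, smul_comm]
  congr 1
  rw [← C_mul']
  simp [act, mat]

theorem alt_of_alternating (k : Type u) [CommRing k] {n : ℕ} (f : MvPolynomial (Fin n × Fin 2) k)
    (h : ∀ σ : Equiv.Perm (Fin n), act k σ f = ((Equiv.Perm.sign σ : ℤˣ) : ℤ) • f) :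
    alt k f = (n.factorial : ℕ) • f := by
  have : ∀ σ : Equiv.Perm (Fin n), ((Equiv.Perm.sign σ : ℤˣ) : ℤ) • act k σ f = f := by
    intro σ
    rw [h σ, smul_smul, ← Units.val_mul, Int.units_mul_self, Units.val_one, one_smul]
  simp only [alt, this, Finset.sum_const, Finset.card_univ, Fintype.card_perm, Fintype.card_fin]

theorem alt_mem (k : Type u) [CommRing k] {n : ℕ} (f : MvPolynomial (Fin n × Fin 2) k) :
    alt k f ∈ Submodule.span k (Set.range fun p : Fin n → ℕ × ℕ => (mat k p).det) := by
  induction f using MvPolynomial.induction_on' with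
  | monomial m c =>
    rw [alt_monomial]
    exact Submodule.smul_mem _ _ (Submodule.subset_span ⟨_, rfl⟩)
  | add p q hp hq =>
    rw [alt_add]
    exact Submodule.add_mem _ hp hq

/-- exponent vector of the `σ`-term of the determinant. -/
noncomputable def monσ {n : ℕ} (q : Fin n → ℕ × ℕ) (σ : Equiv.Perm (Fin n)) : Fin n × Fin 2 →₀ ℕ :=
  Finsupp.equivFunOnFinite.symm
    (fun v => if v.2 = 0 then (q (σ.symm v.1)).1 else (q (σ.symm v.1)).2)

theorem prod_eq_monomial (k : Type u) [CommRing k] {n : ℕ} (q : Fin n → ℕ × ℕ)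
    (σ : Equiv.Perm (Fin n)) :
    ∏ j, mat k q (σ j) j = monomial (monσ q σ) (1 : k) := by
  rw [monomial_eq_prod, C_1, one_mul]
  refine Fintype.prod_equiv σ _ _ ?_
  intro j
  simp [mat, monσ]

theorem monσ_eq_imp {n : ℕ} (p q : Fin n → ℕ ×ₗ ℕ) (hp : StrictMono p) (hq : StrictMono q)
    (σ : Equiv.Perm (Fin n))
    (h : monσ (fun j => ofLex (q j)) σ = monσ (fun j => ofLex (p j)) 1) : σ = 1 ∧ q = p := by
  have h1 : ∀ i, q (σ.symm i) = p i := by
    intro i
    have a0 := DFunLike.congr_fun h (i, 0)
    have a1 := DFunLike.congr_fun h (i, 1)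
    simp [monσ] at a0 a1
    apply ofLex.injective
    exact Prod.ext a0 a1
  have hmono : StrictMono (σ.symm : Fin n → Fin n) := by
    intro a b hab
    have := hp hab
    rw [← h1 a, ← h1 b] at this
    exact hq.lt_iff_lt.1 this
  have hid : (σ.symm : Fin n → Fin n) = id := by
    apply (hmono.range_inj strictMono_id).1
    rw [σ.symm.surjective.range_eq, Set.range_id]
  have hσ : σ = 1 := by
    ext i
    have := congrFun hid (σ i)
    simp at this
    simp [← this]
  refine ⟨hσ, ?_⟩
  funext i
  have := h1 i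
  rw [hσ] at this
  exact this

theorem coeff_det (k : Type u) [Field k] {n : ℕ} (p q : Fin n → ℕ ×ₗ ℕ) (hp : StrictMono p)
    (hq : StrictMono q) :
    coeff (monσ (fun j => ofLex (p j)) 1) (mat k (fun j => ofLex (q j))).det =
      if q = p then (1 : k) else 0 := by
  classical
  rw [Matrix.det_apply', coeff_sum]
  have hterm : ∀ σ : Equiv.Perm (Fin n),
      coeff (monσ (fun j => ofLex (p j)) 1)
        ((((Equiv.Perm.sign σ : ℤˣ) : ℤ) : MvPolynomial (Fin n × Fin 2) k) *
          ∏ i, mat k (fun j => ofLex (q j)) (σ i) i) =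
      if monσ (fun j => ofLex (q j)) σ = monσ (fun j => ofLex (p j)) 1 then
        (((Equiv.Perm.sign σ : ℤˣ) : ℤ) : k) else 0 := by
    intro σ
    rw [prod_eq_monomial, ← map_intCast (C : k →+* MvPolynomial (Fin n × Fin 2) k), coeff_C_mul,
      coeff_monomial]
    split_ifs <;> simp
  simp only [hterm]
  by_cases hqp : q = p
  · rw [if_pos hqp]
    rw [Finset.sum_eq_single (1 : Equiv.Perm (Fin n))]
    · rw [if_pos (by rw [hqp])]
      simp
    · intro σ _ hσ
      rw [if_neg]
      intro h
      exact hσ (monσ_eq_imp p q hp hq σ h).1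
    · intro h
      exact absurd (Finset.mem_univ _) h
  · rw [if_neg hqp]
    apply Finset.sum_eq_zero
    intro σ _
    rw [if_neg]
    intro h
    exact hqp (monσ_eq_imp p q hp hq σ h).2

/-- Over a field k of characteristic zero, let the symmetric group S_n act on the polynomial ring in the
2n variables x_i, y_i (i < n; the variable (i, 0) is x_i and (i, 1) is y_i) by permuting the index
i, and for an n-tuple p of pairs (p_j, q_j) of exponents let Δ_p be the determinant det(x_i^{p_j}
y_i^{q_j}). A polynomial is alternating — each permutation acts on it by its sign — exactly when it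
is a k-linear combination of the Δ_p; and the Δ_p for p strictly increasing in the lexicographic
order on pairs (one for each n-element set of exponent pairs) are linearly independent. Hence these
Δ_p form a basis of the space of alternating polynomials. -/
theorem result (k : Type u) [Field k] [CharZero k] (n : ℕ) :
    (∀ f : MvPolynomial (Fin n × Fin 2) k,
      (∀ σ : Equiv.Perm (Fin n),
          MvPolynomial.rename (fun v : Fin n × Fin 2 => (σ v.1, v.2)) f = ((Equiv.Perm.sign σ : ℤˣ) : ℤ) • f) ↔
        f ∈ Submodule.span k (Set.range fun p : Fin n → ℕ × ℕ =>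
          (Matrix.of fun i j : Fin n =>
            (MvPolynomial.X (i, 0) : MvPolynomial (Fin n × Fin 2) k) ^ (p j).1 * MvPolynomial.X (i, 1) ^ (p j).2).det)) ∧
    LinearIndependent k (fun p : {p : Fin n → ℕ ×ₗ ℕ // StrictMono p} =>
      (Matrix.of fun i j : Fin n =>
        (MvPolynomial.X (i, 0) : MvPolynomial (Fin n × Fin 2) k) ^ (ofLex (p.1 j)).1 *
          MvPolynomial.X (i, 1) ^ (ofLex (p.1 j)).2).det) := by
  classical
  refine ⟨?_, ?_⟩
  · intro f
    constructor
    · intro hf
      have h1 : alt k f = (n.factorial : ℕ) • f := alt_of_alternating k f hf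
      have h2 : f = ((n.factorial : ℕ) : k)⁻¹ • alt k f := by
        rw [h1, ← Nat.cast_smul_eq_nsmul k, smul_smul, inv_mul_cancel₀, one_smul]
        exact_mod_cast (Nat.factorial_pos n).ne'
      rw [h2]
      exact Submodule.smul_mem _ _ (alt_mem k f)
    · intro hf σ
      induction hf using Submodule.span_induction with
      | mem x hx =>
        obtain ⟨p, rfl⟩ := hx
        exact act_det k σ p
      | zero => simp
      | add x y _ _ hx hy => rw [map_add, hx, hy, smul_add]
      | smul c x _ hx => rw [map_smul, hx, smul_comm]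
  · rw [linearIndependent_iff']
    intro s g hg p hp
    have h := congrArg (coeff (monσ (fun j => ofLex (p.1 j)) 1)) hg
    rw [coeff_sum, coeff_zero] at h
    have h2 : ∀ q ∈ s, coeff (monσ (fun j => ofLex (p.1 j)) 1)
        (g q • (Matrix.of fun i j : Fin n =>
          (MvPolynomial.X (i, 0) : MvPolynomial (Fin n × Fin 2) k) ^ (ofLex (q.1 j)).1 *
            MvPolynomial.X (i, 1) ^ (ofLex (q.1 j)).2).det) =
        g q * (if q = p then (1 : k) else 0) := by
      intro q _
      rw [coeff_smul, smul_eq_mul]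
      congr 1
      have := coeff_det k p.1 q.1 p.2 q.2
      by_cases hqp : q = p
      · rw [if_pos hqp]
        rw [if_pos (by rw [hqp])] at this
        exact this
      · rw [if_neg hqp]
        rw [if_neg (fun h => hqp (Subtype.ext h))] at this
        exact this
    rw [Finset.sum_congr rfl h2] at h
    simpa [Finset.sum_ite_eq', hp] using h

end Groth.Agent.S19449
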