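import Groth.Statements.S19453
import Mathlib

set_option autoImplicit false
universe u
open CAlg

namespace Groth.Agent.S19453

/-- Converse direction: let k be a field, A a regular local k-algebra of Krull dimension 2 with maximal
ideal M and residue field k, and I an ideal with A/I of finite dimension n ≥ 1 over k. If some
element of I does not lie in M^2, then A/I is isomorphic as a k-algebra to k[x]/(x^n): a cluster
lying on a smooth curve germ of a smooth surface is curvilinear, with coordinate ring generated by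
one element. -/
theorem result (k : Type u) [Field k]
    (A : Type u) [CommRing A] [Algebra k A] [IsRegularLocalRing A] (hdim : ringKrullDim A = 2)
    (hres : Function.Surjective (algebraMap k (IsLocalRing.ResidueField A)))
    (I : Ideal A) [Module.Finite k (A ⧸ I)] (n : ℕ) (hn : Module.finrank k (A ⧸ I) = n) (h1 : 1 ≤ n)
    (g : A) (hgI : g ∈ I) (hg : g ∉ IsLocalRing.maximalIdeal A ^ 2) :
    Nonempty ((A ⧸ I) ≃ₐ[k] (Polynomial k ⧸ Ideal.span {(Polynomial.X : Polynomial k) ^ n})) := by
  classical
  set M := IsLocalRing.maximalIdeal A with hMdef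
  have hsr : M.spanFinrank = 2 := by
    have h := IsRegularLocalRing.spanFinrank_maximalIdeal (R := A)
    rw [hdim] at h
    exact_mod_cast h
  obtain ⟨s, hs, hspan⟩ :=
    Submodule.FG.exists_span_finset_card_eq_spanFinrank (IsNoetherian.noetherian M)
  rw [hsr] at hs
  obtain ⟨a, b, hab, rfl⟩ := Finset.card_eq_two.1 hs
  have hspan' : Ideal.span ({a, b} : Set A) = M := by
    rw [← hspan]
    simp [Ideal.span]
  have hnt : Nontrivial (A ⧸ I) := by
    by_contra hcon
    rw [not_nontrivial_iff_subsingleton] at hcon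
    have : Module.finrank k (A ⧸ I) = 0 := Module.finrank_zero_of_subsingleton
    omega
  have hI : I ≠ ⊤ := by
    intro h
    have := Ideal.Quotient.subsingleton_iff.2 h
    exact not_subsingleton (A ⧸ I) this
  have hIM : I ≤ M := IsLocalRing.le_maximalIdeal hI
  have hgM : g ∈ M := hIM hgI
  have haM : a ∈ M := by rw [← hspan']; exact Ideal.subset_span (by simp)
  have hbM : b ∈ M := by rw [← hspan']; exact Ideal.subset_span (by simp)
  obtain ⟨t, htM, ht⟩ : ∃ t ∈ M, M = Ideal.span {g, t} := by
    have hgM' := hgM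
    rw [← hspan'] at hgM'
    obtain ⟨α, β, hαβ⟩ := Ideal.mem_span_pair.1 hgM'
    by_cases hα : IsUnit α
    · obtain ⟨α', hα'⟩ := hα.exists_left_inv
      refine ⟨b, hbM, le_antisymm ?_ ?_⟩
      · rw [← hspan', Ideal.span_le]
        rintro x (rfl | rfl)
        · exact Ideal.mem_span_pair.2 ⟨α', -(α' * β), by linear_combination (-α') * hαβ + x * hα'⟩
        · exact Ideal.subset_span (by simp)
      · rw [Ideal.span_le]
        rintro x (rfl | rfl)
        · exact hgM
        · exact hbM
    · have hαM : α ∈ M := (IsLocalRing.mem_maximalIdeal α).2 hα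
      have hβ : IsUnit β := by
        by_contra hβ
        have hβM : β ∈ M := (IsLocalRing.mem_maximalIdeal β).2 hβ
        apply hg
        rw [← hαβ, pow_two]
        exact add_mem (Ideal.mul_mem_mul hαM haM) (Ideal.mul_mem_mul hβM hbM)
      obtain ⟨β', hβ'⟩ := hβ.exists_left_inv
      refine ⟨a, haM, le_antisymm ?_ ?_⟩
      · rw [← hspan', Ideal.span_le]
        rintro x (rfl | rfl)
        · exact Ideal.subset_span (by simp)
        · exact Ideal.mem_span_pair.2 ⟨β', -(β' * α), by linear_combination (-β') * hαβ + x * hβ'⟩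
      · rw [Ideal.span_le]
        rintro x (rfl | rfl)
        · exact hgM
        · exact haM
  -- the quotient
  set mk := Ideal.Quotient.mk I with hmk
  set τ : A ⧸ I := mk t with hτ
  have hmkg : mk g = 0 := Ideal.Quotient.eq_zero_iff_mem.2 hgI
  have h3a : ∀ c : A ⧸ I, ∃ (l : k) (c' : A ⧸ I), c = algebraMap k (A ⧸ I) l + τ * c' := by
    intro c
    obtain ⟨x, rfl⟩ := Ideal.Quotient.mk_surjective c
    obtain ⟨l, hl⟩ := hres (IsLocalRing.residue A x)
    have hxl : x - algebraMap k A l ∈ M := by
      rw [← IsLocalRing.residue_eq_zero_iff, map_sub, ← hl, sub_eq_zero]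
      rfl
    rw [ht] at hxl
    obtain ⟨u, v, huv⟩ := Ideal.mem_span_pair.1 hxl
    refine ⟨l, mk v, ?_⟩
    have h1 := congrArg mk huv
    rw [map_add, map_mul, map_mul, hmkg, mul_zero, zero_add, map_sub] at h1
    have h2 : mk (algebraMap k A l) = algebraMap k (A ⧸ I) l := rfl
    rw [h2] at h1
    rw [hτ, mul_comm, h1]
    ring
  -- units of the form 1 - c * t
  have hunit : ∀ c : A ⧸ I, IsUnit (1 - c * τ) := by
    intro c
    obtain ⟨x, rfl⟩ := Ideal.Quotient.mk_surjective c
    have hu : IsUnit (1 - x * t) := by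
      by_contra hnu
      have h1 : 1 - x * t ∈ M := (IsLocalRing.mem_maximalIdeal _).2 hnu
      have h2 : x * t ∈ M := Ideal.mul_mem_left _ _ htM
      have h3 : (1 : A) ∈ M := by
        have := add_mem h1 h2
        simpa using this
      exact (Ideal.ne_top_iff_one M).1 (IsLocalRing.maximalIdeal.isMaximal A).ne_top h3
    have := hu.map mk
    rwa [map_sub, map_one, map_mul] at this
  haveI : IsArtinianRing (A ⧸ I) := IsArtinianRing.of_finite k (A ⧸ I)
  obtain ⟨N, hN⟩ : ∃ N : ℕ, τ ^ N = 0 := by
    let f : ℕ →o (Ideal (A ⧸ I))ᵒᵈ :=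
      ⟨fun n => OrderDual.toDual (Ideal.span {τ ^ n}), by
        intro n m hnm
        show Ideal.span {τ ^ m} ≤ Ideal.span {τ ^ n}
        rw [Ideal.span_singleton_le_span_singleton]
        exact pow_dvd_pow τ hnm⟩
    obtain ⟨N, hN⟩ := IsArtinian.monotone_stabilizes f
    have h1 : Ideal.span {τ ^ N} = Ideal.span {τ ^ (N + 1)} :=
      congrArg OrderDual.ofDual (hN (N + 1) (Nat.le_succ N))
    have h2 : τ ^ N ∈ Ideal.span {τ ^ (N + 1)} := by
      rw [← h1]
      exact Ideal.subset_span rfl
    obtain ⟨c, hc⟩ := Ideal.mem_span_singleton'.1 h2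
    refine ⟨N, ?_⟩
    have h3 : τ ^ N * (1 - c * τ) = 0 := by
      rw [pow_succ] at hc
      linear_combination -hc
    exact (hunit c).mul_left_eq_zero.1 h3
  set φ : Polynomial k →ₐ[k] (A ⧸ I) := Polynomial.aeval τ with hφ
  have key : ∀ (j : ℕ) (c : A ⧸ I), ∃ (p : Polynomial k) (c' : A ⧸ I), c = φ p + τ ^ j * c' := by
    intro j
    induction j with
    | zero => intro c; exact ⟨0, c, by simp⟩
    | succ j ih =>
      intro c
      obtain ⟨p, c', hc⟩ := ih c
      obtain ⟨l, c'', hc'⟩ := h3a c'
      refine ⟨p + Polynomial.C l * Polynomial.X ^ j, c'', ?_⟩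
      rw [hc, hc', map_add, map_mul, map_pow, hφ, Polynomial.aeval_C, Polynomial.aeval_X, pow_succ]
      ring
  have hsurj : Function.Surjective φ := by
    intro c
    obtain ⟨p, c', hc⟩ := key N c
    exact ⟨p, by rw [hc, hN, zero_mul, add_zero]⟩
  have hXN : (Polynomial.X : Polynomial k) ^ N ∈ RingHom.ker φ := by
    rw [RingHom.mem_ker, map_pow, hφ, Polynomial.aeval_X, hN]
  obtain ⟨m, -, hassoc⟩ := (dvd_prime_pow Polynomial.prime_X N).1
    ((Submodule.IsPrincipal.mem_iff_generator_dvd (RingHom.ker φ)).1 hXN)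
  have hK : RingHom.ker φ = Ideal.span {(Polynomial.X : Polynomial k) ^ m} := by
    rw [← Ideal.span_singleton_generator (RingHom.ker φ)]
    exact Ideal.span_singleton_eq_span_singleton.2 hassoc
  let e1 : (Polynomial k ⧸ RingHom.ker φ) ≃ₐ[k] (A ⧸ I) :=
    Ideal.quotientKerAlgEquivOfSurjective hsurj
  let e2 : (Polynomial k ⧸ RingHom.ker φ) ≃ₐ[k]
      (Polynomial k ⧸ Ideal.span {(Polynomial.X : Polynomial k) ^ m}) :=
    Ideal.quotientEquivAlgOfEq k hK
  have hm : m = n := by
    have h1 : Module.finrank k (Polynomial k ⧸ Ideal.span {(Polynomial.X : Polynomial k) ^ m}) = m := by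
      rw [finrank_quotient_span_eq_natDegree, Polynomial.natDegree_X_pow]
    rw [← h1, ← hn]
    exact (e2.symm.trans e1).toLinearEquiv.finrank_eq
  subst hm
  exact ⟨e1.symm.trans e2⟩

end Groth.Agent.S19453
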