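import Groth.Statements.S19455
import Groth.Agent.Lib.Helper97.MeroLib2
import Groth.Agent.Lib.Helper49.TensorDesc
import Mathlib

set_option autoImplicit false
universe u
open CategoryTheory CategoryTheory.Limits AlgebraicGeometry TopologicalSpace Opposite
open Mero

namespace Groth.Agent.S19455

open Groth.Agent.Lib.Helper97.MeroLib Groth.Agent.Lib.Helper97.ZeroScheme
open Groth.Agent.Lib.Helper45 Groth.Agent.Lib.Helper49 Groth.Agent.Lib.Helper11.GenLocus

variable {X : Scheme.{u}}

theorem divCond_mul (D E : Mero.Divisor X) (y : X) {t t' : Mero.KStalk X y}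
    (ht : Mero.DivCond D y t) (ht' : Mero.DivCond E y t') : Mero.DivCond (D * E) y (t * t') := by
  intro g hg
  obtain ⟨g₁, hg₁⟩ := QuotientGroup.mk_surjective (D.1 y)
  obtain ⟨g₂, hg₂⟩ := QuotientGroup.mk_surjective (E.1 y)
  have h1 : (QuotientGroup.mk (g₁ * g₂) : Mero.Germ X y) = QuotientGroup.mk g := by
    rw [QuotientGroup.mk_mul, hg₁, hg₂]
    exact hg
  rw [QuotientGroup.eq] at h1
  obtain ⟨u, hu⟩ := h1
  have h2 : g = g₁ * g₂ * Units.map (algebraMap (X.presheaf.stalk y) (Mero.KStalk X y)).toMonoidHom u := by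
    rw [hu, mul_inv_cancel_left]
  have h3 : t * t' * (g : Mero.KStalk X y) = (t * g₁) * (t' * g₂) *
      algebraMap (X.presheaf.stalk y) (Mero.KStalk X y) u := by
    rw [h2]
    simp only [Units.val_mul, Units.coe_map, RingHom.toMonoidHom_eq_coe, MonoidHom.coe_coe]
    ring
  rw [h3]
  exact mul_mem (mul_mem (ht g₁ hg₁.symm) (ht' g₂ hg₂.symm)) ⟨u, rfl⟩

/-- the product of sections of `O_X(D)` and `O_X(E)`, a section of `O_X(D·E)`. -/
noncomputable def mulSec (D E : Mero.Divisor X) (U : X.Opens) (t : Γ(Mero.divMod D, U))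
    (t' : Γ(Mero.divMod E, U)) : Γ(Mero.divMod (D * E), U) :=
  ⟨fun y => t.1 y * t'.1 y, ⟨Mero.kLoc_mul X U _ _ t.2.1 t'.2.1,
    fun y => divCond_mul D E y.1 (t.2.2 y) (t'.2.2 y)⟩⟩

theorem mulSec_apply (D E : Mero.Divisor X) (U : X.Opens) (t : Γ(Mero.divMod D, U))
    (t' : Γ(Mero.divMod E, U)) (y : U) : (mulSec D E U t t').1 y = t.1 y * t'.1 y := rfl

/-- multiplication, as a bilinear family. -/
noncomputable def mulFam (D E : Mero.Divisor X) :
    BilinFamily (Mero.divMod D) (Mero.divMod E) (Mero.divMod (D * E)) where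
  β := mulSec D E
  add_left U a a' b := Subtype.ext (funext fun y => add_mul (a.1 y) (a'.1 y) (b.1 y))
  smul_left U r a b := Subtype.ext (funext fun y =>
    smul_mul_assoc (X.presheaf.germ U y.1 y.2 r) (a.1 y) (b.1 y))
  add_right U a b b' := Subtype.ext (funext fun y => mul_add (a.1 y) (b.1 y) (b'.1 y))
  smul_right U r a b := Subtype.ext (funext fun y =>
    mul_smul_comm (X.presheaf.germ U y.1 y.2 r) (a.1 y) (b.1 y))
  res i a b := rfl


/-- Let X be an integral scheme and D, E Cartier divisors on X (global sections of the sheaf of units of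
K_X modulo units of O_X, written multiplicatively, so that D · E stands for the sum of the two
divisors). Then there is a morphism of O_X-modules from the tensor product O_X(D) ⊗ O_X(E) to O_X(D
· E) which sends each section t ⊗ t' over an open subset U to the product t · t' computed in the
sheaf of meromorphic functions K_X, and this morphism is an isomorphism. (The published statement is
for an irreducible normal variety over an algebraically closed field, where a Cartier divisor is a
locally principal Weil divisor and O_X(D) is its sheaf of rational functions φ with div φ + D ≥ 0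
locally, a subsheaf of the constant sheaf of rational functions equal to O_U · φ⁻¹ wherever D is the
divisor of φ; this row states it for the fractional ideals O_X(D) ⊆ K_X of Cartier divisors on an
arbitrary integral scheme.) -/
theorem result (X : Scheme.{u}) [AlgebraicGeometry.IsIntegral X]
    (D E : Mero.Divisor X) :
    ∃ μ : CohB1.tensorMod (Mero.divMod D) (Mero.divMod E) ⟶ Mero.divMod (D * E),
      (∀ (U : X.Opens) (t : Γ(Mero.divMod D, U)) (t' : Γ(Mero.divMod E, U)),
        (Mero.divModι (D * E)).app U (μ.app U (SecTwist.tmul (Mero.divMod D) (Mero.divMod E) U t t')) =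
          (Mero.divModι D).app U t * (Mero.divModι E).app U t') ∧
      IsIso μ := by
  refine ⟨(mulFam D E).desc, ?_, ?_⟩
  · intro U t t'
    have h1 : (mulFam D E).desc.app U (SecTwist.tmul (Mero.divMod D) (Mero.divMod E) U t t') =
        mulSec D E U t t' := (mulFam D E).desc_tmul U t t'
    rw [h1]
    rfl
  · haveI := isQuasicoherent_of_isInvertible
      (isInvertible_tensorMod (isInvertible_divMod D) (isInvertible_divMod E))
    haveI := isQuasicoherent_of_isInvertible (isInvertible_divMod (D * E))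
    apply Groth.Agent.Lib.Helper42.isIso_of_app_bijective_of_cover
    intro x
    obtain ⟨U₁, hx₁, f, hf⟩ := D.2 x
    obtain ⟨U₂, hx₂, g, hg⟩ := E.2 x
    obtain ⟨U, hU, hxU, hUle⟩ := (Opens.isBasis_iff_nbhd.mp X.isBasis_affineOpens)
      (show x ∈ U₁ ⊓ U₂ from ⟨hx₁, hx₂⟩)
    have hU₁ : U ≤ U₁ := hUle.trans inf_le_left
    have hU₂ : U ≤ U₂ := hUle.trans inf_le_right
    obtain ⟨f', hf'⟩ : ∃ f' : (Γ(Mero.kmod X, U))ˣ, ∀ y : U, D.1 y.1 = Mero.germOf f' y :=
      ⟨Units.map ((Mero.kring X).obj.map (homOfLE hU₁).op).hom.toMonoidHom f, fun y =>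
        (hf ⟨y.1, hU₁ y.2⟩).trans (congrArg _ (Units.ext rfl))⟩
    obtain ⟨g', hg'⟩ : ∃ g' : (Γ(Mero.kmod X, U))ˣ, ∀ y : U, E.1 y.1 = Mero.germOf g' y :=
      ⟨Units.map ((Mero.kring X).obj.map (homOfLE hU₂).op).hom.toMonoidHom g, fun y =>
        (hg ⟨y.1, hU₂ y.2⟩).trans (congrArg _ (Units.ext rfl))⟩
    have hfg : ∀ y : U, (D * E).1 y.1 = Mero.germOf (f' * g') y := fun y => by
      have e : (D * E).1 y.1 = D.1 y.1 * E.1 y.1 := rfl
      rw [e, hf' y, hg' y, Mero.germOf, Mero.germOf, Mero.germOf, ← QuotientGroup.mk_mul]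
      exact congrArg _ (Units.ext rfl)
    have hb := isBasisOn_tm (isBasisOn_invSec D f' hf') (isBasisOn_invSec E g' hg')
    have hb' := isBasisOn_invSec (D * E) (f' * g') hfg
    have key : ∀ r : Γ(X, U), (mulFam D E).desc.app U
        (r • tm (Mero.divMod D) (Mero.divMod E) U (invSec D f' hf') (invSec E g' hg')) =
        r • invSec (D * E) (f' * g') hfg := by
      intro r
      rw [Scheme.Modules.Hom.app_smul]
      congr 1
      refine ((mulFam D E).desc_tmul U _ _).trans ?_
      refine Subtype.ext (funext fun y => ?_)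
      change (f'⁻¹).1.1 y * (g'⁻¹).1.1 y = ((f' * g')⁻¹).1.1 y
      rw [mul_inv]
      rfl
    refine ⟨U, hU, hxU, ?_⟩
    constructor
    · intro m m' hmm'
      obtain ⟨r, rfl⟩ := hb.exists_eq_smul m
      obtain ⟨r', rfl⟩ := hb.exists_eq_smul m'
      rw [key, key] at hmm'
      rw [hb'.eq_of_smul_eq hmm']
    · intro t
      obtain ⟨r, rfl⟩ := hb'.exists_eq_smul t
      exact ⟨_, key r⟩

end Groth.Agent.S19455
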