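import Groth.Statements.S19458
import Groth.Agent.Lib.Helper97.MeroLib
import Groth.Agent.Lib.Helper11.TensorBasis
import Mathlib

set_option autoImplicit false
universe u
open CategoryTheory CategoryTheory.Limits AlgebraicGeometry TopologicalSpace Opposite
open Mero

namespace Groth.Agent.S19458

open Groth.Agent.Lib.Helper97.ZeroScheme Groth.Agent.Lib.Helper97.MeroLib
open Groth.Agent.Lib.Helper45 Groth.Agent.Lib.Helper49 Groth.Agent.Lib.Helper11.GenLocus


/-- Let X be an integral scheme, L an invertible O_X-module and D an effective Cartier divisor on X (a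
global section of the sheaf of units of K_X modulo units of O_X whose germ at every point is the
class of a germ of a regular function) such that O_X(D) is isomorphic to L. Then there is a nonzero
global section s of L, given as a nonzero morphism O_X → L, whose zero scheme Z(s) is D: around
every point of X, on some affine open neighbourhood, the ideal of Z(s) is generated by a regular
function whose classes are the germs of D there. (The published statement is for an irreducible
variety over an algebraically closed field; this row states it for an arbitrary integral scheme.) -/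
theorem result (X : Scheme.{u}) [AlgebraicGeometry.IsIntegral X]
    (L : X.Modules) (hL : PicF.IsInvertible L) (D : Mero.Divisor X) (hD : Mero.IsEffective D)
    (e : L ≅ Mero.divMod D) :
    ∃ s : Coh.structureModule X ⟶ L, s ≠ 0 ∧ Mero.IsDivOfIdeal D (PicF2.zeroScheme L s) := by
  have : IsIso e.inv := inferInstance
  -- the section `1` of `O_X(D)` and the corresponding section of `L`
  let σ' : Coh.structureModule X ⟶ Mero.divMod D := homOfSection (Mero.divMod D) (oneSec D hD ⊤)
  have hσ' : ∀ V : X.Opens, sv (Mero.divMod D) σ' V = oneSec D hD V := fun V =>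
    sec_homOfSection (Mero.divMod D) (oneSec D hD ⊤) V
  refine ⟨σ' ≫ e.inv, ?_, ?_⟩
  · intro h0
    obtain ⟨x⟩ : Nonempty X := inferInstance
    have h1 : sv L (σ' ≫ e.inv) ⊤ = 0 := by rw [h0]; rfl
    rw [sv_comp] at h1
    have h2 : sv (Mero.divMod D) σ' ⊤ = 0 := by
      apply (app_bijective_of_isIso e.inv ⊤).1
      rw [h1, map_zero]
    rw [hσ'] at h2
    have h3 := congrArg (fun t : Γ(Mero.divMod D, ⊤) => t.1 ⟨x, trivial⟩) h2
    exact one_ne_zero h3
  · intro x
    obtain ⟨U₀, hxU₀, f, hf⟩ := D.2 x
    obtain ⟨a, ha, haf⟩ := exists_regular_of_effective D hD f hf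
    obtain ⟨U, hU, hxU, hUle⟩ := (Opens.isBasis_iff_nbhd.mp X.isBasis_affineOpens) hxU₀
    have hc : fres hUle a ∈ regSub X U := regSub_res (homOfLE hUle) ha
    refine ⟨⟨U, hU⟩, hxU, fres hUle a, hc, ?_, ?_⟩
    · rw [ideal_zeroScheme L _ hL ⟨U, hU⟩]
      have hb : IsBasisOn L U (e.inv.app U (mres (Mero.divMod D) hUle (invSec D f hf))) :=
        isBasisOn_app e.inv ((isBasisOn_invSec D f hf).mono hUle)
      refine zI_of_basis hb ?_
      rw [sv_comp, hσ', ← Scheme.Modules.Hom.app_smul]
      refine congrArg _ (Subtype.ext (funext fun y => ?_))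
      have h1 : (toK X U₀ a).1 ⟨y.1, hUle y.2⟩ = f.1.1 ⟨y.1, hUle y.2⟩ :=
        congrArg (fun t : Γ(Mero.kmod X, U₀) => t.1 ⟨y.1, hUle y.2⟩) haf
      have h2 : (fres hUle a • mres (Mero.divMod D) hUle (invSec D f hf)).1 y =
          X.presheaf.germ U y.1 y.2 (fres hUle a) • (f⁻¹).1.1 ⟨y.1, hUle y.2⟩ := rfl
      rw [h2, oneSec_apply, germ_fres, Algebra.smul_def, algebraMap_eq_mk]
      exact ((congrArg (fun κ => κ * (f⁻¹).1.1 ⟨y.1, hUle y.2⟩) h1).trans
        (unit_mul_inv_apply f ⟨y.1, hUle y.2⟩)).symm
    · intro y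
      rw [hf ⟨y.1, hUle y.2⟩]
      refine congrArg _ (Units.ext ?_)
      have h1 : (toK X U₀ a).1 ⟨y.1, hUle y.2⟩ = f.1.1 ⟨y.1, hUle y.2⟩ :=
        congrArg (fun t : Γ(Mero.kmod X, U₀) => t.1 ⟨y.1, hUle y.2⟩) haf
      change f.1.1 ⟨y.1, hUle y.2⟩ =
        algebraMap (X.presheaf.stalk y.1) (Mero.KStalk X y.1) (X.presheaf.germ U y.1 y.2 (fres hUle a))
      rw [← h1, germ_fres]
      rfl

end Groth.Agent.S19458
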