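import Groth.Statements.S19459
import Groth.Agent.Lib.Helper97.ZeroScheme
import Groth.Agent.Lib.Helper11.TensorBasis
import Mathlib

set_option autoImplicit false
universe u
open CategoryTheory CategoryTheory.Limits AlgebraicGeometry TopologicalSpace Opposite
open Mero

namespace Groth.Agent.S19459

open Groth.Agent.Lib.Helper97.ZeroScheme Groth.Agent.Lib.Helper45 Groth.Agent.Lib.Helper49
open Groth.Agent.Lib.Helper11.GenLocus

/-- On a small affine open on which `L` has a basis, the coefficient of `s` generates the same ideal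
as the restriction of a generator of the ideal of the zero scheme on a bigger affine open. -/
theorem local_gen {X : Scheme.{u}} {L : X.Modules} (hL : PicF.IsInvertible L)
    (s : Coh.structureModule X ⟶ L) (U₁ : X.affineOpens) (f₁ : Γ(X, U₁.1))
    (hI : (PicF2.zeroScheme L s).ideal U₁ = Ideal.span {f₁})
    {V : X.Opens} {t : Γ(L, V)} (ht : IsBasisOn L V t)
    (U : X.affineOpens) (hU₁ : U ≤ U₁) (hUV : U.1 ≤ V) :
    ∃ c : Γ(X, U.1), sv L s U.1 = c • mres L hUV t ∧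
      Ideal.span {c} = Ideal.span {(X.presheaf.map (homOfLE hU₁).op).hom f₁} := by
  obtain ⟨c, hc⟩ := (ht.mono hUV).exists_eq_smul (sv L s U.1)
  refine ⟨c, hc.symm, ?_⟩
  have h1 : (PicF2.zeroScheme L s).ideal U = Ideal.span {c} := by
    rw [ideal_zeroScheme L s hL U]
    exact zI_of_basis (ht.mono hUV) hc.symm
  have h2 := (PicF2.zeroScheme L s).map_ideal hU₁
  rw [hI, Ideal.map_span, Set.image_singleton] at h2
  rw [← h1, ← h2]

theorem sv_tmulHom {X : Scheme.{u}} {L₁ L₂ : X.Modules} (s₁ : Coh.structureModule X ⟶ L₁)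
    (s₂ : Coh.structureModule X ⟶ L₂) (U : X.Opens) :
    sv (CohB1.tensorMod L₁ L₂) (SecTwist.tmulHom s₁ s₂) U = tm L₁ L₂ U (sv L₁ s₁ U) (sv L₂ s₂ U) :=
  SecTwist.val_tmulHom s₁ s₂ U


/-- Let X be an integral scheme, L₁ and L₂ invertible O_X-modules with nonzero global sections s₁ and s₂
(nonzero morphisms O_X → L₁ and O_X → L₂), and let D₁, D₂ be the effective Cartier divisors of the
zero schemes Z(s₁), Z(s₂): divisors on X (global sections of the sheaf of units of K_X modulo units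
of O_X) which around every point, on some affine open neighbourhood, are the class of a regular
function generating the ideal of the zero scheme. Then the divisor D₁ · D₂ (multiplicative notation
for the sum D₁ + D₂) is in the same sense the effective Cartier divisor of the zero scheme of the
global section s₁ ⊗ s₂ of the tensor product L₁ ⊗ L₂; that is, Z(s₁ ⊗ s₂) = Z(s₁) + Z(s₂). (The
published statement is for an irreducible variety over an algebraically closed field; this row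
states it for an arbitrary integral scheme.) -/
theorem result (X : Scheme.{u}) [AlgebraicGeometry.IsIntegral X]
    (L₁ L₂ : X.Modules) (hL₁ : PicF.IsInvertible L₁) (hL₂ : PicF.IsInvertible L₂)
    (s₁ : Coh.structureModule X ⟶ L₁) (s₂ : Coh.structureModule X ⟶ L₂) (hs₁ : s₁ ≠ 0) (hs₂ : s₂ ≠ 0)
    (D₁ D₂ : Mero.Divisor X) (hD₁ : Mero.IsDivOfIdeal D₁ (PicF2.zeroScheme L₁ s₁))
    (hD₂ : Mero.IsDivOfIdeal D₂ (PicF2.zeroScheme L₂ s₂)) :
    Mero.IsDivOfIdeal (D₁ * D₂) (PicF2.zeroScheme (CohB1.tensorMod L₁ L₂) (SecTwist.tmulHom s₁ s₂)) := by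
  intro x
  obtain ⟨U₁, hxU₁, f₁, hf₁, hI₁, hD₁'⟩ := hD₁ x
  obtain ⟨U₂, hxU₂, f₂, hf₂, hI₂, hD₂'⟩ := hD₂ x
  obtain ⟨V₁, hxV₁, t₁, ht₁⟩ := exists_isBasisOn_of_isInvertible hL₁ x
  obtain ⟨V₂, hxV₂, t₂, ht₂⟩ := exists_isBasisOn_of_isInvertible hL₂ x
  have hxW : x ∈ U₁.1 ⊓ U₂.1 ⊓ V₁ ⊓ V₂ := ⟨⟨⟨hxU₁, hxU₂⟩, hxV₁⟩, hxV₂⟩
  obtain ⟨U, hU, hxU, hUle⟩ := (Opens.isBasis_iff_nbhd.mp X.isBasis_affineOpens) hxW
  have hU₁ : (⟨U, hU⟩ : X.affineOpens) ≤ U₁ :=
    hUle.trans ((inf_le_left.trans inf_le_left).trans inf_le_left)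
  have hU₂ : (⟨U, hU⟩ : X.affineOpens) ≤ U₂ :=
    hUle.trans ((inf_le_left.trans inf_le_left).trans inf_le_right)
  have hUV₁ : U ≤ V₁ := hUle.trans (inf_le_left.trans inf_le_right)
  have hUV₂ : U ≤ V₂ := hUle.trans inf_le_right
  obtain ⟨c₁, hc₁, hs₁'⟩ := local_gen hL₁ s₁ U₁ f₁ hI₁ ht₁ ⟨U, hU⟩ hU₁ hUV₁
  obtain ⟨c₂, hc₂, hs₂'⟩ := local_gen hL₂ s₂ U₂ f₂ hI₂ ht₂ ⟨U, hU⟩ hU₂ hUV₂
  have hg₁ : (X.presheaf.map (homOfLE hU₁).op).hom f₁ ∈ regSub X U := regSub_res (homOfLE hU₁) hf₁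
  have hg₂ : (X.presheaf.map (homOfLE hU₂).op).hom f₂ ∈ regSub X U := regSub_res (homOfLE hU₂) hf₂
  refine ⟨⟨U, hU⟩, hxU, (X.presheaf.map (homOfLE hU₁).op).hom f₁ * (X.presheaf.map (homOfLE hU₂).op).hom f₂,
    Submonoid.mul_mem _ hg₁ hg₂, ?_, ?_⟩
  · rw [ideal_zeroScheme _ _ (isInvertible_tensorMod hL₁ hL₂) ⟨U, hU⟩]
    have hc : sv (CohB1.tensorMod L₁ L₂) (SecTwist.tmulHom s₁ s₂) U =
        (c₁ * c₂) • tm L₁ L₂ U (mres L₁ hUV₁ t₁) (mres L₂ hUV₂ t₂) := by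
      rw [sv_tmulHom, hc₁, hc₂, tm_smul_left, tm_smul_right, smul_smul]
    have h3 := zI_of_basis (isBasisOn_tm (ht₁.mono hUV₁) (ht₂.mono hUV₂)) hc
    refine h3.trans ?_
    rw [← Ideal.span_singleton_mul_span_singleton, hs₁', hs₂', Ideal.span_singleton_mul_span_singleton]
  · intro y
    have e₁ := hD₁' ⟨y.1, hU₁ y.2⟩
    have e₂ := hD₂' ⟨y.1, hU₂ y.2⟩
    have e : (D₁ * D₂).1 y.1 = D₁.1 y.1 * D₂.1 y.1 := rfl
    rw [e, e₁, e₂, ← QuotientGroup.mk_mul]
    refine congrArg _ (Units.ext ?_)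
    simp only [Units.val_mul, IsUnit.unit_spec]
    rw [← map_mul]
    refine congrArg _ ?_
    rw [map_mul]
    exact congrArg₂ (· * ·)
      (TopCat.Presheaf.germ_res_apply X.presheaf (homOfLE hU₁) y.1 y.2 f₁).symm
      (TopCat.Presheaf.germ_res_apply X.presheaf (homOfLE hU₂) y.1 y.2 f₂).symm

end Groth.Agent.S19459
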