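import Groth.Statements.S19460
import Mathlib
import Groth.Agent.Lib.Helper50.CotangentSmooth5
import Groth.Agent.Lib.Helper55.FlatDim
import Groth.Agent.Lib.Helper55.Equidim
import Groth.Agent.Lib.Helper55.FiberBaseChange
import Groth.Agent.Lib.Helper78.AbVarFibre

set_option autoImplicit false
universe u
open CategoryTheory CategoryTheory.Limits AlgebraicGeometry
open Variety

namespace Groth.Agent.S19460

/-- Let k be an algebraically closed field, X and Y smooth irreducible varieties over k (integral,
separated, of finite type and smooth over k) of dimensions dX and dY, and f : X → Y a k-morphism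
which is smooth in the sense that at every closed point x of X the tangent map T_x X → T_{f(x)} Y is
surjective, equivalently the cotangent map m_{f(x)}/m_{f(x)}² → m_x/m_x² of the local rings is
injective. Then f is dominant, dY ≤ dX, and for every closed point y of Y in the image of f the
scheme-theoretic fibre X_y is smooth over the residue field κ(y) (which is k) and each of its
irreducible components has dimension dX − dY. (The published statement is for varieties in the
classical sense, with the fibre carrying its reduced structure, and it also identifies the tangent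
space of the fibre at each point with the kernel of the tangent map; that identification is not part
of this row.) -/
theorem result (k : Type u) [Field k] [IsAlgClosed k]
    {X Y : Scheme.{u}} (qX : X ⟶ Spec (CommRingCat.of k)) (qY : Y ⟶ Spec (CommRingCat.of k))
    [AlgebraicGeometry.IsIntegral X] [IsSeparated qX] [LocallyOfFiniteType qX] [QuasiCompact qX] [Smooth qX]
    [AlgebraicGeometry.IsIntegral Y] [IsSeparated qY] [LocallyOfFiniteType qY] [QuasiCompact qY] [Smooth qY]
    (f : X ⟶ Y) (hf : f ≫ qY = qX) (dX dY : ℕ) (hX : topologicalKrullDim ↥X = dX)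
    (hY : topologicalKrullDim ↥Y = dY)
    (hT : ∀ x : X, IsClosed ({x} : Set ↥X) → Function.Injective (FixPt.cotangentMapAt f x (f.base x) rfl)) :
    DenseRange f.base ∧ dY ≤ dX ∧
      ∀ y : Y, IsClosed ({y} : Set ↥Y) → y ∈ Set.range f.base →
        Smooth (f.fiberToSpecResidueField y) ∧
          ∀ Z ∈ irreducibleComponents ↥(f.fiber y),
            topologicalKrullDim ↥Z = ((dX - dY : ℕ) : WithBot ℕ∞) := by
      classical
      subst hf
      haveI hsub : Subsingleton ↥(Spec (CommRingCat.of k)) :=
        (inferInstance : Subsingleton (PrimeSpectrum k))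
      haveI : IsSeparated f := IsSeparated.of_comp f qY
      haveI : LocallyOfFiniteType f := locallyOfFiniteType_of_comp f qY
      haveI : IsLocallyNoetherian Y := LocallyOfFiniteType.isLocallyNoetherian qY
      haveI : LocallyOfFinitePresentation f :=
        LocallyOfFinitePresentation.iff_locallyOfFiniteType.mpr inferInstance
      have hU := Groth.Agent.Lib.Helper80.OmegaUniversal.isUniversal_dOmega f
      have hUX := Groth.Agent.Lib.Helper80.OmegaUniversal.isUniversal_dOmega (f ≫ qY)
      have hUY := Groth.Agent.Lib.Helper80.OmegaUniversal.isUniversal_dOmega qY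
      have hcl : ∀ x : X, IsClosed ({x} : Set X) → x ∈ (f.smoothLocus : Set X) := fun x hx =>
        (Groth.Agent.Lib.Helper50.mem_smoothLocus_iff_injective_cotangentMapAt k qY f x hx).mpr (hT x hx)
      haveI : JacobsonSpace X := LocallyOfFiniteType.jacobsonSpace (Y := Spec _) (f ≫ qY)
      have htop : f.smoothLocus = ⊤ := by
        apply TopologicalSpace.Opens.ext
        exact Groth.Agent.Lib.Helper50.eq_top_of_closedPoints_subset _ f.smoothLocus.2 hcl
      haveI : Smooth f := Scheme.Hom.smoothLocus_eq_top_iff.mp htop
      -- fibre dimension at every point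
      have hdim : ∀ x : X, dX = dY + (dX - dY) ∧ FlatMor.fibreDimAt f x = ((dX - dY : ℕ) : WithBot ℕ∞) := by
        intro x
        have hconstX : ∀ t₁ t₂ : X, (f ≫ qY) t₁ = (f ≫ qY) t₂ := fun t₁ t₂ => Subsingleton.elim _ _
        have hconstY : ∀ t₁ t₂ : Y, qY t₁ = qY t₂ := fun t₁ t₂ => Subsingleton.elim _ _
        have hdimX : FlatMor.fibreDimAt (f ≫ qY) x = (dX : WithBot ℕ∞) := by
          rw [Groth.Agent.Lib.Helper78.AbVarFibre.fibreDimAt_eq_localDim_of_const _ hconstX x,
            Groth.Agent.Lib.Helper55.localDim_eq_topologicalKrullDim_of_irreducibleSpace (f ≫ qY) x, hX]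
        have hdimY : FlatMor.fibreDimAt qY (f x) = (dY : WithBot ℕ∞) := by
          rw [Groth.Agent.Lib.Helper78.AbVarFibre.fibreDimAt_eq_localDim_of_const _ hconstY (f x),
            Groth.Agent.Lib.Helper55.localDim_eq_topologicalKrullDim_of_irreducibleSpace qY (f x), hY]
        obtain ⟨U₁, m, hx₁, ⟨iso₁⟩, hm⟩ :=
          Groth.Agent.Lib.Helper24.exists_restrict_iso_freeMod_fibreDimAt_of_smooth f _ _ hU x
        obtain ⟨U₂, m₂, hx₂, ⟨iso₂⟩, h₂⟩ :=
          Groth.Agent.Lib.Helper24.exists_restrict_iso_freeMod_fibreDimAt_of_smooth (f ≫ qY) _ _ hUX x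
        obtain ⟨W₀, m₃, hy, ⟨iso₃⟩, h₃⟩ :=
          Groth.Agent.Lib.Helper24.exists_restrict_iso_freeMod_fibreDimAt_of_smooth qY _ _ hUY (f x)
        rw [hdimX] at h₂
        rw [hdimY] at h₃
        have e₂ : dX = m₂ := by exact_mod_cast h₂
        have e₃ : dY = m₃ := by exact_mod_cast h₃
        subst e₂ e₃
        have hr := Groth.Agent.Lib.Helper50.rank_eq_of_smooth_tower qY f _ _ hUX _ _ hUY _ _ hU
          x dY dX m U₁ hx₁ iso₁ U₂ hx₂ iso₂ W₀ hy iso₃
        have hmn : m = dX - dY := by omega
        subst hmn
        exact ⟨hr, hm⟩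
      obtain ⟨x₀⟩ : Nonempty X := inferInstance
      refine ⟨?_, ?_, ?_⟩
      · -- dense range
        have hopen : IsOpen (Set.range f.base) := f.isOpenMap.isOpen_range
        exact hopen.dense ⟨f.base x₀, x₀, rfl⟩
      · have := (hdim x₀).1
        omega
      · intro y hy hyr
        haveI hsmF : Smooth (f.fiberToSpecResidueField y) :=
          inferInstanceAs (Smooth (pullback.snd f (Y.fromSpecResidueField y)))
        haveI hlftF : LocallyOfFiniteType (f.fiberToSpecResidueField y) :=
          inferInstanceAs (LocallyOfFiniteType (pullback.snd f (Y.fromSpecResidueField y)))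
        refine ⟨hsmF, ?_⟩
        intro Z hZ
        have hZirr : IsIrreducible Z := hZ.1
        have hZcl : IsClosed Z := isClosed_of_mem_irreducibleComponents Z hZ
        obtain ⟨ξ, hξ⟩ := QuasiSober.sober hZirr hZcl
        have hcl' : closure ({ξ} : Set ↥(f.fiber y)) = Z := hξ.def
        subst hcl'
        have h1 := @Groth.Agent.Lib.Helper55.localDim_eq_dim_closure_of_mem_irreducibleComponents
          (Y.residueField y) _ _ (f.fiberToSpecResidueField y) hlftF ξ hZ
        rw [← h1, Groth.Agent.Lib.Helper55.localDim_fiber_eq_fibreDimAt f y ξ]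
        exact (hdim _).2

end Groth.Agent.S19460
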