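import Groth.Statements.S19461
import Groth.Agent.Lib.Helper9.FlatDescent
import Mathlib

set_option autoImplicit false
universe u
open CAlg

namespace Groth.Agent.S19461

open IsLocalRing

theorem map_maximalIdeal_of_bijective {R S : Type*} [CommRing R] [CommRing S] [IsLocalRing R]
    [IsLocalRing S] (ψ : R →+* S) (h : Function.Bijective ψ) :
    Ideal.map ψ (maximalIdeal R) = maximalIdeal S := by
  let e : R ≃+* S := RingEquiv.ofBijective ψ h
  have he : (e : R →+* S) = ψ := rfl
  rw [← he]
  change Ideal.map e (maximalIdeal R) = _
  rw [← Ideal.comap_symm]
  ext x
  simp only [Ideal.mem_comap, mem_maximalIdeal, mem_nonunits_iff]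
  exact not_congr (isUnit_map_iff e.symm x)

/-- The implication from isomorphic completions to flat and unramified. Let A → B be a local
homomorphism of Noetherian local rings and ψ a ring map from the completion of A at its maximal
ideal to that of B whose composite with A → A^ is A → B → B^. If ψ is bijective, then A → B is flat
and the maximal ideal of A generates the maximal ideal of B. (The published statement is the
implication, for a morphism of algebraic varieties over an algebraically closed field, from
isomorphic induced maps of completed local rings at every point to flat and unramified; its proof is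
this local-ring argument, valid for any Noetherian local rings. The converse implication is a
separate result.) -/
theorem result (A B : Type u) [CommRing A]
    [CommRing B] [IsLocalRing A] [IsLocalRing B] [IsNoetherianRing A] [IsNoetherianRing B]
    [Algebra A B] [IsLocalHom (algebraMap A B)]
    (ψ : AdicCompletion (IsLocalRing.maximalIdeal A) A →+* AdicCompletion (IsLocalRing.maximalIdeal B) B)
    (hψ : ψ.comp (algebraMap A (AdicCompletion (IsLocalRing.maximalIdeal A) A)) =
      (algebraMap B (AdicCompletion (IsLocalRing.maximalIdeal B) B)).comp (algebraMap A B))
    (hbij : Function.Bijective ψ) :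
    Module.Flat A B ∧
      Ideal.map (algebraMap A B) (IsLocalRing.maximalIdeal A) = IsLocalRing.maximalIdeal B := by
  have hff : Module.FaithfullyFlat B (AdicCompletion (maximalIdeal B) B) :=
    Module.FaithfullyFlat.of_flat_of_isLocalHom
  constructor
  · rw [← RingHom.flat_algebraMap_iff]
    apply RingHom.Flat.of_comp_of_faithfullyFlat_helper9
      (g := algebraMap B (AdicCompletion (maximalIdeal B) B))
    · rw [RingHom.faithfullyFlat_algebraMap_iff]
      exact hff
    · rw [← hψ]
      apply RingHom.Flat.comp
      · rw [RingHom.flat_algebraMap_iff]
        infer_instance
      · exact RingHom.Flat.of_bijective hbij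
  · apply Ideal.map_injective_of_faithfullyFlat (A := B) (B := AdicCompletion (maximalIdeal B) B)
    rw [Ideal.map_map, ← hψ, ← Ideal.map_map, ← AdicCompletion.maximalIdeal_eq_map,
      ← AdicCompletion.maximalIdeal_eq_map]
    exact map_maximalIdeal_of_bijective ψ hbij

end Groth.Agent.S19461
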