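import Groth.Statements.S19462
import Mathlib

set_option autoImplicit false
universe u
open GrNak

namespace Groth.Agent.S19462

open DirectSum

section graded
variable {R : Type*} [CommRing R] {σ : Type*} [SetLike σ R] [AddSubmonoidClass σ R] (𝒜 : ℤ → σ)
  [GradedRing 𝒜]
variable {M : Type*} [AddCommGroup M] [Module R M] {τ : Type*} [SetLike τ M]
  [AddSubmonoidClass τ M] (ℳ : ℤ → τ) [DirectSum.Decomposition ℳ] [SetLike.GradedSMul 𝒜 ℳ]

/-- components of a multiple of a homogeneous element -/
theorem decompose_smul_of_mem (a : R) {m : M} {e : ℤ} (hm : m ∈ ℳ e) (d : ℤ) :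
    ((decompose ℳ (a • m)) d : M) = ((decompose 𝒜 a) (d - e) : R) • m := by
  induction a using DirectSum.Decomposition.inductionOn 𝒜 with
  | zero => simp
  | @homogeneous i a =>
    have hmem : (a : R) • m ∈ ℳ (i + e) := SetLike.GradedSMul.smul_mem a.2 hm
    by_cases h : i + e = d
    · have h' : d - e = i := by omega
      rw [← h, decompose_of_mem_same ℳ hmem, h, h', decompose_of_mem_same 𝒜 a.2]
    · rw [decompose_of_mem_ne ℳ hmem h, decompose_of_mem_ne 𝒜 a.2 (by omega : i ≠ d - e),
        zero_smul]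
  | add a b ha hb =>
    rw [add_smul, decompose_add, decompose_add, DirectSum.add_apply, DirectSum.add_apply,
      AddMemClass.coe_add, AddMemClass.coe_add, add_smul, ha, hb]

/-- the lowest component is unchanged by multiplication with an element `1 + (positive degrees)` -/
theorem decompose_smul_eq_of_lowest (hneg : ∀ i : ℤ, i < 0 → ∀ x ∈ 𝒜 i, x = 0) (r : R)
    (hr : ((decompose 𝒜 r) 0 : R) = 1) (x : M) (d : ℤ)
    (hx : ∀ b < d, ((decompose ℳ x) b : M) = 0) :
    ((decompose ℳ (r • x)) d : M) = ((decompose ℳ x) d : M) := by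
  classical
  conv_lhs => rw [← DirectSum.sum_support_decompose ℳ x]
  rw [Finset.smul_sum, decompose_sum, DFinsupp.finsetSum_apply, AddSubmonoidClass.coe_finsetSum]
  have hterm : ∀ b ∈ (decompose ℳ x).support,
      ((decompose ℳ (r • ((decompose ℳ x) b : M))) d : M) =
        if b = d then ((decompose ℳ x) d : M) else 0 := by
    intro b hb
    rw [decompose_smul_of_mem 𝒜 ℳ r (SetLike.coe_mem _) d]
    split_ifs with h
    · subst h; rw [sub_self, hr, one_smul]
    · have hbd : d < b := by
        rcases lt_trichotomy b d with h1 | h1 | h1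
        · exfalso
          rw [DFinsupp.mem_support_iff] at hb
          apply hb
          exact Subtype.ext (hx b h1)
        · exact absurd h1 h
        · exact h1
      have h0 : ((decompose 𝒜 r) (d - b) : R) = 0 :=
        hneg (d - b) (by omega) _ (SetLike.coe_mem _)
      rw [h0, zero_smul]
  rw [Finset.sum_congr rfl hterm, Finset.sum_ite_eq']
  split_ifs with h
  · rfl
  · rw [DFinsupp.notMem_support_iff] at h
    rw [h]; rfl

/-- the irrelevant ideal -/
def irr : Ideal R := Ideal.span {x | ∃ i : ℤ, 0 < i ∧ x ∈ 𝒜 i}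

theorem irr_zero_comp (hneg : ∀ i : ℤ, i < 0 → ∀ x ∈ 𝒜 i, x = 0) (y : R) (hy : y ∈ irr 𝒜) :
    ((decompose 𝒜 y) 0 : R) = 0 := by
  have key : ∀ a : R, ((decompose 𝒜 (a * y)) 0 : R) = 0 := by
    unfold irr at hy
    induction hy using Submodule.span_induction with
    | mem g hg =>
      obtain ⟨i, hi, hgi⟩ := hg
      intro a
      have := decompose_smul_of_mem 𝒜 𝒜 a hgi 0
      rw [smul_eq_mul] at this
      rw [this, hneg (0 - i) (by omega) _ (SetLike.coe_mem _), zero_smul]
    | zero => intro a; simp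
    | add y z _ _ hy hz =>
      intro a
      rw [mul_add, decompose_add, DirectSum.add_apply, AddMemClass.coe_add, hy a, hz a, add_zero]
    | smul c y _ hy =>
      intro a
      rw [smul_eq_mul, ← mul_assoc]
      exact hy (a * c)
  simpa using key 1

theorem decompose_zero_eq_one (hneg : ∀ i : ℤ, i < 0 → ∀ x ∈ 𝒜 i, x = 0) (r : R)
    (hr : r - 1 ∈ irr 𝒜) : ((decompose 𝒜 r) 0 : R) = 1 := by
  have h1 := irr_zero_comp 𝒜 hneg _ hr
  have h2 : r = (r - 1) + 1 := by ring
  rw [h2, decompose_add, DirectSum.add_apply, AddMemClass.coe_add, h1, zero_add,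
    decompose_of_mem_same 𝒜 (SetLike.GradedOne.one_mem)]

theorem nzd (hneg : ∀ i : ℤ, i < 0 → ∀ x ∈ 𝒜 i, x = 0) (r : R) (hr : r - 1 ∈ irr 𝒜) (y : R)
    (h : r * y = 0) : y = 0 := by
  classical
  by_contra hy
  have hr0 := decompose_zero_eq_one 𝒜 hneg r hr
  have hne : (decompose 𝒜 y).support.Nonempty := by
    rw [Finset.nonempty_iff_ne_empty, Ne, DFinsupp.support_eq_empty]
    intro h0
    apply hy
    have := congrArg (decompose 𝒜).symm h0
    rwa [Equiv.symm_apply_apply, decompose_symm_zero] at this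
  set d := (decompose 𝒜 y).support.min' hne with hd
  have hdmem : d ∈ (decompose 𝒜 y).support := Finset.min'_mem _ hne
  have hlow : ∀ b < d, ((decompose 𝒜 y) b : R) = 0 := by
    intro b hb
    have : b ∉ (decompose 𝒜 y).support := fun hmem =>
      absurd (Finset.min'_le _ b hmem) (not_le.mpr hb)
    rw [DFinsupp.notMem_support_iff] at this
    rw [this]; rfl
  have hB := decompose_smul_eq_of_lowest 𝒜 𝒜 hneg r hr0 y d hlow
  rw [smul_eq_mul, h, decompose_zero] at hB
  rw [DFinsupp.mem_support_iff] at hdmem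
  apply hdmem
  apply Subtype.ext
  rw [← hB]; rfl

theorem exists_sub_mem_irr {k : Type*} [Field k] [Algebra k R]
    (hneg : ∀ i : ℤ, i < 0 → ∀ x ∈ 𝒜 i, x = 0)
    (h0 : ∀ x ∈ 𝒜 0, ∃ c : k, algebraMap k R c = x) (x : R) :
    ∃ c : k, x - algebraMap k R c ∈ irr 𝒜 := by
  induction x using DirectSum.Decomposition.inductionOn 𝒜 with
  | zero => exact ⟨0, by simp⟩
  | @homogeneous i a =>
    rcases lt_trichotomy i 0 with h | h | h
    · exact ⟨0, by rw [hneg i h _ a.2]; simp⟩
    · subst h
      obtain ⟨c, hc⟩ := h0 _ a.2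
      exact ⟨c, by rw [hc, sub_self]; exact zero_mem _⟩
    · exact ⟨0, by rw [map_zero, sub_zero]; exact Ideal.subset_span ⟨i, h, a.2⟩⟩
  | add x y hx hy =>
    obtain ⟨c, hc⟩ := hx
    obtain ⟨c', hc'⟩ := hy
    refine ⟨c + c', ?_⟩
    have : x + y - algebraMap k R (c + c') = (x - algebraMap k R c) + (y - algebraMap k R c') := by
      rw [map_add]; ring
    rw [this]
    exact add_mem hc hc'

theorem irr_isMaximal [Nontrivial R] {k : Type*} [Field k] [Algebra k R]
    (hneg : ∀ i : ℤ, i < 0 → ∀ x ∈ 𝒜 i, x = 0)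
    (h0 : ∀ x ∈ 𝒜 0, ∃ c : k, algebraMap k R c = x) : (irr 𝒜).IsMaximal := by
  rw [Ideal.isMaximal_iff]
  constructor
  · intro h1
    have := irr_zero_comp 𝒜 hneg 1 h1
    rw [decompose_of_mem_same 𝒜 (SetLike.GradedOne.one_mem)] at this
    exact one_ne_zero this
  · intro J x hIJ hxI hxJ
    obtain ⟨c, hc⟩ := exists_sub_mem_irr 𝒜 hneg h0 x
    have hc0 : c ≠ 0 := by
      rintro rfl
      rw [map_zero, sub_zero] at hc
      exact hxI hc
    have h1 : algebraMap k R c ∈ J := by
      have := J.sub_mem hxJ (hIJ hc)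
      rwa [sub_sub_cancel] at this
    have h2 := J.mul_mem_left (algebraMap k R c⁻¹) h1
    rwa [← map_mul, inv_mul_cancel₀ hc0, map_one] at h2

end graded

section graded2
variable {R : Type*} [CommRing R] {σ : Type*} [SetLike σ R] [AddSubmonoidClass σ R] (𝒜 : ℤ → σ)
  [GradedRing 𝒜]
variable {M : Type*} [AddCommGroup M] [Module R M] {τ : Type*} [SetLike τ M]
  [AddSubmonoidClass τ M] (ℳ : ℤ → τ) [DirectSum.Decomposition ℳ] [SetLike.GradedSMul 𝒜 ℳ]

/-- graded Nakayama: homogeneous elements generating modulo the irrelevant ideal generate -/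
theorem span_eq_top_of_sup (hneg : ∀ i : ℤ, i < 0 → ∀ x ∈ 𝒜 i, x = 0) {ι : Type*} (h : ι → M)
    (hh : ∀ i, SetLike.IsHomogeneousElem ℳ (h i)) [Module.Finite R M]
    (hsup : (⊤ : Submodule R M) ≤ Submodule.span R (Set.range h) ⊔ irr 𝒜 • (⊤ : Submodule R M)) :
    Submodule.span R (Set.range h) = ⊤ := by
  classical
  obtain ⟨r, hr1, hrN⟩ := Submodule.exists_sub_one_mem_and_smul_le_of_fg_of_le_sup
    (N := Submodule.span R (Set.range h)) (N' := ⊤) (P := ⊤) (I := irr 𝒜)
    Module.Finite.fg_top le_rfl hsup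
  have hN : ∀ n ∈ Submodule.span R (Set.range h), ∀ (a : R) (d : ℤ),
      ((decompose ℳ (a • n)) d : M) ∈ Submodule.span R (Set.range h) := by
    intro n hn
    induction hn using Submodule.span_induction with
    | mem g hg =>
      obtain ⟨i, rfl⟩ := hg
      obtain ⟨e, he⟩ := hh i
      intro a d
      rw [decompose_smul_of_mem 𝒜 ℳ a he d]
      exact Submodule.smul_mem _ _ (Submodule.subset_span ⟨i, rfl⟩)
    | zero => intro a d; simp
    | add y z _ _ hy hz =>
      intro a d
      rw [smul_add, decompose_add, DirectSum.add_apply, AddMemClass.coe_add]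
      exact Submodule.add_mem _ (hy a d) (hz a d)
    | smul c y _ hy =>
      intro a d
      rw [smul_smul]
      exact hy (a * c) d
  have hr0 := decompose_zero_eq_one 𝒜 hneg r hr1
  rw [eq_top_iff]
  intro x _
  induction x using DirectSum.Decomposition.inductionOn ℳ with
  | zero => exact Submodule.zero_mem _
  | @homogeneous d x =>
    have hrx : r • (x : M) ∈ Submodule.span R (Set.range h) :=
      hrN (Submodule.smul_mem_pointwise_smul _ _ _ Submodule.mem_top)
    have h1 := hN _ hrx 1 d
    have hlow : ∀ b < d, ((decompose ℳ (x : M)) b : M) = 0 := fun b hb =>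
      decompose_of_mem_ne ℳ x.2 (ne_of_gt hb)
    rw [one_smul, decompose_smul_eq_of_lowest 𝒜 ℳ hneg r hr0 (x : M) d hlow,
      decompose_of_mem_same ℳ x.2] at h1
    exact h1
  | add x y hx hy => exact Submodule.add_mem _ (hx trivial) (hy trivial)

/-- linear independence from projectivity -/
theorem li_of_projective (hneg : ∀ i : ℤ, i < 0 → ∀ x ∈ 𝒜 i, x = 0) {ι : Type*} [Finite ι]
    (h : ι → M) [Module.Projective R M]
    (hspan : Submodule.span R (Set.range h) = ⊤)
    (hI : ∀ a : ι →₀ R, Finsupp.linearCombination R h a = 0 → ∀ i, a i ∈ irr 𝒜) :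
    LinearIndependent R h := by
  classical
  have hφ : Function.Surjective (Finsupp.linearCombination R h) := by
    rw [← LinearMap.range_eq_top, Finsupp.range_linearCombination, hspan]
  obtain ⟨σ', hσ'⟩ := Module.projective_lifting_property (Finsupp.linearCombination R h)
    LinearMap.id hφ
  have hσ'' : ∀ m, Finsupp.linearCombination R h (σ' m) = m := fun m =>
    LinearMap.congr_fun hσ' m
  let P : (ι →₀ R) →ₗ[R] (ι →₀ R) := LinearMap.id - σ'.comp (Finsupp.linearCombination R h)
  have hPdef : ∀ x, P x = x - σ' (Finsupp.linearCombination R h x) := fun x => rfl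
  have hPK : ∀ x, Finsupp.linearCombination R h (P x) = 0 := by
    intro x
    rw [hPdef, map_sub, hσ'', sub_self]
  have hPid : ∀ x, Finsupp.linearCombination R h x = 0 → P x = x := by
    intro x hx
    rw [hPdef, hx, map_zero, sub_zero]
  have hKeq : LinearMap.ker (Finsupp.linearCombination R h) = LinearMap.range P := by
    ext x
    constructor
    · intro hx; exact ⟨x, hPid x hx⟩
    · rintro ⟨y, rfl⟩; exact hPK y
  have hKfg : (LinearMap.ker (Finsupp.linearCombination R h)).FG := by
    rw [hKeq, LinearMap.range_eq_map]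
    exact Submodule.FG.map _ Module.Finite.fg_top
  have hKle : LinearMap.ker (Finsupp.linearCombination R h) ≤
      irr 𝒜 • LinearMap.ker (Finsupp.linearCombination R h) := by
    intro x hx
    have hx0 : Finsupp.linearCombination R h x = 0 := hx
    have hsum : P x = ∑ i ∈ x.support, (x i) • P (Finsupp.single i (1 : R)) := by
      conv_lhs => rw [← Finsupp.sum_single x]
      rw [Finsupp.sum, map_sum]
      apply Finset.sum_congr rfl
      intro i _
      rw [← map_smul, Finsupp.smul_single, smul_eq_mul, mul_one]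
    rw [← hPid x hx0, hsum]
    refine Submodule.sum_mem _ (fun i _ => ?_)
    exact Submodule.smul_mem_smul (hI x hx0 i) (hPK _)
  obtain ⟨r, hr1, hr0⟩ := Submodule.exists_sub_one_mem_and_smul_eq_zero_of_fg_of_le_smul
    (irr 𝒜) _ hKfg hKle
  rw [linearIndependent_iff]
  intro a ha
  have h1 := hr0 a ha
  ext i
  have h2 : r * a i = 0 := by
    have := DFunLike.congr_fun h1 i
    simpa using this
  exact nzd 𝒜 hneg r hr1 (a i) h2

/-- homogeneous lifts of a basis modulo the irrelevant ideal -/
theorem exists_family [Nontrivial R] {k : Type*} [Field k] [Algebra k R]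
    (hneg : ∀ i : ℤ, i < 0 → ∀ x ∈ 𝒜 i, x = 0)
    (h0 : ∀ x ∈ 𝒜 0, ∃ c : k, algebraMap k R c = x) [Module.Finite R M] :
    ∃ (b : Set (M ⧸ (irr 𝒜 • ⊤ : Submodule R M))) (_ : Finite b) (h : b → M),
      (∀ i, SetLike.IsHomogeneousElem ℳ (h i)) ∧
      (⊤ : Submodule R M) ≤ Submodule.span R (Set.range h) ⊔ irr 𝒜 • (⊤ : Submodule R M) ∧
      (∀ a : b →₀ R, Finsupp.linearCombination R h a = 0 → ∀ i, a i ∈ irr 𝒜) := by
  classical
  haveI hmax : (irr 𝒜).IsMaximal := irr_isMaximal 𝒜 hneg h0
  letI : Field (R ⧸ irr 𝒜) := Ideal.Quotient.field (irr 𝒜)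
  set π : M →ₗ[R] (M ⧸ (irr 𝒜 • ⊤ : Submodule R M)) := (irr 𝒜 • ⊤ : Submodule R M).mkQ with hπ
  have hsurjF : Function.Surjective (algebraMap R (R ⧸ irr 𝒜)) := Ideal.Quotient.mk_surjective
  set s : Set (M ⧸ (irr 𝒜 • ⊤ : Submodule R M)) := π '' {x | SetLike.IsHomogeneousElem ℳ x} with hs
  have hsR : Submodule.span R s = ⊤ := by
    rw [eq_top_iff]
    intro q _
    obtain ⟨x, rfl⟩ := Submodule.mkQ_surjective _ q
    rw [← DirectSum.sum_support_decompose ℳ x, map_sum]
    refine Submodule.sum_mem _ (fun d _ => ?_)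
    exact Submodule.subset_span ⟨_, ⟨d, SetLike.coe_mem _⟩, rfl⟩
  have hsF : Submodule.span (R ⧸ irr 𝒜) s = ⊤ := by
    have := Submodule.restrictScalars_span R (R ⧸ irr 𝒜) hsurjF s
    rw [hsR] at this
    exact (Submodule.restrictScalars_eq_top_iff _ _ _).mp this
  obtain ⟨b, hbs, hbspan, hbli⟩ := exists_linearIndependent (R ⧸ irr 𝒜) s
  haveI : Module.Finite (R ⧸ irr 𝒜) (M ⧸ (irr 𝒜 • ⊤ : Submodule R M)) :=
    Module.Finite.of_restrictScalars_finite R _ _
  have hfin : Finite b := hbli.finite
  have hch : ∀ v : b, ∃ x : M, SetLike.IsHomogeneousElem ℳ x ∧ π x = v := fun v => hbs v.2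
  choose h hh1 hh2 using hch
  refine ⟨b, hfin, h, hh1, ?_, ?_⟩
  · -- generation modulo the irrelevant ideal
    have hmap : Submodule.map π (Submodule.span R (Set.range h)) = ⊤ := by
      rw [Submodule.map_span]
      have himg : π '' Set.range h = b := by
        ext q
        constructor
        · rintro ⟨_, ⟨v, rfl⟩, rfl⟩
          rw [hh2 v]; exact v.2
        · intro hq
          exact ⟨h ⟨q, hq⟩, ⟨⟨q, hq⟩, rfl⟩, hh2 ⟨q, hq⟩⟩
      rw [himg, ← Submodule.restrictScalars_span R (R ⧸ irr 𝒜) hsurjF b, hbspan, hsF]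
      rfl
    have := (Submodule.map_mkQ_eq_top _ _).mp hmap
    rw [sup_comm] at this
    exact this.ge
  · intro a ha i
    have h1 : π (Finsupp.linearCombination R h a) = 0 := by rw [ha, map_zero]
    rw [Finsupp.linearCombination_apply, Finsupp.sum, map_sum] at h1
    have h2 : Finsupp.linearCombination (R ⧸ irr 𝒜) (Subtype.val : b → _)
        (a.mapRange (Ideal.Quotient.mk (irr 𝒜)) (map_zero _)) = 0 := by
      rw [Finsupp.linearCombination_apply, Finsupp.sum_mapRange_index (by intro v; simp)]
      rw [Finsupp.sum, ← h1]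
      apply Finset.sum_congr rfl
      intro v _
      rw [map_smul, hh2 v]
      exact algebraMap_smul (R ⧸ irr 𝒜) (a v) (v : M ⧸ (irr 𝒜 • ⊤ : Submodule R M))
    have h3 := linearIndependent_iff.mp hbli _ h2
    have h4 := DFunLike.congr_fun h3 i
    rw [Finsupp.mapRange_apply, Finsupp.zero_apply, Ideal.Quotient.eq_zero_iff_mem] at h4
    exact h4

end graded2


/-- Let k be a field and R a commutative ℤ-graded k-algebra whose pieces of negative degree vanish and
whose degree-zero piece is the image of k, and let M be a finitely generated ℤ-graded R-module,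
graded compatibly with R. Then M is a projective R-module if and only if M has an R-basis consisting
of homogeneous elements, i.e. M is a free graded module. (The published statement takes R a graded
quotient of a polynomial ring k[x_0, …, x_n] with its standard grading; stated here for any
commutative graded k-algebra concentrated in non-negative degrees with degree-zero part k, to which
the same graded-Nakayama argument applies.) -/
theorem result {k : Type u} [Field k] {R : Type u} [CommRing R] [Algebra k R]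
    {σ : Type u} [SetLike σ R] [AddSubmonoidClass σ R] (𝒜 : ℤ → σ) [GradedRing 𝒜]
    (hneg : ∀ i : ℤ, i < 0 → ∀ x ∈ 𝒜 i, x = 0)
    (hk : ∀ c : k, algebraMap k R c ∈ 𝒜 0) (h0 : ∀ x ∈ 𝒜 0, ∃ c : k, algebraMap k R c = x)
    {M : Type u} [AddCommGroup M] [Module R M] [Module.Finite R M]
    {τ : Type u} [SetLike τ M] [AddSubmonoidClass τ M] (ℳ : ℤ → τ) [DirectSum.Decomposition ℳ]
    [SetLike.GradedSMul 𝒜 ℳ] :
    Module.Projective R M ↔
      ∃ (ι : Type u) (b : Module.Basis ι R M), ∀ i : ι, SetLike.IsHomogeneousElem ℳ (b i) := by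
  classical
  constructor
  swap
  · rintro ⟨ι, b, -⟩
    exact Module.Projective.of_basis b
  intro hproj
  rcases subsingleton_or_nontrivial R with hR | hR
  · haveI : Subsingleton M := Module.subsingleton R M
    exact ⟨PEmpty, Module.Basis.empty M, fun i => i.elim⟩
  obtain ⟨b, hfin, h, hh, hsup, hI⟩ := exists_family 𝒜 ℳ hneg h0
  have hspan := span_eq_top_of_sup 𝒜 ℳ hneg h hh hsup
  have hli := li_of_projective 𝒜 hneg h hspan hI
  refine ⟨↥b, Module.Basis.mk hli hspan.ge, fun i => ?_⟩
  rw [Module.Basis.mk_apply]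
  exact hh i

end Groth.Agent.S19462
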