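import Groth.Statements.S19465
import Groth.Agent.S2803

set_option autoImplicit false
universe u
open CategoryTheory CategoryTheory.Limits MonoidalCategory CartesianMonoidalCategory MonObj GrpObj AlgebraicGeometry
open AlgGrp

namespace Groth.Agent.S19465

/-- Let S be a scheme and G an S-group scheme whose structure morphism G → S is locally of finite type.
Then G → S is an isomorphism (G is the trivial group scheme over S) if and only if every fibre G_s →
Spec κ(s), s ∈ S, is an isomorphism. -/
theorem result (S : Scheme.{u}) (G : Over S)
    [GrpObj G] [LocallyOfFiniteType G.hom] :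
    IsIso G.hom ↔ ∀ s : S, IsIso (G.hom.fiberToSpecResidueField s) := by
  constructor
  · intro h s
    unfold Scheme.Hom.fiberToSpecResidueField
    exact MorphismProperty.of_isPullback (P := MorphismProperty.isomorphisms Scheme.{u})
      (IsPullback.of_hasPullback _ _) h
  · intro h
    -- the unit section
    let e : S ⟶ G.left := η[G].left
    have he : e ≫ G.hom = 𝟙 S := Over.w η[G]
    -- fibres are singletons, so `e` is surjective
    have hsurj : Surjective e := by
      constructor
      intro g
      refine ⟨G.hom g, ?_⟩
      have hhomeo := (TopCat.homeoOfIso (asIso (G.hom.fiberToSpecResidueField (G.hom g)).base))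
      have hsub : Subsingleton (G.hom.fiber (G.hom g)) := by
        have : Subsingleton (Spec (S.residueField (G.hom g))) :=
          inferInstanceAs (Subsingleton (PrimeSpectrum (S.residueField (G.hom g))))
        exact hhomeo.injective.subsingleton
      have h1 : g ∈ Set.range (G.hom.fiberι (G.hom g)) := by
        rw [Scheme.Hom.range_fiberι]; rfl
      have h2 : e (G.hom g) ∈ Set.range (G.hom.fiberι (G.hom g)) := by
        rw [Scheme.Hom.range_fiberι]
        change G.hom (e (G.hom g)) = G.hom g
        rw [← Scheme.Hom.comp_apply, he]
        rfl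
      obtain ⟨z1, hz1⟩ := h1
      obtain ⟨z2, hz2⟩ := h2
      rw [← hz2, Subsingleton.elim z2 z1, hz1]
    have huc : UniversallyClosed G.hom := by
      have : UniversallyClosed (e ≫ G.hom) := by rw [he]; infer_instance
      exact UniversallyClosed.of_comp_surjective e G.hom
    have key : ∀ s : S, ∃ U : S.Opens, s ∈ U ∧ IsClosedImmersion (G.hom ∣_ U) := by
      intro s
      refine (Groth.Agent.S2803.result G.hom s).mpr ⟨Or.inr (h s), ⊤, trivial, inferInstance⟩
    choose W hW hWcl using key
    have hsup : ⨆ s, W s = ⊤ := by
      rw [eq_top_iff]
      intro s _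
      exact TopologicalSpace.Opens.mem_iSup.mpr ⟨s, hW s⟩
    have hcl : IsClosedImmersion G.hom :=
      (IsZariskiLocalAtTarget.iff_of_iSup_eq_top (P := @IsClosedImmersion) W hsup).mpr hWcl
    have hmono : Mono G.hom := inferInstance
    have hepi : IsSplitEpi G.hom := ⟨⟨e, he⟩⟩
    exact isIso_of_mono_of_isSplitEpi G.hom

end Groth.Agent.S19465
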