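import Groth.Statements.S19473
import Mathlib

set_option autoImplicit false
universe u
open CategoryTheory CategoryTheory.Limits MonoidalCategory CartesianMonoidalCategory MonObj GrpObj AlgebraicGeometry
open AlgGrp

namespace Groth.Agent.S19473
open CategoryTheory CategoryTheory.Limits MonoidalCategory CartesianMonoidalCategory MonObj GrpObj AlgebraicGeometry

section
variable {S : Scheme.{u}} (G : Over S) [GrpObj G]

/-- `(a, b) ↦ (a * b, b)` -/
noncomputable def shear : G ⊗ G ⟶ G ⊗ G := lift (fst G G * snd G G) (snd G G)

/-- `(a, b) ↦ (a * b⁻¹, b)` -/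
noncomputable def shearInv : G ⊗ G ⟶ G ⊗ G := lift (fst G G * (snd G G)⁻¹) (snd G G)

theorem shear_shearInv : shear G ≫ shearInv G = 𝟙 _ := by
  apply CartesianMonoidalCategory.hom_ext
  · simp [shear, shearInv, MonObj.comp_mul, GrpObj.comp_inv]
  · simp [shear, shearInv]

theorem shearInv_shear : shearInv G ≫ shear G = 𝟙 _ := by
  apply CartesianMonoidalCategory.hom_ext
  · simp [shear, shearInv, MonObj.comp_mul]
  · simp [shear, shearInv]

/-- `b ↦ (e, b)` -/
noncomputable def unitLeft : G ⟶ G ⊗ G := lift (toUnit G ≫ η[G]) (𝟙 G)

theorem unitLeft_shear : unitLeft G ≫ shear G = lift (𝟙 G) (𝟙 G) := by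
  apply CartesianMonoidalCategory.hom_ext
  · simp [shear, unitLeft, MonObj.comp_mul, ← Hom.one_def]
  · simp [shear, unitLeft]

theorem isPullback_unitLeft :
    IsPullback (unitLeft G).left G.hom (pullback.fst G.hom G.hom) η[G].left := by
  have hw : η[G].left ≫ G.hom = 𝟙 S := Over.w η[G]
  have h1 : (unitLeft G).left ≫ pullback.snd G.hom G.hom = 𝟙 _ := by
    have := congr($(show unitLeft G ≫ snd G G = 𝟙 G by simp [unitLeft]).left)
    simpa using this
  have h2 : (unitLeft G).left ≫ pullback.fst G.hom G.hom = G.hom ≫ η[G].left := by
    have := congr($(show unitLeft G ≫ fst G G = toUnit G ≫ η[G] by simp [unitLeft]).left)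
    simpa using this
  refine IsPullback.of_right (h₁₂ := pullback.snd G.hom G.hom) (h₂₂ := G.hom) ?_ h2
    (IsPullback.of_hasPullback G.hom G.hom).flip
  rw [h1, hw]
  exact IsPullback.of_horiz_isIso ⟨by simp⟩

end

/-- Let S be a scheme and G an S-group scheme whose structure morphism G → S is locally of finite type.
Then G → S is unramified — formally unramified, since it is locally of finite type — if and only if
the identity section S → G is an open immersion. (The separated and quasi-separated clauses of the
published item are separate results.) -/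
theorem result (S : Scheme.{u})
    (G : Over S) [GrpObj G] [LocallyOfFiniteType G.hom] :
    FormallyUnramified G.hom ↔ IsOpenImmersion η[G].left := by
  have hw : η[G].left ≫ G.hom = 𝟙 S := Over.w η[G]
  constructor
  · intro h
    have hdiag : (@IsOpenImmersion).diagonal G.hom := by
      show IsOpenImmersion (pullback.diagonal G.hom)
      infer_instance
    have : (@IsOpenImmersion).HasOfPostcompProperty (@IsOpenImmersion).diagonal :=
      MorphismProperty.hasOfPostcompProperty_iff_le_diagonal.mpr le_rfl
    exact MorphismProperty.of_postcomp (W := @IsOpenImmersion) (W' := (@IsOpenImmersion).diagonal)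
      η[G].left G.hom hdiag (by rw [hw]; exact inferInstanceAs (IsOpenImmersion (𝟙 S)))
  · intro h
    have h1 : IsOpenImmersion (unitLeft G).left :=
      MorphismProperty.of_isPullback (P := @IsOpenImmersion) (isPullback_unitLeft G).flip h
    have h2 : IsIso (shear G) := ⟨shearInv G, shear_shearInv G, shearInv_shear G⟩
    have h3 : IsIso (shear G).left := inferInstanceAs (IsIso ((Over.forget S).map (shear G)))
    have h4 : pullback.diagonal G.hom = (unitLeft G).left ≫ (shear G).left := by
      rw [← Over.comp_left, unitLeft_shear]
      apply pullback.hom_ext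
      · simp only [pullback.diagonal_fst, Over.lift_left, Over.id_left]
        exact (pullback.lift_fst _ _ _).symm
      · simp only [pullback.diagonal_snd, Over.lift_left, Over.id_left]
        exact (pullback.lift_snd _ _ _).symm
    have : IsOpenImmersion (pullback.diagonal G.hom) := by
      rw [h4]
      infer_instance
    infer_instance

end Groth.Agent.S19473
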