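import Groth.Statements.S19475
import Mathlib

set_option autoImplicit false
universe u
open CAlg

namespace Groth.Agent.S19475

open IsLocalRing TensorProduct

section gen
variable {A : Type u} [CommRing A] (p : Ideal A) [p.IsPrime]
  (K : Type u) [Field K] [Algebra A K]

local notation "Ap" => Localization.AtPrime p
local notation "𝔭" => maximalIdeal (Localization.AtPrime p)
local notation "Ahat" => AdicCompletion (maximalIdeal (Localization.AtPrime p)) (Localization.AtPrime p)

/-- moving a unit scalar across -/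
lemma tmul_eq_inv_tmul_smul (hK : ∀ a, algebraMap A K a = 0 ↔ a ∈ p) (s : A) (hs : s ∉ p)
    (x : K) (y : Ahat) :
    x ⊗ₜ[A] y = ((algebraMap A K s)⁻¹ * x) ⊗ₜ[A] (s • y) := by
  have hu : algebraMap A K s ≠ 0 := fun h => hs ((hK s).1 h)
  rw [← TensorProduct.smul_tmul, Algebra.smul_def, ← mul_assoc, mul_inv_cancel₀ hu, one_mul]

lemma tmul_algebraMap_mk' (hK : ∀ a, algebraMap A K a = 0 ↔ a ∈ p) (a : A) (s : p.primeCompl)
    (x : K) (c : Ahat) :
    x ⊗ₜ[A] (c * algebraMap Ap Ahat (IsLocalization.mk' Ap a s)) =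
      (algebraMap A K a * ((algebraMap A K s)⁻¹ * x)) ⊗ₜ[A] c := by
  rw [tmul_eq_inv_tmul_smul p K hK s s.2]
  have key : (s : A) • algebraMap Ap Ahat (IsLocalization.mk' Ap a s) = algebraMap A Ahat a := by
    rw [Algebra.smul_def, IsScalarTower.algebraMap_apply A Ap Ahat, ← map_mul,
      IsLocalization.mk'_spec', ← IsScalarTower.algebraMap_apply]
  have : (s : A) • (c * algebraMap Ap Ahat (IsLocalization.mk' Ap a s)) = a • c := by
    rw [mul_comm, ← smul_mul_assoc, key, Algebra.smul_def]
  rw [this, ← TensorProduct.smul_tmul, Algebra.smul_def]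

lemma tmul_eq_zero_of_mem (hK : ∀ a, algebraMap A K a = 0 ↔ a ∈ p) (x : K) (w : Ahat)
    (hw : w ∈ Ideal.map (algebraMap Ap Ahat) 𝔭) : x ⊗ₜ[A] w = 0 := by
  induction hw using Submodule.span_induction generalizing x with
  | mem y hy =>
    obtain ⟨m, hm, rfl⟩ := hy
    obtain ⟨a, s, rfl⟩ := IsLocalization.exists_mk'_eq p.primeCompl m
    have ha : a ∈ p := by
      have := (IsLocalization.AtPrime.mk'_mem_maximal_iff Ap p a s).1 hm
      exact this
    have := tmul_algebraMap_mk' p K hK a s x 1
    rw [one_mul] at this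
    rw [this, (hK a).2 ha, zero_mul, zero_tmul]
  | zero => simp
  | add y z _ _ hy hz => rw [tmul_add, hy, hz, add_zero]
  | smul c y _ hy =>
    have := congrArg (LinearMap.lTensor K (LinearMap.mulLeft A c)) (hy x)
    simpa using this

/-- The `A`-algebra map `Â → K`. -/
noncomputable def toK (hK : ∀ a, algebraMap A K a = 0 ↔ a ∈ p) : Ahat →ₐ[A] K :=
  have hunit : ∀ y : p.primeCompl, IsUnit (algebraMap A K y) := fun y =>
    (isUnit_iff_ne_zero.2 fun h => y.2 ((hK y).1 h))
  let h : Ap →ₐ[A] K := IsLocalization.liftAlgHom (M := p.primeCompl) (f := Algebra.ofId A K) hunit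
  have hker : ∀ m ∈ 𝔭, h m = 0 := by
    intro m hm
    obtain ⟨a, s, rfl⟩ := IsLocalization.exists_mk'_eq p.primeCompl m
    have ha : a ∈ p := (IsLocalization.AtPrime.mk'_mem_maximal_iff Ap p a s).1 hm
    have : h (IsLocalization.mk' Ap a s) * algebraMap A K s = algebraMap A K a := by
      rw [← h.commutes (s : A), ← map_mul, IsLocalization.mk'_spec, h.commutes]
    rw [(hK a).2 ha] at this
    exact (mul_eq_zero.1 this).resolve_right fun h0 => s.2 ((hK s).1 h0)
  (Ideal.Quotient.liftₐ 𝔭 h hker).comp ((AdicCompletion.evalOneₐ 𝔭).restrictScalars A)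

lemma includeLeft_bijective [IsNoetherianRing A] (hK : ∀ a, algebraMap A K a = 0 ↔ a ∈ p) :
    Function.Bijective (Algebra.TensorProduct.includeLeft : K →ₐ[A] K ⊗[A] Ahat) := by
  have hnt : Nontrivial (K ⊗[A] Ahat) := by
    refine ⟨⟨0, 1, fun h01 => ?_⟩⟩
    have := congrArg (Algebra.TensorProduct.productMap (AlgHom.id A K) (toK p K hK)) h01
    simp at this
  refine ⟨(Algebra.TensorProduct.includeLeft : K →ₐ[A] K ⊗[A] Ahat).toRingHom.injective, ?_⟩
  intro t
  induction t using TensorProduct.induction_on with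
  | zero => exact ⟨0, map_zero _⟩
  | add t₁ t₂ h₁ h₂ =>
    obtain ⟨x₁, rfl⟩ := h₁
    obtain ⟨x₂, rfl⟩ := h₂
    exact ⟨x₁ + x₂, map_add _ _ _⟩
  | tmul x y =>
    obtain ⟨z, hz⟩ := Ideal.Quotient.mk_surjective (AdicCompletion.evalOneₐ 𝔭 y)
    have hw : y - algebraMap Ap Ahat z ∈ Ideal.map (algebraMap Ap Ahat) 𝔭 := by
      rw [← AdicCompletion.ker_evalOneₐ_eq_map 𝔭 (IsNoetherian.noetherian _)]
      rw [RingHom.mem_ker]
      simp [hz]
    have h0 := tmul_eq_zero_of_mem p K hK x _ hw
    rw [tmul_sub, sub_eq_zero] at h0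
    obtain ⟨a, s, rfl⟩ := IsLocalization.exists_mk'_eq p.primeCompl z
    have := tmul_algebraMap_mk' p K hK a s x 1
    rw [one_mul] at this
    refine ⟨algebraMap A K a * ((algebraMap A K s)⁻¹ * x), ?_⟩
    rw [h0, this]
    rfl

end gen

open IsLocalRing in
/-- Let A be a Noetherian ring, B an A-algebra, q a prime ideal of B and p its preimage in A; let A_p
and B_q be the local rings at p and q and Â_p the completion of A_p at its maximal ideal pA_p. Then
the ideal generated by qB_q in B_q ⊗ Â_p is maximal. (The tensor product is formed over A; since A_p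
is a localization of A it agrees with the tensor product over A_p used in the published statement.) -/
theorem result (A B : Type u) [CommRing A] [CommRing B]
    [Algebra A B] [IsNoetherianRing A] (q : Ideal B) [q.IsPrime] :
    ((maximalIdeal (Localization.AtPrime q)).map
      (Algebra.TensorProduct.includeLeftRingHom :
        Localization.AtPrime q →+* TensorProduct A (Localization.AtPrime q)
          (AdicCompletion (maximalIdeal (Localization.AtPrime (q.under A)))
            (Localization.AtPrime (q.under A))))).IsMaximal := by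
  set Bq := Localization.AtPrime q
  set p := q.under A
  let _ : Field (Bq ⧸ maximalIdeal Bq) := Ideal.Quotient.field _
  have hK : ∀ a, algebraMap A (Bq ⧸ maximalIdeal Bq) a = 0 ↔ a ∈ p := by
    intro a
    rw [IsScalarTower.algebraMap_apply A Bq (Bq ⧸ maximalIdeal Bq), Ideal.Quotient.algebraMap_eq,
      Ideal.Quotient.eq_zero_iff_mem, IsScalarTower.algebraMap_apply A B Bq,
      IsLocalization.AtPrime.to_map_mem_maximal_iff Bq q]
    rfl
  have hbij := includeLeft_bijective p (Bq ⧸ maximalIdeal Bq) hK
  let e := Algebra.TensorProduct.quotientTensorEquiv (R := A) Bq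
    (AdicCompletion (maximalIdeal (Localization.AtPrime p)) (Localization.AtPrime p)) Bq
    (maximalIdeal Bq)
  have hfield : IsField ((Bq ⧸ maximalIdeal Bq) ⊗[A]
      (AdicCompletion (maximalIdeal (Localization.AtPrime p)) (Localization.AtPrime p))) :=
    (RingEquiv.ofBijective _ hbij).symm.toMulEquiv.isField (Field.toIsField _)
  have hfield2 := e.symm.toMulEquiv.isField hfield
  exact Ideal.Quotient.maximal_of_isField _ hfield2

end Groth.Agent.S19475
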