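import Groth.Statements.S19477
import Mathlib

set_option autoImplicit false
universe u
open Variety

namespace Groth.Agent.S19477

open TensorProduct

theorem noeth (K B L : Type u) [Field K]
    [CommRing B] [IsDomain B] [Algebra K B] [Algebra.FiniteType K B] [Field L] [Algebra K L] :
    IsNoetherianRing (FractionRing B ⊗[K] L) := by
  have h1 : IsNoetherianRing (L ⊗[K] B) := Algebra.FiniteType.isNoetherianRing L _
  have h2 : IsNoetherianRing (B ⊗[K] L) :=
    isNoetherianRing_of_ringEquiv _ (Algebra.TensorProduct.comm K L B).toRingEquiv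
  let alg : Algebra (B ⊗[K] L) (FractionRing B ⊗[K] L) :=
    (Algebra.TensorProduct.map (IsScalarTower.toAlgHom K B (FractionRing B)) (AlgHom.id K L)).toRingHom.toAlgebra
  have : IsScalarTower B (B ⊗[K] L) (FractionRing B ⊗[K] L) := by
    apply IsScalarTower.of_algebraMap_eq'
    ext x
    simp [RingHom.algebraMap_toAlgebra, Algebra.TensorProduct.algebraMap_apply]
  have hloc : IsLocalization (Algebra.algebraMapSubmonoid (B ⊗[K] L) (nonZeroDivisors B)) (FractionRing B ⊗[K] L) := by
    apply IsLocalization.tensorProduct_tensorProduct K L (nonZeroDivisors B) (FractionRing B)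
    ext x
    simp [RingHom.algebraMap_toAlgebra]
  exact IsLocalization.isNoetherianRing (Algebra.algebraMapSubmonoid (B ⊗[K] L) (nonZeroDivisors B)) _ h2

theorem finite_spec (K B L : Type u) [Field K]
    [CommRing B] [IsDomain B] [Algebra K B] [Algebra.FiniteType K B] [Field L] [Algebra K L]
    [IsGalois K L] :
    Finite (PrimeSpectrum (FractionRing B ⊗[K] L)) := by
  have hN := noeth K B L
  have hint : Algebra.IsIntegral (FractionRing B) (FractionRing B ⊗[K] L) := inferInstance
  have hdim : Ring.KrullDimLE 0 (FractionRing B ⊗[K] L) := by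
    refine Ring.KrullDimLE.mk₀ (fun I hI => ?_)
    apply Ideal.isMaximal_of_isIntegral_of_isMaximal_comap (R := FractionRing B) I
    have : I.comap (algebraMap (FractionRing B) (FractionRing B ⊗[K] L)) = ⊥ :=
      (Ideal.eq_bot_or_top _).resolve_right (Ideal.IsPrime.ne_top (Ideal.comap_isPrime _ I))
    rw [this]
    exact Ideal.bot_isMaximal
  have hfin := minimalPrimes.finite_of_isNoetherianRing (FractionRing B ⊗[K] L)
  have : Finite (minimalPrimes (FractionRing B ⊗[K] L)) := hfin
  refine Finite.of_injective
    (fun p : PrimeSpectrum (FractionRing B ⊗[K] L) =>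
      (⟨p.asIdeal, Ideal.mem_minimalPrimes_iff_isPrime.mpr p.isPrime⟩ : minimalPrimes (FractionRing B ⊗[K] L))) ?_
  intro p q h
  exact PrimeSpectrum.ext (congrArg Subtype.val h)

section
variable (K F L : Type u) [Field K] [Field F] [Algebra K F] [Field L] [Algebra K L]

/-- the Galois group acts on `F ⊗ L` through the second factor. -/
noncomputable def actHom : (L ≃ₐ[K] L) →* ((F ⊗[K] L) ≃ₐ[F] (F ⊗[K] L)) where
  toFun γ := Algebra.TensorProduct.congr AlgEquiv.refl γ
  map_one' := by
    apply AlgEquiv.ext
    intro x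
    induction x using TensorProduct.induction_on with
    | zero => simp
    | tmul a b => simp
    | add x y hx hy => simp only [map_add, hx, hy]
  map_mul' γ₁ γ₂ := by
    apply AlgEquiv.ext
    intro x
    induction x using TensorProduct.induction_on with
    | zero => simp
    | tmul a b => simp
    | add x y hx hy => simp only [map_add, hx, hy]

@[simp] theorem actHom_tmul (γ : L ≃ₐ[K] L) (a : F) (b : L) :
    actHom K F L γ (a ⊗ₜ b) = a ⊗ₜ γ b := by
  simp [actHom]

@[reducible] noncomputable def galAction : MulSemiringAction (L ≃ₐ[K] L) (F ⊗[K] L) :=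
  MulSemiringAction.compHom (F ⊗[K] L) (actHom K F L)

attribute [local instance] galAction

theorem gal_smul_def (γ : L ≃ₐ[K] L) (x : F ⊗[K] L) : γ • x = actHom K F L γ x := rfl

@[simp] theorem gal_smul_tmul (γ : L ≃ₐ[K] L) (a : F) (b : L) :
    γ • (a ⊗ₜ[K] b) = a ⊗ₜ γ b := by
  rw [gal_smul_def, actHom_tmul]

theorem galSMulComm : SMulCommClass (L ≃ₐ[K] L) F (F ⊗[K] L) where
  smul_comm γ a x := by
    rw [gal_smul_def, gal_smul_def, map_smul]

theorem gal_isInvariant [IsGalois K L] : Algebra.IsInvariant F (F ⊗[K] L) (L ≃ₐ[K] L) where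
  isInvariant r hr := by
    classical
    let b := Module.Free.chooseBasis K F
    let e := TensorProduct.equivFinsuppOfBasisLeft (N := L) b
    have key : ∀ (γ : L ≃ₐ[K] L) (x : F ⊗[K] L) i, e (γ • x) i = γ (e x i) := by
      intro γ x i
      induction x using TensorProduct.induction_on with
      | zero => simp
      | tmul a c =>
        rw [gal_smul_tmul]
        simp [e]
      | add x y hx hy =>
        rw [smul_add, map_add, map_add, Finsupp.add_apply, Finsupp.add_apply, hx, hy, map_add]
    have hfix : ∀ i, ∀ γ : L ≃ₐ[K] L, γ (e r i) = e r i := by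
      intro i γ
      rw [← key, hr]
    have hK : ∀ i, ∃ c : K, algebraMap K L c = e r i := by
      intro i
      exact (InfiniteGalois.mem_range_algebraMap_iff_fixed (e r i)).mpr (hfix i)
    choose c hc using hK
    refine ⟨∑ i ∈ (e r).support, c i • b i, ?_⟩
    have h1 : r = e.symm (e r) := (e.symm_apply_apply r).symm
    conv_rhs => rw [h1, TensorProduct.equivFinsuppOfBasisLeft_symm_apply]
    rw [map_sum, Finsupp.sum]
    apply Finset.sum_congr rfl
    intro i _
    rw [Algebra.TensorProduct.algebraMap_apply, Algebra.algebraMap_self, RingHom.id_apply, ← hc i,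
      Algebra.algebraMap_eq_smul_one, TensorProduct.tmul_smul, TensorProduct.smul_tmul']

theorem gal_stabilizer_isOpen [Algebra.IsIntegral K L] (x : F ⊗[K] L) :
    IsOpen (MulAction.stabilizer (L ≃ₐ[K] L) x : Set (L ≃ₐ[K] L)) := by
  induction x using TensorProduct.induction_on with
  | zero =>
    have : MulAction.stabilizer (L ≃ₐ[K] L) (0 : F ⊗[K] L) = ⊤ := by
      ext γ; simp
    rw [this]; exact isOpen_univ
  | tmul a c =>
    apply Subgroup.isOpen_mono (H₁ := MulAction.stabilizer (L ≃ₐ[K] L) c) ?_
      (stabilizer_isOpen_of_isIntegral c)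
    intro γ hγ
    rw [MulAction.mem_stabilizer_iff] at hγ ⊢
    rw [gal_smul_tmul]
    congr 1
  | add x y hx hy =>
    apply Subgroup.isOpen_mono
      (H₁ := MulAction.stabilizer (L ≃ₐ[K] L) x ⊓ MulAction.stabilizer (L ≃ₐ[K] L) y) ?_ (hx.inter hy)
    intro γ hγ
    rw [Subgroup.mem_inf, MulAction.mem_stabilizer_iff, MulAction.mem_stabilizer_iff] at hγ
    rw [MulAction.mem_stabilizer_iff, smul_add, hγ.1, hγ.2]

theorem gal_smul_eq_map (γ : L ≃ₐ[K] L) (x : F ⊗[K] L) :
    γ • x = Algebra.TensorProduct.map (AlgHom.id K F) (γ : L →ₐ[K] L) x := by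
  induction x using TensorProduct.induction_on with
  | zero => simp
  | tmul a c => simp
  | add x y hx hy => rw [smul_add, map_add, hx, hy]

theorem transitive [IsGalois K L] (P Q : Ideal (F ⊗[K] L)) [P.IsPrime] [Q.IsPrime] :
    ∃ γ : L ≃ₐ[K] L, Q = P.comap (Algebra.TensorProduct.map (AlgHom.id K F) (γ : L →ₐ[K] L)) := by
  letI : TopologicalSpace (F ⊗[K] L) := ⊥
  haveI : DiscreteTopology (F ⊗[K] L) := ⟨rfl⟩
  haveI := galSMulComm K F L
  haveI := gal_isInvariant K F L
  haveI : ContinuousSMul (L ≃ₐ[K] L) (F ⊗[K] L) :=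
    continuousSMul_iff_stabilizer_isOpen.mpr (gal_stabilizer_isOpen K F L)
  have hP : P.under F = ⊥ :=
    (Ideal.eq_bot_or_top _).resolve_right (Ideal.IsPrime.ne_top (Ideal.comap_isPrime _ P))
  have hQ : Q.under F = ⊥ :=
    (Ideal.eq_bot_or_top _).resolve_right (Ideal.IsPrime.ne_top (Ideal.comap_isPrime _ Q))
  obtain ⟨g, hg⟩ := Algebra.IsInvariant.exists_smul_of_under_eq_of_profinite
    (A := F) (B := F ⊗[K] L) (G := L ≃ₐ[K] L) P Q (hP.trans hQ.symm)
  refine ⟨g⁻¹, ?_⟩
  rw [hg]
  ext x
  rw [Ideal.mem_comap, ← gal_smul_eq_map, Ideal.mem_pointwise_smul_iff_inv_smul_mem]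

end

/-- Let K be a field, B an integral K-algebra of finite type with fraction field F, and L a Galois
extension of K with group Γ = Aut_K(L). Then F ⊗_K L has only finitely many prime ideals and Γ,
acting through the second factor, permutes them transitively: for prime ideals P, Q there is γ ∈ Γ
with Q the preimage of P under id ⊗ γ. (The published statement is the geometric one, that the
points of an algebraic K-scheme X correspond to the Γ-orbits of points of X_L and that these orbits
are finite; it reduces to this algebraic statement by passing to the fibre over a point, and the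
algebraic statement is what is proved.) -/
theorem result (K B L : Type u) [Field K]
    [CommRing B] [IsDomain B] [Algebra K B] [Algebra.FiniteType K B] [Field L] [Algebra K L] [IsGalois K L] :
    Finite (PrimeSpectrum (TensorProduct K (FractionRing B) L)) ∧
      ∀ P Q : PrimeSpectrum (TensorProduct K (FractionRing B) L), ∃ γ : L ≃ₐ[K] L,
        Q.asIdeal = P.asIdeal.comap
          (Algebra.TensorProduct.map (AlgHom.id K (FractionRing B)) (γ : L →ₐ[K] L)) := by
  refine ⟨finite_spec K B L, fun P Q => ?_⟩
  exact transitive K (FractionRing B) L P.asIdeal Q.asIdeal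

end Groth.Agent.S19477
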