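import Groth.Statements.S19479
import Groth.Agent.Lib.Helper93.ComodBridge
-- import your own Groth.Agent.* helpers here

set_option autoImplicit false
universe u v w
open HopfRep

namespace Groth.Agent.S19479

open Groth.Agent.Lib.Helper93.Comod in
theorem isAtom_toSub {K : Type u} {C : Type v} [Field K] [AddCommGroup C] [Module K C]
    [Coalgebra K C] {V : Type w} [AddCommGroup V] [Module K V] [HopfRep.Comod K C V]
    (W : Submodule K V) (hW : HopfRep.IsSubcomod (k := K) (A := C) W) (hne : W ≠ ⊥)
    (hmin : ∀ W' : Submodule K V, HopfRep.IsSubcomod (k := K) (A := C) W' → W' ≤ W →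
      W' = ⊥ ∨ W' = W) : IsAtom (toSub W hW) := by
  constructor
  · intro h
    apply hne
    rw [← ofSub_toSub W hW, h, ofSub_bot]
  · intro N hN
    have hle : ofSub N ≤ W := by
      rw [← ofSub_toSub W hW]
      exact ofSub_le_ofSub.mpr hN.le
    rcases hmin (ofSub N) (isSubcomod_ofSub N) hle with h | h
    · exact ofSub_eq_bot_iff.mp h
    · exfalso
      have : N = toSub W hW := by
        apply ofSub_injective
        rw [h, ofSub_toSub]
      exact hN.ne this


open TensorProduct in
/-- Let K be a field, C a K-coalgebra and V a right C-comodule. The following are equivalent: (i) V is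
the internal direct sum of a family of simple subcomodules, i.e. there is an independent family of
subcomodules W_i with sum V, each W_i nonzero and having no subcomodules inside it other than 0 and
W_i; (ii) every subcomodule of V has a complementary subcomodule. A subcomodule is a subspace W
whose coaction lands in the image of W ⊗ C. (The source states this for left comodules; a left
comodule over C is a right comodule over the co-opposite coalgebra, so the statement is the same.) -/
theorem result {K : Type u} {C : Type v} [Field K]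
    [AddCommGroup C] [Module K C] [Coalgebra K C] (V : Type w) [AddCommGroup V] [Module K V] [HopfRep.Comod K C V] :
    (∃ (ι : Type w) (W : ι → Submodule K V), iSupIndep W ∧ iSup W = ⊤ ∧ ∀ i,
        HopfRep.IsSubcomod (k := K) (A := C) (W i) ∧ W i ≠ ⊥ ∧
          ∀ W' : Submodule K V, HopfRep.IsSubcomod (k := K) (A := C) W' → W' ≤ W i → W' = ⊥ ∨ W' = W i) ↔
      HopfRep.IsSemisimpleComod K C V := by
  classical
  constructor
  · rintro ⟨ι, W, hind, hsup, hW⟩
    rw [Groth.Agent.Lib.Helper93.Comod.isSemisimpleComod_iff]
    refine isSemisimpleModule_of_isSemisimpleModule_submodule' (ι := ι)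
      (p := fun i => Groth.Agent.Lib.Helper93.Comod.toSub (W i) (hW i).1) (fun i => ?_) ?_
    · have hat := isAtom_toSub (W i) (hW i).1 (hW i).2.1 (hW i).2.2
      haveI : IsSimpleModule (Groth.Agent.Lib.Helper93.Comod.DualAlg K C)
          (Groth.Agent.Lib.Helper93.Comod.toSub (W i) (hW i).1) :=
        isSimpleModule_iff_isAtom.mpr hat
      infer_instance
    · rw [← Groth.Agent.Lib.Helper93.Comod.ofSub_eq_top_iff, eq_top_iff, ← hsup]
      apply iSup_le
      intro i
      rw [← Groth.Agent.Lib.Helper93.Comod.ofSub_toSub (W i) (hW i).1]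
      exact Groth.Agent.Lib.Helper93.Comod.ofSub_le_ofSub.mpr
        (le_iSup (fun i => Groth.Agent.Lib.Helper93.Comod.toSub (W i) (hW i).1) i)
  · intro hss
    rw [Groth.Agent.Lib.Helper93.Comod.isSemisimpleComod_iff] at hss
    obtain ⟨s, hind, hsup, hsimple⟩ := IsSemisimpleModule.exists_sSupIndep_sSup_simples_eq_top
      (Groth.Agent.Lib.Helper93.Comod.DualAlg K C) (Groth.Agent.Lib.Helper93.Comod.AsMod K C V)
    refine ⟨s, fun i => Groth.Agent.Lib.Helper93.Comod.ofSub i.1, ?_, ?_, ?_⟩
    · intro i
      rw [disjoint_iff, eq_bot_iff]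
      intro x hx
      obtain ⟨hx1, hx2⟩ := hx
      have hx2' : x ∈ Groth.Agent.Lib.Helper93.Comod.ofSub (sSup (s \ {i.1})) := by
        have hle : (⨆ (j : s) (_ : j ≠ i), Groth.Agent.Lib.Helper93.Comod.ofSub j.1) ≤
            Groth.Agent.Lib.Helper93.Comod.ofSub (sSup (s \ {i.1})) := by
          apply iSup_le
          intro j
          apply iSup_le
          intro hji
          apply Groth.Agent.Lib.Helper93.Comod.ofSub_le_ofSub.mpr
          apply le_sSup
          exact ⟨j.2, fun h => hji (Subtype.ext h)⟩
        exact hle hx2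
      have hdis := hind i.2
      rw [disjoint_iff] at hdis
      have : Groth.Agent.Lib.Helper93.Comod.AsMod.equiv K C V x ∈ i.1 ⊓ sSup (s \ {i.1}) :=
        ⟨hx1, hx2'⟩
      rw [hdis, Submodule.mem_bot] at this
      rw [Submodule.mem_bot]
      exact (Groth.Agent.Lib.Helper93.Comod.AsMod.equiv K C V).injective (by rw [this, map_zero])
    · -- the sum is everything
      have hT : HopfRep.IsSubcomod (k := K) (A := C)
          (⨆ i : s, Groth.Agent.Lib.Helper93.Comod.ofSub i.1) :=
        Groth.Agent.Lib.Helper93.Comod.isSubcomod_iSup _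
          (fun i => Groth.Agent.Lib.Helper93.Comod.isSubcomod_ofSub i.1)
      have h1 : Groth.Agent.Lib.Helper93.Comod.toSub _ hT = ⊤ := by
        rw [eq_top_iff, ← hsup]
        apply sSup_le
        intro N hN
        rw [← Groth.Agent.Lib.Helper93.Comod.toSub_ofSub N]
        rw [Groth.Agent.Lib.Helper93.Comod.toSub_le_toSub]
        exact le_iSup (fun i : s => Groth.Agent.Lib.Helper93.Comod.ofSub i.1) ⟨N, hN⟩
      rw [← Groth.Agent.Lib.Helper93.Comod.ofSub_toSub _ hT, h1,
        Groth.Agent.Lib.Helper93.Comod.ofSub_top]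
    · intro i
      have hat : IsAtom i.1 := isSimpleModule_iff_isAtom.mp (hsimple i.1 i.2)
      refine ⟨Groth.Agent.Lib.Helper93.Comod.isSubcomod_ofSub i.1, ?_, ?_⟩
      · intro h
        exact hat.1 (Groth.Agent.Lib.Helper93.Comod.ofSub_eq_bot_iff.mp h)
      · intro W' hW' hle
        have hle' : Groth.Agent.Lib.Helper93.Comod.toSub W' hW' ≤ i.1 := by
          rw [← Groth.Agent.Lib.Helper93.Comod.toSub_ofSub i.1,
            Groth.Agent.Lib.Helper93.Comod.toSub_le_toSub]
          exact hle
        rcases hle'.lt_or_eq with h | h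
        · left
          have := hat.2 _ h
          rw [← Groth.Agent.Lib.Helper93.Comod.ofSub_toSub W' hW', this,
            Groth.Agent.Lib.Helper93.Comod.ofSub_bot]
        · right
          rw [← Groth.Agent.Lib.Helper93.Comod.ofSub_toSub W' hW', h]

end Groth.Agent.S19479
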