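import Groth.Statements.S19485
import Groth.Agent.Lib.Helper97.RootDisk

set_option autoImplicit false
universe u
open Crimp

namespace Groth.Agent.S19485

/-- The criterion for closedness under multiplication on which the description of the stratum rests.
Over R = k⟦t⟧ with k an algebraically closed field of characteristic zero, let S̃ = k⟦x⟧ regarded as
an R-algebra through t ↦ x ^ 3, that is S̃ = R[x] / (x ^ 3 - t). Let m, n be natural numbers with m
not divisible by 3, and let g be a power series with nonzero constant term. Then the R-submodule of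
S̃ spanned by 1 and x ^ m g together with the ideal x ^ n S̃ is closed under multiplication if and
only if n ≤ 2m. (The published proposition goes on to describe the stratum of crimps with these
invariants as irreducible of dimension ⌊(n - m)/3⌋ with a normal form for g; only the closedness
criterion is stated here.) -/
theorem result {k : Type u} [Field k] [IsAlgClosed k] [CharZero k]
    (m n : ℕ) (hm : ¬ 3 ∣ m) (x g : W4c1hurwitzcpt.RootDisk 3 k)
    (hx : W4c1hurwitzcpt.RootDisk.val x = PowerSeries.X) (hg : PowerSeries.order (W4c1hurwitzcpt.RootDisk.val g) = 0)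
    (M : Submodule (PowerSeries k) (W4c1hurwitzcpt.RootDisk 3 k))
    (hM : M = Submodule.span (PowerSeries k) {1, x ^ m * g} ⊔
      (Ideal.span {x ^ n} : Ideal (W4c1hurwitzcpt.RootDisk 3 k)).restrictScalars (PowerSeries k)) :
    (∀ a ∈ M, ∀ b ∈ M, a * b ∈ M) ↔ n ≤ 2 * m := by
  classical
  have hp3 : (3 : ℕ) ≠ 0 := by norm_num
  set u : W4c1hurwitzcpt.RootDisk 3 k := x ^ m * g with hu
  set J : Ideal (W4c1hurwitzcpt.RootDisk 3 k) := Ideal.span {x ^ n} with hJ
  have hmemM : ∀ y : W4c1hurwitzcpt.RootDisk 3 k, y ∈ M ↔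
      ∃ (r₁ r₂ : PowerSeries k) (c : W4c1hurwitzcpt.RootDisk 3 k),
        y = r₁ • (1 : W4c1hurwitzcpt.RootDisk 3 k) + r₂ • u + c * x ^ n := by
    intro y
    rw [hM, Submodule.mem_sup]
    constructor
    · rintro ⟨a, ha, b, hb, rfl⟩
      obtain ⟨r₁, r₂, rfl⟩ := Submodule.mem_span_pair.1 ha
      have hb' : b ∈ J := hb
      obtain ⟨c, rfl⟩ := Ideal.mem_span_singleton'.1 hb'
      exact ⟨r₁, r₂, c, rfl⟩
    · rintro ⟨r₁, r₂, c, rfl⟩
      refine ⟨_, Submodule.mem_span_pair.2 ⟨r₁, r₂, rfl⟩, c * x ^ n, ?_, rfl⟩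
      show c * x ^ n ∈ J
      exact Ideal.mem_span_singleton'.2 ⟨c, rfl⟩
  constructor
  · intro hmul
    by_contra hlt
    have hlt' : 2 * m < n := by omega
    have huM : u ∈ M := (hmemM u).2 ⟨0, 1, 0, by simp⟩
    obtain ⟨r₁, r₂, c, hc⟩ := (hmemM (u * u)).1 (hmul u huM u huM)
    -- pass to power series
    have hval := congrArg W4c1hurwitzcpt.RootDisk.val hc
    simp only [hu, map_add, map_mul, map_pow, map_one, mul_one,
      Groth.Agent.Lib.Helper97.RootDiskLib.val_smul, hx] at hval
    set G := W4c1hurwitzcpt.RootDisk.val g with hGdef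
    set C' := W4c1hurwitzcpt.RootDisk.val c with hC'
    have hW : (PowerSeries.X ^ m * G * (PowerSeries.X ^ m * G)).order = ((2 * m : ℕ) : ℕ∞) := by
      rw [PowerSeries.order_mul, PowerSeries.order_mul, PowerSeries.order_X_pow, hg, add_zero]
      push_cast
      ring
    have hZ : ((n : ℕ) : ℕ∞) ≤ (C' * PowerSeries.X ^ n).order := by
      rw [PowerSeries.order_mul, PowerSeries.order_X_pow]
      exact le_add_self
    have hsum : (PowerSeries.expand 3 hp3 r₁ +
        PowerSeries.expand 3 hp3 r₂ * (PowerSeries.X ^ m * G)) =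
        PowerSeries.X ^ m * G * (PowerSeries.X ^ m * G) + -(C' * PowerSeries.X ^ n) := by
      rw [hval]
      ring
    have hord : (PowerSeries.expand 3 hp3 r₁ +
        PowerSeries.expand 3 hp3 r₂ * (PowerSeries.X ^ m * G)).order = ((2 * m : ℕ) : ℕ∞) := by
      rw [hsum, PowerSeries.order_add_of_order_ne, hW, PowerSeries.order_neg]
      · apply min_eq_left
        refine le_trans ?_ hZ
        exact_mod_cast hlt'.le
      · rw [hW, PowerSeries.order_neg]
        intro h
        rw [← h] at hZ
        have : n ≤ 2 * m := by exact_mod_cast hZ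
        omega
    refine Groth.Agent.Lib.Helper97.RootDiskLib.order_expand_add_ne (p := 3) r₁ r₂ G hg m (2 * m)
      hm ?_ ?_ hord
    · intro h
      exact hm ((Nat.Coprime.dvd_mul_left (by norm_num : Nat.Coprime 3 2)).1 h)
    · intro b hb
      exact hm ⟨b, by omega⟩
  · intro hle a ha b hb
    obtain ⟨r₁, r₂, c, rfl⟩ := (hmemM a).1 ha
    obtain ⟨s₁, s₂, d, rfl⟩ := (hmemM b).1 hb
    rw [hmemM]
    obtain ⟨e, he⟩ : ∃ e, u * u = e * x ^ n := by
      refine ⟨x ^ (2 * m - n) * g * g, ?_⟩
      rw [hu]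
      have : 2 * m = (2 * m - n) + n := by omega
      calc x ^ m * g * (x ^ m * g) = x ^ (2 * m) * g * g := by ring
        _ = x ^ ((2 * m - n) + n) * g * g := by rw [← this]
        _ = x ^ (2 * m - n) * g * g * x ^ n := by ring
    refine ⟨r₁ * s₁, r₁ * s₂ + r₂ * s₁,
      (r₁ • (1 : W4c1hurwitzcpt.RootDisk 3 k) + r₂ • u) * d +
        c * (s₁ • (1 : W4c1hurwitzcpt.RootDisk 3 k) + s₂ • u + d * x ^ n) +
        (r₂ * s₂) • e, ?_⟩
    simp only [Algebra.smul_def, map_mul, map_add, mul_one]
    linear_combination (algebraMap (PowerSeries k) (W4c1hurwitzcpt.RootDisk 3 k) r₂ *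
      algebraMap (PowerSeries k) (W4c1hurwitzcpt.RootDisk 3 k) s₂) * he

end Groth.Agent.S19485
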