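import Groth.Statements.S19486
import Groth.Agent.Lib.Helper97.RootDisk

set_option autoImplicit false
universe u
open Crimp

namespace Groth.Agent.S19486

/-- The emptiness of the stratum rests on the following computation. Over R = k⟦t⟧ with k an
algebraically closed field of characteristic zero, let S̃ = S̃₁ × R where S̃₁ = k⟦x⟧ is regarded as
an R-algebra through t ↦ x ^ 2, that is S̃₁ = R[x] / (x ^ 2 - t), with R embedded diagonally in the
product. Let m be odd, n > 2m, and let g be a power series with nonzero constant term. Then the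
R-submodule of S̃ spanned by 1 = (1, 1) and (x ^ m g, 0) together with the ideal x ^ n S̃₁ × 0 is
not closed under multiplication. (The published item concludes that the corresponding stratum of
crimps is empty; only this computation is stated here, with the ideal read as x ^ n S̃₁ × 0.) -/
theorem result {k : Type u} [Field k] [IsAlgClosed k] [CharZero k]
    (m n : ℕ) (hm : Odd m) (hmn : 2 * m < n) (x g : W4c1hurwitzcpt.RootDisk 2 k)
    (hx : W4c1hurwitzcpt.RootDisk.val x = PowerSeries.X) (hg : PowerSeries.order (W4c1hurwitzcpt.RootDisk.val g) = 0)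
    (M : Submodule (PowerSeries k) (W4c1hurwitzcpt.RootDisk 2 k × PowerSeries k))
    (hM : M = Submodule.span (PowerSeries k) {(1 : W4c1hurwitzcpt.RootDisk 2 k × PowerSeries k), (x ^ m * g, 0)} ⊔
      ((Ideal.span {x ^ n} : Ideal (W4c1hurwitzcpt.RootDisk 2 k)).restrictScalars (PowerSeries k)).prod ⊥) :
    ∃ a ∈ M, ∃ b ∈ M, a * b ∉ M := by
  classical
  have hp2 : (2 : ℕ) ≠ 0 := by norm_num
  set u : W4c1hurwitzcpt.RootDisk 2 k := x ^ m * g with hu
  set J : Ideal (W4c1hurwitzcpt.RootDisk 2 k) := Ideal.span {x ^ n} with hJ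
  have hmemM : ∀ y : W4c1hurwitzcpt.RootDisk 2 k × PowerSeries k, y ∈ M ↔
      ∃ (r₁ r₂ : PowerSeries k) (c : W4c1hurwitzcpt.RootDisk 2 k),
        y = r₁ • (1 : W4c1hurwitzcpt.RootDisk 2 k × PowerSeries k) + r₂ • (u, (0 : PowerSeries k)) +
          (c * x ^ n, 0) := by
    intro y
    rw [hM, Submodule.mem_sup]
    constructor
    · rintro ⟨a, ha, b, hb, rfl⟩
      obtain ⟨r₁, r₂, rfl⟩ := Submodule.mem_span_pair.1 ha
      obtain ⟨hb1, hb2⟩ := Submodule.mem_prod.1 hb
      have hb' : b.1 ∈ J := hb1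
      obtain ⟨c, hc⟩ := Ideal.mem_span_singleton'.1 hb'
      have hb2' : b.2 = 0 := (Submodule.mem_bot _).1 hb2
      refine ⟨r₁, r₂, c, ?_⟩
      congr 1
      exact Prod.ext hc.symm hb2'
    · rintro ⟨r₁, r₂, c, rfl⟩
      refine ⟨_, Submodule.mem_span_pair.2 ⟨r₁, r₂, rfl⟩, (c * x ^ n, 0), ?_, rfl⟩
      refine Submodule.mem_prod.2 ⟨?_, ?_⟩
      · show c * x ^ n ∈ J
        exact Ideal.mem_span_singleton'.2 ⟨c, rfl⟩
      · exact (Submodule.mem_bot _).2 rfl
  have huM : (u, (0 : PowerSeries k)) ∈ M := (hmemM _).2 ⟨0, 1, 0, by simp⟩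
  refine ⟨(u, 0), huM, (u, 0), huM, ?_⟩
  intro hmem
  obtain ⟨r₁, r₂, c, hc⟩ := (hmemM _).1 hmem
  have h2 := congrArg Prod.snd hc
  simp only [Prod.mk_mul_mk, mul_zero, Prod.snd_add, Prod.smul_snd, Prod.snd_one, smul_zero,
    add_zero, smul_eq_mul, mul_one] at h2
  have hr₁ : r₁ = 0 := h2.symm
  have h1 := congrArg Prod.fst hc
  simp only [Prod.mk_mul_mk, Prod.fst_add, Prod.smul_fst, Prod.fst_one, hr₁, zero_smul,
    zero_add] at h1
  have hval := congrArg W4c1hurwitzcpt.RootDisk.val h1
  simp only [hu, map_add, map_mul, map_pow,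
    Groth.Agent.Lib.Helper97.RootDiskLib.val_smul, hx] at hval
  set G := W4c1hurwitzcpt.RootDisk.val g with hGdef
  set C' := W4c1hurwitzcpt.RootDisk.val c with hC'
  have hW : (PowerSeries.X ^ m * G * (PowerSeries.X ^ m * G)).order = ((2 * m : ℕ) : ℕ∞) := by
    rw [PowerSeries.order_mul, PowerSeries.order_mul, PowerSeries.order_X_pow, hg, add_zero]
    push_cast
    ring
  have hZ : ((n : ℕ) : ℕ∞) ≤ (C' * PowerSeries.X ^ n).order := by
    rw [PowerSeries.order_mul, PowerSeries.order_X_pow]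
    exact le_add_self
  have hsum : PowerSeries.expand 2 hp2 r₂ * (PowerSeries.X ^ m * G) =
      PowerSeries.X ^ m * G * (PowerSeries.X ^ m * G) + -(C' * PowerSeries.X ^ n) := by
    rw [hval]
    ring
  have hord : (PowerSeries.expand 2 hp2 r₂ * (PowerSeries.X ^ m * G)).order =
      ((2 * m : ℕ) : ℕ∞) := by
    rw [hsum, PowerSeries.order_add_of_order_ne, hW, PowerSeries.order_neg]
    · apply min_eq_left
      refine le_trans ?_ hZ
      exact_mod_cast hmn.le
    · rw [hW, PowerSeries.order_neg]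
      intro h
      rw [← h] at hZ
      have : n ≤ 2 * m := by exact_mod_cast hZ
      omega
  refine Groth.Agent.Lib.Helper97.RootDiskLib.order_expand_mul_ne (p := 2) r₂ G hg m (2 * m)
    ?_ hord
  intro b hb
  obtain ⟨j, hj⟩ := hm
  omega

end Groth.Agent.S19486
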