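import Groth.Statements.S19487
import Mathlib

set_option autoImplicit false
open W4c1frobunstiva

namespace Groth.Agent.S19487

section helpers

open Polynomial

/-- counting functions with prescribed sum via a generating polynomial -/
theorem card_eq_coeff {ι : Type*} [Fintype ι] [DecidableEq ι] (T : ι → Finset ℕ) (s : ℕ) :
    ((Fintype.piFinset T).filter (fun e => ∑ i, e i = s)).card =
      (∏ i, ∑ a ∈ T i, (X : ℕ[X]) ^ a).coeff s := by
  rw [Finset.prod_univ_sum, Polynomial.finsetSum_coeff, Finset.card_filter]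
  apply Finset.sum_congr rfl
  intro e _
  rw [Finset.prod_pow_eq_pow_sum, Polynomial.coeff_X_pow]
  by_cases h : ∑ i, e i = s
  · rw [if_pos h, if_pos h.symm]
  · rw [if_neg h, if_neg (fun h' => h h'.symm)]

theorem sum_shift (m : ℕ) : ∑ a ∈ Finset.Icc (m + 1) (2 * m), (X : ℕ[X]) ^ a =
    X ^ m * ∑ a ∈ Finset.Icc 1 m, (X : ℕ[X]) ^ a := by
  have h : Finset.Icc (m + 1) (2 * m) = (Finset.Icc 1 m).map (addRightEmbedding m) := by
    rw [Finset.map_add_right_Icc]
    congr 1 <;> ring
  rw [h, Finset.sum_map, Finset.mul_sum]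
  apply Finset.sum_congr rfl
  intro a _
  show (X : ℕ[X]) ^ (a + m) = X ^ m * X ^ a
  rw [pow_add, mul_comm]

theorem S_pow_coeff_zero (m E : ℕ) (hE : 0 < E) :
    ((∑ a ∈ Finset.Icc 1 m, (X : ℕ[X]) ^ a) ^ E).coeff 0 = 0 := by
  rw [Polynomial.coeff_zero_eq_eval_zero, Polynomial.eval_pow, Polynomial.eval_finsetSum]
  have : ∑ a ∈ Finset.Icc 1 m, Polynomial.eval 0 ((X : ℕ[X]) ^ a) = 0 := by
    apply Finset.sum_eq_zero
    intro a ha
    rw [Finset.mem_Icc] at ha
    rw [Polynomial.eval_pow, Polynomial.eval_X, zero_pow (by omega)]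
  rw [this, zero_pow hE.ne']

theorem coeff_formula (m D E s : ℕ) (S : ℕ[X]) (hS : 0 < E → (S ^ E).coeff 0 = 0) :
    (S ^ D * (X ^ m * S) ^ E).coeff s =
      ∑ j ∈ Finset.range (s + 1), (S ^ D).coeff j * (S ^ E).coeff (s - j - E * m) := by
  rw [mul_pow, ← pow_mul, Polynomial.coeff_mul, Finset.Nat.sum_antidiagonal_eq_sum_range_succ_mk]
  apply Finset.sum_congr rfl
  intro j hj
  congr 1
  rw [Polynomial.coeff_X_pow_mul']
  split_ifs with h
  · rw [mul_comm m E]
  · have hE : 0 < E := by
      rcases Nat.eq_zero_or_pos E with rfl | h'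
      · simp at h
      · exact h'
    have h0 : s - j - E * m = 0 := by
      rw [mul_comm] at h
      omega
    rw [h0, hS hE]

/-- from `Fin`-valued exponent vectors to natural-number-valued ones -/
theorem conv (d q : ℕ) (R : (Fin d → ℕ) → Prop) [DecidablePred R] :
    Nat.card {e : Fin d → Fin (q + 1) // (∀ i, 1 ≤ (e i : ℕ)) ∧ R (fun i => (e i : ℕ))} =
      ((Fintype.piFinset (fun _ : Fin d => Finset.Icc 1 q)).filter R).card := by
  rw [← Nat.card_eq_finsetCard]
  apply Nat.card_congr
  refine Equiv.ofBijective (fun e => ⟨fun i => ((e.1 i : Fin (q + 1)) : ℕ), ?_⟩) ⟨?_, ?_⟩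
  · rw [Finset.mem_filter, Fintype.mem_piFinset]
    exact ⟨fun i => Finset.mem_Icc.mpr ⟨e.2.1 i, Nat.lt_succ_iff.mp (e.1 i).2⟩, e.2.2⟩
  · intro e₁ e₂ h
    apply Subtype.ext
    funext i
    apply Fin.ext
    have h' := congrArg (fun f => f.1 i) h
    exact h'
  · rintro ⟨e', he'⟩
    rw [Finset.mem_filter, Fintype.mem_piFinset] at he'
    have hb : ∀ i, e' i < q + 1 := fun i =>
      Nat.lt_succ_iff.mpr (Finset.mem_Icc.mp (he'.1 i)).2
    exact ⟨⟨fun i => ⟨e' i, hb i⟩, fun i => (Finset.mem_Icc.mp (he'.1 i)).1, he'.2⟩, rfl⟩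

theorem main (m n s D : ℕ) :
    Nat.card {e : Fin n → Fin (2 * m + 1) // (∀ i, 1 ≤ (e i : ℕ)) ∧ ∑ i, (e i : ℕ) = s ∧
        (Finset.univ.filter fun i => 2 * (e i : ℕ) < 2 * m + 1).card = D} =
      n.choose D * ∑ j ∈ Finset.range (s + 1),
        Nat.card {e : Fin D → Fin (m + 1) // (∀ i, 1 ≤ (e i : ℕ)) ∧ ∑ i, (e i : ℕ) = j} *
          Nat.card {e : Fin (n - D) → Fin (m + 1) // (∀ i, 1 ≤ (e i : ℕ)) ∧
            ∑ i, (e i : ℕ) = (s - j - (n - D) * m)} := by
  classical
  have hG : ∀ d j, Nat.card {e : Fin d → Fin (m + 1) // (∀ i, 1 ≤ (e i : ℕ)) ∧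
      ∑ i, (e i : ℕ) = j} = ((∑ a ∈ Finset.Icc 1 m, (X : ℕ[X]) ^ a) ^ d).coeff j := by
    intro d j
    rw [conv d m (fun e => ∑ i, e i = j), card_eq_coeff, Finset.prod_const, Finset.card_univ,
      Fintype.card_fin]
  rw [conv n (2 * m) (fun e => ∑ i, e i = s ∧
    (Finset.univ.filter fun i => 2 * e i < 2 * m + 1).card = D)]
  rw [Finset.card_eq_sum_card_fiberwise
    (f := fun e : Fin n → ℕ => Finset.univ.filter fun i => 2 * e i < 2 * m + 1)
    (t := Finset.powersetCard D Finset.univ)]
  swap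
  · intro e he
    rw [Finset.mem_coe, Finset.mem_filter] at he
    rw [Finset.mem_coe, Finset.mem_powersetCard]
    exact ⟨Finset.subset_univ _, he.2.2⟩
  have hA : ∀ A ∈ Finset.powersetCard D (Finset.univ : Finset (Fin n)),
      (((Fintype.piFinset (fun _ : Fin n => Finset.Icc 1 (2 * m))).filter (fun e => ∑ i, e i = s ∧
        (Finset.univ.filter fun i => 2 * e i < 2 * m + 1).card = D)).filter
        (fun e => (Finset.univ.filter fun i => 2 * e i < 2 * m + 1) = A)).card =
      ∑ j ∈ Finset.range (s + 1), ((∑ a ∈ Finset.Icc 1 m, (X : ℕ[X]) ^ a) ^ D).coeff j *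
        ((∑ a ∈ Finset.Icc 1 m, (X : ℕ[X]) ^ a) ^ (n - D)).coeff (s - j - (n - D) * m) := by
    intro A hA
    rw [Finset.mem_powersetCard] at hA
    have hset : ((Fintype.piFinset (fun _ : Fin n => Finset.Icc 1 (2 * m))).filter
        (fun e => ∑ i, e i = s ∧
        (Finset.univ.filter fun i => 2 * e i < 2 * m + 1).card = D)).filter
        (fun e => (Finset.univ.filter fun i => 2 * e i < 2 * m + 1) = A) =
        (Fintype.piFinset (fun i : Fin n => if i ∈ A then Finset.Icc 1 m
          else Finset.Icc (m + 1) (2 * m))).filter (fun e => ∑ i, e i = s) := by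
      ext e
      simp only [Finset.mem_filter, Fintype.mem_piFinset]
      constructor
      · rintro ⟨⟨hr, hs, -⟩, hsm⟩
        refine ⟨fun i => ?_, hs⟩
        have hi := Finset.mem_Icc.mp (hr i)
        by_cases hiA : i ∈ A
        · rw [if_pos hiA, Finset.mem_Icc]
          rw [← hsm, Finset.mem_filter] at hiA
          omega
        · rw [if_neg hiA, Finset.mem_Icc]
          rw [← hsm, Finset.mem_filter] at hiA
          have h2 : ¬ (2 * e i < 2 * m + 1) := fun h => hiA ⟨Finset.mem_univ i, h⟩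
          omega
      · rintro ⟨hr, hs⟩
        have hsm : (Finset.univ.filter fun i => 2 * e i < 2 * m + 1) = A := by
          ext i
          rw [Finset.mem_filter]
          have hi := hr i
          by_cases hiA : i ∈ A
          · rw [if_pos hiA, Finset.mem_Icc] at hi
            exact ⟨fun _ => hiA, fun _ => ⟨Finset.mem_univ i, by omega⟩⟩
          · rw [if_neg hiA, Finset.mem_Icc] at hi
            exact ⟨fun h => absurd h.2 (by omega), fun h => absurd h hiA⟩
        refine ⟨⟨fun i => ?_, hs, by rw [hsm]; exact hA.2⟩, hsm⟩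
        have hi := hr i
        by_cases hiA : i ∈ A
        · rw [if_pos hiA, Finset.mem_Icc] at hi
          rw [Finset.mem_Icc]; omega
        · rw [if_neg hiA, Finset.mem_Icc] at hi
          rw [Finset.mem_Icc]; omega
    rw [hset, card_eq_coeff]
    have hprod : ∏ i : Fin n, ∑ a ∈ (if i ∈ A then Finset.Icc 1 m
          else Finset.Icc (m + 1) (2 * m)), (X : ℕ[X]) ^ a =
        (∑ a ∈ Finset.Icc 1 m, (X : ℕ[X]) ^ a) ^ D *
          (X ^ m * ∑ a ∈ Finset.Icc 1 m, (X : ℕ[X]) ^ a) ^ (n - D) := by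
      have h1 : ∀ i : Fin n, ∑ a ∈ (if i ∈ A then Finset.Icc 1 m
          else Finset.Icc (m + 1) (2 * m)), (X : ℕ[X]) ^ a =
          if i ∈ A then ∑ a ∈ Finset.Icc 1 m, (X : ℕ[X]) ^ a
            else X ^ m * ∑ a ∈ Finset.Icc 1 m, (X : ℕ[X]) ^ a := by
        intro i
        by_cases hiA : i ∈ A
        · rw [if_pos hiA, if_pos hiA]
        · rw [if_neg hiA, if_neg hiA, sum_shift]
      rw [Finset.prod_congr rfl (fun i _ => h1 i), Finset.prod_ite, Finset.prod_const,
        Finset.prod_const]
      have hc1 : (Finset.univ.filter fun i : Fin n => i ∈ A).card = D := by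
        rw [Finset.filter_mem_eq_inter, Finset.univ_inter]; exact hA.2
      have hc2 : (Finset.univ.filter fun i : Fin n => i ∉ A).card = n - D := by
        have := Finset.card_filter_add_card_filter_not (s := (Finset.univ : Finset (Fin n)))
          (fun i : Fin n => i ∈ A)
        rw [hc1, Finset.card_univ, Fintype.card_fin] at this
        omega
      rw [hc1, hc2]
    rw [hprod]
    exact coeff_formula m D (n - D) s _ (S_pow_coeff_zero m (n - D))
  rw [Finset.sum_congr rfl hA, Finset.sum_const, Finset.card_powersetCard, Finset.card_univ,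
    Fintype.card_fin, smul_eq_mul]
  congr 1
  apply Finset.sum_congr rfl
  intro j _
  rw [hG, hG]

end helpers


/-- The second formula. For p odd and natural numbers n, s, write N_p(n, s) for the number of monomials
of degree s in n variables in which every variable occurs with a positive exponent strictly less
than p, that is of exponent vectors (e_1, …, e_n) with sum s and 1 ≤ e_i ≤ p − 1, and N_p^D(n, s)
for the number of those in which exactly D variables occur with exponent less than p/2. Then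
N_p^D(n, s) = C(n, D) · Σ_j N_{(p+1)/2}(D, j) · N_{(p+1)/2}(n − D, s − j − (n − D)(p − 1)/2), the
sum running over 0 ≤ j ≤ s. (Natural-number subtraction is used in the last argument; when it
truncates and n > D the factor vanishes, as it should. The published setting has p an odd prime;
only p odd is used. The companion inclusion–exclusion expression for N_p(n, s) itself is a separate
statement.) -/
theorem result (p n s D : ℕ) (hp : Odd p) :
    Fintype.card {e : Fin n → Fin p // (∀ i, 1 ≤ (e i : ℕ)) ∧ ∑ i, (e i : ℕ) = s ∧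
        (Finset.univ.filter fun i => 2 * (e i : ℕ) < p).card = D} =
      n.choose D * ∑ j ∈ Finset.range (s + 1),
        Fintype.card {e : Fin D → Fin ((p + 1) / 2) // (∀ i, 1 ≤ (e i : ℕ)) ∧ ∑ i, (e i : ℕ) = j} *
          Fintype.card {e : Fin (n - D) → Fin ((p + 1) / 2) // (∀ i, 1 ≤ (e i : ℕ)) ∧ ∑ i, (e i : ℕ) = (s - j - (n - D) * ((p - 1) / 2))} := by
  obtain ⟨m, rfl⟩ := hp
  simp only [← Nat.card_eq_fintype_card]
  generalize hq : (2 * m + 1 + 1) / 2 = q
  generalize hr : (2 * m + 1 - 1) / 2 = r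
  obtain rfl : q = m + 1 := by omega
  obtain rfl : m = r := by omega
  exact main m n s D

end Groth.Agent.S19487
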