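import Groth.Statements.S19488
import Mathlib

set_option autoImplicit false
universe u
open CategoryTheory CategoryTheory.Limits AlgebraicGeometry
open W4c1frobunstiva

namespace Groth.Agent.S19488

/-- pushforward along a topological embedding is faithful -/
theorem pushforward_map_injective {S T : Scheme.{u}} (f : S ⟶ T) (hf : Topology.IsInducing f)
    {E Z : S.Modules} (h₁ h₂ : E ⟶ Z)
    (h : (Scheme.Modules.pushforward f).map h₁ = (Scheme.Modules.pushforward f).map h₂) :
    h₁ = h₂ := by
  apply Scheme.Modules.hom_ext
  intro U
  obtain ⟨V, hV, hVU⟩ := hf.isOpen_iff.1 U.2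
  let V' : T.Opens := ⟨V, hV⟩
  have hU : f ⁻¹ᵁ V' = U := TopologicalSpace.Opens.ext hVU
  subst hU
  have := congrArg (fun φ => φ.app V') h
  simpa [Scheme.Modules.pushforward_map_app] using this

/-- Fix a closed immersion of schemes f : S → T, an O_T-module G, an O_S-module E and an epimorphism ψ :
G → f_*E. Then the morphism ψ′ : f^*G → E that corresponds to ψ under the adjunction between
pullback and pushforward (it is the pullback f^*ψ followed by the counit f^*f_*E → E, an isomorphism
for a closed immersion) is an epimorphism, and the canonical map f^*(ker ψ) → ker(f^*ψ) is an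
epimorphism. (The published statement takes G and E locally free, which these two assertions do not
use.) -/
theorem result
    {S T : Scheme.{u}} (f : S ⟶ T) [IsClosedImmersion f] (G : T.Modules) (E : S.Modules)
    (ψ : G ⟶ (Scheme.Modules.pushforward f).obj E) [Epi ψ] :
    Epi (((Scheme.Modules.pullbackPushforwardAdjunction f).homEquiv G E).symm ψ) ∧
      Epi (kernelComparison ψ (Scheme.Modules.pullback f)) := by
  constructor
  · constructor
    intro Z h₁ h₂ h12
    apply pushforward_map_injective f f.isClosedEmbedding.isInducing
    have e1 := (Scheme.Modules.pullbackPushforwardAdjunction f).homEquiv_naturality_right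
      (((Scheme.Modules.pullbackPushforwardAdjunction f).homEquiv G E).symm ψ) h₁
    have e2 := (Scheme.Modules.pullbackPushforwardAdjunction f).homEquiv_naturality_right
      (((Scheme.Modules.pullbackPushforwardAdjunction f).homEquiv G E).symm ψ) h₂
    rw [Equiv.apply_symm_apply] at e1 e2
    rw [← cancel_epi ψ, ← e1, ← e2, h12]
  · let S₀ : ShortComplex T.Modules := ShortComplex.mk (kernel.ι ψ) ψ (kernel.condition ψ)
    have hS₀ : S₀.Exact := ShortComplex.exact_of_f_is_kernel _ (kernelIsKernel ψ)
    have hex : (S₀.map (Scheme.Modules.pullback f)).Exact :=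
      hS₀.map_of_epi_of_preservesCokernel (Scheme.Modules.pullback f)
        (inferInstanceAs (Epi ψ)) inferInstance
    exact hex.epi_kernelLift

end Groth.Agent.S19488
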