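import Groth.Statements.S19489
import Mathlib

set_option autoImplicit false
open scoped TensorProduct
open ZeroCyc

namespace Groth.Agent.S19489

section Law

open TensorProduct

universe u

variable (p : ℕ) [Fact p.Prime] (k : Type u) [CommRing k] [CharP k p]

theorem cast_p_eq_zero (S : Type u) [CommSemiring S] [Algebra k S] : (p : S) = 0 := by
  have h : (p : S) = algebraMap k S (p : k) := (map_natCast _ _).symm
  rw [h, CharP.cast_eq_zero, map_zero]

theorem add_pow_p (S : Type u) [CommSemiring S] [Algebra k S] (x y : S) :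
    (x + y) ^ p = x ^ p + y ^ p := by
  obtain ⟨r, hr⟩ := exists_add_pow_prime_eq (Fact.out : p.Prime) x y
  rw [hr, cast_p_eq_zero p k S]
  simp

theorem smul_twist (r : k) (a : FrobAlg.Twist p k) :
    (FrobAlg.toTwist p k).symm (r • a) = r ^ p * (FrobAlg.toTwist p k).symm a := by
  rw [Algebra.smul_def, FrobAlg.algebraMap_twist, map_mul, RingEquiv.symm_apply_apply]

/-- The additive map `s ⊗ a ↦ s ^ p ⊗ a`. -/
noncomputable def lawFun (S : Type u) [CommSemiring S] [Algebra k S] :
    S ⊗[k] FrobAlg.Twist p k →+ S ⊗[k] k :=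
  TensorProduct.liftAddHom
    { toFun := fun s =>
        { toFun := fun a => (s ^ p) ⊗ₜ[k] (FrobAlg.toTwist p k).symm a
          map_zero' := by rw [map_zero, tmul_zero]
          map_add' := fun a b => by rw [map_add, tmul_add] }
      map_zero' := by
        ext a
        change ((0 : S) ^ p) ⊗ₜ[k] (FrobAlg.toTwist p k).symm a = 0
        rw [zero_pow (Fact.out : p.Prime).ne_zero, zero_tmul]
      map_add' := fun s t => by
        ext a
        change ((s + t) ^ p) ⊗ₜ[k] (FrobAlg.toTwist p k).symm a =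
          (s ^ p) ⊗ₜ[k] (FrobAlg.toTwist p k).symm a + (t ^ p) ⊗ₜ[k] (FrobAlg.toTwist p k).symm a
        rw [add_pow_p p k S, add_tmul] }
    (fun r s a => by
      change ((r • s) ^ p) ⊗ₜ[k] (FrobAlg.toTwist p k).symm a =
        (s ^ p) ⊗ₜ[k] (FrobAlg.toTwist p k).symm (r • a)
      rw [smul_twist, smul_pow, smul_tmul, smul_eq_mul])

theorem lawFun_tmul (S : Type u) [CommSemiring S] [Algebra k S] (s : S) (a : FrobAlg.Twist p k) :
    lawFun p k S (s ⊗ₜ[k] a) = (s ^ p) ⊗ₜ[k] (FrobAlg.toTwist p k).symm a := rfl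

theorem lawFun_mul (S : Type u) [CommSemiring S] [Algebra k S] (x y : S ⊗[k] FrobAlg.Twist p k) :
    lawFun p k S (x * y) = lawFun p k S x * lawFun p k S y := by
  induction x using TensorProduct.induction_on with
  | zero => simp
  | tmul s a =>
    induction y using TensorProduct.induction_on with
    | zero => simp
    | tmul t b =>
      rw [Algebra.TensorProduct.tmul_mul_tmul, lawFun_tmul, lawFun_tmul, lawFun_tmul,
        Algebra.TensorProduct.tmul_mul_tmul, mul_pow, map_mul]
    | add y z hy hz => rw [mul_add, map_add, map_add, mul_add, hy, hz]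
  | add x z hx hz => rw [add_mul, map_add, map_add, add_mul, hx, hz]

theorem lawFun_smul (S : Type u) [CommSemiring S] [Algebra k S] (s : S)
    (x : S ⊗[k] FrobAlg.Twist p k) :
    lawFun p k S (s • x) = s ^ p • lawFun p k S x := by
  induction x using TensorProduct.induction_on with
  | zero => simp
  | tmul t a =>
    rw [smul_tmul', lawFun_tmul, lawFun_tmul, smul_tmul', smul_eq_mul, smul_eq_mul, mul_pow]
  | add x z hx hz => rw [smul_add, map_add, map_add, smul_add, hx, hz]

/-- The Frobenius law `a ↦ a ^ p` from `k^{1/p}` to `k`. -/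
noncomputable def frobLaw : FrobAlg.Twist p k →ₚₗ[k] k where
  toFun' S _ _ := lawFun p k S
  isCompat' {S} _ _ {S'} _ _ φ := by
    funext x
    simp only [Function.comp_apply]
    induction x using TensorProduct.induction_on with
    | zero => simp
    | tmul s a =>
      rw [lawFun_tmul, LinearMap.rTensor_tmul, LinearMap.rTensor_tmul, lawFun_tmul]
      simp
    | add x z hx hz => rw [map_add, map_add, map_add, map_add, hx, hz]

noncomputable def frobMulLaw : PolLaw.MulLaw k (FrobAlg.Twist p k) k p where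
  law := frobLaw p k
  homog S _ _ s x := lawFun_smul p k S s x
  mult S _ _ := by
    refine ⟨?_, fun x y => lawFun_mul p k S x y⟩
    change lawFun p k S ((1 : S) ⊗ₜ[k] (1 : FrobAlg.Twist p k)) = 1
    rw [lawFun_tmul, one_pow, map_one]
    rfl

theorem frobMulLaw_tmul (S : Type u) [CommSemiring S] [Algebra k S] (s : S)
    (a : FrobAlg.Twist p k) :
    (frobMulLaw p k).law.toFun' S (s ⊗ₜ[k] a) = (s ^ p) ⊗ₜ[k] (FrobAlg.toTwist p k).symm a := rfl

theorem ker_eq_bot_of_formula (F : PolLaw.MulLaw k (FrobAlg.Twist p k) k p)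
    (hF : ∀ (S : Type u) [CommSemiring S] [Algebra k S] (s : S) (a : FrobAlg.Twist p k),
      F.law.toFun' S (s ⊗ₜ[k] a) = (s ^ p) ⊗ₜ[k] (FrobAlg.toTwist p k).symm a) :
    PolLaw.ker F.law = ⊥ := by
  rw [eq_bot_iff]
  intro b hb
  have h1 := hb k 0 1
  rw [zero_add, one_mul, hF] at h1
  have h0 : (0 : k ⊗[k] FrobAlg.Twist p k) = (0 : k) ⊗ₜ[k] (0 : FrobAlg.Twist p k) := by
    rw [zero_tmul]
  rw [h0, hF, one_pow, map_zero, tmul_zero] at h1
  have h2 := congrArg (TensorProduct.lid k k) h1
  rw [TensorProduct.lid_tmul, map_zero, one_smul] at h2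
  rw [Ideal.mem_bot]
  exact (FrobAlg.toTwist p k).symm.injective (h2.trans (map_zero _).symm)

end Law

section NotFinite

open MvPolynomial

variable (p : ℕ) [Fact p.Prime]

theorem pderiv_pow_mul_X (j i : ℕ) (n : MvPolynomial ℕ (ZMod p)) :
    pderiv j (n ^ p * X i) = if j = i then n ^ p else 0 := by
  rw [Derivation.leibniz, Derivation.leibniz_pow, pderiv_X]
  have hp : (p : MvPolynomial ℕ (ZMod p)) = 0 := CharP.cast_eq_zero _ p
  rw [← Nat.cast_smul_eq_nsmul (MvPolynomial ℕ (ZMod p)) p, hp, zero_smul, smul_zero, add_zero]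
  by_cases h : j = i
  · subst h
    simp
  · simp [h, Ne.symm h]

end NotFinite

section NotFinite2

open MvPolynomial

variable (p : ℕ) [Fact p.Prime]

local notation "RR" => MvPolynomial ℕ (ZMod p)
local notation "kk" => FractionRing (MvPolynomial ℕ (ZMod p))

theorem sum_pow_mul_X_eq_zero (s : Finset ℕ) (n : ℕ → RR)
    (h : ∑ i ∈ s, n i ^ p * X i = 0) : ∀ j ∈ s, n j = 0 := by
  intro j hj
  have h1 := congrArg (pderiv j) h
  rw [map_sum, map_zero] at h1
  simp_rw [pderiv_pow_mul_X] at h1
  rw [Finset.sum_ite_eq s j, if_pos hj] at h1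
  exact pow_eq_zero_iff (Fact.out : p.Prime).ne_zero |>.mp h1

theorem linearIndependent_X :
    LinearIndependent kk (fun i : ℕ => (FrobAlg.toTwist p kk) (algebraMap RR kk (X i))) := by
  rw [linearIndependent_iff']
  intro s g hg j hj
  have hsm : ∀ i, g i • (FrobAlg.toTwist p kk) (algebraMap RR kk (X i)) =
      (FrobAlg.toTwist p kk) (g i ^ p * algebraMap RR kk (X i)) := by
    intro i
    rw [Algebra.smul_def, FrobAlg.algebraMap_twist, map_mul]
  simp_rw [hsm] at hg
  rw [← map_sum] at hg
  have hg' : ∑ i ∈ s, g i ^ p * algebraMap RR kk (X i) = 0 :=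
    (FrobAlg.toTwist p kk).injective (hg.trans (map_zero _).symm)
  obtain ⟨b, hb⟩ := IsLocalization.exist_integer_multiples_of_finset (nonZeroDivisors RR)
    (s.image g)
  have hb0 : algebraMap RR kk (b : RR) ≠ 0 := by
    intro h0
    have := (IsFractionRing.injective RR kk) (h0.trans (map_zero _).symm)
    exact nonZeroDivisors.coe_ne_zero b this
  have hn : ∀ i, ∃ n : RR, i ∈ s → algebraMap RR kk n = algebraMap RR kk (b : RR) * g i := by
    intro i
    by_cases hi : i ∈ s
    · obtain ⟨n, hn⟩ := hb (g i) (Finset.mem_image_of_mem g hi)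
      refine ⟨n, fun _ => ?_⟩
      rw [hn, Algebra.smul_def]
    · exact ⟨0, fun h => absurd h hi⟩
  choose n hn using hn
  have hsum : ∑ i ∈ s, n i ^ p * X i = 0 := by
    apply IsFractionRing.injective RR kk
    rw [map_sum, map_zero]
    have : ∀ i ∈ s, algebraMap RR kk (n i ^ p * X i) =
        algebraMap RR kk (b : RR) ^ p * (g i ^ p * algebraMap RR kk (X i)) := by
      intro i hi
      rw [map_mul, map_pow, hn i hi, mul_pow, mul_assoc]
    rw [Finset.sum_congr rfl this, ← Finset.mul_sum, hg', mul_zero]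
  have hnj := sum_pow_mul_X_eq_zero p s n hsum j hj
  have := hn j hj
  rw [hnj, map_zero] at this
  rcases mul_eq_zero.mp this.symm with h | h
  · exact absurd h hb0
  · exact h

theorem not_finite_twist : ¬ Module.Finite kk (FrobAlg.Twist p kk) := by
  intro hfin
  have : IsNoetherian kk (FrobAlg.Twist p kk) := IsNoetherian.iff_fg.mpr hfin
  have hfinite := (linearIndependent_X p).finite_of_isNoetherian
  exact not_finite ℕ

end NotFinite2


/-- Let p be a prime, k = F_p(t_0, t_1, …) the field of rational functions over F_p in countably many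
variables, and K = k^{1/p} = F_p(t_0^{1/p}, t_1^{1/p}, …), modelled here as a copy of k made into a
k-algebra through the Frobenius b ↦ b ^ p (under a ↦ a ^ p the extension k ⊆ k^{1/p} becomes this
algebra). Then a ↦ a ^ p is a multiplicative polynomial law from K to k over k, homogeneous of
degree p: there is such a law sending s ⊗ a to s ^ p ⊗ a ^ p on every test algebra S, where a ^ p is
read in k. Every such law has zero kernel, so the support of the corresponding family of zero-cycles
of degree p on Spec K over Spec k is all of Spec K; and K is not finite over k. Thus the support of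
a family of zero-cycles need not be finite over the base. -/
theorem result (p : ℕ) [Fact p.Prime] :
    (∃ F : PolLaw.MulLaw (FractionRing (MvPolynomial ℕ (ZMod p))) (FrobAlg.Twist p (FractionRing (MvPolynomial ℕ (ZMod p)))) (FractionRing (MvPolynomial ℕ (ZMod p))) p,
      ∀ (S : Type) [CommSemiring S] [Algebra (FractionRing (MvPolynomial ℕ (ZMod p))) S] (s : S) (a : FrobAlg.Twist p (FractionRing (MvPolynomial ℕ (ZMod p)))),
        F.law.toFun' S (s ⊗ₜ[FractionRing (MvPolynomial ℕ (ZMod p))] a) =
          (s ^ p) ⊗ₜ[FractionRing (MvPolynomial ℕ (ZMod p))] (FrobAlg.toTwist p (FractionRing (MvPolynomial ℕ (ZMod p)))).symm a) ∧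
    (∀ F : PolLaw.MulLaw (FractionRing (MvPolynomial ℕ (ZMod p))) (FrobAlg.Twist p (FractionRing (MvPolynomial ℕ (ZMod p)))) (FractionRing (MvPolynomial ℕ (ZMod p))) p,
      (∀ (S : Type) [CommSemiring S] [Algebra (FractionRing (MvPolynomial ℕ (ZMod p))) S] (s : S) (a : FrobAlg.Twist p (FractionRing (MvPolynomial ℕ (ZMod p)))),
        F.law.toFun' S (s ⊗ₜ[FractionRing (MvPolynomial ℕ (ZMod p))] a) =
          (s ^ p) ⊗ₜ[FractionRing (MvPolynomial ℕ (ZMod p))] (FrobAlg.toTwist p (FractionRing (MvPolynomial ℕ (ZMod p)))).symm a) →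
      PolLaw.ker F.law = ⊥) ∧
    ¬ Module.Finite (FractionRing (MvPolynomial ℕ (ZMod p))) (FrobAlg.Twist p (FractionRing (MvPolynomial ℕ (ZMod p)))) := by
  refine ⟨⟨frobMulLaw p _, fun S _ _ s a => frobMulLaw_tmul p _ S s a⟩, ?_, not_finite_twist p⟩
  intro F hF
  exact ker_eq_bot_of_formula p _ F hF

end Groth.Agent.S19489
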