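import Groth.Statements.S19500
import Mathlib
import Groth.Agent.Lib.Helper92.TPoints
-- import your own Groth.Agent.* helpers here

set_option autoImplicit false
universe u
open Cubic

namespace Groth.Agent.S19500

/-- Let K be an algebraically closed field of characteristic zero and S = V(F) ⊂ P^3_K a cubic surface
(F homogeneous of degree 3) which is irreducible and not a cone (no nonzero vector v has Σ_i v_i
∂F/∂x_i = 0). For a nonzero vector b with F(b) = 0 write ℓ_b = Σ_i ∂F/∂x_i(b) · x_i for the linear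
form of the tangent plane at b; call b a T-point when b is a smooth point of S (some ∂F/∂x_i(b) ≠ 0)
and F is congruent modulo ℓ_b to a product of three linear forms (the plane cubic T_b S ∩ S is
set-theoretically a union of lines). Let a be a smooth point of S which is not a T-point and H ⊂ K^4
the hyperplane ℓ_a = 0 (the tangent plane T_a S). Then T_a S contains only finitely many T-points of
S: the set of one-dimensional subspaces U ≤ H all of whose nonzero vectors are T-points is finite. -/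
theorem result (K : Type u) [Field K] [IsAlgClosed K]
    [CharZero K] (F : MvPolynomial (Fin 4) K) (hF : F.IsHomogeneous 3) (hirr : Irreducible F)
    (hcone : ¬ ∃ v : Fin 4 → K, v ≠ 0 ∧ ∑ i : Fin 4, v i • MvPolynomial.pderiv i F = 0)
    (tp : (Fin 4 → K) → Prop)
    (htp : ∀ b : Fin 4 → K, tp b ↔ (b ≠ 0 ∧ MvPolynomial.eval b F = 0 ∧
      (∃ i : Fin 4, MvPolynomial.eval b (MvPolynomial.pderiv i F) ≠ 0) ∧
      ∃ L₁ L₂ L₃ : MvPolynomial (Fin 4) K, L₁.IsHomogeneous 1 ∧ L₂.IsHomogeneous 1 ∧ L₃.IsHomogeneous 1 ∧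
        F - L₁ * L₂ * L₃ ∈ Ideal.span {∑ i : Fin 4,
          MvPolynomial.C (MvPolynomial.eval b (MvPolynomial.pderiv i F)) * MvPolynomial.X i}))
    (a : Fin 4 → K) (haF : MvPolynomial.eval a F = 0)
    (hsm : ∃ i : Fin 4, MvPolynomial.eval a (MvPolynomial.pderiv i F) ≠ 0) (ha : ¬ tp a)
    (H : Submodule K (Fin 4 → K))
    (hH : ∀ x : Fin 4 → K, x ∈ H ↔ MvPolynomial.eval x (∑ i : Fin 4,
      MvPolynomial.C (MvPolynomial.eval a (MvPolynomial.pderiv i F)) * MvPolynomial.X i) = 0) :
    Set.Finite {U : Submodule K (Fin 4 → K) | Module.finrank K ↥U = 1 ∧ U ≤ H ∧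
      ∀ b ∈ U, b ≠ 0 → tp b} := by
  have hTP : ∀ b, tp b ↔ Groth.Agent.Lib.Helper92.TPoints.IsT F b := fun b =>
    (htp b).trans (Groth.Agent.Lib.Helper92.TPoints.TP_iff_isT hF b)
  have haa : Groth.Agent.Lib.Helper95.phi F a a a = 0 := by
    rw [← Groth.Agent.Lib.Helper95.eval_eq_phi hF]; exact haF
  have hsm' := (Groth.Agent.Lib.Helper92.TPoints.smooth_iff hF a).mp hsm
  have hnT : ¬ Groth.Agent.Lib.Helper92.TPoints.IsT F a := fun h => ha ((hTP a).mpr h)
  have hmain := Groth.Agent.Lib.Helper92.TPoints.finite_T_lines hF haa hsm' hnT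
  refine hmain.subset ?_
  rintro U ⟨hU1, hUH, hUT⟩
  refine ⟨hU1, fun x hx => ?_, fun b hb hb0 => (hTP b).mp (hUT b hb hb0)⟩
  have := (hH x).mp (hUH hx)
  rw [Groth.Agent.Lib.Helper92.TPoints.eval_tangentForm hF] at this
  exact (mul_eq_zero.mp this).resolve_left (by norm_num)

end Groth.Agent.S19500
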