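import Groth.Statements.S19502
import Mathlib

set_option autoImplicit false
universe u
open W4c3ghconstell

namespace Groth.Agent.S19502

theorem tsum_split {ι : Type u} [DecidableEq ι] (f : ι → ℝ) (hf : Summable f) (D : Finset ι) :
    Summable (fun i => if i ∈ D then (0 : ℝ) else f i) ∧
      ∑' i, f i = ∑ i ∈ D, f i + ∑' i, if i ∈ D then (0 : ℝ) else f i := by
  set g : ι → ℝ := fun i => if i ∈ D then f i else 0 with hg
  have hgs : HasSum g (∑ i ∈ D, g i) := by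
    apply hasSum_sum_of_ne_finset_zero
    intro i hi
    simp [hg, hi]
  have hgD : ∑ i ∈ D, g i = ∑ i ∈ D, f i := by
    apply Finset.sum_congr rfl
    intro i hi
    simp [hg, hi]
  have hfun : (fun i => if i ∈ D then (0 : ℝ) else f i) = fun i => f i - g i := by
    funext i
    by_cases hi : i ∈ D <;> simp [hg, hi]
  rw [hfun]
  refine ⟨hf.sub hgs.summable, ?_⟩
  rw [hf.tsum_sub hgs.summable, hgs.tsum_eq, hgD]
  ring

/-- Let ι index the irreducible representations, θ : ι → ℚ a weight which is negative exactly on the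
finite set D₋, h h' : ι → ℕ with h' ≤ h pointwise (the isotypic dimensions of an object and of a
sub-object) and Σ_i θ_i h_i summable. For a finite set D of indices put S_D = Σ_{i ∉ D} θ_i h_i, d =
#(D ∖ D₋) and θ̃_D = Σ_{i ∈ D} θ_i h'_i + (S_D / d) · Σ_{i ∈ D ∖ D₋} h'_i / h_i, the modified weight
attached to the parameters chosen for D (a quotient by zero is read as zero). Then for finite sets
D₋ ⊆ D ⊆ D̃ contained in the locus θ ≠ 0: (first error term) θ̃_{D̃} − θ̃_D = Σ_{τ ∈ D̃ ∖ D} (θ_τ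
h_τ + S_{D̃}/d̃) · (h'_τ/h_τ − (1/d) Σ_{σ ∈ D ∖ D₋} h'_σ/h_σ); (second error term) Σ_i θ_i h'_i −
θ̃_D = Σ_{τ ∉ D} θ_τ h_τ · (h'_τ/h_τ − (1/d) Σ_{σ ∈ D ∖ D₋} h'_σ/h_σ). -/
theorem result {ι : Type u} [DecidableEq ι]
    (θ : ι → ℚ) (h h' : ι → ℕ) (hle : ∀ i, h' i ≤ h i) (hfin : {i | θ i < 0}.Finite)
    (hsum : Summable (fun i => (θ i : ℝ) * (h i : ℝ))) (D D' : Finset ι)
    (hDm : hfin.toFinset ⊆ D) (hDD' : D ⊆ D') (hsupp : ∀ i ∈ D', θ i ≠ 0) :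
    (((∑ i ∈ D', (θ i : ℝ) * (h' i : ℝ)) + ((∑' i, if i ∈ D' then (0 : ℝ) else (θ i : ℝ) * (h i : ℝ)) / ((D' \ hfin.toFinset).card : ℝ)) * (∑ σ ∈ D' \ hfin.toFinset, ((h' σ : ℝ) / (h σ : ℝ)))) - ((∑ i ∈ D, (θ i : ℝ) * (h' i : ℝ)) + ((∑' i, if i ∈ D then (0 : ℝ) else (θ i : ℝ) * (h i : ℝ)) / ((D \ hfin.toFinset).card : ℝ)) * (∑ σ ∈ D \ hfin.toFinset, ((h' σ : ℝ) / (h σ : ℝ)))) =
      ∑ τ ∈ D' \ D, ((θ τ : ℝ) * (h τ : ℝ) + (∑' i, if i ∈ D' then (0 : ℝ) else (θ i : ℝ) * (h i : ℝ)) / ((D' \ hfin.toFinset).card : ℝ)) *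
        (((h' τ : ℝ) / (h τ : ℝ)) - (1 / ((D \ hfin.toFinset).card : ℝ)) * (∑ σ ∈ D \ hfin.toFinset, ((h' σ : ℝ) / (h σ : ℝ))))) ∧
    ((∑' i, (θ i : ℝ) * (h' i : ℝ)) - ((∑ i ∈ D, (θ i : ℝ) * (h' i : ℝ)) + ((∑' i, if i ∈ D then (0 : ℝ) else (θ i : ℝ) * (h i : ℝ)) / ((D \ hfin.toFinset).card : ℝ)) * (∑ σ ∈ D \ hfin.toFinset, ((h' σ : ℝ) / (h σ : ℝ)))) =
      ∑' τ, if τ ∈ D then (0 : ℝ) else (θ τ : ℝ) * (h τ : ℝ) *
        (((h' τ : ℝ) / (h τ : ℝ)) - (1 / ((D \ hfin.toFinset).card : ℝ)) * (∑ σ ∈ D \ hfin.toFinset, ((h' σ : ℝ) / (h σ : ℝ))))) := by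
  classical
  set Dm := hfin.toFinset with hDm_def
  set f : ι → ℝ := fun i => (θ i : ℝ) * (h i : ℝ) with hf
  set f' : ι → ℝ := fun i => (θ i : ℝ) * (h' i : ℝ) with hf'
  set r : ι → ℝ := fun σ => (h' σ : ℝ) / (h σ : ℝ) with hr
  have hfr : ∀ i, f i * r i = f' i := by
    intro i
    simp only [hf, hf', hr]
    by_cases hi : h i = 0
    · have h0 : h' i = 0 := Nat.le_zero.1 (hi ▸ hle i)
      simp [hi, h0]
    · have hne : (h i : ℝ) ≠ 0 := by exact_mod_cast hi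
      field_simp
  have hsumf : Summable f := hsum
  have hsum' : Summable f' := by
    refine Summable.of_norm_bounded (g := fun i => |f i|) hsumf.abs ?_
    intro i
    simp only [hf, hf', Real.norm_eq_abs, abs_mul]
    apply mul_le_mul_of_nonneg_left _ (abs_nonneg _)
    rw [abs_of_nonneg (Nat.cast_nonneg _), abs_of_nonneg (Nat.cast_nonneg _)]
    exact_mod_cast hle i
  obtain ⟨hsD, hD⟩ := tsum_split f hsumf D
  obtain ⟨hsD', hD'⟩ := tsum_split f hsumf D'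
  obtain ⟨hsD1, hD1⟩ := tsum_split f' hsum' D
  have hsdf : ∑ i ∈ D', f i = ∑ i ∈ D' \ D, f i + ∑ i ∈ D, f i := (Finset.sum_sdiff hDD').symm
  have hsdf' : ∑ i ∈ D', f' i = ∑ i ∈ D' \ D, f' i + ∑ i ∈ D, f' i := (Finset.sum_sdiff hDD').symm
  have hPP : D' \ Dm = (D \ Dm) ∪ (D' \ D) := by
    ext i
    simp only [Finset.mem_sdiff, Finset.mem_union]
    constructor
    · rintro ⟨h1, h2⟩
      by_cases hi : i ∈ D
      · exact Or.inl ⟨hi, h2⟩
      · exact Or.inr ⟨h1, hi⟩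
    · rintro (⟨h1, h2⟩ | ⟨h1, h2⟩)
      · exact ⟨hDD' h1, h2⟩
      · exact ⟨h1, fun h3 => h2 (hDm h3)⟩
  have hdisj : Disjoint (D \ Dm) (D' \ D) := by
    rw [Finset.disjoint_left]
    intro i h1 h2
    exact (Finset.mem_sdiff.1 h2).2 (Finset.mem_sdiff.1 h1).1
  have hA : ∑ σ ∈ D' \ Dm, r σ = ∑ σ ∈ D \ Dm, r σ + ∑ σ ∈ D' \ D, r σ := by
    rw [hPP, Finset.sum_union hdisj]
  have hcard : ((D' \ Dm).card : ℝ) = ((D \ Dm).card : ℝ) + ((D' \ D).card : ℝ) := by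
    rw [hPP, Finset.card_union_of_disjoint hdisj]
    push_cast
    ring
  set S := ∑' i, if i ∈ D then (0 : ℝ) else f i with hS
  set S' := ∑' i, if i ∈ D' then (0 : ℝ) else f i with hS'
  set S1 := ∑' i, if i ∈ D then (0 : ℝ) else f' i with hS1
  change (∑ i ∈ D', f' i + S' / ((D' \ Dm).card : ℝ) * ∑ σ ∈ D' \ Dm, r σ) -
      (∑ i ∈ D, f' i + S / ((D \ Dm).card : ℝ) * ∑ σ ∈ D \ Dm, r σ) =
      ∑ τ ∈ D' \ D, (f τ + S' / ((D' \ Dm).card : ℝ)) *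
        (r τ - 1 / ((D \ Dm).card : ℝ) * ∑ σ ∈ D \ Dm, r σ) ∧
    (∑' i, f' i) - (∑ i ∈ D, f' i + S / ((D \ Dm).card : ℝ) * ∑ σ ∈ D \ Dm, r σ) =
      ∑' τ, if τ ∈ D then (0 : ℝ) else f τ *
        (r τ - 1 / ((D \ Dm).card : ℝ) * ∑ σ ∈ D \ Dm, r σ)
  have hA0 : ((D \ Dm).card : ℝ) = 0 → ∑ σ ∈ D \ Dm, r σ = 0 := by
    intro h0
    have h1 : (D \ Dm).card = 0 := by exact_mod_cast h0
    rw [Finset.card_eq_zero.1 h1, Finset.sum_empty]
  have he : (0 : ℝ) ≤ ((D' \ D).card : ℝ) := Nat.cast_nonneg _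
  have hdnn : (0 : ℝ) ≤ ((D \ Dm).card : ℝ) := Nat.cast_nonneg _
  generalize ∑ σ ∈ D \ Dm, r σ = A at *
  generalize ((D \ Dm).card : ℝ) = d at *
  generalize ((D' \ Dm).card : ℝ) = d' at *
  have hSS : S = S' + ∑ i ∈ D' \ D, f i := by linarith [hD, hD', hsdf]
  have hrhs1 : ∑ τ ∈ D' \ D, (f τ + S' / d') * (r τ - 1 / d * A) =
      ∑ i ∈ D' \ D, f' i - (1 / d * A) * ∑ i ∈ D' \ D, f i + (S' / d') * ∑ σ ∈ D' \ D, r σ -
        (D' \ D).card * ((S' / d') * (1 / d * A)) := by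
    have hpt : ∀ τ, (f τ + S' / d') * (r τ - 1 / d * A) =
        f' τ - (1 / d * A) * f τ + (S' / d') * r τ - (S' / d') * (1 / d * A) := by
      intro τ
      have := hfr τ
      linear_combination this
    simp only [hpt]
    rw [Finset.sum_sub_distrib, Finset.sum_add_distrib, Finset.sum_sub_distrib, ← Finset.mul_sum,
      ← Finset.mul_sum, Finset.sum_const, nsmul_eq_mul]
  constructor
  · rw [hrhs1, hsdf', hA, hSS]
    generalize ((D' \ D).card : ℝ) = e at *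
    generalize ∑ i ∈ D' \ D, f i = T at *
    generalize ∑ i ∈ D' \ D, f' i = T' at *
    generalize ∑ σ ∈ D' \ D, r σ = R at *
    generalize ∑ i ∈ D, f' i = Q at *
    subst hcard
    by_cases hd0 : d = 0
    · rw [hA0 hd0]
      ring
    · have hd'0 : d + e ≠ 0 := by
        have : 0 < d := lt_of_le_of_ne hdnn (Ne.symm hd0)
        linarith
      field_simp
      ring
  · have hfun : (fun τ => if τ ∈ D then (0 : ℝ) else f τ * (r τ - 1 / d * A)) =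
        fun τ => (if τ ∈ D then (0 : ℝ) else f' τ) - (1 / d * A) * (if τ ∈ D then (0 : ℝ) else f τ) := by
      funext τ
      by_cases hτ : τ ∈ D
      · simp [hτ]
      · simp only [hτ, if_false]
        have := hfr τ
        linear_combination this
    rw [hfun, Summable.tsum_sub hsD1 (hsD.mul_left _), tsum_mul_left, hD1]
    ring

end Groth.Agent.S19502
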