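import Groth.Statements.S19506
-- import your own Groth.Agent.* helpers here
import Mathlib
import Groth.Agent.S9443
import Groth.Agent.S12327
import Groth.Agent.S12722
import Groth.Agent.Lib.Helper58.T1LiftPS
import Groth.Agent.Lib.Helper65.ArtBasic

set_option autoImplicit false
universe u
open CAlg

namespace Groth.Agent.S19506

open ArtFun ArtFun.Art IsLocalRing MvPowerSeries Groth.Agent.Lib.Helper58 Groth.Agent.Lib.Helper65

section Aux

variable {k : Type u} [Field k]

/-- power series rings lift along nilpotent surjections of Artinian local algebras -/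
theorem lift_ps_quot {d : ℕ} (R : Type u) [CommRing R] [Algebra k R] [IsArtinianRing R] [IsLocalRing R]
    (J : Ideal R) (f : MvPowerSeries (Fin d) k →ₐ[k] R ⧸ J)
    (hf : IsLocalHom (f : MvPowerSeries (Fin d) k →+* R ⧸ J)) :
    ∃ g : MvPowerSeries (Fin d) k →ₐ[k] R, (Ideal.Quotient.mkₐ k J).comp g = f := by
  classical
  obtain ⟨N, hN⟩ := (isArtinianRing_iff_isNilpotent_maximalIdeal R).1 inferInstance
  choose r hr using fun i => Ideal.Quotient.mk_surjective (f (X i))
  have hrm : ∀ i, r i ∈ maximalIdeal R := by
    intro i
    rw [IsLocalRing.mem_maximalIdeal, mem_nonunits_iff]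
    intro hu
    have h1 : IsUnit (f (X i)) := by
      rw [← hr i]
      exact hu.map (Ideal.Quotient.mk J)
    have h2 : IsUnit (X i : MvPowerSeries (Fin d) k) := hf.map_nonunit _ h1
    rw [MvPowerSeries.isUnit_iff_constantCoeff, constantCoeff_X] at h2
    exact not_isUnit_zero h2
  have hrN : ∀ i, r i ^ N = 0 := by
    intro i
    have h1 := Ideal.pow_mem_pow (hrm i) N
    rw [hN] at h1
    exact h1
  let g : MvPowerSeries (Fin d) k →ₐ[k] R := Groth.Agent.Lib.Helper21.PSAdic.evalNilp r N hrN
  have hgX : ∀ i, g (X i) = r i := Groth.Agent.Lib.Helper21.PSAdic.evalNilp_X r N hrN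
  let I : Ideal (R ⧸ J) := Ideal.map (Ideal.Quotient.mk J) (maximalIdeal R)
  have hI : I ^ N = ⊥ := by
    change Ideal.map (Ideal.Quotient.mk J) (maximalIdeal R) ^ N = ⊥
    rw [← Ideal.map_pow, hN]
    exact Ideal.map_bot
  have : IsHausdorff I (R ⧸ J) := T1LD.isHausdorff_of_pow_eq_bot I N hI
  refine ⟨g, ?_⟩
  apply Groth.Agent.Lib.Helper58.PSComplete.algHom_ext_of_X I
  · intro i
    change Ideal.Quotient.mk J (g (X i)) ∈ I
    rw [hgX]
    exact Ideal.mem_map_of_mem _ (hrm i)
  · intro i
    change Ideal.Quotient.mk J (g (X i)) = f (X i)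
    rw [hgX, hr]

end Aux

/-- (i) ⇔ (iii): let k be a field and A a complete local Noetherian k-algebra with residue field k (a
k-algebra map π : A → k with kernel the maximal ideal; A complete for the adic topology of its
maximal ideal). Then A is regular if and only if A satisfies the infinitesimal lifting criterion:
for every Artinian local k-algebra R and every ideal J of R of square zero, every local k-algebra
homomorphism A → R/J (one carrying non-units to non-units) lifts to a k-algebra homomorphism A → R.
(The test algebras R range over one universe, that of A. The published criterion is worded for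
arbitrary k-algebra homomorphisms A → R/J; it is stated here for local ones, the case the argument
establishes and the form in which the text itself restates the criterion afterwards. The published
statement lists a third equivalent condition, A ≅ k[[x_1, …, x_d]].) -/
theorem result (k A : Type u) [Field k]
    [CommRing A] [Algebra k A] [IsLocalRing A] [IsNoetherianRing A]
    [IsAdicComplete (IsLocalRing.maximalIdeal A) A]
    (π : A →ₐ[k] k) (hπ : RingHom.ker π = IsLocalRing.maximalIdeal A) :
    IsRegularLocalRing A ↔
      ∀ (R : Type u) [CommRing R] [Algebra k R] [IsArtinianRing R] [IsLocalRing R] (J : Ideal R),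
        J ^ 2 = ⊥ → ∀ f : A →ₐ[k] R ⧸ J, IsLocalHom (f : A →+* R ⧸ J) →
          ∃ g : A →ₐ[k] R, (Ideal.Quotient.mkₐ k J).comp g = f := by
  classical
  have hπc : ∀ c : k, π (algebraMap k A c) = c := fun c => by
    rw [AlgHom.commutes]; rfl
  let R₀ : ArtFun.CRing k k :=
    { carrier := A
      res := π
      res_surjective := fun c => ⟨algebraMap k A c, hπc c⟩
      isAdicComplete := inferInstance }
  have hmem : ∀ a : A, a ∈ maximalIdeal A ↔ π a = 0 := by
    intro a
    rw [← hπ, RingHom.mem_ker]
  constructor
  · intro hreg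
    have hk : Function.Bijective (algebraMap k (IsLocalRing.ResidueField A)) := by
      constructor
      · exact (algebraMap k (IsLocalRing.ResidueField A)).injective
      · intro x
        obtain ⟨a, rfl⟩ := IsLocalRing.residue_surjective x
        refine ⟨π a, ?_⟩
        rw [IsScalarTower.algebraMap_apply k A (IsLocalRing.ResidueField A)]
        change IsLocalRing.residue A (algebraMap k A (π a)) = IsLocalRing.residue A a
        rw [← sub_eq_zero, ← map_sub, IsLocalRing.residue_eq_zero_iff, hmem, map_sub, hπc, sub_self]
    obtain ⟨d, ⟨e⟩⟩ := Groth.Agent.S9443.result A k hk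
    intro R _ _ _ _ J _ f hf
    have hf' : IsLocalHom ((f.comp e.symm.toAlgHom : MvPowerSeries (Fin d) k →ₐ[k] R ⧸ J) :
        MvPowerSeries (Fin d) k →+* R ⧸ J) := by
      constructor
      intro s hs
      have h1 : IsUnit (e.symm s) := hf.map_nonunit _ hs
      have h2 := h1.map e
      rwa [AlgEquiv.apply_symm_apply] at h2
    obtain ⟨g', hg'⟩ := lift_ps_quot R J (f.comp e.symm.toAlgHom) hf'
    refine ⟨g'.comp e.toAlgHom, ?_⟩
    apply AlgHom.ext
    intro a
    have h1 := congrArg (fun t : MvPowerSeries (Fin d) k →ₐ[k] R ⧸ J => t (e a)) hg'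
    change Ideal.Quotient.mk J (g' (e a)) = f (e.symm (e a)) at h1
    rw [AlgEquiv.symm_apply_apply] at h1
    exact h1
  · intro hlift
    -- smoothness of `h_A`
    have hsm : ArtFun.IsSmoothFunctor (ArtFun.hR R₀.carrier R₀.res) := by
      intro B A' μ hμ
      have key := art_surjective_induction (Λ := k) (k := k)
        (fun A' B μ => Function.Surjective
          (fun ψ : ArtFun.HomSet R₀.carrier R₀.res B => ArtFun.HomSet.map μ ψ)) ?_ ?_ ?_ μ hμ
      · exact key
      · intro A' B e _ φ
        refine ⟨ArtFun.HomSet.map (CategoryTheory.inv e) φ, ?_⟩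
        apply Subtype.ext
        apply AlgHom.ext
        intro a
        change e ((CategoryTheory.inv e) (φ.1 a)) = φ.1 a
        have h1 : CategoryTheory.CategoryStruct.comp (CategoryTheory.inv e) e = CategoryTheory.CategoryStruct.id _ :=
          CategoryTheory.IsIso.inv_hom_id e
        exact congrArg (fun t : A' ⟶ A' => t (φ.1 a)) h1
      · intro A' B p hp φ
        let Jp : Ideal B.carrier := RingHom.ker p.toAlgHom
        have hJle : Jp ≤ maximalIdeal B.carrier := art_ker_le_maximalIdeal p
        have hJ2 : Jp ^ 2 = ⊥ := by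
          rw [eq_bot_iff, pow_two, ← hp.2.2.2]
          exact Ideal.mul_mono_left hJle
        let eq : (B.carrier ⧸ Jp) ≃ₐ[k] A'.carrier :=
          Ideal.quotientKerAlgEquivOfSurjective (f := p.toAlgHom) hp.1
        have heq : ∀ b : B.carrier, eq (Ideal.Quotient.mk Jp b) = p b := fun b => rfl
        let f : A →ₐ[k] B.carrier ⧸ Jp := eq.symm.toAlgHom.comp φ.1
        have hfloc : IsLocalHom (f : A →+* B.carrier ⧸ Jp) := by
          constructor
          intro a ha
          have h1 : IsUnit (eq (f a)) := ha.map eq
          have h2 : eq (f a) = φ.1 a := eq.apply_symm_apply _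
          rw [h2] at h1
          by_contra hna
          have h3 : a ∈ maximalIdeal A := (IsLocalRing.mem_maximalIdeal _).2 hna
          rw [hmem] at h3
          have h4 : A'.res (φ.1 a) = π a := congrArg (fun t : A →ₐ[k] k => t a) φ.2
          rw [h3] at h4
          have h5 : φ.1 a ∈ maximalIdeal A'.carrier := (Art.mem_maximalIdeal_iff A' _).2 h4
          exact (IsLocalRing.mem_maximalIdeal _).1 h5 h1
        obtain ⟨g, hg⟩ := hlift B.carrier Jp hJ2 f hfloc
        have hgres : B.res.comp g = R₀.res := T1LC.res_unique R₀ _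
        refine ⟨⟨g, hgres⟩, ?_⟩
        apply Subtype.ext
        apply AlgHom.ext
        intro a
        change p (g a) = φ.1 a
        have h1 : Ideal.Quotient.mk Jp (g a) = f a :=
          congrArg (fun t : A →ₐ[k] B.carrier ⧸ Jp => t a) hg
        rw [← heq, h1]
        exact eq.apply_symm_apply _
      · intro A' B C p q hp hq φ
        obtain ⟨ψ₁, hψ₁⟩ := hq φ
        obtain ⟨ψ₂, hψ₂⟩ := hp ψ₁
        refine ⟨ψ₂, ?_⟩
        change ArtFun.HomSet.map (CategoryTheory.CategoryStruct.comp p q) ψ₂ = φ
        rw [← hψ₁, ← hψ₂]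
        exact Subtype.ext (AlgHom.ext fun _ => rfl)
    have : IsAdicComplete (IsLocalRing.maximalIdeal k) k := by
      rw [IsLocalRing.maximalIdeal_eq_bot]
      infer_instance
    have hk : Function.Surjective (algebraMap k k) := fun c => ⟨c, rfl⟩
    obtain ⟨d, ⟨e⟩⟩ := (Groth.Agent.S12722.result hk R₀).1 hsm
    have := Groth.Agent.S12327.isRegularLocalRing_mvPowerSeries (k := k) d
    exact IsRegularLocalRing.of_ringEquiv (e.symm.toRingEquiv :
      MvPowerSeries (Fin d) k ≃+* A)

end Groth.Agent.S19506
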