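import Groth.Statements.S19511
import Mathlib

set_option autoImplicit false
universe u
open Variety

namespace Groth.Agent.S19511

open AlgebraicGeometry CategoryTheory

theorem surjective_of_forall_isIso_app {X Y : Scheme.{u}} (f : X ⟶ Y) [UniversallyClosed f]
    (hfib : ∀ V : Y.Opens, IsIso (f.app V)) : Surjective f := by
  rw [surjective_iff]
  by_contra hns
  have hcl : IsClosed (Set.range f) := f.isClosedMap.isClosed_range
  let V : Y.Opens := ⟨(Set.range f)ᶜ, hcl.isOpen_compl⟩
  have hV : Nonempty V := by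
    rw [Function.Surjective] at hns
    push Not at hns
    obtain ⟨y, hy⟩ := hns
    exact ⟨⟨y, fun ⟨x, hx⟩ => hy x hx⟩⟩
  have hpre : f ⁻¹ᵁ V = ⊥ := by
    ext x
    simp only [TopologicalSpace.Opens.coe_bot, Set.mem_empty_iff_false, iff_false]
    intro hx
    exact hx ⟨x, rfl⟩
  have h1 := hfib V
  have h2 : Nontrivial Γ(Y, V) := inferInstance
  have h3 : Subsingleton Γ(X, f ⁻¹ᵁ V) := by rw [hpre]; infer_instance
  have e : Γ(Y, V) ≃+* Γ(X, f ⁻¹ᵁ V) := (asIso (f.app V)).commRingCatIsoToRingEquiv
  have : Subsingleton Γ(Y, V) := e.toEquiv.subsingleton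
  exact not_subsingleton _ this

/-- Let k be a field and f : X → Y a k-morphism between proper k-schemes which is a fibration, i.e. O_Y
→ f_*O_X is an isomorphism (Γ(V, O_Y) → Γ(f⁻¹V, O_X) bijective for every open V ⊆ Y). Then f is
surjective. (The connectedness of the fibres asserted in (i) is quoted from the literature and not
stated.) -/
theorem result (k : Type u) [Field k] (X Y : Scheme.{u})
    [X.Over (Spec (CommRingCat.of k))] [Y.Over (Spec (CommRingCat.of k))] [IsProper (X ↘ Spec (CommRingCat.of k))] [IsProper (Y ↘ Spec (CommRingCat.of k))]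
    (f : X ⟶ Y) (hf : f ≫ (Y ↘ Spec (CommRingCat.of k)) = X ↘ Spec (CommRingCat.of k)) (hfib : ∀ V : Y.Opens, IsIso (f.app V)) :
    Surjective f := by
  have h1 : IsProper (f ≫ (Y ↘ Spec (CommRingCat.of k))) := by rw [hf]; infer_instance
  have h2 : IsProper f := IsProper.of_comp f (Y ↘ Spec (CommRingCat.of k))
  exact surjective_of_forall_isIso_app f hfib

end Groth.Agent.S19511
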