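import Groth.Statements.S19514
import Mathlib
import Groth.Agent.Lib.Helper50.FibBC
import Groth.Agent.S19512

set_option autoImplicit false
universe u
open CategoryTheory CategoryTheory.Limits AlgebraicGeometry
open Variety

namespace Groth.Agent.S19514

/-- Let k be a field and f : X → Y a k-morphism between proper k-schemes which is a fibration, i.e. O_Y
→ f_*O_X is an isomorphism (Γ(V, O_Y) → Γ(f⁻¹V, O_X) bijective for every open V ⊆ Y). If X is
geometrically integral over k, then so is Y. (The assertion of (iii) for geometric normality is not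
stated here.) -/
theorem result (k : Type u) [Field k] (X Y : Scheme.{u})
    [X.Over (Spec (CommRingCat.of k))] [Y.Over (Spec (CommRingCat.of k))] [IsProper (X ↘ Spec (CommRingCat.of k))] [IsProper (Y ↘ Spec (CommRingCat.of k))]
    (f : X ⟶ Y) (hf : f ≫ (Y ↘ Spec (CommRingCat.of k)) = X ↘ Spec (CommRingCat.of k)) (hfib : ∀ V : Y.Opens, IsIso (f.app V))
    [GeometricallyIntegral (X ↘ Spec (CommRingCat.of k))] : GeometricallyIntegral (Y ↘ Spec (CommRingCat.of k)) := by
    haveI : IsProper (f ≫ (Y ↘ Spec (CommRingCat.of k))) := by rw [hf]; infer_instance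
    haveI : IsProper f := IsProper.of_comp f (Y ↘ Spec (CommRingCat.of k))
    refine ⟨fun K _ y Z fst snd hZ => ?_⟩
    haveI : Flat y := by
      rw [← Spec.map_preimage y, HasRingHomProperty.Spec_iff (P := @Flat)]
      letI := (Spec.preimage y).hom.toAlgebra
      change Module.Flat k K
      infer_instance
    obtain ⟨fK, h2, h1, hfibK⟩ := Groth.Agent.Lib.Helper50.exists_fibration_baseChange
      (X ↘ Spec (CommRingCat.of k)) (Y ↘ Spec (CommRingCat.of k)) f hf y hfib fst snd hZ
    letI : (pullback (X ↘ Spec (CommRingCat.of k)) y).Over (Spec (CommRingCat.of K)) :=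
      ⟨pullback.snd _ _⟩
    letI : Z.Over (Spec (CommRingCat.of K)) := ⟨snd⟩
    haveI : IsProper ((pullback (X ↘ Spec (CommRingCat.of k)) y) ↘ Spec (CommRingCat.of K)) :=
      inferInstanceAs (IsProper (pullback.snd (X ↘ Spec (CommRingCat.of k)) y))
    haveI : IsProper (Z ↘ Spec (CommRingCat.of K)) :=
      MorphismProperty.of_isPullback (P := @IsProper) hZ inferInstance
    haveI : IsIntegral (pullback (X ↘ Spec (CommRingCat.of k)) y) :=
      GeometricallyIntegral.geometrically_isIntegral y (pullback.fst _ _) (pullback.snd _ _)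
        (IsPullback.of_hasPullback _ _)
    exact Groth.Agent.S19512.result K (pullback (X ↘ Spec (CommRingCat.of k)) y) Z fK h2 hfibK

end Groth.Agent.S19514
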