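import Groth.Statements.S19515
import Mathlib
import Groth.Agent.Lib.Helper50.FibBC
import Groth.Agent.S19513

set_option autoImplicit false
universe u
open CategoryTheory CategoryTheory.Limits AlgebraicGeometry
open Variety

namespace Groth.Agent.S19515

/-- Let k be a field and f : X → Y a k-morphism between proper k-schemes which is a fibration, i.e. O_Y
→ f_*O_X is an isomorphism (Γ(V, O_Y) → Γ(f⁻¹V, O_X) bijective for every open V ⊆ Y). If X is
geometrically normal, i.e. its base change to every algebraic closure of k has all local rings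
integrally closed domains, then Y is geometrically normal in the same sense. -/
theorem result (k : Type u) [Field k] (X Y : Scheme.{u})
    [X.Over (Spec (CommRingCat.of k))] [Y.Over (Spec (CommRingCat.of k))] [IsProper (X ↘ Spec (CommRingCat.of k))] [IsProper (Y ↘ Spec (CommRingCat.of k))]
    (f : X ⟶ Y) (hf : f ≫ (Y ↘ Spec (CommRingCat.of k)) = X ↘ Spec (CommRingCat.of k)) (hfib : ∀ V : Y.Opens, IsIso (f.app V))
    (hX : ∀ (K : Type u) [Field K] [Algebra k K] [IsAlgClosure k K],
      Pi1.IsNormalScheme (pullback (X ↘ Spec (CommRingCat.of k)) (Spec.map (CommRingCat.ofHom (algebraMap k K)))))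
    (K : Type u) [Field K] [Algebra k K] [IsAlgClosure k K] :
    Pi1.IsNormalScheme (pullback (Y ↘ Spec (CommRingCat.of k)) (Spec.map (CommRingCat.ofHom (algebraMap k K)))) := by
    haveI : IsProper (f ≫ (Y ↘ Spec (CommRingCat.of k))) := by rw [hf]; infer_instance
    haveI : IsProper f := IsProper.of_comp f (Y ↘ Spec (CommRingCat.of k))
    set y : Spec (CommRingCat.of K) ⟶ Spec (CommRingCat.of k) :=
      Spec.map (CommRingCat.ofHom (algebraMap k K)) with hy
    haveI : Flat y := by
      rw [hy, HasRingHomProperty.Spec_iff (P := @Flat)]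
      change (algebraMap k K).Flat
      rw [RingHom.flat_algebraMap_iff]
      infer_instance
    obtain ⟨fK, h2, h1, hfibK⟩ := Groth.Agent.Lib.Helper50.exists_fibration_baseChange
      (X ↘ Spec (CommRingCat.of k)) (Y ↘ Spec (CommRingCat.of k)) f hf y hfib
      (pullback.fst (Y ↘ Spec (CommRingCat.of k)) y) (pullback.snd (Y ↘ Spec (CommRingCat.of k)) y)
      (IsPullback.of_hasPullback _ _)
    letI : (pullback (X ↘ Spec (CommRingCat.of k)) y).Over (Spec (CommRingCat.of K)) :=
      ⟨pullback.snd _ _⟩
    letI : (pullback (Y ↘ Spec (CommRingCat.of k)) y).Over (Spec (CommRingCat.of K)) :=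
      ⟨pullback.snd _ _⟩
    haveI : IsProper ((pullback (X ↘ Spec (CommRingCat.of k)) y) ↘ Spec (CommRingCat.of K)) :=
      inferInstanceAs (IsProper (pullback.snd (X ↘ Spec (CommRingCat.of k)) y))
    haveI : IsProper ((pullback (Y ↘ Spec (CommRingCat.of k)) y) ↘ Spec (CommRingCat.of K)) :=
      inferInstanceAs (IsProper (pullback.snd (Y ↘ Spec (CommRingCat.of k)) y))
    exact Groth.Agent.S19513.result K (pullback (X ↘ Spec (CommRingCat.of k)) y)
      (pullback (Y ↘ Spec (CommRingCat.of k)) y) fK h2 hfibK (hX K)

end Groth.Agent.S19515
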