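import Groth.Statements.S19519
import Groth.Agent.Lib.Helper41.OrbitDim
import Groth.Agent.Lib.Helper41.ClosedOrbit

set_option autoImplicit false
universe u
open CategoryTheory MonoidalCategory CartesianMonoidalCategory MonObj GrpObj AlgebraicGeometry
open AlgGrp

namespace Groth.Agent.S19519

/-- Let k be an algebraically closed field, G a smooth k-group scheme of finite type acting on a
k-scheme X of finite type, and x a rational point of X. If the orbit of x — the image of the orbit
map G → X, g ↦ g · x, with its subspace topology — has Krull dimension at most that of the orbit of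
every rational point of X, then the orbit of x is closed in X. (The first assertions of the lemma,
local closedness and smoothness of orbits over any field, are not restated here.) -/
theorem result (k : Type u) [Field k] [IsAlgClosed k]
    (G X : Over (Spec (CommRingCat.of k))) [GrpObj G] [Smooth G.hom] [QuasiCompact G.hom]
    [LocallyOfFiniteType X.hom] [QuasiCompact X.hom] (a : AlgGrp.Action G X)
    (x : 𝟙_ (Over (Spec (CommRingCat.of k))) ⟶ X)
    (hmin : ∀ y : 𝟙_ (Over (Spec (CommRingCat.of k))) ⟶ X,
      topologicalKrullDim (Set.range (a.orbitMap x).left.base) ≤ topologicalKrullDim (Set.range (a.orbitMap y).left.base)) :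
    IsClosed (Set.range (a.orbitMap x).left.base) := by
  classical
  have hGuo : UniversallyOpen G.hom := Groth.Agent.Lib.Helper93.ActionOpen.universallyOpen_of_field G.hom
  have hne : Nonempty G.left := ⟨η[G].left.base (IsLocalRing.closedPoint k)⟩
  have hcomp : CompactSpace X.left := QuasiCompact.compactSpace_of_compactSpace X.hom
  have hJ : JacobsonSpace X.left := LocallyOfFiniteType.jacobsonSpace (Y := Spec _) X.hom
  have hlc := Groth.Agent.Lib.Helper41.OrbitTop.isLocallyClosed_orbit a x
  have hst := Groth.Agent.Lib.Helper41.OrbitTop.stable_orbit a x
  by_contra hncl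
  have hBne : (closure (Set.range (a.orbitMap x).left.base) \ Set.range (a.orbitMap x).left.base).Nonempty := by
    by_contra h
    rw [Set.not_nonempty_iff_eq_empty, Set.sdiff_eq_empty] at h
    exact hncl (closure_subset_iff_isClosed.mp h)
  have hBcl : IsClosed (closure (Set.range (a.orbitMap x).left.base) \ Set.range (a.orbitMap x).left.base) := by
    have := hlc.isOpen_coborder
    unfold coborder at this
    exact isOpen_compl_iff.mp this
  have hBst := hst.closure.diff hst
  obtain ⟨z, hz1, hz2⟩ := nonempty_inter_closedPoints hBne hBcl.isLocallyClosed
  obtain ⟨y, hy⟩ := Groth.Agent.Lib.Helper41.ClosedOrbit.exists_rational_point z hz2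
  have hsub : Set.range (a.orbitMap y).left.base ⊆
      closure (Set.range (a.orbitMap x).left.base) \ Set.range (a.orbitMap x).left.base :=
    Groth.Agent.Lib.Helper41.ClosedOrbit.orbit_subset_of_stable a y hBst (fun p => by rw [hy p]; exact hz1)
  have h1 : topologicalKrullDim (Set.range (a.orbitMap y).left.base) ≤
      topologicalKrullDim ↥(closure (Set.range (a.orbitMap x).left.base) \ Set.range (a.orbitMap x).left.base) :=
    (Topology.IsEmbedding.inclusion hsub).isInducing.topologicalKrullDim_le
  have h2 := Groth.Agent.Lib.Helper41.OrbitDim.topologicalKrullDim_closure_diff_lt X.hom _ hlc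
    (Set.range_nonempty _)
  exact absurd (lt_of_le_of_lt (h1.trans' (hmin y)) h2) (lt_irrefl _)

end Groth.Agent.S19519
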