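import Groth.Statements.S19522
import Mathlib

set_option autoImplicit false
universe u
open TensorProduct
open GLin

namespace Groth.Agent.S19522

section Aux

variable {k : Type u} [Field k] {A : Type u} [CommRing A] [Algebra k A]
  {R : Type u} [CommRing R] [Algebra k R]

/-- the `s`-th coefficient map `R[t] ⊗ A → R ⊗ A` -/
noncomputable def kap (s : ℕ) : (Polynomial R) ⊗[k] A →ₗ[k] R ⊗[k] A :=
  ((Polynomial.lcoeff R s).restrictScalars k).rTensor A

theorem kap_tmul (s : ℕ) (p : Polynomial R) (a : A) :
    kap (k := k) s (p ⊗ₜ[k] a) = p.coeff s ⊗ₜ[k] a := by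
  simp [kap]

theorem kap_map_mul (s r : ℕ) (y : R ⊗[k] A) (a : A) :
    kap (k := k) s (Algebra.TensorProduct.map (Polynomial.CAlgHom : R →ₐ[k] Polynomial R)
        (AlgHom.id k A) y * (((Polynomial.X : Polynomial R) ^ r) ⊗ₜ[k] a)) =
      if r = s then y * ((1 : R) ⊗ₜ[k] a) else 0 := by
  induction y using TensorProduct.induction_on with
  | zero => simp
  | tmul x b =>
    rw [Algebra.TensorProduct.map_tmul, Algebra.TensorProduct.tmul_mul_tmul, kap_tmul]
    simp only [Polynomial.CAlgHom_apply, AlgHom.id_apply, Polynomial.coeff_C_mul,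
      Polynomial.coeff_X_pow]
    by_cases h : r = s
    · subst h
      simp [Algebra.TensorProduct.tmul_mul_tmul]
    · have h' : ¬ s = r := fun e => h e.symm
      simp [h, h']
  | add y z hy hz =>
    rw [map_add, add_mul, map_add, hy, hz]
    split_ifs
    · rw [add_mul]
    · rw [add_zero]

end Aux

/-- Let k be a field, A a commutative k-bialgebra coacting multiplicatively on a commutative k-algebra
R, and χ ∈ A a group-like element with an inverse χ' (χχ' = 1). Suppose the polynomial ring R[t]
carries a multiplicative coaction which restricts to the given one on constants and sends t to t ⊗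
χ'. Then g ∈ R[t] is coinvariant if and only if, for every r, its r-th coefficient has coaction g_r
↦ g_r ⊗ χ^r; that is, the ring of invariants of R[t] is the sum over r ≥ 0 of the weight-χ^r
semi-invariants of R times t^r. (The published statement is phrased for an affine variety with an
action of a linear algebraic group over an algebraically closed field of characteristic zero and
identifies the invariants of X × A¹ with the graded ring of invariant sections of the powers of the
linearised trivial bundle; this is its coordinate-ring content, valid over any field.) -/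
theorem result (k : Type u) [Field k]
    (A : Type u) [CommRing A] [Bialgebra k A]
    (R : Type u) [CommRing R] [Algebra k R] [HopfRep.Comod k A R] [GLin.IsCoactAlg k A R]
    [HopfRep.Comod k A (Polynomial R)] [GLin.IsCoactAlg k A (Polynomial R)]
    (χ χ' : A) (hχ : CoalgebraStruct.comul (R := k) (A := A) χ = χ ⊗ₜ[k] χ)
    (hχε : CoalgebraStruct.counit (R := k) (A := A) χ = 1) (hχχ' : χ * χ' = 1)
    (hC : ∀ r : R, HopfRep.Comod.coact (k := k) (A := A) (Polynomial.C r) =
      Algebra.TensorProduct.map (Polynomial.CAlgHom : R →ₐ[k] Polynomial R) (AlgHom.id k A)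
        (HopfRep.Comod.coact (k := k) (A := A) r))
    (hX : HopfRep.Comod.coact (k := k) (A := A) (Polynomial.X : Polynomial R) = Polynomial.X ⊗ₜ[k] χ')
    (g : Polynomial R) :
    g ∈ GLin.invariants k A (Polynomial R) ↔
      ∀ r : ℕ, g.coeff r ∈ HopfRep.eigenspace k A R (χ ^ r) := by
  classical
  set Φ := Algebra.TensorProduct.map (Polynomial.CAlgHom : R →ₐ[k] Polynomial R) (AlgHom.id k A)
    with hΦ
  have hmono : ∀ (c : R) (r : ℕ),
      HopfRep.Comod.coact (k := k) (A := A) (Polynomial.C c * Polynomial.X ^ r) =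
        Φ (HopfRep.Comod.coact (k := k) (A := A) c) *
          (((Polynomial.X : Polynomial R) ^ r) ⊗ₜ[k] (χ' ^ r)) := by
    intro c r
    have h1 := GLin.IsCoactAlg.coact_mul (k := k) (A := A) (Polynomial.C c) (Polynomial.X ^ r)
    have h2 : HopfRep.Comod.coact (k := k) (A := A) ((Polynomial.X : Polynomial R) ^ r) =
        ((Polynomial.X : Polynomial R) ^ r) ⊗ₜ[k] (χ' ^ r) := by
      have := map_pow (GLin.coactAlgHom k A (Polynomial R)) (Polynomial.X : Polynomial R) r
      rw [GLin.coactAlgHom_apply, GLin.coactAlgHom_apply, hX, Algebra.TensorProduct.tmul_pow] at this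
      exact this
    rw [h1, h2, hC]
  have hg : HopfRep.Comod.coact (k := k) (A := A) g =
      ∑ r ∈ Finset.range (g.natDegree + 1),
        Φ (HopfRep.Comod.coact (k := k) (A := A) (g.coeff r)) *
          (((Polynomial.X : Polynomial R) ^ r) ⊗ₜ[k] (χ' ^ r)) := by
    conv_lhs => rw [g.as_sum_range_C_mul_X_pow]
    rw [map_sum]
    exact Finset.sum_congr rfl (fun r _ => hmono _ r)
  have hkap : ∀ s, kap (k := k) s (HopfRep.Comod.coact (k := k) (A := A) g) =
      HopfRep.Comod.coact (k := k) (A := A) (g.coeff s) * ((1 : R) ⊗ₜ[k] (χ' ^ s)) := by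
    intro s
    rw [hg, map_sum]
    simp only [hΦ, kap_map_mul]
    rw [Finset.sum_ite_eq' (Finset.range (g.natDegree + 1)) s]
    split_ifs with hs
    · rfl
    · have : g.coeff s = 0 := by
        apply Polynomial.coeff_eq_zero_of_natDegree_lt
        simp only [Finset.mem_range, not_lt] at hs
        omega
      rw [this, map_zero, zero_mul]
  have hpow : ∀ s : ℕ, χ ^ s * χ' ^ s = 1 := by
    intro s
    rw [← mul_pow, hχχ', one_pow]
  rw [GLin.mem_invariants_iff]
  constructor
  · intro h r
    show HopfRep.Comod.coact (k := k) (A := A) (g.coeff r) = g.coeff r ⊗ₜ[k] (χ ^ r)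
    have h1 := hkap r
    rw [h, kap_tmul] at h1
    have h2 := congrArg (fun z => z * ((1 : R) ⊗ₜ[k] (χ ^ r))) h1
    simp only [mul_assoc, Algebra.TensorProduct.tmul_mul_tmul, one_mul, mul_one] at h2
    rw [mul_comm (χ' ^ r), hpow, ← Algebra.TensorProduct.one_def, mul_one] at h2
    exact h2.symm
  · intro h
    rw [hg]
    have h1 : ∀ r ∈ Finset.range (g.natDegree + 1),
        Φ (HopfRep.Comod.coact (k := k) (A := A) (g.coeff r)) *
          (((Polynomial.X : Polynomial R) ^ r) ⊗ₜ[k] (χ' ^ r)) =
        (Polynomial.C (g.coeff r) * Polynomial.X ^ r) ⊗ₜ[k] (1 : A) := by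
      intro r _
      have hr : HopfRep.Comod.coact (k := k) (A := A) (g.coeff r) = g.coeff r ⊗ₜ[k] (χ ^ r) := h r
      rw [hr, hΦ, Algebra.TensorProduct.map_tmul, Algebra.TensorProduct.tmul_mul_tmul]
      simp only [Polynomial.CAlgHom_apply, AlgHom.id_apply]
      rw [hpow]
    rw [Finset.sum_congr rfl h1, ← TensorProduct.sum_tmul, ← g.as_sum_range_C_mul_X_pow]

end Groth.Agent.S19522
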