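import Groth.Statements.S19523
import Groth.Agent.Lib.Helper41.OrbitSubscheme

set_option autoImplicit false
universe u
open CategoryTheory MonoidalCategory CartesianMonoidalCategory MonObj GrpObj AlgebraicGeometry
open AlgGrp

namespace Groth.Agent.S19523

/-- Let k be a field, G a smooth k-group scheme of finite type acting on a k-scheme X of finite type,
and x a rational point of X. The orbit of x, the image of the orbit map G → X, is locally closed
(not restated here); if i : O → X is an immersion from a reduced scheme whose image is exactly the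
orbit — the orbit with its reduced induced structure — then O is smooth over k. -/
theorem result (k : Type u) [Field k]
    (G X : Over (Spec (CommRingCat.of k))) [GrpObj G] [Smooth G.hom] [QuasiCompact G.hom]
    [LocallyOfFiniteType X.hom] [QuasiCompact X.hom] (a : AlgGrp.Action G X)
    (x : 𝟙_ (Over (Spec (CommRingCat.of k))) ⟶ X)
    (O : Scheme.{u}) (i : O ⟶ X.left) [IsImmersion i] [IsReduced O]
    (hO : Set.range i.base = Set.range (a.orbitMap x).left.base) : Smooth (i ≫ X.hom) := by
  have hsub : Subsingleton (Spec (CommRingCat.of k)) :=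
    inferInstanceAs (Subsingleton (PrimeSpectrum k))
  let O' : Over (Spec (CommRingCat.of k)) := Over.mk (i ≫ X.hom)
  let j : O' ⟶ X := Over.homMk i rfl
  have hjl : j.left = i := rfl
  have hmono : Mono j := by
    have : Mono ((Over.forget _).map j) := by
      change Mono i
      infer_instance
    exact (Over.forget _).mono_of_mono_map this
  have hGred : IsReduced G.left := Groth.Agent.Lib.Helper54.isReduced_of_smooth_scheme G.hom
  -- the product `G ⊗ O'` is reduced
  have hsm : Smooth (snd G O').left := by
    rw [Over.snd_left]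
    infer_instance
  have hO'red : IsReduced O'.left := ‹IsReduced O›
  have hGOred : IsReduced (G ⊗ O').left :=
    Groth.Agent.Lib.Helper54.isReduced_of_smooth_scheme (snd G O').left
  -- the action preserves the orbit
  have hst := Groth.Agent.Lib.Helper41.OrbitTop.stable_orbit a x
  have hrange : Set.range ((G ◁ j) ≫ a.act).left ⊆ Set.range i := by
    rintro _ ⟨z, rfl⟩
    change a.act.left.base ((G ◁ j).left.base z) ∈ Set.range i.base
    rw [hO, hst.mem_iff]
    have h1 : (snd G X).left.base ((G ◁ j).left.base z) = ((G ◁ j) ≫ snd G X).left.base z := rfl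
    rw [h1, whiskerLeft_snd, ← hO]
    exact ⟨(snd G O').left.base z, rfl⟩
  obtain ⟨act0, hact0⟩ :=
    Groth.Agent.Lib.Helper41.OrbitSubscheme.exists_lift_of_isReduced_of_range_subset
      ((G ◁ j) ≫ a.act).left i hrange
  have hw : act0 ≫ O'.hom = (G ⊗ O').hom := by
    change act0 ≫ i ≫ X.hom = _
    rw [← Category.assoc, hact0]
    exact Over.w _
  let act' : G ⊗ O' ⟶ O' := Over.homMk act0 hw
  have hact' : act' ≫ j = (G ◁ j) ≫ a.act := by
    ext1
    exact hact0
  let a' := Groth.Agent.Lib.Helper41.OrbitSubscheme.actionOfMono a j act' hact'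
  -- the rational point
  have hxr : Set.range x.left ⊆ Set.range i := by
    rintro _ ⟨z, rfl⟩
    change x.left.base z ∈ Set.range i.base
    rw [hO]
    refine ⟨(η[G]).left.base z, ?_⟩
    have h1 : (a.orbitMap x).left.base ((η[G]).left.base z) = (η[G] ≫ a.orbitMap x).left.base z :=
      rfl
    rw [h1]
    have h2 : η[G] ≫ a.orbitMap x = x := by
      unfold AlgGrp.Action.orbitMap
      rw [← Category.assoc, comp_lift, Category.comp_id]
      have h3 : η[G] ≫ toUnit G ≫ x = x := by
        rw [← Category.assoc, toUnit_unique (η[G] ≫ toUnit G) (𝟙 _), Category.id_comp]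
      have h4 : (η[G] : 𝟙_ (Over (Spec (CommRingCat.of k))) ⟶ G) = 1 := by
        rw [Hom.one_def, toUnit_unique (toUnit _) (𝟙 _), Category.id_comp]
      rw [h3, h4]
      exact Groth.Agent.Lib.Helper93.ActionOpen.act_one a x
    rw [h2]
  have h1red : IsReduced (𝟙_ (Over (Spec (CommRingCat.of k)))).left := by
    change IsReduced (Spec (CommRingCat.of k))
    infer_instance
  obtain ⟨o0, ho0⟩ :=
    Groth.Agent.Lib.Helper41.OrbitSubscheme.exists_lift_of_isReduced_of_range_subset
      x.left i hxr
  have hwo : o0 ≫ O'.hom = (𝟙_ (Over (Spec (CommRingCat.of k)))).hom := by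
    change o0 ≫ i ≫ X.hom = _
    rw [← Category.assoc, ho0]
    exact Over.w _
  let o' : 𝟙_ (Over (Spec (CommRingCat.of k))) ⟶ O' := Over.homMk o0 hwo
  have ho' : o' ≫ j = x := by
    ext1
    exact ho0
  have horb : a'.orbitMap o' ≫ j = a.orbitMap x := by
    rw [← ho']
    exact Groth.Agent.Lib.Helper41.OrbitSubscheme.orbitMap_actionOfMono a j act' hact' o'
  have hsurj : Surjective (a'.orbitMap o').left := by
    constructor
    intro z
    have hz : i.base z ∈ Set.range (a.orbitMap x).left.base := by
      rw [← hO]
      exact ⟨z, rfl⟩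
    obtain ⟨g, hg⟩ := hz
    refine ⟨g, ?_⟩
    apply i.isEmbedding.injective
    rw [← horb] at hg
    exact hg
  have hlft : LocallyOfFiniteType O'.hom := by
    change LocallyOfFiniteType (i ≫ X.hom)
    infer_instance
  have hcG : CompactSpace G.left := QuasiCompact.compactSpace_of_compactSpace G.hom
  have hln : IsLocallyNoetherian O'.left := LocallyOfFiniteType.isLocallyNoetherian O'.hom
  have hqc : QuasiCompact (a'.orbitMap o').left := inferInstance
  have hdom : IsDominant (a'.orbitMap o').left := inferInstance
  have hw' : (a'.orbitMap o').left ≫ O'.hom = G.hom := Over.w (a'.orbitMap o')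
  have hgr : GeometricallyReduced ((a'.orbitMap o').left ≫ O'.hom) := by
    rw [hw']
    exact Groth.Agent.Lib.Helper41.SmoothGeomRed.geometricallyReduced_of_smooth G.hom
  have hOgr : GeometricallyReduced O'.hom :=
    Groth.Agent.Lib.Helper41.HomogSmooth.geometricallyReduced_of_dominant
      (a'.orbitMap o').left O'.hom
  exact Groth.Agent.Lib.Helper41.HomogSmooth.smooth_of_orbit_surjective a' o' hsurj

end Groth.Agent.S19523
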