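import Groth.Statements.S19530
import Groth.Agent.S14769
import Groth.Agent.Lib.Helper20.ChainVal

set_option autoImplicit false
universe u
open CategoryTheory CategoryTheory.Limits AlgebraicGeometry
open Subtr

namespace Groth.Agent.S19530

-- points of the spectrum of a valuation ring are totally ordered by specialization
private lemma specializes_total (V : Type u) [CommRing V] [IsDomain V] [ValuationRing V]
    (p q : Spec (CommRingCat.of V)) : p ⤳ q ∨ q ⤳ p := by
  have h := (ValuationRing.le_total_ideal (A := V)).total p.asIdeal q.asIdeal
  rcases h with h | h
  · left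
    exact (PrimeSpectrum.le_iff_specializes p q).mp h
  · right
    exact (PrimeSpectrum.le_iff_specializes q p).mp h

/-- Let f : X ⟶ Y be a morphism of schemes such that every base change of f has the lifting property for
ordered pairs of points (every point together with a specialization of it is the image of such a
pair). Then every finite chain of points y_0, y_1, …, y_n of Y, in which y_j is a specialization of
y_i whenever i ≤ j, lifts to a chain in X: there are points x_0, …, x_n of X with x_j a
specialization of x_i for i ≤ j and f(x_i) = y_i for every i. (The published statement is for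
universally subtrusive f, which adds submersiveness for the constructible topologies, and for
arbitrary chains having a lower bound in Y; this row keeps the pair-lifting property alone and
finite chains, whose most special member is a lower bound.) -/
theorem result {X Y : Scheme.{u}} (f : X ⟶ Y)
    (hf : Subtr.UnivSSubtrusive f) (n : ℕ) (y : Fin (n + 1) → Y)
    (hy : ∀ i j : Fin (n + 1), i ≤ j → y i ⤳ y j) :
    ∃ x : Fin (n + 1) → X, (∀ i j : Fin (n + 1), i ≤ j → x i ⤳ x j) ∧ ∀ i, f (x i) = y i := by
  classical
  -- extend the chain to `ℕ`
  let y' : ℕ → Y := fun i => y ⟨min i n, by omega⟩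
  have hy' : ∀ i, y' i ⤳ y' (i + 1) := by
    intro i
    apply hy
    show min i n ≤ min (i + 1) n
    omega
  obtain ⟨F, _, R, ψ, hψ, v, hv, hg⟩ :=
    Groth.Agent.Lib.Helper20.ChainVal.exists_chain_valuationSubring y' hy' n
  let g : Spec (CommRingCat.of R) ⟶ Y := Spec.map ψ ≫ Y.fromSpecStalk (y' n)
  obtain ⟨V', _, _, _, a, b, hb, hab⟩ := (Groth.Agent.S14769.result f).mp hf R g
  have hvle : ∀ i j : ℕ, i ≤ j → j ≤ n → v i ⤳ v j := by
    intro i j hij
    induction j, hij using Nat.le_induction with
    | base => intro _; exact specializes_rfl
    | succ j hj ih =>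
      intro hjn
      exact (ih (by omega)).trans (hv j (by omega))
  let σ : Spec (CommRingCat.of R) → Spec (CommRingCat.of V') := Function.surjInv hb.surj
  have hσ : ∀ p, b.base (σ p) = p := Function.surjInv_eq hb.surj
  have hσle : ∀ i j : ℕ, i ≤ j → j ≤ n → σ (v i) ⤳ σ (v j) := by
    intro i j hij hjn
    rcases specializes_total V' (σ (v i)) (σ (v j)) with h | h
    · exact h
    · have h1 : v j ⤳ v i := by
        have := h.map b.continuous
        rwa [hσ, hσ] at this
      have h2 : v i = v j := ((hvle i j hij hjn).antisymm h1).eq
      rw [h2]
  refine ⟨fun i => a.base (σ (v i)), ?_, ?_⟩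
  · intro i j hij
    exact (hσle i j hij (by omega)).map a.continuous
  · intro i
    show f.base (a.base (σ (v i))) = y i
    rw [← Scheme.Hom.comp_apply, hab, Scheme.Hom.comp_apply, hσ]
    have h1 := hg i (by omega)
    have h2 : y' i = y i := by
      show y ⟨min i n, _⟩ = y i
      congr 1
      apply Fin.ext
      show min (i : ℕ) n = i
      omega
    rw [← h2]
    exact h1


end Groth.Agent.S19530
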