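import Groth.Statements.S19532
import Groth.Agent.Lib.Helper75.TwoBranch
import Groth.Agent.Lib.Helper75.MonoExt

set_option autoImplicit false
universe u
open CategoryTheory
open TFCurv

namespace Groth.Agent.S19532

open Groth.Agent.Lib.Helper75 Groth.Agent.Lib.Helper75.TwoBranch PowerSeries

section helpers

variable {k : Type u} [Field k] {δ : ℕ} (O : Subalgebra k (PowerSeries k × PowerSeries k))
  (hO : ∀ f : PowerSeries k × PowerSeries k, f ∈ O ↔ (X : PowerSeries k) ^ δ ∣ f.1 - f.2)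

lemma X_pow_mul_dvd_iff (a b : ℕ) (f : PowerSeries k) :
    (X : PowerSeries k) ^ (a + b) ∣ X ^ a * f ↔ (X : PowerSeries k) ^ b ∣ f := by
  rw [pow_add]
  exact mul_dvd_mul_iff_left (pow_ne_zero a X_ne_zero)

/-- multiplication by `(X^i, X^i)` as an `O`-linear map. -/
noncomputable def mulL (i : ℕ) :
    (PowerSeries k × PowerSeries k) →ₗ[O] (PowerSeries k × PowerSeries k) where
  toFun b := ((X : PowerSeries k) ^ i, (X : PowerSeries k) ^ i) * b
  map_add' b b' := mul_add _ _ _
  map_smul' a b := by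
    change _ * ((a : PowerSeries k × PowerSeries k) * b) = (a : PowerSeries k × PowerSeries k) * (_ * b)
    ring

lemma mulL_injective (i : ℕ) : Function.Injective (mulL O i) := by
  intro b b' h
  have h1 := congrArg Prod.fst h
  have h2 := congrArg Prod.snd h
  change (X : PowerSeries k) ^ i * b.1 = X ^ i * b'.1 at h1
  change (X : PowerSeries k) ^ i * b.2 = X ^ i * b'.2 at h2
  exact Prod.ext (mul_left_cancel₀ (pow_ne_zero i X_ne_zero) h1)
    (mul_left_cancel₀ (pow_ne_zero i X_ne_zero) h2)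

lemma I_eq (j : ℕ) (hj : j ≤ δ) :
    Submodule.span ↥O ({((X : PowerSeries k) ^ j, (X : PowerSeries k) ^ j),
      ((X : PowerSeries k) ^ δ, 0)} : Set (PowerSeries k × PowerSeries k)) =
    (Submodule.span ↥O ({1, ((X : PowerSeries k) ^ (δ - j), 0)} :
      Set (PowerSeries k × PowerSeries k))).map (mulL O j) := by
  have h1 : mulL O j (1 : PowerSeries k × PowerSeries k) =
      ((X : PowerSeries k) ^ j, (X : PowerSeries k) ^ j) := by
    change (((X : PowerSeries k) ^ j, (X : PowerSeries k) ^ j) * 1 : PowerSeries k × PowerSeries k) = _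
    rw [mul_one]
  have h2 : mulL O j (((X : PowerSeries k) ^ (δ - j), 0) : PowerSeries k × PowerSeries k) =
      ((X : PowerSeries k) ^ δ, 0) := by
    change ((X : PowerSeries k) ^ j * X ^ (δ - j), (X : PowerSeries k) ^ j * 0) = _
    rw [← pow_add, Nat.add_sub_cancel' hj, mul_zero]
  rw [Submodule.map_span, Set.image_pair, h1, h2]

include hO in
lemma diag_mem (w : PowerSeries k) : (w, w) ∈ O := by
  rw [hO]; simp

lemma span_eq_W (j : ℕ) (hj : j ≤ δ) :
    Submodule.span ↥O ({1, ((X : PowerSeries k) ^ (δ - j), 0)} :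
      Set (PowerSeries k × PowerSeries k)) = W O hO 0 (δ - j) (by omega) := by
  apply le_antisymm
  · rw [Submodule.span_le]
    rintro f (rfl | rfl)
    · change _ ∧ _ ∧ _
      simp
    · change _ ∧ _ ∧ _
      simp
  · rintro ⟨u, v⟩ ⟨_, _, h3⟩
    obtain ⟨w, hw⟩ : ∃ w, u - v = X ^ (δ - j) * w := h3
    have : ((u, v) : PowerSeries k × PowerSeries k) =
        (⟨(v, v), diag_mem O hO v⟩ : ↥O) • (1 : PowerSeries k × PowerSeries k) +
          (⟨(w, w), diag_mem O hO w⟩ : ↥O) • (((X : PowerSeries k) ^ (δ - j), 0) :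
            PowerSeries k × PowerSeries k) := by
      change _ = ((v, v) : PowerSeries k × PowerSeries k) * 1 + (w, w) * (X ^ (δ - j), 0)
      apply Prod.ext
      · change u = v * 1 + w * X ^ (δ - j)
        have : u = v + (u - v) := by ring
        rw [this, hw]; ring
      · change v = v * 1 + w * 0
        ring
    rw [this]
    exact Submodule.add_mem _ (Submodule.smul_mem _ _ (Submodule.subset_span (by simp)))
      (Submodule.smul_mem _ _ (Submodule.subset_span (by simp)))

end helpers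


section core

variable {k : Type u} [Field k] {δ : ℕ} (O : Subalgebra k (PowerSeries k × PowerSeries k))
  (hO' : ∀ f : PowerSeries k × PowerSeries k, f ∈ O ↔ (X : PowerSeries k) ^ δ ∣ f.1 - f.2)
  (i j : ℕ) (hi : i ≤ δ) (hj : j ≤ δ)

include hj in
lemma hNc_lem : ∀ f, f ∈ W O hO' δ (2 * δ - j) (by omega) ↔ ∃ n ∈ W O hO' 0 (δ - j) (by omega),
    f = (((X : PowerSeries k) ^ δ, (X : PowerSeries k) ^ δ) : PowerSeries k × PowerSeries k) * n := by
  intro f
  rw [mem_W]
  constructor
  · rintro ⟨⟨u, hu⟩, ⟨v, hv⟩, h3⟩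
    refine ⟨(u, v), ?_, ?_⟩
    · rw [mem_W]
      refine ⟨by simp, by simp, ?_⟩
      rw [hu, hv, ← mul_sub] at h3
      have h4 : 2 * δ - j = δ + (δ - j) := by omega
      rw [h4, X_pow_mul_dvd_iff] at h3
      exact h3
    · exact Prod.ext hu hv
  · rintro ⟨n, hn, rfl⟩
    rw [mem_W] at hn
    obtain ⟨_, _, h3⟩ := hn
    change (X : PowerSeries k) ^ δ ∣ X ^ δ * n.1 ∧ (X : PowerSeries k) ^ δ ∣ X ^ δ * n.2 ∧
      (X : PowerSeries k) ^ (2 * δ - j) ∣ X ^ δ * n.1 - X ^ δ * n.2
    refine ⟨dvd_mul_right _ _, dvd_mul_right _ _, ?_⟩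
    have h4 : 2 * δ - j = δ + (δ - j) := by omega
    rw [← mul_sub, h4, X_pow_mul_dvd_iff]
    exact h3

include hi hj in
lemma hN'_lem : ∀ f, f ∈ W O hO' (i - j) (δ - j) (by omega) ↔ f ∈ W O hO' 0 (δ - j) (by omega) ∧
    ∀ _j' : Fin 1, (((X : PowerSeries k) ^ (δ - i), 0) : PowerSeries k × PowerSeries k) * f ∈
      W O hO' 0 (δ - j) (by omega) := by
  intro f
  rw [mem_W, mem_W]
  constructor
  · rintro ⟨h1, h2, h3⟩
    refine ⟨⟨by simp, by simp, h3⟩, fun _ => ?_⟩
    rw [mem_W]
    change (X : PowerSeries k) ^ 0 ∣ X ^ (δ - i) * f.1 ∧ (X : PowerSeries k) ^ 0 ∣ (0 : PowerSeries k) * f.2 ∧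
      (X : PowerSeries k) ^ (δ - j) ∣ X ^ (δ - i) * f.1 - 0 * f.2
    refine ⟨by simp, by simp, ?_⟩
    rw [zero_mul, sub_zero]
    obtain ⟨u, hu⟩ := h1
    rw [hu, ← mul_assoc, ← pow_add]
    exact Dvd.dvd.mul_right (pow_dvd_pow X (by omega)) _
  · rintro ⟨⟨_, _, h3⟩, h4⟩
    have h5 := h4 0
    rw [mem_W] at h5
    obtain ⟨_, _, h6⟩ := h5
    change (X : PowerSeries k) ^ (δ - j) ∣ X ^ (δ - i) * f.1 - 0 * f.2 at h6
    rw [zero_mul, sub_zero] at h6
    have h7 : (X : PowerSeries k) ^ (i - j) ∣ f.1 := by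
      by_cases hij : i ≤ j
      · have : i - j = 0 := by omega
        rw [this]; simp
      · have h8 : δ - j = (δ - i) + (i - j) := by omega
        rw [h8, X_pow_mul_dvd_iff] at h6
        exact h6
    refine ⟨h7, ?_, h3⟩
    have := dvd_sub h7 ((pow_dvd_pow X (show i - j ≤ δ - j by omega)).trans h3)
    simpa using this

include hi hj in
lemma hH_lem : ∀ h : Fin 1 → PowerSeries k × PowerSeries k,
    (∀ _j' : Fin 1, h _j' ∈ W O hO' (δ - min i j) (2 * δ - i - j) (by omega)) ↔
    ((∀ j', h j' ∈ W O hO' 0 (δ - j) (by omega)) ∧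
      ∀ κ ∈ LinearMap.ker (ExtMonoB.pi0 (B := PowerSeries k × PowerSeries k) (A := ↥O)
        (fun _ : Fin 1 => (((X : PowerSeries k) ^ (δ - i), 0) : PowerSeries k × PowerSeries k))),
        ∑ j', (O.val : ↥O →+* PowerSeries k × PowerSeries k) (κ.2 j') * h j' ∈
          W O hO' δ (2 * δ - j) (by omega)) := by
  let g : Fin 1 → PowerSeries k × PowerSeries k := fun _ => ((X : PowerSeries k) ^ (δ - i), 0)
  intro h
  constructor
  · intro hh
    have hh0 := hh 0
    rw [mem_W] at hh0
    obtain ⟨h1, h2, h3⟩ := hh0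
    refine ⟨fun j' => ?_, ?_⟩
    · have hj' : j' = 0 := Subsingleton.elim _ _
      subst hj'
      rw [mem_W]
      refine ⟨by simp, by simp, (pow_dvd_pow X (by omega)).trans h3⟩
    · intro κ hκ
      rw [Fin.sum_univ_one, mem_W]
      rw [LinearMap.mem_ker, ExtMonoB.pi0_apply (O.val : ↥O →+* PowerSeries k × PowerSeries k)
        (fun _ _ => rfl), Fin.sum_univ_one] at hκ
      -- κ.2 0 =: y
      have hy : (X : PowerSeries k) ^ δ ∣ ((κ.2 0 : ↥O) : PowerSeries k × PowerSeries k).1 -
          ((κ.2 0 : ↥O) : PowerSeries k × PowerSeries k).2 := (hO' _).mp (κ.2 0).2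
      have hx0 : (X : PowerSeries k) ^ δ ∣ ((κ.1 : ↥O) : PowerSeries k × PowerSeries k).1 -
          ((κ.1 : ↥O) : PowerSeries k × PowerSeries k).2 := (hO' _).mp κ.1.2
      have hκ1 : ((κ.1 : ↥O) : PowerSeries k × PowerSeries k).1 +
          ((κ.2 0 : ↥O) : PowerSeries k × PowerSeries k).1 * X ^ (δ - i) = 0 :=
        congrArg Prod.fst hκ
      have hκ2 : ((κ.1 : ↥O) : PowerSeries k × PowerSeries k).2 +
          ((κ.2 0 : ↥O) : PowerSeries k × PowerSeries k).2 * 0 = 0 :=
        congrArg Prod.snd hκ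
      rw [mul_zero, add_zero] at hκ2
      rw [hκ2, sub_zero] at hx0
      have hy1 : (X : PowerSeries k) ^ i ∣ ((κ.2 0 : ↥O) : PowerSeries k × PowerSeries k).1 := by
        have h5 : ((κ.2 0 : ↥O) : PowerSeries k × PowerSeries k).1 * X ^ (δ - i) =
            -((κ.1 : ↥O) : PowerSeries k × PowerSeries k).1 := eq_neg_of_add_eq_zero_right hκ1
        have h6 : (X : PowerSeries k) ^ δ ∣
            X ^ (δ - i) * ((κ.2 0 : ↥O) : PowerSeries k × PowerSeries k).1 := by
          rw [mul_comm, h5]; exact (dvd_neg).mpr hx0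
        have h7 : (X : PowerSeries k) ^ ((δ - i) + i) ∣
            X ^ (δ - i) * ((κ.2 0 : ↥O) : PowerSeries k × PowerSeries k).1 := by
          rwa [Nat.sub_add_cancel hi]
        exact (X_pow_mul_dvd_iff _ _ _).mp h7
      have hy2 : (X : PowerSeries k) ^ i ∣ ((κ.2 0 : ↥O) : PowerSeries k × PowerSeries k).2 := by
        have := dvd_sub hy1 ((pow_dvd_pow X hi).trans hy)
        simpa using this
      change (X : PowerSeries k) ^ δ ∣ ((κ.2 0 : ↥O) : PowerSeries k × PowerSeries k).1 * (h 0).1 ∧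
        (X : PowerSeries k) ^ δ ∣ ((κ.2 0 : ↥O) : PowerSeries k × PowerSeries k).2 * (h 0).2 ∧
        (X : PowerSeries k) ^ (2 * δ - j) ∣
          ((κ.2 0 : ↥O) : PowerSeries k × PowerSeries k).1 * (h 0).1 -
            ((κ.2 0 : ↥O) : PowerSeries k × PowerSeries k).2 * (h 0).2
      have hpow : ∀ a b c : ℕ, c ≤ a + b → ∀ p q : PowerSeries k,
          (X : PowerSeries k) ^ a ∣ p → (X : PowerSeries k) ^ b ∣ q → (X : PowerSeries k) ^ c ∣ p * q := by
        intro a b c hc p q hp hq
        exact (pow_dvd_pow X hc).trans (by rw [pow_add]; exact mul_dvd_mul hp hq)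
      refine ⟨hpow i (δ - min i j) δ (by omega) _ _ hy1 h1,
        hpow i (δ - min i j) δ (by omega) _ _ hy2 h2, ?_⟩
      have h9 : ((κ.2 0 : ↥O) : PowerSeries k × PowerSeries k).1 * (h 0).1 -
          ((κ.2 0 : ↥O) : PowerSeries k × PowerSeries k).2 * (h 0).2 =
          ((κ.2 0 : ↥O) : PowerSeries k × PowerSeries k).1 * ((h 0).1 - (h 0).2) +
            (((κ.2 0 : ↥O) : PowerSeries k × PowerSeries k).1 -
              ((κ.2 0 : ↥O) : PowerSeries k × PowerSeries k).2) * (h 0).2 := by ring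
      rw [h9]
      exact dvd_add (hpow i (2 * δ - i - j) (2 * δ - j) (by omega) _ _ hy1 h3)
        (hpow δ (δ - min i j) (2 * δ - j) (by omega) _ _ hy h2)
  · rintro ⟨h1, h2⟩ j'
    have hj' : j' = 0 := Subsingleton.elim _ _
    subst hj'
    -- the element y = (X^δ, 0)
    have hyA : (((X : PowerSeries k) ^ δ, 0) : PowerSeries k × PowerSeries k) ∈ O := by
      rw [hO']; simp
    have hxA : ((-(X : PowerSeries k) ^ (2 * δ - i), 0) : PowerSeries k × PowerSeries k) ∈ O := by
      rw [hO']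
      simp only [sub_zero, dvd_neg]
      exact pow_dvd_pow X (by omega)
    have hκA : ((⟨_, hxA⟩ : ↥O), (fun _ : Fin 1 => (⟨_, hyA⟩ : ↥O))) ∈
        LinearMap.ker (ExtMonoB.pi0 (B := PowerSeries k × PowerSeries k) (A := ↥O) g) := by
      rw [LinearMap.mem_ker, ExtMonoB.pi0_apply (O.val : ↥O →+* PowerSeries k × PowerSeries k)
        (fun _ _ => rfl), Fin.sum_univ_one]
      apply Prod.ext
      · change -(X : PowerSeries k) ^ (2 * δ - i) + X ^ δ * X ^ (δ - i) = 0
        rw [← pow_add]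
        have : δ + (δ - i) = 2 * δ - i := by omega
        rw [this]; ring
      · change (0 : PowerSeries k) + 0 * 0 = 0
        ring
    have eA := h2 _ hκA
    rw [Fin.sum_univ_one, mem_W] at eA
    obtain ⟨_, _, eA3⟩ := eA
    change (X : PowerSeries k) ^ (2 * δ - j) ∣ X ^ δ * (h 0).1 - 0 * (h 0).2 at eA3
    rw [zero_mul, sub_zero] at eA3
    have hA1 : (X : PowerSeries k) ^ (δ - j) ∣ (h 0).1 := by
      have h4 : 2 * δ - j = δ + (δ - j) := by omega
      rw [h4, X_pow_mul_dvd_iff] at eA3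
      exact eA3
    -- the element y = (X^i, X^i)
    have hyB : (((X : PowerSeries k) ^ i, (X : PowerSeries k) ^ i) : PowerSeries k × PowerSeries k) ∈ O :=
      diag_mem O hO' _
    have hxB : ((-(X : PowerSeries k) ^ δ, 0) : PowerSeries k × PowerSeries k) ∈ O := by
      rw [hO']
      simp
    have hκB : ((⟨_, hxB⟩ : ↥O), (fun _ : Fin 1 => (⟨_, hyB⟩ : ↥O))) ∈
        LinearMap.ker (ExtMonoB.pi0 (B := PowerSeries k × PowerSeries k) (A := ↥O) g) := by
      rw [LinearMap.mem_ker, ExtMonoB.pi0_apply (O.val : ↥O →+* PowerSeries k × PowerSeries k)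
        (fun _ _ => rfl), Fin.sum_univ_one]
      apply Prod.ext
      · change -(X : PowerSeries k) ^ δ + X ^ i * X ^ (δ - i) = 0
        rw [← pow_add, Nat.add_sub_cancel' hi]; ring
      · change (0 : PowerSeries k) + X ^ i * 0 = 0
        ring
    have eB := h2 _ hκB
    rw [Fin.sum_univ_one, mem_W] at eB
    obtain ⟨eB1, eB2, eB3⟩ := eB
    change (X : PowerSeries k) ^ δ ∣ X ^ i * (h 0).1 at eB1
    change (X : PowerSeries k) ^ δ ∣ X ^ i * (h 0).2 at eB2
    change (X : PowerSeries k) ^ (2 * δ - j) ∣ X ^ i * (h 0).1 - X ^ i * (h 0).2 at eB3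
    have hB1 : (X : PowerSeries k) ^ (δ - i) ∣ (h 0).1 := by
      have h4 : δ = i + (δ - i) := by omega
      rw [h4, X_pow_mul_dvd_iff] at eB1
      exact eB1
    have hB3 : (X : PowerSeries k) ^ (2 * δ - i - j) ∣ (h 0).1 - (h 0).2 := by
      have h4 : 2 * δ - j = i + (2 * δ - i - j) := by omega
      rw [← mul_sub, h4, X_pow_mul_dvd_iff] at eB3
      exact eB3
    have hmin : (X : PowerSeries k) ^ (δ - min i j) ∣ (h 0).1 := by
      by_cases hij : i ≤ j
      · rw [min_eq_left hij]; exact hB1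
      · rw [min_eq_right (by omega)]; exact hA1
    rw [mem_W]
    refine ⟨hmin, ?_, hB3⟩
    have := dvd_sub hmin ((pow_dvd_pow X (show δ - min i j ≤ 2 * δ - i - j by omega)).trans hB3)
    simpa using this

include hi hj in
lemma core (hδ : 1 ≤ δ) :
    Module.length ↥O (Abelian.Ext
      (ModuleCat.of ↥O ↥(Submodule.span ↥O ({1, ((X : PowerSeries k) ^ (δ - i), 0)} :
        Set (PowerSeries k × PowerSeries k))))
      (ModuleCat.of ↥O ↥(W O hO' 0 (δ - j) (by omega))) 1) = ((2 * min i j : ℕ) : ℕ∞) := by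
  classical
  let g : Fin 1 → PowerSeries k × PowerSeries k := fun _ => ((X : PowerSeries k) ^ (δ - i), 0)
  have hmain := ExtMonoB.main (B := PowerSeries k × PowerSeries k) (A := ↥O)
    (O.val : ↥O →+* PowerSeries k × PowerSeries k) (fun _ _ => rfl) g Subtype.val_injective
    (((X : PowerSeries k) ^ δ, (X : PowerSeries k) ^ δ) : PowerSeries k × PowerSeries k)
    (by
      intro f f' h
      have h1 := congrArg Prod.fst h
      have h2 := congrArg Prod.snd h
      change (X : PowerSeries k) ^ δ * f.1 = X ^ δ * f'.1 at h1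
      change (X : PowerSeries k) ^ δ * f.2 = X ^ δ * f'.2 at h2
      exact Prod.ext (mul_left_cancel₀ (pow_ne_zero δ X_ne_zero) h1)
        (mul_left_cancel₀ (pow_ne_zero δ X_ne_zero) h2))
    (by
      intro f
      have : (((X : PowerSeries k) ^ δ, (X : PowerSeries k) ^ δ) : PowerSeries k × PowerSeries k) * f ∈ O := by
        rw [hO']
        change (X : PowerSeries k) ^ δ ∣ X ^ δ * f.1 - X ^ δ * f.2
        rw [← mul_sub]
        exact dvd_mul_right _ _
      exact ⟨⟨_, this⟩, rfl⟩)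
    (W O hO' 0 (δ - j) (by omega)) (W O hO' δ (2 * δ - j) (by omega))
    (W O hO' (i - j) (δ - j) (by omega))
    (fun _ => W O hO' (δ - min i j) (2 * δ - i - j) (by omega)) (hNc_lem O hO' i j hj) (hN'_lem O hO' i j hi hj) (hH_lem O hO' i j hi hj)
  rw [ExtMonoB.range_pi0] at hmain
  have hg : insert (1 : PowerSeries k × PowerSeries k) (Set.range g) =
      ({1, ((X : PowerSeries k) ^ (δ - i), 0)} : Set (PowerSeries k × PowerSeries k)) := by
    rw [Set.range_const]
  rw [hg, Fin.sum_univ_one,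
    length_W O hO' (δ - min i j) (2 * δ - i - j) δ (2 * δ - j) (by omega) (by omega) hδ
      (by omega) (by omega) (by omega) (by omega),
    length_W O hO' 0 (δ - j) (i - j) (δ - j) (by omega) (by omega) hδ
      (by omega) (by omega) (by omega) (by omega)] at hmain
  rw [MonoExt.enat_eq_sub hmain]
  congr 1
  omega

end core

/-- Let k be an algebraically closed field of characteristic zero, δ ≥ 1, and O ⊂ k[[t]] × k[[t]] the
complete local ring of the simple plane curve singularity A_{2δ−1} (two smooth branches with contact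
of order δ, y² = x^{2δ}), namely the k-subalgebra of all pairs (f, g) of power series with f − g
divisible by t^δ. For 0 ≤ j ≤ δ let I_j ⊂ k[[t]] × k[[t]] be the O-submodule generated by (t^j, t^j)
and (t^δ, 0), so that I_0 = O and I_δ is the conductor; the I_j represent the rank-one torsion-free
O-modules M_j. Then for all 0 ≤ i, j ≤ δ the O-module Ext¹_O(I_i, I_j) has length 2·min(i, j)
(length over O equals k-dimension here). (The one-branch case n = 2δ of the published lemma is
stated separately.) -/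
theorem result (k : Type u) [Field k] [IsAlgClosed k] [CharZero k] (δ : ℕ) (hδ : 1 ≤ δ) (O : Subalgebra k (PowerSeries k × PowerSeries k)) (hO : ∀ f : (PowerSeries k × PowerSeries k), f ∈ O ↔ (δ : ℕ∞) ≤ PowerSeries.order (f.1 - f.2)) (i j : ℕ) (hi : i ≤ δ) (hj : j ≤ δ) : Module.length ↥O (Abelian.Ext (ModuleCat.of ↥O ↥(Submodule.span ↥O ({((PowerSeries.X : PowerSeries k) ^ i, (PowerSeries.X : PowerSeries k) ^ i), ((PowerSeries.X : PowerSeries k) ^ δ, 0)} : Set (PowerSeries k × PowerSeries k)))) (ModuleCat.of ↥O ↥(Submodule.span ↥O ({((PowerSeries.X : PowerSeries k) ^ j, (PowerSeries.X : PowerSeries k) ^ j), ((PowerSeries.X : PowerSeries k) ^ δ, 0)} : Set (PowerSeries k × PowerSeries k)))) 1) = ((2 * min i j : ℕ) : ℕ∞) := by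
  classical
  have hO' : ∀ f : PowerSeries k × PowerSeries k, f ∈ O ↔ (X : PowerSeries k) ^ δ ∣ f.1 - f.2 := by
    intro f
    rw [hO, X_pow_dvd_iff]
    constructor
    · intro h m hm
      exact PowerSeries.coeff_of_lt_order m (lt_of_lt_of_le (by exact_mod_cast hm) h)
    · intro h
      exact PowerSeries.nat_le_order _ _ h
  rw [I_eq O i hi, I_eq O j hj]
  obtain ⟨e1⟩ := ExtPres.ext_congr_left
    (M := ↥(Submodule.span ↥O ({1, ((X : PowerSeries k) ^ (δ - i), 0)} :
        Set (PowerSeries k × PowerSeries k))))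
    (M' := ↥((Submodule.span ↥O ({1, ((X : PowerSeries k) ^ (δ - i), 0)} :
        Set (PowerSeries k × PowerSeries k))).map (mulL O i)))
    (ModuleCat.of ↥O ↥((Submodule.span ↥O ({1, ((X : PowerSeries k) ^ (δ - j), 0)} :
      Set (PowerSeries k × PowerSeries k))).map (mulL O j)))
    (Submodule.equivMapOfInjective (mulL O i) (mulL_injective O i)
      (Submodule.span ↥O ({1, ((X : PowerSeries k) ^ (δ - i), 0)} :
        Set (PowerSeries k × PowerSeries k)))) 1
  obtain ⟨e2⟩ := ExtPres.ext_congr_right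
    (N := ↥(Submodule.span ↥O ({1, ((X : PowerSeries k) ^ (δ - j), 0)} :
        Set (PowerSeries k × PowerSeries k))))
    (N' := ↥((Submodule.span ↥O ({1, ((X : PowerSeries k) ^ (δ - j), 0)} :
        Set (PowerSeries k × PowerSeries k))).map (mulL O j)))
    (ModuleCat.of ↥O ↥(Submodule.span ↥O ({1, ((X : PowerSeries k) ^ (δ - i), 0)} :
        Set (PowerSeries k × PowerSeries k))))
    (Submodule.equivMapOfInjective (mulL O j) (mulL_injective O j)
      (Submodule.span ↥O ({1, ((X : PowerSeries k) ^ (δ - j), 0)} :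
        Set (PowerSeries k × PowerSeries k)))) 1
  rw [← e1.length_eq, ← e2.length_eq, span_eq_W O hO' j hj]
  exact core O hO' i j hi hj hδ

end Groth.Agent.S19532
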