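import Groth.Statements.S19533
import Groth.Agent.S7806
import Groth.Agent.S0348
import Groth.Agent.S1628
import Groth.Agent.Lib.Helper78.FibreIrred

set_option autoImplicit false
universe u
open CategoryTheory CategoryTheory.Limits MonoidalCategory CartesianMonoidalCategory MonObj GrpObj AlgebraicGeometry
open AbVar

namespace Groth.Agent.S19533

/-- A smooth geometrically connected group scheme over a field is geometrically integral. -/
theorem geometricallyIntegral_of_smooth_of_geometricallyConnected (k : Type u) [Field k]
    (A : Over (Spec (CommRingCat.of k))) [GrpObj A] [Smooth A.hom] [GeometricallyConnected A.hom] :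
    GeometricallyIntegral A.hom := by
  have hred : GeometricallyReduced A.hom := by
    letI : A.left.Over (Spec (CommRingCat.of k)) := ⟨A.hom⟩
    have : Smooth (A.left ↘ Spec (CommRingCat.of k)) := ‹Smooth A.hom›
    exact (Groth.Agent.S1628.result k A.left).1
  have hirr : GeometricallyIrreducible A.hom := by
    refine ⟨fun K _ y Z fst snd h => ?_⟩
    have hconn : ConnectedSpace ↥(Red.bc y A).left :=
      GeometricallyConnected.geometrically_connectedSpace (f := A.hom) y _ _
        (IsPullback.of_hasPullback A.hom y)
    have hI : IrreducibleSpace ↥(Red.bc y A).left := Groth.Agent.S0348.result K (Red.bc y A)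
    exact Groth.Agent.Lib.Helper78.FibreIrred.irreducibleSpace_of_homeomorph
      (B := ↥(Red.bc y A).left) h.isoPullback.hom.homeomorph
  exact GeometricallyIntegral.of_geometricallyReduced_of_geometricallyIrreducible A.hom

/-- Let k be an algebraically closed field, A an abelian variety over k (a k-group scheme whose
structure morphism is proper, smooth and geometrically connected) with unit point e, Y a scheme
separated over k and f : A → Y a morphism over k. Write F₀ for the connected component of e in the
fibre f⁻¹(f(e)). Then the k-rational points of F₀ are stable under the group law: if k-points x and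
y of A lie in F₀ then so do the product point x·y and the inverse point x⁻¹. (The published
statement is for Y a k-variety and concludes that F₀ with its reduced structure is an abelian
subvariety, together with the translation formula F_a = a + F₀; this row records the closure of
F₀(k) under multiplication and inversion, for Y merely separated over k.) -/
theorem result (k : Type u) [Field k] [IsAlgClosed k]
    (A : Over (Spec (CommRingCat.of k))) [GrpObj A] [IsProper A.hom] [Smooth A.hom] [GeometricallyConnected A.hom]
    {Y : Scheme.{u}} (q : Y ⟶ Spec (CommRingCat.of k)) [IsSeparated q] (f : A.left ⟶ Y) (hf : f ≫ q = A.hom)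
    (x y : 𝟙_ (Over (Spec (CommRingCat.of k))) ⟶ A)
    (hx : x.left (IsLocalRing.closedPoint k) ∈
      connectedComponentIn (f ⁻¹' {f (η[A].left (IsLocalRing.closedPoint k))}) (η[A].left (IsLocalRing.closedPoint k)))
    (hy : y.left (IsLocalRing.closedPoint k) ∈
      connectedComponentIn (f ⁻¹' {f (η[A].left (IsLocalRing.closedPoint k))}) (η[A].left (IsLocalRing.closedPoint k))) :
    (lift x y ≫ μ[A]).left (IsLocalRing.closedPoint k) ∈
        connectedComponentIn (f ⁻¹' {f (η[A].left (IsLocalRing.closedPoint k))}) (η[A].left (IsLocalRing.closedPoint k)) ∧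
      (x ≫ ι[A]).left (IsLocalRing.closedPoint k) ∈
        connectedComponentIn (f ⁻¹' {f (η[A].left (IsLocalRing.closedPoint k))}) (η[A].left (IsLocalRing.closedPoint k)) := by
  have hint : GeometricallyIntegral A.hom :=
    geometricallyIntegral_of_smooth_of_geometricallyConnected k A
  set pt := IsLocalRing.closedPoint k with hpt
  set e := η[A].left pt with he
  set F₀ := connectedComponentIn (f ⁻¹' {f e}) e with hF₀
  -- translation by a point of `F₀` preserves `F₀`
  have key : ∀ v : 𝟙_ (Over (Spec (CommRingCat.of k))) ⟶ A, v.left pt ∈ F₀ →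
      (Groth.Agent.Lib.Helper70.RigE.T k A v).left '' F₀ = F₀ := by
    intro v hv
    have h1 := Groth.Agent.Lib.Helper70.RigE.main k A q f hf v pt
    have h2' : v.left pt ∈ f ⁻¹' {f e} := connectedComponentIn_subset _ _ hv
    have h2 : f (v.left pt) = f e := h2'
    rw [h2, ← connectedComponentIn_eq hv] at h1
    exact h1
  have hunit : ∀ v : 𝟙_ (Over (Spec (CommRingCat.of k))) ⟶ A, v ≫ toUnit A = 𝟙 _ :=
    fun v => toUnit_unique _ _
  constructor
  · have h1 : lift x y ≫ μ[A] = y ≫ Groth.Agent.Lib.Helper70.RigE.T k A x := by
      unfold Groth.Agent.Lib.Helper70.RigE.T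
      rw [← Category.assoc, comp_lift, Category.comp_id, ← Category.assoc, hunit y,
        Category.id_comp]
    rw [h1, ← key x hx]
    exact ⟨y.left pt, hy, rfl⟩
  · have h1 : (x ≫ ι[A]) ≫ Groth.Agent.Lib.Helper70.RigE.T k A x = η[A] := by
      unfold Groth.Agent.Lib.Helper70.RigE.T
      rw [← Category.assoc, comp_lift, Category.comp_id, ← Category.assoc (x ≫ ι[A]),
        hunit (x ≫ ι[A]), Category.id_comp]
      have h2 : lift x (x ≫ ι[A]) = x ≫ lift (𝟙 A) ι[A] := by
        rw [comp_lift, Category.comp_id]
      rw [h2, Category.assoc, GrpObj.right_inv, ← Category.assoc, hunit x, Category.id_comp]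
    have h3 : e ∈ (Groth.Agent.Lib.Helper70.RigE.T k A x).left '' F₀ := by
      rw [key x hx]
      exact mem_connectedComponentIn rfl
    obtain ⟨z, hz, hze⟩ := h3
    have h4 : (Groth.Agent.Lib.Helper70.RigE.T k A x).left ((x ≫ ι[A]).left pt) = e := by
      have := congr(($h1).left pt)
      exact this
    have hinv : Groth.Agent.Lib.Helper70.RigE.T k A x ≫ Groth.Agent.Lib.Helper70.RigE.T k A x⁻¹ =
        𝟙 A := by
      have := Groth.Agent.Lib.Helper70.RigE.T_inv_comp_T k A x⁻¹
      rwa [_root_.inv_inv] at this
    have hinj : Function.Injective (Groth.Agent.Lib.Helper70.RigE.T k A x).left := by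
      intro a b hab
      have h5 : (Groth.Agent.Lib.Helper70.RigE.T k A x⁻¹).left
          ((Groth.Agent.Lib.Helper70.RigE.T k A x).left a) = a := congr(($hinv).left a)
      have h6 : (Groth.Agent.Lib.Helper70.RigE.T k A x⁻¹).left
          ((Groth.Agent.Lib.Helper70.RigE.T k A x).left b) = b := congr(($hinv).left b)
      rw [← h5, ← h6, hab]
    have h7 : z = (x ≫ ι[A]).left pt := hinj (hze.trans h4.symm)
    rw [← h7]
    exact hz

end Groth.Agent.S19533
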