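import Groth.Statements.S1954
-- import your own Groth.Agent.* helpers here
import Groth.Agent.Lib.Helper85.IntMult.ClosedStalk
import Groth.Agent.Lib.Helper85.IntMult.SerreFormulaLoc
import Groth.Agent.Lib.Helper85.IntMult.SmoothStalk
import Groth.Agent.Lib.Helper85.IntMult.RegPair
import Groth.Agent.Lib.Helper85.IntMult.CMPair
import Groth.Agent.Lib.Helper28.RegularCM
import Groth.Agent.S1899
import Groth.Agent.S0019

set_option autoImplicit false
universe u
open CategoryTheory CategoryTheory.Limits AlgebraicGeometry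
attribute [local instance] HasDerivedCategory.standard
open IntMult

namespace Groth.Agent.S1954

/-- Let Y, Z → X be closed immersions into a nonsingular variety with δ ≤ r on Y and δ ≤ s on Z, such
that [Y]_r and [Z]_s intersect properly, and let τ be a point of δ-dimension r + s − n lying under Y
and Z (the generic point of a component of the intersection of components of dimension r and s) at
which the scheme-theoretic intersection Y ×_X Z has multiplicity 1 (its local ring there has length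
1). Then the coefficient of the closure of τ in [Y]_r · [Z]_s is 1, and the local rings of Y and Z
at the points over τ are regular. (The published statement has further parts, not restated here.)
Here X is a nonsingular variety over the algebraically closed field K (smooth, separated,
quasi-compact, integral) with dimension function δ (transcendence degree) and n = dim X; cycles are
Mathlib AlgebraicCycles with Cyc.Zk membership, proper intersection is IntMult.IntersectProperly and
α · β is the Tor-formula intersection product on coefficient functions (IntMult.interProd), bundled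
where needed as 'any cycle with these coefficients'. -/
theorem result (K : Type u) [Field K] [IsAlgClosed K] (X : Scheme.{u}) (f : X ⟶ Spec (CommRingCat.of K)) [Smooth f] [IsSeparated f] [QuasiCompact f] [IsIntegral X] (δ : X → ℤ) (hX : Cyc.IsSetup X δ) (hδ : Cyc.DeltaCompat f δ (fun _ => 0)) (n : ℤ) (hn : δ (genericPoint X) = n) (Y Z : Scheme.{u}) (ιY : Y ⟶ X) (ιZ : Z ⟶ X) [IsClosedImmersion ιY] [IsClosedImmersion ιZ] (r s : ℤ) (hY : ∀ y : Y, δ (ιY y) ≤ r) (hZ : ∀ z : Z, δ (ιZ z) ≤ s) (hprop : IntMult.IntersectProperly δ n (Cyc.subschemeFun δ r ιY) (Cyc.subschemeFun δ s ιZ)) (τ : X) (hτ : δ τ = r + s - n) (hξ : ∃ ξ η : X, Cyc.subschemeFun δ r ιY ξ ≠ 0 ∧ Cyc.subschemeFun δ s ιZ η ≠ 0 ∧ ξ ⤳ τ ∧ η ⤳ τ) (hmult : Cyc.subschemeFun δ (r + s - n) (pullback.fst ιY ιZ ≫ ιY) τ = 1) : IntMult.interProd δ n (Cyc.subschemeFun δ r ιY) (Cyc.subschemeFun δ s ιZ) τ = 1 ∧ (∀ y : Y, ιY y = τ → IsRegularLocalRing (Y.presheaf.stalk y)) ∧ (∀ z : Z, ιZ z = τ → IsRegularLocalRing (Z.presheaf.stalk z)) :=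 by
  classical
  have hX' := hX
  obtain ⟨hN, -, hdim⟩ := hX
  have : IsLocallyNoetherian X := hN
  -- the structure sheaves of `Y` and `Z` as coherent modules on `X`
  have hFcoh : Coh.IsCoh ((Coh.push ιY).obj (Coh.structureModule Y)) :=
    Groth.Agent.S0019.result ιY _ (Groth.Agent.Lib.Helper45.RefHullStalk.isCoh_structureModule Y)
  have hGcoh : Coh.IsCoh ((Coh.push ιZ).obj (Coh.structureModule Z)) :=
    Groth.Agent.S0019.result ιZ _ (Groth.Agent.Lib.Helper45.RefHullStalk.isCoh_structureModule Z)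
  have hYF := Groth.Agent.S1899.result X Y δ hX' ιY r hY
  have hZG := Groth.Agent.S1899.result X Z δ hX' ιZ s hZ
  have hFq : ((Coh.push ιY).obj (Coh.structureModule Y)).IsQuasicoherent := hFcoh.1
  have hGq : ((Coh.push ιZ).obj (Coh.structureModule Z)).IsQuasicoherent := hGcoh.1
  have hr : ∀ x : X, Nontrivial (((Coh.push ιY).obj (Coh.structureModule Y)).presheaf.stalk x) →
      δ x ≤ r := by
    intro x hx
    by_cases hxr : x ∈ Set.range ιY
    · obtain ⟨y', rfl⟩ := hxr
      exact hY y'
    · exact absurd (Groth.Agent.Lib.Helper49.ProperSupport.subsingleton_stalk_pushforward ιY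
        (Coh.structureModule Y) x hxr) (not_subsingleton_iff_nontrivial.mpr hx)
  have hs : ∀ x : X, Nontrivial (((Coh.push ιZ).obj (Coh.structureModule Z)).presheaf.stalk x) →
      δ x ≤ s := by
    intro x hx
    by_cases hxr : x ∈ Set.range ιZ
    · obtain ⟨z', rfl⟩ := hxr
      exact hZ z'
    · exact absurd (Groth.Agent.Lib.Helper49.ProperSupport.subsingleton_stalk_pushforward ιZ
        (Coh.structureModule Z) x hxr) (not_subsingleton_iff_nontrivial.mpr hx)
  -- nonvanishing coefficients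
  have hcoef : ∀ (H : X.Modules) (k : ℤ) (ξ : X), Cyc.sheafFun δ k H ξ ≠ 0 →
      δ ξ = k ∧ Nontrivial (H.presheaf.stalk ξ) := by
    intro H k ξ hne
    have h1 : δ ξ = k := by
      by_contra h
      exact hne (by unfold Cyc.sheafFun; rw [if_neg h])
    refine ⟨h1, ?_⟩
    by_contra hcon
    rw [not_nontrivial_iff_subsingleton] at hcon
    apply hne
    unfold Cyc.sheafFun
    rw [if_pos h1, Module.length_eq_zero_iff.mpr hcon]
    simp
  -- the point of the intersection over `τ`
  have hinj : Function.Injective (pullback.fst ιY ιZ ≫ ιY) :=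
    (pullback.fst ιY ιZ ≫ ιY).isClosedEmbedding.injective
  obtain ⟨w, hw, hlen⟩ : ∃ w : ↑(pullback ιY ιZ), (pullback.fst ιY ιZ ≫ ιY) w = τ ∧
      Module.length ((pullback ιY ιZ).presheaf.stalk w) ((pullback ιY ιZ).presheaf.stalk w) = 1 := by
    unfold Cyc.subschemeFun at hmult
    rw [if_pos hτ] at hmult
    have hne : ({w : ↑(pullback ιY ιZ) | (pullback.fst ιY ιZ ≫ ιY) w = τ}).Nonempty := by
      by_contra hcon
      rw [Set.not_nonempty_iff_eq_empty] at hcon
      rw [hcon, finsum_mem_empty] at hmult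
      exact zero_ne_one hmult
    obtain ⟨w, hw⟩ := hne
    have hset : {w' : ↑(pullback ιY ιZ) | (pullback.fst ιY ιZ ≫ ιY) w' = τ} = {w} := by
      ext w'
      simp only [Set.mem_setOf_eq, Set.mem_singleton_iff]
      constructor
      · intro h
        exact hinj (h.trans hw.symm)
      · rintro rfl
        exact hw
    rw [hset, finsum_mem_singleton] at hmult
    refine ⟨w, hw, ?_⟩
    have h1 : (Module.length ((pullback ιY ιZ).presheaf.stalk w)
        ((pullback ιY ιZ).presheaf.stalk w)).toNat = 1 := by exact_mod_cast hmult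
    exact (ENat.toNat_eq_iff one_ne_zero).mp h1
  have hfield : IsField ((pullback ιY ιZ).presheaf.stalk w) := by
    have h1 := Module.length_eq_one_iff.mp hlen
    exact Ring.isField_iff_isSimpleOrder_ideal.mpr ((isSimpleModule_iff _ _).mp h1)
  have hy : ιY (pullback.fst ιY ιZ w) = τ := hw
  have hz : ιZ (pullback.snd ιY ιZ w) = τ := by
    have h1 : (pullback.snd ιY ιZ ≫ ιZ) w = τ := by
      rw [← pullback.condition]
      exact hw
    exact h1
  -- the two ideals
  have hPQ := Groth.Agent.Lib.Helper85.ClosedStalk.stalkKer_sup_eq ιY ιZ w τ hy hz hfield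
  obtain ⟨eF⟩ := Groth.Agent.Lib.Helper85.ClosedStalk.nonempty_stalk_push_equiv ιY
    (pullback.fst ιY ιZ w) τ hy
  obtain ⟨eG⟩ := Groth.Agent.Lib.Helper85.ClosedStalk.nonempty_stalk_push_equiv ιZ
    (pullback.snd ιY ιZ w) τ hz
  obtain ⟨ρY⟩ := Groth.Agent.Lib.Helper85.ClosedStalk.nonempty_ringEquiv ιY
    (pullback.fst ιY ιZ w) τ hy
  obtain ⟨ρZ⟩ := Groth.Agent.Lib.Helper85.ClosedStalk.nonempty_ringEquiv ιZ
    (pullback.snd ιY ιZ w) τ hz
  set P := Groth.Agent.Lib.Helper85.ClosedStalk.stalkKer ιY (pullback.fst ιY ιZ w) τ hy with hPdef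
  set Q := Groth.Agent.Lib.Helper85.ClosedStalk.stalkKer ιZ (pullback.snd ιY ιZ w) τ hz with hQdef
  have hAnnF : Module.annihilator (X.presheaf.stalk τ)
      (((Coh.push ιY).obj (Coh.structureModule Y)).presheaf.stalk τ) = P := by
    rw [eF.annihilator_eq, Ideal.annihilator_quotient]
  have hAnnG : Module.annihilator (X.presheaf.stalk τ)
      (((Coh.push ιZ).obj (Coh.structureModule Z)).presheaf.stalk τ) = Q := by
    rw [eG.annihilator_eq, Ideal.annihilator_quotient]
  -- the local ring of `X` at `τ`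
  have hreg : IsRegularLocalRing (X.presheaf.stalk τ) :=
    Groth.Agent.Lib.Helper85.SmoothStalk.isRegularLocalRing_stalk K X f τ
  have : IsDomain (X.presheaf.stalk τ) := inferInstance
  have hA : ringKrullDim (X.presheaf.stalk τ) = (((n - δ τ).toNat : ℕ) : WithBot ℕ∞) := by
    set p₀ : PrimeSpectrum (X.presheaf.stalk τ) := ⟨⊥, Ideal.isPrime_bot⟩ with hp₀
    have h1 := Groth.Agent.Lib.Helper85.SerreFormula.ringKrullDim_quotient_eq δ hdim τ p₀
    have h2 : Groth.Agent.Lib.Helper55.stalkPoint τ p₀ = genericPoint X := by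
      obtain ⟨𝔭, h𝔭⟩ := Groth.Agent.Lib.Helper55.exists_stalkPoint_eq τ (genericPoint X)
        (genericPoint_specializes τ)
      have h3 : Groth.Agent.Lib.Helper55.stalkPoint τ p₀ ⤳
          Groth.Agent.Lib.Helper55.stalkPoint τ 𝔭 :=
        (Groth.Agent.Lib.Helper55.stalkPoint_specializes_iff τ p₀ 𝔭).mpr
          (show p₀.asIdeal ≤ 𝔭.asIdeal from bot_le)
      rw [h𝔭] at h3
      exact (h3.antisymm (genericPoint_specializes _)).eq
    rw [h2, hn] at h1
    rw [← h1]
    exact (ringKrullDim_eq_of_ringEquiv (RingEquiv.quotientBot (X.presheaf.stalk τ))).symm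
  -- dimensions of the two quotients
  obtain ⟨ξ, η, hξ1, hη1, hξτ, hητ⟩ := hξ
  rw [hYF] at hξ1
  rw [hZG] at hη1
  obtain ⟨hξr, hξnt⟩ := hcoef _ r ξ hξ1
  obtain ⟨hηs, hηnt⟩ := hcoef _ s η hη1
  have hτr : δ τ ≤ r := by
    rw [← hξr]
    exact Groth.Agent.Lib.Helper89.DimFunJacobson.delta_le_of_specializes X δ hdim hξτ
  have hτs : δ τ ≤ s := by
    rw [← hηs]
    exact Groth.Agent.Lib.Helper89.DimFunJacobson.delta_le_of_specializes X δ hdim hητ
  have hFfin := Groth.Agent.Lib.Helper12.QuasiFlat.finite_stalk_of_isCoh _ hFcoh τ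
  have hGfin := Groth.Agent.Lib.Helper12.QuasiFlat.finite_stalk_of_isCoh _ hGcoh τ
  have hdimP : (((r - δ τ).toNat : ℕ) : WithBot ℕ∞) ≤ ringKrullDim (X.presheaf.stalk τ ⧸ P) := by
    obtain ⟨𝔭, rfl⟩ := Groth.Agent.Lib.Helper55.exists_stalkPoint_eq τ ξ hξτ
    have h1 := (Groth.Agent.Lib.Helper85.SerreFormula.nontrivial_stalk_iff τ _ 𝔭).mp hξnt
    rw [Module.mem_support_iff_of_finite, hAnnF] at h1
    have h2 := Groth.Agent.Lib.Helper85.SerreFormula.ringKrullDim_quotient_eq δ hdim τ 𝔭
    rw [hξr] at h2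
    rw [← h2]
    exact ringKrullDim_le_of_surjective (Ideal.Quotient.factor h1)
      (Ideal.Quotient.factor_surjective h1)
  have hdimQ : (((s - δ τ).toNat : ℕ) : WithBot ℕ∞) ≤ ringKrullDim (X.presheaf.stalk τ ⧸ Q) := by
    obtain ⟨𝔭, rfl⟩ := Groth.Agent.Lib.Helper55.exists_stalkPoint_eq τ η hητ
    have h1 := (Groth.Agent.Lib.Helper85.SerreFormula.nontrivial_stalk_iff τ _ 𝔭).mp hηnt
    rw [Module.mem_support_iff_of_finite, hAnnG] at h1
    have h2 := Groth.Agent.Lib.Helper85.SerreFormula.ringKrullDim_quotient_eq δ hdim τ 𝔭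
    rw [hηs] at h2
    rw [← h2]
    exact ringKrullDim_le_of_surjective (Ideal.Quotient.factor h1)
      (Ideal.Quotient.factor_surjective h1)
  have hdimineq : ringKrullDim (X.presheaf.stalk τ) ≤
      ringKrullDim (X.presheaf.stalk τ ⧸ P) + ringKrullDim (X.presheaf.stalk τ ⧸ Q) := by
    rw [hA]
    have h1 : (n - δ τ).toNat = (r - δ τ).toNat + (s - δ τ).toNat := by omega
    rw [h1]
    push_cast
    exact add_le_add hdimP hdimQ
  obtain ⟨hregP, hregQ, -⟩ :=
    Groth.Agent.Lib.Helper85.RegPair.regular_of_sup_eq_maximalIdeal P Q hPQ hdimineq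
  refine ⟨?_, ?_, ?_⟩
  · -- the coefficient
    rw [hYF, hZG]
    have hfl : Groth.Agent.Lib.Helper85.ChiAdd.FL (X.presheaf.stalk τ)
        (((Coh.push ιY).obj (Coh.structureModule Y)).presheaf.stalk τ)
        (((Coh.push ιZ).obj (Coh.structureModule Z)).presheaf.stalk τ) := by
      refine ⟨1, ?_⟩
      rw [hAnnF, hAnnG, pow_one, hPQ]
    rw [Groth.Agent.Lib.Helper85.SerreFormula.interProd_eq_chi_of_fl δ hdim τ _ _ hFcoh hGcoh
      n r s hr hs hτ hfl hA
      (fun P' Q' hP' hQ' hfl' hd =>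
        Groth.Agent.Lib.Helper85.SmoothStalk.chi_eq_zero K X f τ P' Q' hP'.ne_top hQ'.ne_top hfl' hd)
      hτr hτs]
    rw [Groth.Agent.Lib.Helper85.ChiAssoc.chi_congr eF eG]
    have hCMP : LocCoh.IsCohenMacaulayLocalRing (X.presheaf.stalk τ ⧸ P) :=
      Groth.Agent.Lib.Helper28.isCohenMacaulayLocalRing_of_isRegularLocalRing _
    have hCMQ : LocCoh.IsCohenMacaulayLocalRing (X.presheaf.stalk τ ⧸ Q) :=
      Groth.Agent.Lib.Helper28.isCohenMacaulayLocalRing_of_isRegularLocalRing _
    have hdimineq' : ringKrullDim (X.presheaf.stalk τ) ≤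
        ringKrullDim (X.presheaf.stalk τ ⧸ Q) + ringKrullDim (X.presheaf.stalk τ ⧸ P) := by
      rw [add_comm]
      exact hdimineq
    have hQP : Q ⊔ P = IsLocalRing.maximalIdeal (X.presheaf.stalk τ) := by
      rw [sup_comm]
      exact hPQ
    rw [Groth.Agent.Lib.Helper85.IntMultAlg.intMult_chi_eq_length_of_cm Q P
      ⟨1, by rw [pow_one, hQP]⟩ hdimineq', hQP]
    have hsimple : IsSimpleModule (X.presheaf.stalk τ)
        (X.presheaf.stalk τ ⧸ IsLocalRing.maximalIdeal (X.presheaf.stalk τ)) :=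
      isSimpleModule_iff_isCoatom.mpr
        (Ideal.isMaximal_def.mp (IsLocalRing.maximalIdeal.isMaximal _))
    rw [Module.length_eq_one]
    rfl
  · intro y' hy'
    have h1 : y' = pullback.fst ιY ιZ w :=
      ιY.isClosedEmbedding.injective (hy'.trans hy.symm)
    subst h1
    exact IsRegularLocalRing.of_ringEquiv ρY.symm
  · intro z' hz'
    have h1 : z' = pullback.snd ιY ιZ w :=
      ιZ.isClosedEmbedding.injective (hz'.trans hz.symm)
    subst h1
    exact IsRegularLocalRing.of_ringEquiv ρZ.symm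

end Groth.Agent.S1954
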