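import Groth.Statements.S19540
import Mathlib

set_option autoImplicit false
open CategoryTheory CategoryTheory.Limits Opposite
universe w v u
open CohSite

namespace Groth.Agent.S19540

section Aux

variable {C : Type u} [Category.{v} C] (J : GrothendieckTopology C) [HasSheafify J AddCommGrpCat.{w}]
    [J.WEqualsLocallyBijective AddCommGrpCat.{w}]

/-- sections over `U` -/
abbrev secF (U : C) : Sheaf J AddCommGrpCat.{w} ⥤ AddCommGrpCat.{w} :=
  sheafToPresheaf J AddCommGrpCat.{w} ⋙ (evaluation Cᵒᵖ AddCommGrpCat.{w}).obj (op U)

variable {J}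

theorem ker_sections (S : ShortComplex (Sheaf J AddCommGrpCat.{w})) (V : C)
    (x : S.X₂.obj.obj (op V)) (hx : S.g.hom.app (op V) x = 0) :
    ∃ k : (kernel S.g).obj.obj (op V), (kernel.ι S.g).hom.app (op V) k = x := by
  let T : ShortComplex (Sheaf J AddCommGrpCat.{w}) :=
    ShortComplex.mk (kernel.ι S.g) S.g (kernel.condition _)
  have hT : T.Exact := ShortComplex.exact_of_f_is_kernel _ (kernelIsKernel S.g)
  have hT' : (T.map (secF J V)).Exact :=
    hT.map_of_mono_of_preservesKernel (secF J V) (inferInstanceAs (Mono (kernel.ι S.g))) inferInstance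
  rw [ShortComplex.ab_exact_iff] at hT'
  exact hT' x hx

theorem ker_ι_injective (S : ShortComplex (Sheaf J AddCommGrpCat.{w})) (V : C) :
    Function.Injective ((kernel.ι S.g).hom.app (op V)) := by
  have : Mono ((secF J V).map (kernel.ι S.g)) := inferInstance
  exact (AddCommGrpCat.mono_iff_injective _).1 this

end Aux

/-- Let (C, J) be a site and B a class of objects of C, each weakly contractible (every epimorphism of
sheaves of sets, valued in a fixed universe, is surjective on sections over it), such that every
object V of C has a covering sieve all of whose arrows factor through some object of B. Then a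
three-term complex F ⟶ G ⟶ H of abelian sheaves on (C, J) is exact if and only if for every U in B
the sequence of section groups F(U) ⟶ G(U) ⟶ H(U) is exact. (The published statement is for sheaves
of modules over a sheaf of rings O; this row is the case of the constant sheaf of rings ℤ, i.e.
abelian sheaves, to which exactness questions for O-modules reduce. The universe set-up assumes that
abelian sheafification exists and inverts exactly the locally bijective maps, as on any small site.) -/
theorem result
    {C : Type u} [Category.{v} C] (J : GrothendieckTopology C) [HasSheafify J AddCommGrpCat.{w}]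
    [J.WEqualsLocallyBijective AddCommGrpCat.{w}]
    (B : C → Prop)
    (hB : ∀ U : C, B U → ∀ (P Q : Sheaf J (Type w)) (ψ : P ⟶ Q), Epi ψ → Function.Surjective (ψ.hom.app (op U)))
    (hcov : ∀ V : C, ∃ S : Sieve V, S ∈ J V ∧ ∀ ⦃W : C⦄ (f : W ⟶ V), S.arrows f →
      ∃ (U : C) (g : W ⟶ U) (h : U ⟶ V), B U ∧ g ≫ h = f)
    (S : ShortComplex (Sheaf J AddCommGrpCat.{w})) :
    S.Exact ↔ ∀ U : C, B U →
      (S.map (sheafToPresheaf J AddCommGrpCat.{w} ⋙ (evaluation Cᵒᵖ AddCommGrpCat.{w}).obj (op U))).Exact := by
  have hex : S.Exact ↔ Epi (kernel.lift S.g S.f S.zero) := S.exact_iff_epi_kernel_lift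
  have hκ : ∀ (V : C) (y : S.X₁.obj.obj (op V)),
      (kernel.ι S.g).hom.app (op V) ((kernel.lift S.g S.f S.zero).hom.app (op V) y) =
        S.f.hom.app (op V) y := by
    intro V y
    have h1 : kernel.lift S.g S.f S.zero ≫ kernel.ι S.g = S.f := kernel.lift_ι _ _ _
    have h2 := congrArg (fun φ => (secF J V).map φ) h1
    simp only [Functor.map_comp] at h2
    exact ConcreteCategory.congr_hom h2 y
  constructor
  · intro hS U hU
    rw [ShortComplex.ab_exact_iff]
    intro x hx
    obtain ⟨k, hk⟩ := ker_sections S U x hx
    have hepi : Epi (kernel.lift S.g S.f S.zero) := hex.1 hS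
    have hls : Sheaf.IsLocallySurjective (kernel.lift S.g S.f S.zero) :=
      (Sheaf.isLocallySurjective_iff_epi' AddCommGrpCat.{w} (kernel.lift S.g S.f S.zero)).2 hepi
    have hepi' : Epi ((sheafCompose J (forget AddCommGrpCat.{w})).map
        (kernel.lift S.g S.f S.zero)) := inferInstance
    obtain ⟨y, hy⟩ := hB U hU _ _ _ hepi' k
    refine ⟨y, ?_⟩
    have := hκ U y
    change S.f.hom.app (op U) y = x
    rw [← hk, ← this]
    exact congrArg _ hy
  · intro h
    rw [hex]
    suffices hls : Sheaf.IsLocallySurjective (kernel.lift S.g S.f S.zero) from inferInstance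
    refine ⟨fun {V} k => ?_⟩
    obtain ⟨S₀, hS₀, hfac⟩ := hcov V
    refine J.superset_covering ?_ hS₀
    intro W f hf
    obtain ⟨U, g', h', hU, hgh⟩ := hfac f hf
    have hexU := h U hU
    rw [ShortComplex.ab_exact_iff] at hexU
    have hιg : ∀ (X : C) (z : (kernel S.g).obj.obj (op X)),
        S.g.hom.app (op X) ((kernel.ι S.g).hom.app (op X) z) = 0 := by
      intro X z
      have h1 : kernel.ι S.g ≫ S.g = 0 := kernel.condition _
      have h2 := congrArg (fun φ => (secF J X).map φ) h1
      simp only [Functor.map_comp] at h2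
      exact ConcreteCategory.congr_hom h2 z
    obtain ⟨y0, hy0⟩ := hexU ((kernel.ι S.g).hom.app (op U) ((kernel S.g).obj.map h'.op k))
      (hιg U _)
    let y : S.X₁.obj.obj (op U) := y0
    have hy : S.f.hom.app (op U) y =
        (kernel.ι S.g).hom.app (op U) ((kernel S.g).obj.map h'.op k) := hy0
    have hy' : (kernel.lift S.g S.f S.zero).hom.app (op U) y = (kernel S.g).obj.map h'.op k := by
      apply ker_ι_injective S U
      exact (hκ U y).trans hy
    refine ⟨S.X₁.obj.map g'.op y, ?_⟩
    have hnat := NatTrans.naturality_apply (kernel.lift S.g S.f S.zero).hom g'.op y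
    rw [hnat, hy', ← hgh, op_comp, Functor.map_comp]
    rfl

end Groth.Agent.S19540
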