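import Groth.Statements.S19541
import Mathlib
import Groth.Agent.Lib.Helper14.EtaleNhd
import Groth.Agent.Lib.Helper78.Birational
import Groth.Agent.Lib.Helper78.SmoothNormalField
import Groth.Agent.Lib.Helper61.QFSlice

set_option autoImplicit false
universe u
open CategoryTheory CategoryTheory.Limits AlgebraicGeometry TopologicalSpace
open Curves

namespace Groth.Agent.S19541

section helpers

/-- A local homomorphism from a local domain of dimension `≤ 1` to a local domain that is not a
field, carrying the maximal ideal to a generating set of the maximal ideal, is injective. -/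
theorem injective_of_map_maximalIdeal {A B : Type*} [CommRing A] [CommRing B] [IsDomain A]
    [IsDomain B] [IsLocalRing A] [IsLocalRing B] [Algebra A B]
    (hd : ringKrullDim A ≤ 1)
    (hm : (IsLocalRing.maximalIdeal A).map (algebraMap A B) = IsLocalRing.maximalIdeal B)
    (hB : IsLocalRing.maximalIdeal B ≠ ⊥) : Function.Injective (algebraMap A B) := by
  rw [RingHom.injective_iff_ker_eq_bot]
  by_contra hne
  have hprime : (RingHom.ker (algebraMap A B)).IsPrime := RingHom.ker_isPrime _
  have h1 : Ring.KrullDimLE 1 A := Ring.krullDimLE_iff.mpr (by exact_mod_cast hd)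
  have h2 := Ring.krullDimLE_one_iff_of_noZeroDivisors.mp h1
  have hmax := h2 _ hne hprime
  have hk := IsLocalRing.eq_maximalIdeal hmax
  apply hB
  rw [← hm, ← hk, Ideal.map_eq_bot_iff_le_ker]

set_option linter.overlappingInstances false in
/-- Flatness over a valuation ring of dimension `≤ 1`. -/
theorem flat_of_map_maximalIdeal {A B : Type*} [CommRing A] [CommRing B] [IsDomain A]
    [IsDomain B] [IsLocalRing A] [IsLocalRing B] [Algebra A B] [ValuationRing A]
    (hd : ringKrullDim A ≤ 1)
    (hm : (IsLocalRing.maximalIdeal A).map (algebraMap A B) = IsLocalRing.maximalIdeal B)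
    (hB : IsLocalRing.maximalIdeal B ≠ ⊥) : Module.Flat A B := by
  have hinj := injective_of_map_maximalIdeal hd hm hB
  have : Module.IsTorsionFree A B := Module.isTorsionFree_iff_algebraMap_injective.mpr hinj
  rw [Module.Flat.flat_iff_torsion_eq_bot_of_isBezout,
    ← Submodule.isTorsionFree_iff_torsion_eq_bot]
  infer_instance

/-- At a closed point of an integral scheme of dimension one the local ring is not a field. -/
theorem maximalIdeal_stalk_ne_bot {X : Scheme.{u}} [IsIntegral X]
    (hdX : topologicalKrullDim X = 1) (x : X) (hx : IsClosed ({x} : Set X)) :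
    IsLocalRing.maximalIdeal (X.presheaf.stalk x) ≠ ⊥ := by
  intro hbot
  have hgen : genericPoint X ∈ Set.range (X.fromSpecStalk x) := by
    rw [Scheme.range_fromSpecStalk]
    exact genericPoint_specializes x
  obtain ⟨p, hp⟩ := hgen
  have hp' : p = IsLocalRing.closedPoint (X.presheaf.stalk x) := by
    apply PrimeSpectrum.ext
    have hle : p.asIdeal ≤ IsLocalRing.maximalIdeal _ :=
      IsLocalRing.le_maximalIdeal p.isPrime.ne_top
    rw [hbot] at hle
    change p.asIdeal = IsLocalRing.maximalIdeal _
    rw [hbot, le_bot_iff.mp hle]
  have hgx : genericPoint X = x := by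
    rw [← hp, hp', Scheme.fromSpecStalk_closedPoint]
  have huniv : ({x} : Set X) = Set.univ := by
    rw [← hx.closure_eq, ← hgx, genericPoint_closure]
  have hsub : Subsingleton X := by
    refine ⟨fun a b => ?_⟩
    have ha : a ∈ ({x} : Set X) := huniv ▸ Set.mem_univ a
    have hb : b ∈ ({x} : Set X) := huniv ▸ Set.mem_univ b
    rw [Set.mem_singleton_iff.mp ha, Set.mem_singleton_iff.mp hb]
  have h0 := topologicalKrullDim_zero_of_discreteTopology X
  rw [hdX] at h0
  exact absurd h0 (by decide)

/-- The residue fields of `Spec k` are algebraically closed when `k` is. -/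
theorem isAlgClosed_residueField_Spec (k : Type u) [Field k] [IsAlgClosed k]
    (s : Spec (CommRingCat.of k)) :
    IsAlgClosed ((Spec (CommRingCat.of k)).residueField s) := by
  have : s.asIdeal.IsPrime := s.isPrime
  let _ : Algebra k ((Spec (CommRingCat.of k)).presheaf.stalk s) :=
    StructureSheaf.stalkAlgebra (CommRingCat.of k) s
  have : IsLocalization.AtPrime ((Spec (CommRingCat.of k)).presheaf.stalk s) s.asIdeal :=
    StructureSheaf.IsLocalization.to_stalk (CommRingCat.of k) s
  have hM : s.asIdeal.primeCompl ≤ IsUnit.submonoid k := by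
    intro a ha
    have h0 : a ≠ 0 := by
      rintro rfl
      exact ha (zero_mem _)
    exact (isUnit_iff_ne_zero.mpr h0)
  have e : k ≃ₐ[k] (Spec (CommRingCat.of k)).presheaf.stalk s :=
    IsLocalization.atUnits k s.asIdeal.primeCompl (fun a ha ↦ hM ha)
  let f : k →+* (Spec (CommRingCat.of k)).residueField s :=
    (IsLocalRing.residue ((Spec (CommRingCat.of k)).presheaf.stalk s)).comp e.toRingEquiv.toRingHom
  have hf : Function.Surjective f :=
    (IsLocalRing.residue_surjective).comp e.surjective
  exact IsAlgClosed.of_ringEquiv k _ (RingEquiv.ofBijective f ⟨f.injective, hf⟩)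

/-- At a closed point of a scheme locally of finite type over an algebraically closed field, the
residue field is the ground field, so every residue field map of a `k`-morphism is surjective. -/
theorem surjective_residueFieldMap (k : Type u) [Field k] [IsAlgClosed k] {X Y : Scheme.{u}}
    (pY : Y ⟶ Spec (CommRingCat.of k)) (φ : X ⟶ Y) [LocallyOfFiniteType (φ ≫ pY)]
    (x : X) (hx : IsClosed ({x} : Set X)) :
    Function.Surjective (φ.residueFieldMap x).hom := by
  have hfin : ((φ ≫ pY).residueFieldMap x).hom.Finite :=
    Groth.Agent.Lib.Helper61.QFSlice.finite_residueFieldMap_of_isClosed_fibre (φ ≫ pY) x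
      (hx.preimage continuous_subtype_val)
  have hK := isAlgClosed_residueField_Spec k ((φ ≫ pY) x)
  have hsurj : Function.Surjective ((φ ≫ pY).residueFieldMap x).hom := by
    algebraize [((φ ≫ pY).residueFieldMap x).hom]
    have : Module.Finite ((Spec (CommRingCat.of k)).residueField ((φ ≫ pY) x))
        (X.residueField x) := hfin
    exact (IsAlgClosed.algebraMap_bijective_of_isIntegral
      (k := (Spec (CommRingCat.of k)).residueField ((φ ≫ pY) x))).2
  rw [Scheme.residueFieldMap_comp] at hsurj
  intro b
  obtain ⟨a, ha⟩ := hsurj b
  exact ⟨(pY.residueFieldMap (φ x)).hom a, ha⟩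

end helpers

/-- Pointwise criterion for a map of smooth curves to be étale: let k be an algebraically closed field,
X and Y integral schemes each smooth, separated and quasi-compact over Spec k and of dimension one,
φ : X → Y a morphism over k and x a closed point of X. Then φ is étale at x (the restriction of φ to
some open neighbourhood of x is étale) if and only if the induced homomorphism of stalks O_{Y,φ(x)}
→ O_{X,x} carries the maximal ideal of the discrete valuation ring O_{Y,φ(x)} to an ideal generating
the maximal ideal of O_{X,x}; equivalently a uniformiser at φ(x) pulls back to a uniformiser at x.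
(The published statement is for smooth curves, which are in addition geometrically connected;
integrality is what is used. For a constant φ both sides fail.) -/
theorem result (k : Type u) [Field k] [IsAlgClosed k] {X Y : Scheme.{u}}
    (pX : X ⟶ Spec (CommRingCat.of k)) (pY : Y ⟶ Spec (CommRingCat.of k)) (φ : X ⟶ Y) (w : φ ≫ pY = pX)
    [IsIntegral X] [Smooth pX] [IsSeparated pX] [QuasiCompact pX] (hdX : topologicalKrullDim X = 1)
    [IsIntegral Y] [Smooth pY] [IsSeparated pY] [QuasiCompact pY] (hdY : topologicalKrullDim Y = 1)
    (x : X) (hx : IsClosed ({x} : Set X)) :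
    (∃ U : X.Opens, x ∈ U ∧ Etale (U.ι ≫ φ)) ↔
      Ideal.map (φ.stalkMap x).hom (IsLocalRing.maximalIdeal (Y.presheaf.stalk (φ.base x))) =
        IsLocalRing.maximalIdeal (X.presheaf.stalk x) := by
  subst w
  have hφ : LocallyOfFiniteType φ := locallyOfFiniteType_of_comp φ pY
  have hYN : IsLocallyNoetherian Y := LocallyOfFiniteType.isLocallyNoetherian pY
  have hfp : LocallyOfFinitePresentation φ :=
    LocallyOfFinitePresentation.iff_locallyOfFiniteType.mpr inferInstance
  let A := Y.presheaf.stalk (φ.base x)
  let B := X.presheaf.stalk x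
  algebraize [(φ.stalkMap x).hom]
  have hloc : IsLocalHom (algebraMap A B) := inferInstanceAs (IsLocalHom (φ.stalkMap x).hom)
  have hess : Algebra.EssFiniteType A B := by
    rw [← RingHom.essFiniteType_algebraMap, RingHom.algebraMap_toAlgebra]
    exact LocallyOfFiniteType.stalkMap φ x
  constructor
  · rintro ⟨U, hxU, hU⟩
    have hun : (φ.stalkMap x).hom.FormallyUnramified :=
      Groth.Agent.Lib.Helper14.stalkMap_property_of_nhd φ RingHom.FormallyUnramified
        RingHom.FormallyUnramified.respectsIso U ⟨x, hxU⟩
        (FormallyUnramified.stalkMap (U.ι ≫ φ) ⟨x, hxU⟩)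
    have h2 : Algebra.FormallyUnramified A B := hun
    exact Algebra.FormallyUnramified.map_maximalIdeal (R := A) (S := B)
  · intro hm
    have hm' : (IsLocalRing.maximalIdeal A).map (algebraMap A B) = IsLocalRing.maximalIdeal B := hm
    obtain ⟨hdom, hic⟩ :=
      Groth.Agent.Lib.Helper78.isIntegrallyClosed_stalk_of_smooth_field k pY (φ.base x)
    have hdA : ringKrullDim A ≤ 1 :=
      hdY ▸ Groth.Agent.Lib.Helper78.ringKrullDim_stalk_le_topologicalKrullDim Y (φ.base x)
    have hval : ValuationRing A := Groth.Agent.Lib.Helper78.valuationRing_stalk _ hic hdA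
    have hB : IsLocalRing.maximalIdeal B ≠ ⊥ := maximalIdeal_stalk_ne_bot hdX x hx
    have hBdom : IsDomain B := inferInstance
    have hfl : Module.Flat A B := flat_of_map_maximalIdeal hdA hm' hB
    have hres : Function.Surjective
        (algebraMap (IsLocalRing.ResidueField A) (IsLocalRing.ResidueField B)) := by
      intro y
      obtain ⟨a, ha⟩ := surjective_residueFieldMap k pY φ x hx y
      refine ⟨a, ?_⟩
      rw [← ha]
      obtain ⟨a, rfl⟩ := IsLocalRing.residue_surjective a
      rfl
    have hsep : Algebra.IsSeparable (IsLocalRing.ResidueField A) (IsLocalRing.ResidueField B) :=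
      ⟨fun b => by
        obtain ⟨a, rfl⟩ := hres b
        exact isSeparable_algebraMap a⟩
    have hun : Algebra.FormallyUnramified A B := .of_map_maximalIdeal hm'
    exact Groth.Agent.Lib.Helper14.exists_etale_nhd_of_stalkMap φ x hfl hun

end Groth.Agent.S19541
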