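import Groth.Statements.S19544
-- import your own Groth.Agent.* helpers here
import Groth.Agent.Lib.Helper89.SerreGP7

set_option autoImplicit false
universe u
open CAlg

namespace Groth.Agent.S19544

open Groth.Agent.Lib.Helper89 in
/-- Let R be a Noetherian ring of Krull dimension d and P a finitely generated projective R-module of
constant rank n at every prime of R, with n > d. Then P is isomorphic to P₀ ⊕ R^(n-d) for some
module P₀; concretely, P has complementary submodules P₀ and Q with Q free of rank n - d. -/
theorem result (R : Type u) [CommRing R]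
    [IsNoetherianRing R] (d n : ℕ) (hdim : ringKrullDim R = d)
    (P : Type u) [AddCommGroup P] [Module R P] [Module.Finite R P] [Module.Projective R P]
    (hrk : ∀ p : PrimeSpectrum R, Module.rankAtStalk (R := R) P p = n) (hnd : d < n) :
    ∃ (P₀ Q : Submodule R P), IsCompl P₀ Q ∧ Nonempty (Q ≃ₗ[R] (Fin (n - d) → R)) := by
  obtain ⟨P₀, _, _, _, _, _, ⟨e⟩⟩ :=
    SerreGP.exists_equiv_prod_free d n hdim.le P hrk (n - d) le_rfl
  exact SerreGP.exists_isCompl_of_equiv_prod e

end Groth.Agent.S19544
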