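import Groth.Statements.S19547
import Mathlib

set_option autoImplicit false
universe u
open TensorProduct
open Desc

namespace Groth.Agent.S19547

/-- Let A → A' be a faithfully flat homomorphism of commutative rings, M' an A'-module and φ : M' ⊗_A A'
→ A' ⊗_A M' an isomorphism of (A' ⊗_A A')-modules for the diagonal actions (x ⊗ y)(u ⊗ z) = xu ⊗ yz
and (x ⊗ y)(z ⊗ u) = xz ⊗ yu, satisfying the cocycle condition φ_13 = φ_23 ∘ φ_12 between the three
pullbacks to A' ⊗_A A' ⊗_A A'. Here linearity over A' ⊗_A A' is stated on the generators x ⊗ 1 and 1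
⊗ y, and the cocycle condition on pure tensors u ⊗ a ⊗ b: writing φ(u ⊗ a) = Σ a_i ⊗ u_i, it says Σ
a_i ⊗ φ(u_i ⊗ b) = Σ b_j ⊗ a ⊗ u'_j where φ(u ⊗ b) = Σ b_j ⊗ u'_j. Let M = {u ∈ M' : φ(u ⊗ 1) = 1 ⊗
u}, an A-submodule of M'. Then the canonical map λ : A' ⊗_A M → M', x ⊗ u ↦ xu, is an isomorphism. -/
theorem result (A A' : Type u) [CommRing A] [CommRing A']
    [Algebra A A'] [Module.FaithfullyFlat A A'] (M' : Type u) [AddCommGroup M'] [Module A M']
    [Module A' M'] [IsScalarTower A A' M']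
    (φ : M' ⊗[A] A' →ₗ[A] A' ⊗[A] M') (hφ : Function.Bijective φ)
    (h1 : ∀ (x : A') (u : M') (z : A'),
      φ ((x • u) ⊗ₜ[A] z) = LinearMap.rTensor M' (LinearMap.mulLeft A x) (φ (u ⊗ₜ[A] z)))
    (h2 : ∀ (y : A') (u : M') (z : A'),
      φ (u ⊗ₜ[A] (y * z)) = LinearMap.lTensor A' (Algebra.lsmul A A M' y) (φ (u ⊗ₜ[A] z)))
    (hcoc : ∀ (u : M') (a b : A'),
      LinearMap.lTensor A' φ (TensorProduct.assoc A A' M' A' (LinearMap.rTensor A' φ ((u ⊗ₜ[A] a) ⊗ₜ[A] b))) =
        LinearMap.lTensor A' (TensorProduct.mk A A' M' a) (φ (u ⊗ₜ[A] b)))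
    (M : Submodule A M') (hM : ∀ u : M', u ∈ M ↔ φ (u ⊗ₜ[A] (1 : A')) = (1 : A') ⊗ₜ[A] u) :
    Function.Bijective
      ((TensorProduct.lift (Algebra.lsmul A A M').toLinearMap) ∘ₗ (LinearMap.lTensor A' M.subtype)) := by
  classical
  -- θ u = φ (u ⊗ 1)
  let θ : M' →ₗ[A] A' ⊗[A] M' := φ ∘ₗ ((TensorProduct.mk A M' A').flip 1)
  have hθ : ∀ u, θ u = φ (u ⊗ₜ[A] (1 : A')) := fun u => rfl
  let ι : M' →ₗ[A] A' ⊗[A] M' := TensorProduct.mk A A' M' 1
  let δ : M' →ₗ[A] A' ⊗[A] M' := θ - ι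
  have hMker : ∀ u, u ∈ M ↔ δ u = 0 := by
    intro u
    rw [hM u]
    show _ ↔ θ u - ι u = 0
    rw [sub_eq_zero]
    rfl
  have hexact : Function.Exact M.subtype δ := by
    intro u
    constructor
    · intro h
      exact ⟨⟨u, (hMker u).mpr h⟩, rfl⟩
    · rintro ⟨v, rfl⟩
      exact (hMker v).mp v.2
  have hexact' : Function.Exact (LinearMap.lTensor A' M.subtype) (LinearMap.lTensor A' δ) :=
    Module.Flat.lTensor_exact A' hexact
  have hinj : Function.Injective (LinearMap.lTensor A' M.subtype) :=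
    Module.Flat.lTensor_preserves_injective_linearMap _ (Submodule.injective_subtype M)
  set lam : A' ⊗[A] M →ₗ[A] M' :=
    (TensorProduct.lift (Algebra.lsmul A A M').toLinearMap) ∘ₗ (LinearMap.lTensor A' M.subtype) with hlam
  -- θ ∘ λ = inclusion
  have hθlam : θ ∘ₗ lam = LinearMap.lTensor A' M.subtype := by
    apply TensorProduct.ext'
    intro x u
    show φ ((x • (u : M')) ⊗ₜ[A] (1 : A')) = x ⊗ₜ[A] (u : M')
    rw [h1, (hM u).mp u.2]
    simp
  -- θ injective
  have hθinj : Function.Injective θ := by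
    intro u v huv
    have h3 : (u ⊗ₜ[A] (1 : A') : M' ⊗[A] A') = v ⊗ₜ[A] (1 : A') := hφ.1 huv
    have h4 := congrArg (TensorProduct.comm A M' A') h3
    simp only [TensorProduct.comm_tmul] at h4
    have h5 : (1 : A') ⊗ₜ[A] (u - v) = 0 := by rw [TensorProduct.tmul_sub, h4, sub_self]
    rw [Module.FaithfullyFlat.one_tmul_eq_zero_iff] at h5
    exact sub_eq_zero.mp h5
  constructor
  · intro ζ ζ' h
    apply hinj
    rw [← hθlam]
    show θ (lam ζ) = θ (lam ζ')
    rw [h]
  · intro u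
    -- θ u lies in the equalizer
    have hcoc1 := hcoc u 1 1
    have hkey : LinearMap.lTensor A' δ (θ u) = 0 := by
      show LinearMap.lTensor A' (θ - ι) (θ u) = 0
      rw [LinearMap.lTensor_sub, LinearMap.sub_apply, sub_eq_zero]
      have e1 : LinearMap.lTensor A' θ (θ u) = LinearMap.lTensor A' φ
          (TensorProduct.assoc A A' M' A' (LinearMap.rTensor A' φ ((u ⊗ₜ[A] (1 : A')) ⊗ₜ[A] (1 : A')))) := by
        rw [LinearMap.rTensor_tmul, ← hθ]
        generalize θ u = w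
        induction w using TensorProduct.induction_on with
        | zero => simp
        | tmul x w => rfl
        | add a b ha hb => simp only [map_add, TensorProduct.add_tmul, ha, hb]
      rw [e1, hcoc1]
      rfl
    obtain ⟨ζ, hζ⟩ := (hexact' (θ u)).mp hkey
    refine ⟨ζ, ?_⟩
    apply hθinj
    have := congrArg (fun f => f ζ) hθlam
    simp only [LinearMap.comp_apply] at this
    rw [← hζ]
    exact this

end Groth.Agent.S19547
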