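import Groth.Statements.S19551
import Groth.Agent.Lib.Helper98.Pencil

set_option autoImplicit false
universe u v w
open KronMod

namespace Groth.Agent.S19551

/-- Case of two arrows. Over an algebraically closed field K, if a Kronecker module f = (f_0, f_1) with
two arrows between spaces V and W of the same finite dimension k is semistable, then some linear
combination z_0 f_0 + z_1 f_1 of its arrows is a linear isomorphism V → W: for two arrows the
semistable locus of dimension vector (k, k) lies in the open set of modules whose generic
combination is invertible, for every k. (The published statement, over an algebraically closed field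
of characteristic zero, also covers the dimension vectors (1, 1) and (2, 2) for any number of
arrows; this row states the two-arrow case for all k, without the characteristic assumption.) -/
theorem result (K : Type u) [Field K] [IsAlgClosed K]
    (V : Type v) (W : Type w)
    [AddCommGroup V] [Module K V] [FiniteDimensional K V]
    [AddCommGroup W] [Module K W] [FiniteDimensional K W]
    (f : Fin 2 → (V →ₗ[K] W)) (k : ℕ)
    (hV : Module.finrank K V = k) (hW : Module.finrank K W = k)
    (hf : KronMod.IsSemistable f) :
    ∃ z : Fin 2 → K, Function.Bijective ((∑ j, z j • f j : V →ₗ[K] W) : V → W) := by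
  obtain ⟨hpos, hss⟩ := hf
  have hk : 0 < k := by
    rw [hV, hW] at hpos
    omega
  have hpss : Groth.Agent.Lib.Helper98.PencilSS (f 0) (f 1) := by
    intro V' W' h₀ h₁ hbot htop
    have hsub : KronMod.IsSubrep f V' W' := by
      intro j
      fin_cases j
      · exact h₀
      · exact h₁
    have := hss V' W' hsub hbot htop
    rw [hV, hW] at this
    exact Nat.le_of_mul_le_mul_left this hk
  have hfin := Groth.Agent.Lib.Helper98.badSet_finite k V W (f 0) (f 1) hV hW hpss
  have : Infinite K := IsAlgClosed.instInfinite
  obtain ⟨t, ht⟩ := hfin.infinite_compl.nonempty
  refine ⟨![1, t], ?_⟩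
  have ht' : Function.Bijective (f 0 + t • f 1) := by
    by_contra hcon
    exact ht hcon
  have heq : (∑ j, (![1, t] : Fin 2 → K) j • f j : V →ₗ[K] W) = f 0 + t • f 1 := by
    rw [Fin.sum_univ_two]
    simp
  rw [heq]
  exact ht'

end Groth.Agent.S19551
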