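import Groth.Statements.S19554
import Groth.Agent.Lib.Helper69.FinEtLocConst

set_option autoImplicit false
universe u
open CategoryTheory AlgebraicGeometry
open CohProp

namespace Groth.Agent.S19554

/-- For any scheme S and any finite étale morphism f : X → S, the sheaf of sets h_X on the small étale
site of S attached to the étale S-scheme X is finite locally constant: S admits a jointly surjective
family of étale S-schemes over each member of which h_X becomes isomorphic to a constant sheaf with
finite value. (This is the first assertion of the published result, that X ↦ h_X sends finite étale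
S-schemes to finite locally constant sheaves of sets; the equivalence it goes on to assert is not
stated here.) -/
theorem result (S X : Scheme.{u}) (f : X ⟶ S) [Etale f] [IsFinite f] :
    CohProp.IsFinLocConstSet (EtDesc.repSh (Scheme.Etale.mk f)) := by
  choose U g hg u0 hu0 hsplit using
    fun s : S => Groth.Agent.Lib.Helper24.exists_etale_isSplitOver_of_finite_etale f s
  refine ⟨S, fun s => @Scheme.Etale.mk S (U s) (g s) (hg s), ?_, ?_⟩
  · intro x
    exact ⟨x, u0 x, hu0 x⟩
  · intro s
    obtain ⟨n, ⟨e⟩⟩ := Groth.Agent.Lib.Helper69.FinEtLocConst.nonempty_over_iso f
      (@Scheme.Etale.mk S (U s) (g s) (hg s)) (hsplit s)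
    exact ⟨ULift.{u + 1} (Fin n), inferInstance, ⟨e⟩⟩

end Groth.Agent.S19554
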