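import Groth.Statements.S19560

set_option autoImplicit false
universe u
open W4c1limliniiii

namespace Groth.Agent.S19560

open Polynomial in
/-- Let k be an algebraically closed field of characteristic p (a prime or zero) and let F, G be
polynomials spanning a base-point-free pencil V of degree d (a two-dimensional space of polynomials
of degree at most d containing one of degree d and with no common zero in k), so that V encodes a
degree-d self-map F/G of the projective line up to automorphisms of the target. Suppose the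
Wronskian W = F′G − FG′ is non-zero and vanishes at the point a to order exactly e − 1 with e ≥ 1,
and that p = 0 or e − 1 < p. Then the map is tamely ramified at a with index e: the largest order of
vanishing at a of a non-zero member of V is e, and p does not divide e. (The hypothesis W ≠ 0 makes
the order of vanishing meaningful; for W = 0 the map is inseparable.) -/
theorem result
    (k : Type u) [Field k] [IsAlgClosed k] (p : ℕ) [CharP k p]
    (d : ℕ) (F G : k[X]) (hV : W4c1limliniiii.IsPencil d (Submodule.span k {F, G}))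
    (hW : Polynomial.wronskian F G ≠ 0) (a : k) (e : ℕ)
    (he : (Polynomial.wronskian F G).rootMultiplicity a + 1 = e) (hp : p = 0 ∨ e - 1 < p) :
    W4c1limliniiii.HasRamIdx (Submodule.span k {F, G}) a e ∧ ¬ p ∣ e := by
  obtain ⟨-, -, -, hbpf⟩ := hV
  obtain ⟨s₀, hs₀V, hs₀a⟩ := hbpf a
  rw [Submodule.mem_span_pair] at hs₀V
  obtain ⟨α, β, hs₀⟩ := hs₀V
  -- the member of the pencil vanishing at `a`
  set t : k[X] := C (G.eval a) * F - C (F.eval a) * G with ht
  have htV : t ∈ Submodule.span k {F, G} := by
    rw [Submodule.mem_span_pair]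
    exact ⟨G.eval a, -(F.eval a), by simp [ht, Polynomial.smul_eq_C_mul, sub_eq_add_neg]⟩
  have hta : t.eval a = 0 := by simp [ht]; ring
  have hs₀' : s₀ = C α * F + C β * G := by
    rw [← hs₀, Polynomial.smul_eq_C_mul, Polynomial.smul_eq_C_mul]
  have hs₀a' : s₀.eval a = α * F.eval a + β * G.eval a := by
    rw [hs₀']; simp
  have hWst : wronskian s₀ t = C (-(s₀.eval a)) * wronskian F G := by
    rw [hs₀a', hs₀', ht]
    simp only [wronskian, derivative_add, derivative_sub, derivative_mul, derivative_C, zero_mul,
      zero_add, C_neg, C_add, C_mul]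
    ring
  have hWst0 : wronskian s₀ t ≠ 0 := by
    rw [hWst]
    exact mul_ne_zero (by simpa using hs₀a) hW
  have ht0 : t ≠ 0 := by
    rintro h
    rw [h, wronskian_zero_right] at hWst0
    exact hWst0 rfl
  have hmultW : (wronskian s₀ t).rootMultiplicity a = (wronskian F G).rootMultiplicity a := by
    rw [hWst, rootMultiplicity_mul (by rw [← hWst]; exact hWst0), rootMultiplicity_C, zero_add]
  -- factor `t`
  obtain ⟨u, htu, hu⟩ := exists_eq_pow_rootMultiplicity_mul_and_not_dvd t ht0 a
  have hmpos : 0 < t.rootMultiplicity a := (rootMultiplicity_pos ht0).2 hta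
  obtain ⟨m', hm'⟩ : ∃ m', t.rootMultiplicity a = m' + 1 := ⟨_, (Nat.succ_pred_eq_of_pos hmpos).symm⟩
  have hua : u.eval a ≠ 0 := by
    intro h
    exact hu (dvd_iff_isRoot.2 h)
  have hWfac : wronskian s₀ t = (C ((m' + 1 : ℕ) : k) * s₀ * u +
      (X - C a) * (s₀ * derivative u - derivative s₀ * u)) * (X - C a) ^ m' := by
    conv_lhs => rw [htu, hm']
    simp only [wronskian, derivative_mul, derivative_X_sub_C_pow, Nat.add_sub_cancel]
    push_cast
    ring
  set Q : k[X] := C ((m' + 1 : ℕ) : k) * s₀ * u +
      (X - C a) * (s₀ * derivative u - derivative s₀ * u) with hQ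
  have hQ0 : Q ≠ 0 := by
    rintro h
    rw [hWfac, h, zero_mul] at hWst0
    exact hWst0 rfl
  have hmult : (wronskian s₀ t).rootMultiplicity a = Q.rootMultiplicity a + m' := by
    rw [hWfac, rootMultiplicity_mul_X_sub_C_pow hQ0]
  have hQa : Q.eval a = ((m' + 1 : ℕ) : k) * s₀.eval a * u.eval a := by
    simp [hQ]
  have hcast : ((m' + 1 : ℕ) : k) ≠ 0 := by
    intro h0
    have hdvd : p ∣ m' + 1 := (CharP.cast_eq_zero_iff k p (m' + 1)).1 h0
    have hQroot : Q.IsRoot a := by
      rw [IsRoot, hQa, h0, zero_mul, zero_mul]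
    have h1 : 1 ≤ Q.rootMultiplicity a := (rootMultiplicity_pos hQ0).2 hQroot
    have hple : p ≤ m' + 1 := Nat.le_of_dvd (Nat.succ_pos _) hdvd
    rcases hp with hp | hp
    · subst hp
      simp at hdvd
    · omega
  have hQm : Q.rootMultiplicity a = 0 := by
    apply rootMultiplicity_eq_zero
    rw [IsRoot, hQa]
    exact mul_ne_zero (mul_ne_zero hcast hs₀a) hua
  have hem : e = m' + 1 := by omega
  have hnd : ¬ p ∣ e := by
    rw [hem]
    intro hdvd
    exact hcast ((CharP.cast_eq_zero_iff k p (m' + 1)).2 hdvd)
  refine ⟨⟨⟨t, htV, ht0, by omega⟩, ?_⟩, hnd⟩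
  intro s hsV hs0
  rw [Submodule.mem_span_pair] at hsV
  obtain ⟨γ, δ, hs⟩ := hsV
  have hs' : s = C γ * F + C δ * G := by
    rw [← hs, Polynomial.smul_eq_C_mul, Polynomial.smul_eq_C_mul]
  by_cases hsa : s.eval a = 0
  · have hrel : C (s₀.eval a) * s = C (β * γ - α * δ) * t := by
      have hsa' : γ * F.eval a + δ * G.eval a = 0 := by
        rw [hs'] at hsa; simpa using hsa
      have e1 : C (s₀.eval a) * s - C (s.eval a) * s₀ = C (β * γ - α * δ) * t := by
        rw [hs₀a']
        conv_lhs => rw [hs', hs₀']
        rw [ht]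
        simp only [eval_add, eval_mul, eval_C, C_add, C_mul, C_sub]
        ring
      rw [hsa, C_0, zero_mul, sub_zero] at e1
      exact e1
    have hc0 : β * γ - α * δ ≠ 0 := by
      intro h
      rw [h, C_0, zero_mul] at hrel
      rcases mul_eq_zero.1 hrel with h1 | h1
      · exact hs₀a (by simpa using h1)
      · exact hs0 h1
    have h1 : (C (s₀.eval a) * s).rootMultiplicity a = s.rootMultiplicity a := by
      rw [rootMultiplicity_mul (mul_ne_zero (by simpa using hs₀a) hs0), rootMultiplicity_C,
        zero_add]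
    have h2 : (C (β * γ - α * δ) * t).rootMultiplicity a = t.rootMultiplicity a := by
      rw [rootMultiplicity_mul (mul_ne_zero (C_ne_zero.2 hc0) ht0), rootMultiplicity_C,
        zero_add]
    rw [← h1, hrel, h2]
    omega
  · rw [rootMultiplicity_eq_zero hsa]
    omega

end Groth.Agent.S19560
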