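import Groth.Statements.S19561

set_option autoImplicit false
universe u
open W4c1limliniiii

namespace Groth.Agent.S19561

open Polynomial in
/-- Let k be an algebraically closed field and F, G polynomials over k with deg G < deg F which span a
base-point-free pencil V of degree deg F (a two-dimensional space of polynomials of degree at most
deg F with no common zero in k), encoding the self-map F/G of the projective line. Then the
ramification index of the map at the point at infinity, namely the largest value of deg F − deg s
over the non-zero members s of V (orders of vanishing at infinity of the corresponding binary forms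
of degree deg F), is deg F − deg G. -/
theorem result
    (k : Type u) [Field k] [IsAlgClosed k] (F G : k[X]) (hlt : G.natDegree < F.natDegree)
    (hV : W4c1limliniiii.IsPencil F.natDegree (Submodule.span k {F, G})) :
    W4c1limliniiii.HasRamIdxInf F.natDegree (Submodule.span k {F, G}) (F.natDegree - G.natDegree) := by
  obtain ⟨-, hrank, -, -⟩ := hV
  have hG : G ≠ 0 := by
    rintro rfl
    have h1 : Module.finrank k (Submodule.span k ({F, 0} : Set k[X])) ≤ 1 := by
      have : Submodule.span k ({F, 0} : Set k[X]) = Submodule.span k {F} := by
        rw [Set.pair_comm, Submodule.span_insert_zero]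
      rw [this]
      by_cases hF : F = 0
      · subst hF; simp at hlt
      · rw [finrank_span_singleton hF]
    omega
  refine ⟨⟨G, Submodule.subset_span (by simp), hG, by omega⟩, ?_⟩
  intro s hs hs0
  rw [Submodule.mem_span_pair] at hs
  obtain ⟨a, b, rfl⟩ := hs
  by_cases ha : a = 0
  · subst ha
    simp only [zero_smul, zero_add] at hs0 ⊢
    have hb : b ≠ 0 := by rintro rfl; simp at hs0
    rw [Polynomial.natDegree_smul G hb]
    omega
  · have hdeg : (b • G).degree < (a • F).degree := by
      have hF0 : F ≠ 0 := by rintro rfl; simp at hlt
      rw [Polynomial.degree_smul_of_smul_regular F (IsSMulRegular.of_ne_zero ha)]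
      refine lt_of_le_of_lt (Polynomial.degree_smul_le b G) ?_
      exact Polynomial.degree_lt_degree hlt
    have : (a • F + b • G).natDegree = F.natDegree := by
      rw [Polynomial.natDegree_add_eq_left_of_degree_lt hdeg, Polynomial.natDegree_smul F ha]
    omega

end Groth.Agent.S19561
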