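import Groth.Statements.S19564
import Groth.Agent.Lib.Helper99.W2Pres

set_option autoImplicit false
set_option linter.style.haveILetI false
set_option linter.unusedSectionVars false
universe u
open scoped BigOperators
open FrobAlg

namespace Groth.Agent.S19564

open Groth.Agent.Lib.Helper99.W2Pres Groth.Agent.Lib.Helper99.W2Lift Groth.Agent.Lib.Helper99.W2Art
  Groth.Agent.Lib.Helper99.QuadCone

/-- Every polynomial is a constant plus a combination of the variables. -/
theorem exists_decomp {σ R : Type*} [Fintype σ] [DecidableEq σ] [CommRing R]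
    (a : MvPolynomial σ R) :
    ∃ (a₀ : R) (g : σ → MvPolynomial σ R), a = MvPolynomial.C a₀ + ∑ v, MvPolynomial.X v * g v := by
  induction a using MvPolynomial.induction_on with
  | C r => exact ⟨r, 0, by simp⟩
  | add q₁ q₂ h₁ h₂ =>
    obtain ⟨a₁, g₁, h₁⟩ := h₁
    obtain ⟨a₂, g₂, h₂⟩ := h₂
    refine ⟨a₁ + a₂, g₁ + g₂, ?_⟩
    rw [h₁, h₂, map_add]
    simp only [Pi.add_apply, mul_add, Finset.sum_add_distrib]
    ring
  | mul_X q v _ =>
    refine ⟨0, Pi.single v q, ?_⟩
    rw [map_zero, zero_add, Finset.sum_eq_single v]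
    · rw [Pi.single_eq_same, mul_comm]
    · intro w _ hw
      rw [Pi.single_eq_of_ne hw, mul_zero]
    · intro hv
      exact absurd (Finset.mem_univ v) hv

set_option maxHeartbeats 1600000 in
/-- Let k be a perfect field of characteristic p ≥ 3 and n ≥ 3. Then the ordinary double point k[x_1,
y_1, …, x_n, y_n]/(x_1y_1 + ⋯ + x_ny_n), the affine cone over the split quadric in 2n ≥ 6 variables,
admits no flat lifting over W₂(k) compatible with Frobenius (no flat W₂(k)-algebra reducing to it
that carries a ring endomorphism which is σ₂-semilinear and reduces to the p-th power map). (The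
published statement is for any number N ≥ 5 of variables and allows arbitrary terms of degree ≥ 3 to
be added to a non-degenerate quadratic form; this row is the case of the split form in an even
number of variables with nothing added, the case in which the argument is a pure comparison of
homogeneous components.) -/
theorem result
    (p : ℕ) [Fact p.Prime] (hp : 3 ≤ p) (k : Type u) [Field k] [CharP k p] [PerfectRing k p]
    (n : ℕ) (hn : 3 ≤ n) :
    ¬ FrobAlg.IsFLiftable p k
      (MvPolynomial (Fin n × Fin 2) k ⧸ Ideal.span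
        {(∑ i : Fin n, MvPolynomial.X (i, (0 : Fin 2)) * MvPolynomial.X (i, (1 : Fin 2)) : MvPolynomial (Fin n × Fin 2) k)}) := by
  classical
  change ¬ FrobAlg.IsFLiftable p k (MvPolynomial (Fin n × Fin 2) k ⧸ Ideal.span {quad n k})
  rintro ⟨B, _, ι, π, Φ, hΦ⟩
  have hL := hΦ.toIsLift
  have hp2 : 2 ≤ p := by omega
  set fW : MvPolynomial (Fin n × Fin 2) (W2 p k) := quad n (W2 p k) with hfW
  have hρf : MvPolynomial.map (res p k) fW = quad n k := by
    rw [hfW, quad, quad, map_sum]
    exact Finset.sum_congr rfl fun i _ => by rw [map_mul, MvPolynomial.map_X, MvPolynomial.map_X]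
  obtain ⟨ψ, hψC, hπψ, hsurj, hP4, hP5, hP6⟩ :=
    exists_presentation p k (Ideal.span {quad n k}) B ι π hL
  have hfJ : quad n k ∈ Ideal.span {quad n k} := Ideal.subset_span rfl
  obtain ⟨F, hFψ, hFρ⟩ := hP6 (quad n k) hfJ
  obtain ⟨a, ha⟩ := (mem_ker_map_res_iff p k (F - fW)).mp (by rw [map_sub, hFρ, hρf, sub_self])
  have hF : F = fW + (p : MvPolynomial (Fin n × Fin 2) (W2 p k)) * a := by rw [← ha]; ring
  have hpp := poly_p_mul_p p k (σ := Fin n × Fin 2)
  have hρs := map_res_surjective p k (σ := Fin n × Fin 2)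
  -- the lifts `h v`
  have hh : ∀ v : Fin n × Fin 2, ∃ h : MvPolynomial (Fin n × Fin 2) (W2 p k),
      Φ (ψ (MvPolynomial.X v)) =
        ψ (MvPolynomial.X v ^ p + (p : MvPolynomial (Fin n × Fin 2) (W2 p k)) * h) := by
    intro v
    have h1 : π (Φ (ψ (MvPolynomial.X v)) - ψ (MvPolynomial.X v ^ p)) = 0 := by
      rw [map_sub, hΦ.red, hπψ, hπψ, map_pow, MvPolynomial.map_X, map_pow, sub_self]
    obtain ⟨z, hz⟩ := (lift_mem_ker_iff p k _ B ι π hL _).mp h1
    obtain ⟨z', rfl⟩ := hsurj z
    exact ⟨z', by rw [map_add, map_mul, map_natCast, ← hz]; ring⟩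
  choose h hh using hh
  -- the lift of Frobenius to the polynomial ring
  set Ψ : MvPolynomial (Fin n × Fin 2) (W2 p k) →+* MvPolynomial (Fin n × Fin 2) (W2 p k) :=
    MvPolynomial.eval₂Hom (MvPolynomial.C.comp (sigma p k))
      (fun v => MvPolynomial.X v ^ p + (p : MvPolynomial (Fin n × Fin 2) (W2 p k)) * h v) with hΨ
  have hΨC : ∀ w, Ψ (MvPolynomial.C w) = MvPolynomial.C (sigma p k w) := fun w =>
    MvPolynomial.eval₂Hom_C _ _ _
  have hΨX : ∀ v, Ψ (MvPolynomial.X v) =
      MvPolynomial.X v ^ p + (p : MvPolynomial (Fin n × Fin 2) (W2 p k)) * h v := fun v =>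
    MvPolynomial.eval₂Hom_X' _ _ _
  have hΦψ : ∀ q, Φ (ψ q) = ψ (Ψ q) := by
    have : Φ.comp ψ = ψ.comp Ψ := by
      apply MvPolynomial.ringHom_ext
      · intro w
        have h1 := congrArg (fun g => g w) hΦ.semi
        simp only [RingHom.comp_apply] at h1
        simp only [RingHom.comp_apply, hψC, hΨC]
        exact h1
      · intro v
        simp only [RingHom.comp_apply]
        rw [hΨX, hh]
    intro q
    exact congrArg (fun g => g q) this
  have hρΨ : ∀ q, MvPolynomial.map (res p k) (Ψ q) = MvPolynomial.map (res p k) q ^ p := by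
    have : (MvPolynomial.map (res p k)).comp Ψ =
        (frobenius (MvPolynomial (Fin n × Fin 2) k) p).comp (MvPolynomial.map (res p k)) := by
      apply MvPolynomial.ringHom_ext
      · intro w
        simp only [RingHom.comp_apply, hΨC, MvPolynomial.map_C, frobenius_def, res_sigma]
        rw [map_pow]
      · intro v
        simp only [RingHom.comp_apply, hΨX, MvPolynomial.map_X, frobenius_def, map_add, map_mul,
          map_pow, map_res_natCast, zero_mul, add_zero]
    intro q
    have := congrArg (fun g => g q) this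
    simpa only [RingHom.comp_apply, frobenius_def] using this
  -- the element `E`
  have hEψ : ψ (Ψ F - F ^ p) = 0 := by
    rw [map_sub, ← hΦψ, map_pow, hFψ, map_zero, zero_pow (by omega), sub_self]
  have hEρ : MvPolynomial.map (res p k) (Ψ F - F ^ p) = 0 := by
    rw [map_sub, hρΨ, map_pow, sub_self]
  obtain ⟨e, he⟩ := (mem_ker_map_res_iff p k _).mp hEρ
  obtain ⟨j, hjψ, hj⟩ := hP4 e (by rw [← he]; exact hEψ)
  have hjJ := hP5 j hjψ
  rw [Ideal.mem_span_singleton'] at hjJ
  obtain ⟨ubar, hub⟩ := hjJ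
  obtain ⟨u, hu⟩ := hρs ubar
  have hpj : (p : MvPolynomial (Fin n × Fin 2) (W2 p k)) * j =
      (p : MvPolynomial (Fin n × Fin 2) (W2 p k)) * (fW * (-(-u))) := by
    apply p_mul_congr
    rw [← hub, neg_neg, map_mul, hρf, hu, mul_comm]
  -- expansion of `Ψ F`
  set D : MvPolynomial (Fin n × Fin 2) (W2 p k) :=
    fW ^ p - ∑ i : Fin n, MvPolynomial.X (i, 0) ^ p * MvPolynomial.X (i, 1) ^ p with hD
  set S : MvPolynomial (Fin n × Fin 2) (W2 p k) :=
    ∑ i : Fin n, (h (i, 0) * MvPolynomial.X (i, 1) ^ p + h (i, 1) * MvPolynomial.X (i, 0) ^ p) with hS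
  have hΨf : Ψ fW = ∑ i : Fin n, MvPolynomial.X (i, 0) ^ p * MvPolynomial.X (i, 1) ^ p +
      (p : MvPolynomial (Fin n × Fin 2) (W2 p k)) * S := by
    rw [hfW, quad, map_sum, hS, Finset.mul_sum, ← Finset.sum_add_distrib]
    refine Finset.sum_congr rfl fun i _ => ?_
    rw [map_mul, hΨX, hΨX]
    linear_combination (h (i, 0) * h (i, 1)) * hpp
  obtain ⟨a₀, ga, hadec⟩ := exists_decomp a
  have hΨa : (p : MvPolynomial (Fin n × Fin 2) (W2 p k)) * Ψ a =
      (p : MvPolynomial (Fin n × Fin 2) (W2 p k)) *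
        (MvPolynomial.C (a₀ ^ p) + ∑ v, MvPolynomial.X v ^ p * ga v ^ p) := by
    apply p_mul_congr
    rw [hρΨ]
    conv_lhs => rw [hadec]
    rw [map_add, map_sum, add_pow_char, sum_pow_char, map_add, map_sum, MvPolynomial.map_C,
      MvPolynomial.map_C, map_pow, map_pow]
    congr 1
    refine Finset.sum_congr rfl fun v _ => ?_
    rw [map_mul, map_mul, mul_pow, map_pow, map_pow, MvPolynomial.map_X]
  have hΨF : Ψ F - F ^ p = (p : MvPolynomial (Fin n × Fin 2) (W2 p k)) *
      (S + MvPolynomial.C (a₀ ^ p) + ∑ v, MvPolynomial.X v ^ p * ga v ^ p) - D := by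
    rw [hF, add_p_mul_pow, map_add, map_mul, map_natCast, hΨa, hΨf, hD]
    ring
  -- rewrite `S`
  have hSsum : S = ∑ v : Fin n × Fin 2, MvPolynomial.X v ^ p * h (v.1, 1 - v.2) := by
    rw [hS, Fintype.sum_prod_type]
    refine Finset.sum_congr rfl fun i _ => ?_
    rw [Fin.sum_univ_two]
    simp only [sub_zero, sub_self]
    ring
  have hsum : ∑ v : Fin n × Fin 2, MvPolynomial.X v ^ p * (ga v ^ p + h (v.1, 1 - v.2)) =
      ∑ v : Fin n × Fin 2, MvPolynomial.X v ^ p * ga v ^ p + S := by
    rw [hSsum, ← Finset.sum_add_distrib]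
    exact Finset.sum_congr rfl fun v _ => by ring
  have hDE : D = (p : MvPolynomial (Fin n × Fin 2) (W2 p k)) *
      (S + MvPolynomial.C (a₀ ^ p) + ∑ v, MvPolynomial.X v ^ p * ga v ^ p) -
      (p : MvPolynomial (Fin n × Fin 2) (W2 p k)) * j := by
    rw [hj, ← he, hΨF]; ring
  have hfinal : D = (p : MvPolynomial (Fin n × Fin 2) (W2 p k)) *
      (MvPolynomial.C (a₀ ^ p) + fW * (-u) +
        ∑ v : Fin n × Fin 2, MvPolynomial.X v ^ p * (ga v ^ p + h (v.1, 1 - v.2))) := by
    rw [hsum, hDE, hpj]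
    ring
  exact no_solution_of_sq_zero (W := W2 p k) hn p hp2 (p_mul_p p k) (natCast_ne_zero p k) (a₀ ^ p) (-u)
    (fun v => ga v ^ p + h (v.1, 1 - v.2)) hfinal

end Groth.Agent.S19564
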