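import Groth.Statements.S19565
import Mathlib

set_option autoImplicit false
universe u v w
open RootComb

namespace Groth.Agent.S19565


open Submodule in
theorem root_notMem_span {ι : Type*} {k M N : Type*} [Field k] [AddCommGroup M] [Module k M]
    [AddCommGroup N] [Module k N] {P : RootPairing ι k M N} (b : P.Base) {T : Set ι}
    (hT : T ⊆ ↑b.support) {x : ι} (hx : x ∈ b.support) (hxT : x ∉ T) :
    P.root x ∉ Submodule.span k (P.root '' T) := by
  intro h
  have h1 := b.linearIndepOn_root.notMem_span (i := x) (by exact_mod_cast hx)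
  apply h1
  refine Submodule.span_mono ?_ h
  apply Set.image_mono
  intro y hy
  exact ⟨hT hy, fun hyx => hxT (by rw [Set.mem_singleton_iff] at hyx; rwa [← hyx])⟩

theorem sum_root_notMem_span {ι : Type*} [DecidableEq ι] {k M N : Type*} [Field k] [AddCommGroup M]
    [Module k M] [AddCommGroup N] [Module k N] {P : RootPairing ι k M N} (b : P.Base)
    (S T : Finset ι) (hS : S ⊆ b.support) (hT : T ⊆ b.support) (s₀ : ι) (hs₀ : s₀ ∈ S)
    (hs₀T : s₀ ∉ T) :
    ∑ s ∈ S, P.root s ∉ Submodule.span k (P.root '' (T : Set ι)) := by
  intro h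
  have hmem : P.root s₀ ∈ Submodule.span k (P.root '' ((T ∪ S.erase s₀ : Finset ι) : Set ι)) := by
    have h1 : P.root s₀ = ∑ s ∈ S, P.root s - ∑ s ∈ S.erase s₀, P.root s := by
      rw [← Finset.add_sum_erase S _ hs₀]; abel
    rw [h1]
    refine Submodule.sub_mem _ ?_ ?_
    · refine Submodule.span_mono ?_ h
      apply Set.image_mono
      intro y hy
      exact Finset.mem_coe.mpr (Finset.mem_union_left _ (Finset.mem_coe.mp hy))
    · refine Submodule.sum_mem _ fun s hs => Submodule.subset_span ?_
      exact ⟨s, Finset.mem_coe.mpr (Finset.mem_union_right _ hs), rfl⟩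
  refine root_notMem_span b ?_ (hS hs₀) ?_ hmem
  · intro y hy
    rcases Finset.mem_union.mp (Finset.mem_coe.mp hy) with hy | hy
    · exact Finset.mem_coe.mpr (hT hy)
    · exact Finset.mem_coe.mpr (hS (Finset.mem_of_mem_erase hy))
  · intro hy
    rcases Finset.mem_union.mp (Finset.mem_coe.mp hy) with hy | hy
    · exact hs₀T hy
    · exact (Finset.notMem_erase s₀ S) hy

theorem pairingIn_sum {ι : Type*} {k M N : Type*} [Field k] [CharZero k] [AddCommGroup M]
    [Module k M] [AddCommGroup N] [Module k N] (P : RootPairing ι k M N) [P.IsCrystallographic]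
    (S : Finset ι) (r j : ι) (hr : P.root r = ∑ s ∈ S, P.root s) :
    P.pairingIn ℤ r j = ∑ s ∈ S, P.pairingIn ℤ s j := by
  apply FaithfulSMul.algebraMap_injective ℤ k
  rw [P.algebraMap_pairingIn ℤ, map_sum]
  simp only [P.algebraMap_pairingIn ℤ]
  rw [← P.root_coroot_eq_pairing, hr, map_sum, LinearMap.sum_apply]
  simp only [P.root_coroot_eq_pairing]

/-- Let Φ be a finite reduced crystallographic irreducible root system over a field of characteristic
zero, Δ a base of simple roots, I ⊆ Δ, and suppose the simple roots outside I are split into two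
disjoint non-empty sets A and B. Then there are a simple root β ∈ A and a root δ such that δ is a
non-negative integer combination of the simple roots of I ∪ B (a positive root whose support avoids
A), δ is not in the linear span of I (so δ is not a root of the Levi subsystem of I), and ⟨δ, β^∨⟩ <
0. (The published statement is made for the root system of a semisimple group; for a reducible
system such as A₁ × A₁ with I empty and A, B the two simple roots there is no such δ, and the
argument measures distances in a connected Dynkin diagram, so the root system is taken irreducible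
here.) -/
theorem result
    {ι : Type u} [Finite ι] [DecidableEq ι] {k : Type v} [Field k] [CharZero k]
    {M : Type w} [AddCommGroup M] [Module k M] {N : Type w} [AddCommGroup N] [Module k N]
    (P : RootPairing ι k M N) [P.IsCrystallographic] [P.IsReduced] [P.IsIrreducible] (b : P.Base)
    (I A B : Finset ι) (hcover : I ∪ A ∪ B = b.support) (hIA : Disjoint I A) (hIB : Disjoint I B)
    (hAB : Disjoint A B) (hA : A.Nonempty) (hB : B.Nonempty) :
    ∃ l ∈ A, ∃ j : ι, P.root j ∈ AddSubmonoid.closure (P.root '' ↑(I ∪ B)) ∧
      P.root j ∉ Submodule.span k (P.root '' ↑I) ∧ P.pairingIn ℤ j l < 0 := by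
  classical
  have hsupp : ∀ x, x ∈ b.support ↔ x ∈ I ∨ x ∈ A ∨ x ∈ B := by
    intro x
    rw [← hcover, Finset.mem_union, Finset.mem_union, or_assoc]
  have hIBsub : I ∪ B ⊆ b.support := by
    intro x hx
    rcases Finset.mem_union.mp hx with hx | hx
    · exact (hsupp x).mpr (Or.inl hx)
    · exact (hsupp x).mpr (Or.inr (Or.inr hx))
  have hIsub : I ⊆ b.support := fun x hx => (hsupp x).mpr (Or.inl hx)
  -- the conclusion
  set C : Prop := ∃ l ∈ A, ∃ j : ι, P.root j ∈ AddSubmonoid.closure (P.root '' ↑(I ∪ B)) ∧
      P.root j ∉ Submodule.span k (P.root '' ↑I) ∧ P.pairingIn ℤ j l < 0 with hC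
  let p : b.support → Prop := fun v => C ∨ ∃ (S : Finset ι) (r : ι), S ⊆ I ∪ B ∧
    (∃ s ∈ S, s ∈ B) ∧ P.root r = ∑ s ∈ S, P.root s ∧ (v : ι) ∈ S
  obtain ⟨b₀, hb₀⟩ := hB
  obtain ⟨a, ha⟩ := hA
  have hb₀s : b₀ ∈ b.support := (hsupp b₀).mpr (Or.inr (Or.inr hb₀))
  have has : a ∈ b.support := (hsupp a).mpr (Or.inr (Or.inl ha))
  have base : p ⟨b₀, hb₀s⟩ := by
    right
    refine ⟨{b₀}, b₀, ?_, ⟨b₀, Finset.mem_singleton_self _, hb₀⟩, ?_, Finset.mem_singleton_self _⟩
    · intro x hx
      rw [Finset.mem_singleton] at hx
      rw [hx]; exact Finset.mem_union_right _ hb₀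
    · rw [Finset.sum_singleton]
  have step : ∀ i j : b.support, p i → b.cartanMatrix j i ≠ 0 → p j := by
    rintro i j (hc | ⟨S, r, hS, ⟨s₀, hs₀S, hs₀B⟩, hr, hiS⟩) hne
    · exact Or.inl hc
    · by_cases hjS : (j : ι) ∈ S
      · exact Or.inr ⟨S, r, hS, ⟨s₀, hs₀S, hs₀B⟩, hr, hjS⟩
      · -- the pairing is negative
        have hSsub : S ⊆ b.support := hS.trans hIBsub
        have hneg : P.pairingIn ℤ r j < 0 := by
          rw [pairingIn_sum P S r j hr]
          have hle : ∀ s ∈ S, P.pairingIn ℤ s j ≤ 0 := by
            intro s hs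
            refine b.pairingIn_le_zero_of_ne ?_ (hSsub hs) j.2
            intro h; exact hjS (h ▸ hs)
          have hlt : P.pairingIn ℤ (i : ι) (j : ι) < 0 := by
            refine lt_of_le_of_ne (hle _ hiS) ?_
            have h1 : b.cartanMatrix i j ≠ 0 := by
              intro h0
              exact hne (b.cartanMatrix_apply_eq_zero_iff_symm.mp h0)
            exact h1
          calc ∑ s ∈ S, P.pairingIn ℤ s j
              = P.pairingIn ℤ (i : ι) (j : ι) + ∑ s ∈ S.erase (i : ι), P.pairingIn ℤ s j :=
                (Finset.add_sum_erase S _ hiS).symm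
            _ < 0 := by
                have : ∑ s ∈ S.erase (i : ι), P.pairingIn ℤ s j ≤ 0 :=
                  Finset.sum_nonpos fun s hs => hle s (Finset.mem_of_mem_erase hs)
                linarith
        have hs₀I : s₀ ∉ I := fun h => (Finset.disjoint_left.mp hIB h) hs₀B
        rcases (hsupp j).mp j.2 with hjI | hjA | hjB
        · -- extend by j ∈ I
          right
          have hne' : P.root r ≠ -P.root j := by
            intro h
            have : P.root (j : ι) ∈ Submodule.span k (P.root '' (S : Set ι)) := by
              have h2 : P.root (j : ι) = -P.root r := by rw [h, neg_neg]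
              rw [h2, hr]
              exact Submodule.neg_mem _ (Submodule.sum_mem _ fun s hs =>
                Submodule.subset_span ⟨s, Finset.mem_coe.mpr hs, rfl⟩)
            exact root_notMem_span b (fun y hy => Finset.mem_coe.mpr (hSsub (Finset.mem_coe.mp hy)))
              j.2 (fun h => hjS (Finset.mem_coe.mp h)) this
          obtain ⟨r', hr'⟩ := P.root_add_root_mem_of_pairingIn_neg hneg hne'
          refine ⟨insert (j : ι) S, r', ?_, ⟨s₀, Finset.mem_insert_of_mem hs₀S, hs₀B⟩, ?_,
            Finset.mem_insert_self _ _⟩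
          · intro x hx
            rcases Finset.mem_insert.mp hx with hx | hx
            · rw [hx]; exact Finset.mem_union_left _ hjI
            · exact hS hx
          · rw [hr', Finset.sum_insert hjS, hr, add_comm]
        · -- conclusion
          left
          refine ⟨j, hjA, r, ?_, ?_, hneg⟩
          · rw [hr]
            refine AddSubmonoid.sum_mem _ fun s hs => AddSubmonoid.subset_closure ?_
            exact ⟨s, Finset.mem_coe.mpr (hS hs), rfl⟩
          · rw [hr]
            exact sum_root_notMem_span b S I hSsub hIsub s₀ hs₀S hs₀I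
        · -- extend by j ∈ B
          right
          have hne' : P.root r ≠ -P.root j := by
            intro h
            have : P.root (j : ι) ∈ Submodule.span k (P.root '' (S : Set ι)) := by
              have h2 : P.root (j : ι) = -P.root r := by rw [h, neg_neg]
              rw [h2, hr]
              exact Submodule.neg_mem _ (Submodule.sum_mem _ fun s hs =>
                Submodule.subset_span ⟨s, Finset.mem_coe.mpr hs, rfl⟩)
            exact root_notMem_span b (fun y hy => Finset.mem_coe.mpr (hSsub (Finset.mem_coe.mp hy)))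
              j.2 (fun h => hjS (Finset.mem_coe.mp h)) this
          obtain ⟨r', hr'⟩ := P.root_add_root_mem_of_pairingIn_neg hneg hne'
          refine ⟨insert (j : ι) S, r', ?_, ⟨s₀, Finset.mem_insert_of_mem hs₀S, hs₀B⟩, ?_,
            Finset.mem_insert_self _ _⟩
          · intro x hx
            rcases Finset.mem_insert.mp hx with hx | hx
            · rw [hx]; exact Finset.mem_union_right _ hjB
            · exact hS hx
          · rw [hr', Finset.sum_insert hjS, hr, add_comm]
  have hfin := b.induction_on_cartanMatrix p (i := ⟨b₀, hb₀s⟩) (j := ⟨a, has⟩) base step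
  rcases hfin with hc | ⟨S, r, hS, -, -, haS⟩
  · exact hc
  · exfalso
    rcases Finset.mem_union.mp (hS haS) with h | h
    · exact (Finset.disjoint_left.mp hIA h) ha
    · exact (Finset.disjoint_left.mp hAB ha) h

end Groth.Agent.S19565
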