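import Groth.Statements.S19569
import Mathlib.RingTheory.Smooth.NoetherianDescent
import Mathlib.RingTheory.Etale.Basic
import Mathlib.RingTheory.FinitePresentation

set_option autoImplicit false
universe u
open CAlg

namespace Groth.Agent.S19569

open TensorProduct in
/-- Let A be the colimit of a directed system of rings (A_i), given by compatible ring maps A_i → A
which are jointly surjective and such that an element of some A_i mapping to zero in A already maps
to zero in some later A_j, and let B be an étale A-algebra. Then for some index i there is an étale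
A_i-algebra B_i such that B is isomorphic, as an A-algebra, to the base change A ⊗_{A_i} B_i
(existence of an isomorphism). (Stated for a system indexed by a directed preordered set.) -/
theorem result {ι : Type u} [Preorder ι] [IsDirected ι (· ≤ ·)] [Nonempty ι]
    (G : ι → Type u) [∀ i, CommRing (G i)] (f : ∀ i j, i ≤ j → (G i →+* G j))
    (A : Type u) [CommRing A] (g : ∀ i, G i →+* A) (hg : ∀ i j (h : i ≤ j), (g j).comp (f i j h) = g i)
    (hsurj : ∀ a : A, ∃ i, ∃ x : G i, g i x = a)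
    (hker : ∀ i (x : G i), g i x = 0 → ∃ j, ∃ h : i ≤ j, f i j h x = 0)
    (B : Type u) [CommRing B] [Algebra A B] [Algebra.Etale A B] :
    ∃ (i : ι) (Bi : Type u) (_ : CommRing Bi) (_ : Algebra (G i) Bi), Algebra.Etale (G i) Bi ∧
      letI : Algebra (G i) A := (g i).toAlgebra
      Nonempty (B ≃ₐ[A] A ⊗[G i] Bi) := by
  classical
  obtain ⟨A₀, B₀, _, _, hfg, hét, ⟨e⟩⟩ := Algebra.Etale.exists_subalgebra_fg ℤ A B
  have hft : Algebra.FiniteType ℤ A₀ := (Subalgebra.fg_iff_finiteType A₀).1 hfg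
  have hfp : Algebra.FinitePresentation ℤ A₀ := Algebra.FinitePresentation.of_finiteType.1 hft
  obtain ⟨n, φ₀, hφ₀surj, s, hs⟩ := hfp
  -- the target ring hom `ℤ[X] → A`
  let tgt : MvPolynomial (Fin n) ℤ →+* A := A₀.val.toRingHom.comp φ₀.toRingHom
  -- step 1: lift the generators to a common stage
  have h1 : ∃ (i : ι) (x : Fin n → G i), ∀ k, g i (x k) = tgt (MvPolynomial.X k) := by
    have : ∀ k : Fin n, ∃ i, ∃ x : G i, g i x = tgt (MvPolynomial.X k) := fun k => hsurj _
    choose ik xk hxk using this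
    obtain ⟨i, hi⟩ := Finset.exists_le (Finset.univ.image ik)
    have hle : ∀ k, ik k ≤ i := fun k => hi _ (Finset.mem_image_of_mem _ (Finset.mem_univ k))
    refine ⟨i, fun k => f (ik k) i (hle k) (xk k), fun k => ?_⟩
    rw [← hxk k, ← hg (ik k) i (hle k)]
    rfl
  obtain ⟨i, x, hx⟩ := h1
  -- step 2: a ring hom `ℤ[X] → G i` over `tgt`
  have h2 : ∃ (j : ι) (φ : MvPolynomial (Fin n) ℤ →+* G j), (g j).comp φ = tgt := by
    refine ⟨i, MvPolynomial.eval₂Hom (Int.castRingHom (G i)) x, ?_⟩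
    apply MvPolynomial.ringHom_ext
    · intro c
      simp
    · intro k
      simp [hx k]
  -- step 3: kill finitely many relations
  have h3 : ∀ t : Finset (MvPolynomial (Fin n) ℤ), (∀ ρ ∈ t, tgt ρ = 0) →
      ∃ (j : ι) (φ : MvPolynomial (Fin n) ℤ →+* G j), (g j).comp φ = tgt ∧ ∀ ρ ∈ t, φ ρ = 0 := by
    intro t
    induction t using Finset.induction_on with
    | empty =>
      intro _
      obtain ⟨j, φ, hφ⟩ := h2
      exact ⟨j, φ, hφ, fun ρ hρ => absurd hρ (Finset.notMem_empty ρ)⟩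
    | insert ρ₀ t hρ₀ ih =>
      intro ht
      obtain ⟨j, φ, hφ, hφt⟩ := ih (fun ρ hρ => ht ρ (Finset.mem_insert_of_mem hρ))
      have h0 : g j (φ ρ₀) = 0 := by
        have := RingHom.congr_fun hφ ρ₀
        rw [RingHom.comp_apply] at this
        rw [this]
        exact ht ρ₀ (Finset.mem_insert_self ρ₀ t)
      obtain ⟨j', hjj', hzero⟩ := hker j (φ ρ₀) h0
      refine ⟨j', (f j j' hjj').comp φ, ?_, ?_⟩
      · rw [← RingHom.comp_assoc, hg j j' hjj', hφ]
      · intro ρ hρ
        rw [RingHom.comp_apply]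
        rcases Finset.mem_insert.1 hρ with rfl | hρ'
        · exact hzero
        · rw [hφt ρ hρ', map_zero]
  have hs' : ∀ ρ ∈ s, tgt ρ = 0 := by
    intro ρ hρ
    have : ρ ∈ RingHom.ker φ₀.toRingHom := by
      rw [← hs]
      exact Ideal.subset_span hρ
    have h0 : φ₀ ρ = 0 := this
    change (A₀.val (φ₀ ρ)) = 0
    rw [h0, map_zero]
  obtain ⟨j, φ, hφ, hφs⟩ := h3 s hs'
  have hkerle : RingHom.ker φ₀.toRingHom ≤ RingHom.ker φ := by
    rw [← hs, Ideal.span_le]
    intro ρ hρ
    exact hφs ρ hρ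
  let ψ : A₀ →+* G j := φ₀.toRingHom.liftOfSurjective hφ₀surj ⟨φ, hkerle⟩
  have hψ : ∀ p, ψ (φ₀ p) = φ p := fun p =>
    RingHom.liftOfRightInverse_comp_apply _ _ _ ⟨φ, hkerle⟩ p
  have hgψ : ∀ a : A₀, g j (ψ a) = (a : A) := by
    intro a
    obtain ⟨p, rfl⟩ := hφ₀surj a
    rw [hψ]
    exact RingHom.congr_fun hφ p
  letI : Algebra A₀ (G j) := ψ.toAlgebra
  letI : Algebra (G j) A := (g j).toAlgebra
  haveI : IsScalarTower A₀ (G j) A := IsScalarTower.of_algebraMap_eq (fun a => (hgψ a).symm)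
  refine ⟨j, (G j) ⊗[A₀] B₀, inferInstance, inferInstance, inferInstance, ?_⟩
  exact ⟨e.trans (Algebra.TensorProduct.cancelBaseChange A₀ (G j) A A B₀).symm⟩

end Groth.Agent.S19569
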