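import Groth.Statements.S1957
import Groth.Agent.Lib.Helper9.EtaleLift
import Mathlib.RingTheory.Polynomial.UniversalFactorizationRing

set_option autoImplicit false
universe u
open Polynomial
open EtAlg

namespace Groth.Agent.S1957

/-- Let A be a ring, I an ideal and f a monic polynomial over A. Suppose the image of f in (A/I)[x]
factors as g h where the leading coefficient of g is a unit and g, h generate the unit ideal. Then
there is an etale A-algebra A' such that A/I -> A'/IA' is bijective, together with a factorization f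
= g' h' in A'[x] whose reduction modulo IA' is the image of the given one. -/
theorem result (A : Type u) [CommRing A] (I : Ideal A) (f : A[X]) (hf : f.Monic)
    (g h : (A ⧸ I)[X]) (hgh : f.map (Ideal.Quotient.mk I) = g * h) (hlead : IsUnit g.leadingCoeff)
    (hcop : IsCoprime g h) :
    ∃ (A' : Type u) (_ : CommRing A') (_ : Algebra A A') (_ : Algebra.Etale A A'),
      Function.Bijective (Ideal.quotientMap (I.map (algebraMap A A')) (algebraMap A A') Ideal.le_comap_map) ∧
      ∃ g' h' : A'[X], f.map (algebraMap A A') = g' * h' ∧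
        g'.map (Ideal.Quotient.mk (I.map (algebraMap A A'))) =
          g.map (Ideal.quotientMap (I.map (algebraMap A A')) (algebraMap A A') Ideal.le_comap_map) ∧
        h'.map (Ideal.Quotient.mk (I.map (algebraMap A A'))) =
          h.map (Ideal.quotientMap (I.map (algebraMap A A')) (algebraMap A A') Ideal.le_comap_map) := by
  classical
  rcases subsingleton_or_nontrivial (A ⧸ I) with hs | hnt
  · -- degenerate case: `A ⧸ I` is trivial
    have hI : I = ⊤ := Ideal.Quotient.subsingleton_iff.mp hs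
    have hI' : I.map (algebraMap A A) = ⊤ := by rw [hI, Ideal.map_top]
    have hs' : Subsingleton (A ⧸ I.map (algebraMap A A)) := Ideal.Quotient.subsingleton_iff.mpr hI'
    refine ⟨A, inferInstance, inferInstance, inferInstance, ?_, f, 1,
      by simp, Subsingleton.elim _ _, Subsingleton.elim _ _⟩
    exact ⟨fun a b _ => Subsingleton.elim _ _, fun b => ⟨0, Subsingleton.elim _ _⟩⟩
  obtain ⟨u, hu⟩ := hlead
  obtain ⟨g₁, hg₁def⟩ : ∃ g₁ : (A ⧸ I)[X], g₁ = C (↑u⁻¹ : A ⧸ I) * g := ⟨_, rfl⟩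
  obtain ⟨h₁, hh₁def⟩ : ∃ h₁ : (A ⧸ I)[X], h₁ = C (↑u : A ⧸ I) * h := ⟨_, rfl⟩
  have hg₁ : g₁.Monic := by
    rw [hg₁def]
    apply Polynomial.monic_C_mul_of_mul_leadingCoeff_eq_one
    rw [← hu, Units.inv_mul]
  have hprod : g₁ * h₁ = g * h := by
    rw [hg₁def, hh₁def]
    calc C (↑u⁻¹ : A ⧸ I) * g * (C (↑u : A ⧸ I) * h)
        = C ((↑u⁻¹ : A ⧸ I) * ↑u) * (g * h) := by rw [C_mul]; ring
      _ = g * h := by rw [Units.inv_mul, C_1, one_mul]
  have hh₁ : h₁.Monic := hg₁.of_mul_monic_left (by rw [hprod, ← hgh]; exact hf.map _)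
  have hcop₁ : IsCoprime g₁ h₁ := by
    rw [hg₁def, hh₁def]
    have hu1 : IsUnit (C (↑u⁻¹ : A ⧸ I)) := (Units.isUnit _).map C
    have hu2 : IsUnit (C (↑u : A ⧸ I)) := (Units.isUnit _).map C
    rw [isCoprime_mul_unit_left_left hu1, isCoprime_mul_unit_left_right hu2]
    exact hcop
  have hgg₁ : g = C (↑u : A ⧸ I) * g₁ := by
    rw [hg₁def, ← mul_assoc, ← C_mul, Units.mul_inv, C_1, one_mul]
  have hhh₁ : h = C (↑u⁻¹ : A ⧸ I) * h₁ := by
    rw [hh₁def, ← mul_assoc, ← C_mul, Units.inv_mul, C_1, one_mul]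
  have hfgh₁ : f.map (Ideal.Quotient.mk I) = g₁ * h₁ := by rw [hprod, hgh]
  obtain ⟨a, ha⟩ := Ideal.Quotient.mk_surjective (↑u : A ⧸ I)
  have hn : f.natDegree = g₁.natDegree + h₁.natDegree := by
    have := congrArg Polynomial.natDegree hfgh₁
    rwa [hf.natDegree_map, hg₁.natDegree_mul hh₁] at this
  set m := g₁.natDegree with hm
  set k := h₁.natDegree with hk
  let p : Polynomial.MonicDegreeEq A f.natDegree := .mk f hf rfl
  let G : Polynomial.MonicDegreeEq (A ⧸ I) m := .mk g₁ hg₁ rfl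
  let H : Polynomial.MonicDegreeEq (A ⧸ I) k := .mk h₁ hh₁ rfl
  let U := Polynomial.UniversalCoprimeFactorizationRing m k hn p
  let φ : U →ₐ[A] A ⧸ I :=
    (Polynomial.UniversalCoprimeFactorizationRing.homEquiv (A ⧸ I) m k hn p).symm
      ⟨(G, H), hfgh₁.symm, hcop₁⟩
  have hφs : φ (algebraMap A U a) = ↑u := by rw [φ.commutes]; exact ha
  obtain ⟨A', _, _, hEt, ι, hbij, hlift, hunit⟩ :=
    Groth.Agent.Lib.Helper9.exists_etale_lift_isUnit I φ (algebraMap A U a)
      (by rw [hφs]; exact Units.isUnit _)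
  refine ⟨A', inferInstance, inferInstance, hEt, hbij, ?_⟩
  let q := Polynomial.UniversalCoprimeFactorizationRing.homEquiv A' m k hn p ι
  let θ : A' →ₐ[A] A' ⧸ I.map (algebraMap A A') := Ideal.Quotient.mkₐ A _
  let κ : A ⧸ I →ₐ[A] A' ⧸ I.map (algebraMap A A') :=
    { toRingHom := algebraMap (A ⧸ I) (A' ⧸ I.map (algebraMap A A'))
      commutes' := fun a => rfl }
  have heq : θ.comp ι = κ.comp φ := AlgHom.ext (fun x => hlift x)
  have hφ : Polynomial.UniversalCoprimeFactorizationRing.homEquiv (A ⧸ I) m k hn p φ =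
      ⟨(G, H), hfgh₁.symm, hcop₁⟩ := Equiv.apply_symm_apply _ _
  have h1 := Polynomial.UniversalCoprimeFactorizationRing.homEquiv_comp_fst A' m k hn p ι θ
  have h1' := Polynomial.UniversalCoprimeFactorizationRing.homEquiv_comp_fst (A ⧸ I) m k hn p φ κ
  have h2 := Polynomial.UniversalCoprimeFactorizationRing.homEquiv_comp_snd A' m k hn p ι θ
  have h2' := Polynomial.UniversalCoprimeFactorizationRing.homEquiv_comp_snd (A ⧸ I) m k hn p φ κ
  rw [heq, h1', hφ] at h1
  rw [heq, h2', hφ] at h2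
  have e1 : q.1.1.1.map (Ideal.Quotient.mk (I.map (algebraMap A A'))) =
      g₁.map (algebraMap (A ⧸ I) (A' ⧸ I.map (algebraMap A A'))) := (congrArg Subtype.val h1).symm
  have e2 : q.1.2.1.map (Ideal.Quotient.mk (I.map (algebraMap A A'))) =
      h₁.map (algebraMap (A ⧸ I) (A' ⧸ I.map (algebraMap A A'))) := (congrArg Subtype.val h2).symm
  obtain ⟨v, hv⟩ := hunit
  have hmkv : Ideal.Quotient.mk (I.map (algebraMap A A')) (↑v : A') =
      algebraMap (A ⧸ I) (A' ⧸ I.map (algebraMap A A')) ↑u := by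
    rw [hv, hlift, hφs]
  have hmkv' : Ideal.Quotient.mk (I.map (algebraMap A A')) (↑v⁻¹ : A') =
      algebraMap (A ⧸ I) (A' ⧸ I.map (algebraMap A A')) ↑u⁻¹ := by
    have h3 : Ideal.Quotient.mk (I.map (algebraMap A A')) (↑v : A') *
        Ideal.Quotient.mk (I.map (algebraMap A A')) (↑v⁻¹ : A') = 1 := by
      rw [← map_mul, Units.mul_inv, map_one]
    have h4 : Ideal.Quotient.mk (I.map (algebraMap A A')) (↑v : A') *
        algebraMap (A ⧸ I) (A' ⧸ I.map (algebraMap A A')) ↑u⁻¹ = 1 := by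
      rw [hmkv, ← map_mul, Units.mul_inv, map_one]
    calc Ideal.Quotient.mk (I.map (algebraMap A A')) (↑v⁻¹ : A')
        = (algebraMap (A ⧸ I) (A' ⧸ I.map (algebraMap A A')) ↑u⁻¹ *
            Ideal.Quotient.mk (I.map (algebraMap A A')) (↑v : A')) *
            Ideal.Quotient.mk (I.map (algebraMap A A')) (↑v⁻¹ : A') := by
          rw [mul_comm (algebraMap (A ⧸ I) (A' ⧸ I.map (algebraMap A A')) ↑u⁻¹), h4, one_mul]
      _ = algebraMap (A ⧸ I) (A' ⧸ I.map (algebraMap A A')) ↑u⁻¹ := by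
          rw [mul_assoc, h3, mul_one]
  refine ⟨C (↑v : A') * q.1.1.1, C (↑v⁻¹ : A') * q.1.2.1, ?_, ?_, ?_⟩
  · have hq : q.1.1.1 * q.1.2.1 = f.map (algebraMap A A') := q.2.1
    calc f.map (algebraMap A A') = C ((↑v : A') * ↑v⁻¹) * (q.1.1.1 * q.1.2.1) := by
          rw [Units.mul_inv, C_1, one_mul, hq]
      _ = C (↑v : A') * q.1.1.1 * (C (↑v⁻¹ : A') * q.1.2.1) := by rw [C_mul]; ring
  · change _ = g.map (algebraMap (A ⧸ I) (A' ⧸ I.map (algebraMap A A')))
    rw [Polynomial.map_mul, Polynomial.map_C, e1, hmkv, hgg₁, Polynomial.map_mul, Polynomial.map_C]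
  · change _ = h.map (algebraMap (A ⧸ I) (A' ⧸ I.map (algebraMap A A')))
    rw [Polynomial.map_mul, Polynomial.map_C, e2, hmkv', hhh₁, Polynomial.map_mul, Polynomial.map_C]

end Groth.Agent.S1957
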