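import Groth.Statements.S19586
import Mathlib
import Groth.Agent.S19149
import Groth.Agent.Lib.Helper71.ExtPowFibre

set_option autoImplicit false
universe u
open KaehlerDifferential
open LocInt

namespace Groth.Agent.S19586

-- HELPERS BEGIN
open TensorProduct IsLocalRing

section converse
variable {R A B : Type u} [CommRing R] [CommRing A] [CommRing B]
    [Algebra R A] [Algebra R B] [Algebra A B] [IsScalarTower R A B]
    (P : Ideal B) [P.IsPrime]

theorem tmul_D_ne_zero_of_formallySmooth_localization
    [Algebra.FormallySmooth R A] [Module.Finite A Ω[A⁄R]]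
    (hsurj : Function.Surjective (algebraMap A B)) (g : A) (hg : IsSMulRegular A g)
    (hkerg : RingHom.ker (algebraMap A B) = Ideal.span {g})
    (hsm : Algebra.FormallySmooth R (Localization.AtPrime P)) :
    (1 : ResidueField (Localization.AtPrime P)) ⊗ₜ[A] D R A g ≠ 0 := by
  have hfg : (RingHom.ker (algebraMap A B)).FG := by
    rw [hkerg]; exact ⟨{g}, by simp⟩
  let P₀ : Ideal A := P.under A
  let A' := Localization.AtPrime P₀
  let L := Localization.AtPrime P
  let κ := ResidueField L
  let _ : Algebra A' L := Localization.AtPrime.algebraOfLiesOver P₀ P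
  have t1 : IsScalarTower R A' L := inferInstance
  have t2 : IsScalarTower A A' L := inferInstance
  have t3 : IsScalarTower A A' κ := IsScalarTower.to₁₂₄ A A' L κ
  have e1 : Algebra.FormallyEtale A A' := Algebra.FormallyEtale.of_isLocalization P₀.primeCompl
  have s1 : Algebra.FormallySmooth R A' := Algebra.FormallySmooth.comp R A A'
  have hmap : ∀ a : A, algebraMap A' L (algebraMap A A' a) = algebraMap B L (algebraMap A B a) := by
    intro a
    rw [← IsScalarTower.algebraMap_apply A A' L, IsScalarTower.algebraMap_apply A B L]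
  have h₁ : Function.Surjective (algebraMap A' L) := by
    intro x
    obtain ⟨b, ⟨s, hs⟩, rfl⟩ := IsLocalization.exists_mk'_eq P.primeCompl x
    obtain ⟨a, rfl⟩ := hsurj b
    obtain ⟨t, rfl⟩ := hsurj s
    have ht : t ∈ P₀.primeCompl := hs
    refine ⟨IsLocalization.mk' A' a ⟨t, ht⟩, ?_⟩
    rw [IsLocalization.eq_mk'_iff_mul_eq, ← hmap, ← hmap, ← map_mul, IsLocalization.mk'_spec]
  have hker : ∀ x ∈ RingHom.ker (algebraMap A' L), ∃ j ∈ RingHom.ker (algebraMap A B),
      ∃ u : A', x = u * algebraMap A A' j := by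
    intro x hx
    obtain ⟨a, ⟨s, hs⟩, rfl⟩ := IsLocalization.exists_mk'_eq P₀.primeCompl x
    have h0 : algebraMap B L (algebraMap A B a) = 0 := by
      rw [← hmap, ← IsLocalization.mk'_spec A' a ⟨s, hs⟩, map_mul, (RingHom.mem_ker).mp hx,
        zero_mul]
    obtain ⟨⟨m, hm⟩, hm0⟩ := (IsLocalization.map_eq_zero_iff P.primeCompl L _).mp h0
    obtain ⟨t, rfl⟩ := hsurj m
    have ht : t ∈ P₀.primeCompl := hm
    refine ⟨t * a, ?_, IsLocalization.mk' A' 1 (⟨t, ht⟩ * ⟨s, hs⟩ : P₀.primeCompl), ?_⟩
    · rw [RingHom.mem_ker, map_mul]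
      exact hm0
    · rw [mul_comm, ← IsLocalization.mk'_eq_mul_mk'_one, eq_comm, IsLocalization.mk'_eq_iff_eq]
      simp only [Submonoid.coe_mul]
      congr 1
      ring
  have h₂ : (RingHom.ker (algebraMap A' L)).FG := by
    have : RingHom.ker (algebraMap A' L) =
        (RingHom.ker (algebraMap A B)).map (algebraMap A A') := by
      refine le_antisymm ?_ ?_
      · intro x hx
        obtain ⟨j, hj, u, rfl⟩ := hker x hx
        exact Ideal.mul_mem_left _ _ (Ideal.mem_map_of_mem _ hj)
      · rw [Ideal.map_le_iff_le_comap]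
        intro j hj
        rw [Ideal.mem_comap, RingHom.mem_ker, hmap, (RingHom.mem_ker).mp hj, map_zero]
    rw [this]
    exact hfg.map _
  let eΩ : A' ⊗[A] Ω[A⁄R] ≃ₗ[A'] Ω[A'⁄R] := tensorKaehlerEquivOfFormallyEtale R A A'
  have f1 : Module.Finite A' Ω[A'⁄R] := Module.Finite.equiv eΩ
  have f2 : Module.Projective A' Ω[A'⁄R] := inferInstance
  have f3 : Module.Free A' Ω[A'⁄R] := Module.free_of_flat_of_isLocalRing
  rw [Algebra.FormallySmooth.iff_injective_cotangentComplexBaseChange_residueField (P := A') h₁ h₂]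
    at hsm
  let ι : κ ⊗[A] Ω[A⁄R] ≃ₗ[κ] κ ⊗[A'] Ω[A'⁄R] :=
    (AlgebraTensorModule.cancelBaseChange A A' κ κ Ω[A⁄R]).symm ≪≫ₗ
      AlgebraTensorModule.congr (LinearEquiv.refl κ κ) eΩ
  intro h0
  have hg0 : algebraMap A B g = 0 := by
    rw [← RingHom.mem_ker, hkerg]; exact Ideal.mem_span_singleton_self g
  have hgker : algebraMap A A' g ∈ RingHom.ker (algebraMap A' L) := by
    rw [RingHom.mem_ker, hmap, hg0, map_zero]
  let x₀ : RingHom.ker (algebraMap A' L) := ⟨algebraMap A A' g, hgker⟩
  have hx : cotangentComplexBaseChange R L A' κ ((1 : κ) ⊗ₜ x₀) = 0 := by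
    have h1 : cotangentComplexBaseChange R L A' κ ((1 : κ) ⊗ₜ x₀) =
        ι ((1 : κ) ⊗ₜ[A] D R A g) := by
      rw [cotangentComplexBaseChange_tmul]
      simp only [kerToTensor_apply, one_smul]
      simp only [ι, LinearEquiv.trans_apply, AlgebraTensorModule.cancelBaseChange_symm_tmul,
        AlgebraTensorModule.congr_tmul, LinearEquiv.refl_apply, eΩ]
      rw [tensorKaehlerEquivOfFormallyEtale_apply, mapBaseChange_tmul, one_smul,
        KaehlerDifferential.map_D]
    rw [h1, h0, map_zero]
  have hx0 : (1 : κ) ⊗ₜ[A'] x₀ = 0 := hsm (hx.trans (map_zero _).symm)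
  -- a functional on the kernel
  have hreg : IsSMulRegular A' (algebraMap A A' g) := IsSMulRegular.of_flat hg
  let φ : A' →ₗ[A'] RingHom.ker (algebraMap A' L) := LinearMap.toSpanSingleton A' _ x₀
  have hφ : ∀ a : A', ((φ a : RingHom.ker (algebraMap A' L)) : A') = a * algebraMap A A' g := by
    intro a
    rfl
  have hφinj : Function.Injective φ := by
    intro a b hab
    have h' : a * algebraMap A A' g = b * algebraMap A A' g := by
      rw [← hφ, ← hφ, hab]
    apply hreg
    simp only [smul_eq_mul]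
    rw [mul_comm, h', mul_comm]
  have hφsurj : Function.Surjective φ := by
    intro z
    obtain ⟨j, hj, u, hu⟩ := hker z.1 z.2
    rw [hkerg] at hj
    obtain ⟨c, rfl⟩ := Ideal.mem_span_singleton'.mp hj
    refine ⟨u * algebraMap A A' c, Subtype.ext ?_⟩
    rw [hφ, hu, map_mul]
    ring
  let e := LinearEquiv.ofBijective φ ⟨hφinj, hφsurj⟩
  have he1 : e 1 = x₀ := by
    apply Subtype.ext
    change ((φ 1 : RingHom.ker (algebraMap A' L)) : A') = _
    rw [hφ, one_mul]
  have h1 : (LinearMap.lTensor κ e.symm.toLinearMap) ((1 : κ) ⊗ₜ x₀) = (1 : κ) ⊗ₜ[A'] (1 : A') := by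
    rw [LinearMap.lTensor_tmul, LinearEquiv.coe_coe, ← he1, LinearEquiv.symm_apply_apply]
  rw [hx0, map_zero] at h1
  have h2 := congrArg (TensorProduct.rid A' κ) h1
  rw [map_zero, TensorProduct.rid_tmul, one_smul] at h2
  exact zero_ne_one h2

end converse

theorem general_ker {R : Type u} [CommRing R] (κ : Type u) [AddCommGroup κ] [Module R κ]
    {N P : Type u} [AddCommGroup N] [AddCommGroup P] [Module R N] [Module R P]
    (q : N →ₗ[R] P) (hq : Function.Surjective q) (z : κ ⊗[R] N)
    (hz : LinearMap.lTensor κ q z = 0) :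
    ∃ y, LinearMap.lTensor κ (LinearMap.ker q).subtype y = z := by
  have hex : Function.Exact (LinearMap.lTensor κ (LinearMap.ker q).subtype)
      (LinearMap.lTensor κ q) :=
    lTensor_exact κ (LinearMap.exact_subtype_ker_map q) hq
  exact (hex z).mp hz

section fibredim
variable (A B R : Type u) [CommRing A] [CommRing B] [CommRing R]
    [Algebra A B] [Algebra B R] [Algebra A R] [IsScalarTower A B R]

/-- Elements of the kernel of `R ⊗ Ω[B/A] → Ω[R/A]` are multiples of `1 ⊗ dg`. -/
theorem ker_mapBaseChange_eq (g : B) (hsurj : Function.Surjective (algebraMap B R))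
    (hker : RingHom.ker (algebraMap B R) = Ideal.span {g})
    (k : R ⊗[B] Ω[B⁄A]) (hk : mapBaseChange A B R k = 0) :
    ∃ r : R, k = r • ((1 : R) ⊗ₜ[B] D A B g) := by
  obtain ⟨x, rfl⟩ := (exact_kerCotangentToTensor_mapBaseChange A B R hsurj k).mp hk
  obtain ⟨y, rfl⟩ := Ideal.toCotangent_surjective _ x
  have hy : (y : B) ∈ Ideal.span {g} := hker ▸ y.2
  obtain ⟨b, hb⟩ := Ideal.mem_span_singleton'.mp hy
  have hg0 : algebraMap B R g = 0 := by
    rw [← RingHom.mem_ker, hker]; exact Ideal.mem_span_singleton_self g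
  refine ⟨algebraMap B R b, ?_⟩
  rw [kerCotangentToTensor_toCotangent, ← hb, Derivation.leibniz, TensorProduct.tmul_add,
    TensorProduct.tmul_smul, TensorProduct.tmul_smul, algebraMap_smul]
  have : g • ((1 : R) ⊗ₜ[B] D A B b) = 0 := by
    rw [← algebraMap_smul R g, hg0, zero_smul]
  rw [this, add_zero]

theorem fibre_finrank [Algebra.Smooth A B] (n : ℕ)
    (hn : ∀ p : PrimeSpectrum B, Module.rankAtStalk (Ω[B⁄A]) p = n)
    (g : B) (hsurj : Function.Surjective (algebraMap B R))
    (hker : RingHom.ker (algebraMap B R) = Ideal.span {g}) (p : PrimeSpectrum R) :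
    ((1 : p.asIdeal.ResidueField) ⊗ₜ[B] D A B g = 0 →
      Module.finrank p.asIdeal.ResidueField (p.asIdeal.ResidueField ⊗[R] Ω[R⁄A]) = n) ∧
    ((1 : p.asIdeal.ResidueField) ⊗ₜ[B] D A B g ≠ 0 →
      Module.finrank p.asIdeal.ResidueField (p.asIdeal.ResidueField ⊗[R] Ω[R⁄A]) < n) := by
  let κ := p.asIdeal.ResidueField
  let q : R ⊗[B] Ω[B⁄A] →ₗ[R] Ω[R⁄A] := mapBaseChange A B R
  have hq : Function.Surjective q := mapBaseChange_surjective A B R hsurj
  have hfinB : Module.Finite B Ω[B⁄A] := inferInstance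
  have hprojB : Module.Projective B Ω[B⁄A] := inferInstance
  have hP : Module.finrank κ (κ ⊗[R] (R ⊗[B] Ω[B⁄A])) = n := by
    have h1 := Module.rankAtStalk_eq (M := R ⊗[B] Ω[B⁄A]) p
    have h2 := Module.rankAtStalk_baseChange (R := B) (M := Ω[B⁄A]) (S := R) p
    rw [hn] at h2
    rw [← h2, h1]
  let v : R ⊗[B] Ω[B⁄A] := (1 : R) ⊗ₜ[B] D A B g
  let w : κ ⊗[R] (R ⊗[B] Ω[B⁄A]) := (1 : κ) ⊗ₜ[R] v
  let e := AlgebraTensorModule.cancelBaseChange B R κ κ Ω[B⁄A]
  have hew : e w = (1 : κ) ⊗ₜ[B] D A B g := by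
    simp only [e, w, v, AlgebraTensorModule.cancelBaseChange_tmul, one_smul]
  let Q : κ ⊗[R] (R ⊗[B] Ω[B⁄A]) →ₗ[κ] κ ⊗[R] Ω[R⁄A] := q.baseChange κ
  have hQsurj : Function.Surjective Q := LinearMap.lTensor_surjective κ hq
  have hg0 : algebraMap B R g = 0 := by
    rw [← RingHom.mem_ker, hker]; exact Ideal.mem_span_singleton_self g
  have hqv : q v = 0 := by
    simp only [q, v, mapBaseChange_tmul, one_smul, KaehlerDifferential.map_D, hg0, map_zero]
  have hQw : Q w = 0 := by
    simp only [Q, w, LinearMap.baseChange_tmul, hqv, TensorProduct.tmul_zero]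
  have hrange : ∀ y : κ ⊗[R] (LinearMap.ker q),
      ∃ c : κ, LinearMap.lTensor κ (LinearMap.ker q).subtype y = c • w := by
    intro y
    induction y using TensorProduct.induction_on with
    | zero => exact ⟨0, by simp⟩
    | tmul c k =>
      obtain ⟨r, hr⟩ := ker_mapBaseChange_eq A B R g hsurj hker k.1 k.2
      refine ⟨algebraMap R κ r * c, ?_⟩
      rw [LinearMap.lTensor_tmul, Submodule.subtype_apply, hr, TensorProduct.tmul_smul,
        ← algebraMap_smul κ r, TensorProduct.smul_tmul', mul_smul]
      simp only [w, TensorProduct.smul_tmul', smul_eq_mul, mul_one]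
      rfl
    | add y₁ y₂ h₁ h₂ =>
      obtain ⟨c₁, h₁⟩ := h₁
      obtain ⟨c₂, h₂⟩ := h₂
      exact ⟨c₁ + c₂, by rw [map_add, h₁, h₂, add_smul]⟩
  have hkerQ : ∀ z, Q z = 0 → ∃ c : κ, z = c • w := by
    intro z hz
    obtain ⟨y, rfl⟩ := general_ker κ q hq z hz
    exact hrange y
  constructor
  · intro h0
    have hw0 : w = 0 := e.injective (by rw [hew, h0, map_zero])
    have hQinj : Function.Injective Q := by
      rw [injective_iff_map_eq_zero]
      intro z hz
      obtain ⟨c, rfl⟩ := hkerQ z hz
      rw [hw0, smul_zero]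
    rw [← hP]
    exact (LinearEquiv.ofBijective Q ⟨hQinj, hQsurj⟩).finrank_eq.symm
  · intro hne
    have hw : w ≠ 0 := fun h => hne (by rw [← hew, h, map_zero])
    have hfd : Module.Finite κ (κ ⊗[R] (R ⊗[B] Ω[B⁄A])) := inferInstance
    have h1 := LinearMap.finrank_range_add_finrank_ker Q
    have h2 : Module.finrank κ (LinearMap.range Q) = Module.finrank κ (κ ⊗[R] Ω[R⁄A]) := by
      rw [LinearMap.range_eq_top.mpr hQsurj, finrank_top]
    have h3 : 1 ≤ Module.finrank κ (LinearMap.ker Q) := by
      rw [Submodule.one_le_finrank_iff]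
      intro hbot
      have : w ∈ LinearMap.ker Q := hQw
      rw [hbot] at this
      exact hw ((Submodule.mem_bot κ).mp this)
    have h4 : Module.finrank κ (κ ⊗[R] Ω[R⁄A]) + Module.finrank κ (LinearMap.ker Q) = n := by
      rw [← h2, h1, hP]
    change Module.finrank κ (κ ⊗[R] Ω[R⁄A]) < n
    omega

end fibredim
-- HELPERS END


/-- Let A → B be a smooth ring map with Ω_{B/A} of rank n at every prime of B, g ∈ B a nonzerodivisor
and R = B/gB, so that Spec R is a hypersurface of virtual relative dimension n − 1 over Spec A. Let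
J ⊆ R be the annihilator of the n-th exterior power of Ω_{R/A} and Z = V(J) ⊆ Spec R. Then the
underlying set of Z is exactly the set of primes at which R is not smooth over A: for a prime p of
R, J ⊆ p if and only if the localization R_p is not formally smooth over A. -/
theorem result (A B R : Type u) [CommRing A] [CommRing B] [CommRing R]
    [Algebra A B] [Algebra B R] [Algebra A R] [IsScalarTower A B R] [Algebra.Smooth A B] (n : ℕ)
    (hn : ∀ p : PrimeSpectrum B, Module.rankAtStalk (Ω[B⁄A]) p = n)
    (g : B) (hg : IsSMulRegular B g) (hsurj : Function.Surjective (algebraMap B R))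
    (hker : RingHom.ker (algebraMap B R) = Ideal.span {g}) (p : PrimeSpectrum R) :
    (⋀[R]^n (Ω[R⁄A])).annihilator ≤ p.asIdeal ↔ p ∉ Algebra.smoothLocus A R := by
  have hfs : Algebra.FormallySmooth A B := inferInstance
  have hfin : Module.Finite B Ω[B⁄A] := inferInstance
  have hfg : (RingHom.ker (algebraMap B R)).FG := by
    rw [hker]; exact ⟨{g}, by simp⟩
  have hftB : Algebra.FiniteType B R := Algebra.FiniteType.of_surjective (Algebra.ofId B R) hsurj
  have hftA : Algebra.FiniteType A R := Algebra.FiniteType.trans (inferInstance : Algebra.FiniteType A B) hftB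
  have hfinR : Module.Finite R Ω[R⁄A] := inferInstance
  obtain ⟨hB1, hB2⟩ := fibre_finrank A B R n hn g hsurj hker p
  constructor
  · intro hle hmem
    have hsm : Algebra.FormallySmooth A (Localization.AtPrime p.asIdeal) := hmem
    have hne := tmul_D_ne_zero_of_formallySmooth_localization p.asIdeal hsurj g hg hker hsm
    exact Groth.Agent.Lib.Helper71.ExtPowFibre.annihilator_extPow_not_le p.asIdeal n (hB2 hne) hle
  · intro hnot
    have h0 : (1 : p.asIdeal.ResidueField) ⊗ₜ[B] D A B g = 0 := by
      by_contra hne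
      apply hnot
      have hg0 : algebraMap B R g = 0 := by
        rw [← RingHom.mem_ker, hker]; exact Ideal.mem_span_singleton_self g
      have hgk : g ∈ RingHom.ker (algebraMap B R) := by
        rw [hker]; exact Ideal.mem_span_singleton_self g
      have hgen : ∀ x : p.asIdeal.ResidueField ⊗[B] RingHom.ker (algebraMap B R),
          ∃ k : p.asIdeal.ResidueField, x = k ⊗ₜ[B] ⟨g, hgk⟩ := by
        intro x
        induction x using TensorProduct.induction_on with
        | zero => exact ⟨0, (TensorProduct.zero_tmul _ _).symm⟩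
        | tmul k y =>
          have hy : (y : B) ∈ Ideal.span {g} := hker ▸ y.2
          obtain ⟨b, hb⟩ := Ideal.mem_span_singleton'.mp hy
          refine ⟨b • k, ?_⟩
          rw [TensorProduct.smul_tmul]
          congr 1
          exact Subtype.ext hb.symm
        | add x y hx hy =>
          obtain ⟨a, rfl⟩ := hx
          obtain ⟨b, rfl⟩ := hy
          exact ⟨a + b, (TensorProduct.add_tmul _ _ _).symm⟩
      have hinj : Function.Injective
          (cotangentComplexBaseChange A R B (ResidueField (Localization.AtPrime p.asIdeal))) := by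
        rw [injective_iff_map_eq_zero]
        intro x hx
        obtain ⟨k, rfl⟩ := hgen x
        rw [cotangentComplexBaseChange_tmul] at hx
        simp only [kerToTensor_apply] at hx
        rw [smul_eq_zero] at hx
        rcases hx with hk | hx
        · rw [hk, TensorProduct.zero_tmul]
        · exact absurd hx hne
      exact Groth.Agent.S19149.formallySmooth_localization_of_injective p.asIdeal hsurj hfg hinj
    exact Groth.Agent.Lib.Helper71.ExtPowFibre.annihilator_extPow_le p.asIdeal n
      (le_of_eq (hB1 h0).symm)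

end Groth.Agent.S19586
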