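import Groth.Statements.S1959
import Mathlib.RingTheory.IntegralClosure.Algebra.Ideal

set_option autoImplicit false
universe u
open Polynomial
open EtAlg

namespace Groth.Agent.S1959

/-- Let I be an ideal of a ring A, A -> B an integral ring map and b an element of B whose image in B/IB
is idempotent. Then there are d ≥ 1 and a monic polynomial f over A with f(b) = 0 whose reduction
modulo I is x^d (x - 1)^d. -/
theorem result (A B : Type u) [CommRing A] [CommRing B] [Algebra A B]
    [Algebra.IsIntegral A B] (I : Ideal A) (b : B)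
    (hb : IsIdempotentElem (Ideal.Quotient.mk (I.map (algebraMap A B)) b)) :
    ∃ (f : A[X]) (d : ℕ), f.Monic ∧ 1 ≤ d ∧ aeval b f = 0 ∧
      f.map (Ideal.Quotient.mk I) = X ^ d * (X - 1) ^ d := by
  classical
  rcases subsingleton_or_nontrivial A with hs | hnt
  · have hB : Subsingleton B := (algebraMap A B).codomain_trivial
    have hAI : Subsingleton (A ⧸ I) := by infer_instance
    exact ⟨1, 1, Polynomial.monic_of_subsingleton _, le_rfl, Subsingleton.elim _ _,
      Subsingleton.elim _ _⟩
  have hz : b * b - b ∈ I.map (algebraMap A B) := by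
    rw [← Ideal.Quotient.eq_zero_iff_mem, map_sub, map_mul, hb.eq, sub_self]
  obtain ⟨p, hp, hpz, hpI⟩ := Polynomial.exists_monic_aeval_eq_zero_forall_mem_of_mem_map hz
  -- the reduction of `p` is a power of `X`
  have hpmap : p.map (Ideal.Quotient.mk I) = X ^ p.natDegree := by
    ext i
    rw [Polynomial.coeff_map, Polynomial.coeff_X_pow]
    split_ifs with h
    · rw [h, Polynomial.coeff_natDegree, hp.leadingCoeff, map_one]
    · exact Ideal.Quotient.eq_zero_iff_mem.mpr (hpI i h)
  have hq : (X ^ 2 - X : A[X]).Monic := by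
    apply Polynomial.monic_X_pow_sub
    rw [Polynomial.degree_X]; exact_mod_cast one_lt_two
  have hqdeg : (X ^ 2 - X : A[X]).natDegree ≠ 0 := by
    have : (X ^ 2 - X : A[X]).natDegree = 2 := by
      rw [Polynomial.natDegree_sub_eq_left_of_natDegree_lt] <;> simp
    omega
  refine ⟨(p * X).comp (X ^ 2 - X), p.natDegree + 1, (hp.mul Polynomial.monic_X).comp hq hqdeg,
    by omega, ?_, ?_⟩
  · rw [Polynomial.aeval_comp, map_mul, Polynomial.aeval_X]
    have : aeval b (X ^ 2 - X : A[X]) = b * b - b := by simp [pow_two]
    rw [this, hpz, zero_mul]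
  · rw [Polynomial.map_comp, Polynomial.map_mul, hpmap, Polynomial.map_X, Polynomial.map_sub,
      Polynomial.map_pow, Polynomial.map_X, ← pow_succ, Polynomial.comp, Polynomial.eval₂_X_pow,
      ← mul_pow]
    congr 1
    ring

end Groth.Agent.S1959
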