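import Groth.Statements.S19590
import Mathlib.Data.ZMod.Basic
import Mathlib.GroupTheory.OrderOfElement
import Mathlib.Data.Nat.Prime.Basic
import Mathlib.Tactic

set_option autoImplicit false
open BddFin

namespace Groth.Agent.S19590

/-- In any ring, `(1 + y) ^ l = 1 + l • y + y * y * z` for some `z`. -/
theorem one_add_pow_exists {R : Type*} [Ring R] (y : R) (l : ℕ) :
    ∃ z : R, (1 + y) ^ l = 1 + l • y + y * y * z := by
  induction l with
  | zero => exact ⟨0, by simp⟩
  | succ l ih =>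
    obtain ⟨z, hz⟩ := ih
    refine ⟨z + l • 1 + z * y, ?_⟩
    rw [pow_succ, hz]
    simp only [add_mul, mul_add, mul_one, one_mul, smul_mul_assoc, mul_smul_comm, succ_nsmul,
      mul_assoc]
    abel

/-- If `9 ∣ l * x` with `l` prime then `3 ∣ x`. -/
theorem three_dvd_of_nine_dvd_prime_mul (l : ℕ) (hl : l.Prime) (x : ℤ) (h : (9 : ℤ) ∣ l * x) :
    (3 : ℤ) ∣ x := by
  by_contra hx
  have h3 : (3 : ℤ) ∣ l * x := Dvd.dvd.trans ⟨3, by norm_num⟩ h
  have hp : Prime (3 : ℤ) := Int.prime_three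
  rcases hp.dvd_or_dvd h3 with h1 | h1
  · have : (3 : ℕ) ∣ l := by exact_mod_cast h1
    have hl3 : l = 3 := ((Nat.prime_dvd_prime_iff_eq Nat.prime_three hl).1 this).symm
    subst hl3
    obtain ⟨c, hc⟩ := h
    apply hx
    exact ⟨c, by push_cast at hc; omega⟩
  · exact hx h1

variable {n : ℕ}

/-- one step of the `3`-adic induction. -/
theorem step (l : ℕ) (hl : l.Prime) (k : ℕ) (hk : 2 ≤ k) (Y N : Matrix (Fin n) (Fin n) ℤ)
    (hY : Y = (3 : ℤ) ^ k • N) (h1 : (1 + Y) ^ l = 1) :
    ∃ N' : Matrix (Fin n) (Fin n) ℤ, Y = (3 : ℤ) ^ (k + 1) • N' := by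
  obtain ⟨Z, hZ⟩ := one_add_pow_exists Y l
  rw [h1] at hZ
  have h2 : l • Y + Y * Y * Z = 0 := by
    have : (1 : Matrix (Fin n) (Fin n) ℤ) = 1 + (l • Y + Y * Y * Z) := by rw [← add_assoc]; exact hZ
    exact (left_eq_add.1 this)
  have h3 : (3 : ℤ) ^ k • ((l : ℤ) • N + (3 : ℤ) ^ k • (N * N * Z)) = 0 := by
    rw [← h2, hY]
    simp only [Matrix.smul_mul, Matrix.mul_smul, smul_add, smul_smul, ← natCast_zsmul]
    congr 1
    · rw [mul_comm]
  have h4 : (l : ℤ) • N + (3 : ℤ) ^ k • (N * N * Z) = 0 := by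
    have h30 : ((3 : ℤ) ^ k) ≠ 0 := pow_ne_zero _ (by norm_num)
    exact (smul_eq_zero.1 h3).resolve_left h30
  have h5 : ∀ i j, (3 : ℤ) ∣ N i j := by
    intro i j
    apply three_dvd_of_nine_dvd_prime_mul l hl
    have := congrFun (congrFun h4 i) j
    simp only [Matrix.add_apply, Matrix.smul_apply, smul_eq_mul, Matrix.zero_apply] at this
    have e : (l : ℤ) * N i j = -((3 : ℤ) ^ k * (N * N * Z) i j) := by linarith
    rw [e]
    obtain ⟨k', rfl⟩ : ∃ k', k = k' + 2 := ⟨k - 2, by omega⟩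
    exact ⟨-((3 : ℤ) ^ k' * (N * N * Z) i j), by ring⟩
  refine ⟨Matrix.of fun i j => N i j / 3, ?_⟩
  rw [hY]
  ext i j
  simp only [Matrix.smul_apply, Matrix.of_apply, smul_eq_mul]
  rw [pow_succ, mul_assoc, Int.mul_ediv_cancel' (h5 i j)]

/-- the prime order case. -/
theorem prime_case (l : ℕ) (hl : l.Prime) (Y : Matrix (Fin n) (Fin n) ℤ)
    (h9 : ∀ i j, (9 : ℤ) ∣ Y i j) (h1 : (1 + Y) ^ l = 1) : Y = 0 := by
  have key : ∀ k : ℕ, ∃ N : Matrix (Fin n) (Fin n) ℤ, Y = (3 : ℤ) ^ (k + 2) • N := by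
    intro k
    induction k with
    | zero =>
      refine ⟨Matrix.of fun i j => Y i j / 9, ?_⟩
      ext i j
      simp only [Matrix.smul_apply, Matrix.of_apply, smul_eq_mul]
      rw [show (3 : ℤ) ^ (0 + 2) = 9 by norm_num, Int.mul_ediv_cancel' (h9 i j)]
    | succ k ih =>
      obtain ⟨N, hN⟩ := ih
      exact step l hl (k + 2) (by omega) Y N hN h1
  ext i j
  simp only [Matrix.zero_apply]
  obtain ⟨N, hN⟩ := key (Y i j).natAbs
  apply Int.eq_zero_of_abs_lt_dvd (m := (3 : ℤ) ^ ((Y i j).natAbs + 2))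
  · have hij := congrFun (congrFun hN i) j
    rw [Matrix.smul_apply, smul_eq_mul] at hij
    exact ⟨N i j, hij⟩
  · have h1 : (Y i j).natAbs < 3 ^ ((Y i j).natAbs + 2) :=
      lt_of_lt_of_le (Nat.lt_pow_self (by norm_num : 1 < 3))
        (Nat.pow_le_pow_right (by norm_num) (by omega))
    rw [Int.abs_eq_natAbs]
    exact_mod_cast h1

/-- A matrix congruent to `1` mod `9` of finite order is `1`. -/
theorem eq_one_of_pow_eq_one (M : Matrix (Fin n) (Fin n) ℤ)
    (h9 : (Int.castRingHom (ZMod 9)).mapMatrix M = 1) (m : ℕ) (hm : 1 ≤ m) (hMm : M ^ m = 1) :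
    M = 1 := by
  induction m using Nat.strong_induction_on generalizing M with
  | _ m ih =>
    by_cases hm1 : m = 1
    · subst hm1; simpa using hMm
    · have hl : (Nat.minFac m).Prime := Nat.minFac_prime hm1
      obtain ⟨m', hm'⟩ := Nat.minFac_dvd m
      have hm'pos : 1 ≤ m' := by
        rcases Nat.eq_zero_or_pos m' with h | h
        · subst h; omega
        · exact h
      have hm'lt : m' < m := by
        have := hl.two_le
        nlinarith
      -- `M ^ m'` has prime order dividing `minFac m`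
      have hM' : M ^ m' = 1 := by
        have h1 : (1 + (M ^ m' - 1)) ^ (Nat.minFac m) = 1 := by
          rw [add_sub_cancel, ← pow_mul, mul_comm, ← hm', hMm]
        have h2 : ∀ i j, (9 : ℤ) ∣ (M ^ m' - 1) i j := by
          intro i j
          have e : (Int.castRingHom (ZMod 9)).mapMatrix (M ^ m' - 1) = 0 := by
            rw [map_sub, map_pow, h9, one_pow, map_one, sub_self]
          have := congrFun (congrFun e i) j
          simp only [RingHom.mapMatrix_apply, Matrix.map_apply, Matrix.zero_apply,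
            Int.coe_castRingHom] at this
          exact (ZMod.intCast_zmod_eq_zero_iff_dvd _ 9).1 this
        have := prime_case (Nat.minFac m) hl (M ^ m' - 1) h2 h1
        exact sub_eq_zero.1 this
      exact ih m' hm'lt M h9 hm'pos hM'

/-- For every n, the orders of the finite subgroups of GL_n(ℤ) are bounded: there is B such that every
finite subgroup of GL_n(ℤ) has at most B elements. -/
theorem result (n : ℕ) :
    ∃ B : ℕ, ∀ H : Subgroup (Matrix.GeneralLinearGroup (Fin n) ℤ), Finite H → Nat.card H ≤ B := by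
  refine ⟨Nat.card (Matrix.GeneralLinearGroup (Fin n) (ZMod 9)), ?_⟩
  intro H hH
  let φ : Matrix.GeneralLinearGroup (Fin n) ℤ →* Matrix.GeneralLinearGroup (Fin n) (ZMod 9) :=
    Matrix.GeneralLinearGroup.map (Int.castRingHom (ZMod 9))
  have hinj : Function.Injective (φ.comp H.subtype) := by
    rw [injective_iff_map_eq_one]
    intro g hg
    have hfin : IsOfFinOrder g := isOfFinOrder_of_finite g
    have hpos : 1 ≤ orderOf g := hfin.orderOf_pos
    have hpow : ((g : Matrix.GeneralLinearGroup (Fin n) ℤ) : Matrix (Fin n) (Fin n) ℤ) ^ orderOf g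
        = 1 := by
      have h2 : (((g ^ orderOf g : H) : Matrix.GeneralLinearGroup (Fin n) ℤ) :
          Matrix (Fin n) (Fin n) ℤ) = 1 := by
        rw [pow_orderOf_eq_one]; rfl
      rw [← h2, Subgroup.coe_pow, Units.val_pow_eq_pow_val]
    have h9 : (Int.castRingHom (ZMod 9)).mapMatrix
        ((g : Matrix.GeneralLinearGroup (Fin n) ℤ) : Matrix (Fin n) (Fin n) ℤ) = 1 := by
      have := congrArg (fun x : Matrix.GeneralLinearGroup (Fin n) (ZMod 9) =>
        (x : Matrix (Fin n) (Fin n) (ZMod 9))) hg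
      simpa [φ, Matrix.GeneralLinearGroup.map] using this
    have h1 := eq_one_of_pow_eq_one _ h9 (orderOf g) hpos hpow
    apply Subtype.ext
    apply Units.ext
    simpa using h1
  exact Nat.card_le_card_of_injective _ hinj

end Groth.Agent.S19590
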