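import Groth.Statements.S19591
import Mathlib.FieldTheory.Perfect
import Mathlib.LinearAlgebra.FiniteDimensional.Lemmas

set_option autoImplicit false
universe u v
open BddFin

namespace Groth.Agent.S19591

/-- Let K be a perfect field of characteristic 2, V a finite-dimensional K-vector space with dim V > 2
and q a quadratic form on V whose polar bilinear form is non-degenerate. Then q represents zero
non-trivially. (Non-degeneracy of the polar form, which is alternating in characteristic 2, forces
dim V to be even, as the published lemma notes.) -/
theorem result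
    (K : Type u) [Field K] [CharP K 2] [PerfectField K]
    (V : Type v) [AddCommGroup V] [Module K V] [FiniteDimensional K V]
    (hV : 2 < Module.finrank K V) (q : QuadraticForm K V)
    (hq : (QuadraticMap.polarBilin q).Nondegenerate) :
    ∃ v : V, v ≠ 0 ∧ q v = 0 := by
  have hnt : Nontrivial V := Module.nontrivial_of_finrank_pos (R := K) (by omega)
  obtain ⟨v, hv⟩ := exists_ne (0 : V)
  by_cases hqv : q v = 0
  · exact ⟨v, hv, hqv⟩
  have h2 : (2 : K) = 0 := by
    have := CharP.cast_eq_zero K 2
    exact_mod_cast this
  -- the hyperplane orthogonal to `v`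
  let φ : V →ₗ[K] K := QuadraticMap.polarBilin q v
  have hker : 2 ≤ Module.finrank K (LinearMap.ker φ) := by
    have h1 := LinearMap.finrank_range_add_finrank_ker φ
    have h3 : Module.finrank K (LinearMap.range φ) ≤ 1 := by
      have := Submodule.finrank_le (LinearMap.range φ)
      simpa using this
    omega
  have hnle : ¬ LinearMap.ker φ ≤ Submodule.span K {v} := by
    intro hle
    have h1 := Submodule.finrank_mono hle
    rw [finrank_span_singleton hv] at h1
    omega
  obtain ⟨w, hwφ, hwv⟩ := SetLike.not_le_iff_exists.1 hnle
  have hpol : QuadraticMap.polar q v w = 0 := by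
    simpa [φ] using hwφ
  -- a square root of `q w / q v`
  haveI : ExpChar K 2 := ExpChar.prime Nat.prime_two
  obtain ⟨c, hc⟩ := surjective_frobenius K 2 (q w / q v)
  have hc' : c * c * q v = q w := by
    have : c ^ 2 = q w / q v := hc
    rw [← pow_two, this, div_mul_cancel₀ _ hqv]
  refine ⟨c • v + w, ?_, ?_⟩
  · intro h0
    apply hwv
    rw [Submodule.mem_span_singleton]
    exact ⟨-c, by rw [neg_smul]; exact (eq_neg_of_add_eq_zero_right h0).symm ▸ by simp⟩
  · have h1 : q (c • v + w) = q (c • v) + q w + QuadraticMap.polar q (c • v) w := by
      simp [QuadraticMap.polar]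
    rw [h1, QuadraticMap.polar_smul_left, hpol, QuadraticMap.map_smul, smul_eq_mul, smul_eq_mul,
      hc', mul_zero, add_zero, ← two_mul, h2, zero_mul]

end Groth.Agent.S19591
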