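import Groth.Statements.S19596
import Groth.Agent.Lib.Helper78.NodeAlgColon

set_option autoImplicit false
universe u
open ArLef ArLef.NodeAlg

namespace Groth.Agent.S19596

/-- In the cases where σ fixes the two branches through the point, these lie on different components,
and the second branch lies in the divisorial part of the fixed locus with multiplicity i₂ strictly
between 0 and j while the first has multiplicity i₁ ≤ i₂, let B be a discrete valuation ring with
uniformizer π, N = B[[t, e]]/(te - π) the complete local ring of a semi-stable arithmetic surface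
over B at a singular point x of the closed fibre, and σ a ring automorphism of N with σ(π) = π + γ
π^j (γ a unit of B, j ≥ 1) and σ(c) - c ∈ π^j N for all c ∈ B. Suppose σ(t) = α t and σ(e) = β e
with units α, β, and α - 1 = t^{i₁} e^{i₂} a, β - 1 = t^{i₁} e^{i₂} b with i₁ ≤ i₂, 0 < i₂ < j, e
not dividing a and t not dividing b. Then, I being the fixed-point ideal of σ, whose divisorial part
near x is t^{i₁} e^{i₂}, the residual fixed-point scheme with ideal (I : t^{i₁} e^{i₂}) has length 1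
+ (j - i₁)·Leng N/(t, b) + (j - i₂)·Leng N/(e, a) at x; here Leng N/(t, b) + i₂ + 1 and Leng N/(e,
a) + i₁ + 1 are the orders at x of the derivations σ induces on the two components (the fixed-point
multiplicities when the component is outside the divisorial part). -/
theorem result (B : Type u) [CommRing B] [IsDomain B] [IsDiscreteValuationRing B] (π : B) (hπ : Irreducible π)
    (j i₁ i₂ : ℕ) (h12 : i₁ ≤ i₂) (h2 : 0 < i₂) (h2j : i₂ < j) (γ : B) (hγ : IsUnit γ)
    (σ : ArLef.NodeAlg B π ≃+* ArLef.NodeAlg B π)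
    (hσB : ∀ c : B, σ (algebraMap B (ArLef.NodeAlg B π) c) - algebraMap B (ArLef.NodeAlg B π) c ∈
      Ideal.span ({algebraMap B (ArLef.NodeAlg B π) (π ^ j)} : Set (ArLef.NodeAlg B π)))
    (hσπ : σ (algebraMap B (ArLef.NodeAlg B π) π) = algebraMap B (ArLef.NodeAlg B π) (π + γ * π ^ j))
    (α β : (ArLef.NodeAlg B π)ˣ) (ht : σ (ArLef.NodeAlg.t π) = (α : ArLef.NodeAlg B π) * ArLef.NodeAlg.t π) (he : σ (ArLef.NodeAlg.e π) = (β : ArLef.NodeAlg B π) * ArLef.NodeAlg.e π)
    (a b : ArLef.NodeAlg B π) (ha : (α : ArLef.NodeAlg B π) - 1 = ArLef.NodeAlg.t π ^ i₁ * ArLef.NodeAlg.e π ^ i₂ * a) (hb : (β : ArLef.NodeAlg B π) - 1 = ArLef.NodeAlg.t π ^ i₁ * ArLef.NodeAlg.e π ^ i₂ * b)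
    (hea : ¬ (ArLef.NodeAlg.e π ∣ a)) (htb : ¬ (ArLef.NodeAlg.t π ∣ b)) :
    Module.length (ArLef.NodeAlg B π) (ArLef.NodeAlg B π ⧸ (ArLef.fixIdeal σ).colon ({ArLef.NodeAlg.t π ^ i₁ * ArLef.NodeAlg.e π ^ i₂} : Set (ArLef.NodeAlg B π))) =
      1 + ((j - i₁ : ℕ) : ℕ∞) * Module.length (ArLef.NodeAlg B π) (ArLef.NodeAlg B π ⧸ Ideal.span ({ArLef.NodeAlg.t π, b} : Set (ArLef.NodeAlg B π))) +
        ((j - i₂ : ℕ) : ℕ∞) * Module.length (ArLef.NodeAlg B π) (ArLef.NodeAlg B π ⧸ Ideal.span ({ArLef.NodeAlg.e π, a} : Set (ArLef.NodeAlg B π))) := by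
  have hj : 1 ≤ j := by omega
  obtain ⟨hfix, hrel⟩ := Groth.Agent.Lib.Helper78.NodeAlgBasic.fixIdeal_stab π hπ j hj γ hγ σ hσB hσπ
    (α : ArLef.NodeAlg B π) (β : ArLef.NodeAlg B π) ht he
  obtain ⟨m, hm⟩ : ∃ m, j = i₁ + m + 1 := ⟨j - 1 - i₁, by omega⟩
  obtain ⟨n, hn⟩ : ∃ n, j = i₂ + n + 1 := ⟨j - 1 - i₂, by omega⟩
  have hj1 : j - 1 = i₁ + m := by omega
  have hj2 : j - 1 = i₂ + n := by omega
  have hm' : j - i₁ = m + 1 := by omega
  have hn' : j - i₂ = n + 1 := by omega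
  set t := ArLef.NodeAlg.t π with htdef
  set e := ArLef.NodeAlg.e π with hedef
  set D := t ^ i₁ * e ^ i₂ with hD
  have hD0 : ∀ z, D * z = 0 → z = 0 := fun z hz =>
    Groth.Agent.Lib.Helper78.NodeAlgBasic.t_pow_mul_e_pow_mul_eq_zero π hπ i₁ i₂ z hz
  have hpow1 : t ^ (j - 1) * e ^ (j - 1) = D * (t ^ m * e ^ n) := by
    have : t ^ (j - 1) * e ^ (j - 1) = t ^ (i₁ + m) * e ^ (i₂ + n) := by rw [← hj1, ← hj2]
    rw [this, hD, pow_add, pow_add]; ring
  have hpow2 : t ^ j * e ^ j = D * (t ^ (m + 1) * e ^ (n + 1)) := by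
    have : t ^ j * e ^ j = t ^ (i₁ + (m + 1)) * e ^ (i₂ + (n + 1)) := by
      rw [← add_assoc, ← add_assoc, ← hm, ← hn]
    rw [this, hD, pow_add, pow_add]; ring
  have hrel' : a + (α : ArLef.NodeAlg B π) * b =
      algebraMap B (ArLef.NodeAlg B π) γ * (t ^ m * e ^ n) := by
    have h0 : D * (a + (α : ArLef.NodeAlg B π) * b -
        algebraMap B (ArLef.NodeAlg B π) γ * (t ^ m * e ^ n)) = 0 := by
      rw [hpow1, ha, hb] at hrel
      linear_combination hrel
    exact sub_eq_zero.mp (hD0 _ h0)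
  have hG := Groth.Agent.Lib.Helper78.NodeAlgBasic.length_G π hπ a b (α : ArLef.NodeAlg B π)
    (algebraMap B (ArLef.NodeAlg B π) γ) α.isUnit (hγ.map _) m n hrel' hea htb
  have hcolon : (ArLef.fixIdeal σ).colon ({D} : Set (ArLef.NodeAlg B π)) =
      Ideal.span {t * a, e * b, t ^ (m + 1) * e ^ (n + 1)} := by
    ext y
    rw [Submodule.mem_colon_singleton, smul_eq_mul, hfix, Submodule.mem_span_triple,
      Submodule.mem_span_triple]
    simp only [smul_eq_mul]
    rw [ha, hb, hpow2]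
    constructor
    · rintro ⟨p, q, r, h⟩
      refine ⟨p, q, r, ?_⟩
      have h0 : D * (p * (t * a) + q * (e * b) + r * (t ^ (m + 1) * e ^ (n + 1)) - y) = 0 := by
        linear_combination h
      exact sub_eq_zero.mp (hD0 _ h0)
    · rintro ⟨p, q, r, rfl⟩
      exact ⟨p, q, r, by ring⟩
  rw [hcolon, hG, hm', hn']

end Groth.Agent.S19596
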