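import Groth.Statements.S19597
import Groth.Agent.Lib.Helper78.NodeAlgColon

set_option autoImplicit false
universe u
open ArLef ArLef.NodeAlg

namespace Groth.Agent.S19597

/-- In the cases where σ fixes the two branches through the point, these lie on different components,
the second lies in the divisorial part of the fixed locus with the maximal multiplicity j and the
first with multiplicity i₁ < j, let B be a discrete valuation ring with uniformizer π, N = B[[t,
e]]/(te - π) the complete local ring of a semi-stable arithmetic surface over B at a singular point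
x of the closed fibre, and σ a ring automorphism of N with σ(π) = π + γ π^j (γ a unit of B, j ≥ 1)
and σ(c) - c ∈ π^j N for all c ∈ B. Suppose σ(t) = α t and σ(e) = β e with units α, β, that α - 1 =
t^{i₁} e^j a and β - 1 = t^{i₁} e^{j-1} b with i₁ < j and t not dividing b. Then, I being the
fixed-point ideal of σ, whose divisorial part near x is t^{i₁} e^j, the length l of the residual
fixed-point scheme with ideal (I : t^{i₁} e^j) satisfies l + (j - 1 - i₁) = (j - i₁)·Leng N/(t, b);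
for i₁ = 0, Leng N/(t, b) + j is the fixed-point multiplicity s₁ of σ at x on the first component
and l = j (s₁ - j - 1) + 1. -/
theorem result (B : Type u) [CommRing B] [IsDomain B] [IsDiscreteValuationRing B] (π : B) (hπ : Irreducible π)
    (j i₁ : ℕ) (h1 : i₁ < j) (γ : B) (hγ : IsUnit γ)
    (σ : ArLef.NodeAlg B π ≃+* ArLef.NodeAlg B π)
    (hσB : ∀ c : B, σ (algebraMap B (ArLef.NodeAlg B π) c) - algebraMap B (ArLef.NodeAlg B π) c ∈
      Ideal.span ({algebraMap B (ArLef.NodeAlg B π) (π ^ j)} : Set (ArLef.NodeAlg B π)))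
    (hσπ : σ (algebraMap B (ArLef.NodeAlg B π) π) = algebraMap B (ArLef.NodeAlg B π) (π + γ * π ^ j))
    (α β : (ArLef.NodeAlg B π)ˣ) (ht : σ (ArLef.NodeAlg.t π) = (α : ArLef.NodeAlg B π) * ArLef.NodeAlg.t π) (he : σ (ArLef.NodeAlg.e π) = (β : ArLef.NodeAlg B π) * ArLef.NodeAlg.e π)
    (a b : ArLef.NodeAlg B π) (ha : (α : ArLef.NodeAlg B π) - 1 = ArLef.NodeAlg.t π ^ i₁ * ArLef.NodeAlg.e π ^ j * a) (hb : (β : ArLef.NodeAlg B π) - 1 = ArLef.NodeAlg.t π ^ i₁ * ArLef.NodeAlg.e π ^ (j - 1) * b)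
    (htb : ¬ (ArLef.NodeAlg.t π ∣ b)) :
    Module.length (ArLef.NodeAlg B π) (ArLef.NodeAlg B π ⧸ (ArLef.fixIdeal σ).colon ({ArLef.NodeAlg.t π ^ i₁ * ArLef.NodeAlg.e π ^ j} : Set (ArLef.NodeAlg B π))) + ((j - 1 - i₁ : ℕ) : ℕ∞) =
      ((j - i₁ : ℕ) : ℕ∞) * Module.length (ArLef.NodeAlg B π) (ArLef.NodeAlg B π ⧸ Ideal.span ({ArLef.NodeAlg.t π, b} : Set (ArLef.NodeAlg B π))) := by
  have hj : 1 ≤ j := by omega
  obtain ⟨hfix, hrel⟩ := Groth.Agent.Lib.Helper78.NodeAlgBasic.fixIdeal_stab π hπ j hj γ hγ σ hσB hσπ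
    (α : ArLef.NodeAlg B π) (β : ArLef.NodeAlg B π) ht he
  obtain ⟨m, hm⟩ : ∃ m, j = i₁ + m + 1 := ⟨j - 1 - i₁, by omega⟩
  obtain ⟨j', hj'⟩ : ∃ j', j = j' + 1 := ⟨j - 1, by omega⟩
  have hj1 : j - 1 = i₁ + m := by omega
  have hj2 : j - 1 = j' := by omega
  have hm' : j - i₁ = m + 1 := by omega
  have hm'' : j - 1 - i₁ = m := by omega
  set t := ArLef.NodeAlg.t π with htdef
  set e := ArLef.NodeAlg.e π with hedef
  set D := t ^ i₁ * e ^ j with hD
  have hD0 : ∀ z, D * z = 0 → z = 0 := fun z hz =>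
    Groth.Agent.Lib.Helper78.NodeAlgBasic.t_pow_mul_e_pow_mul_eq_zero π hπ i₁ j z hz
  have hD0' : ∀ z, t ^ i₁ * e ^ j' * z = 0 → z = 0 := fun z hz =>
    Groth.Agent.Lib.Helper78.NodeAlgBasic.t_pow_mul_e_pow_mul_eq_zero π hπ i₁ j' z hz
  have hej : e ^ j = e ^ j' * e := by rw [hj', pow_succ]
  have hpow1 : t ^ (j - 1) * e ^ (j - 1) = t ^ i₁ * e ^ j' * t ^ m := by
    have : t ^ (j - 1) * e ^ (j - 1) = t ^ (i₁ + m) * e ^ j' := by rw [← hj1, hj2]
    rw [this, pow_add]; ring
  have hpow2 : t ^ j * e ^ j = D * t ^ (m + 1) := by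
    have : t ^ j * e ^ j = t ^ (i₁ + (m + 1)) * e ^ j := by
      rw [← add_assoc, ← hm]
    rw [this, hD, pow_add]; ring
  rw [hj2] at hb
  have hrel' : e * a + (α : ArLef.NodeAlg B π) * b =
      algebraMap B (ArLef.NodeAlg B π) γ * t ^ m := by
    have h0 : t ^ i₁ * e ^ j' * (e * a + (α : ArLef.NodeAlg B π) * b -
        algebraMap B (ArLef.NodeAlg B π) γ * t ^ m) = 0 := by
      rw [hpow1, ha, hb, hD, hej] at hrel
      linear_combination hrel
    exact sub_eq_zero.mp (hD0' _ h0)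
  have hG := Groth.Agent.Lib.Helper78.NodeAlgBasic.length_G' π hπ a b (α : ArLef.NodeAlg B π)
    (algebraMap B (ArLef.NodeAlg B π) γ) α.isUnit (hγ.map _) m hrel' htb
  have hbe : ((β : ArLef.NodeAlg B π) - 1) * e = D * b := by
    rw [hb, hD, hej]; ring
  have hcolon : (ArLef.fixIdeal σ).colon ({D} : Set (ArLef.NodeAlg B π)) =
      Ideal.span {t * a, b, t ^ (m + 1)} := by
    ext y
    rw [Submodule.mem_colon_singleton, smul_eq_mul, hfix, Submodule.mem_span_triple,
      Submodule.mem_span_triple]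
    simp only [smul_eq_mul]
    rw [ha, hbe, hpow2]
    constructor
    · rintro ⟨p, q, r, h⟩
      refine ⟨p, q, r, ?_⟩
      have h0 : D * (p * (t * a) + q * b + r * t ^ (m + 1) - y) = 0 := by
        linear_combination h
      exact sub_eq_zero.mp (hD0 _ h0)
    · rintro ⟨p, q, r, rfl⟩
      exact ⟨p, q, r, by ring⟩
  rw [hcolon, hm', hm'', hG]

end Groth.Agent.S19597
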