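import Groth.Statements.S19603
import Groth.Agent.Lib.Helper84.LinGrading
-- import your own Groth.Agent.* helpers here

set_option autoImplicit false
universe u
open GIT

namespace Groth.Agent.S19603

/-- For the whole projective space U = P(V), let k be an algebraically closed field of arbitrary
characteristic and G = Spec A a linearly reductive affine algebraic group acting linearly on affine
ι-space, and let v be a vector. Then some invariant homogeneous polynomial of positive degree is
non-zero at v (the point of v is semistable) if and only if the origin is not in the closure of the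
orbit of v. -/
theorem result (k : Type u) [Field k] [IsAlgClosed k]
    (A : Type u) [CommRing A] [HopfAlgebra k A] [Algebra.FiniteType k A] (hG : HopfRep.IsLinearlyReductive k A)
    (ι : Type u) [Fintype ι] [HopfRep.Comod k A (MvPolynomial ι k)] [GLin.IsCoactAlg k A (MvPolynomial ι k)]
    (hlin : GLin.IsLinear k A ι) (v : ι → k) :
    GLin.IsSemistableVec k A v ↔
      ¬ GLin.InOrbitClosure k A (GLin.vecPt k ι v) (GLin.vecPt k ι (fun _ => (0 : k))) := by
  classical
  have hmul : ∀ f g : MvPolynomial ι k, HopfRep.Comod.coact (k := k) (A := A) (f * g) =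
      HopfRep.Comod.coact (k := k) (A := A) f * HopfRep.Comod.coact (k := k) (A := A) g :=
    GLin.IsCoactAlg.coact_mul
  have hone : HopfRep.Comod.coact (k := k) (A := A) (1 : MvPolynomial ι k) = 1 :=
    GLin.IsCoactAlg.coact_one (k := k)
  set x₁ := GLin.vecPt k ι v with hx₁
  set x₂ := GLin.vecPt k ι (fun _ => (0 : k)) with hx₂
  have hx₁e : ∀ F : MvPolynomial ι k, x₁ F = MvPolynomial.eval v F := by
    intro F
    rw [hx₁]
    exact RingHom.congr_fun (MvPolynomial.coe_aeval_eq_eval v) F
  have hx₂e : ∀ F : MvPolynomial ι k, x₂ F = MvPolynomial.constantCoeff F := by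
    intro F
    rw [hx₂]
    exact MvPolynomial.aeval_zero' F
  have hinv : ∀ (x : MvPolynomial ι k →ₐ[k] k) (f : MvPolynomial ι k),
      f ∈ GLin.invariants k A (MvPolynomial ι k) →
      GLin.orbitHom k A x f = algebraMap k A (x f) := by
    intro x f hf
    have hf' : HopfRep.Comod.coact (k := k) (A := A) f = f ⊗ₜ[k] (1 : A) := hf
    change (Algebra.TensorProduct.lid k A) ((Algebra.TensorProduct.map x (AlgHom.id k A))
      (HopfRep.Comod.coact (k := k) (A := A) f)) = _
    rw [hf']
    simp [Algebra.algebraMap_eq_smul_one]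
  unfold GLin.IsSemistableVec
  rw [not_iff_not]
  constructor
  · intro hnull
    by_contra hno
    have hJ : RingHom.ker (GLin.orbitHom k A x₁) ⊔ RingHom.ker x₂ = ⊤ := by
      by_contra hJ
      obtain ⟨z, hz⟩ := Groth.Agent.Lib.Helper59.exists_algHom_of_ne_top k (MvPolynomial ι k) _ hJ
      have hzx : z = x₂ := by
        apply MvPolynomial.algHom_ext
        intro i
        have h0 : x₂ (MvPolynomial.X i) = 0 := by rw [hx₂e]; simp
        rw [h0]
        exact hz _ (Submodule.mem_sup_right (RingHom.mem_ker.mpr h0))
      apply hno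
      intro f hf
      rw [RingHom.mem_ker, ← hzx]
      exact hz f (Submodule.mem_sup_left hf)
    have h1 : (1 : MvPolynomial ι k) ∈ RingHom.ker (GLin.orbitHom k A x₁) ⊔ RingHom.ker x₂ := by
      rw [hJ]; trivial
    obtain ⟨f, hf, g, hg, hfg⟩ := Submodule.mem_sup.mp h1
    obtain ⟨E, hE⟩ := Groth.Agent.Lib.Helper59.LinRed.exists_isReynolds (V := MvPolynomial ι k) hG
    have hE1 : E 1 = 1 := by
      apply hE.apply_of_mem
      change HopfRep.Comod.coact (k := k) (A := A) (1 : MvPolynomial ι k) = 1 ⊗ₜ[k] (1 : A)
      rw [hone, Algebra.TensorProduct.one_def]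
    have hEf : E f ∈ (RingHom.ker (GLin.orbitHom k A x₁)).restrictScalars k :=
      hE.apply_mem_of_isSubcomod hG _
        (Groth.Agent.Lib.Helper59.LinRed.isSubcomod_ker_orbitAlg hmul hone x₁) hf
    have hxf : x₁ (E f) = 0 :=
      Groth.Agent.Lib.Helper59.LinRed.apply_eq_zero_of_orbitAlg_eq_zero hmul hone x₁ hEf
    have hxg : x₁ (E g) = 1 := by
      have : x₁ (E (f + g)) = 1 := by rw [hfg, hE1, map_one]
      rwa [map_add, map_add, hxf, zero_add] at this
    have hcomp : ∀ d : ℕ, x₁ (E (MvPolynomial.homogeneousComponent d g)) = 0 := by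
      intro d
      rcases Nat.eq_zero_or_pos d with hd | hd
      · subst hd
        have hg0 : MvPolynomial.constantCoeff g = 0 := by
          rw [← hx₂e]; exact RingHom.mem_ker.mp hg
        rw [MvPolynomial.homogeneousComponent_zero]
        have : MvPolynomial.coeff 0 g = 0 := hg0
        rw [this]
        simp
      · have hhom : (E (MvPolynomial.homogeneousComponent d g)).IsHomogeneous d :=
          hE.apply_mem_of_isSubcomod hG _
            (Groth.Agent.Lib.Helper84.LinGrading.isSubcomod_homogeneousSubmodule hlin d)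
            (MvPolynomial.homogeneousComponent_isHomogeneous d g)
        rw [hx₁e]
        exact hnull _ (hE.apply_mem _) d hd hhom
    have hsum := MvPolynomial.sum_homogeneousComponent g
    rw [← hsum, map_sum, map_sum] at hxg
    rw [Finset.sum_eq_zero (fun d _ => hcomp d)] at hxg
    exact zero_ne_one hxg
  · intro hin F hF d hd hFd
    have hmem : F - MvPolynomial.C (x₁ F) ∈ RingHom.ker (GLin.orbitHom k A x₁) := by
      rw [RingHom.mem_ker, map_sub, hinv x₁ F hF, ← MvPolynomial.algebraMap_eq, AlgHom.commutes,
        sub_self]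
    have h2 := hin hmem
    rw [RingHom.mem_ker, map_sub, ← MvPolynomial.algebraMap_eq, AlgHom.commutes, sub_eq_zero] at h2
    rw [← hx₁e]
    have h3 : x₁ F = x₂ F := by
      rw [h2]; rfl
    rw [h3, hx₂e]
    change MvPolynomial.coeff 0 F = 0
    apply hFd.coeff_eq_zero
    simp
    omega

end Groth.Agent.S19603
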