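import Groth.Statements.S19609
import Mathlib.RingTheory.Ideal.Operations

set_option autoImplicit false
universe u
open CartMod

namespace Groth.Agent.S19609

/-- membership in `I ^ n • ⊤` for a principal ideal. -/
theorem mem_pow_smul_top_iff {R : Type u} [CommRing R] (x : R) (n : ℕ) (a : R) :
    a ∈ ((Ideal.span {x}) ^ n • ⊤ : Submodule R R) ↔ x ^ n ∣ a := by
  rw [Ideal.span_singleton_pow, smul_eq_mul, Ideal.mul_top, Ideal.mem_span_singleton]

/-- Let p be a prime and u : A → B a ring homomorphism between commutative rings which are complete and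
separated for the p-adic topology and have no p-torsion (flat over the p-adic base). If u induces a
bijection A/pA → B/pB (injectivity: u a ∈ pB forces a ∈ pA; surjectivity: every b ∈ B is congruent
to some u a modulo pB), then u is bijective. (The published statement is for a morphism of flat
p-adic formal schemes over the Witt vectors of a perfect field: if its special fibre is an
isomorphism, so is the morphism; this row is its affine, ring-level case.) -/
theorem result (p : ℕ) [Fact p.Prime]
    {A B : Type u} [CommRing A] [CommRing B]
    [IsAdicComplete (Ideal.span {(p : A)}) A] [IsAdicComplete (Ideal.span {(p : B)}) B]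
    (hA : IsSMulRegular A (p : A)) (hB : IsSMulRegular B (p : B)) (u : A →+* B)
    (hinj : ∀ a : A, u a ∈ Ideal.span {(p : B)} → a ∈ Ideal.span {(p : A)})
    (hsurj : ∀ b : B, ∃ a : A, b - u a ∈ Ideal.span {(p : B)}) :
    Function.Bijective u := by
  have hup : u (p : A) = (p : B) := map_natCast u p
  constructor
  · rw [injective_iff_map_eq_zero]
    intro a ha
    have key : ∀ (n : ℕ) (a : A), u a = 0 → (p : A) ^ n ∣ a := by
      intro n
      induction n with
      | zero => intro a _; simp
      | succ n ih =>
        intro a ha
        have h1 : a ∈ Ideal.span {(p : A)} := hinj a (by rw [ha]; exact Ideal.zero_mem _)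
        obtain ⟨a₁, rfl⟩ := Ideal.mem_span_singleton.1 h1
        have h2 : u a₁ = 0 := by
          apply hB
          change (p : B) • u a₁ = (p : B) • 0
          rw [smul_eq_mul, smul_eq_mul, mul_zero, ← hup, ← map_mul, ha]
        obtain ⟨c, rfl⟩ := ih a₁ h2
        exact ⟨c, by ring⟩
    apply IsHausdorff.haus (I := Ideal.span {(p : A)}) inferInstance
    intro n
    rw [SModEq.zero, mem_pow_smul_top_iff]
    exact key n a ha
  · intro b
    -- choice of approximations
    choose a ha using hsurj
    have hc : ∀ b : B, ∃ c : B, b - u (a b) = (p : B) * c := fun b =>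
      Ideal.mem_span_singleton.1 (ha b)
    choose c hc using hc
    let bs : ℕ → B := fun n => c^[n] b
    have hbs : ∀ n, bs (n + 1) = c (bs n) := fun n => Function.iterate_succ_apply' c n b
    let s : ℕ → A := fun n => ∑ i ∈ Finset.range n, (p : A) ^ i * a (bs i)
    have hs : ∀ n, b - u (s n) = (p : B) ^ n * bs n := by
      intro n
      induction n with
      | zero => simp [s, bs]
      | succ n ih =>
        have : s (n + 1) = s n + (p : A) ^ n * a (bs n) := Finset.sum_range_succ _ _
        rw [this, map_add, map_mul, map_pow, hup, hbs, pow_succ, mul_assoc, ← hc (bs n), mul_sub,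
          ← ih]
        ring
    have hcauchy : ∀ {m n : ℕ}, m ≤ n →
        s m ≡ s n [SMOD ((Ideal.span {(p : A)}) ^ m • ⊤ : Submodule A A)] := by
      intro m n hmn
      rw [SModEq.sub_mem, mem_pow_smul_top_iff, ← dvd_neg, neg_sub]
      have : s n - s m = ∑ i ∈ Finset.Ico m n, (p : A) ^ i * a (bs i) := by
        simp only [s]
        rw [Finset.sum_Ico_eq_sub _ hmn]
      rw [this]
      apply Finset.dvd_sum
      intro i hi
      rw [Finset.mem_Ico] at hi
      exact Dvd.dvd.mul_right (pow_dvd_pow _ hi.1) _
    obtain ⟨L, hL⟩ := IsPrecomplete.prec' (I := Ideal.span {(p : A)}) s hcauchy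
    refine ⟨L, ?_⟩
    have : b - u L = 0 := by
      apply IsHausdorff.haus (I := Ideal.span {(p : B)}) inferInstance
      intro n
      rw [SModEq.zero, mem_pow_smul_top_iff]
      have h1 : (p : A) ^ n ∣ s n - L := by
        have := hL n
        rwa [SModEq.sub_mem, mem_pow_smul_top_iff] at this
      obtain ⟨w, hw⟩ := h1
      have h2 : b - u L = (p : B) ^ n * bs n + (p : B) ^ n * u w := by
        have : u (s n) - u L = (p : B) ^ n * u w := by
          rw [← map_sub, hw, map_mul, map_pow, hup]
        rw [← hs n, ← this]
        ring
      rw [h2, ← mul_add]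
      exact dvd_mul_right _ _
    exact (sub_eq_zero.1 this).symm

end Groth.Agent.S19609
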