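import Groth.Statements.S19611
import Mathlib.AlgebraicGeometry.IdealSheaf.Subscheme
import Mathlib.AlgebraicGeometry.Morphisms.ClosedImmersion

set_option autoImplicit false
universe u
open CategoryTheory AlgebraicGeometry
open CartMod

namespace Groth.Agent.S19611

/-- For a prime p and a scheme Y of characteristic p, write Y♭ for the scheme-theoretic image of the
absolute Frobenius F_Y : Y → Y, i.e. the closed subscheme of Y defined by the sections of O_Y whose
p-th power vanishes, and Y → Y♭ for the canonical morphism through which F_Y factors. Then Y → Y♭ is
an epimorphism of schemes: two morphisms g₁, g₂ from Y♭ to a scheme Z with equal composites Y → Y♭ →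
Z are equal. (The published statement is for k-morphisms g₁, g₂ from Y♭ to a k-scheme Z over a
perfect field k of characteristic p, compared after Frobenius twist through Y → (Y♭)'; this row asks
right-cancellation against morphisms to every scheme Z, which is equivalent to it for k-morphisms.) -/
theorem result (p : ℕ) [Fact p.Prime] (Y : Scheme.{u}) [FrobSch.IsCharP Y p] :
    Epi (FrobSch.frob Y p).toImage := by
  set f := FrobSch.frob Y p with hfdef
  have hqc : QuasiCompact f := by
    constructor
    intro U hU hc
    exact hc
  have hcomp : f.toImage ≫ f.imageι = f := f.toImage_imageι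
  have hinj_ι : Function.Injective f.imageι := f.imageι.isEmbedding.injective
  have hsurj : Function.Surjective f.toImage := by
    intro z
    refine ⟨f.imageι z, hinj_ι ?_⟩
    rw [← Scheme.Hom.comp_apply, hcomp]
    rfl
  have hind : Topology.IsInducing f.toImage := by
    have h1 : Topology.IsInducing (f.imageι ∘ f.toImage) := by
      have : (f.imageι ∘ f.toImage : Y → Y) = id := by
        funext y
        change (f.toImage ≫ f.imageι) y = y
        rw [hcomp]; rfl
      rw [this]; exact Topology.IsInducing.id
    exact Topology.IsInducing.of_comp f.toImage.continuous f.imageι.continuous h1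
  apply CategoryTheory.Functor.epi_of_epi_map (Scheme.forgetToLocallyRingedSpace)
  apply CategoryTheory.Functor.epi_of_epi_map (LocallyRingedSpace.forgetToSheafedSpace)
  apply SheafedSpace.epi_of_base_surjective_of_stalk_mono _ hsurj
  intro x
  apply ConcreteCategory.mono_of_injective
  change Function.Injective ⇑(ConcreteCategory.hom
    ((TopCat.Presheaf.stalkFunctor _ (f.toImage x)).map f.toImage.c ≫
      TopCat.Presheaf.stalkPushforward _ f.toImage.base Y.presheaf x))
  have h2 : IsIso (TopCat.Presheaf.stalkPushforward CommRingCat f.toImage.base Y.presheaf x) :=
    TopCat.Presheaf.stalkPushforward.stalkPushforward_iso_of_isInducing (C := CommRingCat)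
      (f := f.toImage.base) hind Y.presheaf x
  exact Function.Injective.comp
    (g := ⇑(ConcreteCategory.hom
      (TopCat.Presheaf.stalkPushforward CommRingCat f.toImage.base Y.presheaf x)))
    (ConcreteCategory.bijective_of_isIso _).1 (f.stalkFunctor_toImage_injective _)

end Groth.Agent.S19611
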