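import Groth.Statements.S19612
import Groth.Agent.Lib.Helper98.FlatAdic

set_option autoImplicit false
universe u
open scoped TensorProduct
open CartMod

namespace Groth.Agent.S19612

/-- Let k be a perfect field of characteristic p, W = W(k) the ring of Witt vectors of k, and A a
commutative W-algebra which is complete and separated for the p-adic topology (an adic W-algebra).
Then flatness of A over W is equivalent to flatness of A/p^nA = (W/p^nW) ⊗_W A over W/p^nW for every
n ≥ 1. -/
theorem result (p : ℕ) [Fact p.Prime] (k : Type u) [Field k]
    [CharP k p] [PerfectRing k p] (A : Type u) [CommRing A] [Algebra (WittVector p k) A]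
    [IsAdicComplete (Ideal.span {(p : WittVector p k)}) A] :
    Module.Flat (WittVector p k) A ↔
      ∀ n : ℕ, 1 ≤ n →
        Module.Flat (WittVector p k ⧸ (Ideal.span {(p : WittVector p k)} ^ n))
          ((WittVector p k ⧸ (Ideal.span {(p : WittVector p k)} ^ n)) ⊗[WittVector p k] A) := by
  constructor
  · intro h n _
    infer_instance
  · intro h
    have hp0 : (p : WittVector p k) ≠ 0 := WittVector.p_nonzero p k
    have key : ∀ (m : ℕ) (a : A), (p : WittVector p k) ^ m • a = 0 → a = 0 := by
      intro m
      induction m with
      | zero => intro a ha; simpa using ha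
      | succ m ih =>
        intro a ha
        rw [pow_succ', mul_smul] at ha
        exact ih a (Groth.Agent.Lib.Helper98.eq_zero_of_smul_eq_zero_of_flat_quot
          (p : WittVector p k) hp0 A h _ ha)
    rw [Module.Flat.flat_iff_torsion_eq_bot_of_isBezout, eq_bot_iff]
    intro a ha
    rw [Submodule.mem_torsion_iff] at ha
    obtain ⟨w, hw⟩ := ha
    obtain ⟨m, b, hb⟩ := WittVector.exists_eq_pow_p_mul' (w : WittVector p k)
      (nonZeroDivisors.coe_ne_zero w)
    rw [Submodule.mem_bot]
    apply key m
    have h1 : (w : WittVector p k) • a = 0 := hw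
    rw [hb, mul_comm, mul_smul] at h1
    have h2 := congrArg (fun z => ((b⁻¹ : (WittVector p k)ˣ) : WittVector p k) • z) h1
    simp only [smul_zero] at h2
    rwa [← mul_smul, Units.inv_mul, one_smul] at h2

end Groth.Agent.S19612
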