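import Groth.Statements.S19613
import Groth.Agent.Lib.Helper18.ThickAffine
import Groth.Agent.Lib.Helper30.ModEpi
import Groth.Agent.Lib.Helper16.LFRes.Sections
import Groth.Agent.Lib.Helper49.QCohLocal
import Groth.Agent.Lib.Helper45.CoprimarySheaf

set_option autoImplicit false
set_option linter.style.haveILetI false
universe u
open CategoryTheory AlgebraicGeometry TopologicalSpace
open CartMod

namespace Groth.Agent.S19613

open CategoryTheory.Limits in
/-- A closed immersion with nilpotent ideal is surjective. -/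
theorem surjective_of_nilpotent {T Tc : Scheme.{u}} (i : T ⟶ Tc) [IsClosedImmersion i]
    (hnil : ∃ n : ℕ, ∀ V : Tc.affineOpens, i.ker.ideal V ^ n = ⊥) :
    Function.Surjective i.base := by
  obtain ⟨n, hn⟩ := hnil
  intro x
  have hx : x ∈ i.ker.support := by
    obtain ⟨_, ⟨V, hV : IsAffineOpen V, rfl⟩, hxV, -⟩ :=
      Tc.isBasis_affineOpens.exists_subset_of_mem_open (Set.mem_univ x) isOpen_univ
    rw [Scheme.IdealSheafData.mem_support_iff_of_mem (U := ⟨V, hV⟩) hxV, Scheme.mem_zeroLocus_iff]
    intro f hf hxf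
    have h1 : f ^ (n + 1) ∈ i.ker.ideal ⟨V, hV⟩ ^ (n + 1) := Ideal.pow_mem_pow hf _
    rw [pow_succ, hn ⟨V, hV⟩, Ideal.bot_mul, Ideal.mem_bot] at h1
    have h2 : Tc.basicOpen (f ^ (n + 1)) = Tc.basicOpen f := Scheme.basicOpen_pow _ _ (by omega)
    rw [h1, Scheme.basicOpen_zero] at h2
    rw [← h2] at hxf
    exact hxf
  have h3 : (i.ker.support : Set Tc) = closure (Set.range i) := i.support_ker
  have h4 : IsClosed (Set.range i) := i.isClosedEmbedding.isClosed_range
  rw [h4.closure_eq] at h3
  have : x ∈ Set.range i := by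
    rw [← h3]
    exact hx
  exact this

/-- For an affine morphism `u : T ⟶ U` factoring topologically through a surjective closed
immersion `i : T ⟶ Tc`, preimages of affine opens of `U` are affine opens of `Tc`. -/
theorem isAffineOpen_map {T Tc U : Scheme.{u}} (i : T ⟶ Tc) [IsClosedImmersion i]
    (hsurj : Function.Surjective i.base) (u : T ⟶ U) [IsAffineHom u] (g : Tc.carrier ⟶ U.carrier)
    (hg : i.base ≫ g = u.base) {W : U.Opens} (hW : IsAffineOpen W) :
    IsAffineOpen ((Opens.map g).obj W) := by
  set V : Tc.Opens := (Opens.map g).obj W with hV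
  have hpre : i ⁻¹ᵁ V = u ⁻¹ᵁ W := by
    ext t
    change g (i.base t) ∈ W ↔ u.base t ∈ W
    rw [← hg]
    rfl
  have haff : IsAffineOpen (i ⁻¹ᵁ V) := hpre ▸ hW.preimage u
  haveI : IsAffine (i ⁻¹ᵁ V : Scheme.{u}) := haff
  haveI : IsClosedImmersion (i ∣_ V) := IsZariskiLocalAtTarget.restrict ‹_› V
  haveI : Surjective i := ⟨hsurj⟩
  haveI : Surjective (i ∣_ V) := IsZariskiLocalAtTarget.restrict ‹_› V
  exact Groth.Agent.Lib.Helper18.ThickAffine.isAffine_of_isClosedImmersion_of_surjective (i ∣_ V)
    (Surjective.surj (f := i ∣_ V))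

/-- Let u : T → U be an affine morphism of schemes and i : T → T♮ a nilpotent closed immersion (its
ideal has a vanishing power), so that |T♮| = |T|; let g : |T♮| → |U| be the continuous map
underlying u, and v : (T♮, O_{T♮}) → (U, g_*O_{T♮}) the induced morphism of ringed spaces (identity
on structure rings), with direct image v_* (sections over g⁻¹ of an open) and inverse image v^* its
left adjoint. Then the restriction of v_* to quasi-coherent O_{T♮}-modules is exact; since v_* is a
right adjoint, the content is that v_* of an epimorphism between quasi-coherent O_{T♮}-modules is an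
epimorphism of sheaves of g_*O_{T♮}-modules on U, which is what is stated. -/
theorem result
    {T Tc U : Scheme.{u}} (i : T ⟶ Tc) [IsClosedImmersion i]
    (hnil : ∃ n : ℕ, ∀ V : Tc.affineOpens, i.ker.ideal V ^ n = ⊥)
    (u : T ⟶ U) [IsAffineHom u] (g : Tc.carrier ⟶ U.carrier) (hg : i.base ≫ g = u.base)
    (M N : Tc.Modules) [M.IsQuasicoherent] [N.IsQuasicoherent] (φ : M ⟶ N) [Epi φ] :
    Epi ((SheafOfModules.pushforward (F := Opens.map g) (R := Tc.ringCatSheaf)
      (𝟙 (((Opens.map g).sheafPushforwardContinuous RingCat.{u} (Opens.grothendieckTopology U)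
        (Opens.grothendieckTopology Tc)).obj Tc.ringCatSheaf))).map φ) := by
  have hsurj := surjective_of_nilpotent i hnil
  apply Groth.Agent.Lib.Helper30.ModEpi.epi_of_isLocallySurjective
  constructor
  intro W x
  rw [Opens.mem_grothendieckTopology]
  intro w hw
  obtain ⟨_, ⟨W', hW' : IsAffineOpen W', rfl⟩, hwW', hW'W⟩ :=
    U.isBasis_affineOpens.exists_subset_of_mem_open hw W.2
  refine ⟨W', homOfLE hW'W, ?_, hwW'⟩
  have hV : IsAffineOpen ((Opens.map g).obj W') := isAffineOpen_map i hsurj u g hg hW'
  haveI : (CategoryTheory.Limits.kernel φ).IsQuasicoherent :=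
    Groth.Agent.Lib.Helper49.isQuasicoherent_kernel φ inferInstance inferInstance
  have hs : Function.Surjective (φ.app ((Opens.map g).obj W')) :=
    Groth.Agent.Lib.Helper16.LFRes.app_surjective_of_shortExact _
      (Groth.Agent.Lib.Helper45.CoprimarySheaf.shortExact_kernel φ) inferInstance hV
  let x' : Γ(N, (Opens.map g).obj W') :=
    N.presheaf.map ((Opens.map g).map (homOfLE hW'W)).op x
  obtain ⟨t, ht⟩ := hs x'
  exact ⟨t, ht⟩

end Groth.Agent.S19613
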