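import Groth.Statements.S19616
import Mathlib
-- import your own Groth.Agent.* helpers here

set_option autoImplicit false
universe u
open CartMod


namespace Groth.Agent.S19616.Aux

open MvPolynomial
set_option linter.unusedSectionVars false

section gen
variable {R : Type u} [CommRing R]

lemma reg_of (c : R) (h : ∀ x, c * x = 0 → x = 0) : IsSMulRegular R c := by
  intro x y hxy
  have hxy' : c * x = c * y := hxy
  have : c * (x - y) = 0 := by rw [mul_sub, hxy', sub_self]
  exact sub_eq_zero.mp (h _ this)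

lemma of_reg {c : R} (h : IsSMulRegular R c) (x : R) (hx : c * x = 0) : x = 0 := by
  apply h
  show c * x = c * 0
  rw [hx, mul_zero]

lemma mem_span_pow_iff (c : R) (n : ℕ) (x : R) :
    x ∈ (Ideal.span {c}) ^ n ↔ ∃ z, x = c ^ n * z := by
  rw [Ideal.span_singleton_pow, Ideal.mem_span_singleton']
  constructor
  · rintro ⟨z, hz⟩; exact ⟨z, by rw [← hz, mul_comm]⟩
  · rintro ⟨z, hz⟩; exact ⟨z, by rw [hz, mul_comm]⟩

theorem completion_reg (c : R) (h : ∀ x, c * x = 0 → x = 0)
    (x : AdicCompletion (Ideal.span {c}) R)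
    (hx : algebraMap R (AdicCompletion (Ideal.span {c}) R) c * x = 0) : x = 0 := by
  obtain ⟨s, rfl⟩ := AdicCompletion.mk_surjective _ _ x
  have key : ∀ n, c * s n ∈ (Ideal.span {c}) ^ n := by
    intro n
    have h1 := congrArg (AdicCompletion.evalₐ (Ideal.span {c}) n) hx
    rw [map_mul, map_zero, AdicCompletion.evalₐ_mk, AdicCompletion.algebraMap_apply,
      AdicCompletion.evalₐ_of, Algebra.algebraMap_self, RingHom.id_apply, ← map_mul,
      Ideal.Quotient.eq_zero_iff_mem] at h1
    exact h1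
  have key2 : ∀ n, s n ∈ (Ideal.span {c}) ^ n := by
    intro n
    have h1 := key (n + 1)
    rw [mem_span_pow_iff] at h1
    obtain ⟨z, hz⟩ := h1
    have h2 : s (n + 1) = c ^ n * z := by
      have : c * (s (n + 1) - c ^ n * z) = 0 := by
        rw [mul_sub, hz]; ring
      exact sub_eq_zero.mp (h _ this)
    have h3 := s.property (Nat.le_succ n)
    rw [SModEq.sub_mem] at h3
    have h4 : s n - s (n + 1) ∈ (Ideal.span {c}) ^ n := by
      simpa using h3
    have h5 : s (n + 1) ∈ (Ideal.span {c}) ^ n := by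
      rw [mem_span_pow_iff]; exact ⟨z, h2⟩
    have := Ideal.add_mem _ h4 h5
    simpa using this
  apply AdicCompletion.ext_evalₐ
  intro n
  rw [AdicCompletion.evalₐ_mk, map_zero, Ideal.Quotient.eq_zero_iff_mem]
  exact key2 n

end gen

section constr
variable (p : ℕ) (A : Type u) [CommRing A] {n : ℕ} (a : Fin n → A)

/-- The ideal generated by the `p T_i - a_i`. -/
noncomputable def J : Ideal (MvPolynomial (Fin n) A) :=
  Ideal.span (Set.range fun i => (p : MvPolynomial (Fin n) A) * X i - C (a i))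

/-- The `p`-saturation of `J`. -/
noncomputable def K : Ideal (MvPolynomial (Fin n) A) where
  carrier := {f | ∃ m : ℕ, (p : MvPolynomial (Fin n) A) ^ m * f ∈ J p A a}
  add_mem' := by
    rintro f g ⟨m1, h1⟩ ⟨m2, h2⟩
    refine ⟨m1 + m2, ?_⟩
    have e : (p : MvPolynomial (Fin n) A) ^ (m1 + m2) * (f + g)
        = (p : MvPolynomial (Fin n) A) ^ m2 * ((p : MvPolynomial (Fin n) A) ^ m1 * f)
          + (p : MvPolynomial (Fin n) A) ^ m1 * ((p : MvPolynomial (Fin n) A) ^ m2 * g) := by
      ring
    rw [e]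
    exact Ideal.add_mem _ (Ideal.mul_mem_left _ _ h1) (Ideal.mul_mem_left _ _ h2)
  zero_mem' := ⟨0, by simp⟩
  smul_mem' := by
    rintro c f ⟨m, h⟩
    refine ⟨m, ?_⟩
    have e : (p : MvPolynomial (Fin n) A) ^ m * (c • f)
        = c * ((p : MvPolynomial (Fin n) A) ^ m * f) := by
      rw [smul_eq_mul]; ring
    rw [e]
    exact Ideal.mul_mem_left _ _ h

lemma mem_K (f : MvPolynomial (Fin n) A) :
    f ∈ K p A a ↔ ∃ m : ℕ, (p : MvPolynomial (Fin n) A) ^ m * f ∈ J p A a := Iff.rfl

lemma J_le_K : J p A a ≤ K p A a := fun f hf => ⟨0, by simpa using hf⟩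

/-- The torsion-free quotient. -/
abbrev D1 : Type u := MvPolynomial (Fin n) A ⧸ K p A a

/-- The dilatation algebra. -/
abbrev D : Type u := AdicCompletion (Ideal.span {(p : D1 p A a)}) (D1 p A a)

lemma D1_tf (x : D1 p A a) (hx : (p : D1 p A a) * x = 0) : x = 0 := by
  obtain ⟨f, rfl⟩ := Ideal.Quotient.mk_surjective x
  rw [← map_natCast (Ideal.Quotient.mk (K p A a)), ← map_mul, Ideal.Quotient.eq_zero_iff_mem,
    mem_K] at hx
  obtain ⟨m, hm⟩ := hx
  rw [Ideal.Quotient.eq_zero_iff_mem, mem_K]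
  refine ⟨m + 1, ?_⟩
  rw [pow_succ, mul_assoc]
  exact hm


instance D_complete : IsAdicComplete (Ideal.span {(p : D p A a)}) (D p A a) := by
  have h := AdicCompletion.isAdicComplete_self (Ideal.span {(p : D1 p A a)})
    ⟨{(p : D1 p A a)}, by simp⟩
  rwa [Ideal.map_span, Set.image_singleton, map_natCast] at h

lemma D_reg : IsSMulRegular (D p A a) (p : D p A a) := by
  apply reg_of
  intro x hx
  apply completion_reg (p : D1 p A a) (D1_tf p A a) x
  rwa [map_natCast]

/-- the class of `T_i` in `D1`. -/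
noncomputable def t1 (i : Fin n) : D1 p A a := Ideal.Quotient.mk (K p A a) (X i)

lemma p_mul_t1 (i : Fin n) : (p : D1 p A a) * t1 p A a i = algebraMap A (D1 p A a) (a i) := by
  have h : (p : MvPolynomial (Fin n) A) * X i - C (a i) ∈ K p A a :=
    J_le_K p A a (Ideal.subset_span ⟨i, rfl⟩)
  rw [← Ideal.Quotient.eq_zero_iff_mem, map_sub, map_mul, map_natCast, sub_eq_zero] at h
  rw [t1, h]
  rfl

lemma algebraMap_D (r : A) :
    algebraMap A (D p A a) r = algebraMap (D1 p A a) (D p A a) (algebraMap A (D1 p A a) r) := rfl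

lemma a_mem (i : Fin n) : algebraMap A (D p A a) (a i) ∈ Ideal.span {(p : D p A a)} := by
  rw [Ideal.mem_span_singleton']
  refine ⟨algebraMap (D1 p A a) (D p A a) (t1 p A a i), ?_⟩
  rw [algebraMap_D, ← p_mul_t1, map_mul, map_natCast, mul_comm]

end constr

section univ
variable {p : ℕ} {A : Type u} [CommRing A] {n : ℕ} {a : Fin n → A}
variable {B : Type u} [CommRing B] [Algebra A B]
  (hB : IsSMulRegular B (p : B)) (b : Fin n → B)
  (hb : ∀ i, algebraMap A B (a i) = (p : B) * b i)

include hB hb in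
lemma K_le_ker : ∀ f ∈ K p A a, (aeval b : MvPolynomial (Fin n) A →ₐ[A] B) f = 0 := by
  have hJ : ∀ f ∈ J p A a, (aeval b : MvPolynomial (Fin n) A →ₐ[A] B) f = 0 := by
    intro f hf
    have : J p A a ≤ RingHom.ker (aeval b : MvPolynomial (Fin n) A →ₐ[A] B).toRingHom := by
      rw [J, Ideal.span_le]
      rintro _ ⟨i, rfl⟩
      show (aeval b : MvPolynomial (Fin n) A →ₐ[A] B) _ = 0
      rw [map_sub, map_mul, map_natCast, aeval_X, aeval_C, hb, sub_self]
    exact this hf
  intro f hf
  obtain ⟨m, hm⟩ := hf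
  have h1 := hJ _ hm
  rw [map_mul, map_pow, map_natCast] at h1
  clear hm
  induction m with
  | zero => simpa using h1
  | succ m ih =>
    apply ih
    apply of_reg hB
    rw [← mul_assoc, ← pow_succ']
    exact h1

/-- the map `D1 → B`. -/
noncomputable def phi1 : D1 p A a →ₐ[A] B :=
  Ideal.Quotient.liftₐ (K p A a) (aeval b) (K_le_ker hB b hb)

lemma phi1_mk (f : MvPolynomial (Fin n) A) :
    phi1 hB b hb (Ideal.Quotient.mk (K p A a) f) = aeval b f := rfl


lemma phi1_pow_le (m : ℕ) : (Ideal.span {(p : D1 p A a)}) ^ m ≤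
    ((Ideal.span {(p : B)}) ^ m).comap (phi1 hB b hb).toRingHom := by
  intro x hx
  rw [mem_span_pow_iff] at hx
  obtain ⟨z, rfl⟩ := hx
  rw [Ideal.mem_comap]
  show phi1 hB b hb _ ∈ _
  rw [map_mul, map_pow, map_natCast, mem_span_pow_iff]
  exact ⟨_, rfl⟩

/-- the truncated maps. -/
noncomputable def fn (m : ℕ) : D p A a →+* B ⧸ (Ideal.span {(p : B)}) ^ m :=
  (Ideal.quotientMap _ (phi1 hB b hb).toRingHom (phi1_pow_le hB b hb m)).comp
    (AdicCompletion.evalₐ (Ideal.span {(p : D1 p A a)}) m).toRingHom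

lemma fn_mk (m : ℕ) (s : AdicCompletion.AdicCauchySequence (Ideal.span {(p : D1 p A a)}) (D1 p A a)) :
    fn hB b hb m (AdicCompletion.mk _ _ s) = Ideal.Quotient.mk _ (phi1 hB b hb (s m)) := by
  show (Ideal.quotientMap _ (phi1 hB b hb).toRingHom (phi1_pow_le hB b hb m))
    (AdicCompletion.evalₐ (Ideal.span {(p : D1 p A a)}) m (AdicCompletion.mk _ _ s)) = _
  rw [AdicCompletion.evalₐ_mk, Ideal.quotientMap_mk]
  rfl

lemma fn_compat {m k : ℕ} (hle : m ≤ k) :
    (Ideal.Quotient.factorPow (Ideal.span {(p : B)}) hle).comp (fn hB b hb k) = fn hB b hb m := by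
  ext x
  obtain ⟨s, rfl⟩ := AdicCompletion.mk_surjective _ _ x
  rw [RingHom.comp_apply, fn_mk, fn_mk, Ideal.Quotient.factor_mk, Ideal.Quotient.eq, ← map_sub]
  have h3 := s.property hle
  rw [SModEq.sub_mem] at h3
  have h4 : s m - s k ∈ (Ideal.span {(p : D1 p A a)}) ^ m := by
    simpa using h3
  have h5 := phi1_pow_le hB b hb m h4
  rw [Ideal.mem_comap] at h5
  have h6 := Ideal.neg_mem_iff _ |>.mpr h5
  convert h6 using 1
  show _ = - (phi1 hB b hb (s m - s k))
  rw [← map_neg, neg_sub]


variable [IsAdicComplete (Ideal.span {(p : B)}) B]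

lemma eq_of_forall_mk_eq (x y : B)
    (h : ∀ m, Ideal.Quotient.mk ((Ideal.span {(p : B)}) ^ m) x = Ideal.Quotient.mk _ y) : x = y := by
  rw [← sub_eq_zero]
  apply IsHausdorff.haus' (I := Ideal.span {(p : B)})
  intro m
  rw [SModEq.zero]
  have := h m
  rw [Ideal.Quotient.eq] at this
  simpa using this

/-- the lifted ring hom. -/
noncomputable def L : D p A a →+* B :=
  IsAdicComplete.liftRingHom (Ideal.span {(p : B)}) (fn hB b hb) (fn_compat hB b hb)

lemma mk_L (m : ℕ) (x : D p A a) :
    Ideal.Quotient.mk ((Ideal.span {(p : B)}) ^ m) (L hB b hb x) = fn hB b hb m x :=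
  IsAdicComplete.mk_liftRingHom _ _ _ _ _

lemma fn_algebraMap (m : ℕ) (y : D1 p A a) :
    fn hB b hb m (algebraMap (D1 p A a) (D p A a) y) = Ideal.Quotient.mk _ (phi1 hB b hb y) := by
  show (Ideal.quotientMap _ (phi1 hB b hb).toRingHom (phi1_pow_le hB b hb m))
    (AdicCompletion.evalₐ (Ideal.span {(p : D1 p A a)}) m
      (AdicCompletion.of _ _ y)) = _
  rw [AdicCompletion.evalₐ_of, Ideal.quotientMap_mk]
  rfl

lemma L_algebraMap (r : A) : L hB b hb (algebraMap A (D p A a) r) = algebraMap A B r := by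
  apply eq_of_forall_mk_eq (p := p)
  intro m
  rw [mk_L, algebraMap_D, fn_algebraMap, AlgHom.commutes]

/-- the lifted algebra hom. -/
noncomputable def LA : D p A a →ₐ[A] B :=
  { L hB b hb with commutes' := L_algebraMap hB b hb }


include hB in
lemma D1_hom_ext (ψ1 ψ2 : D1 p A a →ₐ[A] B) : ψ1 = ψ2 := by
  apply Ideal.Quotient.algHom_ext
  apply MvPolynomial.algHom_ext
  intro i
  show ψ1 (t1 p A a i) = ψ2 (t1 p A a i)
  have h : ∀ ψ : D1 p A a →ₐ[A] B, (p : B) * ψ (t1 p A a i) = algebraMap A B (a i) := by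
    intro ψ
    rw [← map_natCast ψ, ← map_mul, p_mul_t1, AlgHom.commutes]
  have : (p : B) * (ψ1 (t1 p A a i) - ψ2 (t1 p A a i)) = 0 := by rw [mul_sub, h, h, sub_self]
  exact sub_eq_zero.mp (of_reg hB _ this)

lemma decomp (x : D p A a) (m : ℕ) : ∃ y : D1 p A a,
    x - algebraMap (D1 p A a) (D p A a) y ∈
      (Ideal.span {(p : D1 p A a)} ^ m • ⊤ : Submodule (D1 p A a) (D p A a)) := by
  obtain ⟨s, rfl⟩ := AdicCompletion.mk_surjective _ _ x
  refine ⟨s m, ?_⟩
  rw [AdicCompletion.pow_smul_top_eq_ker_eval ⟨{(p : D1 p A a)}, by simp⟩, LinearMap.mem_ker,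
    map_sub, sub_eq_zero]
  rfl

lemma hom_smul_top (g : D p A a →+* B) (m : ℕ) (x : D p A a)
    (hx : x ∈ (Ideal.span {(p : D1 p A a)} ^ m • ⊤ : Submodule (D1 p A a) (D p A a))) :
    g x ∈ (Ideal.span {(p : B)}) ^ m := by
  refine Submodule.smul_induction_on hx ?_ ?_
  · intro r hr z _
    rw [mem_span_pow_iff] at hr
    obtain ⟨c, rfl⟩ := hr
    have e : (((p : D1 p A a) ^ m * c) • z : D p A a)
        = algebraMap (D1 p A a) (D p A a) ((p : D1 p A a) ^ m * c) * z := by
      apply AdicCompletion.ext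
      intro k
      rfl
    rw [e, map_mul, map_mul, map_pow, map_natCast, map_mul, map_pow, map_natCast,
      mul_assoc, mem_span_pow_iff]
    exact ⟨_, rfl⟩
  · intro x y hx hy
    rw [map_add]; exact Ideal.add_mem _ hx hy

include hB in
lemma hom_unique (g1 g2 : D p A a →ₐ[A] B) : g1 = g2 := by
  let r : (D p A a →ₐ[A] B) → (D1 p A a →ₐ[A] B) := fun g =>
    { toRingHom := g.toRingHom.comp (algebraMap (D1 p A a) (D p A a))
      commutes' := fun c => by
        show g (algebraMap (D1 p A a) (D p A a) (algebraMap A (D1 p A a) c)) = _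
        rw [← algebraMap_D, AlgHom.commutes] }
  have hr : ∀ y, g1 (algebraMap (D1 p A a) (D p A a) y) = g2 (algebraMap (D1 p A a) (D p A a) y) :=
    fun y => DFunLike.congr_fun (D1_hom_ext hB (r g1) (r g2)) y
  ext x
  apply eq_of_forall_mk_eq (p := p)
  intro m
  obtain ⟨y, hy⟩ := decomp x m
  rw [Ideal.Quotient.eq]
  have e : g1 x - g2 x = g1.toRingHom (x - algebraMap (D1 p A a) (D p A a) y)
      - g2.toRingHom (x - algebraMap (D1 p A a) (D p A a) y) := by
    show _ = g1 (x - algebraMap (D1 p A a) (D p A a) y) - g2 (x - algebraMap (D1 p A a) (D p A a) y)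
    rw [map_sub, map_sub, hr y]; ring
  rw [e]
  exact Ideal.sub_mem _ (hom_smul_top _ m _ hy) (hom_smul_top _ m _ hy)

end univ


end Groth.Agent.S19616.Aux

namespace Groth.Agent.S19616

/-- Let p be a prime, A a commutative ring which is complete and separated for the p-adic topology and
has no p-torsion, and a_1, …, a_n elements of A (so that (p, a_1, …, a_n) is an open ideal
containing p). Then there is a commutative A-algebra D, complete and separated for the p-adic
topology and without p-torsion, in which each a_i is divisible by p, with the following universal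
property: for every A-algebra B which is p-adically complete and separated, has no p-torsion, and in
which each a_i is divisible by p, there is exactly one A-algebra homomorphism D → B; moreover this
homomorphism is surjective whenever A → B is. (D is the coordinate ring of the dilatation of Spf A
with respect to p along the closed subscheme defined by (p, a_1, …, a_n). The published statement is
for flat p-adic formal schemes locally of finite type over the Witt vectors of a perfect field; this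
row is its affine, ring-level case without a finiteness hypothesis.) -/
theorem result (p : ℕ) [Fact p.Prime]
    (A : Type u) [CommRing A] [IsAdicComplete (Ideal.span {(p : A)}) A]
    (hA : IsSMulRegular A (p : A)) {n : ℕ} (a : Fin n → A) :
    ∃ (D : Type u) (_ : CommRing D) (_ : Algebra A D),
      IsAdicComplete (Ideal.span {(p : D)}) D ∧ IsSMulRegular D (p : D) ∧
      (∀ i, algebraMap A D (a i) ∈ Ideal.span {(p : D)}) ∧
      ∀ (B : Type u) [CommRing B] [Algebra A B] [IsAdicComplete (Ideal.span {(p : B)}) B],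
        IsSMulRegular B (p : B) → (∀ i, algebraMap A B (a i) ∈ Ideal.span {(p : B)}) →
          Nonempty (D →ₐ[A] B) ∧ Subsingleton (D →ₐ[A] B) ∧
            (Function.Surjective (algebraMap A B) → ∀ f : D →ₐ[A] B, Function.Surjective f) := by
  refine ⟨Aux.D p A a, inferInstance, inferInstance, Aux.D_complete p A a, Aux.D_reg p A a,
    Aux.a_mem p A a, ?_⟩
  intro B _ _ _ hB hb
  have hb' : ∀ i, ∃ c, algebraMap A B (a i) = (p : B) * c := by
    intro i
    obtain ⟨c, hc⟩ := Ideal.mem_span_singleton'.mp (hb i)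
    exact ⟨c, by rw [← hc, mul_comm]⟩
  choose b hb'' using hb'
  refine ⟨⟨Aux.LA hB b hb''⟩, ⟨fun g1 g2 => Aux.hom_unique hB g1 g2⟩, ?_⟩
  intro hsurj f y
  obtain ⟨r, rfl⟩ := hsurj y
  exact ⟨algebraMap A _ r, f.commutes r⟩

end Groth.Agent.S19616
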