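import Groth.Statements.S19618
import Groth.Agent.H8.BlowUpMaxPoints

set_option autoImplicit false
universe u
open CategoryTheory CategoryTheory.Limits AlgebraicGeometry Opposite TopologicalSpace
open BlowUp

namespace Groth.Agent.S19618

/-- Let X be a locally Noetherian scheme, Y an effective Cartier divisor on X (a quasi-coherent ideal
sheaf which, near every point, is generated on some affine open by one nonzerodivisor; Y is its
support) and Z a closed integral subscheme (a closed immersion i from an integral scheme with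
generic point ξ). If Y and Z intersect properly — every point ζ of Y ∩ Z which is maximal under
generization inside Y ∩ Z satisfies dim O_{X,ζ} = codim(Y,X) + codim(Z,X), where codim(Y,X) is the
infimum over y ∈ Y of dim O_{X,y} and codim(Z,X) = dim O_{X,i(ξ)} — then Z is not contained in Y. -/
theorem result {X Z : Scheme.{u}}
    [IsLocallyNoetherian X] (𝓘 : X.IdealSheafData) (hY : BlowUp.IsEffCartierIdeal 𝓘)
    (i : Z ⟶ X) [IsClosedImmersion i] [IsIntegral Z]
    (hprop : ∀ ζ : ↥X, ζ ∈ (𝓘.support : Set ↥X) ∩ Set.range i.base →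
        (∀ ζ' : ↥X, ζ' ∈ (𝓘.support : Set ↥X) ∩ Set.range i.base → ζ' ⤳ ζ → ζ' = ζ) →
        ringKrullDim ↑(X.presheaf.stalk ζ) =
          (⨅ y : (𝓘.support : Set ↥X), ringKrullDim ↑(X.presheaf.stalk y.1)) +
            ringKrullDim ↑(X.presheaf.stalk (i (genericPoint ↥Z)))) :
    ¬ Set.range i.base ⊆ (𝓘.support : Set ↥X) := by
  intro hsub
  have hζr : i (genericPoint ↥Z) ∈ Set.range i.base := ⟨genericPoint ↥Z, rfl⟩
  have hζ : i (genericPoint ↥Z) ∈ (𝓘.support : Set ↥X) ∩ Set.range i.base := ⟨hsub hζr, hζr⟩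
  have hmax : ∀ ζ' : ↥X, ζ' ∈ (𝓘.support : Set ↥X) ∩ Set.range i.base →
      ζ' ⤳ i (genericPoint ↥Z) → ζ' = i (genericPoint ↥Z) := by
    rintro ζ' ⟨-, z, rfl⟩ h
    have h1 : genericPoint ↥Z ⤳ z := genericPoint_specializes z
    have h2 : i (genericPoint ↥Z) ⤳ i z := h1.map i.continuous
    exact (h.antisymm h2).eq
  have heq := hprop _ hζ hmax
  have hc : (1 : WithBot ℕ∞) ≤
      ⨅ y : (𝓘.support : Set ↥X), ringKrullDim ↑(X.presheaf.stalk y.1) := by
    apply le_iInf
    rintro ⟨y, hy⟩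
    rw [ringKrullDim_stalk_eq_coheight]
    have hnm : ¬ IsMax y := by
      intro hm
      apply Groth.Agent.H8.notMem_support_of_isEffCartierIdeal 𝓘 hY y _ hy
      intro y' hy'
      have h2 : y ⤳ y' := hm hy'
      exact (hy'.antisymm h2).eq
    have hpos := Order.coheight_pos.mpr hnm
    have h1 : (1 : ℕ∞) ≤ Order.coheight y := Order.one_le_iff_pos.mpr hpos
    exact_mod_cast h1
  have hd1 : ringKrullDim ↑(X.presheaf.stalk (i (genericPoint ↥Z))) ≠ ⊤ := ringKrullDim_ne_top
  have hd2 : ringKrullDim ↑(X.presheaf.stalk (i (genericPoint ↥Z))) ≠ ⊥ := ringKrullDim_ne_bot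
  obtain ⟨a, ha⟩ := WithBot.ne_bot_iff_exists.mp hd2
  have ha' : a ≠ ⊤ := by
    rintro rfl
    exact hd1 ha.symm
  obtain ⟨n, hn⟩ := ENat.ne_top_iff_exists.mp ha'
  have hle : (1 : WithBot ℕ∞) + ringKrullDim ↑(X.presheaf.stalk (i (genericPoint ↥Z))) ≤
      ringKrullDim ↑(X.presheaf.stalk (i (genericPoint ↥Z))) := by
    conv_rhs => rw [heq]
    exact add_le_add_left hc _
  rw [← ha, ← hn] at hle
  have : ((1 + n : ℕ) : WithBot ℕ∞) ≤ ((n : ℕ) : WithBot ℕ∞) := by
    push_cast
    exact hle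
  have h3 : (1 + n : ℕ) ≤ n := by exact_mod_cast this
  omega

end Groth.Agent.S19618
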