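import Groth.Statements.S19620
import Mathlib
import Groth.Agent.S6508
import Groth.Agent.Lib.Helper30.PCNoeth
import Groth.Agent.Lib.Helper30.PerfRegular
import Groth.Agent.Lib.Helper49.SupportSplit2
import Groth.Prelude.Def_CxOX

set_option autoImplicit false
universe u
open CategoryTheory CategoryTheory.Limits AlgebraicGeometry
attribute [local instance] HasDerivedCategory.standard
open DCoh
open ZeroObject

namespace Groth.Agent.S19620

/-- Let f : X → Y be a proper morphism of schemes, with Rf_* the total right derived functor of f_* on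
the unbounded derived categories of modules (assumed to exist), let Z ⊆ X be a closed subset and E
an object of D(O_X) whose cohomology sheaves are all supported in Z (every stalk at a point outside
Z is trivial). Then the cohomology sheaves of Rf_*E are supported in the closed subset f(Z) of Y.
(The published statement, made in a setting where all schemes are separated and of finite type over
a regular base, takes f proper and perfect and concludes that Rf_* carries perfect complexes acyclic
outside Z to perfect complexes acyclic outside f(Z); the perfectness of Rf_*E is a separate result,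
and the support inclusion, which is what the published proof establishes, holds for every proper f
and every E and is stated in that generality.) -/
theorem result {X Y : Scheme.{u}} (f : X ⟶ Y) [IsProper f]
    [DCoh.HasRpush f] (Z : Set ↥X) (hZ : IsClosed Z) (E : DCoh.D X)
    (hE : ∀ i : ℤ, CohB1.support (DCoh.HD E i) ⊆ Z) (i : ℤ) :
    CohB1.support (DCoh.HD ((DCoh.Rpush f).obj E) i) ⊆ f.base '' Z := by
  intro y hy
  by_contra hyZ
  have hcl : IsClosed (f.base '' Z) := (Scheme.Hom.isClosedMap f) Z hZ
  let V : Y.Opens := ⟨(f.base '' Z)ᶜ, hcl.isOpen_compl⟩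
  have hyV : y ∈ V := hyZ
  let U : X.Opens := f ⁻¹ᵁ V
  let g : (U : Scheme.{u}) ⟶ (V : Scheme.{u}) := f ∣_ V
  have hEU : IsZero ((DCoh.restrictD U.ι).obj E) := by
    apply Groth.Agent.Lib.Helper30.PerfRegular.isZero_of_isZero_homology
    intro k
    refine IsZero.of_iso ?_ (Groth.Agent.Lib.Helper30.PCNoeth.homologyRestrictIso U.ι E k)
    apply Groth.Agent.Lib.Helper49.isZero_restrict_of_stalk
    intro x hx
    by_contra hns
    have hxZ : x ∈ Z := hE k hns
    exact hx ⟨x, hxZ, rfl⟩
  have hU := Groth.Agent.Lib.Helper32.OpenKInj.hasKInjRes (U : Scheme.{u})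
  have hLU := Groth.Agent.Lib.Helper32.KInjDerived.hasTerminalArrows_Qh hU
  have hR : DCoh.HasRpush g := by
    have := Groth.Agent.Lib.Helper32.KInjDerived.hasPointwiseLeftKanExtension hLU (DCoh.pushKh g)
    exact (Functor.hasRightDerivedFunctor_iff (DCoh.pushKh g) DerivedCategory.Qh
      (HomotopyCategory.quasiIso (U : Scheme.{u}).Modules (ComplexShape.up ℤ))).2 inferInstance
  obtain ⟨e⟩ := Groth.Agent.S6508.result f V
  have hzero : ∀ Z₀ : DCoh.D (U : Scheme.{u}), IsZero Z₀ → IsZero ((DCoh.Rpush g).obj Z₀) := by
    intro Z₀ hZ₀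
    let αg := (DCoh.pushKh g).totalRightDerivedUnit DerivedCategory.Qh
      (HomotopyCategory.quasiIso (U : Scheme.{u}).Modules (ComplexShape.up ℤ))
    let O : CochainComplex (U : Scheme.{u}).Modules ℤ := 0
    have hO : IsZero O := isZero_zero _
    have hOK : O.IsKInjective := ⟨fun f _ => ⟨Homotopy.ofEq (hO.eq_of_tgt _ _)⟩⟩
    have h1 : IsIso (αg.app ((HomotopyCategory.quotient _ (ComplexShape.up ℤ)).obj O)) :=
      Groth.Agent.Lib.Helper32.RDerCrit.isIso_app_kInjective hU (DCoh.Rpush g) αg O
    have h2 : IsZero ((DCoh.pushKh g).obj ((HomotopyCategory.quotient _ (ComplexShape.up ℤ)).obj O)) :=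
      Functor.map_isZero _ (Functor.map_isZero _ hO)
    have h3 : IsZero ((DCoh.Rpush g).obj (DerivedCategory.Qh.obj
        ((HomotopyCategory.quotient _ (ComplexShape.up ℤ)).obj O))) :=
      h2.of_iso (asIso (αg.app _)).symm
    have h4 : IsZero (DerivedCategory.Qh.obj
        ((HomotopyCategory.quotient (U : Scheme.{u}).Modules (ComplexShape.up ℤ)).obj O)) :=
      Functor.map_isZero _ (Functor.map_isZero _ hO)
    exact h3.of_iso ((DCoh.Rpush g).mapIso (hZ₀.iso h4))
  have h1 : IsZero ((DCoh.restrictD V.ι).obj ((DCoh.Rpush f).obj E)) :=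
    (hzero _ hEU).of_iso (e.app E)
  have h2 : IsZero ((DCoh.HD ((DCoh.Rpush f).obj E) i).restrict V.ι) :=
    ((DerivedCategory.homologyFunctor _ i).map_isZero h1).of_iso
      (Groth.Agent.Lib.Helper30.PCNoeth.homologyRestrictIso V.ι ((DCoh.Rpush f).obj E) i).symm
  exact hy (Groth.Agent.Lib.Helper49.subsingleton_stalk_of_isZero_restrict _ V h2 y hyV)

end Groth.Agent.S19620
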