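import Groth.Statements.S19628
import Groth.Agent.S15294
import Groth.Agent.S15295

set_option autoImplicit false
universe u
open DeRham

namespace Groth.Agent.S19628

open TensorProduct

open TensorProduct exteriorPower in
/-- The induced map of de Rham complexes is semilinear over the base fields. -/
theorem psi_smul (k K : Type u) [Field k] [Field K] [Algebra k K]
    (A A' : Type u) [CommRing A] [CommRing A'] [Algebra k A]
    [Algebra A A'] [Algebra k A'] [IsScalarTower k A A'] [Algebra K A'] [IsScalarTower k K A']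
    (ψ : ∀ p : ℕ, ↥(⋀[A]^p (Ω[A⁄k])) →+ ↥(⋀[A']^p (Ω[A'⁄K])))
    (hψ : DeRham.IsCxMap (KaehlerDifferential.D k A) (KaehlerDifferential.D K A') (algebraMap A A') ψ)
    (p : ℕ) (c : k) (x : ↥(⋀[A]^p (Ω[A⁄k]))) :
    ψ p (c • x) = (algebraMap k K c) • ψ p x := by
  let L : AddSubgroup ↥(⋀[A]^p (Ω[A⁄k])) :=
    { carrier := {x | ψ p (c • x) = (algebraMap k K c) • ψ p x}
      add_mem' := by
        intro x y hx hy
        simp only [Set.mem_ofPred_eq] at hx hy ⊢
        rw [smul_add, map_add, map_add, smul_add, hx, hy]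
      zero_mem' := by simp
      neg_mem' := by
        intro x hx
        simp only [Set.mem_ofPred_eq] at hx ⊢
        rw [smul_neg, map_neg, map_neg, smul_neg, hx] }
  suffices h : x ∈ L from h
  refine Groth.Agent.S15294.induction_gen_add k A p L (fun b₀ b => ?_) x
  show ψ p (c • DeRham.gen _ p b₀ b) = (algebraMap k K c) • ψ p (DeRham.gen _ p b₀ b)
  have h1 : c • DeRham.gen (KaehlerDifferential.D k A) p b₀ b =
      DeRham.gen (KaehlerDifferential.D k A) p (c • b₀) b := by
    unfold DeRham.gen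
    rw [smul_assoc]
  rw [h1, hψ p (c • b₀) b, hψ p b₀ b]
  unfold DeRham.gen
  rw [← smul_assoc]
  congr 1
  rw [Algebra.smul_def, Algebra.smul_def, map_mul, ← IsScalarTower.algebraMap_apply,
    ← IsScalarTower.algebraMap_apply]

open exteriorPower in
/-- In the affine case, at ring level, let k ⊆ K be an extension of fields of characteristic zero, A a
smooth k-algebra and A' = K ⊗_k A (a pushout square of commutative rings with the scalar-tower
conventions). Let d be the de Rham differential of A over k, d' that of A' over K, and ψ the map of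
de Rham complexes induced by A → A', assumed compatible with d and d'. Then for every p the K-span
of ψ(closed p-forms of A/k) is the module of closed p-forms of A'/K, and the K-span of ψ(exact
p-forms of A/k) is the module of exact p-forms of A'/K. Together with the degreewise base-change
bijection for exterior powers of differentials, this says that the natural map H^p_dR(A/k) ⊗_k K →
H^p_dR(A'/K) is an isomorphism. (The source states the isomorphism H^i_dR(X) ⊗_k K ≅ H^i_dR(X_K) for
a smooth variety X, induced by a quasi-isomorphism of complexes; this row is the case of an affine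
X, phrased through closed and exact forms.) -/
theorem result
    (k K : Type u) [Field k] [Field K] [CharZero k] [Algebra k K]
    (A A' : Type u) [CommRing A] [CommRing A'] [Algebra k A] [Algebra.Smooth k A]
    [Algebra A A'] [Algebra k A'] [IsScalarTower k A A'] [Algebra K A'] [IsScalarTower k K A']
    [Algebra.IsPushout k K A A']
    (d : ∀ p : ℕ, ↥(⋀[A]^p (Ω[A⁄k])) →ₗ[k] ↥(⋀[A]^(p + 1) (Ω[A⁄k])))
    (hd : DeRham.IsDiff (KaehlerDifferential.D k A) d)
    (d' : ∀ p : ℕ, ↥(⋀[A']^p (Ω[A'⁄K])) →ₗ[K] ↥(⋀[A']^(p + 1) (Ω[A'⁄K])))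
    (hd' : DeRham.IsDiff (KaehlerDifferential.D K A') d')
    (ψ : ∀ p : ℕ, ↥(⋀[A]^p (Ω[A⁄k])) →+ ↥(⋀[A']^p (Ω[A'⁄K])))
    (hψ : DeRham.IsCxMap (KaehlerDifferential.D k A) (KaehlerDifferential.D K A') (algebraMap A A') ψ)
    (hcomm : ∀ (p : ℕ) (x : ↥(⋀[A]^p (Ω[A⁄k]))), ψ (p + 1) (d p x) = d' p (ψ p x))
    (p : ℕ) :
    Submodule.span K (ψ p '' (DeRham.cocycles d p : Set ↥(⋀[A]^p (Ω[A⁄k])))) = DeRham.cocycles d' p ∧
      Submodule.span K (ψ p '' (DeRham.coboundaries d p : Set ↥(⋀[A]^p (Ω[A⁄k])))) =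
        DeRham.coboundaries d' p := by
  classical
  -- the comparison maps `Φ q : K ⊗ ⋀^q Ω_{A/k} → ⋀^q Ω_{A'/K}`
  have hΦex : ∀ q : ℕ, ∃ Φ : K ⊗[k] ↥(⋀[A]^q (Ω[A⁄k])) →+ ↥(⋀[A']^q (Ω[A'⁄K])),
      ∀ (s : K) (x : ↥(⋀[A]^q (Ω[A⁄k]))), Φ (s ⊗ₜ[k] x) = s • ψ q x := by
    intro q
    let f : K →+ ↥(⋀[A]^q (Ω[A⁄k])) →+ ↥(⋀[A']^q (Ω[A'⁄K])) :=
      { toFun := fun s =>
          { toFun := fun x => s • ψ q x
            map_zero' := by simp
            map_add' := fun x y => by rw [map_add, smul_add] }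
        map_zero' := by ext x; simp
        map_add' := fun s s' => by ext x; simp [add_smul] }
    refine ⟨TensorProduct.liftAddHom f ?_, fun s x => rfl⟩
    intro c s x
    change (c • s) • ψ q x = s • ψ q (c • x)
    rw [psi_smul k K A A' ψ hψ q c x, smul_smul, Algebra.smul_def, mul_comm]
  choose Φ hΦ using hΦex
  have hbij : ∀ q, Function.Bijective (Φ q) := fun q =>
    Groth.Agent.S15295.result k K A A' ψ hψ q (Φ q) (hΦ q)
  -- compatibility with the differentials
  let F : ∀ q : ℕ, K ⊗[k] ↥(⋀[A]^q (Ω[A⁄k])) →ₗ[K] K ⊗[k] ↥(⋀[A]^(q + 1) (Ω[A⁄k])) :=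
    fun q => TensorProduct.AlgebraTensorModule.lTensor K K (d q)
  have hF : ∀ q t, Φ (q + 1) (F q t) = d' q (Φ q t) := by
    intro q t
    induction t using TensorProduct.induction_on with
    | zero => simp
    | tmul s x =>
      change Φ (q + 1) (s ⊗ₜ[k] d q x) = d' q (Φ q (s ⊗ₜ[k] x))
      rw [hΦ, hΦ, hcomm, map_smul]
    | add t t' ht ht' => rw [map_add, map_add, map_add, map_add, ht, ht']
  have hR : ∀ q t, Φ (q + 1) (F q t) ∈
      Submodule.span K (ψ (q + 1) '' (LinearMap.range (d q) : Set ↥(⋀[A]^(q + 1) (Ω[A⁄k])))) := by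
    intro q t
    induction t using TensorProduct.induction_on with
    | zero => simp
    | tmul s x =>
      change Φ (q + 1) (s ⊗ₜ[k] d q x) ∈ _
      rw [hΦ]
      exact Submodule.smul_mem _ _ (Submodule.subset_span ⟨d q x, ⟨x, rfl⟩, rfl⟩)
    | add t₁ t₂ h₁ h₂ =>
      rw [map_add, map_add]
      exact Submodule.add_mem _ h₁ h₂
  have hG : ∀ t' : K ⊗[k] ↥(LinearMap.ker (d p)),
      Φ p (TensorProduct.AlgebraTensorModule.lTensor K K (LinearMap.ker (d p)).subtype t') ∈
        Submodule.span K (ψ p '' (DeRham.cocycles d p : Set ↥(⋀[A]^p (Ω[A⁄k])))) := by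
    intro t'
    induction t' using TensorProduct.induction_on with
    | zero => simp
    | tmul s z =>
      change Φ p (s ⊗ₜ[k] (z : ↥(⋀[A]^p (Ω[A⁄k])))) ∈ _
      rw [hΦ]
      exact Submodule.smul_mem _ _ (Submodule.subset_span ⟨z.1, z.2, rfl⟩)
    | add t₁ t₂ h₁ h₂ =>
      rw [map_add, map_add]
      exact Submodule.add_mem _ h₁ h₂
  refine ⟨?_, ?_⟩
  · -- cocycles
    apply le_antisymm
    · rw [Submodule.span_le]
      rintro _ ⟨x, hx, rfl⟩
      change d' p (ψ p x) = 0
      rw [← hcomm]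
      have hx' : d p x = 0 := hx
      rw [hx', map_zero]
    · intro y hy
      have hy' : d' p y = 0 := hy
      obtain ⟨t, rfl⟩ := (hbij p).2 y
      have h0 : F p t = 0 := by
        apply (hbij (p + 1)).1
        rw [hF, hy', map_zero]
      have hmem : t ∈ LinearMap.ker (F p) := h0
      rw [show LinearMap.ker (F p) = _ from Module.Flat.ker_lTensor_eq K K (d p)] at hmem
      obtain ⟨t', rfl⟩ := hmem
      exact hG t'
  · -- coboundaries
    cases p with
    | zero =>
      have e0 : DeRham.coboundaries d 0 = ⊥ := rfl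
      have e0' : DeRham.coboundaries d' 0 = ⊥ := rfl
      rw [e0, e0', Submodule.span_eq_bot]
      rintro _ ⟨x, hx, rfl⟩
      have : x = 0 := hx
      rw [this, map_zero]
    | succ p =>
      have e1 : DeRham.coboundaries d (p + 1) = LinearMap.range (d p) := rfl
      have e1' : DeRham.coboundaries d' (p + 1) = LinearMap.range (d' p) := rfl
      rw [e1, e1']
      apply le_antisymm
      · rw [Submodule.span_le]
        rintro _ ⟨_, ⟨x, rfl⟩, rfl⟩
        exact ⟨ψ p x, (hcomm p x).symm⟩
      · rintro _ ⟨y₀, rfl⟩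
        obtain ⟨t, rfl⟩ := (hbij p).2 y₀
        rw [← hF p t]
        exact hR p t

end Groth.Agent.S19628
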