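import Groth.Statements.S19649
import Mathlib
import Groth.Agent.Lib.Helper63.LocalBasis
-- import your own Groth.Agent.* helpers here

set_option autoImplicit false
universe u v
open Instab

namespace Groth.Agent.S19649.Aux

set_option linter.unusedSectionVars false

open MvPolynomial DirectSum

section

variable {R : Type u} [CommRing R] {n : ℕ}

theorem weight_apply' (m : Fin n →₀ ℕ) (i : Fin n) :
    Finsupp.weight (fun i : Fin n => (Pi.single i 1 : Fin n → ℤ)) m i = (m i : ℤ) := by
  classical
  rw [Finsupp.weight_apply, Finsupp.sum_fintype _ _ (fun i => by simp)]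
  simp [Finset.sum_apply, Pi.single_apply]

theorem weight_eq_zero {m : Fin n →₀ ℕ}
    (h : Finsupp.weight (fun i : Fin n => (Pi.single i 1 : Fin n → ℤ)) m = 0) : m = 0 := by
  ext i
  have := congrFun h i
  rw [weight_apply'] at this
  simpa using this

theorem comp_zero (s : MvPolynomial (Fin n) R) :
    weightedHomogeneousComponent (fun i : Fin n => (Pi.single i 1 : Fin n → ℤ)) 0 s
      = C (constantCoeff s) := by
  classical
  ext m
  rw [coeff_weightedHomogeneousComponent, coeff_C]
  by_cases hm : m = 0
  · subst hm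
    simp [constantCoeff_eq]
  · have h1 : ¬ Finsupp.weight (fun i : Fin n => (Pi.single i 1 : Fin n → ℤ)) m = 0 :=
      fun h => hm (weight_eq_zero h)
    rw [if_neg h1, if_neg (Ne.symm hm)]

end

section

variable {R : Type u} [CommRing R] {n : ℕ}
  {P : Type v} [AddCommGroup P] [Module (MvPolynomial (Fin n) R) P] [Module R P]
  (ℳ : (Fin n → ℤ) → Submodule R P) [DirectSum.Decomposition ℳ]
  [SetLike.GradedSMul (MvPolynomial.weightedHomogeneousSubmodule R
    (fun i : Fin n => (Pi.single i 1 : Fin n → ℤ))) ℳ]

/-- The projection onto the degree `d` part. -/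
noncomputable def pr (d : Fin n → ℤ) (q : P) : P := ((DirectSum.decompose ℳ q) d : P)

theorem pr_mem (d : Fin n → ℤ) (q : P) : pr ℳ d q ∈ ℳ d := Subtype.property _

theorem pr_add (d : Fin n → ℤ) (q q' : P) : pr ℳ d (q + q') = pr ℳ d q + pr ℳ d q' := by
  simp [pr, DirectSum.decompose_add]

theorem pr_zero (d : Fin n → ℤ) : pr ℳ d (0 : P) = 0 := by
  simp [pr]

theorem pr_sum {ι : Type*} (s : Finset ι) (d : Fin n → ℤ) (q : ι → P) :
    pr ℳ d (∑ i ∈ s, q i) = ∑ i ∈ s, pr ℳ d (q i) := by
  classical
  induction s using Finset.induction_on with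
  | empty => simp [pr_zero]
  | insert a s ha ih => rw [Finset.sum_insert ha, Finset.sum_insert ha, pr_add, ih]

theorem pr_of_mem_same {d : Fin n → ℤ} {q : P} (hq : q ∈ ℳ d) : pr ℳ d q = q := by
  rw [pr, DirectSum.decompose_of_mem_same ℳ hq]

theorem pr_of_mem_ne {d d' : Fin n → ℤ} {q : P} (hq : q ∈ ℳ d) (h : d ≠ d') :
    pr ℳ d' q = 0 := by
  rw [pr, DirectSum.decompose_of_mem_ne ℳ hq h]

theorem sum_pr (q : P) : ∃ T : Finset (Fin n → ℤ), ∑ d ∈ T, pr ℳ d q = q := by
  classical
  exact ⟨_, DirectSum.sum_support_decompose ℳ q⟩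

theorem pr_smul {d : Fin n → ℤ} {x : P} (hx : x ∈ ℳ d) (a : MvPolynomial (Fin n) R)
    (d' : Fin n → ℤ) :
    pr ℳ d' (a • x) =
      weightedHomogeneousComponent (fun i : Fin n => (Pi.single i 1 : Fin n → ℤ)) (d' - d) a • x := by
  classical
  have h1 : a • x = ∑ m ∈ a.support, (monomial m (coeff m a)) • x := by
    conv_lhs => rw [a.as_sum]
    rw [Finset.sum_smul]
  rw [h1, pr_sum, weightedHomogeneousComponent_apply, Finset.sum_smul, Finset.sum_filter]
  apply Finset.sum_congr rfl
  intro m _
  have hmem : monomial m (coeff m a) • x ∈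
      ℳ (Finsupp.weight (fun i : Fin n => (Pi.single i 1 : Fin n → ℤ)) m + d) := by
    have := SetLike.GradedSMul.smul_mem
      (A := MvPolynomial.weightedHomogeneousSubmodule R
        (fun i : Fin n => (Pi.single i 1 : Fin n → ℤ))) (B := ℳ)
      (ai := monomial m (coeff m a)) (bj := x)
      (i := Finsupp.weight (fun i : Fin n => (Pi.single i 1 : Fin n → ℤ)) m) (j := d)
      (by
        rw [mem_weightedHomogeneousSubmodule]
        exact isWeightedHomogeneous_monomial _ _ _ rfl) hx
    simpa [vadd_eq_add] using this
  split_ifs with h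
  · have : Finsupp.weight (fun i : Fin n => (Pi.single i 1 : Fin n → ℤ)) m + d = d' := by
      rw [h]; abel
    rw [this] at hmem
    exact pr_of_mem_same ℳ hmem
  · apply pr_of_mem_ne ℳ hmem
    intro h'
    apply h
    rw [← h']; abel

end


section

variable {R : Type u} [CommRing R] {n : ℕ}

/-- If `s` kills a weighted homogeneous polynomial, so does the constant coefficient of `s`. -/
theorem C_mul_eq_zero_of_mul_eq_zero (s a : MvPolynomial (Fin n) R) (e : Fin n → ℤ)
    (ha : a ∈ weightedHomogeneousSubmodule R (fun i : Fin n => (Pi.single i 1 : Fin n → ℤ)) e)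
    (h : s * a = 0) : C (constantCoeff s) * a = 0 := by
  classical
  letI : DirectSum.Decomposition (weightedHomogeneousSubmodule R
      (fun i : Fin n => (Pi.single i 1 : Fin n → ℤ))) :=
    weightedDecomposition R (fun i : Fin n => (Pi.single i 1 : Fin n → ℤ))
  haveI : SetLike.GradedMonoid (weightedHomogeneousSubmodule R
      (fun i : Fin n => (Pi.single i 1 : Fin n → ℤ))) := WeightedHomogeneousSubmodule.gradedMonoid
  haveI : SetLike.GradedSMul (weightedHomogeneousSubmodule R
      (fun i : Fin n => (Pi.single i 1 : Fin n → ℤ)))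
      (weightedHomogeneousSubmodule R (fun i : Fin n => (Pi.single i 1 : Fin n → ℤ))) :=
    SetLike.GradedMul.toGradedSMul _
  have h1 := pr_smul (weightedHomogeneousSubmodule R
    (fun i : Fin n => (Pi.single i 1 : Fin n → ℤ))) ha s e
  rw [sub_self, comp_zero, smul_eq_mul, h, pr_zero, smul_eq_mul] at h1
  exact h1.symm

theorem C_mul_eq_zero_of_forall (r : R) (c : MvPolynomial (Fin n) R)
    (h : ∀ e : Fin n → ℤ, C r * weightedHomogeneousComponent
      (fun i : Fin n => (Pi.single i 1 : Fin n → ℤ)) e c = 0) : C r * c = 0 := by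
  classical
  ext m
  have := congrArg (coeff m) (h (Finsupp.weight (fun i : Fin n => (Pi.single i 1 : Fin n → ℤ)) m))
  rw [coeff_C_mul, coeff_weightedHomogeneousComponent, if_pos rfl, coeff_zero] at this
  rw [coeff_C_mul, coeff_zero, this]

end

end Groth.Agent.S19649.Aux

namespace Groth.Agent.S19649

open MvPolynomial DirectSum in
/-- The case of a point, in graded-module form over an affine base. Let R be a commutative ring, n a
natural number, A = R[x_1, …, x_n] the polynomial ring graded by ℤ^n with x_i of degree the i-th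
basis vector (the weight grading of the standard action of the n-dimensional split torus on affine
n-space), and P a finitely generated projective A-module carrying a compatible ℤ^n-grading (an
equivariant vector bundle on affine n-space over Spec R). Then P is graded-free Zariski-locally on
Spec R: for every prime p of R there are r ∉ p and finitely many homogeneous elements f_1, …, f_m of
P such that, after inverting r, the f_i form an A-basis of P — every element of P multiplied by a
power of r is an A-linear combination of the f_i, and the coefficients of every A-linear relation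
among the f_i are killed by a power of r. (This is the case of a point of the source's description
of filtered points of quotient stacks by the general linear group, whose argument the source gives
in full: an equivariant vector bundle on affine n-space over a base is, locally on the base, the
standard one attached to a cocharacter; the general case, an identification of mapping stacks, is
not stated here.) -/
theorem result
    {R : Type u} [CommRing R] (n : ℕ)
    {P : Type v} [AddCommGroup P] [Module (MvPolynomial (Fin n) R) P] [Module R P]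
    [IsScalarTower R (MvPolynomial (Fin n) R) P]
    (ℳ : (Fin n → ℤ) → Submodule R P) [DirectSum.Decomposition ℳ]
    [SetLike.GradedSMul (MvPolynomial.weightedHomogeneousSubmodule R (fun i : Fin n => (Pi.single i 1 : Fin n → ℤ))) ℳ]
    [Module.Finite (MvPolynomial (Fin n) R) P] [Module.Projective (MvPolynomial (Fin n) R) P]
    (p : PrimeSpectrum R) :
    ∃ r : R, r ∉ p.asIdeal ∧ ∃ (m : ℕ) (d : Fin m → (Fin n → ℤ)) (f : Fin m → P), (∀ i, f i ∈ ℳ (d i)) ∧
      (∀ q : P, ∃ (N : ℕ) (c : Fin m → MvPolynomial (Fin n) R), (MvPolynomial.C r : MvPolynomial (Fin n) R) ^ N • q = ∑ i, c i • f i) ∧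
      (∀ c : Fin m → MvPolynomial (Fin n) R, ∑ i, c i • f i = 0 →
        ∃ N : ℕ, ∀ i, (MvPolynomial.C r : MvPolynomial (Fin n) R) ^ N * c i = 0) := by
  classical
  -- the prime of `A` lying over `p` and containing the variables
  set 𝔫 : Ideal (MvPolynomial (Fin n) R) := Ideal.comap (constantCoeff (R := R)) p.asIdeal with h𝔫
  haveI : 𝔫.IsPrime := Ideal.comap_isPrime _ _
  -- the family of homogeneous elements
  set v : (Σ d : (Fin n → ℤ), ℳ d) → P := fun x => (x.2 : P) with hv
  have hvspan : Submodule.span (MvPolynomial (Fin n) R) (Set.range v) = ⊤ := by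
    rw [eq_top_iff]
    intro q _
    obtain ⟨T, hT⟩ := Aux.sum_pr ℳ q
    rw [← hT]
    apply Submodule.sum_mem
    intro d _
    apply Submodule.subset_span
    exact ⟨⟨d, ⟨Aux.pr ℳ d q, Aux.pr_mem ℳ d q⟩⟩, rfl⟩
  obtain ⟨m, a, s, hs, h1, h2⟩ := Groth.Agent.Lib.Helper63.LocalBasis.local_basis 𝔫 v hvspan
  have hfmem : ∀ i, v (a i) ∈ ℳ (a i).1 := fun i => (a i).2.2
  refine ⟨constantCoeff s, hs, m, fun i => (a i).1, fun i => v (a i), hfmem, ?_, ?_⟩
  · intro q
    obtain ⟨T, hT⟩ := Aux.sum_pr ℳ q
    choose cc hcc using fun d => h1 (Aux.pr ℳ d q)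
    have key : ∀ d, (C (constantCoeff s) : MvPolynomial (Fin n) R) • Aux.pr ℳ d q =
        ∑ i, weightedHomogeneousComponent (fun i : Fin n => (Pi.single i 1 : Fin n → ℤ))
          (d - (a i).1) (cc d i) • v (a i) := by
      intro d
      have e1 := congrArg (Aux.pr ℳ d) (hcc d)
      rw [Aux.pr_smul ℳ (Aux.pr_mem ℳ d q), sub_self, Aux.comp_zero, Aux.pr_sum] at e1
      rw [e1]
      apply Finset.sum_congr rfl
      intro i _
      exact Aux.pr_smul ℳ (hfmem i) _ _
    refine ⟨1, fun i => ∑ d ∈ T, weightedHomogeneousComponent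
      (fun i : Fin n => (Pi.single i 1 : Fin n → ℤ)) (d - (a i).1) (cc d i), ?_⟩
    rw [pow_one]
    conv_lhs => rw [← hT]
    rw [Finset.smul_sum]
    simp only [Finset.sum_smul]
    rw [Finset.sum_comm]
    apply Finset.sum_congr rfl
    intro d _
    exact key d
  · intro c hc
    refine ⟨1, fun i => ?_⟩
    rw [pow_one]
    apply Aux.C_mul_eq_zero_of_forall
    intro e
    apply Aux.C_mul_eq_zero_of_mul_eq_zero s _ e (weightedHomogeneousComponent_mem _ _ _)
    -- the homogeneous component of degree `e + d i` of the relation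
    have e1 := congrArg (Aux.pr ℳ (e + (a i).1)) hc
    rw [Aux.pr_zero, Aux.pr_sum] at e1
    have e2 : ∑ j, weightedHomogeneousComponent (fun i : Fin n => (Pi.single i 1 : Fin n → ℤ))
        (e + (a i).1 - (a j).1) (c j) • v (a j) = 0 := by
      rw [← e1]
      apply Finset.sum_congr rfl
      intro j _
      exact (Aux.pr_smul ℳ (hfmem j) _ _).symm
    have e3 := h2 _ e2 i
    rwa [add_sub_cancel_right] at e3

end Groth.Agent.S19649
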