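import Groth.Statements.S19659
import Groth.Agent.Lib.Helper14.FibreCritGroup
import Groth.Agent.Lib.Helper41.SmoothGeomRed
import Groth.Agent.Lib.Helper21.OfComp

set_option autoImplicit false
universe u
open CategoryTheory CategoryTheory.Limits MonoidalCategory CartesianMonoidalCategory MonObj GrpObj AlgebraicGeometry
open AbSch

namespace Groth.Agent.S19659

/-- Let S be a scheme, A and B abelian schemes over S (proper smooth S-group schemes with geometrically
connected fibres) and f : A → B a homomorphism. Then f is flat exactly when it is surjective. -/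
theorem result
    {S : Scheme.{u}} (A B : Over S) [GrpObj A] [IsProper A.hom] [Smooth A.hom] [GeometricallyConnected A.hom]
    [GrpObj B] [IsProper B.hom] [Smooth B.hom] [GeometricallyConnected B.hom]
    (f : A ⟶ B) [IsMonHom f] :
    Flat f.left ↔ Surjective f.left := by
  haveI : GeometricallyReduced B.hom :=
    Groth.Agent.Lib.Helper41.SmoothGeomRed.geometricallyReduced_of_smooth B.hom
  have hw : f.left ≫ B.hom = A.hom := Over.w f
  constructor
  · intro hfl
    haveI : LocallyOfFinitePresentation (f.left ≫ B.hom) := by rw [hw]; infer_instance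
    haveI : LocallyOfFinitePresentation f.left :=
      Groth.Agent.Lib.Helper21.locallyOfFinitePresentation_of_comp_of_locallyOfFiniteType
        f.left B.hom
    haveI : IsProper (f.left ≫ B.hom) := by rw [hw]; infer_instance
    haveI : IsProper f.left := IsProper.of_comp f.left B.hom
    have hopen : IsOpen (Set.range f.left) := f.left.isOpenMap.isOpen_range
    have hclosed : IsClosed (Set.range f.left) := f.left.isClosedMap.isClosed_range
    refine ⟨fun b => ?_⟩
    let s : S := B.hom b
    have hconn : _root_.IsConnected (B.hom ⁻¹' {s}) := B.hom.isConnected_preimage_singleton s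
    have hone : η[A] ≫ f = η[B] := IsMonHom.one_hom f
    have hb0 : (η[B].left : S ⟶ B.left) s ∈ Set.range f.left := by
      refine ⟨(η[A].left : S ⟶ A.left) s, ?_⟩
      rw [← Scheme.Hom.comp_apply]
      have : (η[A].left : S ⟶ A.left) ≫ f.left = (η[B].left : S ⟶ B.left) := by
        rw [← hone]; rfl
      rw [this]
    have hb0s : (η[B].left : S ⟶ B.left) s ∈ B.hom ⁻¹' {s} := by
      show B.hom ((η[B].left : S ⟶ B.left) s) = s
      rw [← Scheme.Hom.comp_apply]
      have : (η[B].left : S ⟶ B.left) ≫ B.hom = 𝟙 S := Over.w η[B]
      rw [this]; rfl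
    have hsub := hconn.isPreconnected.subset_isClopen ⟨hclosed, hopen⟩ ⟨_, hb0s, hb0⟩
    exact hsub (show b ∈ B.hom ⁻¹' {s} from rfl)
  · intro hs
    exact Groth.Agent.Lib.Helper14.FibreCrit.flat_of_surjective_grpHom f

end Groth.Agent.S19659
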