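import Groth.Statements.S1966
import Groth.Agent.Lib.Helper9.Henselian

set_option autoImplicit false
universe u
open EtAlg

namespace Groth.Agent.S1966

/-- Towers indexed by the natural numbers: let (A_k) be rings with surjective transition maps A_{k+1} ->
A_k whose kernels consist of nilpotent elements, and let A be a ring with compatible projections p_k
: A -> A_k identifying A with the set of compatible sequences (p is jointly injective and every
compatible sequence comes from an element of A). Then for every k the pair (A, ker p_k) is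
henselian. -/
theorem result (A : Type u) [CommRing A] (As : ℕ → Type u) [∀ k, CommRing (As k)]
    (t : ∀ k, As (k + 1) →+* As k) (ht : ∀ k, Function.Surjective (t k))
    (hnil : ∀ k (x : As (k + 1)), t k x = 0 → IsNilpotent x)
    (p : ∀ k, A →+* As k) (hp : ∀ k, (t k).comp (p (k + 1)) = p k)
    (hinj : ∀ a b : A, (∀ k, p k a = p k b) → a = b)
    (hsurj : ∀ x : ∀ k, As k, (∀ k, t k (x (k + 1)) = x k) → ∃ a : A, ∀ k, p k a = x k) (k : ℕ) :
    HenselianRing A (RingHom.ker (p k)) := by
  classical
  -- going down the tower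
  have hp' : ∀ j (a : A), t j (p (j + 1) a) = p j a := fun j a => by
    rw [← hp j]; rfl
  have hdownZero : ∀ (d i : ℕ) (c : A), p (i + d) c = 0 → p i c = 0 := by
    intro d
    induction d with
    | zero => intro i c h; simpa using h
    | succ d ih =>
      intro i c h
      apply ih
      have : p (i + d) c = t (i + d) (p (i + d + 1) c) := (hp' _ _).symm
      have h' : p (i + d + 1) c = 0 := h
      rw [this, h', map_zero]
  have hdownUnit : ∀ (d i : ℕ) (c : A), IsUnit (p (i + d) c) → IsUnit (p i c) := by
    intro d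
    induction d with
    | zero => intro i c h; simpa using h
    | succ d ih =>
      intro i c h
      apply ih
      have : p (i + d) c = t (i + d) (p (i + d + 1) c) := (hp' _ _).symm
      rw [this]
      exact h.map _
  have hupUnit : ∀ (c : A), IsUnit (p 0 c) → ∀ j, IsUnit (p j c) := by
    intro c h0 j
    induction j with
    | zero => exact h0
    | succ j ih =>
      apply Groth.Agent.Lib.Helper9.isUnit_of_isUnit_map_of_nil_ker (t j) (ht j) (hnil j)
      rw [hp']; exact ih
  -- `p k` reflects units
  have hU : ∀ c : A, IsUnit (p k c) → IsUnit c := by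
    intro c hc
    have h0 : IsUnit (p 0 c) := hdownUnit k 0 c (by rw [Nat.zero_add]; exact hc)
    have hall := hupUnit c h0
    choose u hu using hall
    have hcompat : ∀ j, t j (↑(u (j + 1))⁻¹ : As (j + 1)) = (↑(u j)⁻¹ : As j) := by
      intro j
      have h1 : t j (↑(u (j + 1))⁻¹ : As (j + 1)) * p j c = 1 := by
        rw [← hp' j c, ← map_mul, ← hu (j + 1), Units.inv_mul, map_one]
      have h2 : (↑(u j)⁻¹ : As j) * p j c = 1 := by rw [← hu j, Units.inv_mul]
      calc t j (↑(u (j + 1))⁻¹ : As (j + 1))
          = t j (↑(u (j + 1))⁻¹ : As (j + 1)) * (p j c * (↑(u j)⁻¹ : As j)) := by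
            rw [← hu j, Units.mul_inv, mul_one]
        _ = (↑(u j)⁻¹ : As j) := by rw [← mul_assoc, h1, one_mul]
    obtain ⟨w, hw⟩ := hsurj (fun j => (↑(u j)⁻¹ : As j)) hcompat
    refine IsUnit.of_mul_eq_one w (hinj _ _ fun j => ?_)
    rw [map_mul, hw, ← hu j, Units.mul_inv, map_one]
  have hjac : RingHom.ker (p k) ≤ Ideal.jacobson ⊥ := by
    intro x hx
    rw [Ideal.mem_jacobson_bot]
    intro y
    apply hU
    rw [map_add, map_mul, (RingHom.mem_ker).mp hx, zero_mul, zero_add, map_one]
    exact isUnit_one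
  refine ⟨hjac, ?_⟩
  intro f hf a₀ h₁ h₂
  have hu : IsUnit (f.derivative.eval a₀) :=
    Groth.Agent.Lib.Helper9.isUnit_of_isUnit_mk_of_le_jacobson_bot hjac h₂
  have hevalmap : ∀ j (g : Polynomial A) (a : A), (g.map (p j)).eval (p j a) = p j (g.eval a) := by
    intro j g a
    rw [Polynomial.eval_map, Polynomial.eval₂_hom]
  have hevalt : ∀ j (g : Polynomial A) (y : As (j + 1)),
      t j ((g.map (p (j + 1))).eval y) = (g.map (p j)).eval (t j y) := by
    intro j g y
    rw [← hp j, ← Polynomial.map_map, Polynomial.eval_map (t j), Polynomial.eval₂_hom]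
  -- the property carried along the recursion
  let P : ∀ j, As j → Prop := fun j x =>
    (f.map (p j)).eval x = 0 ∧ IsUnit ((f.derivative.map (p j)).eval x) ∧ (j ≤ k → x = p j a₀)
  have hstep : ∀ j (x : As j), P j x → ∃ y : As (j + 1), P (j + 1) y ∧ t j y = x := by
    intro j x ⟨hx1, hx2, hx3⟩
    by_cases hjk : j + 1 ≤ k
    · refine ⟨p (j + 1) a₀, ⟨?_, ?_, fun _ => rfl⟩, ?_⟩
      · rw [hevalmap]
        obtain ⟨d, rfl⟩ := Nat.exists_eq_add_of_le hjk
        exact hdownZero d (j + 1) _ (RingHom.mem_ker.mp h₁)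
      · rw [hevalmap]; exact hu.map _
      · rw [hp', hx3 (by omega)]
    · obtain ⟨y₀, hy₀⟩ := ht j x
      have hHens : HenselianRing (As (j + 1)) (RingHom.ker (t j)) :=
        Groth.Agent.Lib.Helper9.henselianRing_of_forall_isNilpotent
          (fun x hx => hnil j x (RingHom.mem_ker.mp hx))
      have hunit_of : ∀ y : As (j + 1), t j y = x →
          IsUnit ((f.derivative.map (p (j + 1))).eval y) := by
        intro y hy
        apply Groth.Agent.Lib.Helper9.isUnit_of_isUnit_map_of_nil_ker (t j) (ht j) (hnil j)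
        rw [hevalt, hy]; exact hx2
      have hmem : ((f.map (p (j + 1))).eval y₀) ∈ RingHom.ker (t j) := by
        rw [RingHom.mem_ker, hevalt, hy₀, hx1]
      have hder : (f.map (p (j + 1))).derivative = f.derivative.map (p (j + 1)) :=
        Polynomial.derivative_map _ _
      obtain ⟨y, hy1, hy2⟩ := hHens.is_henselian (f.map (p (j + 1))) (hf.map _) y₀ hmem
        (by rw [hder]; exact (hunit_of y₀ hy₀).map _)
      have hty : t j y = x := by
        have : t j (y - y₀) = 0 := RingHom.mem_ker.mp hy2
        rw [map_sub, sub_eq_zero] at this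
        rw [this, hy₀]
      exact ⟨y, ⟨hy1, hunit_of y hty, fun h => absurd h hjk⟩, hty⟩
  have hP0 : P 0 (p 0 a₀) := by
    refine ⟨?_, ?_, fun _ => rfl⟩
    · rw [hevalmap]
      exact hdownZero k 0 _ (by rw [Nat.zero_add]; exact RingHom.mem_ker.mp h₁)
    · rw [hevalmap]; exact hu.map _
  let seq : ∀ j, {x : As j // P j x} := fun j =>
    Nat.rec (motive := fun j => {x : As j // P j x}) ⟨p 0 a₀, hP0⟩
      (fun j xj => ⟨Classical.choose (hstep j xj.1 xj.2), (Classical.choose_spec (hstep j xj.1 xj.2)).1⟩) j
  have hseq : ∀ j, t j (seq (j + 1)).1 = (seq j).1 := fun j =>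
    (Classical.choose_spec (hstep j (seq j).1 (seq j).2)).2
  obtain ⟨a, ha⟩ := hsurj (fun j => (seq j).1) hseq
  refine ⟨a, ?_, ?_⟩
  · apply hinj
    intro j
    rw [map_zero, ← hevalmap, ha]
    exact (seq j).2.1
  · rw [RingHom.mem_ker, map_sub, ha, (seq k).2.2.2 le_rfl, sub_self]

end Groth.Agent.S1966
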