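import Groth.Statements.S1969
import Groth.Agent.Lib.Helper98.FlatIdealsValuation

set_option autoImplicit false
universe u
open EtAlg

namespace Groth.Agent.S1969

/-- For a commutative ring A these are equivalent — all ideals are flat A-modules; all finitely
generated ideals are flat; flatness passes to submodules of flat modules; each localization at a
prime is a valuation ring (in particular a domain). Condition (1), weak dimension at most one, is
not stated. -/
theorem result (A : Type u) [CommRing A] :
    List.TFAE [∀ I : Ideal A, Module.Flat A I,
      ∀ I : Ideal A, I.FG → Module.Flat A I,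
      ∀ (M : Type u) [AddCommGroup M] [Module A M], Module.Flat A M → ∀ N : Submodule A M, Module.Flat A N,
      ∀ (p : Ideal A) [p.IsPrime], ∃ _ : IsDomain (Localization.AtPrime p), ValuationRing (Localization.AtPrime p)] := by
  tfae_have 1 → 2 := fun h I _ => h I
  tfae_have 2 → 4 := fun h p _ =>
    Groth.Agent.Lib.Helper98.valuationRing_of_flat_span_pair
      (Groth.Agent.Lib.Helper98.flat_span_pair_localization p.primeCompl (Localization.AtPrime p) h)
  tfae_have 4 → 3 := fun h M _ _ hM N =>
    Groth.Agent.Lib.Helper98.flat_submodule_of_valuationRing_localization h M N
  tfae_have 3 → 1 := fun h I => h A inferInstance I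
  tfae_finish

end Groth.Agent.S1969
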