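import Groth.Statements.S1968
import Groth.Agent.Lib.Helper98.PiValuation
import Groth.Agent.S1969

set_option autoImplicit false
universe u
open EtAlg

namespace Groth.Agent.S1968

/-- Let (A_j) be a family of valuation rings with fraction fields K_j. Then every ideal of the product
ring Π A_j is a flat Π A_j-module (that is, Π A_j has weak dimension at most 1), and Π K_j is the
localization of Π A_j at its non-zero-divisors. -/
theorem result {J : Type u} (A : J → Type u) [∀ j, CommRing (A j)] [∀ j, IsDomain (A j)]
    [∀ j, ValuationRing (A j)] (K : J → Type u) [∀ j, Field (K j)] [∀ j, Algebra (A j) (K j)]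
    [∀ j, IsFractionRing (A j) (K j)] :
    (∀ I : Ideal (∀ j, A j), Module.Flat (∀ j, A j) I) ∧
      IsLocalization (nonZeroDivisors (∀ j, A j)) (∀ j, K j) := by
  constructor
  · exact ((Groth.Agent.S1969.result (∀ j, A j)).out 1 0).mp
      (Groth.Agent.Lib.Helper98.pi_flat_of_fg A)
  · rw [Groth.Agent.Lib.Helper98.pi_nonZeroDivisors A]
    infer_instance

end Groth.Agent.S1968
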