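import Mathlib
import Groth.Statements.S19702
-- import your own Groth.Agent.* helpers here

set_option autoImplicit false
universe u
open CategoryTheory MonoidalCategory CartesianMonoidalCategory MonObj GrpObj AlgebraicGeometry CategoryTheory.Limits
open AlgGrp

namespace Groth.Agent.S19702


open TensorProduct in
/-- faithfully flat descent of bijectivity of the structure map along `B → A ⊗ B`. -/
theorem bijective_algebraMap_of_includeRight (R A B : Type u) [CommRing R] [CommRing A] [CommRing B]
    [Algebra R A] [Algebra R B] [Module.FaithfullyFlat R B]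
    (h : Function.Bijective (Algebra.TensorProduct.includeRight : B →ₐ[R] A ⊗[R] B)) :
    Function.Bijective (algebraMap R A) := by
  let f : R →ₗ[R] A := Algebra.linearMap R A
  have hf : Function.Bijective (f.lTensor B) := by
    have h1 : (TensorProduct.comm R B A) ∘ (f.lTensor B) ∘ (TensorProduct.rid R B).symm =
        (Algebra.TensorProduct.includeRight : B →ₐ[R] A ⊗[R] B) := by
      funext b
      simp [f]
    have h2 : Function.Bijective
        ((TensorProduct.comm R B A) ∘ (f.lTensor B) ∘ (TensorProduct.rid R B).symm) := by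
      rw [h1]; exact h
    have h3 := (Function.Bijective.of_comp_iff' (TensorProduct.comm R B A).bijective _).mp h2
    exact (Function.Bijective.of_comp_iff _ (TensorProduct.rid R B).symm.bijective).mp h3
  exact (Module.FaithfullyFlat.lTensor_bijective_iff_bijective (R := R) (M := B) (f := f)).mp hf

open TensorProduct in
/-- In a pushout square of commutative rings along a faithfully flat map, the other leg is an
isomorphism iff its pushout is. -/
theorem isIso_iff_of_isPushout {R A B D : CommRingCat.{u}} {a : R ⟶ A} {b : R ⟶ B} {c : A ⟶ D}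
    {d : B ⟶ D} (h : IsPushout a b c d) (hb : b.hom.FaithfullyFlat) : IsIso a ↔ IsIso d := by
  constructor
  · intro ha
    exact h.isIso_inr_of_isIso
  · intro hd
    let _ := a.hom.toAlgebra
    let _ := b.hom.toAlgebra
    have : Module.FaithfullyFlat R B := hb
    have h0 := CommRingCat.isPushout_tensorProduct R A B
    have h' : IsPushout (CommRingCat.ofHom (algebraMap R A)) (CommRingCat.ofHom (algebraMap R B)) c d := h
    let e := h0.isoIsPushout _ _ h'
    have he : CommRingCat.ofHom (Algebra.TensorProduct.includeRight : B →ₐ[R] A ⊗[R] B).toRingHom ≫ e.hom = d :=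
      h0.inr_isoIsPushout_hom _ _ h'
    have hiso : IsIso (CommRingCat.ofHom (Algebra.TensorProduct.includeRight : B →ₐ[R] A ⊗[R] B).toRingHom) := by
      have : CommRingCat.ofHom (Algebra.TensorProduct.includeRight : B →ₐ[R] A ⊗[R] B).toRingHom = d ≫ e.inv := by
        rw [← he, Category.assoc, Iso.hom_inv_id, Category.comp_id]
      rw [this]; infer_instance
    have hbij : Function.Bijective (Algebra.TensorProduct.includeRight : B →ₐ[R] A ⊗[R] B) :=
      (ConcreteCategory.isIso_iff_bijective _).mp hiso
    have := bijective_algebraMap_of_includeRight R A B hbij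
    exact (ConcreteCategory.isIso_iff_bijective a).mpr this

/-- Let k be a field, K a field extension of k and G a k-group scheme of finite type. Then G is
anti-affine, i.e. O(G) = k, if and only if the base change G_K is anti-affine, i.e. O(G_K) = K. -/
theorem result (k : Type u) [Field k] (K : Type u) [Field K] [Algebra k K]
    (G : Over (Spec (CommRingCat.of k))) [GrpObj G] [LocallyOfFiniteType G.hom] [QuasiCompact G.hom] :
    Function.Bijective ((Scheme.ΓSpecIso (CommRingCat.of k)).inv ≫ G.hom.appTop).hom ↔
      Function.Bijective ((Scheme.ΓSpecIso (CommRingCat.of K)).inv ≫ (Red.bc (Spec.map (CommRingCat.ofHom (algebraMap k K))) G).hom.appTop).hom := by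
  let f : Spec (CommRingCat.of K) ⟶ Spec (CommRingCat.of k) :=
    Spec.map (CommRingCat.ofHom (algebraMap k K))
  have : IsLocallyNoetherian G.left := LocallyOfFiniteType.isLocallyNoetherian G.hom
  have : CompactSpace G.left := QuasiCompact.compactSpace_of_compactSpace G.hom
  have : Flat f := by
    rw [Flat.SpecMap_iff]
    exact (RingHom.flat_algebraMap_iff.mpr inferInstance)
  have H : IsPullback (pullback.fst G.hom f) (pullback.snd G.hom f) G.hom f :=
    IsPullback.of_hasPullback _ _
  have hiso := isIso_pushoutSection_of_isQuasiSeparated_of_flat_right H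
    (US := ⊤) (UT := ⊤) (UX := ⊤) (UY := ⊤) le_top le_top (by simp)
    (isAffineOpen_top _) (isAffineOpen_top _) isCompact_univ isQuasiSeparated_univ
  have hpo := (isIso_pushoutSection_iff H (US := ⊤) (UT := ⊤) (UX := ⊤) (UY := ⊤)
    le_top le_top (by simp)).mp hiso
  have hφ : (CommRingCat.ofHom (algebraMap k K)).hom.FaithfullyFlat :=
    RingHom.faithfullyFlat_algebraMap_iff.mpr inferInstance
  have e1 : f.appLE ⊤ ⊤ le_top = (Scheme.ΓSpecIso (CommRingCat.of k)).hom ≫
      CommRingCat.ofHom (algebraMap k K) ≫ (Scheme.ΓSpecIso (CommRingCat.of K)).inv := by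
    have h1 : f.appLE ⊤ ⊤ le_top = f.appTop := f.appLE_eq_app
    rw [h1, Scheme.ΓSpecIso_inv_naturality, Iso.hom_inv_id_assoc]
  have hb : (f.appLE ⊤ ⊤ le_top).hom.FaithfullyFlat := by
    rw [e1]
    refine RingHom.FaithfullyFlat.stableUnderComposition _ _
      (RingHom.FaithfullyFlat.of_bijective
        ((ConcreteCategory.isIso_iff_bijective (Scheme.ΓSpecIso (CommRingCat.of k)).hom).mp
          inferInstance)) ?_
    exact RingHom.FaithfullyFlat.stableUnderComposition _ _ hφ
      (RingHom.FaithfullyFlat.of_bijective
        ((ConcreteCategory.isIso_iff_bijective (Scheme.ΓSpecIso (CommRingCat.of K)).inv).mp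
          inferInstance))
  have key := isIso_iff_of_isPushout hpo hb
  have ea : G.hom.appLE ⊤ ⊤ le_top = G.hom.appTop := G.hom.appLE_eq_app
  have ed : (pullback.snd G.hom f).appLE ⊤ ⊤ le_top = (pullback.snd G.hom f).appTop :=
    (pullback.snd G.hom f).appLE_eq_app
  rw [ea, ed] at key
  have hL : Function.Bijective ((Scheme.ΓSpecIso (CommRingCat.of k)).inv ≫ G.hom.appTop).hom ↔
      IsIso G.hom.appTop := by
    rw [← isIso_comp_left_iff (Scheme.ΓSpecIso (CommRingCat.of k)).inv G.hom.appTop]
    exact (ConcreteCategory.isIso_iff_bijective _).symm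
  have hR : Function.Bijective ((Scheme.ΓSpecIso (CommRingCat.of K)).inv ≫
      (Red.bc (Spec.map (CommRingCat.ofHom (algebraMap k K))) G).hom.appTop).hom ↔
      IsIso (pullback.snd G.hom f).appTop := by
    rw [← isIso_comp_left_iff (Scheme.ΓSpecIso (CommRingCat.of K)).inv (pullback.snd G.hom f).appTop]
    exact (ConcreteCategory.isIso_iff_bijective _).symm
  rw [hL, hR]
  exact key

end Groth.Agent.S19702
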