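import Groth.Statements.S19703
import Groth.Agent.Lib.Helper75.AAGroup
import Groth.Agent.Lib.Helper41.SepPoints3
import Groth.Agent.Lib.Helper14.SchImageGroup
-- import your own Groth.Agent.* helpers here

set_option autoImplicit false
universe u
open CategoryTheory MonoidalCategory CartesianMonoidalCategory MonObj GrpObj AlgebraicGeometry CategoryTheory.Limits
open AlgGrp

namespace Groth.Agent.S19703

/-- Let k be a field, G an anti-affine algebraic group over k (smooth, of finite type, with O(G) = k), H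
a connected k-group scheme of finite type and j : M → H its largest anti-affine closed subgroup
scheme H_ant (O(M) = k and every anti-affine closed subgroup scheme of H factors through M). Then
every morphism of k-schemes f : G → H with f(e_G) = e_H factors through H_ant. -/
theorem result (k : Type u) [Field k]
    (G H : Over (Spec (CommRingCat.of k))) [GrpObj G] [Smooth G.hom] [QuasiCompact G.hom]
    (hG : Function.Bijective ((Scheme.ΓSpecIso (CommRingCat.of k)).inv ≫ G.hom.appTop).hom)
    [GrpObj H] [LocallyOfFiniteType H.hom] [QuasiCompact H.hom] [ConnectedSpace ↥H.left]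
    (M : Over (Spec (CommRingCat.of k))) [GrpObj M] [LocallyOfFiniteType M.hom] [QuasiCompact M.hom] (j : M ⟶ H) [IsMonHom j] [IsClosedImmersion j.left]
    (hM : Function.Bijective ((Scheme.ΓSpecIso (CommRingCat.of k)).inv ≫ M.hom.appTop).hom)
    (hMmax : ∀ (M₁ : Over (Spec (CommRingCat.of k))) [GrpObj M₁] [LocallyOfFiniteType M₁.hom] [QuasiCompact M₁.hom] (j₁ : M₁ ⟶ H) [IsMonHom j₁] [IsClosedImmersion j₁.left],
      Function.Bijective ((Scheme.ΓSpecIso (CommRingCat.of k)).inv ≫ M₁.hom.appTop).hom → ∃ g : M₁ ⟶ M, g ≫ j = j₁)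
    (f : G ⟶ H) (hf : η[G] ≫ f = η[H]) :
    ∃ g : G ⟶ M, g ≫ j = f := by
  have hHsep : IsSeparated H.hom := Groth.Agent.Lib.Helper41.SepPoints3.isSeparated_of_field H
  have hfmon : IsMonHom f :=
    Groth.Agent.Lib.Helper75.AAGroup.isMonHom_of_pointed_aa k G H hG f hf
  have hqc : QuasiCompact f.left := by
    have : QuasiCompact (f.left ≫ H.hom) := by rw [Over.w f]; infer_instance
    exact QuasiCompact.of_comp f.left H.hom
  obtain ⟨M₁, instM₁, i, f', hi, hf', hfac, hci, hdom, hqc', hsurj, -, -, -⟩ :=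
    Groth.Agent.Lib.Helper14.exists_grpObj_image f
  have hM₁lft : LocallyOfFiniteType M₁.hom := by
    rw [← Over.w i]; infer_instance
  have hM₁qc : QuasiCompact M₁.hom := by
    rw [← Over.w i]; infer_instance
  have hinj : Function.Injective f'.left.appTop.hom := f'.left.app_injective ⊤
  have hcomp : ((Scheme.ΓSpecIso (CommRingCat.of k)).inv ≫ G.hom.appTop) =
      ((Scheme.ΓSpecIso (CommRingCat.of k)).inv ≫ M₁.hom.appTop) ≫ f'.left.appTop := by
    rw [Category.assoc, ← Scheme.Hom.comp_appTop, Over.w f']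
  have hbij : Function.Bijective ((Scheme.ΓSpecIso (CommRingCat.of k)).inv ≫ M₁.hom.appTop).hom := by
    have hG' : Function.Bijective (f'.left.appTop.hom ∘
        ((Scheme.ΓSpecIso (CommRingCat.of k)).inv ≫ M₁.hom.appTop).hom) := by
      rw [hcomp] at hG
      exact hG
    refine ⟨(Function.Injective.of_comp hG'.1), ?_⟩
    intro y
    obtain ⟨x, hx⟩ := hG'.2 (f'.left.appTop.hom y)
    exact ⟨x, hinj hx⟩
  obtain ⟨g₁, hg₁⟩ := hMmax M₁ i hbij
  exact ⟨f' ≫ g₁, by rw [Category.assoc, hg₁, hfac]⟩

end Groth.Agent.S19703
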