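import Groth.Statements.S1971
import Groth.Agent.Lib.Helper9.Henselian

set_option autoImplicit false
universe u
open EtAlg

namespace Groth.Agent.S1971

open Groth.Agent.Lib.Helper9 in
/-- One direction, symmetric in `I` and `J`. -/
theorem aux (A : Type u) [CommRing A] (I J : Ideal A)
    (h : I.radical = J.radical) (B : Type u) [CommRing B] [Algebra A B]
    (hI : Hens2.IsPairHenselization A I B) : Hens2.IsPairHenselization A J B := by
  have hmap : ∀ {C : Type u} [CommRing C] (f : A →+* C), (I.map f).radical = (J.map f).radical := by
    intro C _ f
    apply le_antisymm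
    · rw [Ideal.radical_le_radical_iff]
      calc I.map f ≤ (I.radical).map f := Ideal.map_mono Ideal.le_radical
        _ = (J.radical).map f := by rw [h]
        _ ≤ (J.map f).radical := Ideal.map_radical_le f
    · rw [Ideal.radical_le_radical_iff]
      calc J.map f ≤ (J.radical).map f := Ideal.map_mono Ideal.le_radical
        _ = (I.radical).map f := by rw [h]
        _ ≤ (I.map f).radical := Ideal.map_radical_le f
  refine ⟨(henselianRing_iff_of_radical_eq (hmap (algebraMap A B))).mp hI.1, ?_⟩
  intro C _ K f hK hJK
  refine hI.2 C K.radical f (henselianRing_radical hK) ?_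
  calc I.map f ≤ (I.map f).radical := Ideal.le_radical
    _ = (J.map f).radical := hmap f
    _ ≤ K.radical := Ideal.radical_mono hJK

/-- Let A be a ring with ideals I and J having the same zero locus in Spec A. Then an A-algebra is a
henselization of the pair (A, I) if and only if it is a henselization of the pair (A, J). -/
theorem result (A : Type u) [CommRing A] (I J : Ideal A)
    (h : PrimeSpectrum.zeroLocus (I : Set A) = PrimeSpectrum.zeroLocus (J : Set A)) (B : Type u) [CommRing B] [Algebra A B] :
    Hens2.IsPairHenselization A I B ↔ Hens2.IsPairHenselization A J B := by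
  have hrad : I.radical = J.radical := by
    rw [← PrimeSpectrum.vanishingIdeal_zeroLocus_eq_radical,
      ← PrimeSpectrum.vanishingIdeal_zeroLocus_eq_radical, h]
  exact ⟨aux A I J hrad B, aux A J I hrad.symm B⟩

end Groth.Agent.S1971
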