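import Groth.Statements.S19710
import Groth.Agent.FunFld.Backbone

set_option autoImplicit false
open FunFld

namespace Groth.Agent.S19710

/-- Let `k` be an algebraically closed field of characteristic zero. A `g^r_d` on a function field `K/k`
of one variable is a divisor `D` of degree `d` with a subspace `V ⊆ L(D)` of dimension `r + 1`;
`V(-nP) = V ∩ L(D - nP)`, and the `i`-th vanishing order `m_i(V, P)` (`m_0 < ⋯ < m_r`) equals `m`
exactly when `dim V(-mP) = r + 1 - i` and `dim V(-(m+1)P) = r - i`. Let `K_Y` have genus `0` and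
carry a `g^r_d` `(D_Y, V_Y)` with at least a cusp at a place `Q_Y` (`dim V_Y(-2Q_Y) ≥ r`); let
`(D_Z, V_Z)` be a `g^r_d` on a second function field `K_Z`, compatible with `(D_Y, V_Y)` at a node
formed by a place `P ≠ Q_Y` of `K_Y` and a place `Q` of `K_Z` (`dim V_Y(-nP) + dim V_Z(-(d+1-n)Q) =
r + 1` for `0 ≤ n ≤ d + 1`), and let `P'` be a place of `K_Y` different from `P` and from `Q_Y`.
Then `m_i(V_Y, P') < m_i(V_Z, Q)` for all but at most one index: the set of `i ≤ r` for which the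
`i`-th vanishing order of `V_Y` at `P'` equals the `i`-th vanishing order of `V_Z` at `Q` has at
most one element. (In the source `Q_Y` is the point where the rational component `Y` meets a chain
of curves ending in a curve of positive genus, which forces the cusp condition assumed here; the
source works over the complex numbers.) -/
theorem result
    (k : Type*) [Field k] [IsAlgClosed k] [CharZero k]
    (KY : Type*) [Field KY] [Algebra k KY] (hKY : FunFld.IsFunctionField k KY) (hg0 : FunFld.genus k KY = 0)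
    (KZ : Type*) [Field KZ] [Algebra k KZ] (hKZ : FunFld.IsFunctionField k KZ)
    (d r : ℕ) (DY : FunFld.Divisor k KY) (hDY : DY.deg = d) (DZ : FunFld.Divisor k KZ) (hDZ : DZ.deg = d)
    (VY : Submodule k KY) (hVY : VY ≤ FunFld.L DY) (hVYr : Module.finrank k ↥VY = r + 1)
    (VZ : Submodule k KZ) (hVZ : VZ ≤ FunFld.L DZ) (hVZr : Module.finrank k ↥VZ = r + 1)
    (QY : FunFld.Place k KY) (hcusp : r ≤ Module.finrank k ↥(VY ⊓ FunFld.L (DY - Finsupp.single QY ((2 : ℤ)))))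
    (P : FunFld.Place k KY) (hP : P ≠ QY) (Q : FunFld.Place k KZ)
    (hcomp : ∀ n : ℕ, n ≤ d + 1 →
      Module.finrank k ↥(VY ⊓ FunFld.L (DY - Finsupp.single P ((n : ℤ)))) + Module.finrank k ↥(VZ ⊓ FunFld.L (DZ - Finsupp.single Q ((d : ℤ) + 1 - n))) = r + 1)
    (P' : FunFld.Place k KY) (hP'P : P' ≠ P) (hP'Q : P' ≠ QY) :
    {i : ℕ | i ≤ r ∧ ∃ m : ℕ,
        Module.finrank k ↥(VY ⊓ FunFld.L (DY - Finsupp.single P' ((m : ℤ)))) = r + 1 - i ∧
        Module.finrank k ↥(VY ⊓ FunFld.L (DY - Finsupp.single P' ((m : ℤ) + 1))) = r - i ∧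
        Module.finrank k ↥(VZ ⊓ FunFld.L (DZ - Finsupp.single Q ((m : ℤ)))) = r + 1 - i ∧
        Module.finrank k ↥(VZ ⊓ FunFld.L (DZ - Finsupp.single Q ((m : ℤ) + 1))) = r - i}.Subsingleton := by
  classical
  have hY : Groth.Agent.FF.IsGrd VY DY r d := ⟨hVY, hVYr, hDY⟩
  have hsum := Groth.Agent.FF.sum_vdim2_le_one_of_cusp hKY hg0 hY hP'P hP'Q hP hcusp
  -- each member of the set yields `m ≤ d` with a section supported on `P', P`
  have key : ∀ i : ℕ, i ≤ r → ∀ m : ℕ,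
      Groth.Agent.FF.vdim VY DY P' (m : ℤ) = r + 1 - i →
      Groth.Agent.FF.vdim VY DY P' ((m : ℤ) + 1) = r - i →
      Groth.Agent.FF.vdim VZ DZ Q (m : ℤ) = r + 1 - i →
      Groth.Agent.FF.vdim VZ DZ Q ((m : ℤ) + 1) = r - i →
      m ≤ d ∧ 0 < Groth.Agent.FF.vdim2 VY DY P' P (m : ℤ) ((d : ℤ) - m) := by
    intro i hi m h1 _ h3 h4
    have hmd : m ≤ d := by
      by_contra hlt
      have h0 : Groth.Agent.FF.vdim VY DY P' (m : ℤ) = 0 :=
        Groth.Agent.FF.vdim_eq_zero hKY hY P' (by omega)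
      omega
    refine ⟨hmd, ?_⟩
    have c2 : Groth.Agent.FF.vdim VY DY P ((d - m : ℕ) : ℤ) +
        Groth.Agent.FF.vdim VZ DZ Q ((d : ℤ) + 1 - ((d - m : ℕ) : ℤ)) = r + 1 :=
      hcomp (d - m) (by omega)
    have e2 : (d : ℤ) + 1 - ((d - m : ℕ) : ℤ) = (m : ℤ) + 1 := by omega
    have e3 : ((d - m : ℕ) : ℤ) = (d : ℤ) - m := by omega
    rw [e2, e3, h4] at c2
    have h5 := Groth.Agent.FF.vdim_add_le hKY hY hP'P (m : ℤ) ((d : ℤ) - m)
    omega
  intro i₁ hi₁ i₂ hi₂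
  obtain ⟨hi₁r, m₁, a1, a2, a3, a4⟩ := hi₁
  obtain ⟨hi₂r, m₂, b1, b2, b3, b4⟩ := hi₂
  obtain ⟨hm₁, hp₁⟩ := key i₁ hi₁r m₁ a1 a2 a3 a4
  obtain ⟨hm₂, hp₂⟩ := key i₂ hi₂r m₂ b1 b2 b3 b4
  have hmm : m₁ = m₂ := by
    by_contra hne
    have hsub : ({m₁, m₂} : Finset ℕ) ⊆ Finset.range (d + 1) := by
      intro x hx
      rw [Finset.mem_insert, Finset.mem_singleton] at hx
      rw [Finset.mem_range]
      rcases hx with rfl | rfl <;> omega
    have h2 := Finset.sum_le_sum_of_subset (f := fun n : ℕ =>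
      Groth.Agent.FF.vdim2 VY DY P' P (n : ℤ) ((d : ℤ) - n)) hsub
    rw [Finset.sum_pair hne] at h2
    have h3 : (∑ n ∈ Finset.range (d + 1), Groth.Agent.FF.vdim2 VY DY P' P (n : ℤ) ((d : ℤ) - n)) ≤ 1 := hsum
    omega
  subst hmm
  have a1' : Groth.Agent.FF.vdim VY DY P' (m₁ : ℤ) = r + 1 - i₁ := a1
  have b1' : Groth.Agent.FF.vdim VY DY P' (m₁ : ℤ) = r + 1 - i₂ := b1
  omega

end Groth.Agent.S19710
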