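import Groth.Statements.S19741
import Groth.Agent.Lib.Helper99.Trdeg

set_option autoImplicit false
universe w u
open EssDim

namespace Groth.Agent.S19741

open CategoryTheory AlgebraicGeometry Opposite Groth.Agent.Lib.Helper99

section
variable {k : Type u} [Field k] {K : Type u} [Field K] [Algebra k K]
  (P : (Over (Spec (CommRingCat.of k)))ᵒᵖ ⥤ Type w)

/-- the restricted presheaf -/
noncomputable abbrev resP : (Over (Spec (CommRingCat.of K)))ᵒᵖ ⥤ Type w :=
  (Over.map (Spec.map (CommRingCat.ofHom (algebraMap k K)))).op ⋙ P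

variable {L : Type u} [Field L] [Algebra K L] [Algebra k L] [IsScalarTower k K L]

/-- `Spec L` viewed over `Spec k` via `Spec K` is `Spec L` over `Spec k`. -/
noncomputable def ptIso (L : Type u) [Field L] [Algebra K L] [Algebra k L] [IsScalarTower k K L] :
    (Over.map (Spec.map (CommRingCat.ofHom (algebraMap k K)))).obj (SGA7.pt (K := K) L) ≅
      SGA7.pt (K := k) L :=
  Over.isoMk (Iso.refl _) (by
    change 𝟙 _ ≫ Spec.map _ = Spec.map _ ≫ Spec.map _
    rw [Category.id_comp, ← Spec.map_comp, ← CommRingCat.ofHom_comp,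
      ← IsScalarTower.algebraMap_eq k K L])

theorem key (ξ : EssDim.FPt (k := K) (resP (K := K) P) L) :
    ∃ ξ' : EssDim.FPt (k := k) P L, EssDim.edAt (resP (K := K) P) ξ ≤ EssDim.edAt P ξ' := by
  let θ := ptIso (k := k) (K := K) L
  refine ⟨P.map θ.inv.op ξ, ?_⟩
  refine le_iInf ?_
  rintro ⟨K0, η₀, hη₀⟩
  let K1 : IntermediateField K L := IntermediateField.adjoin K (K0 : Set L)
  have htr : Cardinal.toENat (Algebra.trdeg K K1) ≤ Cardinal.toENat (Algebra.trdeg k K0) :=
    OrderHomClass.mono Cardinal.toENat (trdeg_compositum_le K0)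
  refine le_trans (EssDim.edAt_le_of_descends (K := K1) ?_) htr
  -- descent to K1
  let j : K0 →+* K1 := compositumIncl K0
  have hjw : Spec.map (CommRingCat.ofHom j) ≫ (SGA7.pt (K := k) K0).hom =
      ((Over.map (Spec.map (CommRingCat.ofHom (algebraMap k K)))).obj (SGA7.pt (K := K) K1)).hom := by
    change Spec.map _ ≫ Spec.map _ = Spec.map _ ≫ Spec.map _
    rw [← Spec.map_comp, ← Spec.map_comp, ← CommRingCat.ofHom_comp, ← CommRingCat.ofHom_comp]
    congr 2
    ext x
    change algebraMap k L x = algebraMap K L (algebraMap k K x)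
    exact IsScalarTower.algebraMap_apply k K L x
  let m2 : (Over.map (Spec.map (CommRingCat.ofHom (algebraMap k K)))).obj (SGA7.pt (K := K) K1) ⟶
      SGA7.pt (K := k) K0 := Over.homMk (Spec.map (CommRingCat.ofHom j)) hjw
  refine ⟨P.map m2.op η₀, ?_⟩
  let m1 := (Over.map (Spec.map (CommRingCat.ofHom (algebraMap k K)))).map
    (EssDim.resPt (k := K) K1.val)
  have hcomp : m1 ≫ m2 = θ.hom ≫ EssDim.resPt (k := k) K0.val := by
    ext : 1
    change Spec.map _ ≫ Spec.map _ = 𝟙 _ ≫ Spec.map _
    rw [Category.id_comp, ← Spec.map_comp, ← CommRingCat.ofHom_comp]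
    rfl
  change P.map m1.op (P.map m2.op η₀) = ξ
  have hξ : ξ = P.map θ.hom.op (P.map θ.inv.op ξ) := by
    rw [← Functor.map_comp_apply, ← op_comp, θ.hom_inv_id, op_id,
      Functor.map_id_apply]
  rw [hξ, ← hη₀]
  change _ = P.map θ.hom.op (P.map (EssDim.resPt (k := k) K0.val).op η₀)
  rw [← Functor.map_comp_apply, ← Functor.map_comp_apply, ← op_comp, ← op_comp,
    hcomp]

end

open CategoryTheory AlgebraicGeometry in
theorem result (k : Type u) [Field k] (K : Type u) [Field K] [Algebra k K]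
    (P : (Over (Spec (CommRingCat.of k)))ᵒᵖ ⥤ Type w) :
    EssDim.ed (k := K) ((Over.map (Spec.map (CommRingCat.ofHom (algebraMap k K)))).op ⋙ P) ≤ EssDim.ed P := by
  unfold EssDim.ed
  refine iSup_le fun L => iSup_le fun _ => iSup_le fun _ => iSup_le fun ξ => ?_
  letI : Algebra k L := ((algebraMap K L).comp (algebraMap k K)).toAlgebra
  haveI : IsScalarTower k K L := IsScalarTower.of_algebraMap_eq (fun _ => rfl)
  obtain ⟨ξ', hξ'⟩ := key (k := k) (K := K) P ξ
  refine le_trans (WithBot.coe_le_coe.mpr hξ') ?_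
  exact EssDim.edAt_le_ed ξ'

end Groth.Agent.S19741
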