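import Groth.Statements.S19748
import Groth.Agent.Lib.Helper99.GrArt2

set_option autoImplicit false
universe u
open scoped TensorProduct
open GrSegre

namespace Groth.Agent.S19748

/-- Let R and S be graded rings defined over a field k with Segre product T = R # S, M a graded R-module
and N a graded S-module. Suppose that multiplication by some homogeneous element f ∈ R_d of positive
degree d is bijective on M and multiplication by some homogeneous g ∈ S_e of positive degree e is
bijective on N. Then multiplication by some homogeneous element of T of positive degree is bijective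
on M # N. Here a graded ring defined over k is a commutative k-algebra of finite type, graded in
nonnegative degrees by k-subspaces with degree-zero part k·1; the Segre product T = R # S = ⊕_n R_n
⊗_k S_n is presented abstractly as a graded k-algebra T with an injective k-algebra homomorphism ψ :
T → R ⊗_k S carrying T_n onto the k-span of the elementary tensors a ⊗ b with a ∈ R_n, b ∈ S_n; the
Segre product M # N = ⊕_n M_n ⊗_k N_n of a graded R-module M and a graded S-module N is presented
abstractly as a graded T-module P with an injective k-linear map φ : P → M ⊗_k N carrying P_n onto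
the k-span of the tensors x ⊗ y with x ∈ M_n, y ∈ N_n and turning the action of t ∈ T into that of
ψ(t) (acting factorwise on M ⊗_k N). -/
theorem result (k : Type u) [Field k] (R : Type u) [CommRing R] [Algebra k R] (𝒜 : ℤ → Submodule k R) [GradedAlgebra 𝒜] (hposR : ∀ n : ℤ, n < 0 → 𝒜 n = ⊥) (h0R : 𝒜 0 = Submodule.span k {(1 : R)}) [Algebra.FiniteType k R] (S : Type u) [CommRing S] [Algebra k S] (ℬ : ℤ → Submodule k S) [GradedAlgebra ℬ] (hposS : ∀ n : ℤ, n < 0 → ℬ n = ⊥) (h0S : ℬ 0 = Submodule.span k {(1 : S)}) [Algebra.FiniteType k S] (T : Type u) [CommRing T] [Algebra k T] (𝒯 : ℤ → Submodule k T) [GradedAlgebra 𝒯] (ψ : T →ₐ[k] TensorProduct k R S) (hT : GrSeg.IsSegreRing 𝒜 ℬ 𝒯 ψ) (M : Type u) [AddCommGroup M] [Module R M] [Module k M] [IsScalarTower k R M] (ℳ : ℤ → AddSubgroup M) [DirectSum.Decomposition ℳ] [SetLike.GradedSMul 𝒜 ℳ] (N : Type u) [AddCommGroup N] [Module S N] [Module k N] [IsScalarTower k S N] (𝒩 : ℤ → AddSubgroup N) [DirectSum.Decomposition 𝒩] [SetLike.GradedSMul ℬ 𝒩] (P : Type u) [AddCommGroup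 P] [Module T P] [Module k P] [IsScalarTower k T P] (𝒬 : ℤ → AddSubgroup P) [DirectSum.Decomposition 𝒬] (φ : P →ₗ[k] TensorProduct k M N) (hP : GrSeg.IsSegreMod ψ ℳ 𝒩 𝒬 φ) (d : ℕ) (hd : 0 < d) (f : R) (hf : f ∈ 𝒜 (d : ℤ)) (hfM : Function.Bijective (fun x : M => f • x)) (e : ℕ) (he : 0 < e) (g : S) (hg : g ∈ ℬ (e : ℤ)) (hgN : Function.Bijective (fun y : N => g • y)) : ∃ (c : ℤ) (t : T), 0 < c ∧ t ∈ 𝒯 c ∧ Function.Bijective (fun p : P => t • p) := by
  open Groth.Agent.Lib.Helper99 in
  open DirectSum in
  classical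
  let c : ℤ := (d : ℤ) * e
  have hc : 0 < c := by positivity
  have hfe : f ^ e ∈ 𝒜 c := by
    have := SetLike.pow_mem_graded e hf
    rw [nsmul_eq_mul, mul_comm] at this
    exact this
  have hgd : g ^ d ∈ ℬ c := by
    have := SetLike.pow_mem_graded d hg
    rw [nsmul_eq_mul] at this
    exact this
  -- the element t
  have ht0 : (f ^ e) ⊗ₜ[k] (g ^ d) ∈ GrSeg.segrePiece k 𝒜 ℬ c :=
    Submodule.subset_span ⟨f ^ e, hfe, g ^ d, hgd, rfl⟩
  rw [← hT.2 c] at ht0
  obtain ⟨t, ht, hψt⟩ := ht0
  have hψt' : ψ t = (f ^ e) ⊗ₜ[k] (g ^ d) := hψt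
  refine ⟨c, t, hc, ht, ?_⟩
  -- bijective multiplication maps
  have hpowM : ∀ m : ℕ, (fun x : M => (f ^ m) • x) = (fun x : M => f • x)^[m] := by
    intro m
    induction m with
    | zero => funext x; simp
    | succ m ih =>
      funext x
      rw [Function.iterate_succ_apply', ← ih, pow_succ', mul_smul]
  have hpowN : ∀ m : ℕ, (fun x : N => (g ^ m) • x) = (fun x : N => g • x)^[m] := by
    intro m
    induction m with
    | zero => funext x; simp
    | succ m ih =>
      funext x
      rw [Function.iterate_succ_apply', ← ih, pow_succ', mul_smul]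
  have hFbij : Function.Bijective (fun x : M => (f ^ e) • x) := by
    rw [hpowM e]
    exact hfM.iterate e
  have hGbij : Function.Bijective (fun x : N => (g ^ d) • x) := by
    rw [hpowN d]
    exact hgN.iterate d
  let Fe : M ≃ₗ[k] M := LinearEquiv.ofBijective (Algebra.lsmul k k M (f ^ e)) hFbij
  let Ge : N ≃ₗ[k] N := LinearEquiv.ofBijective (Algebra.lsmul k k N (g ^ d)) hGbij
  have hFe : ∀ x, Fe x = (f ^ e) • x := fun x => rfl
  have hGe : ∀ x, Ge x = (g ^ d) • x := fun x => rfl
  let E : TensorProduct k M N ≃ₗ[k] TensorProduct k M N := TensorProduct.congr Fe Ge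
  have hE : ∀ z, GrSeg.act k R S M N (ψ t) z = E z := by
    intro z
    rw [hψt']
    induction z using TensorProduct.induction_on with
    | zero => simp
    | tmul x y => rw [GrSeg.act_tmul, TensorProduct.congr_tmul, hFe, hGe]
    | add z z' hz hz' => rw [map_add, map_add, hz, hz']
  have hφt : ∀ p, φ (t • p) = E (φ p) := fun p => by rw [hP.map_smul, hE]
  -- inverse of a homogeneous bijective multiplication is homogeneous
  have hinvM : ∀ (n : ℤ) (a : M), a ∈ ℳ n → Fe.symm a ∈ ℳ (n - c) := by
    intro n a ha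
    have hx : (f ^ e) • (Fe.symm a) = a := Fe.apply_symm_apply a
    have h0 : ∀ j, j ≠ n - c → ((decompose ℳ (Fe.symm a)) j : M) = 0 := by
      intro j hj
      apply hFbij.1
      change (f ^ e) • ((decompose ℳ (Fe.symm a)) j : M) = (f ^ e) • (0 : M)
      have h1 := coe_decompose_smul_of_left_mem 𝒜 ℳ hfe (Fe.symm a) (j + c)
      rw [add_sub_cancel_right, hx, decompose_of_mem_ne ℳ ha (by omega)] at h1
      rw [← h1, smul_zero]
    have h2 : Fe.symm a = ((decompose ℳ (Fe.symm a)) (n - c) : M) := by
      nth_rewrite 1 [← DirectSum.sum_support_decompose ℳ (Fe.symm a)]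
      refine Finset.sum_eq_single (n - c) (fun m _ hm => h0 m hm) (fun hn => ?_)
      rw [DFinsupp.mem_support_iff, not_not] at hn
      rw [hn]; rfl
    rw [h2]
    exact SetLike.coe_mem _
  have hinvN : ∀ (n : ℤ) (a : N), a ∈ 𝒩 n → Ge.symm a ∈ 𝒩 (n - c) := by
    intro n a ha
    have hx : (g ^ d) • (Ge.symm a) = a := Ge.apply_symm_apply a
    have h0 : ∀ j, j ≠ n - c → ((decompose 𝒩 (Ge.symm a)) j : N) = 0 := by
      intro j hj
      apply hGbij.1
      change (g ^ d) • ((decompose 𝒩 (Ge.symm a)) j : N) = (g ^ d) • (0 : N)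
      have h1 := coe_decompose_smul_of_left_mem ℬ 𝒩 hgd (Ge.symm a) (j + c)
      rw [add_sub_cancel_right, hx, decompose_of_mem_ne 𝒩 ha (by omega)] at h1
      rw [← h1, smul_zero]
    have h2 : Ge.symm a = ((decompose 𝒩 (Ge.symm a)) (n - c) : N) := by
      nth_rewrite 1 [← DirectSum.sum_support_decompose 𝒩 (Ge.symm a)]
      refine Finset.sum_eq_single (n - c) (fun m _ hm => h0 m hm) (fun hn => ?_)
      rw [DFinsupp.mem_support_iff, not_not] at hn
      rw [hn]; rfl
    rw [h2]
    exact SetLike.coe_mem _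
  have hEsymm : ∀ (n : ℤ), ∀ v ∈ GrSeg.segrePiece k ℳ 𝒩 n, E.symm v ∈ GrSeg.segrePiece k ℳ 𝒩 (n - c) := by
    intro n v hv
    induction hv using Submodule.span_induction with
    | mem v hv =>
      obtain ⟨a, ha, b, hb, rfl⟩ := hv
      have : E.symm (a ⊗ₜ[k] b) = Fe.symm a ⊗ₜ[k] Ge.symm b := by
        rw [LinearEquiv.symm_apply_eq, TensorProduct.congr_tmul, LinearEquiv.apply_symm_apply,
          LinearEquiv.apply_symm_apply]
      rw [this]
      exact Submodule.subset_span ⟨_, hinvM n a ha, _, hinvN n b hb, rfl⟩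
    | zero => rw [map_zero]; exact Submodule.zero_mem _
    | add u u' _ _ hu hu' => rw [map_add]; exact Submodule.add_mem _ hu hu'
    | smul r u _ hu => rw [map_smul]; exact Submodule.smul_mem _ r hu
  constructor
  · intro p p' hpp'
    apply hP.injective
    apply E.injective
    rw [← hφt, ← hφt]
    exact congrArg φ hpp'
  · intro p
    induction p using DirectSum.Decomposition.inductionOn 𝒬 with
    | zero => exact ⟨0, smul_zero t⟩
    | @homogeneous n p =>
      have h1 : φ p ∈ (GrSeg.segrePiece k ℳ 𝒩 n : Set (TensorProduct k M N)) := by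
        rw [← hP.image_piece n]
        exact ⟨p.1, p.2, rfl⟩
      have h2 := hEsymm n _ h1
      have h3 : E.symm (φ p) ∈ (GrSeg.segrePiece k ℳ 𝒩 (n - c) : Set (TensorProduct k M N)) := h2
      rw [← hP.image_piece (n - c)] at h3
      obtain ⟨q, _, hq⟩ := h3
      refine ⟨q, ?_⟩
      apply hP.injective
      change φ (t • q) = φ p
      rw [hφt, hq, LinearEquiv.apply_symm_apply]
    | add p p' hp hp' =>
      obtain ⟨q, hq⟩ := hp
      obtain ⟨q', hq'⟩ := hp'
      refine ⟨q + q', ?_⟩
      change t • (q + q') = p + p'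
      rw [smul_add]
      exact congrArg₂ (· + ·) hq hq'

end Groth.Agent.S19748
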