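import Groth.Statements.S19749
import Groth.Agent.Lib.Helper99.GrArt2

set_option autoImplicit false
universe u
open scoped TensorProduct
open GrSegre

namespace Groth.Agent.S19749

/-- Let R and S be graded rings defined over a field k, both generated over k by their degree-one parts
and of positive Krull dimension, T = R # S, M a graded R-module and N a graded S-module, n an
integer with N_m ≠ 0 for every m ≥ n, and x ∈ M_n, y ∈ N_n. If x # y generates M # N as a T-module,
then R_d x = M_{n+d} for every d ≥ 0 (every element of M_{n+d} is r x for some r ∈ R_d). Here a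
graded ring defined over k is a commutative k-algebra of finite type, graded in nonnegative degrees
by k-subspaces with degree-zero part k·1; the Segre product T = R # S = ⊕_n R_n ⊗_k S_n is presented
abstractly as a graded k-algebra T with an injective k-algebra homomorphism ψ : T → R ⊗_k S carrying
T_n onto the k-span of the elementary tensors a ⊗ b with a ∈ R_n, b ∈ S_n; the Segre product M # N =
⊕_n M_n ⊗_k N_n of a graded R-module M and a graded S-module N is presented abstractly as a graded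
T-module P with an injective k-linear map φ : P → M ⊗_k N carrying P_n onto the k-span of the
tensors x ⊗ y with x ∈ M_n, y ∈ N_n and turning the action of t ∈ T into that of ψ(t) (acting
factorwise on M ⊗_k N), and x # y is the element of P mapped to x ⊗ y. -/
theorem result (k : Type u) [Field k] (R : Type u) [CommRing R] [Algebra k R] (𝒜 : ℤ → Submodule k R) [GradedAlgebra 𝒜] (hposR : ∀ n : ℤ, n < 0 → 𝒜 n = ⊥) (h0R : 𝒜 0 = Submodule.span k {(1 : R)}) [Algebra.FiniteType k R] (S : Type u) [CommRing S] [Algebra k S] (ℬ : ℤ → Submodule k S) [GradedAlgebra ℬ] (hposS : ∀ n : ℤ, n < 0 → ℬ n = ⊥) (h0S : ℬ 0 = Submodule.span k {(1 : S)}) [Algebra.FiniteType k S] (T : Type u) [CommRing T] [Algebra k T] (𝒯 : ℤ → Submodule k T) [GradedAlgebra 𝒯] (ψ : T →ₐ[k] TensorProduct k R S) (hT : GrSeg.IsSegreRing 𝒜 ℬ 𝒯 ψ) (hstdR : Ideal.span (⋃ n ∈ Set.Ioi (0 : ℤ), (𝒜 n : Set R)) = Ideal.span ((𝒜 1 : Submodule k R) : Set R)) (hstdS : Ideal.span (⋃ n ∈ Set.Ioi (0 : ℤ), (ℬ n : Set S)) =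 Ideal.span ((ℬ 1 : Submodule k S) : Set S)) (hr1 : 1 ≤ ringKrullDim R) (hs1 : 1 ≤ ringKrullDim S) (M : Type u) [AddCommGroup M] [Module R M] [Module k M] [IsScalarTower k R M] (ℳ : ℤ → AddSubgroup M) [DirectSum.Decomposition ℳ] [SetLike.GradedSMul 𝒜 ℳ] (N : Type u) [AddCommGroup N] [Module S N] [Module k N] [IsScalarTower k S N] (𝒩 : ℤ → AddSubgroup N) [DirectSum.Decomposition 𝒩] [SetLike.GradedSMul ℬ 𝒩] (P : Type u) [AddCommGroup P] [Module T P] [Module k P] [IsScalarTower k T P] (𝒬 : ℤ → AddSubgroup P) [DirectSum.Decomposition 𝒬] (φ : P →ₗ[k] TensorProduct k M N) (hP : GrSeg.IsSegreMod ψ ℳ 𝒩 𝒬 φ) (n : ℤ) (hNn : ∀ m : ℤ, n ≤ m → 𝒩 m ≠ ⊥) (x : M) (hx : x ∈ ℳ n) (y : N) (hy : y ∈ 𝒩 n) (p : P) (hp : φ p = x ⊗ₜ[k] y) (hgen : Submodule.span T {p} = ⊤) (d : ℤ) (hd : 0 ≤ d) (z : M) (hz : z ∈ ℳ (n + d)) : ∃ r ∈ 𝒜 d, r • x = z := by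
  open Groth.Agent.Lib.Helper99 in
  open DirectSum in
  classical
  -- a nonzero element of N_{n+d} and a functional detecting it
  have hNne := hNn (n + d) (by omega)
  obtain ⟨w, hw, hw0⟩ : ∃ w ∈ 𝒩 (n + d), w ≠ 0 := by
    by_contra hall
    push Not at hall
    apply hNne
    rw [eq_bot_iff]
    intro w hw
    rw [AddSubgroup.mem_bot]
    exact hall w hw
  obtain ⟨θ₀, hθ₀⟩ : ∃ θ : Module.Dual k N, θ w ≠ 0 := by
    by_contra hall
    push Not at hall
    exact hw0 ((Module.forall_dual_apply_eq_zero_iff k w).mp hall)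
  let θ : Module.Dual k N := (θ₀ w)⁻¹ • θ₀
  have hθ : θ w = 1 := by
    simp only [θ, LinearMap.smul_apply, smul_eq_mul]
    exact inv_mul_cancel₀ hθ₀
  -- the preimage of z ⊗ w
  have hzw : z ⊗ₜ[k] w ∈ (GrSeg.segrePiece k ℳ 𝒩 (n + d) : Set (TensorProduct k M N)) :=
    Submodule.subset_span ⟨z, hz, w, hw, rfl⟩
  rw [← hP.image_piece (n + d)] at hzw
  obtain ⟨p', _, hp'⟩ := hzw
  have hp'span : p' ∈ Submodule.span T {p} := by rw [hgen]; exact Submodule.mem_top
  obtain ⟨t, rfl⟩ := Submodule.mem_span_singleton.mp hp'span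
  rw [hP.map_smul, hp] at hp'
  -- the map Λ : M ⊗ N → M
  let pr : M →ₗ[k] M := (pieceK 𝒜 ℳ (n + d)).subtype ∘ₗ projV 𝒜 ℳ (n + d)
  have hpr : ∀ m, pr m = ((decompose ℳ m) (n + d) : M) := fun m => rfl
  let Λ : TensorProduct k M N →ₗ[k] M :=
    TensorProduct.lift (((LinearMap.lsmul k M).flip.comp pr).compl₂ θ)
  have hΛ : ∀ m n', Λ (m ⊗ₜ[k] n') = θ n' • pr m := by
    intro m n'
    simp [Λ]
  -- target subspace
  let W : Submodule k M := (𝒜 d).map ((LinearMap.toSpanSingleton R M x).restrictScalars k)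
  -- elements of segre pieces act into W after Λ
  have hpiece : ∀ j : ℤ, ∀ u ∈ GrSeg.segrePiece k 𝒜 ℬ j,
      Λ (GrSeg.act k R S M N u (x ⊗ₜ[k] y)) ∈ W := by
    intro j u hu
    induction hu using Submodule.span_induction with
    | mem u hu =>
      obtain ⟨a, ha, b, hb, rfl⟩ := hu
      rw [GrSeg.act_tmul, hΛ, hpr]
      have hax : a • x ∈ ℳ (j + n) := SetLike.GradedSMul.smul_mem (A := 𝒜) (B := ℳ) ha hx
      by_cases hj : j = d
      · subst hj
        rw [show j + n = n + j by ring] at hax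
        rw [decompose_of_mem_same ℳ hax]
        refine ⟨θ (b • y) • a, (𝒜 j).smul_mem _ ha, ?_⟩
        simp only [LinearMap.coe_restrictScalars, LinearMap.toSpanSingleton_apply]
        rw [smul_assoc]
      · rw [decompose_of_mem_ne ℳ hax (by omega)]
        simp
    | zero => simp
    | add u u' _ _ hu hu' =>
      rw [map_add, LinearMap.add_apply, map_add]
      exact W.add_mem hu hu'
    | smul c u _ hu =>
      rw [map_smul, LinearMap.smul_apply, map_smul]
      exact W.smul_mem c hu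
  have hall : ∀ t : T, Λ (GrSeg.act k R S M N (ψ t) (x ⊗ₜ[k] y)) ∈ W := by
    intro t
    induction t using DirectSum.Decomposition.inductionOn 𝒯 with
    | zero => simp
    | @homogeneous j t =>
      apply hpiece j
      rw [← hT.2 j]
      exact ⟨t.1, t.2, rfl⟩
    | add t t' ht ht' =>
      rw [map_add, map_add, LinearMap.add_apply, map_add]
      exact W.add_mem ht ht'
  have hfin := hall t
  rw [hp', hΛ, hθ, one_smul, hpr, decompose_of_mem_same ℳ hz] at hfin
  obtain ⟨r, hr, hrz⟩ := hfin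
  exact ⟨r, hr, hrz⟩

end Groth.Agent.S19749
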