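import Groth.Statements.S19750
import Groth.Agent.Lib.Helper99.GrSegre2
import Groth.Agent.Lib.Helper99.GrStd

set_option autoImplicit false
universe u
open scoped TensorProduct
open GrSegre

namespace Groth.Agent.S19750

set_option maxHeartbeats 3200000 in
/-- Let R and S be graded rings defined over a field k, both generated over k by their degree-one parts
and of positive Krull dimension, T = R # S with irrelevant ideal T_+, and let a ≥ b be integers.
Then the number of generators ν_T(R(a) # S(b)) = dim_k (R(a) # S(b)) / T_+ (R(a) # S(b)) equals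
dim_k R_{a−b}. Here a graded ring defined over k is a commutative k-algebra of finite type, graded
in nonnegative degrees by k-subspaces with degree-zero part k·1; the Segre product T = R # S = ⊕_n
R_n ⊗_k S_n is presented abstractly as a graded k-algebra T with an injective k-algebra homomorphism
ψ : T → R ⊗_k S carrying T_n onto the k-span of the elementary tensors a ⊗ b with a ∈ R_n, b ∈ S_n;
the Segre product R(a) # S(b) = ⊕_n R_{n+a} ⊗_k S_{n+b} of the shifted modules is presented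
abstractly as a graded T-module P with an injective k-linear map φ : P → R ⊗_k S carrying P_n onto
the k-span of the tensors x ⊗ y with x ∈ R_{n+a}, y ∈ S_{n+b} and turning the action of t ∈ T into
that of ψ(t); T_+ is the ideal spanned by the T_n with n > 0. -/
theorem result (k : Type u) [Field k] (R : Type u) [CommRing R] [Algebra k R] (𝒜 : ℤ → Submodule k R) [GradedAlgebra 𝒜] (hposR : ∀ n : ℤ, n < 0 → 𝒜 n = ⊥) (h0R : 𝒜 0 = Submodule.span k {(1 : R)}) [Algebra.FiniteType k R] (S : Type u) [CommRing S] [Algebra k S] (ℬ : ℤ → Submodule k S) [GradedAlgebra ℬ] (hposS : ∀ n : ℤ, n < 0 → ℬ n = ⊥) (h0S : ℬ 0 = Submodule.span k {(1 : S)}) [Algebra.FiniteType k S] (T : Type u) [CommRing T] [Algebra k T] (𝒯 : ℤ → Submodule k T) [GradedAlgebra 𝒯] (ψ : T →ₐ[k] TensorProduct k R S) (hT : GrSeg.IsSegreRing 𝒜 ℬ 𝒯 ψ) (hstdR : Ideal.span (⋃ n ∈ Set.Ioi (0 : ℤ), (𝒜 n : Set R)) = Ideal.span ((𝒜 1 : Submodule k R) : Set R)) (hstdS : Ideal.span (⋃ n ∈ Set.Ioi (0 : ℤ), (ℬ n : Set S))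 = Ideal.span ((ℬ 1 : Submodule k S) : Set S)) (hr1 : 1 ≤ ringKrullDim R) (hs1 : 1 ≤ ringKrullDim S) (mT : HomogeneousIdeal 𝒯) (hmT : mT.toIdeal = Ideal.span (⋃ n ∈ Set.Ioi (0 : ℤ), (𝒯 n : Set T))) (a b : ℤ) (hab : b ≤ a) (P : Type u) [AddCommGroup P] [Module T P] [Module k P] [IsScalarTower k T P] (𝒬 : ℤ → AddSubgroup P) [DirectSum.Decomposition 𝒬] (φ : P →ₗ[k] TensorProduct k R S) (hP : GrSeg.IsSegreMod ψ (fun n : ℤ => 𝒜 (n + a)) (fun n : ℤ => ℬ (n + b)) 𝒬 φ) : Module.finrank k (P ⧸ (mT.toIdeal • (⊤ : Submodule T P))) = Module.finrank k (𝒜 (a - b)) := by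
  open Groth.Agent.Lib.Helper99 in
  open DirectSum in
  classical
  -- notation
  let ℳ' : ℤ → Submodule k R := fun n => 𝒜 (n + a)
  let 𝒩' : ℤ → Submodule k S := fun n => ℬ (n + b)
  let Nn : Submodule T P := mT.toIdeal • (⊤ : Submodule T P)
  have hact : ∀ u v : TensorProduct k R S, GrSeg.act k R S R S u v = u * v := by
    intro u v
    induction u using TensorProduct.induction_on with
    | zero => simp
    | tmul r s' =>
      induction v using TensorProduct.induction_on with
      | zero => simp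
      | tmul x y => rw [GrSeg.act_tmul, Algebra.TensorProduct.tmul_mul_tmul, smul_eq_mul, smul_eq_mul]
      | add v v' hv hv' => rw [map_add, hv, hv', mul_add]
    | add u u' hu hu' => rw [map_add, LinearMap.add_apply, hu, hu', add_mul]
  have hφsmul : ∀ (t : T) (p : P), φ (t • p) = ψ t * φ p := fun t p => by rw [hP.map_smul, hact]
  have hmemQ : ∀ (n : ℤ) (p : P), φ p ∈ GrSeg.segrePiece k ℳ' 𝒩' n → p ∈ 𝒬 n := by
    intro n p hp
    have hp' : φ p ∈ (GrSeg.segrePiece k ℳ' 𝒩' n : Set (TensorProduct k R S)) := hp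
    rw [← hP.image_piece n] at hp'
    obtain ⟨p', hp'Q, hpp'⟩ := hp'
    rw [← hP.injective hpp']
    exact hp'Q
  have hφQ : ∀ (n : ℤ) (p : P), p ∈ 𝒬 n → φ p ∈ GrSeg.segrePiece k ℳ' 𝒩' n := by
    intro n p hp
    have : φ p ∈ (GrSeg.segrePiece k ℳ' 𝒩' n : Set (TensorProduct k R S)) := by
      rw [← hP.image_piece n]
      exact ⟨p, hp, rfl⟩
    exact this
  -- (F1) graded scalar multiplication
  have hmulpiece : ∀ (j n : ℤ) (u v : TensorProduct k R S), u ∈ GrSeg.segrePiece k 𝒜 ℬ j →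
      v ∈ GrSeg.segrePiece k ℳ' 𝒩' n → u * v ∈ GrSeg.segrePiece k ℳ' 𝒩' (j + n) := by
    intro j n u v hu hv
    have h1 : u * v ∈ GrSeg.segrePiece k 𝒜 ℬ j * GrSeg.segrePiece k ℳ' 𝒩' n := Submodule.mul_mem_mul hu hv
    unfold GrSeg.segrePiece at h1
    rw [Submodule.span_mul_span] at h1
    refine (Submodule.span_le.mpr ?_) h1
    rintro z ⟨u', ⟨r, hr, s', hs', rfl⟩, v', ⟨x, hx, y, hy, rfl⟩, rfl⟩
    apply Submodule.subset_span
    refine ⟨r * x, ?_, s' * y, ?_, ?_⟩
    · have := SetLike.GradedMul.mul_mem hr hx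
      rwa [show j + (n + a) = j + n + a by ring] at this
    · have := SetLike.GradedMul.mul_mem hs' hy
      rwa [show j + (n + b) = j + n + b by ring] at this
    · exact Algebra.TensorProduct.tmul_mul_tmul _ _ _ _
  have hgsmul : ∀ (j n : ℤ) (t : T) (p : P), t ∈ 𝒯 j → p ∈ 𝒬 n → t • p ∈ 𝒬 (j + n) := by
    intro j n t p ht hp
    apply hmemQ
    rw [hφsmul]
    apply hmulpiece j n _ _ _ (hφQ n p hp)
    rw [← hT.2 j]
    exact ⟨t, ht, rfl⟩
  haveI : SetLike.GradedSMul 𝒯 𝒬 := ⟨fun {i j ai bj} hi hj => hgsmul i j ai bj hi hj⟩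
  -- (F2) vanishing in low degrees
  have hlow : ∀ n : ℤ, n < -b → ∀ p ∈ 𝒬 n, p = 0 := by
    intro n hn p hp
    apply hP.injective
    rw [map_zero]
    have h1 := hφQ n p hp
    have h2 : GrSeg.segrePiece k ℳ' 𝒩' n = ⊥ := by
      rw [eq_bot_iff]
      apply Submodule.span_le.mpr
      rintro x ⟨x', _, y, hy, rfl⟩
      have hy' : y ∈ ℬ (n + b) := hy
      rw [hposS (n + b) (by omega)] at hy'
      rw [(Submodule.mem_bot k).mp hy', TensorProduct.tmul_zero]
      exact Submodule.zero_mem _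
    rw [h2] at h1
    exact (Submodule.mem_bot k).mp h1
  -- (F3) elements of mT • P have no component of degree -b
  have hNcomp : ∀ x ∈ Nn, ((decompose 𝒬 x) (-b) : P) = 0 := by
    have hgen : ∀ r ∈ mT.toIdeal, ∀ p : P, ((decompose 𝒬 (r • p)) (-b) : P) = 0 := by
      intro r hr
      rw [hmT] at hr
      induction hr using Submodule.span_induction with
      | mem r hr =>
        simp only [Set.mem_iUnion, Set.mem_Ioi, SetLike.mem_coe] at hr
        obtain ⟨j, hj, hrj⟩ := hr
        intro p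
        rw [coe_decompose_smul_of_left_mem 𝒯 𝒬 hrj p (-b),
          hlow (-b - j) (by omega) _ (SetLike.coe_mem _), smul_zero]
      | zero => intro p; rw [zero_smul, decompose_zero]; rfl
      | add r r' _ _ hr hr' =>
        intro p
        rw [add_smul, decompose_add, DirectSum.add_apply, AddMemClass.coe_add, hr p, hr' p, add_zero]
      | smul c r _ hr =>
        intro p
        rw [smul_eq_mul, mul_comm, mul_smul]
        exact hr (c • p)
    intro x hx
    refine Submodule.smul_induction_on hx (fun r hr p _ => hgen r hr p) (fun x y hx hy => ?_)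
    rw [decompose_add, DirectSum.add_apply, AddMemClass.coe_add, hx, hy, add_zero]
  -- nontriviality of S and a retraction S → k
  haveI : Nontrivial S := by
    by_contra hS
    rw [not_nontrivial_iff_subsingleton] at hS
    have : ringKrullDim S = ⊥ := ringKrullDim_eq_bot_of_subsingleton
    rw [this] at hs1
    simp at hs1
  obtain ⟨θ₀, hθ₀⟩ : ∃ θ : Module.Dual k S, θ 1 ≠ 0 := by
    by_contra hall
    push Not at hall
    exact one_ne_zero ((Module.forall_dual_apply_eq_zero_iff k (1 : S)).mp hall)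
  let θ : Module.Dual k S := (θ₀ 1)⁻¹ • θ₀
  have hθ : θ 1 = 1 := by
    simp only [θ, LinearMap.smul_apply, smul_eq_mul]
    exact inv_mul_cancel₀ hθ₀
  let ret : TensorProduct k R S →ₗ[k] R := (TensorProduct.rid k R).toLinearMap ∘ₗ LinearMap.lTensor R θ
  have hret : ∀ r : R, ret (r ⊗ₜ[k] (1 : S)) = r := by
    intro r
    simp [ret, hθ]
  -- the map ι : R_{a-b} → P
  let inc : 𝒜 (a - b) →ₗ[k] TensorProduct k R S := (TensorProduct.mk k R S).flip 1 ∘ₗ (𝒜 (a - b)).subtype
  have hinc : ∀ r : 𝒜 (a - b), inc r = (r : R) ⊗ₜ[k] (1 : S) := fun r => rfl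
  have hincpiece : ∀ r : 𝒜 (a - b), inc r ∈ GrSeg.segrePiece k ℳ' 𝒩' (-b) := by
    intro r
    apply Submodule.subset_span
    refine ⟨r, ?_, 1, ?_, rfl⟩
    · change (r : R) ∈ 𝒜 (-b + a)
      rw [show -b + a = a - b by ring]
      exact r.2
    · change (1 : S) ∈ ℬ (-b + b)
      rw [neg_add_cancel]
      exact SetLike.GradedOne.one_mem
  have hincrange : ∀ r : 𝒜 (a - b), inc r ∈ LinearMap.range φ := by
    intro r
    have h1 : inc r ∈ (GrSeg.segrePiece k ℳ' 𝒩' (-b) : Set (TensorProduct k R S)) := hincpiece r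
    rw [← hP.image_piece (-b)] at h1
    obtain ⟨p, _, hp⟩ := h1
    exact ⟨p, hp⟩
  let φe : P ≃ₗ[k] LinearMap.range φ := LinearEquiv.ofInjective φ hP.injective
  let ι : 𝒜 (a - b) →ₗ[k] P := φe.symm.toLinearMap ∘ₗ (inc.codRestrict (LinearMap.range φ) hincrange)
  have hι : ∀ r : 𝒜 (a - b), φ (ι r) = (r : R) ⊗ₜ[k] (1 : S) := by
    intro r
    have h1 : φe (ι r) = inc.codRestrict (LinearMap.range φ) hincrange r := by
      simp only [ι, LinearMap.comp_apply, LinearEquiv.coe_coe, LinearEquiv.apply_symm_apply]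
    have h2 := congrArg Subtype.val h1
    simpa [φe, hinc] using h2
  have hιQ : ∀ r : 𝒜 (a - b), ι r ∈ 𝒬 (-b) := by
    intro r
    apply hmemQ
    rw [hι, ← hinc]
    exact hincpiece r
  let Θ : 𝒜 (a - b) →ₗ[k] (P ⧸ Nn) := (Nn.mkQ.restrictScalars k) ∘ₗ ι
  have hΘ : ∀ r, Θ r = Submodule.Quotient.mk (ι r) := fun r => rfl
  -- injectivity
  have hΘinj : Function.Injective Θ := by
    rw [← LinearMap.ker_eq_bot, LinearMap.ker_eq_bot']
    intro r hr
    rw [hΘ, Submodule.Quotient.mk_eq_zero] at hr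
    have h1 := hNcomp _ hr
    rw [decompose_of_mem_same 𝒬 (hιQ r)] at h1
    have h2 := hι r
    rw [h1, map_zero] at h2
    have h3 := hret r
    rw [← h2, map_zero] at h3
    exact Subtype.ext h3.symm
  -- (F4) high degree pieces lie in mT • P
  let Nφ : Submodule k (TensorProduct k R S) := (Nn.restrictScalars k).map φ
  have hhigh : ∀ n : ℤ, -b < n → ∀ p ∈ 𝒬 n, p ∈ Nn := by
    intro n hn p hp
    have hpiece : GrSeg.segrePiece k ℳ' 𝒩' n ≤ Nφ := by
      apply Submodule.span_le.mpr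
      rintro v ⟨x, hx, y, hy, rfl⟩
      have hx' : x ∈ 𝒜 (n + a) := hx
      have hy' : y ∈ ℬ (n + b) := hy
      obtain ⟨i, hi⟩ := Int.eq_ofNat_of_zero_le (by omega : (0 : ℤ) ≤ n + b)
      have hx'' : x ∈ 𝒜 ((i : ℤ) + (a - b)) := by
        rw [← hi, show n + b + (a - b) = n + a by ring]
        exact hx'
      have hcl := mem_closure_mul 𝒜 hstdR i (by omega : (0 : ℤ) ≤ a - b) hx''
      let K : AddSubgroup R := (Nφ.comap ((TensorProduct.mk k R S).flip y)).toAddSubgroup
      have hK : AddSubgroup.closure {z : R | ∃ a' ∈ 𝒜 (i : ℤ), ∃ b' ∈ 𝒜 (a - b), z = a' * b'} ≤ K := by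
        refine (AddSubgroup.closure_le _).mpr ?_
        rintro z ⟨a', ha', b', hb', rfl⟩
        change (a' * b') ⊗ₜ[k] y ∈ Nφ
        -- a' ⊗ y = ψ t with t of positive degree
        have h1 : a' ⊗ₜ[k] y ∈ GrSeg.segrePiece k 𝒜 ℬ (n + b) :=
          Submodule.subset_span ⟨a', by rw [hi]; exact ha', y, hy', rfl⟩
        rw [← hT.2 (n + b)] at h1
        obtain ⟨t, ht, hψt⟩ := h1
        have hψt' : ψ t = a' ⊗ₜ[k] y := hψt
        have htm : t ∈ mT.toIdeal := by
          rw [hmT]
          apply Ideal.subset_span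
          simp only [Set.mem_iUnion, Set.mem_Ioi, SetLike.mem_coe]
          exact ⟨n + b, by omega, ht⟩
        refine ⟨t • ι ⟨b', hb'⟩, Submodule.smul_mem_smul htm Submodule.mem_top, ?_⟩
        rw [hφsmul, hψt', hι, Algebra.TensorProduct.tmul_mul_tmul, mul_one]
      exact hK hcl
    obtain ⟨p', hp'N, hpp'⟩ := hpiece (hφQ n p hp)
    rw [← hP.injective hpp']
    exact hp'N
  -- (F5) the lowest piece
  have hlowest : ∀ p ∈ 𝒬 (-b), ∃ r : 𝒜 (a - b), ι r = p := by
    intro p hp
    have hpiece : GrSeg.segrePiece k ℳ' 𝒩' (-b) ≤ LinearMap.range inc := by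
      apply Submodule.span_le.mpr
      rintro v ⟨x, hx, y, hy, rfl⟩
      have hx' : x ∈ 𝒜 (-b + a) := hx
      rw [show -b + a = a - b by ring] at hx'
      have hy' : y ∈ ℬ (-b + b) := hy
      rw [neg_add_cancel, h0S] at hy'
      obtain ⟨c, rfl⟩ := Submodule.mem_span_singleton.mp hy'
      refine ⟨⟨c • x, (𝒜 (a - b)).smul_mem c hx'⟩, ?_⟩
      rw [hinc, TensorProduct.smul_tmul]
    obtain ⟨r, hr⟩ := hpiece (hφQ (-b) p hp)
    refine ⟨r, ?_⟩
    apply hP.injective
    rw [hι, ← hinc, hr]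
  -- surjectivity
  have hΘsurj : Function.Surjective Θ := by
    intro x
    obtain ⟨p, rfl⟩ := Submodule.Quotient.mk_surjective Nn x
    obtain ⟨r, hr⟩ := hlowest _ (SetLike.coe_mem ((decompose 𝒬 p) (-b)))
    refine ⟨r, ?_⟩
    rw [hΘ, hr, Submodule.Quotient.eq]
    -- the difference lies in Nn
    have hdiff : ∀ q : P, ((decompose 𝒬 q) (-b) : P) - q ∈ Nn := by
      intro q
      induction q using DirectSum.Decomposition.inductionOn 𝒬 with
      | zero => simp
      | @homogeneous n q =>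
        by_cases hn : n = -b
        · subst hn
          rw [decompose_of_mem_same 𝒬 q.2, sub_self]
          exact Nn.zero_mem
        · rw [decompose_of_mem_ne 𝒬 q.2 hn, zero_sub]
          apply Nn.neg_mem
          by_cases hlt : n < -b
          · rw [hlow n hlt q.1 q.2]
            exact Nn.zero_mem
          · exact hhigh n (by omega) q.1 q.2
      | add q q' hq hq' =>
        rw [decompose_add, DirectSum.add_apply, AddMemClass.coe_add]
        have : ((decompose 𝒬 q) (-b) : P) + ((decompose 𝒬 q') (-b) : P) - (q + q') =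
            (((decompose 𝒬 q) (-b) : P) - q) + (((decompose 𝒬 q') (-b) : P) - q') := by abel
        rw [this]
        exact Nn.add_mem hq hq'
    exact hdiff p
  exact (LinearEquiv.ofBijective Θ ⟨hΘinj, hΘsurj⟩).finrank_eq.symm

end Groth.Agent.S19750
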