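import Groth.Statements.S19751
import Groth.Agent.Lib.Helper99.GrDual2

set_option autoImplicit false
universe u
open GrDual

namespace Groth.Agent.S19751

/-- Let R be a graded ring defined over a field k with m = R_+, let F and M be finitely generated graded
R-modules and f : F → M a surjective homomorphism of graded R-modules, with dual f^* : M^* → F^* on
graded k-duals. Then f is minimal, that is Ker f ⊆ m F, if and only if f^* is essential: an
injective homomorphism of graded modules such that every nonzero graded submodule of F^* meets its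
image. Here a graded ring defined over k is a commutative k-algebra of finite type, graded in
nonnegative degrees by k-subspaces with degree-zero part k·1, and R_+ is the ideal spanned by the
R_n with n > 0; the graded k-dual M^* = ⊕_n Hom_k(M_{−n}, k) of a graded R-module M (with r ∈ R
acting by (r f)(x) = f(r x)) is presented abstractly as a graded R-module D with a k-bilinear
pairing β : D × M → k compatible with the R-actions, under which D_n pairs to zero with M_m for m ≠
−n and is identified with the full dual space of M_{−n}; f^* is presented as the R-linear map g :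
M^* → F^* with β_F(g d, x) = β_M(d, f x). -/
theorem result (k : Type u) [Field k] (R : Type u) [CommRing R] [Algebra k R] (𝒜 : ℤ → Submodule k R) [GradedAlgebra 𝒜] (hposR : ∀ n : ℤ, n < 0 → 𝒜 n = ⊥) (h0R : 𝒜 0 = Submodule.span k {(1 : R)}) [Algebra.FiniteType k R] (mR : HomogeneousIdeal 𝒜) (hmR : mR.toIdeal = Ideal.span (⋃ n ∈ Set.Ioi (0 : ℤ), (𝒜 n : Set R))) (F : Type u) [AddCommGroup F] [Module R F] [Module k F] [IsScalarTower k R F] (ℱ : ℤ → AddSubgroup F) [DirectSum.Decomposition ℱ] [SetLike.GradedSMul 𝒜 ℱ] [Module.Finite R F] (M : Type u) [AddCommGroup M] [Module R M] [Module k M] [IsScalarTower k R M] (ℳ : ℤ → AddSubgroup M) [DirectSum.Decomposition ℳ] [SetLike.GradedSMul 𝒜 ℳ] [Module.Finite R M] (f : F →ₗ[R] M) (hf : Function.Surjective f) (hfgr : GrLC.IsGrHom ℱ ℳ f) (DM : Type u) [AddCommGroup DM] [Module R DM] [Module k DM] [IsScalarTower k R DM] (𝒟M : ℤ → AddSubgroup DM) [DirectSum.Decomposition 𝒟M] [SetLike.GradedSMul 𝒜 𝒟M] (βM : DM →ₗ[k] M →ₗ[k] k) (hDM : GrSeg.IsGDual R ℳ 𝒟M βM) (DF : Type u) [AddCommGroup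 DF] [Module R DF] [Module k DF] [IsScalarTower k R DF] (𝒟F : ℤ → AddSubgroup DF) [DirectSum.Decomposition 𝒟F] [SetLike.GradedSMul 𝒜 𝒟F] (βF : DF →ₗ[k] F →ₗ[k] k) (hDF : GrSeg.IsGDual R ℱ 𝒟F βF) (g : DM →ₗ[R] DF) (hg : GrSeg.IsGDualMap βM βF f g) : LinearMap.ker f ≤ mR.toIdeal • (⊤ : Submodule R F) ↔ GrLC.IsStarEss 𝒟M 𝒟F g := by
  open Groth.Agent.Lib.Helper99 in
  open DirectSum in
  classical
  have hginj : Function.Injective g := gdualMap_injective hDM hg hf
  have hggr : GrLC.IsGrHom 𝒟M 𝒟F g := gdualMap_isGrHom hDF hDM hg hfgr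
  constructor
  · intro hker
    refine ⟨hginj, hggr, ?_⟩
    intro P hP hPne
    -- a nonzero homogeneous element of P
    obtain ⟨p, hpP, hp0⟩ := Submodule.exists_mem_ne_zero_of_ne_bot hPne
    have hex : ∃ n, ((decompose 𝒟F p) n : DF) ≠ 0 := by
      by_contra hall
      push Not at hall
      apply hp0
      have h2 : decompose 𝒟F p = 0 := by
        ext n
        rw [hall n]; rfl
      exact (decompose 𝒟F).injective (h2.trans (decompose_zero 𝒟F).symm)
    obtain ⟨n₀, hn₀⟩ := hex
    -- vanishing of DF in high degrees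
    obtain ⟨b, hb⟩ := exists_piece_eq_zero_of_lt 𝒜 ℱ hposR
    have hDFhigh : ∀ e : ℤ, -b < e → ∀ d ∈ 𝒟F e, d = 0 := by
      intro e he d hd
      apply hDF.eq_zero e d hd
      intro x hx
      rw [hb (-e) (by omega) x hx, map_zero]
    -- maximal degree
    let Q : ℤ → Prop := fun e => ∃ d ∈ P, d ∈ 𝒟F e ∧ d ≠ 0
    have hQb : ∃ b' : ℤ, ∀ z, Q z → z ≤ b' := by
      refine ⟨-b, fun z hz => ?_⟩
      obtain ⟨d, _, hdz, hd0⟩ := hz
      by_contra hlt
      exact hd0 (hDFhigh z (by omega) d hdz)
    have hQi : ∃ z, Q z := ⟨n₀, _, hP n₀ hpP, SetLike.coe_mem _, hn₀⟩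
    obtain ⟨e₀, ⟨d', hd'P, hd'e, hd'0⟩, hmax⟩ := Int.exists_greatest_of_bdd hQb hQi
    -- m kills d'
    have hkill : ∀ r ∈ mR.toIdeal, r • d' = 0 := by
      intro r hr
      rw [hmR] at hr
      induction hr using Submodule.span_induction with
      | mem r hr =>
        simp only [Set.mem_iUnion, Set.mem_Ioi, SetLike.mem_coe] at hr
        obtain ⟨j, hj, hrj⟩ := hr
        by_contra hne
        have hmem : r • d' ∈ 𝒟F (j + e₀) := SetLike.GradedSMul.smul_mem hrj hd'e
        have := hmax (j + e₀) ⟨r • d', P.smul_mem r hd'P, hmem, hne⟩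
        omega
      | zero => exact zero_smul _ _
      | add a c _ _ ha hc => rw [add_smul, ha, hc, add_zero]
      | smul a c _ hc => rw [smul_eq_mul, mul_smul, hc, smul_zero]
    have hvan : ∀ x ∈ mR.toIdeal • (⊤ : Submodule R F), βF d' x = 0 := by
      intro x hx
      refine Submodule.smul_induction_on hx (fun r hr y _ => ?_) (fun a c ha hc => ?_)
      · rw [← hDF.map_smul, hkill r hr, map_zero, LinearMap.zero_apply]
      · rw [map_add, ha, hc, add_zero]
    have hvanker : ∀ x, f x = 0 → βF d' x = 0 := fun x hx => hvan x (hker (LinearMap.mem_ker.mpr hx))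
    -- the functional on M
    have hfk : Function.Surjective (f.restrictScalars k) := hf
    obtain ⟨s, hs⟩ := (f.restrictScalars k).exists_rightInverse_of_surjective
      (LinearMap.range_eq_top.mpr hfk)
    have hs' : ∀ y, f (s y) = y := fun y => LinearMap.congr_fun hs y
    let ψ : M →ₗ[k] k := (βF d') ∘ₗ s
    have hψ : ∀ x, ψ (f x) = βF d' x := by
      intro x
      have h1 : f (s (f x) - x) = 0 := by rw [map_sub, hs', sub_self]
      have h2 := hvanker _ h1
      rw [map_sub, sub_eq_zero] at h2
      exact h2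
    obtain ⟨e, he, heψ⟩ := hDM.exists_eq e₀ ψ
    have hge : g e = d' := by
      rw [← sub_eq_zero]
      apply hDF.eq_zero e₀ _ (sub_mem (hggr e₀ e he) hd'e)
      intro x hx
      rw [map_sub, LinearMap.sub_apply, hg e x, heψ (f x) (hfgr (-e₀) x hx), hψ, sub_self]
    intro hbot
    have hmem : d' ∈ P ⊓ LinearMap.range g := ⟨hd'P, ⟨e, hge⟩⟩
    rw [hbot] at hmem
    exact hd'0 ((Submodule.mem_bot R).mp hmem)
  · intro hess
    intro x hx
    by_contra hxm
    -- a homogeneous component outside mF
    have hex : ∃ n, ((decompose ℱ x) n : F) ∉ mR.toIdeal • (⊤ : Submodule R F) := by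
      by_contra hall
      push Not at hall
      apply hxm
      rw [← DirectSum.sum_support_decompose ℱ x]
      exact Submodule.sum_mem _ fun i _ => hall i
    obtain ⟨n, hzn⟩ := hex
    set z : F := ((decompose ℱ x) n : F) with hz
    have hzmem : z ∈ ℱ n := SetLike.coe_mem _
    have hzker : f z = 0 := by
      rw [hz, ← coe_decompose_map ℱ ℳ f hfgr x n, LinearMap.mem_ker.mp hx, decompose_zero]
      rfl
    -- a functional vanishing on mF but not at z
    have hzW : z ∉ (mR.toIdeal • (⊤ : Submodule R F)).restrictScalars k := hzn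
    obtain ⟨φ, hφz, hφW⟩ := Submodule.exists_dual_map_eq_bot_of_notMem hzW inferInstance
    have hφ0 : ∀ w ∈ mR.toIdeal • (⊤ : Submodule R F), φ w = 0 := by
      intro w hw
      have : φ w ∈ Submodule.map φ ((mR.toIdeal • (⊤ : Submodule R F)).restrictScalars k) :=
        ⟨w, hw, rfl⟩
      rw [hφW] at this
      exact (Submodule.mem_bot k).mp this
    obtain ⟨d, hd, hdφ⟩ := hDF.exists_eq (-n) φ
    have hdφ' : ∀ y ∈ ℱ n, βF d y = φ y := fun y hy => hdφ y (by rwa [neg_neg])
    have hdz : βF d z ≠ 0 := by rw [hdφ' z hzmem]; exact hφz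
    -- m kills d
    have hkill : ∀ r ∈ mR.toIdeal, r • d = 0 := by
      intro r hr
      rw [hmR] at hr
      induction hr using Submodule.span_induction with
      | mem r hr =>
        simp only [Set.mem_iUnion, Set.mem_Ioi, SetLike.mem_coe] at hr
        obtain ⟨j, hj, hrj⟩ := hr
        apply gdual_sep_left hDF
        intro y
        rw [hDF.map_smul, gdual_pair_proj hDF hd (r • y), neg_neg,
          coe_decompose_smul_of_left_mem 𝒜 ℱ hrj y n]
        have hmem : r • ((decompose ℱ y) (n - j) : F) ∈ ℱ (j + (n - j)) :=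
          SetLike.GradedSMul.smul_mem (A := 𝒜) (B := ℱ) hrj (SetLike.coe_mem _)
        rw [show j + (n - j) = n by ring] at hmem
        rw [hdφ' _ hmem]
        apply hφ0
        apply Submodule.smul_mem_smul _ Submodule.mem_top
        rw [hmR]
        apply Ideal.subset_span
        simp only [Set.mem_iUnion, Set.mem_Ioi, SetLike.mem_coe]
        exact ⟨j, hj, hrj⟩
      | zero => exact zero_smul _ _
      | add a c _ _ ha hc => rw [add_smul, ha, hc, add_zero]
      | smul a c _ hc => rw [smul_eq_mul, mul_smul, hc, smul_zero]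
    -- every multiple of d is a scalar multiple
    have hscal : ∀ r : R, ∃ c : k, r • d = c • d := by
      intro r
      obtain ⟨c, hc⟩ := exists_sub_mem_irrelevant 𝒜 hposR h0R r
      refine ⟨c, ?_⟩
      rw [← hmR] at hc
      have := hkill _ hc
      rw [sub_smul, sub_eq_zero, algebraMap_smul] at this
      exact this
    let P : Submodule R DF := Submodule.span R {d}
    have hPhom : P.IsHomogeneous 𝒟F := by
      intro i p hp
      obtain ⟨r, rfl⟩ := Submodule.mem_span_singleton.mp hp
      obtain ⟨c, hc⟩ := hscal r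
      have hmem : r • d ∈ 𝒟F (-n) := by rw [hc]; exact smul_mem_piece 𝒜 𝒟F c hd
      by_cases hi : -n = i
      · subst hi
        rw [decompose_of_mem_same 𝒟F hmem]
        exact hp
      · rw [decompose_of_mem_ne 𝒟F hmem hi]
        exact P.zero_mem
    have hd0 : d ≠ 0 := by
      intro h
      apply hdz
      rw [h, map_zero, LinearMap.zero_apply]
    have hPne : P ≠ ⊥ := by
      intro h
      have : d ∈ P := Submodule.mem_span_singleton_self d
      rw [h] at this
      exact hd0 ((Submodule.mem_bot R).mp this)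
    have hmeet := hess.essential P hPhom hPne
    obtain ⟨w, hw, hw0⟩ := Submodule.exists_mem_ne_zero_of_ne_bot hmeet
    obtain ⟨hwP, ⟨e, hew⟩⟩ := hw
    obtain ⟨r, hr⟩ := Submodule.mem_span_singleton.mp hwP
    obtain ⟨c, hc⟩ := hscal r
    have hc0 : c ≠ 0 := by
      intro h
      apply hw0
      rw [← hr, hc, h, zero_smul]
    have h1 : βF w z = c * βF d z := by
      rw [← hr, hc, map_smul, LinearMap.smul_apply, smul_eq_mul]
    have h2 : βF w z = 0 := by
      rw [← hew, hg e z, hzker, map_zero]
    rw [h2] at h1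
    exact (mul_ne_zero hc0 hdz) h1.symm

end Groth.Agent.S19751
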