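import Groth.Statements.S19752
import Groth.Agent.Lib.Helper99.GrDual3

set_option autoImplicit false
universe u
open GrDual

namespace Groth.Agent.S19752

/-- Let R = ⊕_{n ≥ 0} R_n be a Noetherian graded ring with R_0 = k a field, m = R_+ and k = R/m. Then
the graded k-dual R^* = ⊕_n Hom_k(R_{−n}, k) is the injective envelope of R/m in the category of
graded R-modules: for every injective homomorphism of graded R-modules e : R/m → R^*, the module R^*
is an injective object of the graded category and every nonzero graded submodule of R^* meets the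
image of e. Here a graded ring defined over k is a commutative k-algebra of finite type, graded in
nonnegative degrees by k-subspaces with degree-zero part k·1, and R_+ is the ideal spanned by the
R_n with n > 0 (a Noetherian such ring is the same as one of finite type over k); the graded k-dual
M^* = ⊕_n Hom_k(M_{−n}, k) of a graded R-module M (with r ∈ R acting by (r f)(x) = f(r x)) is
presented abstractly as a graded R-module D with a k-bilinear pairing β : D × M → k compatible with
the R-actions, under which D_n pairs to zero with M_m for m ≠ −n and is identified with the full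
dual space of M_{−n}. -/
theorem result (k : Type u) [Field k] (R : Type u) [CommRing R] [Algebra k R] (𝒜 : ℤ → Submodule k R) [GradedAlgebra 𝒜] (hposR : ∀ n : ℤ, n < 0 → 𝒜 n = ⊥) (h0R : 𝒜 0 = Submodule.span k {(1 : R)}) [Algebra.FiniteType k R] (mR : HomogeneousIdeal 𝒜) (hmR : mR.toIdeal = Ideal.span (⋃ n ∈ Set.Ioi (0 : ℤ), (𝒜 n : Set R))) (D : Type u) [AddCommGroup D] [Module R D] [Module k D] [IsScalarTower k R D] (𝒟 : ℤ → AddSubgroup D) [DirectSum.Decomposition 𝒟] [SetLike.GradedSMul 𝒜 𝒟] (β : D →ₗ[k] R →ₗ[k] k) (hD : GrSeg.IsGDual R 𝒜 𝒟 β) (e : (R ⧸ mR.toIdeal) →ₗ[R] D) (he : Function.Injective e) (hegr : GrLC.IsGrHom (GrLC.quotGr 𝒜 mR) 𝒟 e) : GrLC.IsStarInjHull 𝒜 (GrLC.quotGr 𝒜 mR) 𝒟 e := by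
  open Groth.Agent.Lib.Helper99 in
  open DirectSum in
  classical
  refine { injective := he, grHom := hegr, essential := ?_, starInj := gdual_self_isStarInj 𝒜 hD }
  intro P hP hPne
  obtain ⟨p, hpP, hp0⟩ := Submodule.exists_mem_ne_zero_of_ne_bot hPne
  have hex : ∃ n, ((decompose 𝒟 p) n : D) ≠ 0 := by
    by_contra hall
    push Not at hall
    apply hp0
    have h2 : decompose 𝒟 p = 0 := by
      ext n
      rw [hall n]; rfl
    exact (decompose 𝒟).injective (h2.trans (decompose_zero 𝒟).symm)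
  obtain ⟨n₀, hn₀⟩ := hex
  -- D vanishes in positive degrees
  have hDhigh : ∀ n : ℤ, 0 < n → ∀ d ∈ 𝒟 n, d = 0 := by
    intro n hn d hd
    apply hD.eq_zero n d hd
    intro x hx
    rw [hposR (-n) (by omega)] at hx
    rw [(Submodule.mem_bot k).mp hx, map_zero]
  let Q : ℤ → Prop := fun n => ∃ d ∈ P, d ∈ 𝒟 n ∧ d ≠ 0
  have hQb : ∃ b' : ℤ, ∀ z, Q z → z ≤ b' := by
    refine ⟨0, fun z hz => ?_⟩
    obtain ⟨d, _, hdz, hd0⟩ := hz
    by_contra hlt
    exact hd0 (hDhigh z (by omega) d hdz)
  have hQi : ∃ z, Q z := ⟨n₀, _, hP n₀ hpP, SetLike.coe_mem _, hn₀⟩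
  obtain ⟨e₀, ⟨d', hd'P, hd'e, hd'0⟩, hmax⟩ := Int.exists_greatest_of_bdd hQb hQi
  have he₀ : e₀ ≤ 0 := by
    by_contra hlt
    exact hd'0 (hDhigh e₀ (by omega) d' hd'e)
  -- m kills d'
  have hkill : ∀ r ∈ mR.toIdeal, r • d' = 0 := by
    intro r hr
    rw [hmR] at hr
    induction hr using Submodule.span_induction with
    | mem r hr =>
      simp only [Set.mem_iUnion, Set.mem_Ioi, SetLike.mem_coe] at hr
      obtain ⟨j, hj, hrj⟩ := hr
      by_contra hne
      have hmem : r • d' ∈ 𝒟 (j + e₀) := SetLike.GradedSMul.smul_mem (A := 𝒜) (B := 𝒟) hrj hd'e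
      have := hmax (j + e₀) ⟨r • d', P.smul_mem r hd'P, hmem, hne⟩
      omega
    | zero => exact zero_smul _ _
    | add a c _ _ ha hc => rw [add_smul, ha, hc, add_zero]
    | smul a c _ hc => rw [smul_eq_mul, mul_smul, hc, smul_zero]
  -- e₀ = 0
  have he₀0 : e₀ = 0 := by
    by_contra hne
    apply hd'0
    apply hD.eq_zero e₀ d' hd'e
    intro x hx
    have hxm : x ∈ mR.toIdeal := by
      rw [hmR]
      apply Ideal.subset_span
      simp only [Set.mem_iUnion, Set.mem_Ioi, SetLike.mem_coe]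
      exact ⟨-e₀, by omega, hx⟩
    have h1 : β d' x = β (x • d') 1 := by rw [hD.map_smul, smul_eq_mul, mul_one]
    rw [h1, hkill x hxm, map_zero, LinearMap.zero_apply]
  subst he₀0
  -- R is nontrivial and 1 ∉ m
  have h1m : (1 : R) ∉ mR.toIdeal := by
    intro h1
    apply hd'0
    rw [← one_smul R d']
    exact hkill 1 h1
  let u : D := e (Ideal.Quotient.mk mR.toIdeal 1)
  have hu0 : u ≠ 0 := by
    intro h
    have h2 : Ideal.Quotient.mk mR.toIdeal (1 : R) = 0 := he (h.trans (map_zero e).symm)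
    exact h1m (Ideal.Quotient.eq_zero_iff_mem.mp h2)
  have hu : u ∈ 𝒟 0 := by
    apply hegr 0
    have h1 : (1 : R) ∈ 𝒜 0 := SetLike.GradedOne.one_mem
    exact ⟨1, h1, rfl⟩
  -- elements of 𝒟 0 are determined by their value at 1
  have hdet : ∀ w ∈ 𝒟 0, β w 1 = 0 → w = 0 := by
    intro w hw hw1
    apply hD.eq_zero 0 w hw
    intro x hx
    rw [neg_zero, h0R] at hx
    obtain ⟨c, rfl⟩ := Submodule.mem_span_singleton.mp hx
    rw [map_smul, hw1, smul_zero]
  have hu1 : β u 1 ≠ 0 := fun h => hu0 (hdet u hu h)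
  let c : k := β d' 1 / β u 1
  have hd'u : d' = c • u := by
    rw [← sub_eq_zero]
    apply hdet _ (sub_mem hd'e (smul_mem_piece 𝒜 𝒟 c hu))
    rw [map_sub, LinearMap.sub_apply, map_smul, LinearMap.smul_apply, smul_eq_mul]
    simp only [c]
    field_simp
    ring
  intro hbot
  have hmem : d' ∈ P ⊓ LinearMap.range e := by
    refine ⟨hd'P, ⟨(algebraMap k R c) • Ideal.Quotient.mk mR.toIdeal 1, ?_⟩⟩
    rw [map_smul, algebraMap_smul, hd'u]
  rw [hbot] at hmem
  exact hd'0 ((Submodule.mem_bot R).mp hmem)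

end Groth.Agent.S19752
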