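import Groth.Statements.S19799
import Mathlib

set_option autoImplicit false
universe u v w
open scoped TensorProduct
open CAlg

namespace Groth.Agent.S19799

/-- A reduced finite-dimensional commutative algebra over an algebraically closed field
is a finite product of copies of the field. -/
noncomputable def equivPiOfReduced (k : Type u) [Field k] [IsAlgClosed k]
    (C : Type v) [CommRing C] [Algebra k C] [Module.Finite k C] [IsReduced C] :
    C ≃ₐ[k] (MaximalSpectrum C → k) :=
  haveI : IsArtinianRing C := isArtinian_of_tower k inferInstance
  letI _ (m : MaximalSpectrum C) : Field (C ⧸ m.asIdeal) :=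
    Ideal.Quotient.field m.asIdeal
  ((IsArtinianRing.equivPi C).restrictScalars k).trans <|
    (AlgEquiv.piCongrRight fun m ↦ (AlgEquiv.ofBijective (Algebra.ofId k (C ⧸ m.asIdeal))
      (IsAlgClosed.algebraMap_bijective_of_isIntegral)).symm)

theorem isReduced_tensor_of_reduced (k : Type u) [Field k] [IsAlgClosed k]
    (C : Type v) [CommRing C] [Algebra k C] [Module.Finite k C] [IsReduced C]
    (D : Type w) [CommRing D] [Algebra k D] [IsReduced D] : IsReduced (C ⊗[k] D) := by
  classical
  have e1 : C ⊗[k] D ≃ₐ[k] D ⊗[k] (MaximalSpectrum C → k) :=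
    (Algebra.TensorProduct.comm k C D).trans
      (Algebra.TensorProduct.congr AlgEquiv.refl (equivPiOfReduced k C))
  have : IsArtinianRing C := isArtinian_of_tower k inferInstance
  let _ : Fintype (MaximalSpectrum C) := Fintype.ofFinite _
  have e2 : D ⊗[k] (MaximalSpectrum C → k) ≃ₐ[k] (MaximalSpectrum C → D) :=
    Algebra.TensorProduct.piScalarRight k k D (MaximalSpectrum C)
  have e := e1.trans e2
  exact isReduced_of_injective e.toRingHom e.injective

/-- Let k be an algebraically closed field and A, B commutative k-algebras, each finite-dimensional as a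
k-vector space. Then reduction commutes with tensor products: the kernel of the canonical surjection
A ⊗_k B ⟶ (A/nilradical A) ⊗_k (B/nilradical B) equals the nilradical of A ⊗_k B, so that this
surjection induces an isomorphism (A ⊗_k B)_red ≅ A_red ⊗_k B_red and in particular A_red ⊗_k B_red
is reduced. -/
theorem result (k : Type u) [Field k]
    [IsAlgClosed k] (A : Type v) [CommRing A] [Algebra k A] [Module.Finite k A]
    (B : Type w) [CommRing B] [Algebra k B] [Module.Finite k B] :
    RingHom.ker (Algebra.TensorProduct.map (Ideal.Quotient.mkₐ k (nilradical A))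
      (Ideal.Quotient.mkₐ k (nilradical B))).toRingHom = nilradical (A ⊗[k] B) := by
  have hA : IsReduced (A ⧸ nilradical A) :=
    (Ideal.isRadical_iff_quotient_reduced _).mp (Ideal.radical_isRadical _)
  have hB : IsReduced (B ⧸ nilradical B) :=
    (Ideal.isRadical_iff_quotient_reduced _).mp (Ideal.radical_isRadical _)
  have hred : IsReduced ((A ⧸ nilradical A) ⊗[k] (B ⧸ nilradical B)) :=
    isReduced_tensor_of_reduced k _ _
  apply le_antisymm
  · have h := Algebra.TensorProduct.map_ker (Ideal.Quotient.mkₐ k (nilradical A))
      (Ideal.Quotient.mkₐ k (nilradical B)) (Ideal.Quotient.mkₐ_surjective _ _)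
      (Ideal.Quotient.mkₐ_surjective _ _)
    change RingHom.ker (Algebra.TensorProduct.map (Ideal.Quotient.mkₐ k (nilradical A))
      (Ideal.Quotient.mkₐ k (nilradical B))) ≤ _
    rw [h]
    refine sup_le ?_ ?_
    · rw [Ideal.map_le_iff_le_comap]
      intro a ha
      have ha : a ∈ nilradical A := by
        have := (RingHom.mem_ker (f := Ideal.Quotient.mkₐ k (nilradical A))).mp ha
        exact Ideal.Quotient.eq_zero_iff_mem.mp this
      rw [Ideal.mem_comap, mem_nilradical]
      exact (mem_nilradical.mp ha).map _
    · rw [Ideal.map_le_iff_le_comap]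
      intro b hb
      have hb : b ∈ nilradical B := by
        have := (RingHom.mem_ker (f := Ideal.Quotient.mkₐ k (nilradical B))).mp hb
        exact Ideal.Quotient.eq_zero_iff_mem.mp this
      rw [Ideal.mem_comap, mem_nilradical]
      exact (mem_nilradical.mp hb).map _
  · intro x hx
    rw [RingHom.mem_ker]
    have hx' : IsNilpotent x := mem_nilradical.mp hx
    exact (hx'.map _).eq_zero

end Groth.Agent.S19799
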