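import Groth.Statements.S19804
import Mathlib

set_option autoImplicit false
universe u v w
open scoped TensorProduct
open Brauer

namespace Groth.Agent.S19804

/-- Key lemma: for a finitely generated projective module `A` over a ring with connected spectrum,
an idempotent endomorphism that dies after a nonzero base change is zero. -/
theorem idem_eq_zero_of_baseChange {R : Type u} [CommRing R]
    [ConnectedSpace (PrimeSpectrum R)] {A : Type v} [AddCommGroup A] [Module R A]
    [Module.Finite R A] [Module.Projective R A]
    (p : A →ₗ[R] A) (hp : p ∘ₗ p = p) (R' : Type w) [CommRing R'] [Nontrivial R'] [Algebra R R']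
    (h0 : LinearMap.baseChange R' p = 0) : p = 0 := by
  -- the range of p
  let N : Submodule R A := LinearMap.range p
  let ι : N →ₗ[R] A := N.subtype
  let π : A →ₗ[R] N := p.rangeRestrict
  have hιπ : ι ∘ₗ π = p := by
    ext a; rfl
  have hπι : π ∘ₗ ι = LinearMap.id := by
    ext ⟨n, a, rfl⟩
    change p (p a) = p a
    exact LinearMap.congr_fun hp a
  have hNproj : Module.Projective R N := Module.Projective.of_split ι π hπι
  have hNfin : Module.Finite R N := Module.Finite.range p
  -- base change of N is trivial
  have hsub : Subsingleton (R' ⊗[R] N) := by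
    have h1 : (LinearMap.baseChange R' π) ∘ₗ (LinearMap.baseChange R' ι) = LinearMap.id := by
      rw [← LinearMap.baseChange_comp, hπι, LinearMap.baseChange_id]
    have h2 : (LinearMap.baseChange R' ι) ∘ₗ (LinearMap.baseChange R' π) = 0 := by
      rw [← LinearMap.baseChange_comp, hιπ, h0]
    refine ⟨fun x y => ?_⟩
    have hx : ∀ z : R' ⊗[R] N, z = 0 := by
      intro z
      have e1 : z = (LinearMap.baseChange R' π) ((LinearMap.baseChange R' ι) z) :=
        (LinearMap.congr_fun h1 z).symm
      have e2 : (LinearMap.baseChange R' ι) z =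
          (LinearMap.baseChange R' ι) ((LinearMap.baseChange R' π)
            ((LinearMap.baseChange R' ι) z)) := by rw [← e1]
      have e3 : (LinearMap.baseChange R' ι) ((LinearMap.baseChange R' π)
            ((LinearMap.baseChange R' ι) z)) = 0 :=
        LinearMap.congr_fun h2 _
      rw [e1, e2, e3, map_zero]
    rw [hx x, hx y]
  -- rank of N vanishes at one point, hence everywhere
  obtain ⟨q⟩ : Nonempty (PrimeSpectrum R') := inferInstance
  have hflat : Module.Flat R N := inferInstance
  have hfp : Module.FinitePresentation R N := Module.finitePresentation_of_projective R N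
  have hrk0 : Module.rankAtStalk N (q.comap (algebraMap R R')) = 0 := by
    rw [← Module.rankAtStalk_baseChange (M := N) q, Module.rankAtStalk_eq_zero_of_subsingleton]
    rfl
  have hconst : Module.rankAtStalk (R := R) N = 0 := by
    ext x
    rw [Pi.zero_apply, ← hrk0]
    exact (Module.isLocallyConstant_rankAtStalk (R := R) (M := N)).apply_eq_of_preconnectedSpace _ _
  have hNsub : Subsingleton N := Module.rankAtStalk_eq_zero_iff_subsingleton.mp hconst
  ext a
  have : π a = 0 := Subsingleton.elim _ _
  have h3 : ι (π a) = p a := LinearMap.congr_fun hιπ a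
  rw [← h3, this, map_zero]
  rfl

theorem idempotent_zero {R : Type u} [CommRing R]
    [ConnectedSpace (PrimeSpectrum R)] {A : Type v} [Ring A] [Algebra R A] [IsAzumaya R A]
    (e : A) (he : IsIdempotentElem e) (R' : Type w) [CommRing R'] [Nontrivial R'] [Algebra R R']
    (h : (1 : R') ⊗ₜ[R] e = (0 : R' ⊗[R] A)) : e = 0 := by
  have hp : (LinearMap.mulLeft R e) ∘ₗ (LinearMap.mulLeft R e) = LinearMap.mulLeft R e := by
    ext a
    simp only [LinearMap.coe_comp, Function.comp_apply, LinearMap.mulLeft_apply]
    rw [← mul_assoc, he.eq]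
  have h0 : LinearMap.baseChange R' (LinearMap.mulLeft R e) = 0 := by
    ext a
    simp only [TensorProduct.AlgebraTensorModule.curry_apply, LinearMap.restrictScalars_comp,
      TensorProduct.curry_apply, LinearMap.coe_comp, LinearMap.coe_restrictScalars,
      Function.comp_apply, LinearMap.baseChange_tmul, LinearMap.mulLeft_apply,
      LinearMap.zero_apply]
    have : (1 : R') ⊗ₜ[R] (e * a) = ((1 : R') ⊗ₜ[R] e) * ((1 : R') ⊗ₜ[R] a) := by
      rw [Algebra.TensorProduct.tmul_mul_tmul, one_mul]
    rw [this, h, zero_mul]
  have := idem_eq_zero_of_baseChange (LinearMap.mulLeft R e) hp R' h0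
  have h1 : LinearMap.mulLeft R e 1 = 0 := by rw [this]; rfl
  simpa using h1

/-- Let R be a commutative ring with Spec R connected, A an Azumaya R-algebra and e an idempotent
element of A. -/
theorem result {R : Type u} [CommRing R]
    [ConnectedSpace (PrimeSpectrum R)] {A : Type v} [Ring A] [Algebra R A] [IsAzumaya R A]
    (e : A) (he : IsIdempotentElem e) (R' : Type w) [CommRing R'] [Nontrivial R'] [Algebra R R'] :
    ((1 : R') ⊗ₜ[R] e = (0 : R' ⊗[R] A) → e = 0) ∧ ((1 : R') ⊗ₜ[R] e = (1 : R' ⊗[R] A) → e = 1) := by
  refine ⟨idempotent_zero e he R', fun h => ?_⟩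
  have h' : (1 : R') ⊗ₜ[R] (1 - e) = (0 : R' ⊗[R] A) := by
    rw [TensorProduct.tmul_sub, h, ← Algebra.TensorProduct.one_def, sub_self]
  have := idempotent_zero (1 - e) he.one_sub R' h'
  exact (sub_eq_zero.mp this).symm

end Groth.Agent.S19804
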