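import Groth.Statements.S1982
import Mathlib
import Groth.Agent.Lib.Helper9.AbhDVR
import Groth.Agent.Lib.Helper9.KADominates
import Groth.Agent.Lib.Helper9.AbhyankarCore
import Groth.Agent.Lib.Helper9.AbhGen
import Groth.Agent.Lib.Helper9.AbhTame
import Groth.Agent.Lib.Helper9.DVRExt

set_option autoImplicit false
universe u
open EtAlg

namespace Groth.Agent.S1982

open TensorProduct IsLocalRing EtRam Groth.Agent.Lib.Helper9 in
set_option maxHeartbeats 4000000 in
set_option synthInstance.maxHeartbeats 100000 in
/-- Suppose A -> B makes the discrete valuation ring B an extension of the discrete valuation ring A,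
write K ⊂ L for their fraction fields and e for the ramification index; assume the residue
characteristic of A is zero, or it is p with p not dividing e and the residue field extension of A
-> B separable (in the general sense, i.e. geometrically reduced; it need not be algebraic). Let
K₁/K be a finite extension. Then for every compositum M of L and K₁ and every valuation subring W of
M dominating B such that e divides the ramification index of A -> W ∩ K₁, the extension W ∩ K₁ -> W
is weakly unramified with separable (geometrically reduced) residue field extension. -/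
theorem result (A B K L : Type u) [CommRing A] [IsDomain A] [IsDiscreteValuationRing A]
    [CommRing B] [IsDomain B] [IsDiscreteValuationRing B] [Algebra A B] [IsLocalHom (algebraMap A B)]
    (hinj : Function.Injective (algebraMap A B))
    [Field K] [Field L] [Algebra A K] [IsFractionRing A K] [Algebra B L] [IsFractionRing B L]
    [Algebra K L] [Algebra A L] [IsScalarTower A K L] [IsScalarTower A B L]
    (htame : CharZero (IsLocalRing.ResidueField A) ∨
      ∃ p : ℕ, p.Prime ∧ CharP (IsLocalRing.ResidueField A) p ∧
        ¬ p ∣ Ideal.ramificationIdx' (IsLocalRing.maximalIdeal A) (IsLocalRing.maximalIdeal B) ∧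
        Algebra.IsGeometricallyReduced (IsLocalRing.ResidueField A) (IsLocalRing.ResidueField B))
    (K₁ : Type u) [Field K₁] [Algebra K K₁] [FiniteDimensional K K₁] :
    EtRam.ForallLocalExt B K L K₁ (fun M _ W f =>
      ∀ hA : ∀ a : A, (algebraMap K K₁) (algebraMap A K a) ∈ W.comap f,
        letI : Algebra A (W.comap f) := (RingHom.codRestrict ((algebraMap K K₁).comp (algebraMap A K)) (W.comap f) hA).toAlgebra
        letI : Algebra (W.comap f) W := (EtRam.inclOfComap W f).toAlgebra
        Ideal.ramificationIdx' (IsLocalRing.maximalIdeal A) (IsLocalRing.maximalIdeal B) ∣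
          Ideal.ramificationIdx' (IsLocalRing.maximalIdeal A) (IsLocalRing.maximalIdeal (W.comap f)) →
        EtRam.IsWeaklyUnramified (W.comap f) W ∧
          @Algebra.IsGeometricallyReduced (IsLocalRing.ResidueField (W.comap f)) (IsLocalRing.ResidueField W) _ _
            (IsLocalRing.ResidueField.map (EtRam.inclOfComap W f)).toAlgebra) := by
  classical
  letI algAK₁ : Algebra A K₁ := ((algebraMap K K₁).comp (algebraMap A K)).toAlgebra
  haveI towAKK₁ : IsScalarTower A K K₁ := IsScalarTower.of_algebraMap_eq (fun _ => rfl)
  -- consequences of tameness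
  haveI hgr : Algebra.IsGeometricallyReduced (ResidueField A) (ResidueField B) := by
    rcases htame with h0 | ⟨p, hp, hcp, hpe, hgr⟩
    · exact Groth.Agent.S2451.result.mp
        Groth.Agent.Lib.Helper81.FieldSmooth.formallySmooth_of_charZero
    · exact hgr
  have he : IsUnit ((Ideal.ramificationIdx' (maximalIdeal A) (maximalIdeal B) : ℕ) :
      ResidueField A) := by
    obtain ⟨π, hπ⟩ := IsDiscreteValuationRing.exists_irreducible A
    obtain ⟨πB, hπB⟩ := IsDiscreteValuationRing.exists_irreducible B
    obtain ⟨he0, uB, huB⟩ := TameBase.exists_eq_unit_mul_pow hinj hπ hπB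
    apply IsUnit.mk0
    rcases htame with h0 | ⟨p, hp, hcp, hpe, hgr⟩
    · exact Nat.cast_ne_zero.mpr he0
    · intro h
      exact hpe ((CharP.cast_eq_zero_iff (ResidueField A) p _).mp h)
  intro M _ _ _ _ _ _ hgenM W hW
  letI algBM : Algebra B M := ((algebraMap L M).comp (algebraMap B L)).toAlgebra
  haveI towBLM : IsScalarTower B L M := IsScalarTower.of_algebraMap_eq (fun _ => rfl)
  -- `M / L` is finite
  let ψM : L ⊗[K] K₁ →ₐ[L] M :=
    Algebra.TensorProduct.productLeftAlgHom (Algebra.ofId L M) (IsScalarTower.toAlgHom K K₁ M)
  have hψMr : ψM.range = ⊤ := by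
    rw [eq_top_iff, ← hgenM]
    apply Algebra.adjoin_le
    rintro _ ⟨k, rfl⟩
    refine ⟨(1 : L) ⊗ₜ[K] k, ?_⟩
    simp [ψM]
  have hψM : Function.Surjective ψM := (AlgHom.range_eq_top ψM).mp hψMr
  haveI hfdM : Module.Finite L M := Module.Finite.of_surjective ψM.toLinearMap hψM
  have hcomm : ∀ a : A, algebraMap K₁ M (algebraMap A K₁ a) =
      algebraMap B M (algebraMap A B a) := by
    intro a
    show algebraMap K₁ M (algebraMap K K₁ (algebraMap A K a)) =
      algebraMap L M (algebraMap B L (algebraMap A B a))
    rw [← IsScalarTower.algebraMap_apply K K₁ M, IsScalarTower.algebraMap_apply K L M,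
      ← IsScalarTower.algebraMap_apply A K L, ← IsScalarTower.algebraMap_apply A B L]
  have hW' : Dominates B (algebraMap B M) W := hW
  have hdomV : Dominates A (algebraMap A K₁) (W.comap (algebraMap K₁ M)) := by
    refine ⟨fun a => ?_, fun a ha => ?_⟩
    · show algebraMap K₁ M (algebraMap A K₁ a) ∈ W
      rw [hcomm]
      exact hW'.1 _
    · rw [AbhyankarCore.valuation_comap_lt_one_iff, hcomm]
      apply hW'.2
      rw [IsLocalRing.mem_maximalIdeal, mem_nonunits_iff] at ha ⊢
      exact fun h => ha ((isUnit_map_iff (algebraMap A B) a).mp h)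
  haveI hdvrV : IsDiscreteValuationRing (W.comap (algebraMap K₁ M)) :=
    KADominates.isDiscreteValuationRing_of_dominates_finite A K _ hdomV
  haveI hdvrW : IsDiscreteValuationRing W :=
    KADominates.isDiscreteValuationRing_of_dominates_finite B L W hW'
  intro hA
  -- algebra structures
  letI algAV : Algebra A (W.comap (algebraMap K₁ M)) :=
    (RingHom.codRestrict ((algebraMap K K₁).comp (algebraMap A K))
      (W.comap (algebraMap K₁ M)) hA).toAlgebra
  letI algBW : Algebra B W := (RingHom.codRestrict (algebraMap B M) W hW'.1).toAlgebra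
  letI algVW : Algebra (W.comap (algebraMap K₁ M)) W :=
    (inclOfComap W (algebraMap K₁ M)).toAlgebra
  letI algAW : Algebra A W := ((algebraMap B W).comp (algebraMap A B)).toAlgebra
  haveI towABW : IsScalarTower A B W := IsScalarTower.of_algebraMap_eq (fun _ => rfl)
  haveI towAVW : IsScalarTower A (W.comap (algebraMap K₁ M)) W :=
    IsScalarTower.of_algebraMap_eq (fun a => Subtype.ext (hcomm a).symm)
  haveI locAV : IsLocalHom (algebraMap A (W.comap (algebraMap K₁ M))) :=
    TameBase.isLocalHom_of_dominates _ _ hdomV
  haveI locBW : IsLocalHom (algebraMap B W) := TameBase.isLocalHom_of_dominates _ W hW'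
  haveI locVW : IsLocalHom (algebraMap (W.comap (algebraMap K₁ M)) W) :=
    isLocalHom_inclOfComap W (algebraMap K₁ M)
  have hVW : Function.Injective (algebraMap (W.comap (algebraMap K₁ M)) W) := by
    intro a b hab
    have := congrArg (fun v : W => (v : M)) hab
    exact Subtype.ext ((algebraMap K₁ M).injective this)
  haveI towAVK₁ : IsScalarTower A (W.comap (algebraMap K₁ M)) K₁ :=
    IsScalarTower.of_algebraMap_eq (fun _ => rfl)
  haveI hfinres : Module.Finite (ResidueField A) (ResidueField (W.comap (algebraMap K₁ M))) :=
    KADominates.finite_residueField A K K₁ (W.comap (algebraMap K₁ M)) Subtype.val_injective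
  have hAV : Function.Injective (algebraMap A (W.comap (algebraMap K₁ M))) := by
    intro a b hab
    have h1 := congrArg (fun v : W.comap (algebraMap K₁ M) => (v : K₁)) hab
    have h2 : algebraMap K K₁ (algebraMap A K a) = algebraMap K K₁ (algebraMap A K b) := h1
    exact IsFractionRing.injective A K ((algebraMap K K₁).injective h2)
  have hBW : Function.Injective (algebraMap B W) := by
    intro a b hab
    have h1 := congrArg (fun v : W => (v : M)) hab
    have h2 : algebraMap L M (algebraMap B L a) = algebraMap L M (algebraMap B L b) := h1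
    exact IsFractionRing.injective B L ((algebraMap L M).injective h2)
  -- generation
  have hψ : ∀ (v : W.comap (algebraMap K₁ M)) (b : B),
      ((Algebra.TensorProduct.productMap (IsScalarTower.toAlgHom A (W.comap (algebraMap K₁ M)) W)
        (IsScalarTower.toAlgHom A B W) (v ⊗ₜ[A] b) : W) : M) =
      algebraMap K₁ M (v : K₁) * algebraMap L M (algebraMap B L b) := by
    intro v b
    rw [Algebra.TensorProduct.productMap_apply_tmul]
    rfl
  have hgen : ∀ w : W, ∃ c s : (W.comap (algebraMap K₁ M)) ⊗[A] B,
      Algebra.TensorProduct.productMap (IsScalarTower.toAlgHom A (W.comap (algebraMap K₁ M)) W)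
        (IsScalarTower.toAlgHom A B W) s ≠ 0 ∧
      w * Algebra.TensorProduct.productMap
        (IsScalarTower.toAlgHom A (W.comap (algebraMap K₁ M)) W)
        (IsScalarTower.toAlgHom A B W) s =
      Algebra.TensorProduct.productMap (IsScalarTower.toAlgHom A (W.comap (algebraMap K₁ M)) W)
        (IsScalarTower.toAlgHom A B W) c := by
    intro w
    obtain ⟨n, v, b, v₀, b₀, hne, he⟩ :=
      AbhGen.generation A B K L K₁ M hgenM (W.comap (algebraMap K₁ M)) (w : M)
    refine ⟨∑ i, v i ⊗ₜ[A] b i, v₀ ⊗ₜ[A] b₀, ?_, ?_⟩
    · intro h0
      apply hne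
      rw [← hψ, h0]
      rfl
    · apply Subtype.ext
      rw [MulMemClass.coe_mul, hψ, he, map_sum]
      rw [AddSubmonoidClass.coe_finset_sum]
      apply Finset.sum_congr rfl
      intro i _
      exact (hψ (v i) (b i)).symm
  intro hdiv
  obtain ⟨h1, h2⟩ := AbhTame.tame A B
    (W.comap (algebraMap K₁ M)) W hinj hAV hBW hVW he hdiv hgen
  refine ⟨h1, ?_⟩
  have heq : (IsLocalRing.ResidueField.map (EtRam.inclOfComap W (algebraMap K₁ M))).toAlgebra =
      (inferInstance : Algebra (ResidueField (W.comap (algebraMap K₁ M))) (ResidueField W)) := by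
    apply Algebra.algebra_ext
    intro r
    obtain ⟨x, rfl⟩ := residue_surjective r
    rfl
  rw [heq]
  exact h2

end Groth.Agent.S1982
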