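import Groth.Statements.S1985
import Mathlib
import Groth.Agent.Lib.Helper48.FormalFibresNagata
import Groth.Agent.Lib.Helper38.FieldNagata
import Groth.Agent.Lib.Helper41.GeomRedSep

set_option autoImplicit false
universe u
open EtAlg

namespace Groth.Agent.S1985

open TensorProduct in
set_option maxHeartbeats 1000000 in
/-- Let A -> B be an extension of discrete valuation rings whose extension of fraction fields L/K is
separable. If B is a Nagata ring then so is A. -/
theorem result (A B K L : Type u) [CommRing A] [IsDomain A] [IsDiscreteValuationRing A]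
    [CommRing B] [IsDomain B] [IsDiscreteValuationRing B] [Algebra A B] [IsLocalHom (algebraMap A B)]
    (hinj : Function.Injective (algebraMap A B))
    [Field K] [Field L] [Algebra A K] [IsFractionRing A K] [Algebra B L] [IsFractionRing B L]
    [Algebra K L] [Algebra A L] [IsScalarTower A K L] [IsScalarTower A B L] [Algebra.IsSeparable K L] (hB : CAlg.IsNagata B) :
    CAlg.IsNagata A := by
  classical
  haveI : Module.IsTorsionFree A B := Module.isTorsionFree_iff_algebraMap_injective.mpr hinj
  haveI : Module.Flat A B := inferInstance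
  haveI : Module.FaithfullyFlat A B := Module.FaithfullyFlat.of_flat_of_isLocalHom
  refine ⟨inferInstance, fun p hp => ?_⟩
  by_cases hp0 : p = ⊥
  · subst hp0
    apply Groth.Agent.Lib.Helper48.isN2_quotient_of_isGeometricallyReduced_fiber hB ⊥
    -- the generic fibre embeds in `L`, which is separable algebraic over `κ(⊥) ≅ K`
    let e : (⊥ : Ideal A).ResidueField ≃ₐ[A] K :=
      IsLocalization.algEquiv (nonZeroDivisors A) _ _
    letI algκL : Algebra (⊥ : Ideal A).ResidueField L :=
      ((algebraMap K L).comp e.toRingEquiv.toRingHom).toAlgebra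
    have halg : ∀ x : (⊥ : Ideal A).ResidueField, algebraMap _ L x = algebraMap K L (e x) :=
      fun _ => rfl
    haveI tow : IsScalarTower A (⊥ : Ideal A).ResidueField L :=
      IsScalarTower.of_algebraMap_eq (fun a => by
        rw [halg, e.commutes, ← IsScalarTower.algebraMap_apply])
    haveI hsep : Algebra.IsSeparable (⊥ : Ideal A).ResidueField L :=
      Algebra.IsSeparable.of_equiv_equiv (A₁ := K) (B₁ := L) e.symm.toRingEquiv (RingEquiv.refl L)
        (by
          ext x
          show algebraMap (⊥ : Ideal A).ResidueField L (e.symm x) = algebraMap K L x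
          rw [halg, AlgEquiv.apply_symm_apply])
    haveI : Algebra.IsGeometricallyReduced (⊥ : Ideal A).ResidueField L :=
      Groth.Agent.Lib.Helper41.GeomRedSep.isGeometricallyReduced_of_isSeparable _ L
    let φ : (⊥ : Ideal A).Fiber B →ₐ[(⊥ : Ideal A).ResidueField] L :=
      Algebra.TensorProduct.productLeftAlgHom (Algebra.ofId _ L) (IsScalarTower.toAlgHom A B L)
    refine Algebra.IsGeometricallyReduced.of_injective φ ?_
    rw [injective_iff_map_eq_zero]
    intro x hx
    obtain ⟨r, hr, s, hrs⟩ := Ideal.Fiber.exists_smul_eq_one_tmul (⊥ : Ideal A) x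
    have hr0 : r ≠ 0 := fun h => hr (by rw [h]; exact Ideal.zero_mem _)
    have h3 : (algebraMap A (⊥ : Ideal A).ResidueField r) • x =
        (1 : (⊥ : Ideal A).ResidueField) ⊗ₜ[A] s := by
      rw [algebraMap_smul]
      exact hrs
    have h1 : φ ((algebraMap A (⊥ : Ideal A).ResidueField r) • x) = 0 := by
      rw [map_smul, hx, smul_zero]
    have h2 : φ ((1 : (⊥ : Ideal A).ResidueField) ⊗ₜ[A] s) = algebraMap B L s := by
      simp [φ]
    rw [h3, h2] at h1
    have hs : s = 0 := by
      apply IsFractionRing.injective B L
      rw [h1, map_zero]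
    rw [hs, TensorProduct.tmul_zero] at h3
    have hr' : algebraMap A (⊥ : Ideal A).ResidueField r ≠ 0 := by
      intro h
      exact hr0 (IsFractionRing.injective A (⊥ : Ideal A).ResidueField (by rw [h, map_zero]))
    exact (smul_eq_zero.mp h3).resolve_left hr'
  · haveI : p.IsMaximal := hp.isMaximal hp0
    letI := Ideal.Quotient.field p
    exact Groth.Agent.Lib.Helper38.FieldNagata.isN2_of_finiteType_field (A ⧸ p) (A ⧸ p)

end Groth.Agent.S1985
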