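import Groth.Statements.S19856
import Mathlib

set_option autoImplicit false
universe u v
open CAlg

namespace Groth.Agent.S19856

open IsLocalRing

section
variable {O : Type u} [CommRing O] [IsDomain O] [IsDiscreteValuationRing O]
  {G : Type v} [Group G] [MulSemiringAction G O]

/-- `g` acts trivially on the residue field. -/
theorem residue_smul (htriv : ∀ (g : G) (a : O), g • a - a ∈ maximalIdeal O) (g : G) (a : O) :
    residue O (g • a) = residue O a := by
  have := (residue_eq_zero_iff (g • a - a)).mpr (htriv g a)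
  rw [map_sub, sub_eq_zero] at this
  exact this

/-- If `g • ϖ = ϖ * u` with `u ≡ 1`, then `g` acts trivially on `m^j/m^(j+1)`. -/
theorem smul_sub_mem_pow_succ (htriv : ∀ (g : G) (a : O), g • a - a ∈ maximalIdeal O)
    (ϖ : O) (hϖ : maximalIdeal O = Ideal.span {ϖ}) (g : G) (u : O) (hu : g • ϖ = ϖ * u)
    (hu1 : residue O u = 1) (j : ℕ) (x : O) (hx : x ∈ maximalIdeal O ^ j) :
    g • x - x ∈ maximalIdeal O ^ (j + 1) := by
  rw [hϖ, Ideal.span_singleton_pow, Ideal.mem_span_singleton'] at hx
  obtain ⟨y, rfl⟩ := hx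
  have h1 : g • (y * ϖ ^ j) - y * ϖ ^ j = (u ^ j * g • y - y) * ϖ ^ j := by
    rw [smul_mul', smul_pow', hu]
    ring
  have h2 : u ^ j * g • y - y ∈ maximalIdeal O := by
    rw [← residue_eq_zero_iff, map_sub, map_mul, map_pow, hu1, one_pow, one_mul,
      residue_smul htriv, sub_self]
  rw [h1, pow_succ']
  exact Ideal.mul_mem_mul h2 (by rw [hϖ, Ideal.span_singleton_pow]; exact Ideal.mem_span_singleton_self _)

/-- Induction: `g^i • a - a ≡ i (g • a - a)` modulo `m^(j+1)` whenever `g • a - a ∈ m^j`. -/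
theorem pow_smul_sub (g : G) (j : ℕ)
    (hA : ∀ x : O, x ∈ maximalIdeal O ^ j → g • x - x ∈ maximalIdeal O ^ (j + 1))
    (a : O) (hd : g • a - a ∈ maximalIdeal O ^ j) (i : ℕ) :
    g ^ i • a - a - (i : O) * (g • a - a) ∈ maximalIdeal O ^ (j + 1) := by
  induction i with
  | zero => simp
  | succ i ih =>
    have hle : maximalIdeal O ^ (j + 1) ≤ maximalIdeal O ^ j := Ideal.pow_le_pow_right (Nat.le_succ j)
    have hy : g ^ i • a - a ∈ maximalIdeal O ^ j := by
      have h1 : g ^ i • a - a = (g ^ i • a - a - (i : O) * (g • a - a)) + (i : O) * (g • a - a) := by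
        ring
      rw [h1]
      exact Ideal.add_mem _ (hle ih) (Ideal.mul_mem_left _ _ hd)
    have h2 := hA _ hy
    have h3 : g ^ (i + 1) • a - a - ((i + 1 : ℕ) : O) * (g • a - a) =
        (g • (g ^ i • a - a) - (g ^ i • a - a)) + (g ^ i • a - a - (i : O) * (g • a - a)) := by
      rw [pow_succ', mul_smul, smul_sub]
      push_cast
      ring
    rw [h3]
    exact Ideal.add_mem _ h2 ih

end

theorem result
    (O : Type u) [CommRing O] [IsDomain O] [IsDiscreteValuationRing O]
    (G : Type v) [Group G] [Finite G] [MulSemiringAction G O] [FaithfulSMul G O]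
    (htriv : ∀ (g : G) (a : O), g • a - a ∈ IsLocalRing.maximalIdeal O)
    (hcard : ((Nat.card G : ℕ) : IsLocalRing.ResidueField O) ≠ 0) :
    IsCyclic G := by
  obtain ⟨ϖ, hirr⟩ := IsDiscreteValuationRing.exists_irreducible O
  have hϖ : maximalIdeal O = Ideal.span {ϖ} :=
    (IsDiscreteValuationRing.irreducible_iff_uniformizer ϖ).mp hirr
  have hϖ0 : ϖ ≠ 0 := hirr.ne_zero
  -- `g • ϖ` is again irreducible
  have hirr' : ∀ g : G, Irreducible (g • ϖ) := by
    intro g
    have : g • ϖ = MulSemiringAction.toRingEquiv G O g ϖ := rfl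
    rw [this]
    exact (MulEquiv.irreducible_iff (MulSemiringAction.toRingEquiv G O g).toMulEquiv).mpr hirr
  have hex : ∀ g : G, ∃ u : Oˣ, ϖ * u = g • ϖ := fun g =>
    IsDiscreteValuationRing.associated_of_irreducible O hirr (hirr' g)
  choose u hu using hex
  -- the character
  have hu_one : u 1 = 1 := by
    have := hu 1
    rw [one_smul] at this
    have h2 : ϖ * (u 1 : O) = ϖ * 1 := by rw [this, mul_one]
    exact Units.ext (mul_left_cancel₀ hϖ0 h2)
  have hu_mul : ∀ g h : G, (u (g * h) : O) = (u g : O) * g • (u h : O) := by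
    intro g h
    have h1 : ϖ * (u (g * h) : O) = ϖ * ((u g : O) * g • (u h : O)) := by
      rw [hu (g * h), mul_smul, ← hu h, smul_mul', ← hu g]
      ring
    exact mul_left_cancel₀ hϖ0 h1
  let χ : G →* ResidueField O :=
    { toFun := fun g => residue O (u g : O)
      map_one' := by rw [hu_one]; simp
      map_mul' := fun g h => by
        rw [hu_mul, map_mul, residue_smul htriv] }
  apply isCyclic_of_injective_ringHom χ
  -- injectivity
  have hker : ∀ g : G, χ g = 1 → g = 1 := by
    intro g hg
    have hg' : residue O (u g : O) = 1 := hg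
    have hA : ∀ (j : ℕ) (x : O), x ∈ maximalIdeal O ^ j → g • x - x ∈ maximalIdeal O ^ (j + 1) :=
      fun j x hx => smul_sub_mem_pow_succ htriv ϖ hϖ g (u g) (hu g).symm hg' j x hx
    -- the cardinality is a unit
    have hn : IsUnit ((Nat.card G : ℕ) : O) := by
      rw [← IsLocalRing.notMem_maximalIdeal, ← residue_eq_zero_iff, map_natCast]
      exact hcard
    have hgn : g ^ Nat.card G = 1 := pow_card_eq_one'
    apply FaithfulSMul.eq_of_smul_eq_smul (α := O)
    intro a
    rw [one_smul]
    -- d := g • a - a lies in all powers of m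
    have hall : ∀ j : ℕ, g • a - a ∈ maximalIdeal O ^ j := by
      intro j
      induction j with
      | zero => simp
      | succ j ih =>
        have h1 := pow_smul_sub g j (hA j) a ih (Nat.card G)
        rw [hgn, one_smul, sub_self, zero_sub, neg_mem_iff] at h1
        exact (Ideal.unit_mul_mem_iff_mem _ hn).mp h1
    have hbot : g • a - a ∈ (⨅ i : ℕ, maximalIdeal O ^ i) := by
      rw [Ideal.mem_iInf]
      exact hall
    rw [Ideal.iInf_pow_eq_bot_of_isLocalRing _ (Ideal.IsPrime.ne_top'), Ideal.mem_bot,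
      sub_eq_zero] at hbot
    exact hbot
  intro g h hgh
  have hne : χ h ≠ 0 := by
    intro h0
    have : χ (h * h⁻¹) = 0 := by rw [map_mul, h0, zero_mul]
    rw [mul_inv_cancel, map_one] at this
    exact one_ne_zero this
  have h1 : χ (g * h⁻¹) = 1 := by
    have h2 : χ (g * h⁻¹) * χ h = 1 * χ h := by
      rw [← map_mul, inv_mul_cancel_right, one_mul, hgh]
    exact mul_right_cancel₀ hne h2
  have := hker _ h1
  exact mul_inv_eq_one.mp this

end Groth.Agent.S19856
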