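import Groth.Statements.S1986
import Mathlib
import Groth.Agent.Lib.Helper9.SepSol.Descent

set_option autoImplicit false
universe u
open EtAlg

namespace Groth.Agent.S1986

/-- Let A -> B be an extension of discrete valuation rings with separable extension of fraction fields
L/K and B a Nagata ring. If some finite extension of K is a solution for A -> B, then some finite
separable extension of K is a solution as well. -/
theorem result (A B K L : Type u) [CommRing A] [IsDomain A] [IsDiscreteValuationRing A]
    [CommRing B] [IsDomain B] [IsDiscreteValuationRing B] [Algebra A B] [IsLocalHom (algebraMap A B)]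
    (hinj : Function.Injective (algebraMap A B))
    [Field K] [Field L] [Algebra A K] [IsFractionRing A K] [Algebra B L] [IsFractionRing B L]
    [Algebra K L] [Algebra A L] [IsScalarTower A K L] [IsScalarTower A B L] [Algebra.IsSeparable K L] (hB : CAlg.IsNagata B)
    (K₂ : Type u) [Field K₂] [Algebra K K₂] [FiniteDimensional K K₂] (h₂ : EtRam.IsSolution B K L K₂) :
    ∃ (K₃ : Type u) (_ : Field K₃) (_ : Algebra K K₃) (_ : FiniteDimensional K K₃) (_ : Algebra.IsSeparable K K₃),
      EtRam.IsSolution B K L K₃ := by
  classical
  obtain ⟨p, hpK⟩ := ExpChar.exists K
  haveI : ExpChar (separableClosure K K₂) p :=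
    expChar_of_injective_algebraMap (algebraMap K (separableClosure K K₂)).injective p
  haveI : IsPurelyInseparable (separableClosure K K₂) K₂ :=
    separableClosure.isPurelyInseparable K K₂
  refine ⟨separableClosure K K₂, inferInstance, inferInstance, inferInstance, inferInstance, ?_⟩
  exact Groth.Agent.Lib.Helper9.SepSol.Descent.descent A B K L hinj K₂ (separableClosure K K₂) p
    (IsPurelyInseparable.exponent (separableClosure K K₂) K₂)
    (IsPurelyInseparable.iterateFrobenius (separableClosure K K₂) K₂ p le_rfl)
    (fun x => IsPurelyInseparable.algebraMap_iterateFrobenius _ p le_rfl x) h₂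

end Groth.Agent.S1986
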