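import Groth.Statements.S1987
import Groth.Agent.H76.EisensteinDVR

set_option autoImplicit false
universe u
open Polynomial
open EtAlg

namespace Groth.Agent.S1987

/-- Let A be a discrete valuation ring with uniformizer π and n ≥ 2, and let A' = A[x]/(x^n - π). Then
x^n - π is irreducible over A, A' is an integrally closed discrete valuation ring (so it is the
integral closure of A in its fraction field K₁ = K(π^{1/n}), of degree n over K), the maximal ideal
of A generates the n-th power of the maximal ideal of A' (ramification index n), and K₁ is totally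
ramified with respect to A. -/
theorem result (A : Type u) [CommRing A] [IsDomain A] [IsDiscreteValuationRing A] (π : A)
    (hπ : Irreducible π) (n : ℕ) (hn : 2 ≤ n) :
    Irreducible (X ^ n - C π : A[X]) ∧
    ∃ (_ : IsDomain (AdjoinRoot (X ^ n - C π : A[X]))) (_ : IsDiscreteValuationRing (AdjoinRoot (X ^ n - C π : A[X]))),
      IsIntegrallyClosed (AdjoinRoot (X ^ n - C π : A[X])) ∧
      (IsLocalRing.maximalIdeal A).map (algebraMap A (AdjoinRoot (X ^ n - C π : A[X]))) = IsLocalRing.maximalIdeal (AdjoinRoot (X ^ n - C π : A[X])) ^ n ∧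
      ∀ (K₁ : Type u) [Field K₁] [Algebra (AdjoinRoot (X ^ n - C π : A[X])) K₁] [IsFractionRing (AdjoinRoot (X ^ n - C π : A[X])) K₁],
        EtRam.IsTotallyRamified A ((algebraMap (AdjoinRoot (X ^ n - C π : A[X])) K₁).comp (algebraMap A (AdjoinRoot (X ^ n - C π : A[X])))) := by
  classical
  have hn0 : n ≠ 0 := by omega
  have hdom := Groth.Agent.H76.EisensteinDVR.isDomain hπ hn0
  have hdvr := Groth.Agent.H76.EisensteinDVR.isDiscreteValuationRing hπ hn0
  refine ⟨Groth.Agent.H76.EisensteinDVR.irreducible_poly hπ hn0, hdom, hdvr, inferInstance,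
    Groth.Agent.H76.EisensteinDVR.map_maximalIdeal hπ hn0, ?_⟩
  intro K₁ _ _ _
  -- notation
  set A' := AdjoinRoot (X ^ n - C π : A[X]) with hA'
  set g : A →+* K₁ := (algebraMap A' K₁).comp (algebraMap A A') with hg
  set x' : K₁ := algebraMap A' K₁ (AdjoinRoot.root _) with hx'
  have hx'n : x' ^ n = g π := by
    rw [hx', ← map_pow, Groth.Agent.H76.EisensteinDVR.root_pow]
    rfl
  set V₀ : ValuationSubring K₁ := (ValuationRing.valuation A' K₁).valuationSubring with hV₀
  -- facts for any dominating V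
  have fact1 : ∀ V : ValuationSubring K₁, EtRam.Dominates A g V → V.valuation x' < 1 := by
    intro V hV
    have h1 : V.valuation (g π) < 1 := hV.2 π (by
      rw [hπ.maximalIdeal_eq]; exact Ideal.mem_span_singleton_self π)
    rw [← hx'n, map_pow] at h1
    exact (pow_lt_one_iff hn0).mp h1
  have fact2 : ∀ V : ValuationSubring K₁, EtRam.Dominates A g V →
      ∀ b : A', algebraMap A' K₁ b ∈ V := by
    intro V hV b
    induction b using AdjoinRoot.induction_on with
    | ih p =>
      induction p using Polynomial.induction_on' with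
      | add p q hp hq => rw [map_add, map_add]; exact V.add_mem _ _ hp hq
      | monomial k a =>
        rw [← Polynomial.C_mul_X_pow_eq_monomial, map_mul, map_pow, AdjoinRoot.mk_C,
          AdjoinRoot.mk_X, map_mul, map_pow]
        refine V.mul_mem _ _ (hV.1 a) (pow_mem ?_ k)
        exact (V.valuation_le_one_iff _).mp (le_of_lt (fact1 V hV))
  have fact3 : ∀ V : ValuationSubring K₁, EtRam.Dominates A g V →
      ∀ b : A', ¬ IsUnit b → V.valuation (algebraMap A' K₁ b) < 1 := by
    intro V hV b hb
    obtain ⟨c, rfl⟩ := Groth.Agent.H76.EisensteinDVR.root_dvd_of_not_isUnit hπ hn0 b hb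
    rw [map_mul, map_mul]
    exact lt_of_le_of_lt
      (mul_le_of_le_one_right' ((V.valuation_le_one_iff _).mpr (fact2 V hV c))) (fact1 V hV)
  have fact4 : ∀ V : ValuationSubring K₁, EtRam.Dominates A g V → V = V₀ := fun V hV =>
    Groth.Agent.H76.EisensteinDVR.eq_valuationSubring_of_dominates A' K₁ V (fact2 V hV)
      (fact3 V hV)
  have hV₀dom : EtRam.Dominates A g V₀ := by
    refine ⟨fun a => (ValuationRing.mem_integer_iff A' K₁ _).mpr ⟨algebraMap A A' a, rfl⟩,
      fun a ha => ?_⟩
    apply Groth.Agent.H76.EisensteinDVR.valuation_lt_one_of_not_isUnit A' K₁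
    have h1 : algebraMap A A' a ∈ IsLocalRing.maximalIdeal A' ^ n := by
      rw [← Groth.Agent.H76.EisensteinDVR.map_maximalIdeal hπ hn0]
      exact Ideal.mem_map_of_mem _ ha
    exact Ideal.pow_le_self hn0 h1
  refine ⟨⟨V₀, hV₀dom⟩, fun V V' hV hV' => (fact4 V hV).trans (fact4 V' hV').symm, ?_⟩
  intro V hV r
  obtain ⟨y, rfl⟩ := IsLocalRing.residue_surjective r
  have hyV₀ : (y : K₁) ∈ V₀ := by rw [← fact4 V hV]; exact y.2
  obtain ⟨b, hb⟩ := (ValuationRing.mem_integer_iff A' K₁ _).mp hyV₀
  obtain ⟨a₀, c, rfl⟩ := Groth.Agent.H76.EisensteinDVR.exists_decomp b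
  refine ⟨a₀, ?_⟩
  show IsLocalRing.residue V (RingHom.codRestrict g V hV.1 a₀) = IsLocalRing.residue V y
  rw [← sub_eq_zero, ← map_sub, IsLocalRing.residue_eq_zero_iff, V.valuation_lt_one_iff]
  have h1 : ((RingHom.codRestrict g V hV.1 a₀ - y : V) : K₁) = -(x' * algebraMap A' K₁ c) := by
    rw [AddSubgroupClass.coe_sub, ← hb, map_add, map_mul]
    show g a₀ - _ = _
    rw [hg, hx']
    simp only [RingHom.comp_apply]
    have h2 : (algebraMap A A') a₀ = AdjoinRoot.of (X ^ n - C π : A[X]) a₀ := rfl
    rw [h2]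
    ring
  rw [h1, Valuation.map_neg, map_mul]
  exact lt_of_le_of_lt
    (mul_le_of_le_one_right' ((V.valuation_le_one_iff _).mpr (fact2 V hV c))) (fact1 V hV)

end Groth.Agent.S1987
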