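import Groth.Statements.S1988
import Mathlib
import Groth.Agent.Lib.Helper9.CommonExt

set_option autoImplicit false
universe u
open EtAlg

namespace Groth.Agent.S1988

open EtRam Groth.Agent.Lib.Helper9.CommonExt

/-- In a valuation ring, an element of an extended ideal is divisible by the image of one
element of the ideal. -/
theorem exists_dvd_of_mem_map {V S : Type*} [CommRing V] [IsDomain V] [ValuationRing V]
    [CommRing S] (φ : V →+* S) (I : Ideal V) {x : S} (hx : x ∈ I.map φ) :
    ∃ a ∈ I, φ a ∣ x := by
  induction hx using Submodule.span_induction with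
  | mem x hx =>
    obtain ⟨a, ha, rfl⟩ := hx
    exact ⟨a, ha, dvd_rfl⟩
  | zero => exact ⟨0, I.zero_mem, by simp⟩
  | add x y _ _ hx hy =>
    obtain ⟨a, ha, hax⟩ := hx
    obtain ⟨b, hb, hby⟩ := hy
    rcases ValuationRing.dvd_total a b with hab | hba
    · exact ⟨a, ha, dvd_add hax ((map_dvd φ hab).trans hby)⟩
    · exact ⟨b, hb, dvd_add ((map_dvd φ hba).trans hax) hby⟩
  | smul s x _ hx =>
    obtain ⟨a, ha, hax⟩ := hx
    exact ⟨a, ha, by rw [smul_eq_mul]; exact hax.mul_left s⟩

/-- Descent of weak unramifiedness along `W'.comap j ⊆ W'`. -/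
theorem weaklyUnramified_descend {K₁ M M' : Type u} [Field K₁] [Field M] [Field M']
    (f : K₁ →+* M) (j : M →+* M') (W' : ValuationSubring M')
    (h : Ideal.map (inclOfComap W' (j.comp f))
      (IsLocalRing.maximalIdeal (W'.comap (j.comp f))) = IsLocalRing.maximalIdeal W') :
    Ideal.map (inclOfComap (W'.comap j) f)
      (IsLocalRing.maximalIdeal ((W'.comap j).comap f)) = IsLocalRing.maximalIdeal (W'.comap j) := by
  apply le_antisymm
  · exact Ideal.map_le_iff_le_comap.mpr (fun a ha => map_nonunit (inclOfComap (W'.comap j) f) a ha)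
  · intro x hx
    have hx' : inclOfComap W' j x ∈ IsLocalRing.maximalIdeal W' :=
      map_nonunit (inclOfComap W' j) x hx
    rw [← h] at hx'
    obtain ⟨a, ha, w', hw'⟩ := exists_dvd_of_mem_map _ _ hx'
    have hw'M : j (x : M) = j (f (a : K₁)) * (w' : M') := congrArg Subtype.val hw'
    by_cases ha0 : (a : K₁) = 0
    · have hx0 : (x : M) = 0 := by
        rw [ha0, map_zero, map_zero, zero_mul] at hw'M
        exact j.injective (by rw [hw'M, map_zero])
      have : x = 0 := Subtype.ext hx0
      rw [this]
      exact Ideal.zero_mem _
    · have hfa : f (a : K₁) ≠ 0 := by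
        intro h0
        exact ha0 (f.injective (by rw [h0, map_zero]))
      have hy : (x : M) / f (a : K₁) ∈ W'.comap j := by
        rw [ValuationSubring.mem_comap, map_div₀, hw'M, mul_div_assoc, mul_comm,
          div_mul_cancel₀]
        · exact w'.2
        · exact fun h0 => hfa (j.injective (by rw [h0, map_zero]))
      let a₁ : (W'.comap j).comap f := ⟨(a : K₁), a.2⟩
      have ha₁ : a₁ ∈ IsLocalRing.maximalIdeal ((W'.comap j).comap f) := ha
      have hxeq : x = inclOfComap (W'.comap j) f a₁ * ⟨(x : M) / f (a : K₁), hy⟩ := by
        apply Subtype.ext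
        show (x : M) = f (a : K₁) * ((x : M) / f (a : K₁))
        rw [mul_div_cancel₀ _ hfa]
      rw [hxeq]
      exact Ideal.mul_mem_right _ _ (Ideal.mem_map_of_mem _ ha₁)

/-- Descent of separability of the residue field extension along `W'.comap j ⊆ W'`. -/
theorem geomReduced_descend {K₁ M M' : Type u} [Field K₁] [Field M] [Field M']
    (f : K₁ →+* M) (j : M →+* M') (W' : ValuationSubring M')
    (h : @Algebra.IsGeometricallyReduced (IsLocalRing.ResidueField (W'.comap (j.comp f)))
        (IsLocalRing.ResidueField W') _ _
        (IsLocalRing.ResidueField.map (inclOfComap W' (j.comp f))).toAlgebra) :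
    @Algebra.IsGeometricallyReduced (IsLocalRing.ResidueField ((W'.comap j).comap f))
        (IsLocalRing.ResidueField (W'.comap j)) _ _
        (IsLocalRing.ResidueField.map (inclOfComap (W'.comap j) f)).toAlgebra := by
  letI alg1 : Algebra (IsLocalRing.ResidueField ((W'.comap j).comap f))
      (IsLocalRing.ResidueField W') :=
    (IsLocalRing.ResidueField.map (inclOfComap W' (j.comp f))).toAlgebra
  letI alg2 : Algebra (IsLocalRing.ResidueField ((W'.comap j).comap f))
      (IsLocalRing.ResidueField (W'.comap j)) :=
    (IsLocalRing.ResidueField.map (inclOfComap (W'.comap j) f)).toAlgebra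
  let g : IsLocalRing.ResidueField (W'.comap j)
      →ₐ[IsLocalRing.ResidueField ((W'.comap j).comap f)] IsLocalRing.ResidueField W' :=
    { toRingHom := IsLocalRing.ResidueField.map (inclOfComap W' j)
      commutes' := by
        intro r
        obtain ⟨x, rfl⟩ := IsLocalRing.residue_surjective r
        show IsLocalRing.ResidueField.map (inclOfComap W' j)
          (IsLocalRing.ResidueField.map (inclOfComap (W'.comap j) f) (IsLocalRing.residue _ x)) =
          IsLocalRing.ResidueField.map (inclOfComap W' (j.comp f)) (IsLocalRing.residue _ x)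
        rw [IsLocalRing.ResidueField.map_residue, IsLocalRing.ResidueField.map_residue]
        exact (IsLocalRing.ResidueField.map_residue (inclOfComap W' (j.comp f)) x).symm }
  haveI : Algebra.IsGeometricallyReduced (IsLocalRing.ResidueField ((W'.comap j).comap f))
      (IsLocalRing.ResidueField W') := h
  exact Algebra.IsGeometricallyReduced.of_injective g g.toRingHom.injective

/-- Let A -> B -> C be extensions of discrete valuation rings (local injective maps) with fraction
fields K ⊂ L ⊂ M₀ and K₁/K a finite extension. (The solution predicates mention only B, C and the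
fields: in them the bottom ring is recovered as B ∩ K, which the hypotheses on A force to be A.) If
K₁ is a weak solution (resp. a solution) for A -> C then it is a weak solution (resp. a solution)
for A -> B. -/
theorem result (A B C K L M₀ K₁ : Type u) [CommRing A] [IsDomain A] [IsDiscreteValuationRing A]
    [CommRing B] [IsDomain B] [IsDiscreteValuationRing B] [Algebra A B] [IsLocalHom (algebraMap A B)]
    (hinjA : Function.Injective (algebraMap A B))
    [CommRing C] [IsDomain C] [IsDiscreteValuationRing C] [Algebra B C] [IsLocalHom (algebraMap B C)]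
    (hinj : Function.Injective (algebraMap B C))
    [Field K] [Field L] [Field M₀] [Field K₁] [Algebra K L] [Algebra K M₀] [Algebra L M₀] [IsScalarTower K L M₀]
    [Algebra K K₁] [FiniteDimensional K K₁] [Algebra A K] [IsFractionRing A K]
    [Algebra B L] [IsFractionRing B L] [Algebra A L] [IsScalarTower A K L] [IsScalarTower A B L]
    [Algebra C M₀] [IsFractionRing C M₀] [Algebra B M₀]
    [IsScalarTower B C M₀] [IsScalarTower B L M₀] :
    (EtRam.IsWeakSolution C K M₀ K₁ → EtRam.IsWeakSolution B K L K₁) ∧
    (EtRam.IsSolution C K M₀ K₁ → EtRam.IsSolution B K L K₁) := by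
  have key : ∀ (P Q : ∀ (M : Type u) [Field M], ValuationSubring M → (K₁ →+* M) → Prop)
      (_ : ∀ (M M' : Type u) [Field M] [Field M'] (f : K₁ →+* M) (j : M →+* M')
          (W' : ValuationSubring M'), P M' W' (j.comp f) → Q M (W'.comap j) f),
      EtRam.ForallLocalExt C K M₀ K₁ P → EtRam.ForallLocalExt B K L K₁ Q := by
    intro P Q hPQ hP M _ _ _ _ _ _ hgen W hWdom
    obtain ⟨M', _, j, j₀, W', hL, hWeq, hCdom, hgen'⟩ := exists_common_extension (B := B) (L := L) (M := M) (M₀ := M₀) (C := C) hinj W hWdom
    subst hWeq
    letI : Algebra M₀ M' := j₀.toAlgebra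
    letI : Algebra K₁ M' := (j.comp (algebraMap K₁ M)).toAlgebra
    letI : Algebra K M' := (j₀.comp (algebraMap K M₀)).toAlgebra
    haveI : IsScalarTower K M₀ M' := IsScalarTower.of_algebraMap_eq (fun x => rfl)
    have hLx : ∀ l : L, j (algebraMap L M l) = j₀ (algebraMap L M₀ l) :=
      fun l => RingHom.congr_fun hL l
    haveI : IsScalarTower K K₁ M' := IsScalarTower.of_algebraMap_eq (fun x => by
      show j₀ (algebraMap K M₀ x) = j (algebraMap K₁ M (algebraMap K K₁ x))
      rw [← IsScalarTower.algebraMap_apply K K₁ M, IsScalarTower.algebraMap_apply K L M,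
        IsScalarTower.algebraMap_apply K L M₀, hLx])
    have hgenM' : Algebra.adjoin M₀ (Set.range (algebraMap K₁ M')) = ⊤ := by
      have halg : ∀ x ∈ Set.range (algebraMap K₁ M'), IsAlgebraic M₀ x := by
        rintro _ ⟨k, rfl⟩
        have hk : IsIntegral K k := Algebra.IsIntegral.isIntegral k
        have hk' : IsIntegral K (algebraMap K₁ M' k) := hk.map (IsScalarTower.toAlgHom K K₁ M')
        exact (hk'.tower_top (A := M₀)).isAlgebraic
      rw [← IntermediateField.adjoin_toSubalgebra_of_isAlgebraic halg]
      have htop : IntermediateField.adjoin M₀ (Set.range (algebraMap K₁ M')) = ⊤ := by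
        have h := hgen' (IntermediateField.adjoin M₀ (Set.range (algebraMap K₁ M'))).toSubfield
          ?_ ?_
        · rw [eq_top_iff]
          intro x _
          have : x ∈ (IntermediateField.adjoin M₀
              (Set.range (algebraMap K₁ M'))).toSubfield := by rw [h]; trivial
          exact this
        · rintro _ ⟨m, rfl⟩
          have hm : m ∈ Algebra.adjoin L (Set.range (algebraMap K₁ M)) := by rw [hgen]; trivial
          show j m ∈ IntermediateField.adjoin M₀ (Set.range (algebraMap K₁ M'))
          induction hm using Algebra.adjoin_induction with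
          | mem x hx =>
            obtain ⟨k, rfl⟩ := hx
            exact IntermediateField.subset_adjoin _ _ ⟨k, rfl⟩
          | algebraMap l =>
            rw [hLx]
            exact (IntermediateField.adjoin M₀ (Set.range (algebraMap K₁ M'))).algebraMap_mem _
          | add x y _ _ hx hy => rw [map_add]; exact add_mem hx hy
          | mul x y _ _ hx hy => rw [map_mul]; exact mul_mem hx hy
        · rintro _ ⟨m, rfl⟩
          exact (IntermediateField.adjoin M₀ (Set.range (algebraMap K₁ M'))).algebraMap_mem m
      rw [htop, IntermediateField.top_toSubalgebra]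
    have := hP M' hgenM' W' hCdom
    exact hPQ M M' (algebraMap K₁ M) j W' this
  constructor
  · intro h
    refine key _ _ ?_ h
    intro M M' _ _ f j W' hW'
    exact weaklyUnramified_descend f j W' hW'
  · intro h
    refine key _ _ ?_ h
    intro M M' _ _ f j W' hW'
    exact ⟨weaklyUnramified_descend f j W' hW'.1, geomReduced_descend f j W' hW'.2⟩

end Groth.Agent.S1988
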