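import Groth.Statements.S19886
import Groth.Agent.Lib.Helper44.ASFinite
import Groth.Agent.S0002
import Groth.Agent.S0110
import Groth.Agent.S0469
import Groth.Agent.Lib.Helper45.RefHullStalk

set_option autoImplicit false
universe u
open CategoryTheory CategoryTheory.Limits AlgebraicGeometry
open EtCoh

namespace Groth.Agent.S19886

/-- Let k be a separably closed field of characteristic p > 0 and X a scheme proper over k of dimension
d. Then the étale cohomology groups H^q(X_et, Z/p) with constant coefficients vanish for all q > d.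
(The same vanishing for X separated of finite type over an algebraically closed field is a separate
statement; here the field is only separably closed and X is proper.) -/
theorem result (k : Type u) [Field k] [IsSepClosed k]
    (p : ℕ) [Fact p.Prime] [CharP k p]
    (X : Scheme.{u}) (f : X ⟶ Spec (CommRingCat.of k)) [IsProper f]
    (d : ℕ) (hd : topologicalKrullDim X = d) (q : ℕ) (hq : d + 1 ≤ q) :
    Subsingleton (EtCoh.H X (EtCoh.const X (ZMod p)) q) := by
  letI : X.Over (Spec (CommRingCat.of k)) := ⟨f⟩
  haveI : IsProper (X ↘ Spec (CommRingCat.of k)) := ‹IsProper f›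
  have h0 := Groth.Agent.Lib.Helper44.ASFin.natCast_eq_zero k p X
  obtain ⟨j, rfl⟩ : ∃ j, q = j + 1 := ⟨q - 1, by omega⟩
  have hfin : Module.Finite k (Coh.HH X (Coh.structureModule X) j) :=
    Groth.Agent.S0002.result k X (Coh.structureModule X)
      (Groth.Agent.Lib.Helper45.RefHullStalk.isCoh_structureModule X) j
  have hsurj := (Groth.Agent.Lib.Helper44.ASFin.key k p X j hfin).1
  haveI : CompactSpace X := QuasiCompact.compactSpace_of_compactSpace f
  haveI : QuasiSeparatedSpace X := quasiSeparatedSpace_of_quasiSeparated f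
  haveI h1 : SpectralSpace X := SpectralSpace.mk
  haveI : SpectralSpace X.toTopCat := h1
  have hGa : Subsingleton (EtCoh.H X (EtCoh.Ga X) (j + 1)) := by
    obtain ⟨e⟩ := Groth.Agent.S0110.result X (j + 1)
    haveI : Subsingleton (Coh.HH X (Coh.structureModule X) (j + 1)) :=
      Groth.Agent.S0469.result (X := X.toTopCat) d hd.le _ (j + 1) (by omega)
    exact e.toEquiv.subsingleton
  have hS := Groth.Agent.Lib.Helper44.ASKernel.asSeq_shortExact p h0
  have hK : Subsingleton (EtCoh.H X (Groth.Agent.Lib.Helper44.ASKernel.K p h0) (j + 1)) := by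
    refine subsingleton_of_forall_eq 0 (fun x => ?_)
    obtain ⟨x₃, hx₃⟩ := Abelian.Ext.covariant_sequence_exact₁ _ hS x (hGa.elim _ _)
      (rfl : j + 1 = j + 1)
    obtain ⟨y, hy⟩ := hsurj x₃
    have hy' : y.comp (Abelian.Ext.mk₀ (Groth.Agent.Lib.Helper44.ASKernel.asSeq p h0).g)
        (add_zero j) = x₃ := hy
    rw [← hx₃, ← hy', Abelian.Ext.comp_assoc_of_second_deg_zero, hS.comp_extClass,
      Abelian.Ext.comp_zero]
  obtain ⟨e⟩ := Groth.Agent.Lib.Helper44.ASKernel.nonempty_K_iso_const p h0
  exact (Groth.Agent.Lib.Helper33.BigSiteCoh.extCongrRightAdd _ e (j + 1)).symm.toEquiv.subsingleton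


end Groth.Agent.S19886
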