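import Groth.Statements.S19890
import Groth.Agent.S17722
import Mathlib

set_option autoImplicit false
universe u
open CAlg

namespace Groth.Agent.S19890

/-- In a UFD, the colon ideal `(x : y)` with `x ≠ 0` is principal. -/
theorem exists_colon_eq_span {S : Type*} [CommRing S] [IsDomain S] [UniqueFactorizationMonoid S]
    (x y : S) (hx : x ≠ 0) : ∃ a : S, ∀ r : S, (∃ s, r * y = x * s) ↔ a ∣ r := by
  obtain ⟨a', b', c', hrel, hxa, hyb⟩ := UniqueFactorizationMonoid.exists_reduced_factors x hx y
  have hc : c' ≠ 0 := by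
    rintro rfl
    exact hx (by rw [← hxa, zero_mul])
  refine ⟨a', fun r => ?_⟩
  constructor
  · rintro ⟨s, hs⟩
    have h1 : c' * (r * b') = c' * (a' * s) := by
      rw [← hxa, ← hyb] at hs
      linear_combination hs
    have h2 : r * b' = a' * s := mul_left_cancel₀ hc h1
    have h3 : a' ∣ r * b' := ⟨s, h2⟩
    exact hrel.dvd_of_dvd_mul_right h3
  · rintro ⟨t, rfl⟩
    exact ⟨t * b', by rw [← hxa, ← hyb]; ring⟩

/-- Let R → R' be a faithfully flat ring map between Noetherian integrally closed local domains. Then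
unique factorization descends along this map: when R' is a UFD, so is R. (The first assertion of the
lemma, descent of principality for an ideal whose extension to R' is principal, is a separate
statement.) -/
theorem result
    (R R' : Type u) [CommRing R] [CommRing R'] [IsDomain R] [IsDomain R']
    [IsNoetherianRing R] [IsNoetherianRing R'] [IsLocalRing R] [IsLocalRing R']
    [IsIntegrallyClosed R] [IsIntegrallyClosed R']
    [Algebra R R'] [Module.FaithfullyFlat R R'] [UniqueFactorizationMonoid R'] :
    UniqueFactorizationMonoid R := by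
  classical
  rw [UniqueFactorizationMonoid.iff_exists_prime_mem_of_isPrime]
  intro Q hQ hQp
  obtain ⟨x, hxQ, hx0⟩ := Submodule.exists_mem_ne_zero_of_ne_bot hQ
  have hle : Ideal.span {x} ≤ Q := (Ideal.span_singleton_le_iff_mem _).mpr hxQ
  obtain ⟨P, hPmin, hPQ⟩ := Ideal.exists_minimalPrimes_le hle
  have hann : Module.annihilator R (R ⧸ Ideal.span {x}) = Ideal.span {x} :=
    Ideal.annihilator_quotient
  have hass : P ∈ associatedPrimes R (R ⧸ Ideal.span {x}) :=
    Module.associatedPrimes.minimalPrimes_annihilator_subset_associatedPrimes R _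
      (by rw [hann]; exact hPmin)
  obtain ⟨hPprime, ybar, hy⟩ := (isAssociatedPrime_iff).mp hass
  obtain ⟨y, rfl⟩ := Ideal.Quotient.mk_surjective ybar
  have hPmem : ∀ r, r ∈ P ↔ ∃ s, r * y = x * s := by
    intro r
    have h1 : r • (Ideal.Quotient.mk (Ideal.span {x}) y) =
        Ideal.Quotient.mk (Ideal.span {x}) (r * y) := rfl
    rw [hy, Submodule.mem_colon_singleton, Submodule.mem_bot, h1, Ideal.Quotient.eq_zero_iff_mem,
      Ideal.mem_span_singleton']
    constructor
    · rintro ⟨s, hs⟩; exact ⟨s, by rw [← hs]; ring⟩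
    · rintro ⟨s, hs⟩; exact ⟨s, by rw [hs]; ring⟩
  have hinj : Function.Injective (algebraMap R R') := FaithfulSMul.algebraMap_injective R R'
  have hx' : algebraMap R R' x ≠ 0 := by
    rwa [Ne, map_eq_zero_iff _ hinj]
  obtain ⟨a, ha⟩ := exists_colon_eq_span (algebraMap R R' x) (algebraMap R R' y) hx'
  -- the extension of `P` is the colon ideal upstairs
  have hmap : P.map (algebraMap R R') = Ideal.span {a} := by
    apply le_antisymm
    · rw [Ideal.map_le_iff_le_comap]
      intro r hr
      rw [Ideal.mem_comap, Ideal.mem_span_singleton, ← ha]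
      obtain ⟨s, hs⟩ := (hPmem r).mp hr
      exact ⟨algebraMap R R' s, by rw [← map_mul, ← map_mul, hs]⟩
    · rw [Ideal.span_singleton_le_iff_mem]
      obtain ⟨s', hs'⟩ := (ha a).mpr dvd_rfl
      -- the relation `y • a - x • s' = 0` is trivial by flatness
      obtain ⟨m, c, z, hz, hc⟩ : Module.IsTrivialRelation ![y, -x] ![a, s'] := by
        refine Module.Flat.isTrivialRelation_of_sum_smul_eq_zero ?_
        rw [Fin.sum_univ_two]
        simp only [Matrix.cons_val_zero, Matrix.cons_val_one, Algebra.smul_def, map_neg]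
        linear_combination hs'
      have h0 := hz 0
      simp only [Matrix.cons_val_zero] at h0
      rw [h0]
      refine Ideal.sum_mem _ fun j _ => ?_
      rw [Algebra.smul_def]
      refine Ideal.mul_mem_right _ _ (Ideal.mem_map_of_mem _ ?_)
      rw [hPmem]
      have hcj := hc j
      rw [Fin.sum_univ_two] at hcj
      simp only [Matrix.cons_val_zero, Matrix.cons_val_one] at hcj
      exact ⟨c 1 j, by linear_combination hcj⟩
  have hprin : P.IsPrincipal :=
    Groth.Agent.S17722.result R R' P ⟨⟨a, hmap⟩⟩
  obtain ⟨π, hπ⟩ := hprin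
  change P = Ideal.span {π} at hπ
  have hxP : x ∈ P := hPmin.1.2 (Ideal.mem_span_singleton_self x)
  have hπ0 : π ≠ 0 := by
    rintro rfl
    rw [hπ, Ideal.span_singleton_eq_bot.mpr rfl, Ideal.mem_bot] at hxP
    exact hx0 hxP
  refine ⟨π, hPQ (by rw [hπ]; exact Ideal.mem_span_singleton_self π), ?_⟩
  rw [← Ideal.span_singleton_prime hπ0, ← hπ]
  exact hPprime

end Groth.Agent.S19890
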