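import Groth.Statements.S19891
import Groth.Agent.H76.ValThrough
import Groth.Agent.Lib.Helper78.QCSpecialize

set_option autoImplicit false
universe u
open CategoryTheory AlgebraicGeometry
open ValCrit

namespace Groth.Agent.S19891

/-- Let h : Z → Y and f : Y → X be morphisms of quasi-compact quasi-separated schemes, with h dominant.
Then f is separated if and only if the following refined uniqueness criterion holds: for every point
z of Z, every valuation ring R of the residue field κ(z) and every morphism φ : Spec R → X whose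
restriction to Spec κ(z) is the canonical morphism Spec κ(z) → Z → Y → X, any two morphisms Spec R →
Y lying over φ and restricting to Spec κ(z) → Z → Y on the generic point coincide. (The published
statement does not require h to be dominant; its proof uses that every point of Y generalises to a
point of h(Z), and for Z empty the criterion holds whatever f is, so dominance of h is assumed
here.) -/
theorem result {X Y Z : Scheme.{u}} (h : Z ⟶ Y) (f : Y ⟶ X)
    [CompactSpace ↥Z] [QuasiSeparatedSpace ↥Z] [CompactSpace ↥Y] [QuasiSeparatedSpace ↥Y]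
    [CompactSpace ↥X] [QuasiSeparatedSpace ↥X] (hd : DenseRange h.base) :
    IsSeparated f ↔
      ∀ (z : ↥Z) (R : ValuationSubring ↑(Z.residueField z)) (φ : Spec (CommRingCat.of ↥R) ⟶ X),
        Spec.map (CommRingCat.ofHom R.subtype) ≫ φ = Z.fromSpecResidueField z ≫ h ≫ f →
        ∀ φ₁ φ₂ : Spec (CommRingCat.of ↥R) ⟶ Y,
          Spec.map (CommRingCat.ofHom R.subtype) ≫ φ₁ = Z.fromSpecResidueField z ≫ h → φ₁ ≫ f = φ →
          Spec.map (CommRingCat.ofHom R.subtype) ≫ φ₂ = Z.fromSpecResidueField z ≫ h → φ₂ ≫ f = φ →
          φ₁ = φ₂ := by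
  have hqch : QuasiCompact h := inferInstance
  have hqsf : QuasiSeparated f := inferInstance
  constructor
  · intro hf z R φ hφ φ₁ φ₂ h1 h1' h2 h2'
    have hu := IsSeparated.valuativeCriterion f
    let Sq : ValuativeCommSq f :=
      { R := R, K := Z.residueField z
        i₁ := Z.fromSpecResidueField z ≫ h
        i₂ := φ
        commSq := ⟨by rw [Category.assoc, ← hφ]; rfl⟩ }
    have := hu Sq
    let L₁ : Sq.commSq.LiftStruct := ⟨φ₁, h1, h1'⟩
    let L₂ : Sq.commSq.LiftStruct := ⟨φ₂, h2, h2'⟩
    exact congrArg CommSq.LiftStruct.l (Subsingleton.elim L₁ L₂)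
  · intro H
    have hG : ∀ y : Y, ∃ z : Z, h.base z ⤳ y := fun y =>
      Groth.Agent.Lib.Helper78.exists_specializes_of_mem_closure_range h y
        (by rw [hd.closure_range]; trivial)
    have Hun : ∀ (z : Z) (R : ValuationSubring (Z.residueField z))
        (l₁ l₂ : Spec (CommRingCat.of R) ⟶ Y), l₁ ≫ f = l₂ ≫ f →
        Spec.map (CommRingCat.ofHom R.subtype) ≫ l₁ = Z.fromSpecResidueField z ≫ h →
        Spec.map (CommRingCat.ofHom R.subtype) ≫ l₂ = Z.fromSpecResidueField z ≫ h →
        l₁ = l₂ := by
      intro z R l₁ l₂ h12 h1 h2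
      exact H z R (l₁ ≫ f) (by rw [← Category.assoc, h1, Category.assoc]) l₁ l₂ h1 rfl h2
        h12.symm
    apply IsSeparated.of_valuativeCriterion
    intro Sq
    obtain ⟨z, hz⟩ := hG (Sq.i₁.base (IsLocalRing.closedPoint Sq.K))
    exact Groth.Agent.H76.ValThrough.subsingleton_liftStruct f h Sq z hz (Hun z)

end Groth.Agent.S19891
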