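import Groth.Statements.S19892
import Groth.Agent.H76.ValThrough
import Groth.Agent.Lib.Helper78.QCSpecialize

set_option autoImplicit false
universe u
open CategoryTheory AlgebraicGeometry
open ValCrit

namespace Groth.Agent.S19892

/-- Let h : Z → Y and f : Y → X be morphisms of quasi-compact quasi-separated schemes, with h dominant
and f locally of finite type. Then f is proper if and only if the following refined valuative
criterion holds: for every point z of Z, every valuation ring R of the residue field κ(z) and every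
morphism φ : Spec R → X whose restriction to Spec κ(z) is the canonical morphism Spec κ(z) → Z → Y →
X, there is exactly one morphism Spec R → Y lying over φ and restricting to Spec κ(z) → Z → Y on the
generic point. (The published statement does not require h to be dominant; its proof uses that every
point of Y generalises to a point of h(Z), and for Z empty the criterion holds whatever f is, so
dominance of h is assumed here.) -/
theorem result {X Y Z : Scheme.{u}} (h : Z ⟶ Y) (f : Y ⟶ X)
    [CompactSpace ↥Z] [QuasiSeparatedSpace ↥Z] [CompactSpace ↥Y] [QuasiSeparatedSpace ↥Y]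
    [CompactSpace ↥X] [QuasiSeparatedSpace ↥X] (hd : DenseRange h.base)
    [LocallyOfFiniteType f] :
    IsProper f ↔
      ∀ (z : ↥Z) (R : ValuationSubring ↑(Z.residueField z)) (φ : Spec (CommRingCat.of ↥R) ⟶ X),
        Spec.map (CommRingCat.ofHom R.subtype) ≫ φ = Z.fromSpecResidueField z ≫ h ≫ f →
        ∃! φ' : Spec (CommRingCat.of ↥R) ⟶ Y,
          Spec.map (CommRingCat.ofHom R.subtype) ≫ φ' = Z.fromSpecResidueField z ≫ h ∧ φ' ≫ f = φ := by
  have hqcf : QuasiCompact f := inferInstance
  have hqch : QuasiCompact h := inferInstance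
  have hqsf : QuasiSeparated f := inferInstance
  constructor
  · intro hf z R φ hφ
    have hex : ValuativeCriterion.Existence f :=
      (UniversallyClosed.eq_valuativeCriterion ▸ (inferInstance : UniversallyClosed f)).1
    have hu := IsSeparated.valuativeCriterion f
    let Sq : ValuativeCommSq f :=
      { R := R, K := Z.residueField z
        i₁ := Z.fromSpecResidueField z ≫ h
        i₂ := φ
        commSq := ⟨by rw [Category.assoc, ← hφ]; rfl⟩ }
    obtain ⟨l, hl₁, hl₂⟩ := (hex Sq).exists_lift
    refine ⟨l, ⟨hl₁, hl₂⟩, ?_⟩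
    rintro l' ⟨h1, h2⟩
    have := hu Sq
    let L₁ : Sq.commSq.LiftStruct := ⟨l, hl₁, hl₂⟩
    let L₂ : Sq.commSq.LiftStruct := ⟨l', h1, h2⟩
    exact congrArg CommSq.LiftStruct.l (Subsingleton.elim L₂ L₁)
  · intro H
    have hG : ∀ y : Y, ∃ z : Z, h.base z ⤳ y := fun y =>
      Groth.Agent.Lib.Helper78.exists_specializes_of_mem_closure_range h y
        (by rw [hd.closure_range]; trivial)
    have Hex : ∀ (z : Z) (R : ValuationSubring (Z.residueField z))
        (y : Spec (CommRingCat.of R) ⟶ X),
        Spec.map (CommRingCat.ofHom R.subtype) ≫ y = Z.fromSpecResidueField z ≫ h ≫ f →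
        ∃ l : Spec (CommRingCat.of R) ⟶ Y, l ≫ f = y ∧
          Spec.map (CommRingCat.ofHom R.subtype) ≫ l = Z.fromSpecResidueField z ≫ h := by
      intro z R y hy
      obtain ⟨l, ⟨hl1, hl2⟩, -⟩ := H z R y hy
      exact ⟨l, hl2, hl1⟩
    have Hun : ∀ (z : Z) (R : ValuationSubring (Z.residueField z))
        (l₁ l₂ : Spec (CommRingCat.of R) ⟶ Y), l₁ ≫ f = l₂ ≫ f →
        Spec.map (CommRingCat.ofHom R.subtype) ≫ l₁ = Z.fromSpecResidueField z ≫ h →
        Spec.map (CommRingCat.ofHom R.subtype) ≫ l₂ = Z.fromSpecResidueField z ≫ h →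
        l₁ = l₂ := by
      intro z R l₁ l₂ h12 h1 h2
      obtain ⟨l, -, hl⟩ := H z R (l₁ ≫ f) (by rw [← Category.assoc, h1, Category.assoc])
      rw [hl l₁ ⟨h1, rfl⟩, hl l₂ ⟨h2, h12.symm⟩]
    have hsep : IsSeparated f := by
      apply IsSeparated.of_valuativeCriterion
      intro Sq
      obtain ⟨z, hz⟩ := hG (Sq.i₁.base (IsLocalRing.closedPoint Sq.K))
      exact Groth.Agent.H76.ValThrough.subsingleton_liftStruct f h Sq z hz (Hun z)
    have huc : UniversallyClosed f := by
      apply UniversallyClosed.of_valuativeCriterion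
      intro Sq
      obtain ⟨z, hz⟩ := hG (Sq.i₁.base (IsLocalRing.closedPoint Sq.K))
      exact Groth.Agent.H76.ValThrough.hasLift_of_lifts f h Sq z hz (Hex z) (Hun z)
    exact { }

end Groth.Agent.S19892
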