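import Groth.Statements.S19895
import Mathlib
import Groth.Agent.Lib.Helper91.VerlindeAux

set_option autoImplicit false
open Complex
open VerlindeComb

open Finset
open Groth.Agent.S18377 Groth.Agent.Lib.Helper91.VerlindeCore Groth.Agent.Lib.Helper91.VerlindeAux

namespace Groth.Agent.S19895

/-- Fix integers r ≥ 2 and k ≥ 1, and two partitions λ, λ' with k ≥ λ_1 ≥ ⋯ ≥ λ_{r-1} ≥ λ_r = 0 and k ≥
λ'_1 ≥ ⋯ ≥ λ'_{r-1} ≥ λ'_r = 0 such that λ is not equivalent to the dual partition λ'* = (k − λ'_r,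
…, k − λ'_1), two integer vectors being equivalent when their difference is a constant vector (a, …,
a). For an integer vector v with r + k > v_1 > ⋯ > v_{r-1} > v_r = 0 put z(v)_j = exp(2πi v_j / (r +
k)), let S_μ(v) = det(z(v)_j^{μ_i + r − i}) / det(z(v)_j^{r − i}) be the Schur value and P(v) =
∏_{i<j} (2 sin(π (v_i − v_j)/(r + k)))². Then the sum over all such v of exp(−2πi (|λ| + |λ'|) (v_1
+ ⋯ + v_r) / (r (r + k))) · S_λ(v) · S_{λ'}(v) · P(v) vanishes; that is, the genus-zero Verlinde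
number of rank r, degree 0 and level k with two parabolic points of types λ, λ' is zero. (Only the
vanishing case is stated; the complementary case, where the number equals 1, is not part of this
statement. The source allows r = 1, where the non-equivalence hypothesis cannot hold.) Indices are
0-based below: lam i stands for λ_{i+1}. -/
theorem result (r k : ℕ) (hr : 2 ≤ r)
    (hk : 1 ≤ k) (lam lam' : Fin r → ℕ) (hlam : Antitone lam) (hlamk : ∀ i, lam i ≤ k)
    (hlam0 : ∀ i : Fin r, (i : ℕ) = r - 1 → lam i = 0)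
    (hlam' : Antitone lam') (hlam'k : ∀ i, lam' i ≤ k) (hlam'0 : ∀ i : Fin r, (i : ℕ) = r - 1 → lam' i = 0)
    (hne : ¬ ∃ a : ℤ, ∀ i, (lam i : ℤ) - ((k - lam' (Fin.rev i) : ℕ) : ℤ) = a)
    (z : (Fin r → ℕ) → Fin r → ℂ)
    (hz : ∀ v j, z v j = Complex.exp (2 * Real.pi * Complex.I * (v j : ℂ) / ((r : ℂ) + k)))
    (S : (Fin r → ℕ) → (Fin r → ℕ) → ℂ)
    (hS : ∀ μ v, S μ v = (Matrix.of fun i j : Fin r => z v j ^ (μ i + (r - 1 - (i : ℕ)))).det /
        (Matrix.of fun i j : Fin r => z v j ^ (r - 1 - (i : ℕ))).det)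
    (P : (Fin r → ℕ) → ℝ)
    (hP : ∀ v, P v = ∏ p ∈ (Finset.univ : Finset (Fin r × Fin r)).filter (fun p => p.1 < p.2),
        ((2 : ℝ) * Real.sin (Real.pi * ((v p.1 : ℝ) - (v p.2 : ℝ)) / ((r : ℝ) + k))) ^ 2) :
    (∑ v ∈ (Finset.univ : Finset (Fin r → Fin (r + k))).filter
        (fun v : Fin r → Fin (r + k) => StrictAnti v ∧ ∀ i : Fin r, (i : ℕ) = r - 1 → (v i : ℕ) = 0),
      Complex.exp (-(2 * Real.pi * Complex.I * (((∑ i, lam i) + (∑ i, lam' i) : ℕ) : ℂ) *
          ((∑ j, (v j : ℕ) : ℕ) : ℂ) / ((r : ℂ) * ((r : ℂ) + k)))) *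
        S lam (fun j => (v j : ℕ)) * S lam' (fun j => (v j : ℕ)) * (P (fun j => (v j : ℕ)) : ℂ)) = 0 := by
  classical
  obtain ⟨r', rfl⟩ : ∃ r', r = r' + 1 := ⟨r - 1, by omega⟩
  have hN : r' + 1 + k ≠ 0 := by omega
  haveI : NeZero (r' + 1 + k) := ⟨hN⟩
  set N := r' + 1 + k with hNdef
  have hNC : ((N : ℕ) : ℂ) = ((r' + 1 : ℕ) : ℂ) + k := by rw [hNdef]; push_cast; ring
  set ζ := Groth.Agent.S18379.zeta N with hζ
  have hζ0 : ζ ≠ 0 := Groth.Agent.S18379.zeta_ne_zero N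
  have hζN : ζ ^ N = 1 := Groth.Agent.S18379.zeta_pow_N N
  -- exponents
  set e : Fin (r' + 1) → ℕ := fun i => lam i + dl (r' + 1) i with he
  set e' : Fin (r' + 1) → ℕ := fun i => lam' i + dl (r' + 1) i with he'
  set b : Fin (r' + 1) → ℕ := fun i => N - 1 - e' (Fin.rev i) with hb
  have he'bound : ∀ i, e' i ≤ N - 1 := by
    intro i
    have := hlam'k i
    have := i.isLt
    simp only [he', dl]
    omega
  have hb_eq : ∀ i : Fin (r' + 1), b i = (k - lam' (Fin.rev i)) + dl (r' + 1) i := by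
    intro i
    have := hlam'k (Fin.rev i)
    have := i.isLt
    simp only [hb, he', dl, Fin.val_rev]
    omega
  have he_anti : StrictAnti e := by
    intro i j hij
    have h1 : lam j ≤ lam i := hlam hij.le
    have h2 : (i : ℕ) < (j : ℕ) := hij
    have := j.isLt
    simp only [he, dl]
    omega
  have hb_anti : StrictAnti b := by
    intro i j hij
    rw [hb_eq, hb_eq]
    have h1 : lam' (Fin.rev i) ≤ lam' (Fin.rev j) := hlam' (Fin.rev_le_rev.mpr hij.le)
    have h2 : (i : ℕ) < (j : ℕ) := hij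
    have := j.isLt
    have := hlam'k (Fin.rev j)
    simp only [dl]
    omega
  have heN : ∀ i, e i < N := by
    intro i
    have := hlamk i
    have := i.isLt
    simp only [he, dl]
    omega
  have hbN : ∀ i, b i < N := by
    intro i
    simp only [hb]
    omega
  have hne' : ¬ ∃ m : ℤ, ∀ i, (e i : ℤ) - (b i : ℤ) = m := by
    rintro ⟨m, hm⟩
    apply hne
    refine ⟨m, fun i => ?_⟩
    have := hm i
    rw [hb_eq] at this
    simp only [he] at this
    push_cast at this ⊢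
    linarith
  -- the twist
  set t : ℂ := Complex.exp (-(2 * Real.pi * Complex.I *
      (((∑ i, e i : ℕ) : ℂ) - ((∑ i, b i : ℕ) : ℂ)) / (((r' + 1 : ℕ) : ℂ) * (N : ℂ)))) with ht
  have hcore := core r' N e b he_anti hb_anti heN hbN hne' t ht
  -- the difference of the sums
  have hdiff : (((∑ i, e i : ℕ) : ℂ) - ((∑ i, b i : ℕ) : ℂ)) =
      (((∑ i, lam i) + (∑ i, lam' i) : ℕ) : ℂ) - ((r' + 1 : ℕ) : ℂ) * (k : ℂ) := by
    have h1 : ∀ i : Fin (r' + 1), ((b i : ℕ) : ℂ) = (k : ℂ) - (lam' (Fin.rev i) : ℂ) + (dl (r' + 1) i : ℂ) := by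
      intro i
      rw [hb_eq, Nat.cast_add, Nat.cast_sub (hlam'k _)]
    have h2 : ∑ i : Fin (r' + 1), (lam' (Fin.rev i) : ℂ) = ∑ i : Fin (r' + 1), (lam' i : ℂ) :=
      Equiv.sum_comp (Fin.revPerm : Equiv.Perm (Fin (r' + 1))) (fun i => (lam' i : ℂ))
    push_cast
    simp_rw [h1]
    simp only [he]
    push_cast
    rw [Finset.sum_add_distrib, Finset.sum_add_distrib, Finset.sum_sub_distrib, h2, Finset.sum_const,
      Finset.card_univ, Fintype.card_fin]
    simp only [nsmul_eq_mul]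
    push_cast
    ring
  -- rewrite each term
  have hterm : ∀ v ∈ (Finset.univ : Finset (Fin (r' + 1) → Fin (r' + 1 + k))).filter
        (fun v : Fin (r' + 1) → Fin (r' + 1 + k) =>
          StrictAnti v ∧ ∀ i : Fin (r' + 1), (i : ℕ) = r' + 1 - 1 → (v i : ℕ) = 0),
      Complex.exp (-(2 * Real.pi * Complex.I * (((∑ i, lam i) + (∑ i, lam' i) : ℕ) : ℂ) *
          ((∑ j, (v j : ℕ) : ℕ) : ℂ) / (((r' + 1 : ℕ) : ℂ) * (((r' + 1 : ℕ) : ℂ) + k)))) *
        S lam (fun j => (v j : ℕ)) * S lam' (fun j => (v j : ℕ)) * (P (fun j => (v j : ℕ)) : ℂ) =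
      (fun vn : Fin (r' + 1) → ℕ => t ^ (∑ i, vn i) * gv (fun j => ζ ^ e j) vn *
        (starRingEnd ℂ) (gv (fun j => ζ ^ b j) vn)) (fun j => (v j : ℕ)) := by
    intro v hv
    simp only [Finset.mem_filter, Finset.mem_univ, true_and] at hv
    set vn : Fin (r' + 1) → ℕ := fun j => (v j : ℕ) with hvn
    have hvn_anti : StrictAnti vn := fun a b hab => hv.1 hab
    have hvn_lt : ∀ i, vn i < r' + 1 + k := fun i => (v i).isLt
    obtain ⟨hzζ, hzN, hd0, hdd⟩ := nodes_facts (r' + 1) k hN vn hvn_anti.injective hvn_lt (z vn)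
      (fun j => by rw [hz])
    have hzfun : z vn = fun j => ζ ^ vn j := funext hzζ
    set d := gv (z vn) (dl (r' + 1)) with hd
    have hS1 : S lam vn = gv (fun j => ζ ^ e j) vn / d := by
      rw [hS, gv_symm ζ e vn, ← hzfun]
      rfl
    have hS2' : S lam' vn = gv (z vn) e' / d := by
      rw [hS]
      rfl
    -- gv B vn
    have hB : gv (fun j => ζ ^ b j) vn =
        (∏ j, z vn j)⁻¹ * (eps (r' + 1) * (starRingEnd ℂ) (gv (z vn) e')) := by
      rw [gv_symm ζ b vn, ← hzfun]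
      exact gv_compl_rev N (z vn) hN hzN e' he'bound
    have hZc := conj_prod_z N (z vn) hN hzN
    have hZ0 : (∏ j, z vn j) ≠ 0 :=
      Finset.prod_ne_zero_iff.mpr fun j _ => z_ne_zero N (z vn) hN hzN j
    have hB' : (starRingEnd ℂ) (gv (fun j => ζ ^ b j) vn) =
        (∏ j, z vn j) * (eps (r' + 1) * gv (z vn) e') := by
      rw [hB, map_mul, map_inv₀, hZc, inv_inv, map_mul, conj_eps, Complex.conj_conj]
    have hdconj := conj_gv_dl N (z vn) hN hzN k hNdef
    have hPc : ((P vn : ℝ) : ℂ) = d * (starRingEnd ℂ) d := by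
      rw [hdd, hP]
    have hZpow : (∏ j, z vn j) = ζ ^ (∑ j, vn j) := by
      rw [hzfun, Finset.prod_pow_eq_pow_sum]
    -- the phase
    have hphase : Complex.exp (-(2 * Real.pi * Complex.I * (((∑ i, lam i) + (∑ i, lam' i) : ℕ) : ℂ) *
          ((∑ j, (v j : ℕ) : ℕ) : ℂ) / (((r' + 1 : ℕ) : ℂ) * (((r' + 1 : ℕ) : ℂ) + k)))) *
        (∏ j, z vn j) ^ k = t ^ (∑ i, vn i) := by
      rw [hZpow, ← pow_mul, ht, hdiff, ← Complex.exp_nat_mul, hζ, Groth.Agent.S18379.zeta,
        ← Complex.exp_nat_mul, ← Complex.exp_add, hNC]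
      congr 1
      have hr0 : ((r' + 1 : ℕ) : ℂ) ≠ 0 := Nat.cast_ne_zero.mpr (by omega)
      have hN0 : ((r' + 1 : ℕ) : ℂ) + k ≠ 0 := by rw [← hNC]; exact Nat.cast_ne_zero.mpr hN
      push_cast
      field_simp
      ring
    have hε := eps_mul_self (r' + 1)
    simp only []
    rw [← hphase, hS1, hS2', hPc, hB', hdconj]
    rw [← hd]
    field_simp
    ring
  rw [Finset.sum_congr rfl hterm]
  rw [sum_strictAnti_eq_sum_strictMono r' N
    (fun vn : Fin (r' + 1) → ℕ => t ^ (∑ i, vn i) * gv (fun j => ζ ^ e j) vn *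
        (starRingEnd ℂ) (gv (fun j => ζ ^ b j) vn))]
  rw [← hcore]
  refine Finset.sum_congr rfl fun w _ => ?_
  simp only []
  rw [gv_comp_rev (fun j => ζ ^ e j) (fun i => (w i : ℕ)),
    gv_comp_rev (fun j => ζ ^ b j) (fun i => (w i : ℕ)), map_mul, conj_eps]
  have hsumrev : ∑ i : Fin (r' + 1), ((w (Fin.rev i) : Fin N) : ℕ) = ∑ i : Fin (r' + 1), (w i : ℕ) :=
    Equiv.sum_comp (Fin.revPerm : Equiv.Perm (Fin (r' + 1))) (fun i => (w i : ℕ))
  rw [hsumrev]
  have hε := eps_mul_self (r' + 1)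
  linear_combination (t ^ (∑ i, (w i : ℕ)) * gv (fun j => ζ ^ e j) (fun i => (w i : ℕ)) *
    (starRingEnd ℂ) (gv (fun j => ζ ^ b j) (fun i => (w i : ℕ)))) * hε

end Groth.Agent.S19895
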