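import Groth.Statements.S1990
import Groth.Agent.H76.RamTower

set_option autoImplicit false
universe u
open EtAlg

namespace Groth.Agent.S1990

/-- Let K be the fraction field of a discrete valuation ring A, and K ⊂ L ⊂ M finite separable
extensions. If L/K is tamely ramified (resp. unramified) with respect to A and M/L is tamely
ramified (resp. unramified) with respect to every valuation subring of L dominating A, then M/K is
tamely ramified (resp. unramified) with respect to A. -/
theorem result (A K : Type u) [CommRing A] [IsDomain A] [IsDiscreteValuationRing A] [Field K] [Algebra A K] [IsFractionRing A K] (L M : Type u) [Field L] [Field M]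
    [Algebra K L] [Algebra K M] [Algebra L M] [IsScalarTower K L M] [FiniteDimensional K M] [Algebra.IsSeparable K M] :
    (EtRam.IsTamelyRamified A ((algebraMap K L).comp (algebraMap A K)) →
      (∀ (V : ValuationSubring L), EtRam.Dominates A ((algebraMap K L).comp (algebraMap A K)) V →
        EtRam.IsTamelyRamified V ((algebraMap L M).comp V.subtype)) →
      EtRam.IsTamelyRamified A ((algebraMap K M).comp (algebraMap A K))) ∧
    (EtRam.IsUnramifiedExt A ((algebraMap K L).comp (algebraMap A K)) →
      (∀ (V : ValuationSubring L), EtRam.Dominates A ((algebraMap K L).comp (algebraMap A K)) V →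
        EtRam.IsUnramifiedExt V ((algebraMap L M).comp V.subtype)) →
      EtRam.IsUnramifiedExt A ((algebraMap K M).comp (algebraMap A K))) := by
  have hfin : FiniteDimensional K L := FiniteDimensional.left K L M
  have hsepL : Algebra.IsSeparable K L := Algebra.isSeparable_tower_bot_of_isSeparable K L M
  have hcomp : (algebraMap K M).comp (algebraMap A K) =
      (algebraMap L M).comp ((algebraMap K L).comp (algebraMap A K)) := by
    rw [← RingHom.comp_assoc, ← IsScalarTower.algebraMap_eq K L M]
  have hg : Function.Injective ((algebraMap K L).comp (algebraMap A K)) :=
    (algebraMap K L).injective.comp (IsFractionRing.injective A K)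
  have hDL : ∀ V : ValuationSubring L,
      EtRam.Dominates A ((algebraMap K L).comp (algebraMap A K)) V → IsDiscreteValuationRing V :=
    fun V hV => Groth.Agent.H76.RamTower.isDiscreteValuationRing_of_dominates A K L V hV
  have hDM : ∀ W : ValuationSubring M,
      EtRam.Dominates A ((algebraMap L M).comp ((algebraMap K L).comp (algebraMap A K))) W →
        IsDiscreteValuationRing W := by
    intro W hW
    rw [← hcomp] at hW
    exact Groth.Agent.H76.RamTower.isDiscreteValuationRing_of_dominates A K M W hW
  rw [hcomp]
  exact ⟨Groth.Agent.H76.RamTower.isTamelyRamified_comp _ _ hg hDL hDM,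
    Groth.Agent.H76.RamTower.isUnramifiedExt_comp _ _⟩

end Groth.Agent.S1990
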