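import Groth.Statements.S19904
import Mathlib

set_option autoImplicit false
universe u v
open CategoryTheory
open ArtFun

namespace Groth.Agent.S19904

/-- For functors F, G, G' on Artinian local Λ-algebras with residue field k and morphisms φ : F → G, ψ :
G' → G: if φ is smooth then the base change F ×_G G' → G' (second projection of the fibre product of
functors) is smooth. -/
theorem result {Λ : Type u} {k : Type u} [CommRing Λ] [Field k] [Algebra Λ k]
    [IsNoetherianRing Λ] [Module.Finite Λ k]
    {F G G' : ArtFun.Art Λ k ⥤ Type v} (φ : F ⟶ G) (ψ : G' ⟶ G) (hφ : ArtFun.IsSmooth φ) :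
    ArtFun.IsSmooth (Limits.pullback.snd φ ψ) := by
  intro B A μ hμ
  rintro ⟨⟨pA, g'B⟩, hcomp⟩
  have hcomp' : (Limits.pullback.snd φ ψ).app A pA = G'.map μ g'B := hcomp
  -- pointwise pullback squares
  have hsq : ∀ X : ArtFun.Art Λ k, IsPullback ((Limits.pullback.fst φ ψ).app X)
      ((Limits.pullback.snd φ ψ).app X) (φ.app X) (ψ.app X) := fun X =>
    (IsPullback.of_hasPullback φ ψ).map ((evaluation _ _).obj X)
  -- the point of F(A) ×_{G(A)} G(B)
  have h1 : φ.app A ((Limits.pullback.fst φ ψ).app A pA) = G.map μ (ψ.app B g'B) := by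
    have := types_congr_hom (hsq A).w pA
    simp only [types_comp_apply] at this
    rw [this, hcomp']
    exact NatTrans.naturality_apply ψ μ g'B
  obtain ⟨fB, hfB⟩ := hφ μ hμ ⟨((Limits.pullback.fst φ ψ).app A pA, ψ.app B g'B), h1⟩
  have hfB1 : F.map μ fB = (Limits.pullback.fst φ ψ).app A pA := congrArg (fun t => t.1.1) hfB
  have hfB2 : φ.app B fB = ψ.app B g'B := congrArg (fun t => t.1.2) hfB
  obtain ⟨pB, hpB1, hpB2⟩ := Limits.Types.exists_of_isPullback (hsq B) fB g'B hfB2
  refine ⟨pB, ?_⟩
  apply Subtype.ext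
  apply Prod.ext
  · change (Limits.pullback φ ψ).map μ pB = pA
    apply Limits.Types.ext_of_isPullback (hsq A)
    · rw [← hfB1, ← hpB1]
      exact NatTrans.naturality_apply (Limits.pullback.fst φ ψ) μ pB
    · rw [hcomp', ← hpB2]
      exact NatTrans.naturality_apply (Limits.pullback.snd φ ψ) μ pB
  · exact hpB2

end Groth.Agent.S19904
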