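import Groth.Statements.S1991
import Mathlib
import Groth.Agent.Lib.Helper9.TameTrans

set_option autoImplicit false
universe u
open EtAlg

namespace Groth.Agent.S1991

open Groth.Agent.Lib.Helper9.TameTrans Groth.Agent.Lib.Helper9.TameBC in
theorem unram_comp (A K : Type u) [CommRing A] [IsDomain A] [IsDiscreteValuationRing A] [Field K]
    [Algebra A K] [IsFractionRing A K] (L₁ L₂ M : Type u) [Field L₁] [Field L₂] [Field M]
    [Algebra K L₁] [Algebra K L₂]
    [Algebra K M] [FiniteDimensional K L₁] [Algebra.IsSeparable K L₁] [FiniteDimensional K L₂]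
    [Algebra.IsSeparable K L₂] [FiniteDimensional K M] [Algebra.IsSeparable K M]
    (i₁ : L₁ →ₐ[K] M) (i₂ : L₂ →ₐ[K] M)
    (hgen : ∀ E : Subfield M, Set.range i₂ ⊆ E → Set.range i₁ ⊆ E → E = ⊤)
    (h₁ : EtRam.IsUnramifiedExt A ((algebraMap K L₁).comp (algebraMap A K)))
    (h₂ : EtRam.IsUnramifiedExt A ((algebraMap K L₂).comp (algebraMap A K))) :
    EtRam.IsUnramifiedExt A ((algebraMap K M).comp (algebraMap A K)) := by
  letI : Algebra A L₁ := ((algebraMap K L₁).comp (algebraMap A K)).toAlgebra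
  haveI : IsScalarTower A K L₁ := IsScalarTower.of_algebraMap_eq (fun _ => rfl)
  letI : Algebra A L₂ := ((algebraMap K L₂).comp (algebraMap A K)).toAlgebra
  haveI : IsScalarTower A K L₂ := IsScalarTower.of_algebraMap_eq (fun _ => rfl)
  letI : Algebra A M := ((algebraMap K M).comp (algebraMap A K)).toAlgebra
  haveI : IsScalarTower A K M := IsScalarTower.of_algebraMap_eq (fun _ => rfl)
  exact unramified_compositum A K L₁ L₂ M i₁ i₂ hgen h₁ h₂

open Groth.Agent.Lib.Helper9.TameTrans Groth.Agent.Lib.Helper9.TameBC in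
theorem tame_comp (A K : Type u) [CommRing A] [IsDomain A] [IsDiscreteValuationRing A] [Field K]
    [Algebra A K] [IsFractionRing A K] (L₁ L₂ M : Type u) [Field L₁] [Field L₂] [Field M]
    [Algebra K L₁] [Algebra K L₂]
    [Algebra K M] [FiniteDimensional K L₁] [Algebra.IsSeparable K L₁] [FiniteDimensional K L₂]
    [Algebra.IsSeparable K L₂] [FiniteDimensional K M] [Algebra.IsSeparable K M]
    (i₁ : L₁ →ₐ[K] M) (i₂ : L₂ →ₐ[K] M)
    (hgen : ∀ E : Subfield M, Set.range i₂ ⊆ E → Set.range i₁ ⊆ E → E = ⊤)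
    (h₁ : EtRam.IsTamelyRamified A ((algebraMap K L₁).comp (algebraMap A K)))
    (h₂ : EtRam.IsTamelyRamified A ((algebraMap K L₂).comp (algebraMap A K))) :
    EtRam.IsTamelyRamified A ((algebraMap K M).comp (algebraMap A K)) := by
  letI : Algebra A L₁ := ((algebraMap K L₁).comp (algebraMap A K)).toAlgebra
  haveI : IsScalarTower A K L₁ := IsScalarTower.of_algebraMap_eq (fun _ => rfl)
  letI : Algebra A L₂ := ((algebraMap K L₂).comp (algebraMap A K)).toAlgebra
  haveI : IsScalarTower A K L₂ := IsScalarTower.of_algebraMap_eq (fun _ => rfl)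
  letI : Algebra A M := ((algebraMap K M).comp (algebraMap A K)).toAlgebra
  haveI : IsScalarTower A K M := IsScalarTower.of_algebraMap_eq (fun _ => rfl)
  exact tame_compositum A K L₁ L₂ M i₁ i₂ hgen h₁ h₂

open Groth.Agent.Lib.Helper9.TameTrans Groth.Agent.Lib.Helper9.TameBC in
/-- A compositum of two finite separable extensions. -/
theorem exists_common (K L₁ L₂ : Type u) [Field K] [Field L₁] [Field L₂] [Algebra K L₁]
    [Algebra K L₂] [FiniteDimensional K L₁] [FiniteDimensional K L₂] [Algebra.IsSeparable K L₁]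
    [Algebra.IsSeparable K L₂] :
    ∃ (M : Type u) (_ : Field M) (_ : Algebra K M) (_ : FiniteDimensional K M)
      (_ : Algebra.IsSeparable K M) (i₁ : L₁ →ₐ[K] M) (i₂ : L₂ →ₐ[K] M),
      ∀ E : Subfield M, Set.range i₂ ⊆ E → Set.range i₁ ⊆ E → E = ⊤ := by
  obtain ⟨M, fM, aL₁M, jK, hfd, hsep, hcompat, hgen⟩ := exists_compositum K L₁ L₂
  letI algKM : Algebra K M := ((algebraMap L₁ M).comp (algebraMap K L₁)).toAlgebra
  haveI tow : IsScalarTower K L₁ M := IsScalarTower.of_algebraMap_eq (fun _ => rfl)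
  have hfdK : FiniteDimensional K M := Module.Finite.trans L₁ M
  have hsepK : Algebra.IsSeparable K M := Algebra.IsSeparable.trans K L₁ M
  let i₂ : L₂ →ₐ[K] M := { toRingHom := jK, commutes' := fun k => hcompat k }
  refine ⟨M, fM, algKM, hfdK, hsepK, IsScalarTower.toAlgHom K L₁ M, i₂, fun E h2 h1 => ?_⟩
  exact hgen E (fun x => h1 ⟨x, rfl⟩) (fun y => h2 ⟨y, rfl⟩)

/-- Let A be a discrete valuation ring with fraction field K. A finite separable extension L/K that is
unramified (resp. tamely ramified) with respect to A embeds over K into a finite Galois extension of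
K that is unramified (resp. tamely ramified) with respect to A; and two finite separable extensions
of K that are unramified (resp. tamely ramified) with respect to A embed over K into a common finite
separable extension with the same property. -/
theorem result (A K : Type u) [CommRing A] [IsDomain A] [IsDiscreteValuationRing A] [Field K] [Algebra A K] [IsFractionRing A K] :
    (∀ (L : Type u) [Field L] [Algebra K L] [FiniteDimensional K L] [Algebra.IsSeparable K L],
      (EtRam.IsUnramifiedExt A ((algebraMap K L).comp (algebraMap A K)) →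
        ∃ (M : Type u) (_ : Field M) (_ : Algebra K M) (_ : FiniteDimensional K M) (_ : IsGalois K M) (_ : L →ₐ[K] M),
          EtRam.IsUnramifiedExt A ((algebraMap K M).comp (algebraMap A K))) ∧
      (EtRam.IsTamelyRamified A ((algebraMap K L).comp (algebraMap A K)) →
        ∃ (M : Type u) (_ : Field M) (_ : Algebra K M) (_ : FiniteDimensional K M) (_ : IsGalois K M) (_ : L →ₐ[K] M),
          EtRam.IsTamelyRamified A ((algebraMap K M).comp (algebraMap A K)))) ∧
    (∀ (L₁ L₂ : Type u) [Field L₁] [Field L₂] [Algebra K L₁] [Algebra K L₂] [FiniteDimensional K L₁] [FiniteDimensional K L₂]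
      [Algebra.IsSeparable K L₁] [Algebra.IsSeparable K L₂],
      (EtRam.IsUnramifiedExt A ((algebraMap K L₁).comp (algebraMap A K)) →
        EtRam.IsUnramifiedExt A ((algebraMap K L₂).comp (algebraMap A K)) →
        ∃ (M : Type u) (_ : Field M) (_ : Algebra K M) (_ : FiniteDimensional K M) (_ : Algebra.IsSeparable K M)
          (_ : L₁ →ₐ[K] M) (_ : L₂ →ₐ[K] M), EtRam.IsUnramifiedExt A ((algebraMap K M).comp (algebraMap A K))) ∧
      (EtRam.IsTamelyRamified A ((algebraMap K L₁).comp (algebraMap A K)) →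
        EtRam.IsTamelyRamified A ((algebraMap K L₂).comp (algebraMap A K)) →
        ∃ (M : Type u) (_ : Field M) (_ : Algebra K M) (_ : FiniteDimensional K M) (_ : Algebra.IsSeparable K M)
          (_ : L₁ →ₐ[K] M) (_ : L₂ →ₐ[K] M), EtRam.IsTamelyRamified A ((algebraMap K M).comp (algebraMap A K)))) := by
  refine ⟨fun L _ _ _ _ => ⟨fun h => ?_, fun h => ?_⟩, fun L₁ L₂ _ _ _ _ _ _ _ _ => ⟨fun h₁ h₂ => ?_, fun h₁ h₂ => ?_⟩⟩
  · exact Groth.Agent.Lib.Helper9.TameTrans.galois_closure A K
      (fun M _ g => EtRam.IsUnramifiedExt A g) (unram_comp A K) L h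
  · exact Groth.Agent.Lib.Helper9.TameTrans.galois_closure A K
      (fun M _ g => EtRam.IsTamelyRamified A g) (tame_comp A K) L h
  · obtain ⟨M, fM, aM, hfd, hsep, i₁, i₂, hgen⟩ := exists_common K L₁ L₂
    exact ⟨M, fM, aM, hfd, hsep, i₁, i₂, unram_comp A K L₁ L₂ M i₁ i₂ hgen h₁ h₂⟩
  · obtain ⟨M, fM, aM, hfd, hsep, i₁, i₂, hgen⟩ := exists_common K L₁ L₂
    exact ⟨M, fM, aM, hfd, hsep, i₁, i₂, tame_comp A K L₁ L₂ M i₁ i₂ hgen h₁ h₂⟩

end Groth.Agent.S1991
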