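import Groth.Statements.S19912
import Mathlib
import Groth.Agent.Lib.Helper59.RegQuot

set_option autoImplicit false
universe u
open CategoryTheory CategoryTheory.Limits AlgebraicGeometry
open Models

namespace Groth.Agent.S19912

/-- Let R be a discrete valuation ring with fraction field K and YR a scheme over Spec R. Let V be a
discrete valuation ring which is an R-algebra in such a way that the maximal ideal of R generates
the maximal ideal of V (ramification index one), and let σ : Spec V -> YR be a morphism over Spec R
sending the closed point of Spec V to y. If the local ring of YR at y is regular, then the local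
ring at y of the special fibre of YR, namely O_{YR,y}/𝔪_R O_{YR,y}, is regular. (The published
statement takes YR a normal projective flat model of a smooth projective geometrically connected
curve Y over K and phrases the hypothesis through a point Q of Y rational over an extension L of K
unramified over K with y in the closure of Q: by the valuative criterion such a point yields a
morphism as above from the spectrum of the localization of the integral closure of R in L at a
maximal ideal over y, which is the form used here.) -/
theorem result
    (R : Type u) [CommRing R] [IsDomain R] [IsDiscreteValuationRing R]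
    (YR : Over (Spec (CommRingCat.of R)))
    (V : Type u) [CommRing V] [IsDomain V] [IsDiscreteValuationRing V] [Algebra R V]
    (hV : Ideal.map (algebraMap R V) (IsLocalRing.maximalIdeal R) = IsLocalRing.maximalIdeal V)
    (σ : Spec (CommRingCat.of V) ⟶ YR.left)
    (hσ : σ ≫ YR.hom = Spec.map (CommRingCat.ofHom (algebraMap R V)))
    (y : YR.left) (hy : σ.base (IsLocalRing.closedPoint V) = y)
    (hreg : IsRegularLocalRing (YR.left.presheaf.stalk y)) :
    IsRegularLocalRing (YR.left.presheaf.stalk y ⧸
      Ideal.map (Models.stalkHom R YR y) (IsLocalRing.maximalIdeal R)) := by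
  subst hy
  let algW : Algebra V ((Spec (CommRingCat.of V)).presheaf.stalk (IsLocalRing.closedPoint V)) :=
    StructureSheaf.stalkAlgebra V (IsLocalRing.closedPoint V)
  have locW : IsLocalization.AtPrime
      ((Spec (CommRingCat.of V)).presheaf.stalk (IsLocalRing.closedPoint V))
      (IsLocalRing.closedPoint V).asIdeal :=
    StructureSheaf.IsLocalization.to_stalk V (IsLocalRing.closedPoint V)
  have key : ∀ r : R, (σ.stalkMap (IsLocalRing.closedPoint V)).hom
      (Models.stalkHom R YR (σ.base (IsLocalRing.closedPoint V)) r) =
      algebraMap V ((Spec (CommRingCat.of V)).presheaf.stalk (IsLocalRing.closedPoint V))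
        (algebraMap R V r) := by
    intro r
    have h1 := Scheme.Hom.germ_stalkMap_apply σ ⊤ (IsLocalRing.closedPoint V) trivial
      (Coh.toGlobal YR.hom r)
    refine h1.trans ?_
    have h2 : σ.app ⊤ (Coh.toGlobal YR.hom r) =
        (Scheme.ΓSpecIso (CommRingCat.of V)).inv (algebraMap R V r) := by
      have h3 : (Scheme.ΓSpecIso (CommRingCat.of R)).inv ≫ (σ ≫ YR.hom).appTop =
          CommRingCat.ofHom (algebraMap R V) ≫ (Scheme.ΓSpecIso (CommRingCat.of V)).inv := by
        rw [hσ]
        exact (Scheme.ΓSpecIso_inv_naturality (CommRingCat.ofHom (algebraMap R V))).symm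
      exact congrArg (fun g => g.hom r) h3
    rw [h2]
    rfl
  let e : V ≃ₐ[V] ((Spec (CommRingCat.of V)).presheaf.stalk (IsLocalRing.closedPoint V)) :=
    IsLocalization.atUnits V (IsLocalRing.closedPoint V).asIdeal.primeCompl (by
      intro s hs
      exact (IsUnit.mem_submonoid_iff s).mpr (IsLocalRing.notMem_maximalIdeal.mp hs))
  let ρ : YR.left.presheaf.stalk (σ.base (IsLocalRing.closedPoint V)) →+* V :=
    (e.symm : _ →+* V).comp (σ.stalkMap (IsLocalRing.closedPoint V)).hom
  have hρ : ∀ r : R, ρ (Models.stalkHom R YR _ r) = algebraMap R V r := by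
    intro r
    show e.symm ((σ.stalkMap (IsLocalRing.closedPoint V)).hom (Models.stalkHom R YR _ r)) = _
    rw [key, AlgEquiv.commutes]
    rfl
  have hρunit : ∀ a, IsUnit (ρ a) → IsUnit a := by
    intro a ha
    have h1 : IsUnit ((σ.stalkMap (IsLocalRing.closedPoint V)).hom a) := by
      have := ha.map e
      simpa [ρ] using this
    have hloc : IsLocalHom (σ.stalkMap (IsLocalRing.closedPoint V)).hom :=
      σ.prop (IsLocalRing.closedPoint V)
    exact hloc.map_nonunit a h1
  have := hreg
  have hρm : ∀ a ∈ IsLocalRing.maximalIdeal
      (YR.left.presheaf.stalk (σ.base (IsLocalRing.closedPoint V))),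
      ρ a ∈ IsLocalRing.maximalIdeal V := by
    intro a ha
    rw [IsLocalRing.mem_maximalIdeal, mem_nonunits_iff] at ha ⊢
    exact fun h => ha (hρunit a h)
  obtain ⟨π, hπ⟩ := IsDiscreteValuationRing.exists_irreducible R
  have hmR : IsLocalRing.maximalIdeal R = Ideal.span {π} := hπ.maximalIdeal_eq
  have hV' : Ideal.span {algebraMap R V π} = IsLocalRing.maximalIdeal V := by
    rw [← hV, hmR, Ideal.map_span, Set.image_singleton]
  have hϖmem : algebraMap R V π ∈ IsLocalRing.maximalIdeal V := by
    rw [← hV']; exact Ideal.mem_span_singleton_self _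
  have hϖnu : ¬ IsUnit (algebraMap R V π) := by
    rw [IsLocalRing.mem_maximalIdeal, mem_nonunits_iff] at hϖmem
    exact hϖmem
  have hϖ0 : algebraMap R V π ≠ 0 := by
    intro h0
    apply IsDiscreteValuationRing.not_a_field V
    rw [← hV', h0, Ideal.span_singleton_eq_bot]
  have hϖsq : algebraMap R V π ∉ IsLocalRing.maximalIdeal V ^ 2 := by
    intro h
    rw [← hV', Ideal.span_singleton_pow, Ideal.mem_span_singleton'] at h
    obtain ⟨t, ht⟩ := h
    have h1 : algebraMap R V π * (t * algebraMap R V π - 1) = 0 := by linear_combination ht
    rcases mul_eq_zero.mp h1 with h2 | h2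
    · exact hϖ0 h2
    · exact hϖnu (IsUnit.of_mul_eq_one t (by linear_combination h2))
  have hmap : Ideal.map (Models.stalkHom R YR (σ.base (IsLocalRing.closedPoint V)))
      (IsLocalRing.maximalIdeal R) =
      Ideal.span {Models.stalkHom R YR (σ.base (IsLocalRing.closedPoint V)) π} := by
    rw [hmR, Ideal.map_span, Set.image_singleton]
  rw [hmap]
  apply Lib.Helper59.RegQuot.isRegularLocalRing_quot
  · rw [IsLocalRing.mem_maximalIdeal, mem_nonunits_iff]
    intro hu
    have := hu.map ρ
    rw [hρ] at this
    exact hϖnu this
  · intro h2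
    have h3 : ρ (Models.stalkHom R YR (σ.base (IsLocalRing.closedPoint V)) π) ∈
        Ideal.map ρ (IsLocalRing.maximalIdeal
          (YR.left.presheaf.stalk (σ.base (IsLocalRing.closedPoint V))) ^ 2) :=
      Ideal.mem_map_of_mem ρ h2
    rw [Ideal.map_pow] at h3
    have h4 : Ideal.map ρ (IsLocalRing.maximalIdeal
        (YR.left.presheaf.stalk (σ.base (IsLocalRing.closedPoint V)))) ≤
        IsLocalRing.maximalIdeal V :=
      Ideal.map_le_iff_le_comap.mpr (fun a ha => hρm a ha)
    have h5 := Ideal.pow_right_mono h4 2 h3
    rw [hρ] at h5
    exact hϖsq h5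

end Groth.Agent.S19912
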