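import Groth.Statements.S1992
import Mathlib.RingTheory.Localization.Integral
import Mathlib.RingTheory.Polynomial.ScaleRoots
import Mathlib.FieldTheory.IsSepClosed

set_option autoImplicit false
universe u
open Polynomial
open EtAlg

namespace Groth.Agent.S1992

/-- Over the localization at `p` of an absolutely integrally closed ring, every monic polynomial becomes,
after scaling the roots by a unit, a product of linear factors. -/
theorem exists_scaleRoots_eq_prod (A : Type u) [CommRing A]
    (hA : ∀ f : A[X], f.Monic → ∃ s : Multiset A, f = (s.map fun a => X - C a).prod)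
    (p : Ideal A) [p.IsPrime] (f : (Localization.AtPrime p)[X]) (hf : f.Monic) :
    ∃ (u : Localization.AtPrime p) (_ : IsUnit u) (c : Multiset (Localization.AtPrime p)),
      f.scaleRoots u = (c.map fun a => X - C a).prod := by
  have h1 : f.leadingCoeff ∈ (algebraMap A (Localization.AtPrime p)).range := by
    rw [hf.leadingCoeff]; exact one_mem _
  have h2 := IsLocalization.scaleRoots_commonDenom_mem_lifts p.primeCompl f h1
  set s := IsLocalization.commonDenom p.primeCompl f.support f.coeff with hs
  have h3 : (f.scaleRoots (algebraMap A (Localization.AtPrime p) s)).Monic := by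
    rwa [Polynomial.monic_scaleRoots_iff]
  obtain ⟨G, hG1, -, hG2⟩ := lifts_and_natDegree_eq_and_monic h2 h3
  obtain ⟨t, ht⟩ := hA G hG2
  refine ⟨algebraMap A (Localization.AtPrime p) s,
    IsLocalization.map_units (Localization.AtPrime p) s,
    t.map (algebraMap A (Localization.AtPrime p)), ?_⟩
  rw [← hG1, ht, Polynomial.map_multiset_prod, Multiset.map_map, Multiset.map_map]
  congr 1
  apply Multiset.map_congr rfl
  intro a _
  simp

theorem exists_root_of_eval_mem (A : Type u) [CommRing A]
    (hA : ∀ f : A[X], f.Monic → ∃ s : Multiset A, f = (s.map fun a => X - C a).prod)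
    (p : Ideal A) [p.IsPrime] (f : (Localization.AtPrime p)[X]) (hf : f.Monic)
    (a₀ : Localization.AtPrime p)
    (h₁ : f.eval a₀ ∈ IsLocalRing.maximalIdeal (Localization.AtPrime p)) :
    ∃ a, f.IsRoot a ∧ a - a₀ ∈ IsLocalRing.maximalIdeal (Localization.AtPrime p) := by
  obtain ⟨u, hu, c, hc⟩ := exists_scaleRoots_eq_prod A hA p f hf
  obtain ⟨v, hv⟩ := hu.exists_left_inv
  have hscale : ∀ r, (f.scaleRoots u).eval (u * r) = u ^ f.natDegree * f.eval r := by
    intro r
    exact Polynomial.scaleRoots_eval₂_mul (p := f) (RingHom.id _) r u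
  have h2 : (f.scaleRoots u).eval (u * a₀) ∈ IsLocalRing.maximalIdeal (Localization.AtPrime p) := by
    rw [hscale]
    exact Ideal.mul_mem_left _ _ h₁
  rw [hc, Polynomial.eval_multiset_prod, Multiset.map_map] at h2
  obtain ⟨y, hy, hymem⟩ :=
    (Ideal.IsPrime.multiset_prod_mem_iff_exists_mem (IsLocalRing.maximalIdeal.isMaximal _).isPrime
      _).mp h2
  obtain ⟨b, hb, rfl⟩ := Multiset.mem_map.mp hy
  simp only [Function.comp_apply, eval_sub, eval_X, eval_C] at hymem
  refine ⟨v * b, ?_, ?_⟩
  · have h3 : (f.scaleRoots u).eval (u * (v * b)) = 0 := by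
      have : u * (v * b) = b := by rw [← mul_assoc, mul_comm u v, hv, one_mul]
      rw [this, hc, Polynomial.eval_multiset_prod, Multiset.map_map]
      apply Multiset.prod_eq_zero
      rw [Multiset.mem_map]
      exact ⟨b, hb, by simp⟩
    rw [hscale] at h3
    exact ((hu.pow _).mul_right_eq_zero).mp h3
  · have : v * b - a₀ = -(v * (u * a₀ - b)) := by
      have : v * (u * a₀) = a₀ := by rw [← mul_assoc, hv, one_mul]
      rw [mul_sub, this]; ring
    rw [this]
    exact neg_mem (Ideal.mul_mem_left _ _ hymem)

/-- Let A be an absolutely integrally closed ring, i.e. every monic polynomial over A is a product of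
linear factors X - a. Then for every prime p of A the localization A_p is a strictly henselian local
ring (henselian with separably closed residue field). -/
theorem result (A : Type u) [CommRing A]
    (hA : ∀ f : A[X], f.Monic → ∃ s : Multiset A, f = (s.map fun a => X - C a).prod)
    (p : Ideal A) [p.IsPrime] :
    EtCoh.IsStrictlyHenselianLocalRing (Localization.AtPrime p) := by
  refine ⟨⟨fun f hf a₀ h₁ _ => exists_root_of_eval_mem A hA p f hf a₀ h₁⟩, ?_⟩
  apply IsSepClosed.of_exists_root
  intro q hq hirr _
  obtain ⟨f, hf1, hf2, hf3⟩ := lifts_and_natDegree_eq_and_monic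
    (f := IsLocalRing.residue (Localization.AtPrime p)) (p := q)
    ((Polynomial.mem_lifts _).mpr (Polynomial.map_surjective _ IsLocalRing.residue_surjective q)) hq
  obtain ⟨u, hu, c, hc⟩ := exists_scaleRoots_eq_prod A hA p f hf3
  obtain ⟨v, hv⟩ := hu.exists_left_inv
  have hscale : ∀ r, (f.scaleRoots u).eval (u * r) = u ^ f.natDegree * f.eval r := by
    intro r
    exact Polynomial.scaleRoots_eval₂_mul (p := f) (RingHom.id _) r u
  have hdeg : 0 < f.natDegree := by
    rw [hf2]
    exact Polynomial.natDegree_pos_iff_degree_pos.mpr (Polynomial.degree_pos_of_irreducible hirr)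
  have hcard : Multiset.card c = f.natDegree := by
    have h1 := congrArg Polynomial.natDegree hc
    rw [Polynomial.natDegree_scaleRoots] at h1
    rw [h1, Polynomial.natDegree_multiset_prod_X_sub_C_eq_card]
  have hne : c ≠ 0 := by
    intro h0
    rw [h0, Multiset.card_zero] at hcard
    omega
  obtain ⟨b, hb⟩ := Multiset.exists_mem_of_ne_zero hne
  have h3 : (f.scaleRoots u).eval (u * (v * b)) = 0 := by
    have : u * (v * b) = b := by rw [← mul_assoc, mul_comm u v, hv, one_mul]
    rw [this, hc, Polynomial.eval_multiset_prod, Multiset.map_map]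
    apply Multiset.prod_eq_zero
    rw [Multiset.mem_map]
    exact ⟨b, hb, by simp⟩
  rw [hscale] at h3
  have h4 : f.eval (v * b) = 0 := ((hu.pow _).mul_right_eq_zero).mp h3
  refine ⟨IsLocalRing.residue _ (v * b), ?_⟩
  rw [← hf1, Polynomial.eval_map, Polynomial.eval₂_at_apply, h4, map_zero]

end Groth.Agent.S1992
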