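import Groth.Statements.S1993
import Groth.Agent.Lib.Helper9.Hens.PairUniversal
import Groth.Agent.Lib.Helper9.Hens.Unique

set_option autoImplicit false
universe u
open EtAlg

namespace Groth.Agent.S1993

/-- Let A be a local ring with maximal ideal m and B a local A-algebra with local structure map. Then B
is a henselization of the pair (A, m) if and only if B is a henselization of the local ring A (both
in the sense of the universal properties). -/
theorem result (A B : Type u) [CommRing A] [IsLocalRing A] [CommRing B]
    [IsLocalRing B] [Algebra A B] [IsLocalHom (algebraMap A B)] :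
    Hens2.IsPairHenselization A (IsLocalRing.maximalIdeal A) B ↔ Hensel.IsHenselization A B := by
  open IsLocalRing Groth.Agent.Lib.Helper9.Hens in
  constructor
  · intro hB
    have hle : (maximalIdeal A).map (algebraMap A B) ≤ maximalIdeal B :=
      ((IsLocalRing.local_hom_TFAE (algebraMap A B)).out 0 2).mp ‹IsLocalHom (algebraMap A B)›
    have heq : (maximalIdeal A).map (algebraMap A B) = maximalIdeal B := by
      apply le_antisymm hle
      intro x hx
      obtain ⟨a, ha⟩ := exists_sub_mem_map_of_isPairHenselization hB x
      have h1 : algebraMap A B a ∈ maximalIdeal B := by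
        have : algebraMap A B a = x - (x - algebraMap A B a) := by ring
        rw [this]
        exact Ideal.sub_mem _ hx (hle ha)
      have h2 : a ∈ maximalIdeal A := by
        rw [mem_maximalIdeal, mem_nonunits_iff]
        intro hu
        exact ((mem_maximalIdeal _).mp h1) (hu.map _)
      have h3 : algebraMap A B a ∈ (maximalIdeal A).map (algebraMap A B) :=
        Ideal.mem_map_of_mem _ h2
      have : x = (x - algebraMap A B a) + algebraMap A B a := by ring
      rw [this]
      exact Ideal.add_mem _ ha h3
    have hH : HenselianRing B (maximalIdeal B) := heq ▸ hB.1
    refine ⟨{ is_henselian := fun f hf a₀ h₁ h₂ =>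
                HenselianRing.is_henselian f hf a₀ h₁ (h₂.map _) }, ?_⟩
    intro T _ _ f hf
    refine hB.2 T (maximalIdeal T) f inferInstance ?_
    exact ((IsLocalRing.local_hom_TFAE f).out 0 2).mp hf
  · intro hB
    exact isPairHenselization_of_algEquiv (algEquivHenselization A B).symm
      (PairHens.isPairHenselization A (maximalIdeal A))

end Groth.Agent.S1993
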