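import Groth.Statements.S1995
import Groth.Agent.Lib.Helper9.Hens.PairProduct

set_option autoImplicit false
universe u
open EtAlg

namespace Groth.Agent.S1995

/-- Let I_1, …, I_n be pairwise comaximal ideals of a ring A, B a henselization of the pair (A, I_1 ∩ …
∩ I_n) and B_i a henselization of (A, I_i) for each i. Then B is isomorphic as an A-algebra to the
product of the B_i (any such isomorphism is the natural comparison map, by the universal property). -/
theorem result (A : Type u) [CommRing A] {n : ℕ} (I : Fin n → Ideal A)
    (hI : Pairwise fun i j => I i ⊔ I j = ⊤) (B : Type u) [CommRing B] [Algebra A B]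
    (hB : Hens2.IsPairHenselization A (⨅ i, I i) B) (Bi : Fin n → Type u) [∀ i, CommRing (Bi i)] [∀ i, Algebra A (Bi i)]
    (hBi : ∀ i, Hens2.IsPairHenselization A (I i) (Bi i)) :
    Nonempty (B ≃ₐ[A] ∀ i, Bi i) := by
  have hcop : Pairwise (Function.onFun IsCoprime I) :=
    fun i j hij => Ideal.isCoprime_iff_sup_eq.mpr (hI hij)
  exact Groth.Agent.Lib.Helper9.Hens.nonempty_algEquiv_of_isPairHenselization hB
    (Groth.Agent.Lib.Helper9.Hens.isPairHenselization_pi I hcop Bi hBi)

end Groth.Agent.S1995
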