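import Groth.Statements.S1996
import Groth.Agent.Lib.Helper9.FlatDescent

set_option autoImplicit false
universe u
open EtAlg

namespace Groth.Agent.S1996

/-- Let A -> B -> C be ring maps with B -> C faithfully flat. Weak etaleness of A -> C then implies weak
etaleness of A -> B. -/
theorem result (A B C : Type u) [CommRing A] [CommRing B] [CommRing C] [Algebra A B]
    [Algebra B C] [Algebra A C] [IsScalarTower A B C] [Module.FaithfullyFlat B C] [Algebra.WeaklyEtale A C] :
    Algebra.WeaklyEtale A B := by
  have hflat : Module.Flat A B := Groth.Agent.Lib.Helper9.flat_of_faithfullyFlat_of_flat_comp A B C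
  refine ⟨hflat, ?_⟩
  -- the composite `B ⊗[A] B → B → C` equals `B ⊗[A] B → C ⊗[A] C → C`
  have hfac : (algebraMap B C).comp (Algebra.TensorProduct.lmul' A (S := B)).toRingHom =
      (Algebra.TensorProduct.lmul' A (S := C)).toRingHom.comp
        (Algebra.TensorProduct.map (IsScalarTower.toAlgHom A B C)
          (IsScalarTower.toAlgHom A B C)).toRingHom := by
    have : ((IsScalarTower.toAlgHom A B C).comp (Algebra.TensorProduct.lmul' A (S := B))) =
        (Algebra.TensorProduct.lmul' A (S := C)).comp
          (Algebra.TensorProduct.map (IsScalarTower.toAlgHom A B C)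
            (IsScalarTower.toAlgHom A B C)) := by
      ext <;> simp
    exact congrArg AlgHom.toRingHom this
  have hBC : (algebraMap B C).FaithfullyFlat := RingHom.faithfullyFlat_algebraMap_iff.mpr inferInstance
  have hBCflat : (IsScalarTower.toAlgHom A B C).Flat := by
    show (algebraMap B C).Flat
    exact RingHom.flat_algebraMap_iff.mpr inferInstance
  refine RingHom.Flat.of_comp_of_faithfullyFlat_helper9 hBC ?_
  rw [hfac]
  exact RingHom.Flat.comp (RingHom.Flat.tensorProductMap hBCflat hBCflat)
    (Algebra.WeaklyEtale.flat_lmul' A C)

end Groth.Agent.S1996
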