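import Groth.Statements.S19965
import Mathlib

set_option autoImplicit false
universe u
open CategoryTheory MonoidalCategory CartesianMonoidalCategory MonObj AlgebraicGeometry
open ChGrp

namespace Groth.Agent.S19965

open CategoryTheory.Limits in
theorem result (S : Scheme.{u})
    (G H : Over S) [GrpObj G] [GrpObj H] (i : H ⟶ G)
    (Q : Over S) (aQ : AlgGrp.Action G Q) (q₀ : 𝟙_ (Over S) ⟶ Q)
    (hQ : ChGrp.IsHomog Scheme.fppfPrecoverage i aQ q₀)
    (P : MorphismProperty Scheme.{u}) [P.IsStableUnderBaseChange]
    [P.IsLocalAtTarget Scheme.fppfPrecoverage]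
    (hP : P H.hom) : P (aQ.orbitMap q₀).left := by
  obtain ⟨_, hsq, R, hR, hsec⟩ := hQ
  set π := aQ.orbitMap q₀ with hπ
  -- the first projection has P
  have hfst : P (fst G H).left := by
    rw [Over.fst_left]
    exact P.pullback_fst _ _ hP
  -- the square in schemes
  have hsq' : IsPullback ((G ◁ i) ≫ μ[G]).left (fst G H).left π.left π.left :=
    (hsq.flip).map (Over.forget S)
  refine MorphismProperty.IsLocalAtTarget.of_forall_pullbackSnd (P := P)
    (K := Scheme.fppfPrecoverage) hR ?_
  intro U g _ hg
  obtain ⟨s, hs⟩ := hsec g hg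
  have hs' : s ≫ π.left = g := hs
  -- the comparison map
  have hcond : pullback.fst π.left g ≫ π.left = (pullback.snd π.left g ≫ s) ≫ π.left := by
    rw [Category.assoc, hs', pullback.condition]
  let l := hsq'.lift (pullback.fst π.left g) (pullback.snd π.left g ≫ s) hcond
  have hl1 : l ≫ ((G ◁ i) ≫ μ[G]).left = pullback.fst π.left g := hsq'.lift_fst _ _ _
  have hl2 : l ≫ (fst G H).left = pullback.snd π.left g ≫ s := hsq'.lift_snd _ _ _
  have hbig : IsPullback (l ≫ ((G ◁ i) ≫ μ[G]).left) (pullback.snd π.left g) π.left (s ≫ π.left) := by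
    rw [hl1, hs']
    exact IsPullback.of_hasPullback π.left g
  have hleft : IsPullback l (pullback.snd π.left g) (fst G H).left s :=
    IsPullback.of_right hbig hl2 hsq'
  exact P.of_isPullback hleft hfst

end Groth.Agent.S19965
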