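import Groth.Statements.S19967
import Mathlib
import Groth.Agent.Lib.Helper70.GenFibE

set_option autoImplicit false
universe u
open CategoryTheory CategoryTheory.Limits AlgebraicGeometry
open FlatMor

namespace Groth.Agent.S19967

/-- Let f : S' → S be a flat morphism of locally Noetherian schemes, i : C → S and i' : C' → S' closed
immersions with C and C' integral, and g : C' → C with g ≫ i = i' ≫ f. Let φ : C' → C ×_S S' be the
induced morphism and η ∈ S the image of the generic point of C. If φ becomes an isomorphism after
base change along the canonical morphism Spec O_{S,η} → S (that is, after pulling back to (C ×_S S')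
×_S Spec O_{S,η}), then φ is an isomorphism. (In the source S and S' are excellent surfaces over an
algebraically closed field, C and C' regular curves not inside the singular loci, and the
isomorphism over Spec O_{S,η} is part of the definition of a morphism of surface-curve pairs; those
extra hypotheses play no part.) -/
theorem result
    {S S' C C' : Scheme.{u}} [IsLocallyNoetherian S] [IsLocallyNoetherian S']
    (f : S' ⟶ S) [Flat f] (i : C ⟶ S) [IsClosedImmersion i] [IsIntegral C]
    (i' : C' ⟶ S') [IsClosedImmersion i'] [IsIntegral C']
    (g : C' ⟶ C) (hsq : g ≫ i = i' ≫ f)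
    (hgen : IsIso (pullback.snd (pullback.lift g i' hsq)
      (pullback.fst (pullback.fst i f ≫ i) (S.fromSpecStalk (i.base (genericPoint C)))))) :
    IsIso (pullback.lift g i' hsq) := by
  set φ := pullback.lift g i' hsq with hφ
  set ξ := genericPoint C with hξ
  set pC := pullback.fst i f with hpC
  have hflat : Flat pC := MorphismProperty.pullback_fst _ _ ‹Flat f›
  -- `φ` is a closed immersion
  have hφi : φ ≫ pullback.snd i f = i' := pullback.lift_snd _ _ _
  have : IsClosedImmersion (φ ≫ pullback.snd i f) := by rw [hφi]; infer_instance
  have : IsClosedImmersion φ := IsClosedImmersion.of_comp φ (pullback.snd i f)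
  rw [IsClosedImmersion.isIso_iff_ker_eq_bot, eq_bot_iff]
  set d := pullback.fst (pC ≫ i) (S.fromSpecStalk (i.base ξ)) with hd
  -- `d` is schematically dominant
  have hdker : d.ker = ⊥ := by
    rw [eq_bot_iff]
    have h0 := Groth.Agent.Lib.Helper70.GenFibE.ker_fst_fromSpecStalk_eq_bot pC
    let e : pullback pC (C.fromSpecStalk ξ) ⟶ pullback (pC ≫ i) (S.fromSpecStalk (i.base ξ)) :=
      pullback.lift (pullback.fst _ _) (pullback.snd _ _ ≫ Spec.map (i.stalkMap ξ)) (by
        rw [Category.assoc, Scheme.SpecMap_stalkMap_fromSpecStalk]
        exact pullback.condition_assoc i)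
    have he : e ≫ d = pullback.fst pC (C.fromSpecStalk ξ) := pullback.lift_fst _ _ _
    calc d.ker ≤ (e ≫ d).ker := Scheme.Hom.le_ker_comp _ _
      _ = ⊥ := by rw [he]; exact h0
  -- `d` factors through `φ`
  have hfac : d = inv (pullback.snd φ d) ≫ pullback.fst φ d ≫ φ := by
    have hc : pullback.fst φ d ≫ φ = pullback.snd φ d ≫ d := pullback.condition
    rw [hc, IsIso.inv_hom_id_assoc]
  calc φ.ker ≤ ((inv (pullback.snd φ d) ≫ pullback.fst φ d) ≫ φ).ker := Scheme.Hom.le_ker_comp _ _
    _ = d.ker := by rw [Category.assoc, ← hfac]
    _ = ⊥ := hdker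

end Groth.Agent.S19967
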