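import Groth.Statements.S19974
import Mathlib

set_option autoImplicit false
universe u v w x
open scoped BigOperators
open DefMod

namespace Groth.Agent.S19974

section MkT
variable {B : Type*} [Ring B]

/-- the element `a + m ε` of the dual numbers over a (noncommutative) ring -/
def mkT (a m : B) : TrivSqZeroExt B B := TrivSqZeroExt.inl a + TrivSqZeroExt.inr m

theorem fst_mkT (a m : B) : (mkT a m).fst = a := by
  rw [mkT, TrivSqZeroExt.fst_add, TrivSqZeroExt.fst_inl, TrivSqZeroExt.fst_inr, add_zero]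

theorem snd_mkT (a m : B) : (mkT a m).snd = m := by
  rw [mkT, TrivSqZeroExt.snd_add, TrivSqZeroExt.snd_inl, TrivSqZeroExt.snd_inr, zero_add]

end MkT

section Univ

variable {K : Type u} [Field K] {O : Type v} [CommRing O] [Algebra K O] (δ : Derivation K O O)
  {D : Type w} [Ring D] [Algebra K D] (ι : O →ₐ[K] D) (d : D)

/-- the linear map `c ↦ ∑ ι (c i) * d ^ i` into any algebra -/
noncomputable def evalLin {T : Type*} [Ring T] [Algebra K T] (φ : O →ₐ[K] T) (y : T) :
    (ℕ →₀ O) →ₗ[K] T :=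
  Finsupp.lsum K (fun i => (LinearMap.mulRight K (y ^ i)).comp φ.toLinearMap)

theorem evalLin_apply {T : Type*} [Ring T] [Algebra K T] (φ : O →ₐ[K] T) (y : T) (c : ℕ →₀ O) :
    evalLin φ y c = c.sum (fun i f => φ f * y ^ i) := by
  simp only [evalLin, Finsupp.lsum_apply]
  rfl

theorem evalLin_single {T : Type*} [Ring T] [Algebra K T] (φ : O →ₐ[K] T) (y : T) (i : ℕ) (f : O) :
    evalLin φ y (Finsupp.single i f) = φ f * y ^ i := by
  simp [evalLin]

/-- pointwise multiplication by `g` -/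
noncomputable def smulMap (g : O) : (ℕ →₀ O) →ₗ[K] (ℕ →₀ O) :=
  Finsupp.mapRange.linearMap (LinearMap.mulLeft K g)

/-- the operator corresponding to left multiplication by `d` -/
noncomputable def shiftMap : (ℕ →₀ O) →ₗ[K] (ℕ →₀ O) :=
  (Finsupp.lmapDomain O K Nat.succ : (ℕ →₀ O) →ₗ[K] (ℕ →₀ O)) +
    (Finsupp.mapRange.linearMap (δ.toLinearMap : O →ₗ[K] O) : (ℕ →₀ O) →ₗ[K] (ℕ →₀ O))

theorem evalLin_smulMap {T : Type*} [Ring T] [Algebra K T] (φ : O →ₐ[K] T) (y : T) (g : O)
    (c : ℕ →₀ O) : evalLin φ y (smulMap (K := K) g c) = φ g * evalLin φ y c := by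
  have : (evalLin φ y).comp (smulMap (K := K) g) = (LinearMap.mulLeft K (φ g)).comp (evalLin φ y) := by
    apply Finsupp.lhom_ext'
    intro i
    ext f
    simp only [smulMap, LinearMap.coe_comp, Function.comp_apply, Finsupp.lsingle_apply,
      Finsupp.mapRange.linearMap_apply, Finsupp.mapRange_single, LinearMap.mulLeft_apply,
      evalLin_single, map_mul, mul_assoc]
  exact LinearMap.congr_fun this c

theorem evalLin_shiftMap {T : Type*} [Ring T] [Algebra K T] (φ : O →ₐ[K] T) (y : T)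
    (hy : ∀ f, y * φ f = φ f * y + φ (δ f))
    (c : ℕ →₀ O) : evalLin φ y (shiftMap δ c) = y * evalLin φ y c := by
  have : (evalLin φ y).comp (shiftMap δ) = (LinearMap.mulLeft K y).comp (evalLin φ y) := by
    apply Finsupp.lhom_ext'
    intro i
    ext f
    simp only [shiftMap, LinearMap.coe_comp, Function.comp_apply, Finsupp.lsingle_apply,
      LinearMap.add_apply, Finsupp.lmapDomain_apply, Finsupp.mapDomain_single,
      Finsupp.mapRange.linearMap_apply, Finsupp.mapRange_single, map_add, evalLin_single,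
      LinearMap.mulLeft_apply]
    rw [← mul_assoc, hy f, add_mul, mul_assoc, ← pow_succ']
    rfl
  exact LinearMap.congr_fun this c

variable (hd : ∀ f : O, d * ι f = ι f * d + ι (δ f))
  (hbasis : Function.Bijective (fun c : ℕ →₀ O => c.sum (fun i f => ι f * d ^ i)))

include hbasis in
theorem D_induction (p : D → Prop) (hι : ∀ f, p (ι f)) (hpd : p d)
    (hadd : ∀ a b, p a → p b → p (a + b)) (hmul : ∀ a b, p a → p b → p (a * b)) :
    ∀ P, p P := by
  intro P
  obtain ⟨c, rfl⟩ := hbasis.surjective P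
  have hpow : ∀ i : ℕ, p (d ^ i) := by
    intro i
    induction i with
    | zero => rw [pow_zero, ← map_one ι]; exact hι 1
    | succ i ih => rw [pow_succ]; exact hmul _ _ ih hpd
  change p (c.sum (fun i f => ι f * d ^ i))
  unfold Finsupp.sum
  refine Finset.sum_induction _ p hadd ?_ ?_
  · rw [← map_zero ι]; exact hι 0
  · intro i _
    exact hmul _ _ (hι _) (hpow i)

include hd hbasis in
/-- Universal property of the Ore extension `D = O[∂]`. -/
theorem exists_lift {T : Type*} [Ring T] [Algebra K T] (φ : O →ₐ[K] T) (y : T)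
    (hy : ∀ f, y * φ f = φ f * y + φ (δ f)) :
    ∃ Φ : D →ₐ[K] T, (∀ g, Φ (ι g) = φ g) ∧ Φ d = y := by
  have hbij : Function.Bijective (evalLin ι d) := by
    have : (evalLin ι d : (ℕ →₀ O) → D) = fun c : ℕ →₀ O => c.sum (fun i f => ι f * d ^ i) := by
      funext c; exact evalLin_apply ι d c
    rw [this]; exact hbasis
  let β : (ℕ →₀ O) ≃ₗ[K] D := LinearEquiv.ofBijective (evalLin ι d) hbij
  let Φl : D →ₗ[K] T := (evalLin φ y).comp β.symm.toLinearMap
  have hβ : ∀ c, β c = evalLin ι d c := fun c => rfl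
  have hΦβ : ∀ c, Φl (evalLin ι d c) = evalLin φ y c := by
    intro c
    change evalLin φ y (β.symm (β c)) = _
    rw [β.symm_apply_apply]
  have P1 : ∀ g Q, Φl (ι g * Q) = φ g * Φl Q := by
    intro g Q
    obtain ⟨c, rfl⟩ := hbij.surjective Q
    rw [← evalLin_smulMap ι d g c, hΦβ, hΦβ, evalLin_smulMap]
  have P2 : ∀ Q, Φl (d * Q) = y * Φl Q := by
    intro Q
    obtain ⟨c, rfl⟩ := hbij.surjective Q
    rw [← evalLin_shiftMap δ ι d hd c, hΦβ, hΦβ, evalLin_shiftMap δ φ y hy]
  have P3 : Φl 1 = 1 := by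
    have h1 : (1 : D) = evalLin ι d (Finsupp.single 0 1) := by
      rw [evalLin_single, map_one, pow_zero, mul_one]
    rw [h1, hΦβ, evalLin_single, map_one, pow_zero, mul_one]
  have hΦι : ∀ g, Φl (ι g) = φ g := by
    intro g
    have := P1 g 1
    rwa [mul_one, P3, mul_one] at this
  have hΦd : Φl d = y := by
    have := P2 1
    rwa [mul_one, P3, mul_one] at this
  have hmul : ∀ P Q, Φl (P * Q) = Φl P * Φl Q := by
    intro P
    refine D_induction ι d hbasis (fun P => ∀ Q, Φl (P * Q) = Φl P * Φl Q) ?_ ?_ ?_ ?_ P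
    · intro g Q; rw [P1, hΦι]
    · intro Q; rw [P2, hΦd]
    · intro a b ha hb Q
      rw [add_mul, map_add, ha, hb, map_add, add_mul]
    · intro a b ha hb Q
      rw [mul_assoc, ha, hb, ha b, mul_assoc]
  refine ⟨AlgHom.ofLinearMap Φl P3 hmul, ?_, ?_⟩
  · intro g; exact hΦι g
  · exact hΦd

end Univ

theorem result
    (K : Type u) [Field K] [CharZero K]
    (O : Type v) [CommRing O] [Algebra K O] (δ : Derivation K O O)
    (D : Type w) [Ring D] [Algebra K D] (ι : O →ₐ[K] D) (d : D)
    (hd : ∀ f : O, d * ι f = ι f * d + ι (δ f))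
    (hbasis : Function.Bijective (fun c : ℕ →₀ O => c.sum (fun i f => ι f * d ^ i)))
    (E : Type x) [AddCommGroup E] [Module K E] (ρ : D →ₐ[K] Module.End K E)
    (hE : ∃ (n : ℕ) (b : Fin n → E), Function.Bijective (fun c : Fin n → O => ∑ i, ρ (ι (c i)) (b i))) :
    (∀ s : D →ₗ[K] Module.End K E, (∀ P Q : D, s (P * Q) = s P * ρ Q + ρ P * s Q) →
      ∀ f : O, (s (ι f) * ρ d - ρ d * s (ι f)) + (ρ (ι f) * s d - s d * ρ (ι f)) + s (ι (δ f)) = 0) ∧
    ∀ (r : O →ₗ[K] Module.End K E) (v : Module.End K E),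
      (∀ f g : O, r (f * g) = r f * ρ (ι g) + ρ (ι f) * r g) →
      (∀ f : O, (r f * ρ d - ρ d * r f) + (ρ (ι f) * v - v * ρ (ι f)) + r (δ f) = 0) →
      ∃! s : D →ₗ[K] Module.End K E,
        (∀ P Q : D, s (P * Q) = s P * ρ Q + ρ P * s Q) ∧ s ∘ₗ ι.toLinearMap = r ∧ s d = v := by
  constructor
  · intro s hs f
    have h1 : s (d * ι f) = s (ι f * d + ι (δ f)) := by rw [hd f]
    rw [hs, map_add, hs] at h1
    have h2 : s d * ρ (ι f) + ρ d * s (ι f) - (s (ι f) * ρ d + ρ (ι f) * s d + s (ι (δ f))) = 0 :=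
      sub_eq_zero.mpr h1
    rw [← neg_eq_zero, ← h2]
    abel
  · intro r v hr hrv
    -- the target algebra
    let B := Module.End K E
    let T := TrivSqZeroExt B B
    have hr1 : r 1 = 0 := by
      have h0 := hr 1 1
      rw [mul_one, _root_.map_one ι, _root_.map_one ρ, mul_one, one_mul] at h0
      have h2 : r 1 + 0 = r 1 + r 1 := by rw [add_zero]; exact h0
      exact (add_left_cancel h2).symm
    let φl : O →ₗ[K] T :=
      { toFun := fun f => mkT (ρ (ι f)) (r f)
        map_add' := fun f g => by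
          apply TrivSqZeroExt.ext
          · rw [TrivSqZeroExt.fst_add, fst_mkT, fst_mkT, fst_mkT, map_add, map_add]
          · rw [TrivSqZeroExt.snd_add, snd_mkT, snd_mkT, snd_mkT, map_add]
        map_smul' := fun c f => by
          apply TrivSqZeroExt.ext
          · rw [TrivSqZeroExt.fst_smul, fst_mkT, fst_mkT, map_smul, map_smul]; rfl
          · rw [TrivSqZeroExt.snd_smul, snd_mkT, snd_mkT, map_smul]; rfl }
    have hφl : ∀ f, φl f = mkT (ρ (ι f)) (r f) := fun f => rfl
    have hφ1 : φl 1 = 1 := by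
      rw [hφl]
      apply TrivSqZeroExt.ext
      · rw [fst_mkT, TrivSqZeroExt.fst_one, _root_.map_one ι, _root_.map_one ρ]
      · rw [snd_mkT, TrivSqZeroExt.snd_one]
        exact hr1
    have hφmul : ∀ f g, φl (f * g) = φl f * φl g := by
      intro f g
      rw [hφl, hφl, hφl]
      apply TrivSqZeroExt.ext
      · rw [TrivSqZeroExt.fst_mul, fst_mkT, fst_mkT, fst_mkT, map_mul, map_mul]
      · rw [TrivSqZeroExt.snd_mul, fst_mkT, fst_mkT, snd_mkT, snd_mkT, snd_mkT]
        rw [hr f g, smul_eq_mul, MulOpposite.smul_eq_mul_unop, MulOpposite.unop_op, add_comm]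
    let φ : O →ₐ[K] T := AlgHom.ofLinearMap φl hφ1 hφmul
    have hφ : ∀ f, φ f = mkT (ρ (ι f)) (r f) := fun f => rfl
    let y : T := mkT (ρ d) v
    have hy : ∀ f, y * φ f = φ f * y + φ (δ f) := by
      intro f
      rw [hφ, hφ]
      apply TrivSqZeroExt.ext
      · rw [TrivSqZeroExt.fst_mul, TrivSqZeroExt.fst_add, TrivSqZeroExt.fst_mul]
        simp only [y, fst_mkT]
        rw [← map_mul, hd f, map_add, map_mul]
      · rw [TrivSqZeroExt.snd_mul, TrivSqZeroExt.snd_add, TrivSqZeroExt.snd_mul]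
        simp only [y, fst_mkT, snd_mkT]
        rw [smul_eq_mul, smul_eq_mul, MulOpposite.smul_eq_mul_unop, MulOpposite.smul_eq_mul_unop,
          MulOpposite.unop_op, MulOpposite.unop_op]
        have h0 := hrv f
        have h3 : ρ d * r f + v * ρ (ι f) - (ρ (ι f) * v + r f * ρ d + r (δ f)) = 0 := by
          rw [← neg_eq_zero, ← h0]; abel
        exact sub_eq_zero.mp h3
    obtain ⟨Φ, hΦι, hΦd⟩ := exists_lift δ ι d hd hbasis φ y hy
    -- first component is ρ
    have hfst : ∀ P, (Φ P).fst = ρ P := by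
      refine D_induction ι d hbasis (fun P => (Φ P).fst = ρ P) ?_ ?_ ?_ ?_
      · intro f
        rw [hΦι, hφ, fst_mkT]
      · rw [hΦd]; exact fst_mkT _ _
      · intro a b ha hb
        rw [map_add, TrivSqZeroExt.fst_add, ha, hb, map_add]
      · intro a b ha hb
        rw [map_mul, TrivSqZeroExt.fst_mul, ha, hb, map_mul]
    let s : D →ₗ[K] Module.End K E :=
      { toFun := fun P => (Φ P).snd
        map_add' := fun P Q => by rw [map_add, TrivSqZeroExt.snd_add]
        map_smul' := fun c P => by rw [map_smul, TrivSqZeroExt.snd_smul]; rfl }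
    have hs_apply : ∀ P, s P = (Φ P).snd := fun P => rfl
    have hsL : ∀ P Q : D, s (P * Q) = s P * ρ Q + ρ P * s Q := by
      intro P Q
      rw [hs_apply, map_mul, TrivSqZeroExt.snd_mul, hfst, hfst, smul_eq_mul,
        MulOpposite.smul_eq_mul_unop, MulOpposite.unop_op, add_comm]
      rfl
    have hsι : ∀ f, s (ι f) = r f := by
      intro f
      rw [hs_apply, hΦι, hφ, snd_mkT]
    have hsd : s d = v := by
      rw [hs_apply, hΦd]; exact snd_mkT _ _
    refine ⟨s, ⟨hsL, ?_, hsd⟩, ?_⟩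
    · ext f : 1
      exact hsι f
    · rintro s' ⟨hs'L, hs'ι, hs'd⟩
      ext P : 1
      revert P
      refine D_induction ι d hbasis (fun P => s' P = s P) ?_ ?_ ?_ ?_
      · intro f
        rw [hsι, ← hs'ι]; rfl
      · rw [hs'd, hsd]
      · intro a b ha hb
        rw [map_add, map_add, ha, hb]
      · intro a b ha hb
        rw [hs'L, hsL, ha, hb]

end Groth.Agent.S19974
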