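import Groth.Statements.S1999
import Groth.Agent.Lib.Helper27.Inertia3
import Groth.Agent.Lib.Helper27.Inertia4
import Groth.Agent.Lib.Helper27.Inertia5

set_option autoImplicit false
universe u
open scoped Pointwise
open EtAlg

namespace Groth.Agent.S1999

/-- Parts (2)–(5) in the case of part (6): let A be a discrete valuation ring with fraction field K, L/K
a finite Galois extension with group G, B the integral closure of A in L, m a maximal ideal of B
whose residue field is separable over that of A, and e the ramification index of m over A. Let D be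
the decomposition group (stabilizer of m), I the inertia group (elements acting trivially on B/m)
and P the wild inertia group, here the elements of D acting trivially on B/m² (the description valid
in the separable residue field case). Then P ≤ I, P is normal in D, P is a p-group if the residue
characteristic is p > 0 and trivial if it is 0, and I/P is cyclic of order the prime-to-p part of e
and isomorphic to a subgroup of the e-th roots of unity of B/m — more precisely to the full group of
e-th roots of unity of B/m. -/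
theorem result (A K L B : Type u) [CommRing A] [IsDomain A] [IsDiscreteValuationRing A]
    [CommRing B] [IsDomain B] [Field K] [Field L] [Algebra A K] [Algebra B L] [IsFractionRing A K] [IsFractionRing B L]
    [Algebra A B] [Algebra K L] [Algebra A L] [IsScalarTower A K L] [IsScalarTower A B L] [IsIntegralClosure B A L]
    [FiniteDimensional K L] [IsGalois K L] (m : Ideal B) [m.IsMaximal]
    [Algebra.IsSeparable (A ⧸ m.comap (algebraMap A B)) (B ⧸ m)] :
    letI := IsIntegralClosure.MulSemiringAction A K L B
    let D : Subgroup (L ≃ₐ[K] L) := MulAction.stabilizer (L ≃ₐ[K] L) m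
    let I : Subgroup (L ≃ₐ[K] L) := m.inertia (L ≃ₐ[K] L)
    let P : Subgroup (L ≃ₐ[K] L) := D ⊓ (m ^ 2).inertia (L ≃ₐ[K] L)
    let e : ℕ := Ideal.ramificationIdx' (IsLocalRing.maximalIdeal A) m
    P ≤ I ∧ I ≤ D ∧ (P.subgroupOf D).Normal ∧
    (∀ p : ℕ, p.Prime → CharP (A ⧸ m.comap (algebraMap A B)) p → IsPGroup p P) ∧
    (CharZero (A ⧸ m.comap (algebraMap A B)) → P = ⊥) ∧
    (∀ [(P.subgroupOf I).Normal],
      IsCyclic (I ⧸ P.subgroupOf I) ∧
      (∀ p : ℕ, p.Prime → CharP (A ⧸ m.comap (algebraMap A B)) p → Nat.card (I ⧸ P.subgroupOf I) = e / p ^ e.factorization p) ∧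
      (CharZero (A ⧸ m.comap (algebraMap A B)) → Nat.card (I ⧸ P.subgroupOf I) = e) ∧
      Nonempty (I ⧸ P.subgroupOf I ≃* ↥(rootsOfUnity e (B ⧸ m)))) := by
  classical
  letI := IsIntegralClosure.MulSemiringAction A K L B
  intro D I P e
  -- basic instances
  have hint : Algebra.IsIntegral A B := IsIntegralClosure.isIntegral_algebra A L
  haveI hGal : IsGaloisGroup (L ≃ₐ[K] L) A B := IsGaloisGroup.of_isFractionRing _ _ _ K L
  haveI hDed : IsDedekindDomain B := IsIntegralClosure.isDedekindDomain A K L B
  haveI hfin : Module.Finite A B := IsIntegralClosure.finite A K L B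
  haveI hfaith : FaithfulSMul (L ≃ₐ[K] L) B := hGal.faithful
  haveI hcomm : SMulCommClass (L ≃ₐ[K] L) A B := hGal.commutes
  have hinjAL : Function.Injective (algebraMap A L) := by
    rw [IsScalarTower.algebraMap_eq A K L]
    exact (algebraMap K L).injective.comp (IsFractionRing.injective A K)
  have hinjAB : Function.Injective (algebraMap A B) := by
    rw [IsScalarTower.algebraMap_eq A B L] at hinjAL
    exact Function.Injective.of_comp hinjAL
  haveI : FaithfulSMul A B := (faithfulSMul_iff_algebraMap_injective A B).mpr hinjAB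
  haveI : Module.IsTorsionFree A B := inferInstance
  haveI : Module.Flat A B := inferInstance
  -- the prime below
  haveI hpmax : (m.under A).IsMaximal := Ideal.isMaximal_comap_of_isIntegral_of_isMaximal m
  have hpeq : m.under A = IsLocalRing.maximalIdeal A := IsLocalRing.eq_maximalIdeal hpmax
  have hp0 : m.under A ≠ ⊥ := by
    rw [hpeq]; exact IsDiscreteValuationRing.not_a_field A
  have hm0 : m ≠ ⊥ := by
    intro h
    apply hp0
    rw [h, Ideal.under_def, Ideal.comap_bot_of_injective _ hinjAB]
  have hmtop : m ≠ ⊤ := Ideal.IsMaximal.ne_top ‹_›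
  obtain ⟨π, hπ1, hπ2'⟩ := Ideal.exists_mem_pow_notMem_pow_succ m hm0 hmtop 1
  have hπ : π ∈ m := by simpa using hπ1
  have hπ2 : π ∉ m ^ 2 := by simpa using hπ2'
  have hP : P = (m ^ 2).inertia (L ≃ₐ[K] L) :=
    Groth.Agent.Lib.Helper27.Inertia.stabilizer_inf_inertia_sq m
  have hPI : P ≤ I := by
    rw [hP]; exact Groth.Agent.Lib.Helper27.Inertia.inertia_sq_le m
  have hID : I ≤ D := Ideal.inertia_le_stabilizer m
  -- card of inertia
  have hcardI : Nat.card I = e := by
    have h1 := Groth.Agent.Lib.Helper27.Inertia.card_inertia_eq_ramificationIdx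
      (G := (L ≃ₐ[K] L)) (m.under A) m
    have h2 := Ideal.ramificationIdx'_eq_ramificationIdx (m.under A) m hp0
    show Nat.card (m.inertia (L ≃ₐ[K] L)) = Ideal.ramificationIdx' (IsLocalRing.maximalIdeal A) m
    rw [h1, ← h2, hpeq]
  -- residue characteristic transfer
  have hinjkl : Function.Injective
      (algebraMap (A ⧸ m.comap (algebraMap A B)) (B ⧸ m)) := Ideal.algebraMap_quotient_injective
  letI : Field (B ⧸ m) := Ideal.Quotient.field m
  refine ⟨hPI, hID, ?_, ?_, ?_, ?_⟩
  · -- normality of P in D
    refine (Subgroup.normal_subgroupOf_iff (hPI.trans hID)).mpr fun g s hg hs => ?_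
    rw [hP] at hg ⊢
    intro x
    have h1 : (s * g * s⁻¹) • x - x = s • (g • (s⁻¹ • x) - s⁻¹ • x) := by
      rw [smul_sub, mul_smul, mul_smul, smul_inv_smul]
    rw [h1]
    exact Groth.Agent.Lib.Helper27.Inertia.smul_mem_pow_of_mem_stabilizer m s hs 2 _ (hg _)
  · intro p hp hchar
    haveI : Fact p.Prime := ⟨hp⟩
    haveI : CharP (B ⧸ m) p := charP_of_injective_algebraMap hinjkl p
    rw [hP]
    exact Groth.Agent.Lib.Helper27.Inertia.isPGroup_inertia_sq m p
  · intro hchar
    haveI : CharZero (B ⧸ m) := charZero_of_injective_algebraMap hinjkl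
    rw [hP]
    exact Groth.Agent.Lib.Helper27.Inertia.inertia_sq_eq_bot m
  · intro hn
    set θ := Groth.Agent.Lib.Helper27.Inertia.thetaU (G := (L ≃ₐ[K] L)) m hm0 π hπ hπ2 with hθ
    have hker : θ.ker = P.subgroupOf I := by
      rw [hθ, Groth.Agent.Lib.Helper27.Inertia.ker_thetaU m hm0 π hπ hπ2 A, hP]
    have hcardN : Nat.card (P.subgroupOf I) = Nat.card P :=
      Nat.card_congr (Subgroup.subgroupOfEquivOfLe hPI).toEquiv
    obtain ⟨q, hq⟩ := CharP.exists (B ⧸ m)
    haveI := hq
    rcases CharP.char_is_prime_or_zero (B ⧸ m) q with hqp | hq0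
    · -- characteristic p
      haveI : Fact q.Prime := ⟨hqp⟩
      haveI : ExpChar (B ⧸ m) q := ExpChar.prime hqp
      have hPG : IsPGroup q P := by
        rw [hP]; exact Groth.Agent.Lib.Helper27.Inertia.isPGroup_inertia_sq m q
      obtain ⟨a, ha⟩ := hPG.exists_card_eq
      obtain ⟨hc1, hc2, hc3, hc4⟩ := Groth.Agent.Lib.Helper27.Inertia.tame_structure θ
        (P.subgroupOf I) hker q a (hcardN.trans ha)
      rw [hcardI] at hc2 hc4
      refine ⟨hc1, ?_, ?_, hc4⟩
      · intro p hp hchar
        have hcp : CharP (B ⧸ m) p := charP_of_injective_algebraMap hinjkl p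
        have hpq : p = q := CharP.eq (B ⧸ m) hcp hq
        subst hpq
        have hnd : ¬ p ∣ Nat.card (↥I ⧸ P.subgroupOf I) := fun h => hc3 ⟨hp, h⟩
        exact (Groth.Agent.Lib.Helper27.Inertia.div_pow_factorization_eq hp hc2 hnd
          Nat.card_pos.ne').symm
      · intro hchar
        have hcz : CharZero (B ⧸ m) := charZero_of_injective_algebraMap hinjkl
        exact absurd (CharP.eq (B ⧸ m) hq (CharP.ofCharZero (B ⧸ m))) hqp.ne_zero
    · -- characteristic zero
      subst hq0
      haveI : CharZero (B ⧸ m) := CharP.charP_to_charZero _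
      haveI : ExpChar (B ⧸ m) 1 := ExpChar.zero
      have hPbot : P = ⊥ := by
        rw [hP]; exact Groth.Agent.Lib.Helper27.Inertia.inertia_sq_eq_bot m
      have hcardP : Nat.card P = 1 ^ 0 := by
        rw [hPbot]; simp
      obtain ⟨hc1, hc2, hc3, hc4⟩ := Groth.Agent.Lib.Helper27.Inertia.tame_structure θ
        (P.subgroupOf I) hker 1 0 (hcardN.trans hcardP)
      rw [hcardI] at hc2 hc4
      refine ⟨hc1, ?_, ?_, hc4⟩
      · intro p hp hchar
        have hcp : CharP (B ⧸ m) p := charP_of_injective_algebraMap hinjkl p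
        exact absurd (CharP.eq (B ⧸ m) hcp hq) hp.ne_zero
      · intro _
        simpa using hc2.symm

end Groth.Agent.S1999
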