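import Groth.Statements.S19994
import Mathlib
import Groth.Agent.Lib.Helper99.WildFixed
import Groth.Agent.H8.J2Descent
import Groth.Agent.Lib.Helper85.Kunz.Main

set_option autoImplicit false
set_option linter.style.haveILetI false
universe u v w
open WildQuot

namespace Groth.Agent.S19994

open Groth.Agent.Lib.Helper99

section CHR

/-- Chase–Harrison–Rosenberg elements for a single endomorphism. -/
theorem chr_single {S : Type u} [CommRing S] (τ : S →+* S)
    (h : Ideal.span (Set.range fun z : S => τ z - z) = ⊤) :
    ∃ (ι : Type u) (_ : Fintype ι) (x y : ι → S),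
      ∑ i, x i * y i = 1 ∧ ∑ i, x i * τ (y i) = 0 := by
  classical
  have h1 : (1 : S) ∈ Submodule.span S (Set.range fun z : S => τ z - z) := by
    have : (1 : S) ∈ Ideal.span (Set.range fun z : S => τ z - z) := by rw [h]; trivial
    exact this
  rw [Finsupp.mem_span_range_iff_exists_finsupp] at h1
  obtain ⟨c, hc⟩ := h1
  rw [Finsupp.sum] at hc
  have hc' : ∑ z ∈ c.support, c z * τ z + ∑ z ∈ c.support, (-c z) * z = 1 := by
    rw [← hc, ← Finset.sum_add_distrib]
    refine Finset.sum_congr rfl (fun z _ => ?_)
    rw [smul_eq_mul]; ring
  refine ⟨Option c.support, inferInstance,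
    fun o => o.elim (∑ z ∈ c.support, c z * τ z) (fun z => - c z),
    fun o => o.elim 1 (fun z => (z : S)), ?_, ?_⟩
  · rw [Fintype.sum_option]
    simp only [Option.elim_none, Option.elim_some, mul_one]
    rw [Finset.sum_coe_sort c.support (fun z => -c z * z)]
    exact hc'
  · rw [Fintype.sum_option]
    simp only [Option.elim_none, Option.elim_some, map_one, mul_one]
    rw [Finset.sum_coe_sort c.support (fun z => -c z * τ z), ← Finset.sum_add_distrib]
    refine Finset.sum_eq_zero (fun z _ => ?_)
    ring

/-- Chase–Harrison–Rosenberg elements for a finite family of endomorphisms. -/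
theorem chr_all {S : Type u} [CommRing S] {G : Type*} [Fintype G] (one : G)
    (act : G → (S →+* S))
    (h : ∀ σ : G, σ ≠ one → Ideal.span (Set.range fun z : S => act σ z - z) = ⊤) :
    ∃ (ι : Type u) (_ : Fintype ι) (x y : ι → S), ∑ i, x i * y i = 1 ∧
      ∀ σ : G, σ ≠ one → ∑ i, x i * act σ (y i) = 0 := by
  classical
  have key : ∀ T : Finset G, (∀ σ ∈ T, σ ≠ one) →
      ∃ (ι : Type u) (_ : Fintype ι) (x y : ι → S), ∑ i, x i * y i = 1 ∧
        ∀ σ ∈ T, ∑ i, x i * act σ (y i) = 0 := by
    intro T
    induction T using Finset.induction_on with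
    | empty =>
      intro _
      exact ⟨PUnit, inferInstance, fun _ => 1, fun _ => 1, by simp, by simp⟩
    | insert σ T hσ ih =>
      intro hT
      obtain ⟨ι, _, x, y, hxy, hT'⟩ := ih (fun τ hτ => hT τ (Finset.mem_insert_of_mem hτ))
      obtain ⟨κ, _, x', y', hxy', hσ'⟩ :=
        chr_single (act σ) (h σ (hT σ (Finset.mem_insert_self σ T)))
      refine ⟨ι × κ, inferInstance, fun ij => x ij.1 * x' ij.2, fun ij => y ij.1 * y' ij.2,
        ?_, ?_⟩
      · rw [Fintype.sum_prod_type]
        have h1 : ∀ i, ∑ j, x i * x' j * (y i * y' j) = (x i * y i) * ∑ j, x' j * y' j := by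
          intro i
          rw [Finset.mul_sum]
          exact Finset.sum_congr rfl (fun j _ => by ring)
        simp only [h1, hxy', mul_one, hxy]
      · intro τ hτ
        rw [Fintype.sum_prod_type]
        have h1 : ∀ i, ∑ j, x i * x' j * act τ (y i * y' j) =
            (x i * act τ (y i)) * ∑ j, x' j * act τ (y' j) := by
          intro i
          rw [Finset.mul_sum]
          exact Finset.sum_congr rfl (fun j _ => by rw [map_mul]; ring)
        simp only [h1]
        rw [← Finset.sum_mul]
        rcases Finset.mem_insert.mp hτ with hτσ | hτT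
        · rw [hτσ, hσ', mul_zero]
        · rw [hT' τ hτT, zero_mul]
  obtain ⟨ι, i1, x, y, h1, h2⟩ := key (Finset.univ.filter (· ≠ one))
    (fun σ hσ => (Finset.mem_filter.mp hσ).2)
  exact ⟨ι, i1, x, y, h1, fun σ hσ => h2 σ (Finset.mem_filter.mpr ⟨Finset.mem_univ _, hσ⟩)⟩

/-- A "Galois" extension in the sense of Chase–Harrison–Rosenberg is projective. -/
theorem projective_of_chr {R S : Type*} [CommRing R] [CommRing S] [Algebra R S]
    (hinj : Function.Injective (algebraMap R S))
    {G : Type*} [Fintype G] (one : G) (act : G → (S →+* S))
    (hone : ∀ z, act one z = z)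
    (hR : ∀ σ (r : R), act σ (algebraMap R S r) = algebraMap R S r)
    (htr : ∀ z : S, ∃ r : R, algebraMap R S r = ∑ σ, act σ z)
    {ι : Type*} [Fintype ι] (x y : ι → S) (hxy : ∑ i, x i * y i = 1)
    (hxy' : ∀ σ, σ ≠ one → ∑ i, x i * act σ (y i) = 0) : Module.Projective R S := by
  classical
  choose T hT using htr
  have hTadd : ∀ z w, T (z + w) = T z + T w := by
    intro z w
    apply hinj
    rw [map_add, hT, hT, hT]
    simp only [map_add, Finset.sum_add_distrib]
  have hTsmul : ∀ (r : R) z, T (r • z) = r * T z := by
    intro r z
    apply hinj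
    rw [map_mul, hT, hT, Finset.mul_sum]
    refine Finset.sum_congr rfl (fun σ _ => ?_)
    rw [Algebra.smul_def, map_mul, hR]
  let i : S →ₗ[R] (ι → R) :=
    { toFun := fun a j => T (y j * a)
      map_add' := fun a b => by
        funext j
        simp only [mul_add, hTadd, Pi.add_apply]
      map_smul' := fun r a => by
        funext j
        simp only [mul_smul_comm, hTsmul, Pi.smul_apply, smul_eq_mul, RingHom.id_apply] }
  let s : (ι → R) →ₗ[R] S :=
    { toFun := fun b => ∑ j, b j • x j
      map_add' := fun b c => by
        simp only [Pi.add_apply, add_smul, Finset.sum_add_distrib]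
      map_smul' := fun r b => by
        simp only [Pi.smul_apply, smul_eq_mul, mul_smul, Finset.smul_sum, RingHom.id_apply] }
  apply Module.Projective.of_split i s
  apply LinearMap.ext
  intro a
  show ∑ j, T (y j * a) • x j = a
  have h1 : ∀ j, T (y j * a) • x j = ∑ σ, x j * act σ (y j) * act σ a := by
    intro j
    rw [Algebra.smul_def, hT, Finset.sum_mul]
    exact Finset.sum_congr rfl (fun σ _ => by rw [map_mul]; ring)
  simp only [h1]
  rw [Finset.sum_comm]
  have h2 : ∀ σ, ∑ j, x j * act σ (y j) * act σ a = (∑ j, x j * act σ (y j)) * act σ a :=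
    fun σ => (Finset.sum_mul _ _ _).symm
  simp only [h2]
  rw [Finset.sum_eq_single one]
  · simp only [hone, hxy, one_mul]
  · intro σ _ hσ
    rw [hxy' σ hσ, zero_mul]
  · intro h
    exact absurd (Finset.mem_univ one) h

end CHR

/-- If all primes of `A` disjoint from `B ∖ P` have trivial inertia, then `A_P` is flat
(even projective) over `B_P`, where `B = A^G`. -/
theorem flat_localization {A : Type u} [CommRing A] {G : Type w} [Group G] [Fintype G]
    [MulSemiringAction G A]
    (P : Ideal (FixedPoints.subring A G)) [P.IsPrime]
    (hin : ∀ Q : Ideal A, Q.IsPrime →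
      (∀ m ∈ Algebra.algebraMapSubmonoid A P.primeCompl, m ∉ Q) → Q.inertia G = ⊥) :
    Module.Flat (Localization.AtPrime P)
      (Localization (Algebra.algebraMapSubmonoid A P.primeCompl)) := by
  classical
  have hBinj : Function.Injective (algebraMap (FixedPoints.subring A G) A) :=
    Subtype.val_injective
  have hMinv : ∀ (σ : G) (m : A), m ∈ Algebra.algebraMapSubmonoid A P.primeCompl →
      σ • m = m := by
    intro σ m hm
    obtain ⟨b, _, rfl⟩ := Submonoid.mem_map.mp hm
    exact b.2 σ
  have hMle : ∀ σ : G, Algebra.algebraMapSubmonoid A P.primeCompl ≤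
      (Algebra.algebraMapSubmonoid A P.primeCompl).comap (MulSemiringAction.toRingHom G A σ) := by
    intro σ m hm
    rw [Submonoid.mem_comap]
    show σ • m ∈ Algebra.algebraMapSubmonoid A P.primeCompl
    rw [hMinv σ m hm]
    exact hm
  obtain ⟨act, hact⟩ : ∃ act : G → (Localization (Algebra.algebraMapSubmonoid A P.primeCompl) →+*
      Localization (Algebra.algebraMapSubmonoid A P.primeCompl)),
      ∀ σ a, act σ (algebraMap A _ a) = algebraMap A _ (σ • a) :=
    ⟨fun σ => IsLocalization.map _ (MulSemiringAction.toRingHom G A σ) (hMle σ),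
      fun σ a => IsLocalization.map_eq (hMle σ) a⟩
  have hone : ∀ z, act 1 z = z := by
    intro z
    have h1 : act 1 = RingHom.id _ := by
      apply IsLocalization.ringHom_ext (Algebra.algebraMapSubmonoid A P.primeCompl)
      apply RingHom.ext
      intro a
      simp only [RingHom.comp_apply, hact, one_smul, RingHom.id_apply]
    rw [h1]; rfl
  have hR : ∀ σ (r : Localization.AtPrime P),
      act σ (algebraMap (Localization.AtPrime P)
        (Localization (Algebra.algebraMapSubmonoid A P.primeCompl)) r) =
      algebraMap (Localization.AtPrime P)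
        (Localization (Algebra.algebraMapSubmonoid A P.primeCompl)) r := by
    intro σ r
    have h1 : (act σ).comp (algebraMap (Localization.AtPrime P)
        (Localization (Algebra.algebraMapSubmonoid A P.primeCompl))) =
        algebraMap (Localization.AtPrime P)
          (Localization (Algebra.algebraMapSubmonoid A P.primeCompl)) := by
      apply IsLocalization.ringHom_ext P.primeCompl
      apply RingHom.ext
      intro b
      simp only [RingHom.comp_apply]
      rw [← IsScalarTower.algebraMap_apply (FixedPoints.subring A G) (Localization.AtPrime P)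
        (Localization (Algebra.algebraMapSubmonoid A P.primeCompl)),
        IsScalarTower.algebraMap_apply (FixedPoints.subring A G) A
        (Localization (Algebra.algebraMapSubmonoid A P.primeCompl)), hact]
      congr 1
      exact b.2 σ
    exact DFunLike.congr_fun h1 r
  have htr : ∀ z : Localization (Algebra.algebraMapSubmonoid A P.primeCompl),
      ∃ r : Localization.AtPrime P, algebraMap (Localization.AtPrime P)
        (Localization (Algebra.algebraMapSubmonoid A P.primeCompl)) r = ∑ σ, act σ z := by
    intro z
    obtain ⟨⟨a, ⟨m, hm⟩⟩, hz⟩ := IsLocalization.surj (Algebra.algebraMapSubmonoid A P.primeCompl) z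
    obtain ⟨s, hs, rfl⟩ := Submonoid.mem_map.mp hm
    simp only at hz
    have hσ : ∀ σ : G, act σ z * algebraMap A _ (algebraMap (FixedPoints.subring A G) A s) =
        algebraMap A _ (σ • a) := by
      intro σ
      have h1 := congrArg (act σ) hz
      rw [map_mul, hact, hact] at h1
      rw [← h1]
      congr 2
      exact (s.2 σ).symm
    have hinv : ∀ ρ : G, ρ • (∑ σ : G, σ • a) = ∑ σ : G, σ • a := by
      intro ρ
      rw [Finset.smul_sum]
      simp only [smul_smul]
      exact Fintype.sum_equiv (Equiv.mulLeft ρ) _ _ (fun σ => rfl)
    have hsum : (∑ σ, act σ z) * algebraMap A _ (algebraMap (FixedPoints.subring A G) A s) =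
        algebraMap A (Localization (Algebra.algebraMapSubmonoid A P.primeCompl))
          (∑ σ : G, σ • a) := by
      rw [Finset.sum_mul, map_sum]
      exact Finset.sum_congr rfl (fun σ _ => hσ σ)
    obtain ⟨v, hv⟩ := (IsLocalization.map_units (Localization.AtPrime P)
      (⟨s, hs⟩ : P.primeCompl)).exists_right_inv
    simp only at hv
    refine ⟨algebraMap _ (Localization.AtPrime P)
      (⟨∑ σ : G, σ • a, hinv⟩ : FixedPoints.subring A G) * v, ?_⟩
    have e1 : algebraMap (Localization.AtPrime P)
        (Localization (Algebra.algebraMapSubmonoid A P.primeCompl))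
        (algebraMap _ (Localization.AtPrime P)
          (⟨∑ σ : G, σ • a, hinv⟩ : FixedPoints.subring A G)) =
        algebraMap A _ (∑ σ : G, σ • a) := by
      rw [← IsScalarTower.algebraMap_apply (FixedPoints.subring A G) (Localization.AtPrime P)
        (Localization (Algebra.algebraMapSubmonoid A P.primeCompl)),
        IsScalarTower.algebraMap_apply (FixedPoints.subring A G) A
        (Localization (Algebra.algebraMapSubmonoid A P.primeCompl))]
      rfl
    have e2 : algebraMap (Localization.AtPrime P)
        (Localization (Algebra.algebraMapSubmonoid A P.primeCompl))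
        (algebraMap _ (Localization.AtPrime P) s) =
        algebraMap A _ (algebraMap (FixedPoints.subring A G) A s) := by
      rw [← IsScalarTower.algebraMap_apply (FixedPoints.subring A G) (Localization.AtPrime P)
        (Localization (Algebra.algebraMapSubmonoid A P.primeCompl)),
        IsScalarTower.algebraMap_apply (FixedPoints.subring A G) A
        (Localization (Algebra.algebraMapSubmonoid A P.primeCompl))]
    have e3 := congrArg (algebraMap (Localization.AtPrime P)
        (Localization (Algebra.algebraMapSubmonoid A P.primeCompl))) hv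
    rw [map_mul, map_one, e2] at e3
    rw [map_mul, e1, ← hsum, mul_assoc, e3, mul_one]
  have hφinj : Function.Injective (algebraMap (Localization.AtPrime P)
      (Localization (Algebra.algebraMapSubmonoid A P.primeCompl))) :=
    localizationAlgebra_injective _ _ hBinj
  -- the spans
  have hspan : ∀ σ : G, σ ≠ 1 → Ideal.span (Set.range fun z :
      Localization (Algebra.algebraMapSubmonoid A P.primeCompl) => act σ z - z) = ⊤ := by
    intro σ hσ
    by_contra hne
    obtain ⟨𝔐, h𝔐max, h𝔐le⟩ := Ideal.exists_le_maximal _ hne
    haveI := h𝔐max.isPrime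
    have hQprime : (𝔐.comap (algebraMap A
        (Localization (Algebra.algebraMapSubmonoid A P.primeCompl)))).IsPrime :=
      Ideal.comap_isPrime _ _
    have hdisj : ∀ m ∈ Algebra.algebraMapSubmonoid A P.primeCompl,
        m ∉ 𝔐.comap (algebraMap A
          (Localization (Algebra.algebraMapSubmonoid A P.primeCompl))) := by
      intro m hm hmQ
      rw [Ideal.mem_comap] at hmQ
      have hu := IsLocalization.map_units
        (Localization (Algebra.algebraMapSubmonoid A P.primeCompl))
        (⟨m, hm⟩ : Algebra.algebraMapSubmonoid A P.primeCompl)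
      exact h𝔐max.ne_top (Ideal.eq_top_of_isUnit_mem _ hmQ hu)
    have hin' := hin _ hQprime hdisj
    have hσnot : σ ∉ (𝔐.comap (algebraMap A
        (Localization (Algebra.algebraMapSubmonoid A P.primeCompl)))).inertia G := by
      rw [hin', Subgroup.mem_bot]; exact hσ
    apply hσnot
    intro a
    show σ • a - a ∈ 𝔐.comap (algebraMap A
      (Localization (Algebra.algebraMapSubmonoid A P.primeCompl)))
    rw [Ideal.mem_comap, map_sub, ← hact]
    exact h𝔐le (Ideal.subset_span ⟨algebraMap A _ a, rfl⟩)
  obtain ⟨ι, _, x, y, hxy, hxy'⟩ := chr_all (1 : G) act hspan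
  haveI : Module.Projective (Localization.AtPrime P)
      (Localization (Algebra.algebraMapSubmonoid A P.primeCompl)) :=
    projective_of_chr hφinj (1 : G) act hone hR htr x y hxy hxy'
  infer_instance

/-- Let `A` be a complete regular local ring of Krull dimension at least `2` and prime characteristic
`p`, with maximal ideal `m`; let `k` be a field with a ring map `k → A` whose composite with `A →
A/m` is onto; let `G` be a group of order `p` acting on `A` by ring automorphisms fixing the image
of `k` and ramified precisely at the origin (for every prime `P ≠ m`, the inertia subgroup of `P`,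
i.e. the elements of `G` fixing every element modulo `P`, is trivial). Then the singular locus of
`Spec A^G` is contained in the closed point: for every non-maximal prime ideal `P` of the invariant
ring `A^G`, the localization `(A^G)_P` is a regular local ring. (The published statement also
asserts that the punctured spectrum of `A` is a `G`-torsor over the punctured spectrum of `A^G`;
this row omits that clause. Together with the non-regularity of `A^G` itself, the singular locus is
exactly the closed point.) -/
theorem result
    (p : ℕ) [Fact p.Prime] (A : Type u) [CommRing A] [IsRegularLocalRing A] [CharP A p]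
    [IsAdicComplete (IsLocalRing.maximalIdeal A) A] (hdim : 2 ≤ ringKrullDim A)
    (k : Type v) [Field k] [Algebra k A]
    (hk : Function.Surjective (IsLocalRing.residue A ∘ algebraMap k A))
    (G : Type w) [Group G] [Finite G] [MulSemiringAction G A] (hcard : Nat.card G = p)
    (hGk : ∀ (σ : G) (c : k), σ • algebraMap k A c = algebraMap k A c)
    (hram : ∀ P : Ideal A, P.IsPrime → P ≠ IsLocalRing.maximalIdeal A → P.inertia G = ⊥)
    (P : Ideal (FixedPoints.subring A G)) [P.IsPrime] (hP : ¬ P.IsMaximal) :
    IsRegularLocalRing (Localization.AtPrime P) := by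
  classical
  have hG : IsPGroup p G := IsPGroup.of_card (n := 1) (by rw [hcard, pow_one])
  letI := Fintype.ofFinite G
  have hn : ringKrullDim A = ((IsLocalRing.maximalIdeal A).spanFinrank : ℕ) :=
    (IsRegularLocalRing.spanFinrank_maximalIdeal (R := A)).symm
  obtain ⟨hnoeth, hfin⟩ := WildFixed.noetherian_and_finite p A k hk G hG hGk _ hn
  haveI := hnoeth
  haveI := hfin
  haveI hloc : IsLocalRing (FixedPoints.subring A G) := WildFixed.isLocalRing_fixed A G
  have hBinj : Function.Injective (algebraMap (FixedPoints.subring A G) A) :=
    Subtype.val_injective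
  -- `A` is a regular ring (Kunz)
  haveI hregA : IsRegularRing A :=
    (Groth.Agent.Lib.Helper85.Kunz.isRegularRing_iff_frobenius_flat p A).mpr
      (Groth.Agent.Lib.Helper85.Kunz.frobenius_flat_of_isRegularLocalRing A p)
  -- an element of the maximal ideal of `B` outside `P`
  have hPne : P ≠ IsLocalRing.maximalIdeal (FixedPoints.subring A G) := by
    intro h
    apply hP
    rw [h]
    infer_instance
  have hPlt : P < IsLocalRing.maximalIdeal (FixedPoints.subring A G) :=
    lt_of_le_of_ne (IsLocalRing.le_maximalIdeal (Ideal.IsPrime.ne_top ‹P.IsPrime›)) hPne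
  obtain ⟨b, hbm, hbP⟩ := SetLike.exists_of_lt hPlt
  -- all primes disjoint from `B ∖ P` have trivial inertia
  have hin : ∀ Q : Ideal A, Q.IsPrime →
      (∀ m ∈ Algebra.algebraMapSubmonoid A P.primeCompl, m ∉ Q) → Q.inertia G = ⊥ := by
    intro Q hQ hdisj
    apply hram Q hQ
    intro hQm
    apply hdisj (algebraMap (FixedPoints.subring A G) A b)
      (Submonoid.mem_map.mpr ⟨b, hbP, rfl⟩)
    rw [hQm]
    exact (WildFixed.mem_maximalIdeal_fixed_iff A G b).mp hbm
  haveI hflat1 : Module.Flat (Localization.AtPrime P)
      (Localization (Algebra.algebraMapSubmonoid A P.primeCompl)) := flat_localization P hin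
  haveI hflat2 : Module.Flat (FixedPoints.subring A G)
      (Localization (Algebra.algebraMapSubmonoid A P.primeCompl)) :=
    Module.Flat.trans (FixedPoints.subring A G) (Localization.AtPrime P) _
  -- a prime of `A` over `P`
  haveI : Algebra.IsIntegral (FixedPoints.subring A G) A := Algebra.IsIntegral.of_finite _ _
  obtain ⟨Q, -, hQprime, hQP⟩ := Ideal.exists_ideal_over_prime_of_isIntegral P (⊥ : Ideal A)
    (by
      intro x hx
      rw [Ideal.mem_comap, Ideal.mem_bot] at hx
      have : x = 0 := hBinj (by rw [hx, map_zero])
      rw [this]; exact P.zero_mem)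
  have hdisj : Disjoint ((Algebra.algebraMapSubmonoid A P.primeCompl : Submonoid A) : Set A)
      (Q : Set A) := by
    rw [Set.disjoint_left]
    intro m hm hmQ
    obtain ⟨c, hc, rfl⟩ := Submonoid.mem_map.mp hm
    apply hc
    rw [← hQP]
    exact Ideal.mem_comap.mpr hmQ
  haveI hQ'prime : (Q.map (algebraMap A
      (Localization (Algebra.algebraMapSubmonoid A P.primeCompl)))).IsPrime :=
    IsLocalization.isPrime_of_isPrime_disjoint (Algebra.algebraMapSubmonoid A P.primeCompl) _ Q
      hQprime hdisj
  have hQ'comap : (Q.map (algebraMap A
      (Localization (Algebra.algebraMapSubmonoid A P.primeCompl)))).comap (algebraMap A _) = Q :=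
    IsLocalization.under_map_of_isPrime_disjoint (Algebra.algebraMapSubmonoid A P.primeCompl) _
      hQprime hdisj
  have hcomapB : (Q.map (algebraMap A
      (Localization (Algebra.algebraMapSubmonoid A P.primeCompl)))).comap
      (algebraMap (FixedPoints.subring A G) _) = P := by
    rw [IsScalarTower.algebraMap_eq (FixedPoints.subring A G) A
      (Localization (Algebra.algebraMapSubmonoid A P.primeCompl)), ← Ideal.comap_comap,
      hQ'comap, hQP]
  -- regularity upstairs
  haveI hregQ' : IsRegularLocalRing (Localization.AtPrime (Q.map (algebraMap A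
      (Localization (Algebra.algebraMapSubmonoid A P.primeCompl))))) := by
    apply Groth.Agent.H8.J2.isRegularLocalRing_atPrime_of_isLocalization
      (Algebra.algebraMapSubmonoid A P.primeCompl)
    exact IsRegularRing.isRegularLocalRing_localization _
  have hfinal := Groth.Agent.H8.J2.isRegularLocalRing_comap_of_flat (FixedPoints.subring A G)
    (Localization (Algebra.algebraMapSubmonoid A P.primeCompl))
    (Q.map (algebraMap A (Localization (Algebra.algebraMapSubmonoid A P.primeCompl))))
  have key : ∀ (P' : Ideal (FixedPoints.subring A G)) [P'.IsPrime], P' = P →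
      IsRegularLocalRing (Localization.AtPrime P') →
      IsRegularLocalRing (Localization.AtPrime P) := by
    intro P' _ h hreg
    subst h
    exact hreg
  exact key _ hcomapB hfinal

end Groth.Agent.S19994
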