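import Groth.Statements.S19995
import Mathlib
import Groth.Agent.Lib.Helper80.FlatExt

set_option autoImplicit false
universe u
open CategoryTheory AlgebraicGeometry
open WildQuot

namespace Groth.Agent.S19995

open Groth.Agent.Lib.Helper80

/-- Let `S` be a Noetherian scheme, `f_1 : G_1 → S` and `f_2 : G_2 → S` finite flat morphisms, and `U ⊆
S` an open subset such that at every point of `S` outside `U` the local ring of `S` has depth at
least `2` (equivalently, for Noetherian `S`: `U` contains every point of codimension at most `1` and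
every point at which `S` fails Serre's condition `S_2`). Then every morphism `f_1⁻¹(U) → f_2⁻¹(U)`
over `U` is the restriction of exactly one `S`-morphism `G_1 → G_2`. (The published statements draw
this conclusion for homomorphisms of finite flat group schemes and for group-scheme actions on
finite flat schemes; this row states the underlying extension property of morphisms of finite flat
`S`-schemes, from which those follow by uniqueness.) -/
theorem result
    (S G₁ G₂ : Scheme.{u}) [AlgebraicGeometry.IsNoetherian S] (f₁ : G₁ ⟶ S) (f₂ : G₂ ⟶ S)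
    [AlgebraicGeometry.IsFinite f₁] [AlgebraicGeometry.Flat f₁]
    [AlgebraicGeometry.IsFinite f₂] [AlgebraicGeometry.Flat f₂]
    (U : S.Opens)
    (hU : ∀ s : S, s ∉ U → (2 : ℕ∞) ≤ LocCoh.depth (S.presheaf.stalk s) (S.presheaf.stalk s))
    (φU : ((f₁ ⁻¹ᵁ U : G₁.Opens) : Scheme.{u}) ⟶ ((f₂ ⁻¹ᵁ U : G₂.Opens) : Scheme.{u}))
    (hφU : φU ≫ (f₂ ⁻¹ᵁ U).ι ≫ f₂ = (f₁ ⁻¹ᵁ U).ι ≫ f₁) :
    ∃! φ : G₁ ⟶ G₂, φ ≫ f₂ = f₁ ∧ (f₁ ⁻¹ᵁ U).ι ≫ φ = φU ≫ (f₂ ⁻¹ᵁ U).ι := by
  haveI : IsLocallyNoetherian S := inferInstance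
  have hk : (φU ≫ (f₂ ⁻¹ᵁ U).ι) ≫ f₂ = (f₁ ⁻¹ᵁ U).ι ≫ f₁ := by
    rw [Category.assoc, hφU]
  obtain ⟨φ, hφ1, hφ2⟩ := exists_extension_of_depth f₁ f₂ U hU (φU ≫ (f₂ ⁻¹ᵁ U).ι) hk
  refine ⟨φ, ⟨hφ1, hφ2⟩, ?_⟩
  rintro ψ ⟨hψ1, hψ2⟩
  have hdense : CInt.IsSchematicallyDense U := by
    apply isSchematicallyDense_of_depth
    intro s hs
    exact le_trans (by norm_num) (hU s hs)
  exact hom_ext_of_isSchematicallyDense f₁ f₂ U hdense ψ φ hψ1 hφ1 (hψ2.trans hφ2.symm)

end Groth.Agent.S19995
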