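import Groth.Statements.S19996
import Groth.Agent.Lib.Helper99.PSAut
-- import your own Groth.Agent.* helpers here

set_option autoImplicit false
universe u
open WildQuot

namespace Groth.Agent.S19996

/-- Let `k` be a field of characteristic `p > 0`, `A = k[[u]]`, and `σ` a `k`-algebra automorphism of
`A` of order exactly `p` with ramification break `m`, i.e. `σ u - u` has order `m + 1`. Then `p`
divides `m + 1` if and only if there are a uniformizer `s` of `A` (a power series of order `1`) and
a `σ`-invariant power series `a` with `σ s = s + a`. (The published statement has a third equivalent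
condition, that `Spec A` is a torsor under the effective model of the action; this row omits it.) -/
theorem result
    (p : ℕ) [Fact p.Prime] (k : Type u) [Field k] [CharP k p]
    (σ : PowerSeries k ≃ₐ[k] PowerSeries k) (hσp : σ ^ p = 1) (hσ1 : σ ≠ 1)
    (m : ℕ) (hm : (σ PowerSeries.X - PowerSeries.X).order = ((m + 1 : ℕ) : ℕ∞)) :
    p ∣ m + 1 ↔
      ∃ s a : PowerSeries k, s.order = 1 ∧ σ a = a ∧ σ s = s + a := by
  open Groth.Agent.Lib.Helper99 in
  open PowerSeries in
  constructor
  · intro hdiv
    obtain ⟨p', rfl⟩ : ∃ p', p = p' + 2 :=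
      ⟨p - 2, by have := (Fact.out : p.Prime).two_le; omega⟩
    obtain ⟨n, hn⟩ := hdiv
    set y : PowerSeries k := (fun y => σ y - y)^[p'] (X ^ (p' + 1)) with hy
    have hyord : y.order = ((p' + 1 + p' * m : ℕ) : ℕ∞) :=
      order_iterate_sub σ m p' hσp hm ⟨n, hn⟩ p' le_rfl
    set t : PowerSeries k := ∏ i ∈ Finset.range (p' + 2), (σ ^ i) X with ht
    have htfix : σ t = t := norm_X_fixed σ _ hσp
    have htord : t.order = ((p' + 2 : ℕ) : ℕ∞) := order_norm_X σ _
    set N : ℕ := n * p' with hN
    have htN : (t ^ N).order = (((p' + 2) * N : ℕ) : ℕ∞) := by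
      rw [order_pow, htord, nsmul_eq_mul]
      push_cast
      ring
    have htNne : t ^ N ≠ 0 := by
      intro h0
      rw [h0, order_zero] at htN
      exact ENat.top_ne_natCast _ htN
    have hyne : y ≠ 0 := by
      intro h0
      rw [h0, order_zero] at hyord
      exact ENat.top_ne_natCast _ hyord
    obtain ⟨u, hu0, htNu⟩ : ∃ u : PowerSeries k, constantCoeff u ≠ 0 ∧
        t ^ N = X ^ ((p' + 2) * N) * u := by
      refine ⟨divXPowOrder (t ^ N), ?_, ?_⟩
      · rw [constantCoeff_divXPowOrder]
        exact coeff_order htNne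
      · conv_lhs => rw [← X_pow_order_mul_divXPowOrder (f := t ^ N)]
        rw [htN, ENat.toNat_natCast]
    obtain ⟨g, hg0, hyg⟩ : ∃ g : PowerSeries k, constantCoeff g ≠ 0 ∧
        y = X ^ (p' + 1 + p' * m) * g := by
      refine ⟨divXPowOrder y, ?_, ?_⟩
      · rw [constantCoeff_divXPowOrder]
        exact coeff_order hyne
      · conv_lhs => rw [← X_pow_order_mul_divXPowOrder (f := y)]
        rw [hyord, ENat.toNat_natCast]
    have hexp : p' + 1 + p' * m = (p' + 2) * N + 1 := by
      have h1 : p' + 1 + p' * m = 1 + p' * (m + 1) := by ring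
      rw [h1, hn, hN]
      ring
    have huinv : u * u⁻¹ = 1 := PowerSeries.mul_inv_cancel u hu0
    have hys : y = t ^ N * (u⁻¹ * X * g) := by
      rw [hyg, hexp, htNu, pow_succ]
      linear_combination (-(X ^ ((p' + 2) * N) * X * g)) * huinv
    have huinv0 : constantCoeff u⁻¹ ≠ 0 := by
      intro h0
      have := congrArg constantCoeff huinv
      rw [map_mul, h0, mul_zero, map_one] at this
      exact zero_ne_one this
    have hord0 : ∀ v : PowerSeries k, constantCoeff v ≠ 0 → v.order = 0 := by
      intro v hv
      apply le_antisymm _ zero_le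
      have : coeff 0 v ≠ 0 := by rwa [coeff_zero_eq_constantCoeff_apply]
      exact_mod_cast order_le 0 this
    have hsord : (u⁻¹ * X * g).order = 1 := by
      rw [order_mul, order_mul, order_X, hord0 _ huinv0, hord0 _ hg0, zero_add, add_zero]
    refine ⟨u⁻¹ * X * g, σ (u⁻¹ * X * g) - u⁻¹ * X * g, hsord, ?_, by ring⟩
    set s : PowerSeries k := u⁻¹ * X * g with hs
    have hDy : σ y - y = t ^ N * (σ s - s) := by
      rw [hys, map_mul, map_pow, htfix]
      ring
    have hDDy : σ (σ y - y) - (σ y - y) = 0 := by
      have h1 := iterate_sub_eq_zero σ (p' + 2) hσp (X ^ (p' + 1))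
      rw [Function.iterate_succ_apply', Function.iterate_succ_apply'] at h1
      exact h1
    have h2 : t ^ N * (σ (σ s - s) - (σ s - s)) = 0 := by
      rw [hDy, map_mul, map_pow, htfix] at hDDy
      rw [← hDDy]
      ring
    rcases mul_eq_zero.mp h2 with h | h
    · exact absurd h htNne
    · exact sub_eq_zero.mp h
  · rintro ⟨s, a, hs, ha, hsa⟩
    have hp2 := (Fact.out : p.Prime).two_le
    have h1 : (σ s - s).order = ((1 + m : ℕ) : ℕ∞) :=
      order_sub_eq σ m p hσp hm s 1 (by simpa using hs)
        (by intro h; have := Nat.le_of_dvd one_pos h; omega)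
    have h2 : σ s - s = a := by rw [hsa]; ring
    rw [h2] at h1
    by_contra hnd
    have h3 := order_sub_eq σ m p hσp hm a (1 + m) h1 (by rwa [add_comm])
    rw [ha, sub_self, order_zero] at h3
    exact ENat.top_ne_natCast _ h3

end Groth.Agent.S19996
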