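import Groth.Statements.S19998
import Mathlib
import Groth.Agent.Lib.Helper99.ASFamily
-- import your own Groth.Agent.* helpers here

set_option autoImplicit false
universe u
open WildQuot

namespace Groth.Agent.S19998

set_option linter.style.haveILetI false in
set_option maxHeartbeats 1000000 in
open MvPolynomial Groth.Agent.Lib.Helper99.ASFamily Groth.Agent.Lib.Helper61 in
theorem aux (p : ℕ) [Fact p.Prime] {k : Type u} [Field k] {n : ℕ}
    (a : Fin n → MvPowerSeries (Fin n) k) (ham : ∀ i, MvPowerSeries.constantCoeff (a i) = 0)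
    (σ : AS p a ≃ₐ[MvPowerSeries (Fin n) k] AS p a)
    (hσ : ∀ i, σ (uu p a i) = uu p a i + algebraMap (MvPowerSeries (Fin n) k) (AS p a) (a i)) :
    Ideal.span (Set.range fun t : AS p a => σ t - t) ≤ Ideal.span (Set.range (uu p a)) ^ p ∧
      Module.length (AS p a) (AS p a ⧸ Ideal.span (Set.range fun t : AS p a => σ t - t)) =
        (p ^ n : ℕ∞) * Module.length (MvPowerSeries (Fin n) k)
          (MvPowerSeries (Fin n) k ⧸ Ideal.span (Set.range a)) := by
  have hp := (Fact.out : p.Prime)
  haveI hloc := isLocalRing_AS p a ham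
  have hJ : Ideal.span (Set.range fun t : AS p a => σ t - t) =
      Ideal.map (algebraMap (MvPowerSeries (Fin n) k) (AS p a)) (Ideal.span (Set.range a)) := by
    apply le_antisymm
    · rw [Ideal.span_le]
      rintro _ ⟨t, rfl⟩
      obtain ⟨P, rfl⟩ := Ideal.Quotient.mk_surjective t
      show σ (Ideal.Quotient.mk (asI p a) P) - Ideal.Quotient.mk (asI p a) P ∈
        Ideal.map (algebraMap (MvPowerSeries (Fin n) k) (AS p a)) (Ideal.span (Set.range a))
      induction P using MvPolynomial.induction_on with
      | C r =>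
        have h1 : σ (Ideal.Quotient.mk (asI p a) (C r)) = Ideal.Quotient.mk (asI p a) (C r) :=
          σ.commutes r
        rw [h1, sub_self]; exact zero_mem _
      | add P Q hP hQ =>
        have h1 : σ (Ideal.Quotient.mk (asI p a) (P + Q)) - Ideal.Quotient.mk (asI p a) (P + Q) =
            (σ (Ideal.Quotient.mk (asI p a) P) - Ideal.Quotient.mk (asI p a) P) +
              (σ (Ideal.Quotient.mk (asI p a) Q) - Ideal.Quotient.mk (asI p a) Q) := by
          rw [map_add, map_add]; ring
        rw [h1]; exact add_mem hP hQ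
      | mul_X P i hP =>
        have h1 : σ (Ideal.Quotient.mk (asI p a) (P * X i)) -
            Ideal.Quotient.mk (asI p a) (P * X i) =
            uu p a i * (σ (Ideal.Quotient.mk (asI p a) P) - Ideal.Quotient.mk (asI p a) P) +
              σ (Ideal.Quotient.mk (asI p a) P) *
                algebraMap (MvPowerSeries (Fin n) k) (AS p a) (a i) := by
          rw [map_mul, map_mul]
          rw [show σ (Ideal.Quotient.mk (asI p a) (X i)) =
            uu p a i + algebraMap (MvPowerSeries (Fin n) k) (AS p a) (a i) from hσ i]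
          ring
        rw [h1]
        exact add_mem (Ideal.mul_mem_left _ _ hP)
          (Ideal.mul_mem_left _ _ (Ideal.mem_map_of_mem _ (Ideal.subset_span ⟨i, rfl⟩)))
    · rw [Ideal.map_span, Ideal.span_le]
      rintro _ ⟨_, ⟨i, rfl⟩, rfl⟩
      have h1 : algebraMap (MvPowerSeries (Fin n) k) (AS p a) (a i) = σ (uu p a i) - uu p a i := by
        rw [hσ i]; ring
      rw [h1]
      exact Ideal.subset_span ⟨uu p a i, rfl⟩
  have hnnp : ∀ r : MvPowerSeries (Fin n) k, MvPowerSeries.constantCoeff r = 0 →
      algebraMap (MvPowerSeries (Fin n) k) (AS p a) r ∈ Ideal.span (Set.range (uu p a)) ^ p := by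
    have hX : ∀ i, algebraMap (MvPowerSeries (Fin n) k) (AS p a) (MvPowerSeries.X i) ∈
        Ideal.span (Set.range (uu p a)) ^ p := by
      intro i
      have hu : uu p a i ∈ Ideal.span (Set.range (uu p a)) := Ideal.subset_span ⟨i, rfl⟩
      have ha : algebraMap (MvPowerSeries (Fin n) k) (AS p a) (a i) ∈
          Ideal.span (Set.range (uu p a)) := by
        rw [← nn_eq]; exact algebraMap_mem_nn p a _ (ham i)
      have e : algebraMap (MvPowerSeries (Fin n) k) (AS p a) (MvPowerSeries.X i) =
          uu p a i ^ p -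
            algebraMap (MvPowerSeries (Fin n) k) (AS p a) (a i) ^ (p - 1) * uu p a i := by
        rw [rel p a i, map_pow]; ring
      rw [e]
      refine Ideal.sub_mem _ (Ideal.pow_mem_pow hu p) ?_
      have hq : p - 1 + 1 = p := Nat.sub_add_cancel hp.one_le
      have h2 : Ideal.span (Set.range (uu p a)) ^ (p - 1 + 1) =
          Ideal.span (Set.range (uu p a)) ^ (p - 1) * Ideal.span (Set.range (uu p a)) :=
        Submodule.pow_succ _
      rw [hq] at h2
      rw [h2]
      exact Ideal.mul_mem_mul (Ideal.pow_mem_pow ha (p - 1)) hu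
    intro r hr
    have hr' : r ∈ Ideal.span
        (Set.range (MvPowerSeries.X : Fin n → MvPowerSeries (Fin n) k)) := by
      rw [← PSLocal.maximalIdeal_eq_span_X]; exact (PSLocal.mem_maximalIdeal_iff r).2 hr
    have hle : Ideal.span (Set.range (MvPowerSeries.X : Fin n → MvPowerSeries (Fin n) k)) ≤
        Ideal.comap (algebraMap (MvPowerSeries (Fin n) k) (AS p a))
          (Ideal.span (Set.range (uu p a)) ^ p) := by
      rw [Ideal.span_le]; rintro _ ⟨i, rfl⟩; exact hX i
    exact hle hr'
  refine ⟨?_, ?_⟩
  · rw [hJ, Ideal.map_span, Ideal.span_le]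
    rintro _ ⟨_, ⟨i, rfl⟩, rfl⟩
    exact hnnp _ (ham i)
  rw [hJ]
  haveI hlh : IsLocalHom (algebraMap (MvPowerSeries (Fin n) k) (AS p a)) := ⟨fun r hr => by
    by_contra h
    have h1 : r ∈ IsLocalRing.maximalIdeal (MvPowerSeries (Fin n) k) :=
      (IsLocalRing.mem_maximalIdeal r).2 h
    have h2 : algebraMap (MvPowerSeries (Fin n) k) (AS p a) r ∈ nn p a :=
      algebraMap_mem_nn p a r ((PSLocal.mem_maximalIdeal_iff r).1 h1)
    rw [← maximalIdeal_AS p a ham] at h2
    exact (IsLocalRing.mem_maximalIdeal _).1 h2 hr⟩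
  have hsurj : Function.Surjective
      (algebraMap (IsLocalRing.ResidueField (MvPowerSeries (Fin n) k))
        (IsLocalRing.ResidueField (AS p a))) := by
    intro y
    obtain ⟨x, rfl⟩ := IsLocalRing.residue_surjective y
    refine ⟨IsLocalRing.residue _ (MvPowerSeries.C (eps p a x)), ?_⟩
    show IsLocalRing.ResidueField.map (algebraMap (MvPowerSeries (Fin n) k) (AS p a))
      (IsLocalRing.residue _ (MvPowerSeries.C (eps p a x))) = IsLocalRing.residue _ x
    rw [IsLocalRing.ResidueField.map_residue, ← sub_eq_zero, ← map_sub,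
      IsLocalRing.residue_eq_zero_iff, maximalIdeal_AS p a ham, ← ker_eps, RingHom.mem_ker,
      map_sub, eps_algebraMap, MvPowerSeries.constantCoeff_C, sub_self]
  have e2 : Module.length (IsLocalRing.ResidueField (MvPowerSeries (Fin n) k))
      (IsLocalRing.ResidueField (AS p a)) = 1 := by
    rw [Module.length_eq_of_surjective hsurj, Module.length_eq_finrank, Module.finrank_self,
      Nat.cast_one]
  have e1 := IsLocalRing.length_restrictScalars (MvPowerSeries (Fin n) k) (AS p a)
    (AS p a ⧸ Ideal.map (algebraMap (MvPowerSeries (Fin n) k) (AS p a))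
      (Ideal.span (Set.range a)))
  rw [e2, mul_one] at e1
  rw [← e1]
  let E : (AS p a ⧸ Ideal.map (algebraMap (MvPowerSeries (Fin n) k) (AS p a))
      (Ideal.span (Set.range a))) ≃ₗ[MvPowerSeries (Fin n) k]
      ((Fin n → Fin p) →₀ (MvPowerSeries (Fin n) k ⧸ Ideal.span (Set.range a))) :=
    (Submodule.Quotient.restrictScalarsEquiv (MvPowerSeries (Fin n) k)
      (Ideal.map (algebraMap (MvPowerSeries (Fin n) k) (AS p a))
        (Ideal.span (Set.range a)))).symm ≪≫ₗ
    Submodule.quotEquivOfEq _ _ (Ideal.smul_top_eq_map (S := AS p a)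
      (Ideal.span (Set.range a))).symm ≪≫ₗ
    (TensorProduct.quotTensorEquivQuotSMul (AS p a) (Ideal.span (Set.range a))).symm ≪≫ₗ
    LinearEquiv.lTensor _ (psBasis p a).repr ≪≫ₗ
    TensorProduct.finsuppScalarRight (MvPowerSeries (Fin n) k) (MvPowerSeries (Fin n) k) _
      (Fin n → Fin p)
  rw [E.length_eq, Module.length_finsupp]
  congr 1
  simp [ENat.card_eq_coe_fintype_card]

end Groth.Agent.S19998

namespace Groth.Agent.S19998

open MvPolynomial in
/-- Let `k` be a field of characteristic `p > 0`, `n ≥ 2`, `R = k[[x_1, …, x_n]]`, `a_1, …, a_n ∈ R`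
with zero constant term, `A = R[u_1, …, u_n] / (u_i ^ p - a_i ^ (p-1) u_i - x_i : i = 1..n)`, and
`σ` the `R`-algebra automorphism of `A` with `σ u_i = u_i + a_i` for every `i` (when some `a_i` is
non-zero it generates a group `G` of order `p`). Let `I ⊆ A` be the ideal generated by the elements
`σ t - t`, `t ∈ A`, which defines the fixed-point scheme of `G`. Then `I ⊆ (u_1, …, u_n) ^ p` (the
`p`-th power of the maximal ideal of `A`), and the length of `A / I` over `A` equals `p ^ n` times
the length of `R / (a_1, …, a_n)` over `R`; in particular it is a multiple of `p ^ n`. (The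
published statement is for an arbitrary moderately ramified action, which has this normal form with
`a_1, …, a_n` a system of parameters of `R`, and records only divisibility by `p ^ n`; here the
`a_i` are arbitrary non-units, both lengths being infinite when `(a_1, …, a_n)` is not primary to
the maximal ideal of `R`.) -/
theorem result
    (p : ℕ) [Fact p.Prime] (k : Type u) [Field k] [CharP k p] (n : ℕ) (hn : 2 ≤ n)
    (a : Fin n → MvPowerSeries (Fin n) k)
    (ham : ∀ i, MvPowerSeries.constantCoeff (a i) = 0) :
    let R := MvPowerSeries (Fin n) k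
    let I : Ideal (MvPolynomial (Fin n) R) :=
      Ideal.span (Set.range fun i : Fin n =>
        X i ^ p - C (a i ^ (p - 1)) * X i - C (MvPowerSeries.X i))
    let A := MvPolynomial (Fin n) R ⧸ I
    let u : Fin n → A := fun i => Ideal.Quotient.mk I (X i)
    ∀ σ : A ≃ₐ[R] A, (∀ i, σ (u i) = u i + algebraMap R A (a i)) →
      Ideal.span (Set.range fun t : A => σ t - t) ≤ Ideal.span (Set.range u) ^ p ∧
        Module.length A (A ⧸ Ideal.span (Set.range fun t : A => σ t - t)) =
          (p ^ n : ℕ∞) * Module.length R (R ⧸ Ideal.span (Set.range a)) := by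
  intro R I A u σ hσ
  exact aux p a ham σ hσ

end Groth.Agent.S19998
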