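import Groth.Statements.S2000
import Groth.Agent.Lib.Helper41.BeauvilleLaszlo
import Mathlib

set_option autoImplicit false
universe u
open TensorProduct
open EtAlg

namespace Groth.Agent.S2000

/-- Beauville–Laszlo, essential surjectivity with glueability: take a glueing pair (R -> R', f). Fix an
R'-module M', an R-module M₁ on which multiplication by f is bijective (i.e. an R_f-module), and α
an R'-linear isomorphism from the localization of M' at f to R' ⊗_R M₁ (an isomorphism of
R'_f-modules). Then there is an R-module M, glueable for (R -> R', f), with an R'-isomorphism R' ⊗_R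
M ≅ M' and an R-isomorphism M_f ≅ M₁ under which α becomes the canonical identification (R' ⊗_R M)_f
= R' ⊗_R M_f. -/
theorem result (R R' : Type u) [CommRing R] [CommRing R'] [Algebra R R'] (f : R)
    (hRR : EtGlue.IsGlueingPair R R' f) (M' : Type u) [AddCommGroup M'] [Module R' M'] (M₁ : Type u) [AddCommGroup M₁]
    [Module R M₁] (hf : Function.Bijective fun x : M₁ => f • x)
    (α : LocalizedModule (Submonoid.powers (algebraMap R R' f)) M' ≃ₗ[R'] R' ⊗[R] M₁) :
    ∃ (M : Type u) (_ : AddCommGroup M) (_ : Module R M) (_ : EtGlue.IsGlueable R R' f M)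
      (e' : R' ⊗[R] M ≃ₗ[R'] M') (e₁ : LocalizedModule (Submonoid.powers f) M ≃ₗ[R] M₁),
      ∀ m : M, α (LocalizedModule.mkLinearMap (Submonoid.powers (algebraMap R R' f)) M' (e' ((1 : R') ⊗ₜ[R] m))) =
        (1 : R') ⊗ₜ[R] e₁ (LocalizedModule.mkLinearMap (Submonoid.powers f) M m) := by
  classical
  let _ : Module R M' := Module.compHom M' (algebraMap R R')
  have : IsScalarTower R R' M' := IsScalarTower.of_algebraMap_smul fun r m => rfl
  have hq := hRR.1
  have hloc := Groth.Agent.Lib.Helper41.BeauvilleLaszlo.isLocalizedModule_glueSnd α hf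
  let e' : R' ⊗[R] (Groth.Agent.Lib.Helper41.BeauvilleLaszlo.glue α) ≃ₗ[R'] M' :=
    LinearEquiv.ofBijective (Groth.Agent.Lib.Helper41.BeauvilleLaszlo.ev α)
      ⟨Groth.Agent.Lib.Helper41.BeauvilleLaszlo.ev_injective α hf hRR,
        Groth.Agent.Lib.Helper41.BeauvilleLaszlo.ev_surjective α hf hq⟩
  let e₁ : LocalizedModule (Submonoid.powers f) (Groth.Agent.Lib.Helper41.BeauvilleLaszlo.glue α)
      ≃ₗ[R] M₁ :=
    IsLocalizedModule.iso (Submonoid.powers f) (Groth.Agent.Lib.Helper41.BeauvilleLaszlo.glueSnd α)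
  have he' : ∀ m : Groth.Agent.Lib.Helper41.BeauvilleLaszlo.glue α,
      e' ((1 : R') ⊗ₜ[R] m) = Groth.Agent.Lib.Helper41.BeauvilleLaszlo.glueFst α m := by
    intro m
    change Groth.Agent.Lib.Helper41.BeauvilleLaszlo.ev α ((1 : R') ⊗ₜ[R] m) = _
    rw [Groth.Agent.Lib.Helper41.BeauvilleLaszlo.ev_tmul, one_smul]
  refine ⟨Groth.Agent.Lib.Helper41.BeauvilleLaszlo.glue α, inferInstance, inferInstance, ?_,
    e', e₁, ?_⟩
  · apply Groth.Agent.Lib.Helper41.EtGlueModule.isGlueable_of_torsion hq
    · rintro m ⟨n, hn⟩ h0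
      have h1 : Groth.Agent.Lib.Helper41.BeauvilleLaszlo.glueFst α m = 0 := by
        rw [← he', h0, map_zero]
      have h2 : Groth.Agent.Lib.Helper41.BeauvilleLaszlo.glueSnd α m = 0 := by
        apply (Groth.Agent.Lib.Helper41.BeauvilleLaszlo.smul_pow_bijective hf n).1
        change f ^ n • Groth.Agent.Lib.Helper41.BeauvilleLaszlo.glueSnd α m = f ^ n • 0
        rw [← map_smul, hn, map_zero, smul_zero]
      apply Subtype.ext
      exact Prod.ext h1 h2
    · exact fun x hx =>
        Groth.Agent.Lib.Helper41.EtGlueModule.torsion_surjective_of_isGlueingPair hRR x hx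
  · intro m
    rw [he']
    have : e₁ (LocalizedModule.mkLinearMap (Submonoid.powers f) _ m) =
        Groth.Agent.Lib.Helper41.BeauvilleLaszlo.glueSnd α m := by
      change IsLocalizedModule.iso (Submonoid.powers f)
        (Groth.Agent.Lib.Helper41.BeauvilleLaszlo.glueSnd α) (LocalizedModule.mk m 1) = _
      rw [IsLocalizedModule.iso_mk_one]
    rw [this]
    exact Groth.Agent.Lib.Helper41.BeauvilleLaszlo.glue_spec α m

end Groth.Agent.S2000
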