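import Groth.Statements.S20004
import Groth.Agent.Lib.Helper29.WildLift.Count
import Groth.Agent.Lib.Helper73.RegularNormal
import Groth.Agent.S15800

set_option autoImplicit false
universe u v w
open WildQuot

namespace Groth.Agent.S20004

/-- Let `A` be a complete regular local ring of Krull dimension at least `2` and prime characteristic
`p`; let `k` be a field with `k → A` mapping onto the residue field, such that `k` has no Galois
extension of degree `p`; let `G` be a group of order `p` acting on `A` by `k`-algebra automorphisms,
ramified precisely at the origin (for every non-maximal prime `P`, the inertia subgroup of `P` is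
trivial). Let `R` be a `k`-algebra with an injective structure map `R → A` whose image is fixed by
`G` (so `R ⊆ A^G`), with `A` finite over `R`. Galois extensions of fraction fields are expressed
through automorphism counts: since `A` and `A^G` are normal domains finite over `R`,
`Frac(A^G)/Frac(R)` is Galois exactly when `p` times the number of `k`-algebra automorphisms of
`A^G` fixing the image of `R` equals the rank `[Frac A : Frac R]` of `A` over `R`, and
`Frac(A)/Frac(R)` is Galois exactly when the number of `R`-algebra automorphisms of `A` equals that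
rank. The row: the first equality implies the second. (The published statement assumes `R ⊆ A^G`
finite with `Frac(A^G)/Frac(R)` Galois and concludes that `Frac(A)/Frac(R)` is Galois; here `R` is
taken to contain `k`, as the norm subrings of the source do.) -/
theorem result
    (p : ℕ) [Fact p.Prime] (A : Type u) [CommRing A] [IsRegularLocalRing A] [CharP A p]
    [IsAdicComplete (IsLocalRing.maximalIdeal A) A] (hdim : 2 ≤ ringKrullDim A)
    (k : Type v) [Field k] [Algebra k A]
    (hk : Function.Surjective (IsLocalRing.residue A ∘ algebraMap k A))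
    (hkp : ∀ (L : Type v) [Field L] [Algebra k L], IsGalois k L → Module.finrank k L ≠ p)
    (G : Type w) [Group G] [Finite G] [MulSemiringAction G A] (hcard : Nat.card G = p)
    [SMulCommClass G k A]
    (hram : ∀ P : Ideal A, P.IsPrime → P ≠ IsLocalRing.maximalIdeal A → P.inertia G = ⊥)
    (R : Type v) [CommRing R] [Algebra k R] [Algebra R A] [IsScalarTower k R A] [Module.Finite R A]
    (hRinj : Function.Injective (algebraMap R A))
    (hRG : ∀ (σ : G) (r : R), σ • algebraMap R A r = algebraMap R A r)
    (hgal : p * Nat.card {φ : FixedPoints.subalgebra k A G ≃ₐ[k] FixedPoints.subalgebra k A G //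
        ∀ b : FixedPoints.subalgebra k A G, (b : A) ∈ Set.range (algebraMap R A) → (φ b : A) = b} =
      Module.finrank R A) :
    Nat.card (A ≃ₐ[R] A) = Module.finrank R A := by
  classical
  obtain ⟨hdom, hic⟩ :=
    Groth.Agent.Lib.Helper73.RegularNormal.isIntegrallyClosed_of_isRegularLocalRing A
  have := hdom
  have := hic
  obtain ⟨hfin, hle⟩ :=
    Groth.Agent.Lib.Helper29.WildLift.card_algEquiv_le_finrank (R := R) (A := A) hRinj
  have := hfin
  apply le_antisymm hle
  rw [← hgal]
  have hbot : (⊥ : Ideal A) ≠ IsLocalRing.maximalIdeal A := by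
    intro h
    have hf : IsField A := IsLocalRing.isField_iff_maximalIdeal_eq.mpr h.symm
    have := ringKrullDim_eq_zero_of_isField hf
    rw [this] at hdim
    exact absurd hdim (by decide)
  have : FaithfulSMul G A :=
    Groth.Agent.Lib.Helper29.WildLift.faithfulSMul_of_inertia_bot (hram ⊥ Ideal.isPrime_bot hbot)
  have : SMulCommClass G R A := ⟨fun g r a => by
    rw [Algebra.smul_def, smul_mul', hRG, Algebra.smul_def]⟩
  have hlift : ∀ φ : {φ : FixedPoints.subalgebra k A G ≃ₐ[k] FixedPoints.subalgebra k A G //
      ∀ b : FixedPoints.subalgebra k A G, (b : A) ∈ Set.range (algebraMap R A) → (φ b : A) = b},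
      ∃ ψ : A ≃ₐ[R] A, ∀ x : FixedPoints.subalgebra k A G, ψ x = φ.1 x := by
    intro φ
    obtain ⟨ψ, hψ⟩ := Groth.Agent.S15800.result p A hdim k hk hkp G hcard hram φ.1
    have hcomm : ∀ r : R, ψ.toRingEquiv (algebraMap R A r) = algebraMap R A r := by
      intro r
      have hmem : algebraMap R A r ∈ FixedPoints.subalgebra k A G := fun g => hRG g r
      have h1 := hψ ⟨algebraMap R A r, hmem⟩
      have h2 := φ.2 ⟨algebraMap R A r, hmem⟩ ⟨r, rfl⟩
      exact h1.trans h2
    exact ⟨AlgEquiv.ofRingEquiv (f := ψ.toRingEquiv) hcomm, hψ⟩
  choose Ψ hΨ using hlift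
  let F : {φ : FixedPoints.subalgebra k A G ≃ₐ[k] FixedPoints.subalgebra k A G //
      ∀ b : FixedPoints.subalgebra k A G, (b : A) ∈ Set.range (algebraMap R A) → (φ b : A) = b} × G →
      (A ≃ₐ[R] A) := fun x => Ψ x.1 * MulSemiringAction.toAlgAut G R A x.2
  have hF : Function.Injective F := by
    rintro ⟨φ, g⟩ ⟨φ', g'⟩ h
    have h1 : ∀ a : A, Ψ φ (g • a) = Ψ φ' (g' • a) :=
      fun a => congrArg (fun e : A ≃ₐ[R] A => e a) h
    have hφ : φ = φ' := by
      apply Subtype.ext
      ext x
      have := h1 x
      rw [x.2 g, x.2 g', hΨ, hΨ] at this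
      exact this
    subst hφ
    have hg : g = g' := by
      apply eq_of_smul_eq_smul (α := A)
      intro a
      exact (Ψ φ).injective (h1 a)
    rw [hg]
  have := Nat.card_le_card_of_injective F hF
  rw [Nat.card_prod, hcard, mul_comm] at this
  exact this

end Groth.Agent.S20004
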