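import Groth.Statements.S2001
import Mathlib

set_option autoImplicit false
universe u
open TensorProduct
open EtAlg

namespace Groth.Agent.S2001

/-- Let (R -> R', f) be a glueing pair and M, N R-modules glueable for it. Given an R'-linear map φ' :
R' ⊗_R M -> R' ⊗_R N and an R-linear map φ₁ : M_f -> N_f which induce the same map into (R' ⊗_R N)_f
on elements of M, there is a unique R-linear map ψ : M -> N whose base change to R' is φ' and whose
localization is φ₁. -/
theorem result (R R' : Type u) [CommRing R] [CommRing R'] [Algebra R R'] (f : R)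
    (hRR : EtGlue.IsGlueingPair R R' f) (M N : Type u) [AddCommGroup M] [Module R M] [AddCommGroup N] [Module R N]
    (hM : EtGlue.IsGlueable R R' f M) (hN : EtGlue.IsGlueable R R' f N)
    (φ' : R' ⊗[R] M →ₗ[R'] R' ⊗[R] N)
    (φ₁ : LocalizedModule (Submonoid.powers f) M →ₗ[R] LocalizedModule (Submonoid.powers f) N)
    (hc : ∀ m : M, EtGlue.locOfTensor R R' f N (φ' ((1 : R') ⊗ₜ[R] m)) =
      EtGlue.tensorOfLoc R R' f N (φ₁ (LocalizedModule.mkLinearMap (Submonoid.powers f) M m))) :
    ∃! ψ : M →ₗ[R] N, ψ.baseChange R' = φ' ∧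
      IsLocalizedModule.map (Submonoid.powers f) (LocalizedModule.mkLinearMap (Submonoid.powers f) M)
        (LocalizedModule.mkLinearMap (Submonoid.powers f) N) ψ = φ₁ := by
  classical
  obtain ⟨hNinj, hNmid⟩ := hN
  -- the value of ψ
  have hex : ∀ m : M, ∃ n : N, (1 : R') ⊗ₜ[R] n = φ' ((1 : R') ⊗ₜ[R] m) ∧
      LocalizedModule.mkLinearMap (Submonoid.powers f) N n =
        φ₁ (LocalizedModule.mkLinearMap (Submonoid.powers f) M m) :=
    fun m => hNmid _ _ (hc m)
  choose ψ₀ hψ₁ hψ₂ using hex
  have huniq : ∀ n n' : N, (1 : R') ⊗ₜ[R] n = (1 : R') ⊗ₜ[R] n' →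
      LocalizedModule.mkLinearMap (Submonoid.powers f) N n =
        LocalizedModule.mkLinearMap (Submonoid.powers f) N n' → n = n' := by
    intro n n' h1 h2
    apply hNinj
    simp only [Prod.mk.injEq]
    exact ⟨h1, h2⟩
  let ψ : M →ₗ[R] N :=
    { toFun := ψ₀
      map_add' := by
        intro a b
        apply huniq
        · rw [hψ₁, TensorProduct.tmul_add, TensorProduct.tmul_add, map_add, hψ₁, hψ₁]
        · rw [hψ₂, map_add, map_add, map_add, hψ₂, hψ₂]
      map_smul' := by
        intro c a
        apply huniq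
        · rw [hψ₁, RingHom.id_apply, TensorProduct.tmul_smul, TensorProduct.tmul_smul,
            ← IsScalarTower.algebraMap_smul R' c ((1 : R') ⊗ₜ[R] a), map_smul, hψ₁,
            IsScalarTower.algebraMap_smul]
        · rw [hψ₂, RingHom.id_apply, map_smul, map_smul, map_smul, hψ₂] }
  have hψapp : ∀ m, ψ m = ψ₀ m := fun _ => rfl
  have hbc : ψ.baseChange R' = φ' := by
    apply TensorProduct.AlgebraTensorModule.curry_injective
    ext m
    simp only [TensorProduct.AlgebraTensorModule.curry_apply, TensorProduct.curry_apply,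
      LinearMap.coe_restrictScalars, LinearMap.baseChange_tmul]
    rw [hψapp, hψ₁]
  have hloc : IsLocalizedModule.map (Submonoid.powers f)
      (LocalizedModule.mkLinearMap (Submonoid.powers f) M)
      (LocalizedModule.mkLinearMap (Submonoid.powers f) N) ψ = φ₁ := by
    apply IsLocalizedModule.ext (Submonoid.powers f)
      (LocalizedModule.mkLinearMap (Submonoid.powers f) M)
      (IsLocalizedModule.map_units (LocalizedModule.mkLinearMap (Submonoid.powers f) N))
    ext m
    simp only [LinearMap.coe_comp, Function.comp_apply, IsLocalizedModule.map_apply]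
    rw [hψapp, hψ₂]
  refine ⟨ψ, ⟨hbc, hloc⟩, ?_⟩
  rintro χ ⟨hχ1, hχ2⟩
  ext m
  apply huniq
  · rw [hψapp, hψ₁, ← hχ1, LinearMap.baseChange_tmul]
  · rw [hψapp, hψ₂, ← hχ2, IsLocalizedModule.map_apply]

end Groth.Agent.S2001
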