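import Groth.Statements.S20010
import Groth.Agent.Lib.Helper93.LimitZariskiCover

set_option autoImplicit false
universe u
open CategoryTheory CategoryTheory.Limits AlgebraicGeometry TopologicalSpace
open ModPair

namespace Groth.Agent.S20010

/-- Let (X_i) be a cofiltered system of schemes with affine transition morphisms such that X_{i₀} is
quasi-compact and quasi-separated for some index i₀, let X be its limit, and let {U_a ⟶ X} be a
family of quasi-compact open immersions (open immersions of finite presentation) which is jointly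
surjective (a covering family for the Zariski class). Then the covering descends: for some index i
there is a finite jointly surjective family {V_j ⟶ X_i}_{j < n} of quasi-compact open immersions
such that every V_j ×_{X_i} X is one of the U_a, i.e. for each j some U_{a_j} ⟶ X is the base change
of V_j ⟶ X_i along X ⟶ X_i. -/
theorem result {I : Type u} [SmallCategory I] [IsCofiltered I]
    (D : I ⥤ Scheme.{u}) (c : Cone D) (hc : IsLimit c)
    [∀ (i j : I) (t : i ⟶ j), IsAffineHom (D.map t)] (i₀ : I) [CompactSpace (D.obj i₀)]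
    [QuasiSeparatedSpace (D.obj i₀)] {ι : Type u} (U : ι → Scheme.{u}) (u : ∀ a, U a ⟶ c.pt)
    [∀ a, IsOpenImmersion (u a)] [∀ a, QuasiCompact (u a)] (hcov : ∀ x : c.pt, ∃ (a : ι) (y : U a), (u a).base y = x) :
    ∃ (i : I) (n : ℕ) (V : Fin n → Scheme.{u}) (v : ∀ j, V j ⟶ D.obj i) (a : Fin n → ι)
      (e : ∀ j, U (a j) ⟶ V j),
      (∀ j, IsOpenImmersion (v j) ∧ QuasiCompact (v j)) ∧
      (∀ x : D.obj i, ∃ (j : Fin n) (y : V j), (v j).base y = x) ∧
      ∀ j, IsPullback (e j) (u (a j)) (v j) (c.π.app i) := by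
  classical
  let D' : Over i₀ ⥤ Scheme.{u} := Over.forget i₀ ⋙ D
  let c' : Cone D' := c.whisker (Over.forget i₀)
  have hc' : IsLimit c' := (Functor.Initial.isLimitWhiskerEquiv (Over.forget i₀) c).symm hc
  have hAff : ∀ {i j : Over i₀} (f : i ⟶ j), IsAffineHom (D'.map f) := fun f => by
    dsimp [D']; infer_instance
  have hCpt : ∀ i : Over i₀, CompactSpace (D'.obj i) := fun i =>
    QuasiCompact.compactSpace_of_compactSpace (D.map i.hom)
  have hQS : ∀ i : Over i₀, QuasiSeparatedSpace (D'.obj i) := fun i =>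
    quasiSeparatedSpace_of_quasiSeparated (D.map i.hom)
  have : CompactSpace c.pt := Scheme.compactSpace_of_isLimit D' c' hc'
  have hU : ∀ a, IsCompact ((u a).opensRange : Set c.pt) := fun a => by
    have : CompactSpace (U a) := QuasiCompact.compactSpace_of_compactSpace (u a)
    exact isCompact_range (u a).continuous
  obtain ⟨t, ht⟩ := isCompact_univ.elim_finite_subcover (fun a => ((u a).opensRange : Set c.pt))
    (fun a => (u a).opensRange.isOpen) (by
      intro x _
      obtain ⟨a, y, rfl⟩ := hcov x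
      exact Set.mem_iUnion.mpr ⟨a, y, rfl⟩)
  have hcov' : ⨆ a ∈ t, (u a).opensRange = ⊤ := by
    rw [eq_top_iff]
    intro x _
    obtain ⟨a, ha⟩ := Set.mem_iUnion.mp (ht (Set.mem_univ x))
    obtain ⟨hat, hx⟩ := Set.mem_iUnion.mp ha
    simp only [TopologicalSpace.Opens.mem_iSup]
    exact ⟨a, hat, hx⟩
  obtain ⟨k, V', hV', hVtop⟩ := Groth.Agent.Lib.Helper93.LimitZariskiCover.exists_cover_descends
    D' c' hc' t (fun a => (u a).opensRange) hU hcov'
  obtain ⟨V, hV, hVtop⟩ : ∃ V : ι → (D.obj k.left).Opens,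
      (∀ a ∈ t, IsCompact (V a : Set (D.obj k.left)) ∧
        c.π.app k.left ⁻¹ᵁ V a = (u a).opensRange) ∧ ⨆ a ∈ t, V a = ⊤ := ⟨V', hV', hVtop⟩
  have hQSk : QuasiSeparatedSpace (D.obj k.left) := hQS k


  have hmem : ∀ j : Fin t.card, ((t.equivFin).symm j).1 ∈ t := fun j => ((t.equivFin).symm j).2
  have hrange : ∀ j : Fin t.card, Set.range (u ((t.equivFin).symm j).1 ≫ c.π.app k.left) ⊆
      Set.range (V ((t.equivFin).symm j).1).ι := by
    intro j
    rintro _ ⟨y, rfl⟩
    have h := (hV _ (hmem j)).2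
    have hy : (u ((t.equivFin).symm j).1) y ∈ (u ((t.equivFin).symm j).1).opensRange := ⟨y, rfl⟩
    rw [← h] at hy
    exact ⟨⟨_, hy⟩, rfl⟩
  refine ⟨k.left, t.card, fun j => ↑(V ((t.equivFin).symm j).1),
    fun j => (V ((t.equivFin).symm j).1).ι, fun j => ((t.equivFin).symm j).1,
    fun j => IsOpenImmersion.lift (V ((t.equivFin).symm j).1).ι
      (u ((t.equivFin).symm j).1 ≫ c.π.app k.left) (hrange j), ?_, ?_, ?_⟩
  · intro j
    refine ⟨inferInstance, ?_⟩
    have : CompactSpace (V ((t.equivFin).symm j).1 : Scheme.{u}) :=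
      isCompact_iff_compactSpace.mp (hV _ (hmem j)).1
    exact quasiCompact_of_compactSpace (V ((t.equivFin).symm j).1).ι
  · intro x
    have hx : x ∈ (⨆ a ∈ t, V a : (D.obj k.left).Opens) := by rw [hVtop]; trivial
    simp only [TopologicalSpace.Opens.mem_iSup] at hx
    obtain ⟨a, hat, hxa⟩ := hx
    have haj : ((t.equivFin).symm (t.equivFin ⟨a, hat⟩)).1 = a := by simp
    refine ⟨t.equivFin ⟨a, hat⟩, ⟨x, ?_⟩, rfl⟩
    rw [haj]
    exact hxa
  · intro j
    refine IsOpenImmersion.isPullback _ _ _ _ (IsOpenImmersion.lift_fac _ _ _).symm ?_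
    rw [Scheme.Opens.opensRange_ι]
    exact (hV _ (hmem j)).2

end Groth.Agent.S20010
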