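import Groth.Statements.S20014
import Groth.Agent.Lib.Helper97.NormalSch
-- import your own Groth.Agent.* helpers here

set_option autoImplicit false
universe u
open CategoryTheory CategoryTheory.Limits AlgebraicGeometry
open RatSing

namespace Groth.Agent.S20014

/-- Let k be a field, X an integral k-scheme which is separated and of finite type over k, and f : X̃ →
X a proper morphism of k-schemes which is birational — an isomorphism over some nonempty open subset
of X — and for which O_X → f_*O_X̃ is an isomorphism (Γ(V, O_X) → Γ(f⁻¹V, O_X̃) bijective for every
open V of X). If X̃ is normal (every local ring an integrally closed domain), then X is normal. (In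
the text this is the last clause of a lemma whose other hypotheses — X̃ Cohen–Macaulay, vanishing of
the higher direct images of O_X̃ and of the dualizing sheaf — and whose standing assumption that k
is perfect of positive characteristic play no role in this clause; they are omitted here.) -/
theorem result (k : Type u) [Field k]
    (X Xt : Scheme.{u}) [X.Over (Spec (CommRingCat.of k))] [Xt.Over (Spec (CommRingCat.of k))]
    [IsIntegral X] [IsSeparated (X ↘ Spec (CommRingCat.of k))]
    [LocallyOfFiniteType (X ↘ Spec (CommRingCat.of k))] [QuasiCompact (X ↘ Spec (CommRingCat.of k))]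
    (f : Xt ⟶ X) (hf : f ≫ (X ↘ Spec (CommRingCat.of k)) = Xt ↘ Spec (CommRingCat.of k)) [IsProper f]
    (U : X.Opens) (hU : (U : Set X).Nonempty) (hbir : IsIso (f ∣_ U))
    (hfib : ∀ V : X.Opens, IsIso (f.app V))
    (hXt : Pi1.IsNormalScheme Xt) : Pi1.IsNormalScheme X := by
  have hft : LocallyOfFiniteType (Xt ↘ Spec (CommRingCat.of k)) := by
    rw [← hf]; infer_instance
  have hqc : QuasiCompact (Xt ↘ Spec (CommRingCat.of k)) := by
    rw [← hf]; infer_instance
  have hLN : IsLocallyNoetherian Xt :=
    LocallyOfFiniteType.isLocallyNoetherian (Xt ↘ Spec (CommRingCat.of k))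
  have hC : CompactSpace Xt :=
    QuasiCompact.compactSpace_of_compactSpace (Xt ↘ Spec (CommRingCat.of k))
  have hN : IsNoetherian Xt := {}
  have hsurj : Function.Surjective f := by
    have hcl : IsClosed (Set.range f) := f.isClosedMap.isClosed_range
    have hsub : (U : Set X) ⊆ Set.range f := by
      intro x hx
      have hs : Function.Surjective (f ∣_ U) :=
        (ConcreteCategory.bijective_of_isIso (f ∣_ U).base).2
      obtain ⟨z, hz⟩ := hs ⟨x, hx⟩
      refine ⟨z.1, ?_⟩
      have := congrArg Subtype.val hz
      rwa [morphismRestrict_base_coe] at this
    have hdense : Dense (U : Set X) :=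
      U.isOpen.dense hU
    have : Set.range f = Set.univ := by
      apply Set.eq_univ_of_univ_subset
      rw [← hdense.closure_eq]
      exact hcl.closure_subset_iff.mpr hsub
    exact Set.range_eq_univ.mp this
  exact Groth.Agent.Lib.Helper97.NormalSch.isNormalScheme_of_fibration f hsurj hfib hXt

end Groth.Agent.S20014
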