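import Groth.Statements.S20018
import Mathlib

set_option autoImplicit false
universe u
open CAlg

namespace Groth.Agent.S20018

open PowerSeries

/-- Coefficients below `n+1` of `Q * (1 - a X^(n+1))`. -/
theorem coeff_mul_one_sub_lt {R : Type*} [CommRing R] (Q : PowerSeries R) (a : R) (n j : ℕ)
    (hj : j < n + 1) :
    coeff j (Q * (1 - C a * X ^ (n + 1))) = coeff j Q := by
  have h : Q * (1 - C a * X ^ (n + 1)) = Q - X ^ (n + 1) * (C a * Q) := by ring
  rw [h, map_sub, coeff_X_pow_mul', if_neg (by omega), sub_zero]

theorem coeff_mul_one_sub_eq {R : Type*} [CommRing R] (Q : PowerSeries R) (a : R) (n : ℕ) :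
    coeff (n + 1) (Q * (1 - C a * X ^ (n + 1))) = coeff (n + 1) Q - a * constantCoeff Q := by
  have h : Q * (1 - C a * X ^ (n + 1)) = Q - X ^ (n + 1) * (C a * Q) := by ring
  rw [h, map_sub, coeff_X_pow_mul', if_pos le_rfl, Nat.sub_self, coeff_C_mul,
    coeff_zero_eq_constantCoeff_apply]

/-- the partial products -/
noncomputable def prodSeq {R : Type*} [CommRing R] (x : PowerSeries R) : ℕ → PowerSeries R
  | 0 => 1
  | (n + 1) => prodSeq x n *
      (1 - C (coeff (n + 1) (prodSeq x n) - coeff (n + 1) x) * X ^ (n + 1))

noncomputable def alphaSeq {R : Type*} [CommRing R] (x : PowerSeries R) (n : ℕ) : R :=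
  coeff (n + 1) (prodSeq x n) - coeff (n + 1) x

theorem prodSeq_eq_prod {R : Type*} [CommRing R] (x : PowerSeries R) (n : ℕ) :
    prodSeq x n = ∏ i ∈ Finset.range n, (1 - C (alphaSeq x i) * X ^ (i + 1) : PowerSeries R) := by
  induction n with
  | zero => simp [prodSeq]
  | succ n ih =>
    rw [Finset.prod_range_succ, ← ih]
    rfl

theorem constantCoeff_prod_one_sub {R : Type*} [CommRing R] (α : ℕ → R) (n : ℕ) :
    constantCoeff (∏ i ∈ Finset.range n, (1 - C (α i) * X ^ (i + 1) : PowerSeries R)) = 1 := by
  rw [map_prod]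
  apply Finset.prod_eq_one
  intro i _
  simp

theorem prodSeq_coeff {R : Type*} [CommRing R] (x : PowerSeries R)
    (hx : constantCoeff x = 1) (n : ℕ) :
    ∀ j, j < n + 1 → coeff j (prodSeq x n) = coeff j x := by
  induction n with
  | zero =>
    intro j hj
    have : j = 0 := by omega
    subst this
    simp [prodSeq, hx]
  | succ n ih =>
    intro j hj
    rcases Nat.lt_or_ge j (n + 1) with h | h
    · change coeff j (prodSeq x n * _) = _
      rw [coeff_mul_one_sub_lt _ _ _ _ h]
      exact ih j h
    · have hj' : j = n + 1 := by omega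
      subst hj'
      change coeff (n + 1) (prodSeq x n * _) = _
      rw [coeff_mul_one_sub_eq]
      have hc : constantCoeff (prodSeq x n) = 1 := by
        rw [prodSeq_eq_prod]
        exact constantCoeff_prod_one_sub _ _
      rw [hc]
      ring

theorem result
    (R : Type*) [CommRing R] (x : PowerSeries R) (hx : PowerSeries.constantCoeff x = 1) :
    ∃! α : ℕ → R, ∀ N : ℕ,
      PowerSeries.trunc (N + 2) x =
        PowerSeries.trunc (N + 2) (∏ i ∈ Finset.range (N + 1),
          (1 - PowerSeries.C (α i) * PowerSeries.X ^ (i + 1) : PowerSeries R)) := by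
  refine ⟨alphaSeq x, ?_, ?_⟩
  · intro N
    rw [← prodSeq_eq_prod]
    ext j
    rw [coeff_trunc, coeff_trunc]
    split_ifs with h
    · exact (prodSeq_coeff x hx (N + 1) j h).symm
    · rfl
  · intro β hβ
    funext N
    induction N using Nat.strong_induction_on with
    | _ N ih =>
      have h1 := hβ N
      have h2 : coeff (N + 1) x = coeff (N + 1) (∏ i ∈ Finset.range (N + 1),
          (1 - C (β i) * X ^ (i + 1) : PowerSeries R)) := by
        have := congrArg (fun q => Polynomial.coeff q (N + 1)) h1
        simp only [coeff_trunc] at this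
        rw [if_pos (by omega), if_pos (by omega)] at this
        exact this
      rw [Finset.prod_range_succ, coeff_mul_one_sub_eq, constantCoeff_prod_one_sub, mul_one] at h2
      have h3 : ∏ i ∈ Finset.range N, (1 - C (β i) * X ^ (i + 1) : PowerSeries R) = prodSeq x N := by
        rw [prodSeq_eq_prod]
        apply Finset.prod_congr rfl
        intro i hi
        rw [ih i (Finset.mem_range.mp hi)]
      rw [h3] at h2
      unfold alphaSeq
      rw [h2]
      ring

end Groth.Agent.S20018
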