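import Groth.Statements.S20022
import Mathlib
import Groth.Agent.Lib.Helper99.GrMod2

set_option autoImplicit false
universe u
open GrLC

namespace Groth.Agent.S20022

/-- Let R be a commutative ℤ-graded ring whose degree-zero subring R_0 is a field k and which is the
Laurent polynomial ring k[T, T⁻¹] on a homogeneous invertible element T of positive degree d, in the
following intrinsic sense: T is a unit lying in R_d, and every nonzero homogeneous element of degree
n equals a·T^j for some a ∈ R_0 and some integer j with j·d = n (so R_n = 0 unless d divides n, and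
R_{jd} = k·T^j). Then every graded R-module M is free in the graded sense: M has an R-basis
consisting of homogeneous elements. (The other case of condition (2), R = k concentrated in degree
zero, is not included.) -/
theorem result (R : Type u) [CommRing R]
    (𝒜 : ℤ → AddSubgroup R) [GradedRing 𝒜] (h0 : IsField (GrLC.deg0 𝒜))
    (d : ℤ) (hd : 0 < d) (T : Rˣ) (hT : (T : R) ∈ 𝒜 d)
    (hA : ∀ (n : ℤ) (x : R), x ∈ 𝒜 n → x ≠ 0 →
      ∃ j : ℤ, ∃ a ∈ 𝒜 0, j * d = n ∧ x = a * ((T ^ j : Rˣ) : R))
    (M : Type u) [AddCommGroup M] [Module R M] (ℳ : ℤ → AddSubgroup M)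
    [DirectSum.Decomposition ℳ] [SetLike.GradedSMul 𝒜 ℳ] :
    ∃ (κ : Type u) (b : Module.Basis κ R M), ∀ i : κ, SetLike.IsHomogeneousElem ℳ (b i) := by
  classical
  -- every nonzero homogeneous element is a unit
  have hunit : ∀ (n : ℤ) (x : R), x ∈ 𝒜 n → x ≠ 0 → IsUnit x := by
    intro n x hx hx0
    obtain ⟨j, a, ha, -, rfl⟩ := hA n x hx hx0
    have ha0 : (⟨a, ha⟩ : GrLC.deg0 𝒜) ≠ 0 := by
      intro h
      apply hx0
      have : a = 0 := congrArg Subtype.val h
      rw [this, zero_mul]
    obtain ⟨b, hb⟩ := h0.mul_inv_cancel ha0
    have hab : a * (b : R) = 1 := congrArg Subtype.val hb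
    exact (IsUnit.of_mul_eq_one _ hab).mul (Units.isUnit _)
  let H := {m : M // SetLike.IsHomogeneousElem ℳ m}
  let v : H → M := Subtype.val
  obtain ⟨s, hs, hmax⟩ := exists_maximal_linearIndepOn' R v
  set N : Submodule R M := Submodule.span R (v '' s) with hN
  -- `N` is a homogeneous submodule
  have hNhom : ∀ x ∈ N, ∀ n, ((DirectSum.decompose ℳ x) n : M) ∈ N := by
    intro x hx
    induction hx using Submodule.span_induction with
    | mem x hx =>
      obtain ⟨⟨y, e, hy⟩, hys, rfl⟩ := hx
      intro n
      by_cases h : e = n
      · subst h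
        rw [DirectSum.decompose_of_mem_same ℳ hy]
        exact Submodule.subset_span ⟨⟨y, e, hy⟩, hys, rfl⟩
      · rw [DirectSum.decompose_of_mem_ne ℳ hy h]
        exact zero_mem _
    | zero => intro n; simp
    | add x y _ _ hx hy =>
      intro n
      rw [DirectSum.decompose_add, DirectSum.add_apply, AddMemClass.coe_add]
      exact add_mem (hx n) (hy n)
    | smul a x _ hx =>
      intro n
      induction a using DirectSum.Decomposition.inductionOn 𝒜 generalizing n with
      | zero => simp
      | @homogeneous i a =>
        rw [Groth.Agent.Lib.Helper99.coe_decompose_smul_of_left_mem 𝒜 ℳ a.2]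
        exact N.smul_mem _ (hx _)
      | add a b ha hb =>
        rw [add_smul, DirectSum.decompose_add, DirectSum.add_apply, AddMemClass.coe_add]
        exact add_mem (ha n) (hb n)
  have htop : N = ⊤ := by
    by_contra hne
    -- a homogeneous element outside `N`
    obtain ⟨m, e, hme, hmN⟩ : ∃ m : M, ∃ e, m ∈ ℳ e ∧ m ∉ N := by
      by_contra hcon
      push Not at hcon
      apply hne
      rw [eq_top_iff]
      intro x _
      rw [← DirectSum.sum_support_decompose ℳ x]
      exact Submodule.sum_mem _ fun n _ => hcon _ n (SetLike.coe_mem _)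
    have hc0 : ∀ c : R, c • m ∈ N → c = 0 := by
      intro c hc
      have hcn : ∀ n, ((DirectSum.decompose 𝒜 c) n : R) = 0 := by
        intro n
        by_contra hne0
        have h1 := hNhom _ hc (n + e)
        rw [Groth.Agent.Lib.Helper99.coe_decompose_smul_of_mem 𝒜 ℳ c hme, add_sub_cancel_right] at h1
        obtain ⟨u, hu⟩ := hunit n _ (SetLike.coe_mem _) hne0
        apply hmN
        have := N.smul_mem (↑u⁻¹ : R) h1
        rwa [← hu, smul_smul, Units.inv_mul, one_smul] at this
      rw [← DirectSum.sum_support_decompose 𝒜 c]
      exact Finset.sum_eq_zero fun n _ => hcn n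
    let m' : H := ⟨m, e, hme⟩
    have hsingle : LinearIndepOn R v ({m'} : Set H) := by
      unfold LinearIndepOn
      have : Unique (({m'} : Set H)) := Set.uniqueSingleton m'
      rw [linearIndependent_iff]
      intro l hl
      rw [Finsupp.linearCombination_unique] at hl
      have hd : ((default : (({m'} : Set H))) : H) = m' :=
        Set.mem_singleton_iff.mp (default : (({m'} : Set H))).2
      have h0' : l default = 0 := by
        apply hc0
        have : l default • m = 0 := by simpa [hd, v, m'] using hl
        rw [this]
        exact zero_mem _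
      refine Finsupp.ext fun i => ?_
      rw [Unique.eq_default i, h0', Finsupp.zero_apply]
    have hdisj : Disjoint (Submodule.span R (v '' s)) (Submodule.span R (v '' ({m'} : Set H))) := by
      rw [Submodule.disjoint_def]
      intro x hx hx'
      rw [Set.image_singleton, Submodule.mem_span_singleton] at hx'
      obtain ⟨c, rfl⟩ := hx'
      have : c = 0 := hc0 c hx
      rw [this, zero_smul]
    have hunion := hs.union hsingle hdisj
    have := hmax _ Set.subset_union_left hunion
    apply hmN
    have hm's : m' ∈ s := by
      rw [this]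
      exact Set.mem_union_right _ rfl
    exact Submodule.subset_span ⟨m', hm's, rfl⟩
  have hspan : ⊤ ≤ Submodule.span R (Set.range (fun x : s => v x)) := by
    rw [← htop, hN, Set.image_eq_range]
  have hs' : LinearIndependent R (fun x : s => v x) := hs
  refine ⟨s, Module.Basis.mk hs' hspan, fun i => ?_⟩
  rw [Module.Basis.mk_apply]
  exact i.1.2

end Groth.Agent.S20022
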