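import Groth.Statements.S20024
import Mathlib

set_option autoImplicit false
universe u
open WittFil

namespace Groth.Agent.S20024

open WittVector in
theorem frobenius_teichmuller_charP (p : ℕ) [Fact p.Prime] {B : Type u} [CommRing B] [CharP B p]
    (v : B) : WittVector.frobenius (WittVector.teichmuller p v) = WittVector.teichmuller p (v ^ p) := by
  ext n
  rw [WittVector.coeff_frobenius_charP]
  rcases n with _ | n
  · rw [WittVector.teichmuller_coeff_zero, WittVector.teichmuller_coeff_zero]
  · rw [WittVector.teichmuller_coeff_pos p v _ (Nat.succ_pos n),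
      WittVector.teichmuller_coeff_pos p (v ^ p) _ (Nat.succ_pos n)]
    exact zero_pow (Fact.out : p.Prime).ne_zero

open WittVector in
theorem iterate_frobenius_teichmuller_charP (p : ℕ) [Fact p.Prime] {B : Type u} [CommRing B]
    [CharP B p] (s : ℕ) (v : B) :
    (WittVector.frobenius)^[s] (WittVector.teichmuller p v) = WittVector.teichmuller p (v ^ p ^ s) := by
  induction s generalizing v with
  | zero => simp
  | succ s ih =>
    rw [Function.iterate_succ_apply, frobenius_teichmuller_charP, ih, ← pow_mul, pow_succ']

/-- Case q = 0 -/
theorem result (p : ℕ) [Fact p.Prime] {S B : Type u}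
    [CommRing S] [CharP S p] [CommRing B] [Algebra S B] (m s : ℕ) (u : Bˣ) (i l : ℤ)
    (c : WittVector p S) :
    WittVector.truncate m (WittVector.teichmuller p ((u ^ l : Bˣ) : B)) *
        WittFil.vShiftTeich p m s ((u ^ i : Bˣ) : B) c =
      WittFil.vShiftTeich p m s ((u ^ (i + (p : ℤ) ^ s * l) : Bˣ) : B) c := by
  rcases subsingleton_or_nontrivial B with hB | hB
  · have : Subsingleton (TruncatedWittVector p m B) := by
      refine ⟨fun x y => ?_⟩
      ext j
      exact Subsingleton.elim _ _
    exact Subsingleton.elim _ _
  · have hp0 : (p : B) = 0 := by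
      have h1 : (p : S) = 0 := CharP.cast_eq_zero S p
      have h2 : algebraMap S B (p : S) = 0 := by rw [h1, map_zero]
      rw [map_natCast] at h2
      exact h2
    have : CharP B p := (CharP.charP_iff_prime_eq_zero (Fact.out : p.Prime)).mpr hp0
    unfold WittFil.vShiftTeich
    rw [← map_mul, mul_comm, WittVector.iterate_verschiebung_mul_left,
      iterate_frobenius_teichmuller_charP, mul_assoc, ← map_mul (WittVector.teichmuller p)]
    congr 5
    rw [← Units.val_pow_eq_pow_val, ← Units.val_mul]
    congr 1
    rw [zpow_add, ← zpow_natCast, ← zpow_mul, mul_comm l]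
    push_cast
    rfl

end Groth.Agent.S20024
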