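import Groth.Statements.S20025
import Mathlib
-- import your own Groth.Agent.* helpers here

set_option autoImplicit false
universe u
open InvQ

namespace Groth.Agent.S20025

theorem prop_of_cross {k : Type u} [Field k] (a b a' b' : k) (h0 : a ≠ 0 ∨ b ≠ 0)
    (h : a * b' = a' * b) : ∃ γ : k, a' = γ * a ∧ b' = γ * b := by
  rcases h0 with ha | hb
  · refine ⟨a' / a, (div_mul_cancel₀ a' ha).symm, ?_⟩
    rw [div_mul_eq_mul_div, eq_div_iff ha]
    linear_combination h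
  · refine ⟨b' / b, ?_, (div_mul_cancel₀ b' hb).symm⟩
    rw [div_mul_eq_mul_div, eq_div_iff hb]
    linear_combination -h

theorem perm_exists (i j : Fin 4) (hij : i ≠ j) :
    ∃ σ : Equiv.Perm (Fin 4), σ 0 = i ∧ σ 1 = j := by
  revert i j
  decide

open MvPolynomial in
theorem excl {k : Type u} [Field k] (F : MvPolynomial (Fin 2) k)
    (hA : ∃ (M : Matrix (Fin 2) (Fin 2) k) (c : k), IsUnit M.det ∧ c ≠ 0 ∧
        F = C c * W4c6intromoduli.subst M (X 0 ^ 2 * X 1 * (X 0 - X 1)))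
    (hB : ∃ (M : Matrix (Fin 2) (Fin 2) k) (c : k), IsUnit M.det ∧ c ≠ 0 ∧
        F = C c * W4c6intromoduli.subst M (X 0 ^ 2 * X 1 ^ 2)) : False := by
  obtain ⟨M, c, hM, hc, hF⟩ := hA
  obtain ⟨M', c', hM', hc', hF'⟩ := hB
  have heq := hF.symm.trans hF'
  have key : ∀ v0 v1 : k,
      c * ((M 0 0 * v0 + M 0 1 * v1) ^ 2 * (M 1 0 * v0 + M 1 1 * v1) *
        ((M 0 0 * v0 + M 0 1 * v1) - (M 1 0 * v0 + M 1 1 * v1))) =
      c' * ((M' 0 0 * v0 + M' 0 1 * v1) ^ 2 * (M' 1 0 * v0 + M' 1 1 * v1) ^ 2) := by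
    intro v0 v1
    have := congrArg (MvPolynomial.eval ![v0, v1]) heq
    simpa [W4c6intromoduli.subst, Fin.sum_univ_two] using this
  have E : ∀ v0 v1 : k, (M 0 0 * v0 + M 0 1 * v1) ^ 2 * (M 1 0 * v0 + M 1 1 * v1) *
        ((M 0 0 * v0 + M 0 1 * v1) - (M 1 0 * v0 + M 1 1 * v1)) = 0 →
      M' 0 0 * v0 + M' 0 1 * v1 = 0 ∨ M' 1 0 * v0 + M' 1 1 * v1 = 0 := by
    intro v0 v1 h
    have h1 := key v0 v1
    rw [h, mul_zero] at h1
    have h2 := (mul_eq_zero.mp h1.symm).resolve_left hc'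
    rcases mul_eq_zero.mp h2 with h3 | h3
    · exact Or.inl ((pow_eq_zero_iff two_ne_zero).mp h3)
    · exact Or.inr ((pow_eq_zero_iff two_ne_zero).mp h3)
  have E1 := E (M 1 1) (-M 1 0) (by ring)
  have E2 := E (-M 0 1) (M 0 0) (by ring)
  have E3 := E (M 1 1 - M 0 1) (M 0 0 - M 1 0) (by ring)
  rw [Matrix.det_fin_two, isUnit_iff_ne_zero] at hM hM'
  have hdet : (M' 0 0 * M' 1 1 - M' 0 1 * M' 1 0) * (M 0 0 * M 1 1 - M 0 1 * M 1 0) ≠ 0 :=
    mul_ne_zero hM' hM
  apply hdet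
  rcases E1 with h1 | h1 <;> rcases E2 with h2 | h2
  · linear_combination (M' 1 0 * -M 0 1 + M' 1 1 * M 0 0) * h1 -
      (M' 1 0 * M 1 1 + M' 1 1 * -M 1 0) * h2
  · rcases E3 with h3 | h3
    · linear_combination ((M' 1 0 * -M 0 1 + M' 1 1 * M 0 0) +
        (M' 1 0 * M 1 1 + M' 1 1 * -M 1 0)) * h1 - (M' 1 0 * M 1 1 + M' 1 1 * -M 1 0) * h3
    · linear_combination (M' 1 0 * -M 0 1 + M' 1 1 * M 0 0) * h1 -
        (M' 0 0 * -M 0 1 + M' 0 1 * M 0 0) * (h3 - h2)
  · rcases E3 with h3 | h3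
    · linear_combination (M' 1 0 * -M 0 1 + M' 1 1 * M 0 0) * (h3 - h2) -
        (M' 1 0 * M 1 1 + M' 1 1 * -M 1 0) * h2
    · linear_combination (M' 0 0 * M 1 1 + M' 0 1 * -M 1 0) * (h3 - h1) -
        (M' 0 0 * -M 0 1 + M' 0 1 * M 0 0) * h1
  · linear_combination (M' 0 0 * M 1 1 + M' 0 1 * -M 1 0) * h2 -
      (M' 0 0 * -M 0 1 + M' 0 1 * M 0 0) * h1

open MvPolynomial in
theorem exA {k : Type u} [Field k] (la mu : Fin 4 → k) (γ α β : k) (hγ : γ ≠ 0) (hα : α ≠ 0)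
    (hβ : β ≠ 0) (h1a : la 1 = γ * la 0) (h1b : mu 1 = γ * mu 0)
    (h3a : la 3 = α * la 0 + β * la 2) (h3b : mu 3 = α * mu 0 + β * mu 2)
    (hD : la 0 * mu 2 - la 2 * mu 0 ≠ 0) :
    ∃ (M : Matrix (Fin 2) (Fin 2) k) (c : k), IsUnit M.det ∧ c ≠ 0 ∧
        W4c6intromoduli.binForm la mu =
          C c * W4c6intromoduli.subst M (X 0 ^ 2 * X 1 * (X 0 - X 1)) := by
  refine ⟨!![α * mu 0, -(α * la 0); -(β * mu 2), β * la 2], -γ / (α ^ 2 * β), ?_, ?_, ?_⟩
  · rw [Matrix.det_fin_two_of, isUnit_iff_ne_zero]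
    have : α * mu 0 * (β * la 2) - -(α * la 0) * -(β * mu 2) =
        -(α * β) * (la 0 * mu 2 - la 2 * mu 0) := by ring
    rw [this]
    exact mul_ne_zero (neg_ne_zero.mpr (mul_ne_zero hα hβ)) hD
  · exact div_ne_zero (neg_ne_zero.mpr hγ) (mul_ne_zero (pow_ne_zero 2 hα) hβ)
  · have hc : (-γ / (α ^ 2 * β)) * (α ^ 2 * β) = -γ :=
      div_mul_cancel₀ _ (mul_ne_zero (pow_ne_zero 2 hα) hβ)
    have hC : (C (-γ / (α ^ 2 * β)) : MvPolynomial (Fin 2) k) * (C α ^ 2 * C β) = - C γ := by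
      rw [← map_pow, ← map_mul, ← map_mul, hc, map_neg]
    have hL0 : W4c6intromoduli.subst !![α * mu 0, -(α * la 0); -(β * mu 2), β * la 2] (X 0) =
        C α * (C (mu 0) * X 0 - C (la 0) * X 1) := by
      simp [W4c6intromoduli.subst, Fin.sum_univ_two]
      ring
    have hL1 : W4c6intromoduli.subst !![α * mu 0, -(α * la 0); -(β * mu 2), β * la 2] (X 1) =
        -(C β * (C (mu 2) * X 0 - C (la 2) * X 1)) := by
      simp [W4c6intromoduli.subst, Fin.sum_univ_two]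
      ring
    rw [W4c6intromoduli.binForm, Fin.prod_univ_four, map_mul, map_mul, map_pow, map_sub, hL0, hL1,
      h1a, h1b, h3a, h3b]
    simp only [map_mul, map_add]
    linear_combination ((C (mu 0) * X 0 - C (la 0) * X 1) ^ 2 * (C (mu 2) * X 0 - C (la 2) * X 1) *
      (C α * (C (mu 0) * X 0 - C (la 0) * X 1) + C β * (C (mu 2) * X 0 - C (la 2) * X 1))) * hC

open MvPolynomial in
theorem exB {k : Type u} [Field k] (la mu : Fin 4 → k) (γ δ : k) (hγ : γ ≠ 0) (hδ : δ ≠ 0)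
    (h1a : la 1 = γ * la 0) (h1b : mu 1 = γ * mu 0)
    (h3a : la 3 = δ * la 2) (h3b : mu 3 = δ * mu 2)
    (hD : la 0 * mu 2 - la 2 * mu 0 ≠ 0) :
    ∃ (M : Matrix (Fin 2) (Fin 2) k) (c : k), IsUnit M.det ∧ c ≠ 0 ∧
        W4c6intromoduli.binForm la mu =
          C c * W4c6intromoduli.subst M (X 0 ^ 2 * X 1 ^ 2) := by
  refine ⟨!![mu 0, -la 0; mu 2, -la 2], γ * δ, ?_, mul_ne_zero hγ hδ, ?_⟩
  · rw [Matrix.det_fin_two_of, isUnit_iff_ne_zero]
    have : mu 0 * -la 2 - -la 0 * mu 2 = la 0 * mu 2 - la 2 * mu 0 := by ring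
    rw [this]
    exact hD
  · have hL0 : W4c6intromoduli.subst !![mu 0, -la 0; mu 2, -la 2] (X 0) =
        (C (mu 0) * X 0 - C (la 0) * X 1) := by
      simp [W4c6intromoduli.subst, Fin.sum_univ_two]
      ring
    have hL1 : W4c6intromoduli.subst !![mu 0, -la 0; mu 2, -la 2] (X 1) =
        (C (mu 2) * X 0 - C (la 2) * X 1) := by
      simp [W4c6intromoduli.subst, Fin.sum_univ_two]
      ring
    rw [W4c6intromoduli.binForm, Fin.prod_univ_four, h1a, h1b, h3a, h3b]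
    simp only [map_mul, map_pow, hL0, hL1]
    ring

theorem main01 {k : Type u} [Field k] (la mu : Fin 4 → k)
    (hne : ∀ i, la i ≠ 0 ∨ mu i ≠ 0) (h01 : la 0 * mu 1 = la 1 * mu 0)
    (h3z : ∀ i j l : Fin 4, i ≠ j → j ≠ l → i ≠ l →
      ¬ (la i * mu j = la j * mu i ∧ la j * mu l = la l * mu j)) :
    Xor
      (∃ (M : Matrix (Fin 2) (Fin 2) k) (c : k), IsUnit M.det ∧ c ≠ 0 ∧
        W4c6intromoduli.binForm la mu =
          MvPolynomial.C c * W4c6intromoduli.subst M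
            (MvPolynomial.X 0 ^ 2 * MvPolynomial.X 1 * (MvPolynomial.X 0 - MvPolynomial.X 1)))
      (∃ (M : Matrix (Fin 2) (Fin 2) k) (c : k), IsUnit M.det ∧ c ≠ 0 ∧
        W4c6intromoduli.binForm la mu =
          MvPolynomial.C c * W4c6intromoduli.subst M
            (MvPolynomial.X 0 ^ 2 * MvPolynomial.X 1 ^ 2)) := by
  obtain ⟨γ, h1a, h1b⟩ := prop_of_cross (la 0) (mu 0) (la 1) (mu 1) (hne 0) h01
  have hγ : γ ≠ 0 := by
    rintro rfl
    rcases hne 1 with h | h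
    · exact h (by rw [h1a, zero_mul])
    · exact h (by rw [h1b, zero_mul])
  have h02 : la 0 * mu 2 ≠ la 2 * mu 0 := fun h =>
    h3z 1 0 2 (by decide) (by decide) (by decide) ⟨h01.symm, h⟩
  have h03 : la 0 * mu 3 ≠ la 3 * mu 0 := fun h =>
    h3z 1 0 3 (by decide) (by decide) (by decide) ⟨h01.symm, h⟩
  have hD : la 0 * mu 2 - la 2 * mu 0 ≠ 0 := sub_ne_zero.mpr h02
  by_cases h23 : la 2 * mu 3 = la 3 * mu 2
  · obtain ⟨δ, h3a, h3b⟩ := prop_of_cross (la 2) (mu 2) (la 3) (mu 3) (hne 2) h23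
    have hδ : δ ≠ 0 := by
      rintro rfl
      rcases hne 3 with h | h
      · exact h (by rw [h3a, zero_mul])
      · exact h (by rw [h3b, zero_mul])
    have hB := exB la mu γ δ hγ hδ h1a h1b h3a h3b hD
    exact Or.inr ⟨hB, fun hA => excl _ hA hB⟩
  · have hα : (la 3 * mu 2 - la 2 * mu 3) / (la 0 * mu 2 - la 2 * mu 0) ≠ 0 :=
      div_ne_zero (sub_ne_zero.mpr (Ne.symm h23)) hD
    have hβ : (la 0 * mu 3 - la 3 * mu 0) / (la 0 * mu 2 - la 2 * mu 0) ≠ 0 :=
      div_ne_zero (sub_ne_zero.mpr h03) hD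
    have h3a : la 3 = (la 3 * mu 2 - la 2 * mu 3) / (la 0 * mu 2 - la 2 * mu 0) * la 0 +
        (la 0 * mu 3 - la 3 * mu 0) / (la 0 * mu 2 - la 2 * mu 0) * la 2 := by
      rw [div_mul_eq_mul_div, div_mul_eq_mul_div, ← add_div, eq_div_iff hD]
      ring
    have h3b : mu 3 = (la 3 * mu 2 - la 2 * mu 3) / (la 0 * mu 2 - la 2 * mu 0) * mu 0 +
        (la 0 * mu 3 - la 3 * mu 0) / (la 0 * mu 2 - la 2 * mu 0) * mu 2 := by
      rw [div_mul_eq_mul_div, div_mul_eq_mul_div, ← add_div, eq_div_iff hD]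
      ring
    have hA := exA la mu γ _ _ hγ hα hβ h1a h1b h3a h3b hD
    exact Or.inl ⟨hA, fun hB => excl _ hA hB⟩

/-- For the special fibre of the invariant map, over a field in which 2 and 3 are nonzero, consider a
split binary quartic f = ∏_i (μ_i X₀ − λ_i X₁) given by four root points (λ_i, μ_i) ≠ (0, 0), with a
double zero (vanishing discriminant ∏_{i<j} (λ_j μ_i − λ_i μ_j)²) and no triple zero (no three root
points pairwise proportional); these are the forms of the fibre over the special point P³/Q² = 6 of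
the invariant map. Then exactly one of the two alternatives holds: f is a nonzero constant times the
form X₀² X₁ (X₀ − X₁) after an invertible linear substitution of the variables, or f is a nonzero
constant times X₀² X₁² after such a substitution. So this fibre consists of exactly two classes
under substitutions and scalars (one double zero and two simple zeros; two double zeros). (The
dimensions of the two orbits and which of them is open or closed in the fibre are not part of this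
row; stated for split forms over any such field.) -/
theorem result (k : Type u) [Field k]
    (h2 : (2 : k) ≠ 0) (h3 : (3 : k) ≠ 0) (la mu : Fin 4 → k)
    (hne : ∀ i, la i ≠ 0 ∨ mu i ≠ 0) (hd : W4c6intromoduli.disc la mu = 0)
    (h3z : ∀ i j l : Fin 4, i ≠ j → j ≠ l → i ≠ l →
      ¬ (la i * mu j = la j * mu i ∧ la j * mu l = la l * mu j)) :
    Xor
      (∃ (M : Matrix (Fin 2) (Fin 2) k) (c : k), IsUnit M.det ∧ c ≠ 0 ∧
        W4c6intromoduli.binForm la mu =
          MvPolynomial.C c * W4c6intromoduli.subst M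
            (MvPolynomial.X 0 ^ 2 * MvPolynomial.X 1 * (MvPolynomial.X 0 - MvPolynomial.X 1)))
      (∃ (M : Matrix (Fin 2) (Fin 2) k) (c : k), IsUnit M.det ∧ c ≠ 0 ∧
        W4c6intromoduli.binForm la mu =
          MvPolynomial.C c * W4c6intromoduli.subst M
            (MvPolynomial.X 0 ^ 2 * MvPolynomial.X 1 ^ 2)) := by
  have hd' := hd
  rw [W4c6intromoduli.disc, Finset.prod_eq_zero_iff] at hd'
  obtain ⟨p, hp, hp0⟩ := hd'
  rw [Finset.mem_filter] at hp
  have hpne : p.1 ≠ p.2 := ne_of_lt hp.2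
  have hprop : la p.1 * mu p.2 = la p.2 * mu p.1 := by
    have := (pow_eq_zero_iff two_ne_zero).mp hp0
    linear_combination -this
  obtain ⟨σ, hσ0, hσ1⟩ := perm_exists p.1 p.2 hpne
  have hbin : W4c6intromoduli.binForm (la ∘ σ) (mu ∘ σ) = W4c6intromoduli.binForm la mu := by
    unfold W4c6intromoduli.binForm
    exact Equiv.prod_comp σ (fun i => MvPolynomial.C (mu i) * MvPolynomial.X 0 -
      MvPolynomial.C (la i) * MvPolynomial.X 1)
  have hmain := main01 (la ∘ σ) (mu ∘ σ) (fun i => hne (σ i))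
    (by simp only [Function.comp_apply, hσ0, hσ1]; exact hprop)
    (fun i j l hij hjl hil => h3z (σ i) (σ j) (σ l) (σ.injective.ne hij) (σ.injective.ne hjl)
      (σ.injective.ne hil))
  rw [hbin] at hmain
  exact hmain

end Groth.Agent.S20025
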