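import Groth.Statements.S2006
import Groth.Agent.Lib.Helper41.EtGlueTorsion
import Mathlib

set_option autoImplicit false
universe u
open TensorProduct
open EtAlg

namespace Groth.Agent.S2006

/-- Let R -> R' induce bijections R/f^n R -> R'/f^n R' for all n > 0 and let M be an R-module. Then M is
finitely generated if and only if R' ⊗_R M is finitely generated over R' and M_f is finitely
generated over R_f. -/
theorem result (R R' : Type u) [CommRing R] [CommRing R'] [Algebra R R'] (f : R)
    (hq : EtGlue.QuotPowBijective R R' f) (M : Type u) [AddCommGroup M] [Module R M] :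
    Module.Finite R M ↔ Module.Finite R' (R' ⊗[R] M) ∧
      Module.Finite (Localization.Away f) (LocalizedModule (Submonoid.powers f) M) := by
  classical
  constructor
  · intro h
    exact ⟨inferInstance, inferInstance⟩
  · rintro ⟨h1, h2⟩
    -- Step A: a finite submodule `N1` with `R' ⊗ N1 → R' ⊗ M` surjective
    obtain ⟨s, hs⟩ := h1.fg_top
    obtain ⟨N1, hN1, hsN1⟩ := TensorProduct.exists_finite_submodule_right_of_setFinite
      (s : Set (R' ⊗[R] M)) s.finite_toSet
    -- Step B: a finite submodule `N2` with `(N2)_f = M_f`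
    obtain ⟨T, hT⟩ := h2.fg_top
    let S : Submonoid R := Submonoid.powers f
    set N2 : Submodule R M := Submodule.span R
      (IsLocalizedModule.finsetIntegerMultiple S (LocalizedModule.mkLinearMap S M) T : Set M)
      with hN2
    have hB : ∀ x : M, ∃ n : ℕ, f ^ n • x ∈ N2 := by
      intro x
      obtain ⟨⟨_, n₁, rfl⟩, hn₁⟩ := multiple_mem_span_of_mem_localization_span S
        (Localization.Away f) (T : Set (LocalizedModule S M))
        (LocalizedModule.mkLinearMap S M x) (by rw [hT]; trivial)
      rw [Submonoid.smul_def, ← map_smul] at hn₁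
      obtain ⟨⟨_, n₂, rfl⟩, hn₂⟩ := IsLocalizedModule.smul_mem_finsetIntegerMultiple_span
        S (LocalizedModule.mkLinearMap S M) _ T hn₁
      rw [Submonoid.smul_def] at hn₂
      refine ⟨n₂ + n₁, ?_⟩
      rw [pow_add, mul_smul]
      exact hn₂
    -- the quotient by `N = N1 ⊔ N2`
    set N : Submodule R M := N1 ⊔ N2 with hN
    have hNfg : N.FG := by
      refine Submodule.FG.sup ?_ (Submodule.fg_span (Finset.finite_toSet _))
      exact (Submodule.fg_top N1).mp (Module.finite_def.mp hN1)
    have htors : ∀ q : M ⧸ N, ∃ n : ℕ, f ^ n • q = 0 := by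
      intro q
      obtain ⟨x, rfl⟩ := Submodule.Quotient.mk_surjective N q
      obtain ⟨n, hn⟩ := hB x
      refine ⟨n, ?_⟩
      rw [← Submodule.Quotient.mk_smul, Submodule.Quotient.mk_eq_zero]
      exact le_sup_right (a := N1) hn
    -- `R' ⊗ (M ⧸ N) = 0`
    have hsurj : Function.Surjective (N.subtype.baseChange R') := by
      rw [← LinearMap.range_eq_top, eq_top_iff, ← hs, Submodule.span_le]
      intro t ht
      obtain ⟨y, hy⟩ := hsN1 ht
      have hle : N1 ≤ N := le_sup_left
      refine ⟨(Submodule.inclusion hle).lTensor R' y, ?_⟩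
      rw [← hy]
      change (N.subtype.lTensor R') ((Submodule.inclusion hle).lTensor R' y) = _
      rw [← LinearMap.comp_apply, ← LinearMap.lTensor_comp]
      rfl
    have hzero : Subsingleton (R' ⊗[R] (M ⧸ N)) := by
      have hex : Function.Exact (N.subtype.lTensor R') (N.mkQ.lTensor R') :=
        lTensor_exact R' (LinearMap.exact_subtype_mkQ N) (Submodule.mkQ_surjective N)
      have hq : Function.Surjective (N.mkQ.lTensor R') :=
        LinearMap.lTensor_surjective R' (Submodule.mkQ_surjective N)
      refine ⟨fun a b => ?_⟩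
      obtain ⟨a', rfl⟩ := hq a
      obtain ⟨b', rfl⟩ := hq b
      obtain ⟨a'', rfl⟩ := hsurj a'
      obtain ⟨b'', rfl⟩ := hsurj b'
      have e1 : N.mkQ.lTensor R' (N.subtype.baseChange R' a'') = 0 :=
        hex.apply_apply_eq_zero a''
      have e2 : N.mkQ.lTensor R' (N.subtype.baseChange R' b'') = 0 :=
        hex.apply_apply_eq_zero b''
      rw [e1, e2]
    have hQ : Subsingleton (M ⧸ N) :=
      Groth.Agent.Lib.Helper41.EtGlueTorsion.subsingleton_of_fPowTorsion hq htors hzero
    have hNtop : N = ⊤ := Submodule.Quotient.subsingleton_iff.mp hQ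
    rw [Module.finite_def, ← hNtop]
    exact hNfg

end Groth.Agent.S2006
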