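import Groth.Statements.S2003
import Groth.Agent.Lib.Helper41.GlueProjective
import Groth.Agent.S2002
import Groth.Agent.S2006
import Mathlib

set_option autoImplicit false
universe u
open TensorProduct
open EtAlg

namespace Groth.Agent.S2003

/-- Let (R -> R', f) be a glueing pair and M any R-module. Then M is finite projective over R exactly
when both of its base changes are: R' ⊗_R M over R', and M_f over R_f. -/
theorem result (R R' : Type u) [CommRing R] [CommRing R'] [Algebra R R'] (f : R)
    (hRR : EtGlue.IsGlueingPair R R' f) (M : Type u) [AddCommGroup M] [Module R M] :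
    (Module.Finite R M ∧ Module.Projective R M) ↔
      (Module.Finite R' (R' ⊗[R] M) ∧ Module.Projective R' (R' ⊗[R] M)) ∧
      (Module.Finite (Localization.Away f) (LocalizedModule (Submonoid.powers f) M) ∧
        Module.Projective (Localization.Away f) (LocalizedModule (Submonoid.powers f) M)) := by
  classical
  constructor
  · rintro ⟨h1, h2⟩
    exact ⟨⟨inferInstance, inferInstance⟩, ⟨inferInstance, inferInstance⟩⟩
  · rintro ⟨⟨hF', hP'⟩, ⟨hFf, hPf⟩⟩
    have hflat : Module.Flat R M :=
      (Groth.Agent.S2002.result R R' f hRR M).mpr ⟨inferInstance, inferInstance⟩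
    have hfin : Module.Finite R M := (Groth.Agent.S2006.result R R' f hRR.1 M).mpr ⟨hF', hFf⟩
    obtain ⟨n, π, hπ⟩ := Module.Finite.exists_fin' R M
    have hex : Function.Exact (LinearMap.ker π).subtype π := LinearMap.exact_subtype_ker_map π
    have hι : Function.Injective (LinearMap.ker π).subtype := (LinearMap.ker π).injective_subtype
    -- `R' ⊗ K` finite
    have hK' : Module.Finite R' (R' ⊗[R] (LinearMap.ker π)) :=
      Groth.Agent.Lib.Helper41.GlueProjective.finite_of_exact_of_projective (S := R')
        ((LinearMap.ker π).subtype.baseChange R') (π.baseChange R')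
        (Groth.Agent.Lib.Helper41.GlueFlat.lTensor_injective_of_flat_quotient
          (LinearMap.ker π).subtype π hι hπ hex R')
        (LinearMap.lTensor_surjective R' hπ) (lTensor_exact R' hex hπ)
    -- `K_f` finite
    have hPf' : Module.Projective (Localization.Away f) (Localization.Away f ⊗[R] M) :=
      Module.Projective.of_equiv
        (LocalizedModule.isBaseChange (Submonoid.powers f) M).equiv.symm
    have hKf0 : Module.Finite (Localization.Away f)
        (Localization.Away f ⊗[R] (LinearMap.ker π)) :=
      Groth.Agent.Lib.Helper41.GlueProjective.finite_of_exact_of_projective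
        (S := Localization.Away f)
        ((LinearMap.ker π).subtype.baseChange (Localization.Away f))
        (π.baseChange (Localization.Away f))
        (Groth.Agent.Lib.Helper41.GlueFlat.lTensor_injective_of_flat_quotient
          (LinearMap.ker π).subtype π hι hπ hex (Localization.Away f))
        (LinearMap.lTensor_surjective (Localization.Away f) hπ)
        (lTensor_exact (Localization.Away f) hex hπ)
    have hKf : Module.Finite (Localization.Away f)
        (LocalizedModule (Submonoid.powers f) (LinearMap.ker π)) :=
      Module.Finite.equiv
        (LocalizedModule.isBaseChange (Submonoid.powers f) (LinearMap.ker π)).equiv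
    have hKfin : Module.Finite R (LinearMap.ker π) :=
      (Groth.Agent.S2006.result R R' f hRR.1 (LinearMap.ker π)).mpr ⟨hK', hKf⟩
    have hfp : Module.FinitePresentation R M :=
      Module.finitePresentation_of_surjective π hπ (Module.Finite.iff_fg.mp hKfin)
    exact ⟨hfin, Module.Flat.projective_of_finitePresentation⟩

end Groth.Agent.S2003
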