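import Groth.Statements.S2008
import Mathlib.RingTheory.Flat.FaithfullyFlat.Algebra

set_option autoImplicit false
universe u
open TensorProduct
open EtAlg

namespace Groth.Agent.S2008

/-- For a ring map R -> S and an ideal I of R the following are equivalent: (1) S is flat over R and
S/IS is faithfully flat over R/I; (2) S is flat over R and Spec(S/IS) -> Spec(R/I) is surjective;
(3) S is flat over R and S ⊗_R M is nonzero for every nonzero R-module M killed by I; (4) S is flat
over R and S ⊗_R M is nonzero for every nonzero I-power torsion R-module M. (Faithfulness of base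
change on these subcategories is stated as detection of nonzero objects, which is equivalent for an
exact functor.) -/
theorem result (R S : Type u) [CommRing R] [CommRing S] [Algebra R S] (I : Ideal R) :
    List.TFAE [
      Module.Flat R S ∧ Module.FaithfullyFlat (R ⧸ I) (S ⧸ I.map (algebraMap R S)),
      Module.Flat R S ∧ Function.Surjective (PrimeSpectrum.comap (Ideal.quotientMap (I.map (algebraMap R S)) (algebraMap R S) Ideal.le_comap_map)),
      Module.Flat R S ∧ ∀ (M : Type u) [AddCommGroup M] [Module R M], (∀ (a : R) (m : M), a ∈ I → a • m = 0) →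
        Nontrivial M → Nontrivial (S ⊗[R] M),
      Module.Flat R S ∧ ∀ (M : Type u) [AddCommGroup M] [Module R M], (∀ m : M, ∃ n : ℕ, ∀ a ∈ I ^ n, a • m = 0) →
        Nontrivial M → Nontrivial (S ⊗[R] M)] := by
  classical
  -- hub condition
  have hflatQ : Module.Flat R S → Module.Flat (R ⧸ I) (S ⧸ I.map (algebraMap R S)) := by
    intro hfl
    exact Module.Flat.of_linearEquiv
      (Algebra.TensorProduct.quotIdealMapEquivQuotTensor S I).toLinearEquiv
  -- (1) → P
  have h1P : Module.FaithfullyFlat (R ⧸ I) (S ⧸ I.map (algebraMap R S)) →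
      ∀ J : Ideal R, I ≤ J → J ≠ ⊤ → J.map (algebraMap R S) ≠ ⊤ := by
    intro hff J hIJ hJ htop
    have hJ' : J.map (Ideal.Quotient.mk I) ≠ ⊤ := by
      intro h
      apply hJ
      have h1 : (1 : R ⧸ I) ∈ J.map (Ideal.Quotient.mk I) := by rw [h]; trivial
      rw [Ideal.mem_map_iff_of_surjective _ Ideal.Quotient.mk_surjective] at h1
      obtain ⟨x, hx, hx1⟩ := h1
      have : x - 1 ∈ I := by
        rw [← Ideal.Quotient.eq_zero_iff_mem, map_sub, hx1, map_one, sub_self]
      have h2 : (1 : R) ∈ J := by
        have := J.sub_mem hx (hIJ this)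
        simpa using this
      exact (Ideal.eq_top_iff_one J).mpr h2
    have := (Module.FaithfullyFlat.iff_flat_and_proper_ideal (R ⧸ I)
      (S ⧸ I.map (algebraMap R S))).mp hff |>.2 _ hJ'
    apply this
    rw [Ideal.smul_top_eq_map, Ideal.map_map]
    have hcomp : (algebraMap (R ⧸ I) (S ⧸ I.map (algebraMap R S))).comp (Ideal.Quotient.mk I) =
        (Ideal.Quotient.mk (I.map (algebraMap R S))).comp (algebraMap R S) := by
      ext x; rfl
    rw [hcomp, ← Ideal.map_map, htop, Ideal.map_top]
    rfl
  -- P → (3)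
  have hP3 : Module.Flat R S → (∀ J : Ideal R, I ≤ J → J ≠ ⊤ → J.map (algebraMap R S) ≠ ⊤) →
      ∀ (M : Type u) [AddCommGroup M] [Module R M], (∀ (a : R) (m : M), a ∈ I → a • m = 0) →
        Nontrivial M → Nontrivial (S ⊗[R] M) := by
    intro hfl hP M _ _ hM hnt
    obtain ⟨n, hn⟩ := (nontrivial_iff_exists_ne (0 : M)).1 hnt
    let J := (Submodule.span R {n}).annihilator
    have hIJ : I ≤ J := by
      intro a ha
      rw [Submodule.mem_annihilator_span_singleton]
      exact hM a n ha
    have hJ : J ≠ ⊤ := by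
      intro h
      rw [Ideal.eq_top_iff_one, Submodule.mem_annihilator_span_singleton, one_smul] at h
      exact hn h
    let inc : R ⧸ J →ₗ[R] M := Submodule.liftQ _ ((LinearMap.lsmul R M).flip n) <| fun r hr => by
      simpa only [LinearMap.mem_ker, LinearMap.flip_apply, LinearMap.lsmul_apply,
        Submodule.mem_annihilator_span_singleton, J] using hr
    have injective_inc : Function.Injective inc := LinearMap.ker_eq_bot.1 <| eq_bot_iff.2 <| by
      intro r hr
      induction r using Quotient.inductionOn' with | h r =>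
      simpa only [Submodule.Quotient.mk''_eq_mk, Submodule.mem_bot, Submodule.Quotient.mk_eq_zero,
        Submodule.mem_annihilator_span_singleton, LinearMap.mem_ker, Submodule.liftQ_apply,
        LinearMap.flip_apply, LinearMap.lsmul_apply, J, inc] using hr
    have hne := hP J hIJ hJ
    have hne' : J • (⊤ : Submodule R S) ≠ ⊤ := by
      intro h
      apply hne
      rw [Ideal.smul_top_eq_map] at h
      exact (Submodule.restrictScalars_eq_top_iff _ _ _).mp h
    haveI : Nontrivial (S ⧸ J • (⊤ : Submodule R S)) :=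
      Submodule.Quotient.nontrivial_iff.mpr hne'
    haveI : Nontrivial (S ⊗[R] (R ⧸ J)) :=
      (TensorProduct.tensorQuotEquivQuotSMul S J).toEquiv.nontrivial
    exact (Module.Flat.lTensor_preserves_injective_linearMap (M := S) inc
      injective_inc).nontrivial
  -- (3) → P
  have h3P : (∀ (M : Type u) [AddCommGroup M] [Module R M], (∀ (a : R) (m : M), a ∈ I → a • m = 0) →
        Nontrivial M → Nontrivial (S ⊗[R] M)) →
      ∀ J : Ideal R, I ≤ J → J ≠ ⊤ → J.map (algebraMap R S) ≠ ⊤ := by
    intro h3 J hIJ hJ htop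
    haveI : Nontrivial (R ⧸ J) := Ideal.Quotient.nontrivial_iff.mpr hJ
    have hnt := h3 (R ⧸ J) (by
      intro a m ha
      obtain ⟨r, rfl⟩ := Ideal.Quotient.mk_surjective m
      rw [← Ideal.Quotient.mk_eq_mk, ← Submodule.Quotient.mk_smul]
      change Ideal.Quotient.mk J (a • r) = 0
      rw [Ideal.Quotient.eq_zero_iff_mem]
      exact J.mul_mem_right _ (hIJ ha)) inferInstance
    have h2 : Nontrivial (S ⧸ J • (⊤ : Submodule R S)) :=
      (TensorProduct.tensorQuotEquivQuotSMul S J).symm.toEquiv.nontrivial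
    rw [Submodule.Quotient.nontrivial_iff] at h2
    apply h2
    rw [Ideal.smul_top_eq_map, htop]
    rfl
  -- P → (1)
  have hP1 : Module.Flat R S → (∀ J : Ideal R, I ≤ J → J ≠ ⊤ → J.map (algebraMap R S) ≠ ⊤) →
      Module.FaithfullyFlat (R ⧸ I) (S ⧸ I.map (algebraMap R S)) := by
    intro hfl hP
    haveI := hflatQ hfl
    refine ⟨fun m hm htop => ?_⟩
    let J := m.comap (Ideal.Quotient.mk I)
    have hIJ : I ≤ J := by
      intro a ha
      change Ideal.Quotient.mk I a ∈ m
      rw [Ideal.Quotient.eq_zero_iff_mem.mpr ha]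
      exact m.zero_mem
    have hJ : J ≠ ⊤ := by
      intro h
      apply hm.ne_top
      rw [← Ideal.map_comap_of_surjective _ Ideal.Quotient.mk_surjective m]
      change Ideal.map _ J = ⊤
      rw [h, Ideal.map_top]
    apply hP J hIJ hJ
    rw [Ideal.smul_top_eq_map] at htop
    have htop' := (Submodule.restrictScalars_eq_top_iff _ _ _).mp htop
    rw [← Ideal.map_comap_of_surjective _ Ideal.Quotient.mk_surjective m, Ideal.map_map] at htop'
    have hcomp : (algebraMap (R ⧸ I) (S ⧸ I.map (algebraMap R S))).comp (Ideal.Quotient.mk I) =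
        (Ideal.Quotient.mk (I.map (algebraMap R S))).comp (algebraMap R S) := by
      ext x; rfl
    rw [hcomp, ← Ideal.map_map] at htop'
    change Ideal.map _ (Ideal.map (algebraMap R S) J) = ⊤ at htop'
    have h1 : (1 : S ⧸ I.map (algebraMap R S)) ∈
        Ideal.map (Ideal.Quotient.mk (I.map (algebraMap R S))) (Ideal.map (algebraMap R S) J) := by
      rw [htop']; trivial
    rw [Ideal.mem_map_iff_of_surjective _ Ideal.Quotient.mk_surjective] at h1
    obtain ⟨x, hx, hx1⟩ := h1
    have hx2 : x - 1 ∈ I.map (algebraMap R S) := by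
      rw [← Ideal.Quotient.eq_zero_iff_mem, map_sub, hx1, map_one, sub_self]
    have hx3 : x - 1 ∈ J.map (algebraMap R S) := Ideal.map_mono hIJ hx2
    have h4 : (1 : S) ∈ J.map (algebraMap R S) := by
      have := (J.map (algebraMap R S)).sub_mem hx hx3
      simpa using this
    exact (Ideal.eq_top_iff_one _).mpr h4
  tfae_have 1 ↔ 2 := by
    constructor
    · rintro ⟨hfl, hff⟩
      exact ⟨hfl, PrimeSpectrum.comap_surjective_of_faithfullyFlat
        (A := R ⧸ I) (B := S ⧸ I.map (algebraMap R S))⟩
    · rintro ⟨hfl, hs⟩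
      haveI := hflatQ hfl
      exact ⟨hfl, Module.FaithfullyFlat.of_comap_surjective hs⟩
  tfae_have 1 → 3 := by
    rintro ⟨hfl, hff⟩
    exact ⟨hfl, hP3 hfl (h1P hff)⟩
  tfae_have 3 → 1 := by
    rintro ⟨hfl, h3⟩
    exact ⟨hfl, hP1 hfl (h3P h3)⟩
  tfae_have 4 → 3 := by
    rintro ⟨hfl, h4⟩
    refine ⟨hfl, fun M _ _ hM hnt => h4 M (fun m => ⟨1, fun a ha => ?_⟩) hnt⟩
    rw [pow_one] at ha
    exact hM a m ha
  tfae_have 3 → 4 := by
    rintro ⟨hfl, h3⟩
    refine ⟨hfl, fun M _ _ hM hnt => ?_⟩
    -- the I-torsion submodule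
    let N : Submodule R M :=
      { carrier := {m | ∀ a ∈ I, a • m = 0}
        zero_mem' := fun a _ => smul_zero a
        add_mem' := fun {x y} hx hy a ha => by rw [smul_add, hx a ha, hy a ha, add_zero]
        smul_mem' := fun c x hx a ha => by rw [smul_comm, hx a ha, smul_zero] }
    obtain ⟨m, hm⟩ := (nontrivial_iff_exists_ne (0 : M)).1 hnt
    have hex : ∃ n : ℕ, ∀ a ∈ I ^ n, a • m = 0 := hM m
    have hn0 : Nat.find hex ≠ 0 := by
      intro h0
      have := Nat.find_spec hex
      rw [h0, pow_zero] at this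
      exact hm (by simpa using this 1 (by simp))
    obtain ⟨k, hk⟩ := Nat.exists_eq_succ_of_ne_zero hn0
    have hmin : ¬ ∀ a ∈ I ^ k, a • m = 0 := Nat.find_min hex (by omega)
    push Not at hmin
    obtain ⟨b, hb, hbm⟩ := hmin
    have hbN : b • m ∈ N := by
      intro a ha
      rw [smul_smul]
      apply Nat.find_spec hex
      rw [hk, pow_succ']
      exact Ideal.mul_mem_mul ha hb
    haveI : Nontrivial N := ⟨⟨⟨b • m, hbN⟩, 0, fun h => hbm (congrArg Subtype.val h)⟩⟩
    have hNt : Nontrivial (S ⊗[R] N) := h3 N (fun a x ha => Subtype.ext (x.2 a ha)) inferInstance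
    exact (Module.Flat.lTensor_preserves_injective_linearMap (M := S) N.subtype
      N.injective_subtype).nontrivial
  tfae_finish

end Groth.Agent.S2008
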