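import Groth.Statements.S2009
import Groth.Agent.Lib.Helper9.TorsionTensor
import Mathlib.RingTheory.TensorProduct.Quotient

set_option autoImplicit false
universe u
open TensorProduct
open EtAlg

namespace Groth.Agent.S2009

/-- Let R -> S be flat with S/IS faithfully flat over R/I. Then the natural map M -> S ⊗_R M is
bijective for every I-power torsion R-module M if and only if R/I -> S/IS is bijective. -/
theorem result (R S : Type u) [CommRing R] [CommRing S] [Algebra R S] (I : Ideal R)
    [Module.Flat R S] [Module.FaithfullyFlat (R ⧸ I) (S ⧸ I.map (algebraMap R S))] :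
    (∀ (M : Type u) [AddCommGroup M] [Module R M], (∀ m : M, ∃ n : ℕ, ∀ a ∈ I ^ n, a • m = 0) →
      Function.Bijective (TensorProduct.mk R S M 1)) ↔
    Function.Bijective (Ideal.quotientMap (I.map (algebraMap R S)) (algebraMap R S) Ideal.le_comap_map) := by
  rw [Groth.Agent.Lib.Helper9.quotientMap_bijective_iff]
  have smul_mk : ∀ a b : R, a • (Ideal.Quotient.mk I b) = Ideal.Quotient.mk I (a * b) := by
    intro a b
    rw [Algebra.smul_def, Ideal.Quotient.algebraMap_eq, map_mul]
  constructor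
  · intro h
    have hkill : ∀ m : R ⧸ I, ∃ n : ℕ, ∀ a ∈ I ^ n, a • m = 0 := by
      intro m
      refine ⟨1, fun a ha => ?_⟩
      obtain ⟨b, rfl⟩ := Ideal.Quotient.mk_surjective m
      rw [pow_one] at ha
      rw [smul_mk, Ideal.Quotient.eq_zero_iff_mem]
      exact Ideal.mul_mem_right _ _ ha
    have hbij := h (R ⧸ I) hkill
    have hone : ∀ a ∈ I, a • (Ideal.Quotient.mk I 1) = 0 := by
      intro a ha
      rw [smul_mk, mul_one, Ideal.Quotient.eq_zero_iff_mem]
      exact ha
    -- `x ⊗ 1 = 0 ↔ x ∈ I S`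
    have hzero : ∀ x : S, x ⊗ₜ[R] (1 : R ⧸ I) = 0 → x ∈ I.map (algebraMap R S) := by
      intro x hx
      have h1 : Algebra.TensorProduct.quotIdealMapEquivTensorQuot S I
          (Ideal.Quotient.mk _ x) = 0 := by
        rw [Algebra.TensorProduct.quotIdealMapEquivTensorQuot_mk]; exact hx
      have h2 := (Algebra.TensorProduct.quotIdealMapEquivTensorQuot S I).injective
        (h1.trans (map_zero _).symm)
      exact Ideal.Quotient.eq_zero_iff_mem.mp h2
    constructor
    · intro s
      obtain ⟨x, hx⟩ := hbij.2 (s ⊗ₜ[R] (1 : R ⧸ I))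
      obtain ⟨r, rfl⟩ := Ideal.Quotient.mk_surjective x
      refine ⟨r, hzero _ ?_⟩
      rw [TensorProduct.mk_apply] at hx
      have h3 : (1 : S) ⊗ₜ[R] (Ideal.Quotient.mk I r) = algebraMap R S r ⊗ₜ[R] (1 : R ⧸ I) := by
        rw [Algebra.algebraMap_eq_smul_one, TensorProduct.smul_tmul, ← map_one (Ideal.Quotient.mk I),
          smul_mk, mul_one]
      rw [sub_tmul, ← h3, hx, sub_self]
    · intro r hr
      have h3 : (1 : S) ⊗ₜ[R] (Ideal.Quotient.mk I r) = 0 := by
        have h4 : (1 : S) ⊗ₜ[R] (Ideal.Quotient.mk I r) =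
            algebraMap R S r ⊗ₜ[R] (Ideal.Quotient.mk I 1) := by
          rw [Algebra.algebraMap_eq_smul_one, TensorProduct.smul_tmul, smul_mk, mul_one]
        rw [h4]
        exact Groth.Agent.Lib.Helper9.tmul_eq_zero_of_mem_map hone hr
      have h5 := hbij.1 (by rw [TensorProduct.mk_apply, h3, map_zero] :
        TensorProduct.mk R S (R ⧸ I) 1 (Ideal.Quotient.mk I r) = TensorProduct.mk R S (R ⧸ I) 1 0)
      exact Ideal.Quotient.eq_zero_iff_mem.mp h5
  · rintro ⟨hs, hi⟩ M _ _ hM
    exact Groth.Agent.Lib.Helper9.bijective_mk_of_powerTorsion_of_flat I hs hi hM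

end Groth.Agent.S2009
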