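import Groth.Statements.S2011
import Groth.Agent.Lib.Helper98.ZariskiPairJacobson

set_option autoImplicit false
universe u
open EtAlg

namespace Groth.Agent.S2011

/-- Let A be a Noetherian ring and I an ideal contained in the Jacobson radical of A (a Zariski pair).
Then for every f in I the localization A_f is a Jacobson ring. -/
theorem result (A : Type u) [CommRing A] [IsNoetherianRing A] (I : Ideal A)
    (hI : I ≤ (⊥ : Ideal A).jacobson) (f : A) (hf : f ∈ I) : IsJacobsonRing (Localization.Away f) := by
  exact Groth.Agent.Lib.Helper98.isJacobsonRing_away A I hI f hf (Localization.Away f)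

end Groth.Agent.S2011
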