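import Groth.Statements.S2012
import Mathlib.RingTheory.Finiteness.ModuleFinitePresentation
import Mathlib.RingTheory.Flat.EquationalCriterion
import Mathlib.RingTheory.Nakayama
import Mathlib.RingTheory.IntegralClosure.IsIntegralClosure.Basic
-- import your own Groth.Agent.* helpers here

set_option autoImplicit false
universe u
open EtAlg

namespace Groth.Agent.S2012

/-- Let A be a ring and I an ideal contained in its Jacobson radical. Let B be an A-algebra which is
flat, integral and of finite presentation over A and such that A/I -> B/IB is bijective. Then A -> B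
is bijective. -/
theorem result (A B : Type u) [CommRing A] [CommRing B] [Algebra A B]
    (I : Ideal A) (hI : I ≤ (⊥ : Ideal A).jacobson) [Module.Flat A B] [Algebra.IsIntegral A B] [Algebra.FinitePresentation A B]
    (hq : Function.Bijective (Ideal.quotientMap (I.map (algebraMap A B)) (algebraMap A B) Ideal.le_comap_map)) :
    Function.Bijective (algebraMap A B) := by
  have hfin : Module.Finite A B := Algebra.IsIntegral.finite
  have hfp : Module.FinitePresentation A B :=
    Module.FinitePresentation.of_finite_of_finitePresentation A B
  have hproj : Module.Projective A B := Module.Flat.projective_of_finitePresentation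
  have hsurj : Function.Surjective (algebraMap A B) := by
    have h1 : (⊤ : Submodule A B) ≤ LinearMap.range (Algebra.linearMap A B) := by
      apply Submodule.le_of_le_smul_of_le_jacobson_bot (Module.finite_def.mp hfin) hI
      intro b _
      obtain ⟨a, ha⟩ := hq.2 (Ideal.Quotient.mk _ b)
      obtain ⟨a, rfl⟩ := Ideal.Quotient.mk_surjective a
      rw [Ideal.quotientMap_mk, Ideal.Quotient.eq] at ha
      have h2 : b = algebraMap A B a + (b - algebraMap A B a) := by ring
      rw [h2]
      refine Submodule.add_mem_sup ⟨a, rfl⟩ ?_
      rw [Ideal.smul_top_eq_map]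
      have := (I.map (algebraMap A B)).neg_mem ha
      simpa using this
    intro b
    obtain ⟨a, ha⟩ := h1 (Submodule.mem_top (x := b))
    exact ⟨a, ha⟩
  refine ⟨?_, hsurj⟩
  obtain ⟨s, hs⟩ := Module.projective_lifting_property (Algebra.linearMap A B) LinearMap.id hsurj
  have hs1 : algebraMap A B (s 1) = 1 := LinearMap.congr_fun hs 1
  have hkerI : ∀ k : A, algebraMap A B k = 0 → k ∈ I := by
    intro k hk
    have h1 : Ideal.quotientMap (I.map (algebraMap A B)) (algebraMap A B) Ideal.le_comap_map
        (Ideal.Quotient.mk I k) = 0 := by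
      rw [Ideal.quotientMap_mk, hk, map_zero]
    have h2 := hq.1 (h1.trans (map_zero _).symm)
    exact Ideal.Quotient.eq_zero_iff_mem.mp h2
  have hmul : ∀ k : A, algebraMap A B k = 0 → k * (1 - s 1) = k := by
    intro k hk
    have h1 : k * s 1 = s (algebraMap A B k) := by
      rw [← smul_eq_mul, ← map_smul, Algebra.smul_def, mul_one]
    rw [mul_sub, mul_one, h1, hk, map_zero, sub_zero]
  have he0 : algebraMap A B (1 - s 1) = 0 := by rw [map_sub, map_one, hs1, sub_self]
  have heI : (1 - s 1) ∈ (⊥ : Ideal A).jacobson := hI (hkerI _ he0)
  have hunit : IsUnit (s 1) := by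
    have := (Ideal.mem_jacobson_bot.mp heI) (-1)
    have h2 : (1 - s 1) * -1 + 1 = s 1 := by ring
    rwa [h2] at this
  have he : (1 - s 1) = 0 := by
    have h1 := hmul _ he0
    have h2 : (1 - s 1) * s 1 = 0 := by
      have : (1 - s 1) * s 1 = (1 - s 1) - (1 - s 1) * (1 - s 1) := by ring
      rw [this, h1, sub_self]
    exact (hunit.mul_left_eq_zero).mp h2
  rw [injective_iff_map_eq_zero]
  intro k hk
  rw [← hmul k hk, he, mul_zero]

end Groth.Agent.S2012
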