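import Groth.Statements.S2013
import Mathlib
import Groth.Agent.Lib.Helper9.PrincipalRadical

set_option autoImplicit false
universe u
open EtAlg

namespace Groth.Agent.S2013

/-- Let R be a catenary Noetherian local normal domain and J a nonzero radical ideal of R. Then J
contains a nonzero element f such that R/fR is reduced. (The source does not say 'nonzero ideal' but
its conclusion requires it.) -/
theorem result (R : Type u) [CommRing R] [IsDomain R] [IsNoetherianRing R]
    [IsLocalRing R] [IsIntegrallyClosed R] (hc : CAlg.IsCatenary R) (J : Ideal R) (hJ : J.IsRadical) (hJ0 : J ≠ ⊥) :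
    ∃ f ∈ J, f ≠ 0 ∧ IsReduced (R ⧸ Ideal.span {f}) := by
  by_cases hht : 2 ≤ (IsLocalRing.maximalIdeal R).height
  · obtain ⟨f, hfJ, hf0, hrad⟩ := Groth.Agent.Lib.Helper9.PrincipalRadical.main hc J hJ hJ0 hht
    exact ⟨f, hfJ, hf0, (Ideal.isRadical_iff_quotient_reduced _).mp hrad⟩
  · push Not at hht
    by_cases hm : IsLocalRing.maximalIdeal R = ⊥
    · obtain ⟨f₀, hf₀J, hf₀⟩ := Submodule.exists_mem_ne_zero_of_ne_bot hJ0
      have hu : IsUnit f₀ := by
        by_contra hnu
        have hmem : f₀ ∈ IsLocalRing.maximalIdeal R := (IsLocalRing.mem_maximalIdeal f₀).mpr hnu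
        rw [hm] at hmem
        exact hf₀ (by simpa using hmem)
      refine ⟨f₀, hf₀J, hf₀, ?_⟩
      have htop : Ideal.span {f₀} = ⊤ := Ideal.span_singleton_eq_top.mpr hu
      rw [← Ideal.isRadical_iff_quotient_reduced, htop]
      exact fun x _ => Submodule.mem_top
    · have hdim : ringKrullDim R ≤ 1 := by
        rw [← IsLocalRing.maximalIdeal_height_eq_ringKrullDim]
        have h3 : (2 : ℕ∞) = 1 + 1 := by norm_num
        rw [h3, ENat.lt_add_one_iff (by simp)] at hht
        exact_mod_cast hht
      haveI := Groth.Agent.Lib.Helper48.isDiscreteValuationRing_of_isIntegrallyClosed_of_dim_le_one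
        R hdim hm
      obtain ⟨ϖ, hϖ⟩ := IsDiscreteValuationRing.exists_irreducible R
      obtain ⟨n, hn⟩ := IsDiscreteValuationRing.ideal_eq_span_pow_irreducible hJ0 hϖ
      have hϖJ : ϖ ∈ J := by
        apply hJ
        refine ⟨n, ?_⟩
        rw [hn]
        exact Ideal.mem_span_singleton_self _
      refine ⟨ϖ, hϖJ, hϖ.ne_zero, ?_⟩
      rw [← Ideal.isRadical_iff_quotient_reduced, ← hϖ.maximalIdeal_eq]
      exact (IsLocalRing.maximalIdeal.isMaximal R).isPrime.isRadical

end Groth.Agent.S2013
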