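import Groth.Statements.S2014
import Mathlib
-- import your own Groth.Agent.* helpers here

set_option autoImplicit false
universe u
open EtAlg

namespace Groth.Agent.S2014

/-- Let R be a Noetherian local ring of Krull dimension 1 and x an element of the maximal ideal
contained in no minimal prime of R. Then the number of minimal prime ideals of R is at most the
length of R/xR as an R-module. -/
theorem result (R : Type u) [CommRing R] [IsNoetherianRing R] [IsLocalRing R]
    (hdim : ringKrullDim R = 1) (x : R) (hx : x ∈ IsLocalRing.maximalIdeal R) (hmin : ∀ p ∈ minimalPrimes R, x ∉ p) :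
    (Set.ncard (minimalPrimes R) : ℕ∞) ≤ Module.length R (R ⧸ Ideal.span {x}) := by
  classical
  have hfin : (minimalPrimes R).Finite := minimalPrimes.finite_of_isNoetherianRing R
  have : Finite (minimalPrimes R) := hfin.to_subtype
  set n := Nat.card (minimalPrimes R) with hn
  have hncard : Set.ncard (minimalPrimes R) = n := (Nat.card_coe_set_eq _).symm
  let e : Fin n ≃ minimalPrimes R := (Finite.equivFin (minimalPrimes R)).symm
  -- intersections of the first j minimal primes
  let I : ℕ → Ideal R := fun j => (Finset.univ.filter (fun i : Fin n => i.val < j)).inf (fun i => (e i).1)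
  have hIanti : ∀ j, I (j + 1) ≤ I j := by
    intro j
    apply Finset.inf_mono
    intro i hi
    simp only [Finset.mem_filter, Finset.mem_univ, true_and] at hi ⊢
    omega
  have hIle : ∀ j (i : Fin n), i.val < j → I j ≤ (e i).1 := by
    intro j i hi
    exact Finset.inf_le (by simp [hi])
  have hxI : ∀ j r, x * r ∈ I j → r ∈ I j := by
    intro j r hr
    simp only [I, Submodule.mem_finsetInf] at hr ⊢
    intro i hi
    have hprime : ((e i).1).IsPrime := (e i).2.1.1
    rcases hprime.mem_or_mem (hr i hi) with h | h
    · exact absurd h (hmin _ (e i).2)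
    · exact h
  have hstrict : ∀ j, j < n → ¬ (I j ≤ I (j + 1) ⊔ Ideal.span {x}) := by
    intro j hj hle
    have hNak : I j ≤ I (j + 1) ⊔ Ideal.span {x} • I j := by
      intro a ha
      obtain ⟨b, hb, c, hc, rfl⟩ := Submodule.mem_sup.mp (hle ha)
      obtain ⟨r, rfl⟩ := Ideal.mem_span_singleton'.mp hc
      have hxr : x * r ∈ I j := by
        have : r * x = (b + r * x) - b := by ring
        rw [mul_comm, this]
        exact (I j).sub_mem ha (hIanti j hb)
      have hr := hxI j r hxr
      refine Submodule.mem_sup.mpr ⟨b, hb, r * x, ?_, rfl⟩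
      rw [mul_comm]
      exact Submodule.smul_mem_smul (Ideal.mem_span_singleton_self x) hr
    have hjac : Ideal.span {x} ≤ Ideal.jacobson (⊥ : Ideal R) := by
      rw [IsLocalRing.jacobson_eq_maximalIdeal ⊥ bot_ne_top, Ideal.span_le]
      simpa using hx
    have h1 : I j ≤ I (j + 1) :=
      Submodule.le_of_le_smul_of_le_jacobson_bot (IsNoetherian.noetherian _) hjac hNak
    have h2 : I j ≤ (e ⟨j, hj⟩).1 := h1.trans (hIle (j + 1) ⟨j, hj⟩ (by simp))
    have hprime : ((e ⟨j, hj⟩).1).IsPrime := (e ⟨j, hj⟩).2.1.1
    obtain ⟨i, hi, hile⟩ := (Ideal.IsPrime.inf_le' hprime).mp h2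
    simp only [Finset.mem_filter, Finset.mem_univ, true_and] at hi
    have hmini : (e ⟨j, hj⟩).1 ≤ (e i).1 :=
      (e ⟨j, hj⟩).2.2 ⟨(e i).2.1.1, bot_le⟩ hile
    have heq : (e i).1 = (e ⟨j, hj⟩).1 := le_antisymm hile hmini
    have : i = ⟨j, hj⟩ := e.injective (Subtype.ext heq)
    rw [this] at hi
    simp at hi
  -- the chain
  let J : Fin (n + 1) → Ideal R := fun k => I (n - k.val) ⊔ Ideal.span {x}
  have hJ : StrictMono J := by
    rw [Fin.strictMono_iff_lt_succ]
    intro k
    have hk : k.val < n := k.2
    have e1 : n - (k.castSucc : Fin (n + 1)).val = (n - k.val - 1) + 1 := by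
      simp only [Fin.val_castSucc]; omega
    have e2 : n - (k.succ : Fin (n + 1)).val = n - k.val - 1 := by
      simp only [Fin.val_succ]; omega
    refine lt_of_le_of_ne ?_ ?_
    · simp only [J, e1, e2]
      exact sup_le_sup_right (hIanti _) _
    · intro heq
      simp only [J, e1, e2] at heq
      apply hstrict (n - k.val - 1) (by omega)
      rw [heq]
      exact le_sup_left
  let S : LTSeries (Ideal R) := LTSeries.mk n J hJ
  have hhead : Ideal.span {x} ≤ S.head := by
    change Ideal.span {x} ≤ J 0
    exact le_sup_right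
  have := Order.length_le_coheight hhead
  rw [hncard, Module.length_quotient]
  exact this

end Groth.Agent.S2014
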