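import Groth.Statements.S2017
-- import your own Groth.Agent.* helpers here

set_option autoImplicit false
universe u
open EtAlg

namespace Groth.Agent.S2017

/-- Let R be a Noetherian ring, A, B, C R-algebras of finite type, f : A -> B a surjective R-algebra map
and g : C -> B an R-algebra map making B a finite C-module. Then the fibre product A ×_B C (the
equalizer of f ∘ pr₁ and g ∘ pr₂ in A × C) is an R-algebra of finite type. -/
theorem result (R A B C : Type u) [CommRing R] [IsNoetherianRing R] [CommRing A] [CommRing B]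
    [CommRing C] [Algebra R A] [Algebra R B] [Algebra R C] [Algebra.FiniteType R A] [Algebra.FiniteType R B]
    [Algebra.FiniteType R C] (f : A →ₐ[R] B) (hf : Function.Surjective f) (g : C →ₐ[R] B)
    (hg : (g.toRingHom).Finite) :
    Algebra.FiniteType R ↥(AlgHom.equalizer (f.comp (AlgHom.fst R A C)) (g.comp (AlgHom.snd R A C))) := by
  classical
  set D : Subalgebra R (A × C) :=
    AlgHom.equalizer (f.comp (AlgHom.fst R A C)) (g.comp (AlgHom.snd R A C)) with hD
  have hmemD : ∀ x : A × C, x ∈ D ↔ f x.1 = g x.2 := fun x => Iff.rfl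
  -- `B` is a finite `C`-module via `g`
  letI algCB : Algebra C B := g.toRingHom.toAlgebra
  have hsmul : ∀ (c : C) (b : B), c • b = g c * b := fun c b => rfl
  haveI hfin : Module.Finite C B := hg
  obtain ⟨T, hT⟩ := hfin.fg_top
  -- choose preimages
  choose pc hpc using fun c : C => hf (g c)
  choose pa hpa using hf
  let U : Finset (A × C) := insert 1 (T.image fun b => ((pa b, 0) : A × C))
  have hBC : (⊤ : Submodule D (A × C)).FG := by
    refine ⟨U, ?_⟩
    rw [eq_top_iff]
    rintro ⟨a, c⟩ -
    have hb₀ : f a - g c ∈ Submodule.span C (T : Set B) := by rw [hT]; trivial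
    obtain ⟨cf, -, hcf⟩ := Submodule.mem_span_finset.mp hb₀
    -- elements of D
    have hdmem : ∀ b : B, ((pc (cf b), cf b) : A × C) ∈ D := fun b => hpc (cf b)
    let a₀ : A := a - ∑ b ∈ T, pc (cf b) * pa b
    have hd₀ : ((a₀, c) : A × C) ∈ D := by
      show f a₀ = g c
      simp only [a₀, map_sub, map_sum, map_mul, hpc, hpa]
      have : ∑ b ∈ T, g (cf b) * b = f a - g c := by
        rw [← hcf]; exact Finset.sum_congr rfl (fun b _ => (hsmul _ _).symm)
      rw [this]; ring
    have hdecomp : ((a, c) : A × C) = (⟨(a₀, c), hd₀⟩ : D) • (1 : A × C) +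
        ∑ b ∈ T, (⟨(pc (cf b), cf b), hdmem b⟩ : D) • ((pa b, 0) : A × C) := by
      simp only [Subalgebra.smul_def, smul_eq_mul, mul_one, Prod.mk_mul_mk, mul_zero]
      ext
      · simp only [Prod.fst_add, Prod.fst_sum, a₀]; ring
      · simp only [Prod.snd_add, Prod.snd_sum, Finset.sum_const_zero, add_zero]
    rw [hdecomp]
    refine Submodule.add_mem _ (Submodule.smul_mem _ _ (Submodule.subset_span ?_))
      (Submodule.sum_mem _ fun b hb => Submodule.smul_mem _ _ (Submodule.subset_span ?_))
    · exact Finset.mem_coe.mpr (Finset.mem_insert_self _ _)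
    · exact Finset.mem_coe.mpr (Finset.mem_insert_of_mem (Finset.mem_image_of_mem _ hb))
  have hAC : (⊤ : Subalgebra R (A × C)).FG := Algebra.FiniteType.out
  exact ⟨fg_of_fg_of_fg R D (A × C) hAC hBC Subtype.val_injective⟩

end Groth.Agent.S2017
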