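import Groth.Statements.S2018
-- import your own Groth.Agent.* helpers here

set_option autoImplicit false
universe u
open EtAlg

namespace Groth.Agent.S2018

/-- Let g : A' -> A be a surjective ring map and f : B -> A an integral ring map. Then the projection
from the fibre product B ×_A A' (the equalizer of f ∘ pr₁ and g ∘ pr₂ in B × A') to A' is integral. -/
theorem result (A A' B : Type u) [CommRing A] [CommRing A'] [CommRing B] (g : A' →+* A)
    (hg : Function.Surjective g) (f : B →+* A) (hf : f.IsIntegral) :
    ((RingHom.snd B A').comp ((f.comp (RingHom.fst B A')).eqLocus (g.comp (RingHom.snd B A'))).subtype).IsIntegral := by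
  classical
  set E := (f.comp (RingHom.fst B A')).eqLocus (g.comp (RingHom.snd B A')) with hE
  set π : E →+* A' := (RingHom.snd B A').comp E.subtype with hπ
  set φ : E →+* B := (RingHom.fst B A').comp E.subtype with hφ
  have hcomm : g.comp π = f.comp φ := by
    ext ⟨x, hx⟩
    exact hx.symm
  have hφsurj : Function.Surjective φ := by
    intro b
    obtain ⟨a', ha'⟩ := hg (f b)
    exact ⟨⟨(b, a'), by simp [hE, RingHom.mem_eqLocus, ha']⟩, rfl⟩
  have hker : ∀ k : A', g k = 0 → ∃ e : E, π e = k := by
    intro k hk
    exact ⟨⟨(0, k), by simp [hE, RingHom.mem_eqLocus, hk]⟩, rfl⟩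
  intro a'
  obtain ⟨p, hpmonic, hp⟩ := hf (g a')
  obtain ⟨P, hPmap, -, hPmonic⟩ := Polynomial.lifts_and_natDegree_eq_and_monic
    ((Polynomial.mem_lifts p).mpr (Polynomial.map_surjective φ hφsurj p)) hpmonic
  have hgk : g (Polynomial.eval₂ π a' P) = 0 := by
    rw [Polynomial.hom_eval₂, hcomm, ← Polynomial.eval₂_map, hPmap]
    exact hp
  obtain ⟨e, he⟩ := hker (Polynomial.eval₂ π a' P * a') (by rw [map_mul, hgk, zero_mul])
  rcases subsingleton_or_nontrivial E with hsub | hnon
  · refine ⟨1, Polynomial.monic_of_subsingleton _, ?_⟩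
    have : (1 : A') = 0 := by
      have h1 : (1 : E) = 0 := Subsingleton.elim _ _
      simpa using congrArg π h1
    have h0 : ∀ x : A', x = 0 := fun x => by rw [← mul_one x, this, mul_zero]
    exact h0 _
  · refine ⟨P * Polynomial.X - Polynomial.C e, ?_, ?_⟩
    · apply Polynomial.Monic.sub_of_left (hPmonic.mul Polynomial.monic_X)
      rw [Polynomial.degree_mul_X]
      calc (Polynomial.C e).degree ≤ 0 := Polynomial.degree_C_le
        _ < P.degree + 1 := by
          have : (0 : WithBot ℕ) ≤ P.degree := by
            rw [Polynomial.degree_eq_natDegree hPmonic.ne_zero]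
            exact_mod_cast Nat.zero_le _
          calc (0 : WithBot ℕ) < 0 + 1 := by exact_mod_cast zero_lt_one
            _ ≤ P.degree + 1 := by gcongr
    · rw [Polynomial.eval₂_sub, Polynomial.eval₂_mul, Polynomial.eval₂_X, Polynomial.eval₂_C, he,
        sub_self]

end Groth.Agent.S2018
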