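import Groth.Statements.S2020
import Groth.Agent.H76.Glue
import Groth.Agent.S14952
import Groth.Agent.S6916

set_option autoImplicit false
universe u
open TensorProduct
open EtAlg

namespace Groth.Agent.S2020

open Groth.Agent.H76

/-- For a flat `B'`-module, an element dying in both base changes is zero. -/
theorem eq_zero_of_flat (B' B A' A : Type u) [CommRing B'] [CommRing B] [CommRing A'] [CommRing A]
    [Algebra B' B] [Algebra B' A'] [Algebra B A] [Algebra A' A] [Algebra B' A] [IsScalarTower B' B A] [IsScalarTower B' A' A]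
    (hsq : EtMil.IsFibreSquare B' B A' A)
    (L' : Type u) [AddCommGroup L'] [Module B' L'] [Module.Flat B' L'] (l : L')
    (h1 : ((1 : B) ⊗ₜ[B'] l : B ⊗[B'] L') = 0) (h2 : ((1 : A') ⊗ₜ[B'] l : A' ⊗[B'] L') = 0) :
    l = 0 := by
  let J : Ideal B' := RingHom.ker (algebraMap B' B)
  have hl : l ∈ J • (⊤ : Submodule B' L') :=
    Milnor.mem_smul_top_of_one_tmul_eq_zero (Milnor.surjective_left hsq) l h1
  let σ : J ⊗[B'] L' →ₗ[B'] L' := (TensorProduct.lid B' L').toLinearMap ∘ₗ (J.subtype.rTensor L')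
  have hσ : ∀ (j : J) (x : L'), σ (j ⊗ₜ[B'] x) = (j : B') • x := by
    intro j x
    simp [σ]
  obtain ⟨t, ht⟩ : ∃ t : J ⊗[B'] L', σ t = l := by
    refine Submodule.smul_induction_on hl ?_ ?_
    · intro j hj x _
      exact ⟨(⟨j, hj⟩ : J) ⊗ₜ[B'] x, hσ _ _⟩
    · rintro x y ⟨a, rfl⟩ ⟨b, rfl⟩
      exact ⟨a + b, map_add _ _ _⟩
  let ρJ : J →ₗ[B'] A' := (Algebra.linearMap B' A') ∘ₗ J.subtype
  have hρinj : Function.Injective ρJ := by
    intro x y hxy
    have e1 : algebraMap B' B (x : B') = algebraMap B' B (y : B') := by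
      rw [(RingHom.mem_ker).mp x.2, (RingHom.mem_ker).mp y.2]
    exact Subtype.ext (Milnor.eq_of_maps_eq hsq e1 hxy)
  have hinj : Function.Injective (ρJ.rTensor L') :=
    Module.Flat.rTensor_preserves_injective_linearMap ρJ hρinj
  have hrel : ∀ t : J ⊗[B'] L', (ρJ.rTensor L') t = (1 : A') ⊗ₜ[B'] (σ t) := by
    intro t
    induction t with
    | zero => simp
    | tmul j x =>
      rw [LinearMap.rTensor_tmul, hσ]
      show (algebraMap B' A' (j : B')) ⊗ₜ[B'] x = _
      rw [Algebra.algebraMap_eq_smul_one, TensorProduct.smul_tmul]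
    | add x y hx hy => rw [map_add, hx, hy, map_add, TensorProduct.tmul_add]
  have ht0 : t = 0 := by
    apply hinj
    rw [hrel, ht, h2, map_zero]
  rw [← ht, ht0, map_zero]

theorem result (B' B A' A : Type u) [CommRing B'] [CommRing B] [CommRing A'] [CommRing A]
    [Algebra B' B] [Algebra B' A'] [Algebra B A] [Algebra A' A] [Algebra B' A] [IsScalarTower B' B A] [IsScalarTower B' A' A]
    (hsq : EtMil.IsFibreSquare B' B A' A) :
    (∀ (N M' : Type u) [AddCommGroup N] [Module B N] [Module B' N] [IsScalarTower B' B N]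
    [AddCommGroup M'] [Module A' M'] [Module B' M'] [IsScalarTower B' A' M'] (φ : A ⊗[B] N ≃ₗ[A] A ⊗[A'] M'), Module.Flat B N → Module.Flat A' M' → Module.Flat B' ↥(EtMil.glue B' φ)) ∧
    (∀ (L' : Type u) [AddCommGroup L'] [Module B' L'], Module.Flat B' L' →
      Function.Injective (fun l : L' => (((1 : B) ⊗ₜ[B'] l : B ⊗[B'] L'), ((1 : A') ⊗ₜ[B'] l : A' ⊗[B'] L'))) ∧
      ∀ (x : B ⊗[B'] L') (y : A' ⊗[B'] L'),
        (IsScalarTower.toAlgHom B' B A).toLinearMap.rTensor L' x = (IsScalarTower.toAlgHom B' A' A).toLinearMap.rTensor L' y →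
          ∃ l : L', (1 : B) ⊗ₜ[B'] l = x ∧ (1 : A') ⊗ₜ[B'] l = y) := by
  refine ⟨?_, ?_⟩
  · intro N M' _ _ _ _ _ _ _ _ φ hN hM'
    haveI : Module.Flat B (B ⊗[B'] (EtMil.glue B' φ)) :=
      Module.Flat.of_linearEquiv (Glue.equivFst φ hsq)
    haveI : Module.Flat A' (A' ⊗[B'] (EtMil.glue B' φ)) :=
      Module.Flat.of_linearEquiv (Glue.equivSnd φ hsq)
    exact Groth.Agent.S14952.result B' B A' A hsq _
  · intro L' _ _ hL'
    refine ⟨?_, ?_⟩
    · intro l₁ l₂ h
      have h1 : ((1 : B) ⊗ₜ[B'] l₁ : B ⊗[B'] L') = (1 : B) ⊗ₜ[B'] l₂ := congrArg Prod.fst h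
      have h2 : ((1 : A') ⊗ₜ[B'] l₁ : A' ⊗[B'] L') = (1 : A') ⊗ₜ[B'] l₂ := congrArg Prod.snd h
      have := eq_zero_of_flat B' B A' A hsq L' (l₁ - l₂)
        (by rw [TensorProduct.tmul_sub, h1, sub_self])
        (by rw [TensorProduct.tmul_sub, h2, sub_self])
      exact sub_eq_zero.mp this
    · intro x y hxy
      exact Groth.Agent.S6916.result B' B A' A hsq L' x y hxy

end Groth.Agent.S2020
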