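import Groth.Statements.S2030
import Mathlib
import Groth.Agent.S2026
import Groth.Agent.Lib.Helper81.PopConormalLoc
import Groth.Agent.Lib.Helper81.PopMinors

set_option autoImplicit false
universe u
open Smoothing

namespace Groth.Agent.S2030
open Groth.Agent.Lib.Helper81.Pop MvPolynomial Matrix in
theorem stablyFree_aux {R A : Type u} [CommRing R] [CommRing A]
    [Algebra R A] (a : A) (P : Smoothing.MarkedPresentation R A)
    (hspan : a ∈ Ideal.span (Set.range fun cols : Fin P.c → Fin P.n =>
        P.hom (Smoothing.jacobianMinor P.rel (Fin.castLE P.hcm) cols)))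
    (hkt : Smoothing.KillsTail P a) :
    Nonempty ((Ω[Localization.Away a⁄R] × (Fin P.c → Localization.Away a)) ≃ₗ[Localization.Away a]
        (Fin P.n → Localization.Away a)) := by
  classical
  let lead : Fin P.c → MvPolynomial (Fin P.n) R := fun j => P.rel (Fin.castLE P.hcm j)
  let M : Matrix (Fin P.c) (Fin P.n) (Localization.Away a) :=
    Matrix.of fun j i => jacRowB P.hom a (lead j) i
  obtain ⟨coef, hcoef⟩ := (Ideal.mem_span_range_iff_exists_fun).1 hspan
  have hminor : ∀ cols : Fin P.c → Fin P.n, (M.submatrix id cols).det =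
      algebraMap A (Localization.Away a)
        (P.hom (Smoothing.jacobianMinor P.rel (Fin.castLE P.hcm) cols)) := by
    intro cols
    rw [Smoothing.jacobianMinor, AlgHom.map_det, RingHom.map_det]
    congr 1
  have hunit : IsUnit (algebraMap A (Localization.Away a) a) :=
    IsLocalization.Away.algebraMap_isUnit a
  obtain ⟨ainv, hainv⟩ := hunit.exists_left_inv
  obtain ⟨N, hN⟩ := exists_right_inverse_of_minors M
    (fun cols => ainv * algebraMap A (Localization.Away a) (coef cols)) (by
      simp only [hminor]
      have : ∀ cols : Fin P.c → Fin P.n, ainv * algebraMap A (Localization.Away a) (coef cols) *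
          algebraMap A (Localization.Away a)
            (P.hom (Smoothing.jacobianMinor P.rel (Fin.castLE P.hcm) cols)) =
          ainv * algebraMap A (Localization.Away a)
            (coef cols * P.hom (Smoothing.jacobianMinor P.rel (Fin.castLE P.hcm) cols)) := by
        intro cols
        rw [map_mul, mul_assoc]
      simp only [this]
      rw [← Finset.mul_sum, ← map_sum, hcoef, hainv])
  -- the row space
  let RS : Submodule (Localization.Away a) (Fin P.n → Localization.Away a) :=
    LinearMap.range (Matrix.vecMulLinear M)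
  have hrowmem : ∀ j : Fin P.c, jacRowB P.hom a (lead j) ∈ RS := by
    intro j
    refine ⟨Pi.single j 1, ?_⟩
    rw [Matrix.vecMulLinear_apply, Matrix.single_one_vecMul]
    rfl
  have hkerrel : ∀ ℓ, P.hom (P.rel ℓ) = 0 := by
    intro ℓ
    have : P.rel ℓ ∈ RingHom.ker P.hom.toRingHom := by
      rw [P.ker_eq]; exact Ideal.subset_span ⟨ℓ, rfl⟩
    exact this
  obtain ⟨a', ha'⟩ := P.surj a
  have hrel : ∀ ℓ, P.hom (P.rel ℓ) = 0 ∧ jacRowB P.hom a (P.rel ℓ) ∈ RS := by
    intro ℓ
    refine ⟨hkerrel ℓ, ?_⟩
    by_cases hℓ : (ℓ : ℕ) < P.c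
    · have : P.rel ℓ = lead ⟨ℓ, hℓ⟩ := by
        simp only [lead]
        congr 1
      rw [this]
      exact hrowmem _
    · have h1 := hkt a' ha' ℓ (not_lt.1 hℓ)
      obtain ⟨e, he, z, hz, hez⟩ := Submodule.mem_sup.1 h1
      have he' := jacRowB_mem_of_mem_span P.hom a RS _ (by
        rintro _ ⟨j, hj, rfl⟩
        refine ⟨hkerrel j, ?_⟩
        have : P.rel j = lead ⟨j, hj⟩ := by
          simp only [lead]
          congr 1
        rw [this]
        exact hrowmem _) e he
      have hz' : jacRowB P.hom a z = 0 := by
        apply jacRowB_eq_zero_of_mem_sq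
        rw [P.ker_eq]
        exact hz
      have h2 : algebraMap A (Localization.Away a) a • jacRowB P.hom a (P.rel ℓ) ∈ RS := by
        have h2' := jacRowB_mul_of_mem P.hom a a' (P.rel ℓ) (hkerrel ℓ)
        rw [ha'] at h2'
        rw [← h2', ← hez, jacRowB_add, hz', add_zero]
        exact he'.2
      have h3 := RS.smul_mem ainv h2
      rwa [smul_smul, hainv, one_smul] at h3
  refine nonempty_linearEquiv_of_right_inverse (piKB P.hom a) (piKB_surjective P.hom a P.surj) M N
    hN ?_
  intro w
  constructor
  · intro hw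
    obtain ⟨k, f, hf, hfw⟩ := exists_jacRowB_eq_of_piKB_eq_zero P.hom a P.surj w hw
    have hfI : f ∈ Ideal.span (Set.range P.rel) := by
      rw [← P.ker_eq]; exact hf
    have h1 := (jacRowB_mem_of_mem_span P.hom a RS _ (by
      rintro _ ⟨ℓ, rfl⟩
      exact hrel ℓ) f hfI).2
    rw [hfw] at h1
    have h2 := RS.smul_mem (ainv ^ k) h1
    rw [smul_smul, ← mul_pow, hainv, one_pow, one_smul] at h2
    obtain ⟨v, hv⟩ := h2
    exact ⟨v, hv⟩
  · rintro ⟨v, rfl⟩
    have h1 : v ᵥ* M = ∑ j, v j • jacRowB P.hom a (lead j) := by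
      funext i
      simp only [Matrix.vecMul, dotProduct, M, Matrix.of_apply, Finset.sum_apply, Pi.smul_apply,
        smul_eq_mul]
    rw [h1, map_sum]
    refine Finset.sum_eq_zero fun j _ => ?_
    rw [map_smul, piKB_jacRowB P.hom a P.surj (lead j) (hkerrel _), smul_zero]

/-- If `a` is strictly standard in the finitely presented `R`-algebra `A`, then the localization `A_a`
is smooth over `R` and its module of Kaehler differentials over `R` is stably free (free after
adding a finite free module). -/
theorem result {R A : Type u} [CommRing R] [CommRing A]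
    [Algebra R A] (a : A) (ha : Smoothing.IsStrictlyStandard R A a) :
    Algebra.Smooth R (Localization.Away a) ∧
      ∃ p q : ℕ, Nonempty ((Ω[Localization.Away a⁄R] × (Fin p → Localization.Away a)) ≃ₗ[Localization.Away a]
        (Fin q → Localization.Away a)) := by
  classical
  obtain ⟨P, hspan, hkt⟩ := id ha
  haveI hfp : Algebra.FinitePresentation R A := by
    refine Algebra.FinitePresentation.of_surjective (f := P.hom) P.surj ?_
    rw [P.ker_eq]
    exact ⟨Finset.univ.image P.rel, by simp⟩
  refine ⟨?_, P.c, P.n, stablyFree_aux a P hspan hkt⟩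
  rw [← Algebra.basicOpen_subset_smoothLocus_iff_smooth]
  intro x hx
  exact Groth.Agent.S2026.isSmoothAt_of_isStrictlyStandard a ha x.asIdeal hx

end Groth.Agent.S2030
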