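import Groth.Statements.S2032
import Groth.Agent.Lib.Helper9.StandardSmoothQuot

set_option autoImplicit false
universe u
open Smoothing

namespace Groth.Agent.S2032

/-- For a finitely presented `R`-algebra `A` and `a ∈ A`, if `a` is elementary standard then `A_a` is
standard smooth over `R`. (Part (f), the converse for large powers of `a`, is not stated: as
published it fails, for example for the nodal cubic `A = {g ∈ ℚ[u] : g(0) = g(1)}` and `a =
u(u-1)`.) -/
theorem result {R A : Type u} [CommRing R] [CommRing A]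
    [Algebra R A] [Algebra.FinitePresentation R A] (a : A)
    (ha : Smoothing.IsElementaryStandard R A a) : Algebra.IsStandardSmooth R (Localization.Away a) := by
  classical
  obtain ⟨P, ⟨a₀, ha₀⟩, hkt⟩ := ha
  obtain ⟨b₀, hb₀⟩ := P.surj a₀
  set Δ := jacobianMinor P.rel (Fin.castLE P.hcm) (Fin.castLE P.hcn) with hΔ
  have haeq : a = P.hom (b₀ * Δ) := by rw [map_mul, hb₀, ha₀]
  subst haeq
  set lead : Fin P.c → MvPolynomial (Fin P.n) R := fun j => P.rel (Fin.castLE P.hcm j) with hlead
  have hleadJ : Ideal.span (Set.range lead) ≤ Ideal.span (Set.range P.rel) := by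
    apply Ideal.span_mono
    rintro _ ⟨j, rfl⟩
    exact ⟨_, rfl⟩
  have himg : P.rel '' {j' : Fin P.m | (j' : ℕ) < P.c} ⊆ Set.range lead := by
    rintro _ ⟨j, hj, rfl⟩
    refine ⟨⟨j, hj⟩, ?_⟩
    simp only [hlead]
    congr 1
  refine Groth.Agent.Lib.Helper9.isStandardSmooth_away_of_killsTail lead (Fin.castLE P.hcn)
    (Fin.castLE_injective P.hcn) P.hom P.surj (Ideal.span (Set.range P.rel)) P.ker_eq
    ⟨(Finset.univ.image P.rel), by simp⟩ hleadJ (b₀ * Δ) (Dvd.intro_left _ rfl) ?_
  intro x hx
  refine Submodule.span_induction ?_ ?_ ?_ ?_ hx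
  · rintro _ ⟨j, rfl⟩
    by_cases hj : (j : ℕ) < P.c
    · apply Ideal.mem_sup_left
      apply Ideal.mul_mem_left
      apply Ideal.subset_span
      exact himg ⟨j, hj, rfl⟩
    · have := hkt (b₀ * Δ) rfl j (not_lt.mp hj)
      exact (sup_le_sup_right (Ideal.span_mono himg) _) this
  · simp
  · intro x y _ _ hx hy
    rw [mul_add]
    exact add_mem hx hy
  · intro r x _ hx
    rw [smul_eq_mul, mul_left_comm]
    exact Ideal.mul_mem_left _ _ hx

end Groth.Agent.S2032
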