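import Groth.Statements.S2040
import Groth.Agent.Lib.Helper47.SmoothFlat
import Groth.Agent.Lib.Helper47.FlatFibreSmooth
import Groth.Agent.Lib.Helper81.FlatLiftRegular
import Groth.Agent.Lib.Helper81.FibreTensor

set_option autoImplicit false
universe u
open CAlg

namespace Groth.Agent.S2040

/-- For a complete Noetherian local ring `A` with residue field `k`, and a complete Noetherian local
`k`-algebra `B` which is formally smooth over `k` for the adic topology of its maximal ideal, there
is a Noetherian complete local ring `C` with a local homomorphism `A → C`, formally smooth for the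
adic topology of the maximal ideal of `C`, whose special fibre `C ⊗ k` is isomorphic to `B` over
`k`. -/
theorem result {A B : Type u} [CommRing A] [IsLocalRing A]
    [IsNoetherianRing A] [IsAdicComplete (IsLocalRing.maximalIdeal A) A] [CommRing B] [IsLocalRing B]
    [IsNoetherianRing B] [IsAdicComplete (IsLocalRing.maximalIdeal B) B]
    [Algebra (IsLocalRing.maximalIdeal A).ResidueField B]
    (hB : CAlgX.IsAdicFormallySmooth (IsLocalRing.maximalIdeal A).ResidueField B (IsLocalRing.maximalIdeal B)) :
    ∃ (C : Type u) (_ : CommRing C) (_ : IsLocalRing C) (_ : Algebra A C),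
      IsNoetherianRing C ∧ IsAdicComplete (IsLocalRing.maximalIdeal C) C ∧ IsLocalHom (algebraMap A C) ∧
        CAlgX.IsAdicFormallySmooth A C (IsLocalRing.maximalIdeal C) ∧
        Nonempty ((IsLocalRing.maximalIdeal A).Fiber C ≃ₐ[(IsLocalRing.maximalIdeal A).ResidueField] B) := by
  classical
  -- `B` is a regular local ring
  haveI hreg : IsRegularLocalRing B :=
    Groth.Agent.Lib.Helper90.SmoothRegular.regular_of_smooth_general hB
  -- the residue field of `A` in its two forms
  let σ' : (A ⧸ IsLocalRing.maximalIdeal A) ≃+* (IsLocalRing.maximalIdeal A).ResidueField :=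
    RingEquiv.ofBijective
      (algebraMap (A ⧸ IsLocalRing.maximalIdeal A) (IsLocalRing.maximalIdeal A).ResidueField)
      (Ideal.bijective_algebraMap_quotient_residueField _)
  letI algkB : Algebra (IsLocalRing.ResidueField A) B :=
    ((algebraMap (IsLocalRing.maximalIdeal A).ResidueField B).comp
      (σ' : (A ⧸ IsLocalRing.maximalIdeal A) →+* (IsLocalRing.maximalIdeal A).ResidueField)).toAlgebra
  obtain ⟨C, _, _, _, φ, π, hcomp, hflat, hπ, hker, hcompat⟩ :=
    Groth.Agent.Lib.Helper81.FlatLiftRegular.exists_flatLift (A := A) B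
  letI algAC : Algebra A C := φ.toAlgebra
  have hloc : IsLocalHom (algebraMap A C) := by
    apply ((IsLocalRing.local_hom_TFAE (algebraMap A C)).out 0 2).mpr
    change (IsLocalRing.maximalIdeal A).map φ ≤ IsLocalRing.maximalIdeal C
    rw [← hker]
    exact IsLocalRing.le_maximalIdeal (RingHom.ker_ne_top π)
  haveI := hloc
  haveI : Module.Flat A C := hflat
  letI algAB : Algebra A B :=
    ((algebraMap (IsLocalRing.maximalIdeal A).ResidueField B).comp
      (algebraMap A (IsLocalRing.maximalIdeal A).ResidueField)).toAlgebra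
  haveI : IsScalarTower A (IsLocalRing.maximalIdeal A).ResidueField B :=
    IsScalarTower.of_algebraMap_eq (fun _ => rfl)
  have hπφ : ∀ a : A, π (φ a) =
      algebraMap (IsLocalRing.maximalIdeal A).ResidueField B
        (algebraMap A (IsLocalRing.maximalIdeal A).ResidueField a) := by
    intro a
    have h1 := RingHom.congr_fun hcompat a
    rw [RingHom.comp_apply, RingHom.comp_apply] at h1
    rw [h1]
    change algebraMap (IsLocalRing.maximalIdeal A).ResidueField B
      (algebraMap (A ⧸ IsLocalRing.maximalIdeal A) (IsLocalRing.maximalIdeal A).ResidueField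
        (Ideal.Quotient.mk _ a)) = _
    rw [← Ideal.Quotient.algebraMap_eq,
      ← IsScalarTower.algebraMap_apply A (A ⧸ IsLocalRing.maximalIdeal A)
        (IsLocalRing.maximalIdeal A).ResidueField]
  let πa : C →ₐ[A] B := { π with commutes' := fun a => hπφ a }
  -- the fibre
  have hfib : Nonempty ((IsLocalRing.maximalIdeal A).Fiber C ≃ₐ[(IsLocalRing.maximalIdeal A).ResidueField] B) := by
    refine Groth.Agent.Lib.Helper81.FibreTensor.nonempty_tensor_algEquiv
      (IsLocalRing.maximalIdeal A).ResidueField (Ideal.algebraMap_residueField_surjective _)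
      πa hπ ?_
    intro c hc
    have h1 : c ∈ RingHom.ker π := hc
    rw [hker] at h1
    rw [Ideal.ker_algebraMap_residueField]
    exact h1
  -- formal smoothness
  have hne : (IsLocalRing.maximalIdeal A).map (algebraMap A C) ≠ ⊤ :=
    ne_top_of_le_ne_top (Ideal.IsPrime.ne_top inferInstance)
      (IsLocalRing.map_maximalIdeal_le (algebraMap A C))
  haveI : Nontrivial (C ⧸ (IsLocalRing.maximalIdeal A).map (algebraMap A C)) :=
    Ideal.Quotient.nontrivial_iff.mpr hne
  haveI : IsLocalRing (C ⧸ (IsLocalRing.maximalIdeal A).map (algebraMap A C)) :=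
    IsLocalRing.of_surjective' (Ideal.Quotient.mk _) Ideal.Quotient.mk_surjective
  let ē : (C ⧸ (IsLocalRing.maximalIdeal A).map (algebraMap A C)) ≃+* B :=
    (Ideal.quotEquivOfEq (show (IsLocalRing.maximalIdeal A).map (algebraMap A C) = RingHom.ker π
      from hker.symm)).trans (RingHom.quotientKerEquivOfSurjective hπ)
  have hē : ∀ c : C, ē (Ideal.Quotient.mk _ c) = π c := fun c => rfl
  have hcompat' : ∀ x : (IsLocalRing.maximalIdeal A).ResidueField,
      ē.symm (algebraMap (IsLocalRing.maximalIdeal A).ResidueField B x) =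
        algebraMap (A ⧸ IsLocalRing.maximalIdeal A)
          (C ⧸ (IsLocalRing.maximalIdeal A).map (algebraMap A C)) (σ'.symm x) := by
    intro x
    obtain ⟨y, rfl⟩ := σ'.surjective x
    obtain ⟨a, rfl⟩ := Ideal.Quotient.mk_surjective y
    rw [RingEquiv.symm_apply_eq, RingEquiv.symm_apply_apply]
    change _ = ē (Ideal.Quotient.mk _ (algebraMap A C a))
    rw [hē]
    change _ = π (φ a)
    rw [hπφ]
    change algebraMap (IsLocalRing.maximalIdeal A).ResidueField B
      (algebraMap (A ⧸ IsLocalRing.maximalIdeal A) (IsLocalRing.maximalIdeal A).ResidueField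
        (Ideal.Quotient.mk _ a)) = _
    rw [← Ideal.Quotient.algebraMap_eq,
      ← IsScalarTower.algebraMap_apply A (A ⧸ IsLocalRing.maximalIdeal A)
        (IsLocalRing.maximalIdeal A).ResidueField]
  have h𝔫 : (IsLocalRing.maximalIdeal B).map ē.symm.toRingHom ≤
      (IsLocalRing.maximalIdeal C).map
        (Ideal.Quotient.mk ((IsLocalRing.maximalIdeal A).map (algebraMap A C))) := by
    have hs : Function.Surjective (ē.symm.toRingHom) := ē.symm.surjective
    have h2 := IsLocalRing.map_maximalIdeal_of_surjective ē.symm.toRingHom hs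
    have h3 := IsLocalRing.map_maximalIdeal_of_surjective
      (Ideal.Quotient.mk ((IsLocalRing.maximalIdeal A).map (algebraMap A C)))
      Ideal.Quotient.mk_surjective
    rw [h3]
    exact h2.le
  have h1 := Groth.Agent.Lib.Helper47.SmoothFlat.isAdicFormallySmooth_of_ringEquiv
    σ'.symm ē.symm hcompat' _ _ h𝔫 hB
  have hfs : CAlgX.IsAdicFormallySmooth A C (IsLocalRing.maximalIdeal C) :=
    Groth.Agent.Lib.Helper47.isAdicFormallySmooth_of_flat_of_fibre h1
  exact ⟨C, inferInstance, inferInstance, algAC, inferInstance, hcomp, hloc, hfs, hfib⟩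

end Groth.Agent.S2040
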