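import Groth.Statements.S2041
import Groth.Agent.Lib.Helper9.EtaleFactor
import Groth.Agent.S1959

set_option autoImplicit false
universe u
open CAlg

namespace Groth.Agent.S2041

open TensorProduct in
/-- Let `I ⊆ A` be an ideal, `A → B` integral and `ē` an idempotent of `B/IB`. Then there is an étale
`A`-algebra `A'` with `A/I → A'/IA'` bijective and an idempotent of `A' ⊗ B` whose class modulo `I`
agrees with that of any lift of `ē`. -/
theorem result {A B : Type u} [CommRing A] [CommRing B] [Algebra A B]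
    [Algebra.IsIntegral A B] (I : Ideal A) (e : B ⧸ I.map (algebraMap A B)) (he : IsIdempotentElem e) :
    ∃ (A' : Type u) (_ : CommRing A') (_ : Algebra A A'), Algebra.Etale A A' ∧
      Function.Bijective (algebraMap (A ⧸ I) (A' ⧸ I.map (algebraMap A A'))) ∧
      ∃ e' : A' ⊗[A] B, IsIdempotentElem e' ∧
        ∀ b : B, Ideal.Quotient.mk (I.map (algebraMap A B)) b = e →
          e' - 1 ⊗ₜ b ∈ I.map (algebraMap A (A' ⊗[A] B)) := by
  classical
  obtain ⟨b₀, hb₀⟩ := Ideal.Quotient.mk_surjective e
  obtain ⟨f, d, hf, hd, hfb, hfmap⟩ := Groth.Agent.S1959.result A B I b₀ (by rw [hb₀]; exact he)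
  have hcop : IsCoprime ((Polynomial.X : Polynomial (A ⧸ I)) ^ d)
      ((Polynomial.X - 1 : Polynomial (A ⧸ I)) ^ d) := by
    apply IsCoprime.pow
    exact ⟨1, -1, by ring⟩
  have hmon2 : ((Polynomial.X - 1 : Polynomial (A ⧸ I)) ^ d).Monic := by
    have : (Polynomial.X - 1 : Polynomial (A ⧸ I)) = Polynomial.X - Polynomial.C 1 := by simp
    rw [this]
    exact (Polynomial.monic_X_sub_C 1).pow d
  obtain ⟨A', _, _, hEt, hbij, g', h', hg', hh', hcop', hfac, hg'map, hh'map⟩ :=
    Groth.Agent.Lib.Helper9.exists_etale_lift_coprime_factorization I f hf _ _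
      (Polynomial.monic_X_pow d) hmon2 hcop hfmap
  refine ⟨A', inferInstance, inferInstance, hEt, hbij, ?_⟩
  -- notation
  set B' := A' ⊗[A] B with hB'
  set J : Ideal B' := I.map (algebraMap A B') with hJ
  set π := Ideal.Quotient.mk J with hπ
  set β : B' := 1 ⊗ₜ b₀ with hβ
  -- the map `A' → B'/J` factors through `A'/IA'`
  let χ : A' →+* B' ⧸ J := π.comp (algebraMap A' B')
  have hχ : ∀ x ∈ I.map (algebraMap A A'), χ x = 0 := by
    intro x hx
    have : I.map (algebraMap A A') ≤ RingHom.ker χ := by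
      rw [Ideal.map_le_iff_le_comap]
      intro a ha
      rw [Ideal.mem_comap, RingHom.mem_ker]
      change π (algebraMap A' B' (algebraMap A A' a)) = 0
      rw [← IsScalarTower.algebraMap_apply A A' B', hπ, Ideal.Quotient.eq_zero_iff_mem]
      exact Ideal.mem_map_of_mem _ ha
    exact RingHom.mem_ker.mp (this hx)
  let ψ : A' ⧸ I.map (algebraMap A A') →+* B' ⧸ J := Ideal.Quotient.lift _ χ hχ
  have hψ : ψ.comp (Ideal.Quotient.mk _) = χ := by ext x; rfl
  have hmapχ : ∀ (P : Polynomial A') (Q : Polynomial (A ⧸ I)),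
      P.map (Ideal.Quotient.mk (I.map (algebraMap A A'))) =
        Q.map (algebraMap (A ⧸ I) (A' ⧸ I.map (algebraMap A A'))) →
      P.map χ = Q.map (ψ.comp (algebraMap (A ⧸ I) (A' ⧸ I.map (algebraMap A A')))) := by
    intro P Q h
    rw [← hψ, ← Polynomial.map_map, h, Polynomial.map_map]
  have hevalπ : ∀ P : Polynomial A', π (Polynomial.aeval β P) = (P.map χ).eval (π β) := by
    intro P
    rw [Polynomial.aeval_def, Polynomial.hom_eval₂, Polynomial.eval_map]
  let inc : B →+* B' := (Algebra.TensorProduct.includeRight : B →ₐ[A] A' ⊗[A] B).toRingHom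
  have hinc : inc.comp (algebraMap A B) = algebraMap A B' :=
    (Algebra.TensorProduct.includeRight : B →ₐ[A] A' ⊗[A] B).comp_algebraMap
  have hincJ : ∀ z ∈ I.map (algebraMap A B), inc z ∈ J := by
    intro z hz
    have h3 := Ideal.mem_map_of_mem inc hz
    rwa [Ideal.map_map, hinc] at h3
  -- `ε = π β` is idempotent
  have hεidem : π β * π β = π β := by
    rw [← map_mul, ← sub_eq_zero, ← map_sub, hπ, Ideal.Quotient.eq_zero_iff_mem]
    have h1 : β * β - β = inc (b₀ * b₀ - b₀) := by
      rw [map_sub, map_mul]; rfl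
    have h2 : b₀ * b₀ - b₀ ∈ I.map (algebraMap A B) := by
      rw [← Ideal.Quotient.eq_zero_iff_mem, map_sub, map_mul, hb₀, he.eq, sub_self]
    rw [h1]
    exact hincJ _ h2
  have hεpow : ∀ n : ℕ, 1 ≤ n → (π β) ^ n = π β := by
    intro n hn
    induction n with
    | zero => omega
    | succ n ih =>
      rcases Nat.eq_zero_or_pos n with rfl | hn'
      · simp
      · rw [pow_succ, ih hn', hεidem]
  -- values of `g'` and `h'` at `β` modulo `J`
  have hx : π (Polynomial.aeval β g') = π β := by
    rw [hevalπ, hmapχ g' _ hg'map]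
    simp [hεpow d hd]
  have hy : π (Polynomial.aeval β h') * π β = 0 := by
    rw [hevalπ, hmapχ h' _ hh'map]
    simp only [Polynomial.map_pow, Polynomial.map_sub, Polynomial.map_X, Polynomial.map_one,
      Polynomial.eval_pow, Polynomial.eval_sub, Polynomial.eval_X, Polynomial.eval_one]
    obtain ⟨d', rfl⟩ : ∃ d', d = d' + 1 := ⟨d - 1, by omega⟩
    rw [pow_succ, mul_assoc, sub_mul, one_mul, hεidem, sub_self, mul_zero]
  -- `f(β) = 0`
  have hfβ : Polynomial.aeval β (f.map (algebraMap A A')) = 0 := by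
    rw [Polynomial.aeval_map_algebraMap]
    have : β = (Algebra.TensorProduct.includeRight : B →ₐ[A] A' ⊗[A] B) b₀ := rfl
    rw [this, Polynomial.aeval_algHom_apply, hfb, map_zero]
  obtain ⟨r, s, hrs⟩ := hcop'
  set x := Polynomial.aeval β g' with hxdef
  set y := Polynomial.aeval β h' with hydef
  set r' := Polynomial.aeval β r with hr'
  set s' := Polynomial.aeval β s with hs'
  have hxy : x * y = 0 := by
    rw [hxdef, hydef, ← map_mul, ← hfac, hfβ]
  have hsum : r' * x + s' * y = 1 := by
    rw [hr', hs', hxdef, hydef, ← map_mul, ← map_mul, ← map_add, hrs, map_one]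
  refine ⟨r' * x, ?_, ?_⟩
  · -- idempotent
    have : r' * x = 1 - s' * y := by rw [← hsum]; ring
    change r' * x * (r' * x) = r' * x
    calc r' * x * (r' * x) = r' * x * (1 - s' * y) := by rw [← this]
      _ = r' * x - r' * s' * (x * y) := by ring
      _ = r' * x := by rw [hxy, mul_zero, sub_zero]
  · intro b hb
    -- `r' x ≡ β` modulo `J`
    have h1 : π (r' * x) = π β := by
      have h2 : π r' * π x * π β + π s' * (π y * π β) = π β := by
        have := congrArg (fun t => π t * π β) hsum
        simp only [map_add, map_mul, map_one, one_mul] at this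
        linear_combination this
      rw [hy, mul_zero, add_zero, hx, mul_assoc, hεidem] at h2
      rw [map_mul, hx]
      exact h2
    have h3 : π (1 ⊗ₜ b) = π β := by
      rw [← sub_eq_zero, ← map_sub, hπ, Ideal.Quotient.eq_zero_iff_mem]
      have h4 : (1 : A') ⊗ₜ[A] b - β = inc (b - b₀) := by
        rw [map_sub]; rfl
      have h5 : b - b₀ ∈ I.map (algebraMap A B) := by
        rw [← Ideal.Quotient.eq_zero_iff_mem, map_sub, hb, hb₀, sub_self]
      rw [h4]
      exact hincJ _ h5
    rw [← Ideal.Quotient.eq_zero_iff_mem, map_sub, ← hπ, h1, h3, sub_self]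

end Groth.Agent.S2041
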