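import Groth.Statements.S2042
import Groth.Agent.Lib.Helper9.EtaleLift
import Mathlib.RingTheory.Polynomial.UniversalFactorizationRing

set_option autoImplicit false
universe u
open CAlg

namespace Groth.Agent.S2042

open Polynomial in
/-- Let `I ⊆ A` be an ideal and `f ∈ A[X]` monic whose image in `(A/I)[X]` factors as a product of two
monic polynomials generating the unit ideal. Then over some étale `A`-algebra `A'` with `A/I →
A'/IA'` bijective, `f` factors as a product of two monic polynomials lifting the given factors. -/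
theorem result {A : Type u} [CommRing A] (I : Ideal A) (f : A[X])
    (hf : f.Monic) (g h : (A ⧸ I)[X]) (hg : g.Monic) (hh : h.Monic) (hcop : IsCoprime g h)
    (hfgh : f.map (Ideal.Quotient.mk I) = g * h) :
    ∃ (A' : Type u) (_ : CommRing A') (_ : Algebra A A'), Algebra.Etale A A' ∧
      Function.Bijective (algebraMap (A ⧸ I) (A' ⧸ I.map (algebraMap A A'))) ∧
      ∃ g' h' : A'[X], g'.Monic ∧ h'.Monic ∧ f.map (algebraMap A A') = g' * h' ∧
        g'.map (Ideal.Quotient.mk (I.map (algebraMap A A'))) =
          g.map (algebraMap (A ⧸ I) (A' ⧸ I.map (algebraMap A A'))) ∧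
        h'.map (Ideal.Quotient.mk (I.map (algebraMap A A'))) =
          h.map (algebraMap (A ⧸ I) (A' ⧸ I.map (algebraMap A A'))) := by
  classical
  rcases subsingleton_or_nontrivial (A ⧸ I) with hs | hnt
  · -- degenerate case: `A ⧸ I` is trivial
    have hI : I = ⊤ := Ideal.Quotient.subsingleton_iff.mp hs
    have hI' : I.map (algebraMap A A) = ⊤ := by rw [hI, Ideal.map_top]
    have hs' : Subsingleton (A ⧸ I.map (algebraMap A A)) := Ideal.Quotient.subsingleton_iff.mpr hI'
    refine ⟨A, inferInstance, inferInstance, inferInstance, ?_, f, 1, hf, Polynomial.monic_one,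
      by simp, Subsingleton.elim _ _, Subsingleton.elim _ _⟩
    exact ⟨fun a b _ => Subsingleton.elim _ _, fun b => ⟨0, Subsingleton.elim _ _⟩⟩
  have hn : f.natDegree = g.natDegree + h.natDegree := by
    have := congrArg Polynomial.natDegree hfgh
    rwa [hf.natDegree_map, hg.natDegree_mul hh] at this
  set m := g.natDegree with hm
  set k := h.natDegree with hk
  let p : Polynomial.MonicDegreeEq A f.natDegree := .mk f hf rfl
  let G : Polynomial.MonicDegreeEq (A ⧸ I) m := .mk g hg rfl
  let H : Polynomial.MonicDegreeEq (A ⧸ I) k := .mk h hh rfl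
  let U := Polynomial.UniversalCoprimeFactorizationRing m k hn p
  let φ : U →ₐ[A] A ⧸ I :=
    (Polynomial.UniversalCoprimeFactorizationRing.homEquiv (A ⧸ I) m k hn p).symm
      ⟨(G, H), hfgh.symm, hcop⟩
  obtain ⟨A', _, _, hEt, ι, hbij, hlift⟩ := Groth.Agent.Lib.Helper9.exists_etale_lift I φ
  refine ⟨A', inferInstance, inferInstance, hEt, hbij, ?_⟩
  let q := Polynomial.UniversalCoprimeFactorizationRing.homEquiv A' m k hn p ι
  let θ : A' →ₐ[A] A' ⧸ I.map (algebraMap A A') := Ideal.Quotient.mkₐ A _
  let κ : A ⧸ I →ₐ[A] A' ⧸ I.map (algebraMap A A') :=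
    { toRingHom := algebraMap (A ⧸ I) (A' ⧸ I.map (algebraMap A A'))
      commutes' := fun a => rfl }
  have heq : θ.comp ι = κ.comp φ := AlgHom.ext (fun x => hlift x)
  have hφ : Polynomial.UniversalCoprimeFactorizationRing.homEquiv (A ⧸ I) m k hn p φ =
      ⟨(G, H), hfgh.symm, hcop⟩ := Equiv.apply_symm_apply _ _
  have h1 := Polynomial.UniversalCoprimeFactorizationRing.homEquiv_comp_fst A' m k hn p ι θ
  have h1' := Polynomial.UniversalCoprimeFactorizationRing.homEquiv_comp_fst (A ⧸ I) m k hn p φ κ
  have h2 := Polynomial.UniversalCoprimeFactorizationRing.homEquiv_comp_snd A' m k hn p ι θ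
  have h2' := Polynomial.UniversalCoprimeFactorizationRing.homEquiv_comp_snd (A ⧸ I) m k hn p φ κ
  rw [heq, h1', hφ] at h1
  rw [heq, h2', hφ] at h2
  refine ⟨q.1.1.1, q.1.2.1, q.1.1.monic, q.1.2.monic, q.2.1.symm, ?_, ?_⟩
  · exact (congrArg Subtype.val h1).symm
  · exact (congrArg Subtype.val h2).symm

end Groth.Agent.S2042
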