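import Groth.Statements.S6873
import Groth.Agent.H34.Reflexive

set_option autoImplicit false
universe u
open CAlg

namespace Groth.Agent.S6873

theorem isReflexive_of_embedding {R : Type u} [CommRing R] [IsDomain R] {M : Type u}
    [AddCommGroup M] [Module R M] [Module.Finite R M] {n : ℕ} (f : M →ₗ[R] (Fin n → R))
    (hf : Function.Injective f)
    (htf : Module.IsTorsionFree R ((Fin n → R) ⧸ LinearMap.range f)) :
    Module.IsReflexive R M :=
  Groth.Agent.H34.isReflexive_of_exact f (LinearMap.range f).mkQ hf
    (LinearMap.exact_map_mkQ_range f)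

theorem exists_embedding_of_isReflexive {R : Type u} [CommRing R] [IsDomain R] [IsNoetherianRing R]
    {M : Type u} [AddCommGroup M] [Module R M] [Module.Finite R M] [Module.IsReflexive R M] :
    ∃ (n : ℕ) (f : M →ₗ[R] (Fin n → R)), Function.Injective f ∧
      Module.IsTorsionFree R ((Fin n → R) ⧸ LinearMap.range f) := by
  classical
  have hfin : Module.Finite R (Module.Dual R M) := inferInstance
  obtain ⟨n, q, hq⟩ := Module.Finite.exists_fin' R (Module.Dual R M)
  let f : M →ₗ[R] (Fin n → R) := LinearMap.pi (fun i => q (Pi.single i 1))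
  have hfapp : ∀ m i, f m i = q (Pi.single i 1) m := fun m i => rfl
  -- the key formula: `(q a) m = ∑ a i * f m i`
  have hqa : ∀ (a : Fin n → R) (m : M), q a m = ∑ i, a i * f m i := by
    intro a m
    have ha : a = ∑ i, a i • (Pi.single i (1 : R) : Fin n → R) := by
      funext j
      simp [Pi.single_apply]
    conv_lhs => rw [ha]
    simp only [map_sum, map_smul, LinearMap.sum_apply, LinearMap.smul_apply, smul_eq_mul, hfapp]
  refine ⟨n, f, ?_, ?_⟩
  · rw [injective_iff_map_eq_zero]
    intro m hm
    apply (Module.bijective_dual_eval R M).1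
    rw [map_zero]
    apply LinearMap.ext
    intro φ
    obtain ⟨a, rfl⟩ := hq φ
    simp only [Module.Dual.eval_apply, LinearMap.zero_apply]
    rw [hqa, hm]
    simp
  · apply Module.IsTorsionFree.of_smul_eq_zero
    intro c x hcx
    by_cases hc : c = 0
    · exact Or.inl hc
    right
    obtain ⟨v, rfl⟩ := Submodule.Quotient.mk_surjective _ x
    rw [← Submodule.Quotient.mk_smul, Submodule.Quotient.mk_eq_zero] at hcx
    obtain ⟨m, hm⟩ := hcx
    rw [Submodule.Quotient.mk_eq_zero]
    -- the functional `a ↦ ∑ a i * v i`
    let φv : (Fin n → R) →ₗ[R] R := ∑ i, (v i) • (LinearMap.proj i : (Fin n → R) →ₗ[R] R)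
    have hφv : ∀ a, φv a = ∑ i, a i * v i := by
      intro a
      simp only [φv, LinearMap.sum_apply, LinearMap.smul_apply, LinearMap.proj_apply, smul_eq_mul]
      exact Finset.sum_congr rfl (fun i _ => mul_comm _ _)
    have hcφ : ∀ a, c * φv a = q a m := by
      intro a
      rw [hqa, hφv, Finset.mul_sum]
      refine Finset.sum_congr rfl (fun i _ => ?_)
      have : f m i = c * v i := by rw [hm]; simp
      rw [this]; ring
    have hker : LinearMap.ker q ≤ LinearMap.ker φv := by
      intro a ha
      have h1 : c * φv a = 0 := by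
        rw [hcφ, LinearMap.mem_ker.mp ha, LinearMap.zero_apply]
      rcases mul_eq_zero.mp h1 with h0 | h0
      · exact absurd h0 hc
      · exact h0
    let y : Module.Dual R (Module.Dual R M) :=
      ((LinearMap.ker q).liftQ φv hker) ∘ₗ (q.quotKerEquivOfSurjective hq).symm.toLinearMap
    have hy : ∀ a, y (q a) = φv a := by
      intro a
      simp only [y, LinearMap.comp_apply, LinearEquiv.coe_coe]
      have : (q.quotKerEquivOfSurjective hq).symm (q a) = Submodule.Quotient.mk a := by
        rw [LinearEquiv.symm_apply_eq]
        rfl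
      rw [this, Submodule.liftQ_apply]
    obtain ⟨m', hm'⟩ := (Module.bijective_dual_eval R M).2 y
    refine ⟨m', ?_⟩
    funext i
    have h1 := hy (Pi.single i 1)
    rw [← hm', Module.Dual.eval_apply, hφv] at h1
    rw [hfapp, h1]
    simp [Pi.single_apply]

/-- For a Noetherian domain `R`, a finite `R`-module `M` is reflexive if and only if `M` admits an
injective `R`-linear map into `Rⁿ`, for some `n`, whose cokernel is torsion free. -/
theorem result (R : Type u) [CommRing R] [IsDomain R]
    [IsNoetherianRing R] (M : Type u) [AddCommGroup M] [Module R M] [Module.Finite R M] :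
    Module.IsReflexive R M ↔ ∃ (n : ℕ) (f : M →ₗ[R] (Fin n → R)), Function.Injective f ∧
      Module.IsTorsionFree R ((Fin n → R) ⧸ LinearMap.range f) := by
  constructor
  · intro hM
    exact exists_embedding_of_isReflexive
  · rintro ⟨n, f, hf, htf⟩
    exact isReflexive_of_embedding f hf htf

end Groth.Agent.S6873
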