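import Groth.Statements.S6874
import Groth.Agent.H34.Reflexive
import Groth.Agent.S6873

set_option autoImplicit false
universe u
open TensorProduct
open CAlg

namespace Groth.Agent.S6874

/-- For a flat ring map `R → R'` between Noetherian domains and a finite reflexive `R`-module `M`, the
base change `R' ⊗_R M` is a (finite) reflexive `R'`-module. -/
theorem result (R R' : Type u) [CommRing R] [IsDomain R]
    [IsNoetherianRing R] [CommRing R'] [IsDomain R'] [IsNoetherianRing R'] [Algebra R R'] [Module.Flat R R']
    (M : Type u) [AddCommGroup M] [Module R M] [Module.Finite R M] [Module.IsReflexive R M] :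
    Module.IsReflexive R' (R' ⊗[R] M) := by
  classical
  obtain ⟨n, f, hf, htf⟩ := Groth.Agent.S6873.exists_embedding_of_isReflexive (R := R) (M := M)
  obtain ⟨h, hker, -⟩ := Groth.Agent.H34.exists_map_to_fin_fun R ((Fin n → R) ⧸ LinearMap.range f)
  have hh : Function.Injective h := by
    rw [injective_iff_map_eq_zero]
    intro z hz
    obtain ⟨c, hc, hcz⟩ := hker z hz
    rcases smul_eq_zero.mp hcz with h0 | h0
    · exact absurd h0 hc
    · exact h0
  let g := h ∘ₗ (LinearMap.range f).mkQ
  have hfg : Function.Exact f g :=
    (Function.Injective.comp_exact_iff_exact hh).mpr (LinearMap.exact_map_mkQ_range f)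
  have hf' : Function.Injective (f.baseChange R') := by
    have := Module.Flat.lTensor_preserves_injective_linearMap (M := R') f hf
    intro a b hab
    exact this hab
  have hfg' : Function.Exact (f.baseChange R') (g.baseChange R') := by
    have := Module.Flat.lTensor_exact R' hfg
    intro y
    exact this y
  exact Groth.Agent.H34.isReflexive_of_exact (f.baseChange R') (g.baseChange R') hf' hfg'


end Groth.Agent.S6874
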