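import Groth.Statements.S6871
import Groth.Agent.S6874

set_option autoImplicit false
universe u
open CAlg

namespace Groth.Agent.S6871

open Module in
theorem dual_eval_localized (R : Type u) [CommRing R] (S : Submonoid R) (Rₛ : Type u) [CommRing Rₛ]
    [Algebra R Rₛ] [IsLocalization S Rₛ]
    (M : Type u) [AddCommGroup M] [Module R M] [Module.FinitePresentation R M]
    [Module.FinitePresentation R (Module.Dual R M)]
    (M' : Type u) [AddCommGroup M'] [Module R M'] [Module Rₛ M'] [IsScalarTower R Rₛ M']
    (f : M →ₗ[R] M') [IsLocalizedModule S f] :
    IsLocalizedModule.map S f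
      (IsLocalizedModule.mapExtendScalars S
        (IsLocalizedModule.mapExtendScalars S f (Algebra.linearMap R Rₛ) Rₛ)
        (Algebra.linearMap R Rₛ) Rₛ) (Dual.eval R M) = (Dual.eval Rₛ M').restrictScalars R := by
  apply IsLocalizedModule.ext S f
    (IsLocalizedModule.map_units (IsLocalizedModule.mapExtendScalars S
        (IsLocalizedModule.mapExtendScalars S f (Algebra.linearMap R Rₛ) Rₛ)
        (Algebra.linearMap R Rₛ) Rₛ))
  rw [IsLocalizedModule.map_comp]
  ext m : 1
  apply LinearMap.restrictScalars_injective R
  apply IsLocalizedModule.ext S (IsLocalizedModule.mapExtendScalars S f (Algebra.linearMap R Rₛ) Rₛ)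
    (IsLocalizedModule.map_units (Algebra.linearMap R Rₛ))
  ext φ : 1
  simp


/-- Let `R` be a Noetherian domain and `M` a finite `R`-module. Then `M` is reflexive if and only if
`M_𝔭` is a reflexive `R_𝔭`-module for every prime `𝔭`, if and only if `M_𝔪` is a reflexive
`R_𝔪`-module for every maximal ideal `𝔪`. -/
theorem result (R : Type u) [CommRing R] [IsDomain R] [IsNoetherianRing R] (M : Type u)
    [AddCommGroup M] [Module R M] [Module.Finite R M] :
    (Module.IsReflexive R M ↔
      ∀ (p : Ideal R) [p.IsPrime], Module.IsReflexive (Localization.AtPrime p) (LocalizedModule p.primeCompl M)) ∧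
    (Module.IsReflexive R M ↔
      ∀ (m : Ideal R) (_ : m.IsMaximal),
        Module.IsReflexive (Localization.AtPrime m) (LocalizedModule m.primeCompl M)) := by
  have h12 : Module.IsReflexive R M →
      ∀ (p : Ideal R) [p.IsPrime],
        Module.IsReflexive (Localization.AtPrime p) (LocalizedModule p.primeCompl M) := by
    intro hM p hp
    have h1 := Groth.Agent.S6874.result R (Localization.AtPrime p) M
    have hbc := IsLocalizedModule.isBaseChange p.primeCompl (Localization.AtPrime p)
      (LocalizedModule.mkLinearMap p.primeCompl M)
    exact Module.equiv hbc.equiv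
  have h31 : (∀ (m : Ideal R) (_ : m.IsMaximal),
        Module.IsReflexive (Localization.AtPrime m) (LocalizedModule m.primeCompl M)) →
      Module.IsReflexive R M := by
    intro H
    have hfp : Module.FinitePresentation R M := Module.finitePresentation_of_finite R M
    have hfp' : Module.FinitePresentation R (Module.Dual R M) :=
      Module.finitePresentation_of_finite R _
    refine ⟨?_⟩
    refine bijective_of_isLocalized_maximal
      (fun (P : Ideal R) [P.IsMaximal] => LocalizedModule P.primeCompl M)
      (fun (P : Ideal R) [P.IsMaximal] => LocalizedModule.mkLinearMap P.primeCompl M)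
      (fun (P : Ideal R) [P.IsMaximal] => Module.Dual (Localization.AtPrime P)
        (Module.Dual (Localization.AtPrime P) (LocalizedModule P.primeCompl M)))
      (fun (P : Ideal R) [P.IsMaximal] => IsLocalizedModule.mapExtendScalars P.primeCompl
        (IsLocalizedModule.mapExtendScalars P.primeCompl
          (LocalizedModule.mkLinearMap P.primeCompl M)
          (Algebra.linearMap R (Localization.AtPrime P)) (Localization.AtPrime P))
        (Algebra.linearMap R (Localization.AtPrime P)) (Localization.AtPrime P))
      (Module.Dual.eval R M) ?_
    intro P hP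
    rw [dual_eval_localized R P.primeCompl (Localization.AtPrime P) M
      (LocalizedModule P.primeCompl M) (LocalizedModule.mkLinearMap P.primeCompl M)]
    exact (H P hP).bijective_dual_eval'
  refine ⟨⟨h12, fun H => h31 (fun m hm => H m)⟩, ⟨fun hM m hm => h12 hM m, h31⟩⟩

end Groth.Agent.S6871
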