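import Groth.Statements.S6879
import Mathlib
import Groth.Agent.S6871
import Groth.Agent.H34.ReflexiveDepth

set_option autoImplicit false
universe u
open CAlg

namespace Groth.Agent.S6879

open Module in
theorem eval_compat (R : Type u) [CommRing R] (S : Submonoid R) (Rₛ : Type u) [CommRing Rₛ]
    [Algebra R Rₛ] [IsLocalization S Rₛ]
    (M : Type u) [AddCommGroup M] [Module R M] [Module.FinitePresentation R M]
    [Module.FinitePresentation R (Module.Dual R M)]
    (M' : Type u) [AddCommGroup M'] [Module R M'] [Module Rₛ M'] [IsScalarTower R Rₛ M']
    (f : M →ₗ[R] M') [IsLocalizedModule S f] (m : M) :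
    Dual.eval Rₛ M' (f m) = (IsLocalizedModule.mapExtendScalars S
        (IsLocalizedModule.mapExtendScalars S f (Algebra.linearMap R Rₛ) Rₛ)
        (Algebra.linearMap R Rₛ) Rₛ) (Dual.eval R M m) := by
  have h1 := Groth.Agent.S6871.dual_eval_localized R S Rₛ M M' f
  have h2 := IsLocalizedModule.map_apply S f (IsLocalizedModule.mapExtendScalars S
        (IsLocalizedModule.mapExtendScalars S f (Algebra.linearMap R Rₛ) Rₛ)
        (Algebra.linearMap R Rₛ) Rₛ) (Dual.eval R M) m
  rw [h1] at h2
  exact h2

open Module in
/-- T1: a global denominator for `M → M**` is a denominator for the localized map. -/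
theorem transfer_down (R : Type u) [CommRing R] (S : Submonoid R) (Rₛ : Type u) [CommRing Rₛ]
    [Algebra R Rₛ] [IsLocalization S Rₛ]
    (M : Type u) [AddCommGroup M] [Module R M] [Module.FinitePresentation R M]
    [Module.FinitePresentation R (Module.Dual R M)]
    (M' : Type u) [AddCommGroup M'] [Module R M'] [Module Rₛ M'] [IsScalarTower R Rₛ M']
    (f : M →ₗ[R] M') [IsLocalizedModule S f] (s : R)
    (hs1 : ∀ m : M, Dual.eval R M m = 0 → s • m = 0)
    (hs2 : ∀ y : Dual R (Dual R M), s • y ∈ LinearMap.range (Dual.eval R M)) :
    (∀ k : M', Dual.eval Rₛ M' k = 0 → algebraMap R Rₛ s • k = 0) ∧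
    (∀ w : Dual Rₛ (Dual Rₛ M'), algebraMap R Rₛ s • w ∈ LinearMap.range (Dual.eval Rₛ M')) := by
  have hcompat := eval_compat R S Rₛ M M' f
  set g := IsLocalizedModule.mapExtendScalars S
        (IsLocalizedModule.mapExtendScalars S f (Algebra.linearMap R Rₛ) Rₛ)
        (Algebra.linearMap R Rₛ) Rₛ with hg
  constructor
  · intro k hk
    obtain ⟨⟨m, t⟩, hmt⟩ := IsLocalizedModule.surj S f k
    have hmt' : t • k = f m := hmt
    have h1 : g (Dual.eval R M m) = 0 := by
      rw [← hcompat, ← hmt', Submonoid.smul_def, LinearMap.map_smul_of_tower, hk, smul_zero]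
    obtain ⟨u, hu⟩ := (IsLocalizedModule.eq_zero_iff S g).mp h1
    have h2 : s • ((u : R) • m) = 0 := hs1 _ (by rw [map_smul]; exact hu)
    apply IsLocalizedModule.smul_injective f (u * t)
    change (u * t) • (algebraMap R Rₛ s • k) = (u * t) • (0 : M')
    rw [smul_zero, algebraMap_smul, smul_comm, mul_smul, hmt', Submonoid.smul_def, ← map_smul,
      ← map_smul, h2, map_zero]
  · intro w
    obtain ⟨⟨y, t⟩, hyt⟩ := IsLocalizedModule.surj S g w
    have hyt' : t • w = g y := hyt
    obtain ⟨m, hm⟩ := hs2 y
    refine ⟨IsLocalizedModule.mk' f m t, ?_⟩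
    apply IsLocalizedModule.smul_injective g t
    change t • Dual.eval Rₛ M' (IsLocalizedModule.mk' f m t) = t • (algebraMap R Rₛ s • w)
    rw [Submonoid.smul_def, ← LinearMap.map_smul_of_tower, ← Submonoid.smul_def,
      IsLocalizedModule.mk'_cancel', hcompat, hm, map_smul, ← hyt', algebraMap_smul, smul_comm]

open Module in
/-- T2: if the localization is reflexive, some element of `S` is a global denominator. -/
theorem transfer_up (R : Type u) [CommRing R] [IsNoetherianRing R] (S : Submonoid R) (Rₛ : Type u)
    [CommRing Rₛ] [Algebra R Rₛ] [IsLocalization S Rₛ]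
    (M : Type u) [AddCommGroup M] [Module R M] [Module.Finite R M]
    (M' : Type u) [AddCommGroup M'] [Module R M'] [Module Rₛ M'] [IsScalarTower R Rₛ M']
    (f : M →ₗ[R] M') [IsLocalizedModule S f] [Module.IsReflexive Rₛ M'] :
    ∃ s ∈ S, (∀ m : M, Dual.eval R M m = 0 → s • m = 0) ∧
      (∀ y : Dual R (Dual R M), s • y ∈ LinearMap.range (Dual.eval R M)) := by
  have hfp : Module.FinitePresentation R M := Module.finitePresentation_of_finite R M
  have hfp' : Module.FinitePresentation R (Module.Dual R M) :=
    Module.finitePresentation_of_finite R _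
  have hcompat := eval_compat R S Rₛ M M' f
  set g := IsLocalizedModule.mapExtendScalars S
        (IsLocalizedModule.mapExtendScalars S f (Algebra.linearMap R Rₛ) Rₛ)
        (Algebra.linearMap R Rₛ) Rₛ with hg
  have hbij : Function.Bijective (Dual.eval Rₛ M') := Module.IsReflexive.bijective_dual_eval'
  -- kernel
  obtain ⟨s₁, hs₁S, hs₁⟩ := Groth.Agent.H34.exists_uniform_smul_mem_of_submonoid S
    (M := LinearMap.ker (Dual.eval R M)) ⊥ (by
      intro k
      have h1 : Dual.eval Rₛ M' (f k) = 0 := by
        rw [hcompat, LinearMap.mem_ker.mp k.2, map_zero]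
      have h2 : f k = 0 := hbij.1 (by rw [h1, map_zero])
      obtain ⟨c, hc⟩ := (IsLocalizedModule.eq_zero_iff S f).mp h2
      refine ⟨c, c.2, ?_⟩
      rw [Submodule.mem_bot]
      apply Subtype.ext
      exact hc)
  -- cokernel
  obtain ⟨s₂, hs₂S, hs₂⟩ := Groth.Agent.H34.exists_uniform_smul_mem_of_submonoid S
    (M := Dual R (Dual R M)) (LinearMap.range (Dual.eval R M)) (by
      intro y
      obtain ⟨k, hk⟩ := hbij.2 (g y)
      obtain ⟨⟨m, t⟩, hmt⟩ := IsLocalizedModule.surj S f k
      have hmt' : t • k = f m := hmt
      have h1 : g ((t : R) • y - Dual.eval R M m) = 0 := by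
        rw [map_sub, map_smul, ← hk, ← hcompat, ← hmt', Submonoid.smul_def,
          LinearMap.map_smul_of_tower, sub_self]
      obtain ⟨u, hu⟩ := (IsLocalizedModule.eq_zero_iff S g).mp h1
      refine ⟨u * t, (u * t).2, (u : R) • m, ?_⟩
      rw [Submonoid.smul_def, smul_sub, sub_eq_zero] at hu
      rw [map_smul, ← hu, mul_smul])
  refine ⟨s₁ * s₂, S.mul_mem hs₁S hs₂S, ?_, ?_⟩
  · intro m hm
    have := hs₁ ⟨m, hm⟩
    rw [Submodule.mem_bot] at this
    have h3 : s₁ • m = 0 := congrArg Subtype.val this
    rw [mul_comm, mul_smul, h3, smul_zero]
  · intro y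
    rw [mul_smul]
    exact Submodule.smul_mem _ _ (hs₂ y)

/-- Let `R` be a Noetherian domain and `M` a finite `R`-module. Then `M` is reflexive if and only if for
every prime `𝔭` of `R` either `M_𝔭` is a reflexive `R_𝔭`-module or `depth(M_𝔭) ≥ 2`. -/
theorem result (R : Type u) [CommRing R] [IsDomain R]
    [IsNoetherianRing R] (M : Type u) [AddCommGroup M] [Module R M] [Module.Finite R M] :
    Module.IsReflexive R M ↔ ∀ (p : Ideal R) [p.IsPrime],
      Module.IsReflexive (Localization.AtPrime p) (LocalizedModule p.primeCompl M) ∨
        2 ≤ LocCoh.depth (Localization.AtPrime p) (LocalizedModule p.primeCompl M) := by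
  constructor
  · intro hM p hp
    exact Or.inl ((Groth.Agent.S6871.result R M).1.mp hM p)
  · intro H
    rw [(Groth.Agent.S6871.result R M).1]
    have hfp : Module.FinitePresentation R M := Module.finitePresentation_of_finite R M
    have hfp' : Module.FinitePresentation R (Module.Dual R M) :=
      Module.finitePresentation_of_finite R _
    have key : ∀ (h : ℕ∞) (p : Ideal R) [p.IsPrime], p.height = h →
        Module.IsReflexive (Localization.AtPrime p) (LocalizedModule p.primeCompl M) := by
      intro h
      induction h using WellFoundedLT.induction with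
      | ind h ih =>
        intro p hp hph
        rcases H p with hr | hd
        · exact hr
        · have hdom : IsDomain (Localization.AtPrime p) :=
            IsLocalization.isDomain_of_atPrime (Localization.AtPrime p) p
          -- the ideal of denominators
          let 𝔟 : Ideal (Localization.AtPrime p) :=
            { carrier := {r | (∀ k : LocalizedModule p.primeCompl M,
                  Module.Dual.eval (Localization.AtPrime p) (LocalizedModule p.primeCompl M) k = 0 →
                    r • k = 0) ∧
                ∀ w : Module.Dual (Localization.AtPrime p)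
                    (Module.Dual (Localization.AtPrime p) (LocalizedModule p.primeCompl M)),
                  r • w ∈ LinearMap.range (Module.Dual.eval (Localization.AtPrime p)
                    (LocalizedModule p.primeCompl M))}
              add_mem' := by
                rintro a b ⟨ha1, ha2⟩ ⟨hb1, hb2⟩
                refine ⟨fun k hk => ?_, fun w => ?_⟩
                · rw [add_smul, ha1 k hk, hb1 k hk, add_zero]
                · rw [add_smul]
                  exact Submodule.add_mem _ (ha2 w) (hb2 w)
              zero_mem' := by
                refine ⟨fun k hk => zero_smul _ _, fun w => ?_⟩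
                rw [zero_smul]
                exact Submodule.zero_mem _
              smul_mem' := by
                rintro c a ⟨ha1, ha2⟩
                refine ⟨fun k hk => ?_, fun w => ?_⟩
                · rw [smul_eq_mul, mul_smul, ha1 k hk, smul_zero]
                · rw [smul_eq_mul, mul_smul]
                  exact Submodule.smul_mem _ _ (ha2 w) }
          have hrad : IsLocalRing.maximalIdeal (Localization.AtPrime p) ≤ 𝔟.radical := by
            rw [Ideal.radical_eq_sInf]
            refine le_sInf ?_
            rintro Q ⟨hbQ, hQ⟩
            by_contra hne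
            have hq : (Q.comap (algebraMap R (Localization.AtPrime p))).IsPrime := inferInstance
            have hqle : Q.comap (algebraMap R (Localization.AtPrime p)) ≤ p := by
              have h1 : (IsLocalRing.maximalIdeal (Localization.AtPrime p)).comap
                  (algebraMap R (Localization.AtPrime p)) = p :=
                IsLocalization.AtPrime.under_maximalIdeal (Localization.AtPrime p) p
              exact (Ideal.comap_mono (IsLocalRing.le_maximalIdeal hQ.ne_top)).trans h1.le
            have hqne : Q.comap (algebraMap R (Localization.AtPrime p)) ≠ p := by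
              intro heq
              apply hne
              have h1 : Ideal.map (algebraMap R (Localization.AtPrime p))
                  (Q.comap (algebraMap R (Localization.AtPrime p))) = Q :=
                IsLocalization.map_under p.primeCompl (Localization.AtPrime p) Q
              rw [← h1, heq, Localization.AtPrime.map_eq_maximalIdeal]
            have hqlt := lt_of_le_of_ne hqle hqne
            have hht := Ideal.height_strict_mono_of_isPrime_of_isPrime hqlt
            rw [hph] at hht
            have hqrefl := ih _ hht (Q.comap (algebraMap R (Localization.AtPrime p))) rfl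
            obtain ⟨s, hsq, hs1, hs2⟩ := transfer_up R
              (Q.comap (algebraMap R (Localization.AtPrime p))).primeCompl
              (Localization.AtPrime (Q.comap (algebraMap R (Localization.AtPrime p)))) M
              (LocalizedModule (Q.comap (algebraMap R (Localization.AtPrime p))).primeCompl M)
              (LocalizedModule.mkLinearMap _ M)
            have hsb : algebraMap R (Localization.AtPrime p) s ∈ 𝔟 :=
              transfer_down R p.primeCompl (Localization.AtPrime p) M
                (LocalizedModule p.primeCompl M) (LocalizedModule.mkLinearMap _ M) s hs1 hs2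
            exact hsq (hbQ hsb)
          obtain ⟨n, hn⟩ := Ideal.exists_radical_pow_le_of_fg 𝔟 (IsNoetherian.noetherian _)
          have hle : IsLocalRing.maximalIdeal (Localization.AtPrime p) ^ n ≤ 𝔟 :=
            (Ideal.pow_right_mono hrad n).trans hn
          exact Groth.Agent.H34.isReflexive_of_depth_of_pow_le (Localization.AtPrime p)
            (LocalizedModule p.primeCompl M) hd n (fun r hr => (hle hr).1) (fun r hr => (hle hr).2)
    intro p hp
    exact key p.height p rfl

end Groth.Agent.S6879
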