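import Groth.Statements.S6880
import Mathlib
import Groth.Agent.Lib.Helper29.DepthRees
import Groth.Agent.S6876
import Groth.Agent.S6871

set_option autoImplicit false
universe u
open CAlg

namespace Groth.Agent.S6880

open IsLocalRing

/-- Over a Noetherian local ring, a finite reflexive module has depth `≥ min (depth R) 2`. -/
theorem depth_of_isReflexive (A : Type u) [CommRing A] [IsNoetherianRing A] [IsLocalRing A]
    (N : Type u) [AddCommGroup N] [Module A N] [Module.Finite A N] [Module.IsReflexive A N] :
    (1 ≤ LocCoh.depth A A → 1 ≤ LocCoh.depth A N) ∧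
    (2 ≤ LocCoh.depth A A → 2 ≤ LocCoh.depth A N) := by
  have hfin : Module.Finite A (Module.Dual A N) := inferInstance
  have h := Groth.Agent.S6876.result A (Module.Dual A N) A
  have heq : LocCoh.depth A N = LocCoh.depth A (Module.Dual A N →ₗ[A] A) :=
    Groth.Agent.Lib.Helper29.idealDepth_congr (maximalIdeal A) (Module.evalEquiv A N)
  rw [heq]
  exact h

theorem min_two_le {d m : ℕ∞} (h1 : 1 ≤ d → 1 ≤ m) (h2 : 2 ≤ d → 2 ≤ m) : min d 2 ≤ m := by
  by_cases hd2 : 2 ≤ d
  · exact (min_le_right _ _).trans (h2 hd2)
  · by_cases hd1 : 1 ≤ d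
    · have : d ≤ 1 := by
        rw [not_le] at hd2
        simpa using hd2
      exact (min_le_left _ _).trans (this.trans (h1 hd1))
    · have : d = 0 := by
        rw [not_le] at hd1
        exact Order.lt_one_iff.mp hd1
      rw [this]
      simp


/-- Let `R` be a Noetherian domain and `M` a finite reflexive `R`-module. For a prime `𝔭` with
`depth(R_𝔭) ≥ 2` one has `depth(M_𝔭) ≥ 2`; and if `R` has `(S_2)` then `M` has `(S_2)`. -/
theorem result (R : Type u) [CommRing R] [IsDomain R] [IsNoetherianRing R] (M : Type u)
    [AddCommGroup M] [Module R M] [Module.Finite R M] [Module.IsReflexive R M] :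
    (∀ (p : Ideal R) [p.IsPrime], 2 ≤ LocCoh.depth (Localization.AtPrime p) (Localization.AtPrime p) →
      2 ≤ LocCoh.depth (Localization.AtPrime p) (LocalizedModule p.primeCompl M)) ∧
    (LocCoh.HasSk 2 R R → LocCoh.HasSk 2 R M) := by
  have hrefl : ∀ (p : Ideal R) [p.IsPrime],
      Module.IsReflexive (Localization.AtPrime p) (LocalizedModule p.primeCompl M) :=
    fun p _ => (Groth.Agent.S6871.result R M).1.mp inferInstance p
  constructor
  · intro p hp h
    have := hrefl p
    exact (depth_of_isReflexive (Localization.AtPrime p) (LocalizedModule p.primeCompl M)).2 h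
  · intro hS2 p hp
    have := hrefl p
    have hd := depth_of_isReflexive (Localization.AtPrime p) (LocalizedModule p.primeCompl M)
    have h1 : min ((2 : ℕ) : WithBot ℕ∞)
        (Module.supportDim (Localization.AtPrime p) (Localization.AtPrime p)) ≤
        ((LocCoh.depth (Localization.AtPrime p) (Localization.AtPrime p) : ℕ∞) : WithBot ℕ∞) :=
      hS2 p
    have h2 : Module.supportDim (Localization.AtPrime p) (LocalizedModule p.primeCompl M) ≤
        Module.supportDim (Localization.AtPrime p) (Localization.AtPrime p) := by
      rw [Module.supportDim_self_eq_ringKrullDim]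
      exact Module.supportDim_le_ringKrullDim _ _
    have h3 := min_two_le hd.1 hd.2
    calc min ((2 : ℕ) : WithBot ℕ∞)
          (Module.supportDim (Localization.AtPrime p) (LocalizedModule p.primeCompl M))
        ≤ min (min ((2 : ℕ) : WithBot ℕ∞)
          (Module.supportDim (Localization.AtPrime p) (Localization.AtPrime p))) 2 := by
          refine le_min (min_le_min le_rfl h2) (min_le_left _ _)
      _ ≤ min ((LocCoh.depth (Localization.AtPrime p) (Localization.AtPrime p) : ℕ∞) :
            WithBot ℕ∞) 2 := min_le_min h1 le_rfl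
      _ = ((min (LocCoh.depth (Localization.AtPrime p) (Localization.AtPrime p)) 2 : ℕ∞) :
            WithBot ℕ∞) := by
          rw [WithBot.coe_min]; rfl
      _ ≤ _ := by exact_mod_cast h3

end Groth.Agent.S6880
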