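import Groth.Statements.S2054
import Mathlib
import Groth.Agent.S6879
import Groth.Agent.S6880
import Groth.Agent.H34.NormalDepth

set_option autoImplicit false
universe u
open CAlg

namespace Groth.Agent.S2054

open IsLocalRing RingTheory.Sequence
open scoped Pointwise

theorem le_one_or_two_le (d : WithBot ℕ∞) : d ≤ 1 ∨ 2 ≤ d := by
  induction d with
  | bot => left; exact bot_le
  | coe e =>
    induction e with
    | top => right; exact le_top
    | coe n =>
      by_cases h : n ≤ 1
      · left
        exact_mod_cast h
      · right
        have h2 : 2 ≤ n := by omega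
        have : (2 : ℕ∞) ≤ (n : ℕ∞) := by exact_mod_cast h2
        exact WithBot.coe_le_coe.mpr this

/-- A Noetherian normal domain satisfies `(S_2)`. -/
theorem hasSk_two_self (R : Type u) [CommRing R] [IsDomain R] [IsNoetherianRing R]
    [IsIntegrallyClosed R] : LocCoh.HasSk 2 R R := by
  intro p hp
  have hdom : IsDomain (Localization.AtPrime p) :=
    IsLocalization.isDomain_of_atPrime (Localization.AtPrime p) p
  have hic : IsIntegrallyClosed (Localization.AtPrime p) :=
    isIntegrallyClosed_of_isLocalization (Localization.AtPrime p) p.primeCompl
      p.primeCompl_le_nonZeroDivisors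
  change min ((2 : ℕ) : WithBot ℕ∞)
      (Module.supportDim (Localization.AtPrime p) (Localization.AtPrime p)) ≤
    ((LocCoh.depth (Localization.AtPrime p) (Localization.AtPrime p) : ℕ∞) : WithBot ℕ∞)
  rw [Module.supportDim_self_eq_ringKrullDim]
  rcases le_one_or_two_le (ringKrullDim (Localization.AtPrime p)) with h1 | h2
  · by_cases hm0 : maximalIdeal (Localization.AtPrime p) = ⊥
    · have hf : IsField (Localization.AtPrime p) := IsLocalRing.isField_iff_maximalIdeal_eq.mpr hm0
      rw [ringKrullDim_eq_zero_of_isField hf]
      refine (min_le_right _ _).trans ?_
      exact WithBot.coe_le_coe.mpr (bot_le :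
        (0 : ℕ∞) ≤ LocCoh.depth (Localization.AtPrime p) (Localization.AtPrime p))
    · obtain ⟨a, ham, ha0⟩ := Submodule.exists_mem_ne_zero_of_ne_bot hm0
      have hd1 : ((1 : ℕ) : ℕ∞) ≤ LocCoh.idealDepth (maximalIdeal (Localization.AtPrime p))
          (Localization.AtPrime p) := by
        rw [Groth.Agent.Lib.Helper29.le_idealDepth_iff]
        right
        refine ⟨[a], rfl, ?_, ?_⟩
        · intro r hr
          rw [List.mem_singleton] at hr
          rw [hr]; exact ham
        · rw [isWeaklyRegular_singleton_iff]
          exact IsSMulRegular.of_ne_zero ha0
      have hd1' : (1 : WithBot ℕ∞) ≤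
          ((LocCoh.depth (Localization.AtPrime p) (Localization.AtPrime p) : ℕ∞) : WithBot ℕ∞) := by
        exact_mod_cast hd1
      exact (min_le_right _ _).trans (h1.trans hd1')
  · have := Groth.Agent.H34.two_le_depth_of_isIntegrallyClosed (Localization.AtPrime p) h2
    refine (min_le_left _ _).trans ?_
    exact WithBot.coe_le_coe.mpr this

/-- Let `R` be a Noetherian normal domain and `M` a finite `R`-module. Then `M` is reflexive (the map to
its double dual is bijective) if and only if `M` is torsion free and satisfies Serre's condition
`(S_2)`. -/
theorem result {R M : Type u} [CommRing R] [IsDomain R] [IsNoetherianRing R]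
    [IsIntegrallyClosed R] [AddCommGroup M] [Module R M] [Module.Finite R M] :
    Module.IsReflexive R M ↔ NoZeroSMulDivisors R M ∧ LocCoh.HasSk 2 R M := by
  constructor
  · intro hM
    constructor
    · refine ⟨fun {c x} hcx => ?_⟩
      by_cases hc : c = 0
      · exact Or.inl hc
      · right
        apply (Module.IsReflexive.bijective_dual_eval' (R := R) (M := M)).1
        rw [map_zero]
        apply LinearMap.ext
        intro φ
        have h1 : c • φ x = 0 := by rw [← map_smul, hcx, map_zero]
        rcases smul_eq_zero.mp h1 with h | h
        · exact absurd h hc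
        · simpa using h
    · exact (Groth.Agent.S6880.result R M).2 (hasSk_two_self R)
  · rintro ⟨htf, hS2⟩
    rw [Groth.Agent.S6879.result R M]
    intro p hp
    by_cases h2 : 2 ≤ LocCoh.depth (Localization.AtPrime p) (LocalizedModule p.primeCompl M)
    · exact Or.inr h2
    left
    rcases subsingleton_or_nontrivial (LocalizedModule p.primeCompl M) with hss | hnt
    · exact Groth.Agent.H34.isReflexive_of_subsingleton _ _
    have hdom : IsDomain (Localization.AtPrime p) :=
      IsLocalization.isDomain_of_atPrime (Localization.AtPrime p) p
    have hic : IsIntegrallyClosed (Localization.AtPrime p) :=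
      isIntegrallyClosed_of_isLocalization (Localization.AtPrime p) p.primeCompl
        p.primeCompl_le_nonZeroDivisors
    -- torsion-freeness localizes
    have htfN : Module.IsTorsionFree (Localization.AtPrime p) (LocalizedModule p.primeCompl M) := by
      apply Module.IsTorsionFree.of_smul_eq_zero
      intro r n hrn
      obtain ⟨⟨r₀, s⟩, rfl⟩ := IsLocalization.mk'_surjective p.primeCompl r
      induction n using LocalizedModule.induction_on with
      | h m t =>
        change IsLocalization.mk' (Localization.AtPrime p) r₀ s • LocalizedModule.mk m t = 0 at hrn
        rw [← Localization.mk_eq_mk', LocalizedModule.mk_smul_mk, IsLocalizedModule.mk_eq_mk',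
          IsLocalizedModule.mk'_eq_zero'] at hrn
        obtain ⟨u, hu⟩ := hrn
        rw [Submonoid.smul_def, smul_smul] at hu
        rcases htf.eq_zero_or_eq_zero_of_smul_eq_zero hu with h | h
        · left
          have hu0 : (u : R) ≠ 0 := fun h0 => u.2 (h0 ▸ p.zero_mem)
          have hr0 : r₀ = 0 := (mul_eq_zero.mp h).resolve_left hu0
          rw [hr0]
          exact IsLocalization.mk'_zero s
        · right
          rw [h, LocalizedModule.zero_mk]
    -- the support is everything
    have hdimN : Module.supportDim (Localization.AtPrime p) (LocalizedModule p.primeCompl M) =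
        ringKrullDim (Localization.AtPrime p) := by
      apply le_antisymm (Module.supportDim_le_ringKrullDim _ _)
      obtain ⟨n, hn⟩ := exists_ne (0 : LocalizedModule p.primeCompl M)
      rw [← Module.supportDim_self_eq_ringKrullDim]
      refine Module.supportDim_le_of_injective
        (LinearMap.toSpanSingleton (Localization.AtPrime p) (LocalizedModule p.primeCompl M) n) ?_
      exact smul_left_injective (Localization.AtPrime p) hn
    have h1 := hS2 p
    have hdim1 : ringKrullDim (Localization.AtPrime p) ≤ 1 := by
      rcases le_one_or_two_le (ringKrullDim (Localization.AtPrime p)) with h | h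
      · exact h
      · exfalso
        apply h2
        rw [hdimN, min_eq_left (by exact h)] at h1
        exact WithBot.coe_le_coe.mp h1
    -- `R_p` is a PID
    have hK1 : Ring.KrullDimLE 1 (Localization.AtPrime p) := Ring.krullDimLE_iff.mpr hdim1
    have hD1 : Ring.DimensionLEOne (Localization.AtPrime p) :=
      ⟨fun {q} hq hqp => Ring.krullDimLE_one_iff_of_noZeroDivisors.mp hK1 q hq hqp⟩
    have hDed : IsDedekindDomain (Localization.AtPrime p) :=
      { toIsDomain := hdom
        toIsDedekindRing :=
          { toIsNoetherian := inferInstance
            toDimensionLEOne := hD1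
            toIsIntegralClosure := hic } }
    have hPID : IsPrincipalIdealRing (Localization.AtPrime p) := by
      apply IsPrincipalIdealRing.of_finite_maximals
      refine Set.Finite.subset (Set.finite_singleton (maximalIdeal (Localization.AtPrime p))) ?_
      intro q hq
      exact IsLocalRing.eq_maximalIdeal hq
    have hfree : Module.Free (Localization.AtPrime p) (LocalizedModule p.primeCompl M) :=
      Module.free_of_finite_type_torsion_free'
    infer_instance

end Groth.Agent.S2054
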