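import Groth.Statements.S2055
import Groth.Agent.Lib.Helper9.TorsionTensor

set_option autoImplicit false
universe u
open CAlg

namespace Groth.Agent.S2055

open TensorProduct in
/-- Let `R → S` be flat and `I ⊆ R` a finitely generated ideal with `R/I → S/IS` bijective. If one of
the `R`-modules `M`, `N` has every element killed by a power of `I`, then base change of linear maps
`Hom_R(M, N) → Hom_S(S ⊗ M, S ⊗ N)` is bijective. -/
theorem result {R S M N : Type u} [CommRing R] [CommRing S]
    [Algebra R S] [Module.Flat R S] (I : Ideal R) (hI : I.FG)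
    (hq : Function.Bijective (algebraMap (R ⧸ I) (S ⧸ I.map (algebraMap R S))))
    [AddCommGroup M] [Module R M] [AddCommGroup N] [Module R N]
    (hMN : (∀ x : M, ∃ n : ℕ, ∀ a ∈ I ^ n, a • x = 0) ∨ (∀ y : N, ∃ n : ℕ, ∀ a ∈ I ^ n, a • y = 0)) :
    Function.Bijective (fun f : M →ₗ[R] N => LinearMap.baseChange S f) := by
  classical
  have hq' : Function.Bijective (Ideal.quotientMap (I.map (algebraMap R S)) (algebraMap R S)
      Ideal.le_comap_map) := hq
  obtain ⟨hs, hi⟩ := (Groth.Agent.Lib.Helper9.quotientMap_bijective_iff I).mp hq'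
  -- pure tensors determine an `S`-linear map out of `S ⊗ M`
  have hext : ∀ F G : S ⊗[R] M →ₗ[S] S ⊗[R] N,
      (∀ m : M, F ((1 : S) ⊗ₜ[R] m) = G ((1 : S) ⊗ₜ[R] m)) → F = G := by
    intro F G h
    apply TensorProduct.AlgebraTensorModule.curry_injective
    apply LinearMap.ext_ring
    ext m
    exact h m
  rcases hMN with hM | hN
  · -- `M` is `I`-power torsion
    constructor
    · intro f g hfg
      ext m
      have h1 : (1 : S) ⊗ₜ[R] f m = (1 : S) ⊗ₜ[R] g m := by
        have := congrArg (fun F : S ⊗[R] M →ₗ[S] S ⊗[R] N => F ((1 : S) ⊗ₜ[R] m)) hfg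
        simpa using this
      obtain ⟨n, hn⟩ := hM m
      have hf : f m ∈ Groth.Agent.Lib.Helper9.powerTorsion I N :=
        ⟨n, fun a ha => by rw [← map_smul, hn a ha, map_zero]⟩
      have hg : g m ∈ Groth.Agent.Lib.Helper9.powerTorsion I N :=
        ⟨n, fun a ha => by rw [← map_smul, hn a ha, map_zero]⟩
      exact Groth.Agent.Lib.Helper9.eq_of_one_tmul_eq_of_powerTorsion I hs hi hf hg h1
    · intro F
      -- for every `m` there is a unique torsion `y` with `1 ⊗ y = F (1 ⊗ m)`
      have hex : ∀ m : M, ∃ y : N, y ∈ Groth.Agent.Lib.Helper9.powerTorsion I N ∧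
          (1 : S) ⊗ₜ[R] y = F ((1 : S) ⊗ₜ[R] m) := by
        intro m
        obtain ⟨n, hn⟩ := hM m
        have hz : ∀ a ∈ I ^ n, a • F ((1 : S) ⊗ₜ[R] m) = 0 := by
          intro a ha
          have h2 : a • F ((1 : S) ⊗ₜ[R] m) = F ((1 : S) ⊗ₜ[R] (a • m)) := by
            rw [TensorProduct.tmul_smul, ← algebraMap_smul S a ((1 : S) ⊗ₜ[R] m), map_smul,
              algebraMap_smul]
          rw [h2, hn a ha, TensorProduct.tmul_zero, map_zero]
        obtain ⟨y, hy, hyz⟩ :=
          Groth.Agent.Lib.Helper9.exists_one_tmul_eq_of_smul_eq_zero I hs hi hI _ n hz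
        exact ⟨y, ⟨n, hy⟩, hyz⟩
      choose φ hφ1 hφ2 using hex
      have huniq : ∀ (m : M) (y : N), y ∈ Groth.Agent.Lib.Helper9.powerTorsion I N →
          (1 : S) ⊗ₜ[R] y = F ((1 : S) ⊗ₜ[R] m) → y = φ m := by
        intro m y hy hyz
        exact Groth.Agent.Lib.Helper9.eq_of_one_tmul_eq_of_powerTorsion I hs hi hy (hφ1 m)
          (hyz.trans (hφ2 m).symm)
      let f : M →ₗ[R] N :=
        { toFun := φ
          map_add' := by
            intro m m'
            symm
            apply huniq
            · exact Submodule.add_mem _ (hφ1 m) (hφ1 m')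
            · rw [TensorProduct.tmul_add, hφ2, hφ2, TensorProduct.tmul_add, map_add]
          map_smul' := by
            intro c m
            symm
            apply huniq
            · exact Submodule.smul_mem _ c (hφ1 m)
            · rw [RingHom.id_apply, TensorProduct.tmul_smul, hφ2, TensorProduct.tmul_smul,
                ← algebraMap_smul S c ((1 : S) ⊗ₜ[R] m), map_smul, algebraMap_smul] }
      refine ⟨f, hext _ _ fun m => ?_⟩
      rw [LinearMap.baseChange_tmul]
      exact hφ2 m
  · -- `N` is `I`-power torsion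
    have hbij := Groth.Agent.Lib.Helper9.bijective_mk_of_powerTorsion_of_flat (S := S) I hs hi hN
    constructor
    · intro f g hfg
      ext m
      have h1 : (1 : S) ⊗ₜ[R] f m = (1 : S) ⊗ₜ[R] g m := by
        have := congrArg (fun F : S ⊗[R] M →ₗ[S] S ⊗[R] N => F ((1 : S) ⊗ₜ[R] m)) hfg
        simpa using this
      exact hbij.1 h1
    · intro F
      let ν : N ≃ₗ[R] S ⊗[R] N := LinearEquiv.ofBijective (TensorProduct.mk R S N 1) hbij
      let f : M →ₗ[R] N :=
        ν.symm.toLinearMap ∘ₗ (F.restrictScalars R) ∘ₗ (TensorProduct.mk R S M 1)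
      refine ⟨f, hext _ _ fun m => ?_⟩
      rw [LinearMap.baseChange_tmul]
      have : (1 : S) ⊗ₜ[R] f m = ν (f m) := rfl
      rw [this]
      simp [f]

end Groth.Agent.S2055
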