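import Groth.Statements.S2057
import Groth.Agent.S2056
import Mathlib

set_option autoImplicit false
universe u
open CAlg

namespace Groth.Agent.S2057

open TensorProduct in
/-- if `s` spans `Q`, every element of `M ⊗ Q` is of the form `∑ x_i ⊗ s_i`. -/
theorem exists_sum_tmul_eq {R : Type*} [CommRing R] {M Q : Type*} [AddCommGroup M] [Module R M]
    [AddCommGroup Q] [Module R Q] {n : ℕ} (s : Fin n → Q)
    (hs : Submodule.span R (Set.range s) = ⊤) (t : M ⊗[R] Q) :
    ∃ x : Fin n → M, t = ∑ i, x i ⊗ₜ[R] s i := by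
  induction t using TensorProduct.induction_on with
  | zero => exact ⟨0, by simp⟩
  | tmul m q =>
    have hq : q ∈ Submodule.span R (Set.range s) := by rw [hs]; exact Submodule.mem_top
    obtain ⟨c, rfl⟩ := (Submodule.mem_span_range_iff_exists_fun R).mp hq
    refine ⟨fun i => c i • m, ?_⟩
    rw [TensorProduct.tmul_sum]
    refine Finset.sum_congr rfl (fun i _ => ?_)
    rw [TensorProduct.tmul_smul, TensorProduct.smul_tmul']
  | add t₁ t₂ h₁ h₂ =>
    obtain ⟨x₁, rfl⟩ := h₁
    obtain ⟨x₂, rfl⟩ := h₂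
    refine ⟨x₁ + x₂, ?_⟩
    rw [← Finset.sum_add_distrib]
    refine Finset.sum_congr rfl (fun i _ => ?_)
    rw [Pi.add_apply, TensorProduct.add_tmul]

open TensorProduct in
/-- swapping sums -/
theorem sum_tmul_swap {R : Type*} [CommRing R] {M Q : Type*} [AddCommGroup M] [Module R M]
    [AddCommGroup Q] [Module R Q] {n m : ℕ} (a : Fin n → Fin m → R) (z : Fin m → M)
    (s : Fin n → Q) :
    ∑ i, (∑ j, a i j • z j) ⊗ₜ[R] s i = ∑ j, z j ⊗ₜ[R] (∑ i, a i j • s i) := by
  simp_rw [TensorProduct.sum_tmul, TensorProduct.tmul_sum]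
  rw [Finset.sum_comm]
  refine Finset.sum_congr rfl (fun j _ => Finset.sum_congr rfl (fun i _ => ?_))
  rw [TensorProduct.smul_tmul]


/-- An injective linear map `f : M₁ → M₂` is universally injective if and only if: whenever elements
`x_i` of `M₁` satisfy `f(x_i) = Σ_j a_{ij} y_j` for some `y_j ∈ M₂` and scalars `a_{ij}`, there are
`z_j ∈ M₁` with `x_i = Σ_j a_{ij} z_j`. -/
theorem result {R M₁ M₂ : Type u} [CommRing R] [AddCommGroup M₁]
    [Module R M₁] [AddCommGroup M₂] [Module R M₂] (f : M₁ →ₗ[R] M₂) (hf : Function.Injective f) :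
    CAlgX.UniversallyInjective R f ↔
      ∀ (n m : ℕ) (x : Fin n → M₁) (y : Fin m → M₂) (a : Fin n → Fin m → R),
        (∀ i, f (x i) = ∑ j, a i j • y j) → ∃ z : Fin m → M₁, ∀ i, x i = ∑ j, a i j • z j := by
  constructor
  · intro huniv n m x y a h
    classical
    -- the test module
    let col : Fin m → (Fin n → R) := fun j i => a i j
    let K : Submodule R (Fin n → R) := Submodule.span R (Set.range col)
    let Q := (Fin n → R) ⧸ K
    let q : Fin n → Q := fun i => K.mkQ (Pi.single i 1)
    have hq : ∀ c : Fin n → R, ∑ i, c i • q i = K.mkQ c := by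
      intro c
      simp only [q, ← map_smul, ← map_sum]
      congr 1
      ext k
      simp [Finset.sum_apply, Pi.single_apply]
    have hqcol : ∀ j, ∑ i, a i j • q i = 0 := by
      intro j
      rw [hq (col j)]
      exact (Submodule.Quotient.mk_eq_zero K).mpr (Submodule.subset_span ⟨j, rfl⟩)
    have hspan : Submodule.span R (Set.range q) = ⊤ := by
      rw [eq_top_iff]
      intro w _
      obtain ⟨c, rfl⟩ := K.mkQ_surjective w
      rw [← hq c]
      exact Submodule.sum_mem _ (fun i _ => Submodule.smul_mem _ _ (Submodule.subset_span ⟨i, rfl⟩))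
    have ht : (f.rTensor Q) (∑ i, x i ⊗ₜ[R] q i) = 0 := by
      rw [map_sum]
      simp_rw [LinearMap.rTensor_tmul, h]
      rw [sum_tmul_swap a y q]
      simp_rw [hqcol, TensorProduct.tmul_zero, Finset.sum_const_zero]
    have ht0 : ∑ i, x i ⊗ₜ[R] q i = (0 : TensorProduct R M₁ Q) := huniv Q (by rw [ht, map_zero])
    have ht1 : ∑ i, q i ⊗ₜ[R] x i = (0 : TensorProduct R Q M₁) := by
      have := congrArg (TensorProduct.comm R M₁ Q) ht0
      rw [map_sum, map_zero] at this
      simpa using this
    obtain ⟨k, a', z', hx, ha'⟩ := TensorProduct.vanishesTrivially_of_sum_tmul_eq_zero R hspan ht1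
    have hmem : ∀ l, ∃ c : Fin m → R, ∑ j, c j • col j = fun i => a' i l := by
      intro l
      apply (Submodule.mem_span_range_iff_exists_fun R).mp
      have := ha' l
      rw [hq (fun i => a' i l)] at this
      exact (Submodule.Quotient.mk_eq_zero K).mp this
    choose c hc using hmem
    have hc' : ∀ l i, a' i l = ∑ j, c l j * a i j := by
      intro l i
      have := congrFun (hc l) i
      rw [Finset.sum_apply] at this
      rw [← this]
      refine Finset.sum_congr rfl (fun j _ => ?_)
      rfl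
    refine ⟨fun j => ∑ l, c l j • z' l, fun i => ?_⟩
    rw [hx i]
    simp_rw [hc', Finset.sum_smul, Finset.smul_sum, smul_smul]
    rw [Finset.sum_comm]
    refine Finset.sum_congr rfl (fun j _ => Finset.sum_congr rfl (fun l _ => ?_))
    rw [mul_comm]
  · intro h
    rw [Groth.Agent.S2056.result f]
    intro Q _ _ hQ
    obtain ⟨n, s, hs⟩ := Module.Finite.exists_fin (R := R) (M := Q)
    rw [injective_iff_map_eq_zero]
    intro t ht
    obtain ⟨x, rfl⟩ := exists_sum_tmul_eq (M := M₁) s hs t
    rw [map_sum] at ht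
    simp_rw [LinearMap.rTensor_tmul] at ht
    have ht1 : ∑ i, s i ⊗ₜ[R] f (x i) = (0 : TensorProduct R Q M₂) := by
      have := congrArg (TensorProduct.comm R M₂ Q) ht
      rw [map_sum, map_zero] at this
      simpa using this
    obtain ⟨k, a, y, hy, ha⟩ := TensorProduct.vanishesTrivially_of_sum_tmul_eq_zero R hs ht1
    obtain ⟨z, hz⟩ := h n k x y a hy
    simp_rw [hz]
    rw [sum_tmul_swap a z s]
    simp_rw [ha, TensorProduct.tmul_zero, Finset.sum_const_zero]

end Groth.Agent.S2057
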