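import Groth.Statements.S2060
import Mathlib
import Groth.Agent.Lib.Helper62.LocalJacobian

set_option autoImplicit false
universe u
open CAlg

namespace Groth.Agent.S2060

open Groth.Agent.Lib.Helper62.LocalJacobian Groth.Agent.Lib.Helper62.JacobianFS IsLocalRing

theorem aux {R S : Type u} [CommRing R] [IsNoetherianRing R]
    [CommRing S] [Algebra R S] (A : Type u) [CommRing A] [Algebra R A] [Algebra A S]
    [IsScalarTower R A S] [IsNoetherianRing A] [Algebra.FormallySmooth R A]
    (q : Ideal S) [q.IsPrime] (hsurjAS : Function.Surjective (algebraMap A S))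
    (H : ∀ (B' B : Type u) [CommRing B'] [CommRing B] [IsLocalRing B'] [IsLocalRing B]
        [IsArtinianRing B'] [IsArtinianRing B] [Algebra R B'] [Algebra R B] (π : B' →ₐ[R] B),
        Function.Surjective π →
        (∃ t : B', RingHom.ker π.toRingHom = Ideal.span {t} ∧
          ∀ a ∈ IsLocalRing.maximalIdeal B', a * t = 0) →
        ∀ g : S →ₐ[R] B, (IsLocalRing.maximalIdeal B).comap g = q →
          ∃ g' : S →ₐ[R] B', π.comp g' = g) :
    Algebra.FormallySmooth R (Localization.AtPrime q) := by
  classical
  let q' : Ideal A := q.comap (algebraMap A S)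
  haveI : q'.IsPrime := Ideal.comap_isPrime _ _
  haveI : q.LiesOver q' := ⟨rfl⟩
  letI := Localization.AtPrime.algebraOfLiesOver q' q
  have hsurj : Function.Surjective
      (algebraMap (Localization.AtPrime q') (Localization.AtPrime q)) :=
    localRingHom_surjective q' q hsurjAS
  haveI : Algebra.FormallyEtale A (Localization.AtPrime q') :=
    Algebra.FormallyEtale.of_isLocalization q'.primeCompl
  haveI : Algebra.FormallySmooth R (Localization.AtPrime q') :=
    Algebra.FormallySmooth.comp R A (Localization.AtPrime q')
  haveI : IsNoetherianRing (Localization.AtPrime q') :=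
    IsLocalization.isNoetherianRing q'.primeCompl _ inferInstance
  apply formallySmooth_of_small_lifts hsurj
  intro K L hKL k t hmk hmL hLK hkerL hLm
  have hKm : K ≤ maximalIdeal (Localization.AtPrime q') := hKL.trans hLm
  haveI := isLocalRing_quotient hKm
  haveI := isLocalRing_quotient hLm
  haveI := isArtinianRing_quotient hKm k hmk
  haveI := isArtinianRing_quotient hLm k (hmk.trans hKL)
  let π : (Localization.AtPrime q' ⧸ K) →ₐ[R] (Localization.AtPrime q' ⧸ L) :=
    Ideal.Quotient.factorₐ R hKL
  have hπ : Function.Surjective π := Ideal.Quotient.factor_surjective hKL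
  have htL : t ∈ L := by
    rw [hLK]; exact Ideal.mem_sup_right (Ideal.subset_span rfl)
  have hker : RingHom.ker π.toRingHom = Ideal.span {Ideal.Quotient.mk K t} :=
    ker_factor hKL t hLK
  have hkill : ∀ a ∈ maximalIdeal (Localization.AtPrime q' ⧸ K),
      a * Ideal.Quotient.mk K t = 0 := by
    intro a ha
    obtain ⟨a₀, rfl⟩ := Ideal.Quotient.mk_surjective a
    rw [mk_mem_maximalIdeal_iff hKm] at ha
    rw [← map_mul, Ideal.Quotient.eq_zero_iff_mem]
    exact hmL (Ideal.mul_mem_mul ha htL)
  -- the canonical map `C → P/L`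
  let γ : Localization.AtPrime q →ₐ[R] (Localization.AtPrime q' ⧸ L) :=
    AlgHom.liftOfSurjective
      (IsScalarTower.toAlgHom R (Localization.AtPrime q') (Localization.AtPrime q)) hsurj
      (Ideal.Quotient.mkₐ R L) (by
        intro x hx
        have : x ∈ L := hkerL hx
        rw [RingHom.mem_ker]
        exact Ideal.Quotient.eq_zero_iff_mem.mpr this)
  have hγ : ∀ x : Localization.AtPrime q',
      γ (algebraMap (Localization.AtPrime q') (Localization.AtPrime q) x) =
        Ideal.Quotient.mk L x := fun x =>
    AlgHom.liftOfSurjective_apply _ hsurj _ _ x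
  let g : S →ₐ[R] (Localization.AtPrime q' ⧸ L) :=
    γ.comp (IsScalarTower.toAlgHom R S (Localization.AtPrime q))
  have hgA : ∀ y : A, g (algebraMap A S y) =
      Ideal.Quotient.mk L (algebraMap A (Localization.AtPrime q') y) := by
    intro y
    show γ (algebraMap S (Localization.AtPrime q) (algebraMap A S y)) = _
    rw [← hγ, ← IsScalarTower.algebraMap_apply A S (Localization.AtPrime q),
      ← IsScalarTower.algebraMap_apply A (Localization.AtPrime q') (Localization.AtPrime q)]
  have hcomap : (maximalIdeal (Localization.AtPrime q' ⧸ L)).comap g = q := by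
    ext x
    obtain ⟨y, rfl⟩ := hsurjAS x
    rw [Ideal.mem_comap, hgA, mk_mem_maximalIdeal_iff hLm,
      IsLocalization.AtPrime.to_map_mem_maximal_iff (Localization.AtPrime q') q']
    rfl
  obtain ⟨g'₀, hg'₀⟩ := H _ _ π hπ ⟨_, hker, hkill⟩ g hcomap
  have hπg : ∀ s : S, π (g'₀ s) = g s := fun s => AlgHom.congr_fun hg'₀ s
  have hunit : ∀ y : q.primeCompl, IsUnit (g'₀ y) := by
    intro y
    by_contra h
    have h1 : g'₀ y ∈ maximalIdeal (Localization.AtPrime q' ⧸ K) :=
      (IsLocalRing.mem_maximalIdeal _).mpr h
    obtain ⟨z, hz⟩ := Ideal.Quotient.mk_surjective (g'₀ (y : S))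
    rw [← hz, mk_mem_maximalIdeal_iff hKm] at h1
    have h2 : π (g'₀ y) ∈ maximalIdeal (Localization.AtPrime q' ⧸ L) := by
      rw [← hz]
      show Ideal.Quotient.factor hKL (Ideal.Quotient.mk K z) ∈ _
      rw [Ideal.Quotient.factor_mk, mk_mem_maximalIdeal_iff hLm]
      exact h1
    rw [hπg] at h2
    have h3 : (y : S) ∈ q := hcomap.le (Ideal.mem_comap.mpr h2)
    exact y.2 h3
  let g' : Localization.AtPrime q →ₐ[R] (Localization.AtPrime q' ⧸ K) :=
    IsLocalization.liftAlgHom (M := q.primeCompl) (f := g'₀) hunit
  have hg's : ∀ s : S, g' (algebraMap S (Localization.AtPrime q) s) = g'₀ s := by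
    intro s
    show IsLocalization.lift (M := q.primeCompl) hunit (algebraMap S _ s) = g'₀ s
    rw [IsLocalization.lift_eq]
    rfl
  refine ⟨g', fun x => ?_⟩
  have hhom : ((Ideal.Quotient.factor hKL).comp (g'.toRingHom.comp
      (algebraMap (Localization.AtPrime q') (Localization.AtPrime q)))) =
      Ideal.Quotient.mk L := by
    apply IsLocalization.ringHom_ext q'.primeCompl
    ext y
    show Ideal.Quotient.factor hKL (g' (algebraMap (Localization.AtPrime q')
      (Localization.AtPrime q) (algebraMap A (Localization.AtPrime q') y))) =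
      Ideal.Quotient.mk L (algebraMap A (Localization.AtPrime q') y)
    rw [← IsScalarTower.algebraMap_apply A (Localization.AtPrime q') (Localization.AtPrime q),
      IsScalarTower.algebraMap_apply A S (Localization.AtPrime q), hg's, ← hgA, ← hπg]
    rfl
  exact RingHom.congr_fun hhom x


/-- Let `R` be Noetherian, `S` of finite type over `R` and `𝔮` a prime of `S`. Then `R → S` is smooth at
`𝔮` if and only if for every surjection `B' → B` of Artinian local `R`-algebras whose kernel is
principal and killed by the maximal ideal of `B'`, every `R`-algebra map `S → B` under which the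
maximal ideal pulls back to `𝔮` lifts to `B'`. -/
theorem result {R S : Type u} [CommRing R] [IsNoetherianRing R]
    [CommRing S] [Algebra R S] [Algebra.FiniteType R S] (q : Ideal S) [q.IsPrime] :
    Algebra.IsSmoothAt R q ↔
      ∀ (B' B : Type u) [CommRing B'] [CommRing B] [IsLocalRing B'] [IsLocalRing B]
        [IsArtinianRing B'] [IsArtinianRing B] [Algebra R B'] [Algebra R B] (π : B' →ₐ[R] B),
        Function.Surjective π →
        (∃ t : B', RingHom.ker π.toRingHom = Ideal.span {t} ∧
          ∀ a ∈ IsLocalRing.maximalIdeal B', a * t = 0) →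
        ∀ g : S →ₐ[R] B, (IsLocalRing.maximalIdeal B).comap g = q →
          ∃ g' : S →ₐ[R] B', π.comp g' = g := by
  classical
  constructor
  · intro hsm B' B _ _ _ _ _ _ _ _ π hπ ⟨t, hker, hkill⟩ g hgq
    have : Algebra.FormallySmooth R (Localization.AtPrime q) := hsm
    have hunit : ∀ y : q.primeCompl, IsUnit (g y) := by
      intro y
      by_contra h
      have h1 : g y ∈ IsLocalRing.maximalIdeal B := (IsLocalRing.mem_maximalIdeal _).mpr h
      have h2 : (y : S) ∈ q := hgq.le (Ideal.mem_comap.mpr h1)
      exact y.2 h2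
    let gq : Localization.AtPrime q →ₐ[R] B :=
      IsLocalization.liftAlgHom (M := q.primeCompl) (f := g) hunit
    have htm : t ∈ IsLocalRing.maximalIdeal B' := by
      by_contra h
      have hu : IsUnit t := by
        rwa [IsLocalRing.mem_maximalIdeal, mem_nonunits_iff, not_not] at h
      have h0 : RingHom.ker π.toRingHom = ⊤ := by
        rw [hker]; exact Ideal.span_singleton_eq_top.mpr hu
      have h1 : (1 : B') ∈ RingHom.ker π.toRingHom := by rw [h0]; trivial
      rw [RingHom.mem_ker, map_one] at h1
      exact one_ne_zero h1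
    have hnil : IsNilpotent (RingHom.ker (π : B' →+* B)) := by
      refine ⟨2, ?_⟩
      have : RingHom.ker (π : B' →+* B) = Ideal.span {t} := hker
      rw [this, Ideal.span_singleton_pow, Ideal.zero_eq_bot, Ideal.span_singleton_eq_bot, pow_two]
      exact hkill t htm
    let l := Algebra.FormallySmooth.liftOfSurjective gq π hπ hnil
    refine ⟨l.comp (IsScalarTower.toAlgHom R S (Localization.AtPrime q)), ?_⟩
    ext x
    show π (l (algebraMap S (Localization.AtPrime q) x)) = g x
    have h5 : π (l (algebraMap S (Localization.AtPrime q) x)) =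
        gq (algebraMap S (Localization.AtPrime q) x) :=
      Algebra.FormallySmooth.liftOfSurjective_apply gq π hπ hnil _
    rw [h5]
    show IsLocalization.lift (M := q.primeCompl) hunit (algebraMap S _ x) = g x
    rw [IsLocalization.lift_eq]
    rfl
  · intro H
    obtain ⟨n, φ, hφ⟩ :=
      Algebra.FiniteType.iff_quotient_mvPolynomial''.mp ‹Algebra.FiniteType R S›
    letI : Algebra (MvPolynomial (Fin n) R) S := φ.toRingHom.toAlgebra
    haveI : IsScalarTower R (MvPolynomial (Fin n) R) S :=
      IsScalarTower.of_algebraMap_eq' φ.comp_algebraMap.symm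
    exact aux (MvPolynomial (Fin n) R) q hφ H

end Groth.Agent.S2060
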