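import Groth.Statements.S2061
import Groth.Agent.Lib.Helper73.RegularPd

set_option autoImplicit false
universe u
open CategoryTheory
open CAlg

namespace Groth.Agent.S2061

/-- For a Noetherian local ring `R` write `𝔪` for its maximal ideal and `κ` for its residue field. The
projective dimension of `κ` as an `R`-module is at least the `κ`-dimension of `𝔪/𝔪²`: if `κ` has
projective dimension less than `d` then `dim_κ 𝔪/𝔪² < d`. -/
theorem result {R : Type u} [CommRing R] [IsLocalRing R]
    [IsNoetherianRing R] (d : ℕ)
    (hd : HasProjectiveDimensionLT (ModuleCat.of R (IsLocalRing.ResidueField R)) d) :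
    Module.finrank (IsLocalRing.ResidueField R) (IsLocalRing.CotangentSpace R) < d := by
  have hreg : IsRegularLocalRing R :=
    Groth.Agent.Lib.Helper73.Serre.serre_aux _ R d rfl hd
  have h1 : ringKrullDim R =
      ((Module.finrank (IsLocalRing.ResidueField R) (IsLocalRing.CotangentSpace R) : ℕ) :
        WithBot ℕ∞) :=
    ((IsRegularLocalRing.iff_finrank_cotangentSpace R).1 hreg).symm
  have hpd := Groth.Agent.Lib.Helper73.RegularPd.projectiveDimension_residueField R _ h1
  have hlt := (projectiveDimension_lt_iff
    (X := ModuleCat.of R (IsLocalRing.ResidueField R)) (n := d)).2 hd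
  rw [hpd] at hlt
  exact_mod_cast hlt

end Groth.Agent.S2061
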