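import Groth.Statements.S2073
import Mathlib

set_option autoImplicit false
universe u
open CAlg

namespace Groth.Agent.S2073

open MvPolynomial

attribute [local instance] MvPolynomial.algebraMvPolynomial

/-- descending integrality along localizations -/
theorem exists_isIntegral_smul {A B Aₘ Bₘ : Type*} [CommRing A] [CommRing B] [CommRing Aₘ]
    [CommRing Bₘ] [Algebra A B] (M : Submonoid A) [Algebra A Aₘ] [IsLocalization M Aₘ]
    [Algebra B Bₘ] [IsLocalization (Algebra.algebraMapSubmonoid B M) Bₘ] [Algebra Aₘ Bₘ]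
    [Algebra A Bₘ] [IsScalarTower A Aₘ Bₘ] [IsScalarTower A B Bₘ] (x : B)
    (hx : IsIntegral Aₘ (algebraMap B Bₘ x)) : ∃ m ∈ M, IsIntegral A (m • x) := by
  obtain ⟨m1, h1⟩ := IsIntegral.exists_multiple_integral_of_isLocalization M _ hx
  have e : m1 • algebraMap B Bₘ x = algebraMap B Bₘ ((m1 : A) • x) := by
    rw [Submonoid.smul_def, Algebra.smul_def, Algebra.smul_def, map_mul,
      ← IsScalarTower.algebraMap_apply]
  rw [e] at h1
  obtain ⟨m2, hm2, h2⟩ := IsLocalization.exists_isIntegral_smul_of_isIntegral_map M h1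
  refine ⟨m2 * m1, M.mul_mem hm2 m1.2, ?_⟩
  rwa [mul_smul]

/-- Let `R` be a domain and `R → S` an injective ring map of finite type. Then there are elements `y_1,
…, y_d` of `S` algebraically independent over `R`, a finitely generated `R`-subalgebra `S'` of `S`
containing them and integral over `R[y_1, …, y_d]`, and a nonzero `f ∈ R` such that every element of
`S` lands in `S'` after multiplication by a power of `f`. -/
theorem result {R S : Type u} [CommRing R] [IsDomain R] [CommRing S] [Algebra R S]
    [Algebra.FiniteType R S] (hinj : Function.Injective (algebraMap R S)) :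
    ∃ (d : ℕ) (y : Fin d → S) (S' : Subalgebra R S), AlgebraicIndependent R y ∧ (∀ i, y i ∈ S') ∧ S'.FG ∧
      (∀ s ∈ S', IsIntegral (Algebra.adjoin R (Set.range y)) s) ∧
      ∃ f : R, f ≠ 0 ∧ ∀ s : S, ∃ n : ℕ, (f ^ n) • s ∈ S' := by
  classical
  let M : Submonoid R := nonZeroDivisors R
  let K := Localization M
  let SK := Localization (Algebra.algebraMapSubmonoid S M)
  haveI : Nontrivial SK :=
    (localizationAlgebra_injective (R := R) (S := S) (M := M) K SK hinj).nontrivial
  haveI : Algebra.FiniteType K SK := by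
    rw [← RingHom.finiteType_algebraMap]
    haveI : IsLocalization (Submonoid.map (algebraMap R S) M) SK :=
      inferInstanceAs (IsLocalization (Algebra.algebraMapSubmonoid S M) SK)
    exact RingHom.finiteType_localizationPreserves (algebraMap R S) M K SK
      (RingHom.finiteType_algebraMap.mpr inferInstance)
  obtain ⟨d, g, hginj, hgint⟩ := exists_integral_inj_algHom_of_fg K SK
  have hden : ∀ i : Fin d, ∃ (r : R) (s : S), r ≠ 0 ∧
      algebraMap S SK s = algebraMap R SK r * g (X i) := by
    intro i
    obtain ⟨⟨s, ⟨m, r, hrM, hrm⟩⟩, hx⟩ :=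
      IsLocalization.surj (Algebra.algebraMapSubmonoid S M) (g (X i))
    refine ⟨r, s, nonZeroDivisors.ne_zero hrM, ?_⟩
    simp only at hx
    rw [← hx, mul_comm, IsScalarTower.algebraMap_apply R S SK]
    congr 2
    exact hrm.symm
  choose r y hr hy using hden
  have hrK : ∀ i, algebraMap R K (r i) ≠ 0 := fun i h =>
    hr i ((IsFractionRing.injective R K) (by rw [h, map_zero]))
  let θ : MvPolynomial (Fin d) K →ₐ[K] MvPolynomial (Fin d) K :=
    aeval (fun i => C (algebraMap R K (r i)) * X i)
  let θ' : MvPolynomial (Fin d) K →ₐ[K] MvPolynomial (Fin d) K :=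
    aeval (fun i => C (algebraMap R K (r i))⁻¹ * X i)
  have hθ1 : θ'.comp θ = AlgHom.id K _ := by
    apply MvPolynomial.algHom_ext
    intro i
    simp only [θ, θ', AlgHom.comp_apply, aeval_X, map_mul, algHom_C, AlgHom.id_apply]
    rw [MvPolynomial.algebraMap_eq, ← mul_assoc, ← C_mul, mul_inv_cancel₀ (hrK i), C_1, one_mul]
  have hθ2 : θ.comp θ' = AlgHom.id K _ := by
    apply MvPolynomial.algHom_ext
    intro i
    simp only [θ, θ', AlgHom.comp_apply, aeval_X, map_mul, algHom_C, AlgHom.id_apply]
    rw [MvPolynomial.algebraMap_eq, ← mul_assoc, ← C_mul, inv_mul_cancel₀ (hrK i), C_1, one_mul]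
  let ybar : Fin d → SK := fun i => algebraMap S SK (y i)
  let g' : MvPolynomial (Fin d) K →ₐ[K] SK := aeval ybar
  have hg' : g' = g.comp θ := by
    apply MvPolynomial.algHom_ext
    intro i
    simp only [g', θ, AlgHom.comp_apply, aeval_X, map_mul, algHom_C, ybar]
    rw [hy i, ← IsScalarTower.algebraMap_apply]
  have hg'inj : Function.Injective g' := by
    rw [hg']
    have : Function.Injective θ := by
      intro a b hab
      have := congrArg θ' hab
      rwa [← AlgHom.comp_apply, ← AlgHom.comp_apply, hθ1] at this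
    exact hginj.comp this
  have hg'int : ∀ z : SK, g'.toRingHom.IsIntegralElem z := by
    intro z
    obtain ⟨p, hp, hpz⟩ := hgint z
    refine ⟨p.map θ'.toRingHom, hp.map _, ?_⟩
    rw [Polynomial.eval₂_map]
    have : g'.toRingHom.comp θ'.toRingHom = g.toRingHom := by
      refine RingHom.ext (fun a => ?_)
      show g' (θ' a) = g a
      rw [hg', AlgHom.comp_apply, ← AlgHom.comp_apply θ θ', hθ2, AlgHom.id_apply]
    rw [this]
    exact hpz
  have hbridge : ∀ P : MvPolynomial (Fin d) R,
      algebraMap S SK (aeval y P) = g' (MvPolynomial.map (algebraMap R K) P) := by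
    intro P
    show _ = aeval ybar (MvPolynomial.map (algebraMap R K) P)
    rw [aeval_map_algebraMap K ybar P, ← aeval_algebraMap_apply SK y P]
    rfl
  have hyind : AlgebraicIndependent R y := by
    rw [algebraicIndependent_iff_injective_aeval, injective_iff_map_eq_zero]
    intro P hP
    have h1 : g' (MvPolynomial.map (algebraMap R K) P) = 0 := by
      rw [← hbridge, hP, map_zero]
    have h2 : MvPolynomial.map (algebraMap R K) P = 0 := by
      apply hg'inj
      rw [h1, map_zero]
    apply MvPolynomial.map_injective (algebraMap R K) (IsFractionRing.injective R K)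
    rw [h2, map_zero]
  set A : Subalgebra R S := Algebra.adjoin R (Set.range y) with hA
  have hG : ∀ x : S, ∃ h : R, h ≠ 0 ∧ IsIntegral A (h • x) := by
    intro x
    letI a1 : Algebra (MvPolynomial (Fin d) R) S :=
      (aeval y : MvPolynomial (Fin d) R →ₐ[R] S).toRingHom.toAlgebra
    letI a2 : Algebra (MvPolynomial (Fin d) K) SK := g'.toRingHom.toAlgebra
    haveI t2 : IsScalarTower (MvPolynomial (Fin d) R) (MvPolynomial (Fin d) K) SK :=
      IsScalarTower.of_algebraMap_eq (fun P => by
        rw [IsScalarTower.algebraMap_apply (MvPolynomial (Fin d) R) S SK]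
        exact hbridge P)
    haveI loc1 : IsLocalization (M.map (C : R →+* MvPolynomial (Fin d) R))
        (MvPolynomial (Fin d) K) := MvPolynomial.isLocalization M K
    have e : Algebra.algebraMapSubmonoid S (M.map (C : R →+* MvPolynomial (Fin d) R)) =
        Algebra.algebraMapSubmonoid S M := by
      ext z
      constructor
      · rintro ⟨_, ⟨a, ha, rfl⟩, rfl⟩
        exact ⟨a, ha, (aeval_C y a).symm⟩
      · rintro ⟨a, ha, rfl⟩
        exact ⟨C a, ⟨a, ha, rfl⟩, aeval_C y a⟩
    haveI loc2 : IsLocalization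
        (Algebra.algebraMapSubmonoid S (M.map (C : R →+* MvPolynomial (Fin d) R))) SK := by
      rw [e]; infer_instance
    obtain ⟨m, ⟨h, hhM, rfl⟩, hint⟩ :=
      exists_isIntegral_smul (Aₘ := MvPolynomial (Fin d) K) (Bₘ := SK)
        (M.map (C : R →+* MvPolynomial (Fin d) R)) x (hg'int (algebraMap S SK x))
    refine ⟨h, nonZeroDivisors.ne_zero hhM, ?_⟩
    have hsm : (C h : MvPolynomial (Fin d) R) • x = h • x := by
      rw [Algebra.smul_def, Algebra.smul_def]
      congr 1
      exact aeval_C y h
    rw [← hsm]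
    let ψ : MvPolynomial (Fin d) R →ₐ[R] A := (aeval y).codRestrict A (fun P => by
      rw [hA, Algebra.adjoin_range_eq_range_aeval]; exact ⟨P, rfl⟩)
    have := IsIntegral.map_of_comp_eq (ψ.toRingHom) (RingHom.id S)
      (RingHom.ext (fun P => rfl)) hint
    exact this
  obtain ⟨t, ht⟩ := (Algebra.FiniteType.out : (⊤ : Subalgebra R S).FG)
  choose h hh0 hhint using hG
  let T : Set S := Set.range y ∪ (fun x => h x • x) '' (↑t : Set S)
  let S' : Subalgebra R S := Algebra.adjoin R T
  let f : R := ∏ x ∈ t, h x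
  refine ⟨d, y, S', hyind, ?_, ?_, ?_, f, ?_, ?_⟩
  · intro i
    exact Algebra.subset_adjoin (Or.inl ⟨i, rfl⟩)
  · have hfin : T.Finite := (Set.finite_range y).union (t.finite_toSet.image _)
    exact ⟨hfin.toFinset, by rw [Set.Finite.coe_toFinset]⟩
  · have hle : S' ≤ (integralClosure A S).restrictScalars R := by
      apply Algebra.adjoin_le
      rintro z (⟨i, rfl⟩ | ⟨x, hx, rfl⟩)
      · show IsIntegral A (y i)
        have : y i = algebraMap A S ⟨y i, Algebra.subset_adjoin ⟨i, rfl⟩⟩ := rfl
        rw [this]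
        exact isIntegral_algebraMap
      · exact hhint x
    intro s hs
    exact hle hs
  · exact Finset.prod_ne_zero_iff.mpr (fun x _ => hh0 x)
  · intro s
    have hs : s ∈ Algebra.adjoin R (↑t : Set S) := by rw [ht]; exact Algebra.mem_top
    induction hs using Algebra.adjoin_induction with
    | mem x hx =>
      refine ⟨1, ?_⟩
      rw [pow_one]
      obtain ⟨c, hc⟩ := Finset.dvd_prod_of_mem h hx
      have : f • x = c • (h x • x) := by
        rw [smul_smul, mul_comm, ← hc]
      rw [this]
      exact S'.smul_mem (Algebra.subset_adjoin (Or.inr ⟨x, hx, rfl⟩)) c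
    | algebraMap r =>
      exact ⟨0, by rw [pow_zero, one_smul]; exact S'.algebraMap_mem r⟩
    | add a b _ _ ha hb =>
      obtain ⟨n, hn⟩ := ha
      obtain ⟨m, hm⟩ := hb
      refine ⟨n + m, ?_⟩
      have : f ^ (n + m) • (a + b) = f ^ m • (f ^ n • a) + f ^ n • (f ^ m • b) := by
        rw [smul_add, smul_smul, smul_smul, pow_add, mul_comm (f ^ m) (f ^ n)]
      rw [this]
      exact S'.add_mem (S'.smul_mem hn _) (S'.smul_mem hm _)
    | mul a b _ _ ha hb =>
      obtain ⟨n, hn⟩ := ha
      obtain ⟨m, hm⟩ := hb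
      refine ⟨n + m, ?_⟩
      have : f ^ (n + m) • (a * b) = (f ^ n • a) * (f ^ m • b) := by
        rw [smul_mul_smul_comm, pow_add]
      rw [this]
      exact S'.mul_mem hn hm

end Groth.Agent.S2073
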