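import Groth.Statements.S2076
import Groth.Agent.Lib.Helper13.LimClosed

set_option autoImplicit false
universe u
open CategoryTheory AlgebraicGeometry
open Lim

namespace Groth.Agent.S2076

attribute [local instance] IsCofiltered.isConnected in
open Groth.Agent.Lib.Helper13.LimClosed in
/-- Let `X = lim X_i` be a cofiltered limit of quasi-compact schemes over `S` with affine transition
morphisms and `h : Y → X` a closed immersion with `Y → S` locally of finite type. Then `Y → X_i` is
a closed immersion for some `i`. -/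
theorem result {I : Type u} [SmallCategory I] [IsCofiltered I] (S : Scheme.{u})
    (D : I ⥤ Over S) (c : Limits.Cone D) (hc : Limits.IsLimit c)
    [∀ (i j : I) (f : i ⟶ j), IsAffineHom (D.map f).left] [∀ i, CompactSpace (D.obj i).left]
    {Y : Scheme.{u}} (h : Y ⟶ c.pt.left) [IsClosedImmersion h] [LocallyOfFiniteType (h ≫ c.pt.hom)] :
    ∃ i : I, IsClosedImmersion (h ≫ (c.π.app i).left) := by
  let D' : I ⥤ Scheme.{u} := D ⋙ Over.forget S
  let c' : Limits.Cone D' := (Over.forget S).mapCone c
  have hc' : Limits.IsLimit c' := Limits.isLimitOfPreserves (Over.forget S) hc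
  let ti : ∀ i, D'.obj i ⟶ S := fun i => (D.obj i).hom
  have hti : ∀ {i j : I} (a : i ⟶ j), D'.map a ≫ ti j = ti i := fun a => Over.w (D.map a)
  have hcone : ∀ i, c'.π.app i ≫ ti i = c.pt.hom := fun i => Over.w (c.π.app i)
  have hDa : ∀ {a b : I} (f : a ⟶ b), IsAffineHom (D'.map f) := fun f =>
    inferInstanceAs (IsAffineHom (D.map f).left)
  have hcs : ∀ i, CompactSpace (D'.obj i) := fun i => inferInstanceAs (CompactSpace (D.obj i).left)
  have hlft : LocallyOfFiniteType ((show Y ⟶ c'.pt from h) ≫ (show c'.pt ⟶ S from c.pt.hom)) :=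
    ‹LocallyOfFiniteType (h ≫ c.pt.hom)›
  have hci : IsClosedImmersion (show Y ⟶ c'.pt from h) := ‹IsClosedImmersion h›
  exact exists_isClosedImmersion_comp_π D' ti hti c' hc' c.pt.hom hcone (show Y ⟶ c'.pt from h)

end Groth.Agent.S2076
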