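import Groth.Statements.S2084
-- import your own Groth.Agent.* helpers here
import Groth.Agent.Lib.Helper89.CMCatenary

set_option autoImplicit false
universe u
open CAlg

namespace Groth.Agent.S2084

/-- Let `R` be a Noetherian local ring admitting a finite Cohen–Macaulay module whose support is all of
`Spec R`. Then every maximal chain of prime ideals (starting at a minimal prime, ending at the
maximal ideal, with no prime strictly between consecutive members) has length equal to the dimension
of `R`. -/
theorem result {R M : Type u} [CommRing R] [IsLocalRing R] [IsNoetherianRing R]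
    [AddCommGroup M] [Module R M] [Module.Finite R M] (hM : LocCoh.IsCohenMacaulayModule R M)
    (hsupp : Module.support R M = Set.univ) (s : LTSeries (PrimeSpectrum R))
    (hhead : s.head.asIdeal ∈ minimalPrimes R) (hlast : s.last.asIdeal = IsLocalRing.maximalIdeal R)
    (hsat : ∀ i : Fin s.length, s (Fin.castSucc i) ⋖ s (Fin.succ i)) :
    (s.length : WithBot ℕ∞) = ringKrullDim R := by
  have h := Groth.Agent.Lib.Helper89.CMCatenary.height_eq_height_head_add R M hM hsupp s hsat
    (Fin.last s.length)
  have h0 : s.head.asIdeal.height = 0 := by
    have := s.head.isPrime
    exact Ideal.height_eq_zero_iff.mpr hhead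
  rw [h0, zero_add, Fin.val_last] at h
  have h1 : s (Fin.last s.length) = s.last := rfl
  rw [h1, hlast] at h
  rw [← IsLocalRing.maximalIdeal_height_eq_ringKrullDim, h]
  rfl

end Groth.Agent.S2084
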