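import Groth.Statements.S2085
import Mathlib
import Groth.Agent.Lib.Helper29.DepthRees

set_option autoImplicit false
universe u
open CAlg

namespace Groth.Agent.S2085

open IsLocalRing RingTheory.Sequence
open scoped Pointwise

/-- For `q ≤ p` primes with `q ∈ Supp M`, the prime `q R_p` lies in the support of `M_p`. -/
theorem map_mem_support {R : Type u} [CommRing R] {M : Type u} [AddCommGroup M] [Module R M]
    (p : Ideal R) [p.IsPrime] (q : PrimeSpectrum R) (hq : q ∈ Module.support R M)
    (hqp : q.asIdeal ≤ p) (Q : PrimeSpectrum (Localization.AtPrime p))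
    (hQ : Q.asIdeal.comap (algebraMap R (Localization.AtPrime p)) = q.asIdeal) :
    Q ∈ Module.support (Localization.AtPrime p) (LocalizedModule p.primeCompl M) := by
  rw [Module.mem_support_iff_exists_annihilator] at hq ⊢
  obtain ⟨m, hm⟩ := hq
  refine ⟨LocalizedModule.mk m 1, ?_⟩
  intro r hr
  obtain ⟨⟨r₀, s⟩, rfl⟩ := IsLocalization.mk'_surjective p.primeCompl r
  rw [Submodule.mem_annihilator_span_singleton] at hr
  change IsLocalization.mk' (Localization.AtPrime p) r₀ s • LocalizedModule.mk m 1 = 0 at hr
  rw [← Localization.mk_eq_mk', LocalizedModule.mk_smul_mk, IsLocalizedModule.mk_eq_mk',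
    IsLocalizedModule.mk'_eq_zero'] at hr
  obtain ⟨u, hu⟩ := hr
  rw [Submonoid.smul_def, smul_smul] at hu
  have h1 : (u : R) * r₀ ∈ q.asIdeal :=
    hm ((Submodule.mem_annihilator_span_singleton _ _).mpr hu)
  have h2 : r₀ ∈ q.asIdeal :=
    (q.isPrime.mem_or_mem h1).resolve_left (fun h => u.2 (hqp h))
  have h3 : algebraMap R (Localization.AtPrime p) r₀ ∈ Q.asIdeal := by
    rw [← Ideal.mem_comap, hQ]; exact h2
  have h4 : IsLocalization.mk' (Localization.AtPrime p) r₀ s =
      IsLocalization.mk' (Localization.AtPrime p) 1 s * algebraMap R (Localization.AtPrime p) r₀ := by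
    rw [mul_comm, IsLocalization.mul_mk'_eq_mk'_of_mul, mul_one]
  change IsLocalization.mk' (Localization.AtPrime p) r₀ s ∈ Q.asIdeal
  rw [h4]
  exact Ideal.mul_mem_left _ _ h3

/-- Conversely, the contraction of a prime in the support of `M_p` contains `Ann M`. -/
theorem annihilator_le_comap_of_mem_support {R : Type u} [CommRing R] {M : Type u} [AddCommGroup M]
    [Module R M] (p : Ideal R) [p.IsPrime] (Q : PrimeSpectrum (Localization.AtPrime p))
    (hQ : Q ∈ Module.support (Localization.AtPrime p) (LocalizedModule p.primeCompl M)) :
    Module.annihilator R M ≤ Q.asIdeal.comap (algebraMap R (Localization.AtPrime p)) := by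
  intro a ha
  rw [Ideal.mem_comap]
  apply Module.annihilator_le_of_mem_support hQ
  rw [Module.mem_annihilator]
  intro n
  induction n using LocalizedModule.induction_on with
  | h m t =>
    rw [algebraMap_smul, LocalizedModule.smul'_mk, (Module.mem_annihilator.mp ha) m,
      LocalizedModule.zero_mk]

/-- Let `M` be a finite module over a Noetherian ring `R`. Then every associated prime of `M` is minimal
in the support of `M` (no embedded primes) if and only if `M` satisfies Serre's condition `(S_1)`. -/
theorem result {R M : Type u} [CommRing R] [IsNoetherianRing R] [AddCommGroup M] [Module R M]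
    [Module.Finite R M] :
    (∀ p ∈ associatedPrimes R M, p ∈ (Module.annihilator R M).minimalPrimes) ↔ LocCoh.HasSk 1 R M := by
  constructor
  · intro hne p hp
    rcases subsingleton_or_nontrivial (LocalizedModule p.primeCompl M) with hss | hnt
    · rw [Groth.Agent.Lib.Helper29.depth_eq_top_of_subsingleton]
      exact le_top
    by_cases h1 : 1 ≤ LocCoh.depth (Localization.AtPrime p) (LocalizedModule p.primeCompl M)
    · refine (min_le_left _ _).trans ?_
      exact WithBot.coe_le_coe.mpr h1
    · have h0 : LocCoh.depth (Localization.AtPrime p) (LocalizedModule p.primeCompl M) = 0 := by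
        rw [not_le] at h1
        exact Order.lt_one_iff.mp h1
      have hass := (Groth.Agent.Lib.Helper29.depth_eq_zero_iff _ _).mp h0
      have h2 := Module.associatedPrimes.preimage_comap_associatedPrimes_eq_associatedPrimes_of_isLocalizedModule
        p.primeCompl (Localization.AtPrime p) (LocalizedModule.mkLinearMap p.primeCompl M)
      have h3' : (maximalIdeal (Localization.AtPrime p)).comap
          (algebraMap R (Localization.AtPrime p)) = p :=
        IsLocalization.AtPrime.under_maximalIdeal (Localization.AtPrime p) p
      rw [← h2, Set.mem_preimage, h3'] at hass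
      have hmin := hne p hass
      -- the support of `M_p` is the closed point
      have hsub : Subsingleton ↥(Module.support (Localization.AtPrime p)
          (LocalizedModule p.primeCompl M)) := by
        refine ⟨fun Q₁ Q₂ => ?_⟩
        have key : ∀ Q : ↥(Module.support (Localization.AtPrime p)
            (LocalizedModule p.primeCompl M)), Q.1.asIdeal = maximalIdeal (Localization.AtPrime p) := by
          intro Q
          have hle := annihilator_le_comap_of_mem_support p Q.1 Q.2
          have hqp : Q.1.asIdeal.comap (algebraMap R (Localization.AtPrime p)) ≤ p := by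
            have h3 : (maximalIdeal (Localization.AtPrime p)).comap
                (algebraMap R (Localization.AtPrime p)) = p :=
              IsLocalization.AtPrime.under_maximalIdeal (Localization.AtPrime p) p
            exact (Ideal.comap_mono (IsLocalRing.le_maximalIdeal Q.1.isPrime.ne_top)).trans h3.le
          have heq : Q.1.asIdeal.comap (algebraMap R (Localization.AtPrime p)) = p :=
            le_antisymm hqp (hmin.2 ⟨inferInstance, hle⟩ hqp)
          have h4 : Ideal.map (algebraMap R (Localization.AtPrime p))
              (Q.1.asIdeal.comap (algebraMap R (Localization.AtPrime p))) = Q.1.asIdeal :=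
            IsLocalization.map_under p.primeCompl (Localization.AtPrime p) Q.1.asIdeal
          rw [← h4, heq, Localization.AtPrime.map_eq_maximalIdeal]
        apply Subtype.ext
        apply PrimeSpectrum.ext
        rw [key Q₁, key Q₂]
      have hdim : Module.supportDim (Localization.AtPrime p) (LocalizedModule p.primeCompl M) ≤ 0 :=
        Order.krullDim_nonpos_of_subsingleton
      refine (min_le_right _ _).trans (hdim.trans ?_)
      exact WithBot.coe_le_coe.mpr bot_le
  · intro hS1 p hp
    have hpprime : p.IsPrime := IsAssociatedPrime.isPrime hp
    have hass := Module.associatedPrimes.mem_associatedPrimes_atPrime_of_mem_associatedPrimes hp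
    have h0 : LocCoh.depth (Localization.AtPrime p) (LocalizedModule p.primeCompl M) = 0 :=
      (Groth.Agent.Lib.Helper29.depth_eq_zero_iff _ _).mpr hass
    have h1 := hS1 p
    rw [h0] at h1
    have hnt : Nontrivial (LocalizedModule p.primeCompl M) := by
      by_contra hcon
      rw [not_nontrivial_iff_subsingleton] at hcon
      exact not_isAssociatedPrime_of_subsingleton hass
    have hdim : Module.supportDim (Localization.AtPrime p) (LocalizedModule p.primeCompl M) ≤ 0 := by
      rcases le_total ((1 : ℕ) : WithBot ℕ∞)
        (Module.supportDim (Localization.AtPrime p) (LocalizedModule p.primeCompl M)) with h | h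
      · rw [min_eq_left h] at h1
        have : (1 : ℕ∞) ≤ 0 := WithBot.coe_le_coe.mp h1
        exact absurd this (by norm_num)
      · rw [min_eq_right h] at h1
        exact h1
    -- `Ann M ≤ p`
    rw [AssociatedPrimes.mem_iff, isAssociatedPrime_iff] at hp
    obtain ⟨-, x, hx⟩ := hp
    have hle : Module.annihilator R M ≤ p := by
      intro a ha
      rw [hx, Submodule.mem_colon_singleton, Submodule.mem_bot]
      exact Module.mem_annihilator.mp ha x
    refine ⟨⟨hpprime, hle⟩, ?_⟩
    rintro q ⟨hqprime, hq⟩ hqp
    -- `q R_p` and `𝔪` are both in the support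
    have hqsupp : (⟨q, hqprime⟩ : PrimeSpectrum R) ∈ Module.support R M := by
      rw [Module.support_eq_zeroLocus]
      exact hq
    have hQprime : (Ideal.map (algebraMap R (Localization.AtPrime p)) q).IsPrime :=
      IsLocalization.isPrime_of_isPrime_disjoint p.primeCompl (Localization.AtPrime p) q hqprime
        (by
          rw [Set.disjoint_left]
          intro a ha haq
          exact ha (hqp haq))
    have hQcomap : (Ideal.map (algebraMap R (Localization.AtPrime p)) q).comap
        (algebraMap R (Localization.AtPrime p)) = q :=
      IsLocalization.comap_map_of_isPrime_disjoint p.primeCompl (Localization.AtPrime p) hqprime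
        (by
          rw [Set.disjoint_left]
          intro a ha haq
          exact ha (hqp haq))
    have hQsupp := map_mem_support (M := M) p ⟨q, hqprime⟩ hqsupp hqp
      ⟨Ideal.map (algebraMap R (Localization.AtPrime p)) q, hQprime⟩ hQcomap
    have hmsupp : IsLocalRing.closedPoint (Localization.AtPrime p) ∈
        Module.support (Localization.AtPrime p) (LocalizedModule p.primeCompl M) :=
      Module.mem_support_mono (IsLocalRing.le_maximalIdeal hQprime.ne_top) hQsupp
    by_contra hpq
    have hlt : (⟨⟨Ideal.map (algebraMap R (Localization.AtPrime p)) q, hQprime⟩, hQsupp⟩ :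
        ↥(Module.support (Localization.AtPrime p) (LocalizedModule p.primeCompl M))) <
        ⟨IsLocalRing.closedPoint (Localization.AtPrime p), hmsupp⟩ := by
      rw [Subtype.mk_lt_mk, lt_iff_le_and_ne]
      refine ⟨IsLocalRing.le_maximalIdeal hQprime.ne_top, ?_⟩
      intro heq
      apply hpq
      have h5 := congrArg (fun Q : PrimeSpectrum (Localization.AtPrime p) =>
        Q.asIdeal.comap (algebraMap R (Localization.AtPrime p))) heq
      simp only at h5
      rw [hQcomap] at h5
      rw [h5]
      exact (IsLocalization.AtPrime.under_maximalIdeal (Localization.AtPrime p) p).ge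
    have h1le : (1 : WithBot ℕ∞) ≤ Module.supportDim (Localization.AtPrime p)
        (LocalizedModule p.primeCompl M) :=
      Order.one_le_krullDim_iff.mpr ⟨_, _, hlt⟩
    have := h1le.trans hdim
    exact absurd (WithBot.coe_le_coe.mp this : (1 : ℕ∞) ≤ 0) (by norm_num)

end Groth.Agent.S2085
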