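import Groth.Statements.S2088
import Mathlib
import Groth.Agent.Lib.Helper81.ResidueExt

set_option autoImplicit false
universe u
open CAlg

namespace Groth.Agent.S2088
open Groth.Agent.Lib.Helper81.ResidueExt IsLocalRing in

/-- Let `(R, 𝔪, k)` be a local ring and `K/k` a field extension. Then there is a flat local homomorphism
of local rings `R → R'` with `𝔪R' = 𝔪_{R'}` whose residue field is isomorphic to `K` over `k`. -/
theorem result {R K : Type u} [CommRing R] [IsLocalRing R] [Field K]
    [Algebra (IsLocalRing.ResidueField R) K] :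
    ∃ (R' : Type u) (_ : CommRing R') (_ : IsLocalRing R') (_ : Algebra R R') (_ : IsLocalHom (algebraMap R R')),
      Module.Flat R R' ∧ (IsLocalRing.maximalIdeal R).map (algebraMap R R') = IsLocalRing.maximalIdeal R' ∧
      Nonempty (IsLocalRing.ResidueField R' ≃ₐ[IsLocalRing.ResidueField R] K) := by
  classical
  letI : Algebra R K := ((algebraMap (ResidueField R) K).comp (residue R)).toAlgebra
  haveI : IsScalarTower R (ResidueField R) K := IsScalarTower.of_algebraMap_eq (fun _ => rfl)
  obtain ⟨B, _, _, ψ, hflat, hloc, hsurj, hψ⟩ := exists_flat_local R K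
  haveI := hloc
  have hmax : maximalIdeal B = RingHom.ker (ψ : B →+* K) := maximalIdeal_eq_ker ψ hsurj
  have hmap : (maximalIdeal R).map (algebraMap R B) = maximalIdeal B := by rw [hmax, hψ]
  have hlocal : IsLocalHom (algebraMap R B) := by
    refine ⟨fun r hr => ?_⟩
    by_contra hnu
    have h1 : r ∈ maximalIdeal R := (IsLocalRing.mem_maximalIdeal r).2 hnu
    have h2 : algebraMap R B r ∈ maximalIdeal B := hmap ▸ Ideal.mem_map_of_mem _ h1
    exact (IsLocalRing.mem_maximalIdeal _).1 h2 hr
  refine ⟨B, inferInstance, inferInstance, inferInstance, hlocal, hflat, hmap, ?_⟩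
  let e0 : (B ⧸ maximalIdeal B) ≃+* K :=
    (Ideal.quotEquivOfEq hmax).trans
      (Ideal.quotientKerAlgEquivOfSurjective hsurj).toRingEquiv
  have he0 : ∀ b : B, e0 (Ideal.Quotient.mk _ b) = ψ b := fun b => rfl
  refine ⟨AlgEquiv.ofRingEquiv (f := e0) ?_⟩
  intro c
  obtain ⟨r, rfl⟩ := IsLocalRing.residue_surjective c
  have h1 : algebraMap (ResidueField R) (ResidueField B) (residue R r) =
      residue B (algebraMap R B r) := rfl
  rw [h1]
  change e0 (Ideal.Quotient.mk _ (algebraMap R B r)) = _
  rw [he0, AlgHom.commutes]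
  rfl

end Groth.Agent.S2088
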