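import Groth.Statements.S2094
import Mathlib

set_option autoImplicit false
universe u
open CAlg

namespace Groth.Agent.S2094.Aux

set_option linter.style.haveILetI false

open TrivSqZeroExt

/-- right action for modules over commutative rings -/
@[reducible] def opMod (R N : Type*) [CommRing R] [AddCommGroup N] [Module R N] : Module Rᵐᵒᵖ N :=
  Module.compHom N ((RingHom.id R).fromOpposite fun _ _ => mul_comm _ _)

theorem opMod_central (R N : Type*) [CommRing R] [AddCommGroup N] [Module R N] :
    @IsCentralScalar R N _ (opMod R N).toSMul := by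
  letI := opMod R N
  exact ⟨fun _ _ => rfl⟩

attribute [local instance] opMod opMod_central

variable {A M : Type u} [CommRing A] [AddCommGroup M] [Module A M]

/-- (1) formally smooth if projective -/
theorem formallySmooth_of_projective [Module.Projective A M] :
    Algebra.FormallySmooth A (SymmetricAlgebra A M) := by
  apply Algebra.FormallySmooth.of_comp_surjective
  intro B _ _ I hI f
  obtain ⟨g', hg'⟩ := Module.projective_lifting_property (Ideal.Quotient.mkₐ A I).toLinearMap
    (f.toLinearMap ∘ₗ SymmetricAlgebra.ι A M) (Ideal.Quotient.mkₐ_surjective A I)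
  refine ⟨SymmetricAlgebra.lift g', ?_⟩
  apply SymmetricAlgebra.algHom_ext
  ext m
  have := DFunLike.congr_fun hg' m
  simpa using this

theorem ker_map_sq {N : Type u} [AddCommGroup N] [Module A N] (f : N →ₗ[A] M) :
    RingHom.ker (TrivSqZeroExt.map f : TrivSqZeroExt A N →+* TrivSqZeroExt A M) ^ 2 = ⊥ := by
  rw [pow_two, eq_bot_iff, Ideal.mul_le]
  intro x hx y hy
  rw [RingHom.mem_ker] at hx hy
  have hx' : x.fst = 0 := by
    have := congrArg TrivSqZeroExt.fst hx
    simpa using this
  have hy' : y.fst = 0 := by
    have := congrArg TrivSqZeroExt.fst hy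
    simpa using this
  rw [Ideal.mem_bot]
  ext <;> simp [hx', hy']

/-- (2) projective if formally smooth -/
theorem projective_of_formallySmooth [Algebra.FormallySmooth A (SymmetricAlgebra A M)] :
    Module.Projective A M := by
  apply Module.Projective.of_lifting_property''
  intro f hf
  let π : TrivSqZeroExt A (M →₀ A) →ₐ[A] TrivSqZeroExt A M := TrivSqZeroExt.map f
  have hπ : Function.Surjective π := by
    intro x
    obtain ⟨n, hn⟩ := hf x.snd
    refine ⟨TrivSqZeroExt.inl x.fst + TrivSqZeroExt.inr n, ?_⟩
    ext
    · simp [π]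
    · simp [π, hn]
  let φ : SymmetricAlgebra A M →ₐ[A] TrivSqZeroExt A M :=
    SymmetricAlgebra.lift (TrivSqZeroExt.inrHom A M)
  let L := Algebra.FormallySmooth.liftOfSurjective φ π hπ ⟨2, ker_map_sq f⟩
  have hL : π.comp L = φ := Algebra.FormallySmooth.comp_liftOfSurjective φ π hπ ⟨2, ker_map_sq f⟩
  refine ⟨(TrivSqZeroExt.sndHom A (M →₀ A)) ∘ₗ L.toLinearMap ∘ₗ SymmetricAlgebra.ι A M, ?_⟩
  ext m
  have h1 := DFunLike.congr_fun hL (SymmetricAlgebra.ι A M m)
  have h2 : (π (L (SymmetricAlgebra.ι A M m))).snd = f (L (SymmetricAlgebra.ι A M m)).snd :=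
    TrivSqZeroExt.snd_map f _
  have h3 : φ (SymmetricAlgebra.ι A M m) = TrivSqZeroExt.inr m := by
    simp [φ]
  change f (L (SymmetricAlgebra.ι A M m)).snd = m
  rw [← h2]
  have h4 : π (L (SymmetricAlgebra.ι A M m)) = φ (SymmetricAlgebra.ι A M m) := h1
  rw [h4, h3, TrivSqZeroExt.snd_inr]

/-- (3) finite if finite type -/
theorem finite_of_finiteType [Algebra.FiniteType A (SymmetricAlgebra A M)] : Module.Finite A M := by
  classical
  let φ : SymmetricAlgebra A M →ₐ[A] TrivSqZeroExt A M :=
    SymmetricAlgebra.lift (TrivSqZeroExt.inrHom A M)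
  have hφ : Function.Surjective φ := by
    intro x
    refine ⟨algebraMap A _ x.fst + SymmetricAlgebra.ι A M x.snd, ?_⟩
    ext
    · simp [φ, TrivSqZeroExt.algebraMap_eq_inl]
    · simp [φ, TrivSqZeroExt.algebraMap_eq_inl]
  haveI : Algebra.FiniteType A (TrivSqZeroExt A M) := Algebra.FiniteType.of_surjective φ hφ
  obtain ⟨s, hs⟩ := (Algebra.FiniteType.out : (⊤ : Subalgebra A (TrivSqZeroExt A M)).FG)
  let N : Submodule A M := Submodule.span A ((fun x : TrivSqZeroExt A M => x.snd) '' (s : Set _))
  let S : Subalgebra A (TrivSqZeroExt A M) :=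
    { carrier := {x | x.snd ∈ N}
      mul_mem' := by
        intro x y hx hy
        change (x * y).snd ∈ N
        rw [TrivSqZeroExt.snd_mul]
        exact N.add_mem (N.smul_mem _ hy) (by
          rw [op_smul_eq_smul]
          exact N.smul_mem _ hx)
      one_mem' := by
        change (1 : TrivSqZeroExt A M).snd ∈ N
        rw [TrivSqZeroExt.snd_one]
        exact N.zero_mem
      add_mem' := by
        intro x y hx hy
        change (x + y).snd ∈ N
        rw [TrivSqZeroExt.snd_add]
        exact N.add_mem hx hy
      zero_mem' := by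
        change (0 : TrivSqZeroExt A M).snd ∈ N
        rw [TrivSqZeroExt.snd_zero]
        exact N.zero_mem
      algebraMap_mem' := by
        intro a
        change (algebraMap A (TrivSqZeroExt A M) a).snd ∈ N
        rw [TrivSqZeroExt.algebraMap_eq_inl, TrivSqZeroExt.snd_inl]
        exact N.zero_mem }
  have hS : S = ⊤ := by
    rw [eq_top_iff, ← hs, Algebra.adjoin_le_iff]
    intro x hx
    exact Submodule.subset_span ⟨x, hx, rfl⟩
  have hN : N = ⊤ := by
    rw [eq_top_iff]
    intro m _
    have : TrivSqZeroExt.inr m ∈ S := by rw [hS]; trivial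
    have h2 : (TrivSqZeroExt.inr m : TrivSqZeroExt A M).snd ∈ N := this
    rwa [TrivSqZeroExt.snd_inr] at h2
  refine ⟨⟨(s.image fun x : TrivSqZeroExt A M => x.snd), ?_⟩⟩
  rw [Finset.coe_image]
  exact hN

/-- (4) finitely presented if finite projective -/
theorem finitePresentation_of_finite_projective [Module.Finite A M] [Module.Projective A M] :
    Algebra.FinitePresentation A (SymmetricAlgebra A M) := by
  classical
  obtain ⟨n, f, g, -, -, hfg⟩ := Module.Finite.exists_comp_eq_id_of_projective A M
  let F := Fin n → A
  let e := SymmetricAlgebra.equivMvPolynomial (Pi.basisFun A (Fin n))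
  haveI : Algebra.FinitePresentation A (SymmetricAlgebra A F) :=
    Algebra.FinitePresentation.equiv e.symm
  let ρ : SymmetricAlgebra A F →ₐ[A] SymmetricAlgebra A M :=
    SymmetricAlgebra.lift (SymmetricAlgebra.ι A M ∘ₗ f)
  let σ : SymmetricAlgebra A M →ₐ[A] SymmetricAlgebra A F :=
    SymmetricAlgebra.lift (SymmetricAlgebra.ι A F ∘ₗ g)
  have hρσ : ρ.comp σ = AlgHom.id A _ := by
    apply SymmetricAlgebra.algHom_ext
    ext m
    have := DFunLike.congr_fun hfg m
    simp only [LinearMap.comp_apply, LinearMap.id_apply] at this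
    simp [ρ, σ, this]
  have hρσ' : ∀ y, ρ (σ y) = y := fun y => DFunLike.congr_fun hρσ y
  have hsurj : Function.Surjective ρ := fun y => ⟨σ y, hρσ' y⟩
  apply Algebra.FinitePresentation.of_surjective hsurj
  let gen : Fin n → SymmetricAlgebra A F := fun j =>
    SymmetricAlgebra.ι A F (Pi.single j 1) - σ (ρ (SymmetricAlgebra.ι A F (Pi.single j 1)))
  have hker : RingHom.ker ρ.toRingHom = Ideal.span (Set.range gen) := by
    apply le_antisymm
    · have key : ∀ y : SymmetricAlgebra A F, y - σ (ρ y) ∈ Ideal.span (Set.range gen) := by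
        intro y
        induction y using SymmetricAlgebra.induction with
        | algebraMap a =>
          rw [AlgHom.commutes, AlgHom.commutes, sub_self]
          exact Ideal.zero_mem _
        | ι v =>
          have hv : v = ∑ j, v j • (Pi.single j (1 : A) : F) := by
            ext i
            simp [Finset.sum_apply, Pi.single_apply]
          have hlin : SymmetricAlgebra.ι A F v - σ (ρ (SymmetricAlgebra.ι A F v)) =
              ∑ j, v j • gen j := by
            conv_lhs => rw [hv]
            simp only [map_sum, map_smul, gen, smul_sub, Finset.sum_sub_distrib]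
          rw [hlin]
          refine Ideal.sum_mem _ fun j _ => ?_
          rw [Algebra.smul_def]
          exact Ideal.mul_mem_left _ _ (Ideal.subset_span ⟨j, rfl⟩)
        | mul a b ha hb =>
          have : a * b - σ (ρ (a * b)) = a * (b - σ (ρ b)) + σ (ρ b) * (a - σ (ρ a)) := by
            rw [map_mul, map_mul]
            ring
          rw [this]
          exact Ideal.add_mem _ (Ideal.mul_mem_left _ _ hb) (Ideal.mul_mem_left _ _ ha)
        | add a b ha hb =>
          have : a + b - σ (ρ (a + b)) = (a - σ (ρ a)) + (b - σ (ρ b)) := by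
            rw [map_add, map_add]
            ring
          rw [this]
          exact Ideal.add_mem _ ha hb
      intro y hy
      have hy' : ρ y = 0 := hy
      have := key y
      rwa [hy', map_zero, sub_zero] at this
    · rw [Ideal.span_le]
      rintro _ ⟨j, rfl⟩
      change ρ (gen j) = 0
      simp only [gen, map_sub, hρσ', sub_self]
  rw [hker]
  exact ⟨Finset.univ.image gen, by rw [Finset.coe_image, Finset.coe_univ, Set.image_univ]⟩

theorem main :
    Algebra.Smooth A (SymmetricAlgebra A M) ↔ Module.Finite A M ∧ Module.Projective A M := by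
  constructor
  · intro h
    haveI := h
    exact ⟨finite_of_finiteType, projective_of_formallySmooth⟩
  · rintro ⟨h1, h2⟩
    haveI := h1
    haveI := h2
    exact ⟨formallySmooth_of_projective, finitePresentation_of_finite_projective⟩

end Groth.Agent.S2094.Aux

namespace Groth.Agent.S2094

/-- The symmetric algebra of an `A`-module is a smooth `A`-algebra exactly when the module is finite
projective. -/
theorem result {A M : Type u} [CommRing A] [AddCommGroup M] [Module A M] :
    Algebra.Smooth A (SymmetricAlgebra A M) ↔ Module.Finite A M ∧ Module.Projective A M := by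
  exact Aux.main

end Groth.Agent.S2094
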