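import Groth.Statements.S2095
import Mathlib.RingTheory.TensorProduct.Maps
import Mathlib.RingTheory.Ideal.Quotient.Operations
import Mathlib.Tactic

set_option autoImplicit false
universe u
open CAlg

namespace Groth.Agent.S2095

open TensorProduct in
/-- Let `R → S` be a ring map, `𝔫 ⊆ S` an ideal and `R → R'` a ring map admitting an `R`-linear
retraction. If `R' → R' ⊗ S` is formally smooth for the adic topology of the extension of `𝔫`, then
`R → S` is formally smooth for the `𝔫`-adic topology. -/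
theorem result {R S R' : Type u} [CommRing R] [CommRing S] [Algebra R S]
    (𝔫 : Ideal S) [CommRing R'] [Algebra R R'] (ρ : R' →ₗ[R] R) (hρ : ∀ r : R, ρ (algebraMap R R' r) = r)
    (h : CAlgX.IsAdicFormallySmooth R' (R' ⊗[R] S)
      (𝔫.map (Algebra.TensorProduct.includeRight : S →ₐ[R] R' ⊗[R] S))) :
    CAlgX.IsAdicFormallySmooth R S 𝔫 := by
  classical
  intro A _ _ J hJ ψ hψ
  obtain ⟨k, hk⟩ := hψ
  let ιA : A →ₐ[R] R' ⊗[R] A := Algebra.TensorProduct.includeRight
  let ιS : S →ₐ[R] R' ⊗[R] S := Algebra.TensorProduct.includeRight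
  have hιA : ∀ a, ιA a = (1 : R') ⊗ₜ[R] a := fun _ => rfl
  have hιS : ∀ s, ιS s = (1 : R') ⊗ₜ[R] s := fun _ => rfl
  set J' : Ideal (R' ⊗[R] A) := J.map ιA with hJ'def
  have hJ' : J' ^ 2 = ⊥ := by rw [hJ'def, ← Ideal.map_pow, hJ, Ideal.map_bot]
  let ιbar : A ⧸ J →ₐ[R] (R' ⊗[R] A) ⧸ J' := Ideal.quotientMapₐ J' ιA Ideal.le_comap_map
  have hιbar : ∀ a, ιbar (Ideal.Quotient.mk J a) = Ideal.Quotient.mk J' (ιA a) := fun _ => rfl
  let g : S →ₐ[R] (R' ⊗[R] A) ⧸ J' := ιbar.comp ψ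
  let ψ' : R' ⊗[R] S →ₐ[R'] (R' ⊗[R] A) ⧸ J' :=
    Algebra.TensorProduct.lift (Algebra.ofId R' ((R' ⊗[R] A) ⧸ J')) g (fun _ _ => Commute.all _ _)
  have hψ'1 : ∀ s, ψ' (ιS s) = ιbar (ψ s) := by
    intro s
    rw [hιS]
    simp only [ψ', Algebra.TensorProduct.lift_tmul, map_one, one_mul]
    rfl
  have hψ'k : ∃ k, ∀ x ∈ (𝔫.map ιS) ^ k, ψ' x = 0 := by
    refine ⟨k, ?_⟩
    have hle : (𝔫.map ιS) ^ k ≤ RingHom.ker ψ'.toRingHom := by
      rw [← Ideal.map_pow, Ideal.map_le_iff_le_comap]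
      intro x hx
      rw [Ideal.mem_comap, RingHom.mem_ker]
      show ψ' (ιS x) = 0
      rw [hψ'1, hk x hx, map_zero]
    intro x hx
    exact hle hx
  obtain ⟨χ', hχ'⟩ := h (R' ⊗[R] A) J' hJ' ψ' hψ'k
  have hχ'mk : ∀ t, Ideal.Quotient.mk J' (χ' t) = ψ' t := by
    intro t
    have := congrArg (fun f => f t) hχ'
    exact this
  -- the projection P
  let P : R' ⊗[R] A →ₗ[R] A := (TensorProduct.lid R A).toLinearMap ∘ₗ (LinearMap.rTensor A ρ)
  have hP_tmul : ∀ (r' : R') (a : A), P (r' ⊗ₜ[R] a) = ρ r' • a := by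
    intro r' a
    simp only [P, LinearMap.comp_apply, LinearMap.rTensor_tmul, LinearEquiv.coe_coe,
      TensorProduct.lid_tmul]
  have hρ1 : ρ 1 = 1 := by
    have := hρ 1
    rwa [map_one] at this
  have hP_one : ∀ a, P (ιA a) = a := by
    intro a
    rw [hιA, hP_tmul, hρ1, one_smul]
  have hP_lin : ∀ (a : A) (t : R' ⊗[R] A), P (ιA a * t) = a * P t := by
    intro a t
    induction t using TensorProduct.induction_on with
    | zero => simp
    | tmul r' b =>
      rw [hιA, Algebra.TensorProduct.tmul_mul_tmul, one_mul, hP_tmul, hP_tmul, mul_smul_comm]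
    | add x y hx hy => rw [mul_add, map_add, map_add, hx, hy, mul_add]
  have hPJ : ∀ j' ∈ J', P j' ∈ J := by
    have hQ : ∀ x ∈ J', ∀ r : R' ⊗[R] A, P (r * x) ∈ J := by
      intro x hx
      rw [hJ'def] at hx
      induction hx using Submodule.span_induction with
      | mem x hx =>
        obtain ⟨j, hj, rfl⟩ := hx
        intro r
        rw [mul_comm, hP_lin]
        exact Ideal.mul_mem_right _ _ hj
      | zero => intro r; simp
      | add x y _ _ hx hy => intro r; rw [mul_add, map_add]; exact Ideal.add_mem _ (hx r) (hy r)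
      | smul a x _ hx =>
        intro r
        rw [smul_eq_mul, ← mul_assoc]
        exact hx (r * a)
    intro j' hj'
    have := hQ j' hj' 1
    rwa [one_mul] at this
  -- the lift
  let a' : S → R' ⊗[R] A := fun s => χ' (ιS s)
  let θ : S → A := fun s => P (a' s)
  have hF1 : ∀ s, ∃ ã : A, Ideal.Quotient.mk J ã = ψ s ∧ a' s - ιA ã ∈ J' := by
    intro s
    obtain ⟨ã, hã⟩ := Ideal.Quotient.mk_surjective (ψ s)
    refine ⟨ã, hã, ?_⟩
    rw [← Ideal.Quotient.eq, hχ'mk, hψ'1, ← hã, hιbar]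
  have hF2 : ∀ s, Ideal.Quotient.mk J (θ s) = ψ s := by
    intro s
    obtain ⟨ã, hã, hj⟩ := hF1 s
    have : θ s = ã + P (a' s - ιA ã) := by
      simp only [θ]
      rw [map_sub, hP_one]; ring
    rw [this, map_add, hã, Ideal.Quotient.eq_zero_iff_mem.mpr (hPJ _ hj), add_zero]
  have hF3 : ∀ s, a' s - ιA (θ s) ∈ J' ∧ P (a' s - ιA (θ s)) = 0 := by
    intro s
    refine ⟨?_, ?_⟩
    · obtain ⟨ã, hã, hj⟩ := hF1 s
      have h1 : θ s - ã = P (a' s - ιA ã) := by
        simp only [θ]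
        rw [map_sub, hP_one]
      have h2 : a' s - ιA (θ s) = (a' s - ιA ã) - ιA (θ s - ã) := by
        rw [map_sub]; ring
      rw [h2]
      refine Ideal.sub_mem _ hj ?_
      rw [h1]
      exact Ideal.mem_map_of_mem _ (hPJ _ hj)
    · rw [map_sub, hP_one]
      simp only [θ, sub_self]
  have hθmul : ∀ s t, θ (s * t) = θ s * θ t := by
    intro s t
    have e1 : a' (s * t) = a' s * a' t := by
      simp only [a']
      rw [map_mul, map_mul]
    have e2 : a' s * a' t = ιA (θ s * θ t) + ιA (θ s) * (a' t - ιA (θ t)) +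
        ιA (θ t) * (a' s - ιA (θ s)) + (a' s - ιA (θ s)) * (a' t - ιA (θ t)) := by
      rw [map_mul]; ring
    have e3 : (a' s - ιA (θ s)) * (a' t - ιA (θ t)) = 0 := by
      have : (a' s - ιA (θ s)) * (a' t - ιA (θ t)) ∈ J' ^ 2 := by
        rw [pow_two]; exact Ideal.mul_mem_mul (hF3 s).1 (hF3 t).1
      rw [hJ'] at this
      exact this
    show P (a' (s * t)) = _
    rw [e1, e2, e3, add_zero, map_add, map_add, hP_one, hP_lin, hP_lin, (hF3 s).2, (hF3 t).2,
      mul_zero, mul_zero, add_zero, add_zero]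
  have hθone : θ 1 = 1 := by
    simp only [θ, a']
    rw [map_one, map_one]
    have : (1 : R' ⊗[R] A) = ιA 1 := (map_one ιA).symm
    rw [this, hP_one]
  let θl : S →ₗ[R] A :=
    P ∘ₗ ((χ'.restrictScalars R).toLinearMap) ∘ₗ ιS.toLinearMap
  have hθl : ∀ s, θl s = θ s := fun _ => rfl
  let χ : S →ₐ[R] A := AlgHom.ofLinearMap θl (by rw [hθl]; exact hθone)
    (by intro x y; rw [hθl, hθl, hθl]; exact hθmul x y)
  refine ⟨χ, ?_⟩
  ext s
  show Ideal.Quotient.mk J (θ s) = ψ s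
  exact hF2 s

end Groth.Agent.S2095
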