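import Groth.Statements.S2096
import Groth.Agent.S1974
import Groth.Agent.S0736
import Groth.Agent.Lib.Helper36.WeaklyEtaleField
import Groth.Agent.Lib.Helper36.AbsFlat

set_option autoImplicit false
universe u
open CAlg

namespace Groth.Agent.S2096

open TensorProduct Groth.Agent.Lib.Helper36.WE Groth.Agent.Lib.Helper36.AbsFlat

/-- Let `B` be a Noetherian ind-étale `A`-algebra (a filtered colimit of étale algebras) and `𝔭` a prime
of `A`. Then only finitely many primes of `B` lie over `𝔭`, the fibre ring `B ⊗ κ(𝔭)` is reduced of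
dimension zero, and each residue field extension `κ(𝔮)/κ(𝔭)` is separable algebraic. -/
theorem result {A B : Type u} [CommRing A] [CommRing B] [Algebra A B] (hB : EtPBC.IsIndEtale A B)
    [IsNoetherianRing B] (p : Ideal A) [p.IsPrime] :
    {q : PrimeSpectrum B | q.asIdeal.LiesOver p}.Finite ∧ IsReduced (p.Fiber B) ∧ ringKrullDim (p.Fiber B) ≤ 0 ∧
      ∀ (q : Ideal B) [q.IsPrime] [q.LiesOver p],
        @Algebra.IsSeparable p.ResidueField q.ResidueField _ _
          (Ideal.ResidueField.mapₐ p q (Algebra.ofId A B) (q.over_def p)).toRingHom.toAlgebra := by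
  have hW : Algebra.WeaklyEtale A B := Groth.Agent.S0736.result A B hB
  have hWF : Algebra.WeaklyEtale p.ResidueField (p.Fiber B) :=
    inferInstanceAs (Algebra.WeaklyEtale p.ResidueField (p.ResidueField ⊗[A] B))
  have hV : IsVNR (p.Fiber B) := isVNR_of_weaklyEtale_field p.ResidueField (p.Fiber B)
  have hred : IsReduced (p.Fiber B) := hV.isReduced
  have hdim : Ring.KrullDimLE 0 (p.Fiber B) := by
    rw [Ring.krullDimLE_zero_iff]
    intro I hI
    exact hV.isMaximal_of_isPrime I hI
  have hN : IsNoetherianRing (p.Fiber B) := by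
    have h1 : IsNoetherianRing (B ⊗[A] p.ResidueField) :=
      Algebra.EssFiniteType.isNoetherianRing B _
    exact isNoetherianRing_of_ringEquiv _
      (Algebra.TensorProduct.comm A B p.ResidueField).toRingEquiv
  have hArt : IsArtinianRing (p.Fiber B) := isArtinianRing_iff_krullDimLE_zero.mpr hdim
  refine ⟨?_, hred, ?_, ?_⟩
  · have hfin : Finite (PrimeSpectrum (p.Fiber B)) := inferInstance
    have e := PrimeSpectrum.preimageEquivFiber A B ⟨p, inferInstance⟩
    have hfin2 : Finite (PrimeSpectrum.comap (algebraMap A B) ⁻¹' {⟨p, inferInstance⟩}) :=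
      Finite.of_equiv _ e.symm
    have hset : {q : PrimeSpectrum B | q.asIdeal.LiesOver p} =
        PrimeSpectrum.comap (algebraMap A B) ⁻¹' {⟨p, inferInstance⟩} := by
      ext q
      simp only [Set.mem_ofPred_eq, Set.mem_preimage, Set.mem_singleton_iff]
      constructor
      · intro h
        ext1
        exact (h.over).symm
      · intro h
        exact ⟨(congrArg PrimeSpectrum.asIdeal h).symm⟩
    rw [hset]
    exact Set.toFinite _
  · exact (Ring.krullDimLE_iff).mp hdim
  · intro q _ _
    let := Localization.AtPrime.algebraOfLiesOver p q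
    have h := Groth.Agent.S1974.result A B p q
    convert h using 1
    apply Algebra.algebra_ext
    intro r
    rfl

end Groth.Agent.S2096
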