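import Groth.Statements.S2097
import Mathlib.RingTheory.Noetherian.Nilpotent
-- import your own Groth.Agent.* helpers here

set_option autoImplicit false
universe u
open CAlg

namespace Groth.Agent.S2097

/-- Let `R → S` be smooth, `A` an `R`-algebra and `I ⊆ A` an ideal all of whose elements are nilpotent.
Every `R`-algebra map `S → A/I` lifts to an `R`-algebra map `S → A`. -/
theorem result {R S A : Type u} [CommRing R] [CommRing S] [Algebra R S] [Algebra.Smooth R S]
    [CommRing A] [Algebra R A] (I : Ideal A) (hI : ∀ x ∈ I, IsNilpotent x) (g : S →ₐ[R] A ⧸ I) :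
    ∃ f : S →ₐ[R] A, (Ideal.Quotient.mkₐ R I).comp f = g := by
  obtain ⟨n, f, hf, hfg⟩ := (inferInstance : Algebra.FinitePresentation R S).out
  -- choose lifts of the images of the variables
  have hsurj : Function.Surjective (Ideal.Quotient.mk I) := Ideal.Quotient.mk_surjective
  choose a ha using fun i : Fin n => hsurj (g (f (MvPolynomial.X i)))
  let φ : MvPolynomial (Fin n) R →ₐ[R] A := MvPolynomial.aeval a
  have hφ : (Ideal.Quotient.mkₐ R I).comp φ = g.comp f := by
    apply MvPolynomial.algHom_ext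
    intro i
    simp [φ, ha]
  let J : Ideal A := Ideal.map φ.toRingHom (RingHom.ker f.toRingHom)
  have hJI : J ≤ I := by
    rw [Ideal.map_le_iff_le_comap]
    intro x hx
    rw [Ideal.mem_comap]
    have h1 : Ideal.Quotient.mk I (φ x) = g (f x) := AlgHom.congr_fun hφ x
    have h2 : f x = 0 := hx
    rw [h2, map_zero] at h1
    exact Ideal.Quotient.eq_zero_iff_mem.mp h1
  have hJfg : J.FG := Ideal.FG.map hfg _
  have hJnil : IsNilpotent J := by
    rw [Ideal.FG.isNilpotent_iff_le_nilradical hJfg]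
    intro x hx
    exact (mem_nilradical).mpr (hI x (hJI hx))
  let ψ : S →ₐ[R] A ⧸ J := AlgHom.liftOfSurjective f hf ((Ideal.Quotient.mkₐ R J).comp φ) (by
    intro x hx
    rw [RingHom.mem_ker]
    change Ideal.Quotient.mk J (φ x) = 0
    rw [Ideal.Quotient.eq_zero_iff_mem]
    exact Ideal.mem_map_of_mem _ hx)
  obtain ⟨ψ', hψ'⟩ := Algebra.FormallySmooth.exists_lift J hJnil ψ
  refine ⟨ψ', ?_⟩
  have h1 : Ideal.Quotient.mkₐ R I = (Ideal.Quotient.factorₐ R hJI).comp (Ideal.Quotient.mkₐ R J) := rfl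
  rw [h1, AlgHom.comp_assoc, hψ']
  apply AlgHom.ext
  intro s
  obtain ⟨x, rfl⟩ := hf s
  have h2 : ψ (f x) = Ideal.Quotient.mk J (φ x) := AlgHom.liftOfSurjective_apply f hf _ _ x
  rw [AlgHom.comp_apply, h2]
  have h3 : Ideal.Quotient.mk I (φ x) = g (f x) := AlgHom.congr_fun hφ x
  rw [← h3]
  rfl

end Groth.Agent.S2097
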