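import Groth.Statements.S2098
import Mathlib.RingTheory.Filtration
import Mathlib.RingTheory.Nakayama
import Mathlib.RingTheory.Noetherian.Orzech
import Mathlib.RingTheory.Finiteness.Cardinality
import Mathlib.LinearAlgebra.Isomorphisms

set_option autoImplicit false
universe u
open CAlg

namespace Groth.Agent.S2098

theorem pi_mem_smul_top {R N : Type*} [CommRing R] [AddCommGroup N] [Module R N] (J : Ideal R)
    {a : ℕ} (y : Fin a → N) (hy : ∀ j, y j ∈ J • (⊤ : Submodule R N)) :
    y ∈ J • (⊤ : Submodule R (Fin a → N)) := by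
  classical
  have : y = ∑ j, LinearMap.single R (fun _ : Fin a => N) j (y j) := by
    funext i
    simp [Finset.sum_apply, Pi.single_apply]
  rw [this]
  refine Submodule.sum_mem _ (fun j _ => ?_)
  have h1 : (J • (⊤ : Submodule R N)).map (LinearMap.single R (fun _ : Fin a => N) j) ≤
      J • (⊤ : Submodule R (Fin a → N)) := by
    rw [Submodule.map_smul'']
    exact Submodule.smul_mono le_rfl le_top
  exact h1 ⟨_, hy j, rfl⟩

theorem proj_mem_smul_top {R N : Type*} [CommRing R] [AddCommGroup N] [Module R N] (J : Ideal R)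
    {a : ℕ} (y : Fin a → N) (hy : y ∈ J • (⊤ : Submodule R (Fin a → N))) (j : Fin a) :
    y j ∈ J • (⊤ : Submodule R N) := by
  have h1 : (J • (⊤ : Submodule R (Fin a → N))).map
      (LinearMap.proj (R := R) (φ := fun _ : Fin a => N) j) ≤ J • (⊤ : Submodule R N) := by
    rw [Submodule.map_smul'']
    exact Submodule.smul_mono le_rfl le_top
  exact h1 ⟨_, hy, rfl⟩

/-- Let `R` be Noetherian, `I` an ideal inside the Jacobson radical and `u : N → M` a map of finite
`R`-modules. If for arbitrarily large `n` the induced map `N/IⁿN → M/IⁿM` has a left inverse, then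
`u` has a left inverse. -/
theorem result {R M N : Type u} [CommRing R] [IsNoetherianRing R] (I : Ideal R)
    (hI : I ≤ (⊥ : Ideal R).jacobson) [AddCommGroup M] [Module R M] [Module.Finite R M] [AddCommGroup N] [Module R N]
    [Module.Finite R N] (u : N →ₗ[R] M)
    (h : ∀ n₀ : ℕ, ∃ n, n₀ ≤ n ∧ ∃ s : (M ⧸ (I ^ n) • (⊤ : Submodule R M)) →ₗ[R] (N ⧸ (I ^ n) • (⊤ : Submodule R N)),
      ∀ x : N, s (Submodule.Quotient.mk (u x)) = Submodule.Quotient.mk x) :
    ∃ s : M →ₗ[R] N, s.comp u = LinearMap.id := by
  classical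
  obtain ⟨b, gm, hgm⟩ := Module.Finite.exists_fin (R := R) (M := M)
  let π : (Fin b → R) →ₗ[R] M := Fintype.linearCombination R gm
  have hπ : Function.Surjective π := by
    rw [← LinearMap.range_eq_top, Fintype.range_linearCombination, hgm]
  have hK : (LinearMap.ker π).FG := IsNoetherian.noetherian _
  obtain ⟨a, ρ, hρ⟩ := Submodule.fg_iff_exists_fin_generating_family.mp hK
  have hρmem : ∀ j, π (ρ j) = 0 := by
    intro j
    have : ρ j ∈ LinearMap.ker π := by
      rw [← hρ]; exact Submodule.subset_span ⟨j, rfl⟩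
    exact this
  let A : (Fin b → N) →ₗ[R] (Fin a → N) :=
    LinearMap.pi (fun j => ∑ k, (ρ j k) • LinearMap.proj k)
  have hA : ∀ x j, A x j = Fintype.linearCombination R x (ρ j) := by
    intro x j
    simp [A, Fintype.linearCombination_apply]
  obtain ⟨c, hc⟩ := Ideal.exists_pow_inf_eq_pow_smul I (LinearMap.range A)
  obtain ⟨n, hn, s, hs⟩ := h (c + 1)
  have hex : ∀ k, ∃ xk : N, (Submodule.Quotient.mk xk : N ⧸ (I ^ n) • (⊤ : Submodule R N)) =
      s (Submodule.Quotient.mk (gm k)) := fun k => Submodule.Quotient.mk_surjective _ _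
  choose x hx using hex
  have hkey : ∀ r : Fin b → R,
      (Submodule.Quotient.mk (Fintype.linearCombination R x r) :
        N ⧸ (I ^ n) • (⊤ : Submodule R N)) = s (Submodule.Quotient.mk (π r)) := by
    intro r
    have hx' : ∀ k, ((I ^ n) • (⊤ : Submodule R N)).mkQ (x k) =
        s (((I ^ n) • (⊤ : Submodule R M)).mkQ (gm k)) := hx
    show ((I ^ n) • (⊤ : Submodule R N)).mkQ (Fintype.linearCombination R x r) =
      s (((I ^ n) • (⊤ : Submodule R M)).mkQ (π r))
    simp only [π, Fintype.linearCombination_apply, map_sum, map_smul, hx']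
  -- A x lies in I^n • ⊤
  have hAx : A x ∈ I ^ n • (⊤ : Submodule R (Fin a → N)) := by
    apply pi_mem_smul_top
    intro j
    rw [hA, ← Submodule.Quotient.mk_eq_zero, hkey, hρmem]
    simp
  have hAx2 : A x ∈ (I ^ (n - c) • (⊤ : Submodule R (Fin b → N))).map A := by
    have h1 : A x ∈ I ^ n • (⊤ : Submodule R (Fin a → N)) ⊓ LinearMap.range A := ⟨hAx, ⟨x, rfl⟩⟩
    rw [hc n (by omega)] at h1
    have h2 : I ^ (n - c) • (I ^ c • (⊤ : Submodule R (Fin a → N)) ⊓ LinearMap.range A) ≤
        I ^ (n - c) • LinearMap.range A := Submodule.smul_mono le_rfl inf_le_right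
    have h3 := h2 h1
    rw [LinearMap.range_eq_map, ← Submodule.map_smul''] at h3
    exact h3
  obtain ⟨y, hy, hAy⟩ := hAx2
  have hIle : I ^ (n - c) ≤ I := Ideal.pow_le_self (by omega)
  have hIle' : I ^ n ≤ I := Ideal.pow_le_self (by omega)
  have hy' : y ∈ I • (⊤ : Submodule R (Fin b → N)) := Submodule.smul_mono_left hIle hy
  let z : Fin b → N := x - y
  have hAz : A z = 0 := by
    show A (x - y) = 0
    rw [map_sub, hAy, sub_self]
  have hle : LinearMap.ker π ≤ LinearMap.ker (Fintype.linearCombination R z) := by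
    rw [← hρ, Submodule.span_le]
    rintro _ ⟨j, rfl⟩
    show Fintype.linearCombination R z (ρ j) = 0
    rw [← hA, hAz]; rfl
  let st : M →ₗ[R] N := (Submodule.liftQ (LinearMap.ker π) (Fintype.linearCombination R z) hle) ∘ₗ
    (π.quotKerEquivOfSurjective hπ).symm.toLinearMap
  have hst : ∀ r, st (π r) = Fintype.linearCombination R z r := by
    intro r
    have : (π.quotKerEquivOfSurjective hπ).symm (π r) = Submodule.Quotient.mk r := by
      rw [LinearEquiv.symm_apply_eq]
      rfl
    show Submodule.liftQ _ _ hle ((π.quotKerEquivOfSurjective hπ).symm (π r)) = _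
    rw [this, Submodule.liftQ_apply]
  let t : N →ₗ[R] N := st ∘ₗ u
  have ht : ∀ ν, t ν - ν ∈ I • (⊤ : Submodule R N) := by
    intro ν
    obtain ⟨r, hr⟩ := hπ (u ν)
    have e1 : t ν = Fintype.linearCombination R x r - Fintype.linearCombination R y r := by
      show st (u ν) = _
      rw [← hr, hst]
      simp only [z, Fintype.linearCombination_apply, Pi.sub_apply, smul_sub,
        Finset.sum_sub_distrib]
    have e2 : Fintype.linearCombination R y r ∈ I • (⊤ : Submodule R N) := by
      rw [Fintype.linearCombination_apply]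
      exact Submodule.sum_mem _ (fun k _ => Submodule.smul_mem _ _ (proj_mem_smul_top I y hy' k))
    have e3 : Fintype.linearCombination R x r - ν ∈ I • (⊤ : Submodule R N) := by
      have : Fintype.linearCombination R x r - ν ∈ I ^ n • (⊤ : Submodule R N) := by
        rw [← Submodule.Quotient.mk_eq_zero, Submodule.Quotient.mk_sub, hkey, hr, hs, sub_self]
      exact Submodule.smul_mono_left hIle' this
    have : t ν - ν = (Fintype.linearCombination R x r - ν) - Fintype.linearCombination R y r := by
      rw [e1]; abel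
    rw [this]
    exact Submodule.sub_mem _ e3 e2
  have htop : (⊤ : Submodule R N) ≤ LinearMap.range t := by
    apply Submodule.le_of_le_smul_of_le_jacobson_bot Module.Finite.fg_top hI
    intro ν _
    rw [Submodule.mem_sup]
    refine ⟨t ν, ⟨ν, rfl⟩, -(t ν - ν), Submodule.neg_mem _ (ht ν), by abel⟩
  have htsurj : Function.Surjective t := LinearMap.range_eq_top.mp (top_le_iff.mp htop)
  have htinj : Function.Injective t := IsNoetherian.injective_of_surjective_endomorphism t htsurj
  let e : N ≃ₗ[R] N := LinearEquiv.ofBijective t ⟨htinj, htsurj⟩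
  refine ⟨e.symm.toLinearMap ∘ₗ st, ?_⟩
  ext ν
  show e.symm (st (u ν)) = ν
  rw [LinearEquiv.symm_apply_eq]
  rfl

end Groth.Agent.S2098
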