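import Groth.Statements.S2099
import Mathlib
import Groth.Agent.Lib.Helper90.PSUniv
import Groth.Agent.S10826

set_option autoImplicit false
universe u
open CAlg

namespace Groth.Agent.S2099.Aux

set_option autoImplicit false
set_option linter.style.haveILetI false

open MvPowerSeries Groth.Agent.Lib.Helper90

section jet
variable {R S : Type u} [CommRing R] [CommRing S] [Algebra R S] (σ : S →ₐ[R] R) {d : ℕ}
  (e : (RingHom.ker σ.toRingHom).Cotangent ≃ₗ[R] (Fin d → R))

/-- `s - σ s` as an element of the kernel -/
def dl (s : S) : ↥(RingHom.ker σ.toRingHom) :=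
  ⟨s - algebraMap R S (σ s), by
    rw [RingHom.mem_ker]
    change σ (s - algebraMap R S (σ s)) = 0
    rw [map_sub, AlgHom.commutes, Algebra.algebraMap_self_apply, sub_self]⟩

theorem dl_add (s t : S) : dl σ (s + t) = dl σ s + dl σ t := by
  apply Subtype.ext
  simp only [dl, map_add, Submodule.coe_add]
  ring

theorem dl_smul (r : R) (s : S) : dl σ (r • s) = r • dl σ s := by
  apply Subtype.ext
  simp only [dl, map_smul, smul_eq_mul, Submodule.coe_smul_of_tower, map_mul, smul_sub]
  rw [Algebra.smul_def r (algebraMap R S (σ s))]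

theorem dl_algebraMap (r : R) : dl σ (algebraMap R S r) = 0 := by
  apply Subtype.ext
  simp [dl]

theorem dl_mul (s t : S) : (dl σ (s * t) : S)
    = (dl σ s : S) * (dl σ t : S) + (σ s • dl σ t : ↥(RingHom.ker σ.toRingHom))
      + (σ t • dl σ s : ↥(RingHom.ker σ.toRingHom)) := by
  simp only [dl, map_mul, Submodule.coe_smul_of_tower, Algebra.smul_def]
  ring

/-- the linear coordinates -/
noncomputable def ell (s : S) : Fin d → R := e ((RingHom.ker σ.toRingHom).toCotangent (dl σ s))

theorem ell_add (s t : S) : ell σ e (s + t) = ell σ e s + ell σ e t := by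
  simp only [ell, dl_add, map_add]

theorem ell_algebraMap (r : R) : ell σ e (algebraMap R S r) = 0 := by
  simp only [ell, dl_algebraMap, map_zero]

theorem ell_mul (s t : S) : ell σ e (s * t) = σ s • ell σ e t + σ t • ell σ e s := by
  have h : dl σ (s * t) = (⟨(dl σ s : S) * (dl σ t : S),
      Ideal.mul_mem_left _ _ (dl σ t).2⟩ : ↥(RingHom.ker σ.toRingHom))
      + σ s • dl σ t + σ t • dl σ s := by
    apply Subtype.ext
    rw [dl_mul]
    rfl
  have h0 : (RingHom.ker σ.toRingHom).toCotangent (⟨(dl σ s : S) * (dl σ t : S),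
      Ideal.mul_mem_left _ _ (dl σ t).2⟩ : ↥(RingHom.ker σ.toRingHom)) = 0 := by
    rw [Ideal.toCotangent_eq_zero, pow_two]
    exact Ideal.mul_mem_mul (dl σ s).2 (dl σ t).2
  have h1 : (RingHom.ker σ.toRingHom).toCotangent (dl σ (s * t))
      = σ s • (RingHom.ker σ.toRingHom).toCotangent (dl σ t)
        + σ t • (RingHom.ker σ.toRingHom).toCotangent (dl σ s) := by
    rw [h, map_add, map_add, h0, zero_add, LinearMap.map_smul_of_tower,
      LinearMap.map_smul_of_tower]
  simp only [ell]
  rw [h1, map_add, map_smul, map_smul]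

/-- linear form `∑ v i X i` -/
noncomputable def lin (v : Fin d → R) : MvPowerSeries (Fin d) R := ∑ i, C (v i) * X i

theorem lin_add (v w : Fin d → R) : lin (v + w) = lin v + lin w := by
  simp only [lin, Pi.add_apply, map_add, add_mul, Finset.sum_add_distrib]

theorem lin_smul (r : R) (v : Fin d → R) : lin (r • v) = C r * lin v := by
  simp only [lin, Pi.smul_apply, smul_eq_mul, map_mul, Finset.mul_sum, mul_assoc]

theorem lin_zero : lin (0 : Fin d → R) = 0 := by
  simp [lin]

theorem lin_mem (v : Fin d → R) :
    lin v ∈ Ideal.span (Set.range (X : Fin d → MvPowerSeries (Fin d) R)) :=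
  Ideal.sum_mem _ fun i _ => Ideal.mul_mem_left _ _ (Ideal.subset_span ⟨i, rfl⟩)

theorem constantCoeff_lin (v : Fin d → R) : constantCoeff (lin v) = 0 := by
  simp [lin]

theorem coeff_single_lin (v : Fin d → R) (j : Fin d) :
    coeff (Finsupp.single j 1) (lin v) = v j := by
  classical
  simp only [lin, map_sum, coeff_C_mul, coeff_X]
  rw [Finset.sum_eq_single j]
  · simp
  · intro i _ hij
    rw [if_neg, mul_zero]
    intro h
    exact hij (Finsupp.single_left_injective one_ne_zero h).symm
  · simp

/-- the 2-jet -/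
noncomputable def LL (s : S) : MvPowerSeries (Fin d) R := C (σ s) + lin (ell σ e s)

theorem LL_mul_sub (s t : S) : LL σ e s * LL σ e t - LL σ e (s * t)
    = lin (ell σ e s) * lin (ell σ e t) := by
  simp only [LL, ell_mul, lin_add, lin_smul, map_mul]
  ring

noncomputable def jet2 : S →ₐ[R] (MvPowerSeries (Fin d) R ⧸
    (Ideal.span (Set.range (X : Fin d → MvPowerSeries (Fin d) R))) ^ 2) where
  toFun s := Ideal.Quotient.mk _ (LL σ e s)
  map_one' := by
    have : LL σ e (1 : S) = 1 := by
      have h1 : (1 : S) = algebraMap R S 1 := (map_one _).symm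
      simp only [LL]
      rw [h1, ell_algebraMap, lin_zero, add_zero, AlgHom.commutes]
      simp
    rw [this, map_one]
  map_mul' s t := by
    rw [← map_mul, eq_comm, Ideal.Quotient.eq, LL_mul_sub, pow_two]
    exact Ideal.mul_mem_mul (lin_mem _) (lin_mem _)
  map_zero' := by
    have : LL σ e (0 : S) = 0 := by
      have h1 : (0 : S) = algebraMap R S 0 := (map_zero _).symm
      simp only [LL]
      rw [h1, ell_algebraMap, lin_zero, add_zero, AlgHom.commutes]
      simp
    rw [this, map_zero]
  map_add' s t := by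
    rw [← map_add]
    congr 1
    simp only [LL, ell_add, lin_add, map_add]
    ring
  commutes' r := by
    simp only [LL]
    rw [ell_algebraMap, lin_zero, add_zero, AlgHom.commutes]
    rfl

theorem exists_theta [Algebra.FormallySmooth R S] :
    ∃ θ : S →ₐ[R] MvPowerSeries (Fin d) R,
      (∀ s, constantCoeff (θ s) = σ s) ∧
      (∀ s j, coeff (Finsupp.single j 1) (θ s) = ell σ e s j) := by
  haveI : IsAdicComplete ((Ideal.span (Set.range (X : Fin d → MvPowerSeries (Fin d) R))) ^ 2)
      (MvPowerSeries (Fin d) R) := PSUniv.isAdicComplete_pow _ 2 (by norm_num)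
  obtain ⟨θ, hθ⟩ := Algebra.FormallySmooth.exists_mkₐ_comp_eq_of_isAdicComplete (jet2 σ e)
  have hmem : ∀ s, θ s - LL σ e s ∈
      (Ideal.span (Set.range (X : Fin d → MvPowerSeries (Fin d) R))) ^ 2 := by
    intro s
    have := congrArg (fun g => g s) hθ
    simp only [AlgHom.comp_apply, Ideal.Quotient.mkₐ_eq_mk] at this
    exact Ideal.Quotient.eq.mp this
  refine ⟨θ, fun s => ?_, fun s j => ?_⟩
  · have h := PSUniv.coeff_eq_zero_of_mem_pow (hmem s) (d := 0) (by simp)
    rw [map_sub, sub_eq_zero] at h
    rw [← coeff_zero_eq_constantCoeff_apply, h, coeff_zero_eq_constantCoeff_apply]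
    simp [LL, constantCoeff_lin]
  · have h := PSUniv.coeff_eq_zero_of_mem_pow (hmem s) (d := Finsupp.single j 1) (by simp)
    rw [map_sub, sub_eq_zero] at h
    rw [h]
    simp only [LL, map_add, coeff_single_lin]
    rw [coeff_C, if_neg, zero_add]
    intro h0
    have := congrArg (fun f => f j) h0
    simp at this

end jet

section main
variable {R S : Type u} [CommRing R] [CommRing S] [Algebra R S]

theorem main [Algebra.Smooth R S] (σ : S →ₐ[R] R) (d : ℕ)
    (e : (RingHom.ker σ.toRingHom).Cotangent ≃ₗ[R] (Fin d → R)) :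
    Nonempty (AdicCompletion (RingHom.ker σ.toRingHom) S ≃ₐ[R] MvPowerSeries (Fin d) R) := by
  classical
  set I := RingHom.ker σ.toRingHom with hI
  have hσsurj : Function.Surjective σ := fun r => ⟨algebraMap R S r, by simp⟩
  have hIfg : I.FG := Algebra.FinitePresentation.ker_fG_of_surjective σ hσsurj
  set Ihat : Ideal (AdicCompletion I S) := I.map (algebraMap S (AdicCompletion I S)) with hIhat
  haveI hcomp : IsAdicComplete Ihat (AdicCompletion I S) := by
    have h1 : IsAdicComplete I (AdicCompletion I S) := AdicCompletion.isAdicComplete hIfg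
    exact (IsAdicComplete.map_algebraMap_iff (I := I) (S := AdicCompletion I S)
      (M := AdicCompletion I S)).mpr h1
  -- generators
  have hs : ∀ i : Fin d, ∃ s : ↥I, e (I.toCotangent s) = Pi.single i 1 := fun i => by
    obtain ⟨s, hs⟩ := Ideal.toCotangent_surjective I (e.symm (Pi.single i 1))
    exact ⟨s, by rw [hs, LinearEquiv.apply_symm_apply]⟩
  choose s hs using hs
  let x : Fin d → AdicCompletion I S := fun i => algebraMap S _ (s i : S)
  have hx : ∀ i, x i ∈ Ihat := fun i => Ideal.mem_map_of_mem _ (s i).2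
  obtain ⟨ψ, hψ1, hψ2⟩ := PSUniv.exists_eval (B := R) Ihat x hx
  have hψX : ∀ i, ψ (X i) = x i := by
    intro i
    have := hψ1 (MvPolynomial.X i)
    rwa [MvPolynomial.coe_X, MvPolynomial.aeval_X] at this
  have hψC : ∀ r : R, ψ (C r) = algebraMap S (AdicCompletion I S) (algebraMap R S r) := by
    intro r
    have : (C r : MvPowerSeries (Fin d) R) = algebraMap R (MvPowerSeries (Fin d) R) r := rfl
    rw [this, AlgHom.commutes, IsScalarTower.algebraMap_apply R S (AdicCompletion I S)]
  -- the kernel of evalOne
  have hker : RingHom.ker (AdicCompletion.evalOneₐ I).toRingHom = Ihat :=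
    AdicCompletion.ker_evalOneₐ_eq_map I hIfg
  have hev1 : ∀ y : S, AdicCompletion.evalOneₐ I (algebraMap S (AdicCompletion I S) y)
      = Ideal.Quotient.mk I y := fun y => (AdicCompletion.evalOneₐ I).commutes y
  -- surjectivity
  have hsurj : Function.Surjective ψ := by
    have := PSUniv.surjective_of_complete ψ.toRingHom
      (Ideal.span (Set.range (X : Fin d → MvPowerSeries (Fin d) R))) Ihat ?_ ?_ ?_
    · exact this
    · intro a
      obtain ⟨t, ht⟩ := Ideal.Quotient.mk_surjective (AdicCompletion.evalOneₐ I a)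
      refine ⟨C (σ t), ?_⟩
      change a - ψ (C (σ t)) ∈ Ihat
      rw [hψC, ← hker, RingHom.mem_ker]
      change AdicCompletion.evalOneₐ I (a - _) = 0
      rw [map_sub, hev1, ← ht, ← map_sub, Ideal.Quotient.eq_zero_iff_mem]
      exact (dl σ t).2
    · -- Nakayama
      have hNx : Ideal.map ψ.toRingHom (Ideal.span (Set.range (X : Fin d → MvPowerSeries (Fin d) R)))
          = Ideal.span (Set.range x) := by
        rw [Ideal.map_span, ← Set.range_comp]
        congr 1
        ext y
        constructor
        · rintro ⟨i, rfl⟩; exact ⟨i, (hψX i).symm⟩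
        · rintro ⟨i, rfl⟩; exact ⟨i, hψX i⟩
      rw [hNx]
      refine Submodule.le_of_le_smul_of_le_jacobson_bot (I := Ihat) (Ideal.FG.map hIfg _)
        (IsAdicComplete.le_jacobson_bot Ihat) ?_
      rw [hIhat, Ideal.map_le_iff_le_comap]
      intro y hy
      rw [Ideal.mem_comap]
      -- y ∈ I
      set c : Fin d → R := e (I.toCotangent ⟨y, hy⟩) with hc
      have hz : y - ∑ i, algebraMap R S (c i) * (s i : S) ∈ I ^ 2 := by
        have h1 : I.toCotangent (⟨y, hy⟩ - ∑ i, c i • s i) = 0 := by
          apply e.injective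
          rw [map_sub, map_sub, map_sum, map_sum, map_zero]
          simp only [LinearMap.map_smul_of_tower, map_smul, hs]
          rw [sub_eq_zero, hc]
          ext j
          simp [Finset.sum_apply, Pi.single_apply]
        rw [Ideal.toCotangent_eq_zero] at h1
        convert h1 using 1
        simp [Algebra.smul_def]
      have e1 : algebraMap S (AdicCompletion I S) y
          = ∑ i, algebraMap S (AdicCompletion I S) (algebraMap R S (c i)) * x i
            + algebraMap S (AdicCompletion I S) (y - ∑ i, algebraMap R S (c i) * (s i : S)) := by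
        simp only [map_sub, map_sum, map_mul, x]
        ring
      rw [e1]
      refine Submodule.add_mem_sup ?_ ?_
      · exact Ideal.sum_mem _ fun i _ => Ideal.mul_mem_left _ _ (Ideal.subset_span ⟨i, rfl⟩)
      · have : algebraMap S (AdicCompletion I S) (y - ∑ i, algebraMap R S (c i) * (s i : S))
            ∈ Ideal.map (algebraMap S (AdicCompletion I S)) (I ^ 2) := Ideal.mem_map_of_mem _ hz
        rw [Ideal.map_pow, pow_two] at this
        exact this
    · rw [Ideal.map_span, Ideal.span_le]
      rintro _ ⟨_, ⟨i, rfl⟩, rfl⟩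
      change ψ (X i) ∈ Ihat
      rw [hψX i]
      exact hx i
  -- the comparison map
  obtain ⟨θ, hθ0, hθ1⟩ := exists_theta σ e
  let y : Fin d → MvPowerSeries (Fin d) R := fun i => θ (s i : S)
  have hσs : ∀ i, σ (s i : S) = 0 := fun i => (s i).2
  have hy0 : ∀ i, constantCoeff (y i) = 0 := fun i => by rw [hθ0, hσs]
  have hθJ : ∀ t : S, t ∈ I → θ t ∈ Ideal.span (Set.range (X : Fin d → MvPowerSeries (Fin d) R)) := by
    intro t ht
    apply PSInv.mem_span_range_X_of_constantCoeff_eq_zero
    rw [hθ0]
    exact ht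
  have hyJ : ∀ i, y i ∈ Ideal.span (Set.range (X : Fin d → MvPowerSeries (Fin d) R)) :=
    fun i => hθJ _ (s i).2
  obtain ⟨Φ, hΦ1, hΦ2⟩ := PSUniv.exists_eval (B := R)
    (Ideal.span (Set.range (X : Fin d → MvPowerSeries (Fin d) R))) y hyJ
  have hΦX : ∀ i, Φ (X i) = y i := by
    intro i
    have := hΦ1 (MvPolynomial.X i)
    rwa [MvPolynomial.coe_X, MvPolynomial.aeval_X] at this
  have hΦbij : Function.Bijective Φ := by
    apply Groth.Agent.S10826.Aux.main Φ (fun i => by rw [hΦX]; exact hy0 i)
    have hM : (Matrix.of fun i j : Fin d => coeff (Finsupp.single j 1) (Φ (X i)))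
        = (1 : Matrix (Fin d) (Fin d) R) := by
      ext i j
      simp only [Matrix.of_apply]
      rw [hΦX, hθ1]
      have hdl : dl σ (s i : S) = s i := by
        apply Subtype.ext
        simp [dl, hσs]
      simp only [ell]
      rw [hdl, hs, Matrix.one_apply, Pi.single_apply]
      simp [eq_comm]
    rw [hM, Matrix.det_one]
    exact isUnit_one
  -- injectivity
  have hinj : Function.Injective ψ := by
    rw [injective_iff_map_eq_zero]
    intro f hf
    apply hΦbij.1
    rw [map_zero]
    refine IsHausdorff.haus' (I := Ideal.span (Set.range (X : Fin d → MvPowerSeries (Fin d) R)))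
      _ fun n => ?_
    rw [SModEq.zero]
    simp only [smul_eq_mul, Ideal.mul_top]
    obtain ⟨p, hp⟩ := PSUniv.exists_trunc n f
    have hr1 := hψ2 n _ hp
    have hr2 := hΦ2 n _ hp
    set q : S := MvPolynomial.aeval (fun i => (s i : S)) p with hq
    have hψp : ψ (p : MvPowerSeries (Fin d) R) = algebraMap S (AdicCompletion I S) q := by
      rw [hψ1, hq]
      have := MvPolynomial.comp_aeval_apply (f := fun i => (s i : S))
        (IsScalarTower.toAlgHom R S (AdicCompletion I S)) p
      simpa using this.symm
    have hqmem : algebraMap S (AdicCompletion I S) q ∈ Ihat ^ n := by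
      rw [← hψp]
      have : ψ (p : MvPowerSeries (Fin d) R) = - ψ (f - p) := by
        rw [map_sub, hf]; ring
      rw [this]
      exact Ideal.neg_mem_iff _ |>.mpr hr1
    have hqI : q ∈ I ^ n := by
      rw [hIhat, ← Ideal.map_pow] at hqmem
      have hle : Ideal.map (algebraMap S (AdicCompletion I S)) (I ^ n)
          ≤ RingHom.ker (AdicCompletion.evalₐ I n).toRingHom := by
        rw [Ideal.map_le_iff_le_comap]
        intro t ht
        rw [Ideal.mem_comap, RingHom.mem_ker]
        change AdicCompletion.evalₐ I n (algebraMap S (AdicCompletion I S) t) = 0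
        rw [AlgHom.commutes]
        exact Ideal.Quotient.eq_zero_iff_mem.mpr ht
      have h2 := hle hqmem
      rw [RingHom.mem_ker] at h2
      change AdicCompletion.evalₐ I n (algebraMap S (AdicCompletion I S) q) = 0 at h2
      rw [AlgHom.commutes] at h2
      exact Ideal.Quotient.eq_zero_iff_mem.mp h2
    have hθq : θ q ∈ Ideal.span (Set.range (X : Fin d → MvPowerSeries (Fin d) R)) ^ n := by
      have h1 : θ q ∈ Ideal.map θ.toRingHom (I ^ n) := Ideal.mem_map_of_mem _ hqI
      rw [Ideal.map_pow] at h1
      refine Ideal.pow_right_mono ?_ n h1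
      rw [Ideal.map_le_iff_le_comap]
      intro t ht
      exact hθJ t ht
    have hΦp : Φ (p : MvPowerSeries (Fin d) R) = θ q := by
      rw [hΦ1, hq, MvPolynomial.comp_aeval_apply]
    have : Φ f = Φ (p : MvPowerSeries (Fin d) R) + Φ (f - p) := by
      rw [← map_add]; congr 1; ring
    rw [this, hΦp]
    exact Ideal.add_mem _ hθq hr2
  exact ⟨(AlgEquiv.ofBijective ψ ⟨hinj, hsurj⟩).symm⟩

end main

end Groth.Agent.S2099.Aux

namespace Groth.Agent.S2099

/-- Let `R → S` be smooth with an `R`-algebra retraction `σ : S → R` and `I = ker σ`. If `I/I²` is free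
of rank `d` over `R`, then the `I`-adic completion of `S` is isomorphic as an `R`-algebra to the
power series ring in `d` variables over `R`. -/
theorem result {R S : Type u} [CommRing R] [CommRing S] [Algebra R S]
    [Algebra.Smooth R S] (σ : S →ₐ[R] R) (d : ℕ)
    (e : (RingHom.ker σ.toRingHom).Cotangent ≃ₗ[R] (Fin d → R)) :
    Nonempty (AdicCompletion (RingHom.ker σ.toRingHom) S ≃ₐ[R] MvPowerSeries (Fin d) R) := by
  exact Aux.main σ d e

end Groth.Agent.S2099
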