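import Groth.Statements.S2100
import Mathlib

open private NoetherNormalization.T_leadingcoeff_isUnit NoetherNormalization.T from Mathlib.RingTheory.NoetherNormalization

set_option autoImplicit false
universe u
open CAlg

namespace Groth.Agent.S2100


section Trdeg
variable {k : Type u} [Field k]

lemma faithful_of_field (D : Type u) [CommRing D] [Nontrivial D] [Algebra k D] : FaithfulSMul k D :=
  (faithfulSMul_iff_algebraMap_injective k D).mpr (algebraMap k D).injective

lemma trdeg_fraction (D K : Type u) [CommRing D] [IsDomain D] [Field K] [Algebra k D] [Algebra D K]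
    [Algebra k K] [IsScalarTower k D K] [IsFractionRing D K] :
    Algebra.trdeg k K = Algebra.trdeg k D := by
  have h1 : FaithfulSMul k D := faithful_of_field D
  have h2 : FaithfulSMul D K := (faithfulSMul_iff_algebraMap_injective D K).mpr
    (IsFractionRing.injective D K)
  have h3 : Algebra.IsAlgebraic D K := IsLocalization.isAlgebraic K (nonZeroDivisors D)
  rw [← trdeg_add_eq k D (A := K), trdeg_eq_zero (R := D) (A := K), add_zero]

lemma trdeg_quotient_eq {R R' : Type u} [CommRing R] [CommRing R'] [Algebra k R] [Algebra k R']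
    (g : R →ₐ[k] R') (hg : g.toRingHom.IsIntegral) (p' : Ideal R') [p'.IsPrime] :
    Algebra.trdeg k (R ⧸ p'.comap g) = Algebra.trdeg k (R' ⧸ p') := by
  set p := p'.comap g with hp
  have hpp : p.IsPrime := Ideal.comap_isPrime g p'
  let gbar : (R ⧸ p) →ₐ[k] (R' ⧸ p') := Ideal.quotientMapₐ p' g le_rfl
  have hinj : Function.Injective gbar := Ideal.quotientMap_injective
  have hint : gbar.toRingHom.IsIntegral := RingHom.IsIntegral.quotient g.toRingHom hg
  let _ : Algebra (R ⧸ p) (R' ⧸ p') := gbar.toRingHom.toAlgebra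
  have : IsScalarTower k (R ⧸ p) (R' ⧸ p') := IsScalarTower.of_algebraMap_eq fun c =>
    (gbar.commutes c).symm
  have h1 : FaithfulSMul k (R ⧸ p) := faithful_of_field _
  have h2 : FaithfulSMul (R ⧸ p) (R' ⧸ p') := (faithfulSMul_iff_algebraMap_injective _ _).mpr hinj
  have h3 : Algebra.IsIntegral (R ⧸ p) (R' ⧸ p') := ⟨hint⟩
  rw [← trdeg_add_eq k (R ⧸ p) (A := R' ⧸ p'), trdeg_eq_zero (R := R ⧸ p), add_zero]

lemma finite_of_integral {R R' : Type u} [CommRing R] [CommRing R'] [Algebra k R] [Algebra k R']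
    [Algebra.FiniteType k R'] (g : R →ₐ[k] R') (hg : g.toRingHom.IsIntegral) :
    g.toRingHom.Finite := by
  have h : algebraMap k R' = g.toRingHom.comp (algebraMap k R) := by
    ext c; simp
  have hft : (algebraMap k R').FiniteType := RingHom.finiteType_algebraMap.mpr inferInstance
  exact hg.to_finite (h ▸ hft).of_comp_finiteType

end Trdeg



section Poly
open Polynomial

lemma aeval_isIntegral {S : Type u} [CommRing S] [Nontrivial S] (F : Polynomial S)
    (hu : IsUnit F.leadingCoeff) (hd : 0 < F.natDegree) :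
    (Polynomial.aeval F : Polynomial S →ₐ[S] Polynomial S).toRingHom.IsIntegral := by
  set ρ : Polynomial S →+* Polynomial S := (Polynomial.aeval F : Polynomial S →ₐ[S] Polynomial S).toRingHom
    with hρ
  have hρC : ∀ a : S, ρ (C a) = C a := fun a => by simp [hρ]
  have hρX : ρ X = F := by simp [hρ]
  have hX : ρ.IsIntegralElem X := by
    set u : S := ↑hu.unit⁻¹ with hu'
    set G : Polynomial S := u • F with hG
    have hGm : G.Monic := monic_of_isUnit_leadingCoeff_inv_smul hu
    have hGd : G.natDegree = F.natDegree := by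
      rw [hG]
      exact natDegree_smul_of_smul_regular F (IsSMulRegular.of_mul_eq_one (a := (hu.unit : S)) (by simp [hu']))
    refine ⟨G.map C - C (C u * X), ?_, ?_⟩
    · apply Monic.sub_of_left (hGm.map C)
      calc (C (C u * X) : Polynomial (Polynomial S)).degree ≤ 0 := degree_C_le
        _ < (G.map C).degree := by
          rw [degree_map_eq_of_injective C_injective, degree_eq_natDegree hGm.ne_zero, hGd]
          exact_mod_cast hd
    · rw [eval₂_sub, eval₂_map, eval₂_C, map_mul, hρC, hρX]
      have : ρ.comp C = C := by ext a; simp [hρC]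
      rw [this, eval₂_C_X, hG, smul_eq_C_mul, sub_self]
  have hXn : ∀ n : ℕ, ρ.IsIntegralElem (X ^ n) := by
    intro n
    induction n with
    | zero =>
      rw [pow_zero, ← map_one ρ]; exact ρ.isIntegralElem_map
    | succ n ih =>
      rw [pow_succ]; exact RingHom.IsIntegralElem.mul ρ ih hX
  intro x
  induction x using Polynomial.induction_on' with
  | add p q hp hq => exact RingHom.IsIntegralElem.add ρ hp hq
  | monomial n a =>
    rw [← C_mul_X_pow_eq_monomial]
    apply RingHom.IsIntegralElem.mul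
    · rw [← hρC a]; exact ρ.isIntegralElem_map
    · exact hXn n
end Poly

section LemmaA
open MvPolynomial
variable {k : Type u} [Field k]

lemma exists_integral_X0 {n : ℕ} (f : MvPolynomial (Fin (n + 1)) k) (hf : f ≠ 0) (hfu : ¬ IsUnit f) :
    ∃ φ₁ : MvPolynomial (Fin (n + 1)) k →ₐ[k] MvPolynomial (Fin (n + 1)) k,
      φ₁.toRingHom.IsIntegral ∧ φ₁ (X 0) = f := by
  set T := NoetherNormalization.T f with hT
  have hu := NoetherNormalization.T_leadingcoeff_isUnit f hf
  set e := finSuccEquiv k n with he
  set F := e (T f) with hF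
  have hd : 0 < F.natDegree := by
    by_contra h0
    have h0' : F.natDegree = 0 := by omega
    apply hfu
    have h1 : F = Polynomial.C F.leadingCoeff := by
      conv_lhs => rw [Polynomial.eq_C_of_natDegree_eq_zero h0']
      rw [Polynomial.leadingCoeff, h0']
    have h2 : IsUnit F := by rw [h1]; exact hu.map Polynomial.C
    have h3 : IsUnit (T f) := by
      have := h2.map e.symm
      simpa [hF] using this
    have := h3.map T.symm
    simpa using this
  let ρ : Polynomial (MvPolynomial (Fin n) k) →ₐ[k] Polynomial (MvPolynomial (Fin n) k) :=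
    (Polynomial.aeval F : _ →ₐ[MvPolynomial (Fin n) k] _).restrictScalars k
  refine ⟨T.symm.toAlgHom.comp (e.symm.toAlgHom.comp (ρ.comp e.toAlgHom)), ?_, ?_⟩
  · have hρ : ρ.toRingHom.IsIntegral := aeval_isIntegral F hu hd
    have h1 : e.toAlgHom.toRingHom.IsIntegral :=
      RingHom.isIntegral_of_surjective _ e.surjective
    have h2 : e.symm.toAlgHom.toRingHom.IsIntegral :=
      RingHom.isIntegral_of_surjective _ e.symm.surjective
    have h3 : T.symm.toAlgHom.toRingHom.IsIntegral :=
      RingHom.isIntegral_of_surjective _ T.symm.surjective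
    exact ((h1.trans _ _ hρ).trans _ _ h2).trans _ _ h3
  · simp only [AlgHom.coe_comp, AlgEquiv.coe_toAlgHom, Function.comp_apply]
    have h1 : e (X 0) = Polynomial.X := by rw [he, finSuccEquiv_X_zero]
    have h2 : ρ Polynomial.X = F := by simp [ρ]
    rw [h1, h2, hF, AlgEquiv.symm_apply_apply, AlgEquiv.symm_apply_apply]

end LemmaA



section Retract
open MvPolynomial
variable {k : Type u} [Field k] {σ τ : Type}

lemma sub_rename_mem (e : τ → σ) (a : σ) (he : ∀ s : σ, s = a ∨ ∃ t, s = e t)
    (ε : MvPolynomial σ k →ₐ[k] MvPolynomial τ k) (hεa : ε (X a) = 0)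
    (hεe : ∀ t, ε (X (e t)) = X t) (g : MvPolynomial σ k) :
    g - rename e (ε g) ∈ Ideal.span {(X a : MvPolynomial σ k)} := by
  induction g using MvPolynomial.induction_on with
  | C c =>
    have : ε (C c) = C c := by
      rw [← MvPolynomial.algebraMap_eq, AlgHom.commutes, MvPolynomial.algebraMap_eq]
    rw [this, rename_C, sub_self]
    exact Ideal.zero_mem _
  | add p q hp hq =>
    have : p + q - rename e (ε (p + q)) = (p - rename e (ε p)) + (q - rename e (ε q)) := by
      rw [map_add, map_add]; ring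
    rw [this]
    exact Ideal.add_mem _ hp hq
  | mul_X p s hp =>
    have hs : X s - rename e (ε (X s)) ∈ Ideal.span {(X a : MvPolynomial σ k)} := by
      rcases he s with rfl | ⟨t, rfl⟩
      · rw [hεa, map_zero, sub_zero]
        exact Ideal.subset_span rfl
      · rw [hεe, rename_X, sub_self]
        exact Ideal.zero_mem _
    have : p * X s - rename e (ε (p * X s)) =
        (p - rename e (ε p)) * X s + rename e (ε p) * (X s - rename e (ε (X s))) := by
      rw [map_mul, map_mul]; ring
    rw [this]
    exact Ideal.add_mem _ (Ideal.mul_mem_right _ _ hp) (Ideal.mul_mem_left _ _ hs)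

lemma eq_comap_comap (e : τ → σ) (a : σ) (he : ∀ s : σ, s = a ∨ ∃ t, s = e t)
    (ε : MvPolynomial σ k →ₐ[k] MvPolynomial τ k) (hεa : ε (X a) = 0)
    (hεe : ∀ t, ε (X (e t)) = X t) (Q : Ideal (MvPolynomial σ k)) (hQ : X a ∈ Q) :
    Q = (Q.comap (rename e : MvPolynomial τ k →ₐ[k] MvPolynomial σ k)).comap ε := by
  ext g
  rw [Ideal.mem_comap, Ideal.mem_comap]
  have h1 : g - rename e (ε g) ∈ Q :=
    (Ideal.span_le.mpr (Set.singleton_subset_iff.mpr hQ)) (sub_rename_mem e a he ε hεa hεe g)
  constructor
  · intro hg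
    have := Q.sub_mem hg h1
    rwa [sub_sub_cancel] at this
  · intro hg
    have := Q.add_mem h1 hg
    rwa [sub_add_cancel] at this

end Retract

section Ext
open MvPolynomial
variable {k : Type u} [Field k] {n : ℕ}

/-- evaluation `X 0 ↦ 0`, `X (succ i) ↦ X i`. -/
noncomputable def eps0 : MvPolynomial (Fin (n + 1)) k →ₐ[k] MvPolynomial (Fin n) k :=
  aeval (Fin.cases 0 X)

/-- evaluation `X last ↦ 0`, `X (castSucc i) ↦ X i`. -/
noncomputable def epsLast : MvPolynomial (Fin (n + 1)) k →ₐ[k] MvPolynomial (Fin n) k :=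
  aeval (Fin.lastCases 0 X)

/-- extension of `ψ`: `X last ↦ X 0`, `X (castSucc i) ↦ ι (ψ (X i))`. -/
noncomputable def extd (ψ : MvPolynomial (Fin n) k →ₐ[k] MvPolynomial (Fin n) k) :
    MvPolynomial (Fin (n + 1)) k →ₐ[k] MvPolynomial (Fin (n + 1)) k :=
  aeval (Fin.lastCases (X 0) (fun i => rename Fin.succ (ψ (X i))))

lemma eps0_X_zero : eps0 (k := k) (n := n) (X 0) = 0 := by simp [eps0]
lemma eps0_X_succ (i : Fin n) : eps0 (k := k) (X i.succ) = X i := by simp [eps0]
lemma epsLast_X_last : epsLast (k := k) (n := n) (X (Fin.last n)) = 0 := by simp [epsLast]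
lemma epsLast_X_castSucc (i : Fin n) : epsLast (k := k) (X i.castSucc) = X i := by simp [epsLast]
lemma extd_X_last (ψ : MvPolynomial (Fin n) k →ₐ[k] MvPolynomial (Fin n) k) :
    extd ψ (X (Fin.last n)) = X 0 := by simp [extd]
lemma extd_X_castSucc (ψ : MvPolynomial (Fin n) k →ₐ[k] MvPolynomial (Fin n) k) (i : Fin n) :
    extd ψ (X i.castSucc) = rename Fin.succ (ψ (X i)) := by simp [extd]

lemma eps0_rename_succ (y : MvPolynomial (Fin n) k) : eps0 (rename Fin.succ y) = y := by
  have : (eps0 (k := k) (n := n)).comp (rename Fin.succ) = AlgHom.id k _ := by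
    apply MvPolynomial.algHom_ext
    intro i
    simp [eps0_X_succ]
  exact DFunLike.congr_fun this y

lemma eps0_comp_extd (ψ : MvPolynomial (Fin n) k →ₐ[k] MvPolynomial (Fin n) k) :
    (eps0 (k := k)).comp (extd ψ) = ψ.comp epsLast := by
  apply MvPolynomial.algHom_ext
  intro j
  induction j using Fin.lastCases with
  | last => simp [extd_X_last, epsLast_X_last, eps0_X_zero]
  | cast i => simp [extd_X_castSucc, epsLast_X_castSucc, eps0_rename_succ]

lemma extd_rename_castSucc (ψ : MvPolynomial (Fin n) k →ₐ[k] MvPolynomial (Fin n) k)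
    (y : MvPolynomial (Fin n) k) :
    extd ψ (rename Fin.castSucc y) = rename Fin.succ (ψ y) := by
  have : (extd ψ).comp (rename Fin.castSucc) = (rename Fin.succ : _ →ₐ[k] _).comp ψ := by
    apply MvPolynomial.algHom_ext
    intro i
    simp [extd_X_castSucc]
  exact DFunLike.congr_fun this y

lemma extd_isIntegral (ψ : MvPolynomial (Fin n) k →ₐ[k] MvPolynomial (Fin n) k)
    (hψ : ψ.toRingHom.IsIntegral) : (extd ψ).toRingHom.IsIntegral := by
  have hι : ∀ x : MvPolynomial (Fin n) k,
      (extd ψ).toRingHom.IsIntegralElem (rename Fin.succ x) := by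
    intro x
    obtain ⟨p, hp, hpx⟩ := hψ x
    refine ⟨p.map (rename Fin.castSucc : MvPolynomial (Fin n) k →ₐ[k] _).toRingHom, hp.map _, ?_⟩
    rw [Polynomial.eval₂_map]
    have hc : (extd ψ).toRingHom.comp (rename Fin.castSucc : MvPolynomial (Fin n) k →ₐ[k] _).toRingHom
        = (rename Fin.succ : MvPolynomial (Fin n) k →ₐ[k] _).toRingHom.comp ψ.toRingHom := by
      refine RingHom.ext fun y => ?_
      exact extd_rename_castSucc ψ y
    rw [hc]
    have := Polynomial.hom_eval₂ p ψ.toRingHom
      (rename Fin.succ : MvPolynomial (Fin n) k →ₐ[k] _).toRingHom x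
    rw [hpx, map_zero] at this
    exact this.symm
  intro g
  induction g using MvPolynomial.induction_on with
  | C c =>
    have : (extd ψ).toRingHom (C c) = C c := by
      simp [extd]
    rw [← this]
    exact (extd ψ).toRingHom.isIntegralElem_map
  | add p q hp hq => exact RingHom.IsIntegralElem.add _ hp hq
  | mul_X p j hp =>
    apply RingHom.IsIntegralElem.mul _ hp
    induction j using Fin.cases with
    | zero =>
      have : (extd ψ).toRingHom (X (Fin.last n)) = X 0 := extd_X_last ψ
      rw [← this]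
      exact (extd ψ).toRingHom.isIntegralElem_map
    | succ i =>
      have := hι (X i)
      rwa [rename_X] at this

end Ext


section Main
open MvPolynomial
variable {k : Type u} [Field k]

/-- the target ideal `(X_r, …, X_{n-1})`. -/
noncomputable def tgt (n r : ℕ) : Ideal (MvPolynomial (Fin n) k) :=
  Ideal.span (Set.range fun i : {i : Fin n // r ≤ (i : ℕ)} => MvPolynomial.X (i : Fin n))

lemma X_mem_tgt {n r : ℕ} (i : Fin n) (hi : r ≤ (i : ℕ)) : (X i : MvPolynomial (Fin n) k) ∈ tgt n r :=
  Ideal.subset_span ⟨⟨i, hi⟩, rfl⟩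

lemma tgt_le {n r : ℕ} (Q : Ideal (MvPolynomial (Fin n) k))
    (h : ∀ i : Fin n, r ≤ (i : ℕ) → (X i : MvPolynomial (Fin n) k) ∈ Q) : tgt n r ≤ Q := by
  rw [tgt, Ideal.span_le]
  rintro _ ⟨⟨i, hi⟩, rfl⟩
  exact h i hi

lemma comap_epsLast_tgt {n r : ℕ} (hr : r ≤ n) :
    (tgt (k := k) n r).comap (epsLast (k := k) (n := n)) = tgt (n + 1) r := by
  apply le_antisymm
  · intro g hg
    rw [Ideal.mem_comap] at hg
    have h1 := sub_rename_mem (k := k) (Fin.castSucc : Fin n → Fin (n + 1)) (Fin.last n)
      (fun s => by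
        induction s using Fin.lastCases with
        | last => exact Or.inl rfl
        | cast i => exact Or.inr ⟨i, rfl⟩)
      epsLast epsLast_X_last epsLast_X_castSucc g
    have h2 : g - rename Fin.castSucc (epsLast g) ∈ tgt (k := k) (n + 1) r := by
      refine (Ideal.span_le.mpr (Set.singleton_subset_iff.mpr ?_)) h1
      exact X_mem_tgt _ (by simpa using hr)
    have h3 : tgt (k := k) n r ≤ (tgt (k := k) (n + 1) r).comap
        (rename Fin.castSucc : MvPolynomial (Fin n) k →ₐ[k] _) := by
      apply tgt_le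
      intro i hi
      rw [Ideal.mem_comap, rename_X]
      exact X_mem_tgt _ (by simpa using hi)
    have h4 := Ideal.add_mem _ h2 (h3 hg)
    rwa [sub_add_cancel] at h4
  · apply tgt_le
    intro j hj
    rw [Ideal.mem_comap]
    induction j using Fin.lastCases with
    | last => rw [epsLast_X_last]; exact Ideal.zero_mem _
    | cast i => rw [epsLast_X_castSucc]; exact X_mem_tgt _ (by simpa using hj)

theorem main (n : ℕ) : ∀ (q : Ideal (MvPolynomial (Fin n) k)) [q.IsPrime] (r : ℕ),
    Algebra.trdeg k (MvPolynomial (Fin n) k ⧸ q) = r →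
    ∃ φ : MvPolynomial (Fin n) k →ₐ[k] MvPolynomial (Fin n) k, φ.toRingHom.IsIntegral ∧
      q.comap φ = tgt n r := by
  induction n with
  | zero =>
    intro q hq r _
    have hq0 : q = ⊥ := by
      rw [eq_bot_iff]
      intro g hg
      rw [Ideal.mem_bot]
      by_contra hne
      have hC := eq_C_of_isEmpty g
      have hc : coeff 0 g ≠ 0 := fun h => hne (by rw [hC, h, map_zero])
      apply hq.ne_top
      rw [Ideal.eq_top_iff_one]
      have : (1 : MvPolynomial (Fin 0) k) = C (coeff 0 g)⁻¹ * g := by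
        rw [hC, ← map_mul]
        simp [inv_mul_cancel₀ hc]
      rw [this]
      exact Ideal.mul_mem_left _ _ hg
    refine ⟨AlgHom.id k _, RingHom.isIntegral_of_surjective _ Function.surjective_id, ?_⟩
    have : (tgt (k := k) 0 r) = ⊥ := by
      rw [tgt, Ideal.span_eq_bot]
      rintro _ ⟨⟨i, _⟩, rfl⟩
      exact i.elim0
    rw [this, hq0]
    rfl
  | succ n ih =>
    intro q hq r hr
    by_cases hq0 : q = ⊥
    · -- r = n + 1
      have h1 : Algebra.trdeg k (MvPolynomial (Fin (n + 1)) k ⧸ q) = ((n + 1 : ℕ) : Cardinal) := by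
        subst hq0
        rw [(AlgEquiv.quotientBot k (MvPolynomial (Fin (n + 1)) k)).trdeg_eq,
          MvPolynomial.trdeg_of_isDomain]
        simp
      have hr' : r = n + 1 := by
        rw [h1] at hr
        exact_mod_cast hr.symm
      refine ⟨AlgHom.id k _, RingHom.isIntegral_of_surjective _ Function.surjective_id, ?_⟩
      have : (tgt (k := k) (n + 1) r) = ⊥ := by
        rw [tgt, Ideal.span_eq_bot]
        rintro _ ⟨⟨i, hi⟩, rfl⟩
        exfalso
        have := i.isLt
        omega
      rw [this, hq0]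
      rfl
    · obtain ⟨f, hfq, hf0⟩ := Submodule.exists_mem_ne_zero_of_ne_bot hq0
      have hfu : ¬ IsUnit f := fun h => hq.ne_top (Ideal.eq_top_of_isUnit_mem _ hfq h)
      obtain ⟨φ₁, hφ₁, hφ₁X⟩ := exists_integral_X0 f hf0 hfu
      set q₁ := q.comap φ₁ with hq₁
      have hq₁p : q₁.IsPrime := Ideal.comap_isPrime φ₁ q
      have hX0 : (X 0 : MvPolynomial (Fin (n + 1)) k) ∈ q₁ := by
        rw [hq₁, Ideal.mem_comap, hφ₁X]; exact hfq
      have htr1 : Algebra.trdeg k (MvPolynomial (Fin (n + 1)) k ⧸ q₁) = r := by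
        rw [hq₁, trdeg_quotient_eq φ₁ hφ₁ q]; exact hr
      set q' := q₁.comap (rename Fin.succ : MvPolynomial (Fin n) k →ₐ[k] _) with hq'
      have hq'p : q'.IsPrime := Ideal.comap_isPrime _ q₁
      have hq₁eq : q₁ = q'.comap (eps0 (k := k) (n := n)) :=
        eq_comap_comap (k := k) (Fin.succ : Fin n → Fin (n + 1)) 0
          (fun s => by
            induction s using Fin.cases with
            | zero => exact Or.inl rfl
            | succ i => exact Or.inr ⟨i, rfl⟩)
          eps0 eps0_X_zero eps0_X_succ q₁ hX0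
      have heps0surj : Function.Surjective (eps0 (k := k) (n := n)) := fun y =>
        ⟨rename Fin.succ y, eps0_rename_succ y⟩
      have htr2 : Algebra.trdeg k (MvPolynomial (Fin n) k ⧸ q') = r := by
        have := trdeg_quotient_eq (eps0 (k := k) (n := n))
          (RingHom.isIntegral_of_surjective _ heps0surj) q'
        rw [← hq₁eq] at this
        rw [← this]; exact htr1
      have hrn : r ≤ n := by
        have h1 : Algebra.trdeg k (MvPolynomial (Fin n) k ⧸ q') ≤
            Algebra.trdeg k (MvPolynomial (Fin n) k) :=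
          trdeg_le_of_surjective (Ideal.Quotient.mkₐ k q') (Ideal.Quotient.mkₐ_surjective k q')
        rw [htr2, MvPolynomial.trdeg_of_isDomain] at h1
        simpa using h1
      obtain ⟨ψ, hψ, hψq⟩ := ih q' r htr2
      refine ⟨φ₁.comp (extd ψ), ?_, ?_⟩
      · exact RingHom.IsIntegral.trans _ _ (extd_isIntegral ψ hψ) hφ₁
      · have e1 : q.comap (φ₁.comp (extd ψ)) = (q.comap φ₁).comap (extd ψ) := rfl
        rw [e1, ← hq₁, hq₁eq]
        have e2 : (q'.comap (eps0 (k := k) (n := n))).comap (extd ψ) =
            q'.comap ((eps0 (k := k)).comp (extd ψ)) := rfl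
        rw [e2, eps0_comp_extd]
        have e3 : q'.comap (ψ.comp (epsLast (k := k) (n := n))) = (q'.comap ψ).comap epsLast := rfl
        rw [e3, hψq, comap_epsLast_tgt hrn]

end Main

/-- Let `k` be a field, `𝔮` a prime of `k[x_1, …, x_n]` and `r` the transcendence degree of `κ(𝔮)` over
`k`. Then there is a finite `k`-algebra map `φ : k[y_1, …, y_n] → k[x_1, …, x_n]` with `φ⁻¹(𝔮) =
(y_{r+1}, …, y_n)`. -/
theorem result {k : Type u} [Field k] (n r : ℕ) (q : Ideal (MvPolynomial (Fin n) k))
    [q.IsPrime] (hr : Algebra.trdeg k q.ResidueField = r) :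
    ∃ φ : MvPolynomial (Fin n) k →ₐ[k] MvPolynomial (Fin n) k, φ.toRingHom.Finite ∧
      q.comap φ = Ideal.span (Set.range fun i : {i : Fin n // r ≤ (i : ℕ)} => MvPolynomial.X (i : Fin n)) := by
  have htr : Algebra.trdeg k (MvPolynomial (Fin n) k ⧸ q) = r := by
    rw [← trdeg_fraction (MvPolynomial (Fin n) k ⧸ q) q.ResidueField]; exact hr
  obtain ⟨φ, hφ, hφq⟩ := main n q r htr
  exact ⟨φ, finite_of_integral φ hφ, hφq⟩

end Groth.Agent.S2100
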