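import Groth.Statements.S2102
import Mathlib.AlgebraicGeometry.FunctionField
import Mathlib.Topology.Sheaves.SheafCondition.UniqueGluing
import Mathlib.RingTheory.IntegralClosure.IntegrallyClosed

set_option autoImplicit false
universe u
open CategoryTheory AlgebraicGeometry
open Mor

namespace Groth.Agent.S2102

/-- The ring of global sections of an integral normal scheme is an integrally closed domain. -/
theorem result (X : Scheme.{u}) [IsIntegral X] (hX : Pi1.IsNormalScheme X) :
    IsIntegrallyClosed (Γ(X, ⊤) : Type u) := by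
  haveI hne : Nonempty (⊤ : X.Opens) := ⟨⟨(inferInstance : Nonempty X).some, trivial⟩⟩
  have hφ : Function.Injective (algebraMap Γ(X, ⊤) X.functionField) :=
    Scheme.germToFunctionField_injective X ⊤
  rw [isIntegrallyClosed_iff (FractionRing Γ(X, ⊤))]
  intro t ht
  let ψ : FractionRing Γ(X, ⊤) →ₐ[Γ(X, ⊤)] X.functionField :=
    IsFractionRing.liftAlgHom (g := Algebra.ofId _ _) hφ
  have ht' : IsIntegral Γ(X, ⊤) (ψ t) := ht.map ψ
  have hx : ∀ x : X, ∃ s : X.presheaf.stalk x, algebraMap _ X.functionField s = ψ t := by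
    intro x
    haveI := (hX x).2
    letI : Algebra Γ(X, ⊤) (X.presheaf.stalk x) :=
      TopCat.Presheaf.algebra_section_stalk X.presheaf (U := ⊤) ⟨x, trivial⟩
    haveI : IsScalarTower Γ(X, ⊤) (X.presheaf.stalk x) X.functionField :=
      functionField_isScalarTower X ⊤ ⟨x, trivial⟩
    have : IsIntegral (X.presheaf.stalk x) (ψ t) := ht'.tower_top
    exact IsIntegrallyClosed.isIntegral_iff.mp this
  choose s hs using hx
  have hex : ∀ x : X, ∃ (U : X.Opens) (m : x ∈ U) (σ : Γ(X, U)), X.presheaf.germ U x m σ = s x :=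
    fun x => X.presheaf.exists_germ_eq (s x)
  choose U hxU σ hσ using hex
  haveI hUne : ∀ x, Nonempty (U x) := fun x => ⟨⟨x, hxU x⟩⟩
  have hσK : ∀ x, X.germToFunctionField (U x) (σ x) = ψ t := by
    intro x
    rw [← Scheme.algebraMap_germ_eq_germToFunctionField X (hxU x) (σ x), hσ, hs]
  -- compatibility
  have hcompat : TopCat.Presheaf.IsCompatible X.sheaf.1 U σ := by
    intro x y
    have hVne : Nonempty ((U x ⊓ U y : X.Opens)) := by
      obtain ⟨z, hz1, hz2⟩ := nonempty_preirreducible_inter (U x).isOpen (U y).isOpen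
        ⟨x, hxU x⟩ ⟨y, hxU y⟩
      exact ⟨⟨z, hz1, hz2⟩⟩
    apply Scheme.germToFunctionField_injective X (U x ⊓ U y)
    have e1 : X.germToFunctionField (U x ⊓ U y)
        (X.presheaf.map (TopologicalSpace.Opens.infLELeft (U x) (U y)).op (σ x)) =
        X.germToFunctionField (U x) (σ x) :=
      X.presheaf.germ_res_apply (TopologicalSpace.Opens.infLELeft (U x) (U y)) _ _ _
    have e2 : X.germToFunctionField (U x ⊓ U y)
        (X.presheaf.map (TopologicalSpace.Opens.infLERight (U x) (U y)).op (σ y)) =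
        X.germToFunctionField (U y) (σ y) :=
      X.presheaf.germ_res_apply (TopologicalSpace.Opens.infLERight (U x) (U y)) _ _ _
    exact e1.trans ((hσK x).trans ((hσK y).symm.trans e2.symm))
  have hcover : (⊤ : X.Opens) ≤ iSup U := by
    intro x _
    exact TopologicalSpace.Opens.mem_iSup.mpr ⟨x, hxU x⟩
  obtain ⟨g, hg, -⟩ := X.sheaf.existsUnique_gluing' U ⊤ (fun x => homOfLE le_top) hcover σ hcompat
  refine ⟨(g : Γ(X, ⊤)), ?_⟩
  apply ψ.toRingHom.injective
  show ψ (algebraMap Γ(X, ⊤) (FractionRing Γ(X, ⊤)) g) = ψ t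
  rw [ψ.commutes]
  let x0 : X := (inferInstance : Nonempty X).some
  have e3 : X.germToFunctionField (U x0) (X.presheaf.map (homOfLE le_top).op g) =
      X.germToFunctionField ⊤ g :=
    X.presheaf.germ_res_apply (homOfLE (le_top : U x0 ≤ ⊤)) _ _ _
  have e4 : X.presheaf.map (homOfLE (le_top : U x0 ≤ ⊤)).op g = σ x0 := hg x0
  rw [e4, hσK] at e3
  exact e3.symm

end Groth.Agent.S2102
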