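import Groth.Statements.S2110
import Groth.Agent.Lib.Helper62.RetractKaehler

set_option autoImplicit false
universe u
open Smoothing

namespace Groth.Agent.S2110

open Groth.Agent.Lib.Helper62.RetractKaehler

/-- Let `A` be a finitely presented `R`-algebra. There is an `A`-algebra `C` of finite type with an
`A`-algebra retraction `C → A` such that for every `a ∈ A` with `A_a` smooth over `R`, the module of
differentials of `C_a` over `R` is a free `C_a`-module. -/
theorem result {R A : Type u} [CommRing R] [CommRing A] [Algebra R A]
    [Algebra.FinitePresentation R A] :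
    ∃ (C : Type u) (_ : CommRing C) (_ : Algebra A C) (_ : Algebra R C) (_ : IsScalarTower R A C),
      Algebra.FiniteType A C ∧ Nonempty (C →ₐ[A] A) ∧
      ∀ a : A, Algebra.Smooth R (Localization.Away a) →
        Module.Free (Localization.Away (algebraMap A C a)) Ω[Localization.Away (algebraMap A C a)⁄R] := by
  classical
  obtain ⟨t, ht⟩ := (Algebra.FiniteType.out : (⊤ : Subalgebra R A).FG)
  let n := t.card
  let x : Fin n → A := fun i => (t.equivFin.symm i : A)
  have hx : Algebra.adjoin R (Set.range x) = ⊤ := by
    rw [← ht]
    congr 1
    ext a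
    constructor
    · rintro ⟨i, rfl⟩
      exact (t.equivFin.symm i).2
    · intro ha
      exact ⟨t.equivFin ⟨a, ha⟩, by simp [x]⟩
  have hq := q_surjective (R := R) x hx
  have hfin : Module.Finite A (Hmod (R := R) x) :=
    Module.Finite.iff_fg.mpr (Module.FinitePresentation.fg_ker (q (R := R) x) hq)
  let algRC : Algebra R (Calg (R := R) x) :=
    ((algebraMap A (Calg (R := R) x)).comp (algebraMap R A)).toAlgebra
  have tower : IsScalarTower R A (Calg (R := R) x) :=
    IsScalarTower.of_algebraMap_eq (fun _ => rfl)
  refine ⟨Calg (R := R) x, inferInstance, inferInstance, algRC, tower, finiteType_C x,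
    ⟨retrC x⟩, ?_⟩
  intro a hsm
  have := hsm.formallySmooth
  exact free_kaehler_away x a hx


end Groth.Agent.S2110
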