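import Groth.Statements.S2111
import Mathlib.RingTheory.Ideal.KrullsHeightTheorem
import Mathlib.RingTheory.Ideal.AssociatedPrime.Basic
import Mathlib.RingTheory.IntegralClosure.Algebra.Basic
import Mathlib.Tactic
-- import your own Groth.Agent.* helpers here

set_option autoImplicit false
universe u
open CAlg

namespace Groth.Agent.S2111

/-- Let `R` be a Noetherian normal domain with fraction field `K`. An element of `K` which lies in `R_𝔭`
for every prime `𝔭` of height one lies in `R`. -/
theorem result {R : Type u} [CommRing R] [IsDomain R] [IsNoetherianRing R]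
    [IsIntegrallyClosed R] (x : FractionRing R)
    (hx : ∀ (p : Ideal R) [p.IsPrime], p.height = 1 →
      x ∈ Set.range (algebraMap (Localization.AtPrime p) (FractionRing R))) :
    x ∈ Set.range (algebraMap R (FractionRing R)) := by
  classical
  have hinj : Function.Injective (algebraMap R (FractionRing R)) :=
    IsFractionRing.injective R (FractionRing R)
  obtain ⟨b, a, ha0, rfl⟩ : ∃ b a : R, a ≠ 0 ∧
      x = algebraMap R (FractionRing R) b / algebraMap R (FractionRing R) a := by
    obtain ⟨b, a, ha, rfl⟩ := IsFractionRing.div_surjective (A := R) x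
    exact ⟨b, a, nonZeroDivisors.ne_zero ha, rfl⟩
  have ha0' : algebraMap R (FractionRing R) a ≠ 0 := fun h => ha0 (hinj (h.trans (map_zero _).symm))
  by_contra hcon
  have hb : b ∉ Ideal.span {a} := by
    intro hmem
    obtain ⟨c, rfl⟩ := Ideal.mem_span_singleton'.mp hmem
    apply hcon
    refine ⟨c, ?_⟩
    rw [map_mul]; field_simp
  have hb' : (Ideal.Quotient.mk (Ideal.span {a}) b) ≠ 0 := by
    rwa [Ne, Ideal.Quotient.eq_zero_iff_mem]
  obtain ⟨p, hpass, hle⟩ := exists_le_isAssociatedPrime_of_isNoetherianRing R
    (Ideal.Quotient.mk (Ideal.span {a}) b) hb'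
  rw [isAssociatedPrime_iff] at hpass
  obtain ⟨hpprime, y, hpy⟩ := hpass
  obtain ⟨c, rfl⟩ := Ideal.Quotient.mk_surjective y
  have hmem : ∀ r, r ∈ p ↔ r * c ∈ Ideal.span {a} := by
    intro r
    rw [hpy, Submodule.mem_colon_singleton, Submodule.mem_bot, ← Ideal.Quotient.eq_zero_iff_mem,
      map_mul]
    rfl
  have hbp : ∀ r, r * b ∈ Ideal.span {a} → r ∈ p := by
    intro r hr
    apply hle
    rw [Submodule.mem_colon_singleton, Submodule.mem_bot]
    have : Ideal.Quotient.mk (Ideal.span {a}) (r * b) = 0 := Ideal.Quotient.eq_zero_iff_mem.mpr hr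
    rw [map_mul] at this
    exact this
  have hap : a ∈ p := by
    rw [hmem]; exact Ideal.mul_mem_right _ _ (Ideal.mem_span_singleton_self a)
  have hc : c ∉ Ideal.span {a} := by
    intro h
    apply hpprime.ne_top
    rw [Ideal.eq_top_iff_one, hmem, one_mul]
    exact h
  -- Claim A
  have claimA : ∃ π ∈ p, ∃ s, s ∉ p ∧ s * a = π * c := by
    by_contra hA
    have hA' : ∀ π ∈ p, ∀ s, s * a = π * c → s ∈ p := by
      intro π hπ s hs
      by_contra hsp
      exact hA ⟨π, hπ, s, hsp, hs⟩
    let y : FractionRing R := algebraMap R (FractionRing R) c / algebraMap R (FractionRing R) a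
    let N : Submodule R (FractionRing R) := Submodule.map (Algebra.linearMap R (FractionRing R)) p
    have hN0 : N ≠ ⊥ := by
      intro h
      have : algebraMap R (FractionRing R) a ∈ N := Submodule.mem_map_of_mem hap
      rw [h, Submodule.mem_bot] at this
      exact ha0' this
    have hNfg : N.FG := Submodule.FG.map _ (IsNoetherian.noetherian p)
    have hstab : ∀ n ∈ N, y • n ∈ N := by
      rintro _ ⟨π, hπ, rfl⟩
      have h1 : π * c ∈ Ideal.span {a} := (hmem π).mp hπ
      obtain ⟨t, ht⟩ := Ideal.mem_span_singleton'.mp h1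
      have htp : t ∈ p := hA' π hπ t ht
      refine ⟨t, htp, ?_⟩
      simp only [Algebra.linearMap_apply, smul_eq_mul, y]
      have : algebraMap R (FractionRing R) t * algebraMap R (FractionRing R) a =
          algebraMap R (FractionRing R) π * algebraMap R (FractionRing R) c := by
        rw [← map_mul, ← map_mul, ht]
      field_simp
      linear_combination this
    have hint : IsIntegral R y := isIntegral_of_smul_mem_submodule N hN0 hNfg y hstab
    obtain ⟨y', hy'⟩ := IsIntegrallyClosed.algebraMap_eq_of_integral hint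
    apply hc
    rw [Ideal.mem_span_singleton']
    refine ⟨y', hinj ?_⟩
    rw [map_mul, hy']
    simp only [y]
    field_simp
  obtain ⟨π, hπ, s, hsp, hs⟩ := claimA
  -- Claim B
  have claimB : p ∈ (Ideal.span {π}).minimalPrimes := by
    refine ⟨⟨hpprime, (Ideal.span_singleton_le_iff_mem _).mpr hπ⟩, ?_⟩
    rintro q ⟨hq, hπq⟩ hqp
    intro z hz
    obtain ⟨t, ht⟩ := Ideal.mem_span_singleton'.mp ((hmem z).mp hz)
    have h1 : s * z * a = π * t * a := by
      calc s * z * a = z * (s * a) := by ring
        _ = z * (π * c) := by rw [hs]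
        _ = π * (z * c) := by ring
        _ = π * (t * a) := by rw [ht]
        _ = π * t * a := by ring
    have h2 : s * z = π * t := mul_right_cancel₀ ha0 h1
    have h3 : s * z ∈ q := by
      rw [h2]; exact Ideal.mul_mem_right _ _ (hπq (Ideal.mem_span_singleton_self π))
    rcases hq.mem_or_mem h3 with h | h
    · exact absurd (hqp h) hsp
    · exact h
  haveI := hpprime
  have hht1 : p.height ≤ 1 := Ideal.height_le_one_of_isPrincipal_of_mem_minimalPrimes _ _ claimB
  have hht0 : p.height ≠ 0 := by
    rw [Ne, Ideal.height_eq_zero_iff_eq_bot]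
    intro h
    rw [h] at hap
    exact ha0 (by simpa using hap)
  have hht : p.height = 1 := le_antisymm hht1 (Order.one_le_iff_pos.mpr (pos_iff_ne_zero.mpr hht0))
  obtain ⟨w, hw⟩ := hx p hht
  obtain ⟨⟨r, s'⟩, rfl⟩ := IsLocalization.mk'_surjective p.primeCompl w
  apply s'.2
  apply hbp
  rw [Ideal.mem_span_singleton']
  refine ⟨r, hinj ?_⟩
  have h5 : algebraMap (Localization.AtPrime p) (FractionRing R) (IsLocalization.mk' _ r s') *
      algebraMap R (FractionRing R) s' = algebraMap R (FractionRing R) r := by
    rw [IsScalarTower.algebraMap_apply R (Localization.AtPrime p) (FractionRing R) s',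
      ← map_mul, IsLocalization.mk'_spec, ← IsScalarTower.algebraMap_apply]
  rw [hw] at h5
  rw [map_mul, map_mul, ← h5]
  field_simp

end Groth.Agent.S2111
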