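import Groth.Statements.S2113
import Mathlib.RingTheory.Ideal.KrullsHeightTheorem
import Mathlib.RingTheory.Ideal.MinimalPrime.Noetherian
import Mathlib.RingTheory.Spectrum.Prime.RingHom
-- import your own Groth.Agent.* helpers here

set_option autoImplicit false
universe u
open CAlg

namespace Groth.Agent.S2113


theorem finite_primes_of_forall_mem {D : Type*} [CommRing D] [IsDomain D] [IsNoetherianRing D]
    (f : D) (hf : f ≠ 0) (h : ∀ P : Ideal D, P.IsPrime → P ≠ ⊥ → f ∈ P) :
    (Set.univ : Set (PrimeSpectrum D)).Finite := by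
  classical
  set M := (Ideal.span {f}).minimalPrimes with hMdef
  have hMfin : M.Finite := Ideal.finite_minimalPrimes_of_isNoetherianRing D _
  have hM1 : ∀ N ∈ M, N.IsPrime ∧ f ∈ N ∧ N.height = 1 := by
    intro N hN
    have hNp : N.IsPrime := hN.1.1
    have hfN : f ∈ N := hN.1.2 (Ideal.mem_span_singleton_self f)
    refine ⟨hNp, hfN, ?_⟩
    have h1 : N.height ≤ 1 := Ideal.height_le_one_of_isPrincipal_of_mem_minimalPrimes _ _ hN
    have h2 : N.height ≠ 0 := by
      rw [Ne, Ideal.height_eq_zero_iff_eq_bot]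
      intro h0
      rw [h0] at hfN
      exact hf (by simpa using hfN)
    exact le_antisymm h1 (Order.one_le_iff_pos.mpr (pos_iff_ne_zero.mpr h2))
  have key : ∀ P : Ideal D, P.IsPrime → P ≠ ⊥ → P ∈ M := by
    intro P hP hP0
    have hfP : f ∈ P := h P hP hP0
    have hsub : (P : Set D) ⊆ ⋃ N ∈ (↑hMfin.toFinset : Set (Ideal D)), (N : Set D) := by
      intro x hx
      by_cases hx0 : x = 0
      · obtain ⟨N, hN, hNP⟩ := Ideal.exists_minimalPrimes_le
          (show Ideal.span {f} ≤ P from (Ideal.span_singleton_le_iff_mem _).mpr hfP)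
        refine Set.mem_biUnion (show N ∈ (↑hMfin.toFinset : Set (Ideal D)) by rw [Finset.mem_coe, Set.Finite.mem_toFinset]; exact hN) ?_
        rw [hx0]; exact N.zero_mem
      · obtain ⟨Px, hPx, hPxP⟩ := Ideal.exists_minimalPrimes_le
          (show Ideal.span {x} ≤ P from (Ideal.span_singleton_le_iff_mem _).mpr hx)
        have hPxp : Px.IsPrime := hPx.1.1
        have hxPx : x ∈ Px := hPx.1.2 (Ideal.mem_span_singleton_self x)
        have hPx0 : Px ≠ ⊥ := by
          intro h0
          rw [h0] at hxPx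
          exact hx0 (by simpa using hxPx)
        have hfPx : f ∈ Px := h Px hPxp hPx0
        have hh : Px.height ≤ 1 :=
          Ideal.height_le_one_of_isPrincipal_of_mem_minimalPrimes _ _ hPx
        obtain ⟨N, hN, hNPx⟩ := Ideal.exists_minimalPrimes_le
          (show Ideal.span {f} ≤ Px from (Ideal.span_singleton_le_iff_mem _).mpr hfPx)
        have hNeq : N = Px := by
          by_contra hne
          have hlt : N < Px := lt_of_le_of_ne hNPx hne
          haveI := (hM1 N hN).1
          have hlt2 := Ideal.height_strict_mono_of_isPrime hlt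
          rw [(hM1 N hN).2.2] at hlt2
          exact absurd (lt_of_lt_of_le hlt2 hh) (lt_irrefl _)
        refine Set.mem_biUnion (show N ∈ (↑hMfin.toFinset : Set (Ideal D)) by rw [Finset.mem_coe, Set.Finite.mem_toFinset]; exact hN) ?_
        rw [hNeq]; exact hxPx
    rw [Ideal.subset_union_prime (f := fun N : Ideal D => N) ⊥ ⊥
      (fun N hN _ _ => (hM1 N (by rw [Set.Finite.mem_toFinset] at hN; exact hN)).1)] at hsub
    obtain ⟨N, hN, hPN⟩ := hsub
    have hN' : N ∈ M := by rw [Set.Finite.mem_toFinset] at hN; exact hN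
    have hPeq : P = N := by
      by_contra hne
      have hlt : P < N := lt_of_le_of_ne hPN hne
      haveI := (hM1 N hN').1
      have hlt2 := Ideal.height_strict_mono_of_isPrime hlt
      rw [(hM1 N hN').2.2] at hlt2
      have h0 : P.height = 0 := ENat.lt_one_iff_eq_zero.mp hlt2
      rw [Ideal.height_eq_zero_iff_eq_bot] at h0
      exact hP0 h0
    rw [hPeq]; exact hN'
  have hinj : (Set.univ : Set (PrimeSpectrum D)).InjOn (fun q => q.asIdeal) :=
    fun a _ b _ hab => PrimeSpectrum.ext hab
  apply Set.Finite.of_finite_image ((hMfin.insert ⊥).subset ?_) hinj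
  rintro _ ⟨q, -, rfl⟩
  by_cases hq : q.asIdeal = ⊥
  · exact Set.mem_insert_iff.mpr (Or.inl hq)
  · exact Set.mem_insert_of_mem _ (key q.asIdeal q.isPrime hq)

/-- A Noetherian ring in which each prime is maximal or else lies below infinitely many primes is a
Jacobson ring. -/
theorem result {R : Type u} [CommRing R] [IsNoetherianRing R]
    (h : ∀ (p : Ideal R) [p.IsPrime], p.IsMaximal ∨ {q : PrimeSpectrum R | p ≤ q.asIdeal}.Infinite) :
    IsJacobsonRing R := by
  rw [isJacobsonRing_iff_prime_eq]
  intro P hP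
  refine le_antisymm ?_ Ideal.le_jacobson
  intro f hfJ
  by_contra hfP
  -- choose a prime maximal among those containing P and not f
  let S : Set (Ideal R) := {Q | Q.IsPrime ∧ P ≤ Q ∧ f ∉ Q}
  have hSne : S.Nonempty := ⟨P, hP, le_refl _, hfP⟩
  obtain ⟨Q, ⟨hQp, hPQ, hfQ⟩, hQmax⟩ := (wellFounded_gt (α := Ideal R)).has_min S hSne
  haveI := hQp
  have hQnotmax : ¬ Q.IsMaximal := by
    intro hmax
    apply hfQ
    rw [Ideal.jacobson, Ideal.mem_sInf] at hfJ
    exact hfJ ⟨hPQ, hmax⟩
  rcases h Q with hmax | hinf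
  · exact hQnotmax hmax
  apply hinf
  -- work in the domain R ⧸ Q
  have hfin := finite_primes_of_forall_mem (D := R ⧸ Q) (Ideal.Quotient.mk Q f)
    (by rwa [Ne, Ideal.Quotient.eq_zero_iff_mem])
    (by
      intro P' hP' hP'0
      by_contra hcon
      have hcomap : (P'.comap (Ideal.Quotient.mk Q)) ∈ S := by
        refine ⟨Ideal.comap_isPrime _ _, ?_, hcon⟩
        intro x hx
        rw [Ideal.mem_comap]
        have : Ideal.Quotient.mk Q x = 0 := Ideal.Quotient.eq_zero_iff_mem.mpr (hPQ hx)
        rw [this]; exact P'.zero_mem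
      apply hQmax _ hcomap
      refine lt_of_le_of_ne ?_ ?_
      · intro x hx
        rw [Ideal.mem_comap]
        have : Ideal.Quotient.mk Q x = 0 := Ideal.Quotient.eq_zero_iff_mem.mpr hx
        rw [this]; exact P'.zero_mem
      · intro heq
        apply hP'0
        rw [eq_bot_iff]
        intro y hy
        obtain ⟨x, rfl⟩ := Ideal.Quotient.mk_surjective y
        have : x ∈ P'.comap (Ideal.Quotient.mk Q) := hy
        rw [← heq] at this
        rw [Ideal.mem_bot]
        exact Ideal.Quotient.eq_zero_iff_mem.mpr this)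
  have hrange := range_comap_of_surjective (R ⧸ Q) (Ideal.Quotient.mk Q)
    Ideal.Quotient.mk_surjective
  rw [Ideal.mk_ker] at hrange
  have : {q : PrimeSpectrum R | Q ≤ q.asIdeal} = PrimeSpectrum.zeroLocus (Q : Set R) := by
    ext q
    simp [PrimeSpectrum.mem_zeroLocus]
  rw [this, ← hrange, ← Set.image_univ]
  exact hfin.image _

end Groth.Agent.S2113
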