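import Groth.Statements.S2484
import Mathlib
import Groth.Agent.S2451

set_option autoImplicit false
universe u
open EGA41

namespace Groth.Agent.S2484

/-- Let K ⊆ E ⊆ F be fields. (i) If F is a separable extension of E, then Υ_{F/E/K} = 0, i.e. the
canonical map Ω_{E/K} ⊗_E F → Ω_{F/K} is injective. (ii) Conversely, if F is separable over K and
this map is injective, then F is separable over E. (Separable means geometrically reduced.) -/
theorem result {K E F : Type u} [Field K] [Field E] [Field F] [Algebra K E] [Algebra E F] [Algebra K F] [IsScalarTower K E F] :
    (Algebra.IsGeometricallyReduced E F → Function.Injective (KaehlerDifferential.mapBaseChange K E F)) ∧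
    (Algebra.IsGeometricallyReduced K F → Function.Injective (KaehlerDifferential.mapBaseChange K E F) → Algebra.IsGeometricallyReduced E F) := by
  constructor
  · intro h
    haveI : Algebra.FormallySmooth E F := Groth.Agent.S2451.result.2 h
    exact Groth.Agent.Lib.Helper81.FieldSmooth.mapBaseChange_injective_of_subsingleton
  · intro h hinj
    haveI : Algebra.FormallySmooth K F := Groth.Agent.S2451.result.2 h
    haveI : Subsingleton (Algebra.H1Cotangent E F) :=
      Groth.Agent.Lib.Helper81.FieldSmooth.subsingleton_h1Cotangent_of_injective hinj
    exact Groth.Agent.S2451.result.1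
      Groth.Agent.Lib.Helper81.FieldSmooth.formallySmooth_of_subsingleton_h1Cotangent

end Groth.Agent.S2484
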