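import Groth.Statements.S4523
import Mathlib
import Groth.Agent.S2451
import Groth.Agent.S2484
import Groth.Agent.Lib.Helper81.KaehlerCompare

set_option autoImplicit false
universe u
open EGA41

namespace Groth.Agent.S4523
open Groth.Agent.Lib.Helper81.FieldSmooth Groth.Agent.Lib.Helper81.KaehlerCompare in
private theorem key {k K : Type u} [Field k] [Field K] [Algebra k K] :
    Algebra.IsGeometricallyReduced k K ↔
      Function.Injective (KaehlerDifferential.mapBaseChange ℤ k K) := by
  constructor
  · intro h
    haveI : Algebra.FormallySmooth k K := Groth.Agent.S2451.result.2 h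
    exact mapBaseChange_injective_of_subsingleton
  · intro h
    rcases CharP.exists' k with h0 | ⟨p, hp, hpk⟩
    · haveI := h0
      exact Groth.Agent.S2451.result.1 formallySmooth_of_charZero
    · haveI := hp
      haveI := hpk
      let P : Subfield k := ⊥
      letI : Algebra (ZMod p) k := ZMod.algebra k p
      have hbot : (⊥ : Subfield k) = (algebraMap (ZMod p) k).fieldRange :=
        Subfield.bot_eq_of_zMod_algebra p
      haveI : Finite P := by
        show Finite (⊥ : Subfield k)
        rw [hbot]
        exact Set.finite_range _
      haveI : CharP P p := RingHom.charP (algebraMap P k) (algebraMap P k).injective p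
      haveI : PerfectRing P p := PerfectRing.ofFiniteOfIsReduced p P
      have hsurj : Function.Surjective (algebraMap ℤ P) := by
        intro x
        have hx : (x : k) ∈ (algebraMap (ZMod p) k).fieldRange := hbot ▸ x.2
        obtain ⟨c, hc⟩ := hx
        obtain ⟨n, rfl⟩ := ZMod.intCast_surjective c
        refine ⟨n, Subtype.ext ?_⟩
        rw [← hc]
        simp
      haveI : Subsingleton (Ω[P⁄ℤ]) := KaehlerDifferential.subsingleton_of_surjective ℤ P hsurj
      have hP : Function.Injective (KaehlerDifferential.mapBaseChange P k K) :=
        mapBaseChange_injective_of_injective ℤ P k K h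
      have hPK : Algebra.IsGeometricallyReduced P K :=
        Groth.Agent.S2451.result.1 (formallySmooth_of_perfectRing p)
      exact (Groth.Agent.S2484.result (K := P) (E := k) (F := K)).2 hPK hP


/-- Let k ⊆ K be fields. Then K is a separable extension of k if and only if the imperfection module
Υ_{K/k} vanishes, i.e. the canonical map Ω_{k/ℤ} ⊗_k K → Ω_{K/ℤ} is injective, and if and only if
every derivation of k into K extends to a derivation of K into itself. (No hypothesis on the
characteristic.) -/
theorem result {k K : Type u} [Field k] [Field K] [Algebra k K] :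
    (Algebra.IsGeometricallyReduced k K ↔ EGA41.imperfection ℤ k K = ⊥) ∧
    (Algebra.IsGeometricallyReduced k K ↔
      ∀ D : Derivation ℤ k K, ∃ D' : Derivation ℤ K K, ∀ a : k, D' (algebraMap k K a) = D a) := by
  refine ⟨?_, ?_⟩
  · rw [key, EGA41.imperfection, LinearMap.ker_eq_bot]
  · rw [key]
    exact (Groth.Agent.Lib.Helper81.KaehlerCompare.forall_exists_extension_iff ℤ k K).symm

end Groth.Agent.S4523
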