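import Mathlib
import Groth.Statements.S2118

set_option autoImplicit false
universe u
open CategoryTheory
open CAlg

namespace Groth.Agent.S2118


open CategoryTheory Limits

/-- Objects of the Lazard category: a finite free module `R^n` with a map to `M`. -/
structure Obj (R : Type u) [CommRing R] (M : Type u) [AddCommGroup M] [Module R M] : Type u where
  n : ℕ
  x : (Fin n →₀ R) →ₗ[R] M

namespace Obj

variable {R : Type u} [CommRing R] {M : Type u} [AddCommGroup M] [Module R M]

/-- morphisms: linear maps over `M`. -/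
def Hom (a b : Obj R M) : Type u :=
  {f : (Fin a.n →₀ R) →ₗ[R] (Fin b.n →₀ R) // b.x ∘ₗ f = a.x}

noncomputable instance : SmallCategory (Obj R M) where
  Hom a b := Hom a b
  id a := ⟨LinearMap.id, LinearMap.comp_id _⟩
  comp f g := ⟨g.1 ∘ₗ f.1, by rw [← LinearMap.comp_assoc, g.2, f.2]⟩
  id_comp f := Subtype.ext (LinearMap.comp_id _)
  comp_id f := Subtype.ext (LinearMap.id_comp _)
  assoc f g h := Subtype.ext rfl

/-- the diagram of finite free modules. -/
noncomputable def G (R : Type u) [CommRing R] (M : Type u) [AddCommGroup M] [Module R M] :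
    Obj R M ⥤ ModuleCat.{u} R where
  obj a := ModuleCat.of R (Fin a.n →₀ R)
  map f := ModuleCat.ofHom f.1
  map_id _ := rfl
  map_comp _ _ := rfl

/-- the tautological cocone. -/
noncomputable def t (R : Type u) [CommRing R] (M : Type u) [AddCommGroup M] [Module R M] :
    Cocone (G R M) where
  pt := ModuleCat.of R M
  ι :=
    { app := fun a => ModuleCat.ofHom a.x
      naturality := fun a b f => by
        refine ModuleCat.hom_ext ?_
        refine LinearMap.ext fun y => ?_
        exact LinearMap.congr_fun f.2 y }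

theorem isFiltered [Module.Flat R M] : IsFiltered (Obj R M) := by
  have : Nonempty (Obj R M) := ⟨⟨0, 0⟩⟩
  have : IsFilteredOrEmpty (Obj R M) := by
    constructor
    · intro a b
      let e : (Fin (a.n + b.n) →₀ R) ≃ₗ[R] (Fin a.n →₀ R) × (Fin b.n →₀ R) :=
        (Finsupp.domLCongr finSumFinEquiv.symm).trans (Finsupp.sumFinsuppLEquivProdFinsupp R)
      refine ⟨⟨a.n + b.n, (a.x.coprod b.x) ∘ₗ e.toLinearMap⟩,
        ⟨e.symm.toLinearMap ∘ₗ LinearMap.inl R _ _, ?_⟩,
        ⟨e.symm.toLinearMap ∘ₗ LinearMap.inr R _ _, ?_⟩, trivial⟩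
      · ext y
        simp
      · ext y
        simp
    · intro a b f g
      have h0 : b.x ∘ₗ (f.1 - g.1) = 0 := by
        rw [LinearMap.comp_sub, f.2, g.2, sub_self]
      obtain ⟨k, α, y, hy, hα⟩ := Module.Flat.exists_factorization_of_comp_eq_zero_of_free h0
      refine ⟨⟨k, y⟩, ⟨α, hy.symm⟩, ?_⟩
      apply Subtype.ext
      show α ∘ₗ f.1 = α ∘ₗ g.1
      rw [LinearMap.comp_sub] at hα
      exact sub_eq_zero.mp hα
  exact {}

end Obj

open Obj in
theorem colimit_iso {R : Type u} [CommRing R] (M : Type u) [AddCommGroup M] [Module R M]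
    [Module.Flat R M] : Nonempty (colimit (G R M) ≅ ModuleCat.of R M) := by
  have hfilt : IsFiltered (Obj R M) := isFiltered
  let φ : colimit (G R M) ⟶ ModuleCat.of R M := colimit.desc (G R M) (t R M)
  have hφ : ∀ (j : Obj R M) (y : Fin j.n →₀ R),
      φ.hom (ConcreteCategory.hom (colimit.ι (G R M) j) y) = j.x y := by
    intro j y
    have : colimit.ι (G R M) j ≫ φ = (t R M).ι.app j := colimit.ι_desc _ _
    exact congrArg (fun g : (G R M).obj j ⟶ ModuleCat.of R M => g.hom y) this
  have hinj : Function.Injective φ.hom := by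
    rw [injective_iff_map_eq_zero]
    intro z hz
    obtain ⟨j, y, rfl⟩ := Concrete.colimit_exists_rep (G R M) z
    have hz' : j.x y = 0 := (hφ j y).symm.trans hz
    obtain ⟨k, a, y', hy', ha⟩ := Module.Flat.exists_factorization_of_apply_eq_zero_of_free hz'
    let j' : Obj R M := ⟨k, y'⟩
    let g : j ⟶ j' := ⟨a, hy'.symm⟩
    have hw : colimit.ι (G R M) j = (G R M).map g ≫ colimit.ι (G R M) j' := (colimit.w _ g).symm
    have h3 := congrArg (fun g => g.hom y) hw
    simp only [ModuleCat.hom_comp, LinearMap.comp_apply] at h3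
    rw [h3]
    have : ((G R M).map g).hom y = 0 := ha
    rw [this, map_zero]
  have hsurj : Function.Surjective φ.hom := by
    intro m
    let j : Obj R M := ⟨1, Finsupp.linearCombination R (fun _ : Fin 1 => m)⟩
    refine ⟨colimit.ι (G R M) j (Finsupp.single 0 1), ?_⟩
    rw [hφ]
    simp [j]
  exact ⟨(LinearEquiv.ofBijective φ.hom ⟨hinj, hsurj⟩).toModuleIso⟩

theorem flat_of_colimit {R : Type u} [CommRing R] (J : Type u) [Preorder J]
    [IsDirected J (fun a b => a ≤ b)] [Nonempty J] (F : J ⥤ ModuleCat.{u} R)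
    (hF : ∀ j, Module.Flat R (F.obj j)) : Module.Flat R (colimit F : ModuleCat.{u} R) := by
  classical
  have hfilt : IsFiltered J := inferInstance
  apply Module.Flat.of_forall_isTrivialRelation
  intro l f x hx
  -- lift the x i to a common stage
  have h1 : ∀ i, ∃ (j : J) (y : F.obj j), (colimit.ι F j).hom y = x i := fun i =>
    Concrete.colimit_exists_rep F (x i)
  choose jj yy hyy using h1
  obtain ⟨j, hj⟩ := Finset.exists_le (Finset.univ.image jj)
  have hle : ∀ i, jj i ≤ j := fun i => hj _ (Finset.mem_image_of_mem _ (Finset.mem_univ i))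
  let x' : Fin l → F.obj j := fun i => (F.map (homOfLE (hle i))).hom (yy i)
  have hx' : ∀ i, (colimit.ι F j).hom (x' i) = x i := by
    intro i
    rw [← hyy i]
    have hw : F.map (homOfLE (hle i)) ≫ colimit.ι F j = colimit.ι F (jj i) := colimit.w _ _
    have h3 : (F.map (homOfLE (hle i)) ≫ colimit.ι F j).hom (yy i) =
        (colimit.ι F (jj i)).hom (yy i) := by rw [hw]
    exact h3
  -- the relation holds at a later stage
  have hz : (colimit.ι F j).hom (∑ i, f i • x' i) = (colimit.ι F j).hom 0 := by
    rw [map_sum, map_zero, ← hx]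
    refine Finset.sum_congr rfl ?_
    intro i _
    rw [map_smul, hx']
  obtain ⟨j', g, hg⟩ := ((colimit.isColimit F).eq_iff' (∑ i, f i • x' i) 0).1 hz
  have hflat := hF j'
  have hrel : ∑ i, f i • (F.map g).hom (x' i) = 0 := by
    have : (F.map g).hom (∑ i, f i • x' i) = (F.map g).hom 0 := hg
    rw [map_sum, map_zero] at this
    rw [← this]
    refine Finset.sum_congr rfl ?_
    intro i _
    rw [map_smul]
  obtain ⟨k, a, y, hy, ha⟩ := Module.Flat.isTrivialRelation_of_sum_smul_eq_zero hrel
  refine ⟨k, a, fun t => (colimit.ι F j').hom (y t), ?_, ha⟩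
  intro i
  have hw : F.map g ≫ colimit.ι F j' = colimit.ι F j := colimit.w _ _
  have h3 := congrArg (fun g => g.hom (x' i)) hw
  simp only [ModuleCat.hom_comp, LinearMap.comp_apply] at h3
  have hyi : (F.map g).hom (x' i) = ∑ j, a i j • y j := hy i
  rw [← hx', ← h3, hyi, map_sum]
  refine Finset.sum_congr rfl ?_
  intro t _
  rw [map_smul]

/-- An `R`-module `M` is flat if and only if it is isomorphic to the colimit of a diagram of finite free
`R`-modules indexed by a nonempty directed preorder (in the same universe). -/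
theorem result {R : Type u} [CommRing R] (M : Type u) [AddCommGroup M] [Module R M] :
    Module.Flat R M ↔
      ∃ (J : Type u) (_ : Preorder J) (_ : IsDirected J (fun a b => a ≤ b)) (_ : Nonempty J)
        (F : J ⥤ ModuleCat.{u} R), (∀ j, Module.Finite R (F.obj j) ∧ Module.Free R (F.obj j)) ∧
        Nonempty (Limits.colimit F ≅ ModuleCat.of R M) := by
  constructor
  · intro hflat
    have hfilt : IsFiltered (Obj R M) := Obj.isFiltered
    obtain ⟨α, hpo, hdir, hne, F', hF'⟩ := IsFiltered.exists_directed (Obj R M)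
    refine ⟨α, hpo.toPreorder, hdir, hne, F' ⋙ Obj.G R M, ?_, ?_⟩
    · intro j
      show Module.Finite R (Fin (F'.obj j).n →₀ R) ∧ Module.Free R (Fin (F'.obj j).n →₀ R)
      exact ⟨inferInstance, inferInstance⟩
    · obtain ⟨e⟩ := colimit_iso (R := R) M
      exact ⟨(Functor.Final.colimitIso F' (Obj.G R M)).trans e⟩
  · rintro ⟨J, hJ, hdir, hne, F, hF, ⟨e⟩⟩
    have h1 : Module.Flat R (Limits.colimit F : ModuleCat.{u} R) :=
      flat_of_colimit J F (fun j => by
        have := (hF j).1
        have := (hF j).2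
        infer_instance)
    exact Module.Flat.of_linearEquiv e.symm.toLinearEquiv

end Groth.Agent.S2118
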