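import Groth.Statements.S2119
import Mathlib.Tactic
-- import your own Groth.Agent.* helpers here

set_option autoImplicit false
universe u
open CAlg

namespace Groth.Agent.S2119


section
variable {A : Type u} [CommRing A] [IsDomain A] (P : Set A) (hP : ∀ p ∈ P, Prime p)

include hP in
theorem lemmaD (x : A) (hx : ∀ p ∈ P, ¬ p ∣ x) :
    ∀ s ∈ Submonoid.closure P, ∀ y z : A, s * z = x * y → x ∣ z := by
  intro s hs
  induction hs using Submonoid.closure_induction with
  | mem p hp =>
    intro y z h
    have hpp := hP p hp
    have h1 : p ∣ x * y := ⟨z, h.symm⟩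
    rcases hpp.dvd_or_dvd h1 with h2 | h2
    · exact absurd h2 (hx p hp)
    · obtain ⟨y', rfl⟩ := h2
      refine ⟨y', ?_⟩
      have : p * z = p * (x * y') := by rw [h]; ring
      exact mul_left_cancel₀ hpp.ne_zero this
  | one =>
    intro y z h
    exact ⟨y, by rw [← h, one_mul]⟩
  | mul s₁ s₂ _ _ ih₁ ih₂ =>
    intro y z h
    have h1 : s₁ * (s₂ * z) = x * y := by rw [← h]; ring
    obtain ⟨y', hy'⟩ := ih₁ y (s₂ * z) h1
    exact ih₂ y' z hy'

include hP in
theorem lemmaG :
    ∀ s ∈ Submonoid.closure P, ∀ x a b : A, s * x = a * b →
      ∃ a' b' s₁ s₂ : A, s₁ ∈ Submonoid.closure P ∧ s₂ ∈ Submonoid.closure P ∧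
        a = s₁ * a' ∧ b = s₂ * b' ∧ x = a' * b' := by
  intro s hs
  induction hs using Submonoid.closure_induction with
  | mem p hp =>
    intro x a b h
    have hpp := hP p hp
    have h1 : p ∣ a * b := ⟨x, h.symm⟩
    rcases hpp.dvd_or_dvd h1 with h2 | h2
    · obtain ⟨a', rfl⟩ := h2
      refine ⟨a', b, p, 1, Submonoid.subset_closure hp, Submonoid.one_mem _, rfl, (one_mul b).symm, ?_⟩
      have : p * x = p * (a' * b) := by rw [h]; ring
      exact mul_left_cancel₀ hpp.ne_zero this
    · obtain ⟨b', rfl⟩ := h2
      refine ⟨a, b', 1, p, Submonoid.one_mem _, Submonoid.subset_closure hp, (one_mul a).symm, rfl, ?_⟩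
      have : p * x = p * (a * b') := by rw [h]; ring
      exact mul_left_cancel₀ hpp.ne_zero this
  | one =>
    intro x a b h
    exact ⟨a, b, 1, 1, Submonoid.one_mem _, Submonoid.one_mem _, (one_mul a).symm, (one_mul b).symm,
      by rw [← h, one_mul]⟩
  | mul s₁ s₂ _ _ ih₁ ih₂ =>
    intro x a b h
    have h1 : s₁ * (s₂ * x) = a * b := by rw [← h]; ring
    obtain ⟨a', b', t₁, t₂, ht₁, ht₂, rfl, rfl, h2⟩ := ih₁ (s₂ * x) a b h1
    obtain ⟨a'', b'', u₁, u₂, hu₁, hu₂, rfl, rfl, h3⟩ := ih₂ x a' b' h2
    exact ⟨a'', b'', t₁ * u₁, t₂ * u₂, Submonoid.mul_mem _ ht₁ hu₁, Submonoid.mul_mem _ ht₂ hu₂,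
      by ring, by ring, h3⟩

end

/-- Nagata's criterion for factoriality, final assertion: let `A` be a domain in which every nonzero
nonunit factors into irreducibles, and `S` the multiplicative subset generated by a set of prime
elements. If the localization `S⁻¹A` is a unique factorization domain, then so is `A`. -/
theorem result {A : Type u} [CommRing A] [IsDomain A]
    (hfac : ∀ a : A, a ≠ 0 → ¬ IsUnit a → ∃ f : Multiset A, (∀ b ∈ f, Irreducible b) ∧ Associated f.prod a) (P : Set A)
    (hP : ∀ p ∈ P, Prime p) [IsDomain (Localization (Submonoid.closure P))]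
    (hS : UniqueFactorizationMonoid (Localization (Submonoid.closure P))) : UniqueFactorizationMonoid A := by
  classical
  set S := Submonoid.closure P with hSdef
  set L := Localization S with hLdef
  have hS0 : S ≤ nonZeroDivisors A := by
    rw [hSdef, Submonoid.closure_le]
    intro p hp
    exact mem_nonZeroDivisors_of_ne_zero (hP p hp).ne_zero
  have hinj : Function.Injective (algebraMap A L) := IsLocalization.injective L hS0
  have hunit : ∀ s ∈ S, IsUnit (algebraMap A L s) := fun s hs =>
    IsLocalization.map_units L (⟨s, hs⟩ : S)
  -- every irreducible is prime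
  have key : ∀ x : A, Irreducible x → Prime x := by
    intro x hxirr
    by_cases hdiv : ∃ p ∈ P, p ∣ x
    · obtain ⟨p, hp, u, rfl⟩ := hdiv
      have hpp := hP p hp
      rcases hxirr.isUnit_or_isUnit rfl with h | h
      · exact absurd h hpp.not_unit
      · exact (associated_mul_unit_right p u h).prime hpp
    · have hx : ∀ p ∈ P, ¬ p ∣ x := fun p hp hpx => hdiv ⟨p, hp, hpx⟩
      have hD := lemmaD P hP x hx
      have hirr : Irreducible (algebraMap A L x) := by
        refine ⟨?_, ?_⟩
        · intro hu
          obtain ⟨w, hw⟩ := hu.exists_right_inv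
          obtain ⟨⟨a, s⟩, rfl⟩ := IsLocalization.mk'_surjective S w
          have h1 : algebraMap A L (x * a) = algebraMap A L s := by
            have := congrArg (fun t => t * algebraMap A L s) hw
            simp only [one_mul, mul_assoc, IsLocalization.mk'_spec] at this
            rw [map_mul]; exact this
          have h2 : (s : A) * 1 = x * a := by rw [mul_one]; exact (hinj h1).symm
          have h3 := hD s s.2 a 1 h2
          exact hxirr.not_isUnit (isUnit_of_dvd_one h3)
        · intro u v huv
          obtain ⟨⟨a, s⟩, rfl⟩ := IsLocalization.mk'_surjective S u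
          obtain ⟨⟨b, t⟩, rfl⟩ := IsLocalization.mk'_surjective S v
          have h1 : algebraMap A L ((s * t : S) * x) = algebraMap A L (a * b) := by
            have := congrArg (fun w => w * (algebraMap A L s * algebraMap A L t)) huv
            simp only at this
            have e : IsLocalization.mk' L a s * IsLocalization.mk' L b t *
                (algebraMap A L s * algebraMap A L t) = algebraMap A L a * algebraMap A L b := by
              calc _ = (IsLocalization.mk' L a s * algebraMap A L s) *
                    (IsLocalization.mk' L b t * algebraMap A L t) := by ring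
                _ = _ := by rw [IsLocalization.mk'_spec, IsLocalization.mk'_spec]
            rw [e] at this
            rw [map_mul, map_mul, Submonoid.coe_mul, map_mul, ← this]; ring
          have h2 : ((s * t : S) : A) * x = a * b := hinj h1
          obtain ⟨a', b', s₁, s₂, hs₁, hs₂, rfl, rfl, hx'⟩ := lemmaG P hP _ (s * t).2 x a b h2
          have hmk : ∀ (c : A) (r : S), IsUnit (algebraMap A L c) → IsUnit (IsLocalization.mk' L c r) := by
            intro c r hc
            have : IsLocalization.mk' L c r * algebraMap A L r = algebraMap A L c :=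
              IsLocalization.mk'_spec L c r
            exact isUnit_of_mul_isUnit_left (this ▸ hc)
          rcases hxirr.isUnit_or_isUnit hx' with h | h
          · left
            apply hmk
            rw [map_mul]
            exact (hunit s₁ hs₁).mul (h.map _)
          · right
            apply hmk
            rw [map_mul]
            exact (hunit s₂ hs₂).mul (h.map _)
      have hprime : Prime (algebraMap A L x) := UniqueFactorizationMonoid.irreducible_iff_prime.mp hirr
      refine ⟨hxirr.ne_zero, hxirr.not_isUnit, ?_⟩
      intro y z hyz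
      have h1 : algebraMap A L x ∣ algebraMap A L y * algebraMap A L z := by
        rw [← map_mul]; exact map_dvd _ hyz
      have aux : ∀ y : A, algebraMap A L x ∣ algebraMap A L y → x ∣ y := by
        intro y hy
        obtain ⟨w, hw⟩ := hy
        obtain ⟨⟨c, s⟩, rfl⟩ := IsLocalization.mk'_surjective S w
        have h2 : algebraMap A L ((s : A) * y) = algebraMap A L (x * c) := by
          rw [map_mul, map_mul, hw]
          calc algebraMap A L s * (algebraMap A L x * IsLocalization.mk' L c s)
              = algebraMap A L x * (IsLocalization.mk' L c s * algebraMap A L s) := by ring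
            _ = _ := by rw [IsLocalization.mk'_spec]
        exact hD s s.2 c y (hinj h2)
      rcases hprime.dvd_or_dvd h1 with h | h
      · exact Or.inl (aux y h)
      · exact Or.inr (aux z h)
  apply UniqueFactorizationMonoid.of_exists_prime_factors
  intro a ha0
  by_cases hau : IsUnit a
  · exact ⟨0, by simp, by simpa using (associated_one_iff_isUnit.mpr hau).symm⟩
  · obtain ⟨f, hf, hfa⟩ := hfac a ha0 hau
    exact ⟨f, fun b hb => key b (hf b hb), hfa⟩

end Groth.Agent.S2119
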