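import Groth.Statements.S2121
import Mathlib.AlgebraicGeometry.PullbackCarrier
import Mathlib.AlgebraicGeometry.ValuativeCriterion
-- import your own Groth.Agent.* helpers here

set_option autoImplicit false
universe u
open CategoryTheory AlgebraicGeometry
open Mor

namespace Groth.Agent.S2121

theorem spec_case {R B : CommRingCat.{u}} (φ : R ⟶ B) (z : Spec R)
    (hz : z ∈ closure (Set.range (Spec.map φ))) : ∃ x : Spec B, Spec.map φ x ⤳ z := by
  let z' : PrimeSpectrum R := z
  have h1 : z' ∈ closure (Set.range (PrimeSpectrum.comap φ.hom)) := hz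
  rw [PrimeSpectrum.closure_range_comap, PrimeSpectrum.mem_zeroLocus] at h1
  obtain ⟨q, -, hq, hqle⟩ := Ideal.exists_ideal_comap_le_prime (f := φ.hom) z'.asIdeal ⊥ (by
    intro r hr
    exact h1 hr)
  refine ⟨(⟨q, hq⟩ : PrimeSpectrum B), ?_⟩
  exact (PrimeSpectrum.le_iff_specializes (⟨q.comap φ.hom, inferInstance⟩ : PrimeSpectrum R) z').mp hqle


theorem exists_specializes {X Y : Scheme.{u}} (f : X ⟶ Y) [QuasiCompact f] (z : Y)
    (hz : z ∈ closure (Set.range f)) : ∃ x : X, f x ⤳ z := by
  wlog hY : ∃ R, Y = Spec R generalizing X Y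
  · let 𝒰 := Y.affineCover
    obtain ⟨z', hz'⟩ := 𝒰.covers z
    let i := 𝒰.idx z
    have _ : QuasiCompact (Limits.pullback.snd f (𝒰.f i)) := MorphismProperty.pullback_snd _ _ ‹_›
    have key : z' ∈ closure (Set.range (Limits.pullback.snd f (𝒰.f i))) := by
      have h3 := AlgebraicGeometry.Scheme.Pullback.range_snd f (𝒰.f i)
      rw [h3]
      rw [← (𝒰.f i).isOpenEmbedding.isOpenMap.preimage_closure_eq_closure_preimage
        (𝒰.f i).continuous]
      rw [Set.mem_preimage, hz']
      exact hz
    obtain ⟨x', hx'⟩ := this (Limits.pullback.snd f (𝒰.f i)) z' key ⟨_, rfl⟩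
    refine ⟨(Limits.pullback.fst f (𝒰.f i)) x', ?_⟩
    have h2 := hx'.map (𝒰.f i).continuous
    rw [hz'] at h2
    convert h2 using 1
    rw [← Scheme.Hom.comp_apply, Limits.pullback.condition]
    rfl
  obtain ⟨R, rfl⟩ := hY
  wlog hX : ∃ B, X = Spec B generalizing X
  · obtain ⟨B, g, hg⟩ := compactSpace_iff_exists.mp (QuasiCompact.compactSpace_of_compactSpace f)
    have inst : QuasiCompact (g ≫ f) := HasAffineProperty.iff_of_isAffine.mpr (by infer_instance)
    obtain ⟨x0, hx0⟩ := this (g ≫ f) (by
      rw [Scheme.Hom.comp_base, TopCat.coe_comp, Set.range_comp, hg.range_eq, Set.image_univ]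
      exact hz) ⟨_, rfl⟩
    exact ⟨g x0, hx0⟩
  obtain ⟨B, rfl⟩ := hX
  obtain ⟨φ, rfl⟩ := Spec.homEquiv.symm.surjective f
  exact spec_case φ z hz


/-- Let `f : X → Y` be quasi-compact and `z` a point in the closure of `f(X)` (the underlying set of the
scheme theoretic image). Then there are a valuation ring `A` with fraction field `K` and morphisms
`Spec K → X`, `Spec A → Y` forming a commutative square with `f` and `Spec K → Spec A`, such that
the closed point of `Spec A` maps to `z`. -/
theorem result {X Y : Scheme.{u}} (f : X ⟶ Y) [QuasiCompact f] (z : Y)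
    (hz : z ∈ closure (Set.range f.base)) :
    ∃ (A : Type u) (_ : CommRing A) (_ : IsDomain A) (_ : ValuationRing A)
      (x : Spec (CommRingCat.of (FractionRing A)) ⟶ X) (y : Spec (CommRingCat.of A) ⟶ Y),
      x ≫ f = Spec.map (CommRingCat.ofHom (algebraMap A (FractionRing A))) ≫ y ∧
      y.base (IsLocalRing.closedPoint A) = z := by
  obtain ⟨x', h⟩ := exists_specializes f z hz
  let stalk_y_to_residue_x' : Y.presheaf.stalk z ⟶ X.residueField x' :=
    Y.presheaf.stalkSpecializes h ≫ f.stalkMap x' ≫ X.residue x'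
  obtain ⟨A, hA, hA_local⟩ := IsLocalRing.exists_factor_valuationRing stalk_y_to_residue_x'.hom
  let stalk_y_to_A : Y.presheaf.stalk z ⟶ .of A :=
    CommRingCat.ofHom (stalk_y_to_residue_x'.hom.codRestrict _ hA)
  have w : X.fromSpecResidueField x' ≫ f =
      Spec.map (CommRingCat.ofHom (algebraMap A (X.residueField x'))) ≫
        Spec.map stalk_y_to_A ≫ Y.fromSpecStalk z := by
    rw [Scheme.fromSpecResidueField, Category.assoc, ← Scheme.SpecMap_stalkMap_fromSpecStalk,
      ← Scheme.SpecMap_stalkSpecializes_fromSpecStalk h]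
    simp_rw [← Spec.map_comp_assoc]
    rfl
  let e : FractionRing A ≃ₐ[A] X.residueField x' := FractionRing.algEquiv A (X.residueField x')
  refine ⟨A, inferInstance, inferInstance, inferInstance,
    Spec.map (CommRingCat.ofHom (e.symm : X.residueField x' →+* FractionRing A)) ≫
      X.fromSpecResidueField x',
    Spec.map stalk_y_to_A ≫ Y.fromSpecStalk z, ?_, ?_⟩
  · rw [Category.assoc, w, ← Spec.map_comp_assoc]
    congr 2
    ext a
    exact e.symm.commutes a
  · simp only [Scheme.Hom.comp_base, TopCat.coe_comp, Function.comp_apply]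
    have : Spec.map stalk_y_to_A (IsLocalRing.closedPoint A) =
        IsLocalRing.closedPoint (Y.presheaf.stalk z) :=
      IsLocalRing.comap_closedPoint (S := A)
        (stalk_y_to_residue_x'.hom.codRestrict A.toSubring hA)
    rw [this, Y.fromSpecStalk_closedPoint]

end Groth.Agent.S2121
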