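import Groth.Statements.S2123
import Mathlib.AlgebraicGeometry.FunctionField
import Mathlib.AlgebraicGeometry.Morphisms.Separated
import Mathlib.AlgebraicGeometry.Stalk

set_option autoImplicit false
universe u
open CategoryTheory AlgebraicGeometry
open Mor

namespace Groth.Agent.S2123

/-- Let `X` be an integral separated scheme and `x, y` points such that the closure of `x` is not
contained in the closure of `y`. Then, inside the function field of `X`, the local ring at `x` is
not contained in the local ring at `y`. -/
theorem result (X : Scheme.{u}) [IsIntegral X] [X.IsSeparated] (x y : X)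
    (h : ¬ closure ({x} : Set X) ⊆ closure {y}) :
    ¬ Set.range (X.presheaf.stalkSpecializes (genericPoint_specializes x)) ⊆
        Set.range (X.presheaf.stalkSpecializes (genericPoint_specializes y)) := by
  intro hsub
  apply h
  let ιx : X.presheaf.stalk x →+* X.presheaf.stalk (genericPoint X) :=
    (X.presheaf.stalkSpecializes (genericPoint_specializes x)).hom
  let ιy : X.presheaf.stalk y →+* X.presheaf.stalk (genericPoint X) :=
    (X.presheaf.stalkSpecializes (genericPoint_specializes y)).hom
  have hιy : Function.Injective ιy :=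
    IsFractionRing.injective (X.presheaf.stalk y) X.functionField
  have hsub' : ∀ a, ιx a ∈ ιy.range := by
    intro a
    obtain ⟨b, hb⟩ := hsub ⟨a, rfl⟩
    exact ⟨b, hb⟩
  let e : X.presheaf.stalk y ≃+* ιy.range :=
    RingEquiv.ofBijective ιy.rangeRestrict ⟨by
      intro a b hab
      apply hιy
      exact congrArg Subtype.val hab, ιy.rangeRestrict_surjective⟩
  let θ : X.presheaf.stalk x →+* X.presheaf.stalk y :=
    (e.symm : ιy.range →+* X.presheaf.stalk y).comp (ιx.codRestrict ιy.range hsub')
  have hθ : ∀ a, ιy (θ a) = ιx a := by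
    intro a
    have h1 : e (θ a) = ιx.codRestrict ιy.range hsub' a := e.apply_symm_apply _
    exact congrArg Subtype.val h1
  have hcomp : X.presheaf.stalkSpecializes (genericPoint_specializes x) =
      CommRingCat.ofHom θ ≫ X.presheaf.stalkSpecializes (genericPoint_specializes y) := by
    ext a
    exact (hθ a).symm
  let f₁ : Spec (X.presheaf.stalk y) ⟶ X := X.fromSpecStalk y
  let f₂ : Spec (X.presheaf.stalk y) ⟶ X := Spec.map (CommRingCat.ofHom θ) ≫ X.fromSpecStalk x
  let ι : Spec (X.presheaf.stalk (genericPoint X)) ⟶ Spec (X.presheaf.stalk y) :=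
    Spec.map (X.presheaf.stalkSpecializes (genericPoint_specializes y))
  haveI : IsDominant ι := by
    constructor
    show DenseRange (PrimeSpectrum.comap ιy)
    rw [PrimeSpectrum.denseRange_comap_iff_ker_le_nilRadical]
    intro a ha
    have : a = 0 := hιy (by rw [map_zero]; exact ha)
    rw [this]; exact zero_mem _
  have key : ι ≫ Spec.map (CommRingCat.ofHom θ) =
      Spec.map (X.presheaf.stalkSpecializes (genericPoint_specializes x)) := by
    rw [hcomp, Spec.map_comp]
    rfl
  have heq : ι ≫ f₁ = ι ≫ f₂ := by
    have e1 : ι ≫ f₁ = X.fromSpecStalk (genericPoint X) :=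
      Scheme.SpecMap_stalkSpecializes_fromSpecStalk _
    have e2 : ι ≫ f₂ = X.fromSpecStalk (genericPoint X) := by
      show ι ≫ Spec.map (CommRingCat.ofHom θ) ≫ X.fromSpecStalk x = _
      rw [← Category.assoc, key]
      exact Scheme.SpecMap_stalkSpecializes_fromSpecStalk _
    rw [e1, e2]
  have hf : f₁ = f₂ := ext_of_isDominant ι heq
  have h1 : f₁ (IsLocalRing.closedPoint (X.presheaf.stalk y)) = y :=
    Scheme.fromSpecStalk_closedPoint
  have h2 : f₂ (IsLocalRing.closedPoint (X.presheaf.stalk y)) ∈ Set.range (X.fromSpecStalk x) := by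
    refine ⟨Spec.map (CommRingCat.ofHom θ) (IsLocalRing.closedPoint (X.presheaf.stalk y)), ?_⟩
    rfl
  rw [← hf, h1, Scheme.range_fromSpecStalk] at h2
  have h3 : y ⤳ x := h2
  have h4 : x ∈ closure ({y} : Set X) := specializes_iff_mem_closure.mp h3
  exact closure_minimal (Set.singleton_subset_iff.mpr h4) isClosed_closure

end Groth.Agent.S2123
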