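import Groth.Statements.S2131
-- import your own Groth.Agent.* helpers here

set_option autoImplicit false
universe u
open CAlg

namespace Groth.Agent.S2131


theorem bijective_map_of_le {R M N : Type*} [CommRing R] [AddCommGroup M] [Module R M]
    [AddCommGroup N] [Module R N] (S T : Submonoid R) (hST : S ≤ T) (φ : M →ₗ[R] N)
    (hb : Function.Bijective (LocalizedModule.map S φ)) :
    Function.Bijective (LocalizedModule.map T φ) := by
  constructor
  · rw [← LinearMap.ker_eq_bot, LinearMap.ker_eq_bot']
    intro x hx
    induction x using LocalizedModule.induction_on with | _ m t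
    rw [LocalizedModule.map_mk] at hx
    rw [← LocalizedModule.zero_mk t, LocalizedModule.mk_eq] at hx
    obtain ⟨u, hu⟩ := hx
    simp only [smul_zero] at hu
    have hu' : φ ((u * t : T) • m) = 0 := by
      rw [mul_smul]
      simpa [Submonoid.smul_def] using hu
    have h1 : LocalizedModule.map S φ (LocalizedModule.mk ((u * t : T) • m) 1) = 0 := by
      rw [LocalizedModule.map_mk, hu', LocalizedModule.zero_mk]
    have h2 := hb.1 (h1.trans (map_zero _).symm)
    rw [← LocalizedModule.zero_mk (1 : S), LocalizedModule.mk_eq] at h2
    obtain ⟨v, hv⟩ := h2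
    simp only [smul_zero, one_smul] at hv
    rw [← LocalizedModule.zero_mk t, LocalizedModule.mk_eq]
    refine ⟨⟨v, hST v.2⟩ * u, ?_⟩
    simp only [smul_zero]
    have : (⟨v, hST v.2⟩ * u : T) • t • m = v • ((u * t : T) • m) := by
      simp only [Submonoid.smul_def, Submonoid.coe_mul, mul_smul]
    rw [this, hv]
  · intro y
    induction y using LocalizedModule.induction_on with | _ n t
    obtain ⟨x, hx⟩ := hb.2 (LocalizedModule.mk n 1)
    induction x using LocalizedModule.induction_on with | _ m s
    rw [LocalizedModule.map_mk, LocalizedModule.mk_eq] at hx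
    obtain ⟨u, hu⟩ := hx
    simp only [one_smul] at hu
    refine ⟨LocalizedModule.mk ((u : R) • m) (⟨u * s, hST (u * s).2⟩ * t), ?_⟩
    rw [LocalizedModule.map_mk, LocalizedModule.mk_eq]
    refine ⟨1, ?_⟩
    simp only [one_smul, map_smul]
    simp only [Submonoid.smul_def, Submonoid.coe_mul, mul_smul] at hu ⊢
    rw [hu, smul_comm (t : R) (u : R), smul_comm (t : R) (s : R)]

/-- For an `R`-linear map from a finite module to a finitely presented module, the primes at which its
localization is bijective form an open subset of `Spec R`. -/
theorem result {R M N : Type u} [CommRing R] [AddCommGroup M] [Module R M] [Module.Finite R M]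
    [AddCommGroup N] [Module R N] [Module.FinitePresentation R N] (φ : M →ₗ[R] N) :
    IsOpen {p : PrimeSpectrum R | Function.Bijective (LocalizedModule.map p.asIdeal.primeCompl φ)} := by
  rw [isOpen_iff_forall_mem_open]
  intro p hp
  obtain ⟨g, hg, hbij⟩ := Module.FinitePresentation.exists_notMem_bijective φ p.asIdeal
    (LocalizedModule.mkLinearMap p.asIdeal.primeCompl M)
    (LocalizedModule.mkLinearMap p.asIdeal.primeCompl N) (by
      have := hp
      simp only [Set.mem_setOf_eq] at this
      exact this)
  refine ⟨PrimeSpectrum.basicOpen g, ?_, (PrimeSpectrum.basicOpen g).2, hg⟩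
  intro q hq
  simp only [Set.mem_setOf_eq]
  apply bijective_map_of_le (Submonoid.powers g) q.asIdeal.primeCompl ?_ φ hbij
  rw [Submonoid.powers_le]
  exact hq

end Groth.Agent.S2131
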