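import Groth.Statements.S2132
import Mathlib.Algebra.Category.Ring.FilteredColimits
import Mathlib.CategoryTheory.Limits.ConcreteCategory.Basic
import Mathlib.Algebra.Polynomial.Lifts
-- import your own Groth.Agent.* helpers here

set_option autoImplicit false
universe u
open CategoryTheory
open CAlg

namespace Groth.Agent.S2132


section
open Limits Polynomial

variable {J : Type u} [SmallCategory J] [IsFiltered J] (F : J ⥤ CommRingCat.{u})
  (c : Limits.Cocone F) (hc : Limits.IsColimit c)

include hc in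
theorem exists_rep (x : c.pt) : ∃ (j : J) (y : F.obj j), (c.ι.app j).hom y = x :=
  Limits.Concrete.isColimit_exists_rep F hc x

include hc in
theorem eq_of_rep_eq {i j : J} (x : F.obj i) (y : F.obj j)
    (h : (c.ι.app i).hom x = (c.ι.app j).hom y) :
    ∃ (k : J) (f : i ⟶ k) (g : j ⟶ k), (F.map f).hom x = (F.map g).hom y :=
  Limits.Concrete.isColimit_exists_of_rep_eq F hc x y h

theorem ι_map {i j : J} (f : i ⟶ j) (x : F.obj i) :
    (c.ι.app j).hom ((F.map f).hom x) = (c.ι.app i).hom x := by
  have := c.w f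
  rw [← this]
  rfl

include hc in
theorem isLocalHom_ι (hloc : ∀ (i j : J) (a : i ⟶ j), IsLocalHom (F.map a).hom) (j : J) :
    IsLocalHom (c.ι.app j).hom := by
  constructor
  intro a ha
  obtain ⟨b, hb⟩ := ha.exists_right_inv
  obtain ⟨k, b', rfl⟩ := exists_rep F c hc b
  let l := IsFiltered.max j k
  have h1 : (c.ι.app l).hom ((F.map (IsFiltered.leftToMax j k)).hom a *
      (F.map (IsFiltered.rightToMax j k)).hom b') = (c.ι.app l).hom 1 := by
    rw [map_mul, ι_map, ι_map, hb, map_one]
  obtain ⟨l', f, g, hfg⟩ := eq_of_rep_eq F c hc _ _ h1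
  rw [map_mul, map_one] at hfg
  have hunit : IsUnit ((F.map f).hom ((F.map (IsFiltered.leftToMax j k)).hom a)) :=
    IsUnit.of_mul_eq_one _ hfg
  haveI := hloc l l' f
  haveI := hloc j l (IsFiltered.leftToMax j k)
  exact (isUnit_map_iff _ _).mp ((isUnit_map_iff _ _).mp hunit)

include hc in
theorem isLocalRing_pt (hF : ∀ j, IsLocalRing (F.obj j))
    (hloc : ∀ (i j : J) (a : i ⟶ j), IsLocalHom (F.map a).hom) : IsLocalRing c.pt := by
  have j0 : J := IsFiltered.nonempty.some
  haveI : Nontrivial c.pt := by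
    refine ⟨⟨0, 1, ?_⟩⟩
    intro h01
    have h1 : (c.ι.app j0).hom (0 : F.obj j0) = (c.ι.app j0).hom 1 := by
      rw [map_zero, map_one]; exact h01
    obtain ⟨k, f, g, hfg⟩ := eq_of_rep_eq F c hc _ _ h1
    rw [map_zero, map_one] at hfg
    haveI := hF k
    exact zero_ne_one hfg
  apply IsLocalRing.of_isUnit_or_isUnit_one_sub_self
  intro a
  obtain ⟨j, a', rfl⟩ := exists_rep F c hc a
  haveI := hF j
  rcases IsLocalRing.isUnit_or_isUnit_one_sub_self a' with h | h
  · exact Or.inl (h.map _)
  · right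
    have := h.map (c.ι.app j).hom
    rwa [map_sub, map_one] at this

include hc in
theorem exists_common (s : Finset c.pt) :
    ∃ j : J, ∀ x ∈ s, x ∈ Set.range (c.ι.app j).hom := by
  classical
  induction s using Finset.induction_on with
  | empty => exact ⟨IsFiltered.nonempty.some, by simp⟩
  | insert a s _ ih =>
    obtain ⟨j, hj⟩ := ih
    obtain ⟨k, a', rfl⟩ := exists_rep F c hc a
    refine ⟨IsFiltered.max j k, ?_⟩
    intro x hx
    rcases Finset.mem_insert.mp hx with rfl | hx
    · exact ⟨(F.map (IsFiltered.rightToMax j k)).hom a', ι_map F c _ _⟩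
    · obtain ⟨y, rfl⟩ := hj x hx
      exact ⟨(F.map (IsFiltered.leftToMax j k)).hom y, ι_map F c _ _⟩

end

/-- Let `F : J ⥤ CommRingCat` be a filtered diagram of henselian local rings with local transition maps
and `c` a colimit cocone. Then the colimit is a henselian local ring. -/
theorem result {J : Type u} [SmallCategory J] [IsFiltered J] (F : J ⥤ CommRingCat.{u})
    (hF : ∀ j, HenselianLocalRing (F.obj j)) (hloc : ∀ (i j : J) (a : i ⟶ j), IsLocalHom (F.map a).hom)
    (c : Limits.Cocone F) (hc : Limits.IsColimit c) : HenselianLocalRing c.pt := by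
  classical
  haveI hlocal : IsLocalRing c.pt :=
    isLocalRing_pt F c hc (fun j => (hF j).toIsLocalRing) hloc
  refine { is_henselian := ?_ }
  intro f hf a₀ h₁ h₂
  obtain ⟨j, hj⟩ := exists_common F c hc (insert a₀ f.coeffs)
  haveI := isLocalHom_ι F c hc hloc j
  haveI := hF j
  have hlift : f ∈ Polynomial.lifts (c.ι.app j).hom := by
    rw [Polynomial.lifts_iff_coeffs_subset_range]
    intro x hx
    exact hj x (Finset.mem_insert_of_mem hx)
  obtain ⟨q, hq, -, hqm⟩ := Polynomial.lifts_and_natDegree_eq_and_monic hlift hf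
  obtain ⟨b₀, hb₀⟩ := hj a₀ (Finset.mem_insert_self _ _)
  have e1 : f.eval a₀ = (c.ι.app j).hom (q.eval b₀) := by
    rw [← hq, ← hb₀, Polynomial.eval_map_apply]
  have e2 : f.derivative.eval a₀ = (c.ι.app j).hom (q.derivative.eval b₀) := by
    rw [← hq, ← hb₀, Polynomial.derivative_map, Polynomial.eval_map_apply]
  have hq1 : q.eval b₀ ∈ IsLocalRing.maximalIdeal (F.obj j) := by
    rw [IsLocalRing.mem_maximalIdeal, mem_nonunits_iff]
    intro hu
    rw [e1, IsLocalRing.mem_maximalIdeal, mem_nonunits_iff] at h₁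
    exact h₁ (hu.map _)
  have hq2 : IsUnit (q.derivative.eval b₀) := by
    rw [e2] at h₂
    exact (isUnit_map_iff _ _).mp h₂
  obtain ⟨b, hb1, hb2⟩ := HenselianLocalRing.is_henselian q hqm b₀ hq1 hq2
  refine ⟨(c.ι.app j).hom b, ?_, ?_⟩
  · rw [Polynomial.IsRoot.def, ← hq, Polynomial.eval_map_apply, hb1.eq_zero, map_zero]
  · rw [← hb₀, ← map_sub, IsLocalRing.mem_maximalIdeal, mem_nonunits_iff]
    intro hu
    rw [IsLocalRing.mem_maximalIdeal, mem_nonunits_iff] at hb2
    exact hb2 ((isUnit_map_iff _ _).mp hu)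

end Groth.Agent.S2132
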