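import Groth.Statements.S2133
import Mathlib.RingTheory.Etale.Kaehler
import Mathlib.RingTheory.Etale.Basic
import Mathlib.RingTheory.Localization.Away.Basic

set_option autoImplicit false
universe u
open CAlg

namespace Groth.Agent.S2133

open TensorProduct

/-- A derivation extends to a localization. -/
theorem ext_der {R L : Type u} [CommRing R] [CommRing L] [Algebra R L] (M : Submonoid R)
    [IsLocalization M L] (D : Derivation ℤ R R) :
    ∃ DL : Derivation ℤ L L, ∀ r, DL (algebraMap R L r) = algebraMap R L (D r) := by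
  let D₁ : Derivation ℤ R L := (Algebra.linearMap R L).compDer D
  let ℓ : Ω[R⁄ℤ] →ₗ[R] L := D₁.liftKaehlerDifferential
  let ℓ' : L ⊗[R] Ω[R⁄ℤ] →ₗ[L] L := ℓ.liftBaseChange L
  haveI : Algebra.FormallyEtale R L := Algebra.FormallyEtale.of_isLocalization M
  let e := KaehlerDifferential.tensorKaehlerEquivOfFormallyEtale ℤ R L
  refine ⟨(ℓ' ∘ₗ e.symm.toLinearMap).compDer (KaehlerDifferential.D ℤ L), fun r => ?_⟩
  show ℓ' (e.symm (KaehlerDifferential.D ℤ L (algebraMap R L r))) = _
  rw [KaehlerDifferential.tensorKaehlerEquivOfFormallyEtale_symm_D_algebraMap,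
    LinearMap.liftBaseChange_tmul, one_smul]
  show D₁.liftKaehlerDifferential (KaehlerDifferential.D ℤ R r) = _
  rw [Derivation.liftKaehlerDifferential_comp_D]
  rfl

theorem aux {R R' : Type u} [CommRing R] [CommRing R'] [Algebra R R'] [Algebra.FiniteType R R']
    (hinj : Function.Injective (algebraMap R R')) (g : R) (hg : IsSMulRegular R' (algebraMap R R' g))
    (hloc : ∀ x : R', ∃ n : ℕ, (algebraMap R R' g) ^ n * x ∈ Set.range (algebraMap R R')) (D : Derivation ℤ R R)
    (L : Type u) [CommRing L] [Algebra R' L] [Algebra R L] [IsScalarTower R R' L]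
    [IsLocalization.Away (algebraMap R R' g) L] :
    ∃ (N : ℕ) (D' : Derivation ℤ R' R'), ∀ r : R, D' (algebraMap R R' r) = algebraMap R R' (g ^ N * D r) := by
  classical
  have hleft : IsLeftRegular (algebraMap R R' g) := fun a b hab => hg (by simpa using hab)
  have hreg : IsRegular (algebraMap R R' g) :=
    ⟨hleft, fun a b hab => hleft (by simpa [mul_comm] using hab)⟩
  have hgnzd : (algebraMap R R' g) ∈ nonZeroDivisors R' := isRegular_iff_mem_nonZeroDivisors.mp hreg
  have hιinj : Function.Injective (algebraMap R' L) :=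
    IsLocalization.injective L (M := Submonoid.powers (algebraMap R R' g))
      (Submonoid.powers_le.mpr hgnzd)
  have htower : ∀ r : R, algebraMap R L r = algebraMap R' L (algebraMap R R' r) := fun r =>
    IsScalarTower.algebraMap_apply R R' L r
  haveI hLoc : IsLocalization (Submonoid.powers g) L := by
    rw [isLocalization_iff]
    refine ⟨?_, ?_, ?_⟩
    · rintro ⟨_, k, rfl⟩
      show IsUnit (algebraMap R L (g ^ k))
      rw [htower, map_pow]
      exact IsLocalization.map_units L
        (⟨(algebraMap R R' g) ^ k, ⟨k, rfl⟩⟩ : Submonoid.powers (algebraMap R R' g))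
    · intro z
      obtain ⟨x, ⟨_, k, rfl⟩, rfl⟩ :=
        IsLocalization.exists_mk'_eq (Submonoid.powers (algebraMap R R' g)) z
      obtain ⟨n, r, hr⟩ := hloc x
      refine ⟨(r, ⟨g ^ (n + k), ⟨n + k, rfl⟩⟩), ?_⟩
      show IsLocalization.mk' L x _ * algebraMap R L (g ^ (n + k)) = algebraMap R L r
      rw [htower, htower, hr, map_pow, pow_add, map_mul, map_mul]
      have := IsLocalization.mk'_spec L x
        (⟨(algebraMap R R' g) ^ k, ⟨k, rfl⟩⟩ : Submonoid.powers (algebraMap R R' g))
      simp only at this
      rw [mul_comm (algebraMap R' L ((algebraMap R R' g) ^ n)), ← mul_assoc, this, mul_comm]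
    · intro a b hab
      rw [htower, htower] at hab
      exact ⟨1, by rw [hinj (hιinj hab)]⟩
  obtain ⟨DL, hDL⟩ := ext_der (L := L) (Submonoid.powers g) D
  have hDL' : ∀ r : R, DL (algebraMap R' L (algebraMap R R' r)) =
      algebraMap R' L (algebraMap R R' (D r)) := by
    intro r
    rw [← htower, hDL, htower]
  let ι : R' →+* L := algebraMap R' L
  obtain ⟨G, hG⟩ : ∃ G : L, G = ι (algebraMap R R' g) := ⟨_, rfl⟩
  have hform : ∀ z : L, ∃ (k : ℕ) (y : R'), ι y = G ^ k * z := by
    intro z
    obtain ⟨x, ⟨_, k, rfl⟩, rfl⟩ :=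
      IsLocalization.exists_mk'_eq (Submonoid.powers (algebraMap R R' g)) z
    refine ⟨k, x, ?_⟩
    have := IsLocalization.mk'_spec' L x
      (⟨(algebraMap R R' g) ^ k, ⟨k, rfl⟩⟩ : Submonoid.powers (algebraMap R R' g))
    simp only [map_pow] at this
    rw [hG]
    exact this.symm
  obtain ⟨s, hs⟩ := (Algebra.FiniteType.out : (⊤ : Subalgebra R R').FG)
  choose kf yf hky using fun x : R' => hform (DL (ι x))
  let N : ℕ := s.sup kf
  let W : Subalgebra R R' :=
    { carrier := {z | G ^ N * DL (ι z) ∈ Set.range ι}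
      mul_mem' := by
        rintro a b ⟨ya, hya⟩ ⟨yb, hyb⟩
        refine ⟨a * yb + b * ya, ?_⟩
        rw [map_add, map_mul, map_mul, hya, hyb, map_mul ι a b, DL.leibniz]
        simp only [smul_eq_mul]
        ring
      add_mem' := by
        rintro a b ⟨ya, hya⟩ ⟨yb, hyb⟩
        refine ⟨ya + yb, ?_⟩
        rw [map_add, hya, hyb, map_add ι a b, map_add DL, mul_add]
      algebraMap_mem' := by
        intro r
        refine ⟨(algebraMap R R' g) ^ N * algebraMap R R' (D r), ?_⟩
        show ι _ = G ^ N * DL (algebraMap R' L (algebraMap R R' r))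
        rw [hDL', map_mul, map_pow, hG] }
  have hW : W = ⊤ := by
    rw [eq_top_iff, ← hs, Algebra.adjoin_le_iff]
    intro x hx
    have hle : kf x ≤ N := Finset.le_sup (f := kf) hx
    refine ⟨(algebraMap R R' g) ^ (N - kf x) * yf x, ?_⟩
    rw [map_mul, hky x, map_pow, ← hG, ← mul_assoc, ← pow_add, Nat.sub_add_cancel hle]
  have hall : ∀ z : R', ∃ y : R', ι y = G ^ N * DL (ι z) := by
    intro z
    have : z ∈ W := by rw [hW]; trivial
    exact this
  choose D'f hD'f using hall
  let D'add : R' →+ R' :=
    { toFun := D'f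
      map_zero' := by
        apply hιinj
        show ι (D'f 0) = ι 0
        rw [hD'f, map_zero, map_zero, mul_zero]
      map_add' := by
        intro a b
        apply hιinj
        show ι (D'f (a + b)) = ι (D'f a + D'f b)
        rw [map_add ι (D'f a), hD'f, hD'f, hD'f, map_add, map_add, mul_add] }
  let D' : Derivation ℤ R' R' := Derivation.mk' D'add.toIntLinearMap (by
    intro a b
    apply hιinj
    show ι (D'f (a * b)) = ι (a • D'f b + b • D'f a)
    simp only [smul_eq_mul]
    rw [map_add, map_mul, map_mul, hD'f, hD'f, hD'f, map_mul, DL.leibniz]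
    simp only [smul_eq_mul]
    ring)
  refine ⟨N, D', fun r => ?_⟩
  apply hιinj
  show ι (D'f (algebraMap R R' r)) = ι (algebraMap R R' (g ^ N * D r))
  rw [hD'f]
  show G ^ N * DL (algebraMap R' L (algebraMap R R' r)) = _
  rw [hDL', map_mul (algebraMap R R'), map_pow (algebraMap R R'), map_mul, map_pow, hG]

/-- Let `R → R'` be an injective ring map of finite type and `g ∈ R` a nonzerodivisor on `R'` such that
every element of `R'` lands in `R` after multiplication by a power of `g` (so `R_g = R'_g`). Then
for every derivation `D` of `R` there is `N` such that `g^N D` extends to a derivation of `R'`. -/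
theorem result {R R' : Type u} [CommRing R] [CommRing R'] [Algebra R R'] [Algebra.FiniteType R R']
    (hinj : Function.Injective (algebraMap R R')) (g : R) (hg : IsSMulRegular R' (algebraMap R R' g))
    (hloc : ∀ x : R', ∃ n : ℕ, (algebraMap R R' g) ^ n * x ∈ Set.range (algebraMap R R')) (D : Derivation ℤ R R) :
    ∃ (N : ℕ) (D' : Derivation ℤ R' R'), ∀ r : R, D' (algebraMap R R' r) = algebraMap R R' (g ^ N * D r) :=
  aux hinj g hg hloc D (Localization.Away (algebraMap R R' g))

end Groth.Agent.S2133
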