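import Groth.Statements.S2134
import Mathlib.Tactic
-- import your own Groth.Agent.* helpers here

set_option autoImplicit false
universe u
open CAlg

namespace Groth.Agent.S2134

/-- Let `K/k` be a field extension and `(K_α)` a nonempty family of intermediate fields, directed
downwards, with intersection `k`. For a `K`-subspace `V` of `K^n` (`n ≥ 1`), `V` contains a nonzero
vector with all coordinates in `k` if and only if for every `α` it contains a nonzero vector with
all coordinates in `K_α`. -/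
theorem result {k K : Type u} [Field k] [Field K] [Algebra k K] {ι : Type u} [Nonempty ι]
    (F : ι → IntermediateField k K) (hdir : ∀ a b : ι, ∃ c, F c ≤ F a ⊓ F b) (hinf : ⨅ a, F a = ⊥) (n : ℕ) (hn : 1 ≤ n)
    (V : Submodule K (Fin n → K)) :
    (∃ v ∈ V, v ≠ 0 ∧ ∀ i, v i ∈ Set.range (algebraMap k K)) ↔
      ∀ a, ∃ v ∈ V, v ≠ 0 ∧ ∀ i, v i ∈ F a := by
  classical
  constructor
  · rintro ⟨v, hvV, hv0, hvk⟩ a
    refine ⟨v, hvV, hv0, fun i => ?_⟩
    obtain ⟨r, hr⟩ := hvk i
    rw [← hr]; exact (F a).algebraMap_mem r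
  · intro h
    let Q : ι → Finset (Fin n) → Prop := fun a T =>
      ∃ v ∈ V, v ≠ 0 ∧ (∀ i, v i ∈ F a) ∧ ∀ i, i ∉ T → v i = 0
    have hQmono : ∀ a c T, F c ≤ F a → Q c T → Q a T := by
      rintro a c T hca ⟨v, hvV, hv0, hvc, hvT⟩
      exact ⟨v, hvV, hv0, fun i => hca (hvc i), hvT⟩
    have huniv : ∀ a, Q a Finset.univ := fun a => by
      obtain ⟨v, hv, hv0, hva⟩ := h a
      exact ⟨v, hv, hv0, hva, fun i hi => absurd (Finset.mem_univ i) hi⟩
    let 𝒯 : Finset (Finset (Fin n)) := Finset.univ.filter (fun T => ∀ a, Q a T)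
    have h𝒯ne : 𝒯.Nonempty := ⟨Finset.univ, Finset.mem_filter.mpr ⟨Finset.mem_univ _, huniv⟩⟩
    obtain ⟨T, hT𝒯, hTmin⟩ := Finset.exists_min_image 𝒯 Finset.card h𝒯ne
    have hTQ : ∀ a, Q a T := (Finset.mem_filter.mp hT𝒯).2
    have a₀ : ι := Classical.arbitrary ι
    have hTne : T.Nonempty := by
      by_contra hempty
      rw [Finset.not_nonempty_iff_eq_empty] at hempty
      obtain ⟨v, -, hv0, -, hvT⟩ := hTQ a₀
      apply hv0; funext i; exact hvT i (by rw [hempty]; exact Finset.notMem_empty i)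
    obtain ⟨i0, hi0⟩ := hTne
    have hnot : ¬ ∀ a, Q a (T.erase i0) := by
      intro hall
      have hmem : T.erase i0 ∈ 𝒯 := Finset.mem_filter.mpr ⟨Finset.mem_univ _, hall⟩
      have h1 := hTmin _ hmem
      have hlt := Finset.card_erase_lt_of_mem hi0
      omega
    obtain ⟨a1, ha1⟩ := not_forall.mp hnot
    have herase : ∀ i, i ∉ T.erase i0 → i ∈ T → i = i0 := by
      intro i hi hiT
      by_contra hne
      exact hi (Finset.mem_erase.mpr ⟨hne, hiT⟩)
    have hnorm : ∀ c, F c ≤ F a1 →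
        ∃ w ∈ V, w i0 = 1 ∧ (∀ i, w i ∈ F c) ∧ ∀ i, i ∉ T → w i = 0 := by
      intro c hc
      obtain ⟨v, hvV, hv0, hvc, hvT⟩ := hTQ c
      have hvi0 : v i0 ≠ 0 := by
        intro hzero
        apply ha1
        apply hQmono a1 c _ hc
        refine ⟨v, hvV, hv0, hvc, fun i hi => ?_⟩
        by_cases hiT : i ∈ T
        · rw [herase i hi hiT]; exact hzero
        · exact hvT i hiT
      refine ⟨(v i0)⁻¹ • v, V.smul_mem _ hvV, by simp [hvi0], fun i => ?_,
        fun i hi => by simp [hvT i hi]⟩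
      simp only [Pi.smul_apply, smul_eq_mul]
      exact (F c).mul_mem ((F c).inv_mem (hvc i0)) (hvc i)
    obtain ⟨w, hwV, hw1, hwa1, hwT⟩ := hnorm a1 le_rfl
    have hwc : ∀ c, F c ≤ F a1 → ∀ i, w i ∈ F c := by
      intro c hc
      obtain ⟨w', hw'V, hw'1, hw'c, hw'T⟩ := hnorm c hc
      have hsub : w - w' = 0 := by
        by_contra hne
        apply ha1
        refine ⟨w - w', V.sub_mem hwV hw'V, hne,
          fun i => (F a1).sub_mem (hwa1 i) (hc (hw'c i)), fun i hi => ?_⟩
        by_cases hiT : i ∈ T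
        · rw [herase i hi hiT]; simp [hw1, hw'1]
        · simp [hwT i hiT, hw'T i hiT]
      have heq : w = w' := sub_eq_zero.mp hsub
      rw [heq]; exact hw'c
    refine ⟨w, hwV, ?_, fun i => ?_⟩
    · intro h0; rw [h0] at hw1; simp at hw1
    · have hmem : w i ∈ ⨅ a, F a := by
        rw [iInf, IntermediateField.mem_sInf]
        rintro _ ⟨a, rfl⟩
        obtain ⟨c, hc⟩ := hdir a a1
        exact (le_inf_iff.mp hc).1 (hwc c (le_inf_iff.mp hc).2 i)
      rw [hinf, IntermediateField.mem_bot] at hmem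
      exact hmem

end Groth.Agent.S2134
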