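import Groth.Statements.S2135
import Groth.Agent.Lib.Helper3.GeomUnibranch

set_option autoImplicit false
universe u
open CAlg

namespace Groth.Agent.S2135

/-- A local ring `A` is geometrically unibranch if and only if a strict henselization of `A` has a
unique minimal prime ideal. -/
theorem result {A Ash : Type u} [CommRing A] [IsLocalRing A]
    [CommRing Ash] [IsLocalRing Ash] [Algebra A Ash] [IsLocalHom (algebraMap A Ash)]
    [Hensel.IsStrictHenselization A Ash] :
    CAlg2.IsGeomUnibranch A ↔ CAlgX.HasUniqueMinimalPrime Ash := by
  rw [Groth.Agent.Lib.Helper3.isGeomUnibranch_iff_isPrime_nilradical_strictHenselization A Ash,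
    Groth.Agent.Lib.Helper3.isPrime_nilradical_iff_existsUnique_minimalPrimes]
  rfl

end Groth.Agent.S2135
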