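import Groth.Statements.S2138
import Groth.Agent.Lib.Helper10.FlatPrimary
import Mathlib.RingTheory.Localization.Ideal
import Mathlib.RingTheory.Localization.AtPrime.Basic

set_option autoImplicit false
universe u
open CAlg

namespace Groth.Agent.S2138

/-- Let `R → S` be flat and `𝔭` a prime of `R` whose extension `𝔮 = 𝔭S` is prime. Then for every `n` the
extension to `S` of the symbolic power `𝔭^{(n)}` (the contraction of `𝔭ⁿR_𝔭`) equals the symbolic
power `𝔮^{(n)}`. -/
theorem result {R S : Type u} [CommRing R] [CommRing S] [Algebra R S] [Module.Flat R S]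
    (p : Ideal R) [p.IsPrime] [(p.map (algebraMap R S)).IsPrime] (n : ℕ) :
    (((p ^ n).map (algebraMap R (Localization.AtPrime p))).comap (algebraMap R (Localization.AtPrime p))).map
        (algebraMap R S) =
      (((p.map (algebraMap R S)) ^ n).map (algebraMap S (Localization.AtPrime (p.map (algebraMap R S))))).comap
        (algebraMap S (Localization.AtPrime (p.map (algebraMap R S)))) := by
  classical
  set φ := algebraMap R S with hφ
  set q : Ideal S := p.map φ with hq
  have hqprime : q.IsPrime := inferInstance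
  -- symbolic powers
  let P : ℕ → Ideal R := fun k =>
    ((p ^ k).map (algebraMap R (Localization.AtPrime p))).comap (algebraMap R (Localization.AtPrime p))
  have hPmem : ∀ k r, r ∈ P k ↔ ∃ m ∈ p.primeCompl, m * r ∈ p ^ k := by
    intro k r
    rw [Ideal.mem_comap]
    exact IsLocalization.algebraMap_mem_map_algebraMap_iff p.primeCompl _ _ _
  have hQmem : ∀ s, s ∈ ((q ^ n).map (algebraMap S (Localization.AtPrime q))).comap
      (algebraMap S (Localization.AtPrime q)) ↔ ∃ m ∈ q.primeCompl, m * s ∈ q ^ n := by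
    intro s
    rw [Ideal.mem_comap]
    exact IsLocalization.algebraMap_mem_map_algebraMap_iff q.primeCompl _ _ _
  have hP0 : P 0 = ⊤ := by
    rw [Ideal.eq_top_iff_one, hPmem]
    exact ⟨1, Submonoid.one_mem _, by simp⟩
  have hPprim : ∀ k r x, r ∉ p → r * x ∈ P k → x ∈ P k := by
    intro k r x hr hrx
    rw [hPmem] at hrx ⊢
    obtain ⟨m, hm, hmx⟩ := hrx
    exact ⟨m * r, Submonoid.mul_mem _ hm hr, by rw [mul_assoc]; exact hmx⟩
  have hPmul : ∀ k, p * P k ≤ P (k + 1) := by
    intro k
    rw [Ideal.mul_le]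
    intro y hy x hx
    rw [hPmem] at hx ⊢
    obtain ⟨m, hm, hmx⟩ := hx
    refine ⟨m, hm, ?_⟩
    rw [pow_succ']
    have : m * (y * x) = y * (m * x) := by ring
    rw [this]
    exact Ideal.mul_mem_mul hy hmx
  have hPanti : ∀ k, P (k + 1) ≤ P k := by
    intro k x hx
    rw [hPmem] at hx ⊢
    obtain ⟨m, hm, hmx⟩ := hx
    exact ⟨m, hm, Ideal.pow_le_pow_right (Nat.le_succ k) hmx⟩
  have hpowle : p ^ n ≤ P n := by
    intro x hx
    rw [hPmem]
    exact ⟨1, Submonoid.one_mem _, by rwa [one_mul]⟩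
  -- `φ m ∉ q` for `m ∉ p`
  have hA : ∀ m, m ∉ p → φ m ∉ q := by
    intro m hm hmem
    have h1 : φ m * 1 ∈ p.map φ := by rw [mul_one]; exact hmem
    have h2 := Groth.Agent.Lib.Helper10.mem_map_of_mul_mem_map_of_flat p m
      (fun x hx => (Ideal.IsPrime.mem_or_mem inferInstance hx).resolve_left hm) (1 : S) h1
    exact hqprime.ne_top ((Ideal.eq_top_iff_one _).mpr h2)
  show (P n).map φ = _
  apply le_antisymm
  · rw [Ideal.map_le_iff_le_comap]
    intro r hr
    rw [Ideal.mem_comap, hQmem]
    obtain ⟨m, hm, hmr⟩ := (hPmem n r).mp hr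
    refine ⟨φ m, hA m hm, ?_⟩
    rw [← map_mul, hq, ← Ideal.map_pow]
    exact Ideal.mem_map_of_mem _ hmr
  · intro s hs
    obtain ⟨t, ht, hts⟩ := (hQmem s).mp hs
    have h1 : t * s ∈ (P n).map φ := by
      rw [hq, ← Ideal.map_pow] at hts
      exact Ideal.map_mono hpowle hts
    exact Groth.Agent.Lib.Helper10.primary_map_of_flat p hqprime P hP0 hPprim hPmul hPanti n t s ht h1

end Groth.Agent.S2138
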