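import Groth.Statements.S2139
import Mathlib.RingTheory.Localization.Integral
import Mathlib.RingTheory.IntegralClosure.IntegrallyClosed
import Mathlib.RingTheory.Ideal.MinimalPrime.Basic
import Mathlib.RingTheory.Localization.AtPrime.Basic
import Mathlib.RingTheory.Ideal.Colon
import Mathlib.Tactic

set_option autoImplicit false
universe u
open CAlg

namespace Groth.Agent.S2139

open Polynomial

section helpers

variable {R : Type u} [CommRing R]

/-- homogenization of a polynomial at `(a, b)` -/
noncomputable def Hfun (Q : R[X]) (a b : R) : R :=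
  ∑ k ∈ Finset.range (Q.natDegree + 1), Q.coeff k * a ^ k * b ^ (Q.natDegree - k)

theorem hom_identity {T : Type*} [CommRing T] (f : R →+* T) (Q : R[X]) (x : T) (a b : R)
    (h : x * f b = f a) : (f b) ^ Q.natDegree * eval₂ f x Q = f (Hfun Q a b) := by
  rw [eval₂_eq_sum_range, Hfun, map_sum, Finset.mul_sum]
  apply Finset.sum_congr rfl
  intro k hk
  have hk' : k ≤ Q.natDegree := Nat.lt_succ_iff.mp (Finset.mem_range.mp hk)
  rw [map_mul, map_mul, map_pow, map_pow, ← h]
  have : (f b) ^ Q.natDegree = (f b) ^ k * (f b) ^ (Q.natDegree - k) := by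
    rw [← pow_add, Nat.add_sub_cancel' hk']
  rw [this]; ring

theorem Hfun_map {T : Type*} [CommRing T] (f : R →+* T) (Q : R[X]) (a b a' b' : R)
    (ha : f a = f a') (hb : f b = f b') : f (Hfun Q a b) = f (Hfun Q a' b') := by
  simp only [Hfun, map_sum, map_mul, map_pow, ha, hb]

theorem eq_zero_of_forall_mem_minimalPrimes [IsReduced R] (y : R)
    (h : ∀ p ∈ minimalPrimes R, y ∈ p) : y = 0 := by
  have h1 : y ∈ sInf (minimalPrimes R) := by
    rw [Ideal.mem_sInf]; exact fun {p} hp => h p hp
  have h2 : sInf (minimalPrimes R) = (⊥ : Ideal R).radical := Ideal.sInf_minimalPrimes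
  rw [h2] at h1
  have h3 : (⊥ : Ideal R).radical = ⊥ := by
    have := nilradical_eq_zero R
    exact this
  rw [h3] at h1
  exact h1

theorem exists_eps [IsReduced R] (hfin : (minimalPrimes R).Finite)
    (hcl : IsIntegrallyClosedIn R (FractionRing R)) (p : Ideal R) (hp : p ∈ minimalPrimes R) :
    ∃ ε : R, 1 - ε ∈ p ∧ ∀ p' ∈ minimalPrimes R, p' ≠ p → ε ∈ p' := by
  classical
  haveI hpprime : p.IsPrime := Ideal.minimalPrimes_isPrime hp
  set Ps : Finset (Ideal R) := hfin.toFinset.erase p with hPs
  have hPsmem : ∀ p', p' ∈ Ps ↔ p' ≠ p ∧ p' ∈ minimalPrimes R := by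
    intro p'; simp [hPs, Finset.mem_erase, Set.Finite.mem_toFinset]
  have hmin_eq : ∀ p' ∈ minimalPrimes R, ∀ p'' ∈ minimalPrimes R, p' ≤ p'' → p' = p'' := by
    intro p' hp' p'' hp'' hle
    have := hp''.2 ⟨Ideal.minimalPrimes_isPrime hp', bot_le⟩ hle
    exact le_antisymm hle this
  have hx : ∃ x, x ∈ Ps.inf id ∧ x ∉ p := by
    by_contra hcon
    have hle : Ps.inf id ≤ p := fun x hx => by
      by_contra hxp; exact hcon ⟨x, hx, hxp⟩
    obtain ⟨p', hp'Ps, hp'le⟩ := (Ideal.IsPrime.inf_le' hpprime).mp hle
    have := (hPsmem p').mp hp'Ps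
    exact this.1 (hmin_eq p' this.2 p hp hp'le)
  obtain ⟨x, hxinf, hxp⟩ := hx
  have hxmem : ∀ p' ∈ Ps, x ∈ p' := by
    intro p' hp'
    exact (Finset.inf_le hp' : Ps.inf id ≤ id p') hxinf
  have hz : ∃ z, z ∈ p ∧ ∀ p' ∈ Ps, z ∉ p' := by
    by_contra hcon
    have hsub : (p : Set R) ⊆ ⋃ p' ∈ (Ps : Set (Ideal R)), ((id p' : Ideal R) : Set R) := by
      intro z hz
      by_contra hzn
      apply hcon
      refine ⟨z, hz, fun p' hp' hzp' => hzn ?_⟩
      simp only [Set.mem_iUnion]
      exact ⟨p', hp', hzp'⟩
    obtain ⟨p', hp'Ps, hle⟩ := (Ideal.subset_union_prime (f := id) p p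
      (fun i hi _ _ => Ideal.minimalPrimes_isPrime ((hPsmem i).mp hi).2)).mp hsub
    have := (hPsmem p').mp hp'Ps
    exact this.1 (hmin_eq p hp p' this.2 hle).symm
  obtain ⟨z, hzp, hzn⟩ := hz
  set d := x + z with hd
  have hdn : ∀ p' ∈ minimalPrimes R, d ∉ p' := by
    intro p' hp' hdp'
    by_cases h : p' = p
    · subst h
      apply hxp
      have : x = d - z := by rw [hd]; ring
      rw [this]; exact Ideal.sub_mem _ hdp' hzp
    · have hP : p' ∈ Ps := (hPsmem p').mpr ⟨h, hp'⟩
      apply hzn p' hP
      have : z = d - x := by rw [hd]; ring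
      rw [this]; exact Ideal.sub_mem _ hdp' (hxmem p' hP)
  have hdR : d ∈ nonZeroDivisors R := by
    rw [mem_nonZeroDivisors_iff_right]
    intro y hy
    apply eq_zero_of_forall_mem_minimalPrimes
    intro p' hp'
    haveI := Ideal.minimalPrimes_isPrime hp'
    have : y * d ∈ p' := by rw [hy]; exact Ideal.zero_mem _
    exact (Ideal.IsPrime.mem_or_mem inferInstance this).resolve_right (hdn p' hp')
  have hxz : x * z = 0 := by
    apply eq_zero_of_forall_mem_minimalPrimes
    intro p' hp'
    by_cases h : p' = p
    · subst h; exact Ideal.mul_mem_left _ _ hzp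
    · exact Ideal.mul_mem_right _ _ (hxmem p' ((hPsmem p').mpr ⟨h, hp'⟩))
  set e : FractionRing R :=
    IsLocalization.mk' (FractionRing R) x (⟨d, hdR⟩ : nonZeroDivisors R) with he
  have hed : e * algebraMap R (FractionRing R) d = algebraMap R (FractionRing R) x :=
    IsLocalization.mk'_spec _ _ _
  have hdunit : IsUnit (algebraMap R (FractionRing R) d) :=
    IsLocalization.map_units _ (⟨d, hdR⟩ : nonZeroDivisors R)
  have hidem : e * e = e := by
    have h1 : (e * e - e) *
        (algebraMap R (FractionRing R) d * algebraMap R (FractionRing R) d) = 0 := by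
      have : (e * e - e) * (algebraMap R (FractionRing R) d * algebraMap R (FractionRing R) d) =
          (e * algebraMap R _ d) * (e * algebraMap R _ d) -
            (e * algebraMap R _ d) * algebraMap R _ d := by ring
      rw [this, hed, ← map_mul, ← map_mul, ← map_sub]
      have : x * x - x * d = - (x * z) := by rw [hd]; ring
      rw [this, hxz, neg_zero, map_zero]
    have h2 := (hdunit.mul hdunit).mul_left_eq_zero.mp h1
    exact sub_eq_zero.mp h2
  haveI : Nontrivial R :=
    ⟨⟨0, 1, fun h => hpprime.ne_top ((Ideal.eq_top_iff_one p).mpr (h ▸ p.zero_mem))⟩⟩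
  have hint : IsIntegral R e := by
    refine ⟨X ^ 2 - X, monic_X_pow_sub (by rw [degree_X]; norm_num), ?_⟩
    simp [pow_two, hidem]
  obtain ⟨ε, hε⟩ := (isIntegrallyClosedIn_iff.mp hcl).2 hint
  have hεd : ε * d = x := by
    apply (isIntegrallyClosedIn_iff.mp hcl).1
    rw [map_mul, hε, hed]
  refine ⟨ε, ?_, ?_⟩
  · have : (1 - ε) * d = z := by rw [sub_mul, one_mul, hεd, hd]; ring
    have h2 : (1 - ε) * d ∈ p := by rw [this]; exact hzp
    exact (Ideal.IsPrime.mem_or_mem inferInstance h2).resolve_right (hdn p hp)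
  · intro p' hp' hne
    haveI := Ideal.minimalPrimes_isPrime hp'
    have h2 : ε * d ∈ p' := by rw [hεd]; exact hxmem p' ((hPsmem p').mpr ⟨hne, hp'⟩)
    exact (Ideal.IsPrime.mem_or_mem inferInstance h2).resolve_right (hdn p' hp')

end helpers

/-- Let `R` be a reduced ring with finitely many minimal primes. Then every localization of `R` at a
prime is an integrally closed domain if and only if `R` is integrally closed in its total ring of
fractions. -/
theorem result {R : Type u} [CommRing R] [IsReduced R] (hfin : (minimalPrimes R).Finite) :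
    (∀ (p : Ideal R) [p.IsPrime], IsDomain (Localization.AtPrime p) ∧ IsIntegrallyClosed (Localization.AtPrime p)) ↔
      IsIntegrallyClosedIn R (FractionRing R) := by
  classical
  constructor
  · -- (⇒)
    intro hloc
    rw [isIntegrallyClosedIn_iff]
    refine ⟨IsFractionRing.injective R (FractionRing R), ?_⟩
    intro x hx
    obtain ⟨a, d, rfl⟩ := IsLocalization.exists_mk'_eq (nonZeroDivisors R) x
    -- the denominator ideal
    let I : Ideal R := (Ideal.span {(d : R)}).colon {a}
    have hImem : ∀ r, r ∈ I ↔ ∃ y, r * a = y * d := by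
      intro r
      simp only [I]
      rw [Submodule.mem_colon_singleton, smul_eq_mul, Ideal.mem_span_singleton']
      exact ⟨fun ⟨y, hy⟩ => ⟨y, hy.symm⟩, fun ⟨y, hy⟩ => ⟨y, hy.symm⟩⟩
    suffices h1 : (1 : R) ∈ I by
      obtain ⟨y, hy⟩ := (hImem 1).mp h1
      refine ⟨y, ?_⟩
      rw [IsLocalization.eq_mk'_iff_mul_eq, ← map_mul, ← hy, one_mul]
    by_contra h1
    have hIne : I ≠ ⊤ := fun h => h1 ((Ideal.eq_top_iff_one I).mp h)
    obtain ⟨m, hmmax, hIm⟩ := Ideal.exists_le_maximal I hIne
    haveI : m.IsPrime := hmmax.isPrime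
    obtain ⟨hdom, hic⟩ := hloc m
    set Rm := Localization.AtPrime m with hRm
    set L := FractionRing Rm with hL
    have hy : nonZeroDivisors R ≤ (nonZeroDivisors Rm).comap (algebraMap R Rm) :=
      Submonoid.map_le_iff_le_comap.mp (IsLocalization.map_nonZeroDivisors_le m.primeCompl Rm)
    let ψ : FractionRing R →+* L := IsLocalization.map L (algebraMap R Rm) hy
    have hψ : ∀ r, ψ (algebraMap R (FractionRing R) r) = algebraMap Rm L (algebraMap R Rm r) :=
      fun r => IsLocalization.map_eq hy r
    have hint : IsIntegral Rm (ψ (IsLocalization.mk' (FractionRing R) a d)) := by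
      apply IsIntegral.map_of_comp_eq (algebraMap R Rm) ψ _ hx
      ext r
      simp only [RingHom.comp_apply]
      rw [hψ]
    obtain ⟨y', hy'⟩ := (isIntegrallyClosed_iff L).mp hic hint
    have hspec : IsLocalization.mk' (FractionRing R) a d * algebraMap R (FractionRing R) d =
        algebraMap R (FractionRing R) a := IsLocalization.mk'_spec _ _ _
    have h2 := congrArg ψ hspec
    rw [map_mul, hψ, hψ, ← hy', ← map_mul] at h2
    have h3 : y' * algebraMap R Rm d = algebraMap R Rm a := IsFractionRing.injective Rm L h2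
    obtain ⟨b, s, rfl⟩ := IsLocalization.exists_mk'_eq m.primeCompl y'
    have h4 : algebraMap R Rm (b * d) = algebraMap R Rm (a * s) := by
      rw [map_mul, map_mul, ← h3]
      have := IsLocalization.mk'_spec Rm b s
      rw [← this]; ring
    obtain ⟨t, ht⟩ := (IsLocalization.eq_iff_exists m.primeCompl Rm).mp h4
    have h5 : (t : R) * s ∈ I := by
      rw [hImem]
      refine ⟨t * b, ?_⟩
      linear_combination -ht
    have h6 := hIm h5
    rcases (Ideal.IsPrime.mem_or_mem inferInstance h6) with h | h
    · exact t.2 h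
    · exact s.2 h
  · -- (⇐)
    intro hcl P hP
    obtain ⟨p, hp, hpP⟩ := Ideal.exists_minimalPrimes_le (bot_le : (⊥ : Ideal R) ≤ P)
    have hp' : p ∈ minimalPrimes R := hp
    haveI hpprime : p.IsPrime := Ideal.minimalPrimes_isPrime hp'
    obtain ⟨ε, hε1, hε2⟩ := exists_eps hfin hcl p hp'
    set RP := Localization.AtPrime P with hRP
    have hεP : ε ∉ P := by
      intro h
      have : (1 : R) ∈ P := by
        have h1 : (1 : R) = ε + (1 - ε) := by ring
        rw [h1]; exact Ideal.add_mem _ h (hpP hε1)
      exact hP.ne_top ((Ideal.eq_top_iff_one P).mpr this)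
    have hεkill : ∀ a ∈ p, ε * a = 0 := by
      intro a ha
      apply eq_zero_of_forall_mem_minimalPrimes
      intro p'' hp''
      by_cases h : p'' = p
      · subst h; exact Ideal.mul_mem_left _ _ ha
      · exact Ideal.mul_mem_right _ _ (hε2 p'' hp'' h)
    have hiv : ∀ a : R, algebraMap R RP a = 0 ↔ a ∈ p := by
      intro a
      rw [IsLocalization.map_eq_zero_iff P.primeCompl]
      constructor
      · rintro ⟨u, hu⟩
        have h1 : (u : R) * a ∈ p := by rw [hu]; exact Ideal.zero_mem _
        exact (Ideal.IsPrime.mem_or_mem inferInstance h1).resolve_left (fun h => u.2 (hpP h))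
      · intro ha
        exact ⟨⟨ε, hεP⟩, hεkill a ha⟩
    have hε1' : algebraMap R RP ε = 1 := by
      have := (hiv (1 - ε)).mpr hε1
      rw [map_sub, map_one, sub_eq_zero] at this
      exact this.symm
    -- domain
    haveI hnzd : NoZeroDivisors RP := by
      refine ⟨?_⟩
      intro α β hαβ
      obtain ⟨a, s, rfl⟩ := IsLocalization.exists_mk'_eq P.primeCompl α
      obtain ⟨b, t, rfl⟩ := IsLocalization.exists_mk'_eq P.primeCompl β
      rw [← IsLocalization.mk'_mul, IsLocalization.mk'_eq_zero_iff] at hαβ
      obtain ⟨u, hu⟩ := hαβ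
      have h1 : (u : R) * (a * b) ∈ p := by rw [hu]; exact Ideal.zero_mem _
      have h2 : a * b ∈ p :=
        (Ideal.IsPrime.mem_or_mem inferInstance h1).resolve_left (fun h => u.2 (hpP h))
      rcases Ideal.IsPrime.mem_or_mem inferInstance h2 with h | h
      · left
        rw [IsLocalization.mk'_eq_zero_iff]
        exact ⟨⟨ε, hεP⟩, hεkill a h⟩
      · right
        rw [IsLocalization.mk'_eq_zero_iff]
        exact ⟨⟨ε, hεP⟩, hεkill b h⟩
    haveI hdom : IsDomain RP := NoZeroDivisors.to_isDomain RP
    refine ⟨hdom, ?_⟩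
    -- integrally closed
    set L := FractionRing RP with hL
    rw [isIntegrallyClosed_iff L]
    intro ξ hξ
    obtain ⟨σ, hσ⟩ := IsIntegral.exists_multiple_integral_of_isLocalization P.primeCompl ξ hξ
    set ι : R →+* L := (algebraMap RP L).comp (algebraMap R RP) with hι
    have hιalg : ι = algebraMap R L := (IsScalarTower.algebraMap_eq R RP L).symm
    set ξ' : L := σ • ξ with hξ'
    have hξ'eq : ξ' = ι σ * ξ := by
      rw [hξ', Submonoid.smul_def, Algebra.smul_def, hιalg]
    have hιinj : ∀ a : R, ι a = 0 ↔ a ∈ p := by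
      intro a
      rw [hι, RingHom.comp_apply, ← hiv a]
      exact (map_eq_zero_iff _ (IsFractionRing.injective RP L))
    -- Claim A
    obtain ⟨a, b, hb, hab⟩ : ∃ a b : R, b ∉ p ∧ ξ' * ι b = ι a := by
      obtain ⟨α, β, hαβ⟩ := IsLocalization.exists_mk'_eq (nonZeroDivisors RP) ξ'
      obtain ⟨a, s, rfl⟩ := IsLocalization.exists_mk'_eq P.primeCompl α
      obtain ⟨b, t, hbt⟩ := IsLocalization.exists_mk'_eq P.primeCompl (β : RP)
      refine ⟨a * t, b * s, ?_, ?_⟩
      · intro h
        rcases Ideal.IsPrime.mem_or_mem inferInstance h with h | h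
        · have h1 : algebraMap R RP b = 0 := (hiv b).mpr h
          have h2 : (β : RP) = 0 := by
            rw [← hbt, IsLocalization.mk'_eq_zero_iff]
            exact (IsLocalization.map_eq_zero_iff P.primeCompl RP b).mp h1
          exact (nonZeroDivisors.ne_zero β.2) h2
        · exact s.2 (hpP h)
      · have e1 : ξ' * algebraMap RP L β = algebraMap RP L (IsLocalization.mk' RP a s) := by
          rw [← hαβ]; exact IsLocalization.mk'_spec _ _ _
        have e2 : IsLocalization.mk' RP a s * algebraMap R RP s = algebraMap R RP a :=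
          IsLocalization.mk'_spec _ _ _
        have e3 : (β : RP) * algebraMap R RP t = algebraMap R RP b := by
          rw [← hbt]; exact IsLocalization.mk'_spec _ _ _
        simp only [hι, RingHom.comp_apply, map_mul]
        rw [← e3, ← e2, map_mul, map_mul]
        linear_combination (algebraMap RP L (algebraMap R RP t) *
          algebraMap RP L (algebraMap R RP s)) * e1
    -- integral equation
    obtain ⟨Q, hQmonic, hQ⟩ := hσ
    have hQ' : eval₂ ι ξ' Q = 0 := by rw [hιalg]; exact hQ
    have hH : Hfun Q a b ∈ p := by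
      rw [← hιinj, ← hom_identity ι Q ξ' a b hab, hQ', mul_zero]
    -- lift to K
    set b' : R := ε * b + (1 - ε) with hb'
    set a' : R := ε * a with ha'
    have hb'n : ∀ p'' ∈ minimalPrimes R, b' ∉ p'' := by
      intro p'' hp'' hmem
      by_cases h : p'' = p
      · subst h
        apply hb
        have : b = b' - (ε - 1) * b - (1 - ε) := by rw [hb']; ring
        rw [this]
        refine Ideal.sub_mem _ (Ideal.sub_mem _ hmem (Ideal.mul_mem_right _ _ ?_)) hε1
        have : ε - 1 = -(1 - ε) := by ring
        rw [this]; exact neg_mem hε1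
      · haveI := Ideal.minimalPrimes_isPrime hp''
        have h1 : (1 : R) ∈ p'' := by
          have : (1 : R) = b' - ε * b + ε := by rw [hb']; ring
          rw [this]
          exact Ideal.add_mem _ (Ideal.sub_mem _ hmem (Ideal.mul_mem_right _ _ (hε2 p'' hp'' h)))
            (hε2 p'' hp'' h)
        exact (Ideal.IsPrime.ne_top inferInstance) ((Ideal.eq_top_iff_one p'').mpr h1)
    have hb'R : b' ∈ nonZeroDivisors R := by
      rw [mem_nonZeroDivisors_iff_right]
      intro y hy
      apply eq_zero_of_forall_mem_minimalPrimes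
      intro p'' hp''
      haveI := Ideal.minimalPrimes_isPrime hp''
      have : y * b' ∈ p'' := by rw [hy]; exact Ideal.zero_mem _
      exact (Ideal.IsPrime.mem_or_mem inferInstance this).resolve_right (hb'n p'' hp'')
    have hN : a' * Hfun Q a' b' = 0 := by
      apply eq_zero_of_forall_mem_minimalPrimes
      intro p'' hp''
      by_cases h : p'' = p
      · subst h
        apply Ideal.mul_mem_left
        rw [← Ideal.Quotient.eq_zero_iff_mem]
        rw [Hfun_map (Ideal.Quotient.mk p'') Q a' b' a b ?_ ?_]
        · exact Ideal.Quotient.eq_zero_iff_mem.mpr hH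
        · rw [Ideal.Quotient.eq]
          have : a' - a = -((1 - ε) * a) := by rw [ha']; ring
          rw [this]; exact neg_mem (Ideal.mul_mem_right _ _ hε1)
        · rw [Ideal.Quotient.eq]
          have : b' - b = (1 - ε) * (1 - b) := by rw [hb']; ring
          rw [this]; exact Ideal.mul_mem_right _ _ hε1
      · apply Ideal.mul_mem_right
        rw [ha']; exact Ideal.mul_mem_right _ _ (hε2 p'' hp'' h)
    set x : FractionRing R :=
      IsLocalization.mk' (FractionRing R) a' (⟨b', hb'R⟩ : nonZeroDivisors R) with hx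
    have hxb : x * algebraMap R (FractionRing R) b' = algebraMap R (FractionRing R) a' :=
      IsLocalization.mk'_spec _ _ _
    have hbunit : IsUnit (algebraMap R (FractionRing R) b') :=
      IsLocalization.map_units _ (⟨b', hb'R⟩ : nonZeroDivisors R)
    have hxQ : x * eval₂ (algebraMap R (FractionRing R)) x Q = 0 := by
      have h1 := hom_identity (algebraMap R (FractionRing R)) Q x a' b' hxb
      have h2 : (algebraMap R (FractionRing R) b') ^ (Q.natDegree + 1) *
          (x * eval₂ (algebraMap R (FractionRing R)) x Q) = 0 := by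
        have : (algebraMap R (FractionRing R) b') ^ (Q.natDegree + 1) *
            (x * eval₂ (algebraMap R (FractionRing R)) x Q) =
            (x * algebraMap R (FractionRing R) b') *
              ((algebraMap R (FractionRing R) b') ^ Q.natDegree *
                eval₂ (algebraMap R (FractionRing R)) x Q) := by ring
        rw [this, h1, hxb, ← map_mul, hN, map_zero]
      exact ((hbunit.pow _).mul_right_eq_zero).mp h2
    have hxint : IsIntegral R x := by
      refine ⟨X * Q, monic_X.mul hQmonic, ?_⟩
      rw [eval₂_mul, eval₂_X]; exact hxQ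
    obtain ⟨y, hy⟩ := (isIntegrallyClosedIn_iff.mp hcl).2 hxint
    have hyb : y * b' = a' := by
      apply (isIntegrallyClosedIn_iff.mp hcl).1
      rw [map_mul, hy, hxb]
    -- back in RP
    have hb'RP : algebraMap R RP b' = algebraMap R RP b := by
      rw [hb', map_add, map_mul, map_sub, map_one, hε1']; ring
    have ha'RP : algebraMap R RP a' = algebraMap R RP a := by
      rw [ha', map_mul, hε1', one_mul]
    have hyRP : algebraMap R RP y * algebraMap R RP b = algebraMap R RP a := by
      rw [← hb'RP, ← ha'RP, ← map_mul, hyb]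
    have hιb : ι b ≠ 0 := fun h => hb ((hιinj b).mp h)
    have hξ'y : ξ' = ι y := by
      have h1 : ι y * ι b = ι a := by
        simp only [hι, RingHom.comp_apply]
        rw [← map_mul, hyRP]
      have h2 : ξ' * ι b = ι y * ι b := by rw [hab, h1]
      exact mul_right_cancel₀ hιb h2
    refine ⟨IsLocalization.mk' RP y σ, ?_⟩
    have hισ : ι σ ≠ 0 := fun h => σ.2 (hpP ((hιinj σ).mp h))
    have h3 : algebraMap RP L (IsLocalization.mk' RP y σ) * ι σ = ι y := by
      simp only [hι, RingHom.comp_apply]
      rw [← map_mul, IsLocalization.mk'_spec]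
    have h4 : ξ * ι σ = ι y := by rw [← hξ'y, hξ'eq]; ring
    exact mul_right_cancel₀ hισ (h3.trans h4.symm)

end Groth.Agent.S2139
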