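import Groth.Statements.S2142
-- import your own Groth.Agent.* helpers here
import Groth.Agent.Lib.Helper55.LocalDim
import Groth.Agent.Lib.Helper55.TensorDim
import Mathlib.RingTheory.Ideal.GoingDown
import Mathlib.RingTheory.Flat.Stability
import Mathlib.RingTheory.KrullDimension.Field

set_option autoImplicit false
universe u
open CAlg

namespace Groth.Agent.S2142

open Groth.Agent.Lib.Helper55

open TensorProduct in
/-- For a minimal prime `Q` of `K ⊗[k] S`, `dim (K ⊗ S)/Q = dim S/(Q ∩ S)`. -/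
theorem ringKrullDim_quotient_of_mem_minimalPrimes {k S K : Type u} [Field k] [CommRing S]
    [Algebra k S] [Algebra.FiniteType k S] [Field K] [Algebra k K] (Q : Ideal (K ⊗[k] S))
    (hQ : Q ∈ minimalPrimes (K ⊗[k] S)) :
    ringKrullDim ((K ⊗[k] S) ⧸ Q) =
      ringKrullDim (S ⧸ Q.comap
        (Algebra.TensorProduct.includeRight.toRingHom : S →+* K ⊗[k] S)) := by
  have hQp : Q.IsPrime := hQ.1.1
  let e : (S ⊗[k] K) ≃+* (K ⊗[k] S) := (Algebra.TensorProduct.comm k S K).toRingEquiv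
  set Q' : Ideal (S ⊗[k] K) := Q.comap e.toRingHom with hQ'
  have hQ'min : Q' ∈ minimalPrimes (S ⊗[k] K) := comap_ringEquiv_mem_minimalPrimes e Q hQ
  have h1 : ringKrullDim ((S ⊗[k] K) ⧸ Q') = ringKrullDim ((K ⊗[k] S) ⧸ Q) :=
    ringKrullDim_quotient_comap_ringEquiv e Q
  set 𝔮₀ : Ideal S :=
    Q.comap (Algebra.TensorProduct.includeRight.toRingHom : S →+* K ⊗[k] S) with h𝔮₀
  have h𝔮₀p : 𝔮₀.IsPrime := Ideal.comap_isPrime _ _
  have hbot : (⊥ : Ideal K).IsPrime := Ideal.isPrime_bot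
  have h2 := ringKrullDim_quotient_of_mem_minimalPrimes_sup k S K 𝔮₀ ⊥ Q' ?_
  · rw [← h1, h2]
    have h3 : ringKrullDim (K ⧸ (⊥ : Ideal K)) = 0 := by
      rw [ringKrullDim_eq_of_ringEquiv (RingEquiv.quotientBot K)]
      exact ringKrullDim_eq_zero_of_field K
    rw [h3, add_zero]
  · refine ⟨⟨hQ'min.1.1, ?_⟩, fun J hJ hJQ' => hQ'min.2 ⟨hJ.1, bot_le⟩ hJQ'⟩
    rw [Ideal.map_bot, sup_bot_eq, Ideal.map_le_iff_le_comap]
    intro s hs
    exact hs

open TensorProduct in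
/-- Let `S` be of finite type over a field `k`, `K/k` a field extension, `𝔮` a prime of `S` and `𝔮_K` a
prime of `K ⊗_k S` lying over `𝔮`. Then the local dimension of `Spec (K ⊗_k S)` at `𝔮_K` equals the
local dimension of `Spec S` at `𝔮`. -/
theorem result {k S K : Type u} [Field k] [CommRing S] [Algebra k S] [Algebra.FiniteType k S] [Field K]
    [Algebra k K] (q : Ideal S) [q.IsPrime] (qK : Ideal (K ⊗[k] S)) [qK.IsPrime]
    (hq : qK.comap (Algebra.TensorProduct.includeRight.toRingHom : S →+* K ⊗[k] S) = q) :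
    FlatMor.localDim (PrimeSpectrum (K ⊗[k] S)) ⟨qK, inferInstance⟩ = FlatMor.localDim (PrimeSpectrum S) ⟨q, inferInstance⟩ := by
  rw [localDim_primeSpectrum_eq K (K ⊗[k] S) ⟨qK, inferInstance⟩,
    localDim_primeSpectrum_eq k S ⟨q, inferInstance⟩]
  change ringKrullDim ((K ⊗[k] S) ⧸ qK) + (qK.height : WithBot ℕ∞) =
    ringKrullDim (S ⧸ q) + (q.height : WithBot ℕ∞)
  apply le_antisymm
  · obtain ⟨Q, hQmin, hQle, hQdim⟩ :=
      exists_minimalPrimes_ringKrullDim_quotient_eq K (K ⊗[k] S) qK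
    rw [← hQdim, ringKrullDim_quotient_of_mem_minimalPrimes Q hQmin]
    have hQp : Q.IsPrime := hQmin.1.1
    have hp : (Q.comap
        (Algebra.TensorProduct.includeRight.toRingHom : S →+* K ⊗[k] S)).IsPrime :=
      Ideal.comap_isPrime _ _
    refine ringKrullDim_quotient_le_add_height k S _ q ?_
    rw [← hq]
    exact Ideal.comap_mono hQle
  · obtain ⟨𝔮₀, hmin, hle, hdim⟩ := exists_minimalPrimes_ringKrullDim_quotient_eq k S q
    rw [← hdim]
    let _ : Algebra S (K ⊗[k] S) := Algebra.TensorProduct.rightAlgebra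
    have hflat : Module.Flat S (K ⊗[k] S) :=
      Module.Flat.of_linearEquiv (Algebra.TensorProduct.commRight k S K).symm.toLinearEquiv
    have h𝔮₀p : 𝔮₀.IsPrime := hmin.1.1
    have hover : qK.LiesOver q := ⟨hq.symm⟩
    obtain ⟨Q₁, hQ₁le, hQ₁p, hQ₁over⟩ :=
      Ideal.exists_ideal_le_liesOver_of_le (p := 𝔮₀) (q := q) qK hle
    obtain ⟨Q, hQmin, hQQ₁⟩ := Ideal.exists_minimalPrimes_le (I := ⊥) (J := Q₁) bot_le
    have hQp : Q.IsPrime := hQmin.1.1
    have hQ𝔮₀ : Q.comap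
        (Algebra.TensorProduct.includeRight.toRingHom : S →+* K ⊗[k] S) = 𝔮₀ := by
      have h1 : Q.comap
          (Algebra.TensorProduct.includeRight.toRingHom : S →+* K ⊗[k] S) ≤ 𝔮₀ := by
        rw [hQ₁over.over]
        exact Ideal.comap_mono hQQ₁
      exact le_antisymm h1 (hmin.2 ⟨Ideal.comap_isPrime _ _, bot_le⟩ h1)
    rw [← hQ𝔮₀, ← ringKrullDim_quotient_of_mem_minimalPrimes Q hQmin]
    exact ringKrullDim_quotient_le_add_height K (K ⊗[k] S) Q qK (hQQ₁.trans hQ₁le)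

end Groth.Agent.S2142
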