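import Groth.Statements.S2143
-- import your own Groth.Agent.* helpers here
import Groth.Agent.Lib.Helper55.LocalDim

set_option autoImplicit false
universe u
open CAlg

namespace Groth.Agent.S2143

open Groth.Agent.Lib.Helper55

/-- (1) = (3): let `S` be of finite type over a field `k` and `𝔭` a prime of `S`. The local dimension of
`Spec S` at `𝔭` is the infimum of `dim S_𝔪` over the maximal ideals `𝔪 ⊇ 𝔭`. -/
theorem result {k S : Type u} [Field k] [CommRing S] [Algebra k S] [Algebra.FiniteType k S]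
    (p : Ideal S) [p.IsPrime] :
    FlatMor.localDim (PrimeSpectrum S) ⟨p, inferInstance⟩ =
      ⨅ m : {m : Ideal S // m.IsMaximal ∧ p ≤ m}, ringKrullDim (Localization.AtPrime (hp := m.2.1.isPrime') m.1) := by
  rw [localDim_primeSpectrum_eq k S ⟨p, inferInstance⟩]
  apply le_antisymm
  · refine le_iInf fun m => ?_
    have : m.1.IsPrime := m.2.1.isPrime
    rw [IsLocalization.AtPrime.ringKrullDim_eq_height m.1 (Localization.AtPrime m.1)]
    exact ringKrullDim_quotient_add_height_le_height_of_isMaximal k S p m.1 m.2.1 m.2.2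
  · obtain ⟨𝔪, h𝔪, hp𝔪, hht⟩ := exists_isMaximal_height_eq k S p
    have : 𝔪.IsPrime := h𝔪.isPrime
    refine le_trans (iInf_le _ ⟨𝔪, h𝔪, hp𝔪⟩) ?_
    change ringKrullDim (Localization.AtPrime 𝔪) ≤ _
    rw [IsLocalization.AtPrime.ringKrullDim_eq_height 𝔪 (Localization.AtPrime 𝔪), hht]

end Groth.Agent.S2143
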