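import Groth.Statements.S2145
import Groth.Agent.Lib.Helper10.LocLift

set_option autoImplicit false
universe u
open CAlg

namespace Groth.Agent.S2145

open Groth.Agent.Lib.Helper10

/-- From the output of `exists_away_retraction`: `S_{f c} ≅ R_f`. -/
theorem exists_algEquiv_away {R S : Type u} [CommRing R] [CommRing S] [Algebra R S]
    (f : R) (α : S →ₐ[R] Localization.Away f) (c : S) (hc : IsUnit (α c))
    (hker : ∀ s, α s = 0 → ∃ t : ℕ, algebraMap R S (f ^ t) * (c * s) = 0) :
    Nonempty (Localization.Away (algebraMap R S f * c) ≃ₐ[R] Localization.Away f) := by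
  set z : S := algebraMap R S f * c with hz
  have hαz : α z = algebraMap R (Localization.Away f) f * α c := by
    rw [hz, map_mul, α.commutes]
  have hzunit : IsUnit (α z) := by
    rw [hαz]; exact (IsLocalization.Away.algebraMap_isUnit f).mul hc
  have hunits : ∀ y : Submonoid.powers z, IsUnit (α.toRingHom y) := by
    rintro ⟨_, k, rfl⟩
    show IsUnit (α (z ^ k))
    rw [map_pow]; exact hzunit.pow k
  let β : Localization.Away z →ₐ[R] Localization.Away f :=
    IsLocalization.liftAlgHom (M := Submonoid.powers z) (f := α) hunits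
  have hinj : Function.Injective β := by
    rw [injective_iff_map_eq_zero]
    intro y hy
    obtain ⟨s, d, rfl⟩ := IsLocalization.exists_mk'_eq (Submonoid.powers z) y
    have h0 : α s = 0 := by
      have := (IsLocalization.lift_mk'_spec (M := Submonoid.powers z)
        (S := Localization.Away z) (g := α.toRingHom) hunits s 0 d).mp hy
      simpa using this
    obtain ⟨t, ht⟩ := hker s h0
    rw [IsLocalization.mk'_eq_zero_iff]
    refine ⟨⟨z ^ (t + 1), t + 1, rfl⟩, ?_⟩
    show z ^ (t + 1) * s = 0
    have : z ^ (t + 1) * s = algebraMap R S f * c ^ t * (algebraMap R S (f ^ t) * (c * s)) := by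
      rw [hz, map_pow]; ring
    rw [this, ht, mul_zero]
  have hsurj : Function.Surjective β := by
    intro y
    obtain ⟨r, d, rfl⟩ := IsLocalization.exists_mk'_eq (Submonoid.powers f) y
    obtain ⟨_, k, rfl⟩ := d
    refine ⟨IsLocalization.mk' _ (algebraMap R S r * c ^ k) (⟨z ^ k, k, rfl⟩ : Submonoid.powers z), ?_⟩
    show IsLocalization.lift _ (IsLocalization.mk' _ _ _) = _
    rw [IsLocalization.lift_mk'_spec]
    show α (algebraMap R S r * c ^ k) = α (z ^ k) * _
    have hsp := IsLocalization.mk'_spec' (Localization.Away f) r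
      (⟨f ^ k, k, rfl⟩ : Submonoid.powers f)
    simp only [map_pow] at hsp
    rw [map_mul, map_pow, map_pow, hαz, α.commutes, mul_pow, mul_right_comm]
    exact congrArg (· * α c ^ k) hsp.symm
  exact ⟨AlgEquiv.ofBijective β ⟨hinj, hsurj⟩⟩

/-- Let `S`, `S'` be finitely presented `R`-algebras and `𝔮 ⊆ S`, `𝔮' ⊆ S'` primes with `S_𝔮 ≅ S'_{𝔮'}`
as `R`-algebras. Then `S_g ≅ S'_{g'}` as `R`-algebras for some `g ∉ 𝔮`, `g' ∉ 𝔮'`. -/
theorem result {R S S' : Type u} [CommRing R] [CommRing S] [CommRing S'] [Algebra R S]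
    [Algebra R S'] [Algebra.FinitePresentation R S] [Algebra.FinitePresentation R S'] (q : Ideal S) [q.IsPrime]
    (q' : Ideal S') [q'.IsPrime] (e : Localization.AtPrime q ≃ₐ[R] Localization.AtPrime q') :
    ∃ (g : S) (g' : S'), g ∉ q ∧ g' ∉ q' ∧ Nonempty (Localization.Away g ≃ₐ[R] Localization.Away g') := by
  classical
  -- Step 1: lift `S → S'_{q'}` to `φ : S → S'_{g'₁}`
  let ψ₁ : S →ₐ[R] Localization.AtPrime q' :=
    e.toAlgHom.comp (IsScalarTower.toAlgHom R S (Localization.AtPrime q))
  obtain ⟨g'₁, hg'₁, φ, hφ⟩ := exists_lift_away (R := R) (T := S') q' ψ₁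
  have hφ' : ∀ x, awayToAtPrime (R := R) q' g'₁ hg'₁ (φ x) =
      e (algebraMap S (Localization.AtPrime q) x) := hφ
  -- Step 2: `B := S'_{g'₁}` as an `S`-algebra
  letI algSB : Algebra S (Localization.Away g'₁) := φ.toRingHom.toAlgebra
  have halg : ∀ x, algebraMap S (Localization.Away g'₁) x = φ x := fun _ => rfl
  haveI towerRSB : IsScalarTower R S (Localization.Away g'₁) :=
    IsScalarTower.of_algebraMap_eq (fun r => (φ.commutes r).symm)
  haveI : Algebra.FinitePresentation S (Localization.Away g'₁) :=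
    Algebra.FinitePresentation.of_restrict_scalars_finitePresentation R S (Localization.Away g'₁)
  -- Step 3: the map `B → S_q`
  let ι : Localization.Away g'₁ →+* Localization.AtPrime q' :=
    (awayToAtPrime (R := R) q' g'₁ hg'₁).toRingHom
  have hι : ∀ b, ι b = awayToAtPrime (R := R) q' g'₁ hg'₁ b := fun _ => rfl
  let ψr : Localization.Away g'₁ →+* Localization.AtPrime q :=
    e.symm.toRingEquiv.toRingHom.comp ι
  have hψr : ∀ b, ψr b = e.symm (ι b) := fun _ => rfl
  let ψ : Localization.Away g'₁ →ₐ[S] Localization.AtPrime q :=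
    { ψr with
      commutes' := by
        intro x
        show ψr (algebraMap S (Localization.Away g'₁) x) = _
        rw [hψr, halg, hι, hφ', AlgEquiv.symm_apply_apply] }
  have hψ : ∀ b, ψ b = e.symm (ι b) := fun _ => rfl
  let Q : Ideal (Localization.Away g'₁) :=
    Ideal.comap ι (IsLocalRing.maximalIdeal (Localization.AtPrime q'))
  haveI : Q.IsPrime := Ideal.IsPrime.comap ι
  have hQ : ∀ b, b ∈ Q.primeCompl ↔ IsUnit (ι b) := by
    intro b
    show ¬ (ι b ∈ IsLocalRing.maximalIdeal (Localization.AtPrime q')) ↔ _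
    rw [IsLocalRing.mem_maximalIdeal, mem_nonunits_iff, not_not]
  have H1 : ∀ b, ψ b = 0 → ∃ c ∈ Q.primeCompl, c * b = 0 := by
    intro b hb
    rw [hψ, EmbeddingLike.map_eq_zero_iff] at hb
    obtain ⟨c', hc', hcb⟩ := exists_mul_eq_zero_of_awayToAtPrime_eq_zero (R := R) q' g'₁ hg'₁ b hb
    refine ⟨algebraMap S' _ c', ?_, hcb⟩
    rw [hQ, hι, awayToAtPrime_algebraMap]
    exact IsLocalization.map_units (M := q'.primeCompl) _ ⟨c', hc'⟩
  have H2 : ∀ c ∈ Q.primeCompl, IsUnit (ψ c) := by
    intro c hc
    rw [hψ]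
    exact ((hQ c).mp hc).map e.symm
  obtain ⟨f, hf, α, c, hcU, hcunit, -, hker⟩ := exists_away_retraction q Q.primeCompl ψ H1 H2
  obtain ⟨e1⟩ := exists_algEquiv_away f α c hcunit hker
  -- Step 4: identify the iterated localization
  set z : Localization.Away g'₁ := algebraMap S (Localization.Away g'₁) f * c with hz
  have hzunit : IsUnit (ι z) := by
    rw [hz, map_mul]
    refine IsUnit.mul ?_ ((hQ c).mp hcU)
    rw [halg, hι, hφ']
    exact (IsLocalization.map_units (M := q.primeCompl) (Localization.AtPrime q) ⟨f, hf⟩).map e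
  set s' : S' := (IsLocalization.Away.sec g'₁ z).1 with hs'
  have hassoc : Associated (algebraMap S' (Localization.Away g'₁) s') z :=
    IsLocalization.Away.associated_sec_fst g'₁ z
  have hs'q : s' ∉ q' := by
    obtain ⟨u, hu⟩ := hassoc.symm
    have h1 : IsUnit (ι (algebraMap S' (Localization.Away g'₁) s')) := by
      rw [← hu, map_mul]
      exact hzunit.mul (u.isUnit.map ι)
    rw [hι, awayToAtPrime_algebraMap] at h1
    intro hmem
    exact ((IsLocalization.AtPrime.isUnit_to_map_iff (Localization.AtPrime q') q' s').mp h1) hmem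
  haveI hloc : IsLocalization.Away (g'₁ * s') (Localization.Away z) :=
    IsLocalization.Away.mul_of_associated g'₁ s' z hassoc
  let e2 : Localization.Away (g'₁ * s') ≃ₐ[S'] Localization.Away z :=
    IsLocalization.algEquiv (Submonoid.powers (g'₁ * s')) _ _
  refine ⟨f, g'₁ * s', hf, fun h => (Ideal.IsPrime.mem_or_mem inferInstance h).elim hg'₁ hs'q, ?_⟩
  refine ⟨AlgEquiv.ofRingEquiv (f := e1.symm.toRingEquiv.trans e2.symm.toRingEquiv) ?_⟩
  intro r
  show e2.symm (e1.symm (algebraMap R (Localization.Away f) r)) = _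
  rw [IsScalarTower.algebraMap_apply R S (Localization.Away f), e1.symm.commutes,
    IsScalarTower.algebraMap_apply S (Localization.Away g'₁) (Localization.Away z), halg,
    φ.commutes, IsScalarTower.algebraMap_apply R S' (Localization.Away g'₁),
    ← IsScalarTower.algebraMap_apply S' (Localization.Away g'₁) (Localization.Away z),
    e2.symm.commutes, ← IsScalarTower.algebraMap_apply R S' (Localization.Away (g'₁ * s'))]

end Groth.Agent.S2145
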