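import Groth.Statements.S2146
import Groth.Agent.Lib.Helper10.LocLift

set_option autoImplicit false
universe u
open CAlg

namespace Groth.Agent.S2146

open Groth.Agent.Lib.Helper10

/-- An algebra with a retraction whose kernel is killed by an element `w` with `π w = 1` splits
off a factor. -/
theorem exists_prod_of_retraction {A B : Type u} [CommRing A] [CommRing B] [Algebra A B]
    (π : B →ₐ[A] A) (w : B) (hw : π w = 1) (hker : ∀ y, π y = 0 → w * y = 0) :
    ∃ (C : Type u) (_ : CommRing C) (_ : Algebra A C), Nonempty (B ≃ₐ[A] (A × C)) := by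
  have h1 : π (1 - w) = 0 := by rw [map_sub, map_one, hw, sub_self]
  have h1' : w * (1 - w) = 0 := hker _ h1
  have hidem : IsIdempotentElem w := by
    show w * w = w
    linear_combination -h1'
  have hidem' : IsIdempotentElem (1 - w) := hidem.one_sub
  have hkerπ : RingHom.ker π.toRingHom = Ideal.span {1 - w} := by
    apply le_antisymm
    · intro y hy
      have := hker y hy
      rw [Ideal.mem_span_singleton']
      exact ⟨y, by linear_combination -this⟩
    · rw [Ideal.span_le, Set.singleton_subset_iff]; exact h1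
  let e1 := AlgEquiv.prodQuotientOfIsIdempotentElem (R := A) hidem' hidem (by ring)
    (by rw [mul_comm]; exact h1')
  have hπsurj : Function.Surjective π := fun a => ⟨algebraMap A B a, π.commutes a⟩
  let e2 : (B ⧸ RingHom.ker π.toRingHom) ≃ₐ[A] A := Ideal.quotientKerAlgEquivOfSurjective hπsurj
  let e3 : (B ⧸ Ideal.span {1 - w}) ≃ₐ[A] A := (Ideal.quotientEquivAlgOfEq A hkerπ.symm).trans e2
  exact ⟨B ⧸ Ideal.span {w}, inferInstance, inferInstance,
    ⟨e1.trans (AlgEquiv.prodCongr e3 AlgEquiv.refl)⟩⟩

/-- Let `S` be a finitely presented `R`-algebra and `𝔮` a prime of `S` over `𝔭` such that the induced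
map `R_𝔭 → S_𝔮` is bijective. Then for some `f ∉ 𝔭` there is an `R_f`-algebra `C` with `S_f ≅ R_f ×
C` as `R_f`-algebras. -/
theorem result {R S : Type u} [CommRing R] [CommRing S] [Algebra R S]
    [Algebra.FinitePresentation R S] (q : Ideal S) [q.IsPrime] (p : Ideal R) [p.IsPrime] [q.LiesOver p]
    (h : Function.Bijective (Localization.localRingHom p q (algebraMap R S) (q.over_def p))) :
    ∃ f : R, f ∉ p ∧ ∀ (Rf Sf : Type u) [CommRing Rf] [CommRing Sf] [Algebra R Rf] [IsLocalization.Away f Rf]
      [Algebra S Sf] [IsLocalization.Away (algebraMap R S f) Sf] [Algebra Rf Sf] [Algebra R Sf] [IsScalarTower R S Sf]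
      [IsScalarTower R Rf Sf],
      ∃ (C : Type u) (_ : CommRing C) (_ : Algebra Rf C), Nonempty (Sf ≃ₐ[Rf] (Rf × C)) := by
  classical
  -- Stage 1: the map `S → R_p`
  let hE : Localization.AtPrime p ≃+* Localization.AtPrime q := RingEquiv.ofBijective _ h
  let ψr : S →+* Localization.AtPrime p :=
    hE.symm.toRingHom.comp (algebraMap S (Localization.AtPrime q))
  have hψr : ∀ s, ψr s = hE.symm (algebraMap S (Localization.AtPrime q) s) := fun _ => rfl
  let ψ : S →ₐ[R] Localization.AtPrime p :=
    { ψr with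
      commutes' := by
        intro r
        show ψr (algebraMap R S r) = _
        rw [hψr]
        have : algebraMap S (Localization.AtPrime q) (algebraMap R S r) =
            hE (algebraMap R (Localization.AtPrime p) r) :=
          (Localization.localRingHom_to_map p q (algebraMap R S) (q.over_def p) r).symm
        rw [this, RingEquiv.symm_apply_apply] }
  have hψ : ∀ s, ψ s = hE.symm (algebraMap S (Localization.AtPrime q) s) := fun _ => rfl
  have H1 : ∀ s, ψ s = 0 → ∃ c ∈ q.primeCompl, c * s = 0 := by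
    intro s hs
    rw [hψ, RingEquiv.map_eq_zero_iff] at hs
    obtain ⟨m, hm⟩ := (IsLocalization.map_eq_zero_iff q.primeCompl _ s).mp hs
    exact ⟨m, m.2, hm⟩
  have H2 : ∀ c ∈ q.primeCompl, IsUnit (ψ c) := by
    intro c hc
    rw [hψ]
    exact (IsLocalization.map_units (M := q.primeCompl) (Localization.AtPrime q) ⟨c, hc⟩).map hE.symm
  obtain ⟨f, hf, α, c, -, hcunit, -, hker⟩ := exists_away_retraction p q.primeCompl ψ H1 H2
  refine ⟨f, hf, ?_⟩
  intro Rf Sf _ _ _ _ _ _ _ _ _ _
  let e : Localization.Away f ≃ₐ[R] Rf := IsLocalization.algEquiv (Submonoid.powers f) _ _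
  let π₀ : S →ₐ[R] Rf := e.toAlgHom.comp α
  have hπ₀F : IsUnit (π₀.toRingHom (algebraMap R S f)) := by
    show IsUnit (π₀ (algebraMap R S f))
    rw [π₀.commutes]; exact IsLocalization.Away.algebraMap_isUnit f
  let πr : Sf →+* Rf := IsLocalization.Away.lift (algebraMap R S f) (g := π₀.toRingHom) hπ₀F
  have hπr : ∀ s, πr (algebraMap S Sf s) = π₀ s := fun s => IsLocalization.Away.lift_eq _ _ _
  have hπid : ∀ x : Rf, πr (algebraMap Rf Sf x) = x := by
    have : (πr.comp (algebraMap Rf Sf)) = RingHom.id Rf := by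
      apply IsLocalization.ringHom_ext (Submonoid.powers f)
      ext r
      simp only [RingHom.coe_comp, Function.comp_apply, RingHom.id_apply]
      rw [← IsScalarTower.algebraMap_apply R Rf Sf, IsScalarTower.algebraMap_apply R S Sf, hπr,
        π₀.commutes]
    intro x
    exact congrFun (congrArg DFunLike.coe this) x
  let π : Sf →ₐ[Rf] Rf := { πr with commutes' := hπid }
  have hπ : ∀ y, π y = πr y := fun _ => rfl
  obtain ⟨u, hu⟩ : IsUnit (π₀ c) := hcunit.map e
  let w : Sf := algebraMap S Sf c * algebraMap Rf Sf ↑u⁻¹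
  have hw : π w = 1 := by
    rw [hπ, map_mul, hπr, hπid, ← hu, Units.mul_inv]
  apply exists_prod_of_retraction π w hw
  intro y hy
  obtain ⟨s, d, rfl⟩ := IsLocalization.exists_mk'_eq (Submonoid.powers (algebraMap R S f)) y
  have h0 : π₀ s = 0 := by
    have h5 : IsLocalization.mk' Sf s d * algebraMap S Sf d = algebraMap S Sf s :=
      IsLocalization.mk'_spec _ _ _
    have := congrArg πr h5
    rw [map_mul, ← hπ, hy, zero_mul, hπr] at this
    exact this.symm
  have h1 : α s = 0 := e.injective (by rw [map_zero]; exact h0)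
  obtain ⟨t, ht⟩ := hker s h1
  have h6 : algebraMap S Sf c * IsLocalization.mk' Sf s d = 0 := by
    rw [IsLocalization.mul_mk'_eq_mk'_of_mul, IsLocalization.mk'_eq_zero_iff]
    refine ⟨⟨algebraMap R S f ^ t, t, rfl⟩, ?_⟩
    show algebraMap R S f ^ t * (c * s) = 0
    rw [← map_pow]; exact ht
  show algebraMap S Sf c * algebraMap Rf Sf ↑u⁻¹ * IsLocalization.mk' Sf s d = 0
  rw [mul_right_comm, h6, zero_mul]

end Groth.Agent.S2146
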