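import Groth.Statements.S2149
import Mathlib.RingTheory.Localization.BaseChange
import Mathlib.RingTheory.IsTensorProduct

set_option autoImplicit false
universe u
open CAlg

namespace Groth.Agent.S2149

open TensorProduct

section
variable {R S M M' : Type u} [CommRing R] [CommRing S] [Algebra R S]
    [AddCommGroup M] [Module S M] [Module R M] [IsScalarTower R S M] [AddCommGroup M'] [Module S M'] [Module R M']
    [IsScalarTower R S M'] (u : M →ₗ[S] M') (W : Submonoid S)
    (Q : Type u) [AddCommGroup Q] [Module R Q]

/-- the localization map on `M ⊗[R] Q`, as an `S`-linear map -/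
noncomputable def gMap : M ⊗[R] Q →ₗ[S] (LocalizedModule W M) ⊗[R] Q :=
  TensorProduct.AlgebraTensorModule.map (LocalizedModule.mkLinearMap W M)
    (LinearMap.id (R := R) (M := Q))

instance gMap_isLocalizedModule : IsLocalizedModule W (gMap (R := R) (M := M) W Q) := by
  have hf : IsBaseChange (Localization W) (LocalizedModule.mkLinearMap W M) :=
    LocalizedModule.isBaseChange W M
  have := isBaseChange_tensorProduct_map (R := R) (S := S) (P := Q) (Localization W) hf
  exact (isLocalizedModule_iff_isBaseChange W (Localization W) _).mpr this

/-- `u ⊗ Q` as an `S`-linear map. -/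
noncomputable def uMap : M ⊗[R] Q →ₗ[S] M' ⊗[R] Q :=
  TensorProduct.AlgebraTensorModule.map u (LinearMap.id (R := R) (M := Q))

theorem uMap_apply (z : M ⊗[R] Q) : uMap u Q z = (u.restrictScalars R).rTensor Q z := rfl

theorem square (z : M ⊗[R] Q) :
    uMap ((LocalizedModule.map W u).restrictScalars S) Q (gMap (R := R) W Q z) =
      gMap (R := R) W Q (uMap u Q z) := by
  induction z with
  | zero => simp
  | tmul m q =>
    simp only [gMap, uMap, TensorProduct.AlgebraTensorModule.map_tmul, LinearMap.id_apply]
    congr 1
    simp [LocalizedModule.mkLinearMap_apply, LocalizedModule.map_mk]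
  | add x y hx hy => simp only [map_add, hx, hy]

end

/-- Let `R → S` be a ring map and `u : M → M'` a map of `S`-modules. Then `u`, viewed as an `R`-linear
map, is universally injective exactly when, for every maximal ideal `𝔪` of `S`, the localized map
`M_𝔪 → M'_𝔪` is also universally injective as an `R`-linear map. -/
theorem result {R S M M' : Type u} [CommRing R] [CommRing S] [Algebra R S]
    [AddCommGroup M] [Module S M] [Module R M] [IsScalarTower R S M] [AddCommGroup M'] [Module S M'] [Module R M']
    [IsScalarTower R S M'] (u : M →ₗ[S] M') :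
    CAlgX.UniversallyInjective R (u.restrictScalars R) ↔
      ∀ (m : Ideal S) [m.IsMaximal],
        CAlgX.UniversallyInjective R ((LocalizedModule.map m.primeCompl u).restrictScalars R) := by
  constructor
  · intro h m _ Q _ _
    set W := m.primeCompl
    have hinj : Function.Injective (uMap (R := R) u Q) := h Q
    show Function.Injective (uMap (R := R) ((LocalizedModule.map W u).restrictScalars S) Q)
    rw [injective_iff_map_eq_zero]
    intro y hy
    obtain ⟨⟨z, w⟩, hzw⟩ := IsLocalizedModule.surj W (gMap (R := R) (M := M) W Q) y
    have hzw' : (w : S) • y = gMap (R := R) W Q z := hzw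
    have h1 : gMap (R := R) W Q (uMap u Q z) = 0 := by
      rw [← square, ← hzw', map_smul, hy, smul_zero]
    obtain ⟨w', hw'⟩ := (IsLocalizedModule.eq_zero_iff W (gMap (R := R) (M := M') W Q)).mp h1
    have h2 : uMap (R := R) u Q ((w' : S) • z) = 0 := by rw [map_smul]; exact hw'
    have h3 : (w' : S) • z = 0 := by
      apply hinj
      rw [h2, map_zero]
    have h4 : w' • (w • y) = 0 := by
      show (w' : S) • ((w : S) • y) = 0
      rw [hzw', ← map_smul, h3, map_zero]
    have h5 := IsLocalizedModule.smul_injective (gMap (R := R) (M := M) W Q) w'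
    have h6 := IsLocalizedModule.smul_injective (gMap (R := R) (M := M) W Q) w
    apply h6
    apply h5
    simp only [smul_zero]
    exact h4
  · intro h Q _ _
    show Function.Injective (uMap (R := R) u Q)
    rw [injective_iff_map_eq_zero]
    intro z hz
    by_contra hne
    let J : Ideal S := LinearMap.ker (LinearMap.toSpanSingleton S (M ⊗[R] Q) z)
    have hJ : J ≠ ⊤ := by
      intro htop
      have : (1 : S) ∈ J := by rw [htop]; trivial
      have h1 : (1 : S) • z = 0 := this
      rw [one_smul] at h1
      exact hne h1
    obtain ⟨m, hm, hJm⟩ := Ideal.exists_le_maximal J hJ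
    have hm' := @h m hm Q _ _
    have hinj : Function.Injective
        (uMap (R := R) ((LocalizedModule.map m.primeCompl u).restrictScalars S) Q) := hm'
    have h1 : gMap (R := R) m.primeCompl Q z = 0 := by
      apply hinj
      rw [square, hz, map_zero, map_zero]
    obtain ⟨w, hw⟩ := (IsLocalizedModule.eq_zero_iff m.primeCompl
      (gMap (R := R) (M := M) m.primeCompl Q)).mp h1
    have : (w : S) ∈ J := hw
    exact w.2 (hJm this)

end Groth.Agent.S2149
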