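import Groth.Statements.S2158
import Groth.Agent.Lib.Helper13.OmegaStalk

set_option autoImplicit false
universe u
open CategoryTheory AlgebraicGeometry
open Mor

namespace Groth.Agent.S2158

open Groth.Agent.Lib.Helper13.OmegaChart Groth.Agent.Lib.Helper13.OmegaStalk in
/-- Let `f : X → S` be locally of finite type and quasi-separated (so that the diagonal is quasi-compact
and the prelude's sheaf of differentials is the conormal sheaf of the diagonal near every point), `x
∈ X`, `s = f(x)`. Then the stalk `Ω_{X/S,x}` vanishes if and only if `𝔪_s O_{X,x} = 𝔪_x` and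
`κ(x)/κ(s)` is a finite separable extension. -/
theorem result {X S : Scheme.{u}} (f : X ⟶ S) [LocallyOfFiniteType f] [QuasiSeparated f] (x : X) :
    Subsingleton ((Omega.sheaf f).presheaf.stalk x) ↔
      ((IsLocalRing.maximalIdeal (S.presheaf.stalk (f.base x))).map (f.stalkMap x).hom =
          IsLocalRing.maximalIdeal (X.presheaf.stalk x) ∧
        (f.residueFieldMap x).hom.Finite ∧
        @Algebra.IsSeparable (S.residueField (f.base x)) (X.residueField x) _ _ (f.residueFieldMap x).hom.toAlgebra) := by
  obtain ⟨_, ⟨V, hV, rfl⟩, hxV, -⟩ := S.isBasis_affineOpens.exists_subset_of_mem_open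
    (Set.mem_univ (f x)) isOpen_univ
  obtain ⟨_, ⟨U, hU, rfl⟩, hxU, hUV⟩ := X.isBasis_affineOpens.exists_subset_of_mem_open
    (show x ∈ (f ⁻¹ᵁ V : Set X) from hxV) (f ⁻¹ᵁ V).2
  letI := (f.appLE V U hUV).hom.toAlgebra
  obtain ⟨e⟩ := nonempty_omega_chart_iso f hU hV hUV
  rw [subsingleton_stalk_iff_of_chart _ hU _ e x hxU, ← formallyUnramified_stalkMap_iff_residue,
    formallyUnramified_stalkMap_iff V hV U hU hUV hxU]
  exact (isUnramifiedAt_iff_subsingleton_localizedModule Γ(S, V) Γ(X, U) _).symm

end Groth.Agent.S2158
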