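import Groth.Statements.S2160
import Mathlib.RingTheory.Ideal.KrullsHeightTheorem
import Mathlib.RingTheory.Ideal.MinimalPrime.Noetherian
-- import your own Groth.Agent.* helpers here

set_option autoImplicit false
universe u
open CAlg

namespace Groth.Agent.S2160


theorem infinite_height_one {R : Type*} [CommRing R] [IsDomain R] [IsLocalRing R] [IsNoetherianRing R]
    (hdim : 2 ≤ ringKrullDim R) : {q : PrimeSpectrum R | q.asIdeal.height = 1}.Infinite := by
  intro hfin
  classical
  set m := IsLocalRing.maximalIdeal R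
  have hm : (2 : WithBot ℕ∞) ≤ (m.height : WithBot ℕ∞) := by
    rw [IsLocalRing.maximalIdeal_height_eq_ringKrullDim]; exact hdim
  have hm2 : (2 : ℕ∞) ≤ m.height := by
    have : ((2 : ℕ∞) : WithBot ℕ∞) ≤ (m.height : WithBot ℕ∞) := hm
    exact WithBot.coe_le_coe.mp this
  let bot : PrimeSpectrum R := ⟨⊥, Ideal.isPrime_bot⟩
  let s : Finset (PrimeSpectrum R) := insert bot hfin.toFinset
  have havoid : ¬ ((m : Set R) ⊆ ⋃ i ∈ (↑s : Set (PrimeSpectrum R)), (i.asIdeal : Set R)) := by
    rw [Ideal.subset_union_prime (f := fun i : PrimeSpectrum R => i.asIdeal) bot bot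
      (fun i _ _ _ => i.isPrime)]
    rintro ⟨i, hi, hle⟩
    have hi' : i = bot ∨ i.asIdeal.height = 1 := by
      rcases Finset.mem_insert.mp hi with h | h
      · exact Or.inl h
      · right; simpa using h
    have heq : m = i.asIdeal := le_antisymm hle (IsLocalRing.le_maximalIdeal i.isPrime.ne_top)
    rcases hi' with h | h
    · rw [h] at heq
      have : m.height = 0 := by rw [heq]; exact Ideal.height_bot
      rw [this] at hm2
      exact absurd hm2 (by norm_num)
    · rw [← heq] at h
      rw [h] at hm2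
      exact absurd hm2 (by norm_num)
  rw [Set.not_subset] at havoid
  obtain ⟨x, hxm, hx⟩ := havoid
  simp only [Set.mem_iUnion, not_exists] at hx
  have hx0 : x ≠ 0 := by
    intro h
    apply hx bot (Finset.mem_insert_self _ _)
    rw [h]; exact Ideal.zero_mem _
  have hxu : ¬ IsUnit x := fun h => (IsLocalRing.mem_maximalIdeal x).mp hxm h
  obtain ⟨P, hP⟩ := (Ideal.span {x}).nonempty_minimalPrimes (by
    rw [Ne, Ideal.span_singleton_eq_top]; exact hxu)
  haveI : P.IsPrime := hP.1.1
  have hxP : x ∈ P := hP.1.2 (Ideal.mem_span_singleton_self x)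
  have h1 : P.height ≤ 1 := Ideal.height_le_one_of_isPrincipal_of_mem_minimalPrimes _ _ hP
  have h2 : P.height ≠ 0 := by
    rw [Ne, Ideal.height_eq_zero_iff_eq_bot]
    intro h
    rw [h] at hxP
    exact hx0 (by simpa using hxP)
  have h3 : P.height = 1 := le_antisymm h1 (Order.one_le_iff_pos.mpr (pos_iff_ne_zero.mpr h2))
  exact hx ⟨P, inferInstance⟩ (Finset.mem_insert_of_mem (by simpa using h3)) hxP

/-- Let `R` be a Noetherian local domain of Krull dimension at least `2`. Then every nonempty open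
subset of `Spec R` is infinite. -/
theorem result {R : Type u} [CommRing R] [IsDomain R] [IsLocalRing R] [IsNoetherianRing R]
    (hdim : 2 ≤ ringKrullDim R) (U : Set (PrimeSpectrum R)) (hU : IsOpen U) (hne : U.Nonempty) : U.Infinite := by
  obtain ⟨p, hp⟩ := hne
  obtain ⟨V, ⟨f, rfl⟩, hpV, hVU⟩ :=
    PrimeSpectrum.isTopologicalBasis_basic_opens.exists_subset_of_mem_open hp hU
  have hf0 : f ≠ 0 := by
    rintro rfl
    simp at hpV
  have hfin : {q : PrimeSpectrum R | q.asIdeal.height = 1 ∧ f ∈ q.asIdeal}.Finite := by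
    have h1 := (Ideal.span {f}).finite_minimalPrimes_of_isNoetherianRing R
    have h2 : ({q : PrimeSpectrum R | q.asIdeal.height = 1 ∧ f ∈ q.asIdeal}).InjOn
        (fun q => q.asIdeal) := fun a _ b _ h => PrimeSpectrum.ext h
    apply Set.Finite.of_finite_image (h1.subset ?_) h2
    rintro _ ⟨q, ⟨hq1, hq2⟩, rfl⟩
    refine ⟨⟨q.isPrime, (Ideal.span_singleton_le_iff_mem _).mpr hq2⟩, ?_⟩
    rintro J ⟨hJ, hJf⟩ hJq
    by_contra hcon
    have hlt : J < q.asIdeal := lt_of_le_of_ne hJq (fun h => hcon (h ▸ le_refl _))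
    haveI := hJ
    haveI := q.isPrime
    have := Ideal.height_strict_mono_of_isPrime hlt
    rw [hq1] at this
    have h0 : J.height = 0 := ENat.lt_one_iff_eq_zero.mp this
    rw [Ideal.height_eq_zero_iff_eq_bot] at h0
    have : f ∈ J := hJf (Ideal.mem_span_singleton_self f)
    rw [h0] at this
    exact hf0 (by simpa using this)
  have hinf := (infinite_height_one hdim).diff hfin
  apply hinf.mono
  rintro q ⟨hq1, hq2⟩
  apply hVU
  simp only [Set.mem_setOf_eq, not_and] at hq1 hq2
  exact hq2 hq1

end Groth.Agent.S2160
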