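import Groth.Statements.S2161
import Mathlib

set_option autoImplicit false
universe u
open CAlg

namespace Groth.Agent.S2161

open Polynomial

section Helpers

/-- the subalgebra of elements with an `ℓ`-power power in the base field -/
def powSub (κ E : Type*) [Field κ] [CommRing E] [Algebra κ E] (ℓ : ℕ) [ExpChar E ℓ] :
    Subalgebra κ E where
  carrier := {y | ∃ e : ℕ, y ^ ℓ ^ e ∈ (algebraMap κ E).range}
  mul_mem' := by
    rintro a b ⟨e1, c1, h1⟩ ⟨e2, c2, h2⟩
    refine ⟨e1 + e2, c1 ^ ℓ ^ e2 * c2 ^ ℓ ^ e1, ?_⟩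
    rw [map_mul, map_pow, map_pow, h1, h2, mul_pow, ← pow_mul, ← pow_mul, ← pow_add, ← pow_add,
      add_comm e2 e1]
  add_mem' := by
    rintro a b ⟨e1, c1, h1⟩ ⟨e2, c2, h2⟩
    refine ⟨e1 + e2, c1 ^ ℓ ^ e2 + c2 ^ ℓ ^ e1, ?_⟩
    rw [add_pow_expChar_pow, map_add, map_pow, map_pow, h1, h2, ← pow_mul, ← pow_mul, ← pow_add,
      ← pow_add, add_comm e2 e1]
  algebraMap_mem' := fun c => ⟨0, c, by simp⟩

theorem mem_powSub {κ E : Type*} [Field κ] [CommRing E] [Algebra κ E] (ℓ : ℕ) [ExpChar E ℓ]
    (y : E) : y ∈ powSub κ E ℓ ↔ ∃ e : ℕ, y ^ ℓ ^ e ∈ (algebraMap κ E).range := Iff.rfl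

theorem exists_pow_mem_range {κ E : Type*} [Field κ] [CommRing E] [Algebra κ E] (ℓ : ℕ)
    [hκ : ExpChar κ ℓ] [ExpChar E ℓ] (y : E) (n : ℕ) (hn : 0 < n) (P : κ[X])
    (hP : P.map (algebraMap κ E) = (X - C y) ^ n) :
    ∃ e : ℕ, y ^ ℓ ^ e ∈ (algebraMap κ E).range := by
  obtain ⟨e, m, hnm, hm⟩ : ∃ e m : ℕ, n = ℓ ^ e * m ∧ (m : κ) ≠ 0 := by
    cases hκ with
    | zero => exact ⟨0, n, by simp, by exact_mod_cast hn.ne'⟩
    | prime hprime =>
      obtain ⟨e, m, hndvd, hnm⟩ := Nat.exists_eq_pow_mul_and_not_dvd hn.ne' ℓ hprime.ne_one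
      exact ⟨e, m, hnm, fun h => hndvd ((CharP.cast_eq_zero_iff κ ℓ m).mp h)⟩
  have hm0 : 0 < m := by
    rcases Nat.eq_zero_or_pos m with h | h
    · subst h; simp at hm
    · exact h
  refine ⟨e, ?_⟩
  have hq : 0 < ℓ ^ e := by
    rcases Nat.eq_zero_or_pos (ℓ ^ e) with h | h
    · rw [h, zero_mul] at hnm; omega
    · exact h
  have h1 : (X - C y) ^ n = expand E (ℓ ^ e) ((X + C (-(y ^ ℓ ^ e))) ^ m) := by
    rw [hnm, pow_mul, sub_pow_expChar_pow, map_pow, map_add, expand_X, expand_C, ← C_pow, C_neg,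
      sub_eq_add_neg]
  have h2 : ((X - C y) ^ n).coeff ((m - 1) * ℓ ^ e) = -(y ^ ℓ ^ e) * (m : E) := by
    rw [h1, coeff_expand_mul hq, coeff_X_add_C_pow]
    have : m - (m - 1) = 1 := by omega
    have hc : m.choose (m - 1) = m := by
      rw [Nat.choose_symm (by omega : 1 ≤ m), Nat.choose_one_right]
    rw [this, pow_one, hc]
  have h3 : algebraMap κ E (P.coeff ((m - 1) * ℓ ^ e)) = -(y ^ ℓ ^ e) * (m : E) := by
    rw [← h2, ← hP, coeff_map]
  refine ⟨-(P.coeff ((m - 1) * ℓ ^ e)) * (m : κ)⁻¹, ?_⟩
  have hmE : (m : E) = algebraMap κ E (m : κ) := (map_natCast _ _).symm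
  have hone : algebraMap κ E (m : κ) * algebraMap κ E ((m : κ)⁻¹) = 1 := by
    rw [← map_mul, mul_inv_cancel₀ hm, map_one]
  rw [map_mul, map_neg, h3, hmE]
  linear_combination (y ^ ℓ ^ e) * hone

theorem forall_pow_mem_range {R S κ E : Type*} [CommRing R] [CommRing S] [Algebra R S] [Field κ]
    [CommRing E] [Algebra κ E] (ℓ : ℕ) [ExpChar κ ℓ] [ExpChar E ℓ] (σ : R →+* κ) (ρ : S →+* E)
    (hcomm : (algebraMap κ E).comp σ = ρ.comp (algebraMap R S))
    (G : Set S) (hG : Algebra.adjoin R G = ⊤)
    (hpow : ∀ x ∈ G, ∃ (n : ℕ) (P : Polynomial R), 0 < n ∧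
      Polynomial.map (algebraMap R S) P = (X - C x) ^ n)
    (s : S) : ∃ e : ℕ, ρ s ^ ℓ ^ e ∈ (algebraMap κ E).range := by
  have hs : s ∈ Algebra.adjoin R G := by rw [hG]; exact Algebra.mem_top
  rw [← mem_powSub]
  induction hs using Algebra.adjoin_induction with
  | mem x hx =>
    obtain ⟨n, P, hn, hP⟩ := hpow x hx
    rw [mem_powSub]
    refine exists_pow_mem_range ℓ (ρ x) n hn (P.map σ) ?_
    rw [Polynomial.map_map, hcomm, ← Polynomial.map_map, hP, Polynomial.map_pow,
      Polynomial.map_sub, map_X, map_C]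
  | algebraMap r =>
    have : ρ (algebraMap R S r) = algebraMap κ E (σ r) := (RingHom.congr_fun hcomm r).symm
    rw [this]
    exact Subalgebra.algebraMap_mem _ _
  | add a b _ _ ha hb =>
    rw [map_add]
    exact add_mem ha hb
  | mul a b _ _ ha hb =>
    rw [map_mul]
    exact mul_mem ha hb

end Helpers

/-- Let R → S be a ring map whose kernel consists of nilpotent elements, and suppose S is generated as
an R-algebra by elements x for which some power (T − x)ⁿ, n > 0, is the image of a polynomial over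
R. Then Spec S → Spec R is a homeomorphism, and for every prime 𝔮 of S over 𝔭 the extension
κ(𝔮)/κ(𝔭) is purely inseparable. -/
theorem result {R S : Type u} [CommRing R] [CommRing S] [Algebra R S]
    (hker : ∀ r : R, algebraMap R S r = 0 → IsNilpotent r) (G : Set S) (hG : Algebra.adjoin R G = ⊤)
    (hpow : ∀ x ∈ G, ∃ (n : ℕ) (P : Polynomial R), 0 < n ∧
      Polynomial.map (algebraMap R S) P = (Polynomial.X - Polynomial.C x) ^ n) :
    IsHomeomorph (PrimeSpectrum.comap (algebraMap R S)) ∧
      ∀ (q : Ideal S) [q.IsPrime] (p : Ideal R) [p.IsPrime] [q.LiesOver p],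
        @IsPurelyInseparable p.ResidueField q.ResidueField _ _
          (Ideal.ResidueField.mapₐ p q (Algebra.ofId R S) (q.over_def p)).toRingHom.toAlgebra := by
  classical
  have hGint : ∀ x ∈ G, IsIntegral R x := by
    intro x hx
    obtain ⟨n, P, hn, hP⟩ := hpow x hx
    have h0 : (-x) ^ n = algebraMap R S (P.coeff 0) := by
      have := congrArg (fun f => f.coeff 0) hP
      simp only [coeff_map] at this
      rw [this, sub_eq_add_neg, ← C_neg, coeff_X_add_C_pow]
      simp
    have h1 : IsIntegral R ((-x) ^ n) := by rw [h0]; exact isIntegral_algebraMap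
    have h2 : IsIntegral R (-x) := IsIntegral.of_pow hn h1
    simpa using h2.neg
  haveI : Algebra.IsIntegral R S := by
    constructor
    intro s
    have hle : Algebra.adjoin R G ≤ integralClosure R S := Algebra.adjoin_le hGint
    rw [hG] at hle
    exact hle Algebra.mem_top
  have hkerle : ∀ p : Ideal R, p.IsPrime → RingHom.ker (algebraMap R S) ≤ p := by
    intro p hp r hr
    obtain ⟨n, hn⟩ := hker r hr
    exact hp.mem_of_pow_mem n (by rw [hn]; exact p.zero_mem)
  have hsurj : Function.Surjective (PrimeSpectrum.comap (algebraMap R S)) := by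
    intro p
    obtain ⟨Q, -, hQ, hQp⟩ := Ideal.exists_ideal_over_prime_of_isIntegral p.asIdeal (⊥ : Ideal S)
      (by rw [← RingHom.ker_eq_comap_bot]; exact hkerle _ p.2)
    exact ⟨⟨Q, hQ⟩, PrimeSpectrum.ext hQp⟩
  have hfib : ∀ p : PrimeSpectrum R, Subsingleton (PrimeSpectrum (p.asIdeal.Fiber S)) := by
    intro p
    rcases subsingleton_or_nontrivial (p.asIdeal.Fiber S) with hF | hF
    · constructor
      intro a
      exact (a.2.ne_top (Subsingleton.elim _ _)).elim
    · haveI : ExpChar p.asIdeal.ResidueField (ringExpChar p.asIdeal.ResidueField) :=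
        ringExpChar.expChar _
      haveI : ExpChar (p.asIdeal.Fiber S) (ringExpChar p.asIdeal.ResidueField) :=
        expChar_of_injective_algebraMap
          (algebraMap p.asIdeal.ResidueField (p.asIdeal.Fiber S)).injective _
      have hall : ∀ y : p.asIdeal.Fiber S, ∃ e : ℕ,
          y ^ (ringExpChar p.asIdeal.ResidueField) ^ e ∈
            (algebraMap p.asIdeal.ResidueField (p.asIdeal.Fiber S)).range := by
        intro y
        rw [← mem_powSub]
        induction y using TensorProduct.induction_on with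
        | zero => exact zero_mem _
        | tmul c s =>
          have : c ⊗ₜ[R] s = c • ((1 : p.asIdeal.ResidueField) ⊗ₜ[R] s) := by
            rw [TensorProduct.smul_tmul', smul_eq_mul, mul_one]
          rw [this]
          apply Subalgebra.smul_mem
          rw [mem_powSub]
          let ρ : S →+* p.asIdeal.Fiber S :=
            (Algebra.TensorProduct.includeRight :
              S →ₐ[R] TensorProduct R p.asIdeal.ResidueField S).toRingHom
          have hcomm : (algebraMap p.asIdeal.ResidueField (p.asIdeal.Fiber S)).comp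
              (algebraMap R p.asIdeal.ResidueField) = ρ.comp (algebraMap R S) := by
            ext r
            simp [ρ, Algebra.TensorProduct.algebraMap_apply, Algebra.algebraMap_eq_smul_one,
              TensorProduct.smul_tmul]
          exact forall_pow_mem_range (E := p.asIdeal.Fiber S) _
            (algebraMap R p.asIdeal.ResidueField) ρ hcomm G hG hpow s
        | add a b ha hb => exact add_mem ha hb
      have key : ∀ Q1 Q2 : PrimeSpectrum (p.asIdeal.Fiber S), Q1.asIdeal ≤ Q2.asIdeal := by
        intro Q1 Q2 y hy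
        obtain ⟨e, c, hc⟩ := hall y
        have hc0 : c = 0 := by
          by_contra h
          have hu : IsUnit (algebraMap p.asIdeal.ResidueField (p.asIdeal.Fiber S) c) :=
            (IsUnit.mk0 c h).map _
          have : algebraMap p.asIdeal.ResidueField (p.asIdeal.Fiber S) c ∈ Q1.asIdeal := by
            rw [hc]
            exact Ideal.pow_mem_of_mem _ hy _
              (pow_pos (expChar_pos p.asIdeal.ResidueField _) e)
          exact Q1.2.ne_top (Ideal.eq_top_of_isUnit_mem _ this hu)
        rw [hc0, map_zero] at hc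
        exact Q2.2.mem_of_pow_mem _ (by rw [← hc]; exact Q2.asIdeal.zero_mem)
      constructor
      intro Q1 Q2
      exact PrimeSpectrum.ext (le_antisymm (key Q1 Q2) (key Q2 Q1))
  have hinj : Function.Injective (PrimeSpectrum.comap (algebraMap R S)) := by
    intro q1 q2 h
    have h1 : q1 ∈ PrimeSpectrum.comap (algebraMap R S) ⁻¹'
        {PrimeSpectrum.comap (algebraMap R S) q1} := rfl
    have h2 : q2 ∈ PrimeSpectrum.comap (algebraMap R S) ⁻¹'
        {PrimeSpectrum.comap (algebraMap R S) q1} := h.symm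
    haveI := hfib (PrimeSpectrum.comap (algebraMap R S) q1)
    have := (PrimeSpectrum.preimageEquivFiber R S
      (PrimeSpectrum.comap (algebraMap R S) q1)).injective
      (a₁ := ⟨q1, h1⟩) (a₂ := ⟨q2, h2⟩) (Subsingleton.elim _ _)
    exact congrArg Subtype.val this
  refine ⟨isHomeomorph_iff_continuous_isClosedMap_bijective.mpr
    ⟨PrimeSpectrum.continuous_comap _,
      PrimeSpectrum.isClosedMap_comap_of_isIntegral _ Algebra.IsIntegral.isIntegral,
      hinj, hsurj⟩, ?_⟩
  intro q hq p hp hqp
  letI alg : Algebra p.ResidueField q.ResidueField :=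
    (Ideal.ResidueField.mapₐ p q (Algebra.ofId R S) (q.over_def p)).toRingHom.toAlgebra
  haveI : ExpChar p.ResidueField (ringExpChar p.ResidueField) := ringExpChar.expChar _
  haveI : ExpChar q.ResidueField (ringExpChar p.ResidueField) :=
    expChar_of_injective_algebraMap (algebraMap p.ResidueField q.ResidueField).injective _
  rw [isPurelyInseparable_iff_pow_mem p.ResidueField (ringExpChar p.ResidueField)]
  have hcomm : (algebraMap p.ResidueField q.ResidueField).comp (algebraMap R p.ResidueField) =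
      (algebraMap S q.ResidueField).comp (algebraMap R S) := by
    ext r
    show Ideal.ResidueField.mapₐ p q (Algebra.ofId R S) (q.over_def p)
      (algebraMap R p.ResidueField r) = algebraMap S q.ResidueField (algebraMap R S r)
    rw [Ideal.ResidueField.mapₐ_apply, Ideal.ResidueField.map_algebraMap]
    rfl
  have hS : ∀ s : S, algebraMap S q.ResidueField s ∈
      powSub p.ResidueField q.ResidueField (ringExpChar p.ResidueField) := by
    intro s
    rw [mem_powSub]
    exact forall_pow_mem_range _ (algebraMap R p.ResidueField) (algebraMap S q.ResidueField)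
      hcomm G hG hpow s
  have hinv : ∀ w ∈ powSub p.ResidueField q.ResidueField (ringExpChar p.ResidueField),
      w⁻¹ ∈ powSub p.ResidueField q.ResidueField (ringExpChar p.ResidueField) := by
    rintro w ⟨e, c, hc⟩
    exact ⟨e, c⁻¹, by rw [map_inv₀, hc, inv_pow]⟩
  intro z
  rw [← mem_powSub]
  obtain ⟨a, b, hb, rfl⟩ := IsFractionRing.div_surjective (A := S ⧸ q) z
  obtain ⟨a, rfl⟩ := Ideal.Quotient.mk_surjective a
  obtain ⟨b, rfl⟩ := Ideal.Quotient.mk_surjective b
  rw [div_eq_mul_inv]
  exact mul_mem (hS a) (hinv _ (hS b))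

end Groth.Agent.S2161
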