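import Groth.Statements.S2163
import Mathlib.RingTheory.Flat.EquationalCriterion
import Mathlib.Algebra.Module.FinitePresentation
import Mathlib.Tactic
-- import your own Groth.Agent.* helpers here

set_option autoImplicit false
universe u
open CAlg

namespace Groth.Agent.S2163

/-- A ring `R` is coherent — every finitely generated ideal is a finitely presented module — if and only
if for every index set `A` (in the same universe) the product module `R^A` is flat. -/
theorem result {R : Type u} [CommRing R] :
    (∀ I : Ideal R, I.FG → Module.FinitePresentation R I) ↔ ∀ (A : Type u), Module.Flat R (A → R) := by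
  classical
  constructor
  · intro hcoh A
    apply Module.Flat.of_forall_isTrivialRelation
    intro l f x hfx
    let ψ : (Fin l → R) →ₗ[R] R := Fintype.linearCombination R f
    have e : LinearMap.range ψ = Ideal.span (Set.range f) := Fintype.range_linearCombination R f
    haveI : Module.FinitePresentation R ↥(LinearMap.range ψ) := by
      rw [e]; exact hcoh _ ⟨Finset.univ.image f, by simp⟩
    have hK : (LinearMap.ker ψ.rangeRestrict).FG :=
      Module.FinitePresentation.fg_ker ψ.rangeRestrict ψ.surjective_rangeRestrict
    rw [LinearMap.ker_rangeRestrict] at hK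
    obtain ⟨k, b, hb⟩ := Submodule.fg_iff_exists_fin_generating_family.mp hK
    have hmem : ∀ α : A, (fun i => x i α) ∈ Submodule.span R (Set.range b) := by
      intro α
      rw [hb, LinearMap.mem_ker]
      have := congrFun hfx α
      simp only [Finset.sum_apply, Pi.smul_apply, smul_eq_mul, Pi.zero_apply] at this
      simp only [ψ, Fintype.linearCombination_apply, smul_eq_mul]
      rw [← this]
      exact Finset.sum_congr rfl (fun i _ => mul_comm _ _)
    choose c hc using fun α => (Submodule.mem_span_range_iff_exists_fun R).mp (hmem α)
    refine ⟨k, fun i j => b j i, fun j α => c α j, ?_, ?_⟩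
    · intro i
      funext α
      have := congrFun (hc α) i
      simp only [Finset.sum_apply, Pi.smul_apply, smul_eq_mul] at this ⊢
      rw [← this]
      exact Finset.sum_congr rfl (fun j _ => mul_comm _ _)
    · intro j
      have hbj : b j ∈ LinearMap.ker ψ := by
        rw [← hb]; exact Submodule.subset_span ⟨j, rfl⟩
      rw [LinearMap.mem_ker] at hbj
      simp only [ψ, Fintype.linearCombination_apply, smul_eq_mul] at hbj
      rw [← hbj]
      exact Finset.sum_congr rfl (fun i _ => mul_comm _ _)
  · intro hflat I hI
    obtain ⟨l, f, hf⟩ := Submodule.fg_iff_exists_fin_generating_family.mp hI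
    let ψ : (Fin l → R) →ₗ[R] R := Fintype.linearCombination R f
    have e : LinearMap.range ψ = I := (Fintype.range_linearCombination R f).trans hf
    suffices h : Module.FinitePresentation R ↥(LinearMap.range ψ) by rw [e] at h; exact h
    apply Module.finitePresentation_of_surjective ψ.rangeRestrict ψ.surjective_rangeRestrict
    rw [LinearMap.ker_rangeRestrict]
    let K := LinearMap.ker ψ
    haveI := hflat ↥K
    let x : Fin l → (↥K → R) := fun i κ => κ.1 i
    have hfx : ∑ i, f i • x i = 0 := by
      funext κ
      have hκ := κ.2
      rw [LinearMap.mem_ker] at hκ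
      simp only [ψ, Fintype.linearCombination_apply, smul_eq_mul] at hκ
      simp only [Finset.sum_apply, Pi.smul_apply, smul_eq_mul, Pi.zero_apply, x]
      rw [← hκ]
      exact Finset.sum_congr rfl (fun i _ => mul_comm _ _)
    obtain ⟨k, a, y, hxy, hfa⟩ := Module.Flat.isTrivialRelation_of_sum_smul_eq_zero hfx
    rw [Submodule.fg_iff_exists_fin_generating_family]
    refine ⟨k, fun j i => a i j, ?_⟩
    apply le_antisymm
    · rw [Submodule.span_le]
      rintro _ ⟨j, rfl⟩
      rw [SetLike.mem_coe, LinearMap.mem_ker]
      simp only [ψ, Fintype.linearCombination_apply, smul_eq_mul]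
      rw [← hfa j]
      exact Finset.sum_congr rfl (fun i _ => mul_comm _ _)
    · intro κ hκ
      rw [Submodule.mem_span_range_iff_exists_fun]
      refine ⟨fun j => y j ⟨κ, hκ⟩, ?_⟩
      funext i
      have := congrFun (hxy i) ⟨κ, hκ⟩
      simp only [Finset.sum_apply, Pi.smul_apply, smul_eq_mul, x] at this ⊢
      rw [this]
      exact Finset.sum_congr rfl (fun j _ => mul_comm _ _)

end Groth.Agent.S2163
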