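import Groth.Statements.S2170
import Groth.Agent.Lib.Helper10.SymMat

set_option autoImplicit false
open Finset
open Models

namespace Groth.Agent.S2170

/-- Let A be a symmetric real n × n matrix with non-negative off-diagonal entries and m a vector with
positive entries such that for every i, ∑_{j ≠ i} A_{ij} m_j ≤ −A_{ii} m_i. Then the kernel of A is
the span of the vectors equal to m on an index set I and zero off I, for those I such that A_{ij} =
0 whenever i ∈ I and j ∉ I and such that equality holds in the above inequality for every i ∈ I. The
published statement omits the symmetry of A (without which it fails) and applies it only to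
symmetric matrices; stated here with A symmetric. -/
theorem result {n : ℕ} (A : Matrix (Fin n) (Fin n) ℝ) (m : Fin n → ℝ)
    (hsymm : A.IsSymm) (hA : ∀ i j, i ≠ j → 0 ≤ A i j) (hm : ∀ i, 0 < m i)
    (hle : ∀ i, ∑ j ∈ univ.erase i, A i j * m j ≤ -(A i i * m i)) :
    LinearMap.ker (Matrix.mulVecLin A) = Submodule.span ℝ
      {x : Fin n → ℝ | ∃ I : Finset (Fin n), (∀ i ∈ I, ∀ j ∉ I, A i j = 0) ∧
        (∀ i ∈ I, ∑ j ∈ univ.erase i, A i j * m j = -(A i i * m i)) ∧
        x = fun i => if i ∈ I then m i else 0} := by
  have hmv : ∀ i, A.mulVec m i = A i i * m i + ∑ j ∈ univ.erase i, A i j * m j := by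
    intro i
    simp only [Matrix.mulVec, dotProduct]
    rw [← Finset.add_sum_erase univ _ (Finset.mem_univ i)]
  have hle' : ∀ i, A.mulVec m i ≤ 0 := fun i => by rw [hmv]; linarith [hle i]
  have hs : ∀ i j, A i j = A j i := fun i j => (Matrix.IsSymm.apply hsymm i j).symm
  apply le_antisymm
  · intro x hxker
    rw [LinearMap.mem_ker, Matrix.mulVecLin_apply] at hxker
    set y : Fin n → ℝ := fun i => x i / m i with hy
    have hx : x = fun i => m i * y i := by
      funext i
      have := (hm i).ne'
      simp only [hy]
      field_simp
    have h0 : dotProduct (fun i => m i * y i) (A.mulVec (fun i => m i * y i)) = 0 := by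
      rw [← hx, hxker, dotProduct_zero]
    obtain ⟨h1, h2⟩ := Groth.Agent.Lib.Helper10.quad_form_eq_zero A m y hsymm hA hm hle' h0
    have hdecomp : x = ∑ c ∈ (univ.image y).erase 0,
        c • (fun i => if i ∈ univ.filter (fun k => y k = c) then m i else 0) := by
      funext i
      rw [Finset.sum_apply]
      simp only [Pi.smul_apply, smul_eq_mul, Finset.mem_filter, Finset.mem_univ, true_and,
        mul_ite, mul_zero]
      rw [Finset.sum_ite_eq]
      by_cases hyi : y i = 0
      · have : y i ∉ (univ.image y).erase 0 := by
          rw [hyi]; exact Finset.notMem_erase 0 _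
        rw [if_neg this]
        have := congrFun hx i
        simp only [hyi, mul_zero] at this
        exact this
      · have : y i ∈ (univ.image y).erase 0 :=
          Finset.mem_erase.mpr ⟨hyi, Finset.mem_image_of_mem y (Finset.mem_univ i)⟩
        rw [if_pos this]
        have := congrFun hx i
        rw [this]; ring
    rw [hdecomp]
    apply Submodule.sum_mem
    intro c hc
    apply Submodule.smul_mem
    apply Submodule.subset_span
    have hc0 : c ≠ 0 := (Finset.mem_erase.mp hc).1
    refine ⟨univ.filter (fun k => y k = c), ?_, ?_, rfl⟩
    · intro i hi j hj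
      simp only [Finset.mem_filter, Finset.mem_univ, true_and] at hi hj
      by_contra hne
      exact hj ((h2 i j hne).symm.trans hi)
    · intro i hi
      simp only [Finset.mem_filter, Finset.mem_univ, true_and] at hi
      have := h1 i (by rw [hi]; exact hc0)
      rw [hmv] at this
      linarith
  · rw [Submodule.span_le]
    rintro x ⟨I, hI1, hI2, rfl⟩
    rw [SetLike.mem_coe, LinearMap.mem_ker, Matrix.mulVecLin_apply]
    funext i
    simp only [Matrix.mulVec, dotProduct, Pi.zero_apply]
    by_cases hi : i ∈ I
    · have h3 : ∑ j, A i j * (if j ∈ I then m j else 0) = ∑ j, A i j * m j := by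
        refine Finset.sum_congr rfl (fun j _ => ?_)
        by_cases hj : j ∈ I
        · rw [if_pos hj]
        · rw [if_neg hj, hI1 i hi j hj]; ring
      rw [h3]
      have h4 := hI2 i hi
      have h5 := hmv i
      simp only [Matrix.mulVec, dotProduct] at h5
      linarith
    · apply Finset.sum_eq_zero
      intro j _
      by_cases hj : j ∈ I
      · rw [hs i j, hI1 j hj i hi]; ring
      · rw [if_neg hj]; ring

end Groth.Agent.S2170
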