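import Groth.Statements.S2171
import Groth.Agent.Lib.Helper10.SymMat

set_option autoImplicit false
open Finset
open Models

namespace Groth.Agent.S2171

/-- Let A be a symmetric real n by n matrix with non-negative off-diagonal entries, m a vector with
positive entries such that A m = 0, and assume no proper non-empty index set I has A i j = 0 for all
i in I and j outside I. Then x^t A x is at most 0 for every real vector x, with equality exactly
when x is a real multiple of m. -/
theorem result {n : ℕ} (A : Matrix (Fin n) (Fin n) ℝ)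
    (m : Fin n → ℝ) (hsymm : A.IsSymm) (hA : ∀ i j, i ≠ j → 0 ≤ A i j) (hm : ∀ i, 0 < m i)
    (hAm : A.mulVec m = 0)
    (hconn : ∀ I : Finset (Fin n), I.Nonempty → I ≠ univ → ∃ i ∈ I, ∃ j ∉ I, A i j ≠ 0)
    (x : Fin n → ℝ) :
    dotProduct x (A.mulVec x) ≤ 0 ∧ (dotProduct x (A.mulVec x) = 0 ↔ ∃ q : ℝ, x = q • m) := by
  have hle : ∀ i, A.mulVec m i ≤ 0 := fun i => by rw [hAm]; simp
  set y : Fin n → ℝ := fun i => x i / m i with hy
  have hx : x = fun i => m i * y i := by
    funext i
    have := (hm i).ne'
    simp only [hy]
    field_simp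
  rw [hx]
  refine ⟨Groth.Agent.Lib.Helper10.quad_form_nonpos A m y hsymm hA hm hle, ?_, ?_⟩
  · intro h0
    obtain ⟨-, h2⟩ := Groth.Agent.Lib.Helper10.quad_form_eq_zero A m y hsymm hA hm hle h0
    rcases Nat.eq_zero_or_pos n with hn | hn
    · subst hn
      exact ⟨0, Subsingleton.elim _ _⟩
    · let i0 : Fin n := ⟨0, hn⟩
      refine ⟨y i0, ?_⟩
      have hconst : ∀ i, y i = y i0 := by
        by_contra hcon
        rw [not_forall] at hcon
        obtain ⟨k, hk⟩ := hcon
        obtain ⟨i, hi, j, hj, hij⟩ := hconn (univ.filter fun i => y i = y i0)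
          ⟨i0, by simp⟩ (by
            intro heq
            have : k ∈ univ.filter fun i => y i = y i0 := by rw [heq]; exact Finset.mem_univ k
            simp only [Finset.mem_filter, Finset.mem_univ, true_and] at this
            exact hk this)
        simp only [Finset.mem_filter, Finset.mem_univ, true_and] at hi hj
        exact hj ((h2 i j hij).symm.trans hi)
      funext i
      simp only [Pi.smul_apply, smul_eq_mul, hconst i]
      ring
  · rintro ⟨q, hq⟩
    rw [hq, Matrix.mulVec_smul, hAm, smul_zero, dotProduct_zero]

end Groth.Agent.S2171
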