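import Groth.Statements.S2172
import Mathlib.LinearAlgebra.Matrix.Rank
import Mathlib.FieldTheory.Finiteness
import Mathlib.Data.ZMod.Basic
import Mathlib.Tactic

set_option autoImplicit false
open Finset
open Models

namespace Groth.Agent.S2172

section helpers

variable {n : ℕ} {F : Type} [Field F]

/-- incidence matrix of an edge set -/
def inc (E : Finset (Fin n × Fin n)) : Matrix ↥E (Fin n) F :=
  fun ε k => (if k = ε.1.1 then 1 else 0) - (if k = ε.1.2 then 1 else 0)

theorem inc_mulVec (E : Finset (Fin n × Fin n)) (y : Fin n → F) (ε : ↥E) :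
    ((inc E : Matrix ↥E (Fin n) F).mulVec y) ε = y ε.1.1 - y ε.1.2 := by
  simp only [Matrix.mulVec, dotProduct, inc, sub_mul, ite_mul, one_mul, zero_mul,
    Finset.sum_sub_distrib, Finset.sum_ite_eq', Finset.mem_univ, if_true]

theorem sum_edge (P : Fin n → Fin n → Prop) [DecidableRel P] (X : Fin n → Fin n → F) (k : Fin n) :
    ∑ p ∈ univ.filter (fun p : Fin n × Fin n => P p.1 p.2),
      ((if k = p.1 then (1 : F) else 0) - (if k = p.2 then 1 else 0)) * X p.1 p.2 =
    ∑ j, ((if P k j then X k j else 0) - (if P j k then X j k else 0)) := by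
  rw [Finset.sum_filter, Fintype.sum_prod_type]
  have h : ∀ i j, (if P i j then ((if k = i then (1 : F) else 0) - (if k = j then 1 else 0)) * X i j
      else 0) = (if k = i then (if P i j then X i j else 0) else 0) -
        (if k = j then (if P i j then X i j else 0) else 0) := by
    intro i j
    split_ifs <;> simp
  simp_rw [h, Finset.sum_sub_distrib]
  congr 1
  · rw [Finset.sum_eq_single k]
    · simp
    · intro i _ hik
      simp [Ne.symm hik]
    · simp
  · apply Finset.sum_congr rfl
    intro i _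
    rw [Finset.sum_ite_eq]
    simp

theorem finrank_ker_transpose_le (E : Finset (Fin n × Fin n))
    (hconn : ∀ y : Fin n → F, (∀ ε ∈ E, y ε.1 = y ε.2) → ∀ i j, y i = y j) :
    Module.finrank F (LinearMap.ker (Matrix.mulVecLin (inc E : Matrix ↥E (Fin n) F).transpose)) ≤
      E.card + 1 - n := by
  classical
  set D : Matrix ↥E (Fin n) F := inc E with hD
  have h1 := LinearMap.finrank_range_add_finrank_ker (Matrix.mulVecLin D.transpose)
  have h2 := LinearMap.finrank_range_add_finrank_ker (Matrix.mulVecLin D)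
  rw [Module.finrank_fintype_fun_eq_card] at h1 h2
  rw [Fintype.card_coe] at h1
  rw [Fintype.card_fin] at h2
  have h3 : Module.finrank F (LinearMap.range (Matrix.mulVecLin D.transpose)) =
      Module.finrank F (LinearMap.range (Matrix.mulVecLin D)) := Matrix.rank_transpose D
  have h4 : Module.finrank F (LinearMap.ker (Matrix.mulVecLin D)) ≤ 1 := by
    have hle : LinearMap.ker (Matrix.mulVecLin D) ≤ Submodule.span F {(fun _ => (1 : F))} := by
      intro y hy
      rw [LinearMap.mem_ker, Matrix.mulVecLin_apply] at hy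
      have hy' : ∀ ε ∈ E, y ε.1 = y ε.2 := by
        intro ε hε
        have := congrFun hy ⟨ε, hε⟩
        rw [hD, inc_mulVec] at this
        exact sub_eq_zero.mp this
      have hc := hconn y hy'
      rcases Nat.eq_zero_or_pos n with hn | hn
      · subst hn
        have : y = 0 := funext fun i => i.elim0
        rw [this]; exact Submodule.zero_mem _
      · rw [Submodule.mem_span_singleton]
        refine ⟨y ⟨0, hn⟩, ?_⟩
        funext i
        simp only [Pi.smul_apply, smul_eq_mul, mul_one]
        exact hc _ _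
    calc Module.finrank F (LinearMap.ker (Matrix.mulVecLin D))
        ≤ Module.finrank F (Submodule.span F {(fun _ : Fin n => (1 : F))}) :=
          Submodule.finrank_mono hle
      _ ≤ 1 := by
          have := finrank_span_le_card (R := F) ({(fun _ : Fin n => (1 : F))} : Set (Fin n → F))
          simpa using this
  omega

end helpers

/-- Let A be a symmetric integer n by n matrix with non-negative off-diagonal entries killing an integer
vector m with positive entries, such that no proper non-empty index set is orthogonal to its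
complement. Write e for the number of index pairs i < j where A i j > 0, and let l be a prime
dividing none of the nonzero entries of A and none of the m i. Then the l-torsion subgroup of the
cokernel of A on Z^n has at most l^(1 - n + e) elements, i.e. F_l-dimension at most 1 - n + e (the
exponent is written with truncated subtraction; e + 1 is never smaller than n here). -/
theorem result {n : ℕ} (A : Matrix (Fin n) (Fin n) ℤ)
    (m : Fin n → ℤ) (hsymm : A.IsSymm) (hA : ∀ i j, i ≠ j → 0 ≤ A i j) (hm : ∀ i, 0 < m i)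
    (hAm : A.mulVec m = 0)
    (hconn : ∀ I : Finset (Fin n), I.Nonempty → I ≠ univ → ∃ i ∈ I, ∃ j ∉ I, A i j ≠ 0)
    (ℓ : ℕ) (hℓ : ℓ.Prime) (hℓA : ∀ i j, A i j ≠ 0 → ¬ ((ℓ : ℤ) ∣ A i j))
    (hℓm : ∀ i, ¬ ((ℓ : ℤ) ∣ m i)) :
    Nat.card (Submodule.torsionBy ℤ ((Fin n → ℤ) ⧸ LinearMap.range (Matrix.mulVecLin A)) (ℓ : ℤ))
      ≤ ℓ ^ ((univ.filter fun p : Fin n × Fin n => p.1 < p.2 ∧ 0 < A p.1 p.2).card + 1 - n) := by
  classical
  haveI : Fact ℓ.Prime := ⟨hℓ⟩
  set E : Finset (Fin n × Fin n) :=
    univ.filter (fun p : Fin n × Fin n => p.1 < p.2 ∧ 0 < A p.1 p.2) with hE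
  have hEmem : ∀ i j, (i, j) ∈ E ↔ i < j ∧ 0 < A i j := by
    intro i j; simp [hE]
  -- nonvanishing mod ℓ
  have hm0 : ∀ i, ((m i : ℤ) : ZMod ℓ) ≠ 0 :=
    fun i h => hℓm i ((ZMod.intCast_zmod_eq_zero_iff_dvd _ _).mp h)
  have hA0 : ∀ i j, A i j ≠ 0 → ((A i j : ℤ) : ZMod ℓ) ≠ 0 :=
    fun i j hne h => hℓA i j hne ((ZMod.intCast_zmod_eq_zero_iff_dvd _ _).mp h)
  -- connectivity for functions
  have hconnF : ∀ y : Fin n → ZMod ℓ, (∀ ε ∈ E, y ε.1 = y ε.2) → ∀ i j, y i = y j := by
    intro y hy i j
    by_contra hne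
    let I : Finset (Fin n) := univ.filter (fun k => y k = y i)
    have hI1 : I.Nonempty := ⟨i, by simp [I]⟩
    have hI2 : I ≠ univ := by
      intro h
      have : j ∈ I := h ▸ mem_univ j
      simp only [I, mem_filter, mem_univ, true_and] at this
      exact hne this.symm
    obtain ⟨a, ha, b, hb, hab⟩ := hconn I hI1 hI2
    have hane : a ≠ b := fun h => hb (h ▸ ha)
    have hpos : 0 < A a b := lt_of_le_of_ne (hA a b hane) (Ne.symm hab)
    have hyab : y a = y b := by
      rcases lt_or_gt_of_ne hane with h | h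
      · exact hy (a, b) ((hEmem a b).mpr ⟨h, hpos⟩)
      · have hpos' : 0 < A b a := by rw [hsymm.apply a b]; exact hpos
        exact (hy (b, a) ((hEmem b a).mpr ⟨h, hpos'⟩)).symm
    apply hb
    simp only [I, mem_filter, mem_univ, true_and] at ha ⊢
    rw [← hyab]; exact ha
  -- weights and flows
  let w : Fin n → Fin n → ZMod ℓ := fun i j => (A i j : ZMod ℓ) * (m i : ZMod ℓ) * (m j : ZMod ℓ)
  let yv : (Fin n → ℤ) → Fin n → ZMod ℓ := fun z i => (z i : ZMod ℓ) * ((m i : ZMod ℓ))⁻¹
  let flow : (Fin n → ℤ) → (↥E → ZMod ℓ) := fun z ε => w ε.1.1 ε.1.2 * (yv z ε.1.1 - yv z ε.1.2)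
  have hwsymm : ∀ i j, w i j = w j i := by
    intro i j
    simp only [w]
    rw [hsymm.apply j i]; ring
  have hw0 : ∀ i j, A i j = 0 → w i j = 0 := by
    intro i j h; simp only [w, h, Int.cast_zero, zero_mul]
  have hmy : ∀ z i, (m i : ZMod ℓ) * yv z i = (z i : ZMod ℓ) := by
    intro z i
    simp only [yv]
    rw [mul_comm, mul_assoc, inv_mul_cancel₀ (hm0 i), mul_one]
  -- flows of kernel vectors are circulations
  have hflow : ∀ z : Fin n → ℤ, (∀ k, (((A.mulVec z) k : ℤ) : ZMod ℓ) = 0) →
      flow z ∈ LinearMap.ker (Matrix.mulVecLin (inc E : Matrix ↥E (Fin n) (ZMod ℓ)).transpose) := by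
    intro z hz
    rw [LinearMap.mem_ker, Matrix.mulVecLin_apply]
    funext k
    have e1 : ((inc E : Matrix ↥E (Fin n) (ZMod ℓ)).transpose.mulVec (flow z)) k =
        ∑ ε : ↥E, ((if k = ε.1.1 then (1 : ZMod ℓ) else 0) - (if k = ε.1.2 then 1 else 0)) *
          (w ε.1.1 ε.1.2 * (yv z ε.1.1 - yv z ε.1.2)) := rfl
    rw [e1, Finset.sum_coe_sort E (fun p : Fin n × Fin n =>
      ((if k = p.1 then (1 : ZMod ℓ) else 0) - (if k = p.2 then 1 else 0)) *
          (w p.1 p.2 * (yv z p.1 - yv z p.2))), hE,
      sum_edge (fun i j => i < j ∧ 0 < A i j) (fun i j => w i j * (yv z i - yv z j)) k]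
    have e2 : ∀ j, ((if (k < j ∧ 0 < A k j) then w k j * (yv z k - yv z j) else 0) -
        (if (j < k ∧ 0 < A j k) then w j k * (yv z j - yv z k) else 0)) =
        w k j * (yv z k - yv z j) := by
      intro j
      rcases lt_trichotomy k j with h | h | h
      · have h' : ¬ (j < k) := not_lt.mpr h.le
        by_cases hp : 0 < A k j
        · simp [h, hp, h']
        · have : A k j = 0 := le_antisymm (not_lt.mp hp) (hA k j h.ne)
          simp [h, hp, h', hw0 k j this]
      · subst h; simp
      · have h' : ¬ (k < j) := not_lt.mpr h.le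
        by_cases hp : 0 < A j k
        · simp only [h', false_and, if_false, h, hp, and_self, if_true, zero_sub]
          rw [hwsymm j k]; ring
        · have : A j k = 0 := le_antisymm (not_lt.mp hp) (hA j k h.ne)
          have h2 : w k j = 0 := by rw [hwsymm]; exact hw0 j k this
          simp [h, hp, h', h2]
    rw [Finset.sum_congr rfl (fun j _ => e2 j)]
    -- Σ_j w k j (y_k - y_j) = m_k (y_k (A m)_k - (A z)_k)
    have e3 : ∑ j, w k j * (yv z k - yv z j) =
        (m k : ZMod ℓ) * (yv z k * (((A.mulVec m) k : ℤ) : ZMod ℓ) - (((A.mulVec z) k : ℤ) : ZMod ℓ)) := by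
      simp only [Matrix.mulVec, dotProduct, Int.cast_sum, Int.cast_mul]
      rw [Finset.mul_sum, mul_sub, Finset.mul_sum, Finset.mul_sum, ← Finset.sum_sub_distrib]
      apply Finset.sum_congr rfl
      intro j _
      simp only [w]
      rw [← hmy z j]; ring
    rw [e3, hz k, hAm]
    simp
  -- the quotient and its torsion
  set Q := (Fin n → ℤ) ⧸ LinearMap.range (Matrix.mulVecLin A) with hQ
  set G := Submodule.torsionBy ℤ Q (ℓ : ℤ) with hG
  -- representatives
  have hrep : ∀ g : G, ∃ (x z : Fin n → ℤ), Submodule.Quotient.mk x = (g : Q) ∧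
      A.mulVec z = (ℓ : ℤ) • x := by
    intro g
    obtain ⟨x, hx⟩ := Submodule.Quotient.mk_surjective _ (g : Q)
    have h1 : (ℓ : ℤ) • (g : Q) = 0 := (Submodule.mem_torsionBy_iff _ _).mp g.2
    rw [← hx, ← Submodule.Quotient.mk_smul, Submodule.Quotient.mk_eq_zero] at h1
    obtain ⟨z, hz⟩ := h1
    exact ⟨x, z, hx, hz⟩
  choose xg zg hxg hzg using hrep
  have hzg0 : ∀ g k, (((A.mulVec (zg g)) k : ℤ) : ZMod ℓ) = 0 := by
    intro g k
    rw [hzg g]
    simp
  let Φ : G → LinearMap.ker (Matrix.mulVecLin (inc E : Matrix ↥E (Fin n) (ZMod ℓ)).transpose) :=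
    fun g => ⟨flow (zg g), hflow (zg g) (hzg0 g)⟩
  have hΦ : Function.Injective Φ := by
    intro g h hgh
    have hfl : flow (zg g) = flow (zg h) := congrArg Subtype.val hgh
    -- u := y - y' is constant
    let u : Fin n → ZMod ℓ := fun i => yv (zg g) i - yv (zg h) i
    have hu : ∀ ε ∈ E, u ε.1 = u ε.2 := by
      intro ε hε
      have h1 := congrFun hfl ⟨ε, hε⟩
      simp only [flow] at h1
      have hεE : ε.1 < ε.2 ∧ 0 < A ε.1 ε.2 := by
        have := hε; rw [hE] at this; simpa using this
      have hwne : w ε.1 ε.2 ≠ 0 := by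
        simp only [w]
        exact mul_ne_zero (mul_ne_zero (hA0 _ _ hεE.2.ne') (hm0 _)) (hm0 _)
      have h2 := mul_left_cancel₀ hwne h1
      simp only [u]
      linear_combination h2
    have hconst := hconnF u hu
    -- difference of z's is c·m mod ℓ
    have hdiff : ∃ (c : ℤ) (z'' : Fin n → ℤ), ∀ i, zg g i - zg h i = c * m i + (ℓ : ℤ) * z'' i := by
      rcases Nat.eq_zero_or_pos n with hn | hn
      · subst hn
        exact ⟨0, fun _ => 0, fun i => i.elim0⟩
      · obtain ⟨c, hc⟩ := ZMod.intCast_surjective (u ⟨0, hn⟩)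
        have hdvd : ∀ i, (ℓ : ℤ) ∣ zg g i - zg h i - c * m i := by
          intro i
          rw [← ZMod.intCast_zmod_eq_zero_iff_dvd]
          push_cast
          rw [hc, hconst ⟨0, hn⟩ i]
          simp only [u]
          rw [← hmy (zg g) i, ← hmy (zg h) i]; ring
        choose z'' hz'' using hdvd
        exact ⟨c, z'', fun i => by have := hz'' i; linarith⟩
    obtain ⟨c, z'', hcz⟩ := hdiff
    -- conclude
    have hx : xg g - xg h = A.mulVec z'' := by
      have h1 : A.mulVec (zg g - zg h) = (ℓ : ℤ) • (xg g - xg h) := by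
        rw [Matrix.mulVec_sub, hzg g, hzg h, smul_sub]
      have h2 : zg g - zg h = c • m + (ℓ : ℤ) • z'' := by
        funext i
        simp only [Pi.sub_apply, Pi.add_apply, Pi.smul_apply, smul_eq_mul]
        exact hcz i
      rw [h2, Matrix.mulVec_add, Matrix.mulVec_smul, Matrix.mulVec_smul, hAm, smul_zero,
        zero_add] at h1
      have hℓ0 : (ℓ : ℤ) ≠ 0 := by exact_mod_cast hℓ.ne_zero
      funext i
      have := congrFun h1 i
      simp only [Pi.smul_apply, smul_eq_mul, Pi.sub_apply] at this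
      have := mul_left_cancel₀ hℓ0 this
      simp only [Pi.sub_apply]
      exact this.symm
    apply Subtype.ext
    rw [← hxg g, ← hxg h, ← sub_eq_zero, ← Submodule.Quotient.mk_sub, Submodule.Quotient.mk_eq_zero,
      hx]
    exact ⟨z'', rfl⟩
  calc Nat.card G ≤ Nat.card (LinearMap.ker
        (Matrix.mulVecLin (inc E : Matrix ↥E (Fin n) (ZMod ℓ)).transpose)) :=
        Nat.card_le_card_of_injective Φ hΦ
    _ = ℓ ^ Module.finrank (ZMod ℓ) (LinearMap.ker
        (Matrix.mulVecLin (inc E : Matrix ↥E (Fin n) (ZMod ℓ)).transpose)) := by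
        rw [Module.natCard_eq_pow_finrank (K := ZMod ℓ), Nat.card_zmod]
    _ ≤ ℓ ^ (E.card + 1 - n) :=
        Nat.pow_le_pow_right hℓ.pos (finrank_ker_transpose_le E hconnF)

end Groth.Agent.S2172
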