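import Groth.Statements.S2175
import Groth.Agent.Lib.Helper10.NumType

set_option autoImplicit false
open Finset
open Models Models.NumericalType

namespace Groth.Agent.S2175

open Groth.Agent.Lib.Helper10

theorem a'_eq {n : ℕ} (T : Models.NumericalType (n + 1)) (h : T.IsMinusOne (Fin.last n))
    (i j : Fin n) :
    T.a i.castSucc j.castSucc -
      T.a i.castSucc (Fin.last n) * T.a j.castSucc (Fin.last n) / T.a (Fin.last n) (Fin.last n) =
    T.a i.castSucc j.castSucc +
      T.a i.castSucc (Fin.last n) * (T.a j.castSucc (Fin.last n) / T.w (Fin.last n)) := by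
  rw [h.2, Int.ediv_neg, sub_neg_eq_add]
  have hl : T.w (Fin.last n) ∣ T.a j.castSucc (Fin.last n) := by
    rw [nt_symm]; exact T.w_dvd _ _
  rw [Int.mul_ediv_assoc _ hl]

theorem pointwise {n : ℕ} (T : Models.NumericalType (n + 1)) (h : T.IsMinusOne (Fin.last n))
    (i : Fin n) (wi gi : ℤ)
    (hw : wi = if 2 ∣ T.a i.castSucc (Fin.last n) / T.w (Fin.last n) ∧
          ¬ 2 ∣ T.a i.castSucc (Fin.last n) / T.w i.castSucc
      then T.w i.castSucc / 2 else T.w i.castSucc)
    (hg : gi = T.w i.castSucc / wi * (T.g i.castSucc - 1) + 1 +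
      (T.a i.castSucc (Fin.last n) ^ 2 - T.w (Fin.last n) * T.a i.castSucc (Fin.last n)) /
        (2 * wi * T.w (Fin.last n))) :
    0 < wi ∧ wi ∣ T.w i.castSucc ∧ 0 ≤ gi ∧
      2 * wi * (gi - 1) = 2 * T.w i.castSucc * (T.g i.castSucc - 1) +
        T.a i.castSucc (Fin.last n) * (T.a i.castSucc (Fin.last n) / T.w (Fin.last n) - 1) := by
  have hl : T.w (Fin.last n) ∣ T.a i.castSucc (Fin.last n) := by
    rw [nt_symm]; exact T.w_dvd _ _
  have hi := T.w_dvd i.castSucc (Fin.last n)
  obtain ⟨c, hc⟩ := hl
  obtain ⟨d, hd⟩ := hi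
  have hwl := T.w_pos (Fin.last n)
  have hwi := T.w_pos i.castSucc
  have hgi := T.g_nonneg i.castSucc
  have hne : i.castSucc ≠ Fin.last n := (Fin.castSucc_lt_last i).ne
  have ha0 : 0 ≤ T.a i.castSucc (Fin.last n) := T.offDiag_nonneg _ _ hne
  have hc0 : 0 ≤ c := by
    by_contra hneg
    have : c < 0 := not_le.mp hneg
    have : T.w (Fin.last n) * c < 0 := mul_neg_of_pos_of_neg hwl this
    omega
  have hd0 : 0 ≤ d := by
    by_contra hneg
    have : d < 0 := not_le.mp hneg
    have : T.w i.castSucc * d < 0 := mul_neg_of_pos_of_neg hwi this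
    omega
  have e1 : T.a i.castSucc (Fin.last n) / T.w (Fin.last n) = c := by
    rw [hc, Int.mul_ediv_cancel_left _ hwl.ne']
  have e2 : T.a i.castSucc (Fin.last n) / T.w i.castSucc = d := by
    rw [hd, Int.mul_ediv_cancel_left _ hwi.ne']
  rw [e1, e2] at hw
  rw [e1]
  have hnum : T.a i.castSucc (Fin.last n) ^ 2 - T.w (Fin.last n) * T.a i.castSucc (Fin.last n) =
      (T.w i.castSucc * T.w (Fin.last n)) * (d * (c - 1)) := by
    have : T.a i.castSucc (Fin.last n) ^ 2 - T.w (Fin.last n) * T.a i.castSucc (Fin.last n) =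
        T.a i.castSucc (Fin.last n) * (T.a i.castSucc (Fin.last n) - T.w (Fin.last n)) := by ring
    rw [this]
    nth_rewrite 1 [hd]
    rw [hc]; ring
  rw [hnum] at hg
  split_ifs at hw with hcond
  · -- halved case
    obtain ⟨hc2, hd2⟩ := hcond
    have h4 : (2 : ℤ) ∣ T.w i.castSucc * d := by
      rw [← hd, hc]; exact Dvd.dvd.mul_left hc2 _
    have h5 : (2 : ℤ) ∣ T.w i.castSucc := (Int.prime_two.dvd_or_dvd h4).resolve_right hd2
    have hw2 : T.w i.castSucc = 2 * wi := by rw [hw]; omega
    have hwipos : 0 < wi := by omega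
    have hd1 : 1 ≤ d := by
      rcases eq_or_lt_of_le hd0 with h0 | h0
      · exfalso; apply hd2; rw [← h0]; exact dvd_zero _
      · omega
    have hc1 : 2 ≤ c := by
      rcases eq_or_lt_of_le hc0 with h0 | h0
      · exfalso
        rw [← h0, mul_zero] at hc
        rw [hc] at hd
        have : d = 0 := by
          rcases mul_eq_zero.mp hd.symm with h' | h'
          · exact absurd h' hwi.ne'
          · exact h'
        omega
      · obtain ⟨k, hk⟩ := hc2
        omega
    have hq1 : T.w i.castSucc / wi = 2 := by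
      rw [hw2, Int.mul_ediv_cancel _ hwipos.ne']
    have hq2 : T.w i.castSucc * T.w (Fin.last n) * (d * (c - 1)) / (2 * wi * T.w (Fin.last n)) =
        d * (c - 1) := by
      rw [← hw2]
      exact Int.mul_ediv_cancel_left _ (mul_pos hwi hwl).ne'
    rw [hq1, hq2] at hg
    refine ⟨hwipos, ⟨2, by rw [hw2]; ring⟩, ?_, ?_⟩
    · have : 1 ≤ d * (c - 1) := by nlinarith
      rw [hg]; linarith
    · rw [hg, hd, hw2]
      have : T.w i.castSucc * d = T.w (Fin.last n) * c := by rw [← hd, hc]
      rw [hw2] at this
      linear_combination (c - 1) * this - (c-1) * this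
  · -- unchanged case
    have hw2 : T.w i.castSucc = wi := hw.symm
    have hq1 : T.w i.castSucc / wi = 1 := by
      rw [hw2, Int.ediv_self (by omega)]
    have hpar : (2 : ℤ) ∣ d * (c - 1) := by
      by_cases hc2 : (2 : ℤ) ∣ c
      · have hd2 : (2 : ℤ) ∣ d := by
          by_contra hnd
          exact hcond ⟨hc2, hnd⟩
        exact Dvd.dvd.mul_right hd2 _
      · have : (2 : ℤ) ∣ c - 1 := by omega
        exact Dvd.dvd.mul_left this _
    obtain ⟨k, hk⟩ := hpar
    have hq2 : T.w i.castSucc * T.w (Fin.last n) * (d * (c - 1)) / (2 * wi * T.w (Fin.last n)) =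
        k := by
      rw [← hw2, hk]
      have : T.w i.castSucc * T.w (Fin.last n) * (2 * k) =
          (2 * T.w i.castSucc * T.w (Fin.last n)) * k := by ring
      rw [this]
      exact Int.mul_ediv_cancel_left _ (by positivity)
    rw [hq1, hq2] at hg
    have hk0 : 0 ≤ d * (c - 1) := by
      rcases eq_or_lt_of_le hc0 with h0 | h0
      · rw [← h0, mul_zero] at hc
        rw [hc] at hd
        have : d = 0 := by
          rcases mul_eq_zero.mp hd.symm with h' | h'
          · exact absurd h' hwi.ne'
          · exact h'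
        rw [this]; simp
      · exact mul_nonneg hd0 (by omega)
    refine ⟨by omega, ⟨1, by rw [hw2]; ring⟩, ?_, ?_⟩
    · rw [hg]; omega
    · rw [hg, hd, ← hw2]
      linear_combination (- T.w i.castSucc) * hk


theorem sum_last {n : ℕ} (T : Models.NumericalType (n + 1)) (h : T.IsMinusOne (Fin.last n)) :
    ∑ i : Fin n, T.a i.castSucc (Fin.last n) * T.m i.castSucc =
      T.m (Fin.last n) * T.w (Fin.last n) := by
  have h1 := nt_row_sum T (Fin.last n)
  rw [Fin.sum_univ_castSucc, h.2] at h1
  have h2 : ∑ i : Fin n, T.a i.castSucc (Fin.last n) * T.m i.castSucc =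
      ∑ i : Fin n, T.a (Fin.last n) i.castSucc * T.m i.castSucc :=
    Finset.sum_congr rfl (fun i _ => by rw [nt_symm T i.castSucc (Fin.last n)])
  rw [h2]; linarith

theorem genus_eq {n : ℕ} (T : Models.NumericalType (n + 1)) (h : T.IsMinusOne (Fin.last n))
    (T' : Models.NumericalType n) (hT' : T.IsContraction T') : T'.genus = T.genus := by
  obtain ⟨hm', ha', hw', hg'⟩ := hT'
  have h1 := nt_genus_eq T
  have h2 := nt_genus_eq T'
  rw [Fin.sum_univ_castSucc] at h1
  have hterm : ∀ i : Fin n, T'.m i * (2 * T'.w i * (T'.g i - 1) - T'.a i i) =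
      T.m i.castSucc * (2 * T.w i.castSucc * (T.g i.castSucc - 1) - T.a i.castSucc i.castSucc) -
        T.a i.castSucc (Fin.last n) * T.m i.castSucc := by
    intro i
    obtain ⟨-, -, -, hp⟩ := pointwise T h i (T'.w i) (T'.g i) (hw' i) (hg' i)
    rw [hm' i, ha' i i, a'_eq T h i i]
    linear_combination T.m i.castSucc * hp
  rw [Finset.sum_congr rfl (fun i _ => hterm i), Finset.sum_sub_distrib, sum_last T h] at h2
  rw [h.1, h.2] at h1
  linarith

theorem n_pos {n : ℕ} (T : Models.NumericalType (n + 1)) (h : T.IsMinusOne (Fin.last n)) :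
    0 < n := by
  rcases Nat.eq_zero_or_pos n with h0 | h0
  · subst h0
    exfalso
    have h1 := nt_row_sum T (Fin.last 0)
    rw [Fin.sum_univ_castSucc, h.2] at h1
    simp only [Finset.univ_eq_empty, Finset.sum_empty, zero_add] at h1
    have := T.w_pos (Fin.last 0)
    have := T.m_pos (Fin.last 0)
    have : T.w (Fin.last 0) * T.m (Fin.last 0) > 0 := by positivity
    linarith
  · exact h0

theorem exists_contraction {n : ℕ} (T : Models.NumericalType (n + 1))
    (h : T.IsMinusOne (Fin.last n)) : ∃ T' : Models.NumericalType n, T.IsContraction T' := by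
  let w' : Fin n → ℤ := fun i =>
    if 2 ∣ T.a i.castSucc (Fin.last n) / T.w (Fin.last n) ∧
          ¬ 2 ∣ T.a i.castSucc (Fin.last n) / T.w i.castSucc
      then T.w i.castSucc / 2 else T.w i.castSucc
  let g' : Fin n → ℤ := fun i => T.w i.castSucc / w' i * (T.g i.castSucc - 1) + 1 +
      (T.a i.castSucc (Fin.last n) ^ 2 - T.w (Fin.last n) * T.a i.castSucc (Fin.last n)) /
        (2 * w' i * T.w (Fin.last n))
  let a' : Matrix (Fin n) (Fin n) ℤ := fun i j => T.a i.castSucc j.castSucc -
      T.a i.castSucc (Fin.last n) * T.a j.castSucc (Fin.last n) / T.a (Fin.last n) (Fin.last n)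
  have hpw := fun i => pointwise T h i (w' i) (g' i) rfl rfl
  have ha' : ∀ i j, a' i j = T.a i.castSucc j.castSucc +
      T.a i.castSucc (Fin.last n) * (T.a j.castSucc (Fin.last n) / T.w (Fin.last n)) :=
    fun i j => a'_eq T h i j
  have hwl := T.w_pos (Fin.last n)
  have hldvd : ∀ j : Fin n, T.w (Fin.last n) ∣ T.a j.castSucc (Fin.last n) := fun j => by
    rw [nt_symm]; exact T.w_dvd _ _
  have hne : ∀ i : Fin n, i.castSucc ≠ Fin.last n := fun i => (Fin.castSucc_lt_last i).ne
  have hal0 : ∀ i : Fin n, 0 ≤ T.a i.castSucc (Fin.last n) := fun i =>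
    T.offDiag_nonneg _ _ (hne i)
  have hc0 : ∀ j : Fin n, 0 ≤ T.a j.castSucc (Fin.last n) / T.w (Fin.last n) := fun j =>
    Int.ediv_nonneg (hal0 j) hwl.le
  have hcpos : ∀ j : Fin n, T.a j.castSucc (Fin.last n) ≠ 0 →
      0 < T.a j.castSucc (Fin.last n) / T.w (Fin.last n) := by
    intro j hj
    obtain ⟨c, hc⟩ := hldvd j
    rw [hc, Int.mul_ediv_cancel_left _ hwl.ne']
    have h0 := hal0 j
    rw [hc] at h0 hj
    by_contra hneg
    have : c ≤ 0 := not_lt.mp hneg
    rcases eq_or_lt_of_le this with h1 | h1
    · rw [h1, mul_zero] at hj; exact hj rfl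
    · have := mul_neg_of_pos_of_neg hwl h1
      omega
  refine ⟨{ m := fun i => T.m i.castSucc
            a := a'
            w := w'
            g := g'
            pos := n_pos T h
            m_pos := fun i => T.m_pos _
            w_pos := fun i => (hpw i).1
            g_nonneg := fun i => (hpw i).2.2.1
            symm := ?_
            offDiag_nonneg := ?_
            connected := ?_
            mulVec_m := ?_
            w_dvd := ?_ }, fun _ => rfl, fun _ _ => rfl, fun _ => rfl, fun _ => rfl⟩
  · -- symm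
    ext i j
    show a' j i = a' i j
    rw [ha', ha', nt_symm T j.castSucc i.castSucc]
    obtain ⟨ci, hci⟩ := hldvd i
    obtain ⟨cj, hcj⟩ := hldvd j
    rw [hci, hcj, Int.mul_ediv_cancel_left _ hwl.ne', Int.mul_ediv_cancel_left _ hwl.ne']
    ring
  · -- offdiag
    intro i j hij
    rw [ha']
    have h1 : 0 ≤ T.a i.castSucc j.castSucc :=
      T.offDiag_nonneg _ _ (fun hc => hij (Fin.castSucc_injective _ hc))
    have h2 := mul_nonneg (hal0 i) (hc0 j)
    linarith
  · -- connected
    intro I hI hIu
    by_contra hcon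
    have hzero : ∀ i ∈ I, ∀ j ∉ I, a' i j = 0 := by
      intro i hi j hj
      by_contra hne0
      exact hcon ⟨i, hi, j, hj, hne0⟩
    have hz1 : ∀ i ∈ I, ∀ j ∉ I, T.a i.castSucc j.castSucc = 0 ∧
        (T.a i.castSucc (Fin.last n) = 0 ∨ T.a j.castSucc (Fin.last n) = 0) := by
      intro i hi j hj
      have h0 := hzero i hi j hj
      rw [ha'] at h0
      have hij : i ≠ j := fun hc => hj (hc ▸ hi)
      have h1 : 0 ≤ T.a i.castSucc j.castSucc :=
        T.offDiag_nonneg _ _ (fun hc => hij (Fin.castSucc_injective _ hc))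
      have h2 := mul_nonneg (hal0 i) (hc0 j)
      refine ⟨by linarith, ?_⟩
      have h3 : T.a i.castSucc (Fin.last n) *
          (T.a j.castSucc (Fin.last n) / T.w (Fin.last n)) = 0 := by linarith
      rcases mul_eq_zero.mp h3 with h4 | h4
      · left; exact h4
      · right
        by_contra hne0
        exact (hcpos j hne0).ne' h4
    by_cases hA : ∀ i ∈ I, T.a i.castSucc (Fin.last n) = 0
    · -- I.map castSucc has no edges to its complement
      obtain ⟨i, hi, j, hj, hij⟩ := T.connected (I.map Fin.castSuccEmb)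
        (by simpa using hI)
        (by
          intro hu
          have : Fin.last n ∈ I.map Fin.castSuccEmb := by rw [hu]; exact Finset.mem_univ _
          simp only [Finset.mem_map, Fin.castSuccEmb_apply] at this
          obtain ⟨k, _, hk⟩ := this
          exact hne k hk)
      simp only [Finset.mem_map, Fin.castSuccEmb_apply] at hi hj
      obtain ⟨i', hi', rfl⟩ := hi
      refine Fin.lastCases ?_ (fun j' => ?_) j hj hij
      · intro _ hij
        exact hij (hA i' hi')
      · intro hj hij
        have : j' ∉ I := fun hc => hj ⟨j', hc, rfl⟩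
        exact hij (hz1 i' hi' j' this).1
    · -- complement of I, mapped, has no edges to its complement
      rw [not_forall] at hA
      obtain ⟨i0, hA⟩ := hA
      rw [Classical.not_imp] at hA
      obtain ⟨hi0, hA⟩ := hA
      have hB : ∀ j ∉ I, T.a j.castSucc (Fin.last n) = 0 := by
        intro j hj
        exact ((hz1 i0 hi0 j hj).2).resolve_left hA
      have hne' : (Iᶜ).Nonempty := by
        rw [Finset.nonempty_iff_ne_empty]
        intro hc
        exact hIu ((Finset.compl_eq_empty_iff I).mp hc)
      obtain ⟨i, hi, j, hj, hij⟩ := T.connected (Iᶜ.map Fin.castSuccEmb)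
        (by simpa using hne')
        (by
          intro hu
          have : Fin.last n ∈ Iᶜ.map Fin.castSuccEmb := by rw [hu]; exact Finset.mem_univ _
          simp only [Finset.mem_map, Fin.castSuccEmb_apply] at this
          obtain ⟨k, _, hk⟩ := this
          exact hne k hk)
      simp only [Finset.mem_map, Fin.castSuccEmb_apply, Finset.mem_compl] at hi hj
      obtain ⟨i', hi', rfl⟩ := hi
      refine Fin.lastCases ?_ (fun j' => ?_) j hj hij
      · intro _ hij
        exact hij (hB i' hi')
      · intro hj hij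
        have : j' ∈ I := by
          by_contra hc
          exact hj ⟨j', hc, rfl⟩
        apply hij
        rw [nt_symm]
        exact (hz1 j' this i' hi').1
  · -- mulVec
    funext i
    simp only [Matrix.mulVec, dotProduct, Pi.zero_apply]
    have h1 := nt_row_sum T i.castSucc
    rw [Fin.sum_univ_castSucc] at h1
    have h2 := sum_last T h
    have h3 : ∑ j : Fin n, a' i j * T.m j.castSucc =
        ∑ j : Fin n, T.a i.castSucc j.castSucc * T.m j.castSucc +
          T.a i.castSucc (Fin.last n) *
            ∑ j : Fin n, (T.a j.castSucc (Fin.last n) / T.w (Fin.last n)) * T.m j.castSucc := by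
      rw [Finset.mul_sum, ← Finset.sum_add_distrib]
      refine Finset.sum_congr rfl (fun j _ => ?_)
      rw [ha']; ring
    have h4 : T.w (Fin.last n) *
        ∑ j : Fin n, (T.a j.castSucc (Fin.last n) / T.w (Fin.last n)) * T.m j.castSucc =
        T.w (Fin.last n) * T.m (Fin.last n) := by
      rw [Finset.mul_sum, mul_comm (T.w (Fin.last n)) (T.m (Fin.last n)), ← h2]
      refine Finset.sum_congr rfl (fun j _ => ?_)
      rw [← mul_assoc, Int.mul_ediv_cancel' (hldvd j)]
    have h5 := mul_left_cancel₀ hwl.ne' h4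
    rw [h3, h5]
    linarith
  · -- w_dvd
    intro i j
    show w' i ∣ a' i j
    rw [ha']
    have h1 : w' i ∣ T.w i.castSucc := (hpw i).2.1
    exact dvd_add (h1.trans (T.w_dvd _ _)) (Dvd.dvd.mul_right (h1.trans (T.w_dvd _ _)) _)

/-- Let T be a numerical type on n + 1 indices whose last index is a (-1)-index. Then the contracted
data (same multiplicities, a i j - a i l a j l / a l l, the halved-or-not w i, and the adjusted g i,
l the last index) is again a numerical type on n indices, and any such contraction has the same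
genus as T. -/
theorem result {n : ℕ} (T : Models.NumericalType (n + 1)) (h : T.IsMinusOne (Fin.last n)) :
    (∃ T' : Models.NumericalType n, T.IsContraction T') ∧
      ∀ T' : Models.NumericalType n, T.IsContraction T' → T'.genus = T.genus := by
  exact ⟨exists_contraction T h, fun T' hT' => genus_eq T h T' hT'⟩

end Groth.Agent.S2175
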