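import Groth.Statements.S2177
import Groth.Agent.Lib.Helper10.NumType

set_option autoImplicit false
open Finset
open Models Models.NumericalType

namespace Groth.Agent.S2177

open Groth.Agent.Lib.Helper10

/-- integer claim: `k_i - 2 ≤ t_i`. -/
theorem claimA {n : ℕ} (T : Models.NumericalType n) (hmin : T.IsMinimal) (hn : 1 < n) (i : Fin n) :
    -(T.a i i / T.w i) - 2 ≤ T.m i * (2 * T.w i * (T.g i - 1) - T.a i i) := by
  obtain ⟨c, hc⟩ := T.w_dvd i i
  have hneg := nt_diag_neg T hn i
  have hw := T.w_pos i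
  have hm := T.m_pos i
  have hg := T.g_nonneg i
  have hc1 : c < 0 := by
    by_contra h
    rw [not_lt] at h
    have : 0 ≤ T.w i * c := mul_nonneg hw.le h
    linarith
  have e1 : T.a i i / T.w i = c := by rw [hc, Int.mul_ediv_cancel_left _ hw.ne']
  rw [e1]
  have hx : 1 ≤ T.m i * T.w i := by
    have : 0 < T.m i * T.w i := mul_pos hm hw
    omega
  have hrew : T.m i * (2 * T.w i * (T.g i - 1) - T.a i i) =
      (T.m i * T.w i) * (2 * T.g i - 2 - c) := by rw [hc]; ring
  rw [hrew]
  rcases eq_or_lt_of_le hg with h0 | hpos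
  · have hc2 : c ≠ -1 := by
      intro h
      apply hmin i
      refine ⟨h0.symm, ?_⟩
      rw [hc, h]; ring
    have hc3 : c ≤ -2 := by omega
    rw [← h0]
    nlinarith
  · have h1 : 1 ≤ T.g i := by omega
    nlinarith

theorem amgm (u v : ℚ) (hu : 0 < u) (hv : 0 < v) : 2 ≤ u / v + v / u := by
  have h : u / v + v / u - 2 = (u - v) ^ 2 / (u * v) := by
    field_simp
    ring
  have h2 : 0 ≤ (u - v) ^ 2 / (u * v) := by positivity
  linarith

/-- If a numerical type is minimal and has at least two indices, its genus is bounded below by the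
topological genus 1 - n + e, e being the number of pairs i < j with a i j > 0. -/
theorem result {n : ℕ} (T : Models.NumericalType n) (hmin : T.IsMinimal) (hn : 1 < n) : T.topGenus ≤ T.genus := by
  classical
  let c : Fin n → Fin n → ℚ := fun i j =>
    if i = j then 0 else ((T.a i j : ℚ) * (T.m j : ℚ)) / ((T.m i : ℚ) * (T.w i : ℚ))
  let ε' : Fin n → Fin n → ℚ := fun i j => if i < j ∧ 0 < T.a i j then 1 else 0
  have hmQ : ∀ i, (0 : ℚ) < (T.m i : ℚ) := fun i => by exact_mod_cast T.m_pos i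
  have hwQ : ∀ i, (0 : ℚ) < (T.w i : ℚ) := fun i => by exact_mod_cast T.w_pos i
  -- row sums of c
  have hrow : ∀ i, ∑ j, c i j = ((-(T.a i i / T.w i) : ℤ) : ℚ) := by
    intro i
    obtain ⟨cc, hcc⟩ := T.w_dvd i i
    have e1 : T.a i i / T.w i = cc := by rw [hcc, Int.mul_ediv_cancel_left _ (T.w_pos i).ne']
    rw [e1]
    have h1 := nt_diag_mul_m T i
    have h2 : ∑ j, c i j = ∑ j ∈ univ.erase i,
        ((T.a i j : ℚ) * (T.m j : ℚ)) / ((T.m i : ℚ) * (T.w i : ℚ)) := by
      rw [← Finset.add_sum_erase univ _ (Finset.mem_univ i)]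
      have : c i i = 0 := if_pos rfl
      rw [this, zero_add]
      refine Finset.sum_congr rfl (fun j hj => ?_)
      have hji : j ≠ i := (Finset.mem_erase.mp hj).1
      exact if_neg hji.symm
    rw [h2, ← Finset.sum_div]
    have h3 : (∑ j ∈ univ.erase i, (T.a i j : ℚ) * (T.m j : ℚ)) =
        ((∑ j ∈ univ.erase i, T.a i j * T.m j : ℤ) : ℚ) := by push_cast; rfl
    rw [h3]
    have h4 : (∑ j ∈ univ.erase i, T.a i j * T.m j : ℤ) = - (T.w i * cc) * T.m i := by
      rw [← hcc]; linarith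
    rw [h4]
    have := hmQ i
    have := hwQ i
    push_cast
    field_simp
  -- pairwise inequality
  have hpair : ∀ i j, ε' i j + ε' j i + (ε' j i + ε' i j) ≤ c i j + c j i := by
    intro i j
    by_cases hij : i = j
    · subst hij
      simp [c, ε']
    · have hji : j ≠ i := fun h => hij h.symm
      have hcij : c i j = ((T.a i j : ℚ) * (T.m j : ℚ)) / ((T.m i : ℚ) * (T.w i : ℚ)) := if_neg hij
      have hcji : c j i = ((T.a j i : ℚ) * (T.m i : ℚ)) / ((T.m j : ℚ) * (T.w j : ℚ)) := if_neg hji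
      have ha0 := T.offDiag_nonneg i j hij
      rcases eq_or_lt_of_le ha0 with h0 | hpos
      · have h0' : T.a j i = 0 := by rw [nt_symm T j i]; exact h0.symm
        have e1 : ε' i j = 0 := if_neg (fun h => by rw [← h0] at h; exact lt_irrefl _ h.2)
        have e2 : ε' j i = 0 := if_neg (fun h => by rw [h0'] at h; exact lt_irrefl _ h.2)
        rw [e1, e2, hcij, hcji, ← h0, h0']
        simp
      · have hpos' : 0 < T.a j i := by rw [nt_symm T j i]; exact hpos
        have hle : ε' i j + ε' j i ≤ 1 := by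
          rcases lt_or_gt_of_ne hij with hlt | hgt
          · have e1 : ε' i j = 1 := if_pos ⟨hlt, hpos⟩
            have e2 : ε' j i = 0 := if_neg (fun h => absurd h.1 (not_lt.mpr hlt.le))
            rw [e1, e2]; norm_num
          · have e1 : ε' j i = 1 := if_pos ⟨hgt, hpos'⟩
            have e2 : ε' i j = 0 := if_neg (fun h => absurd h.1 (not_lt.mpr hgt.le))
            rw [e1, e2]; norm_num
        have hwi : (T.w i : ℚ) ≤ (T.a i j : ℚ) := by exact_mod_cast nt_w_le_of_pos T i j hpos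
        have hwj : (T.w j : ℚ) ≤ (T.a j i : ℚ) := by exact_mod_cast nt_w_le_of_pos T j i hpos'
        have h1 : (T.m j : ℚ) / (T.m i : ℚ) ≤ c i j := by
          rw [hcij, div_le_div_iff₀ (hmQ i) (mul_pos (hmQ i) (hwQ i))]
          have := hmQ i; have := hmQ j; have := hwQ i
          nlinarith [mul_pos (hmQ i) (hmQ j)]
        have h2 : (T.m i : ℚ) / (T.m j : ℚ) ≤ c j i := by
          rw [hcji, div_le_div_iff₀ (hmQ j) (mul_pos (hmQ j) (hwQ j))]
          have := hmQ i; have := hmQ j; have := hwQ j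
          nlinarith [mul_pos (hmQ i) (hmQ j)]
        have h3 := amgm (T.m j : ℚ) (T.m i : ℚ) (hmQ j) (hmQ i)
        linarith
  -- double sums
  have hsumc : 2 * ∑ i, ∑ j, ε' i j ≤ ∑ i, ∑ j, c i j := by
    have h1 : ∑ i, ∑ j, (ε' i j + ε' j i + (ε' j i + ε' i j)) ≤ ∑ i, ∑ j, (c i j + c j i) :=
      Finset.sum_le_sum (fun i _ => Finset.sum_le_sum (fun j _ => hpair i j))
    have hcomm : ∀ f : Fin n → Fin n → ℚ, ∑ i, ∑ j, f j i = ∑ i, ∑ j, f i j := fun f =>
      Finset.sum_comm
    simp only [Finset.sum_add_distrib] at h1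
    rw [hcomm c, hcomm ε'] at h1
    linarith
  have hedge : ∑ i, ∑ j, ε' i j = (T.edgeCount : ℚ) := by
    unfold Models.NumericalType.edgeCount
    rw [Finset.card_filter, ← Fintype.sum_prod_type']
    push_cast
    rfl
  have hA : ∀ i, ((-(T.a i i / T.w i) : ℤ) : ℚ) - 2 ≤
      ((T.m i * (2 * T.w i * (T.g i - 1) - T.a i i) : ℤ) : ℚ) := by
    intro i
    exact_mod_cast claimA T hmin hn i
  have hgen := nt_genus_eq T
  have hsumA : ∑ i, (∑ j, c i j - 2) ≤
      ((∑ i, T.m i * (2 * T.w i * (T.g i - 1) - T.a i i) : ℤ) : ℚ) := by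
    rw [Int.cast_sum]
    refine Finset.sum_le_sum (fun i _ => ?_)
    rw [hrow i]
    exact hA i
  rw [Finset.sum_sub_distrib] at hsumA
  simp only [Finset.sum_const, Finset.card_univ, Fintype.card_fin, nsmul_eq_mul] at hsumA
  have hfin : (2 * T.topGenus : ℚ) ≤ 2 * T.genus := by
    generalize (∑ i, T.m i * (2 * T.w i * (T.g i - 1) - T.a i i) : ℤ) = S at hgen hsumA
    have h2 : (2 : ℚ) * (T.genus : ℚ) = 2 + (S : ℚ) := by exact_mod_cast hgen
    have h3 : (T.topGenus : ℚ) = 1 - (n : ℚ) + (T.edgeCount : ℚ) := by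
      unfold Models.NumericalType.topGenus
      push_cast
      rfl
    rw [h2, h3]
    linarith
  have : (T.topGenus : ℚ) ≤ T.genus := by linarith
  exact_mod_cast this

end Groth.Agent.S2177
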