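import Groth.Statements.S2178
import Groth.Agent.S2171
import Groth.Agent.Lib.Helper10.NumType
import Mathlib.LinearAlgebra.Dimension.Localization
import Mathlib.LinearAlgebra.Dimension.RankNullity

set_option autoImplicit false
open Finset
open Models Models.NumericalType

namespace Groth.Agent.S2178

/-- An integer vector killed by the intersection matrix is proportional to `m`. -/
theorem ker_prop {n : ℕ} (T : Models.NumericalType n) (y : Fin n → ℤ) (hy : T.a.mulVec y = 0) :
    ∀ i j, y i * T.m j = y j * T.m i := by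
  let A : Matrix (Fin n) (Fin n) ℝ := fun i j => (T.a i j : ℝ)
  let mR : Fin n → ℝ := fun i => (T.m i : ℝ)
  let x : Fin n → ℝ := fun i => (y i : ℝ)
  have hsymm : A.IsSymm := by
    ext i j
    show ((T.a j i : ℤ) : ℝ) = (T.a i j : ℝ)
    rw [Groth.Agent.Lib.Helper10.nt_symm T j i]
  have hA : ∀ i j, i ≠ j → 0 ≤ A i j := fun i j hij => by
    show (0 : ℝ) ≤ (T.a i j : ℝ)
    exact_mod_cast T.offDiag_nonneg i j hij
  have hm : ∀ i, 0 < mR i := fun i => by
    show (0 : ℝ) < (T.m i : ℝ)
    exact_mod_cast T.m_pos i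
  have hcast : ∀ v : Fin n → ℤ, T.a.mulVec v = 0 → A.mulVec (fun i => (v i : ℝ)) = 0 := by
    intro v hv
    funext i
    have h1 := congrFun hv i
    simp only [Matrix.mulVec, dotProduct, Pi.zero_apply] at h1 ⊢
    show ∑ j, ((T.a i j : ℤ) : ℝ) * ((v j : ℤ) : ℝ) = 0
    have : ((∑ j, T.a i j * v j : ℤ) : ℝ) = 0 := by rw [h1]; simp
    rw [← this]
    push_cast
    rfl
  have hAm : A.mulVec mR = 0 := hcast T.m T.mulVec_m
  have hconn : ∀ I : Finset (Fin n), I.Nonempty → I ≠ univ → ∃ i ∈ I, ∃ j ∉ I, A i j ≠ 0 := by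
    intro I h1 h2
    obtain ⟨i, hi, j, hj, hij⟩ := T.connected I h1 h2
    refine ⟨i, hi, j, hj, ?_⟩
    show ((T.a i j : ℤ) : ℝ) ≠ 0
    exact_mod_cast hij
  have hx : A.mulVec x = 0 := hcast y hy
  have h0 : dotProduct x (A.mulVec x) = 0 := by rw [hx, dotProduct_zero]
  obtain ⟨q, hq⟩ := (Groth.Agent.S2171.result A mR hsymm hA hm hAm hconn x).2.mp h0
  intro i j
  have hi : (y i : ℝ) = q * (T.m i : ℝ) := by
    have := congrFun hq i
    simpa [x, mR] using this
  have hj : (y j : ℝ) = q * (T.m j : ℝ) := by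
    have := congrFun hq j
    simpa [x, mR] using this
  have : ((y i * T.m j : ℤ) : ℝ) = ((y j * T.m i : ℤ) : ℝ) := by
    push_cast
    rw [hi, hj]; ring
  exact_mod_cast this

theorem mulVec_pic_eq_zero_iff {n : ℕ} (T : Models.NumericalType n) (y : Fin n → ℤ) :
    T.picMatrix.mulVec y = 0 ↔ T.a.mulVec y = 0 := by
  have hkey : ∀ i, T.w i * (T.picMatrix.mulVec y) i = (T.a.mulVec y) i := by
    intro i
    simp only [Matrix.mulVec, dotProduct, Finset.mul_sum]
    refine Finset.sum_congr rfl (fun j _ => ?_)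
    simp only [Models.NumericalType.picMatrix]
    rw [← mul_assoc, Int.mul_ediv_cancel' (T.w_dvd i j)]
  constructor
  · intro h
    funext i
    rw [← hkey i, h]; simp
  · intro h
    funext i
    have := hkey i
    rw [h] at this
    simp only [Pi.zero_apply, mul_eq_zero] at this
    rcases this with h' | h'
    · exact absurd h' (T.w_pos i).ne'
    · exact h'

/-- The Picard group of a numerical type (the cokernel of the matrix (a i j / w i) acting on Z^n) has
free rank one: its rank as a Z-module is 1. -/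
theorem result {n : ℕ} (T : Models.NumericalType n) : Module.finrank ℤ T.Pic = 1 := by
  classical
  let f : (Fin n → ℤ) →ₗ[ℤ] (Fin n → ℤ) := Matrix.mulVecLin T.picMatrix
  have h₁ := (LinearMap.range f).finrank_quotient_add_finrank
  have h₂ := f.quotKerEquivRange.finrank_eq
  have h₃ := (LinearMap.ker f).finrank_quotient_add_finrank
  let i0 : Fin n := ⟨0, T.pos⟩
  have hmem : ∀ y : Fin n → ℤ, y ∈ LinearMap.ker f ↔ T.a.mulVec y = 0 := by
    intro y
    rw [LinearMap.mem_ker]
    exact mulVec_pic_eq_zero_iff T y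
  -- upper bound
  have hle : Module.finrank ℤ (LinearMap.ker f) ≤ 1 := by
    let φ : LinearMap.ker f →ₗ[ℤ] ℤ := (LinearMap.proj i0).comp (Submodule.subtype _)
    have hφ : Function.Injective φ := by
      rw [injective_iff_map_eq_zero]
      rintro ⟨y, hy⟩ h0
      have h0' : y i0 = 0 := h0
      have hp := ker_prop T y ((hmem y).mp hy)
      apply Subtype.ext
      funext j
      have := hp j i0
      rw [h0', zero_mul] at this
      rcases mul_eq_zero.mp this with h | h
      · exact h
      · exact absurd h (T.m_pos i0).ne'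
    have := LinearMap.finrank_le_finrank_of_injective hφ
    simpa using this
  have hge : 1 ≤ Module.finrank ℤ (LinearMap.ker f) := by
    have hm : T.m ∈ LinearMap.ker f := (hmem T.m).mpr T.mulVec_m
    let ψ : ℤ →ₗ[ℤ] LinearMap.ker f := LinearMap.toSpanSingleton ℤ _ ⟨T.m, hm⟩
    have hψ : Function.Injective ψ := by
      rw [injective_iff_map_eq_zero]
      intro c hc
      have h1 : c • T.m = 0 := congrArg Subtype.val hc
      have h2 := congrFun h1 i0
      simp only [Pi.smul_apply, smul_eq_mul, Pi.zero_apply, mul_eq_zero] at h2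
      rcases h2 with h | h
      · exact h
      · exact absurd h (T.m_pos i0).ne'
    have := LinearMap.finrank_le_finrank_of_injective hψ
    simpa using this
  show Module.finrank ℤ ((Fin n → ℤ) ⧸ LinearMap.range f) = 1
  omega

end Groth.Agent.S2178
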