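import Groth.Statements.S2179
-- import your own Groth.Agent.* helpers here

set_option autoImplicit false
open Finset
open Models Models.NumericalType

namespace Groth.Agent.S2179

/-- For a numerical type T, the map Z^n -> Z^n multiplying the i-th coordinate by w i induces a
well-defined injective homomorphism from Pic(T), the cokernel of (a i j / w i), to the cokernel of
the matrix a. -/
theorem result {n : ℕ} (T : Models.NumericalType n) :
    ∃ f : T.Pic →+ T.CokerA, Function.Injective f ∧
      ∀ x : Fin n → ℤ, f (Submodule.Quotient.mk x) = Submodule.Quotient.mk (fun i => T.w i * x i) := by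
  classical
  let D : (Fin n → ℤ) →ₗ[ℤ] (Fin n → ℤ) :=
    { toFun := fun x i => T.w i * x i
      map_add' := fun x y => by funext i; simp [mul_add]
      map_smul' := fun c x => by funext i; simp [mul_left_comm] }
  have hkey : ∀ y : Fin n → ℤ, D (Matrix.mulVecLin T.picMatrix y) = Matrix.mulVecLin T.a y := by
    intro y
    funext i
    show T.w i * (T.picMatrix.mulVec y) i = (T.a.mulVec y) i
    simp only [Matrix.mulVec, dotProduct, Finset.mul_sum]
    refine Finset.sum_congr rfl (fun j _ => ?_)
    simp only [Models.NumericalType.picMatrix]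
    rw [← mul_assoc, Int.mul_ediv_cancel' (T.w_dvd i j)]
  have hle : LinearMap.range (Matrix.mulVecLin T.picMatrix) ≤
      (LinearMap.range (Matrix.mulVecLin T.a)).comap D := by
    rintro x ⟨y, rfl⟩
    exact ⟨y, (hkey y).symm⟩
  refine ⟨(Submodule.mapQ _ _ D hle).toAddMonoidHom, ?_, ?_⟩
  · rw [injective_iff_map_eq_zero]
    intro z hz
    induction z using Submodule.Quotient.induction_on with
    | H x =>
      have hz' : Submodule.Quotient.mk (D x) = (0 : T.CokerA) := hz
      rw [Submodule.Quotient.mk_eq_zero] at hz' ⊢
      obtain ⟨y, hy⟩ := hz'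
      refine ⟨y, ?_⟩
      have h2 : D (Matrix.mulVecLin T.picMatrix y) = D x := by rw [hkey y, hy]
      funext i
      have h3 := congrFun h2 i
      exact mul_left_cancel₀ (T.w_pos i).ne' h3
  · intro x
    rfl

end Groth.Agent.S2179
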