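import Groth.Statements.S2180
import Groth.Agent.Lib.Helper10.NumType

set_option autoImplicit false
open Finset
open Models Models.NumericalType

namespace Groth.Agent.S2180

open Groth.Agent.Lib.Helper10

theorem w_cases {n : ℕ} (T : Models.NumericalType (n + 1)) (T' : Models.NumericalType n)
    (hT' : T.IsContraction T') (i : Fin n) :
    T.w i.castSucc = T'.w i ∨ T.w i.castSucc = 2 * T'.w i := by
  obtain ⟨-, -, hw, -⟩ := hT'
  have := hw i
  split_ifs at this with hc
  · right
    obtain ⟨h2, h3⟩ := hc
    have hl : T.w (Fin.last n) ∣ T.a i.castSucc (Fin.last n) := by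
      rw [nt_symm]; exact T.w_dvd _ _
    have hi := T.w_dvd i.castSucc (Fin.last n)
    have e1 : T.a i.castSucc (Fin.last n) =
        T.w (Fin.last n) * (T.a i.castSucc (Fin.last n) / T.w (Fin.last n)) :=
      (Int.mul_ediv_cancel' hl).symm
    have e2 : T.a i.castSucc (Fin.last n) =
        T.w i.castSucc * (T.a i.castSucc (Fin.last n) / T.w i.castSucc) :=
      (Int.mul_ediv_cancel' hi).symm
    have h4 : (2 : ℤ) ∣ T.a i.castSucc (Fin.last n) := by
      rw [e1]; exact Dvd.dvd.mul_left h2 _
    rw [e2] at h4
    have h5 : (2 : ℤ) ∣ T.w i.castSucc := (Int.prime_two.dvd_or_dvd h4).resolve_right h3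
    rw [this]; omega
  · left; exact this.symm

/-- Let T be a numerical type on n + 1 indices whose last index is a (-1)-index and T' a contraction of
it. Then there is an injective homomorphism Pic(T) -> Pic(T') whose cokernel is annihilated by 2. -/
theorem result {n : ℕ} (T : Models.NumericalType (n + 1)) (h : T.IsMinusOne (Fin.last n))
    (T' : Models.NumericalType n) (hT' : T.IsContraction T') :
    ∃ f : T.Pic →+ T'.Pic, Function.Injective f ∧ ∀ y : T'.Pic, ∃ x : T.Pic, 2 • y = f x := by
  classical
  obtain ⟨hgl, hall⟩ := h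
  have hwc := w_cases T T' hT'
  obtain ⟨hm', ha', hw', hg'⟩ := hT'
  choose e he using T.w_dvd
  let r : Fin n → ℤ := fun i => T.w i.castSucc / T'.w i
  have hr12 : ∀ i, r i = 1 ∨ r i = 2 := by
    intro i
    have hpos := T'.w_pos i
    rcases hwc i with h1 | h1
    · left
      show T.w i.castSucc / T'.w i = 1
      rw [h1, Int.ediv_self hpos.ne']
    · right
      show T.w i.castSucc / T'.w i = 2
      rw [h1, Int.mul_ediv_cancel _ hpos.ne']
  have hr : ∀ i, T.w i.castSucc = T'.w i * r i := by
    intro i
    have hpos := T'.w_pos i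
    rcases hwc i with h1 | h1
    · show T.w i.castSucc = T'.w i * (T.w i.castSucc / T'.w i)
      rw [h1, Int.ediv_self hpos.ne', mul_one]
    · show T.w i.castSucc = T'.w i * (T.w i.castSucc / T'.w i)
      rw [h1, Int.mul_ediv_cancel _ hpos.ne', mul_comm]
  have hell : e (Fin.last n) (Fin.last n) = -1 := by
    have h1 := he (Fin.last n) (Fin.last n)
    rw [hall] at h1
    have hpos := T.w_pos (Fin.last n)
    have : T.w (Fin.last n) * (e (Fin.last n) (Fin.last n) + 1) = 0 := by linarith
    rcases mul_eq_zero.mp this with h2 | h2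
    · exact absurd h2 hpos.ne'
    · linarith
  have hsymm : ∀ i j, T.a i j = T.a j i := nt_symm T
  have ha'' : ∀ i j, T'.a i j =
      T'.w i * (r i * (e i.castSucc j.castSucc + e i.castSucc (Fin.last n) * e (Fin.last n) j.castSucc)) := by
    intro i j
    rw [ha' i j, hall, Int.ediv_neg, sub_neg_eq_add]
    have : T.a i.castSucc (Fin.last n) * T.a j.castSucc (Fin.last n) / T.w (Fin.last n) = T.a i.castSucc (Fin.last n) * e (Fin.last n) j.castSucc := by
      rw [hsymm j.castSucc (Fin.last n), he (Fin.last n) j.castSucc, ← mul_assoc, mul_comm (T.a i.castSucc (Fin.last n)) (T.w (Fin.last n)),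
        mul_assoc, Int.mul_ediv_cancel_left _ (T.w_pos (Fin.last n)).ne']
    rw [this, he i.castSucc (Fin.last n), he i.castSucc j.castSucc, hr i]; ring
  have hP : ∀ i j, T.picMatrix i j = e i j := fun i j => by
    simp only [Models.NumericalType.picMatrix]
    rw [he i j, Int.mul_ediv_cancel_left _ (T.w_pos i).ne']
  have hP' : ∀ i j, T'.picMatrix i j =
      r i * (e i.castSucc j.castSucc + e i.castSucc (Fin.last n) * e (Fin.last n) j.castSucc) := fun i j => by
    simp only [Models.NumericalType.picMatrix]
    rw [ha'' i j, Int.mul_ediv_cancel_left _ (T'.w_pos i).ne']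
  let φ : (Fin (n + 1) → ℤ) →ₗ[ℤ] (Fin n → ℤ) :=
    { toFun := fun x i => r i * (x i.castSucc + e i.castSucc (Fin.last n) * x (Fin.last n))
      map_add' := fun x y => by funext i; simp only [Pi.add_apply]; ring
      map_smul' := fun c x => by
        funext i; simp only [Pi.smul_apply, smul_eq_mul, RingHom.id_apply]; ring }
  have hφ : ∀ x i, φ x i = r i * (x i.castSucc + e i.castSucc (Fin.last n) * x (Fin.last n)) := fun x i => rfl
  have hkey : ∀ x, φ (Matrix.mulVecLin T.picMatrix x) =
      Matrix.mulVecLin T'.picMatrix (fun i => x i.castSucc) := by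
    intro x
    funext i
    rw [hφ]
    simp only [Matrix.mulVecLin_apply, Matrix.mulVec, dotProduct, hP, hP', Fin.sum_univ_castSucc]
    rw [hell]
    have : ∀ k : Fin n, r i * (e i.castSucc k.castSucc + e i.castSucc (Fin.last n) * e (Fin.last n) k.castSucc) * x k.castSucc =
        r i * (e i.castSucc k.castSucc * x k.castSucc) + r i * (e i.castSucc (Fin.last n) * (e (Fin.last n) k.castSucc * x k.castSucc)) := by
      intro k; ring
    simp only [this, Finset.sum_add_distrib, ← Finset.mul_sum]
    ring
  have hle : LinearMap.range (Matrix.mulVecLin T.picMatrix) ≤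
      (LinearMap.range (Matrix.mulVecLin T'.picMatrix)).comap φ := by
    rintro x ⟨y, rfl⟩
    exact ⟨_, (hkey y).symm⟩
  refine ⟨(Submodule.mapQ _ _ φ hle).toAddMonoidHom, ?_, ?_⟩
  · rw [injective_iff_map_eq_zero]
    intro z hz
    induction z using Submodule.Quotient.induction_on with
    | H x =>
      have hz' : Submodule.Quotient.mk (φ x) = (0 : T'.Pic) := hz
      rw [Submodule.Quotient.mk_eq_zero] at hz' ⊢
      obtain ⟨y', hy'⟩ := hz'
      let yt : Fin (n + 1) → ℤ := Fin.snoc y' 0
      have hyt : (fun i : Fin n => yt i.castSucc) = y' := by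
        funext i; simp [yt]
      have h1 : φ (Matrix.mulVecLin T.picMatrix yt) = φ x := by
        rw [hkey yt, hyt, hy']
      -- z := x - P yt is in the kernel of φ
      set z : Fin (n + 1) → ℤ := x - Matrix.mulVecLin T.picMatrix yt with hzdef
      have hz0 : φ z = 0 := by rw [hzdef, map_sub, h1, sub_self]
      have hzi : ∀ i : Fin n, z i.castSucc = - e i.castSucc (Fin.last n) * z (Fin.last n) := by
        intro i
        have h2 := congrFun hz0 i
        rw [hφ] at h2
        simp only [Pi.zero_apply] at h2
        rcases mul_eq_zero.mp h2 with h3 | h3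
        · rcases hr12 i with h4 | h4 <;> omega
        · linarith
      have hzP : z = Matrix.mulVecLin T.picMatrix (Pi.single (Fin.last n) (- z (Fin.last n))) := by
        funext i
        simp only [Matrix.mulVecLin_apply, Matrix.mulVec, dotProduct, hP]
        rw [Finset.sum_eq_single (Fin.last n)]
        · simp only [Pi.single_eq_same]
          refine Fin.lastCases ?_ (fun j => ?_) i
          · rw [hell]; ring
          · rw [hzi j]; ring
        · intro b _ hb
          rw [Pi.single_eq_of_ne hb, mul_zero]
        · intro hl'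
          exact absurd (Finset.mem_univ (Fin.last n)) hl'
      have hx : x = Matrix.mulVecLin T.picMatrix (Pi.single (Fin.last n) (- z (Fin.last n)) + yt) := by
        rw [map_add, ← hzP, hzdef]; abel
      exact ⟨_, hx.symm⟩
  · intro y
    induction y using Submodule.Quotient.induction_on with
    | H y' =>
      let x : Fin (n + 1) → ℤ := Fin.snoc (fun i => (2 / r i) * y' i) 0
      refine ⟨Submodule.Quotient.mk x, ?_⟩
      show (2 : ℕ) • (Submodule.Quotient.mk y' : T'.Pic) = Submodule.Quotient.mk (φ x)
      rw [← Submodule.Quotient.mk_smul]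
      congr 1
      funext i
      rw [hφ]
      have hx1 : x i.castSucc = (2 / r i) * y' i := by simp [x]
      have hx2 : x (Fin.last n) = 0 := by simp [x]
      rw [hx1, hx2]
      rcases hr12 i with h4 | h4 <;> rw [h4] <;> simp

end Groth.Agent.S2180
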