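import Groth.Statements.S2181
import Groth.Agent.Lib.Helper10.NumPerm
import Groth.Agent.S2175
import Groth.Agent.S2178
import Groth.Agent.S2180

set_option autoImplicit false
open Finset
open Models Models.NumericalType

namespace Groth.Agent.S2181

open Groth.Agent.Lib.Helper10

theorem equiv_int_of_injective {M : Type*} [AddCommGroup M] (hM : Nontrivial M) (g : M →+ ℤ)
    (hg : Function.Injective g) : Nonempty (M ≃+ ℤ) := by
  let gl : M →ₗ[ℤ] ℤ := g.toIntLinearMap
  have hgl : Function.Injective gl := hg
  have e1 : M ≃ₗ[ℤ] LinearMap.range gl := LinearEquiv.ofInjective gl hgl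
  obtain ⟨a, ha⟩ : ∃ a, LinearMap.range gl = Submodule.span ℤ {a} :=
    (IsPrincipalIdealRing.principal (LinearMap.range gl : Ideal ℤ)).principal
  have ha0 : a ≠ 0 := by
    rintro rfl
    obtain ⟨x, y, hxy⟩ := hM
    apply hxy
    apply hgl
    have hx : gl x ∈ LinearMap.range gl := ⟨x, rfl⟩
    have hy : gl y ∈ LinearMap.range gl := ⟨y, rfl⟩
    rw [ha] at hx hy
    simp only [Submodule.span_zero_singleton, Submodule.mem_bot] at hx hy
    rw [hx, hy]
  have e2 : ℤ ≃ₗ[ℤ] Submodule.span ℤ {a} := LinearEquiv.toSpanNonzeroSingleton ℤ ℤ a ha0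
  exact ⟨((e1.trans (LinearEquiv.ofEq _ _ ha)).trans e2.symm).toAddEquiv⟩

theorem main : ∀ (n : ℕ) (T : Models.NumericalType n), T.genus ≤ 0 →
    ∃ g : T.Pic →+ ℤ, Function.Injective g
  | 0, T, _ => absurd T.pos (lt_irrefl 0)
  | 1, T, _ => by
      have h0 : T.a 0 0 = 0 := by
        have h1 := nt_row_sum T 0
        simp only [Fin.sum_univ_one] at h1
        rcases mul_eq_zero.mp h1 with h2 | h2
        · exact h2
        · exact absurd h2 (T.m_pos 0).ne'
      have hP : T.picMatrix = 0 := by
        ext i j
        have hi : i = 0 := Subsingleton.elim _ _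
        have hj : j = 0 := Subsingleton.elim _ _
        subst hi; subst hj
        simp [Models.NumericalType.picMatrix, h0]
      have hle : LinearMap.range (Matrix.mulVecLin T.picMatrix) ≤
          LinearMap.ker (LinearMap.proj (R := ℤ) (φ := fun _ : Fin 1 => ℤ) 0) := by
        rintro x ⟨y, rfl⟩
        rw [hP]
        simp
      refine ⟨(Submodule.liftQ _ (LinearMap.proj (R := ℤ) (φ := fun _ : Fin 1 => ℤ) 0)
        hle).toAddMonoidHom, ?_⟩
      rw [injective_iff_map_eq_zero]
      intro z hz
      induction z using Submodule.Quotient.induction_on with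
      | H x =>
        have hx : x 0 = 0 := hz
        have : x = 0 := by
          funext i
          have hi : i = 0 := Subsingleton.elim _ _
          subst hi
          exact hx
        rw [this]
        rfl
  | (k + 2), T, hg => by
      have hnm : ¬ T.IsMinimal := fun hmin => by
        have := nt_one_le_genus_of_isMinimal T hmin (by omega)
        omega
      unfold Models.NumericalType.IsMinimal at hnm
      rw [not_forall] at hnm
      obtain ⟨i, hi⟩ := hnm
      rw [not_not] at hi
      let σ : Equiv.Perm (Fin (k + 2)) := Equiv.swap i (Fin.last (k + 1))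
      let T₂ := ntPerm T σ
      have hσ : σ (Fin.last (k + 1)) = i := Equiv.swap_apply_right _ _
      have h2 : T₂.IsMinusOne (Fin.last (k + 1)) := by
        show T.g (σ (Fin.last (k + 1))) = 0 ∧
          T.a (σ (Fin.last (k + 1))) (σ (Fin.last (k + 1))) = - T.w (σ (Fin.last (k + 1)))
        rw [hσ]
        exact hi
      obtain ⟨⟨T', hT'⟩, hgen⟩ := Groth.Agent.S2175.result T₂ h2
      have hg' : T'.genus ≤ 0 := by
        rw [hgen T' hT', ntPerm_genus]; exact hg
      obtain ⟨g', hg'inj⟩ := main (k + 1) T' hg'
      obtain ⟨f, hf, -⟩ := Groth.Agent.S2180.result T₂ h2 T' hT'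
      let e := ntPermPicEquiv T σ
      exact ⟨(g'.comp f).comp e.toAddEquiv.toAddMonoidHom,
        hg'inj.comp (hf.comp e.injective)⟩

/-- If the genus of a numerical type is at most 0 then its Picard group is infinite cyclic. -/
theorem result {n : ℕ} (T : Models.NumericalType n) (hg : T.genus ≤ 0) : Nonempty (T.Pic ≃+ ℤ) := by
  obtain ⟨g, hginj⟩ := main n T hg
  have hfr := Groth.Agent.S2178.result T
  have hnt : Nontrivial T.Pic := Module.nontrivial_of_finrank_pos (R := ℤ) (by omega)
  exact equiv_int_of_injective hnt g hginj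

end Groth.Agent.S2181
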