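import Groth.Statements.S2183
import Groth.Agent.Lib.Helper10.NumType

set_option autoImplicit false
open Finset
open Models Models.NumericalType

namespace Groth.Agent.S2183

open Groth.Agent.Lib.Helper10

theorem key {n : ℕ} (T : Models.NumericalType n) (hmin : T.IsMinimal) (hn : 1 < n) (j : Fin n) :
    ∃ x k : ℤ, 1 ≤ x ∧ 1 ≤ k ∧ T.a j j = - (T.w j * k) ∧ x = T.m j * T.w j ∧
      T.m j * (2 * T.w j * (T.g j - 1) - T.a j j) = x * (2 * T.g j - 2 + k) ∧
      (T.g j = 0 → 2 ≤ k) ∧ (T.g j = 0 → ¬ T.IsMinusTwo j → 3 ≤ k) ∧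
      T.m j * |T.a j j| = x * k := by
  obtain ⟨c, hc⟩ := T.w_dvd j j
  have hneg := nt_diag_neg T hn j
  have hw := T.w_pos j
  have hm := T.m_pos j
  have hc1 : c < 0 := by
    by_contra h
    rw [not_lt] at h
    have : 0 ≤ T.w j * c := mul_nonneg hw.le h
    linarith
  have hx : 1 ≤ T.m j * T.w j := by
    have : 0 < T.m j * T.w j := mul_pos hm hw
    omega
  refine ⟨T.m j * T.w j, -c, hx, by omega, by rw [hc]; ring, rfl, by rw [hc]; ring, ?_, ?_, ?_⟩
  · intro h0
    have hc2 : c ≠ -1 := by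
      intro h
      apply hmin j
      refine ⟨h0, ?_⟩
      rw [hc, h]; ring
    omega
  · intro h0 h2
    have hc2 : c ≠ -1 := by
      intro h
      apply hmin j
      refine ⟨h0, ?_⟩
      rw [hc, h]; ring
    have hc3 : c ≠ -2 := by
      intro h
      apply h2
      refine ⟨h0, ?_⟩
      rw [hc, h]; ring
    omega
  · rw [abs_of_neg hneg, hc]; ring

open Classical in
/-- Let T be a minimal numerical type with n > 1 indices and genus g at least 2, and let J be the set of
indices which are not (-2)-indices. Then J has at most 2g - 2 elements, and for j in J one has g j <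
g, m j * |a j j| at most 6g - 6, and m i * a i j at most 6g - 6 for every index i. -/
theorem result {n : ℕ} (T : Models.NumericalType n) (hmin : T.IsMinimal) (hn : 1 < n) (hg : 2 ≤ T.genus) :
    ((univ.filter fun j => ¬T.IsMinusTwo j).card : ℤ) ≤ 2 * T.genus - 2 ∧
      ∀ j, ¬T.IsMinusTwo j →
        T.g j < T.genus ∧ T.m j * |T.a j j| ≤ 6 * T.genus - 6 ∧
          ∀ i, T.m i * T.a i j ≤ 6 * T.genus - 6 := by
  have hgen := nt_genus_eq T
  have ht0 : ∀ i, 0 ≤ T.m i * (2 * T.w i * (T.g i - 1) - T.a i i) := fun i =>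
    mul_nonneg (T.m_pos i).le (nt_term_nonneg T hmin hn i)
  have hsum : ∑ i, T.m i * (2 * T.w i * (T.g i - 1) - T.a i i) = 2 * T.genus - 2 := by linarith
  have hle : ∀ j, T.m j * (2 * T.w j * (T.g j - 1) - T.a j j) ≤ 2 * T.genus - 2 := fun j => by
    rw [← hsum]
    exact Finset.single_le_sum (f := fun i => T.m i * (2 * T.w i * (T.g i - 1) - T.a i i))
      (fun i _ => ht0 i) (Finset.mem_univ j)
  have hpos : ∀ j, ¬ T.IsMinusTwo j → 1 ≤ T.m j * (2 * T.w j * (T.g j - 1) - T.a j j) := by
    intro j hj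
    obtain ⟨x, k, hx, hk, ha, hxd, ht, hk2, hk3, -⟩ := key T hmin hn j
    rw [ht]
    have hg := T.g_nonneg j
    rcases eq_or_lt_of_le hg with h0 | hpos
    · have := hk3 h0.symm hj
      rw [← h0]
      nlinarith
    · nlinarith
  refine ⟨?_, ?_⟩
  · have h1 : ((univ.filter fun j => ¬T.IsMinusTwo j).card : ℤ) =
        ∑ j ∈ univ.filter (fun j => ¬T.IsMinusTwo j), (1 : ℤ) := by
      simp
    rw [h1, ← hsum]
    calc ∑ j ∈ univ.filter (fun j => ¬T.IsMinusTwo j), (1 : ℤ)
        ≤ ∑ j ∈ univ.filter (fun j => ¬T.IsMinusTwo j),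
            T.m j * (2 * T.w j * (T.g j - 1) - T.a j j) :=
          Finset.sum_le_sum (fun j hj => hpos j (Finset.mem_filter.mp hj).2)
      _ ≤ ∑ j, T.m j * (2 * T.w j * (T.g j - 1) - T.a j j) :=
          Finset.sum_le_sum_of_subset_of_nonneg (Finset.filter_subset _ _)
            (fun i _ _ => ht0 i)
  · intro j hj
    obtain ⟨x, k, hx, hk, ha, hxd, ht, hk2, hk3, habs⟩ := key T hmin hn j
    have hlej := hle j
    rw [ht] at hlej
    have hg := T.g_nonneg j
    have hbound : T.m j * |T.a j j| ≤ 6 * T.genus - 6 := by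
      rw [habs]
      rcases eq_or_lt_of_le hg with h0 | hpos'
      · have h3 := hk3 h0.symm hj
        rw [← h0] at hlej
        nlinarith
      · nlinarith
    refine ⟨?_, hbound, ?_⟩
    · have hnn : 0 ≤ 2 * T.g j - 2 + k := by
        by_contra hneg
        rw [not_le] at hneg
        have h1 := ht0 j
        rw [ht] at h1
        nlinarith
      nlinarith
    · intro i
      by_cases hij : 0 < T.a i j
      · exact (nt_mul_le_of_pos T i j hij).trans hbound
      · rw [not_lt] at hij
        have : T.m i * T.a i j ≤ 0 := mul_nonpos_of_nonneg_of_nonpos (T.m_pos i).le hij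
        linarith

end Groth.Agent.S2183
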