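import Groth.Statements.S2186
import Groth.Agent.Lib.Helper10.GfMain

set_option autoImplicit false
universe u
open LCI

namespace Groth.Agent.S2186

/-- Let A -> B be a local homomorphism of complete Noetherian local rings, and take two factorizations A
-> S -> B and A -> S' -> B through Noetherian local rings with S -> B and S' -> B surjective, A -> S
and A -> S' flat, and regular closed fibres S/m_A S and S'/m_A S'. Then the kernel of S -> B is cut
out by a regular sequence exactly when the kernel of S' -> B is. -/
theorem result {A B S S' : Type u} [CommRing A] [CommRing B]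
    [CommRing S] [CommRing S'] [IsNoetherianRing A] [IsNoetherianRing B] [IsNoetherianRing S]
    [IsNoetherianRing S'] [IsLocalRing A] [IsLocalRing B] [IsLocalRing S] [IsLocalRing S']
    [IsAdicComplete (IsLocalRing.maximalIdeal A) A] [IsAdicComplete (IsLocalRing.maximalIdeal B) B]
    [Algebra A B] [Algebra A S] [Algebra A S'] [IsLocalHom (algebraMap A B)]
    [Module.Flat A S] [Module.Flat A S']
    [IsRegularLocalRing (S ⧸ Ideal.map (algebraMap A S) (IsLocalRing.maximalIdeal A))]
    [IsRegularLocalRing (S' ⧸ Ideal.map (algebraMap A S') (IsLocalRing.maximalIdeal A))]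
    (g : S →ₐ[A] B) (g' : S' →ₐ[A] B) (hg : Function.Surjective g)
    (hg' : Function.Surjective g') :
    (∃ rs : List S, Ideal.ofList rs = RingHom.ker g ∧ RingTheory.Sequence.IsRegular S rs) ↔
      (∃ rs' : List S', Ideal.ofList rs' = RingHom.ker g' ∧
        RingTheory.Sequence.IsRegular S' rs') := by
  have key : ∀ {T T' : Type u} [CommRing T] [CommRing T'] [IsNoetherianRing T]
      [IsNoetherianRing T'] [IsLocalRing T] [IsLocalRing T'] [Algebra A T] [Algebra A T']
      [Module.Flat A T] [Module.Flat A T']
      [IsRegularLocalRing (T ⧸ Ideal.map (algebraMap A T) (IsLocalRing.maximalIdeal A))]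
      [IsRegularLocalRing (T' ⧸ Ideal.map (algebraMap A T') (IsLocalRing.maximalIdeal A))]
      (f : T →ₐ[A] B) (f' : T' →ₐ[A] B), Function.Surjective f → Function.Surjective f' →
      (∃ rs : List T, Ideal.ofList rs = RingHom.ker f ∧ RingTheory.Sequence.IsRegular T rs) →
      (∃ rs' : List T', Ideal.ofList rs' = RingHom.ker f' ∧
        RingTheory.Sequence.IsRegular T' rs') := by
    intro T T' _ _ _ _ _ _ _ _ _ _ _ _ f f' hf hf' h
    exact Groth.Agent.Lib.Helper10.GoodFact.genReg_transfer f f' hf hf' h
  exact ⟨key g g' hg hg', key g' g hg' hg⟩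

end Groth.Agent.S2186
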