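import Groth.Statements.S2187
-- import your own Groth.Agent.* helpers here
import Groth.Agent.Lib.Helper85.Vasc.Avoid

set_option autoImplicit false
universe u
open CategoryTheory
open LCI

namespace Groth.Agent.S2187

/-- Let R be a Noetherian local ring and I an ideal of finite projective dimension as an R-module. If F
is a direct summand of the conormal module I/I^2 which is isomorphic to R/I, then there is a
nonzerodivisor x in I whose class in I/I^2 generates F. -/
theorem result {R : Type u} [CommRing R]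
    [IsNoetherianRing R] [IsLocalRing R] (I : Ideal R) (n : ℕ)
    (hpd : HasProjectiveDimensionLT (ModuleCat.of R I) n)
    (F G : Submodule (R ⧸ I) I.Cotangent) (hFG : IsCompl F G) (e : F ≃ₗ[R ⧸ I] (R ⧸ I)) :
    ∃ (x : R) (hx : x ∈ I), x ∈ nonZeroDivisors R ∧
      Submodule.span (R ⧸ I) {I.toCotangent ⟨x, hx⟩} = F := by
  classical
  by_cases hI : I = ⊤
  · subst hI
    have : Subsingleton (R ⧸ (⊤ : Ideal R)) := Ideal.Quotient.subsingleton_iff.mpr rfl
    have : Subsingleton (⊤ : Ideal R).Cotangent := Module.subsingleton (R ⧸ (⊤ : Ideal R)) _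
    refine ⟨1, Submodule.mem_top, one_mem _, ?_⟩
    ext z
    have hz : z = 0 := Subsingleton.elim z 0
    rw [hz]
    exact ⟨fun _ => Submodule.zero_mem _, fun _ => Submodule.zero_mem _⟩
  · let f₀ : F := e.symm 1
    obtain ⟨⟨x₀, hx₀⟩, hx₀f⟩ := I.toCotangent_surjective (f₀ : I.Cotangent)
    let π : I.Cotangent →ₗ[R ⧸ I] F := Submodule.projectionOnto F G hFG
    let ψ : I →ₗ[R] R ⧸ I := ((e.toLinearMap ∘ₗ π).restrictScalars R) ∘ₗ I.toCotangent
    have hψ : ψ ⟨x₀, hx₀⟩ = 1 := by
      show e (π (I.toCotangent ⟨x₀, hx₀⟩)) = 1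
      have h2 : π (f₀ : I.Cotangent) = f₀ := Submodule.projectionOnto_apply_left hFG f₀
      rw [hx₀f, h2]
      exact LinearEquiv.apply_symm_apply e 1
    obtain ⟨y₀, hy₀, hdiff, hnzd⟩ :=
      Groth.Agent.Lib.Helper85.Vasc.exists_nzd I hI n hpd x₀ hx₀ ψ hψ
    refine ⟨y₀, hy₀, hnzd, ?_⟩
    have hcls : I.toCotangent ⟨y₀, hy₀⟩ = f₀ := by
      rw [← hx₀f, Ideal.toCotangent_eq]
      exact hdiff
    rw [hcls]
    apply le_antisymm
    · rw [Submodule.span_le, Set.singleton_subset_iff]
      exact f₀.2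
    · intro z hz
      have h1 : (⟨z, hz⟩ : F) = e ⟨z, hz⟩ • f₀ := by
        apply e.injective
        rw [map_smul, LinearEquiv.apply_symm_apply, smul_eq_mul, mul_one]
      have h2 : z = e ⟨z, hz⟩ • (f₀ : I.Cotangent) := congrArg Subtype.val h1
      rw [h2]
      exact Submodule.smul_mem _ _ (Submodule.subset_span rfl)

end Groth.Agent.S2187
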