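import Groth.Statements.S2188
-- import your own Groth.Agent.* helpers here
import Groth.Agent.Lib.Helper85.Vasc.Seq

set_option autoImplicit false
universe u
open CategoryTheory
open LCI

namespace Groth.Agent.S2188

/-- Let R be a Noetherian local ring and I an ideal of finite projective dimension as an R-module. If F
is a direct summand of I/I^2 which is free of rank r over R/I, then there is a regular sequence x_1,
..., x_r of R inside I whose classes in I/I^2 generate F. -/
theorem result {R : Type u} [CommRing R]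
    [IsNoetherianRing R] [IsLocalRing R] (I : Ideal R) (hI : I ≠ ⊤) (n : ℕ)
    (hpd : HasProjectiveDimensionLT (ModuleCat.of R I) n)
    (F G : Submodule (R ⧸ I) I.Cotangent) (hFG : IsCompl F G) (r : ℕ)
    (e : F ≃ₗ[R ⧸ I] (Fin r → R ⧸ I)) :
    ∃ (x : Fin r → R) (hx : ∀ i, x i ∈ I), RingTheory.Sequence.IsRegular R (List.ofFn x) ∧
      Submodule.span (R ⧸ I) (Set.range fun i => I.toCotangent ⟨x i, hx i⟩) = F := by
  classical
  let f : Fin r → F := fun i => e.symm (Pi.single i 1)
  choose a₀ ha₀ using fun i => I.toCotangent_surjective (f i : I.Cotangent)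
  let a : Fin r → R := fun i => (a₀ i : R)
  have ha : ∀ i, a i ∈ I := fun i => (a₀ i).2
  let π : I.Cotangent →ₗ[R ⧸ I] F := Submodule.projectionOnto F G hFG
  let ψ : Fin r → (I →ₗ[R] R ⧸ I) := fun i =>
    ((LinearMap.proj i ∘ₗ e.toLinearMap ∘ₗ π).restrictScalars R) ∘ₗ I.toCotangent
  have hψ : ∀ i j, ψ i ⟨a j, ha j⟩ = if i = j then 1 else 0 := by
    intro i j
    show e (π (I.toCotangent ⟨a j, ha j⟩)) i = _
    have h1 : I.toCotangent ⟨a j, ha j⟩ = f j := ha₀ j
    have h2 : π (f j : I.Cotangent) = f j := Submodule.projectionOnto_apply_left hFG (f j)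
    rw [h1, h2]
    show e (e.symm (Pi.single j 1)) i = _
    rw [LinearEquiv.apply_symm_apply, Pi.single_apply]
  obtain ⟨x, hx2, hreg⟩ := Groth.Agent.Lib.Helper85.Vasc.vasc_seq r R I hI n hpd a ha ψ hψ
  have hxI : ∀ i, x i ∈ I := fun i => by
    have h1 : x i = (x i - a i) + a i := by ring
    rw [h1]; exact I.add_mem (Ideal.pow_le_self two_ne_zero (hx2 i)) (ha i)
  refine ⟨x, hxI, hreg, ?_⟩
  have hcls : ∀ i, I.toCotangent ⟨x i, hxI i⟩ = f i := by
    intro i
    rw [← ha₀ i, Ideal.toCotangent_eq]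
    exact hx2 i
  have h0 : (fun i => I.toCotangent ⟨x i, hxI i⟩) = fun i => (f i : I.Cotangent) := funext hcls
  rw [h0]
  have h1 : Set.range (fun i => (f i : I.Cotangent)) = F.subtype '' (Set.range f) := by
    rw [← Set.range_comp]; rfl
  let b : Module.Basis (Fin r) (R ⧸ I) F := (Pi.basisFun (R ⧸ I) (Fin r)).map e.symm
  have hb : ⇑b = f := by
    ext i
    simp [b, f]
  have h2 : Submodule.span (R ⧸ I) (Set.range f) = ⊤ := hb ▸ b.span_eq
  rw [h1, ← Submodule.map_span, h2, Submodule.map_top, Submodule.range_subtype]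

end Groth.Agent.S2188
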