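import Groth.Statements.S2196
import Mathlib.RingTheory.Unramified.Locus
import Mathlib.RingTheory.Kaehler.Basic
import Mathlib.RingTheory.Support
import Mathlib.LinearAlgebra.Matrix.Charpoly.LinearMap
import Mathlib.Tactic

set_option autoImplicit false
universe u v
open Disc

namespace Groth.Agent.S2196

open scoped TensorProduct

/-- Let A -> B be a ring map of finite type and D its Noether different (the image in B of the
annihilator of the kernel of B tensor_A B -> B). Then a prime q of B contains D exactly when A -> B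
is not unramified at q. -/
theorem result {A : Type u} {B : Type v}
    [CommRing A] [CommRing B] [Algebra A B] [Algebra.FiniteType A B] :
    {q : PrimeSpectrum B | Disc.noetherDifferent A B ≤ q.asIdeal} =
      (Algebra.unramifiedLocus A B)ᶜ := by
  classical
  set μ : B ⊗[A] B →ₐ[A] B := Algebra.TensorProduct.lmul' (S := B) A with hμ
  set I : Ideal (B ⊗[A] B) := KaehlerDifferential.ideal A B with hIdef
  have hIker : I = RingHom.ker μ := rfl
  have hμsurj : Function.Surjective μ := fun b => ⟨b ⊗ₜ 1, by simp [hμ]⟩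
  have hD : Disc.noetherDifferent A B = Ideal.map μ (Submodule.annihilator I) := rfl
  have hIfg : I.FG := KaehlerDifferential.ideal_fg A B
  -- Part 1
  have part1 : Disc.noetherDifferent A B ≤ Module.annihilator B (Ω[B⁄A]) := by
    intro d hd
    rw [hD, Ideal.mem_map_iff_of_surjective _ hμsurj] at hd
    obtain ⟨a, ha, rfl⟩ := hd
    rw [Module.mem_annihilator]
    intro ω
    obtain ⟨x, rfl⟩ := KaehlerDifferential.fromIdeal_surjective A B ω
    have h1 : (μ a ⊗ₜ[A] (1 : B) : B ⊗[A] B) • KaehlerDifferential.fromIdeal A B x =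
        μ a • KaehlerDifferential.fromIdeal A B x := by
      rw [← algebraMap_smul (B ⊗[A] B) (μ a) (KaehlerDifferential.fromIdeal A B x)]
      rfl
    rw [← h1]
    have h2 : a - μ a ⊗ₜ[A] (1 : B) ∈ I := by
      rw [hIker, RingHom.mem_ker, map_sub]
      simp [hμ]
    have h3 : (μ a ⊗ₜ[A] (1 : B) : B ⊗[A] B) = a - (a - μ a ⊗ₜ[A] (1 : B)) := by ring
    rw [h3, sub_smul, ← map_smul, ← map_smul]
    have h4 : a • x = 0 := by
      ext
      have := (Submodule.mem_annihilator.mp ha) (x : B ⊗[A] B) x.2
      simpa using this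
    rw [h4, map_zero, zero_sub, neg_eq_zero]
    show I.toCotangent ((a - μ a ⊗ₜ[A] (1 : B)) • x) = 0
    rw [Ideal.toCotangent_eq_zero]
    show (a - μ a ⊗ₜ[A] (1 : B)) • (x : B ⊗[A] B) ∈ I ^ 2
    rw [pow_two, smul_eq_mul]
    exact Ideal.mul_mem_mul h2 x.2
  -- Part 2
  have part2 : ∀ s ∈ Module.annihilator B (Ω[B⁄A]), ∃ n : ℕ, s ^ n ∈ Disc.noetherDifferent A B := by
    intro s hs
    rw [Module.mem_annihilator] at hs
    set σ : B ⊗[A] B := s ⊗ₜ[A] (1 : B) with hσ
    have hσμ : μ σ = s := by simp [hμ, hσ]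
    haveI : Module.Finite (B ⊗[A] B) I := Module.Finite.iff_fg.mpr hIfg
    let f : Module.End (B ⊗[A] B) I := Algebra.lsmul (B ⊗[A] B) (B ⊗[A] B) I σ
    have hf : ∀ x : I, f x = σ • x := fun x => rfl
    have hrange : LinearMap.range f ≤ I • (⊤ : Submodule (B ⊗[A] B) I) := by
      rintro _ ⟨x, rfl⟩
      rw [Submodule.mem_smul_top_iff, hf]
      have h1 : I.toCotangent (σ • x) = 0 := by
        show KaehlerDifferential.fromIdeal A B (σ • x) = 0
        rw [map_smul]
        have : σ • KaehlerDifferential.fromIdeal A B x = s • KaehlerDifferential.fromIdeal A B x := by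
          rw [← algebraMap_smul (B ⊗[A] B) s (KaehlerDifferential.fromIdeal A B x)]
          rfl
        rw [this]
        exact hs _
      have h2 := (Ideal.toCotangent_eq_zero I (σ • x)).mp h1
      rw [pow_two] at h2
      exact h2
    obtain ⟨p, hpmonic, -, hpcoeff, hpf⟩ :=
      LinearMap.exists_monic_and_natDegree_eq_and_coeff_mem_pow_and_aeval_eq_zero
        (B ⊗[A] B) f I hrange
    set e : B ⊗[A] B := Polynomial.aeval σ p with he
    have hef : Polynomial.aeval f p = Algebra.lsmul (B ⊗[A] B) (B ⊗[A] B) I e := by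
      rw [he]
      exact Polynomial.aeval_algHom_apply (Algebra.lsmul (B ⊗[A] B) (B ⊗[A] B) I) σ p
    have heann : e ∈ Submodule.annihilator I := by
      rw [Submodule.mem_annihilator]
      intro x hx
      have h1 : (Polynomial.aeval f p) ⟨x, hx⟩ = 0 := by rw [hpf]; rfl
      rw [hef] at h1
      have h2 : e • (⟨x, hx⟩ : I) = 0 := h1
      exact congrArg Subtype.val h2
    refine ⟨p.natDegree, ?_⟩
    rw [hD, Ideal.mem_map_iff_of_surjective _ hμsurj]
    refine ⟨e, heann, ?_⟩
    -- compute μ e
    have hmap : p.map (μ : B ⊗[A] B →+* B) = Polynomial.X ^ p.natDegree := by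
      ext k
      rw [Polynomial.coeff_map, Polynomial.coeff_X_pow]
      rcases lt_trichotomy k p.natDegree with hk | hk | hk
      · rw [if_neg hk.ne]
        have h1 : p.coeff k ∈ I := by
          have := hpcoeff k
          exact Ideal.pow_le_self (Nat.sub_ne_zero_of_lt hk) this
        exact h1
      · rw [if_pos hk, hk, hpmonic.coeff_natDegree, map_one]
      · rw [if_neg hk.ne', Polynomial.coeff_eq_zero_of_natDegree_lt hk, map_zero]
    have : μ e = Polynomial.eval (μ σ) (p.map (μ : B ⊗[A] B →+* B)) := by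
      rw [he, Polynomial.eval_map, Polynomial.aeval_def]
      show (μ : B ⊗[A] B →+* B) (Polynomial.eval₂ _ σ p) = _
      rw [Polynomial.hom_eval₂]
      congr 1
    rw [this, hmap, Polynomial.eval_pow, Polynomial.eval_X, hσμ]
  -- conclusion
  rw [Algebra.unramifiedLocus_eq_compl_support, compl_compl, Module.support_eq_zeroLocus]
  ext q
  simp only [Set.mem_setOf_eq, PrimeSpectrum.mem_zeroLocus, SetLike.coe_subset_coe]
  constructor
  · intro h s hs
    obtain ⟨n, hn⟩ := part2 s hs
    exact q.isPrime.mem_of_pow_mem n (h hn)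
  · intro h
    exact part1.trans h

end Groth.Agent.S2196
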