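import Groth.Statements.S2202
import Groth.Agent.S2201
import Groth.Agent.S2186
import Groth.Agent.S2169
import Groth.Agent.Lib.Helper94.CIAsc1
import Groth.Agent.Lib.Helper10.GfSquare
import Groth.Agent.Lib.Helper10.GfTorTransport

set_option autoImplicit false
universe u
open LCI

namespace Groth.Agent.S2202

/-- Special case: A and B complete. For a local homomorphism A -> B of complete Noetherian local rings,
the following are equivalent: B is a complete intersection with only finitely many nonzero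
Tor^A_p(B, k_A); A is a complete intersection and A -> B factors as A -> S -> B with S Noetherian
local, A -> S flat with regular closed fibre S/m_A S, and S -> B surjective with kernel cut out by a
regular sequence (a complete intersection homomorphism). -/
theorem result {A B : Type u} [CommRing A] [CommRing B] [IsNoetherianRing A]
    [IsNoetherianRing B] [IsLocalRing A] [IsLocalRing B]
    [IsAdicComplete (IsLocalRing.maximalIdeal A) A] [IsAdicComplete (IsLocalRing.maximalIdeal B) B]
    [Algebra A B] [IsLocalHom (algebraMap A B)] :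
    (Pi1.IsCompleteIntersection B ∧
        Set.Finite {p : ℕ | ¬Subsingleton (DRing.Tor A p B (IsLocalRing.ResidueField A))}) ↔
      (Pi1.IsCompleteIntersection A ∧
        ∃ (S : Type u) (_ : CommRing S) (_ : IsNoetherianRing S) (_ : IsLocalRing S) (_ : Algebra A S)
          (_ : Module.Flat A S)
          (_ : IsRegularLocalRing (S ⧸ Ideal.map (algebraMap A S) (IsLocalRing.maximalIdeal A)))
          (g : S →ₐ[A] B), Function.Surjective g ∧
            ∃ rs : List S, Ideal.ofList rs = RingHom.ker g ∧ RingTheory.Sequence.IsRegular S rs) := by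
  classical
  obtain ⟨R, T, _, _, hR, hT, algRT, hlocRT, hflat, hfib, ρ, σ, hρ, hσ, hcomm⟩ :=
    Groth.Agent.Lib.Helper10.GoodFact.exists_cohen_square (A := A) (B := B)
  have hI : RingHom.ker ρ ≠ ⊤ := RingHom.ker_ne_top ρ
  have hJ : RingHom.ker σ ≠ ⊤ := RingHom.ker_ne_top σ
  have hIJ' : RingHom.ker ρ ≤ (RingHom.ker σ).comap (algebraMap R T) := by
    intro r hr
    rw [Ideal.mem_comap, RingHom.mem_ker, hcomm]
    have : ρ r = 0 := hr
    rw [this, map_zero]
  have hIJ : (RingHom.ker ρ).map (algebraMap R T) ≤ RingHom.ker σ :=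
    Ideal.map_le_iff_le_comap.mpr hIJ'
  letI algQ : Algebra (R ⧸ RingHom.ker ρ) (T ⧸ RingHom.ker σ) :=
    (Ideal.quotientMap (RingHom.ker σ) (algebraMap R T) hIJ').toAlgebra
  haveI : IsScalarTower R (R ⧸ RingHom.ker ρ) (T ⧸ RingHom.ker σ) :=
    IsScalarTower.of_algebraMap_eq (fun r => rfl)
  have h2201 := (Groth.Agent.S2201.result (RingHom.ker ρ) (RingHom.ker σ) hI hJ hIJ).2
  -- (i) `B` is a complete intersection iff `ker σ` is regular
  have hB : Pi1.IsCompleteIntersection B ↔
      ∃ rs : List T, Ideal.ofList rs = RingHom.ker σ ∧ RingTheory.Sequence.IsRegular T rs := by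
    constructor
    · intro h
      exact Groth.Agent.S2169.result σ hσ h
    · rintro ⟨rs, hrs, hreg⟩
      rw [Groth.Agent.Lib.Helper94.CIAsc1.isCI_iff_of_complete B]
      refine ⟨T, inferInstance, hT, rs, ?_, hreg, ⟨?_⟩⟩
      · intro r hr
        apply IsLocalRing.le_maximalIdeal hJ
        rw [← hrs]
        exact Ideal.subset_span hr
      · exact (RingHom.quotientKerEquivOfSurjective hσ).symm.trans (Ideal.quotEquivOfEq hrs.symm)
  have hA : Pi1.IsCompleteIntersection A ↔
      ∃ rs : List R, Ideal.ofList rs = RingHom.ker ρ ∧ RingTheory.Sequence.IsRegular R rs := by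
    constructor
    · intro h
      exact Groth.Agent.S2169.result ρ hρ h
    · rintro ⟨rs, hrs, hreg⟩
      rw [Groth.Agent.Lib.Helper94.CIAsc1.isCI_iff_of_complete A]
      refine ⟨R, inferInstance, hR, rs, ?_, hreg, ⟨?_⟩⟩
      · intro r hr
        apply IsLocalRing.le_maximalIdeal hI
        rw [← hrs]
        exact Ideal.subset_span hr
      · exact (RingHom.quotientKerEquivOfSurjective hρ).symm.trans (Ideal.quotEquivOfEq hrs.symm)
  -- (iii) transport of Tor
  have hTor : ∀ p : ℕ, Subsingleton (DRing.Tor A p B (IsLocalRing.ResidueField A)) ↔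
      Subsingleton (DRing.Tor (R ⧸ RingHom.ker ρ) p (T ⧸ RingHom.ker σ)
        ((R ⧸ RingHom.ker ρ) ⧸ (IsLocalRing.maximalIdeal R).map
          (Ideal.Quotient.mk (RingHom.ker ρ)))) := by
    intro p
    let e : (R ⧸ RingHom.ker ρ) ≃+* A := RingHom.quotientKerEquivOfSurjective hρ
    let eB : (T ⧸ RingHom.ker σ) ≃+* B := RingHom.quotientKerEquivOfSurjective hσ
    have he : ∀ r, e (Ideal.Quotient.mk _ r) = ρ r := fun r => rfl
    have heB : ∀ t, eB (Ideal.Quotient.mk _ t) = σ t := fun t => rfl
    have hmA : IsLocalRing.maximalIdeal A =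
        ((IsLocalRing.maximalIdeal R).map (Ideal.Quotient.mk (RingHom.ker ρ))).map
          (e : (R ⧸ RingHom.ker ρ) →+* A) := by
      rw [Ideal.map_map]
      have h1 : ((e : (R ⧸ RingHom.ker ρ) →+* A).comp (Ideal.Quotient.mk (RingHom.ker ρ))) = ρ :=
        RingHom.ext he
      rw [h1]
      exact (IsLocalRing.map_maximalIdeal_of_surjective ρ hρ).symm
    let ek : ((R ⧸ RingHom.ker ρ) ⧸ (IsLocalRing.maximalIdeal R).map
        (Ideal.Quotient.mk (RingHom.ker ρ))) ≃+* (A ⧸ IsLocalRing.maximalIdeal A) :=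
      Ideal.quotientEquiv _ _ e hmA
    symm
    refine Groth.Agent.Lib.Helper10.GoodFact.subsingleton_tor_iff_of_ringEquiv e
      (eB.toAddEquiv) ?_ (ek.toAddEquiv) ?_ p
    · intro a m
      obtain ⟨r, rfl⟩ := Ideal.Quotient.mk_surjective a
      obtain ⟨t, rfl⟩ := Ideal.Quotient.mk_surjective m
      rw [Algebra.smul_def]
      change eB (Ideal.Quotient.mk _ (algebraMap R T r) * Ideal.Quotient.mk _ t) = _
      rw [map_mul, heB, heB, he, hcomm, Algebra.smul_def]
      rfl
    · intro a m
      obtain ⟨x, rfl⟩ := Ideal.Quotient.mk_surjective m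
      rw [Algebra.smul_def]
      change ek (Ideal.Quotient.mk _ a * Ideal.Quotient.mk _ x) = _
      rw [map_mul, Algebra.smul_def]
      rfl
  have hset : {p : ℕ | ¬Subsingleton (DRing.Tor A p B (IsLocalRing.ResidueField A))} =
      {p : ℕ | ¬Subsingleton (DRing.Tor (R ⧸ RingHom.ker ρ) p (T ⧸ RingHom.ker σ)
        ((R ⧸ RingHom.ker ρ) ⧸ (IsLocalRing.maximalIdeal R).map
          (Ideal.Quotient.mk (RingHom.ker ρ))))} :=
    Set.ext fun p => not_congr (hTor p)
  -- (iv) the good factorization attached to the square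
  obtain ⟨hloc0, alg0, hlh0, hflat0, hreg0, g₀, hg₀, hker₀, hι, hg₀mk⟩ :=
    Groth.Agent.Lib.Helper10.GoodFact.exists_goodFact_of_square ρ σ hρ hσ hcomm
  have hS : (∃ (S : Type u) (_ : CommRing S) (_ : IsNoetherianRing S) (_ : IsLocalRing S)
      (_ : Algebra A S) (_ : Module.Flat A S)
      (_ : IsRegularLocalRing (S ⧸ Ideal.map (algebraMap A S) (IsLocalRing.maximalIdeal A)))
      (g : S →ₐ[A] B), Function.Surjective g ∧
        ∃ rs : List S, Ideal.ofList rs = RingHom.ker g ∧ RingTheory.Sequence.IsRegular S rs) ↔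
      ∃ rs' : List (T ⧸ (RingHom.ker ρ).map (algebraMap R T)),
        Ideal.ofList rs' = (RingHom.ker σ).map
          (Ideal.Quotient.mk ((RingHom.ker ρ).map (algebraMap R T))) ∧
          RingTheory.Sequence.IsRegular (T ⧸ (RingHom.ker ρ).map (algebraMap R T)) rs' := by
    constructor
    · rintro ⟨S, _, _, _, _, _, _, g, hg, hrs⟩
      obtain ⟨rs', h1, h2⟩ := (Groth.Agent.S2186.result g g₀ hg hg₀).mp hrs
      exact ⟨rs', h1.trans hker₀, h2⟩
    · rintro ⟨rs', h1, h2⟩
      exact ⟨T ⧸ (RingHom.ker ρ).map (algebraMap R T), inferInstance, inferInstance, hloc0, alg0,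
        hflat0, hreg0, g₀, hg₀, rs', h1.trans hker₀.symm, h2⟩
  rw [hset]
  exact (and_congr hB Iff.rfl).trans (h2201.trans (and_congr hA.symm hS.symm))

end Groth.Agent.S2202
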