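import Groth.Statements.S2203
import Mathlib.CategoryTheory.Center.Linear
import Mathlib.CategoryTheory.Center.Localization
import Mathlib.CategoryTheory.Localization.Predicate
import Mathlib.CategoryTheory.Preadditive.AdditiveFunctor
import Mathlib.Algebra.Category.ModuleCat.Basic
import Mathlib.Algebra.Category.ModuleCat.Limits
import Mathlib.CategoryTheory.Linear.Basic
import Mathlib.CategoryTheory.Adjunction.Limits
-- import your own Groth.Agent.* helpers here

set_option autoImplicit false
universe u
open CategoryTheory
open QCohCat

namespace Groth.Agent.S2203


section

variable (A : Type u) [CommRing A]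

/-- the canonical map from a commutative ring to the center of its module category -/
noncomputable def toCenter : A →+* CatCenter (ModuleCat.{u} A) :=
  Linear.toCatCenter A (ModuleCat.{u} A)

theorem toCenter_app_apply (a : A) (M : ModuleCat.{u} A) (m : M) :
    ((toCenter A a).app M).hom m = a • m := by
  change (ModuleCat.Hom.hom (a • 𝟙 M)) m = a • m
  simp

theorem toCenter_bijective : Function.Bijective (toCenter A) := by
  constructor
  · intro a a' h
    have h1 := toCenter_app_apply A a (ModuleCat.of A A) (1 : A)
    have h2 := toCenter_app_apply A a' (ModuleCat.of A A) (1 : A)
    rw [h] at h1
    have := h1.symm.trans h2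
    simpa using this
  · intro z
    refine ⟨(z.app (ModuleCat.of A A)).hom (1 : A), ?_⟩
    ext M m
    rw [toCenter_app_apply]
    let f : ModuleCat.of A A ⟶ M := ModuleCat.ofHom (LinearMap.toSpanSingleton A M m)
    have hnat := z.naturality f
    have h3 := congrArg (fun g => g.hom (1 : A)) hnat
    simp only [ModuleCat.hom_comp, LinearMap.coe_comp, Function.comp_apply] at h3
    have h4 : f.hom (1 : A) = m := by simp [f]
    rw [h4] at h3
    rw [h3]
    simp [f]

end

section

variable {C D : Type*} [Category C] [Category D] [Preadditive C] [Preadditive D]

theorem center_localization_bijective (L : C ⥤ D) [L.IsEquivalence] [L.Additive] :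
    haveI : L.IsLocalization (MorphismProperty.isomorphisms C) :=
      Functor.IsLocalization.of_isEquivalence L _ le_rfl
    Function.Bijective (CatCenter.localizationRingHom L (MorphismProperty.isomorphisms C)) := by
  haveI : L.IsLocalization (MorphismProperty.isomorphisms C) :=
    Functor.IsLocalization.of_isEquivalence L _ le_rfl
  constructor
  · intro z z' h
    ext X
    apply L.map_injective
    have h1 := CatCenter.localization_app z L (MorphismProperty.isomorphisms C) X
    have h2 := CatCenter.localization_app z' L (MorphismProperty.isomorphisms C) X
    rw [← h1, ← h2]
    exact congrArg (fun w : CatCenter D => w.app (L.obj X)) h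
  · intro w
    let z : CatCenter C :=
      { app := fun X => L.preimage (w.app (L.obj X))
        naturality := by
          intro X Y f
          apply L.map_injective
          simp only [Functor.id_obj, Functor.id_map, Functor.map_comp, Functor.map_preimage]
          exact (w.naturality (L.map f)) }
    refine ⟨z, ?_⟩
    apply CatCenter.ext_of_localization L (MorphismProperty.isomorphisms C)
    intro X
    change (z.localization L _).app (L.obj X) = _
    rw [CatCenter.localization_app]
    simp [z, CatCenter.app]

end

/-- Ring-isomorphism part of the statement: let A and B be commutative rings whose categories of modules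
are equivalent. Then A and B are isomorphic as rings. (The source moreover describes the equivalence
as base change followed by tensoring with an invertible module.) -/
theorem result (A B : Type u) [CommRing A] [CommRing B]
    (F : ModuleCat.{u} A ≌ ModuleCat.{u} B) : Nonempty (A ≃+* B) := by
  haveI : F.functor.Additive := Functor.additive_of_preserves_binary_products _
  haveI : F.functor.IsLocalization (MorphismProperty.isomorphisms (ModuleCat.{u} A)) :=
    Functor.IsLocalization.of_isEquivalence F.functor _ le_rfl
  let e1 := RingEquiv.ofBijective (toCenter A) (toCenter_bijective A)
  let e2 := RingEquiv.ofBijective (toCenter B) (toCenter_bijective B)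
  let e3 := RingEquiv.ofBijective
    (CatCenter.localizationRingHom F.functor (MorphismProperty.isomorphisms (ModuleCat.{u} A)))
    (center_localization_bijective F.functor)
  exact ⟨e1.trans (e3.trans e2.symm)⟩

end Groth.Agent.S2203
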