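import Groth.Statements.S2206
import Groth.Agent.Lib.Helper16.DiagTor.Fibre
import Groth.Agent.Lib.Helper24.GeomRegularSmooth

set_option autoImplicit false
universe u
open TensorProduct
open LCI

namespace Groth.Agent.S2206

/-- Let A be a Noetherian ring and B a flat A-algebra of finite type, viewed as an algebra over B
tensor_A B through the multiplication map. If B, as a module over B tensor_A B, has finite
Tor-dimension (the diagonal is a perfect ring map), then B is smooth over A. -/
theorem result {A B : Type u} [CommRing A] [CommRing B]
    [Algebra A B] [IsNoetherianRing A] [Algebra.FiniteType A B] [Module.Flat A B]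
    [Algebra (B ⊗[A] B) B]
    (hmul : ∀ x y : B, algebraMap (B ⊗[A] B) B (x ⊗ₜ[A] y) = x * y)
    (h : DRing.HasFiniteTorDim (B ⊗[A] B) B) : Algebra.Smooth A B := by
  have hfp : Algebra.FinitePresentation A B :=
    Algebra.FinitePresentation.of_finiteType.mp inferInstance
  apply Algebra.Smooth.of_formallySmooth_fiber
  intro I hI
  have hC : CAlg.IsGeometricallyRegular I.ResidueField (I.Fiber B) := by
    intro k' _ _ hfin
    let : Algebra A k' := ((algebraMap I.ResidueField k').comp (algebraMap A I.ResidueField)).toAlgebra
    have : IsScalarTower A I.ResidueField k' := IsScalarTower.of_algebraMap_eq (fun _ => rfl)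
    have : IsNoetherianRing (k' ⊗[A] B) := Algebra.FiniteType.isNoetherianRing k' _
    have : IsRegularRing (k' ⊗[A] B) :=
      Groth.Agent.Lib.Helper16.DiagTor.isRegularRing_fibre_of_diag hmul h k'
    exact IsRegularRing.of_ringEquiv
      (Algebra.TensorProduct.cancelBaseChange A I.ResidueField k' k' B).symm.toRingEquiv
  have := Groth.Agent.Lib.Helper24.smooth_of_isGeometricallyRegular I.ResidueField (I.Fiber B) hC
  exact this.formallySmooth

end Groth.Agent.S2206
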