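import Groth.Statements.S2207
-- import your own Groth.Agent.* helpers here

set_option autoImplicit false
universe u v
open DPow

namespace Groth.Agent.S2207

/-- Existence in case (2): let I = (x) be a principal ideal of A with a divided power structure and B
any A-algebra. Then there is a divided power structure on I B for which A -> B is a homomorphism of
divided power rings. -/
theorem result {A : Type u} {B : Type v} [CommRing A] [CommRing B] [Algebra A B]
    (x : A) (γ : DividedPowers (Ideal.span {x})) :
    ∃ δ : DividedPowers ((Ideal.span {x}).map (algebraMap A B)), γ.IsDPMorphism δ (algebraMap A B) := by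
  classical
  set φ := algebraMap A B with hφ
  set X : B := φ x with hX
  have hxI : x ∈ Ideal.span {x} := Ideal.mem_span_singleton_self x
  have hJ : (Ideal.span {x}).map φ = Ideal.span {X} := by
    rw [Ideal.map_span, Set.image_singleton]
  set g : ℕ → B := fun n => φ (γ.dpow n x) with hg
  have hg0 : g 0 = 1 := by simp only [hg, γ.dpow_zero hxI, map_one]
  have hg1 : g 1 = X := by
    show φ (γ.dpow 1 x) = X
    rw [γ.dpow_one hxI]
  -- γ_n(x) = a_n x
  have hF1 : ∀ n, n ≠ 0 → ∃ a : A, γ.dpow n x = a * x := by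
    intro n hn
    obtain ⟨a, ha⟩ := Ideal.mem_span_singleton'.mp (γ.dpow_mem hn hxI)
    exact ⟨a, ha.symm⟩
  have hF2 : ∀ m n, g m * g n = (Nat.choose (m + n) m : B) * g (m + n) := by
    intro m n
    show φ _ * φ _ = _ * φ _
    rw [← map_mul, γ.mul_dpow hxI, map_mul, map_natCast]
  -- well-definedness
  have hWD : ∀ (n : ℕ) (b b' : B), b * X = b' * X → b ^ n * g n = b' ^ n * g n := by
    intro n b b' h
    rcases Nat.eq_zero_or_pos n with rfl | hn
    · simp
    · obtain ⟨a, ha⟩ := hF1 n hn.ne'
      obtain ⟨s, hs⟩ := sub_dvd_pow_sub_pow b b' n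
      have h1 : g n = φ a * X := by simp only [hg, ha, map_mul]; rfl
      have h2 : (b ^ n - b' ^ n) * g n = 0 := by
        rw [hs, h1]
        have : (b - b') * s * (φ a * X) = s * φ a * (b * X - b' * X) := by ring
        rw [this, h, sub_self, mul_zero]
      have h3 : b ^ n * g n - b' ^ n * g n = 0 := by rw [← sub_mul]; exact h2
      exact sub_eq_zero.mp h3
  have hmemJ : ∀ y : B, y ∈ (Ideal.span {x}).map φ ↔ ∃ b, y = b * X := by
    intro y
    rw [hJ, Ideal.mem_span_singleton']
    exact ⟨fun ⟨b, hb⟩ => ⟨b, hb.symm⟩, fun ⟨b, hb⟩ => ⟨b, hb.symm⟩⟩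
  let dp : ℕ → B → B := fun n y =>
    if h : y ∈ (Ideal.span {x}).map φ then ((hmemJ y).mp h).choose ^ n * g n else 0
  have hdp : ∀ (n : ℕ) (b : B), dp n (b * X) = b ^ n * g n := by
    intro n b
    have hmem : b * X ∈ (Ideal.span {x}).map φ := (hmemJ _).mpr ⟨b, rfl⟩
    simp only [dp, dif_pos hmem]
    exact hWD n _ _ ((hmemJ _).mp hmem).choose_spec.symm
  let δ : DividedPowers ((Ideal.span {x}).map φ) :=
    { dpow := dp
      dpow_null := by
        intro n y hy
        simp only [dp, dif_neg hy]
      dpow_zero := by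
        intro y hy
        obtain ⟨b, rfl⟩ := (hmemJ y).mp hy
        rw [hdp, pow_zero, one_mul, hg0]
      dpow_one := by
        intro y hy
        obtain ⟨b, rfl⟩ := (hmemJ y).mp hy
        rw [hdp, pow_one, hg1]
      dpow_mem := by
        intro n y hn hy
        obtain ⟨b, rfl⟩ := (hmemJ y).mp hy
        obtain ⟨a, ha⟩ := hF1 n hn
        rw [hdp, hmemJ]
        refine ⟨b ^ n * φ a, ?_⟩
        simp only [hg, ha, map_mul]
        ring
      dpow_add := by
        intro n y y' hy hy'
        obtain ⟨b, rfl⟩ := (hmemJ y).mp hy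
        obtain ⟨b', rfl⟩ := (hmemJ y').mp hy'
        rw [← add_mul, hdp, (Commute.all b b').add_pow', Finset.sum_mul]
        apply Finset.sum_congr rfl
        intro k hk
        have hk' : k.1 + k.2 = n := Finset.mem_antidiagonal.mp hk
        rw [hdp, hdp]
        have : b ^ k.1 * g k.1 * (b' ^ k.2 * g k.2) = b ^ k.1 * b' ^ k.2 * (g k.1 * g k.2) := by ring
        rw [this, hF2, hk', nsmul_eq_mul]
        ring
      dpow_mul := by
        intro n a y hy
        obtain ⟨b, rfl⟩ := (hmemJ y).mp hy
        rw [← mul_assoc, hdp, hdp, mul_pow, mul_assoc]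
      mul_dpow := by
        intro m n y hy
        obtain ⟨b, rfl⟩ := (hmemJ y).mp hy
        rw [hdp, hdp, hdp]
        have : b ^ m * g m * (b ^ n * g n) = b ^ (m + n) * (g m * g n) := by ring
        rw [this, hF2]
        ring
      dpow_comp := by
        intro m n y hn hy
        obtain ⟨b, rfl⟩ := (hmemJ y).mp hy
        obtain ⟨a, ha⟩ := hF1 n hn
        have h1 : g n = φ a * X := by simp only [hg, ha, map_mul]; rfl
        have h2 : φ a ^ m * g m = (Nat.uniformBell m n : B) * g (m * n) := by
          have := γ.dpow_comp (m := m) hn hxI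
          rw [ha, γ.dpow_mul hxI] at this
          have h3 := congrArg φ this
          simpa only [map_mul, map_pow, map_natCast] using h3
        rw [hdp, hdp, h1]
        have : b ^ n * (φ a * X) = (b ^ n * φ a) * X := by ring
        rw [this, hdp, mul_pow, mul_assoc, h2, ← pow_mul, mul_comm n m]
        ring }
  refine ⟨δ, ⟨le_refl _, ?_⟩⟩
  intro n a ha
  obtain ⟨r, rfl⟩ := Ideal.mem_span_singleton'.mp ha
  show dp n (φ (r * x)) = φ (γ.dpow n (r * x))
  rw [map_mul, hdp, γ.dpow_mul hxI, map_mul, map_pow]

end Groth.Agent.S2207
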