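import Groth.Statements.S2235
import Groth.Agent.Lib.Helper16.Wiebe.Rel

set_option autoImplicit false
universe u
open TensorProduct
open Disc

namespace Groth.Agent.S2235

theorem aux {A P : Type u} [CommRing A] [CommRing P] [Algebra A P] (I : Ideal P)
    {n : ℕ} (f : Fin n → P) (hI : I = Ideal.span (Set.range f))
    (hf : LCI.IsKoszulRegularSeq P (List.ofFn f))
    [Module.Flat A (P ⧸ I)]
    (g : Fin n → P ⊗[A] (P ⧸ I))
    (hg : LCI.IsKoszulRegularSeq (P ⊗[A] (P ⧸ I)) (List.ofFn g))
    (hgker : Ideal.span (Set.range g) = RingHom.ker (Algebra.TensorProduct.productMap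
      (Ideal.Quotient.mkₐ A I) (AlgHom.id A (P ⧸ I))))
    (c : Matrix (Fin n) (Fin n) (P ⊗[A] (P ⧸ I)))
    (hc : ∀ i, f i ⊗ₜ[A] (1 : P ⧸ I) = ∑ j, c i j * g j) :
    Submodule.annihilator (RingHom.ker
        (Algebra.TensorProduct.lmul' (S := P ⧸ I) A)) =
      Ideal.span {Algebra.TensorProduct.map (Ideal.Quotient.mkₐ A I)
        (AlgHom.id A (P ⧸ I)) (Matrix.det c)} := by
  classical
  let B := P ⧸ I
  let R := P ⊗[A] B
  let π : R →ₐ[A] B ⊗[A] B :=
    Algebra.TensorProduct.map (Ideal.Quotient.mkₐ A I) (AlgHom.id A B)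
  let pm : R →ₐ[A] B :=
    Algebra.TensorProduct.productMap (Ideal.Quotient.mkₐ A I) (AlgHom.id A B)
  have hmk : Function.Surjective (Ideal.Quotient.mkₐ A I) := Ideal.Quotient.mkₐ_surjective A I
  have hπsurj : Function.Surjective π :=
    Algebra.TensorProduct.map_surjective _ _ hmk Function.surjective_id
  have hφ : (Algebra.TensorProduct.includeLeft : P →ₐ[A] R).toRingHom = algebraMap P R :=
    RingHom.ext fun p => rfl
  have hkmk : RingHom.ker (Ideal.Quotient.mkₐ A I) = I := by
    ext x
    rw [RingHom.mem_ker, Ideal.Quotient.mkₐ_eq_mk, Ideal.Quotient.eq_zero_iff_mem]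
  have hπker : RingHom.ker π = I.map (algebraMap P R) := by
    have h := Algebra.TensorProduct.rTensor_ker (R := A) (C := B) (Ideal.Quotient.mkₐ A I) hmk
    rw [hkmk] at h
    rw [← hφ]
    exact h
  have hpm : ∀ x : R, Algebra.TensorProduct.lmul' (S := B) A (π x) = pm x := by
    intro x
    have := Algebra.TensorProduct.productMap_eq_comp_map (Ideal.Quotient.mkₐ A I) (AlgHom.id A B)
    exact (DFunLike.congr_fun this x).symm
  have hpm1 : ∀ p : P, pm (algebraMap P R p) = Ideal.Quotient.mk I p := by
    intro p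
    show pm (p ⊗ₜ[A] (1 : B)) = _
    rw [Algebra.TensorProduct.productMap_apply_tmul, map_one, mul_one]
    rfl
  have hπf : ∀ i, π (f i ⊗ₜ[A] (1 : B)) = 0 := by
    intro i
    have : f i ⊗ₜ[A] (1 : B) ∈ RingHom.ker π := by
      rw [hπker]
      exact Ideal.mem_map_of_mem _ (hI ▸ Ideal.subset_span ⟨i, rfl⟩)
    exact this
  -- the lists
  let fl := List.ofFn f
  let gl := List.ofFn g
  have hfl : Ideal.ofList fl = I := by
    rw [hI]
    show Ideal.span {x | x ∈ List.ofFn f} = _
    congr 1
    ext x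
    simp [List.mem_ofFn]
  have hgl : Ideal.ofList gl = Ideal.span (Set.range g) := by
    show Ideal.span {x | x ∈ List.ofFn g} = _
    congr 1
    ext x
    simp [List.mem_ofFn]
  have hnf : fl.length = n := List.length_ofFn
  have hng : gl.length = n := List.length_ofFn
  have hgker' : ∀ x : R, x ∈ Ideal.ofList gl ↔ pm x = 0 := by
    intro x
    rw [hgl, hgker]
    rfl
  apply le_antisymm
  · -- `⊆`
    intro s hs
    obtain ⟨r, rfl⟩ := hπsurj s
    rw [Submodule.mem_annihilator] at hs
    let C : Matrix (Fin gl.length) (Fin gl.length) R :=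
      c.submatrix (Fin.cast hng) (Fin.cast hng)
    have hdet : C.det = c.det := Matrix.det_submatrix_equiv_self (finCongr hng) c
    have hC : ∀ i : Fin gl.length,
        algebraMap P R (fl[(i : ℕ)]'(lt_of_lt_of_eq i.2 (hnf.trans hng.symm).symm)) =
          ∑ j, C i j * gl[j] := by
      intro i
      have h1 : fl[(i : ℕ)]'(lt_of_lt_of_eq i.2 (hnf.trans hng.symm).symm) =
          f (Fin.cast hng i) := (List.getElem_ofFn _).trans rfl
      rw [h1]
      have h2 : algebraMap P R (f (Fin.cast hng i)) = f (Fin.cast hng i) ⊗ₜ[A] (1 : B) := rfl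
      rw [h2, hc]
      refine (Fintype.sum_equiv (finCongr hng) _ _ ?_).symm
      intro j
      have h3 : gl[j] = g (Fin.cast hng j) := (List.getElem_ofFn _).trans rfl
      rw [h3]
      rfl
    have hinj : ∀ p : P, algebraMap P R p ∈ Ideal.ofList gl → p ∈ Ideal.ofList fl := by
      intro p hp
      rw [hgker', hpm1, Ideal.Quotient.eq_zero_iff_mem] at hp
      rw [hfl]
      exact hp
    have hsurj : ∀ r : R, ∃ p : P, r - algebraMap P R p ∈ Ideal.ofList gl := by
      intro r
      obtain ⟨p, hp⟩ := Ideal.Quotient.mk_surjective (pm r)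
      refine ⟨p, ?_⟩
      rw [hgker', map_sub, hpm1, hp, sub_self]
    have hr : ∀ γ ∈ Ideal.ofList gl, r * γ ∈ (Ideal.ofList fl).map (algebraMap P R) := by
      intro γ hγ
      rw [hfl, ← hπker, RingHom.mem_ker, map_mul]
      have h1 : π γ ∈ RingHom.ker (Algebra.TensorProduct.lmul' (S := B) A) := by
        rw [RingHom.mem_ker]
        exact (hpm γ).trans ((hgker' γ).mp hγ)
      have := hs _ h1
      rwa [smul_eq_mul] at this
    obtain ⟨p, hp⟩ := Groth.Agent.Lib.Helper16.Wiebe.relWiebe_list fl gl (hnf.trans hng.symm) hf hg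
      C hC hinj hsurj r hr
    rw [hfl, ← hπker, RingHom.mem_ker, map_sub, map_mul, hdet, sub_eq_zero] at hp
    rw [hp]
    exact Ideal.mul_mem_left _ _ (Ideal.subset_span (Set.mem_singleton _))
  · -- `⊇`
    rw [Ideal.span_singleton_le_iff_mem, Submodule.mem_annihilator]
    intro x hx
    obtain ⟨γ, rfl⟩ := hπsurj x
    rw [RingHom.mem_ker] at hx
    have hγ : γ ∈ Ideal.span (Set.range g) := by
      rw [hgker]
      exact (hpm γ).symm.trans hx
    clear hx
    rw [smul_eq_mul, ← map_mul]
    -- `det c * γ ∈ ker π`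
    have key : ∀ j, π (c.det * g j) = 0 := by
      intro j
      have h1 : (c.adjugate * c).mulVec g = c.det • g := by
        rw [Matrix.adjugate_mul, Matrix.smul_mulVec, Matrix.one_mulVec]
      rw [← Matrix.mulVec_mulVec] at h1
      have h2 : c.mulVec g = fun i => f i ⊗ₜ[A] (1 : B) := by
        funext i
        rw [hc i]
        rfl
      rw [h2] at h1
      have h3 := congrFun h1 j
      simp only [Pi.smul_apply, smul_eq_mul] at h3
      rw [← h3, Matrix.mulVec, dotProduct, map_sum]
      refine Finset.sum_eq_zero fun i _ => ?_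
      rw [map_mul, hπf, mul_zero]
    induction hγ using Submodule.span_induction with
    | mem γ h =>
      obtain ⟨j, rfl⟩ := h
      exact key j
    | zero => rw [mul_zero, map_zero]
    | add γ γ' _ _ h1 h2 => rw [mul_add, map_add, h1, h2, add_zero]
    | smul a γ _ h1 => rw [smul_eq_mul, mul_left_comm, map_mul, h1, mul_zero]

/-- Let A -> P be a ring map, f_1, ..., f_n a Koszul-regular sequence in P with B = P/(f_1, ..., f_n)
flat over A, and g_1, ..., g_n a Koszul-regular sequence in P tensor_A B generating the kernel of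
the multiplication map P tensor_A B -> B. Write f_i tensor 1 = sum_j c_ij g_j. Then the annihilator
of the kernel of B tensor_A B -> B is the principal ideal generated by the image of det(c_ij). -/
theorem result {A P : Type u} [CommRing A] [CommRing P] [Algebra A P]
    {n : ℕ} (f : Fin n → P) (hf : LCI.IsKoszulRegularSeq P (List.ofFn f))
    [Module.Flat A (P ⧸ Ideal.span (Set.range f))]
    (g : Fin n → P ⊗[A] (P ⧸ Ideal.span (Set.range f)))
    (hg : LCI.IsKoszulRegularSeq (P ⊗[A] (P ⧸ Ideal.span (Set.range f))) (List.ofFn g))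
    (hgker : Ideal.span (Set.range g) = RingHom.ker (Algebra.TensorProduct.productMap
      (Ideal.Quotient.mkₐ A (Ideal.span (Set.range f))) (AlgHom.id A (P ⧸ Ideal.span (Set.range f)))))
    (c : Matrix (Fin n) (Fin n) (P ⊗[A] (P ⧸ Ideal.span (Set.range f))))
    (hc : ∀ i, f i ⊗ₜ[A] (1 : P ⧸ Ideal.span (Set.range f)) = ∑ j, c i j * g j) :
    Submodule.annihilator (RingHom.ker
        (Algebra.TensorProduct.lmul' (S := P ⧸ Ideal.span (Set.range f)) A)) =
      Ideal.span {Algebra.TensorProduct.map (Ideal.Quotient.mkₐ A (Ideal.span (Set.range f)))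
        (AlgHom.id A (P ⧸ Ideal.span (Set.range f))) (Matrix.det c)} := by
  exact aux (Ideal.span (Set.range f)) f rfl hf g hg hgker c hc

end Groth.Agent.S2235
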