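import Groth.Statements.S2210
import Groth.Agent.S9147
import Groth.Agent.S9254
import Groth.Agent.S2235
import Groth.Agent.Lib.Helper16.Wiebe.Diag

set_option autoImplicit false
universe u
open Disc

namespace Groth.Agent.S2210

/-- Parts (1) (flatness) and (3), in the case h = 1: let A be a ring, n at least 1, f_1, ..., f_n
polynomials in A[x_1, ..., x_n] and B = A[x_1, ..., x_n]/(f_1, ..., f_n). When B is quasi-finite
over A, it is A-flat, and its Noether different over A is the principal ideal generated by the image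
of the Jacobian determinant det(d f_i / d x_j). -/
theorem result {A : Type u} [CommRing A] {n : ℕ}
    (hn : 1 ≤ n) (f : Fin n → MvPolynomial (Fin n) A)
    [Algebra.QuasiFinite A (MvPolynomial (Fin n) A ⧸ Ideal.span (Set.range f))] :
    Module.Flat A (MvPolynomial (Fin n) A ⧸ Ideal.span (Set.range f)) ∧
      Disc.noetherDifferent A (MvPolynomial (Fin n) A ⧸ Ideal.span (Set.range f)) =
        Ideal.span {Ideal.Quotient.mk (Ideal.span (Set.range f))
          (Matrix.det (Matrix.of fun i j => MvPolynomial.pderiv j (f i)))} := by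
  classical
  have hgci : Synt.IsRelGCI A n n f := by
    intro p hp
    refine ⟨le_rfl, ?_⟩
    have := hp
    rw [Nat.sub_self]
    have hart : IsArtinianRing (p.asIdeal.Fiber (Synt.RelGCIRing A n n f)) := inferInstance
    have hk0 : Ring.KrullDimLE 0 (p.asIdeal.Fiber (Synt.RelGCIRing A n n f)) :=
      ((isArtinianRing_iff_isNoetherianRing_krullDimLE_zero
        (R := p.asIdeal.Fiber (Synt.RelGCIRing A n n f))).mp hart).2
    have h0 := (ringKrullDimZero_iff_ringKrullDim_eq_zero
      (R := p.asIdeal.Fiber (Synt.RelGCIRing A n n f))).mp hk0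
    rw [h0]
    rfl
  have hsyn := Groth.Agent.S9147.result A n n f hgci
  have hflat : Module.Flat A (MvPolynomial (Fin n) A ⧸ Ideal.span (Set.range f)) := hsyn.1
  have hkos := Groth.Agent.S9254.result A n n f hgci
  refine ⟨hflat, ?_⟩
  have := hflat
  have hg := Groth.Agent.Lib.Helper16.Wiebe.isKoszulRegularSeq_diag (A := A)
    (fun j => Ideal.Quotient.mkₐ A (Ideal.span (Set.range f)) (MvPolynomial.X j))
  have hgker := Groth.Agent.Lib.Helper16.Wiebe.span_diag_eq_ker
    (Ideal.Quotient.mkₐ A (Ideal.span (Set.range f)))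
  have hfmem : ∀ i, TensorProduct.tmul A (f i) (1 : MvPolynomial (Fin n) A ⧸ Ideal.span (Set.range f)) ∈
      Ideal.span (Set.range (Groth.Agent.Lib.Helper16.Wiebe.diagElt (A := A)
        (fun j => Ideal.Quotient.mkₐ A (Ideal.span (Set.range f)) (MvPolynomial.X j)))) := by
    intro i
    rw [hgker, RingHom.mem_ker, Algebra.TensorProduct.productMap_apply_tmul, map_one, mul_one]
    exact Ideal.Quotient.eq_zero_iff_mem.mpr (Ideal.subset_span ⟨i, rfl⟩)
  have hex := fun i => Ideal.mem_span_range_iff_exists_fun.mp (hfmem i)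
  choose c hc using hex
  have hann := Groth.Agent.S2235.result f hkos _ hg hgker (Matrix.of c) (fun i => (hc i).symm)
  rw [Disc.noetherDifferent, hann, Ideal.map_span, Set.image_singleton]
  congr 2
  have hpm := Algebra.TensorProduct.productMap_eq_comp_map
    (Ideal.Quotient.mkₐ A (Ideal.span (Set.range f)))
    (AlgHom.id A (MvPolynomial (Fin n) A ⧸ Ideal.span (Set.range f)))
  have h1 := (DFunLike.congr_fun hpm (Matrix.det (Matrix.of c))).symm
  rw [AlgHom.comp_apply] at h1
  rw [h1]
  have h2 := AlgHom.map_det (Algebra.TensorProduct.productMap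
    (Ideal.Quotient.mkₐ A (Ideal.span (Set.range f)))
    (AlgHom.id A (MvPolynomial (Fin n) A ⧸ Ideal.span (Set.range f)))) (Matrix.of c)
  have h3 := RingHom.map_det (Ideal.Quotient.mk (Ideal.span (Set.range f)))
    (Matrix.of fun i j => MvPolynomial.pderiv j (f i))
  rw [h2, h3]
  congr 1
  ext i k
  simp only [AlgHom.mapMatrix_apply, RingHom.mapMatrix_apply, Matrix.map_apply, Matrix.of_apply]
  exact Groth.Agent.Lib.Helper16.Wiebe.productMap_coeff_eq_pderiv
    (Ideal.Quotient.mkₐ A (Ideal.span (Set.range f))) (f i) (c i) (hc i).symm k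

end Groth.Agent.S2210
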