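import Groth.Statements.S2211
import Mathlib.Data.Nat.Choose.Lucas
import Mathlib.Algebra.BigOperators.Associated
import Mathlib.Combinatorics.Enumerative.Bell

set_option autoImplicit false
universe u
open DPow

namespace Groth.Agent.S2211

theorem choose_coprime (p : ℕ) (hp : p.Prime) (j : ℕ) :
    ¬ p ∣ Nat.choose (j * p + p - 1) (p - 1) := by
  haveI : Fact p.Prime := ⟨hp⟩
  have hp1 : 1 ≤ p := hp.one_lt.le
  have h := @Choose.choose_modEq_choose_mod_mul_choose_div_nat (j * p + p - 1) (p - 1) p _
  have e1 : (j * p + p - 1) % p = p - 1 := by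
    have : j * p + p - 1 = (p - 1) + p * j := by
      have : j * p = p * j := mul_comm _ _
      omega
    rw [this, Nat.add_mul_mod_self_left]
    exact Nat.mod_eq_of_lt (by omega)
  have e2 : (j * p + p - 1) / p = j := by
    have : j * p + p - 1 = (p - 1) + p * j := by
      have : j * p = p * j := mul_comm _ _
      omega
    rw [this, Nat.add_mul_div_left _ _ (by omega : 0 < p)]
    rw [Nat.div_eq_of_lt (by omega)]
    simp
  have e3 : (p - 1) % p = p - 1 := Nat.mod_eq_of_lt (by omega)
  have e4 : (p - 1) / p = 0 := Nat.div_eq_of_lt (by omega)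
  rw [e1, e2, e3, e4] at h
  simp only [Nat.choose_self, Nat.choose_zero_right, mul_one] at h
  intro hdvd
  have h0 : Nat.choose (j * p + p - 1) (p - 1) ≡ 0 [MOD p] := (Nat.modEq_zero_iff_dvd).mpr hdvd
  have h1 : 1 ≡ 0 [MOD p] := h.symm.trans h0
  have := (Nat.modEq_zero_iff_dvd).mp h1
  exact hp.one_lt.ne' (Nat.dvd_one.mp this)

theorem uniformBell_coprime (p : ℕ) (hp : p.Prime) (q : ℕ) : ¬ p ∣ Nat.uniformBell q p := by
  rw [Nat.uniformBell_eq]
  intro h
  rw [Prime.dvd_finsetProd_iff hp.prime] at h
  obtain ⟨j, _, hj⟩ := h
  exact choose_coprime p hp j hj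

/-- First part: let p be a prime and A a ring in which every integer prime to p is invertible, I an
ideal of A. Two divided power structures on I coincide exactly when their p-th divided power maps
agree on I. -/
theorem result {A : Type u} [CommRing A] (p : ℕ) (hp : p.Prime)
    (hA : ∀ n : ℕ, ¬ p ∣ n → IsUnit (n : A)) {I : Ideal A} (γ γ' : DividedPowers I) :
    γ = γ' ↔ ∀ x ∈ I, γ.dpow p x = γ'.dpow p x := by
  constructor
  · rintro rfl x _
    rfl
  · intro h
    apply DividedPowers.ext
    intro n
    induction n using Nat.strong_induction_on with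
    | _ n ih =>
      intro x hx
      rcases Nat.eq_zero_or_pos n with hn | hn
      · subst hn
        rw [γ.dpow_zero hx, γ'.dpow_zero hx]
      · by_cases hpn : p ∣ n
        · obtain ⟨q, rfl⟩ := hpn
          have hq : q < p * q := by
            have : 0 < q := Nat.pos_of_mul_pos_left hn |> fun _ => by
              rcases Nat.eq_zero_or_pos q with h0 | h0
              · subst h0; simp at hn
              · exact h0
            have := hp.one_lt
            nlinarith
          have hp0 : p ≠ 0 := hp.ne_zero
          have c1 := γ.dpow_comp (m := q) hp0 hx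
          have c2 := γ'.dpow_comp (m := q) hp0 hx
          have hu := hA (Nat.uniformBell q p) (uniformBell_coprime p hp q)
          have e : γ.dpow q (γ.dpow p x) = γ'.dpow q (γ'.dpow p x) := by
            rw [h x hx]
            exact ih q hq (γ'.dpow_mem hp0 hx)
          rw [c1, c2, mul_comm q p] at e
          exact hu.mul_left_cancel e
        · have hu := hA n hpn
          obtain ⟨k, rfl⟩ : ∃ k, n = k + 1 := ⟨n - 1, by omega⟩
          have c1 := γ.mul_dpow (m := 1) (n := k) hx
          have c2 := γ'.mul_dpow (m := 1) (n := k) hx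
          rw [γ.dpow_one hx] at c1
          rw [γ'.dpow_one hx] at c2
          rw [ih k (by omega) hx] at c1
          rw [c1] at c2
          have e3 : (1 + k).choose 1 = k + 1 := by simp [add_comm]
          rw [e3, add_comm 1 k] at c2
          exact hu.mul_left_cancel c2

end Groth.Agent.S2211
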