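import Groth.Statements.S2216
import Mathlib

set_option autoImplicit false
universe u v
open Disc

namespace Groth.Agent.S2216

/-- Affine finite free case: let A be a Noetherian ring, B an A-algebra with a finite A-basis b, and x
an element of the different of B over A (x Hom_A(B, A) inside B Trace). Then the norm of x lies in
the ideal of A generated by the discriminant of the basis b. -/
theorem result {A : Type u} {B : Type v} [CommRing A]
    [CommRing B] [Algebra A B] [IsNoetherianRing A] {ι : Type} [Fintype ι] [DecidableEq ι]
    (b : Module.Basis ι A B) (x : B) (hx : x ∈ Disc.differentSet A B) :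
    Algebra.norm A x ∈ Ideal.span {Algebra.discr A b} := by
  classical
  have hex : ∀ i, ∃ c : B, ∀ z, b.coord i (x * z) = Algebra.trace A B (c * z) :=
    fun i => hx (b.coord i)
  choose c hc using hex
  let C : Matrix ι ι A := Matrix.of fun i k => b.repr (c i) k
  have hmat : Algebra.leftMulMatrix b x = C * Algebra.traceMatrix A b := by
    ext i j
    rw [Algebra.leftMulMatrix_eq_repr_mul, Matrix.mul_apply]
    have h1 := hc i (b j)
    rw [Module.Basis.coord_apply] at h1
    rw [h1]
    conv_lhs => rw [← b.sum_repr (c i), Finset.sum_mul, map_sum]
    refine Finset.sum_congr rfl (fun k _ => ?_)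
    rw [smul_mul_assoc, map_smul, smul_eq_mul]
    rfl
  rw [Algebra.norm_eq_matrix_det b, hmat, Matrix.det_mul, Algebra.discr_def,
    Ideal.mem_span_singleton']
  exact ⟨C.det, rfl⟩

end Groth.Agent.S2216
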