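import Groth.Statements.S2219
import Groth.Agent.S11566
import Mathlib

set_option autoImplicit false
universe u
open Disc

namespace Groth.Agent.S2219

/-- Equivalence of (1) and (3): let k be a field and A a finite-dimensional local k-algebra with residue
field k'. Then the trace map Tr_{A/k} is not identically zero if and only if k' is separable over k
and the length of A as a module over itself is not divisible by the characteristic of k (no
condition in characteristic zero). -/
theorem result (k A : Type u) [Field k] [CommRing A]
    [Algebra k A] [FiniteDimensional k A] [IsLocalRing A] :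
    Algebra.trace k A ≠ 0 ↔
      (Algebra.IsSeparable k (IsLocalRing.ResidueField A) ∧
        ∀ p : ℕ, p.Prime → CharP k p → ¬ p ∣ (Module.length A A).toNat) := by
  have h0 := Groth.Agent.S11566.result k A
  have hsurj : Algebra.trace k A ≠ 0 ↔ Function.Surjective (Algebra.trace k A) := by
    constructor
    · intro h t
      obtain ⟨c, hc⟩ : ∃ c, Algebra.trace k A c ≠ 0 := by
        by_contra hne
        push Not at hne
        exact h (LinearMap.ext hne)
      refine ⟨(t / Algebra.trace k A c) • c, ?_⟩
      rw [map_smul, smul_eq_mul, div_mul_cancel₀ _ hc]
    · intro h h'
      obtain ⟨c, hc⟩ := h 1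
      rw [h', LinearMap.zero_apply] at hc
      exact zero_ne_one hc
  rw [hsurj, h0]
  refine and_congr_right fun _ => ?_
  have hpos : (Module.length A A).toNat ≠ 0 := by
    have h1 : Module.length A A ≠ ⊤ := by
      have hNoeth : IsNoetherian A A := isNoetherian_of_tower k inferInstance
      have hArt : IsArtinian A A := isArtinian_of_tower k inferInstance
      exact Module.length_ne_top
    have h2 : 0 < Module.length A A := Module.length_pos
    intro h
    rw [ENat.toNat_eq_zero] at h
    rcases h with h | h
    · exact h2.ne' h
    · exact h1 h
  obtain ⟨q, hq⟩ := CharP.exists k
  rcases CharP.char_is_prime_or_zero k q with hqp | hq0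
  · constructor
    · intro h p hp hcp hdvd
      apply h
      exact (CharP.cast_eq_zero_iff k p _).mpr hdvd
    · intro h hz
      exact h q hqp hq ((CharP.cast_eq_zero_iff k q _).mp hz)
  · subst hq0
    have hcz : CharZero k := CharP.charP_to_charZero k
    constructor
    · intro _ p hp hcp
      exfalso
      have := CharP.eq k hcp hq
      exact hp.ne_zero this
    · intro _
      exact_mod_cast hpos

end Groth.Agent.S2219
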