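import Groth.Statements.S2220
import Mathlib
import Groth.Agent.S2197
-- import your own Groth.Agent.* helpers here

set_option autoImplicit false
universe u
open AlgebraicGeometry
open Disc

namespace Groth.Agent.S2220

open TensorProduct CategoryTheory Groth.Agent.S2197

/-- Part (2): for ring maps A -> B' -> B with B' of finite type over A and Spec B -> Spec B' an open
immersion, the Noether different of B over A is the ideal generated by the image of that of B'. -/
theorem result {A B' B : Type u} [CommRing A] [CommRing B']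
    [CommRing B] [Algebra A B'] [Algebra A B] [Algebra B' B] [IsScalarTower A B' B]
    [Algebra.FiniteType A B']
    (h : IsOpenImmersion (Spec.map (CommRingCat.ofHom (algebraMap B' B)))) :
    Disc.noetherDifferent A B = (Disc.noetherDifferent A B').map (algebraMap B' B) := by
  classical
  have hflatM : Module.Flat B' B := by
    have h1 : AlgebraicGeometry.Flat (Spec.map (CommRingCat.ofHom (algebraMap B' B))) :=
      inferInstance
    have h2 := (HasRingHomProperty.Spec_iff (P := @AlgebraicGeometry.Flat)).mp h1
    exact RingHom.flat_algebraMap_iff.mp h2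
  have hepi : Epi (CommRingCat.ofHom (algebraMap B' B)) := by
    have h1 : Mono (Spec.map (CommRingCat.ofHom (algebraMap B' B))) := inferInstance
    have h2 : Mono (CommRingCat.ofHom (algebraMap B' B)).op :=
      Scheme.Spec.mono_of_mono_map h1
    exact (op_mono_iff _).mp h2
  let f : B' →ₐ[A] B := IsScalarTower.toAlgHom A B' B
  let φ : B' ⊗[A] B' →ₐ[A] B ⊗[A] B := Algebra.TensorProduct.map f f
  have hφ_tmul : ∀ x y : B', φ (x ⊗ₜ y) = algebraMap B' B x ⊗ₜ algebraMap B' B y := by
    intro x y
    simp [φ, f]
  have hφflat : φ.toRingHom.Flat := by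
    have hf : f.toRingHom.Flat := by
      show (algebraMap B' B).Flat
      exact RingHom.flat_algebraMap_iff.mpr hflatM
    exact RingHom.Flat.tensorProductMap hf hf
  have hμφ : ∀ t : B' ⊗[A] B', Algebra.TensorProduct.lmul' (S := B) A (φ t) =
      algebraMap B' B (Algebra.TensorProduct.lmul' (S := B') A t) := by
    intro t
    induction t with
    | zero => simp
    | tmul b₁ b₂ => rw [hφ_tmul]; simp
    | add x y hx hy => simp only [map_add, hx, hy]
  -- the ideal of the diagonal of `B` is generated by the image of that of `B'`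
  have hI : KaehlerDifferential.ideal A B =
      Ideal.map φ.toRingHom (KaehlerDifferential.ideal A B') := by
    apply le_antisymm
    · set J := Ideal.map φ.toRingHom (KaehlerDifferential.ideal A B') with hJ
      let g₁ : B →+* (B ⊗[A] B) ⧸ J :=
        (Ideal.Quotient.mk J).comp Algebra.TensorProduct.includeLeftRingHom
      let g₂ : B →+* (B ⊗[A] B) ⧸ J :=
        (Ideal.Quotient.mk J).comp
          (Algebra.TensorProduct.includeRight (R := A) (A := B) (B := B)).toRingHom
      have hg : CommRingCat.ofHom (algebraMap B' B) ≫ CommRingCat.ofHom g₁ =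
          CommRingCat.ofHom (algebraMap B' B) ≫ CommRingCat.ofHom g₂ := by
        ext b'
        show g₁ (algebraMap B' B b') = g₂ (algebraMap B' B b')
        simp only [g₁, g₂, RingHom.comp_apply]
        rw [Ideal.Quotient.eq]
        have e : (Algebra.TensorProduct.includeLeftRingHom (algebraMap B' B b') : B ⊗[A] B) -
            (Algebra.TensorProduct.includeRight (R := A) (A := B) (B := B)).toRingHom
              (algebraMap B' B b') =
            φ.toRingHom (b' ⊗ₜ[A] (1 : B') - (1 : B') ⊗ₜ[A] b') := by
          simp only [AlgHom.toRingHom_eq_coe, RingHom.coe_coe, map_sub, hφ_tmul, map_one]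
          rfl
        rw [e]
        apply Ideal.mem_map_of_mem
        show _ ∈ RingHom.ker _
        rw [RingHom.mem_ker]
        simp
      have hg' : g₁ = g₂ := by
        have := (cancel_epi _).mp hg
        exact congrArg CommRingCat.Hom.hom this
      rw [← KaehlerDifferential.span_range_eq_ideal, Ideal.span_le]
      rintro _ ⟨b, rfl⟩
      have hb := RingHom.congr_fun hg' b
      simp only [g₁, g₂, RingHom.comp_apply] at hb
      rw [Ideal.Quotient.eq] at hb
      have : (1 : B) ⊗ₜ[A] b - b ⊗ₜ[A] (1 : B) =
          -((Algebra.TensorProduct.includeLeftRingHom b : B ⊗[A] B) -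
            (Algebra.TensorProduct.includeRight (R := A) (A := B) (B := B)).toRingHom b) := by
        rw [neg_sub]
        rfl
      show (1 : B) ⊗ₜ[A] b - b ⊗ₜ[A] (1 : B) ∈ J
      rw [this]
      exact neg_mem hb
    · rw [Ideal.map_le_iff_le_comap]
      intro t' ht'
      rw [Ideal.mem_comap]
      show _ ∈ RingHom.ker _
      rw [RingHom.mem_ker]
      have h0 : Algebra.TensorProduct.lmul' (S := B') A t' = 0 := ht'
      have := hμφ t'
      rw [h0, map_zero] at this
      exact this
  -- `φ` maps the annihilator into the annihilator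
  have hφann : ∀ t ∈ Submodule.annihilator (KaehlerDifferential.ideal A B'),
      φ t ∈ Submodule.annihilator (KaehlerDifferential.ideal A B) := by
    intro t ht
    rw [hI, Ideal.map, Ideal.span, Submodule.mem_annihilator_span]
    rintro ⟨_, i', hi', rfl⟩
    have h0 : t * i' = 0 := Submodule.mem_annihilator.mp ht i' hi'
    show φ t * φ.toRingHom i' = 0
    simp only [AlgHom.toRingHom_eq_coe, RingHom.coe_coe]
    rw [← map_mul, h0, map_zero]
  letI algT : Algebra (B' ⊗[A] B') (B ⊗[A] B) := φ.toRingHom.toAlgebra
  haveI flatT : Module.Flat (B' ⊗[A] B') (B ⊗[A] B) := hφflat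
  have hsmul : ∀ (s : B' ⊗[A] B') (t : B ⊗[A] B), s • t = φ s * t := fun s t => rfl
  obtain ⟨G, hG⟩ := (Algebra.FiniteType.out : (⊤ : Subalgebra A B').FG)
  let gen : (↑G : Set B') → B' ⊗[A] B' :=
    fun b => (1 : B') ⊗ₜ[A] (b : B') - (b : B') ⊗ₜ[A] (1 : B')
  let m : (↑G : Set B') → (B' ⊗[A] B' →ₗ[B' ⊗[A] B'] B' ⊗[A] B') :=
    fun b => LinearMap.mulLeft (B' ⊗[A] B') (gen b)
  have hker : ∀ k ∈ LinearMap.ker (LinearMap.pi m),
      k ∈ Submodule.annihilator (KaehlerDifferential.ideal A B') := by
    intro k hk
    apply mem_annihilator_ideal_of_adjoin (↑G) hG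
    intro s hs
    have := congrFun (LinearMap.mem_ker.mp hk) ⟨s, hs⟩
    simp only [LinearMap.pi_apply, m, LinearMap.mulLeft_apply, gen, Pi.zero_apply] at this
    rw [sub_mul, sub_eq_zero] at this
    rw [mul_comm k, mul_comm k]
    exact this
  let ρ : (B ⊗[A] B) ⊗[B' ⊗[A] B'] (B' ⊗[A] B') ≃ₗ[B' ⊗[A] B'] B ⊗[A] B :=
    TensorProduct.rid (B' ⊗[A] B') (B ⊗[A] B)
  have key : ∀ z : (B ⊗[A] B) ⊗[B' ⊗[A] B'] ↥(LinearMap.ker (LinearMap.pi m)),
      Algebra.TensorProduct.lmul' (S := B) A
        (ρ ((LinearMap.ker (LinearMap.pi m)).subtype.lTensor (B ⊗[A] B) z)) ∈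
          (Disc.noetherDifferent A B').map (algebraMap B' B) := by
    intro z
    induction z with
    | zero => simp
    | tmul s k =>
      simp only [LinearMap.lTensor_tmul, Submodule.subtype_apply, ρ, TensorProduct.rid_tmul]
      rw [hsmul, map_mul, hμφ]
      apply Ideal.mul_mem_right
      apply Ideal.mem_map_of_mem
      exact Ideal.mem_map_of_mem _ (hker k k.2)
    | add x y hx hy =>
      simp only [map_add]
      exact add_mem hx hy
  have hsub : ∀ t ∈ Submodule.annihilator (KaehlerDifferential.ideal A B),
      Algebra.TensorProduct.lmul' (S := B) A t ∈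
        (Disc.noetherDifferent A B').map (algebraMap B' B) := by
    intro t ht
    have hx : ∀ b : (↑G : Set B'),
        (m b).lTensor (B ⊗[A] B) (t ⊗ₜ[B' ⊗[A] B'] (1 : B' ⊗[A] B')) = 0 := by
      intro b
      simp only [LinearMap.lTensor_tmul, m, LinearMap.mulLeft_apply, mul_one]
      have e1 : t ⊗ₜ[B' ⊗[A] B'] (gen b) = (gen b • t) ⊗ₜ[B' ⊗[A] B'] (1 : B' ⊗[A] B') := by
        rw [TensorProduct.smul_tmul, smul_eq_mul, mul_one]
      rw [e1, hsmul]
      have hmem : φ (gen b) ∈ KaehlerDifferential.ideal A B := by
        show _ ∈ RingHom.ker _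
        rw [RingHom.mem_ker]
        have : Algebra.TensorProduct.lmul' (S := B) A (φ (gen b)) =
            algebraMap B' B (Algebra.TensorProduct.lmul' (S := B') A (gen b)) := hμφ _
        refine this.trans ?_
        simp [gen]
      have h0 : t * φ (gen b) = 0 := Submodule.mem_annihilator.mp ht _ hmem
      rw [mul_comm, h0, TensorProduct.zero_tmul]
    obtain ⟨z, hz⟩ := mem_range_lTensor_of_flat m _ hx
    have := key z
    rw [hz] at this
    simpa [ρ] using this
  apply le_antisymm
  · unfold Disc.noetherDifferent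
    rw [Ideal.map_le_iff_le_comap]
    intro t ht
    exact hsub t ht
  · unfold Disc.noetherDifferent
    rw [Ideal.map_le_iff_le_comap, Ideal.map_le_iff_le_comap]
    intro t ht
    have h3 : Algebra.TensorProduct.lmul' (S := B) A (φ t) ∈
        Ideal.map (Algebra.TensorProduct.lmul' (S := B) A)
          (Submodule.annihilator (RingHom.ker (Algebra.TensorProduct.lmul' (S := B) A))) :=
      Ideal.mem_map_of_mem _ (hφann t ht)
    rw [hμφ] at h3
    exact h3

end Groth.Agent.S2220
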