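import Groth.Statements.S2225
import Groth.Agent.Lib.Helper73.SpecialFibreGoren

set_option autoImplicit false
universe u
open CategoryTheory AlgebraicGeometry
open Models

namespace Groth.Agent.S2225

/-- Part (1), for the closed fibre: let R be a discrete valuation ring with fraction field K, C a smooth
proper curve over K and X a regular model of C over R (flat, of finite type, all local rings
regular). Then every local ring of the special fibre X_k is a Gorenstein local ring; together with
flatness and regularity of the generic fibre this says X -> Spec R is a Gorenstein morphism. -/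
theorem result (R : Type u) [CommRing R] [IsDomain R]
    [IsDiscreteValuationRing R] (C X : Scheme.{u})
    (f : C ⟶ Spec (CommRingCat.of (FractionRing R))) (p : X ⟶ Spec (CommRingCat.of R))
    (hC : Curve.IsSmoothProperCurve (FractionRing R) C f) (hX : Models.IsModel R X p C f)
    (hreg : Models.IsRegularScheme X) (x : ↥(Models.specialFibre R X p)) :
    LocCoh.IsGorensteinLocalRing ((Models.specialFibre R X p).presheaf.stalk x) := by
  obtain ⟨hflat, hlft, hqc, -⟩ := hX
  haveI : IsLocallyNoetherian X := LocallyOfFiniteType.isLocallyNoetherian p
  have hG : ∀ y : X, LocCoh.IsGorensteinLocalRing (X.presheaf.stalk y) := fun y => by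
    have := hreg y
    exact Groth.Agent.S0342.result _
  let g := Spec.map (CommRingCat.ofHom (algebraMap R (IsLocalRing.ResidueField R)))
  let g' : Models.specialFibre R X p ⟶ X := Limits.pullback.fst p g
  let f' : Models.specialFibre R X p ⟶ Spec (CommRingCat.of (IsLocalRing.ResidueField R)) :=
    Limits.pullback.snd p g
  have hc : IsPullback g' f' p g := IsPullback.of_hasPullback p g
  have h1 := (Groth.Agent.Lib.Helper24.isGorensteinAt_and_base_of_flat_of_gorenstein_source
    p hG (g' x)).1
  have hN : IsLocallyNoetherian (p.fiber (g (f' x))) :=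
    Groth.Agent.Lib.Helper73.SpecialFibreGoren.isLocallyNoetherian_fiber p _
  have h2 := (Groth.Agent.Lib.Helper24.isGorensteinLocalRing_fibre_stalk_iff_of_isPullback
    hc x hN (Or.inr hlft)).mpr h1.2
  obtain ⟨e⟩ := Groth.Agent.Lib.Helper24.nonempty_fibre_stalk_ringEquiv_quotient f' x
  have hm := Groth.Agent.Lib.Helper24.maximalIdeal_stalk_Spec_field_eq_bot (f' x)
  let e' : (↑((Models.specialFibre R X p).presheaf.stalk x) ⧸
      (IsLocalRing.maximalIdeal ↑((Spec (CommRingCat.of (IsLocalRing.ResidueField R))).presheaf.stalk
        (f' x))).map (f'.stalkMap x).hom) ≃+*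
      ↑((Models.specialFibre R X p).presheaf.stalk x) :=
    (Ideal.quotEquivOfEq (by rw [hm, Ideal.map_bot])).trans (RingEquiv.quotientBot _)
  exact Groth.Agent.Lib.Helper24.isGorensteinLocalRing_of_ringEquiv (e.trans e') h2

end Groth.Agent.S2225
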