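import Groth.Statements.S2228
import Mathlib
import Groth.Agent.S2215

set_option autoImplicit false
universe u
open TensorProduct
open Disc

namespace Groth.Agent.S2228

open TensorProduct
open Groth.Agent.S2215 (θ θ_tmul θ_left θ_right eq_sum θ_trace trace_eq_sum toLinearMap_sum)

section Helpers

variable {A : Type*} {B : Type*} [CommRing A] [CommRing B] [Algebra A B]

/-- the element of `B ⊗ B` attached to a `B`-linear map `ω → B` -/
theorem exists_tensor_of_linearMap {ι : Type*} [Fintype ι] [DecidableEq ι]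
    (b : Module.Basis ι A B) (Φ : Disc.Omega A B →ₗ[B] B) :
    (∀ ψ : Disc.Omega A B, θ ψ.toLinearMap (∑ j, b j ⊗ₜ[A] Φ ⟨b.coord j⟩) = Φ ψ) ∧
      (∑ j, b j ⊗ₜ[A] Φ ⟨b.coord j⟩) ∈
        Submodule.annihilator (KaehlerDifferential.ideal A B) := by
  set t : B ⊗[A] B := ∑ j, b j ⊗ₜ[A] Φ ⟨b.coord j⟩ with ht
  have hΘ : ∀ ψ : Disc.Omega A B, θ ψ.toLinearMap t = Φ ψ := by
    intro ψ
    simp only [t, map_sum, θ_tmul]
    have e1 : ∀ j, ψ.toLinearMap (b j) • Φ ⟨b.coord j⟩ =
        Φ (algebraMap A B (ψ.toLinearMap (b j)) • (⟨b.coord j⟩ : Disc.Omega A B)) := by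
      intro j
      rw [map_smul, smul_eq_mul, Algebra.smul_def]
    simp_rw [e1]
    rw [← map_sum]
    congr 1
    apply Disc.Omega.ext
    rw [toLinearMap_sum]
    ext x
    rw [LinearMap.sum_apply]
    simp only [Disc.Omega.smul_toLinearMap_apply, Module.Basis.coord_apply]
    conv_rhs => rw [← b.sum_repr x, map_sum]
    refine Finset.sum_congr rfl (fun j _ => ?_)
    rw [← Algebra.smul_def, map_smul, map_smul, Finsupp.smul_apply, smul_eq_mul, smul_eq_mul,
      mul_comm]
  refine ⟨hΘ, ?_⟩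
  rw [Groth.Agent.S2197.mem_annihilator_ideal_iff]
  intro s
  rw [eq_sum b (t * ((1 : B) ⊗ₜ[A] s)), eq_sum b (t * (s ⊗ₜ[A] (1 : B)))]
  refine Finset.sum_congr rfl (fun j _ => ?_)
  congr 1
  rw [mul_comm t, mul_comm t, θ_right, θ_left]
  have h1 := hΘ ⟨b.coord j⟩
  have h2 := hΘ (s • (⟨b.coord j⟩ : Disc.Omega A B))
  have h3 : (s • (⟨b.coord j⟩ : Disc.Omega A B)).toLinearMap =
      b.coord j ∘ₗ LinearMap.mulLeft A s := rfl
  rw [h3] at h2
  rw [h2, map_smul, smul_eq_mul, ← h1]

theorem lift_eq_θ (ψ : B →ₗ[A] A) (ξ : B ⊗[A] B) :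
    TensorProduct.lift ((LinearMap.lsmul A B).comp ψ) ξ = θ ψ ξ := by
  induction ξ with
  | zero => simp
  | tmul x y => simp
  | add x y hx hy => simp only [map_add, hx, hy]

end Helpers

/-- Special case: B finite free over the Noetherian ring A (the source allows flat quasi-finite maps).
Let J be the annihilator of the kernel of the multiplication map B tensor_A B -> B and omega =
Hom_A(B, A) with its B-module structure through the argument. Pairing xi = sum of b_i tensor c_i in
J with lambda in omega to the sum of lambda(b_i) c_i identifies J with the B-linear maps omega -> B: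
every B-linear Phi : omega -> B arises from exactly one xi in J in this way. -/
theorem result {A B : Type u} [CommRing A] [CommRing B] [Algebra A B]
    [IsNoetherianRing A] [Module.Finite A B] [Module.Free A B] (Φ : Disc.Omega A B →ₗ[B] B) :
    ∃! ξ : B ⊗[A] B,
      ξ ∈ Submodule.annihilator (RingHom.ker (Algebra.TensorProduct.lmul' (S := B) A)) ∧
        ∀ l : Disc.Omega A B,
          Φ l = TensorProduct.lift ((LinearMap.lsmul A B).comp l.toLinearMap) ξ := by
  classical
  let b := Module.Free.chooseBasis A B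
  obtain ⟨hΘ, hann⟩ := exists_tensor_of_linearMap b Φ
  refine ⟨∑ j, b j ⊗ₜ[A] Φ ⟨b.coord j⟩, ⟨hann, fun l => by rw [lift_eq_θ, hΘ]⟩, ?_⟩
  rintro ξ ⟨hξ, hξΦ⟩
  rw [eq_sum b ξ]
  refine Finset.sum_congr rfl (fun j _ => ?_)
  congr 1
  rw [← lift_eq_θ]
  exact (hξΦ ⟨b.coord j⟩).symm

end Groth.Agent.S2228
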