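import Groth.Statements.S2237
import Mathlib
import Groth.Agent.S9287
import Groth.Agent.Lib.Helper82.SyntLocal

set_option autoImplicit false
universe u
attribute [local instance] HasDerivedCategory.standard
open LCI

namespace Groth.Agent.S2237



/-- Implication (2) to (5), affine form: let A -> B be flat, quasi-finite and a local complete
intersection homomorphism (finite type with a Koszul-regular presentation). Then for every prime q
of B there are g in B outside q, a natural number n and polynomials f_1, ..., f_n in A[x_1, ...,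
x_n] such that B_g is isomorphic as an A-algebra to A[x_1, ..., x_n]/(f_1, ..., f_n). -/
theorem result {A B : Type u} [CommRing A]
    [CommRing B] [Algebra A B] [Module.Flat A B] [Algebra.QuasiFinite A B] (hlci : LCI.IsLCI A B)
    (q : Ideal B) [q.IsPrime] :
    ∃ g : B, g ∉ q ∧ ∃ (n : ℕ) (f : Fin n → MvPolynomial (Fin n) A),
      Nonempty (Localization.Away g ≃ₐ[A]
        (MvPolynomial (Fin n) A ⧸ Ideal.span (Set.range f))) := by
  have hsynt : Synt.IsSyntomic A B := (Groth.Agent.S9287.result A B).mpr ⟨inferInstance, hlci⟩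
  obtain ⟨g, hg, n, c, F, hF, ⟨e⟩⟩ :=
    Groth.Agent.Lib.Helper82.SyntLocal.exists_relGCI_of_isSyntomic (R := A) B hsynt q
  refine ⟨g, hg, ?_⟩
  -- the prime of the presented ring corresponding to `q`
  have hdisj : Disjoint (Submonoid.powers g : Set B) (q : Set B) := by
    rw [Set.disjoint_left]
    rintro x ⟨k, rfl⟩ hx
    exact hg (Ideal.IsPrime.mem_of_pow_mem inferInstance k hx)
  have hqg : (q.map (algebraMap B (Localization.Away g))).IsPrime :=
    IsLocalization.isPrime_of_isPrime_disjoint (Submonoid.powers g) _ q inferInstance hdisj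
  have hqg' : (q.map (algebraMap B (Localization.Away g))).comap
      (algebraMap B (Localization.Away g)) = q :=
    IsLocalization.under_map_of_isPrime_disjoint (Submonoid.powers g) _ inferInstance hdisj
  set q'' : Ideal (Synt.RelGCIRing A n c F) :=
    (q.map (algebraMap B (Localization.Away g))).comap (e.symm : _ →+* Localization.Away g)
    with hq''
  haveI hq''p : q''.IsPrime := Ideal.comap_isPrime _ _
  set p : Ideal A := q''.under A with hp
  haveI : q''.LiesOver p := ⟨rfl⟩
  -- the fibre over `p` is nontrivial and Artinian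
  have hnt : Nontrivial (p.Fiber (Synt.RelGCIRing A n c F)) := by
    obtain ⟨Q, hQp, -⟩ := Groth.Agent.Lib.Helper29.exists_fiber_prime p q''
    exact ⟨⟨0, 1, fun h => hQp.ne_top ((Ideal.eq_top_iff_one Q).mpr (h ▸ Q.zero_mem))⟩⟩
  haveI : Algebra.QuasiFinite A (Synt.RelGCIRing A n c F) :=
    (Algebra.QuasiFinite.iff_of_algEquiv e).mp inferInstance
  obtain ⟨hcn, hdim⟩ := hF ⟨p, inferInstance⟩ hnt
  haveI : IsArtinianRing (p.Fiber (Synt.RelGCIRing A n c F)) := inferInstance
  have hle : ringKrullDim (p.Fiber (Synt.RelGCIRing A n c F)) ≤ 0 := by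
    have h0 := (isArtinianRing_iff_isNoetherianRing_krullDimLE_zero
      (R := p.Fiber (Synt.RelGCIRing A n c F))).mp inferInstance
    exact Ring.krullDimLE_iff.mp h0.2
  rw [hdim] at hle
  have hnc : n - c = 0 := by
    have : ((n - c : ℕ) : WithBot ℕ∞) ≤ ((0 : ℕ) : WithBot ℕ∞) := by simpa using hle
    exact Nat.le_zero.mp (by exact_mod_cast this)
  have hcn' : c = n := by omega
  subst hcn'
  exact ⟨c, F, ⟨e⟩⟩

end Groth.Agent.S2237
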