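import Groth.Statements.S2324
import Mathlib
import Groth.Agent.Lib.Helper11.AmpleFinite
import Groth.Agent.S2327

set_option autoImplicit false
universe u
open CategoryTheory CategoryTheory.Limits AlgebraicGeometry
open EGA2

namespace Groth.Agent.S2324

section helpers

open AlgebraicGeometry CategoryTheory Limits TopologicalSpace
open Groth.Agent.Lib.Helper11.GenLocus Groth.Agent.Lib.Helper45 Groth.Agent.Lib.Helper49

theorem main_S2324 (X : Scheme.{u}) [CompactSpace X] (L : X.Modules) (hL : CohB1.IsAmple L)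
    (Z : Set X) (hZ : Z.Finite) (U : X.Opens) (hZU : Z ⊆ U) :
    ∃ (n : ℕ) (s : Coh.structureModule X ⟶ CohB1.tensorPow L (n + 1)),
      Z ⊆ CohB1.genLocus _ s ∧ (CohB1.genLocus _ s : Set X) ⊆ U ∧
        IsAffineOpen (CohB1.genLocus _ s) := by
  have hqs := quasiSeparatedSpace_of_isAmple hL
  obtain ⟨m, t, hZt⟩ := exists_section_of_finite hL Z hZ
  have hP : CohB1.IsAmple (CohB1.tensorPow L (m + 1)) :=
    (Groth.Agent.S2327.main_S2327 X L hL.1 (m + 1) (Nat.succ_pos m)).mp hL
  have hYaff : IsAffineHom (CohB1.genLocus _ t).ι :=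
    isAffineHom_genLocus_ι (isInvertible_tensorPow hL.1 (m + 1)) t
  have hYc : CompactSpace ((CohB1.genLocus _ t : X.Opens) : Scheme.{u}) :=
    isCompact_univ_iff.mp (QuasiCompact.isCompact_preimage (f := (CohB1.genLocus _ t).ι)
      Set.univ isOpen_univ isCompact_univ)
  have h1 : CohB1.IsAmple ((CohB1.tensorPow L (m + 1)).restrict (CohB1.genLocus _ t).ι) :=
    isAmple_restrict (CohB1.genLocus _ t).ι hP
  have hb : IsBasisOn (CohB1.tensorPow L (m + 1)) (CohB1.genLocus _ t)
      (sec t (CohB1.genLocus _ t)) := (le_genLocus_iff_isBasisOn t _).mp le_rfl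
  obtain ⟨e⟩ := nonempty_iso_of_isBasisOn hb
  have h2 := isAmple_of_iso e h1
  have hQA : ((CohB1.genLocus _ t : X.Opens) : Scheme.{u}).IsQuasiAffine :=
    (isQuasiAffine_iff_isAmple _).mpr h2
  have hEfin : ((CohB1.genLocus _ t).ι.base ⁻¹' Z).Finite :=
    hZ.preimage (CohB1.genLocus _ t).ι.isOpenEmbedding.injective.injOn
  obtain ⟨r, hr, hE, hW⟩ := exists_basicOpen_of_finite ((CohB1.genLocus _ t).ι ⁻¹ᵁ U)
    ((CohB1.genLocus _ t).ι.base ⁻¹' Z) hEfin (fun y hy => hZU hy)
  have himg := (CohB1.genLocus _ t).ι_image_basicOpen_topIso_inv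
    ((CohB1.genLocus _ t).topIso.hom r)
  have hrr : (CohB1.genLocus _ t).topIso.inv ((CohB1.genLocus _ t).topIso.hom r) = r :=
    congrArg (fun g => g.hom r) (CohB1.genLocus _ t).topIso.hom_inv_id
  rw [hrr] at himg
  obtain ⟨N, σ, hσ⟩ := exists_genLocus_eq_basicOpen_of_section L hL.1 m t
    ((CohB1.genLocus _ t).topIso.hom r)
  refine ⟨N, σ, ?_, ?_, ?_⟩
  · rw [hσ, ← himg]
    intro z hz
    exact ⟨⟨z, hZt hz⟩, hE (show (⟨z, hZt hz⟩ : (CohB1.genLocus _ t)) ∈ _ from hz), rfl⟩
  · rw [hσ, ← himg]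
    rintro _ ⟨y, hy, rfl⟩
    exact hW hy
  · rw [hσ, ← himg]
    exact hr.image_of_isOpenImmersion (CohB1.genLocus _ t).ι


end helpers

/-- Let X be a quasi-compact separated scheme, L an ample invertible O_X-module, Z a finite set of
points of X and U an open subset containing Z. Then for some n > 0 and some global section s of
L^{⊗n}, the open X_s where s generates is affine, contains Z and is contained in U. -/
theorem result (X : Scheme.{u}) [CompactSpace X] [X.IsSeparated] (L : X.Modules) (hL : CohB1.IsAmple L)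
    (Z : Set X) (hZ : Z.Finite) (U : X.Opens) (hZU : Z ⊆ U) :
    ∃ (n : ℕ) (s : Coh.structureModule X ⟶ CohB1.tensorPow L (n + 1)),
      Z ⊆ CohB1.genLocus _ s ∧ (CohB1.genLocus _ s : Set X) ⊆ U ∧ IsAffineOpen (CohB1.genLocus _ s) := by
  exact main_S2324 X L hL Z hZ U hZU

end Groth.Agent.S2324
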