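import Groth.Statements.S2333
import Mathlib
import Groth.Agent.Lib.Helper11.AmpleLocal

set_option autoImplicit false
universe u
open CategoryTheory CategoryTheory.Limits AlgebraicGeometry
open EGA2

namespace Groth.Agent.S2333

section helpers

open AlgebraicGeometry CategoryTheory Limits TopologicalSpace
open Groth.Agent.Lib.Helper11.GenLocus

theorem main_S2333 {X Y Z : Scheme.{u}} (f : X ⟶ Y) (g : Y ⟶ Z) [QuasiCompact f]
    (L : X.Modules) (hL : RelAmple.IsRelAmple (f ≫ g) L) : RelAmple.IsRelAmple f L := by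
  refine ⟨inferInstance, fun V => ?_⟩
  have hc : IsCompact ((f ⁻¹ᵁ V.1 : X.Opens) : Set X) :=
    QuasiCompact.isCompact_preimage (f := f) V.1.1 V.1.2 V.2.isCompact
  have hloc : ∀ y : V.1, ∃ a : Γ(Y, V.1), y.1 ∈ Y.basicOpen a ∧
      ∃ T : Z.affineOpens, Y.basicOpen a ≤ g ⁻¹ᵁ T.1 := by
    intro y
    obtain ⟨_, ⟨T, hT, rfl⟩, hyT, -⟩ := Z.isBasis_affineOpens.exists_subset_of_mem_open
      (Set.mem_univ (g.base y.1)) isOpen_univ
    obtain ⟨a, haT, hya⟩ := V.2.exists_basicOpen_le (V := g ⁻¹ᵁ T) ⟨y.1, hyT⟩ y.2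
    exact ⟨a, hya, ⟨T, hT⟩, haT⟩
  choose a hya T haT using hloc
  apply isAmple_restrict_preimage_of_basicOpen_cover f L V.1 hc a
    (fun y hy => ⟨⟨y, hy⟩, hya ⟨y, hy⟩⟩)
  intro y
  have h1 := hL.2 (T y)
  refine isAmple_restrict_of_le (U' := (f ≫ g) ⁻¹ᵁ (T y).1) ?_ ?_ L h1
  · intro x hx
    exact haT y hx
  · exact QuasiCompact.isCompact_preimage (f := f) _ (Y.basicOpen (a y)).2
      (V.2.basicOpen (a y)).isCompact


end helpers

/-- Let f : X → Y and g : Y → Z be morphisms of schemes with f quasi-compact, and L an O_X-module which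
is ample relative to the composite g ∘ f. Then L is ample relative to f. (No separatedness
hypothesis on g is imposed.) -/
theorem result {X Y Z : Scheme.{u}} (f : X ⟶ Y) (g : Y ⟶ Z) [QuasiCompact f]
    (L : X.Modules) (hL : RelAmple.IsRelAmple (f ≫ g) L) : RelAmple.IsRelAmple f L := by
  exact main_S2333 f g L hL

end Groth.Agent.S2333
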