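import Groth.Statements.S2335
import Groth.Agent.Lib.Helper78.DVRValuative

set_option autoImplicit false
universe u
open CategoryTheory CategoryTheory.Limits AlgebraicGeometry
open EGA2

namespace Groth.Agent.S2335

/-- Let Y be locally Noetherian and f : X → Y of finite type. Then f is proper if and only if for every
discrete valuation ring A with fraction field K and every commutative square Spec K → X, Spec A → Y,
there is exactly one morphism Spec A → X making both triangles commute. -/
theorem result {X Y : Scheme.{u}} [IsLocallyNoetherian Y] (f : X ⟶ Y) [LocallyOfFiniteType f] [QuasiCompact f] :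
    IsProper f ↔ ∀ (A : Type u) [CommRing A] [IsDomain A] [IsDiscreteValuationRing A] (x : (Spec (CommRingCat.of (FractionRing A))) ⟶ X) (y : (Spec (CommRingCat.of A)) ⟶ Y),
      x ≫ f = (Spec.map (CommRingCat.ofHom (algebraMap A (FractionRing A)))) ≫ y → ∃! l : (Spec (CommRingCat.of A)) ⟶ X, l ≫ f = y ∧ (Spec.map (CommRingCat.ofHom (algebraMap A (FractionRing A)))) ≫ l = x := by
  constructor
  · intro hf A _ _ _ x y w
    obtain ⟨l, hl₁, hl₂⟩ := Groth.Agent.Lib.Helper78.DVRExistence.of_universallyClosed (f := f) A x y w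
    refine ⟨l, ⟨hl₁, hl₂⟩, ?_⟩
    rintro l' ⟨hl₁', hl₂'⟩
    exact Groth.Agent.Lib.Helper78.DVRUniqueness.of_isSeparated (f := f) A l' l
      (hl₁'.trans hl₁.symm) (hl₂'.trans hl₂.symm)
  · intro H
    refine Groth.Agent.Lib.Helper78.isProper_of_dvr ?_ ?_
    · intro A _ _ _ x y w
      exact (H A x y w).exists
    · intro A _ _ _ g₁ g₂ h1 h2
      have := H A (Spec.map (CommRingCat.ofHom (algebraMap A (FractionRing A))) ≫ g₁) (g₁ ≫ f)
        (by rw [Category.assoc])
      exact this.unique ⟨rfl, rfl⟩ ⟨h1.symm, h2.symm⟩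

end Groth.Agent.S2335
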