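import Groth.Statements.S2337
import Mathlib
import Groth.Agent.Lib.Helper11.GenLocus

set_option autoImplicit false
universe u
open CategoryTheory CategoryTheory.Limits AlgebraicGeometry
open EGA2

namespace Groth.Agent.S2337

section helpers

open AlgebraicGeometry CategoryTheory Limits TopologicalSpace
open Groth.Agent.Lib.Helper11.GenLocus

theorem main_S2337 {X Y : Scheme.{u}} (f : X ⟶ Y) [QuasiCompact f] :
    Mor2.IsQuasiAffine f ↔ RelAmple.IsRelAmple f (Coh.structureModule X) := by
  have key : ∀ V : Y.Opens, (f ⁻¹ᵁ V : Scheme.{u}).IsQuasiAffine ↔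
      CohB1.IsAmple ((Coh.structureModule X).restrict (f ⁻¹ᵁ V).ι) := by
    intro V
    rw [isQuasiAffine_iff_isAmple]
    exact ⟨isAmple_of_iso (Scheme.Modules.restrictUnitIso (f ⁻¹ᵁ V).ι).symm,
      isAmple_of_iso (Scheme.Modules.restrictUnitIso (f ⁻¹ᵁ V).ι)⟩
  constructor
  · rintro ⟨h1, h2⟩
    exact ⟨h1, fun V => (key V.1).mp (h2 V.1 V.2)⟩
  · rintro ⟨h1, h2⟩
    exact ⟨h1, fun V hV => (key V).mpr (h2 ⟨V, hV⟩)⟩

end helpers


/-- Let f : X → Y be quasi-compact. Then f is quasi-affine (preimages of affine opens are quasi-affine)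
if and only if O_X is ample relative to f. -/
theorem result {X Y : Scheme.{u}} (f : X ⟶ Y) [QuasiCompact f] :
    Mor2.IsQuasiAffine f ↔ RelAmple.IsRelAmple f (Coh.structureModule X) := by
  exact main_S2337 f

end Groth.Agent.S2337
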