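import Groth.Statements.S2338
import Mathlib
import Groth.Agent.Lib.Helper11.QuasiAffine

set_option autoImplicit false
universe u
open CategoryTheory CategoryTheory.Limits AlgebraicGeometry
open EGA2

namespace Groth.Agent.S2338

/-- The composite of two quasi-affine morphisms is quasi-affine. -/
theorem result {X Y Z : Scheme.{u}} (f : X ⟶ Y) (g : Y ⟶ Z) (hf : Mor2.IsQuasiAffine f) (hg : Mor2.IsQuasiAffine g) :
    Mor2.IsQuasiAffine (f ≫ g) := by
  have := hf.1
  have := hg.1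
  refine ⟨inferInstance, fun W hW => ?_⟩
  have : (g ⁻¹ᵁ W : Scheme.{u}).IsQuasiAffine := hg.2 W hW
  have hres : Mor2.IsQuasiAffine (f ∣_ (g ⁻¹ᵁ W)) :=
    Groth.Agent.Lib.Helper11.isQuasiAffineHom_morphismRestrict f hf (g ⁻¹ᵁ W)
  exact Groth.Agent.Lib.Helper11.isQuasiAffine_of_isQuasiAffineHom (f ∣_ (g ⁻¹ᵁ W)) hres

end Groth.Agent.S2338
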