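import Groth.Statements.S2340
import Mathlib
import Groth.Agent.Lib.Helper11.QuasiAffine

set_option autoImplicit false
universe u
open CategoryTheory CategoryTheory.Limits AlgebraicGeometry
open EGA2

namespace Groth.Agent.S2340

/-- Let f : X → Y and g : Y → Z be morphisms of schemes with g ∘ f quasi-affine and g quasi-separated.
Then f is quasi-affine. -/
theorem result {X Y Z : Scheme.{u}} (f : X ⟶ Y) (g : Y ⟶ Z) [QuasiSeparated g]
    (h : Mor2.IsQuasiAffine (f ≫ g)) : Mor2.IsQuasiAffine f := by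
  have hqc := h.1
  have : QuasiCompact f := QuasiCompact.of_comp f g
  refine Groth.Agent.Lib.Helper11.isQuasiAffineHom_of_forall_exists f fun y => ?_
  obtain ⟨W, hW, hzW⟩ : ∃ W : Z.Opens, IsAffineOpen W ∧ g y ∈ W := by
    obtain ⟨_, ⟨W, hW, rfl⟩, hzW, -⟩ :=
      Z.isBasis_affineOpens.exists_subset_of_mem_open (Set.mem_univ (g y)) isOpen_univ
    exact ⟨W, hW, hzW⟩
  obtain ⟨V, hV, hyV, hVW⟩ : ∃ V : Y.Opens, IsAffineOpen V ∧ y ∈ V ∧ V ≤ g ⁻¹ᵁ W := by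
    obtain ⟨_, ⟨V, hV, rfl⟩, hyV, hVW⟩ :=
      Y.isBasis_affineOpens.exists_subset_of_mem_open (show y ∈ (g ⁻¹ᵁ W : Set Y) from hzW)
        (g ⁻¹ᵁ W).2
    exact ⟨V, hV, hyV, hVW⟩
  refine ⟨V, hV, hyV, ?_⟩
  have := h.2 W hW
  have hle : f ⁻¹ᵁ V ≤ (f ≫ g) ⁻¹ᵁ W := fun x hx => hVW hx
  have : CompactSpace (f ⁻¹ᵁ V).toScheme :=
    isCompact_iff_compactSpace.mp (f.isCompact_preimage hV.isCompact)
  exact Scheme.IsQuasiAffine.of_isImmersion (X.homOfLE hle)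

end Groth.Agent.S2340
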