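import Groth.Statements.S2341
import Mathlib

set_option autoImplicit false
universe u
open CategoryTheory CategoryTheory.Limits AlgebraicGeometry
open EGA2

namespace Groth.Agent.S2341

open AlgebraicGeometry CategoryTheory in
/-- A scheme with a quasi-compact topological embedding into an affine scheme is quasi-affine. -/
theorem isQuasiAffine_of_isEmbedding_of_isAffine {X Y : Scheme.{u}} [IsAffine Y] (f : X ⟶ Y)
    [QuasiCompact f] (hf : Topology.IsEmbedding f) : X.IsQuasiAffine := by
  have : CompactSpace X := QuasiCompact.compactSpace_of_compactSpace f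
  refine Scheme.IsQuasiAffine.of_forall_exists_mem_basicOpen X fun x => ?_
  obtain ⟨W, hW, hxW⟩ : ∃ W : X.Opens, IsAffineOpen W ∧ x ∈ W := by
    obtain ⟨_, ⟨W, hW, rfl⟩, hxW, -⟩ :=
      X.isBasis_affineOpens.exists_subset_of_mem_open (Set.mem_univ x) isOpen_univ
    exact ⟨W, hW, hxW⟩
  obtain ⟨W', hW'open, hW'⟩ := hf.isInducing.isOpen_iff.mp W.2
  have hfxW' : f x ∈ W' := by
    have : x ∈ f ⁻¹' W' := by rw [hW']; exact hxW
    exact this
  obtain ⟨_, ⟨_, ⟨r, rfl⟩, rfl⟩, hxr, hrW'⟩ :=
    (isBasis_basicOpen Y).exists_subset_of_mem_open hfxW' hW'open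
  refine ⟨f.appTop r, ?_, ?_⟩
  · have hle : X.basicOpen (f.appTop r) ≤ W := by
      rw [← Scheme.preimage_basicOpen_top]
      intro z hz
      have : z ∈ f ⁻¹' W' := hrW' hz
      rw [hW'] at this
      exact this
    have h1 : X.basicOpen (X.presheaf.map (homOfLE le_top : W ⟶ ⊤).op (f.appTop r)) =
        X.basicOpen (f.appTop r) := by
      rw [Scheme.basicOpen_res]
      exact inf_eq_right.mpr hle
    rw [← h1]
    exact hW.basicOpen _
  · rw [← Scheme.preimage_basicOpen_top]
    exact hxr

/-- A quasi-compact morphism X → Y whose underlying map is a homeomorphism onto its image (for instance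
a closed immersion) is quasi-affine. -/
theorem result {X Y : Scheme.{u}} (f : X ⟶ Y) [QuasiCompact f]
    (hf : Topology.IsEmbedding f.base) : Mor2.IsQuasiAffine f := by
  refine ⟨inferInstance, fun V hV => ?_⟩
  have : IsAffine V.toScheme := hV
  refine isQuasiAffine_of_isEmbedding_of_isAffine (f ∣_ V) ?_
  rw [morphismRestrict_base]
  exact Set.restrictPreimage_isEmbedding _ hf

end Groth.Agent.S2341
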