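import Groth.Statements.S2343
import Mathlib
import Groth.Agent.S0544

set_option autoImplicit false
universe u
open CategoryTheory CategoryTheory.Limits AlgebraicGeometry
open EGA2

namespace Groth.Agent.S2343

section Helpers

open IsLocalRing

/-- `Spec O_{X,x} ⟶ X` is flat. -/
theorem flat_fromSpecStalk' (X : Scheme.{u}) (x : X) : Flat (X.fromSpecStalk x) := by
  obtain ⟨_, ⟨U, hU, rfl⟩, hxU, -⟩ :=
    X.isBasis_affineOpens.exists_subset_of_mem_open (Set.mem_univ x) isOpen_univ
  rw [← hU.fromSpecStalk_eq_fromSpecStalk hxU]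
  delta IsAffineOpen.fromSpecStalk
  have : Flat (Spec.map (X.presheaf.germ U x hxU)) := by
    rw [HasRingHomProperty.Spec_iff (P := @Flat)]
    let := TopCat.Presheaf.algebra_section_stalk X.presheaf ⟨x, hxU⟩
    have := hU.isLocalization_stalk ⟨x, hxU⟩
    have : Module.Flat Γ(X, U) (X.presheaf.stalk x) :=
      IsLocalization.flat _ (hU.primeIdealOf ⟨x, hxU⟩).asIdeal.primeCompl
    exact this
  have := hU.isOpenImmersion_fromSpec
  infer_instance

/-- A quasi-finite local algebra `B` over a complete Noetherian local ring `A`, with `B`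
Noetherian local and `A → B` local, is finite. -/
theorem finite_of_quasiFinite_of_complete (A B : Type u) [CommRing A] [IsLocalRing A]
    [IsNoetherianRing A] [IsAdicComplete (maximalIdeal A) A]
    [CommRing B] [IsLocalRing B] [IsNoetherianRing B] [Algebra A B]
    [IsLocalHom (algebraMap A B)] [Algebra.QuasiFinite A B] : Module.Finite A B := by
  have hle : (maximalIdeal A).map (algebraMap A B) ≤ maximalIdeal B :=
    ((IsLocalRing.local_hom_TFAE (algebraMap A B)).out 0 2).mp ‹IsLocalHom (algebraMap A B)›
  have : IsHausdorff (maximalIdeal A) B := IsHausdorff.of_map hle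
  let e : (maximalIdeal A).Fiber B ≃ₐ[A] B ⧸ (maximalIdeal A).map (algebraMap A B) :=
    (Algebra.TensorProduct.congr (.symm <| .ofBijective _
      (Ideal.bijective_algebraMap_quotient_residueField (maximalIdeal A))) .refl).trans <|
    (Algebra.TensorProduct.comm _ _ _).trans
    ((Algebra.TensorProduct.quotIdealMapEquivTensorQuot B (maximalIdeal A)).symm.restrictScalars _)
  have h1 : Module.Finite A (B ⧸ (maximalIdeal A).map (algebraMap A B)) :=
    have : Module.Finite A ((maximalIdeal A).Fiber B) :=
      .trans (maximalIdeal A).ResidueField _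
    .of_surjective e.toLinearMap e.surjective
  have h2 : Module.Finite A (B ⧸ ((maximalIdeal A) • ⊤ : Submodule A B)) := by
    rw [Ideal.smul_top_eq_map]
    exact .of_surjective
      (Submodule.Quotient.restrictScalarsEquiv A
        ((maximalIdeal A).map (algebraMap A B))).symm.toLinearMap
      (Submodule.Quotient.restrictScalarsEquiv A _).symm.surjective
  exact Groth.Agent.S0544.result A (maximalIdeal A) B h2

end Helpers

/-- Let A be a complete Noetherian local ring, X a separated scheme locally of finite type over Spec A,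
and x a point of X over the closed point which is isolated in its fibre. Then the local ring of X at
x is a finite A-module and the canonical morphism Spec O_{X,x} → X is both an open and a closed
immersion (X is the disjoint sum of Spec O_{X,x} and another open subscheme). -/
theorem result (A : Type u) [CommRing A] [IsLocalRing A] [IsNoetherianRing A]
    [IsAdicComplete (IsLocalRing.maximalIdeal A) A] (X : Scheme.{u}) (f : X ⟶ Spec (CommRingCat.of A)) [LocallyOfFiniteType f] [IsSeparated f]
    (x : X) (hx : f.base x = IsLocalRing.closedPoint A)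
    (hisol : IsOpen ((Subtype.val : (f.base ⁻¹' {IsLocalRing.closedPoint A}) → X) ⁻¹' {x})) :
    ((Scheme.ΓSpecIso (CommRingCat.of A)).inv ≫ f.appTop ≫ X.presheaf.germ ⊤ x trivial).hom.Finite ∧ IsOpenImmersion (X.fromSpecStalk x) ∧ IsClosedImmersion (X.fromSpecStalk x) := by
  classical
  -- notation
  set B := X.presheaf.stalk x with hB
  set g := X.fromSpecStalk x with hg
  have hnX : IsLocallyNoetherian X := LocallyOfFiniteType.isLocallyNoetherian f
  -- ψ : A → O_{Spec A, f x}
  let ψ : CommRingCat.of A ⟶ (Spec (CommRingCat.of A)).presheaf.stalk (f.base x) :=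
    (Scheme.ΓSpecIso (CommRingCat.of A)).inv ≫
      (Spec (CommRingCat.of A)).presheaf.germ ⊤ (f.base x) trivial
  have hψ : IsIso ψ := by
    have key : ∀ (y : Spec (CommRingCat.of A)) (hy : y = IsLocalRing.closedPoint A),
        IsIso ((Scheme.ΓSpecIso (CommRingCat.of A)).inv ≫
          (Spec (CommRingCat.of A)).presheaf.germ ⊤ y trivial) := by
      rintro y rfl
      have : (Scheme.ΓSpecIso (CommRingCat.of A)).inv ≫
          (Spec (CommRingCat.of A)).presheaf.germ ⊤ (IsLocalRing.closedPoint A) trivial =
          (stalkClosedPointIso (CommRingCat.of A)).inv := by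
        rw [Iso.inv_comp_eq, ΓSpecIso_hom_stalkClosedPointIso_inv]
      rw [this]
      infer_instance
    exact key _ hx
  -- φ = ψ ≫ stalkMap
  have hφ : (Scheme.ΓSpecIso (CommRingCat.of A)).inv ≫ f.appTop ≫ X.presheaf.germ ⊤ x trivial =
      ψ ≫ f.stalkMap x := by
    simp only [ψ, Category.assoc]
    congr 1
    exact (Scheme.Hom.germ_stalkMap f ⊤ x trivial).symm
  -- quasi-finiteness at x
  have hqf : f.QuasiFiniteAt x := by
    rw [Scheme.Hom.quasiFiniteAt_iff_isOpen_singleton_asFiber]
    rw [← (f.fiberHomeo (f x)).isOpen_image]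
    simp only [Set.image_singleton, Scheme.Hom.asFiber, Homeomorph.apply_symm_apply]
    have key : ∀ (y : Spec (CommRingCat.of A)) (hy : f.base x = y),
        IsOpen ((Subtype.val : (f.base ⁻¹' {y}) → X) ⁻¹' {x}) →
        IsOpen ({⟨x, rfl⟩} : Set (f.base ⁻¹' {f.base x})) := by
      rintro y rfl h
      convert h using 1
      ext z
      simp [Subtype.ext_iff]
    exact key _ hx hisol
  -- the algebra structure
  have hqf' : (ψ ≫ f.stalkMap x).hom.QuasiFinite := by
    rw [CommRingCat.hom_comp]
    refine RingHom.QuasiFinite.comp hqf ?_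
    exact RingHom.QuasiFinite.of_finite (RingHom.Finite.of_surjective _
      ((ConcreteCategory.bijective_of_isIso ψ).surjective))
  have hloc : IsLocalHom (ψ ≫ f.stalkMap x).hom := by
    rw [CommRingCat.hom_comp]
    have : IsLocalHom ψ.hom := isLocalHom_of_isIso ψ
    infer_instance
  have hfin : (ψ ≫ f.stalkMap x).hom.Finite := by
    algebraize [(ψ ≫ f.stalkMap x).hom]
    have : IsLocalHom (algebraMap A B) := hloc
    exact finite_of_quasiFinite_of_complete A B
  -- g ≫ f = Spec.map φ
  have hgf : g ≫ f = Spec.map (ψ ≫ f.stalkMap x) := by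
    rw [hg, ← Scheme.SpecMap_stalkMap_fromSpecStalk, Spec.fromSpecStalk_eq, ← Spec.map_comp]
  have hgf_fin : IsFinite (g ≫ f) := by
    rw [hgf, IsFinite.SpecMap_iff]
    exact hfin
  have hg_fin : IsFinite g := IsFinite.of_comp g f
  have hg_closed : IsClosedImmersion g :=
    IsClosedImmersion.of_isPreimmersion g g.isClosedMap.isClosed_range
  have hg_lfp : LocallyOfFinitePresentation g :=
    LocallyOfFinitePresentation.iff_locallyOfFiniteType.mpr inferInstance
  have hg_flat : Flat g := flat_fromSpecStalk' X x
  have hg_open : IsOpenImmersion g := IsOpenImmersion.of_flat_of_mono g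
  refine ⟨?_, hg_open, hg_closed⟩
  rw [hφ]
  exact hfin

end Groth.Agent.S2343
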