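import Groth.Statements.S2344
import Groth.Agent.Lib.Helper20.ExtendVal

set_option autoImplicit false
universe u
open CategoryTheory CategoryTheory.Limits AlgebraicGeometry
open EGA2

namespace Groth.Agent.S2344

open Groth.Agent.Lib.Helper20 IsLocalRing

/-- a Noetherian integrally closed local domain of dimension one is a valuation ring -/
theorem valuationRing_of_normal (R : Type u) [CommRing R] [IsDomain R] [IsLocalRing R]
    [IsNoetherianRing R] [IsIntegrallyClosed R] (h : ringKrullDim R = 1) : ValuationRing R := by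
  have h1 : Ring.KrullDimLE 1 R := (Ring.krullDimLE_iff).mpr h.le
  have h2 := (tfae_of_isNoetherianRing_of_isLocalRing_of_isDomain R).out 3 1
  refine h2.mp ⟨inferInstance, ?_⟩
  intro P hP0 hP
  exact (IsLocalRing.eq_maximalIdeal (hP.isMaximal_of_ne_bot hP0))

/-- Let X be a normal algebraic curve over k (separated, of finite type, nonempty, local rings at closed
points of dimension one, all local rings integrally closed domains), Y proper over k, U a dense open
of X and g : U → Y a k-morphism. Then g extends uniquely to a k-morphism X → Y. -/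
theorem result (k : Type u) [Field k] (X Y : Scheme.{u}) [X.Over (Spec (CommRingCat.of k))] [Y.Over (Spec (CommRingCat.of k))]
    [LocallyOfFiniteType (X ↘ (Spec (CommRingCat.of k)))] [QuasiCompact (X ↘ (Spec (CommRingCat.of k)))] [IsSeparated (X ↘ (Spec (CommRingCat.of k)))] [Nonempty X] (hcurve : (∀ x : X, IsClosed ({x} : Set X) → ringKrullDim (X.presheaf.stalk x) = 1)) (hnorm : Pi1.IsNormalScheme X)
    [IsProper (Y ↘ (Spec (CommRingCat.of k)))] (U : X.Opens) (hU : Dense (U : Set X)) (g : (U : Scheme.{u}) ⟶ Y)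
    (hg : g ≫ (Y ↘ (Spec (CommRingCat.of k))) = U.ι ≫ (X ↘ (Spec (CommRingCat.of k)))) :
    ∃! g' : X ⟶ Y, U.ι ≫ g' = g ∧ g' ≫ (Y ↘ (Spec (CommRingCat.of k))) = X ↘ (Spec (CommRingCat.of k)) := by
  have hLN : IsLocallyNoetherian X :=
    LocallyOfFiniteType.isLocallyNoetherian (X ↘ (Spec (CommRingCat.of k)))
  have hC : CompactSpace X :=
    QuasiCompact.compactSpace_of_compactSpace (X ↘ (Spec (CommRingCat.of k)))
  have hred : IsReduced X := by
    have : ∀ x : X, _root_.IsReduced (X.presheaf.stalk x) := fun x => by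
      have := (hnorm x).1
      infer_instance
    exact isReduced_of_isReduced_stalk X
  have hdom : IsDominant U.ι := ⟨by rw [DenseRange, Scheme.Opens.range_ι]; exact hU⟩
  -- extension over the closed points
  obtain ⟨U', hUU', g', hg'1, hg'2, hcl⟩ :=
    ExtendVal.exists_extension_of_forall_mem (Y ↘ (Spec (CommRingCat.of k)))
      (X ↘ (Spec (CommRingCat.of k))) {x : X | IsClosed ({x} : Set X)} (by
        intro x hx
        have hd := (hnorm x).1
        have hi := (hnorm x).2
        refine ⟨ExtendVal.exists_integral_nhd_of_isGermInjectiveAt x, hd, ?_⟩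
        exact valuationRing_of_normal _ (hcurve x hx)) U hU g hg
  -- U' is everything
  have htop : U' = ⊤ := by
    rw [eq_top_iff]
    intro x _
    obtain ⟨c, hc1, hc2⟩ := (isClosed_closure (s := ({x} : Set X))).exists_closed_singleton
      ⟨x, subset_closure rfl⟩
    have hsp : x ⤳ c := specializes_iff_mem_closure.mpr hc1
    exact hsp.mem_open U'.isOpen (hcl hc2)
  subst htop
  have e1 : (X.topIso).inv ≫ (⊤ : X.Opens).ι = 𝟙 X := by
    rw [Iso.inv_comp_eq]; simp
  have e2 : U.ι ≫ (X.topIso).inv = X.homOfLE hUU' := by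
    rw [← cancel_mono (⊤ : X.Opens).ι, Category.assoc, e1, Category.comp_id, Scheme.homOfLE_ι]
  refine ⟨(X.topIso).inv ≫ g', ⟨?_, ?_⟩, ?_⟩
  · rw [← Category.assoc, e2, hg'2]
  · rw [Category.assoc, hg'1, ← Category.assoc, e1, Category.id_comp]
  · intro g'' ⟨h1, h2⟩
    refine ext_of_isDominant_of_isSeparated (Y ↘ (Spec (CommRingCat.of k))) ?_ U.ι ?_
    · rw [h2, Category.assoc, hg'1, ← Category.assoc, e1, Category.id_comp]
    · rw [h1, ← Category.assoc, e2, hg'2]


end Groth.Agent.S2344
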