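import Groth.Statements.S2346
import Mathlib

set_option autoImplicit false
universe u
open CategoryTheory CategoryTheory.Limits AlgebraicGeometry
open EGA2

namespace Groth.Agent.S2346

section CurveHelpers

variable {X : Scheme.{u}}

/-- The generic point of an irreducible scheme has coheight zero. -/
theorem coheight_genericPoint [IrreducibleSpace X] :
    Order.coheight (genericPoint X) = 0 := by
  rw [Order.coheight_eq_zero]
  intro b _
  exact Scheme.le_iff_specializes.mpr (genericPoint_specializes b)

theorem not_isClosed_genericPoint [IrreducibleSpace X]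
    (hX : ∀ x : X, IsClosed ({x} : Set X) → ringKrullDim (X.presheaf.stalk x) = 1) :
    ¬ IsClosed ({genericPoint X} : Set X) := by
  intro h
  have h1 := hX _ h
  rw [ringKrullDim_stalk_eq_coheight, coheight_genericPoint] at h1
  norm_num at h1

theorem eq_genericPoint_or_isClosed [CompactSpace X] [IrreducibleSpace X]
    (hX : ∀ x : X, IsClosed ({x} : Set X) → ringKrullDim (X.presheaf.stalk x) = 1) (x : X) :
    x = genericPoint X ∨ IsClosed ({x} : Set X) := by
  obtain ⟨z, hz, hzc⟩ := (isClosed_closure (s := ({x} : Set X))).exists_closed_singleton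
    (Set.singleton_nonempty x).closure
  have hxz : x ⤳ z := specializes_iff_mem_closure.mpr hz
  have h1 := hX z hzc
  rw [ringKrullDim_stalk_eq_coheight] at h1
  have h1' : Order.coheight z = 1 := by exact_mod_cast h1
  by_cases hxz' : x = z
  · right; rwa [hxz']
  by_cases hxη : x = genericPoint X
  · left; exact hxη
  exfalso
  have hlt1 : z < x := lt_iff_le_not_ge.mpr ⟨Scheme.le_iff_specializes.mpr hxz,
    fun h => hxz' (hxz.antisymm (Scheme.le_iff_specializes.mp h)).eq⟩
  have hlt2 : x < genericPoint X :=
    lt_iff_le_not_ge.mpr ⟨Scheme.le_iff_specializes.mpr (genericPoint_specializes x),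
      fun h => hxη ((Scheme.le_iff_specializes.mp h).antisymm (genericPoint_specializes x)).eq⟩
  have h2 : Order.coheight x + 1 ≤ Order.coheight z := Order.coheight_add_one_le hlt1
  have h3 : Order.coheight (genericPoint X) + 1 ≤ Order.coheight x :=
    Order.coheight_add_one_le hlt2
  rw [h1'] at h2
  have h4 : Order.coheight (genericPoint X) + 1 + 1 ≤ (1 : ℕ∞) := (add_le_add_left h3 1).trans h2
  rw [coheight_genericPoint] at h4
  norm_num at h4

theorem finite_of_isClosed_of_genericPoint_notMem [CompactSpace X] [IrreducibleSpace X]
    [TopologicalSpace.NoetherianSpace X]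
    (hX : ∀ x : X, IsClosed ({x} : Set X) → ringKrullDim (X.presheaf.stalk x) = 1)
    {Z : Set X} (hZ : IsClosed Z) (hη : genericPoint X ∉ Z) : Z.Finite := by
  obtain ⟨S, hSf, hSc, hSi, rfl⟩ :=
    TopologicalSpace.NoetherianSpace.exists_finite_set_isClosed_irreducible hZ
  refine hSf.sUnion fun t ht => ?_
  obtain ⟨g, hg⟩ := QuasiSober.sober (hSi t ht) (hSc t ht)
  have hgt : g ∈ t := hg.mem
  have hgη : g ≠ genericPoint X := by
    rintro rfl
    exact hη ⟨t, ht, hgt⟩
  have hgc : IsClosed ({g} : Set X) := (eq_genericPoint_or_isClosed hX g).resolve_left hgη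
  have : t = {g} := by
    rw [← hg.def, hgc.closure_eq]
  rw [this]
  exact Set.finite_singleton g

end CurveHelpers

/-- Let X and Y be irreducible algebraic curves over k (separated, of finite type, local rings at closed
points one-dimensional) and f : X → Y a k-morphism. Then f is dominant if and only if every fibre
f⁻¹(y) is a finite set. -/
theorem result (k : Type u) [Field k] (X Y : Scheme.{u}) [X.Over (Spec (CommRingCat.of k))] [Y.Over (Spec (CommRingCat.of k))]
    [LocallyOfFiniteType (X ↘ (Spec (CommRingCat.of k)))] [QuasiCompact (X ↘ (Spec (CommRingCat.of k)))] [IsSeparated (X ↘ (Spec (CommRingCat.of k)))] [LocallyOfFiniteType (Y ↘ (Spec (CommRingCat.of k)))] [QuasiCompact (Y ↘ (Spec (CommRingCat.of k)))] [IsSeparated (Y ↘ (Spec (CommRingCat.of k)))] [IrreducibleSpace X] [IrreducibleSpace Y]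
    (hX : (∀ x : X, IsClosed ({x} : Set X) → ringKrullDim (X.presheaf.stalk x) = 1)) (hY : (∀ x : Y, IsClosed ({x} : Set Y) → ringKrullDim (Y.presheaf.stalk x) = 1))
    (f : X ⟶ Y) (hf : f ≫ (Y ↘ (Spec (CommRingCat.of k))) = X ↘ (Spec (CommRingCat.of k))) :
    IsDominant f ↔ ∀ y : Y, (f.base ⁻¹' {y}).Finite := by
  have hfX : LocallyOfFiniteType f := by
    have : LocallyOfFiniteType (f ≫ (Y ↘ (Spec (CommRingCat.of k)))) := by rw [hf]; infer_instance
    exact locallyOfFiniteType_of_comp f (Y ↘ (Spec (CommRingCat.of k)))
  have hcX : CompactSpace X :=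
    QuasiCompact.compactSpace_of_compactSpace (X ↘ (Spec (CommRingCat.of k)))
  have hcY : CompactSpace Y :=
    QuasiCompact.compactSpace_of_compactSpace (Y ↘ (Spec (CommRingCat.of k)))
  have hnX : IsLocallyNoetherian X :=
    LocallyOfFiniteType.isLocallyNoetherian (X ↘ (Spec (CommRingCat.of k)))
  have hnX' : IsNoetherian X := { }
  have hjX : JacobsonSpace X :=
    LocallyOfFiniteType.jacobsonSpace (X ↘ (Spec (CommRingCat.of k)))
  have hjY : JacobsonSpace Y :=
    LocallyOfFiniteType.jacobsonSpace (Y ↘ (Spec (CommRingCat.of k)))
  constructor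
  · intro hdom y
    -- f maps generic point to generic point
    have hgen : f.base (genericPoint X) = genericPoint Y := by
      have h1 : IsGenericPoint (f.base (genericPoint X)) (closure (f.base '' Set.univ)) :=
        (genericPoint_spec X).image f.base.hom.continuous
      rw [Set.image_univ, hdom.1.closure_range] at h1
      exact (h1.eq (genericPoint_spec Y))
    by_cases hy : y = genericPoint Y
    · subst hy
      refine (Set.finite_singleton (genericPoint X)).subset ?_
      intro x hx
      rcases eq_genericPoint_or_isClosed hX x with h | h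
      · exact h
      · exfalso
        have h2 : IsClosed ({f.base x} : Set Y) :=
          f.closePoints_subset_preimage_closedPoints h
        rw [hx] at h2
        exact not_isClosed_genericPoint hY h2
    · have hyc : IsClosed ({y} : Set Y) := (eq_genericPoint_or_isClosed hY y).resolve_left hy
      refine finite_of_isClosed_of_genericPoint_notMem hX (hyc.preimage f.base.hom.continuous) ?_
      intro h
      apply hy
      rw [← hgen]
      exact h.symm
  · intro hfin
    by_cases hgen : f.base (genericPoint X) = genericPoint Y
    · refine ⟨?_⟩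
      rw [DenseRange, dense_iff_closure_eq, Set.eq_univ_iff_forall]
      intro y
      have : genericPoint Y ∈ Set.range f.base := ⟨_, hgen⟩
      exact (genericPoint_specializes y).mem_closed isClosed_closure (subset_closure this)
    · exfalso
      have hyc : IsClosed ({f.base (genericPoint X)} : Set Y) :=
        (eq_genericPoint_or_isClosed hY _).resolve_left hgen
      have hall : f.base ⁻¹' {f.base (genericPoint X)} = Set.univ := by
        rw [Set.eq_univ_iff_forall]
        intro x
        have h1 : f.base (genericPoint X) ⤳ f.base x :=
          (genericPoint_specializes x).map f.base.hom.continuous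
        have h2 := h1.mem_closed hyc rfl
        exact h2
      have hXfin : Finite X := by
        have := hfin (f.base (genericPoint X))
        rw [hall] at this
        exact Set.finite_univ_iff.mp this
      have : DiscreteTopology X := inferInstance
      exact not_isClosed_genericPoint hX (isClosed_discrete _)

end Groth.Agent.S2346
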