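import Groth.Statements.S2349
import Mathlib

set_option autoImplicit false
universe u
open CategoryTheory CategoryTheory.Limits AlgebraicGeometry
open EGA2

namespace Groth.Agent.S2349

/-- Let f : X → Y be separated and of finite type, and let j_i : X_i → X and h_i : Y_i → Y (i in a
finite index type) be closed immersions with morphisms f_i : X_i → Y_i satisfying j_i ≫ f = f_i ≫
h_i, such that the images of the j_i cover X. Then f is proper if and only if every f_i is proper. -/
theorem result {X Y : Scheme.{u}} (f : X ⟶ Y) [IsSeparated f] [LocallyOfFiniteType f] [QuasiCompact f]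
    (ι : Type u) [Finite ι] (Xi Yi : ι → Scheme.{u}) (j : ∀ i, Xi i ⟶ X) (h : ∀ i, Yi i ⟶ Y) (fi : ∀ i, Xi i ⟶ Yi i)
    [∀ i, IsClosedImmersion (j i)] [∀ i, IsClosedImmersion (h i)] (hcomm : ∀ i, j i ≫ f = fi i ≫ h i)
    (hcov : ∀ x : X, ∃ i, x ∈ Set.range (j i).base) : IsProper f ↔ ∀ i, IsProper (fi i) := by
  constructor
  · intro hf i
    have h1 : IsProper (j i ≫ f) := inferInstance
    rw [hcomm i] at h1
    exact IsProper.of_comp (fi i) (h i)
  · intro hfi
    have huc : UniversallyClosed f := by
      constructor
      intro X' Y' i₁ i₂ f' H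
      have hcl : ∀ i, IsClosedMap (Limits.pullback.fst i₁ (j i) ≫ f') := by
        intro i
        have h1 : UniversallyClosed (j i ≫ f) := by
          rw [hcomm i]
          have := hfi i
          infer_instance
        exact UniversallyClosed.universally_isClosedMap _ _ _
          ((IsPullback.of_hasPullback i₁ (j i)).paste_horiz H)
      intro Z hZ
      have hZeq : f' '' Z = ⋃ i, (Limits.pullback.fst i₁ (j i) ≫ f') ''
          ((Limits.pullback.fst i₁ (j i)) ⁻¹' Z) := by
        ext y
        constructor
        · rintro ⟨x', hx'Z, rfl⟩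
          obtain ⟨i, xi, hxi⟩ := hcov (i₁ x')
          have hxi' : i₁ x' = j i xi := hxi.symm
          obtain ⟨z, hz1, hz2⟩ := Scheme.Pullback.exists_preimage_pullback x' xi hxi'
          refine Set.mem_iUnion.mpr ⟨i, z, ?_, ?_⟩
          · change Limits.pullback.fst i₁ (j i) z ∈ Z
            rw [hz1]; exact hx'Z
          · rw [Scheme.Hom.comp_apply, hz1]
        · intro hy
          obtain ⟨i, z, hz, rfl⟩ := Set.mem_iUnion.mp hy
          exact ⟨Limits.pullback.fst i₁ (j i) z, hz, (Scheme.Hom.comp_apply _ _ _).symm⟩
      rw [hZeq]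
      exact isClosed_iUnion_of_finite fun i =>
        hcl i _ (hZ.preimage (Limits.pullback.fst i₁ (j i)).continuous)
    exact {}

end Groth.Agent.S2349
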