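import Groth.Statements.S2353
import Groth.Agent.S4449
import Groth.Agent.H76.DVRApprox
import Groth.Agent.H76.DVRCenter

set_option autoImplicit false
universe u
open CategoryTheory CategoryTheory.Limits AlgebraicGeometry
open EGA2

namespace Groth.Agent.S2353

/-- Let Y be an integral separated locally Noetherian scheme, X an integral separated scheme and f : X →
Y dominant and of finite type, with generic point ξ of X. Suppose that for every discrete valuation
subring R of the function field K(X) and every point y of Y such that R dominates the local ring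
O_{Y,y} (through O_{Y,y} → O_{Y,f(ξ)} → K(X): the image lies in R and the maximal ideal maps into
the maximal ideal of R), there is a point x of X whose local ring is dominated by R (through O_{X,x}
→ K(X)). Then f is proper. -/
theorem result {X Y : Scheme.{u}} [IsIntegral X] [IsIntegral Y] [X.IsSeparated] [Y.IsSeparated]
    [IsLocallyNoetherian Y] (f : X ⟶ Y) [IsDominant f] [LocallyOfFiniteType f] [QuasiCompact f]
    (h : ∀ (R : ValuationSubring X.functionField), IsDiscreteValuationRing R →
      ∀ (y : Y) (hy : f.base (genericPoint X) ⤳ y), ((∀ a : (Y.presheaf.stalk y), (Y.presheaf.stalkSpecializes hy ≫ f.stalkMap (genericPoint X)).hom a ∈ R) ∧ ∀ a ∈ IsLocalRing.maximalIdeal (Y.presheaf.stalk y), R.valuation ((Y.presheaf.stalkSpecializes hy ≫ f.stalkMap (genericPoint X)).hom a) < 1) →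
        ∃ x : X, ((∀ a : (X.presheaf.stalk x), algebraMap (X.presheaf.stalk x) X.functionField a ∈ R) ∧ ∀ a ∈ IsLocalRing.maximalIdeal (X.presheaf.stalk x), R.valuation (algebraMap (X.presheaf.stalk x) X.functionField a) < 1)) :
    IsProper f := by
  classical
  apply Groth.Agent.S4449.result f
  intro V _hVtop y hy hdomV
  by_contra hno
  set ξ := genericPoint X with hξ
  let φ : Y.presheaf.stalk y →+* X.functionField :=
    (Y.presheaf.stalkSpecializes hy ≫ f.stalkMap ξ).hom
  -- for every affine open, an element of `m_V` whose membership in `m_R` excludes centres there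
  have P : ∀ i : X.affineOpens, ∃ d : X.functionField, V.valuation d < 1 ∧
      ∀ R : ValuationSubring X.functionField, R.valuation d < 1 → ∀ x ∈ i.1,
        ¬ (∀ a : X.presheaf.stalk x,
          algebraMap (X.presheaf.stalk x) X.functionField a ∈ R) := by
    intro i
    by_cases hne : Nonempty i.1
    · have hex : ∃ c : Γ(X, i.1), (X.germToFunctionField i.1).hom c ∉ V := by
        by_contra hall
        push Not at hall
        obtain ⟨x, -, hx⟩ := Groth.Agent.H76.DVRCenter.exists_center_of_affine i.2 V hall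
        exact hno ⟨x, hx⟩
      obtain ⟨c, hc⟩ := hex
      refine ⟨((X.germToFunctionField i.1).hom c)⁻¹,
        Groth.Agent.Lib.Helper78.ValuationSubring.valuation_lt_one_of_inv_not_mem V _
          (by rwa [inv_inv]), ?_⟩
      intro R hR x hx hall
      have h1 : (X.germToFunctionField i.1).hom c ∈ R := by
        rw [← X.algebraMap_germ_eq_germToFunctionField hx c]
        exact hall _
      have h2 := (R.valuation_le_one_iff _).mpr h1
      have hc0 : (X.germToFunctionField i.1).hom c ≠ 0 := fun h0 => hc (h0 ▸ V.zero_mem)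
      have h3 : R.valuation (((X.germToFunctionField i.1).hom c)⁻¹) *
          R.valuation ((X.germToFunctionField i.1).hom c) = 1 := by
        rw [← map_mul, inv_mul_cancel₀ hc0, map_one]
      have h4 : (1 : _) ≤ R.valuation (((X.germToFunctionField i.1).hom c)⁻¹) := by
        calc (1 : _) = R.valuation (((X.germToFunctionField i.1).hom c)⁻¹) *
              R.valuation ((X.germToFunctionField i.1).hom c) := h3.symm
          _ ≤ R.valuation (((X.germToFunctionField i.1).hom c)⁻¹) * 1 := mul_le_mul' le_rfl h2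
          _ = _ := mul_one _
      exact absurd hR (not_lt.mpr h4)
    · exact ⟨0, by rw [map_zero]; exact zero_lt_one, fun R _ x hx => absurd ⟨⟨x, hx⟩⟩ hne⟩
  choose dfun hdV hdR using P
  -- an affine neighbourhood of `y` and a finite affine cover of its preimage
  obtain ⟨Y₀, hY₀, hyY₀⟩ : ∃ Y₀ : Y.Opens, IsAffineOpen Y₀ ∧ y ∈ Y₀ := by
    obtain ⟨_, ⟨W, hW, rfl⟩, hyW, -⟩ :=
      Y.isBasis_affineOpens.exists_subset_of_mem_open (Set.mem_univ y) isOpen_univ
    exact ⟨W, hW, hyW⟩
  have hqc : IsCompact ((f ⁻¹ᵁ Y₀ : X.Opens) : Set X) :=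
    QuasiCompact.isCompact_preimage (f := f) _ Y₀.isOpen hY₀.isCompact
  obtain ⟨s, hsfin, hs⟩ := isCompact_iff_finite_and_eq_biUnion_affineOpens.mp hqc
  have hξY₀ : ξ ∈ f ⁻¹ᵁ Y₀ := hy.mem_open Y₀.isOpen hyY₀
  have hmem_s : ∀ x : X, x ∈ f ⁻¹ᵁ Y₀ → ∃ i ∈ s, x ∈ i.1 := by
    intro x hx
    rw [hs] at hx
    simpa [TopologicalSpace.Opens.mem_iSup] using hx
  obtain ⟨i₁, hi₁s, hξi₁⟩ := hmem_s ξ hξY₀
  have : Nonempty i₁.1 := ⟨⟨ξ, hξi₁⟩⟩
  have e : i₁.1 ≤ f ⁻¹ᵁ Y₀ := by
    rw [hs]
    exact le_iSup₂ (f := fun (i : X.affineOpens) (_ : i ∈ s) => (i : X.Opens)) i₁ hi₁s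
  -- the finite set of elements of `m_V`
  let d : Finset X.functionField := hsfin.toFinset.image dfun
  have hd : ∀ x ∈ d, V.valuation x < 1 := by
    intro x hx
    obtain ⟨i, -, rfl⟩ := Finset.mem_image.mp hx
    exact hdV i
  have hd0 : ∃ x ∈ d, x ≠ 0 := by
    refine ⟨dfun i₁, Finset.mem_image_of_mem _ (hsfin.mem_toFinset.mpr hi₁s), fun h0 => ?_⟩
    refine hdR i₁ ⊤ ?_ ξ hξi₁ (fun a => trivial)
    rw [h0, map_zero]
    exact zero_lt_one
  -- finite generation of the function field
  have hft := LocallyOfFiniteType.finiteType_appLE f hY₀ i₁.2 e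
  let _ : Algebra Γ(Y, Y₀) Γ(X, i₁.1) := (f.appLE Y₀ i₁.1 e).hom.toAlgebra
  have hft' : Algebra.FiniteType Γ(Y, Y₀) Γ(X, i₁.1) := hft
  obtain ⟨t, ht⟩ := hft'.out
  let T : Finset X.functionField := t.image (X.germToFunctionField i₁.1).hom
  have hT : Subfield.closure (Set.range φ ∪ (T : Set X.functionField)) = ⊤ := by
    rw [eq_top_iff]
    intro z _
    have := functionField_isFractionRing_of_isAffineOpen X i₁.1 i₁.2
    have key : ∀ a : Γ(X, i₁.1), (X.germToFunctionField i₁.1).hom a ∈
        Subfield.closure (Set.range φ ∪ (T : Set X.functionField)) := by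
      intro a
      have ha : a ∈ Algebra.adjoin Γ(Y, Y₀) (t : Set Γ(X, i₁.1)) := by rw [ht]; trivial
      induction ha using Algebra.adjoin_induction with
      | mem x hx =>
        exact Subfield.subset_closure
          (Or.inr (Finset.mem_coe.mpr (Finset.mem_image_of_mem _ hx)))
      | algebraMap r =>
        refine Subfield.subset_closure (Or.inl ⟨Y.presheaf.germ Y₀ y hyY₀ r, ?_⟩)
        exact Groth.Agent.H76.DVRCenter.germ_compat f y hy Y₀ hyY₀ i₁.1 e r
      | add x y _ _ hx hy => rw [map_add]; exact add_mem hx hy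
      | mul x y _ _ hx hy => rw [map_mul]; exact mul_mem hx hy
    obtain ⟨a, b, -, rfl⟩ := IsFractionRing.div_surjective (A := Γ(X, i₁.1)) z
    exact div_mem (key a) (key b)
  -- the discrete valuation ring
  obtain ⟨R, hRdvr, hR1, hR2, hR3⟩ :=
    Groth.Agent.H76.DVRApprox.exists_dvr_approx φ V hdomV.1 d hd hd0 T hT
  obtain ⟨x, hx1, hx2⟩ := h R hRdvr y hy
    ⟨hR1, fun a ha => hR2 a (hdomV.2 a ha)⟩
  have hsp : f.base x ⤳ y :=
    Groth.Agent.H76.DVRCenter.specializes_of_dominates f R y hy hR1 x hx1 hx2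
  have hxY₀ : x ∈ f ⁻¹ᵁ Y₀ := hsp.mem_open Y₀.isOpen hyY₀
  obtain ⟨i, his, hxi⟩ := hmem_s x hxY₀
  exact hdR i R (hR3 _ (Finset.mem_image_of_mem _ (hsfin.mem_toFinset.mpr his))) x hxi hx1

end Groth.Agent.S2353
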