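import Groth.Statements.S2356
import Groth.Agent.Lib.Helper20.SemilocalFree
import Groth.Agent.Lib.Helper49.FreeNear
import Groth.Agent.Lib.Helper49.FinLocFreeSections

set_option autoImplicit false
universe u
open CategoryTheory CategoryTheory.Limits AlgebraicGeometry
open EGA2

namespace Groth.Agent.S2356

open Groth.Agent.Lib Groth.Agent.Lib.Helper20.SemilocalFree

attribute [local instance] Helper45.stalkModuleSections Helper45.sectionsBasicOpenModule

theorem isFinLocFree_of_rank {Y : Scheme.{u}} {r : ℕ} {E : Y.Modules}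
    (hE : FlatMod.IsFinLocFreeOfRank r E) : FlatMod.IsFinLocFree E := fun x => by
  obtain ⟨U, hxU, e⟩ := hE x
  exact ⟨U, r, hxU, e⟩

/-- The stalk of a locally free module of rank `r` has rank `r`. -/
theorem finrank_stalk {Y : Scheme.{u}} {r : ℕ} {E : Y.Modules}
    (hE : FlatMod.IsFinLocFreeOfRank r E) (x : Y) :
    Module.Free (Y.presheaf.stalk x) ↑(E.presheaf.stalk x) ∧
    Module.finrank (Y.presheaf.stalk x) ↑(E.presheaf.stalk x) = r := by
  have hE' := isFinLocFree_of_rank hE
  have := Helper49.isQuasicoherent_of_isFinLocFree E hE'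
  obtain ⟨U, hxU, ⟨e⟩⟩ := hE x
  obtain ⟨_, ⟨W, hW : IsAffineOpen W, rfl⟩, hxW, hWU⟩ :=
    Y.isBasis_affineOpens.exists_subset_of_mem_open hxU U.2
  have e' : Γ(E, W) ≃ₗ[Γ(Y, W)] (Fin r → Γ(Y, W)) :=
    Helper49.sectionsEquivOfIsoFree E r (Helper49.isoFreeOfLE hWU _ r e)
  obtain ⟨y, rfl⟩ : ∃ y : W, (y : Y) = x := ⟨⟨x, hxW⟩, rfl⟩
  have := Helper45.isLocalizedModule_germₗ hW E y
  have := hW.isLocalization_stalk y
  have : Module.Free Γ(Y, W) Γ(E, W) := Module.Free.of_equiv e'.symm
  have hfree : Module.Free (Y.presheaf.stalk (y : Y)) ↑(E.presheaf.stalk (y : Y)) :=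
    Module.free_of_isLocalizedModule (hW.primeIdealOf y).asIdeal.primeCompl (Helper45.germₗ E y)
  have hnt : Nontrivial Γ(Y, W) :=
    (algebraMap Γ(Y, W) (Y.presheaf.stalk (y : Y))).domain_nontrivial
  have h1 : Module.finrank (Y.presheaf.stalk (y : Y)) ↑(E.presheaf.stalk (y : Y)) =
      Module.finrank Γ(Y, W) Γ(E, W) :=
    Module.finrank_of_isLocalizedModule_of_free _ (hW.primeIdealOf y).asIdeal.primeCompl
      (Helper45.germₗ E y)
  refine ⟨hfree, ?_⟩
  rw [h1, e'.finrank_eq, Module.finrank_fin_fun]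

/-- Let Y be a scheme, E a locally free O_Y-module of rank r, and Z a finite set of points of Y
contained in an affine open V. Then there is an open neighbourhood U ⊆ V of Z on which E is free of
rank r. -/
theorem result (Y : Scheme.{u}) (r : ℕ) (E : Y.Modules) (hE : FlatMod.IsFinLocFreeOfRank r E)
    (Z : Set Y) (hZ : Z.Finite) (V : Y.Opens) (hV : IsAffineOpen V) (hZV : Z ⊆ V) :
    ∃ U : Y.Opens, Z ⊆ U ∧ U ≤ V ∧ Nonempty (E.restrict U.ι ≅ FlatMod.freeMod (U : Scheme.{u}) r) := by
  classical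
  have hE' := isFinLocFree_of_rank hE
  have := Helper49.isQuasicoherent_of_isFinLocFree E hE'
  have hfp : Module.FinitePresentation Γ(Y, V) Γ(E, V) :=
    Helper49.finitePresentation_sections_of_isFinitePresentation E
      (Helper49.isFinitePresentation_of_isFinLocFree E hE') hV
  obtain ⟨hfin, hproj⟩ := Helper49.finite_projective_sections_of_isFinLocFree E hE' hV
  have hflat : Module.Flat Γ(Y, V) Γ(E, V) := inferInstance
  -- rank at every point of V
  have hrank : ∀ x : V, Module.rankAtStalk (R := Γ(Y, V)) Γ(E, V) (hV.primeIdealOf x) = r := by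
    intro x
    have := Helper45.isLocalizedModule_germₗ hV E x
    have := hV.isLocalization_stalk x
    obtain ⟨hfree, hrk⟩ := finrank_stalk hE (x : Y)
    rw [rankAtStalk_eq_finrank_of_model Γ(E, V) (hV.primeIdealOf x)
      (Rs := Y.presheaf.stalk (x : Y)) (Helper45.germₗ E x), hrk]
  -- the finite set of primes
  have hZ' : ((fun x : V => (x : Y)) ⁻¹' Z).Finite := hZ.preimage (Subtype.val_injective.injOn)
  let Zf : Finset V := hZ'.toFinset
  let ps : Finset (PrimeSpectrum Γ(Y, V)) := Zf.image fun x : V => hV.primeIdealOf x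
  obtain ⟨f, hf, ⟨b⟩⟩ := exists_basis_away Γ(E, V) r ps (by
    intro p hp
    obtain ⟨x, -, rfl⟩ := Finset.mem_image.mp hp
    exact hrank x)
  have := hV.isLocalization_basicOpen f
  have := Helper45.isLocalizedModule_restrictBasicOpenₗ hV E f
  let b' : Module.Basis (Fin r) Γ(Y, Y.basicOpen f) Γ(E, Y.basicOpen f) :=
    basisOfModels (Submonoid.powers f) (LocalizedModule.mkLinearMap (Submonoid.powers f) Γ(E, V))
      (Helper45.restrictBasicOpenₗ E f) b
  refine ⟨Y.basicOpen f, ?_, Y.basicOpen_le f,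
    Helper49.nonempty_iso_restrict_freeMod_of_linearEquiv (hV.basicOpen f) E r b'.equivFun⟩
  intro z hz
  have hzV : z ∈ V := hZV hz
  refine (Helper45.mem_basicOpen_iff_not_mem_primeIdealOf hV ⟨z, hzV⟩ f).mpr ?_
  refine hf _ (Finset.mem_image.mpr ⟨⟨z, hzV⟩, ?_, rfl⟩)
  simpa [Zf] using hz


end Groth.Agent.S2356
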