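import Groth.Statements.S6786
import Mathlib.CategoryTheory.Limits.Types.Images
import Mathlib.CategoryTheory.Limits.ConcreteCategory.Basic

set_option autoImplicit false
open CategoryTheory CategoryTheory.Limits
universe u
open HomAlg3

namespace Groth.Agent.S6786

/-- A Mittag-Leffler system of nonempty sets indexed by `ℕᵒᵖ` has a section. -/
lemma nonempty_sections_of_isMittagLeffler (F : ℕᵒᵖ ⥤ Type u) (hF : F.IsMittagLeffler)
    [∀ j, Nonempty (F.obj j)] : Nonempty F.sections := by
  have hne : ∀ j, Nonempty (F.toEventualRanges.obj j) := F.toEventualRanges_nonempty hF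
  have hsurj := Types.surjective_π_app_zero_of_surjective_map
    (Types.limitConeIsLimit F.toEventualRanges)
    (fun n => F.surjective_toEventualRanges hF _)
  obtain ⟨x⟩ := hne ⟨0⟩
  obtain ⟨s, -⟩ := hsurj x
  exact ⟨F.toEventualRangesSectionsEquiv s⟩


variable {A B C : ℕᵒᵖ ⥤ AddCommGrpCat.{u}}

/-- The inverse system of fibres of `b` over a compatible family `x`. -/
def fib (b : B ⟶ C) (x : (C ⋙ forget AddCommGrpCat).sections) : ℕᵒᵖ ⥤ Type u where
  obj i := {y : B.obj i // b.app i y = x.1 i}
  map {i j} f := ↾fun y => ⟨B.map f y.1, by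
    have h1 := ConcreteCategory.congr_hom (b.naturality f) y.1
    have h2 := x.2 f
    rw [ConcreteCategory.comp_apply, ConcreteCategory.comp_apply, y.2] at h1
    exact h1.trans h2⟩
  map_id i := by
    ext y
    simp
  map_comp f g := by
    ext y
    simp

@[simp]
lemma fib_map_val (b : B ⟶ C) (x : (C ⋙ forget AddCommGrpCat).sections) {i j : ℕᵒᵖ} (f : i ⟶ j)
    (y : (fib b x).obj i) : ((fib b x).map f y).1 = B.map f y.1 := rfl

lemma fib_isMittagLeffler (a : A ⟶ B) (b : B ⟶ C)
    (hB : ∀ i, (b.app i).hom.ker = (a.app i).hom.range)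
    (hA : (A ⋙ forget AddCommGrpCat).IsMittagLeffler)
    (x : (C ⋙ forget AddCommGrpCat).sections)
    (hne : ∀ i, Nonempty ((fib b x).obj i)) : (fib b x).IsMittagLeffler := by
  intro j
  obtain ⟨i, f, hf⟩ := hA j
  refine ⟨i, f, ?_⟩
  intro k g
  rintro _ ⟨y, rfl⟩
  rcases le_total i.unop k.unop with hik | hki
  · let h : k ⟶ i := (homOfLE hik).op
    have hg : g = h ≫ f := Subsingleton.elim _ _
    obtain ⟨z₀⟩ := hne k
    have hker : y.1 - B.map h z₀.1 ∈ (b.app i).hom.ker := by
      rw [AddMonoidHom.mem_ker, map_sub, sub_eq_zero]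
      exact y.2.trans ((fib b x).map h z₀).2.symm
    rw [hB] at hker
    obtain ⟨α, hα⟩ := hker
    obtain ⟨β, hβ⟩ := hf g ⟨α, rfl⟩
    have hab : ∀ (l : ℕᵒᵖ) (t : A.obj l), b.app l (a.app l t) = 0 := by
      intro l t
      have : a.app l t ∈ (b.app l).hom.ker := by
        rw [hB]; exact ⟨t, rfl⟩
      exact this
    refine ⟨⟨z₀.1 + a.app k β, ?_⟩, ?_⟩
    · rw [map_add, z₀.2, hab, add_zero]
    · apply Subtype.ext
      have e1 : B.map g (a.app k β) = a.app j (A.map g β) :=
        (ConcreteCategory.congr_hom (a.naturality g) β).symm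
      have e2 : a.app j (A.map f α) = B.map f (a.app i α) :=
        ConcreteCategory.congr_hom (a.naturality f) α
      have e3 : A.map g β = A.map f α := hβ
      have e4 : B.map g z₀.1 = B.map f (B.map h z₀.1) := by
        rw [hg, Functor.map_comp_apply]
      have e5 : a.app i α = y.1 - B.map h z₀.1 := hα
      change B.map g (z₀.1 + a.app k β) = B.map f y.1
      rw [map_add, e1, e3, e2, e5, e4, ← map_add, add_sub_cancel]
  · let h : i ⟶ k := (homOfLE hki).op
    have hf' : f = h ≫ g := Subsingleton.elim _ _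
    refine ⟨(fib b x).map h y, ?_⟩
    rw [hf', Functor.map_comp_apply]

/-- For a sequence `(A_i) ⟶ (B_i) ⟶ (C_i) ⟶ (D_i)` of inverse systems of abelian groups over `ℕ` that is
exact levelwise at the two middle places, if `(A_i)` is Mittag-Leffler then `lim B_i ⟶ lim C_i ⟶ lim
D_i` is exact. -/
theorem result {A B C D : ℕᵒᵖ ⥤ AddCommGrpCat.{u}} (a : A ⟶ B) (b : B ⟶ C) (c : C ⟶ D) (hB : ∀ i, (b.app i).hom.ker = (a.app i).hom.range) (hC : ∀ i, (c.app i).hom.ker = (b.app i).hom.range) (hA : (A ⋙ forget AddCommGrpCat).IsMittagLeffler) : (limMap c).hom.ker = (limMap b).hom.range := by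
  ext x
  constructor
  · intro hx
    rw [AddMonoidHom.mem_ker] at hx
    let xs : (C ⋙ forget AddCommGrpCat).sections :=
      ⟨fun i => limit.π C i x, fun {i j} f => ConcreteCategory.congr_hom (limit.w C f) x⟩
    have hxi : ∀ i, c.app i (limit.π C i x) = 0 := by
      intro i
      have := ConcreteCategory.congr_hom (limMap_π c i) x
      rw [ConcreteCategory.comp_apply, ConcreteCategory.comp_apply] at this
      rw [← this]
      change limit.π D i ((limMap c).hom x) = 0
      rw [hx, map_zero]
    have hne : ∀ i, Nonempty ((fib b xs).obj i) := by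
      intro i
      have : limit.π C i x ∈ (c.app i).hom.ker := hxi i
      rw [hC] at this
      obtain ⟨y, hy⟩ := this
      exact ⟨⟨y, hy⟩⟩
    obtain ⟨s⟩ := nonempty_sections_of_isMittagLeffler (fib b xs)
      (fib_isMittagLeffler a b hB hA xs hne)
    have hlim := isLimitOfPreserves (forget AddCommGrpCat.{u}) (limit.isLimit B)
    let ys : (B ⋙ forget AddCommGrpCat).sections :=
      ⟨fun i => (s.1 i).1, fun {i j} f => congrArg Subtype.val (s.2 f)⟩
    let y : ↑(limit B) := (Types.isLimitEquivSections hlim).symm ys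
    have hy : ∀ i, limit.π B i y = (s.1 i).1 :=
      fun i => Types.isLimitEquivSections_symm_apply hlim ys i
    refine ⟨y, ?_⟩
    apply Concrete.limit_ext
    intro i
    have := ConcreteCategory.congr_hom (limMap_π b i) y
    rw [ConcreteCategory.comp_apply, ConcreteCategory.comp_apply, hy] at this
    exact this.trans (s.1 i).2
  · rintro ⟨y, rfl⟩
    rw [AddMonoidHom.mem_ker]
    apply Concrete.limit_ext
    intro i
    have h1 := ConcreteCategory.congr_hom (limMap_π c i) ((limMap b).hom y)
    have h2 := ConcreteCategory.congr_hom (limMap_π b i) y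
    rw [ConcreteCategory.comp_apply, ConcreteCategory.comp_apply] at h1 h2
    have h3 : b.app i (limit.π B i y) ∈ (c.app i).hom.ker := by
      rw [hC]; exact ⟨_, rfl⟩
    change limit.π D i ((limMap c) ((limMap b) y)) = limit.π D i 0
    rw [h1, h2, map_zero]
    exact h3

end Groth.Agent.S6786
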