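import Groth.Statements.S6807
import Groth.Agent.S6786
import Groth.Agent.S6787
import Mathlib.Algebra.Homology.ShortComplex.Ab
import Mathlib.Algebra.Homology.HomologicalComplexLimits

set_option autoImplicit false
open CategoryTheory CategoryTheory.Limits
universe u
open HomAlg3

namespace Groth.Agent.S6807

section Helpers

open Opposite

/-- Cochain complexes of abelian groups. -/
abbrev Cx := HomologicalComplex AddCommGrpCat.{u} (ComplexShape.up ℤ)

section Complex

variable (M : Cx.{u})

lemma ker_d_eq_range_iCycles (n m : ℤ) (h : (ComplexShape.up ℤ).next n = m) :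
    (M.d n m).hom.ker = (M.iCycles n).hom.range := by
  have hex : (ShortComplex.mk (M.iCycles n) (M.d n m) (M.iCycles_d n m)).Exact :=
    ShortComplex.exact_of_f_is_kernel _ (M.cyclesIsKernel n m h)
  exact hex.ab_range_eq_ker.symm

lemma ker_homologyπ_eq_range_toCycles (l n : ℤ) (h : (ComplexShape.up ℤ).prev n = l) :
    (M.homologyπ n).hom.ker = (M.toCycles l n).hom.range := by
  have hex : (ShortComplex.mk (M.toCycles l n) (M.homologyπ n)
      (M.toCycles_comp_homologyπ l n)).Exact :=
    ShortComplex.exact_of_g_is_cokernel _ (M.homologyIsCokernel l n h)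
  exact hex.ab_range_eq_ker.symm

lemma iCycles_injective (n : ℤ) : Function.Injective (M.iCycles n).hom :=
  (AddCommGrpCat.mono_iff_injective _).1 inferInstance

lemma homologyπ_surjective (n : ℤ) : Function.Surjective (M.homologyπ n).hom :=
  (AddCommGrpCat.epi_iff_surjective _).1 inferInstance

end Complex

variable (K : ℕᵒᵖ ⥤ Cx.{u})

/-- The system of degree `m` terms. -/
abbrev XS (m : ℤ) : ℕᵒᵖ ⥤ AddCommGrpCat.{u} := K ⋙ HomologicalComplex.eval _ _ m
/-- The system of degree `m` cycles. -/
noncomputable abbrev ZS (m : ℤ) : ℕᵒᵖ ⥤ AddCommGrpCat.{u} :=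
  K ⋙ HomologicalComplex.cyclesFunctor _ _ m
/-- The system of degree `m` cohomologies. -/
noncomputable abbrev HS (m : ℤ) : ℕᵒᵖ ⥤ AddCommGrpCat.{u} :=
  K ⋙ HomologicalComplex.homologyFunctor _ _ m

noncomputable def iZ (m : ℤ) : ZS K m ⟶ XS K m where
  app i := (K.obj i).iCycles m
  naturality _ _ f := HomologicalComplex.cyclesMap_i (K.map f) m

def dX (m m' : ℤ) : XS K m ⟶ XS K m' where
  app i := (K.obj i).d m m'
  naturality _ _ f := (K.map f).comm m m'

noncomputable def toZ (m m' : ℤ) : XS K m ⟶ ZS K m' where
  app i := (K.obj i).toCycles m m'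
  naturality i j f := by
    change (K.map f).f m ≫ (K.obj j).toCycles m m' =
      (K.obj i).toCycles m m' ≫ HomologicalComplex.cyclesMap (K.map f) m'
    rw [← cancel_mono ((K.obj j).iCycles m')]
    simp

noncomputable def πH (m : ℤ) : ZS K m ⟶ HS K m where
  app i := (K.obj i).homologyπ m
  naturality _ _ f := (HomologicalComplex.homologyπ_naturality (K.map f) m).symm

open ARSys Groth.Agent.S6787 in
/-- Half of S6787 without injectivity on the left: an extension of an essentially constant system
by a quotient of a Mittag-Leffler system is Mittag-Leffler. -/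
lemma ml_of_ml_of_essConstant {A B C : ℕᵒᵖ ⥤ AddCommGrpCat.{u}} (a : A ⟶ B) (b : B ⟶ C)
    (hb : ∀ i, Function.Surjective (b.app i).hom)
    (hex : ∀ i, (b.app i).hom.ker = (a.app i).hom.range)
    (hC : ∃ (C₀ : AddCommGrpCat.{u}) (c : (Functor.const ℕᵒᵖ).obj C₀ ⟶ C),
      DerCA.IsEssConstant C C₀ c)
    (hA : (A ⋙ forget AddCommGrpCat).IsMittagLeffler) :
    (B ⋙ forget AddCommGrpCat).IsMittagLeffler := by
  obtain ⟨C₀, c, hc⟩ := hC
  obtain ⟨⟨i, hinj⟩, hfac⟩ := ess_facts c hc
  have hex' : ∀ (l : ℕᵒᵖ) (y : B.obj l), b.app l y = 0 → ∃ t, a.app l t = y := by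
    intro l y hy
    have : y ∈ (b.app l).hom.ker := hy
    rw [hex] at this
    exact this
  rw [ml_iff] at hA ⊢
  intro j
  obtain ⟨m₁, hm₁, H⟩ := hA j
  obtain ⟨k, hk, Hk⟩ := hfac m₁
  refine ⟨k, hm₁.trans hk, fun l hl β => ?_⟩
  obtain ⟨t, ht⟩ := Hk (b.app (op k) β)
  obtain ⟨γ, hγ⟩ := hb (op l) (c.app (op l) t)
  have h1 : b.app (op m₁) (tr B hk β - tr B (hk.trans hl) γ) = 0 := by
    rw [map_sub, ← tr_nat b, ← tr_nat b]
    erw [hγ]
    rw [cone_nat, ht, sub_self]
  obtain ⟨α₁, hα₁⟩ := hex' _ _ h1
  obtain ⟨α', hα'⟩ := H l (hk.trans hl) α₁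
  refine ⟨γ + a.app (op l) α', ?_⟩
  rw [map_add, tr_nat a, hα', ← tr_nat a, hα₁, map_sub, tr_tr, tr_tr]
  abel

/-- Degreewise, the limit complex is the limit: joint injectivity of the projections. -/
lemma lim_ext (m : ℤ) (x y : (limit K).X m)
    (h : ∀ i, (limit.π K i).f m x = (limit.π K i).f m y) : x = y := by
  have hlim := isLimitOfPreserves (HomologicalComplex.eval _ _ m ⋙ forget AddCommGrpCat.{u})
    (limit.isLimit K)
  apply (Types.isLimitEquivSections hlim).injective
  apply Subtype.ext
  funext i
  exact h i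

/-- Degreewise, the limit complex is the limit: existence of elements with given projections. -/
lemma lim_exists (m : ℤ) (xs : (XS K m ⋙ forget AddCommGrpCat).sections) :
    ∃ x : (limit K).X m, ∀ i, (limit.π K i).f m x = xs.1 i := by
  have hlim := isLimitOfPreserves (HomologicalComplex.eval _ _ m ⋙ forget AddCommGrpCat.{u})
    (limit.isLimit K)
  refine ⟨(Types.isLimitEquivSections hlim).symm xs, fun i => ?_⟩
  exact Types.isLimitEquivSections_symm_apply hlim xs i

end Helpers

/-- For an inverse system of cochain complexes of abelian groups over `ℕ` whose terms in degrees `n-2`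
and `n-1` form Mittag-Leffler systems and whose degree-`(n-1)` cohomologies form an essentially
constant system, the canonical map from the degree-`n` cohomology of the limit complex to the limit
of the degree-`n` cohomologies is an isomorphism. (The published statement is for four-term
complexes in degrees `-2, …, 1`; only those four degrees of a longer complex enter.) -/
theorem result (K : ℕᵒᵖ ⥤ HomologicalComplex AddCommGrpCat.{u} (ComplexShape.up ℤ)) (n : ℤ) (h2 : ((K ⋙ HomologicalComplex.eval _ _ (n - 2)) ⋙ forget AddCommGrpCat).IsMittagLeffler) (h1 : ((K ⋙ HomologicalComplex.eval _ _ (n - 1)) ⋙ forget AddCommGrpCat).IsMittagLeffler) (hH : ∃ (C₀ : AddCommGrpCat.{u}) (c : (Functor.const ℕᵒᵖ).obj C₀ ⟶ K ⋙ HomologicalComplex.homologyFunctor _ _ (n - 1)), DerCA.IsEssConstant (K ⋙ HomologicalComplex.homologyFunctor _ _ (n - 1)) C₀ c) : IsIso (limit.post K (HomologicalComplex.homologyFunctor _ _ n)) := by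
  have hnext : (ComplexShape.up ℤ).next n = n + 1 :=
    (ComplexShape.up ℤ).next_eq' (by simp)
  have hprev : (ComplexShape.up ℤ).prev n = n - 1 :=
    (ComplexShape.up ℤ).prev_eq' (by simp)
  have hnext' : (ComplexShape.up ℤ).next (n - 1) = n :=
    (ComplexShape.up ℤ).next_eq' (by simp)
  have hprev' : (ComplexShape.up ℤ).prev (n - 1) = n - 2 :=
    (ComplexShape.up ℤ).prev_eq' (by simp; omega)
  -- the system of cycles in degree `n - 1` is Mittag-Leffler
  have hZ : (ZS K (n - 1) ⋙ forget AddCommGrpCat).IsMittagLeffler :=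
    ml_of_ml_of_essConstant (toZ K (n - 2) (n - 1)) (πH K (n - 1))
      (fun i => homologyπ_surjective (K.obj i) (n - 1))
      (fun i => ker_homologyπ_eq_range_toCycles (K.obj i) (n - 2) (n - 1) hprev')
      hH h2
  have hφ : ∀ (i : ℕᵒᵖ) (h : (limit K).homology n),
      limit.π (HS K n) i (limit.post K (HomologicalComplex.homologyFunctor _ _ n) h) =
        HomologicalComplex.homologyMap (limit.π K i) n h := fun i h =>
    ConcreteCategory.congr_hom (limit.post_π K (HomologicalComplex.homologyFunctor _ _ n) i) h
  rw [ConcreteCategory.isIso_iff_bijective]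
  constructor
  · -- injectivity
    rw [injective_iff_map_eq_zero]
    intro h hh
    obtain ⟨z, rfl⟩ := homologyπ_surjective (limit K) n h
    have hxi : ∀ i, ∃ w : (K.obj i).X (n - 1),
        (K.obj i).d (n - 1) n w = (limit.π K i).f n ((limit K).iCycles n z) := by
      intro i
      have e1 : (K.obj i).homologyπ n (HomologicalComplex.cyclesMap (limit.π K i) n z) = 0 := by
        have := ConcreteCategory.congr_hom
          (HomologicalComplex.homologyπ_naturality (limit.π K i) n) z
        rw [ConcreteCategory.comp_apply, ConcreteCategory.comp_apply] at this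
        rw [← this, ← hφ]
        erw [hh]
        exact map_zero _
      have e2 : HomologicalComplex.cyclesMap (limit.π K i) n z ∈
          ((K.obj i).homologyπ n).hom.ker := e1
      rw [ker_homologyπ_eq_range_toCycles _ (n - 1) n hprev] at e2
      obtain ⟨w, hw⟩ := e2
      refine ⟨w, ?_⟩
      have e3 := ConcreteCategory.congr_hom ((K.obj i).toCycles_i (n - 1) n) w
      have e4 := ConcreteCategory.congr_hom (HomologicalComplex.cyclesMap_i (limit.π K i) n) z
      rw [ConcreteCategory.comp_apply] at e3 e4
      rw [← e3]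
      erw [hw]
      exact e4
    let xs : (XS K n ⋙ forget AddCommGrpCat).sections :=
      ⟨fun i => (limit.π K i).f n ((limit K).iCycles n z), fun {i j} f =>
        ConcreteCategory.congr_hom (congrArg (fun t => t.f n) (limit.w K f))
          ((limit K).iCycles n z)⟩
    have hne : ∀ i, Nonempty ((S6786.fib (dX K (n - 1) n) xs).obj i) := fun i => by
      obtain ⟨w, hw⟩ := hxi i
      exact ⟨⟨w, hw⟩⟩
    obtain ⟨s⟩ := S6786.nonempty_sections_of_isMittagLeffler (S6786.fib (dX K (n - 1) n) xs)
      (S6786.fib_isMittagLeffler (iZ K (n - 1)) (dX K (n - 1) n)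
        (fun i => ker_d_eq_range_iCycles (K.obj i) (n - 1) n hnext') hZ xs hne)
    let ws : (XS K (n - 1) ⋙ forget AddCommGrpCat).sections :=
      ⟨fun i => (s.1 i).1, fun {i j} f => congrArg Subtype.val (s.2 f)⟩
    obtain ⟨w, hw⟩ := lim_exists K (n - 1) ws
    have hdw : (limit K).d (n - 1) n w = (limit K).iCycles n z := by
      apply lim_ext K n
      intro i
      have := ConcreteCategory.congr_hom ((limit.π K i).comm (n - 1) n) w
      rw [ConcreteCategory.comp_apply, ConcreteCategory.comp_apply] at this
      rw [← this, hw]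
      exact (s.1 i).2
    have hz : z = (limit K).toCycles (n - 1) n w := by
      apply iCycles_injective
      have := ConcreteCategory.congr_hom ((limit K).toCycles_i (n - 1) n) w
      rw [ConcreteCategory.comp_apply] at this
      exact hdw.symm.trans this.symm
    rw [hz]
    exact ConcreteCategory.congr_hom ((limit K).toCycles_comp_homologyπ (n - 1) n) w
  · -- surjectivity
    intro y
    let ys : (HS K n ⋙ forget AddCommGrpCat).sections :=
      ⟨fun i => limit.π (HS K n) i y, fun {i j} f =>
        ConcreteCategory.congr_hom (limit.w (HS K n) f) y⟩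
    have hne : ∀ i, Nonempty ((S6786.fib (πH K n) ys).obj i) := fun i => by
      obtain ⟨z, hz⟩ := homologyπ_surjective (K.obj i) n (ys.1 i)
      exact ⟨⟨z, hz⟩⟩
    obtain ⟨s⟩ := S6786.nonempty_sections_of_isMittagLeffler (S6786.fib (πH K n) ys)
      (S6786.fib_isMittagLeffler (toZ K (n - 1) n) (πH K n)
        (fun i => ker_homologyπ_eq_range_toCycles (K.obj i) (n - 1) n hprev) h1 ys hne)
    let xs : (XS K n ⋙ forget AddCommGrpCat).sections :=
      ⟨fun i => (K.obj i).iCycles n (s.1 i).1, fun {i j} f => by
        have e1 : (ZS K n).map f (s.1 i).1 = (s.1 j).1 := congrArg Subtype.val (s.2 f)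
        have e2 := ConcreteCategory.congr_hom ((iZ K n).naturality f) (s.1 i).1
        rw [ConcreteCategory.comp_apply, ConcreteCategory.comp_apply] at e2
        change (XS K n).map f ((iZ K n).app i (s.1 i).1) = (iZ K n).app j (s.1 j).1
        rw [← e2, e1]⟩
    obtain ⟨x, hx⟩ := lim_exists K n xs
    have hdx : (limit K).d n (n + 1) x = 0 := by
      apply lim_ext K (n + 1)
      intro i
      have := ConcreteCategory.congr_hom ((limit.π K i).comm n (n + 1)) x
      rw [ConcreteCategory.comp_apply, ConcreteCategory.comp_apply] at this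
      rw [← this, hx, map_zero]
      exact ConcreteCategory.congr_hom ((K.obj i).iCycles_d n (n + 1)) (s.1 i).1
    have hxk : x ∈ ((limit K).d n (n + 1)).hom.ker := hdx
    rw [ker_d_eq_range_iCycles _ n (n + 1) hnext] at hxk
    obtain ⟨z, hz⟩ := hxk
    refine ⟨(limit K).homologyπ n z, ?_⟩
    apply Concrete.limit_ext
    intro i
    have e0 := hφ i ((limit K).homologyπ n z)
    have e1 := ConcreteCategory.congr_hom
      (HomologicalComplex.homologyπ_naturality (limit.π K i) n) z
    rw [ConcreteCategory.comp_apply, ConcreteCategory.comp_apply] at e1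
    have e2 : HomologicalComplex.cyclesMap (limit.π K i) n z = (s.1 i).1 := by
      apply iCycles_injective
      have e3 := ConcreteCategory.congr_hom (HomologicalComplex.cyclesMap_i (limit.π K i) n) z
      rw [ConcreteCategory.comp_apply, ConcreteCategory.comp_apply] at e3
      refine e3.trans ?_
      erw [hz]
      exact hx i
    refine e0.trans (e1.trans ?_)
    rw [e2]
    exact (s.1 i).2

end Groth.Agent.S6807
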