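import Groth.Statements.S4499
import Groth.Agent.S3527

set_option autoImplicit false
universe u
attribute [local instance] HasDerivedCategory.standard
open FlatCx

namespace Groth.Agent.S4499

open CategoryTheory CategoryTheory.Limits MonoidalCategory TensorProduct
open Groth.Agent.Lib.Helper73

section aux

variable {A : Type u} [CommRing A]

/-- `Tor_n(X, N)` -/
noncomputable abbrev TorM (n : ℕ) (X N : ModuleCat.{u} A) : ModuleCat.{u} A :=
  ((Tor (ModuleCat.{u} A) n).obj X).obj N

theorem isIso_fromLeftDerivedZero (X N : ModuleCat.{u} A) :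
    IsIso (((tensoringLeft (ModuleCat.{u} A)).obj X).fromLeftDerivedZero.app N) := by
  have hcK : PreservesFiniteColimits ((tensoringLeft (ModuleCat.{u} A)).obj X) := by
    change PreservesFiniteColimits (tensorLeft X); infer_instance
  infer_instance

/-- `Tor₀(X, N) ≅ X ⊗ N`. -/
noncomputable def tor0Iso (X N : ModuleCat.{u} A) : TorM 0 X N ≅ X ⊗ N :=
  @asIso _ _ _ _ (((tensoringLeft (ModuleCat.{u} A)).obj X).fromLeftDerivedZero.app N)
    (isIso_fromLeftDerivedZero X N)

lemma tor0Iso_naturality {X Y : ModuleCat.{u} A} (f : X ⟶ Y) (N : ModuleCat.{u} A) :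
    ((Tor (ModuleCat.{u} A) 0).map f).app N ≫ (tor0Iso Y N).hom = (tor0Iso X N).hom ≫ f ▷ N :=
  Groth.Agent.S3527.leftDerived_zero_app_fromLeftDerivedZero
    ((tensoringLeft (ModuleCat.{u} A)).map f) N

lemma isZero_tor_flat (X : ModuleCat.{u} A) [Module.Flat A X] (N : ModuleCat.{u} A) (n : ℕ) :
    IsZero (TorM (n + 1) X N) :=
  Groth.Agent.S6314.result A X N (n + 1) (Nat.succ_pos n)

variable {S : ShortComplex (ModuleCat.{u} A)} (hS : S.ShortExact) [Module.Flat A S.X₂]
  (N : ModuleCat.{u} A)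

include hS in
/-- Dimension shifting: `Tor_{n+2}(X₃, N) ≅ Tor_{n+1}(X₁, N)` when `X₂` is flat. -/
lemma nonempty_torShift (n : ℕ) : Nonempty (TorM (n + 2) S.X₃ N ≅ TorM (n + 1) S.X₁ N) := by
  obtain ⟨-, δ, w₁, w₂, hex₁, hex₂⟩ := tor_les_first hS N (n + 1)
  have hmono : Mono δ := hex₁.mono_g ((isZero_tor_flat S.X₂ N (n + 1)).eq_of_src _ _)
  have hepi : Epi δ := hex₂.epi_f ((isZero_tor_flat S.X₂ N n).eq_of_tgt _ _)
  have : IsIso δ := isIso_of_mono_of_epi δ
  exact ⟨asIso δ⟩

include hS in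
/-- `Tor₁(X₃, N) ≃ ker (X₁ ⊗ N → X₂ ⊗ N)` when `X₂` is flat. -/
lemma nonempty_tor1Equiv :
    Nonempty (TorM 1 S.X₃ N ≃ₗ[A] LinearMap.ker (S.f.hom.rTensor N)) := by
  obtain ⟨-, δ, w₁, w₂, hex₁, hex₂⟩ := tor_les_first hS N 0
  have hmono : Mono δ := hex₁.mono_g ((isZero_tor_flat S.X₂ N 0).eq_of_src _ _)
  have hinj : Function.Injective δ.hom := (ModuleCat.mono_iff_injective δ).mp hmono
  have hex : Function.Exact δ.hom (((Tor (ModuleCat.{u} A) 0).map S.f).app N).hom :=
    (ShortComplex.ShortExact.moduleCat_exact_iff_function_exact _).mp hex₂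
  -- the composite `e₁ ∘ δ` lands in the kernel
  let e₁ : TorM 0 S.X₁ N ≃ₗ[A] (S.X₁ ⊗ N : ModuleCat.{u} A) := (tor0Iso S.X₁ N).toLinearEquiv
  let e₂ : TorM 0 S.X₂ N ≃ₗ[A] (S.X₂ ⊗ N : ModuleCat.{u} A) := (tor0Iso S.X₂ N).toLinearEquiv
  have hnat : ∀ x, e₂ ((((Tor (ModuleCat.{u} A) 0).map S.f).app N).hom x) =
      (S.f.hom.rTensor N) (e₁ x) := by
    intro x
    have := congrArg (fun g => g.hom x) (tor0Iso_naturality S.f N)
    exact this
  let g : TorM 1 S.X₃ N →ₗ[A] LinearMap.ker (S.f.hom.rTensor N) :=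
    LinearMap.codRestrict _ (e₁.toLinearMap ∘ₗ δ.hom) (fun x => by
      rw [LinearMap.mem_ker]
      change (S.f.hom.rTensor N) (e₁ (δ.hom x)) = 0
      rw [← hnat, (hex _).mpr ⟨x, rfl⟩, map_zero])
  refine ⟨LinearEquiv.ofBijective g ⟨?_, ?_⟩⟩
  · intro x y hxy
    have := congrArg Subtype.val hxy
    exact hinj (e₁.injective this)
  · rintro ⟨y, hy⟩
    rw [LinearMap.mem_ker] at hy
    have h0 : (((Tor (ModuleCat.{u} A) 0).map S.f).app N).hom (e₁.symm y) = 0 := by
      apply e₂.injective
      rw [hnat, LinearEquiv.apply_symm_apply, hy, map_zero]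
    obtain ⟨x, hx⟩ := (hex _).mp h0
    refine ⟨x, Subtype.ext ?_⟩
    change e₁ (δ.hom x) = y
    rw [hx, LinearEquiv.apply_symm_apply]

end aux


section linalg

section abs
variable {A : Type u} [CommRing A] {X Y Z W : Type u} [AddCommGroup X] [Module A X]
  [AddCommGroup Y] [Module A Y] [AddCommGroup Z] [Module A Z] [AddCommGroup W] [Module A W]

lemma nonempty_quotEquiv_abs (α : X →ₗ[A] Y) (π : Y →ₗ[A] Z) (ι : Z →ₗ[A] W) (δ : Y →ₗ[A] W)
    (hδ : δ = ι ∘ₗ π) (hex : Function.Exact α π) (hπ : Function.Surjective π) :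
    Nonempty ((LinearMap.ker δ ⧸ Submodule.comap (LinearMap.ker δ).subtype (LinearMap.range α))
      ≃ₗ[A] LinearMap.ker ι) := by
  subst hδ
  let g : LinearMap.ker (ι ∘ₗ π) →ₗ[A] LinearMap.ker ι :=
    LinearMap.codRestrict _ (π ∘ₗ (LinearMap.ker (ι ∘ₗ π)).subtype) (fun x => by
      rw [LinearMap.mem_ker, LinearMap.comp_apply, Submodule.subtype_apply]
      exact x.2)
  have hg : Function.Surjective g := by
    rintro ⟨y, hy⟩
    obtain ⟨x, rfl⟩ := hπ y
    exact ⟨⟨x, hy⟩, rfl⟩
  have hker : LinearMap.ker g = Submodule.comap (LinearMap.ker (ι ∘ₗ π)).subtype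
      (LinearMap.range α) := by
    ext x
    rw [LinearMap.mem_ker, Submodule.mem_comap, ← LinearMap.exact_iff.mp hex,
      LinearMap.mem_ker]
    constructor
    · intro h
      exact congrArg Subtype.val h
    · intro h
      exact Subtype.ext h
  have e1 := LinearMap.quotKerEquivOfSurjective g hg
  have e2 := Submodule.quotEquivOfEq (LinearMap.ker g) _ hker
  exact ⟨e2.symm.trans e1⟩
end abs

variable {A : Type u} [CommRing A] {P₁ P₀ : Type u} [AddCommGroup P₁] [Module A P₁]
  [AddCommGroup P₀] [Module A P₀] (d : P₁ →ₗ[A] P₀) (k : Type u) [AddCommGroup k] [Module A k]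

lemma exact_ker_rangeRestrict : Function.Exact (LinearMap.ker d).subtype d.rangeRestrict := by
  intro x
  constructor
  · intro hx
    exact ⟨⟨x, by
      have := congrArg Subtype.val hx
      simpa using this⟩, rfl⟩
  · rintro ⟨y, rfl⟩
    exact Subtype.ext y.2

lemma nonempty_quotEquiv :
    Nonempty ((↥(LinearMap.ker (d.rTensor k)) ⧸
      Submodule.comap (LinearMap.ker (d.rTensor k)).subtype
        (LinearMap.range ((LinearMap.ker d).subtype.rTensor k))) ≃ₗ[A]
      LinearMap.ker ((LinearMap.range d).subtype.rTensor k)) := by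
  refine nonempty_quotEquiv_abs _ (d.rangeRestrict.rTensor k) _ _ ?_
    (rTensor_exact k (exact_ker_rangeRestrict d) (LinearMap.surjective_rangeRestrict d))
    (LinearMap.rTensor_surjective k (LinearMap.surjective_rangeRestrict d))
  rw [← LinearMap.rTensor_comp]
  rfl

end linalg

/-- Let A be a Noetherian local ring with residue field k, and d : P₁ → P₀ an A-linear map between flat
A-modules, viewed as a two-term chain complex, so that H₁ = Ker d, H₀ = Coker d and H₁ of the
complex tensored with k is Ker(d ⊗ 1_k). Let α : (Ker d) ⊗_A k → P₁ ⊗_A k be the map induced by the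
inclusion Ker d → P₁; its image lies in Ker(d ⊗ 1_k). Then there is an exact sequence 0 →
Tor₂^A(Coker d, k) → (Ker d) ⊗_A k → Ker(d ⊗ 1_k) → Tor₁^A(Coker d, k) → 0 with middle map α, stated
here as: Ker α is isomorphic to Tor₂^A(Coker d, k), and the quotient of Ker(d ⊗ 1_k) by the image of
α is isomorphic to Tor₁^A(Coker d, k) (existence of A-linear isomorphisms only; Tor is Mathlib's,
left derived in the second variable). (In the published statement the cokernel is printed without
its prime, as the module of 0-cycles; the proof is about the cokernel of d.) -/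
theorem result {A : Type u} [CommRing A] [IsNoetherianRing A]
    [IsLocalRing A] {P₁ P₀ : Type u} [AddCommGroup P₁] [Module A P₁] [AddCommGroup P₀] [Module A P₀]
    [Module.Flat A P₁] [Module.Flat A P₀] (d : P₁ →ₗ[A] P₀) :
    Nonempty (LinearMap.ker ((LinearMap.ker d).subtype.rTensor (IsLocalRing.ResidueField A)) ≃ₗ[A]
        DRing.Tor A 2 (P₀ ⧸ LinearMap.range d) (IsLocalRing.ResidueField A)) ∧
      LinearMap.range ((LinearMap.ker d).subtype.rTensor (IsLocalRing.ResidueField A)) ≤
        LinearMap.ker (d.rTensor (IsLocalRing.ResidueField A)) ∧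
      Nonempty ((↥(LinearMap.ker (d.rTensor (IsLocalRing.ResidueField A))) ⧸
          Submodule.comap (LinearMap.ker (d.rTensor (IsLocalRing.ResidueField A))).subtype
            (LinearMap.range ((LinearMap.ker d).subtype.rTensor (IsLocalRing.ResidueField A)))) ≃ₗ[A]
        DRing.Tor A 1 (P₀ ⧸ LinearMap.range d) (IsLocalRing.ResidueField A)) := by
  classical
  -- the two short exact sequences
  have hex₁ : Function.Exact (LinearMap.ker d).subtype d.rangeRestrict :=
    exact_ker_rangeRestrict d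
  have hS₁ := ModuleCat.shortComplex_shortExact
    (ModuleCat.shortComplexOfCompEqZero (LinearMap.ker d).subtype d.rangeRestrict
      hex₁.linearMap_comp_eq_zero) hex₁ (Submodule.injective_subtype _)
      (LinearMap.surjective_rangeRestrict d)
  have hex₂ : Function.Exact (LinearMap.range d).subtype (LinearMap.range d).mkQ :=
    LinearMap.exact_subtype_mkQ _
  have hS₂ := ModuleCat.shortComplex_shortExact
    (ModuleCat.shortComplexOfCompEqZero (LinearMap.range d).subtype (LinearMap.range d).mkQ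
      hex₂.linearMap_comp_eq_zero) hex₂ (Submodule.injective_subtype _)
      (Submodule.mkQ_surjective _)
  have hfl₁ : Module.Flat A (ModuleCat.shortComplexOfCompEqZero (LinearMap.ker d).subtype
      d.rangeRestrict hex₁.linearMap_comp_eq_zero).X₂ := inferInstanceAs (Module.Flat A P₁)
  have hfl₂ : Module.Flat A (ModuleCat.shortComplexOfCompEqZero (LinearMap.range d).subtype
      (LinearMap.range d).mkQ hex₂.linearMap_comp_eq_zero).X₂ := inferInstanceAs (Module.Flat A P₀)
  let N : ModuleCat.{u} A := ModuleCat.of A (IsLocalRing.ResidueField A)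
  obtain ⟨e₁⟩ := nonempty_tor1Equiv hS₁ N
  obtain ⟨e₂⟩ := nonempty_tor1Equiv hS₂ N
  obtain ⟨e₃⟩ := nonempty_torShift hS₂ N 0
  obtain ⟨e₄⟩ := nonempty_quotEquiv d (IsLocalRing.ResidueField A)
  refine ⟨⟨?_⟩, ?_, ⟨?_⟩⟩
  · exact (e₃.toLinearEquiv.trans e₁).symm
  · rintro _ ⟨x, rfl⟩
    rw [LinearMap.mem_ker, ← LinearMap.comp_apply, ← LinearMap.rTensor_comp]
    have : d ∘ₗ (LinearMap.ker d).subtype = 0 := by
      ext y; exact y.2
    rw [this, LinearMap.rTensor_zero, LinearMap.zero_apply]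
  · exact e₄.trans e₂.symm


end Groth.Agent.S4499
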