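import Groth.Statements.S4490
import Groth.Agent.Lib.Helper20.TFun

set_option autoImplicit false
universe u
open FlatCx

namespace Groth.Agent.S4490

open CategoryTheory CategoryTheory.Limits MonoidalCategory Groth.Agent.Lib.Helper12.FlatCx
  Groth.Agent.Lib.Helper20
open TensorProduct IsLocalRing


theorem lTensor_subtype_mem_smul_top {A : Type*} [CommRing A] (I : Ideal A)
    (C M : Type*) [AddCommGroup C] [Module A C] [AddCommGroup M] [Module A M]
    (N : Submodule A M) (hN : N ≤ I • ⊤) (t : C ⊗[A] N) :
    N.subtype.lTensor C t ∈ I • (⊤ : Submodule A (C ⊗[A] M)) := by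
  induction t using TensorProduct.induction_on with
  | zero => simp
  | tmul c x =>
    rw [LinearMap.lTensor_tmul]
    have hx : (x : M) ∈ I • (⊤ : Submodule A M) := hN x.2
    show c ⊗ₜ (x : M) ∈ _
    refine Submodule.smul_induction_on hx ?_ ?_
    · intro r hr n _
      rw [TensorProduct.tmul_smul]
      exact Submodule.smul_mem_smul hr Submodule.mem_top
    · intro x y hx hy
      rw [TensorProduct.tmul_add]
      exact add_mem hx hy
  | add x y hx hy => rw [map_add]; exact add_mem hx hy

theorem mem_pow_smul_top_iff {A : Type*} [CommRing A] (m : Ideal A) (n : ℕ) (x : m) :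
    x ∈ m ^ n • (⊤ : Submodule A m) ↔ (x : A) ∈ m ^ (n + 1) := by
  have h1 : (m ^ n • (⊤ : Submodule A m)).map m.subtype = m ^ (n + 1) := by
    rw [Submodule.map_smul'', Submodule.map_subtype_top, smul_eq_mul, pow_succ]
  rw [← h1]
  constructor
  · intro hx
    exact Submodule.mem_map_of_mem hx
  · rintro ⟨y, hy, hxy⟩
    have : y = x := Subtype.ext hxy
    rw [← this]
    exact hy

theorem lTensor_maximalIdeal_injective {A : Type u} [CommRing A] [IsNoetherianRing A]
    [IsLocalRing A] (C : Type u) [AddCommGroup C] [Module A C] [Module.Finite A C] (n₀ : ℕ)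
    (h : ∀ n, n₀ ≤ n → Function.Injective
      ((LinearMap.ker (Ideal.Quotient.factorₐ A (Ideal.pow_le_self (I := maximalIdeal A)
        (Nat.succ_ne_zero n))).toLinearMap).subtype.lTensor C)) :
    Function.Injective ((maximalIdeal A).subtype.lTensor C) := by
  rw [injective_iff_map_eq_zero]
  intro z hz
  have key : ∀ n, n₀ ≤ n → z ∈ maximalIdeal A ^ n • (⊤ : Submodule A (C ⊗[A] maximalIdeal A)) := by
    intro n hn
    set g : (A ⧸ maximalIdeal A ^ (n + 1)) →ₗ[A] (A ⧸ maximalIdeal A) :=
      (Ideal.Quotient.factorₐ A (Ideal.pow_le_self (I := maximalIdeal A)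
        (Nat.succ_ne_zero n))).toLinearMap with hg
    let mk : A →ₗ[A] (A ⧸ maximalIdeal A ^ (n + 1)) := Submodule.mkQ _
    let φ : maximalIdeal A →ₗ[A] LinearMap.ker g :=
      LinearMap.codRestrict (LinearMap.ker g) (mk ∘ₗ (maximalIdeal A).subtype) (by
        intro x
        rw [LinearMap.mem_ker]
        show Ideal.Quotient.factor (Ideal.pow_le_self (I := maximalIdeal A) (Nat.succ_ne_zero n))
          (Ideal.Quotient.mk (maximalIdeal A ^ (n + 1)) (x : A)) = 0
        rw [Ideal.Quotient.factor_mk, Ideal.Quotient.eq_zero_iff_mem]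
        exact x.2)
    have hsq : (LinearMap.ker g).subtype ∘ₗ φ = mk ∘ₗ (maximalIdeal A).subtype :=
      LinearMap.subtype_comp_codRestrict _ _ _
    have h0 : φ.lTensor C z = 0 := by
      apply h n hn
      rw [map_zero, ← LinearMap.comp_apply, ← LinearMap.lTensor_comp, hsq, LinearMap.lTensor_comp,
        LinearMap.comp_apply, hz, map_zero]
    have hφsurj : Function.Surjective φ := by
      rintro ⟨y, hy⟩
      obtain ⟨a, rfl⟩ := Submodule.mkQ_surjective _ y
      have ha : a ∈ maximalIdeal A := by
        rw [LinearMap.mem_ker] at hy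
        have : Ideal.Quotient.factor (Ideal.pow_le_self (I := maximalIdeal A) (Nat.succ_ne_zero n))
          (Ideal.Quotient.mk (maximalIdeal A ^ (n + 1)) a) = 0 := hy
        rwa [Ideal.Quotient.factor_mk, Ideal.Quotient.eq_zero_iff_mem] at this
      exact ⟨⟨a, ha⟩, Subtype.ext rfl⟩
    have hex := lTensor_exact C (LinearMap.exact_subtype_ker_map φ) hφsurj
    obtain ⟨t, ht⟩ := (hex z).mp h0
    rw [← ht]
    apply lTensor_subtype_mem_smul_top
    intro x hx
    rw [mem_pow_smul_top_iff]
    rw [LinearMap.mem_ker] at hx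
    have : mk (x : A) = 0 := congrArg Subtype.val hx
    exact (Submodule.Quotient.mk_eq_zero _).mp this
  have hbot := Ideal.iInf_pow_smul_eq_bot_of_isLocalRing (R := A)
    (M := C ⊗[A] maximalIdeal A) (maximalIdeal A) (Ideal.IsPrime.ne_top inferInstance)
  have : z ∈ (⨅ i : ℕ, maximalIdeal A ^ i • ⊤ : Submodule A (C ⊗[A] maximalIdeal A)) := by
    rw [Submodule.mem_iInf]
    intro i
    have := key (max i n₀) (le_max_right _ _)
    exact Submodule.smul_mono_left (Ideal.pow_le_pow_right (le_max_left i n₀)) this
  rw [hbot] at this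
  exact (Submodule.mem_bot _).mp this

theorem preservesEpi_of_surjective_pow {A : Type u} [CommRing A] [IsNoetherianRing A]
    [IsLocalRing A] (P : ChainComplex (ModuleCat.{u} A) ℤ)
    (hP : ∀ i, Module.Finite A (P.X i) ∧ Module.Flat A (P.X i)) (p : ℤ) (n₀ : ℕ)
    (h : ∀ n : ℕ, n₀ ≤ n → Function.Surjective ((CohIII.TFun P p).map (ModuleCat.ofHom
        (Ideal.Quotient.factorₐ A (Ideal.pow_le_self (I := IsLocalRing.maximalIdeal A)
          (Nat.succ_ne_zero n))).toLinearMap :
        ModuleCat.of A (A ⧸ IsLocalRing.maximalIdeal A ^ (n + 1)) ⟶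
          ModuleCat.of A (A ⧸ IsLocalRing.maximalIdeal A))).hom) :
    (CohIII.TFun P p).PreservesEpimorphisms := by
  have hPf : ∀ i, Module.Flat A (P.X i) := fun i => (hP i).2
  have hpq : (ComplexShape.down ℤ).Rel p (p - 1) := by
    show p - 1 + 1 = p
    ring
  rw [preservesEpi_iff_preservesMono_of_rel P hPf p (p - 1) hpq,
    preservesMono_iff_flat_opcycles P (p - 1) hPf]
  have hfin : Module.Finite A (P.opcycles (p - 1)) := by
    have := (hP (p - 1)).1
    exact Module.Finite.of_surjective (P.pOpcycles (p - 1)).hom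
      ((ModuleCat.epi_iff_surjective _).mp inferInstance)
  have hinj : Function.Injective ((maximalIdeal A).subtype.lTensor (P.opcycles (p - 1))) := by
    apply lTensor_maximalIdeal_injective _ n₀
    intro n hn
    set g : (A ⧸ maximalIdeal A ^ (n + 1)) →ₗ[A] (A ⧸ maximalIdeal A) :=
      (Ideal.Quotient.factorₐ A (Ideal.pow_le_self (I := maximalIdeal A)
        (Nat.succ_ne_zero n))).toLinearMap with hg
    let S : ShortComplex (ModuleCat.{u} A) :=
      ShortComplex.mk (ModuleCat.ofHom (LinearMap.ker g).subtype) (ModuleCat.ofHom g) (by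
        ext x
        exact x.2)
    have hS : S.ShortExact := by
      apply ModuleCat.shortComplex_shortExact
      · exact LinearMap.exact_subtype_ker_map g
      · exact Subtype.val_injective
      · exact Ideal.Quotient.factor_surjective (Ideal.pow_le_self (I := maximalIdeal A)
          (Nat.succ_ne_zero n))
    have hT := tensorSC_shortExact P hPf S hS
    have h3 := hT.homology_exact₃ p (p - 1) hpq
    have h1 := hT.homology_exact₁ p (p - 1) hpq
    have : Epi (HomologicalComplex.homologyMap (tensorSC P S).g p) :=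
      (ModuleCat.epi_iff_surjective _).mpr (h n hn)
    have hδ : hT.δ p (p - 1) hpq = 0 := (h3.epi_f_iff).mp this
    have hm : Mono ((CohIII.TFun P (p - 1)).map S.f) := (h1.mono_g_iff).mpr hδ
    have : Mono S.f := hS.mono_f
    have hW := mono_whiskerLeft_opcycles_of_mono_TFun_map P (p - 1) hPf S.f hm
    rw [mono_whiskerLeft_iff] at hW
    exact hW
  have : Module.FinitePresentation A (P.opcycles (p - 1)) :=
    Module.finitePresentation_of_finite A _
  have : Module.Free A (P.opcycles (p - 1)) := by
    apply Module.free_of_maximalIdeal_rTensor_injective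
    rw [← LinearMap.lTensor_inj_iff_rTensor_inj]
    exact hinj
  infer_instance

open CategoryTheory CategoryTheory.Limits in
/-- The case of the functor T_p(M) = H_p(P ⊗_A M) of a chain complex P of finitely generated flat
modules over a Noetherian local ring A with maximal ideal m and residue field k. Then T_p takes
surjections to surjections if and only if the map T_p(A) → T_p(k) induced by A → k is surjective;
and also if and only if, for all sufficiently large n (there is n₀ such that for every n ≥ n₀), the
map T_p(A/m^(n+1)) → T_p(A/m) induced by the projection is surjective. (Surjectivity at one n gives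
it at every smaller n, so this is the same as asking it for every n; at n = 0 alone the map is an
isomorphism and the condition would be empty.) -/
theorem result {A : Type u} [CommRing A] [IsNoetherianRing A]
    [IsLocalRing A] (P : ChainComplex (ModuleCat.{u} A) ℤ)
    (hP : ∀ i, Module.Finite A (P.X i) ∧ Module.Flat A (P.X i)) (p : ℤ) :
    ((CohIII.TFun P p).PreservesEpimorphisms ↔
      Function.Surjective ((CohIII.TFun P p).map
        (ModuleCat.ofHom (Algebra.linearMap A (IsLocalRing.ResidueField A)))).hom) ∧
    ((CohIII.TFun P p).PreservesEpimorphisms ↔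
      ∃ n₀ : ℕ, ∀ n : ℕ, n₀ ≤ n → Function.Surjective ((CohIII.TFun P p).map (ModuleCat.ofHom
        (Ideal.Quotient.factorₐ A (Ideal.pow_le_self (I := IsLocalRing.maximalIdeal A)
          (Nat.succ_ne_zero n))).toLinearMap :
        ModuleCat.of A (A ⧸ IsLocalRing.maximalIdeal A ^ (n + 1)) ⟶
          ModuleCat.of A (A ⧸ IsLocalRing.maximalIdeal A))).hom) := by
  have hpq : (ComplexShape.down ℤ).Rel p (p - 1) := by
    show p - 1 + 1 = p
    ring
  refine ⟨preservesEpi_iff_surjective_residue P hP p (p - 1) hpq, ?_, ?_⟩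
  · intro h
    refine ⟨0, fun n _ => ?_⟩
    have : Epi (ModuleCat.ofHom
        (Ideal.Quotient.factorₐ A (Ideal.pow_le_self (I := IsLocalRing.maximalIdeal A)
          (Nat.succ_ne_zero n))).toLinearMap :
        ModuleCat.of A (A ⧸ IsLocalRing.maximalIdeal A ^ (n + 1)) ⟶
          ModuleCat.of A (A ⧸ IsLocalRing.maximalIdeal A)) :=
      (ModuleCat.epi_iff_surjective _).mpr (Ideal.Quotient.factor_surjective
        (Ideal.pow_le_self (I := maximalIdeal A) (Nat.succ_ne_zero n)))
    exact (ModuleCat.epi_iff_surjective _).mp (h.preserves _)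
  · rintro ⟨n₀, h⟩
    exact preservesEpi_of_surjective_pow P hP p n₀ h


end Groth.Agent.S4490
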