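import Groth.Statements.S2454
import Groth.Agent.Lib.Helper47.FlatFibreSmooth
import Groth.Agent.S2451

set_option autoImplicit false
universe u
open EGA41

namespace Groth.Agent.S2454

open IsLocalRing in
/-- Let A → B be a local homomorphism of Noetherian local rings making B a Cohen A-algebra. Then B, with
its adic topology, is formally smooth over A with its adic topology. -/
theorem result {A B : Type u} [CommRing A] [IsLocalRing A] [CommRing B] [IsLocalRing B]
    [Algebra A B] [IsLocalHom (algebraMap A B)] (h : EGA41.IsCohenAlgebra A B) :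
    EGA41.IsFormallySmoothAdic A (maximalIdeal A) B (maximalIdeal B) := by
  obtain ⟨hA, hB, _, hflat, hmax, hsep⟩ := h
  have hsm : Algebra.FormallySmooth (ResidueField A) (ResidueField B) :=
    Groth.Agent.S2451.result.mpr hsep
  apply Groth.Agent.Lib.Helper47.isFormallySmoothAdic_of_flat_of_fibre
  -- the fibre is the residue field of `B`
  let e₀ : (B ⧸ (maximalIdeal A).map (algebraMap A B)) ≃+* ResidueField B :=
    Ideal.quotEquivOfEq hmax
  let _ : Algebra (A ⧸ maximalIdeal A) (ResidueField B) :=
    inferInstanceAs (Algebra (ResidueField A) (ResidueField B))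
  have hsm₁ : Algebra.FormallySmooth (A ⧸ maximalIdeal A) (ResidueField B) := hsm
  let e : (B ⧸ (maximalIdeal A).map (algebraMap A B)) ≃ₐ[A ⧸ maximalIdeal A] ResidueField B :=
    AlgEquiv.ofRingEquiv (f := e₀) (by
      intro x
      obtain ⟨a, rfl⟩ := Ideal.Quotient.mk_surjective (I := maximalIdeal A) x
      rfl)
  have hsm' : Algebra.FormallySmooth (A ⧸ maximalIdeal A)
      (B ⧸ (maximalIdeal A).map (algebraMap A B)) :=
    Algebra.FormallySmooth.of_equiv (A := ResidueField B) e.symm
  intro C _ _ J hJ _ u _
  exact Algebra.FormallySmooth.exists_lift J hJ u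

end Groth.Agent.S2454
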