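import Groth.Statements.S2455
import Mathlib
import Groth.Agent.Lib.Helper81.ResidueExtNoeth
import Groth.Agent.S4543
import Groth.Agent.Lib.Helper47.FlatFibreSmooth
import Groth.Agent.S2451

set_option autoImplicit false
universe u
open EGA41

namespace Groth.Agent.S2455
open Groth.Agent.Lib.Helper81.ResidueExt in

open IsLocalRing in
/-- Let A be a Noetherian local ring with residue field k and K a separable extension field of k. Then
there is a Cohen A-algebra B whose residue field is k-isomorphic to K; and two Cohen A-algebras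
whose residue fields are k-isomorphic to K are isomorphic as A-algebras. -/
theorem result {A : Type u} [CommRing A] [IsLocalRing A] [IsNoetherianRing A]
    (K : Type u) [Field K] [Algebra (ResidueField A) K] [Algebra.IsGeometricallyReduced (ResidueField A) K] :
    (∃ (B : Type u) (_ : CommRing B) (_ : IsLocalRing B) (_ : Algebra A B) (_ : IsLocalHom (algebraMap A B)),
      EGA41.IsCohenAlgebra A B ∧ Nonempty (ResidueField B ≃ₐ[ResidueField A] K)) ∧
    ∀ (B B' : Type u) [CommRing B] [IsLocalRing B] [Algebra A B] [IsLocalHom (algebraMap A B)]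
      [CommRing B'] [IsLocalRing B'] [Algebra A B'] [IsLocalHom (algebraMap A B')],
      EGA41.IsCohenAlgebra A B → EGA41.IsCohenAlgebra A B' →
      Nonempty (ResidueField B ≃ₐ[ResidueField A] K) → Nonempty (ResidueField B' ≃ₐ[ResidueField A] K) →
      Nonempty (B ≃ₐ[A] B') := by
  classical
  constructor
  · -- existence
    letI : Algebra A K := ((algebraMap (ResidueField A) K).comp (residue A)).toAlgebra
    haveI : IsScalarTower A (ResidueField A) K := IsScalarTower.of_algebraMap_eq (fun _ => rfl)
    obtain ⟨B, _, _, hloc, ψ, hnoeth, hcompl, hflat, hsurj, hψ⟩ :=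
      exists_flat_local_noetherian_complete A K
    haveI := hloc
    have hmax : maximalIdeal B = RingHom.ker (ψ : B →+* K) := maximalIdeal_eq_ker ψ hsurj
    have hmap : (maximalIdeal A).map (algebraMap A B) = maximalIdeal B := by rw [hmax, hψ]
    have hlocal : IsLocalHom (algebraMap A B) := by
      refine ⟨fun r hr => ?_⟩
      by_contra hnu
      have h1 : r ∈ maximalIdeal A := (IsLocalRing.mem_maximalIdeal r).2 hnu
      have h2 : algebraMap A B r ∈ maximalIdeal B := hmap ▸ Ideal.mem_map_of_mem _ h1
      exact (IsLocalRing.mem_maximalIdeal _).1 h2 hr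
    let e0 : (B ⧸ maximalIdeal B) ≃+* K :=
      (Ideal.quotEquivOfEq hmax).trans
        (Ideal.quotientKerAlgEquivOfSurjective hsurj).toRingEquiv
    have he0 : ∀ b : B, e0 (Ideal.Quotient.mk _ b) = ψ b := fun b => rfl
    let e : ResidueField B ≃ₐ[ResidueField A] K := AlgEquiv.ofRingEquiv (f := e0) (by
      intro c
      obtain ⟨r, rfl⟩ := IsLocalRing.residue_surjective c
      have h1 : algebraMap (ResidueField A) (ResidueField B) (residue A r) =
          residue B (algebraMap A B r) := rfl
      rw [h1]
      change e0 (Ideal.Quotient.mk _ (algebraMap A B r)) = _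
      rw [he0, AlgHom.commutes]
      rfl)
    refine ⟨B, inferInstance, hloc, inferInstance, hlocal,
      ⟨inferInstance, hnoeth, hcompl, hflat, hmap, ?_⟩, ⟨e⟩⟩
    exact Algebra.IsGeometricallyReduced.of_injective e.toAlgHom e.injective
  · -- uniqueness
    intro B B' _ _ _ _ _ _ _ _ hB hB' ⟨e⟩ ⟨e'⟩
    obtain ⟨_, hnB, hcB, hfB, hmB, hsB⟩ := hB
    obtain ⟨_, hnB', hcB', hfB', hmB', hsB'⟩ := hB'
    haveI := hnB
    haveI := hnB'
    haveI := hfB
    haveI := hfB'
    set J := maximalIdeal A with hJ
    haveI : IsAdicComplete (J.map (algebraMap A B)) B := hmB ▸ hcB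
    haveI : IsAdicComplete (J.map (algebraMap A B')) B' := hmB' ▸ hcB'
    -- the fibre is formally smooth
    haveI := hsB
    have hfsK : Algebra.FormallySmooth (ResidueField A) (ResidueField B) :=
      Groth.Agent.S2451.result.2 hsB
    let e₂ : (B ⧸ maximalIdeal B) ≃+* (B ⧸ J.map (algebraMap A B)) := Ideal.quotEquivOfEq hmB.symm
    let e₂' : (B' ⧸ maximalIdeal B') ≃+* (B' ⧸ J.map (algebraMap A B')) :=
      Ideal.quotEquivOfEq hmB'.symm
    have halg : algebraMap (A ⧸ J) (B ⧸ J.map (algebraMap A B)) =
        (e₂ : (B ⧸ maximalIdeal B) →+* _).comp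
          (algebraMap (ResidueField A) (ResidueField B)) := by
      apply Ideal.Quotient.ringHom_ext
      ext a
      rfl
    haveI hfsQ : Algebra.FormallySmooth (A ⧸ J) (B ⧸ J.map (algebraMap A B)) := by
      rw [← RingHom.formallySmooth_algebraMap, halg]
      exact (RingHom.formallySmooth_algebraMap.2 hfsK).comp
        (RingHom.FormallySmooth.of_bijective e₂.bijective)
    have hfs1 : EGA41.IsFormallySmoothAdic A (maximalIdeal A) B (maximalIdeal B) :=
      Groth.Agent.Lib.Helper47.isFormallySmoothAdic_of_flat_of_fibre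
        (Groth.Agent.Lib.Helper47.isFormallySmoothAdic_bot_of_formallySmooth _)
    have hfs : EGA41.IsFormallySmoothAdic A J B (J.map (algebraMap A B)) := by
      rw [hmB]
      exact hfs1
    -- the isomorphism of fibres
    let σ : ResidueField B ≃ₐ[ResidueField A] ResidueField B' := e.trans e'.symm
    let u₀r : (B ⧸ J.map (algebraMap A B)) ≃+* (B' ⧸ J.map (algebraMap A B')) :=
      (e₂.symm.trans σ.toRingEquiv).trans e₂'
    let u₀ : (B ⧸ J.map (algebraMap A B)) ≃ₐ[A ⧸ J] (B' ⧸ J.map (algebraMap A B')) :=
      AlgEquiv.ofRingEquiv (f := u₀r) (by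
        intro x
        obtain ⟨a, rfl⟩ := Ideal.Quotient.mk_surjective x
        change e₂' (σ (e₂.symm (Ideal.Quotient.mk _ (algebraMap A B a)))) =
          Ideal.Quotient.mk _ (algebraMap A B' a)
        have h1 : e₂.symm (Ideal.Quotient.mk _ (algebraMap A B a)) =
            algebraMap (ResidueField A) (ResidueField B) (residue A a) := rfl
        rw [h1, σ.commutes]
        rfl)
    obtain ⟨u, -⟩ := Groth.Agent.S4543.result J hmB.le hmB'.le hfs u₀
    exact ⟨u⟩

end Groth.Agent.S2455
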