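import Groth.Statements.S2457
import Groth.Agent.Lib.Helper47.CohenSmooth
import Groth.Agent.Lib.Helper90.PSUniv

set_option autoImplicit false
universe u
open EGA41

namespace Groth.Agent.S2457

open IsLocalRing in
/-- Let W and W' be Cohen rings with residue fields K and K' and u : K ≅ K' an isomorphism. Then u is
induced by some isomorphism v : W ≅ W'. -/
theorem result {W W' : Type u} [CommRing W] [IsLocalRing W] [CommRing W'] [IsLocalRing W']
    (hW : EGA41.IsCohenRingEGA W) (hW' : EGA41.IsCohenRingEGA W') (u : ResidueField W ≃+* ResidueField W') :
    ∃ v : W ≃+* W', ∀ x : W, residue W' (v x) = u (residue W x) := by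
  classical
  -- a field is isomorphic to its residue field
  have hfield : ∀ (F : Type u) [CommRing F] [IsLocalRing F], IsField F →
      Function.Bijective (residue F) := by
    intro F _ _ hF
    refine ⟨?_, residue_surjective⟩
    rw [injective_iff_map_eq_zero]
    intro x hx
    rw [residue_eq_zero_iff] at hx
    by_contra hne
    letI := hF.toField
    exact (mem_maximalIdeal x).mp hx (IsUnit.mk0 x hne)
  -- the residue characteristic of a Cohen ring
  have hcohen_char : ∀ (F : Type u) [CommRing F] [IsLocalRing F], CAlg.IsCohenRing F →
      ∃ p : ℕ, p.Prime ∧ (p : ResidueField F) = 0 := by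
    intro F _ _ hF
    obtain ⟨_, _, _, p, hp, hmax⟩ := hF
    refine ⟨p, hp, ?_⟩
    rw [← map_natCast (residue F), residue_eq_zero_iff, hmax]
    exact Ideal.mem_span_singleton_self _
  have hfield_char : ∀ (F : Type u) [CommRing F] [IsLocalRing F], IsField F → CharZero F →
      ∀ p : ℕ, p.Prime → (p : ResidueField F) ≠ 0 := by
    intro F _ _ hF hchar p hp h0
    rw [← map_natCast (residue F)] at h0
    have := (hfield F hF).1 (h0.trans (map_zero _).symm)
    exact hp.ne_zero (Nat.cast_eq_zero.mp this)
  rcases hW with ⟨hF, hchar⟩ | hC
  · rcases hW' with ⟨hF', hchar'⟩ | hC'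
    · let e := RingEquiv.ofBijective (residue W) (hfield W hF)
      let e' := RingEquiv.ofBijective (residue W') (hfield W' hF')
      refine ⟨e.trans (u.trans e'.symm), fun x => ?_⟩
      change e' (e'.symm (u (e x))) = u (residue W x)
      rw [RingEquiv.apply_symm_apply]
      rfl
    · exfalso
      obtain ⟨p, hp, hp0⟩ := hcohen_char W' hC'
      apply hfield_char W hF hchar p hp
      have : u (p : ResidueField W) = 0 := by rw [map_natCast, hp0]
      exact (map_eq_zero_iff u u.injective).mp this
  · rcases hW' with ⟨hF', hchar'⟩ | hC'
    · exfalso
      obtain ⟨p, hp, hp0⟩ := hcohen_char W hC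
      apply hfield_char W' hF' hchar' p hp
      rw [← map_natCast u, hp0, map_zero]
    · -- both Cohen rings
      haveI : CharZero W' := Groth.Agent.Lib.Helper47.charZero_of_isCohenRing W' hC'
      obtain ⟨hdom, hdvr, hcomp, p, hp, hmax⟩ := id hC
      obtain ⟨hdom', hdvr', hcomp', p', hp', hmax'⟩ := id hC'
      -- p = p'
      have hpp : p = p' := by
        have h1 : (p : ResidueField W') = 0 := by
          have : (p : ResidueField W) = 0 := by
            rw [← map_natCast (residue W), residue_eq_zero_iff, hmax]
            exact Ideal.mem_span_singleton_self _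
          rw [← map_natCast u, this, map_zero]
        have h2 : (p' : ResidueField W') = 0 := by
          rw [← map_natCast (residue W'), residue_eq_zero_iff, hmax']
          exact Ideal.mem_span_singleton_self _
        by_contra hne
        have hcop : Nat.Coprime p p' := (Nat.coprime_primes hp hp').mpr hne
        obtain ⟨a, b, hab⟩ := Nat.Coprime.isCoprime hcop
        have h3 : ((a * p + b * p' : ℤ) : ResidueField W') = 1 := by
          rw [hab]
          exact Int.cast_one
        push_cast at h3
        rw [h1, h2, mul_zero, mul_zero, add_zero] at h3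
        exact zero_ne_one h3
      subst hpp
      let u₁ : W →+* W' ⧸ maximalIdeal W' := (u : ResidueField W →+* ResidueField W').comp (residue W)
      haveI : IsLocalHom u₁ := by
        refine ⟨fun x hx => ?_⟩
        have h1 : IsUnit (u (residue W x)) := hx
        have h2 : IsUnit (residue W x) := by
          have := h1.map (u.symm : ResidueField W' →+* ResidueField W)
          simpa using this
        exact (IsLocalRing.residue_ne_zero_iff_isUnit x).mp h2.ne_zero
      haveI : IsLocalRing (W' ⧸ maximalIdeal W') := inferInstanceAs (IsLocalRing (ResidueField W'))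
      obtain ⟨v, hvlocal, hv⟩ := Groth.Agent.Lib.Helper47.exists_lift_of_isCohenRingEGA
        (Or.inr hC) (maximalIdeal W') (Ideal.IsPrime.ne_top inferInstance) u₁
      have hvres : ∀ x : W, residue W' (v x) = u (residue W x) := fun x => RingHom.congr_fun hv x
      have hp0' : (p : W') ≠ 0 := by
        exact_mod_cast hp.ne_zero
      have hirr : Irreducible (p : W) :=
        (IsDiscreteValuationRing.irreducible_iff_uniformizer _).mpr hmax
      have hinj : Function.Injective v := by
        rw [injective_iff_map_eq_zero]
        intro x hx
        by_contra hne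
        obtain ⟨n, c, hc⟩ := IsDiscreteValuationRing.eq_unit_mul_pow_irreducible hne hirr
        rw [hc, map_mul, map_pow, map_natCast] at hx
        have h1 : IsUnit (v (c : W)) := c.isUnit.map v
        rcases mul_eq_zero.mp hx with h | h
        · exact h1.ne_zero h
        · exact hp0' (eq_zero_of_pow_eq_zero h)
      have hsurj : Function.Surjective v := by
        apply Groth.Agent.Lib.Helper90.PSUniv.surjective_of_complete v (maximalIdeal W)
          (maximalIdeal W')
        · intro a
          obtain ⟨y, hy⟩ := residue_surjective (u.symm (residue W' a))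
          refine ⟨y, ?_⟩
          rw [← residue_eq_zero_iff, map_sub, hvres, hy, RingEquiv.apply_symm_apply, sub_self]
        · rw [hmax, hmax', Ideal.map_span, Set.image_singleton, map_natCast]
        · rw [hmax, hmax', Ideal.map_span, Set.image_singleton, map_natCast]
      exact ⟨RingEquiv.ofBijective v ⟨hinj, hsurj⟩, hvres⟩

end Groth.Agent.S2457
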