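import Groth.Statements.S2458
import Mathlib
import Groth.Agent.Lib.Helper88.SqZeroRegular
import Groth.Agent.Lib.Helper81.CohenLift
import Groth.Agent.Lib.Helper81.CohenRing

set_option autoImplicit false
universe u
open EGA41

namespace Groth.Agent.S2458

open IsLocalRing in
/-- a field mapping onto the residue field gives a coefficient ring. -/
theorem coeff_of_field {A : Type u} [CommRing A] [IsLocalRing A]
    (F : Type u) [Field F] (φ : F →+* A) (hres : ∀ a : A, ∃ l : F, a - φ l ∈ maximalIdeal A) :
    ∃ (Λ : Type u) (_ : CommRing Λ) (_ : IsDomain Λ) (_ : IsLocalRing Λ)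
      (_ : IsPrincipalIdealRing Λ) (φ : Λ →+* A),
      (∀ a : A, ∃ l : Λ, a - φ l ∈ maximalIdeal A) ∧ RingHom.ker φ = maximalIdeal Λ ^ 2 := by
  refine ⟨F, inferInstance, inferInstance, inferInstance, inferInstance, φ, hres, ?_⟩
  rw [IsLocalRing.maximalIdeal_eq_bot, (RingHom.injective_iff_ker_eq_bot φ).mp φ.injective]
  simp

open IsLocalRing in
theorem exists_coeff {A : Type u} [CommRing A] [IsLocalRing A] (h : maximalIdeal A ^ 2 = ⊥) :
    ∃ (Λ : Type u) (_ : CommRing Λ) (_ : IsDomain Λ) (_ : IsLocalRing Λ)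
      (_ : IsPrincipalIdealRing Λ) (φ : Λ →+* A),
      (∀ a : A, ∃ l : Λ, a - φ l ∈ maximalIdeal A) ∧ RingHom.ker φ = maximalIdeal Λ ^ 2 := by
  classical
  let k := ResidueField A
  have hnil : IsNilpotent (maximalIdeal A) := ⟨2, by rw [h]; rfl⟩
  obtain ⟨p, hchar⟩ := CharP.exists k
  rcases CharP.char_is_prime_or_zero k p with hp | hp0
  · -- positive residue characteristic
    have hpf : Fact p.Prime := ⟨hp⟩
    obtain ⟨Λ, _, _, _, _, hcomplete, hm, ⟨e⟩⟩ :=
      Groth.Agent.Lib.Helper81.CohenRing.exists_cohenRing p k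
    let g : Λ →+* A ⧸ maximalIdeal A := (e : ResidueField Λ →+* k).comp (residue Λ)
    have hpm : (p : A) ∈ maximalIdeal A := by
      rw [← Ideal.Quotient.eq_zero_iff_mem, map_natCast]
      exact CharP.cast_eq_zero k p
    have hp2 : (p : A) ^ 2 = 0 := by
      have : (p : A) ^ 2 ∈ maximalIdeal A ^ 2 := Ideal.pow_mem_pow hpm 2
      rw [h] at this
      exact this
    obtain ⟨g', hg'⟩ := Groth.Agent.Lib.Helper81.CohenLift.exists_lift_nilpotent (Λ := Λ) hp hm
      (maximalIdeal A) hnil 2 hp2 g
    have hres : ∀ a : A, ∃ l : Λ, a - g' l ∈ maximalIdeal A := by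
      intro a
      obtain ⟨l, hl⟩ := residue_surjective (e.symm (residue A a))
      refine ⟨l, ?_⟩
      rw [← Ideal.Quotient.eq_zero_iff_mem, map_sub, sub_eq_zero]
      have h1 : Ideal.Quotient.mk (maximalIdeal A) (g' l) = g l := by
        rw [← hg']
        rfl
      rw [h1]
      change residue A a = e (residue Λ l)
      rw [hl, RingEquiv.apply_symm_apply]
    by_cases hgp : g' (p : Λ) = 0
    · -- factor through the residue field of `Λ`
      let φ' : ResidueField Λ →+* A := Ideal.Quotient.lift (maximalIdeal Λ) g' (by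
        intro a ha
        rw [hm] at ha
        obtain ⟨b, rfl⟩ := Ideal.mem_span_singleton'.mp ha
        rw [map_mul, hgp, mul_zero])
      refine coeff_of_field (ResidueField Λ) φ' ?_
      intro a
      obtain ⟨l, hl⟩ := hres a
      exact ⟨residue Λ l, hl⟩
    · refine ⟨Λ, inferInstance, inferInstance, inferInstance, inferInstance, g', hres, ?_⟩
      have hirr : Irreducible (p : Λ) :=
        (IsDiscreteValuationRing.irreducible_iff_uniformizer _).mpr hm
      have hp0 : (p : Λ) ≠ 0 := hirr.ne_zero
      have hpker : (p : Λ) ^ 2 ∈ RingHom.ker g' := by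
        rw [RingHom.mem_ker, map_pow, map_natCast]
        exact hp2
      have hne : RingHom.ker g' ≠ ⊥ := by
        intro hbot
        rw [hbot, Ideal.mem_bot] at hpker
        exact hp0 (pow_eq_zero_iff (two_ne_zero) |>.mp hpker)
      obtain ⟨n, hn⟩ := IsDiscreteValuationRing.ideal_eq_span_pow_irreducible hne hirr
      have hn2 : n ≤ 2 := by
        rw [hn, Ideal.mem_span_singleton] at hpker
        exact (pow_dvd_pow_iff hp0 hirr.not_isUnit).mp hpker
      have hn1 : ¬ n ≤ 1 := by
        intro hle
        apply hgp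
        have : (p : Λ) ∈ RingHom.ker g' := by
          rw [hn, Ideal.mem_span_singleton]
          calc (p : Λ) ^ n ∣ (p : Λ) ^ 1 := pow_dvd_pow _ hle
            _ = (p : Λ) := pow_one _
        exact this
      have hn' : n = 2 := by omega
      rw [hn, hn', hm, Ideal.span_singleton_pow]
  · -- residue characteristic zero
    subst hp0
    have hcz : CharZero k := CharP.charP_to_charZero k
    have hQk : Algebra.FormallySmooth ℚ k := by
      obtain ⟨s, hs⟩ := exists_isTranscendenceBasis ℚ k
      have : Algebra.IsAlgebraic (IntermediateField.adjoin ℚ (Set.range ((↑) : s → k))) k :=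
        hs.isAlgebraic_field
      have : Algebra.IsSeparable (IntermediateField.adjoin ℚ (Set.range ((↑) : s → k))) k :=
        Algebra.IsAlgebraic.isSeparable_of_perfectField
      exact Algebra.FormallySmooth.of_algebraicIndependent_of_isSeparable hs.1
    have hZQ : Algebra.FormallySmooth ℤ ℚ :=
      Algebra.FormallySmooth.of_isLocalization (nonZeroDivisors ℤ)
    have hZk : Algebra.FormallySmooth ℤ k := by
      refine @Algebra.FormallySmooth.comp ℤ _ ℚ _ _ k _ _ _ ?_ _ _
      exact IsScalarTower.of_algebraMap_eq' (RingHom.ext_int _ _)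
    let g : k →ₐ[ℤ] A ⧸ maximalIdeal A := (RingHom.id k).toIntAlgHom
    let φ : k →+* A := (Algebra.FormallySmooth.lift (maximalIdeal A) hnil g).toRingHom
    refine coeff_of_field k φ ?_
    intro a
    refine ⟨residue A a, ?_⟩
    rw [← Ideal.Quotient.eq_zero_iff_mem, map_sub, sub_eq_zero]
    have := Algebra.FormallySmooth.mk_lift (maximalIdeal A) hnil g (residue A a)
    exact this.symm

open IsLocalRing in
/-- Let A be an Artinian local ring whose maximal ideal 𝔪 satisfies 𝔪² = 0. Then there is a regular
local ring B with maximal ideal 𝔫 such that A ≅ B/𝔫². -/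
theorem result {A : Type u} [CommRing A] [IsLocalRing A] [IsArtinianRing A]
    (h : maximalIdeal A ^ 2 = ⊥) :
    ∃ (B : Type u) (_ : CommRing B) (_ : IsRegularLocalRing B), Nonempty (A ≃+* B ⧸ IsLocalRing.maximalIdeal B ^ 2) := by
  have hN : IsNoetherianRing A := inferInstance
  obtain ⟨Λ, _, _, _, _, φ, hres, hker⟩ := exists_coeff h
  exact Groth.Agent.Lib.Helper88.SqZeroRegular.exists_regular_of_coeff h φ hres hker

end Groth.Agent.S2458
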