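import Groth.Statements.S2459
import Groth.Agent.Lib.Helper47.CohenSmooth
import Groth.Agent.Lib.Helper81.CohenRing

set_option autoImplicit false
universe u
open EGA41

namespace Groth.Agent.S2459

open IsLocalRing in
/-- Let A be an Artinian local ring with maximal ideal 𝔪 and residue field of characteristic p (p = 0
allowed). Then A is isomorphic to a quotient of a Cohen ring if and only if 𝔪 is generated by p·1. -/
theorem result {A : Type u} [CommRing A] [IsLocalRing A] [IsArtinianRing A]
    (p : ℕ) [CharP (ResidueField A) p] :
    (∃ (W : Type u) (_ : CommRing W) (I : Ideal W), EGA41.IsCohenRingEGA W ∧ Nonempty (A ≃+* W ⧸ I)) ↔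
      maximalIdeal A = Ideal.span {(p : A)} := by
  constructor
  · rintro ⟨W, _, I, hW, ⟨e⟩⟩
    -- the surjection `W → A`
    let f : W →+* A := (e.symm : W ⧸ I →+* A).comp (Ideal.Quotient.mk I)
    have hf : Function.Surjective f := e.symm.surjective.comp Ideal.Quotient.mk_surjective
    rcases hW with ⟨hfield, hchar⟩ | hW
    · -- `W` a field of characteristic zero
      letI : Field W := hfield.toField
      haveI : CharZero (ResidueField A) :=
        charZero_of_injective_ringHom ((residue A).comp f).injective
      have hp0 : p = 0 := CharP.eq (ResidueField A) inferInstance (CharP.ofCharZero (ResidueField A))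
      have hm := IsLocalRing.map_maximalIdeal_of_surjective f hf
      rw [IsLocalRing.maximalIdeal_eq_bot, Ideal.map_bot] at hm
      rw [← hm, hp0, Nat.cast_zero, Ideal.span_singleton_zero]
    · obtain ⟨hdom, hdvr, hcomplete, q, hq, hm⟩ := hW
      have hmA := IsLocalRing.map_maximalIdeal_of_surjective f hf
      rw [hm, Ideal.map_span, Set.image_singleton, map_natCast] at hmA
      -- `p = q`
      have hq0 : ((q : ℕ) : ResidueField A) = 0 := by
        have h1 : (q : A) ∈ maximalIdeal A := by
          rw [← hmA]; exact Ideal.mem_span_singleton_self _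
        have h2 := (IsLocalRing.residue_eq_zero_iff (q : A)).mpr h1
        rwa [map_natCast] at h2
      have hdvd : p ∣ q := (CharP.cast_eq_zero_iff (ResidueField A) p q).mp hq0
      have hp1 : p ≠ 1 := CharP.char_ne_one (ResidueField A) p
      have hpq : p = q := (Nat.Prime.eq_one_or_self_of_dvd hq p hdvd).resolve_left hp1
      rw [hpq, hmA]
  · intro hm
    rcases Nat.eq_zero_or_pos p with hp0 | hppos
    · -- characteristic zero: `A` is a field
      subst hp0
      rw [Nat.cast_zero, Ideal.span_singleton_zero] at hm
      have hfield : IsField A := IsLocalRing.isField_iff_maximalIdeal_eq.mpr hm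
      haveI : CharZero (ResidueField A) := CharP.charP_to_charZero _
      haveI : CharZero A := (residue A).charZero
      exact ⟨A, inferInstance, ⊥, Or.inl ⟨hfield, inferInstance⟩,
        ⟨(RingEquiv.quotientBot A).symm⟩⟩
    · have hprime : p.Prime :=
        (CharP.char_is_prime_or_zero (ResidueField A) p).resolve_right hppos.ne'
      haveI : Fact p.Prime := ⟨hprime⟩
      obtain ⟨Λ, _, _, hdom, hdvr, hcomplete, hmΛ, ⟨e₀⟩⟩ :=
        Groth.Agent.Lib.Helper81.CohenRing.exists_cohenRing p (ResidueField A)
      have hΛ : EGA41.IsCohenRingEGA Λ := Or.inr ⟨hdom, hdvr, hcomplete, p, hprime, hmΛ⟩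
      -- `A` is complete
      obtain ⟨N, hN⟩ := IsArtinianRing.isNilpotent_jacobson_bot (R := A)
      rw [IsLocalRing.jacobson_eq_maximalIdeal ⊥ bot_ne_top] at hN
      haveI : IsAdicComplete (maximalIdeal A) A := by
        have hbot : (maximalIdeal A ^ N • ⊤ : Submodule A A) = ⊥ := by rw [hN]; simp
        refine { toIsHausdorff := ⟨fun x hx => ?_⟩,
                 toIsPrecomplete := ⟨fun g hg => ⟨g N, fun n => ?_⟩⟩ }
        · have := hx N
          rw [hbot, SModEq.bot] at this
          exact this
        · rcases le_total n N with h | h
          · exact hg h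
          · have := hg h
            rw [hbot, SModEq.bot] at this
            rw [this]
      -- the map to the residue field
      let u : Λ →+* A ⧸ maximalIdeal A := (e₀ : ResidueField Λ →+* ResidueField A).comp (residue Λ)
      have hu : Function.Surjective u := e₀.surjective.comp IsLocalRing.residue_surjective
      haveI : IsLocalRing (A ⧸ maximalIdeal A) := inferInstanceAs (IsLocalRing (ResidueField A))
      haveI : IsLocalHom u := by
        constructor
        intro x hx
        by_contra hnx
        have h1 : residue Λ x = 0 := (IsLocalRing.residue_eq_zero_iff x).mpr hnx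
        have h2 : u x = 0 := by
          change e₀ (residue Λ x) = 0
          rw [h1, map_zero]
        rw [h2] at hx
        exact not_isUnit_zero hx
      obtain ⟨v, hvloc, hv⟩ := Groth.Agent.Lib.Helper47.exists_lift_of_isCohenRingEGA hΛ
        (maximalIdeal A) (IsLocalRing.maximalIdeal.isMaximal A).ne_top u
      -- `v` is surjective
      have hstep : ∀ n : ℕ, ∀ a : A, ∃ w : Λ, a - v w ∈ maximalIdeal A ^ n := by
        intro n
        induction n with
        | zero => intro a; exact ⟨0, by simp⟩
        | succ n ih =>
          intro a
          obtain ⟨w, hw⟩ := ih a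
          rw [hm, Ideal.span_singleton_pow, Ideal.mem_span_singleton'] at hw
          obtain ⟨b, hb⟩ := hw
          obtain ⟨w', hw'⟩ := hu (Ideal.Quotient.mk _ b)
          have h1 : b - v w' ∈ maximalIdeal A := by
            rw [← Ideal.Quotient.eq, ← hw', ← hv]
            rfl
          refine ⟨w + (p : Λ) ^ n * w', ?_⟩
          have h2 : a - v (w + (p : Λ) ^ n * w') = (b - v w') * (p : A) ^ n := by
            rw [map_add, map_mul, map_pow, map_natCast]
            linear_combination -hb
          rw [h2, pow_succ']
          refine Ideal.mul_mem_mul h1 ?_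
          rw [hm, Ideal.span_singleton_pow]
          exact Ideal.mem_span_singleton_self _
      have hvs : Function.Surjective v := by
        intro a
        obtain ⟨w, hw⟩ := hstep N a
        rw [hN, Ideal.zero_eq_bot, Ideal.mem_bot, sub_eq_zero] at hw
        exact ⟨w, hw.symm⟩
      exact ⟨Λ, inferInstance, RingHom.ker v, hΛ,
        ⟨(RingHom.quotientKerEquivOfSurjective hvs).symm⟩⟩

end Groth.Agent.S2459
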