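import Groth.Statements.S2464
import Mathlib
import Groth.Agent.Lib.Helper81.PBasis
import Groth.Agent.Lib.Helper81.PBasisEGA

set_option autoImplicit false
universe u
open EGA41

namespace Groth.Agent.S2464

open Groth.Agent.Lib.Helper81.PBasis Groth.Agent.Lib.Helper81.PBasisEGA

/-- Let p be a prime, B a ring of characteristic p and A → B an injective ring map whose image contains
every p-th power, and (x_α) a p-basis of B over A. Let E be an A-algebra and q : E → B a surjective
A-algebra homomorphism whose kernel K has K^p = 0. (i) q admits an A-algebra right inverse if and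
only if, for all z ∈ E and a ∈ A with a ↦ q(z)^p in B, the image of a in E is z^p. (ii) When this
holds, for every family (z_α) in E with q(z_α) = x_α there is a unique A-algebra homomorphism v : B
→ E with v(x_α) = z_α for all α, and q ∘ v is the identity. -/
theorem result (p : ℕ) [Fact p.Prime] {A B : Type u} [CommRing A] [CommRing B] [Algebra A B] [CharP B p]
    (hinj : Function.Injective (algebraMap A B)) (hpow : ∀ b : B, b ^ p ∈ Set.range (algebraMap A B))
    {ι : Type u} (x : ι → B) (hx : EGA41.IsPBasis p A x)
    {E : Type u} [CommRing E] [Algebra A E] (q : E →ₐ[A] B) (hq : Function.Surjective q) (hK : RingHom.ker q.toRingHom ^ p = ⊥) :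
    ((∃ v : B →ₐ[A] E, q.comp v = AlgHom.id A B) ↔ ∀ (z : E) (a : A), algebraMap A B a = q z ^ p → algebraMap A E a = z ^ p) ∧
    ((∀ (z : E) (a : A), algebraMap A B a = q z ^ p → algebraMap A E a = z ^ p) →
      ∀ z : ι → E, (∀ i, q (z i) = x i) →
        (∃! v : B →ₐ[A] E, ∀ i, v (x i) = z i) ∧ ∀ v : B →ₐ[A] E, (∀ i, v (x i) = z i) → q.comp v = AlgHom.id A B) := by
  classical
  have hp : p.Prime := Fact.out
  have hli := linearIndependent_of_isPIndependent hinj x hx.1
  have hspan := span_eq_top_of_isPGenerating hpow x hx.2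
  choose a ha using fun i => hpow (x i)
  have hxa : ∀ i, x i ^ p = algebraMap A B (a i) := fun i => (ha i).symm
  -- `E` has characteristic `p`
  have hpA : (p : A) = 0 := hinj (by rw [map_natCast, map_zero]; exact CharP.cast_eq_zero B p)
  have hpE : (p : E) = 0 := by rw [← map_natCast (algebraMap A E), hpA, map_zero]
  haveI : Nontrivial B := CharP.nontrivial_of_char_ne_one (R := B) (v := p) hp.ne_one
  haveI : Nontrivial E := q.toRingHom.domain_nontrivial
  haveI : CharP E p := ringChar.of_eq (CharP.ringChar_of_prime_eq_zero hp hpE)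
  have part2 : (∀ (z : E) (a : A), algebraMap A B a = q z ^ p → algebraMap A E a = z ^ p) →
      ∀ z : ι → E, (∀ i, q (z i) = x i) →
        (∃! v : B →ₐ[A] E, ∀ i, v (x i) = z i) ∧
          ∀ v : B →ₐ[A] E, (∀ i, v (x i) = z i) → q.comp v = AlgHom.id A B := by
    intro cond z hz
    have hz' : ∀ i, z i ^ p = algebraMap A E (a i) := fun i =>
      (cond (z i) (a i) (by rw [ha i, hz i])).symm
    refine ⟨existsUnique_algHom hp.pos hxa hli hspan z hz', ?_⟩
    intro v hv
    refine (existsUnique_algHom hp.pos hxa hli hspan x hxa).unique ?_ ?_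
    · intro i
      rw [AlgHom.comp_apply, hv i, hz i]
    · intro i
      rfl
  refine ⟨⟨?_, ?_⟩, part2⟩
  · rintro ⟨v, hv⟩ z a haz
    have hv' : ∀ b, q (v b) = b := fun b => by
      have := congrArg (fun f : B →ₐ[A] B => f b) hv
      simpa using this
    have hw : z - v (q z) ∈ RingHom.ker q.toRingHom := by
      rw [RingHom.mem_ker]
      show q (z - v (q z)) = 0
      rw [map_sub, hv', sub_self]
    have hw' : (z - v (q z)) ^ p = 0 := by
      have := Ideal.pow_mem_pow hw p
      rwa [hK, Ideal.mem_bot] at this
    rw [sub_pow_char, ← map_pow, ← haz, AlgHom.commutes, sub_eq_zero] at hw'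
    exact hw'.symm
  · intro cond
    choose z hz using fun i => hq (x i)
    obtain ⟨⟨v, hv, -⟩, h2⟩ := part2 cond z hz
    exact ⟨v, h2 v hv⟩

end Groth.Agent.S2464
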