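import Groth.Statements.S2472
import Mathlib
import Groth.Agent.Lib.Helper88.TwistPS
import Groth.Agent.Lib.Helper88.TwistSmooth
import Groth.Agent.Lib.Helper58.MvPSComplete
import Groth.Agent.Lib.Helper73.RegularPowerSeries
import Groth.Agent.S11741

set_option autoImplicit false
universe u
open EGA41

namespace Groth.Agent.S2472

set_option linter.unusedSectionVars false

open IsLocalRing TensorProduct Groth.Agent.Lib.Helper88.TwistSmooth
  Groth.Agent.Lib.Helper88.ImperfKey in
theorem forward {k K : Type u} [Field k] [Field K] [Algebra k K]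
    (A : Type u) [CommRing A] [IsLocalRing A] [IsNoetherianRing A] [Algebra k A]
    (hfs : CAlgX.IsAdicFormallySmooth k A (maximalIdeal A)) (e : ResidueField A ≃ₐ[k] K) :
    Module.Finite K (EGA41.imperfection ℤ k K) := by
  let _algAK : Algebra A K := ((e : ResidueField A →+* K).comp (residue A)).toAlgebra
  have hmap : ∀ a : A, algebraMap A K a = e (residue A a) := fun a => rfl
  have _tower : IsScalarTower k A K := by
    refine IsScalarTower.of_algebraMap_eq (fun x => ?_)
    rw [hmap]
    have h1 : residue A (algebraMap k A x) = algebraMap k (ResidueField A) x := rfl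
    rw [h1, AlgEquiv.commutes]
  have hsurj : Function.Surjective (algebraMap A K) := by
    intro c
    obtain ⟨a, ha⟩ := residue_surjective (e.symm c)
    exact ⟨a, by rw [hmap, ha, AlgEquiv.apply_symm_apply]⟩
  exact finite_imperfection_of_isAdicFormallySmooth k A K hsurj hfs

open IsLocalRing TensorProduct Groth.Agent.Lib.Helper88.TwistSmooth
  Groth.Agent.Lib.Helper88.ImperfKey in
theorem backward {k K : Type u} [Field k] [Field K] [Algebra k K]
    (hfin : Module.Finite K (EGA41.imperfection ℤ k K)) (n : ℕ)
    (hn : Module.finrank K (EGA41.imperfection ℤ k K) ≤ n) :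
    ∃ (A : Type u) (_ : CommRing A) (_ : IsLocalRing A) (_ : IsNoetherianRing A) (_ : Algebra k A),
        IsAdicComplete (maximalIdeal A) A ∧ CAlgX.IsAdicFormallySmooth k A (maximalIdeal A) ∧
        Nonempty (ResidueField A ≃ₐ[k] K) ∧ ringKrullDim A = n := by
  obtain ⟨δt, hδt⟩ := exists_detecting_map (EGA41.imperfection ℤ k K) n hn
  let δ : Derivation ℤ k (Fin n → K) :=
    ((δt.restrictScalars k).comp (TensorProduct.mk k K Ω[k⁄ℤ] 1)).compDer
      (KaehlerDifferential.D ℤ k)
  have hδ : ∀ x : k, δ x = δt (1 ⊗ₜ[k] KaehlerDifferential.D ℤ k x) := fun x => rfl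
  obtain ⟨j, hj0, hj1⟩ := Groth.Agent.Lib.Helper88.TwistPS.exists_twist n δ
  let _algkA : Algebra k (MvPowerSeries (Fin n) K) := j.toAlgebra
  let _algAK : Algebra (MvPowerSeries (Fin n) K) K := ccAlgebra n K
  have hjmap : ∀ x : k, algebraMap k (MvPowerSeries (Fin n) K) x = j x := fun x => rfl
  have _tower : IsScalarTower k (MvPowerSeries (Fin n) K) K := by
    refine IsScalarTower.of_algebraMap_eq (fun x => ?_)
    rw [ccAlgebra_algebraMap, hjmap, hj0]
  have hsurj : Function.Surjective (algebraMap (MvPowerSeries (Fin n) K) K) :=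
    ccAlgebra_surjective n K
  have hreg : IsRegularLocalRing (MvPowerSeries (Fin n) K) := by
    have := Groth.Agent.Lib.Helper73.RegularRing.isRegularRing_mvPowerSeries K n
    exact IsRegularLocalRing.of_isRegularRing_of_isLocalRing _
  have hcK : IsAdicComplete (maximalIdeal K) K := by
    rw [IsLocalRing.maximalIdeal_eq_bot]
    infer_instance
  refine ⟨MvPowerSeries (Fin n) K, inferInstance, inferInstance, inferInstance, j.toAlgebra,
    Groth.Agent.Lib.Helper58.MvPSComplete.isAdicComplete, ?_, ?_, ?_⟩
  · refine isAdicFormallySmooth_of_data k (MvPowerSeries (Fin n) K) K hsurj hreg δt hδt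
      (Dlin n K) (fun x => ?_)
    funext i
    rw [Dlin_apply, hjmap, hj1, hδ]
  · exact nonempty_residueField_algEquiv k (MvPowerSeries (Fin n) K) K hsurj
  · exact Groth.Agent.S11741.ringKrullDim_mvPowerSeries K n

open IsLocalRing in
/-- Existence part and the range of dimensions: let k ⊆ K be fields. There is a Noetherian local
k-algebra A, formally smooth over k for its adic topology, whose residue field is k-isomorphic to K,
if and only if Υ_{K/k} is a finite-dimensional K-vector space. When this holds, for every integer n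
≥ rank Υ_{K/k} there is such an A which is moreover complete and of dimension n. (The source's
uniqueness-up-to-isomorphism clause for a given dimension is not stated.) -/
theorem result {k K : Type u} [Field k] [Field K] [Algebra k K] :
    ((∃ (A : Type u) (_ : CommRing A) (_ : IsLocalRing A) (_ : IsNoetherianRing A) (_ : Algebra k A),
        CAlgX.IsAdicFormallySmooth k A (maximalIdeal A) ∧ Nonempty (ResidueField A ≃ₐ[k] K)) ↔
      Module.Finite K (EGA41.imperfection ℤ k K)) ∧
    (Module.Finite K (EGA41.imperfection ℤ k K) → ∀ n : ℕ, Module.finrank K (EGA41.imperfection ℤ k K) ≤ n →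
      ∃ (A : Type u) (_ : CommRing A) (_ : IsLocalRing A) (_ : IsNoetherianRing A) (_ : Algebra k A),
        IsAdicComplete (maximalIdeal A) A ∧ CAlgX.IsAdicFormallySmooth k A (maximalIdeal A) ∧
        Nonempty (ResidueField A ≃ₐ[k] K) ∧ ringKrullDim A = n) := by
  refine ⟨⟨?_, ?_⟩, ?_⟩
  · rintro ⟨A, _, _, _, _, hfs, ⟨e⟩⟩
    exact forward A hfs e
  · intro hfin
    obtain ⟨A, i1, i2, i3, i4, -, hfs, he, -⟩ := backward hfin _ le_rfl
    exact ⟨A, i1, i2, i3, i4, hfs, he⟩
  · intro hfin n hn
    exact backward hfin n hn

end Groth.Agent.S2472
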