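import Groth.Statements.S2474
import Mathlib
import Groth.Agent.Lib.Helper48.IntegralClosureSemilocal

set_option autoImplicit false
universe u
open EGA41

namespace Groth.Agent.S2474

open IsLocalRing in
/-- Let A be a Noetherian local domain with fraction field K, K' a finite extension of K and A' the
integral closure of A in K'. Then A' has only finitely many maximal ideals, and for every maximal
ideal 𝔪' of A' the field A'/𝔪' is a finite extension of the residue field of A (equivalently a
finite A-module). -/
theorem result {A K' : Type u} [CommRing A] [IsDomain A] [IsLocalRing A] [IsNoetherianRing A]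
    [Field K'] [Algebra A K'] [Algebra (FractionRing A) K'] [IsScalarTower A (FractionRing A) K'] [FiniteDimensional (FractionRing A) K'] :
    {m : Ideal (integralClosure A K') | m.IsMaximal}.Finite ∧
      ∀ (m : Ideal (integralClosure A K')), m.IsMaximal → Module.Finite A (integralClosure A K' ⧸ m) := by
  obtain ⟨Cα, hfin, hfrac, hint, hinj, hsurj⟩ :=
    Groth.Agent.Lib.Helper48.exists_radicial_finite_subalgebra (A := A) (K' := K')
  haveI := hfin
  have hintegral : (Subalgebra.inclusion hint).toRingHom.IsIntegral := by
    refine RingHom.IsIntegral.tower_top (algebraMap A Cα) _ ?_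
    have h1 : (Subalgebra.inclusion hint).toRingHom.comp (algebraMap A Cα) =
        algebraMap A (integralClosure A K') := (Subalgebra.inclusion hint).comp_algebraMap
    rw [h1]
    exact algebraMap_isIntegral_iff.mpr inferInstance
  constructor
  · have hfinC : {n : Ideal Cα | n.IsMaximal}.Finite := by
      refine (Algebra.QuasiFinite.finite_primesOver (S := Cα) (IsLocalRing.maximalIdeal A)).subset
        (fun n hn => ?_)
      haveI : n.IsMaximal := hn
      exact ⟨hn.isPrime,
        ⟨(IsLocalRing.eq_maximalIdeal (Ideal.isMaximal_comap_of_isIntegral_of_isMaximal n)).symm⟩⟩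
    refine Set.Finite.of_injOn (f := fun m => m.comap (Subalgebra.inclusion hint).toRingHom)
      ?_ ?_ hfinC
    · intro m hm
      haveI : m.IsMaximal := hm
      exact Ideal.isMaximal_comap_of_isIntegral_of_isMaximal' _ hintegral m
    · intro m hm m' hm' h
      have hm1 : m.IsMaximal := hm
      have hm2 : m'.IsMaximal := hm'
      have := @hinj ⟨m, hm1.isPrime⟩ ⟨m', hm2.isPrime⟩ (PrimeSpectrum.ext h)
      exact congrArg PrimeSpectrum.asIdeal this
  · intro m hm
    let ψ : Cα →ₗ[A] (integralClosure A K' ⧸ m) :=
      ((Ideal.Quotient.mkₐ A m).comp (Subalgebra.inclusion hint)).toLinearMap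
    exact Module.Finite.of_surjective ψ (hsurj m hm)

end Groth.Agent.S2474
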