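import Groth.Statements.S2481
import Groth.Agent.Lib.Helper47.SmallExtension
import Groth.Agent.Lib.Helper47.FlatFibreSmooth

set_option autoImplicit false
universe u
open EGA41

namespace Groth.Agent.S2481

open IsLocalRing in
/-- Let A → B be a local homomorphism of Noetherian local rings with the adic topologies, K the residue
field of B. Then B is formally smooth over A if and only if: for every Artinian local ring C with a
local homomorphism A → C, every nilpotent ideal J of C and every local A-algebra homomorphism u : B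
→ C/J inducing a bijection of residue fields (so that C has residue field K and u induces the
identity on it), u is induced by a local A-algebra homomorphism B → C. -/
theorem result {A B : Type u} [CommRing A] [IsLocalRing A] [IsNoetherianRing A] [CommRing B] [IsLocalRing B] [IsNoetherianRing B]
    [Algebra A B] [IsLocalHom (algebraMap A B)] :
    EGA41.IsFormallySmoothAdic A (maximalIdeal A) B (maximalIdeal B) ↔
      ∀ (C : Type u) [CommRing C] [IsLocalRing C] [IsArtinianRing C] [Algebra A C] [IsLocalHom (algebraMap A C)]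
        (J : Ideal C), IsNilpotent J → ∀ [IsLocalRing (C ⧸ J)] (u : B →ₐ[A] C ⧸ J) [IsLocalHom u.toRingHom],
        Function.Bijective (ResidueField.map u.toRingHom) →
        ∃ f : B →ₐ[A] C, IsLocalHom f.toRingHom ∧ (Ideal.Quotient.mkₐ A J).comp f = u := by
  constructor
  · intro h C _ _ _ _ _ J hJ _ u _ _
    obtain ⟨n, hn⟩ := (isArtinianRing_iff_isNilpotent_maximalIdeal C).mp inferInstance
    rw [Ideal.zero_eq_bot] at hn
    have hC : ∃ k : ℕ, ((maximalIdeal A) ^ k).map (algebraMap A C) = ⊥ := by
      refine ⟨n, ?_⟩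
      rw [eq_bot_iff, Ideal.map_pow, ← hn]
      exact Ideal.pow_right_mono (IsLocalRing.map_maximalIdeal_le (algebraMap A C)) n
    have hu : ∃ k : ℕ, ∀ x ∈ (maximalIdeal B) ^ k, u x = 0 := by
      refine ⟨n, fun x hx => ?_⟩
      have h1 : u.toRingHom x ∈ ((maximalIdeal B) ^ n).map u.toRingHom := Ideal.mem_map_of_mem _ hx
      rw [Ideal.map_pow] at h1
      have h2 := Ideal.pow_right_mono (IsLocalRing.map_maximalIdeal_le u.toRingHom) n h1
      rw [← IsLocalRing.map_maximalIdeal_of_surjective (Ideal.Quotient.mk J)
        Ideal.Quotient.mk_surjective, ← Ideal.map_pow, hn, Ideal.map_bot] at h2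
      exact h2
    obtain ⟨f, hf⟩ := h C J hJ hC u hu
    refine ⟨f, ⟨fun b hb => ?_⟩, hf⟩
    have h1 : IsUnit (Ideal.Quotient.mk J (f b)) := hb.map (Ideal.Quotient.mk J)
    have h2 : Ideal.Quotient.mk J (f b) = u b := AlgHom.congr_fun hf b
    rw [h2] at h1
    exact IsUnit.of_map u.toRingHom b h1
  · intro H
    apply Groth.Agent.Lib.Helper47.isFormallySmoothAdic_of_isAdicFormallySmooth
    apply Groth.Agent.Lib.Helper47.isAdicFormallySmooth_of_smallLift
    intro C _ _ _ _ _ J hJ _ _ ψ _ hbij
    obtain ⟨f, _, hf⟩ := H C J ⟨2, hJ⟩ ψ hbij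
    exact ⟨f, hf⟩

end Groth.Agent.S2481
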