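import Groth.Statements.S2482
import Groth.Agent.Lib.Helper47.FlatFibreSmooth
import Groth.Agent.Lib.Helper47.AdicLiftComplete
import Groth.Agent.Lib.Helper90.PSUniv
import Groth.Agent.S2451

set_option autoImplicit false
universe u
open EGA41

namespace Groth.Agent.S2482

open IsLocalRing in
/-- (a) ⟹ (b): let A, B be complete discrete valuation rings and u : A → B a ring homomorphism with
u(𝔪_A)B = 𝔪_B, such that the residue field L of B is separable over the residue field K of A. Then
for every complete discrete valuation ring B', every homomorphism u' : A → B' with u'(𝔪_A)B' =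
𝔪_{B'} and every isomorphism σ of residue fields L ≅ L' compatible with the maps from K, there is an
isomorphism w : B ≅ B' with u' = w ∘ u inducing σ on residue fields. -/
theorem result {A B B' : Type u} [CommRing A] [IsDomain A] [IsDiscreteValuationRing A] [IsAdicComplete (maximalIdeal A) A]
    [CommRing B] [IsDomain B] [IsDiscreteValuationRing B] [IsAdicComplete (maximalIdeal B) B]
    [CommRing B'] [IsDomain B'] [IsDiscreteValuationRing B'] [IsAdicComplete (maximalIdeal B') B']
    (u : A →+* B) [IsLocalHom u] (hu : (maximalIdeal A).map u = maximalIdeal B)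
    (hsep : letI := (ResidueField.map u).toAlgebra; Algebra.IsGeometricallyReduced (ResidueField A) (ResidueField B))
    (u' : A →+* B') [IsLocalHom u'] (hu' : (maximalIdeal A).map u' = maximalIdeal B')
    (σ : ResidueField B ≃+* ResidueField B') (hσ : (σ : ResidueField B →+* ResidueField B').comp (ResidueField.map u) = ResidueField.map u') :
    ∃ w : B ≃+* B', (w : B →+* B').comp u = u' ∧ ∀ b : B, residue B' (w b) = σ (residue B b) := by
  letI : Algebra A B := u.toAlgebra
  letI : Algebra A B' := u'.toAlgebra
  haveI : IsLocalHom (algebraMap A B) := ‹IsLocalHom u›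
  haveI : IsLocalHom (algebraMap A B') := ‹IsLocalHom u'›
  -- uniformizers
  obtain ⟨π, hπ⟩ := IsDiscreteValuationRing.exists_irreducible A
  have hmA : maximalIdeal A = Ideal.span {π} := hπ.maximalIdeal_eq
  have hmB : maximalIdeal B = Ideal.span {u π} := by
    rw [← hu, hmA, Ideal.map_span, Set.image_singleton]
  have hmB' : maximalIdeal B' = Ideal.span {u' π} := by
    rw [← hu', hmA, Ideal.map_span, Set.image_singleton]
  have hirrB : Irreducible (u π) :=
    (IsDiscreteValuationRing.irreducible_iff_uniformizer _).mpr hmB
  have hirrB' : Irreducible (u' π) :=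
    (IsDiscreteValuationRing.irreducible_iff_uniformizer _).mpr hmB'
  -- `u` is injective, so `B` is flat over `A`
  have hinj : Function.Injective u := by
    rw [injective_iff_map_eq_zero]
    intro x hx
    by_contra hne
    obtain ⟨n, c, hc⟩ := IsDiscreteValuationRing.eq_unit_mul_pow_irreducible hne hπ
    rw [hc, map_mul, map_pow] at hx
    rcases mul_eq_zero.mp hx with h | h
    · exact (c.isUnit.map u).ne_zero h
    · exact hirrB.ne_zero (eq_zero_of_pow_eq_zero h)
  haveI : Module.IsTorsionFree A B := by
    apply Module.IsTorsionFree.of_smul_eq_zero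
    intro a b hab
    rw [Algebra.smul_def, mul_eq_zero] at hab
    rcases hab with h | h
    · left
      exact (map_eq_zero_iff _ hinj).mp h
    · exact Or.inr h
  haveI : Module.Flat A B := inferInstance
  have heq : (ResidueField.map u).toAlgebra =
      (inferInstance : Algebra (ResidueField A) (ResidueField B)) := by
    apply Algebra.algebra_ext
    intro r
    obtain ⟨a, rfl⟩ := residue_surjective r
    rfl
  have hsep' : Algebra.IsGeometricallyReduced (ResidueField A) (ResidueField B) := by
    have h0 := hsep
    rw [heq] at h0
    exact h0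
  have hsm : Algebra.FormallySmooth (ResidueField A) (ResidueField B) :=
    Groth.Agent.S2451.result.mpr hsep'
  have hB : EGA41.IsFormallySmoothAdic A (maximalIdeal A) B (maximalIdeal B) :=
    Groth.Agent.Lib.Helper47.isFormallySmoothAdic_of_flat_of_map_maximalIdeal_eq hu hsm
  -- the map to the residue field of `B'`
  let u₁ : B →ₐ[A] B' ⧸ maximalIdeal B' :=
    { toRingHom := (σ : ResidueField B →+* ResidueField B').comp (residue B)
      commutes' := fun a => by
        change σ (residue B (u a)) = residue B' (u' a)
        have h1 := RingHom.congr_fun hσ (residue A a)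
        rw [RingHom.comp_apply, ResidueField.map_residue, ResidueField.map_residue] at h1
        exact h1 }
  have hu₁ : (maximalIdeal B).map u₁.toRingHom ≤
      (maximalIdeal B').map (Ideal.Quotient.mk (maximalIdeal B')) := by
    rw [Ideal.map_le_iff_le_comap]
    intro b hb
    have h1 : u₁.toRingHom b = 0 := by
      change σ (residue B b) = 0
      rw [(residue_eq_zero_iff b).mpr hb, map_zero]
    rw [Ideal.mem_comap, h1]
    exact zero_mem _
  obtain ⟨v, -, hv⟩ := Groth.Agent.Lib.Helper47.exists_lift_complete_local (maximalIdeal B)
    (maximalIdeal B') (Ideal.IsPrime.ne_top inferInstance) u₁ hu₁ (maximalIdeal A) hB hu'.le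
  have hvres : ∀ b : B, residue B' (v b) = σ (residue B b) := fun b => AlgHom.congr_fun hv b
  have hvu : ∀ a : A, v (u a) = u' a := fun a => v.commutes a
  have hvinj : Function.Injective v := by
    rw [injective_iff_map_eq_zero]
    intro x hx
    by_contra hne
    obtain ⟨n, c, hc⟩ := IsDiscreteValuationRing.eq_unit_mul_pow_irreducible hne hirrB
    rw [hc, map_mul, map_pow, hvu] at hx
    rcases mul_eq_zero.mp hx with h | h
    · exact (c.isUnit.map v).ne_zero h
    · exact hirrB'.ne_zero (eq_zero_of_pow_eq_zero h)
  have hmap : (maximalIdeal B).map v.toRingHom = maximalIdeal B' := by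
    rw [hmB, hmB', Ideal.map_span, Set.image_singleton]
    congr 2
    exact hvu π
  have hvsurj : Function.Surjective v.toRingHom := by
    apply Groth.Agent.Lib.Helper90.PSUniv.surjective_of_complete v.toRingHom (maximalIdeal B)
      (maximalIdeal B')
    · intro a
      obtain ⟨y, hy⟩ := residue_surjective (σ.symm (residue B' a))
      refine ⟨y, ?_⟩
      rw [← residue_eq_zero_iff, map_sub]
      change residue B' a - residue B' (v y) = 0
      rw [hvres, hy, RingEquiv.apply_symm_apply, sub_self]
    · exact hmap.ge
    · exact hmap.le
  refine ⟨RingEquiv.ofBijective v.toRingHom ⟨hvinj, hvsurj⟩, ?_, ?_⟩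
  · ext a
    exact hvu a
  · intro b
    exact hvres b

end Groth.Agent.S2482
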