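import Groth.Statements.S2483
import Mathlib
import Groth.Agent.Lib.Helper90.PSUniv
import Groth.Agent.Lib.Helper90.CoeffField

set_option autoImplicit false
universe u
open EGA41

namespace Groth.Agent.S2483.Aux

set_option linter.style.haveILetI false

open IsLocalRing Groth.Agent.Lib.Helper90

/-- an additive map with the Leibniz rule on a field vanishes on the prime subfield -/
theorem deriv_bot {K : Type u} [Field K] (δ : K → K) (hadd : ∀ a b, δ (a + b) = δ a + δ b)
    (hmul : ∀ a b, δ (a * b) = a * δ b + b * δ a) (x : K)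
    (hx : x ∈ (⊥ : Subfield K)) : δ x = 0 := by
  have h0 : δ 0 = 0 := by
    have := hadd 0 0
    rw [add_zero] at this
    exact left_eq_add.mp this
  have h1 : δ 1 = 0 := by
    have := hmul 1 1
    rw [mul_one, one_mul] at this
    exact left_eq_add.mp this
  let S : Subfield K :=
    { carrier := {x | δ x = 0}
      mul_mem' := by
        intro a b ha hb
        simp only [Set.mem_ofPred_eq] at ha hb ⊢
        rw [hmul, ha, hb]; simp
      one_mem' := h1
      add_mem' := by
        intro a b ha hb
        simp only [Set.mem_ofPred_eq] at ha hb ⊢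
        rw [hadd, ha, hb, add_zero]
      zero_mem' := h0
      neg_mem' := by
        intro a ha
        simp only [Set.mem_ofPred_eq] at ha ⊢
        have := hadd a (-a)
        rw [add_neg_cancel, h0, ha, zero_add] at this
        exact this.symm
      inv_mem' := by
        intro a ha
        simp only [Set.mem_ofPred_eq] at ha ⊢
        by_cases ha0 : a = 0
        · rw [ha0, inv_zero]; exact h0
        · have := hmul a a⁻¹
          rw [mul_inv_cancel₀ ha0, h1, ha, mul_zero, add_zero] at this
          exact (mul_eq_zero.mp this.symm).resolve_left ha0 }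
  have : (⊥ : Subfield K) ≤ S := bot_le
  exact this hx

theorem exists_derivation {K : Type u} [Field K] [Algebra ℤ K] (h : Nontrivial (Ω[K⁄ℤ])) :
    ∃ δ : K → K, (∀ a b, δ (a + b) = δ a + δ b) ∧ (∀ a b, δ (a * b) = a * δ b + b * δ a) ∧
      ∃ x₀, δ x₀ ≠ 0 := by
  obtain ⟨ω, hω⟩ := exists_ne (0 : Ω[K⁄ℤ])
  obtain ⟨ℓ, hℓ⟩ : ∃ ℓ : Module.Dual K (Ω[K⁄ℤ]), ℓ ω ≠ 0 := by
    by_contra hcon
    push Not at hcon
    exact hω ((Module.forall_dual_apply_eq_zero_iff K ω).mp hcon)
  refine ⟨fun x => ℓ (KaehlerDifferential.D ℤ K x), fun a b => by simp, fun a b => ?_, ?_⟩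
  · simp only [Derivation.leibniz, map_add, map_smul, smul_eq_mul]
  · by_contra hcon
    push Not at hcon
    apply hℓ
    have hω' : ω ∈ Submodule.span K (Set.range (KaehlerDifferential.D ℤ K)) := by
      rw [KaehlerDifferential.span_range_derivation]; trivial
    refine Submodule.span_induction (p := fun y _ => ℓ y = 0) ?_ ?_ ?_ ?_ hω'
    · rintro _ ⟨x, rfl⟩
      exact hcon x
    · simp
    · intro a b _ _ ha hb
      rw [map_add, ha, hb, add_zero]
    · intro c a _ ha
      rw [map_smul, ha, smul_zero]

theorem unique_of_subsingleton {C : Type u} [CommRing C] [IsLocalRing C] [IsNoetherianRing C]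
    [IsAdicComplete (maximalIdeal C) C]
    (u v : ResidueField C →+* C) (hu : ∀ x, residue C (u x) = x) (hv : ∀ x, residue C (v x) = x)
    (h : Subsingleton (Ω[ResidueField C⁄ℤ])) : v = u := by
  haveI : Algebra.FormallyUnramified ℤ (ResidueField C) := ⟨h⟩
  ext x
  have hH : IsHausdorff (maximalIdeal C) C := inferInstance
  rw [← sub_eq_zero]
  apply hH.haus
  intro n
  rw [SModEq.zero, smul_eq_mul, Ideal.mul_top]
  rcases Nat.eq_zero_or_pos n with rfl | hn
  · simp
  -- the quotient map C/m^n → K
  have hle : maximalIdeal C ^ n ≤ RingHom.ker (residue C) := by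
    rw [IsLocalRing.ker_residue]
    exact Ideal.pow_le_self hn.ne'
  let f : C ⧸ maximalIdeal C ^ n →+* ResidueField C :=
    Ideal.Quotient.lift (maximalIdeal C ^ n) (residue C) (fun a ha => hle ha)
  have hker : RingHom.ker f ≤ (maximalIdeal C).map (Ideal.Quotient.mk (maximalIdeal C ^ n)) := by
    intro y hy
    obtain ⟨a, rfl⟩ := Ideal.Quotient.mk_surjective y
    have : residue C a = 0 := hy
    exact Ideal.mem_map_of_mem _ ((residue_eq_zero_iff a).mp this)
  have hnil : IsNilpotent (RingHom.ker f) := by
    refine ⟨n, ?_⟩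
    rw [Ideal.zero_eq_bot, eq_bot_iff]
    refine (Ideal.pow_right_mono hker n).trans ?_
    rw [← Ideal.map_pow, Ideal.map_quotient_self]
  let g₁ : ResidueField C →ₐ[ℤ] C ⧸ maximalIdeal C ^ n :=
    ((Ideal.Quotient.mk (maximalIdeal C ^ n)).comp v).toIntAlgHom
  let g₂ : ResidueField C →ₐ[ℤ] C ⧸ maximalIdeal C ^ n :=
    ((Ideal.Quotient.mk (maximalIdeal C ^ n)).comp u).toIntAlgHom
  have := Algebra.FormallyUnramified.ext' f hnil g₁ g₂ (fun y => by
    change residue C (v y) = residue C (u y)
    rw [hu, hv])
  have h2 := AlgHom.congr_fun this x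
  change Ideal.Quotient.mk (maximalIdeal C ^ n) (v x) = Ideal.Quotient.mk (maximalIdeal C ^ n) (u x) at h2
  rwa [Ideal.Quotient.eq] at h2

theorem exists_ne_of_nontrivial {C : Type u} [CommRing C] [IsLocalRing C] [IsNoetherianRing C]
    [IsAdicComplete (maximalIdeal C) C]
    (hm : maximalIdeal C ≠ ⊥) (u : ResidueField C →+* C) (hu : ∀ x, residue C (u x) = x)
    (h : ¬ Subsingleton (Ω[ResidueField C⁄ℤ])) :
    ∃ v : ResidueField C →+* C, (∀ x, residue C (v x) = x) ∧ v ≠ u := by
  classical
  rw [not_subsingleton_iff_nontrivial] at h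
  obtain ⟨D, hadd, hmul, x₀, hx₀⟩ := exists_derivation (K := ResidueField C) h
  have hD0 : D 0 = 0 := by
    have := hadd 0 0
    rw [add_zero] at this
    exact left_eq_add.mp this
  have hD1 : D 1 = 0 := by
    have := hmul 1 1
    rw [mul_one, one_mul] at this
    exact left_eq_add.mp this
  -- t ∈ m \ m²
  obtain ⟨t, htm, ht2⟩ : ∃ t ∈ maximalIdeal C, t ∉ maximalIdeal C ^ 2 := by
    by_contra hcon
    push Not at hcon
    apply hm
    have hle : maximalIdeal C ≤ maximalIdeal C • maximalIdeal C := by
      intro t ht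
      have := hcon t ht
      rwa [pow_two] at this
    exact Submodule.eq_bot_of_le_smul_of_le_jacobson_bot _ _ (IsNoetherian.noetherian _) hle
      (IsLocalRing.maximalIdeal_le_jacobson _)
  have htt : Ideal.Quotient.mk (maximalIdeal C ^ 2) (t * t) = 0 := by
    rw [Ideal.Quotient.eq_zero_iff_mem, pow_two]
    exact Ideal.mul_mem_mul htm htm
  let v₂ : ResidueField C →+* C ⧸ maximalIdeal C ^ 2 :=
    { toFun := fun x => Ideal.Quotient.mk _ (u x + u (D x) * t)
      map_one' := by simp [hD1]
      map_zero' := by simp [hD0]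
      map_add' := by
        intro a b
        rw [← map_add]
        congr 1
        simp only [map_add, hadd]
        ring
      map_mul' := by
        intro a b
        have : (u (a * b) + u (D (a * b)) * t) =
            (u a + u (D a) * t) * (u b + u (D b) * t) - u (D a) * u (D b) * (t * t) := by
          rw [hmul]
          simp only [map_add, map_mul]
          ring
        rw [this, map_sub, map_mul _ (u (D a) * u (D b)) (t * t), htt, mul_zero, sub_zero, map_mul] }
  -- algebra structures over the prime field
  let P : Subfield (ResidueField C) := ⊥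
  letI : Algebra P C := (u.comp P.subtype).toAlgebra
  haveI : Algebra.FormallySmooth P (ResidueField C) := CoeffField.formallySmooth_bot
  let v₂' : ResidueField C →ₐ[P] C ⧸ maximalIdeal C ^ 2 :=
    { v₂ with
      commutes' := by
        intro p
        change Ideal.Quotient.mk _ (u (p : ResidueField C) + u (D (p : ResidueField C)) * t) =
          Ideal.Quotient.mk _ (u (p : ResidueField C))
        rw [deriv_bot D hadd hmul _ p.2]
        simp }
  haveI : IsAdicComplete (maximalIdeal C ^ 2) C := PSUniv.isAdicComplete_pow (maximalIdeal C) 2 (by norm_num)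
  obtain ⟨v, hv⟩ := Algebra.FormallySmooth.exists_mkₐ_comp_eq_of_isAdicComplete
    (R := P) (A := ResidueField C) (S := C) (I := maximalIdeal C ^ 2) v₂'
  have hvx : ∀ x, v x - (u x + u (D x) * t) ∈ maximalIdeal C ^ 2 := by
    intro x
    have := congr($hv x)
    change Ideal.Quotient.mk _ (v x) = Ideal.Quotient.mk _ (u x + u (D x) * t) at this
    rwa [Ideal.Quotient.eq] at this
  refine ⟨v.toRingHom, fun x => ?_, fun hcon => ?_⟩
  · change residue C (v x) = x
    have h1 : v x - u x ∈ maximalIdeal C := by
      have h2 := Ideal.pow_le_self (two_ne_zero) (hvx x)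
      have h3 : u (D x) * t ∈ maximalIdeal C := Ideal.mul_mem_left _ _ htm
      have := Ideal.add_mem _ h2 h3
      convert this using 1
      ring
    have := (residue_eq_zero_iff _).mpr h1
    rw [map_sub, sub_eq_zero, hu] at this
    exact this
  · have h1 := hvx x₀
    have h2 : v x₀ = u x₀ := RingHom.congr_fun hcon x₀
    rw [h2] at h1
    have h3 : u (D x₀) * t ∈ maximalIdeal C ^ 2 := by
      have h4 : -(u (D x₀) * t) ∈ maximalIdeal C ^ 2 := by
        convert h1 using 1
        ring
      exact neg_mem_iff.mp h4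
    have hunit : IsUnit (u (D x₀)) := by
      rw [← IsLocalRing.notMem_maximalIdeal, ← residue_eq_zero_iff, hu]
      exact hx₀
    exact ht2 ((Ideal.unit_mul_mem_iff_mem _ hunit).mp h3)

theorem main {C : Type u} [CommRing C] [IsLocalRing C] [IsNoetherianRing C] [IsAdicComplete (maximalIdeal C) C]
    (hm : maximalIdeal C ≠ ⊥) (u : ResidueField C →+* C) (hu : ∀ x, residue C (u x) = x) :
    (∀ v : ResidueField C →+* C, (∀ x, residue C (v x) = x) → v = u) ↔ Subsingleton (Ω[ResidueField C⁄ℤ]) := by
  constructor
  · intro h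
    by_contra hcon
    obtain ⟨v, hv1, hv2⟩ := exists_ne_of_nontrivial hm u hu hcon
    exact hv2 (h v hv1)
  · intro h v hv
    exact unique_of_subsingleton u v hu hv h

end Groth.Agent.S2483.Aux

namespace Groth.Agent.S2483

open IsLocalRing in
/-- Let C be a complete Noetherian local ring with maximal ideal 𝔍 ≠ 0 and residue field K, and u : K →
C a ring homomorphism which is a section of the residue map. Then u is the only such section if and
only if Ω_{K/ℤ} = 0. -/
theorem result {C : Type u} [CommRing C] [IsLocalRing C] [IsNoetherianRing C] [IsAdicComplete (maximalIdeal C) C]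
    (hm : maximalIdeal C ≠ ⊥) (u : ResidueField C →+* C) (hu : ∀ x, residue C (u x) = x) :
    (∀ v : ResidueField C →+* C, (∀ x, residue C (v x) = x) → v = u) ↔ Subsingleton (Ω[ResidueField C⁄ℤ]) := by
  exact Aux.main hm u hu

end Groth.Agent.S2483
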