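import Groth.Statements.S4631
import Mathlib
import Groth.Agent.Lib.Helper50.GeomReducedScheme
import Groth.Agent.Lib.Helper50.TensorDomain

set_option autoImplicit false
open CategoryTheory AlgebraicGeometry
universe u
open FBase

namespace Groth.Agent.S4631

/-- Let X be a scheme over an algebraically closed field k and x a point of X. Then X is geometrically
pointwise integral at x over k if and only if the local ring of X at x is a domain. -/
theorem result {k : Type u} [Field k] [IsAlgClosed k] {X : Scheme.{u}}
    (f : X ⟶ Spec (CommRingCat.of k)) (x : X) :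
    FBase.IsGeomPtIntegralAt f x ↔ IsDomain ↑(X.presheaf.stalk x) := by
    constructor
    · intro h
      have hiso : IsIso (FBase.bcπ f k) := by
        have h1 : Spec.map (CommRingCat.ofHom (algebraMap k k)) = 𝟙 _ := by
          rw [show algebraMap k k = RingHom.id k from rfl, CommRingCat.ofHom_id, Spec.map_id]
        have hg : IsIso (Spec.map (CommRingCat.ofHom (algebraMap k k))) := by
          rw [h1]; infer_instance
        have h2 : IsIso (Limits.pullback.fst f (Spec.map (CommRingCat.ofHom (algebraMap k k)))) :=
          inferInstance
        exact h2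
      obtain ⟨x', rfl⟩ : ∃ x', (FBase.bcπ f k) x' = x :=
        ⟨(inv (FBase.bcπ f k)) x, by rw [← Scheme.Hom.comp_apply, IsIso.inv_hom_id]; rfl⟩
      have hd := h k x' rfl
      let e := (asIso ((FBase.bcπ f k).stalkMap x')).commRingCatIsoToRingEquiv
      exact e.injective.isDomain e.toRingHom
    · intro hdom K _ _ x' hx'
      subst hx'
      obtain ⟨φ, hφ⟩ := Groth.Agent.Lib.Helper50.exists_ringHom_stalk f ((FBase.bcπ f K) x')
      letI := φ.toAlgebra
      obtain ⟨q, ⟨e⟩⟩ := (Groth.Agent.Lib.Helper50.exists_stalk_bc (K := K) f _ φ hφ).1 x' rfl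
      have h1 : IsDomain (TensorProduct k (X.presheaf.stalk ((FBase.bcπ f K) x')) K) :=
        Groth.Agent.Lib.Helper50.isDomain_tensorProduct_of_isAlgClosed
      have h2 : IsDomain (Localization.AtPrime q.asIdeal) :=
        IsLocalization.isDomain_localization q.asIdeal.primeCompl_le_nonZeroDivisors
      exact e.injective.isDomain e.toRingHom

end Groth.Agent.S4631
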