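import Groth.Statements.S2556
import Groth.Agent.H72.OpenUO

set_option autoImplicit false
open CategoryTheory AlgebraicGeometry
universe u
open EGA43

namespace Groth.Agent.S2556

/-- Suppose Y is a locally Noetherian scheme whose local rings are all geometrically unibranch, and f :
X ⟶ Y is locally of finite type. Then f is universally open exactly when its underlying map of
spaces is open. -/
theorem result {X Y : Scheme.{u}} [IsLocallyNoetherian Y]
    (hY : ∀ y : Y, CAlg2.IsGeomUnibranch (Y.presheaf.stalk y)) (f : X ⟶ Y) [LocallyOfFiniteType f] :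
    UniversallyOpen f ↔ IsOpenMap f.base := by
  constructor
  · intro h
    exact f.isOpenMap
  · intro h
    rw [Groth.Agent.H72.UODvr.universallyOpen_iff_forall_isUnivOpenAt]
    intro x
    apply Groth.Agent.H72.UOMaximal.isUnivOpenAt_of_forall_maximal
    intro w hfw hwx hmaxw
    exact Groth.Agent.H72.OpenUO.isUnivOpenAt_of_isOpenAt f w
      (fun w₁ h1 h2 => hmaxw w₁ (h1.trans hfw) h2) (hY _)
      (Groth.Agent.H72.OpenAt.isOpenAt_of_isOpenMap' h w)

end Groth.Agent.S2556
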