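import Groth.Statements.S2563
import Mathlib.LinearAlgebra.TensorProduct.Quotient
import Mathlib.LinearAlgebra.TensorProduct.Basis
import Mathlib.LinearAlgebra.DirectSum.Finsupp
import Mathlib.Algebra.Module.Projective
import Mathlib.RingTheory.Ideal.Operations
import Mathlib.RingTheory.Ideal.Quotient.Operations
import Mathlib.LinearAlgebra.TensorProduct.RightExactness
-- import your own Groth.Agent.* helpers here

set_option autoImplicit false
open TensorProduct
universe u
open EGA43

namespace Groth.Agent.S2563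

section Aux

variable {A : Type*} [CommRing A]

/-- Nakayama's lemma for a nilpotent ideal (no finiteness needed). -/
theorem eq_top_of_sup_smul_top {M : Type*} [AddCommGroup M] [Module A M]
    (J : Ideal A) (hJ : IsNilpotent J) (N : Submodule A M)
    (h : N ⊔ J • (⊤ : Submodule A M) = ⊤) : N = ⊤ := by
  obtain ⟨n, hn⟩ := hJ
  have key : ∀ k : ℕ, N ⊔ (J ^ k) • (⊤ : Submodule A M) = ⊤ := by
    intro k
    induction k with
    | zero => simp
    | succ k ih =>
      rw [eq_top_iff]
      calc (⊤ : Submodule A M) = N ⊔ J • (⊤ : Submodule A M) := h.symm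
        _ = N ⊔ J • (N ⊔ (J ^ k) • (⊤ : Submodule A M)) := by rw [ih]
        _ = N ⊔ (J • N ⊔ J • (J ^ k) • (⊤ : Submodule A M)) := by rw [Submodule.smul_sup]
        _ ≤ N ⊔ (J ^ (k+1)) • (⊤ : Submodule A M) := by
          rw [← Submodule.mul_smul, ← pow_succ']
          refine sup_le le_sup_left (sup_le ?_ le_sup_right)
          exact le_trans Submodule.smul_le_right le_sup_left
  have := key n
  rw [hn] at this
  simpa using this

/-- `1 ⊗ y = 0` in `(A ⧸ J) ⊗ Y` iff `y ∈ J • ⊤`. -/
theorem one_tmul_eq_zero_iff {Y : Type*} [AddCommGroup Y] [Module A Y] (J : Ideal A) (y : Y) :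
    ((1 : A ⧸ J) ⊗ₜ[A] y = 0) ↔ y ∈ J • (⊤ : Submodule A Y) := by
  rw [← (TensorProduct.quotTensorEquivQuotSMul Y J).map_eq_zero_iff,
    TensorProduct.quotTensorEquivQuotSMul_mk_one_tmul, Submodule.Quotient.mk_eq_zero]

/-- Every element of `(A ⧸ J) ⊗ Y` is of the form `1 ⊗ y`. -/
theorem exists_one_tmul {Y : Type*} [AddCommGroup Y] [Module A Y] (J : Ideal A)
    (t : (A ⧸ J) ⊗[A] Y) : ∃ y : Y, t = (1 : A ⧸ J) ⊗ₜ[A] y := by
  obtain ⟨y, hy⟩ := Submodule.Quotient.mk_surjective _ (TensorProduct.quotTensorEquivQuotSMul Y J t)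
  refine ⟨y, ?_⟩
  apply (TensorProduct.quotTensorEquivQuotSMul Y J).injective
  rw [TensorProduct.quotTensorEquivQuotSMul_mk_one_tmul, hy]

theorem surjective_of_lTensor_surjective {N M : Type*} [AddCommGroup N] [Module A N]
    [AddCommGroup M] [Module A M] (J : Ideal A) (hJ : IsNilpotent J) (f : N →ₗ[A] M)
    (hf : Function.Surjective (f.lTensor (A ⧸ J))) : Function.Surjective f := by
  rw [← LinearMap.range_eq_top]
  apply eq_top_of_sup_smul_top J hJ
  rw [eq_top_iff]
  intro m _
  obtain ⟨t, ht⟩ := hf ((1 : A ⧸ J) ⊗ₜ[A] m)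
  obtain ⟨n, rfl⟩ := exists_one_tmul J t
  rw [LinearMap.lTensor_tmul] at ht
  have h0 : (1 : A ⧸ J) ⊗ₜ[A] (m - f n) = 0 := by
    rw [TensorProduct.tmul_sub, ht, sub_self]
  rw [one_tmul_eq_zero_iff] at h0
  have : m = f n + (m - f n) := by abel
  rw [this]
  exact Submodule.add_mem_sup (LinearMap.mem_range_self f n) h0

theorem mem_smul_top_of_lTensor_injective {P Q : Type*} [AddCommGroup P] [Module A P]
    [AddCommGroup Q] [Module A Q] (J : Ideal A) (f : P →ₗ[A] Q)
    (hf : Function.Injective (f.lTensor (A ⧸ J))) (u : P)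
    (hu : f u ∈ J • (⊤ : Submodule A Q)) : u ∈ J • (⊤ : Submodule A P) := by
  rw [← one_tmul_eq_zero_iff] at hu ⊢
  apply hf
  rw [LinearMap.lTensor_tmul, hu, map_zero]

theorem injective_of_split {P Q : Type*} [AddCommGroup P] [Module A P]
    [AddCommGroup Q] [Module A Q] (J : Ideal A) (hJ : IsNilpotent J)
    (f : P →ₗ[A] Q) (s : Q →ₗ[A] P) (hs : ∀ q, f (s q) = q)
    (hf : ∀ u, f u ∈ J • (⊤ : Submodule A Q) → u ∈ J • (⊤ : Submodule A P)) :
    Function.Injective f := by
  set g : P →ₗ[A] P := LinearMap.id - s ∘ₗ f with hg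
  have hfg : ∀ u, f (g u) = 0 := by
    intro u
    simp [hg, hs]
  have hgg : ∀ u, g (g u) = g u := by
    intro u
    have : g (g u) = g u - s (f (g u)) := by simp [hg]
    rw [this, hfg, map_zero, sub_zero]
  have hgJ : ∀ u, g u ∈ J • (⊤ : Submodule A P) := by
    intro u
    apply hf
    rw [hfg]
    exact zero_mem _
  have key : ∀ k : ℕ, ∀ u, g u ∈ (J ^ k) • (⊤ : Submodule A P) := by
    intro k
    induction k with
    | zero => intro u; simp
    | succ k ih =>
      intro u
      rw [← hgg u]
      have h1 : g (g u) ∈ Submodule.map g ((J ^ k) • (⊤ : Submodule A P)) :=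
        Submodule.mem_map_of_mem (ih u)
      rw [Submodule.map_smul''] at h1
      have h2 : Submodule.map g (⊤ : Submodule A P) ≤ J • (⊤ : Submodule A P) := by
        rintro _ ⟨x, -, rfl⟩
        exact hgJ x
      have h3 : (J ^ k) • Submodule.map g (⊤ : Submodule A P) ≤ (J ^ (k+1)) • (⊤ : Submodule A P) := by
        rw [pow_succ, Submodule.mul_smul]
        exact Submodule.smul_mono le_rfl h2
      exact h3 h1
  obtain ⟨n, hn⟩ := hJ
  have hg0 : ∀ u, g u = 0 := by
    intro u
    have := key n u
    rw [hn] at this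
    simpa using this
  rw [injective_iff_map_eq_zero]
  intro u hu
  have := hg0 u
  simp only [hg, LinearMap.sub_apply, LinearMap.id_coe, id_eq, LinearMap.coe_comp,
    Function.comp_apply, hu, map_zero, sub_zero] at this
  exact this

end Aux

/-- Let A be a commutative ring, J a nilpotent ideal of A, and (B_i) a family of commutative A-algebras
such that an element of A vanishing in every B_i is zero. Let M be an A-module such that each B_i
⊗_A M is a free B_i-module and (A/J) ⊗_A M is a free (A/J)-module. Then M is a free A-module. -/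
theorem result {A : Type u} [CommRing A] (J : Ideal A) (hJ : IsNilpotent J)
    {ι : Type u} (B : ι → Type u) [∀ i, CommRing (B i)] [∀ i, Algebra A (B i)]
    (hB : ∀ a : A, (∀ i, algebraMap A (B i) a = 0) → a = 0)
    (M : Type u) [AddCommGroup M] [Module A M]
    (hfree : ∀ i, Module.Free (B i) (B i ⊗[A] M)) (hfreeJ : Module.Free (A ⧸ J) ((A ⧸ J) ⊗[A] M)) :
    Module.Free A M := by
  classical
  let Λ := Module.Free.ChooseBasisIndex (A ⧸ J) ((A ⧸ J) ⊗[A] M)
  let b : Module.Basis Λ (A ⧸ J) ((A ⧸ J) ⊗[A] M) := Module.Free.chooseBasis _ _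
  choose m hm using fun l : Λ => exists_one_tmul J (b l)
  let φ : (Λ →₀ A) →ₗ[A] M := Finsupp.linearCombination A m
  -- Step 1: `φ` is bijective modulo `J`
  let B₀ : Module.Basis Λ (A ⧸ J) ((A ⧸ J) ⊗[A] (Λ →₀ A)) :=
    (Finsupp.basisSingleOne (R := A) (ι := Λ)).baseChange (A ⧸ J)
  have hφJ : φ.baseChange (A ⧸ J) = (B₀.equiv b (Equiv.refl Λ)).toLinearMap := by
    apply B₀.ext
    intro l
    rw [LinearEquiv.coe_coe, Module.Basis.equiv_apply, Equiv.refl_apply, hm l]
    simp [B₀, φ]
  have hbij : Function.Bijective (φ.lTensor (A ⧸ J)) := by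
    rw [← LinearMap.baseChange_eq_ltensor, hφJ]
    exact (B₀.equiv b (Equiv.refl Λ)).bijective
  -- Step 2: `φ` is surjective
  have hsurj : Function.Surjective φ := surjective_of_lTensor_surjective J hJ φ hbij.2
  -- Step 3: `φ` is injective
  have hinj : Function.Injective φ := by
    rw [injective_iff_map_eq_zero]
    intro u hu
    ext l
    apply hB
    intro i
    have hBinj : Function.Injective (φ.lTensor (B i)) := by
      have hBsurj : Function.Surjective (φ.baseChange (B i)) := by
        rw [LinearMap.baseChange_eq_ltensor]; exact LinearMap.lTensor_surjective _ hsurj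
      obtain ⟨s, hs⟩ := Module.projective_lifting_property (φ.baseChange (B i)) LinearMap.id hBsurj
      apply injective_of_split J hJ (φ.lTensor (B i)) (s.restrictScalars A)
      · intro q; exact LinearMap.congr_fun hs q
      · apply mem_smul_top_of_lTensor_injective
        have hcomm : (TensorProduct.leftComm A (A ⧸ J) (B i) M).toLinearMap ∘ₗ
            ((φ.lTensor (B i)).lTensor (A ⧸ J)) =
            ((φ.lTensor (A ⧸ J)).lTensor (B i)) ∘ₗ
              (TensorProduct.leftComm A (A ⧸ J) (B i) (Λ →₀ A)).toLinearMap := by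
          apply TensorProduct.ext'
          intro x y
          induction y using TensorProduct.induction_on with
          | zero => simp
          | tmul y z => simp
          | add y z hy hz => simp only [TensorProduct.tmul_add, map_add, hy, hz]
        have hinj2 : Function.Injective ((φ.lTensor (A ⧸ J)).lTensor (B i)) := by
          have : ((φ.lTensor (A ⧸ J)).lTensor (B i)) =
              ((LinearEquiv.ofBijective (φ.lTensor (A ⧸ J)) hbij).lTensor (B i)).toLinearMap := by
            ext; simp
          rw [this]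
          exact (LinearEquiv.lTensor (B i) (LinearEquiv.ofBijective (φ.lTensor (A ⧸ J)) hbij)).injective
        intro x y hxy
        apply (TensorProduct.leftComm A (A ⧸ J) (B i) (Λ →₀ A)).injective
        apply hinj2
        have h1 := LinearMap.congr_fun hcomm x
        have h2 := LinearMap.congr_fun hcomm y
        simp only [LinearMap.coe_comp, Function.comp_apply, LinearEquiv.coe_coe] at h1 h2
        rw [← h1, ← h2, hxy]
    have h1 : φ.lTensor (B i) ((1 : B i) ⊗ₜ[A] u) = 0 := by
      rw [LinearMap.lTensor_tmul, hu, TensorProduct.tmul_zero]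
    have h2 : (1 : B i) ⊗ₜ[A] u = 0 := hBinj (by rw [h1, map_zero])
    have h3 := congrArg (fun t => TensorProduct.finsuppScalarRight A (B i) (B i) Λ t l) h2
    simpa [Algebra.smul_def] using h3
  exact Module.Free.of_equiv (LinearEquiv.ofBijective φ ⟨hinj, hsurj⟩)

end Groth.Agent.S2563
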