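import Groth.Statements.S2568
import Groth.Agent.H72.Chevalley2
import Groth.Agent.Lib.Helper55.EquidimCriterionGeneral

set_option autoImplicit false
open CategoryTheory AlgebraicGeometry
universe u
open EGA43

namespace Groth.Agent.S2568

/-- Chevalley's criterion in the case of irreducible source and base: let X and Y be irreducible
schemes, all local rings of Y geometrically unibranch, and f : X ⟶ Y a dominant morphism locally of
finite type such that for every point x the local dimension at x of the fibre through x equals the
dimension of the generic fibre (the fibre over the image of the generic point of X). Then f is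
universally open. -/
theorem result {X Y : Scheme.{u}} [IrreducibleSpace X] [IrreducibleSpace Y]
    (hY : ∀ y : Y, CAlg2.IsGeomUnibranch (Y.presheaf.stalk y)) (f : X ⟶ Y) [LocallyOfFiniteType f] [IsDominant f]
    (h : ∀ x : X, FlatMor.fibreDimAt f x = topologicalKrullDim ↥(f.fiber (f.base (genericPoint X)))) :
    UniversallyOpen f := by
  have hξ : IsGenericPoint (genericPoint X) (Set.univ : Set X) := genericPoint_spec X
  have hfin : (irreducibleComponents (Y : Type u)).Finite := by
    rw [irreducibleComponents_eq_singleton]
    exact Set.finite_singleton _
  have himg : closure (f.base '' (Set.univ : Set X)) = closure {f.base (genericPoint X)} :=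
    Groth.Agent.Lib.Helper55.closure_image_eq_of_isGenericPoint f Set.univ _ hξ
  have hcomp : closure ({f.base (genericPoint X)} : Set Y) ∈ irreducibleComponents (Y : Type u) := by
    rw [irreducibleComponents_eq_singleton, Set.mem_singleton_iff, ← himg, Set.image_univ]
    exact f.denseRange.closure_range
  obtain ⟨m, hm1, hm2⟩ := Groth.Agent.S3393.dim_closure_inter_fibre f
    (f.base (genericPoint X)) (genericPoint X) rfl
  have hdim : topologicalKrullDim ↥(f.fiber (f.base (genericPoint X))) = m := by
    rw [← hm1, hξ.def, Set.univ_inter]
    exact IsHomeomorph.topologicalKrullDim_eq _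
      (f.fiberHomeo (f.base (genericPoint X))).isHomeomorph
  rw [Groth.Agent.H72.UODvr.universallyOpen_iff_forall_isUnivOpenAt]
  intro x
  have hE : EGA43.IsEquidimAt f x :=
    Groth.Agent.Lib.Helper55.isEquidimAt_of_irreducibleSpace' f x m hcomp hm2
      (by rw [h x, hdim])
  exact Groth.Agent.H72.Chevalley2.isUnivOpenAt_of_isEquidimAt hfin f x (hY _) hE

end Groth.Agent.S2568
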