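import Groth.Statements.S2573
import Groth.Agent.Lib.Helper47.MinPrimeFree

set_option autoImplicit false
universe u
open EGA43

namespace Groth.Agent.S2573

/-- Let A be a commutative ring whose spectrum is irreducible, with unique minimal prime p, let B be a
finitely presented A-algebra and M a finitely presented B-module. If the localization M_p is flat
over A_p, then there is t ∉ p such that M_t is a free A_t-module. -/
theorem result {A B : Type u} [CommRing A] [CommRing B] [Algebra A B]
    [Algebra.FinitePresentation A B] (p : Ideal A) [p.IsPrime] (hp : minimalPrimes A = {p})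
    (M : Type u) [AddCommGroup M] [Module B M] [Module A M] [IsScalarTower A B M] [Module.FinitePresentation B M]
    (hflat : Module.Flat (Localization.AtPrime p) (LocalizedModule p.primeCompl M)) :
    ∃ t : A, t ∉ p ∧ Module.Free (Localization.Away t) (LocalizedModule (Submonoid.powers t) M) := by
  classical
  -- `p` consists of nilpotent elements
  have hnil : p ≤ nilradical A := by
    have h1 : (⊥ : Ideal A).radical = sInf (⊥ : Ideal A).minimalPrimes :=
      (Ideal.sInf_minimalPrimes (I := (⊥ : Ideal A))).symm
    have h2 : (⊥ : Ideal A).minimalPrimes = {p} := hp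
    rw [h2, sInf_singleton] at h1
    exact le_of_eq h1.symm
  haveI : Module.Flat A (LocalizedModule p.primeCompl M) :=
    Module.Flat.trans A (Localization.AtPrime p) _
  obtain ⟨t₁, ht₁, hfl⟩ := Groth.Agent.Lib.Helper47.MinPrimeFree.exists_flat_away (B := B) p M inferInstance
  haveI : Algebra.FinitePresentation B (Localization.Away (algebraMap A B t₁)) :=
    IsLocalization.Away.finitePresentation (algebraMap A B t₁)
  haveI : Algebra.FinitePresentation A (Localization.Away (algebraMap A B t₁)) :=
    Algebra.FinitePresentation.trans A B _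
  haveI := hfl
  obtain ⟨t₂, ht₂, hfree⟩ := Groth.Agent.Lib.Helper47.MinPrimeFree.exists_free_away_of_flat p hnil
    (Localization.Away (algebraMap A B t₁))
    (LocalizedModule (Submonoid.powers (algebraMap A B t₁)) M) t₁
  refine ⟨t₁ * t₂, fun h => (Ideal.IsPrime.mem_or_mem inferInstance h).elim ht₁ ht₂, ?_⟩
  -- both sides are localizations of `M` at `t₁ t₂`
  set t := t₁ * t₂ with ht
  let μ₁ : M →ₗ[A] LocalizedModule (Submonoid.powers (algebraMap A B t₁)) M :=
    (LocalizedModule.mkLinearMap (Submonoid.powers (algebraMap A B t₁)) M).restrictScalars A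
  haveI : IsLocalizedModule (Submonoid.powers t₁) μ₁ :=
    IsLocalizedModule.restrictScalars_powers t₁
      (LocalizedModule.mkLinearMap (Submonoid.powers (algebraMap A B t₁)) M)
  let μ₂ := LocalizedModule.mkLinearMap (Submonoid.powers t)
    (LocalizedModule (Submonoid.powers (algebraMap A B t₁)) M)
  haveI : IsLocalizedModule (Submonoid.powers t) (μ₂ ∘ₗ μ₁) := by
    refine Groth.Agent.Lib.Helper47.MinPrimeFree.isLocalizedModule_comp (Submonoid.powers t₁)
      (Submonoid.powers t) ?_ μ₁ μ₂
    rintro _ ⟨k, rfl⟩
    refine ⟨t₂ ^ k, ⟨k, ?_⟩⟩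
    change t ^ k = t₂ ^ k * t₁ ^ k
    rw [ht, mul_pow, mul_comm]
  let e : LocalizedModule (Submonoid.powers t)
      (LocalizedModule (Submonoid.powers (algebraMap A B t₁)) M) ≃ₗ[A]
      LocalizedModule (Submonoid.powers t) M :=
    IsLocalizedModule.linearEquiv (Submonoid.powers t) (μ₂ ∘ₗ μ₁)
      (LocalizedModule.mkLinearMap (Submonoid.powers t) M)
  exact Module.Free.of_equiv
    (e.extendScalarsOfIsLocalization (Submonoid.powers t) (Localization.Away t))

end Groth.Agent.S2573
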