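import Groth.Statements.S2574
import Groth.Agent.H76.IdealGlue
import Mathlib.RingTheory.Ideal.AssociatedPrime.Finiteness
import Mathlib.RingTheory.Flat.Stability
import Mathlib.RingTheory.Localization.BaseChange

set_option autoImplicit false
open TensorProduct
universe u
open EGA43

namespace Groth.Agent.S2574

/-- Let A be a Noetherian ring, J a nilpotent ideal of A and M an A-module. Then M is flat over A if and
only if (A/J) ⊗_A M is flat over A/J and, for every associated prime p of A, the localization M_p is
flat over A_p. -/
theorem result {A : Type u} [CommRing A] [IsNoetherianRing A]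
    (J : Ideal A) (hJ : IsNilpotent J) (M : Type u) [AddCommGroup M] [Module A M] :
    Module.Flat A M ↔
      Module.Flat (A ⧸ J) ((A ⧸ J) ⊗[A] M) ∧
        ∀ p : associatedPrimes A A,
          haveI : p.1.IsPrime := IsAssociatedPrime.isPrime p.2
          Module.Flat (Localization.AtPrime p.1) (LocalizedModule p.1.primeCompl M) := by
  constructor
  · intro h
    refine ⟨inferInstance, fun p => ?_⟩
    haveI : p.1.IsPrime := IsAssociatedPrime.isPrime p.2
    infer_instance
  · rintro ⟨h1, h2⟩
    haveI := h1
    classical
    haveI : Fintype (associatedPrimes A A) := (associatedPrimes.finite A A).fintype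
    let K : associatedPrimes A A → Ideal A := fun p =>
      haveI : p.1.IsPrime := IsAssociatedPrime.isPrime p.2
      RingHom.ker (algebraMap A (Localization.AtPrime p.1))
    have hK : ∀ p ∈ (Finset.univ : Finset (associatedPrimes A A)),
        Module.Flat (A ⧸ K p) ((A ⧸ K p) ⊗[A] M) := by
      intro p _
      haveI : p.1.IsPrime := IsAssociatedPrime.isPrime p.2
      haveI := h2 p
      haveI : Module.Flat (Localization.AtPrime p.1) ((Localization.AtPrime p.1) ⊗[A] M) :=
        Module.Flat.of_linearEquiv (LocalizedModule.equivTensorProduct p.1.primeCompl M).symm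
      exact Groth.Agent.H76.IdealGlue.flat_quotient_ker_of_nilpotent
        (R' := Localization.AtPrime p.1) J M hJ
    haveI := Groth.Agent.H76.IdealGlue.flat_quotient_finset_inf M Finset.univ K hK
    apply Groth.Agent.H76.SquareFlat.flat_of_quotient_bot M (Finset.univ.inf K)
    rw [eq_bot_iff]
    intro x hx
    rw [Submodule.mem_finsetInf] at hx
    rw [Submodule.mem_bot]
    by_contra hx0
    obtain ⟨P, hP, hle⟩ := exists_le_isAssociatedPrime_of_isNoetherianRing A x hx0
    haveI : P.IsPrime := IsAssociatedPrime.isPrime hP
    have h3 : x ∈ K ⟨P, hP⟩ := hx ⟨P, hP⟩ (Finset.mem_univ _)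
    have h4 : algebraMap A (Localization.AtPrime P) x = 0 := (RingHom.mem_ker).mp h3
    obtain ⟨s, hs⟩ := (IsLocalization.map_eq_zero_iff P.primeCompl (Localization.AtPrime P) x).mp h4
    have h5 : (s : A) ∈ (⊥ : Submodule A A).colon {x} := by
      rw [Submodule.mem_colon_singleton, smul_eq_mul, hs]
      exact Submodule.zero_mem _
    exact s.2 (hle h5)

end Groth.Agent.S2574
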