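import Groth.Statements.S2591
import Groth.Agent.Lib.Helper47.MinPrimeFreeUniv

set_option autoImplicit false
open TensorProduct
universe u
open EGA43

namespace Groth.Agent.S2591

/-- Let A be a commutative ring, B a finitely presented A-algebra and M a finitely presented B-module
which is flat over A. Then there are finitely many elements f₁, …, fₙ of A generating the unit ideal
such that, for each i < n, writing A' for the localization of A at f_{i+1} modulo the ideal
generated by f₁, …, fᵢ, the module A' ⊗_A M is free over A'. -/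
theorem result {A B : Type u} [CommRing A] [CommRing B] [Algebra A B]
    [Algebra.FinitePresentation A B] (M : Type u) [AddCommGroup M] [Module B M] [Module A M] [IsScalarTower A B M]
    [Module.FinitePresentation B M] [Module.Flat A M] :
    ∃ l : List A, Ideal.span {a | a ∈ l} = ⊤ ∧
      ∀ (i : ℕ) (hi : i < l.length),
        letI J : Ideal (Localization.Away l[i]) :=
          (Ideal.span {a | a ∈ l.take i}).map (algebraMap A (Localization.Away l[i]))
        Module.Free (Localization.Away l[i] ⧸ J) ((Localization.Away l[i] ⧸ J) ⊗[A] M) := by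
  classical
  obtain ⟨R₀, i1, i2, S₀, i3, i4, i5, i6, i7, i8, M₀, i9, i10, i11, i12, i13, i14, f, hZ, hS₀,
    hfin, hflat₀, hpo, hbc⟩ := Groth.Agent.H76.FlatModel.exists_flat_model A B M
  haveI : IsNoetherianRing R₀ := Algebra.FiniteType.isNoetherianRing ℤ R₀
  letI modR₀M : Module R₀ M := Module.compHom M (algebraMap R₀ A)
  haveI towR₀AM : IsScalarTower R₀ A M := IsScalarTower.of_compHom _ _ _
  haveI towR₀S₀M : IsScalarTower R₀ S₀ M := by
    refine ⟨fun r s n => ?_⟩
    change (r • s) • n = (algebraMap R₀ A r) • (s • n)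
    rw [Algebra.smul_def, mul_smul, ← algebraMap_smul B (algebraMap R₀ S₀ r) (s • n),
      ← IsScalarTower.algebraMap_apply R₀ S₀ B, IsScalarTower.algebraMap_apply R₀ A B,
      algebraMap_smul]
  have hf' : IsBaseChange A (f.restrictScalars R₀) :=
    Groth.Agent.Lib.Helper47.MinPrimeFree.isBaseChange_of_isPushout f hbc
  obtain ⟨l₀, hl₀, hfree⟩ :=
    Groth.Agent.Lib.Helper47.MinPrimeFree.exists_list_forall_free S₀ M₀ (⊥ : Ideal R₀)
  rw [bot_sup_eq] at hl₀
  have hspan_map : ∀ l' : List R₀, Ideal.span {a | a ∈ l'.map (algebraMap R₀ A)} =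
      (Ideal.span {a | a ∈ l'}).map (algebraMap R₀ A) := by
    intro l'
    rw [Ideal.map_span]
    congr 1
    ext a
    simp only [List.mem_map, Set.mem_ofPred_eq, Set.mem_image]
  refine ⟨l₀.map (algebraMap R₀ A), ?_, ?_⟩
  · rw [hspan_map, hl₀, Ideal.map_top]
  · intro i hi
    have hi₀ : i < l₀.length := by simpa using hi
    have hget : (l₀.map (algebraMap R₀ A))[i] = algebraMap R₀ A l₀[i] := by
      simp
    set a := (l₀.map (algebraMap R₀ A))[i] with ha
    set J : Ideal (Localization.Away a) :=
      (Ideal.span {a | a ∈ (l₀.map (algebraMap R₀ A)).take i}).map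
        (algebraMap A (Localization.Away a)) with hJ
    -- freeness of `T ⊗[R₀] M₀`
    have hkill : ∀ x ∈ (⊥ : Ideal R₀) ⊔ Ideal.span {a | a ∈ l₀.take i},
        algebraMap R₀ (Localization.Away a ⧸ J) x = 0 := by
      intro x hx
      rw [bot_sup_eq] at hx
      rw [IsScalarTower.algebraMap_apply R₀ (Localization.Away a) (Localization.Away a ⧸ J),
        Ideal.Quotient.algebraMap_eq, Ideal.Quotient.eq_zero_iff_mem,
        IsScalarTower.algebraMap_apply R₀ A (Localization.Away a), hJ, ← List.map_take, hspan_map]
      exact Ideal.mem_map_of_mem _ (Ideal.mem_map_of_mem _ hx)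
    have hunit : IsUnit (algebraMap R₀ (Localization.Away a ⧸ J) l₀[i]) := by
      rw [IsScalarTower.algebraMap_apply R₀ (Localization.Away a) (Localization.Away a ⧸ J),
        IsScalarTower.algebraMap_apply R₀ A (Localization.Away a), ← hget]
      exact IsUnit.map _ (IsLocalization.Away.algebraMap_isUnit a)
    haveI hF := hfree i hi₀ (Localization.Away a ⧸ J) hkill hunit
    -- identify with `T ⊗[A] M`
    have hμ : IsBaseChange (Localization.Away a ⧸ J)
        (TensorProduct.mk A (Localization.Away a ⧸ J) M 1) :=
      TensorProduct.isBaseChange A M (Localization.Away a ⧸ J)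
    have hδ := hf'.comp hμ
    exact Module.Free.of_equiv hδ.equiv

end Groth.Agent.S2591
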