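import Groth.Statements.S2596
import Mathlib
import Groth.Agent.Lib.Helper48.ProperNhd3

set_option autoImplicit false
open CategoryTheory AlgebraicGeometry
universe u
open EGA43

namespace Groth.Agent.S2596

open CategoryTheory.Limits in
/-- Let Y be locally Noetherian, f : X ⟶ Y separated and of finite type, and y a point of Y. Suppose
that for every discrete valuation ring A with fraction field K and every morphism g : Spec A ⟶ Y
sending the closed point to y, every K-point σ of X ×_Y Spec A lying over the generic point Spec K ⟶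
Spec A extends to a section of X ×_Y Spec A ⟶ Spec A. Then f is proper over some open neighbourhood
of y. -/
theorem result {X Y : Scheme.{u}} [IsLocallyNoetherian Y]
    (f : X ⟶ Y) [IsSeparated f] [LocallyOfFiniteType f] [QuasiCompact f] (y : Y)
    (h : ∀ (A : Type u) [CommRing A] [IsDomain A] [IsDiscreteValuationRing A]
      (g : Spec (CommRingCat.of A) ⟶ Y), g.base (IsLocalRing.closedPoint A) = y →
      ∀ σ : Spec (CommRingCat.of (FractionRing A)) ⟶ pullback f g,
        σ ≫ pullback.snd f g = Spec.map (CommRingCat.ofHom (algebraMap A (FractionRing A))) →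
        ∃ s : Spec (CommRingCat.of A) ⟶ pullback f g, s ≫ pullback.snd f g = 𝟙 _ ∧
          Spec.map (CommRingCat.ofHom (algebraMap A (FractionRing A))) ≫ s = σ) :
    ∃ U : Y.Opens, y ∈ U ∧ IsProper (f ∣_ U) := by
  classical
  refine Groth.Agent.Lib.Helper48.ProperNhd.exists_nhd_isProper_of_dvrLifting f y Set.univ
    (fun x => ⟨x, Set.mem_univ x, specializes_rfl⟩) ?_
  intro A _ _ _ K _ _ _ a g hcomm hcl d _ e ha
  let φ : FractionRing A ≃ₐ[A] K := FractionRing.algEquiv A K
  let ψ : CommRingCat.of K ⟶ CommRingCat.of (FractionRing A) :=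
    CommRingCat.ofHom φ.symm.toRingEquiv.toRingHom
  let φ' : CommRingCat.of (FractionRing A) ⟶ CommRingCat.of K :=
    CommRingCat.ofHom φ.toRingEquiv.toRingHom
  have hψ : CommRingCat.ofHom (algebraMap A K) ≫ ψ =
      CommRingCat.ofHom (algebraMap A (FractionRing A)) := by
    ext x
    exact φ.symm.commutes x
  have hφ' : CommRingCat.ofHom (algebraMap A (FractionRing A)) ≫ φ' =
      CommRingCat.ofHom (algebraMap A K) := by
    ext x
    exact φ.commutes x
  have hψφ : ψ ≫ φ' = 𝟙 _ := by
    ext x
    exact φ.apply_symm_apply x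
  have hσ : (Spec.map ψ ≫ a) ≫ f =
      Spec.map (CommRingCat.ofHom (algebraMap A (FractionRing A))) ≫ g := by
    rw [Category.assoc, hcomm, ← Category.assoc, ← Spec.map_comp, hψ]
  let σ : Spec (CommRingCat.of (FractionRing A)) ⟶ pullback f g :=
    pullback.lift (Spec.map ψ ≫ a) (Spec.map (CommRingCat.ofHom (algebraMap A (FractionRing A)))) hσ
  obtain ⟨s, hs1, hs2⟩ := h A g hcl σ (pullback.lift_snd _ _ _)
  refine ⟨s ≫ pullback.fst f g, ?_, ?_⟩
  · rw [← hφ', Spec.map_comp, Category.assoc, ← Category.assoc _ s, hs2, pullback.lift_fst,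
      ← Category.assoc, ← Spec.map_comp, hψφ, Spec.map_id, Category.id_comp]
  · rw [Category.assoc, pullback.condition, ← Category.assoc, hs1, Category.id_comp]

end Groth.Agent.S2596
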