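import Groth.Statements.S9758
import Groth.Agent.Lib.Helper10.SyntMor
import Groth.Agent.S9287

set_option autoImplicit false
universe u
open FlatMor

namespace Groth.Agent.S9758

open AlgebraicGeometry CategoryTheory Limits in
/-- A morphism of schemes f : X ⟶ S is flat and a local complete intersection morphism (Koszul at every
point) if and only if it is syntomic. -/
theorem result {X S : Scheme.{u}} (f : X ⟶ S) :
    (Flat f ∧ ∀ x : X, Synt.IsKoszulAt f x) ↔ Synt.IsSyntomicMor f := by
  constructor
  · rintro ⟨hfl, hk⟩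
    exact Groth.Agent.Lib.Helper10.SyntMor.isSyntomicMor_of_flat_of_lciMor f
      (Groth.Agent.Lib.Helper10.LciMor.lciMor_of_forall_isKoszulAt f hk)
  · intro h
    have key : ∀ x : X, ∃ (V : S.affineOpens) (U : X.affineOpens) (_ : x ∈ U.1)
        (e : U.1 ≤ f ⁻¹ᵁ V.1), (f.appLE V U e).hom.Flat ∧
          Groth.Agent.Lib.Helper10.LciComp.IsLCIHom (f.appLE V U e).hom := by
      intro x
      obtain ⟨U, V, e, hx, hs⟩ := h x
      refine ⟨V, U, hx, e, ?_⟩
      letI := (f.appLE V.1 U.1 e).hom.toAlgebra
      have := (Groth.Agent.S9287.result Γ(S, V.1) Γ(X, U.1)).mp hs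
      exact ⟨this.1, this.2⟩
    constructor
    · rw [HasRingHomProperty.iff_exists_appLE (P := @Flat)
        (RingHom.Flat.stableUnderComposition.stableUnderCompositionWithLocalizationAway
          RingHom.Flat.holdsForLocalizationAway).left]
      intro x
      obtain ⟨V, U, hx, e, h1, -⟩ := key x
      exact ⟨V, U, hx, e, h1⟩
    · have hl : Groth.Agent.Lib.Helper10.LciMor.lciMor f := by
        rw [HasRingHomProperty.iff_exists_appLE (P := Groth.Agent.Lib.Helper10.LciMor.lciMor)
          (Groth.Agent.Lib.Helper10.LciLocalProp.isLCIHom_stableUnderComposition.stableUnderCompositionWithLocalizationAway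
            Groth.Agent.Lib.Helper10.LciLocalProp.isLCIHom_holdsForLocalizationAway).left]
        intro x
        obtain ⟨V, U, hx, e, -, h2⟩ := key x
        exact ⟨V, U, hx, e, h2⟩
      exact Groth.Agent.Lib.Helper10.LciMor.isKoszulAt_of_lciMor f hl

end Groth.Agent.S9758
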