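import Groth.Statements.S9848
import Groth.Agent.S9758
import Groth.Agent.S8662

set_option autoImplicit false
open CategoryTheory CategoryTheory.Limits AlgebraicGeometry Opposite
universe u
open Desc

namespace Groth.Agent.S9848

/-- Being syntomic is fpqc local on the base; the descent direction, stated for a single flat surjective
quasi-compact base change g : Y' ⟶ Y: if the base change X ×_Y Y' ⟶ Y' of f : X ⟶ Y is syntomic,
then f is syntomic. (With Zariski-locality on the target this gives the statement for arbitrary fpqc
coverings; stability of syntomic morphisms under base change is the other direction.) -/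
theorem result {X Y Y' : Scheme.{u}} (f : X ⟶ Y) (g : Y' ⟶ Y)
    [Flat g] [Surjective g] [QuasiCompact g] (h : Synt.IsSyntomicMor (pullback.snd f g)) :
    Synt.IsSyntomicMor f := by
  obtain ⟨hfl, hk⟩ := (Groth.Agent.S9758.result (pullback.snd f g)).mpr h
  have hco : RingHom.CodescendsAlong RingHom.Flat RingHom.FaithfullyFlat := by
    refine .mk _ RingHom.Flat.respectsIso fun R S T _ _ _ _ _ h h' ↦ ?_
    rw [RingHom.faithfullyFlat_algebraMap_iff] at h
    rw [RingHom.flat_algebraMap_iff] at h' ⊢
    exact Module.Flat.of_flat_tensorProduct R T S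
  haveI : MorphismProperty.DescendsAlong @Flat
      (@Surjective ⊓ @Flat ⊓ @QuasiCompact : MorphismProperty Scheme.{u}) :=
    HasRingHomProperty.descendsAlong_flat hco
  have hflat : Flat f :=
    MorphismProperty.of_pullback_snd_of_descendsAlong (P := @Flat)
      (Q := (@Surjective ⊓ @Flat ⊓ @QuasiCompact : MorphismProperty Scheme.{u}))
      (f := f) (g := g) ⟨⟨inferInstance, inferInstance⟩, inferInstance⟩ hfl
  have hk' : ∀ x : X, Synt.IsKoszulAt f x :=
    Groth.Agent.S8662.result f g (pullback.snd f g) (pullback.fst f g)
      (IsPullback.of_hasPullback f g) hk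
  exact (Groth.Agent.S9758.result f).mp ⟨hflat, hk'⟩

end Groth.Agent.S9848
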