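import Groth.Statements.S9364
import Groth.Agent.Lib.Helper82.SyntLocal
import Groth.Agent.Lib.Helper82.RelGCIFlat
import Groth.Agent.H46.SyntMor

set_option autoImplicit false
universe u
open Synt

namespace Groth.Agent.S9364

section Helpers

open AlgebraicGeometry CategoryTheory
open Groth.Agent.H46.SyntLocality Groth.Agent.H46.SyntMor

theorem P_of_standard {X S : Scheme.{u}} (f : X ⟶ S)
    (h : Synt.IsStandardSyntomic f) : P f := by
  obtain ⟨R, _, n, c, F, hF, e₁, e₂, hcomm⟩ := h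
  have h1 : P (Spec.map (CommRingCat.ofHom (algebraMap R (RelGCIRing R n c F)))) := by
    rw [HasRingHomProperty.Spec_iff (P := P)]
    change Q (algebraMap R (RelGCIRing R n c F))
    exact isSyntomic_congr (R := R) (S := RelGCIRing R n c F)
      (Ideal.instAlgebraQuotient R (Ideal.span (Set.range F)))
      (algebraMap R (RelGCIRing R n c F)).toAlgebra (fun r => rfl)
      (Groth.Agent.Lib.Helper82.RelGCIFlat.isSyntomic_of_isRelGCI R n c F hF)
  have h2 : P (e₁.hom ≫ Spec.map (CommRingCat.ofHom (algebraMap R (RelGCIRing R n c F)))) :=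
    (P.cancel_left_of_respectsIso _ _).mpr h1
  rw [hcomm] at h2
  exact (P.cancel_right_of_respectsIso _ _).mp h2

theorem standard_of_equiv {X S : Scheme.{u}} (f : X ⟶ S) (U : X.affineOpens) (V : S.affineOpens)
    (e : U.1 ≤ f ⁻¹ᵁ V.1) (n c : ℕ) (F : Fin c → MvPolynomial (Fin n) Γ(S, V.1))
    (hF : IsRelGCI Γ(S, V.1) n c F)
    (ψ : RelGCIRing Γ(S, V.1) n c F ≃+* Γ(X, U.1))
    (hψ : ∀ r, ψ (algebraMap _ _ r) = (f.appLE V.1 U.1 e).hom r) :
    Synt.IsStandardSyntomic (f.resLE V.1 U.1 e) := by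
  refine ⟨Γ(S, V.1), inferInstance, n, c, F, hF,
    U.2.isoSpec ≪≫ Scheme.Spec.mapIso ψ.toCommRingCatIso.op, V.2.isoSpec, ?_⟩
  simp only [Iso.trans_hom, Functor.mapIso_hom, Iso.op_hom, Scheme.Spec_map, Quiver.Hom.unop_op,
    Category.assoc, IsAffineOpen.isoSpec_hom]
  rw [← Scheme.Opens.toSpecΓ_SpecMap_appLE, ← Spec.map_comp]
  congr 2
  ext r
  exact hψ r

end Helpers

open AlgebraicGeometry CategoryTheory in
/-- Let f : X → S, x ∈ X and V ⊆ S an affine open neighbourhood of f x. Then f is syntomic at x if and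
only if some affine open U ∋ x with f(U) ⊆ V has f|_U : U → V standard syntomic. -/
theorem result {X S : Scheme.{u}} (f : X ⟶ S) (x : X) (V : S.affineOpens)
    (hV : f.base x ∈ V.1) :
    Synt.IsSyntomicAt f x ↔
      ∃ (U : X.affineOpens) (e : U.1 ≤ f ⁻¹ᵁ V.1), x ∈ U.1 ∧ Synt.IsStandardSyntomic (f.resLE V.1 U.1 e) := by
  classical
  constructor
  · rintro ⟨U₀, V₀, e₀, hx₀, hQ₀⟩
    obtain ⟨r, s, hxs, ers, hQ1⟩ :=
      exists_basicOpen_le_appLE_of_appLE_of_isAffine
        (P := @Groth.Agent.H46.SyntLocality.Q) Groth.Agent.H46.SyntLocality.Q_awayTarget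
        Groth.Agent.H46.SyntLocality.Q_localizationAwayPreserves x V V₀ U₀ U₀ hx₀ hx₀ e₀ hQ₀ hV
    have e1 : X.basicOpen s ≤ f ⁻¹ᵁ V.1 :=
      ers.trans (f.preimage_mono (S.basicOpen_le r))
    have hQ2 : Groth.Agent.H46.SyntLocality.Q (f.appLE V.1 (X.basicOpen s) e1).hom := by
      have hloc := V.2.isLocalization_basicOpen r
      have := Groth.Agent.H46.SyntLocality.Q_awaySource Γ(S, S.basicOpen r) r _ hQ1
      rw [← f.map_appLE ers (homOfLE (S.basicOpen_le r)).op]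
      exact this
    have hU' : IsAffineOpen (X.basicOpen s) := U₀.2.basicOpen s
    letI algU' : Algebra Γ(S, V.1) Γ(X, X.basicOpen s) :=
      (f.appLE V.1 (X.basicOpen s) e1).hom.toAlgebra
    have hsynt : Synt.IsSyntomic Γ(S, V.1) Γ(X, X.basicOpen s) := hQ2
    obtain ⟨g, hg, n, c, F, hF, ⟨ψ⟩⟩ :=
      Groth.Agent.Lib.Helper82.SyntLocal.exists_relGCI_of_isSyntomic (R := Γ(S, V.1))
        Γ(X, X.basicOpen s) hsynt (hU'.primeIdealOf ⟨x, hxs⟩).asIdeal
    have hxg : x ∈ X.basicOpen g := by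
      rw [← PrimeSpectrum.mem_basicOpen, IsAffineOpen.primeIdealOf,
        ← hU'.fromSpec_preimage_basicOpen] at hg
      change hU'.fromSpec (hU'.isoSpec.hom ⟨x, hxs⟩) ∈ X.basicOpen g at hg
      rw [← Scheme.Hom.comp_apply, IsAffineOpen.isoSpec_hom, IsAffineOpen.toSpecΓ_fromSpec] at hg
      exact hg
    have e2 : X.basicOpen g ≤ f ⁻¹ᵁ V.1 := (X.basicOpen_le g).trans e1
    have hloc := hU'.isLocalization_basicOpen g
    let χ : Localization.Away g ≃ₐ[Γ(X, X.basicOpen s)] Γ(X, X.basicOpen g) :=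
      IsLocalization.algEquiv (.powers g) _ _
    refine ⟨⟨X.basicOpen g, hU'.basicOpen g⟩, e2, hxg, ?_⟩
    refine standard_of_equiv f ⟨X.basicOpen g, hU'.basicOpen g⟩ V e2 n c F hF
      (ψ.symm.toRingEquiv.trans χ.toRingEquiv) ?_
    intro r
    simp only [RingEquiv.trans_apply, AlgEquiv.coe_ringEquiv, AlgEquiv.commutes]
    rw [IsScalarTower.algebraMap_apply Γ(S, V.1) Γ(X, X.basicOpen s) (Localization.Away g),
      AlgEquiv.commutes]
    simp only [RingHom.algebraMap_toAlgebra, ← CommRingCat.comp_apply, Scheme.Hom.appLE_map]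
  · rintro ⟨U, e, hx, hstd⟩
    have hP := P_of_standard _ hstd
    haveI : IsAffine U.1 := U.2
    haveI : IsAffine V.1 := V.2
    rw [HasRingHomProperty.iff_of_isAffine (P := Groth.Agent.H46.SyntMor.P)] at hP
    have hQ : Groth.Agent.H46.SyntLocality.Q (f.appLE V.1 U.1 e).hom :=
      (Groth.Agent.H46.SyntLocality.Q_propertyIsLocal.respectsIso.arrow_mk_iso_iff
        (arrowResLEAppIso f V.1 U.1 e)).mp hP
    exact ⟨U, V, e, hx, hQ⟩

end Groth.Agent.S9364
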