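import Groth.Statements.S5104
import Groth.Agent.Lib.Helper20.GlueOpens

set_option autoImplicit false
universe u
open CategoryTheory CategoryTheory.Limits AlgebraicGeometry TopologicalSpace
open Rat20

namespace Groth.Agent.S5104

open Groth.Agent.Lib.Helper20

/-- In a Noetherian quasi-sober space, a point in the closure of a locally closed set `G ∩ C` is a
specialization of a point of `G ∩ C`. -/
theorem exists_specializes_of_mem_closure_inter {α : Type*} [TopologicalSpace α]
    [NoetherianSpace α] [QuasiSober α] (G : Set α) (hG : IsOpen G) (C : Closeds α) :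
    ∀ x : α, x ∈ closure (G ∩ (C : Set α)) → ∃ β ∈ G ∩ (C : Set α), β ⤳ x := by
  induction C using WellFoundedLT.induction with
  | ind C H =>
  intro x hx
  by_cases h₁ : IsPreirreducible (C : Set α)
  · have hne : (G ∩ (C : Set α)).Nonempty := by
      by_contra h
      rw [Set.not_nonempty_iff_eq_empty] at h
      rw [h, closure_empty] at hx
      exact hx
    have hirr : IsIrreducible (C : Set α) := ⟨hne.mono Set.inter_subset_right, h₁⟩
    obtain ⟨β, hβ⟩ := QuasiSober.sober hirr C.isClosed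
    refine ⟨β, ⟨(hβ.mem_open_set_iff hG).mpr (by rwa [Set.inter_comm]), hβ.mem⟩, ?_⟩
    exact hβ.specializes (closure_minimal Set.inter_subset_right C.isClosed hx)
  · simp only [isPreirreducible_iff_isClosed_union_isClosed, not_forall, not_or] at h₁
    obtain ⟨z₁, z₂, hz₁, hz₂, h, hz₁', hz₂'⟩ := h₁
    lift z₁ to Closeds α using hz₁
    lift z₂ to Closeds α using hz₂
    have hsub : G ∩ (C : Set α) ⊆ (G ∩ ((C ⊓ z₁ : Closeds α) : Set α)) ∪
        (G ∩ ((C ⊓ z₂ : Closeds α) : Set α)) := by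
      rintro p ⟨hpG, hpC⟩
      rcases h hpC with h1 | h2
      · exact Or.inl ⟨hpG, hpC, h1⟩
      · exact Or.inr ⟨hpG, hpC, h2⟩
    have h3 := closure_mono hsub hx
    rw [closure_union] at h3
    rcases h3 with h1 | h2
    · obtain ⟨β, hβ, hβx⟩ := H (C ⊓ z₁) (inf_lt_left.2 hz₁') x h1
      exact ⟨β, ⟨hβ.1, hβ.2.1⟩, hβx⟩
    · obtain ⟨β, hβ, hβx⟩ := H (C ⊓ z₂) (inf_lt_left.2 hz₂') x h2
      exact ⟨β, ⟨hβ.1, hβ.2.1⟩, hβx⟩

variable {X Y S : Scheme.{u}}

/-- germ injectivity on a reduced scheme with locally finitely many irreducible components -/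
theorem isGermInjectiveAt_of_isReduced [IsReduced X] (x : X) (W : X.Opens) (hxW : x ∈ W)
    (hfin : {Z : Set X | Z ∈ irreducibleComponents X ∧ (Z ∩ (W : Set X)).Nonempty}.Finite) :
    X.IsGermInjectiveAt x := by
  let C : Set X := ⋃ Z ∈ {Z : Set X | (Z ∈ irreducibleComponents X ∧
    (Z ∩ (W : Set X)).Nonempty) ∧ x ∉ Z}, Z
  have hC : IsClosed C := (hfin.subset (fun Z hZ => hZ.1)).isClosed_biUnion
    (fun Z hZ => isClosed_of_mem_irreducibleComponents Z hZ.1.1)
  have hxC : x ∉ C := by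
    intro h
    obtain ⟨Z, hZ, hxZ⟩ := Set.mem_iUnion₂.mp h
    exact hZ.2 hxZ
  let N : X.Opens := W ⊓ ⟨Cᶜ, hC.isOpen_compl⟩
  have hxN : x ∈ N := ⟨hxW, hxC⟩
  obtain ⟨A, hA, hxA, hAN⟩ : ∃ A : X.Opens, IsAffineOpen A ∧ x ∈ A ∧ A ≤ N := by
    obtain ⟨_, ⟨A, hA, rfl⟩, hxA, hAN⟩ :=
      X.isBasis_affineOpens.exists_subset_of_mem_open hxN N.isOpen
    exact ⟨A, hA, hxA, hAN⟩
  refine ⟨⟨A, hxA, hA, ?_⟩⟩
  rw [injective_iff_map_eq_zero]
  intro s hs
  rw [← (X.presheaf.germ A x hxA).hom.map_zero] at hs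
  obtain ⟨B, hxB, iU, iV, e⟩ := X.presheaf.germ_eq _ hxA hxA _ _ hs
  cases Subsingleton.elim iU iV
  rw [map_zero] at e
  rw [← basicOpen_eq_bot_iff]
  by_contra hne
  obtain ⟨z, hz⟩ : ∃ z, z ∈ X.basicOpen s := by
    by_contra h
    apply hne
    ext p
    simp only [not_exists] at h
    exact ⟨fun hp => (h p hp).elim, fun hp => hp.elim⟩
  have hzA : z ∈ A := X.basicOpen_le s hz
  have hzN : z ∈ N := hAN hzA
  have hZ : irreducibleComponent z ∈ irreducibleComponents X :=
    irreducibleComponent_mem_irreducibleComponents z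
  have hxZ : x ∈ irreducibleComponent z := by
    by_contra hx
    exact hzN.2 (Set.mem_iUnion₂.mpr
      ⟨_, ⟨⟨hZ, ⟨z, mem_irreducibleComponent, hzN.1⟩⟩, hx⟩, mem_irreducibleComponent⟩)
  obtain ⟨p, hpZ, hp1, hp2⟩ := (isIrreducible_irreducibleComponent (x := z)).isPreirreducible
    _ _ (X.basicOpen s).isOpen B.isOpen ⟨z, mem_irreducibleComponent, hz⟩ ⟨x, hxZ, hxB⟩
  have h1 : X.basicOpen ((X.presheaf.map iU.op).hom s) = B ⊓ X.basicOpen s :=
    Scheme.basicOpen_res X s iU.op
  rw [e, Scheme.basicOpen_zero] at h1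
  have : p ∈ (⊥ : X.Opens) := h1 ▸ (⟨hp2, hp1⟩ : p ∈ B ⊓ X.basicOpen s)
  exact this

/-- two morphisms from an open subscheme which agree on `Spec O_{X,u}` agree on an open
neighbourhood of `u` -/
theorem exists_open_eq (A : X.Opens) (a b : (A : Scheme.{u}) ⟶ Y) (u : X) (hu : u ∈ A)
    [X.IsGermInjectiveAt u]
    (e : A.fromSpecStalkOfMem u hu ≫ a = A.fromSpecStalkOfMem u hu ≫ b) :
    ∃ (O : X.Opens) (hO : O ≤ A), u ∈ O ∧ X.homOfLE hO ≫ a = X.homOfLE hO ≫ b := by
  let x' : (A : Scheme.{u}) := ⟨u, hu⟩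
  have hgi : (A : Scheme.{u}).IsGermInjectiveAt x' :=
    (isGermInjectiveAt_iff_of_isOpenImmersion (f := A.ι) (x := x')).mp ‹_›
  have h1 : (A : Scheme.{u}).fromSpecStalk x' =
      Spec.map (A.ι.stalkMap x') ≫ A.fromSpecStalkOfMem (A.ι x') x'.2 := by
    rw [← cancel_mono A.ι, Category.assoc, Scheme.Opens.fromSpecStalkOfMem_ι]
    exact (Scheme.SpecMap_stalkMap_fromSpecStalk A.ι (x := x')).symm
  have e' : (A : Scheme.{u}).fromSpecStalk x' ≫ a = (A : Scheme.{u}).fromSpecStalk x' ≫ b := by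
    rw [h1, Category.assoc, Category.assoc]
    exact congrArg (fun k => Spec.map (A.ι.stalkMap x') ≫ k) e
  obtain ⟨O_T, hO_T, hab⟩ := spread_out_unique_of_isGermInjective' a b e'
  have hO : A.ι ''ᵁ O_T ≤ A := by
    rintro _ ⟨t, _, rfl⟩
    exact t.2
  refine ⟨A.ι ''ᵁ O_T, hO, ⟨x', hO_T, rfl⟩, ?_⟩
  have hr : Set.range (X.homOfLE hO) ⊆ Set.range O_T.ι := by
    rw [Scheme.Opens.range_ι]
    rintro _ ⟨z, rfl⟩
    obtain ⟨t, ht, hz⟩ := z.2
    have h2 : (X.homOfLE hO) z = t := A.ι.isOpenEmbedding.injective (by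
      rw [← Scheme.Hom.comp_apply, Scheme.homOfLE_ι]; exact hz.symm)
    rw [h2]; exact ht
  have hl : IsOpenImmersion.lift O_T.ι (X.homOfLE hO) hr ≫ O_T.ι = X.homOfLE hO :=
    IsOpenImmersion.lift_fac _ _ _
  rw [← hl, Category.assoc, Category.assoc, hab]

/-- the largest open inside `A` on which `a` and `b` agree -/
theorem exists_eqLocus (A : X.Opens) (a b : (A : Scheme.{u}) ⟶ Y) :
    ∃ (E : X.Opens) (hE : E ≤ A), X.homOfLE hE ≫ a = X.homOfLE hE ≫ b ∧
      ∀ (O : X.Opens) (hO : O ≤ A), X.homOfLE hO ≫ a = X.homOfLE hO ≫ b → O ≤ E := by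
  let T := {O : X.Opens // ∃ hO : O ≤ A, X.homOfLE hO ≫ a = X.homOfLE hO ≫ b}
  have hE : (⨆ O : T, O.1) ≤ A := iSup_le fun O => O.2.1
  refine ⟨⨆ O : T, O.1, hE, ?_, fun O hO h => le_iSup (fun O : T => O.1) ⟨O, hO, h⟩⟩
  apply GlueOpens.hom_ext_iSup (fun O : T => O.1)
  intro O
  rw [Scheme.homOfLE_homOfLE_assoc, Scheme.homOfLE_homOfLE_assoc]
  exact O.2.2

/-- Let X be an S-scheme which is locally Noetherian, or reduced with locally finite set of irreducible
components; let Y be separated and locally of finite presentation over S, U a schematically dense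
open subset of X, h : U → Y an S-morphism (a pseudo-S-morphism ω of X into Y) and x a point of X.
Then ω is defined at x — some S-morphism from an open neighbourhood V of x to Y agrees with h on U ∩
V — if and only if the restriction of ω to Spec O_{X,x} is everywhere defined — some S-morphism Spec
O_{X,x} → Y agrees with h after pulling back to Spec O_{X,x} ×_X U. (The published statement does
not assume Y separated over S and compares morphisms only on some schematically dense open; this row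
assumes Y separated over S, where the two readings agree.) -/
theorem result {X Y S : Scheme.{u}} (pX : X ⟶ S) (pY : Y ⟶ S)
    [IsSeparated pY] [LocallyOfFinitePresentation pY]
    (hX : IsLocallyNoetherian X ∨ (IsReduced X ∧ ∀ x : ↥X, ∃ W : X.Opens, x ∈ W ∧
      {Z : Set ↥X | Z ∈ irreducibleComponents ↥X ∧ (Z ∩ (W : Set ↥X)).Nonempty}.Finite))
    (U : X.Opens) (hU : CInt.IsSchematicallyDense U) (h : (U : Scheme.{u}) ⟶ Y) (hh : h ≫ pY = U.ι ≫ pX)
    (x : ↥X) :
    (∃ (V : X.Opens) (v : (V : Scheme.{u}) ⟶ Y), x ∈ V ∧ v ≫ pY = V.ι ≫ pX ∧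
        X.homOfLE (inf_le_right : U ⊓ V ≤ V) ≫ v = X.homOfLE (inf_le_left : U ⊓ V ≤ U) ≫ h) ↔
      ∃ w : Spec (X.presheaf.stalk x) ⟶ Y, w ≫ pY = X.fromSpecStalk x ≫ pX ∧
        pullback.fst (X.fromSpecStalk x) U.ι ≫ w = pullback.snd (X.fromSpecStalk x) U.ι ≫ h := by
  constructor
  · rintro ⟨V, v, hxV, hv1, hv2⟩
    refine ⟨V.fromSpecStalkOfMem x hxV ≫ v, ?_, ?_⟩
    · rw [Category.assoc, hv1, Scheme.Opens.fromSpecStalkOfMem_ι_assoc]
    · have hr : Set.range (pullback.snd (X.fromSpecStalk x) U.ι ≫ U.ι) ⊆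
          Set.range (U ⊓ V).ι := by
        rw [Scheme.Opens.range_ι]
        rintro _ ⟨p, rfl⟩
        refine ⟨?_, ?_⟩
        · rw [Scheme.Hom.comp_apply]
          exact (pullback.snd (X.fromSpecStalk x) U.ι p).2
        · rw [← pullback.condition, Scheme.Hom.comp_apply]
          have h1 : (X.fromSpecStalk x) (pullback.fst (X.fromSpecStalk x) U.ι p) ∈
              Set.range (X.fromSpecStalk x) := ⟨_, rfl⟩
          rw [Scheme.range_fromSpecStalk] at h1
          exact (h1 : _ ⤳ x).mem_open V.isOpen hxV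
      let l := IsOpenImmersion.lift (U ⊓ V).ι (pullback.snd (X.fromSpecStalk x) U.ι ≫ U.ι) hr
      have hl : l ≫ (U ⊓ V).ι = pullback.snd (X.fromSpecStalk x) U.ι ≫ U.ι :=
        IsOpenImmersion.lift_fac _ _ _
      have h1 : l ≫ X.homOfLE (inf_le_left : U ⊓ V ≤ U) = pullback.snd (X.fromSpecStalk x) U.ι := by
        rw [← cancel_mono U.ι, Category.assoc, Scheme.homOfLE_ι, hl]
      have h2 : l ≫ X.homOfLE (inf_le_right : U ⊓ V ≤ V) =
          pullback.fst (X.fromSpecStalk x) U.ι ≫ V.fromSpecStalkOfMem x hxV := by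
        rw [← cancel_mono V.ι, Category.assoc, Scheme.homOfLE_ι, hl, Category.assoc,
          Scheme.Opens.fromSpecStalkOfMem_ι, pullback.condition]
      rw [← Category.assoc, ← h2, Category.assoc, hv2, ← Category.assoc, h1]
  · rintro ⟨w, hw1, hw2⟩
    have hGI : ∀ z : X, X.IsGermInjectiveAt z := by
      rcases hX with hN | ⟨hred, hfin⟩
      · intro z; infer_instance
      · intro z
        obtain ⟨W, hzW, hW⟩ := hfin z
        exact isGermInjectiveAt_of_isReduced z W hzW hW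
    have : X.IsGermInjectiveAt x := hGI x
    have : LocallyOfFiniteType pY := inferInstance
    obtain ⟨V', hxV', v, hv1, hv2⟩ := spread_out_of_isGermInjective' pX pY w hw1
    -- the two morphisms on `A = U ⊓ V'`
    have hAV : U ⊓ V' ≤ V' := inf_le_right
    have hAU : U ⊓ V' ≤ U := inf_le_left
    obtain ⟨E, hE, hEab, hEmax⟩ := exists_eqLocus (U ⊓ V') (X.homOfLE hAV ≫ v) (X.homOfLE hAU ≫ h)
    -- generizations of `x` lie in `E`
    have hgen : ∀ z : X, z ∈ U ⊓ V' → z ⤳ x → z ∈ E := by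
      intro z hz hzx
      have : X.IsGermInjectiveAt z := hGI z
      have e : (U ⊓ V').fromSpecStalkOfMem z hz ≫ X.homOfLE hAV ≫ v =
          (U ⊓ V').fromSpecStalkOfMem z hz ≫ X.homOfLE hAU ≫ h := by
        have e1 : (U ⊓ V').fromSpecStalkOfMem z hz ≫ X.homOfLE hAV =
            Spec.map (X.presheaf.stalkSpecializes hzx) ≫ V'.fromSpecStalkOfMem x hxV' := by
          rw [← cancel_mono V'.ι, Category.assoc, Scheme.homOfLE_ι,
            Scheme.Opens.fromSpecStalkOfMem_ι, Category.assoc, Scheme.Opens.fromSpecStalkOfMem_ι,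
            Scheme.SpecMap_stalkSpecializes_fromSpecStalk]
        have e2 : (U ⊓ V').fromSpecStalkOfMem z hz ≫ X.homOfLE hAU =
            U.fromSpecStalkOfMem z hz.1 := by
          rw [← cancel_mono U.ι, Category.assoc, Scheme.homOfLE_ι,
            Scheme.Opens.fromSpecStalkOfMem_ι, Scheme.Opens.fromSpecStalkOfMem_ι]
        rw [reassoc_of% e1, reassoc_of% e2, ← hv1]
        have hc : Spec.map (X.presheaf.stalkSpecializes hzx) ≫ X.fromSpecStalk x =
            U.fromSpecStalkOfMem z hz.1 ≫ U.ι := by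
          rw [Scheme.SpecMap_stalkSpecializes_fromSpecStalk, Scheme.Opens.fromSpecStalkOfMem_ι]
        have h3 := congrArg (fun k => pullback.lift _ _ hc ≫ k) hw2
        simpa only [pullback.lift_fst_assoc, pullback.lift_snd_assoc] using h3
      obtain ⟨O, hO, hzO, hOab⟩ := exists_open_eq (U ⊓ V') _ _ z hz e
      exact hEmax O hO hOab hzO
    -- find the neighbourhood
    obtain ⟨V, hxV, hVV', hVeq⟩ : ∃ V : X.Opens, x ∈ V ∧ ∃ hVV' : V ≤ V',
        X.homOfLE ((inf_le_right : U ⊓ V ≤ V).trans hVV') ≫ v =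
          X.homOfLE (inf_le_left : U ⊓ V ≤ U) ≫ h := by
      rcases hX with hN | ⟨hred, hfin⟩
      · -- the locally Noetherian case
        obtain ⟨V'', hV''aff, hxV'', hV''le⟩ :
            ∃ V'' : X.Opens, IsAffineOpen V'' ∧ x ∈ V'' ∧ V'' ≤ V' := by
          obtain ⟨_, ⟨A, hA, rfl⟩, hxA, hAN⟩ :=
            X.isBasis_affineOpens.exists_subset_of_mem_open hxV' V'.isOpen
          exact ⟨A, hA, hxA, hAN⟩
        have : IsNoetherianRing Γ(X, V'') :=
          IsLocallyNoetherian.component_noetherian ⟨V'', hV''aff⟩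
        have : NoetherianSpace (V'' : Scheme.{u}) := noetherianSpace_of_isAffineOpen V'' hV''aff
        let B : Set X := {z | z ∈ V'' ∧ z ∈ U ∧ z ∉ E}
        have hxB : x ∉ closure B := by
          intro hx
          let x' : (V'' : Scheme.{u}) := ⟨x, hxV''⟩
          let G : Set (V'' : Scheme.{u}) := {p | p.1 ∈ U}
          have hG : IsOpen G := U.isOpen.preimage continuous_subtype_val
          let C : Closeds (V'' : Scheme.{u}) :=
            ⟨{p | p.1 ∉ E}, (E.isOpen.preimage continuous_subtype_val).isClosed_compl⟩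
          have hBeq : Subtype.val '' (G ∩ (C : Set (V'' : Scheme.{u}))) = B := by
            ext z; constructor
            · rintro ⟨p, ⟨hp1, hp2⟩, rfl⟩; exact ⟨p.2, hp1, hp2⟩
            · rintro ⟨hz1, hz2, hz3⟩; exact ⟨⟨z, hz1⟩, ⟨hz2, hz3⟩, rfl⟩
          have hx' : x' ∈ closure (G ∩ (C : Set (V'' : Scheme.{u}))) := by
            refine (closure_subtype (x := x') (s := G ∩ (C : Set (V'' : Scheme.{u})))).mpr ?_
            rw [hBeq]
            exact hx
          obtain ⟨β, ⟨hβG, hβC⟩, hβx⟩ := exists_specializes_of_mem_closure_inter G hG C x' hx'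
          have h1 : β.1 ⤳ x := (subtype_specializes_iff β x').mp hβx
          exact hβC (hgen β.1 ⟨hβG, hV''le β.2⟩ h1)
        have hle : U ⊓ (V'' ⊓ ⟨(closure B)ᶜ, isClosed_closure.isOpen_compl⟩) ≤ E := by
          rintro z ⟨hzU, hzV'', hzB⟩
          by_contra hzE
          exact hzB (subset_closure ⟨hzV'', hzU, hzE⟩)
        refine ⟨V'' ⊓ ⟨(closure B)ᶜ, isClosed_closure.isOpen_compl⟩, ⟨hxV'', hxB⟩,
          inf_le_left.trans hV''le, ?_⟩
        have h5 := congrArg (fun k => X.homOfLE hle ≫ k) hEab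
        simpa only [Scheme.homOfLE_homOfLE_assoc] using h5
      · -- the reduced case
        obtain ⟨W, hxW, hW⟩ := hfin x
        let C : Set X := ⋃ Z ∈ {Z : Set X | (Z ∈ irreducibleComponents X ∧
          (Z ∩ (W : Set X)).Nonempty) ∧ x ∉ Z}, Z
        have hC : IsClosed C := (hW.subset (fun Z hZ => hZ.1)).isClosed_biUnion
          (fun Z hZ => isClosed_of_mem_irreducibleComponents Z hZ.1.1)
        have hxC : x ∉ C := by
          intro h
          obtain ⟨Z, hZ, hxZ⟩ := Set.mem_iUnion₂.mp h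
          exact hZ.2 hxZ
        let V : X.Opens := (W ⊓ V') ⊓ ⟨Cᶜ, hC.isOpen_compl⟩
        have hVV' : V ≤ V' := inf_le_left.trans inf_le_right
        refine ⟨V, ⟨⟨hxW, hxV'⟩, hxC⟩, hVV', ?_⟩
        have hDA : U ⊓ V ≤ U ⊓ V' := inf_le_inf_left U hVV'
        have hED : E ⊓ (U ⊓ V) ≤ U ⊓ V := inf_le_right
        have : IsDominant (X.homOfLE hED) := by
          refine ⟨fun d => ?_⟩
          rw [mem_closure_iff]
          intro G' hG' hdG'
          have hG'' : IsOpen ((U ⊓ V).ι '' G') := (U ⊓ V).ι.isOpenEmbedding.isOpenMap G' hG'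
          have hdV : (d.1 : X) ∈ V := d.2.2
          have hZ := irreducibleComponent_mem_irreducibleComponents (d.1 : X)
          have hxZ : x ∈ irreducibleComponent (d.1 : X) := by
            by_contra hx
            exact hdV.2 (Set.mem_iUnion₂.mpr
              ⟨_, ⟨⟨hZ, ⟨d.1, mem_irreducibleComponent, hdV.1.1⟩⟩, hx⟩, mem_irreducibleComponent⟩)
          obtain ⟨ζ, hζ⟩ := QuasiSober.sober (isIrreducible_irreducibleComponent (x := (d.1 : X)))
            isClosed_irreducibleComponent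
          have h1 : ζ ⤳ (d.1 : X) := hζ.specializes mem_irreducibleComponent
          have h2 : ζ ⤳ x := hζ.specializes hxZ
          have h3 : ζ ∈ (U ⊓ V).ι '' G' := h1.mem_open hG'' ⟨d, hdG', rfl⟩
          obtain ⟨d', hd'G', hd'⟩ := h3
          have hζD : ζ ∈ U ⊓ V := hd' ▸ d'.2
          have h4 : ζ ∈ E := hgen ζ (hDA hζD) h2
          refine ⟨d', hd'G', ⟨⟨ζ, h4, hζD⟩, ?_⟩⟩
          apply (U ⊓ V).ι.isOpenEmbedding.injective
          rw [← Scheme.Hom.comp_apply, Scheme.homOfLE_ι]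
          exact hd'.symm
        refine ext_of_isDominant_of_isSeparated pY ?_ (X.homOfLE hED) ?_
        · rw [Category.assoc, hv2, Scheme.homOfLE_ι_assoc, Category.assoc, hh,
            Scheme.homOfLE_ι_assoc]
        · have h5 := congrArg (fun k => X.homOfLE (inf_le_left : E ⊓ (U ⊓ V) ≤ E) ≫ k) hEab
          simpa only [Scheme.homOfLE_homOfLE_assoc] using h5
    refine ⟨V, X.homOfLE hVV' ≫ v, hxV, ?_, ?_⟩
    · rw [Category.assoc, hv2, Scheme.homOfLE_ι_assoc]
    · rw [Scheme.homOfLE_homOfLE_assoc]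
      exact hVeq


end Groth.Agent.S5104
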