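import Groth.Statements.S2906
import Groth.Agent.Lib.Helper26.QAffDescentDD
import Groth.Agent.S1402
import Groth.Agent.S0079
import Groth.Agent.S0081
import Groth.Agent.Lib.Helper54.FlatPoint
import Groth.Agent.Lib.Helper7.IndQuasiAffine

set_option autoImplicit false
open CategoryTheory CategoryTheory.Limits AlgebraicGeometry Opposite
universe u
open SGA1

namespace Groth.Agent.S2906

/-- Let g : S' ⟶ S be flat, surjective and quasi-compact. Then every descent datum relative to g whose
underlying scheme is etale, separated and quasi-compact over S' is isomorphic to the canonical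
descent datum of a scheme etale, separated and quasi-compact over S. (Descent data relative to g are
taken in functor-of-points form.) -/
theorem result {S' S : Scheme.{u}} (g : S' ⟶ S) [Flat g] [Surjective g] [QuasiCompact g]
    (D : Desc.SchDD g) [QuasiCompact D.obj.hom] [IsSeparated D.obj.hom] [Etale D.obj.hom] :
    ∃ U : Over S, QuasiCompact U.hom ∧ IsSeparated U.hom ∧ Etale U.hom ∧ Nonempty ((Desc.toDD g).obj U ≅ D) := by
  have hlqf : LocallyQuasiFinite D.obj.hom :=
    Groth.Agent.Lib.Helper54.locallyQuasiFinite_of_etale _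
  have hind : MoreMor.IsIndQuasiAffineHom D.obj.hom := Groth.Agent.S1402.result D.obj.hom
  have hqa : Mor2.IsQuasiAffine D.obj.hom := by
    refine ⟨inferInstance, fun V hV => ?_⟩
    have hc : IsCompact ((D.obj.hom ⁻¹ᵁ V : D.obj.left.Opens) : Set D.obj.left) :=
      D.obj.hom.isCompact_preimage hV.isCompact
    have : CompactSpace (D.obj.hom ⁻¹ᵁ V : Scheme.{u}) := isCompact_iff_compactSpace.mp hc
    refine Groth.Agent.Lib.Helper7.isQuasiAffine_of_isIndQuasiAffineHom hind (D.obj.hom ⁻¹ᵁ V).ι V
      hV ?_
    rintro _ ⟨y, rfl⟩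
    exact y.2
  obtain ⟨U, ⟨iso⟩⟩ := Groth.Agent.Lib.Helper26.QAffDescentDD.exists_of_qa_of_fpqc g
    g.singleton_mem_fpqcPrecoverage D hqa
  -- the underlying isomorphism of schemes over `S'`
  have h1 : iso.hom.hom ≫ iso.inv.hom = 𝟙 _ := by
    rw [← Desc.SchDD.comp_hom, iso.hom_inv_id]; rfl
  have h2 : iso.inv.hom ≫ iso.hom.hom = 𝟙 _ := by
    rw [← Desc.SchDD.comp_hom, iso.inv_hom_id]; rfl
  have hiso : IsIso iso.hom.hom.left :=
    ⟨⟨iso.inv.hom.left, by rw [← Over.comp_left, h1]; rfl, by rw [← Over.comp_left, h2]; rfl⟩⟩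
  have hw : iso.hom.hom.left ≫ D.obj.hom = pullback.fst g U.hom := Over.w iso.hom.hom
  have hgQ : (@Surjective ⊓ @Flat ⊓ @QuasiCompact : MorphismProperty Scheme.{u}) g :=
    ⟨⟨inferInstance, inferInstance⟩, inferInstance⟩
  have hqc : QuasiCompact (pullback.fst g U.hom) := by
    rw [← hw]
    exact (MorphismProperty.cancel_left_of_respectsIso @QuasiCompact iso.hom.hom.left
      D.obj.hom).2 inferInstance
  have hsep : IsSeparated (pullback.fst g U.hom) := by
    rw [← hw]
    exact (MorphismProperty.cancel_left_of_respectsIso @IsSeparated iso.hom.hom.left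
      D.obj.hom).2 inferInstance
  have het : Etale (pullback.fst g U.hom) := by
    rw [← hw]
    exact (MorphismProperty.cancel_left_of_respectsIso @Etale iso.hom.hom.left
      D.obj.hom).2 inferInstance
  haveI := Groth.Agent.S0079.result.{u}
  haveI := Groth.Agent.S0081.result.{u}
  refine ⟨U, ?_, ?_, ?_, ⟨iso⟩⟩
  · exact MorphismProperty.of_pullback_fst_of_descendsAlong (P := @QuasiCompact)
      (Q := @Surjective ⊓ @Flat ⊓ @QuasiCompact) hgQ hqc
  · exact MorphismProperty.of_pullback_fst_of_descendsAlong (P := @IsSeparated)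
      (Q := @Surjective ⊓ @Flat ⊓ @QuasiCompact) hgQ hsep
  · exact MorphismProperty.of_pullback_fst_of_descendsAlong (P := @Etale)
      (Q := @Surjective ⊓ @Flat ⊓ @QuasiCompact) hgQ het

end Groth.Agent.S2906
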