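import Groth.Statements.S2910
import Groth.Agent.Lib.Helper69.Rigid
import Groth.Agent.Lib.Helper69.Quot3

set_option autoImplicit false
open CategoryTheory CategoryTheory.Limits AlgebraicGeometry
universe u
open SGA1
open Groth.Agent.Lib.Helper69

namespace Groth.Agent.S2910

/-- Let a finite group G act faithfully on a connected scheme X, let p : X ⟶ Y be a quotient of X by G
with Y locally Noetherian and p finite, and suppose p is etale. Then G acts freely on the geometric
points of X (all inertia groups are trivial), and every automorphism of X over Y is the action of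
exactly one element of G. -/
theorem result {X Y : Scheme.{u}} {G : Type u} [Group G] [Finite G] (ρ : G →* Aut X)
    (p : X ⟶ Y) (hp : SGA1.IsQuot ρ p) [IsLocallyNoetherian Y] [IsFinite p] [ConnectedSpace X]
    (hfaith : Function.Injective ρ) [Etale p] :
    (∀ (K : Type u) [Field K] [IsAlgClosed K] (ξ : Spec (CommRingCat.of K) ⟶ X) (g : G), ξ ≫ (ρ g).hom = ξ → g = 1) ∧
    ∀ u : Aut X, u.hom ≫ p = p → ∃! g : G, ρ g = u := by
  have hdiag : IsOpenImmersion (pullback.diagonal p) := inferInstance
  have hsep : IsSeparated p := inferInstance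
  refine ⟨?_, ?_⟩
  · intro K _ _ ξ g hg
    apply hfaith
    rw [map_one]
    ext1
    have : Nonempty (Spec (CommRingCat.of K)) := inferInstance
    exact eq_of_comp_eq_of_connected p (ρ g).hom (𝟙 X) (by rw [hp.inv, Category.id_comp]) ξ
      (by rw [hg, Category.comp_id])
  · intro u hu
    have hmul : ∀ a b : G, (ρ (a * b)).hom = (ρ b).hom ≫ (ρ a).hom := fun a b => by
      rw [map_mul]; rfl
    have hone : (ρ 1).hom = 𝟙 X := by rw [map_one]; rfl
    obtain ⟨x⟩ : Nonempty X := inferInstance
    have hpx : p.base x = p.base (u.hom.base x) := by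
      have := congrArg (fun q : X ⟶ Y => q.base x) hu
      exact this.symm
    obtain ⟨g, hg⟩ := ((Groth.Agent.S2908.result ρ p hp).2.1 x (u.hom.base x)).mp hpx
    set u' : X ⟶ X := u.hom ≫ (ρ g⁻¹).hom with hu'
    have hu'p : u' ≫ p = p := by
      rw [hu', Category.assoc, hp.inv, hu]
    have hgg : (ρ g).hom ≫ (ρ g⁻¹).hom = 𝟙 X := by
      rw [← hmul, inv_mul_cancel, hone]
    have hgg' : (ρ g⁻¹).hom ≫ (ρ g).hom = 𝟙 X := by
      rw [← hmul, mul_inv_cancel, hone]
    have hx : x = u' x := by
      have h1 : (ρ g⁻¹).hom ((ρ g).hom x) = x := by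
        rw [← Scheme.Hom.comp_apply, hgg]; rfl
      have h2 : u' x = (ρ g⁻¹).hom (u.hom x) := rfl
      rw [h2, ← hg, h1]
    have : IsIso u.hom := Iso.isIso_hom u
    have : IsIso (ρ g⁻¹).hom := Iso.isIso_hom (ρ g⁻¹)
    have : IsIso u' := by rw [hu']; infer_instance
    let τ : X.residueField x ≅ X.residueField x :=
      asIso ((X.residueFieldCongr hx).hom ≫ u'.residueFieldMap x)
    have hτ1 : Spec.map τ.hom ≫ X.fromSpecResidueField x = X.fromSpecResidueField x ≫ u' := by
      simp only [τ, asIso_hom, Spec.map_comp, Category.assoc]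
      rw [Scheme.residueFieldCongr_fromSpecResidueField,
        Scheme.Hom.SpecMap_residueFieldMap_fromSpecResidueField]
    obtain ⟨h, hh⟩ := exists_specMap_comp_fromSpecResidueField ρ p hp x τ (by
      rw [← Category.assoc, hτ1, Category.assoc, hu'p])
    have hR : u' = (ρ h).hom :=
      eq_of_comp_eq_of_connected p u' (ρ h).hom (by rw [hu'p, hp.inv])
        (X.fromSpecResidueField x) (by rw [← hτ1, hh])
    have key : ρ (g * h) = u := by
      apply Iso.ext
      rw [hmul, ← hR, hu', Category.assoc, hgg', Category.comp_id]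
    exact ⟨g * h, key, fun g' hg' => hfaith (hg'.trans key.symm)⟩

end Groth.Agent.S2910
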