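import Groth.Statements.S2913

set_option autoImplicit false
open CategoryTheory CategoryTheory.Limits AlgebraicGeometry Opposite
universe u
open SGA1

namespace Groth.Agent.S2913

private lemma aux {S' S : Scheme.{u}} (g : S' ⟶ S)
    (hinj : ∀ U : S.Opens, Function.Injective (g.app U).hom) {R : CommRingCat.{u}}
    {V V' : S.Opens} (hV : V' = V) (a : R ⟶ Γ(S, V)) (b : R ⟶ Γ(S, V'))
    (h : a ≫ g.app V = (b ≫ g.app V') ≫ S'.presheaf.map (eqToHom (by rw [hV])).op) :
    a ≫ S.presheaf.map (eqToHom hV).op = b := by
  subst hV
  have hmono : Mono (g.app V') := ConcreteCategory.mono_of_injective _ (hinj V')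
  rw [← cancel_mono (g.app V')]
  simpa using h

/-- Let g : S' ⟶ S be a surjective morphism of schemes such that for every open U of S the map O_S(U) →
O_{S'}(g⁻¹U) is injective. Then g is an epimorphism in the category of schemes. -/
theorem result {S' S : Scheme.{u}} (g : S' ⟶ S) [Surjective g]
    (hinj : ∀ U : S.Opens, Function.Injective (g.app U).hom) : Epi g := by
  constructor
  intro T h₁ h₂ e
  have hbase : h₁.base = h₂.base := by
    have : Epi g.base := (TopCat.epi_iff_surjective _).mpr g.surjective
    rw [← cancel_epi g.base]
    simpa using congr(($e).base)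
  refine Scheme.Hom.ext hbase fun U => ?_
  have key := Scheme.Hom.congr_app e U
  simp only [Scheme.Hom.comp_app] at key
  exact aux g hinj _ _ _ key

end Groth.Agent.S2913
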