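import Groth.Statements.S2914
import Groth.Agent.Lib.Helper69.Descent
import Mathlib.CategoryTheory.EffectiveEpi.Basic
import Mathlib.AlgebraicGeometry.PullbackCarrier

set_option autoImplicit false
open CategoryTheory CategoryTheory.Limits AlgebraicGeometry Opposite
universe u
open SGA1

namespace Groth.Agent.S2914

open Groth.Agent.Lib.Helper69

/-- Transport lemma: the two pullbacks of a section coming from `e` agree. -/
theorem overlap_eq {P S' W : Scheme.{u}} (f1 f2 : P ⟶ S') (e : S' ⟶ W) (he : f1 ≫ e = f2 ≫ e)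
    (W' : W.Opens) (O : S'.Opens) (h : O = e ⁻¹ᵁ W') (hle : f1 ⁻¹ᵁ O ≤ f2 ⁻¹ᵁ O) (t : Γ(W, W')) :
    (f1.app O).hom ((S'.presheaf.map (eqToHom h).op).hom ((e.app W').hom t)) =
      (f2.appLE O (f1 ⁻¹ᵁ O) hle).hom ((S'.presheaf.map (eqToHom h).op).hom ((e.app W').hom t)) := by
  subst h
  have h1 : (f1 ≫ e).app W' = e.app W' ≫ f1.app (e ⁻¹ᵁ W') := Scheme.Hom.comp_app f1 e W'
  have h2 : (f2 ≫ e).app W' = e.app W' ≫ f2.app (e ⁻¹ᵁ W') := Scheme.Hom.comp_app f2 e W'
  have h3 := Scheme.Hom.congr_app he W'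
  simp only [eqToHom_refl, op_id, CategoryTheory.Functor.map_id, CommRingCat.hom_id,
    RingHom.id_apply]
  have hL : (f1.app (e ⁻¹ᵁ W')).hom ((e.app W').hom t) = ((f1 ≫ e).app W').hom t := by
    rw [h1]; rfl
  rw [hL, h3, Scheme.Hom.appLE]
  have hR : ((f2 ≫ e).app W').hom t = (f2.app (e ⁻¹ᵁ W')).hom ((e.app W').hom t) := by
    rw [h2]; rfl
  simp only [CommRingCat.hom_comp, RingHom.comp_apply]
  rw [hR]
  rfl


/-- Let g : S' ⟶ S be a morphism of schemes whose underlying map is a quotient map, and such that for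
every open U of S the sequence O_S(U) → O_{S'}(g⁻¹U) ⇉ O_{S''}(h⁻¹U) is an equalizer, where S'' = S'
×_S S' with structure map h and the two arrows are restriction along the projections. Then g is an
effective epimorphism in the category of schemes. -/
theorem result {S' S : Scheme.{u}} (g : S' ⟶ S) (hq : Topology.IsQuotientMap g.base)
    (hinj : ∀ U : S.Opens, Function.Injective (g.app U).hom)
    (heq : ∀ (U : S.Opens) (s' : Γ(S', g ⁻¹ᵁ U)), (SGA1.overlapFstApp g U).hom s' = (SGA1.overlapSndApp g U).hom s' →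
      s' ∈ Set.range (g.app U).hom) :
    EffectiveEpi g := by
  have hfib : ∀ {W : Scheme.{u}} (e : S' ⟶ W),
      (∀ {Z : Scheme.{u}} (g₁ g₂ : Z ⟶ S'), g₁ ≫ g = g₂ ≫ g → g₁ ≫ e = g₂ ≫ e) →
      ∀ x x' : S', g.base x = g.base x' → e.base x = e.base x' := by
    intro W e he x x' hxx'
    obtain ⟨z, hz1, hz2⟩ := Scheme.Pullback.exists_preimage_pullback (f := g) (g := g) x x' hxx'
    have := he (pullback.fst g g) (pullback.snd g g) pullback.condition
    have h2 := congrArg (fun k => k.base z) this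
    simp only [Scheme.Hom.comp_base, TopCat.comp_app] at h2
    rw [hz1, hz2] at h2
    exact h2
  have hrange : ∀ {W : Scheme.{u}} (e : S' ⟶ W)
      (he : ∀ {Z : Scheme.{u}} (g₁ g₂ : Z ⟶ S'), g₁ ≫ g = g₂ ≫ g → g₁ ≫ e = g₂ ≫ e)
      (W' : W.Opens) (t : Γ(W, W')),
      (e.app W' ≫ S'.presheaf.map (eqToHom (preimage_descBase g e hq (hfib e he) W')).op).hom t ∈
        Set.range (g.app ((TopologicalSpace.Opens.map (descBase g e hq (hfib e he))).obj W')).hom := by
    intro W e he W' t
    apply heq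
    exact overlap_eq (pullback.fst g g) (pullback.snd g g) e
      (he _ _ pullback.condition) W' _ (preimage_descBase g e hq (hfib e he) W') _ t
  refine ⟨⟨{
    desc := fun e he => desc g e hq (hfib e he) hinj (hrange e he)
    fac := fun e he => comp_desc g e hq (hfib e he) hinj (hrange e he)
    uniq := fun e he m hm => ?_ }⟩⟩
  apply hom_ext_of_surjective_of_injective g hq.surjective hinj
  rw [hm, comp_desc]

end Groth.Agent.S2914
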