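import Groth.Statements.S2916
import Groth.Agent.H8.SubmConn

set_option autoImplicit false
open CategoryTheory CategoryTheory.Limits AlgebraicGeometry Opposite
universe u
open SGA1

namespace Groth.Agent.S2916

/-- Let g : S' ⟶ S be universally submersive with geometrically connected fibres (the base change of S'
to any algebraically closed field valued point of S is connected). Then S' is connected whenever S
is, and for schemes X, Y etale over S every S'-morphism between their base changes comes from
exactly one S-morphism X ⟶ Y. -/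
theorem result {S' S : Scheme.{u}} (g : S' ⟶ S)
    (hg : SGA1.UnivSubmersive g)
    (hconn : ∀ (K : Type u) [Field K] [IsAlgClosed K] (ξ : Spec (CommRingCat.of K) ⟶ S), ConnectedSpace ↑(pullback g ξ)) :
    (ConnectedSpace S → ConnectedSpace S') ∧
    ∀ (X Y : Over S) [Etale X.hom] [Etale Y.hom], Function.Bijective ((Over.pullback g).map : (X ⟶ Y) → _) := by
  haveI := Groth.Agent.H8.SubmConn.geometricallyConnected_of_algClosed g hconn
  refine ⟨fun h => Groth.Agent.H8.SubmConn.connectedSpace_of_univSubmersive g hg, fun X Y _ _ => ?_⟩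
  have hleft : ∀ φ : X ⟶ Y, ((Over.pullback g).map φ).left ≫ pullback.fst Y.hom g =
      pullback.fst X.hom g ≫ φ.left := by
    intro φ
    simp only [Over.pullback_map_left]
    exact pullback.lift_fst _ _ _
  constructor
  · intro φ1 φ2 h
    obtain ⟨u, _, huniq⟩ := Groth.Agent.H8.SubmConn.existsUnique_hom g hg X.hom Y.hom
      ((Over.pullback g).map φ1).left (Over.w ((Over.pullback g).map φ1))
    have h1 := huniq φ1.left ⟨Over.w φ1, hleft φ1⟩
    have h2 := huniq φ2.left ⟨Over.w φ2, by rw [h]; exact hleft φ2⟩
    ext1
    exact h1.trans h2.symm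
  · intro ψ
    obtain ⟨u, ⟨hu1, hu2⟩, _⟩ := Groth.Agent.H8.SubmConn.existsUnique_hom g hg X.hom Y.hom
      ψ.left (Over.w ψ)
    refine ⟨Over.homMk u hu1, ?_⟩
    ext1
    apply pullback.hom_ext
    · rw [hleft]
      exact hu2.symm
    · exact (Over.w ((Over.pullback g).map (Over.homMk u hu1 : X ⟶ Y))).trans (Over.w ψ).symm

end Groth.Agent.S2916
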