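import Groth.Statements.S2922
import Mathlib
import Groth.Agent.Lib.Helper9.AbhGen.RingMain2
import Groth.Agent.Lib.Helper9.AbhGen.SchemeMain2

set_option autoImplicit false
universe u
open IsLocalRing
open SGA1

namespace Groth.Agent.S2922

open AlgebraicGeometry CategoryTheory CategoryTheory.Limits in
/-- Absolute Abhyankar lemma, in the form that suitable exponents exist. Let A be a regular local ring,
f_1, …, f_r elements of the maximal ideal that are part of a regular system of parameters (each
generating a prime ideal), X = Spec A, U the open subset where f_1 ⋯ f_r is invertible, and V a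
finite étale cover of U which is tamely ramified along each f_i (at every point of its generic
fibre, with respect to the discrete valuation rings A_{(f_i)}). Then there are exponents n_i ≥ 1,
invertible in the residue field of A, such that the pullback of V to the Kummer covering X' = Spec
A[T_1, …, T_r]/(T_i^{n_i} − f_i) extends to a finite étale cover of X'. The published statement
takes n_i to be the least common multiple of the inertia orders along f_i = 0; here only the
existence of suitable exponents is asserted. -/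
theorem result (A : Type u) [CommRing A] [IsRegularLocalRing A] [IsDomain A] (r : ℕ) (f : Fin r → A)
    (hm : ∀ i, f i ∈ maximalIdeal A)
    (hf : LinearIndependent (ResidueField A) (fun i => (maximalIdeal A).toCotangent ⟨f i, hm i⟩))
    [∀ i, (Ideal.span {f i}).IsPrime]
    (V : FEt.Cat ((SGA1.specBasicOpen A (∏ i, f i)) : Scheme.{u})) (htame : SGA1.IsTameAlong f (((V.hom ≫ ((SGA1.specBasicOpen A (∏ i, f i))).ι).appTop).hom.comp (Scheme.ΓSpecIso (CommRingCat.of A)).inv.hom)) :
    ∃ n : Fin r → ℕ, (∀ i, 1 ≤ n i) ∧ (∀ i, IsUnit ((n i : ℕ) : ResidueField A)) ∧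
      ∃ W : FEt.Cat (Spec (CommRingCat.of (SGA1.kummerAlg A f n))),
        Nonempty ((FEt.restrict ((Spec.map (CommRingCat.ofHom (algebraMap A (SGA1.kummerAlg A f n)))) ⁻¹ᵁ (SGA1.specBasicOpen A (∏ i, f i))).ι).obj W ≅ (FEt.restrict ((Spec.map (CommRingCat.ofHom (algebraMap A (SGA1.kummerAlg A f n)))) ∣_ (SGA1.specBasicOpen A (∏ i, f i)))).obj V) := by
  classical
  have hF : (∏ i, f i) ≠ 0 :=
    Finset.prod_ne_zero_iff.mpr (fun i _ =>
      Groth.Agent.Lib.Helper9.AbhAbs.ne_zero_of_linearIndependent f hm hf i)
  haveI hfin : IsFinite V.hom := V.prop.1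
  haveI het : Etale V.hom := V.prop.2
  obtain ⟨g', hg'⟩ : ∃ g' : V.left ⟶ Spec (CommRingCat.of (Localization.Away (∏ i, f i))),
      g' = Groth.Agent.Lib.Helper9.AbhSch.toAway A (∏ i, f i) V.hom := ⟨_, rfl⟩
  haveI : IsFinite g' := by
    rw [hg']
    unfold Groth.Agent.Lib.Helper9.AbhSch.toAway
    infer_instance
  haveI : Etale g' := by
    rw [hg']
    unfold Groth.Agent.Lib.Helper9.AbhSch.toAway
    infer_instance
  haveI : IsAffine V.left := Groth.Agent.Lib.Helper9.AbhSch.isAffine_of_isFinite g'
  letI algAE : Algebra A Γ(V.left, ⊤) :=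
    (((V.hom ≫ ((SGA1.specBasicOpen A (∏ i, f i))).ι).appTop).hom.comp
      (Scheme.ΓSpecIso (CommRingCat.of A)).inv.hom).toAlgebra
  letI algAlocE : Algebra (Localization.Away (∏ i, f i)) Γ(V.left, ⊤) :=
    (Groth.Agent.Lib.Helper9.AbhSch.ringMap g').hom.toAlgebra
  have htower : ∀ a : A, (Groth.Agent.Lib.Helper9.AbhSch.ringMap g').hom
      (algebraMap A (Localization.Away (∏ i, f i)) a) = algebraMap A Γ(V.left, ⊤) a := by
    intro a
    have h1 := Groth.Agent.Lib.Helper9.AbhSch.ringMap_toAway A (∏ i, f i) V.hom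
    rw [← hg'] at h1
    exact congrArg (fun k => k.hom a) h1
  haveI : IsScalarTower A (Localization.Away (∏ i, f i)) Γ(V.left, ⊤) :=
    IsScalarTower.of_algebraMap_eq (fun a => (htower a).symm)
  haveI : Module.Finite (Localization.Away (∏ i, f i)) Γ(V.left, ⊤) :=
    Groth.Agent.Lib.Helper9.AbhSch.ringMap_finite g'
  haveI : Algebra.Etale (Localization.Away (∏ i, f i)) Γ(V.left, ⊤) :=
    Groth.Agent.Lib.Helper9.AbhSch.ringMap_etale g'
  obtain ⟨n, hn1, hnu, hmain⟩ := Groth.Agent.Lib.Helper9.AbhGen.ring_main2 A f hm hf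
    (Localization.Away (∏ i, f i)) Γ(V.left, ⊤) htame
  refine ⟨n, hn1, hnu, ?_⟩
  letI algAlocBloc : Algebra (Localization.Away (∏ i, f i))
      (Localization.Away (algebraMap A (SGA1.kummerAlg A f n) (∏ i, f i))) :=
    (Localization.awayMap (algebraMap A (SGA1.kummerAlg A f n)) (∏ i, f i)).toAlgebra
  haveI : IsScalarTower A (Localization.Away (∏ i, f i))
      (Localization.Away (algebraMap A (SGA1.kummerAlg A f n) (∏ i, f i))) := by
    apply IsScalarTower.of_algebraMap_eq
    intro a
    show _ = Localization.awayMap (algebraMap A (SGA1.kummerAlg A f n)) (∏ i, f i)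
      (algebraMap A (Localization.Away (∏ i, f i)) a)
    rw [IsScalarTower.algebraMap_apply A (SGA1.kummerAlg A f n)
      (Localization.Away (algebraMap A (SGA1.kummerAlg A f n) (∏ i, f i)))]
    simp [Localization.awayMap, IsLocalization.Away.map]
  obtain ⟨C, cC, algC, hCfin, hCet, ε, hε⟩ := hmain
    (Localization.Away (algebraMap A (SGA1.kummerAlg A f n) (∏ i, f i)))
  haveI := hCfin
  haveI := hCet
  obtain ⟨γ, hγ⟩ : ∃ γ : Γ(V.left, ⊤) →+* Localization.Away
      (algebraMap (SGA1.kummerAlg A f n) C (algebraMap A (SGA1.kummerAlg A f n) (∏ i, f i))),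
      γ = ε.toRingHom.comp (Algebra.TensorProduct.includeRight :
        Γ(V.left, ⊤) →ₐ[Localization.Away (∏ i, f i)]
          TensorProduct (Localization.Away (∏ i, f i))
            (Localization.Away (algebraMap A (SGA1.kummerAlg A f n) (∏ i, f i)))
            Γ(V.left, ⊤)).toRingHom := ⟨_, rfl⟩
  have hinl : ∀ c : Localization.Away (algebraMap A (SGA1.kummerAlg A f n) (∏ i, f i)),
      ε (TensorProduct.tmul (Localization.Away (∏ i, f i)) c (1 : Γ(V.left, ⊤))) =
      Localization.awayMap (algebraMap (SGA1.kummerAlg A f n) C)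
        (algebraMap A (SGA1.kummerAlg A f n) (∏ i, f i)) c := by
    have h1 : (ε.toRingHom.comp (Algebra.TensorProduct.includeLeftRingHom :
        Localization.Away (algebraMap A (SGA1.kummerAlg A f n) (∏ i, f i)) →+*
          TensorProduct (Localization.Away (∏ i, f i))
            (Localization.Away (algebraMap A (SGA1.kummerAlg A f n) (∏ i, f i)))
            Γ(V.left, ⊤))) =
        Localization.awayMap (algebraMap (SGA1.kummerAlg A f n) C)
          (algebraMap A (SGA1.kummerAlg A f n) (∏ i, f i)) := by
      apply IsLocalization.ringHom_ext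
        (Submonoid.powers (algebraMap A (SGA1.kummerAlg A f n) (∏ i, f i)))
      apply RingHom.ext
      intro b
      rw [RingHom.comp_apply, RingHom.comp_apply, RingHom.comp_apply]
      refine (hε b).trans ?_
      simp [Localization.awayMap, IsLocalization.Away.map]
    intro c
    exact congrArg (fun φ => φ c) h1
  have hpush : IsPushout
      (CommRingCat.ofHom (Localization.awayMap (algebraMap A (SGA1.kummerAlg A f n)) (∏ i, f i)))
      (Groth.Agent.Lib.Helper9.AbhSch.ringMap
        (Groth.Agent.Lib.Helper9.AbhSch.toAway A (∏ i, f i) V.hom))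
      (CommRingCat.ofHom
        (R := Localization.Away (algebraMap A (SGA1.kummerAlg A f n) (∏ i, f i)))
        (S := Localization.Away (algebraMap (SGA1.kummerAlg A f n) C
          (algebraMap A (SGA1.kummerAlg A f n) (∏ i, f i))))
        (Localization.awayMap (algebraMap (SGA1.kummerAlg A f n) C)
        (algebraMap A (SGA1.kummerAlg A f n) (∏ i, f i))))
      (CommRingCat.ofHom γ) := by
    have h0 := CommRingCat.isPushout_tensorProduct (Localization.Away (∏ i, f i))
      (Localization.Away (algebraMap A (SGA1.kummerAlg A f n) (∏ i, f i))) Γ(V.left, ⊤)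
    rw [← hg']
    refine h0.of_iso (Iso.refl _) (Iso.refl _) (Iso.refl _) ε.toCommRingCatIso ?_ ?_ ?_ ?_
    · rfl
    · rfl
    · rw [Iso.refl_hom, Category.id_comp]
      ext c
      exact hinl c
    · rw [Iso.refl_hom, Category.id_comp, hγ]
      rfl
  exact Groth.Agent.Lib.Helper9.AbhGen.exists_extension_of_pushout A (∏ i, f i)
    (SGA1.kummerAlg A f n) V C γ hpush

end Groth.Agent.S2922
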