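import Groth.Statements.S2923
import Mathlib
import Groth.Agent.Lib.Helper9.AbhSch.RingMain
import Groth.Agent.Lib.Helper9.AbhSch.SchemeMain

set_option autoImplicit false
universe u
open IsLocalRing
open SGA1

namespace Groth.Agent.S2923

open AlgebraicGeometry CategoryTheory CategoryTheory.Limits in
/-- The Kummer coverings are cofinal among tame covers: let A be a strictly henselian regular local ring
(henselian with separably closed residue field), f_1, …, f_r part of a regular system of parameters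
with each (f_i) a prime ideal, U ⊆ X = Spec A the open where f_1 ⋯ f_r is invertible, and V a
connected finite etale cover of U tamely ramified along each f_i. Then for some exponents n_i ≥ 1
invertible in the residue field there is a surjective U-morphism from the restriction to U of the
Kummer covering Spec A[T_1, …, T_r]/(T_i^{n_i} − f_i) onto V. -/
theorem result (A : Type u) [CommRing A] [IsRegularLocalRing A] [IsDomain A] (r : ℕ) (f : Fin r → A)
    (hm : ∀ i, f i ∈ maximalIdeal A)
    (hf : LinearIndependent (ResidueField A) (fun i => (maximalIdeal A).toCotangent ⟨f i, hm i⟩))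
    [∀ i, (Ideal.span {f i}).IsPrime]
    [HenselianLocalRing A] [IsSepClosed (ResidueField A)]
    (V : FEt.Cat ((SGA1.specBasicOpen A (∏ i, f i)) : Scheme.{u})) [ConnectedSpace V.left] (htame : SGA1.IsTameAlong f (((V.hom ≫ ((SGA1.specBasicOpen A (∏ i, f i))).ι).appTop).hom.comp (Scheme.ΓSpecIso (CommRingCat.of A)).inv.hom)) :
    ∃ n : Fin r → ℕ, (∀ i, 1 ≤ n i) ∧ (∀ i, IsUnit ((n i : ℕ) : ResidueField A)) ∧
      ∃ φ : (↑((Spec.map (CommRingCat.ofHom (algebraMap A (SGA1.kummerAlg A f n)))) ⁻¹ᵁ (SGA1.specBasicOpen A (∏ i, f i))) : Scheme.{u}) ⟶ V.left, φ ≫ V.hom = (Spec.map (CommRingCat.ofHom (algebraMap A (SGA1.kummerAlg A f n)))) ∣_ (SGA1.specBasicOpen A (∏ i, f i)) ∧ Surjective φ := by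
  classical
  have hF : (∏ i, f i) ≠ 0 :=
    Finset.prod_ne_zero_iff.mpr (fun i _ =>
      Groth.Agent.Lib.Helper9.AbhAbs.ne_zero_of_linearIndependent f hm hf i)
  haveI hfin : IsFinite V.hom := V.prop.1
  haveI het : Etale V.hom := V.prop.2
  obtain ⟨g', hg'⟩ : ∃ g' : V.left ⟶ Spec (CommRingCat.of (Localization.Away (∏ i, f i))),
      g' = Groth.Agent.Lib.Helper9.AbhSch.toAway A (∏ i, f i) V.hom := ⟨_, rfl⟩
  haveI : IsFinite g' := by
    rw [hg']
    unfold Groth.Agent.Lib.Helper9.AbhSch.toAway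
    infer_instance
  haveI : Etale g' := by
    rw [hg']
    unfold Groth.Agent.Lib.Helper9.AbhSch.toAway
    infer_instance
  haveI : IsAffine V.left := Groth.Agent.Lib.Helper9.AbhSch.isAffine_of_isFinite g'
  haveI : IsIntegrallyClosed A := Groth.Agent.S9829.result A
  haveI : IsDomain (Localization.Away (∏ i, f i)) :=
    Groth.Agent.Lib.Helper9.AbhSch.isDomain_Aloc A (∏ i, f i) hF _
  haveI : IsIntegrallyClosed (Localization.Away (∏ i, f i)) :=
    isIntegrallyClosed_of_isLocalization _ (Submonoid.powers (∏ i, f i))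
      (powers_le_nonZeroDivisors_of_noZeroDivisors hF)
  haveI : IsDomain Γ(V.left, ⊤) :=
    Groth.Agent.Lib.Helper9.AbhSch.isDomain_of_connected (Localization.Away (∏ i, f i)) g'
  letI algAE : Algebra A Γ(V.left, ⊤) :=
    (((V.hom ≫ ((SGA1.specBasicOpen A (∏ i, f i))).ι).appTop).hom.comp
      (Scheme.ΓSpecIso (CommRingCat.of A)).inv.hom).toAlgebra
  letI algAlocE : Algebra (Localization.Away (∏ i, f i)) Γ(V.left, ⊤) :=
    (Groth.Agent.Lib.Helper9.AbhSch.ringMap g').hom.toAlgebra
  have htower : ∀ a : A, (Groth.Agent.Lib.Helper9.AbhSch.ringMap g').hom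
      (algebraMap A (Localization.Away (∏ i, f i)) a) = algebraMap A Γ(V.left, ⊤) a := by
    intro a
    have h1 := Groth.Agent.Lib.Helper9.AbhSch.ringMap_toAway A (∏ i, f i) V.hom
    rw [← hg'] at h1
    exact congrArg (fun k => k.hom a) h1
  haveI : IsScalarTower A (Localization.Away (∏ i, f i)) Γ(V.left, ⊤) :=
    IsScalarTower.of_algebraMap_eq (fun a => (htower a).symm)
  haveI : Module.Finite (Localization.Away (∏ i, f i)) Γ(V.left, ⊤) :=
    Groth.Agent.Lib.Helper9.AbhSch.ringMap_finite g'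
  haveI : Algebra.Etale (Localization.Away (∏ i, f i)) Γ(V.left, ⊤) :=
    Groth.Agent.Lib.Helper9.AbhSch.ringMap_etale g'
  obtain ⟨n, hn1, hnu, hψ⟩ := Groth.Agent.Lib.Helper9.AbhSch.ring_main A f hm hf
    (Localization.Away (∏ i, f i)) Γ(V.left, ⊤) htame
  refine ⟨n, hn1, hnu, ?_⟩
  obtain ⟨ψ, hψ1, hψ2, hψ3⟩ := hψ
    (Localization.Away (algebraMap A (SGA1.kummerAlg A f n) (∏ i, f i)))
  obtain ⟨φ, hφ1, hφ2⟩ := Groth.Agent.Lib.Helper9.AbhSch.exists_lift (Y := V.left) A (∏ i, f i)
    (SGA1.kummerAlg A f n) V.hom ψ (fun a => by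
      rw [← hg', htower a]
      exact hψ1 a)
  exact ⟨φ, hφ1, hφ2 (hψ3.comap_surjective hψ2)⟩

end Groth.Agent.S2923
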