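import Groth.Statements.S2924
import Mathlib
import Groth.Agent.Lib.Helper9.KummerTame.Main

set_option autoImplicit false
universe u
open IsLocalRing
open SGA1

namespace Groth.Agent.S2924

/-- Let A be a regular local ring, f_1, …, f_r part of a regular system of parameters and n_i ≥ 1
invertible in the residue field. Then the Kummer algebra A[T_1, …, T_r]/(T_i^{n_i} − f_i) is tamely
ramified along each f_i (at every point of its generic fibre, with respect to the discrete valuation
rings A_{(f_i)}). -/
theorem result (A : Type u) [CommRing A] [IsRegularLocalRing A] [IsDomain A] (r : ℕ) (f : Fin r → A)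
    (hm : ∀ i, f i ∈ maximalIdeal A)
    (hf : LinearIndependent (ResidueField A) (fun i => (maximalIdeal A).toCotangent ⟨f i, hm i⟩))
    [∀ i, (Ideal.span {f i}).IsPrime] (n : Fin r → ℕ) (hn : ∀ i, 1 ≤ n i) (hu : ∀ i, IsUnit ((n i : ℕ) : ResidueField A)) :
    SGA1.IsTameAlong f (algebraMap A (SGA1.kummerAlg A f n)) := by
  classical
  have hf0 : ∀ i, f i ≠ 0 := by
    intro i h
    apply hf.ne_zero i
    have h1 : (⟨f i, hm i⟩ : maximalIdeal A) = 0 := Subtype.ext h
    rw [h1, map_zero]
  have hne : ∀ i j, j ≠ i → f j ∉ Ideal.span {f i} := by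
    intro i j hj hmem
    rw [Ideal.mem_span_singleton'] at hmem
    obtain ⟨a, ha⟩ := hmem
    have h1 : (maximalIdeal A).toCotangent ⟨f j, hm j⟩ =
        residue A a • (maximalIdeal A).toCotangent ⟨f i, hm i⟩ := by
      have h2 : (⟨f j, hm j⟩ : maximalIdeal A) = a • (⟨f i, hm i⟩ : maximalIdeal A) :=
        Subtype.ext (by show f j = a * f i; rw [ha])
      rw [h2, map_smul]
      rfl
    have h3 := hf.notMem_span_image (s := {i}) (x := j) (by simpa using hj)
    apply h3
    rw [Set.image_singleton, Submodule.mem_span_singleton]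
    exact ⟨residue A a, h1.symm⟩
  have hu' : ∀ i, IsUnit ((n i : ℕ) : A) := by
    intro i
    apply (isUnit_map_iff (IsLocalRing.residue A) _).mp
    rw [map_natCast]
    exact hu i
  exact Groth.Agent.Lib.Helper9.KummerTame.tame_kummer A f hf0 hne n hn hu'

end Groth.Agent.S2924
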