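import Groth.Statements.S2930
import Groth.Agent.Lib.Helper93.GrothFin
import Groth.Agent.Lib.Helper93.HeightQuot2
import Groth.Agent.S11650

set_option autoImplicit false
universe u
open LocCoh

namespace Groth.Agent.S2930

/-- (ii)⇔(iii): Let A be a Noetherian ring which is a quotient of a regular ring, I an ideal, M a finite
A-module and n ≥ 0. Then H^i_I(M) is a finite A-module for every i ≤ n if and only if depth M_p ≥ n
for every prime p not containing I for which V(p) ∩ V(I) has codimension 1 in V(p), i.e. for which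
there is a prime q ⊇ I covering p. -/
theorem result (R : Type u) [CommRing R] [IsRegularRing R] (A : Type u) [CommRing A] [IsNoetherianRing A] (π : R →+* A) (hπ : Function.Surjective π) (I : Ideal A) (M : Type u) [AddCommGroup M] [Module A M] [Module.Finite A M] (n : ℕ) : (∀ i : ℕ, i ≤ n → Module.Finite A (LocCoh.H I i M)) ↔ ∀ p q : PrimeSpectrum A, ¬ I ≤ p.asIdeal → I ≤ q.asIdeal → p ⋖ q → (n : ℕ∞) ≤ LocCoh.depth (Localization.AtPrime p.asIdeal) (LocalizedModule p.asIdeal.primeCompl M) := by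
  classical
  rw [Groth.Agent.Lib.Helper93.GrothFin.finite_below_iff' R π hπ I M n]
  constructor
  · intro h p q hIp hIq hpq
    have h1 := h p hIp
    have h2 : ((I ⊔ p.asIdeal).map (Ideal.Quotient.mk p.asIdeal)).height ≤ 1 := by
      refine le_trans (Ideal.height_mono (Ideal.map_mono (sup_le hIq hpq.le))) ?_
      rw [Groth.Agent.Lib.Helper93.HeightQuot.height_map_eq_height_Ici p q hpq.le]
      exact Groth.Agent.Lib.Helper93.HeightQuot.height_Ici_le_one_of_covBy p q hpq
    have h3 : (n : ℕ∞) < LocCoh.depth (Localization.AtPrime p.asIdeal)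
        (LocalizedModule p.asIdeal.primeCompl M) + 1 := lt_of_lt_of_le h1 (by gcongr)
    exact Order.le_of_lt_add_one h3
  · intro h p hIp
    set D := LocCoh.depth (Localization.AtPrime p.asIdeal)
      (LocalizedModule p.asIdeal.primeCompl M) with hD
    set J := (I ⊔ p.asIdeal).map (Ideal.Quotient.mk p.asIdeal) with hJ
    by_cases hJtop : J.height = ⊤
    · rw [hJtop, add_top]
      exact ENat.natCast_lt_top n
    have hJne : J ≠ ⊤ := by
      intro h1
      rw [h1, Ideal.height_top] at hJtop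
      exact hJtop rfl
    obtain ⟨q', hq'min, hq'h⟩ : ∃ q' ∈ J.minimalPrimes, q'.height = J.height := by
      have : Nonempty J.minimalPrimes := Ideal.nonempty_minimalPrimes hJne
      obtain ⟨⟨q', hq'⟩, hqe⟩ :=
        ENat.exists_eq_iInf (fun q' : J.minimalPrimes => (q' : Ideal (A ⧸ p.asIdeal)).height)
      refine ⟨q', hq', ?_⟩
      rw [J.height_eq_inf_minimalPrimes, iInf_subtype']
      exact hqe
    have hq'prime : q'.IsPrime := hq'min.1.1
    let Q : PrimeSpectrum A := ⟨q'.comap (Ideal.Quotient.mk p.asIdeal), inferInstance⟩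
    have hPQ : p ≤ Q := by
      change p.asIdeal ≤ q'.comap (Ideal.Quotient.mk p.asIdeal)
      intro x hx
      rw [Ideal.mem_comap, Ideal.Quotient.eq_zero_iff_mem.mpr hx]
      exact zero_mem _
    have hIQ : I ≤ Q.asIdeal := by
      change I ≤ q'.comap (Ideal.Quotient.mk p.asIdeal)
      refine le_trans le_sup_left (le_trans Ideal.le_comap_map (Ideal.comap_mono hq'min.1.2))
    have hmapQ : Q.asIdeal.map (Ideal.Quotient.mk p.asIdeal) = q' :=
      Ideal.map_comap_of_surjective _ Ideal.Quotient.mk_surjective q'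
    obtain ⟨c, hc⟩ := ENat.ne_top_iff_exists.mp hJtop
    have hQh : Order.height (⟨Q, hPQ⟩ : Set.Ici p) = (c : ℕ∞) := by
      rw [← Groth.Agent.Lib.Helper93.HeightQuot.height_map_eq_height_Ici, hmapQ, hq'h, hc]
    have hc1 : 1 ≤ c := by
      by_contra h0
      have hc0 : c = 0 := by omega
      rw [hc0] at hQh
      have hmin : IsMin (⟨Q, hPQ⟩ : Set.Ici p) := Order.height_eq_zero.mp (by exact_mod_cast hQh)
      have hpp : p ∈ Set.Ici p := Set.self_mem_Ici
      have hle : (⟨Q, hPQ⟩ : Set.Ici p) ≤ ⟨p, hpp⟩ :=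
        hmin (show (⟨p, hpp⟩ : Set.Ici p) ≤ ⟨Q, hPQ⟩ from hPQ)
      exact hIp (le_trans hIQ (show Q.asIdeal ≤ p.asIdeal from hle))
    obtain ⟨c', rfl⟩ : ∃ c', c = c' + 1 := ⟨c - 1, by omega⟩
    obtain ⟨P', hPP', hcov, hP'h⟩ :=
      Groth.Agent.Lib.Helper93.HeightQuot.exists_covBy_of_height_Ici p Q hPQ c' hQh
    have hIP' : ¬ I ≤ P'.asIdeal := by
      intro hI
      have h1 : J ≤ P'.asIdeal.map (Ideal.Quotient.mk p.asIdeal) :=
        Ideal.map_mono (sup_le hI hPP')
      have hP'prime : (P'.asIdeal.map (Ideal.Quotient.mk p.asIdeal)).IsPrime :=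
        Ideal.map_isPrime_of_surjective Ideal.Quotient.mk_surjective
          (by rw [Ideal.mk_ker]; exact hPP')
      have h2 : P'.asIdeal.map (Ideal.Quotient.mk p.asIdeal) ≤ q' := by
        rw [← hmapQ]
        exact Ideal.map_mono hcov.lt.le
      have h3 : q' ≤ P'.asIdeal.map (Ideal.Quotient.mk p.asIdeal) := hq'min.2 ⟨hP'prime, h1⟩ h2
      have h4 : Q.asIdeal ≤ P'.asIdeal := by
        have h5 := Ideal.comap_mono (f := Ideal.Quotient.mk p.asIdeal) h3
        rw [Ideal.comap_map_of_surjective _ Ideal.Quotient.mk_surjective,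
          ← RingHom.ker_eq_comap_bot, Ideal.mk_ker, sup_eq_left.2 hPP'] at h5
        exact h5
      exact absurd (lt_of_lt_of_le hcov.lt h4) (lt_irrefl _)
    have h5 := h P' Q hIP' hIQ hcov
    have h6 := Groth.Agent.S11650.result A M p.asIdeal P'.asIdeal hPP'
    rw [Groth.Agent.Lib.Helper93.HeightQuot.height_map_eq_height_Ici p P' hPP', hP'h] at h6
    rw [← hc, ← ENat.add_one_le_iff (ENat.natCast_ne_top n)]
    calc (n : ℕ∞) + 1 ≤ (D + (c' : ℕ∞)) + 1 := by gcongr; exact le_trans h5 h6
      _ = D + ((c' + 1 : ℕ) : ℕ∞) := by push_cast; rw [add_assoc]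

end Groth.Agent.S2930
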