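import Groth.Statements.S2931
import Groth.Agent.Lib.Helper93.GrothFin2
import Groth.Agent.Lib.Helper29.FiniteRestrict
import Groth.Agent.Lib.Helper29.DepthRees

set_option autoImplicit false
universe u
open LocCoh

namespace Groth.Agent.S2931

/-- Affine form (coherence of R^p i_*(F) for p < n being finiteness of H^i_I for i ≤ n). Let A be a
Noetherian ring which is a quotient of a regular ring, I an ideal and M a finite A-module such that
M_p is zero or Cohen–Macaulay for every prime p not containing I. Then H^i_I(M) is a finite A-module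
for every i ≤ n if and only if for every prime p not containing I which is minimal in the support of
M, the codimension of V(p) ∩ V(I) in V(p) is greater than n. -/
theorem result (R : Type u) [CommRing R] [IsRegularRing R] (A : Type u) [CommRing A] [IsNoetherianRing A] (π : R →+* A) (hπ : Function.Surjective π) (I : Ideal A) (M : Type u) [AddCommGroup M] [Module A M] [Module.Finite A M] (hCM : ∀ p : PrimeSpectrum A, ¬ I ≤ p.asIdeal → Subsingleton (LocalizedModule p.asIdeal.primeCompl M) ∨ LocCoh.IsCohenMacaulayModule (Localization.AtPrime p.asIdeal) (LocalizedModule p.asIdeal.primeCompl M)) (n : ℕ) : (∀ i : ℕ, i ≤ n → Module.Finite A (LocCoh.H I i M)) ↔ ∀ p : PrimeSpectrum A, ¬ I ≤ p.asIdeal → p.asIdeal ∈ (Module.annihilator A M).minimalPrimes → (n : ℕ∞) < SGA2.relCodim I p := by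
  classical
  have hcat : CAlg.IsCatenary A :=
    Groth.Agent.Lib.Helper93.GrothFin.isCatenary_of_surjective R π hπ
  rw [Groth.Agent.Lib.Helper93.GrothFin.finite_below_iff' R π hπ I M n]
  constructor
  · intro h p hIp hpmin
    have h1 := h p hIp
    have hpsupp : p ∈ Module.support A M := by
      rw [Module.mem_support_iff_of_finite]
      exact hpmin.1.2
    have hnt : Nontrivial (LocalizedModule p.asIdeal.primeCompl M) :=
      Module.mem_support_iff.mp hpsupp
    have h2 := Groth.Agent.Lib.Helper29.depth_le_supportDim (Localization.AtPrime p.asIdeal)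
      (LocalizedModule p.asIdeal.primeCompl M)
    rw [Groth.Agent.Lib.Helper29.supportDim_localizedModule_eq_height A M p.asIdeal hpsupp] at h2
    have h3 : Order.height (⟨p, hpsupp⟩ : Module.support A M) = 0 := by
      rw [Order.height_eq_zero]
      intro y hy
      have hy1 : Module.annihilator A M ≤ y.1.asIdeal :=
        (Module.mem_support_iff_of_finite).mp y.2
      exact hpmin.2 ⟨y.1.2, hy1⟩ hy
    have hD0 : LocCoh.depth (Localization.AtPrime p.asIdeal)
        (LocalizedModule p.asIdeal.primeCompl M) = 0 := by
      have h4 : LocCoh.depth (Localization.AtPrime p.asIdeal)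
          (LocalizedModule p.asIdeal.primeCompl M) ≤
          Order.height (⟨p, hpsupp⟩ : Module.support A M) := by exact_mod_cast h2
      rw [h3] at h4
      exact le_antisymm h4 bot_le
    rw [hD0, zero_add] at h1
    exact lt_of_lt_of_le h1 (Groth.Agent.Lib.Helper93.GrothFin.height_le_relCodim I p)
  · intro h p hIp
    rcases hCM p hIp with hsub | hcm
    · rw [Groth.Agent.Lib.Helper29.depth_eq_top_of_subsingleton, top_add]
      exact ENat.natCast_lt_top n
    set D := LocCoh.depth (Localization.AtPrime p.asIdeal)
      (LocalizedModule p.asIdeal.primeCompl M) with hD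
    set J := (I ⊔ p.asIdeal).map (Ideal.Quotient.mk p.asIdeal) with hJ
    by_cases hJtop : J.height = ⊤
    · rw [hJtop, add_top]
      exact ENat.natCast_lt_top n
    unfold LocCoh.IsCohenMacaulayModule at hcm
    have hnt : Nontrivial (LocalizedModule p.asIdeal.primeCompl M) := by
      rw [← Module.supportDim_ne_bot_iff_nontrivial (Localization.AtPrime p.asIdeal), hcm]
      exact WithBot.coe_ne_bot
    have hpsupp : p ∈ Module.support A M := Module.mem_support_iff.mpr hnt
    rw [Groth.Agent.Lib.Helper29.supportDim_localizedModule_eq_height A M p.asIdeal hpsupp] at hcm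
    have hDeq : Order.height (⟨p, hpsupp⟩ : Module.support A M) = D := by
      exact_mod_cast hcm
    -- a minimal prime of the annihilator below p
    have hann : Module.annihilator A M ≤ p.asIdeal :=
      (Module.mem_support_iff_of_finite).mp hpsupp
    obtain ⟨p0, hp0min, hp0le⟩ := Ideal.exists_minimalPrimes_le hann
    let P0 : PrimeSpectrum A := ⟨p0, hp0min.1.1⟩
    have hP0p : P0 ≤ p := hp0le
    have hIP0 : ¬ I ≤ P0.asIdeal := fun hI => hIp (le_trans hI hp0le)
    have hP0supp : P0 ∈ Module.support A M := by
      rw [Module.mem_support_iff_of_finite]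
      exact hp0min.1.2
    have h1 := h P0 hIP0 hp0min
    obtain ⟨Q, hPQ, hIQ, hQh⟩ := Groth.Agent.Lib.Helper93.GrothFin.exists_prime_ge I p hJtop
    have h2 : SGA2.relCodim I P0 ≤ Order.height (⟨Q, hP0p.trans hPQ⟩ : Set.Ici P0) := by
      unfold SGA2.relCodim
      exact iInf_le (fun q : {q : PrimeSpectrum A // P0 ≤ q ∧ I ≤ q.asIdeal} =>
        Order.height (⟨q.1, q.2.1⟩ : Set.Ici P0)) ⟨Q, hP0p.trans hPQ, hIQ⟩
    rw [Groth.Agent.Lib.Helper93.GrothFin.height_Ici_add hcat P0 p Q hP0p hPQ, hQh] at h2
    have h3 : Order.height (⟨p, hP0p⟩ : Set.Ici P0) ≤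
        Order.height (⟨p, hpsupp⟩ : Module.support A M) := by
      let f : Set.Ici P0 → Module.support A M := fun x =>
        ⟨x.1, Module.mem_support_mono x.2 hP0supp⟩
      have hf : StrictMono f := fun x y hxy => hxy
      exact Order.height_le_height_apply_of_strictMono f hf ⟨p, hP0p⟩
    rw [hDeq] at h3
    calc (n : ℕ∞) < SGA2.relCodim I P0 := h1
      _ ≤ Order.height (⟨p, hP0p⟩ : Set.Ici P0) + J.height := h2
      _ ≤ D + J.height := by gcongr

end Groth.Agent.S2931
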