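import Groth.Statements.S2933
import Groth.Agent.Lib.Helper29.HartshorneCodim

set_option autoImplicit false
universe u
open LocCoh

namespace Groth.Agent.S2933

/-- Let A be a Noetherian ring with connected spectrum and d ≥ 1 an integer such that every prime p with
dim A_p ≥ d has depth A_p ≥ 2. Then for any two minimal primes p', p'' of A there is a finite
sequence of minimal primes starting at p' and ending at p'' such that any two consecutive members
are both contained in some prime of height at most d − 1 (Spec A is connected in codimension d − 1). -/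
theorem result (A : Type u) [CommRing A] [IsNoetherianRing A] [ConnectedSpace (PrimeSpectrum A)] (d : ℕ) (hd : 1 ≤ d) (h : ∀ p : PrimeSpectrum A, (d : ℕ∞) ≤ p.asIdeal.height → (2 : ℕ∞) ≤ LocCoh.depth (Localization.AtPrime p.asIdeal) (Localization.AtPrime p.asIdeal)) (p' p'' : PrimeSpectrum A) (hp' : p'.asIdeal ∈ minimalPrimes A) (hp'' : p''.asIdeal ∈ minimalPrimes A) : ∃ l : List (PrimeSpectrum A), l.head? = some p' ∧ l.getLast? = some p'' ∧ (∀ p ∈ l, p.asIdeal ∈ minimalPrimes A) ∧ List.IsChain (fun p q => ∃ r : PrimeSpectrum A, p ≤ r ∧ q ≤ r ∧ r.asIdeal.height ≤ (d - 1 : ℕ)) l := by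
  have h' : ∀ (p : Ideal A) [p.IsPrime], (d : ℕ∞) ≤ p.height →
      (2 : ℕ∞) ≤ LocCoh.depth (Localization.AtPrime p) (Localization.AtPrime p) :=
    fun p _ hp => h ⟨p, inferInstance⟩ hp
  have hrt := Groth.Agent.Lib.Helper29.reflTransGen_codimLink d h' p'.asIdeal p''.asIdeal hp' hp''
  set r' : PrimeSpectrum A → PrimeSpectrum A → Prop := fun p q =>
    q.asIdeal ∈ minimalPrimes A ∧
      ∃ r : PrimeSpectrum A, p ≤ r ∧ q ≤ r ∧ r.asIdeal.height ≤ (d - 1 : ℕ) with hr'
  have key : ∀ b : Ideal A,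
      Relation.ReflTransGen (Groth.Agent.Lib.Helper29.codimLink d) p'.asIdeal b →
      ∃ hb : b.IsPrime, Relation.ReflTransGen r' p' ⟨b, hb⟩ := by
    intro b hb
    induction hb with
    | refl => exact ⟨p'.isPrime, Relation.ReflTransGen.refl⟩
    | tail hab hbc ih =>
      obtain ⟨hbprime, hrt⟩ := ih
      obtain ⟨hcmin, Q, hQ, h1, h2, h3⟩ := hbc
      refine ⟨hcmin.1.1, hrt.tail ⟨hcmin, ⟨Q, hQ⟩, h1, h2, ?_⟩⟩
      show Q.height ≤ ((d - 1 : ℕ) : ℕ∞)
      have hne : Q.height ≠ ⊤ := by
        intro htop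
        rw [htop] at h3
        simp at h3
      lift Q.height to ℕ using hne with k hk
      have : k + 1 ≤ d := by exact_mod_cast h3
      have : k ≤ d - 1 := by omega
      exact_mod_cast this
  obtain ⟨hb, hrt'⟩ := key _ hrt
  obtain ⟨l, hchain, hlast⟩ := List.exists_isChain_cons_of_relationReflTransGen hrt'
  refine ⟨p' :: l, rfl, ?_, ?_, ?_⟩
  · rw [List.getLast?_eq_some_getLast (List.cons_ne_nil _ _), hlast]
  · exact hchain.induction _ _ (fun x y hxy _ => hxy.1) (fun _ => hp')
  · exact hchain.imp (fun p q hpq => hpq.2)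

end Groth.Agent.S2933
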