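import Groth.Statements.S2938
import Mathlib.RingTheory.Depth.Rees
import Mathlib.RingTheory.Regular.Flat

set_option autoImplicit false
universe u
open scoped TensorProduct
open LocCoh

namespace Groth.Agent.S2938

open TensorProduct RingTheory.Sequence CategoryTheory Abelian

lemma smul_top_quotSMulTop_ne_top {R : Type*} [CommRing R] {M : Type*} [AddCommGroup M]
    [Module R M] {I : Ideal R} {r : R} (hr : r ∈ I)
    (hI : I • (⊤ : Submodule R M) ≠ ⊤) :
    I • (⊤ : Submodule R (QuotSMulTop r M)) ≠ ⊤ := by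
  by_contra eq
  absurd congrArg (Submodule.comap (Submodule.mkQ _)) eq
  simpa [Submodule.comap_smul_top_of_surjective I _ (Submodule.mkQ_surjective _),
    Submodule.smul_mono_left ((Ideal.span_singleton_le_iff_mem I).mpr hr),
    ← Submodule.ideal_span_singleton_smul] using hI

lemma exists_isRegular_quotSMulTop {R : Type u} [CommRing R] [IsNoetherianRing R] (J : Ideal R)
    (n : ℕ) (N : Type u) [AddCommGroup N] [Module R N] [Module.Finite R N]
    (hJ : J • (⊤ : Submodule R N) < ⊤) (x : R) (hx : x ∈ J) (hreg : IsSMulRegular N x)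
    (h : ∃ rs : List R, rs.length = n + 1 ∧ (∀ r ∈ rs, r ∈ J) ∧ IsRegular N rs) :
    ∃ rs : List R, rs.length = n ∧ (∀ r ∈ rs, r ∈ J) ∧ IsRegular (QuotSMulTop x N) rs := by
  have tfae := ModuleCat.exists_isRegular_tfae J (n + 1) (ModuleCat.of R N) hJ
  have h2 := (tfae.out 3 1).mp h
  have hJ' : J • (⊤ : Submodule R (QuotSMulTop x N)) < ⊤ :=
    (smul_top_quotSMulTop_ne_top hx hJ.ne).lt_top
  have tfae' := ModuleCat.exists_isRegular_tfae J n (ModuleCat.of R (QuotSMulTop x N)) hJ'
  apply (tfae'.out 1 3).mp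
  intro i hi
  have zero1 := AddCommGrpCat.isZero_of_iff_subsingleton.mpr (h2 i (by omega))
  have zero2 := AddCommGrpCat.isZero_of_iff_subsingleton.mpr (h2 (i + 1) (by omega))
  have hreg' : IsSMulRegular (ModuleCat.of R N) x := hreg
  exact AddCommGrpCat.subsingleton_of_isZero <| ShortComplex.Exact.isZero_of_both_zeros
    ((Ext.covariant_sequence_exact₃' _ (hreg'.smulShortComplex_shortExact)) i (i + 1) rfl)
    (zero1.eq_zero_of_src _) (zero2.eq_zero_of_tgt _)


section
variable {A B : Type u} [CommRing A] [CommRing B] [Algebra A B] [IsNoetherianRing A]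
  [IsNoetherianRing B] [Module.FaithfullyFlat A B] (I : Ideal A)

lemma keyK (n : ℕ) : ∀ (M : Type u) [AddCommGroup M] [Module A M] [Module.Finite A M],
    I • (⊤ : Submodule A M) < ⊤ →
    (∃ rs : List B, rs.length = n ∧ (∀ r ∈ rs, r ∈ I.map (algebraMap A B)) ∧
      IsRegular (B ⊗[A] M) rs) →
    ∃ rs : List A, rs.length = n ∧ (∀ r ∈ rs, r ∈ I) ∧ IsRegular M rs := by
  induction n with
  | zero =>
    intro M _ _ _ hI _
    have : Nontrivial M := (Submodule.nontrivial_iff A).mp (nontrivial_of_lt _ _ hI)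
    exact ⟨[], rfl, by simp, IsRegular.nil A M⟩
  | succ n ih =>
    intro M _ _ _ hI h
    obtain ⟨rs, hlen, hmem, hreg⟩ := h
    have hbc : IsBaseChange B (TensorProduct.mk A B M 1) := TensorProduct.isBaseChange A M B
    have hIB : I.map (algebraMap A B) • (⊤ : Submodule B (B ⊗[A] M)) < ⊤ :=
      ((hbc.map_smul_top_ne_top_iff_of_faithfullyFlat A M I).mpr hI.ne).lt_top
    -- first element
    obtain ⟨b, rs', rfl⟩ : ∃ b rs', rs = b :: rs' := by
      cases rs with
      | nil => simp at hlen
      | cons b rs' => exact ⟨b, rs', rfl⟩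
    have hb : IsSMulRegular (B ⊗[A] M) b := ((isRegular_cons_iff _ _ _).mp hreg).1
    have hbI : b ∈ I.map (algebraMap A B) := hmem b (by simp)
    -- Hom(A/I, M) = 0
    have hsub : Subsingleton ((A ⧸ I) →ₗ[A] M) := by
      refine subsingleton_of_forall_eq 0 (fun f => ?_)
      have hkill : ∀ c ∈ I.map (algebraMap A B), c • ((1 : B) ⊗ₜ[A] f 1) = 0 := by
        intro c hc
        refine Submodule.span_induction (p := fun c _ => c • ((1 : B) ⊗ₜ[A] f 1) = 0)
          ?_ ?_ ?_ ?_ hc
        · rintro _ ⟨i, hi, rfl⟩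
          rw [algebraMap_smul, ← TensorProduct.tmul_smul, ← map_smul]
          have : i • (1 : A ⧸ I) = 0 := by
            rw [Algebra.smul_def, mul_one, Ideal.Quotient.algebraMap_eq]
            exact Ideal.Quotient.eq_zero_iff_mem.mpr hi
          rw [this, map_zero, TensorProduct.tmul_zero]
        · simp
        · intro x y _ _ hx hy; rw [add_smul, hx, hy, add_zero]
        · intro a x _ hx; rw [smul_eq_mul, mul_smul, hx, smul_zero]
      have h1 : (1 : B) ⊗ₜ[A] f 1 = 0 := by
        apply hb
        simp only [smul_zero]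
        exact hkill b hbI
      have h2 : f 1 = 0 := by
        have hinj := Module.FaithfullyFlat.tensorProduct_mk_injective (A := A) (B := B) M
        apply hinj
        simpa using h1
      apply LinearMap.ext
      intro q
      obtain ⟨a, rfl⟩ := Ideal.Quotient.mk_surjective q
      have : (Ideal.Quotient.mk I a) = a • (1 : A ⧸ I) := by
        rw [Algebra.smul_def]; simp
      rw [this, map_smul, h2, smul_zero, LinearMap.zero_apply]
    obtain ⟨x, hxann, hx⟩ := IsSMulRegular.subsingleton_linearMap_iff.mp hsub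
    have hxI : x ∈ I := by
      rwa [Ideal.annihilator_quotient] at hxann
    have hx' : IsSMulRegular (B ⊗[A] M) (algebraMap A B x) := hx.of_flat_of_isBaseChange hbc
    have hx'I : algebraMap A B x ∈ I.map (algebraMap A B) := Ideal.mem_map_of_mem _ hxI
    obtain ⟨rs2, hlen2, hmem2, hreg2⟩ := exists_isRegular_quotSMulTop (I.map (algebraMap A B)) n
      (B ⊗[A] M) hIB (algebraMap A B x) hx'I hx' ⟨b :: rs', hlen, hmem, hreg⟩
    have e := QuotSMulTop.algebraMapTensorEquivTensorQuotSMulTop x M B
    have hreg3 : IsRegular (B ⊗[A] QuotSMulTop x M) rs2 := (e.isRegular_congr rs2).mp hreg2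
    have hI' : I • (⊤ : Submodule A (QuotSMulTop x M)) < ⊤ :=
      (smul_top_quotSMulTop_ne_top hxI hI.ne).lt_top
    obtain ⟨rs3, hlen3, hmem3, hreg3'⟩ := ih (QuotSMulTop x M) hI' ⟨rs2, hlen2, hmem2, hreg3⟩
    exact ⟨x :: rs3, by simp [hlen3], by simpa using ⟨hxI, hmem3⟩, IsRegular.cons hx hreg3'⟩

end


section
variable {A B : Type u} [CommRing A] [CommRing B] [Algebra A B] (I : Ideal A)
  (M : Type u) [AddCommGroup M] [Module A M]

lemma map_smul_top_eq_top (h : I • (⊤ : Submodule A M) = ⊤) :
    I.map (algebraMap A B) • (⊤ : Submodule B (B ⊗[A] M)) = ⊤ := by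
  rw [eq_top_iff]
  rintro z -
  induction z using TensorProduct.induction_on with
  | zero => exact zero_mem _
  | tmul b m =>
    have hm : m ∈ I • (⊤ : Submodule A M) := by rw [h]; exact Submodule.mem_top
    refine Submodule.smul_induction_on hm ?_ ?_
    · intro i hi m' _
      have : b ⊗ₜ[A] (i • m') = (algebraMap A B i) • (b ⊗ₜ[A] m') := by
        rw [TensorProduct.tmul_smul, algebraMap_smul]
      rw [this]
      exact Submodule.smul_mem_smul (Ideal.mem_map_of_mem _ hi) Submodule.mem_top
    · intro m1 m2 h1 h2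
      rw [TensorProduct.tmul_add]; exact add_mem h1 h2
  | add x y hx hy => exact add_mem hx hy

lemma part1 [Module.Flat A B] :
    LocCoh.idealDepth I M ≤ LocCoh.idealDepth (I.map (algebraMap A B)) (B ⊗[A] M) := by
  classical
  unfold LocCoh.idealDepth
  have hbc : IsBaseChange B (TensorProduct.mk A B M 1) := TensorProduct.isBaseChange A M B
  split_ifs with h1 h2 h2
  · exact le_rfl
  · exact absurd (map_smul_top_eq_top I M h1) h2
  · exact le_top
  · apply iSup₂_le
    rintro rs ⟨hreg, hmem⟩
    have hreg' := hreg.of_flat_of_isBaseChange hbc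
    have hmem' : ∀ r ∈ rs.map (algebraMap A B), r ∈ I.map (algebraMap A B) := by
      intro r hr
      obtain ⟨a, ha, rfl⟩ := List.mem_map.mp hr
      exact Ideal.mem_map_of_mem _ (hmem a ha)
    calc (rs.length : ℕ∞) = ((rs.map (algebraMap A B)).length : ℕ∞) := by simp
      _ ≤ _ := le_iSup₂ (f := fun (rs : List B)
          (_ : IsWeaklyRegular (B ⊗[A] M) rs ∧ ∀ r ∈ rs, r ∈ I.map (algebraMap A B)) =>
            (rs.length : ℕ∞)) (rs.map (algebraMap A B)) ⟨hreg', hmem'⟩

lemma part2 [IsNoetherianRing A] [IsNoetherianRing B] [Module.Finite A M]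
    [Module.FaithfullyFlat A B] :
    LocCoh.idealDepth (I.map (algebraMap A B)) (B ⊗[A] M) ≤ LocCoh.idealDepth I M := by
  classical
  unfold LocCoh.idealDepth
  have hbc : IsBaseChange B (TensorProduct.mk A B M 1) := TensorProduct.isBaseChange A M B
  split_ifs with h1 h2 h2
  · exact le_rfl
  · exact absurd h1 ((hbc.map_smul_top_ne_top_iff_of_faithfullyFlat A M I).mpr h2)
  · exact le_top
  · apply iSup₂_le
    rintro rs ⟨hreg, hmem⟩
    have hle : Ideal.ofList rs ≤ I.map (algebraMap A B) := by
      rw [Ideal.ofList, Ideal.span_le]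
      intro r hr
      exact hmem r hr
    have hR : IsRegular (B ⊗[A] M) rs := by
      refine ⟨hreg, fun heq => h1 ?_⟩
      exact eq_top_iff.mpr (heq.le.trans (Submodule.smul_mono_left hle))
    obtain ⟨rs', hlen, hmem', hreg'⟩ := keyK I rs.length M (lt_top_iff_ne_top.mpr h2)
      ⟨rs, rfl, hmem, hR⟩
    rw [← hlen]
    exact le_iSup₂ (f := fun (rs : List A)
          (_ : IsWeaklyRegular M rs ∧ ∀ r ∈ rs, r ∈ I) => (rs.length : ℕ∞)) rs'
      ⟨hreg'.toIsWeaklyRegular, hmem'⟩

end

/-- Suppose A and B are Noetherian rings with a ring map A → B, I is an ideal of A and M is a finitely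
generated A-module. When B is A-flat, depth_{IB}(B ⊗_A M) ≥ depth_I(M); when B is faithfully flat
over A, the two depths are equal. -/
theorem result (A B : Type u) [CommRing A] [CommRing B] [Algebra A B] [IsNoetherianRing A] [IsNoetherianRing B] (I : Ideal A) (M : Type u) [AddCommGroup M] [Module A M] [Module.Finite A M] : (Module.Flat A B → LocCoh.idealDepth I M ≤ LocCoh.idealDepth (I.map (algebraMap A B)) (B ⊗[A] M)) ∧ (Module.FaithfullyFlat A B → LocCoh.idealDepth (I.map (algebraMap A B)) (B ⊗[A] M) = LocCoh.idealDepth I M) := by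
  refine ⟨fun hflat => part1 I M, fun hff => le_antisymm (part2 I M) (part1 I M)⟩

end Groth.Agent.S2938
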