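import Groth.Statements.S2952
import Groth.Agent.Lib.Helper15.Weyl

set_option autoImplicit false
open RootPairing
open scoped Pointwise
universe u
open RootD

namespace Groth.Agent.S2952

/-- For a finite crystallographic reduced root pairing over a characteristic-zero domain with a base b:
(1) the Weyl group is generated by the reflections in the simple roots; (2) every root is the image
of a simple root under an element of the Weyl group (acting on the indexing type). (The published
statement also covers the non-reduced case.) -/
theorem result {ι R M N : Type*} [CommRing R] [CharZero R] [IsDomain R] [AddCommGroup M] [Module R M]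
    [AddCommGroup N] [Module R N] (P : RootPairing ι R M N) [Finite ι] [P.IsCrystallographic] [P.IsReduced]
    (b : P.Base) :
    Subgroup.closure ((fun i : ι => Equiv.reflection P i) '' (b.support : Set ι)) = P.weylGroup ∧
    ∀ i : ι, ∃ g : P.Aut, g ∈ P.weylGroup ∧ ∃ j ∈ b.support, g • j = i := by
  classical
  constructor
  · apply le_antisymm
    · rw [Subgroup.closure_le]
      rintro _ ⟨i, _, rfl⟩
      exact P.reflection_mem_weylGroup i
    · unfold RootPairing.weylGroup
      rw [Subgroup.closure_le]
      rintro _ ⟨i, rfl⟩
      refine b.induction_reflect i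
        (p := fun i => Equiv.reflection P i ∈
          Subgroup.closure ((fun i : ι => Equiv.reflection P i) '' (b.support : Set ι))) ?_ ?_ ?_
      · intro i hi
        rw [Groth.Agent.Lib.Helper15.reflection_reflectionPerm_aut]
        exact mul_mem (mul_mem hi hi) hi
      · intro i hi
        exact Subgroup.subset_closure ⟨i, hi, rfl⟩
      · intro i j hi hj
        rw [Groth.Agent.Lib.Helper15.reflection_reflectionPerm_aut]
        have hjm : Equiv.reflection P j ∈
            Subgroup.closure ((fun i : ι => Equiv.reflection P i) '' (b.support : Set ι)) :=
          Subgroup.subset_closure ⟨j, hj, rfl⟩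
        exact mul_mem (mul_mem hjm hi) hjm
  · intro i
    refine b.induction_reflect i
      (p := fun i => ∃ g : P.Aut, g ∈ P.weylGroup ∧ ∃ j ∈ b.support, g • j = i) ?_ ?_ ?_
    · rintro i ⟨g, hg, j, hj, rfl⟩
      refine ⟨Equiv.reflection P (g • j) * g, mul_mem (P.reflection_mem_weylGroup _) hg, j, hj, ?_⟩
      rw [mul_smul]
      rfl
    · intro i hi
      exact ⟨1, one_mem _, i, hi, one_smul _ _⟩
    · rintro i j ⟨g, hg, k, hk, rfl⟩ hj
      refine ⟨Equiv.reflection P j * g, mul_mem (P.reflection_mem_weylGroup _) hg, k, hk, ?_⟩
      rw [mul_smul]
      rfl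

end Groth.Agent.S2952
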