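import Groth.Statements.S2954
import Groth.Agent.Lib.Helper15.Weyl
import Groth.Agent.S2953

set_option autoImplicit false
open RootPairing
open scoped Pointwise
universe u
open RootD

namespace Groth.Agent.S2954


open Groth.Agent.Lib.Helper15

set_option linter.unusedSectionVars false

section
variable {ι R M N : Type*} [CommRing R] [CharZero R] [IsDomain R] [AddCommGroup M] [Module R M]
    [AddCommGroup N] [Module R N] {P : RootPairing ι R M N} [Finite ι] [P.IsCrystallographic]
    [P.IsReduced]

/-- a positive root which is not simple is the sum of a positive root and a simple root -/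
lemma exists_decomp (b : P.Base) {i : ι} (hi : b.IsPos i) (hns : i ∉ b.support) :
    ∃ k j, b.IsPos k ∧ j ∈ b.support ∧ P.root i = P.root k + P.root j := by
  obtain ⟨j, hj, hj'⟩ := hi.exists_mem_support_pos_pairingIn
  rw [P.zero_lt_pairingIn_iff'] at hj'
  have hij : i ≠ j := fun h => hns (h ▸ hj)
  obtain ⟨k, hk⟩ := P.root_sub_root_mem_of_pairingIn_pos hj' hij
  have hkpos : b.IsPos k := hi.sub hj hk
  exact ⟨k, j, hkpos, hj, by rw [hk]; abel⟩

lemma root_smul_add (g : P.Aut) {i j k : ι} (h : P.root k = P.root i + P.root j) :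
    P.root (g • k) = P.root (g • i) + P.root (g • j) := by
  rw [root_smul_index, root_smul_index, root_smul_index, h, smul_add]

/-- `g` maps `b`-negative roots to `b'`-negative roots if it maps positive to positive. -/
lemma isPos_inv_smul (b b' : P.Base) (g : P.Aut) (h : ∀ i, b.IsPos i → b'.IsPos (g • i)) :
    ∀ i, b'.IsPos i → b.IsPos (g⁻¹ • i) := by
  intro i hi
  by_contra hneg
  rw [← isPos_neg_iff] at hneg
  have h2 := h _ hneg
  rw [smul_neg_index, smul_inv_smul, isPos_neg_iff] at h2
  exact h2 hi

lemma smul_mem_support (b b' : P.Base) (g : P.Aut) (h : ∀ i, b.IsPos i → b'.IsPos (g • i))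
    {i : ι} (hi : i ∈ b.support) : g • i ∈ b'.support := by
  by_contra hns
  have hpos : b'.IsPos (g • i) := h i (RootPairing.Base.isPos_of_mem_support hi)
  obtain ⟨k, j, hk, hj, hsum⟩ := exists_decomp b' hpos hns
  have hinv := isPos_inv_smul b b' g h
  have hk' := hinv k hk
  have hj' := hinv j (RootPairing.Base.isPos_of_mem_support hj)
  have hsum' := root_smul_add g⁻¹ hsum
  rw [inv_smul_smul] at hsum'
  have hh := b.height_add hsum'
  rw [RootPairing.Base.height_one_of_mem_support hi] at hh
  rw [RootPairing.Base.isPos_iff] at hk' hj'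
  omega

end


section
variable {ι R M N : Type*} [CommRing R] [CharZero R] [IsDomain R] [AddCommGroup M] [Module R M]
    [AddCommGroup N] [Module R N] {P : RootPairing ι R M N} [Finite ι] [P.IsCrystallographic]
    [P.IsReduced]

/-- there is a simple root made negative -/
lemma exists_simple_neg (b b' : P.Base) (g : P.Aut) {i : ι} (hi : b.IsPos i)
    (hneg : ¬ b'.IsPos (g • i)) : ∃ j ∈ b.support, ¬ b'.IsPos (g • j) := by
  by_contra hcon
  push Not at hcon
  apply hneg
  refine hi.induction_on_add (p := fun k => b'.IsPos (g • k))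
    (fun j hj => hcon j hj) ?_
  intro i j k hk hpi hj
  exact hpi.add (hcon j hj) (root_smul_add g hk)

lemma card_lt [Fintype ι] (b b' : P.Base) [DecidablePred b.IsPos] [DecidablePred b'.IsPos]
    (g : P.Aut) (j : ι) (hj : j ∈ b.support)
    (hneg : ¬ b'.IsPos (g • j)) :
    (Finset.univ.filter
        (fun i => b.IsPos i ∧ ¬ b'.IsPos ((g * Equiv.reflection P j) • i))).card <
      (Finset.univ.filter (fun i => b.IsPos i ∧ ¬ b'.IsPos (g • i))).card := by
  classical
  set S' := Finset.univ.filter
    (fun i => b.IsPos i ∧ ¬ b'.IsPos ((g * Equiv.reflection P j) • i)) with hS'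
  set S := Finset.univ.filter (fun i => b.IsPos i ∧ ¬ b'.IsPos (g • i)) with hS
  have hsub : S'.image (fun i => Equiv.reflection P j • i) ⊆ S.erase j := by
    intro x hx
    obtain ⟨i, hi, rfl⟩ := Finset.mem_image.mp hx
    simp only [hS', Finset.mem_filter, Finset.mem_univ, true_and] at hi
    have hij : i ≠ j := by
      rintro rfl
      apply hi.2
      rw [mul_smul, reflection_smul_index, smul_neg_index, isPos_neg_iff]
      exact hneg
    rw [Finset.mem_erase]
    refine ⟨?_, ?_⟩
    · intro heq
      have h1 : i = P.reflectionPerm j j := by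
        have := congrArg (fun x => Equiv.reflection P j • x) heq
        simp only [← mul_smul, reflection_mul_self, one_smul] at this
        exact this
      have h := hi.1
      rw [h1, isPos_neg_iff] at h
      exact h (RootPairing.Base.isPos_of_mem_support hj)
    · simp only [hS, Finset.mem_filter, Finset.mem_univ, true_and]
      refine ⟨?_, ?_⟩
      · rw [reflection_smul_index]; exact hi.1.reflectionPerm hj hij
      · rw [← mul_smul]; exact hi.2
  have hcard : (S'.image (fun i => Equiv.reflection P j • i)).card = S'.card :=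
    Finset.card_image_of_injective _ (MulAction.injective _)
  have hj_mem : j ∈ S := by
    simp only [hS, Finset.mem_filter, Finset.mem_univ, true_and]
    exact ⟨RootPairing.Base.isPos_of_mem_support hj, hneg⟩
  calc S'.card = (S'.image _).card := hcard.symm
    _ ≤ (S.erase j).card := Finset.card_le_card hsub
    _ < S.card := Finset.card_erase_lt_of_mem hj_mem

lemma exists_pos_preserving (b b' : P.Base) :
    ∃ g ∈ P.weylGroup, ∀ i, b.IsPos i → b'.IsPos (g • i) := by
  classical
  have : Fintype ι := Fintype.ofFinite ι
  suffices ∀ n, ∀ g ∈ P.weylGroup,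
      (Finset.univ.filter (fun i => b.IsPos i ∧ ¬ b'.IsPos (g • i))).card = n →
      ∃ g ∈ P.weylGroup, ∀ i, b.IsPos i → b'.IsPos (g • i) from this _ 1 (one_mem _) rfl
  intro n
  induction n using Nat.strong_induction_on with
  | _ n ih =>
    intro g hg hn
    by_cases hall : ∀ i, b.IsPos i → b'.IsPos (g • i)
    · exact ⟨g, hg, hall⟩
    · push Not at hall
      obtain ⟨i, hi, hneg⟩ := hall
      obtain ⟨j, hj, hjneg⟩ := exists_simple_neg b b' g hi hneg
      have hlt := card_lt b b' g j hj hjneg
      exact ih _ (hn ▸ hlt) (g * Equiv.reflection P j)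
        (mul_mem hg (P.reflection_mem_weylGroup j)) rfl

end

/-- For a finite crystallographic reduced root pairing (over a domain of characteristic zero), the Weyl
group acts freely and transitively on bases: for two bases b, b' there is exactly one element of the
Weyl group carrying the set of simple roots of b onto that of b'. -/
theorem result {ι R M N : Type*} [CommRing R] [CharZero R] [IsDomain R] [AddCommGroup M] [Module R M]
    [AddCommGroup N] [Module R N] (P : RootPairing ι R M N) [Finite ι] [P.IsCrystallographic] [P.IsReduced]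
    (b b' : P.Base) :
    ∃! g : P.weylGroup, (fun i : ι => (g : P.Aut) • i) '' (b.support : Set ι) = (b'.support : Set ι) := by
  obtain ⟨g, hg, hpos⟩ := exists_pos_preserving b b'
  have hpos' := isPos_inv_smul b b' g hpos
  refine ⟨⟨g, hg⟩, ?_, ?_⟩
  · show (fun i : ι => g • i) '' (b.support : Set ι) = (b'.support : Set ι)
    apply Set.Subset.antisymm
    · rintro _ ⟨i, hi, rfl⟩
      exact smul_mem_support b b' g hpos hi
    · intro k hk
      refine ⟨g⁻¹ • k, smul_mem_support b' b g⁻¹ hpos' hk, ?_⟩
      simp
  · rintro ⟨g₂, hg₂⟩ h2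
    have h1 : (fun i : ι => g • i) '' (b.support : Set ι) = (b'.support : Set ι) := by
      apply Set.Subset.antisymm
      · rintro _ ⟨i, hi, rfl⟩
        exact smul_mem_support b b' g hpos hi
      · intro k hk
        refine ⟨g⁻¹ • k, smul_mem_support b' b g⁻¹ hpos' hk, ?_⟩
        simp
    change (fun i : ι => g₂ • i) '' (b.support : Set ι) = (b'.support : Set ι) at h2
    -- h := g⁻¹ * g₂ preserves b.support
    have hsupp : ∀ i ∈ b.support, (g⁻¹ * g₂) • i ∈ b.support := by
      intro i hi
      have : g₂ • i ∈ (b'.support : Set ι) := by rw [← h2]; exact ⟨i, hi, rfl⟩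
      rw [← h1] at this
      obtain ⟨i', hi', heq⟩ := this
      have : (g⁻¹ * g₂) • i = i' := by
        rw [mul_smul, ← heq]; simp
      rw [this]; exact hi'
    have hp : ∀ i, b.IsPos i → b.IsPos ((g⁻¹ * g₂) • i) := by
      intro i hi
      refine hi.induction_on_add (p := fun k => b.IsPos ((g⁻¹ * g₂) • k))
        (fun j hj => RootPairing.Base.isPos_of_mem_support (hsupp j hj)) ?_
      intro i j k hk hpi hj
      exact hpi.add (RootPairing.Base.isPos_of_mem_support (hsupp j hj)) (root_smul_add _ hk)
    have hone := Groth.Agent.S2953.result P b (g⁻¹ * g₂) (mul_mem (inv_mem hg) hg₂) hp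
    apply Subtype.ext
    show g₂ = g
    exact (inv_mul_eq_one.mp hone).symm

end Groth.Agent.S2954
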