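import Groth.Statements.S2955
-- import your own Groth.Agent.* helpers here

set_option autoImplicit false
open RootPairing
open scoped Pointwise Classical
universe u
open RootD

namespace Groth.Agent.S2955

/-- Let P be a finite crystallographic reduced root pairing over a domain of characteristic zero, with a
base b, and write 2ρ for the sum of the positive roots with respect to b. Then for every simple root
β (an index in the support of b) the reflection in β sends 2ρ to 2ρ − 2β (equivalently, the coroot
of β pairs to 1 with ρ; only the reflection identity is asserted). -/
theorem result {ι R M N : Type*} [CommRing R] [CharZero R] [IsDomain R] [AddCommGroup M] [Module R M]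
    [AddCommGroup N] [Module R N] (P : RootPairing ι R M N) [Finite ι] [P.IsCrystallographic] [P.IsReduced]
    [Fintype ι] (b : P.Base) (j : ι) (hj : j ∈ b.support) :
    P.reflection j (∑ i, if b.IsPos i then P.root i else 0) =
      (∑ i, if b.IsPos i then P.root i else 0) - (2 : R) • P.root j := by
  classical
  set σ := P.reflectionPerm j with hσ
  have hnegj : ¬ b.IsPos (σ j) := by
    rw [RootPairing.Base.isPos_iff]
    have h1 : b.height (σ j) = - b.height j := by
      let := P.indexNeg
      exact b.height_reflectionPerm_self j
    rw [h1, RootPairing.Base.height_one_of_mem_support hj]; norm_num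
  have hposj : b.IsPos j := RootPairing.Base.isPos_of_mem_support hj
  have hfwd : ∀ i, b.IsPos i → i ≠ j → b.IsPos (σ i) ∧ σ i ≠ j := by
    intro i hi hij
    refine ⟨hi.reflectionPerm hj hij, ?_⟩
    intro h
    have : i = σ j := by rw [← h, P.reflectionPerm_self]
    exact hnegj (this ▸ hi)
  have hS : (∑ i, if b.IsPos i then P.root i else 0) =
      ∑ i ∈ Finset.univ.filter (fun i => b.IsPos i), P.root i := by
    rw [Finset.sum_filter]
  rw [hS]
  have hins : Finset.univ.filter (fun i => b.IsPos i) =
      insert j ((Finset.univ.filter (fun i => b.IsPos i)).erase j) := by
    rw [Finset.insert_erase]; simp [hposj]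
  rw [hins, Finset.sum_insert (Finset.notMem_erase _ _), map_add, map_sum]
  have hperm : ∑ i ∈ (Finset.univ.filter (fun i => b.IsPos i)).erase j, P.reflection j (P.root i)
      = ∑ i ∈ (Finset.univ.filter (fun i => b.IsPos i)).erase j, P.root i := by
    apply Finset.sum_equiv σ
    · intro i
      simp only [Finset.mem_erase, Finset.mem_filter, Finset.mem_univ, true_and, ne_eq]
      constructor
      · rintro ⟨hij, hi⟩
        have := hfwd i hi hij
        exact ⟨this.2, this.1⟩
      · rintro ⟨hij, hi⟩
        have := hfwd (σ i) hi hij
        rw [P.reflectionPerm_self] at this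
        exact ⟨this.2, this.1⟩
    · intro i _
      rw [P.root_reflectionPerm]
  rw [hperm, P.reflection_apply_self]
  module

end Groth.Agent.S2955
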