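import Groth.Statements.S2957
import Groth.Agent.Lib.Helper15.Weyl
import Groth.Agent.S2952

set_option autoImplicit false
open RootPairing
open scoped Pointwise
universe u
open RootD

namespace Groth.Agent.S2957


open Groth.Agent.Lib.Helper15

set_option linter.unusedSectionVars false

section
variable {ι R M N : Type*} [CommRing R] [CharZero R] [IsDomain R] [AddCommGroup M] [Module R M]
    [AddCommGroup N] [Module R N] {P : RootPairing ι R M N} [Finite ι] [P.IsCrystallographic]
    [P.IsReduced] (b : P.Base)

/-- uniqueness of integer coefficients with respect to a base -/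
lemma coeff_unique {x : M} {f g : ι → ℤ} (hf : x = ∑ j ∈ b.support, f j • P.root j)
    (hg : x = ∑ j ∈ b.support, g j • P.root j) : ∀ j ∈ b.support, f j = g j := by
  intro j hj
  rw [hf, b.support.sum_subtype (p := (· ∈ b.support)) (by simp) (F := inferInstance),
    b.support.sum_subtype (p := (· ∈ b.support)) (by simp) (F := inferInstance)] at hg
  have aux (j : b.support) := Fintype.linearIndependent_iffₛ.mp
      (b.linearIndepOn_root.restrict_scalars' ℤ) (f ∘ (↑))
      (g ∘ (↑)) (by simpa using hg) j
  simpa using! aux ⟨j, hj⟩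

/-- a root which is an integer combination of two distinct simple roots: the combination as a sum -/
lemma pair_eq_sum [DecidableEq ι] {α γ : ι} (hα : α ∈ b.support) (hγ : γ ∈ b.support) (_hne : α ≠ γ)
    (p q : ℤ) :
    p • P.root α + q • P.root γ =
      ∑ j ∈ b.support, (Pi.single α p + Pi.single γ q : ι → ℤ) j • P.root j := by
  simp only [Pi.add_apply, add_smul, Finset.sum_add_distrib]
  rw [Finset.sum_eq_single_of_mem α hα (by intro j _ hj; simp [hj]),
    Finset.sum_eq_single_of_mem γ hγ (by intro j _ hj; simp [hj])]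
  simp

lemma height_pair {α γ k : ι} (hα : α ∈ b.support) (hγ : γ ∈ b.support) (hne : α ≠ γ)
    (p q : ℤ) (hk : P.root k = p • P.root α + q • P.root γ) :
    b.height k = p + q ∧ ((0 ≤ p ∧ 0 ≤ q) ∨ (p ≤ 0 ∧ q ≤ 0)) := by
  classical
  rw [pair_eq_sum b hα hγ hne] at hk
  refine ⟨?_, ?_⟩
  · rw [RootPairing.Base.height_eq_sum hk]
    simp only [Pi.add_apply, Finset.sum_add_distrib]
    rw [Finset.sum_eq_single_of_mem α hα (by intro j _ hj; simp [hj]),
      Finset.sum_eq_single_of_mem γ hγ (by intro j _ hj; simp [hj])]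
    simp
  · obtain ⟨f, hf₀, hf₁, hf₂⟩ := b.exists_root_eq_sum_int k
    have hu := coeff_unique b hf₂ hk
    have hpa : f α = p := by rw [hu α hα]; simp [hne]
    have hqa : f γ = q := by rw [hu γ hγ]; simp [hne.symm]
    rcases hf₁ with pos | neg
    · left; rw [← hpa, ← hqa]; exact ⟨pos.le α, pos.le γ⟩
    · right; rw [← hpa, ← hqa]; exact ⟨neg.le α, neg.le γ⟩

/-- height is ℤ-linear: two-term version -/
lemma height_zsmul_add_zsmul {i j k : ι} (p q : ℤ)
    (hk : P.root k = p • P.root i + q • P.root j) :
    b.height k = p * b.height i + q * b.height j := by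
  obtain ⟨f, -, -, hf⟩ := b.exists_root_eq_sum_int i
  obtain ⟨g, -, -, hg⟩ := b.exists_root_eq_sum_int j
  have hfg : P.root k = ∑ l ∈ b.support, (p • f + q • g) l • P.root l := by
    simp_rw [Pi.add_apply, Pi.smul_apply, add_smul, smul_assoc, Finset.sum_add_distrib,
      ← Finset.smul_sum, ← hf, ← hg, hk]
  simp_rw [RootPairing.Base.height_eq_sum hf, RootPairing.Base.height_eq_sum hg,
    RootPairing.Base.height_eq_sum hfg, Pi.add_apply, Pi.smul_apply,
    Finset.sum_add_distrib, smul_eq_mul, Finset.mul_sum]

end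


section
variable {ι R M N : Type*} [CommRing R] [CharZero R] [IsDomain R] [AddCommGroup M] [Module R M]
    [AddCommGroup N] [Module R N] {P : RootPairing ι R M N} [Finite ι] [P.IsCrystallographic]
    [P.IsReduced] (b : P.Base)

/-- the integer span of two roots is stable under the reflections in them -/
lemma refl_mem_span (α γ δ : ι) (hδ : δ = α ∨ δ = γ) (x : M)
    (hx : x ∈ Submodule.span ℤ ({P.root α, P.root γ} : Set M)) :
    Equiv.reflection P δ • x ∈ Submodule.span ℤ ({P.root α, P.root γ} : Set M) := by
  have hδmem : P.root δ ∈ Submodule.span ℤ ({P.root α, P.root γ} : Set M) := by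
    rcases hδ with rfl | rfl
    · exact Submodule.subset_span (by simp)
    · exact Submodule.subset_span (by simp)
  refine Submodule.span_induction (p := fun x _ => Equiv.reflection P δ • x ∈
    Submodule.span ℤ ({P.root α, P.root γ} : Set M)) ?_ ?_ ?_ ?_ hx
  · intro y hy
    have hy' : y = P.root α ∨ y = P.root γ := by simpa using hy
    have key : ∀ j : ι, j = α ∨ j = γ → Equiv.reflection P δ • P.root j ∈
        Submodule.span ℤ ({P.root α, P.root γ} : Set M) := by
      intro j hj
      rw [Equiv.reflection_smul, P.reflection_apply_root' ℤ]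
      refine sub_mem ?_ (Submodule.smul_mem _ _ hδmem)
      rcases hj with rfl | rfl
      · exact Submodule.subset_span (by simp)
      · exact Submodule.subset_span (by simp)
    rcases hy' with rfl | rfl
    · exact key α (Or.inl rfl)
    · exact key γ (Or.inr rfl)
  · simp
  · intro x y _ _ hx hy
    rw [smul_add]; exact add_mem hx hy
  · intro n x _ hx
    rw [smul_comm]; exact Submodule.smul_mem _ _ hx

lemma closure_mem_span (α γ : ι) (h : P.Aut)
    (hh : h ∈ Subgroup.closure ({Equiv.reflection P α, Equiv.reflection P γ} : Set P.Aut)) :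
    ∀ x ∈ Submodule.span ℤ ({P.root α, P.root γ} : Set M),
      h • x ∈ Submodule.span ℤ ({P.root α, P.root γ} : Set M) := by
  suffices hs : (∀ x ∈ Submodule.span ℤ ({P.root α, P.root γ} : Set M),
      h • x ∈ Submodule.span ℤ ({P.root α, P.root γ} : Set M)) ∧
      (∀ x ∈ Submodule.span ℤ ({P.root α, P.root γ} : Set M),
      h⁻¹ • x ∈ Submodule.span ℤ ({P.root α, P.root γ} : Set M)) from hs.1
  refine Subgroup.closure_induction (p := fun h _ => (∀ x ∈ Submodule.span ℤ
    ({P.root α, P.root γ} : Set M), h • x ∈ Submodule.span ℤ ({P.root α, P.root γ} : Set M)) ∧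
    (∀ x ∈ Submodule.span ℤ
    ({P.root α, P.root γ} : Set M), h⁻¹ • x ∈ Submodule.span ℤ ({P.root α, P.root γ} : Set M)))
    ?_ ?_ ?_ ?_ hh
  · intro g hg
    have hg' : g = Equiv.reflection P α ∨ g = Equiv.reflection P γ := by simpa using hg
    rcases hg' with rfl | rfl
    · rw [Equiv.reflection_inv]
      exact ⟨fun x hx => refl_mem_span α γ α (Or.inl rfl) x hx,
        fun x hx => refl_mem_span α γ α (Or.inl rfl) x hx⟩
    · rw [Equiv.reflection_inv]
      exact ⟨fun x hx => refl_mem_span α γ γ (Or.inr rfl) x hx,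
        fun x hx => refl_mem_span α γ γ (Or.inr rfl) x hx⟩
  · exact ⟨fun x hx => by simpa using hx, fun x hx => by simpa using hx⟩
  · intro g₁ g₂ _ _ h1 h2
    refine ⟨fun x hx => ?_, fun x hx => ?_⟩
    · rw [mul_smul]; exact h1.1 _ (h2.1 x hx)
    · rw [mul_inv_rev, mul_smul]; exact h2.2 _ (h1.2 x hx)
  · intro g _ hg
    exact ⟨hg.2, by simpa using hg.1⟩

end


section
variable {ι R M N : Type*} [CommRing R] [CharZero R] [IsDomain R] [AddCommGroup M] [Module R M]
    [AddCommGroup N] [Module R N] {P : RootPairing ι R M N} [Finite ι] [P.IsCrystallographic]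
    [P.IsReduced] (b : P.Base)

lemma rank2 {α γ β : ι} (hα : α ∈ b.support) (hγ : γ ∈ b.support) (hβ : β ∈ b.support)
    (hne : α ≠ γ) (w' h : P.Aut)
    (hh : h ∈ Subgroup.closure ({Equiv.reflection P α, Equiv.reflection P γ} : Set P.Aut))
    (hposα : b.IsPos (w' • α)) (hposγ : b.IsPos (w' • γ)) (hβ' : (w' * h) • α = β) :
    h • α = α ∨ h • α = γ := by
  have hmem : h • P.root α ∈ Submodule.span ℤ ({P.root α, P.root γ} : Set M) :=
    closure_mem_span α γ h hh _ (Submodule.subset_span (by simp))
  obtain ⟨p, q, hpq⟩ := Submodule.mem_span_pair.mp hmem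
  have hδ : P.root (h • α) = p • P.root α + q • P.root γ := by rw [root_smul_index, ← hpq]
  obtain ⟨-, hsign⟩ := height_pair b hα hγ hne p q hδ
  have hβroot : P.root β = p • P.root (w' • α) + q • P.root (w' • γ) := by
    rw [← hβ', mul_smul, root_smul_index, hδ, smul_add, smul_comm w' p, smul_comm w' q,
      ← root_smul_index, ← root_smul_index]
  have hh1 := height_zsmul_add_zsmul b p q hβroot
  rw [RootPairing.Base.height_one_of_mem_support hβ] at hh1
  rw [RootPairing.Base.isPos_iff] at hposα hposγ
  have key : (p = 1 ∧ q = 0) ∨ (p = 0 ∧ q = 1) := by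
    rcases hsign with ⟨hp, hq⟩ | ⟨hp, hq⟩
    · rcases hp.eq_or_lt with hp0 | hp1
      · right
        refine ⟨hp0.symm, ?_⟩
        rw [← hp0, zero_mul, zero_add] at hh1
        have hq1 : 0 < q := by
          rcases hq.eq_or_lt with h0 | h0
          · rw [← h0] at hh1; simp at hh1
          · exact h0
        nlinarith
      · rcases hq.eq_or_lt with hq0 | hq1
        · left
          refine ⟨?_, hq0.symm⟩
          rw [← hq0, zero_mul, add_zero] at hh1
          nlinarith
        · exfalso
          nlinarith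
    · exfalso
      nlinarith
  rcases key with ⟨rfl, rfl⟩ | ⟨rfl, rfl⟩
  · left
    apply P.root.injective
    rw [hδ]; simp
  · right
    apply P.root.injective
    rw [hδ]; simp

end


section
variable {ι R M N : Type*} [CommRing R] [CharZero R] [IsDomain R] [AddCommGroup M] [Module R M]
    [AddCommGroup N] [Module R N] {P : RootPairing ι R M N} [Finite ι] [P.IsCrystallographic]
    [P.IsReduced] (b : P.Base)

lemma root_smul_add' (g : P.Aut) {i j k : ι} (h : P.root k = P.root i + P.root j) :
    P.root (g • k) = P.root (g • i) + P.root (g • j) := by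
  rw [root_smul_index, root_smul_index, root_smul_index, h, smul_add]

/-- a word that maps all simple roots to positive roots is trivial -/
lemma wList_eq_one_of_simple_pos (l : List ι) (hl : ∀ i ∈ l, i ∈ b.support)
    (h : ∀ γ ∈ b.support, b.IsPos (wList P l • γ)) : wList P l = 1 := by
  apply wList_eq_one_of_isPos b l.length l rfl hl
  intro i hi
  refine hi.induction_on_add (p := fun k => b.IsPos (wList P l • k)) h ?_
  intro i j k hk hpi hj
  exact hpi.add (h j hj) (root_smul_add' _ hk)

/-- minimal coset representatives for a rank two parabolic subgroup -/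
lemma exists_coset_min (α γ : ι) (hα : α ∈ b.support) (hγ : γ ∈ b.support) (n : ℕ) :
    ∀ l : List ι, l.length = n → (∀ i ∈ l, i ∈ b.support) →
      ∃ (l' : List ι) (h : P.Aut), (∀ i ∈ l', i ∈ b.support) ∧
        h ∈ Subgroup.closure ({Equiv.reflection P α, Equiv.reflection P γ} : Set P.Aut) ∧
        wList P l = wList P l' * h ∧ l'.length ≤ n ∧
        b.IsPos (wList P l' • α) ∧ b.IsPos (wList P l' • γ) ∧
        (¬ b.IsPos (wList P l • γ) → l'.length < n) := by
  induction n with
  | zero =>
    intro l hn hl
    have : l = [] := List.length_eq_zero_iff.mp hn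
    subst this
    refine ⟨[], 1, by simp, one_mem _, by simp, le_rfl, ?_, ?_, ?_⟩
    · simpa using RootPairing.Base.isPos_of_mem_support hα
    · simpa using RootPairing.Base.isPos_of_mem_support hγ
    · intro hneg
      exact absurd (by simpa using RootPairing.Base.isPos_of_mem_support hγ) hneg
  | succ n ih =>
    intro l hn hl
    have step : ∀ δ : ι, δ ∈ b.support → (δ = α ∨ δ = γ) → ¬ b.IsPos (wList P l • δ) →
        ∃ (l' : List ι) (h : P.Aut), (∀ i ∈ l', i ∈ b.support) ∧
        h ∈ Subgroup.closure ({Equiv.reflection P α, Equiv.reflection P γ} : Set P.Aut) ∧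
        wList P l = wList P l' * h ∧ l'.length ≤ n + 1 ∧
        b.IsPos (wList P l' • α) ∧ b.IsPos (wList P l' • γ) ∧
        (¬ b.IsPos (wList P l • γ) → l'.length < n + 1) := by
      intro δ hδ hδ' hneg
      obtain ⟨l₁, hl₁, hlen₁, heq₁⟩ := exists_shorter_of_not_isPos b l hl δ hδ hneg
      have hlen₁' : l₁.length = n := by omega
      obtain ⟨l', h₁, hl', hh₁, heq, hle, hpα, hpγ, -⟩ := ih l₁ hlen₁' hl₁
      have hsδ : Equiv.reflection P δ ∈
          Subgroup.closure ({Equiv.reflection P α, Equiv.reflection P γ} : Set P.Aut) := by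
        apply Subgroup.subset_closure
        rcases hδ' with rfl | rfl <;> simp
      refine ⟨l', h₁ * Equiv.reflection P δ, hl', mul_mem hh₁ hsδ, ?_, by omega, hpα, hpγ,
        fun _ => by omega⟩
      rw [← mul_assoc, ← heq, heq₁, mul_assoc, reflection_mul_self, mul_one]
    by_cases hγpos : b.IsPos (wList P l • γ)
    · by_cases hαpos : b.IsPos (wList P l • α)
      · exact ⟨l, 1, hl, one_mem _, by simp, by omega, hαpos, hγpos, fun h => absurd hγpos h⟩
      · exact step α hα (Or.inl rfl) hαpos
    · exact step γ hγ (Or.inr rfl) hγpos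

end


section
variable {ι R M N : Type*} [CommRing R] [CharZero R] [IsDomain R] [AddCommGroup M] [Module R M]
    [AddCommGroup N] [Module R N] {P : RootPairing ι R M N} [Finite ι] [P.IsCrystallographic]
    [P.IsReduced]

/-- Tits chains -/
inductive Chain (b : P.Base) : P.Aut → ι → ι → Prop
  | nil (α : ι) (hα : α ∈ b.support) : Chain b 1 α α
  | cons (w' w₀ : P.Aut) (α α₁ β γ : ι) (hα : α ∈ b.support) (hγ : γ ∈ b.support)
      (hw₀ : w₀ ∈ Subgroup.closure ({Equiv.reflection P α, Equiv.reflection P γ} : Set P.Aut))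
      (h₁ : w₀ • α = α₁) (hne : α ≠ α₁ → γ = α₁) (hc : Chain b w' α₁ β) :
      Chain b (w' * w₀) α β

lemma closure_pair_le (α γ : ι) :
    Subgroup.closure ({Equiv.reflection P α, Equiv.reflection P γ} : Set P.Aut) ≤ P.weylGroup := by
  rw [Subgroup.closure_le]
  intro g hg
  have hg' : g = Equiv.reflection P α ∨ g = Equiv.reflection P γ := by simpa using hg
  rcases hg' with rfl | rfl
  · exact P.reflection_mem_weylGroup _
  · exact P.reflection_mem_weylGroup _

lemma main_chain (b : P.Base) (n : ℕ) : ∀ (l : List ι), l.length = n → (∀ i ∈ l, i ∈ b.support) →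
    ∀ α β : ι, α ∈ b.support → β ∈ b.support → wList P l • α = β → Chain b (wList P l) α β := by
  induction n using Nat.strong_induction_on with
  | _ n ih =>
    intro l hn hl α β hα hβ hw
    by_cases hall : ∀ γ ∈ b.support, b.IsPos (wList P l • γ)
    · have h1 := wList_eq_one_of_simple_pos b l hl hall
      rw [h1, one_smul] at hw
      rw [h1, ← hw]
      exact Chain.nil α hα
    · push Not at hall
      obtain ⟨γ, hγ, hneg⟩ := hall
      have hne : α ≠ γ := by
        rintro rfl
        apply hneg
        rw [hw]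
        exact RootPairing.Base.isPos_of_mem_support hβ
      obtain ⟨l', h, hl', hh, heq, -, hpα, hpγ, hlt⟩ := exists_coset_min b α γ hα hγ n l hn hl
      have hlt' := hlt hneg
      have hβ' : (wList P l' * h) • α = β := by rw [← heq]; exact hw
      have hα₁ := rank2 b hα hγ hβ hne (wList P l') h hh hpα hpγ hβ'
      have hα₁mem : h • α ∈ b.support := by
        rcases hα₁ with h1 | h1 <;> rw [h1] <;> assumption
      have hc := ih l'.length hlt' l' rfl hl' (h • α) β hα₁mem hβ (by rw [← mul_smul]; exact hβ')
      rw [heq]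
      refine Chain.cons (wList P l') h α (h • α) β γ hα hγ hh rfl ?_ hc
      intro hne'
      rcases hα₁ with h1 | h1
      · exact absurd h1.symm hne'
      · exact h1.symm

end


section
variable {ι R M N : Type*} [CommRing R] [CharZero R] [IsDomain R] [AddCommGroup M] [Module R M]
    [AddCommGroup N] [Module R N] {P : RootPairing ι R M N} [Finite ι] [P.IsCrystallographic]
    [P.IsReduced]

lemma chain_concl (b : P.Base) (w : P.Aut) (α β : ι) (hc : Chain b w α β) :
    ∃ (m : ℕ) (a : Fin (m + 1) → ι) (ws : Fin m → P.Aut),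
      (∀ i, a i ∈ b.support) ∧ a 0 = α ∧ a (Fin.last m) = β ∧
      (∀ i, ws i ∈ P.weylGroup) ∧
      w = (List.ofFn fun i : Fin m => ws (Fin.rev i)).prod ∧
      (∀ i : Fin m, ws i • a (Fin.castSucc i) = a (Fin.succ i)) ∧
      ∀ i : Fin m, ∃ γ ∈ b.support,
        ws i ∈ Subgroup.closure {Equiv.reflection P (a (Fin.castSucc i)), Equiv.reflection P γ} ∧
        (a (Fin.castSucc i) ≠ a (Fin.succ i) → γ = a (Fin.succ i)) := by
  induction hc with
  | nil α hα =>
    refine ⟨0, fun _ => α, Fin.elim0, fun _ => hα, rfl, rfl, fun i => i.elim0, by simp,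
      fun i => i.elim0, fun i => i.elim0⟩
  | cons w' w₀ α α₁ β γ hα hγ hw₀ h₁ hne hc ih =>
    obtain ⟨m, a, ws, ha, ha0, halast, hws, hprod, hstep, hgam⟩ := ih
    refine ⟨m + 1, Fin.cons α a, Fin.cons w₀ ws, ?_, ?_, ?_, ?_, ?_, ?_, ?_⟩
    · intro i
      refine Fin.cases ?_ (fun j => ?_) i
      · simpa using hα
      · simpa using ha j
    · simp
    · rw [show Fin.last (m + 1) = Fin.succ (Fin.last m) from rfl, Fin.cons_succ]
      exact halast
    · intro i
      refine Fin.cases ?_ (fun j => ?_) i
      · simpa using closure_pair_le α γ hw₀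
      · simpa using hws j
    · rw [List.ofFn_succ', List.concat_eq_append, List.prod_append, List.prod_singleton]
      congr 1
      · rw [hprod]
        congr 1
        apply List.ofFn_inj.mpr
        funext i
        rw [Fin.rev_castSucc, Fin.cons_succ]
      · rw [Fin.rev_last, Fin.cons_zero]
    · intro i
      refine Fin.cases ?_ (fun j => ?_) i
      · rw [Fin.cons_zero, Fin.castSucc_zero, Fin.cons_zero, Fin.cons_succ, ha0]
        exact h₁
      · rw [Fin.cons_succ, ← Fin.succ_castSucc, Fin.cons_succ, Fin.cons_succ]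
        exact hstep j
    · intro i
      refine Fin.cases ?_ (fun j => ?_) i
      · refine ⟨γ, hγ, ?_, ?_⟩
        · rw [Fin.cons_zero, Fin.castSucc_zero, Fin.cons_zero]
          exact hw₀
        · rw [Fin.castSucc_zero, Fin.cons_zero, Fin.cons_succ, ha0]
          exact hne
      · obtain ⟨γ', hγ', h1, h2⟩ := hgam j
        refine ⟨γ', hγ', ?_, ?_⟩
        · rw [Fin.cons_succ, ← Fin.succ_castSucc, Fin.cons_succ]
          exact h1
        · rw [← Fin.succ_castSucc, Fin.cons_succ, Fin.cons_succ]
          exact h2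

end

/-- For a finite crystallographic reduced root pairing with a base b: let α, β be simple roots and w an
element of the Weyl group with w(α) = β. Then there are simple roots α = α_0, ..., α_m = β and Weyl
group elements w_0, ..., w_{m-1} with w = w_{m-1} ... w_0, w_i(α_i) = α_{i+1}, and each w_i lying in
the subgroup generated by the reflections in α_i and in a simple root γ_i, where γ_i = α_{i+1}
whenever α_i ≠ α_{i+1}. -/
theorem result {ι R M N : Type*} [CommRing R] [CharZero R] [IsDomain R] [AddCommGroup M] [Module R M]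
    [AddCommGroup N] [Module R N] (P : RootPairing ι R M N) [Finite ι] [P.IsCrystallographic] [P.IsReduced]
    (b : P.Base) (α β : ι) (hα : α ∈ b.support) (hβ : β ∈ b.support) (w : P.Aut) (hw : w ∈ P.weylGroup)
    (hwα : w • α = β) :
    ∃ (m : ℕ) (a : Fin (m + 1) → ι) (ws : Fin m → P.Aut),
      (∀ i, a i ∈ b.support) ∧ a 0 = α ∧ a (Fin.last m) = β ∧
      (∀ i, ws i ∈ P.weylGroup) ∧
      w = (List.ofFn fun i : Fin m => ws (Fin.rev i)).prod ∧
      (∀ i : Fin m, ws i • a (Fin.castSucc i) = a (Fin.succ i)) ∧
      ∀ i : Fin m, ∃ γ ∈ b.support,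
        ws i ∈ Subgroup.closure {Equiv.reflection P (a (Fin.castSucc i)), Equiv.reflection P γ} ∧
        (a (Fin.castSucc i) ≠ a (Fin.succ i) → γ = a (Fin.succ i)) := by
  classical
  have h1 : w ∈ Subgroup.closure ((fun i : ι => Equiv.reflection P i) '' (b.support : Set ι)) := by
    rw [(Groth.Agent.S2952.result P b).1]; exact hw
  obtain ⟨l, hl, rfl⟩ := Groth.Agent.Lib.Helper15.exists_wList_of_mem_closure P _ h1
  exact chain_concl b _ α β (main_chain b l.length l rfl (fun i hi => by simpa using hl i hi)
    α β hα hβ hwα)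

end Groth.Agent.S2957
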