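import Groth.Statements.S2964
import Groth.Agent.Lib.Helper84.EngelRing.NilpFibre2
import Groth.Agent.Lib.Helper84.EngelRing.EngelFG
-- import your own Groth.Agent.* helpers here

set_option autoImplicit false
universe u
open scoped TensorProduct
open SGA3t2b

namespace Groth.Agent.S2964

/-- (i) ⇒ (iii): let d be a Lie algebra over a commutative ring A which is finitely presented as an
A-module. If for every prime p of A the fibre Lie algebra κ(p) ⊗_A d is nilpotent, then d is
nilpotent (its lower central series vanishes, i.e. there is N with ad(x_1) ⋯ ad(x_N) = 0 for all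
x_i); and the same conclusion holds if ad(x) is nilpotent for every x in d. -/
theorem result {A : Type u} [CommRing A] {L : Type u} [LieRing L] [LieAlgebra A L]
    [Module.FinitePresentation A L] :
    ((∀ p : PrimeSpectrum A, LieRing.IsNilpotent (p.asIdeal.ResidueField ⊗[A] L)) → LieRing.IsNilpotent L) ∧
    ((∀ x : L, IsNilpotent (LieAlgebra.ad A L x)) → LieRing.IsNilpotent L) := by
  have part2 : (∀ x : L, IsNilpotent (LieAlgebra.ad A L x)) → LieRing.IsNilpotent L :=
    Groth.Agent.Lib.Helper84.EngelRing.isNilpotent_of_forall_isNilpotent_ad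
  refine ⟨fun h => part2 fun x => ?_, part2⟩
  apply Groth.Agent.Lib.Helper84.EngelRing.isNilpotent_of_forall_baseChange
  intro p
  have := h p
  have hnil := LieModule.isNilpotent_toEnd_of_isNilpotent p.asIdeal.ResidueField
    (p.asIdeal.ResidueField ⊗[A] L) (p.asIdeal.ResidueField ⊗[A] L)
    ((1 : p.asIdeal.ResidueField) ⊗ₜ[A] x)
  have e : (LieAlgebra.ad A L x).baseChange p.asIdeal.ResidueField =
      LieModule.toEnd p.asIdeal.ResidueField (p.asIdeal.ResidueField ⊗[A] L)
        (p.asIdeal.ResidueField ⊗[A] L) ((1 : p.asIdeal.ResidueField) ⊗ₜ[A] x) := by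
    apply LinearMap.ext
    intro z
    induction z using TensorProduct.induction_on with
    | zero => simp
    | tmul c y =>
      rw [LinearMap.baseChange_tmul, LieModule.toEnd_apply_apply,
        LieAlgebra.ExtendScalars.bracket_tmul, one_mul]
      rfl
    | add a b ha hb => rw [map_add, map_add, ha, hb]
  rw [e]
  exact hnil

end Groth.Agent.S2964
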