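import Groth.Statements.S2965
-- import your own Groth.Agent.* helpers here

set_option autoImplicit false
universe u
open SGA3t2b

namespace Groth.Agent.S2965

open Polynomial in
/-- Implication (iv) ⇒ (i) (global form, finite free module): let u be an endomorphism of a finite free
module M over a commutative ring A whose characteristic polynomial is X^r · Q with Q(0) invertible.
Then M is the direct sum of two u-stable submodules M', M'' such that u is nilpotent on M' and
bijective on M''. -/
theorem result {A : Type u} [CommRing A] {M : Type u} [AddCommGroup M] [Module A M]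
    [Module.Free A M] [Module.Finite A M] (u : M →ₗ[A] M) (r : ℕ) (Q : A[X]) (hQ : IsUnit (Q.coeff 0))
    (h : u.charpoly = X ^ r * Q) :
    ∃ M' M'' : Submodule A M, IsCompl M' M'' ∧ (∀ x ∈ M', u x ∈ M') ∧ (∀ x ∈ M'', u x ∈ M'') ∧
      (∃ n : ℕ, ∀ x ∈ M', (u ^ n) x = 0) ∧ Set.BijOn u M'' M'' := by
  classical
  -- Bezout identity between X and Q
  obtain ⟨v, hv⟩ := hQ.exists_left_inv
  have hXQ : IsCoprime (X : A[X]) Q := by
    refine ⟨-(C v * Q.divX), C v, ?_⟩
    have h1 := Polynomial.X_mul_divX_add Q
    have h2 : C v * C (Q.coeff 0) = (1 : A[X]) := by rw [← C_mul, hv, C_1]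
    calc -(C v * Q.divX) * X + C v * Q
        = -(C v * Q.divX) * X + C v * (X * Q.divX + C (Q.coeff 0)) := by rw [h1]
      _ = C v * C (Q.coeff 0) := by ring
      _ = 1 := h2
  have hcop : IsCoprime ((X : A[X]) ^ r) Q := hXQ.pow_left
  obtain ⟨S, T, hST⟩ := hXQ
  -- consequences in End
  have hCH : aeval u (X ^ r * Q) = 0 := by rw [← h]; exact LinearMap.aeval_self_charpoly u
  have hid : ∀ z : M, aeval u Q z = 0 → u (aeval u S z) = z ∧ aeval u S (u z) = z := by
    intro z hz
    have e1 : aeval u (X * S + T * Q) z = z := by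
      rw [mul_comm X S, hST]; simp
    have e2 : aeval u (S * X + T * Q) z = z := by
      rw [hST]; simp
    constructor
    · simpa [aeval_add, aeval_mul, hz] using e1
    · simpa [aeval_add, aeval_mul, hz] using e2
  have hcomm : ∀ (p : A[X]) (z : M), aeval u p (u z) = u (aeval u p z) := by
    intro p z
    have : aeval u (p * X) = aeval u (X * p) := by rw [mul_comm]
    have := congrArg (fun f : Module.End A M => f z) this
    simpa [aeval_mul] using this
  refine ⟨LinearMap.ker (aeval u ((X : A[X]) ^ r)), LinearMap.ker (aeval u Q), ?_, ?_, ?_, ?_, ?_⟩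
  · refine ⟨Polynomial.disjoint_ker_aeval_of_isCoprime u hcop, ?_⟩
    rw [codisjoint_iff, Polynomial.sup_ker_aeval_eq_ker_aeval_mul_of_coprime u hcop, hCH]
    exact LinearMap.ker_zero
  · intro x hx
    rw [LinearMap.mem_ker] at hx ⊢
    rw [hcomm, hx, map_zero]
  · intro x hx
    rw [LinearMap.mem_ker] at hx ⊢
    rw [hcomm, hx, map_zero]
  · refine ⟨r, fun x hx => ?_⟩
    rw [LinearMap.mem_ker] at hx
    simpa using hx
  · refine ⟨?_, ?_, ?_⟩
    · intro x hx
      simp only [SetLike.mem_coe, LinearMap.mem_ker] at hx ⊢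
      rw [hcomm, hx, map_zero]
    · intro x hx y hy hxy
      simp only [SetLike.mem_coe, LinearMap.mem_ker] at hx hy
      rw [← (hid x hx).2, ← (hid y hy).2, hxy]
    · intro z hz
      simp only [SetLike.mem_coe, LinearMap.mem_ker] at hz
      refine ⟨aeval u S z, ?_, (hid z hz).1⟩
      simp only [SetLike.mem_coe, LinearMap.mem_ker]
      have : aeval u (Q * S) = aeval u (S * Q) := by rw [mul_comm]
      have := congrArg (fun f : Module.End A M => f z) this
      simp only [aeval_mul, Module.End.mul_apply] at this
      rw [this, hz, map_zero]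

end Groth.Agent.S2965
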