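import Groth.Statements.S2966
import Groth.Agent.Lib.Helper84.MultUnipHom
import Groth.Agent.S7951
-- import your own Groth.Agent.* helpers here

set_option autoImplicit false
universe u
open scoped TensorProduct
open SGA3t2b

namespace Groth.Agent.S2966

/-- In Hopf-algebra form (with unipotent taken in the representation-theoretic sense: affine and every
non-zero finite-dimensional representation has a non-zero fixed vector): let k be a field, A_M the
coordinate Hopf algebra of an affine k-group M of finite type which is of multiplicative type in the
sense that it becomes diagonalisable over an algebraic closure of k, and A_U that of a unipotent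
affine k-group U of finite type. Then (i) every homomorphism M -> U and (ii) every homomorphism U ->
M is trivial: every bialgebra map A_U -> A_M, resp. A_M -> A_U, factors through the counit. -/
theorem result {k : Type u} [Field k] {AM AU : Type u} [CommRing AM] [CommRing AU]
    [HopfAlgebra k AM] [HopfAlgebra k AU] [Algebra.FiniteType k AM] [Algebra.FiniteType k AU]
    (hM : HopfRep.IsDiagonalizable (AlgebraicClosure k) (AlgebraicClosure k ⊗[k] AM)) (hU : HopfRep.IsUnipotent k AU) :
    (∀ φ : AU →ₐc[k] AM, SGA3t2b.IsTrivialBialgHom φ) ∧ (∀ ψ : AM →ₐc[k] AU, SGA3t2b.IsTrivialBialgHom ψ) := by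
  refine ⟨fun φ a => ?_, fun ψ m => ?_⟩
  · exact Groth.Agent.Lib.Helper84.MultUnipHom.trivial_of_unipotent_to_mult_field
      (K := AlgebraicClosure k) hM hU φ a
  · exact Groth.Agent.Lib.Helper84.MultUnipHom.trivial_of_mult_to_unipotent
      (K := AlgebraicClosure k) hM
      ((Groth.Agent.S7951.result k (AlgebraicClosure k) AU).1 hU) ψ m

end Groth.Agent.S2966
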