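import Groth.Statements.S2967
-- import your own Groth.Agent.* helpers here

set_option autoImplicit false
universe u
open SGA3t2b

namespace Groth.Agent.S2967

/-- A commutative p-Lie algebra over a field k of characteristic p is recorded as a k-vector space g
together with its p-th power map φ, which is additive and Frobenius-semilinear. Let g be
finite-dimensional and non-zero, and assume every element of g is killed by some iterate of φ (g is
unipotent). Then the k-subspace of g spanned by the image φ(g) is a proper subspace. -/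
theorem result {k : Type u} [Field k] (p : ℕ) [Fact p.Prime] [CharP k p]
    {V : Type u} [AddCommGroup V] [Module k V] [FiniteDimensional k V] [Nontrivial V]
    (φ : V →ₛₗ[frobenius k p] V) (hφ : ∀ x : V, ∃ n : ℕ, φ^[n] x = 0) :
    Submodule.span k (Set.range φ) ≠ ⊤ := by
  classical
  have hsmul : ∀ (n : ℕ) (a : k) (x : V), φ^[n] (a • x) = (a ^ (p ^ n)) • φ^[n] x := by
    intro n
    induction n with
    | zero => intro a x; simp
    | succ n ih =>
      intro a x
      rw [Function.iterate_succ_apply', Function.iterate_succ_apply', ih, φ.map_smulₛₗ,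
        frobenius_def, ← pow_mul, ← pow_succ]
  have hzero : ∀ n : ℕ, φ^[n] 0 = 0 := fun n => iterate_map_zero φ n
  have hadd : ∀ (n : ℕ) (x y : V), φ^[n] (x + y) = φ^[n] x + φ^[n] y :=
    fun n x y => iterate_map_add φ n x y
  let K : ℕ → Submodule k V := fun n =>
    { carrier := {x | φ^[n] x = 0}
      add_mem' := by
        intro x y hx hy
        simp only [Set.mem_ofPred_eq] at *
        rw [hadd, hx, hy, add_zero]
      zero_mem' := hzero n
      smul_mem' := by
        intro a x hx
        simp only [Set.mem_ofPred_eq] at *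
        rw [hsmul, hx, smul_zero] }
  have hKmem : ∀ n x, x ∈ K n ↔ φ^[n] x = 0 := fun n x => Iff.rfl
  have hKmono : Monotone K := by
    intro n m hnm x hx
    rw [hKmem] at hx ⊢
    obtain ⟨d, rfl⟩ := Nat.exists_eq_add_of_le hnm
    rw [add_comm, Function.iterate_add_apply, hx, hzero]
  -- some K N is everything
  have hN : ∃ N, K N = ⊤ := by
    obtain ⟨N, hN⟩ := monotone_stabilizes_iff_noetherian.mpr
      (inferInstance : IsNoetherian k V) ⟨K, hKmono⟩
    refine ⟨N, eq_top_iff.mpr fun x _ => ?_⟩
    obtain ⟨n, hn⟩ := hφ x
    have h1 : x ∈ K (max n N) := hKmono (le_max_left n N) ((hKmem n x).mpr hn)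
    have h2 : K N = K (max n N) := hN (max n N) (le_max_right n N)
    rw [h2]; exact h1
  have hfind := Nat.find_spec hN
  have hmin := fun m => Nat.find_min hN (m := m)
  set N := Nat.find hN with hNdef
  have hN0 : N ≠ 0 := by
    intro h0
    rw [h0] at hfind
    obtain ⟨x, hx⟩ := exists_ne (0 : V)
    have : x ∈ K 0 := by rw [hfind]; trivial
    exact hx this
  obtain ⟨N', hN'⟩ := Nat.exists_eq_succ_of_ne_zero hN0
  have hlt : K N' ≠ ⊤ := hmin N' (by omega)
  intro htop
  apply hlt
  rw [eq_top_iff, ← htop, Submodule.span_le]
  rintro _ ⟨x, rfl⟩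
  change φ^[N'] (φ x) = 0
  rw [← Function.iterate_succ_apply, ← hN']
  have : x ∈ K N := by rw [hfind]; trivial
  exact this

end Groth.Agent.S2967
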