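import Groth.Statements.S2969
import Groth.Agent.H40.SepSplit4

set_option autoImplicit false
universe u
open TensorProduct SGA3b
open SGA3b

namespace Groth.Agent.S2969

/-- Let k be a field and H = Spec A a k-group of multiplicative type and of finite type. Then H is
isotrivial: there is a finite separable extension k' of k over which H becomes diagonalisable (of
finite type). (Affine group schemes over an affine base are taken in Hopf-algebra form; base change
is the tensor product.) -/
theorem result (k : Type u) [Field k] (A : Type u) [CommRing A] [HopfAlgebra k A]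
    (hft : Algebra.FiniteType k A) (h : IsMultType k A) :
    ∃ (k' : Type u) (_ : Field k') (_ : Algebra k k'), Module.Finite k k' ∧ Algebra.IsSeparable k k' ∧ IsDiagFT k' (k' ⊗[k] A) := by
  obtain ⟨E, hfin, hsep, hspan⟩ := Groth.Agent.H40.SepSplit.isotrivial_of_isMultType k A hft h
  refine ⟨E, inferInstance, inferInstance, hfin, hsep, ?_⟩
  obtain ⟨M, _, ⟨e⟩⟩ := Groth.Agent.H40.isDiag_of_span_groupLike E (E ⊗[k] A) hspan
  have hft0 : Algebra.FiniteType E (E ⊗[k] A) := inferInstance
  have hft' : Algebra.FiniteType E (MonoidAlgebra E M) :=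
    Algebra.FiniteType.equiv hft0 (e : (E ⊗[k] A) ≃ₐ[E] MonoidAlgebra E M)
  exact ⟨M, inferInstance, MonoidAlgebra.finiteType_iff_group_fg.mp hft', ⟨e⟩⟩

end Groth.Agent.S2969
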