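import Groth.Statements.S2971
import Mathlib
import Groth.Agent.Lib.Helper3.FiniteEtalePairLift
import Groth.Agent.Lib.Helper3.Henselian
import Groth.Agent.Lib.Helper77.IsoTriv6

set_option autoImplicit false
universe u
open TensorProduct SGA3b
open SGA3b

namespace Groth.Agent.S2971

open TensorProduct Groth.Agent.Lib.Helper77 Groth.Agent.Lib.Helper77.MultBC in
/-- isotriviality lifts along a nil ideal. -/
theorem isotrivial_lift (R : Type u) [CommRing R] (A : Type u) [CommRing A] [HopfAlgebra R A]
    (I : Ideal R) (hI : ∀ x ∈ I, IsNilpotent x) (h : IsMultType R A)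
    (h0 : IsIsotrivial (R ⧸ I) ((R ⧸ I) ⊗[R] A)) : IsIsotrivial R A := by
  obtain ⟨R₀', _, _, het, hfin, hff, hd⟩ := h0
  haveI : HenselianRing R I := Groth.Agent.Lib.Helper3.henselianRing_of_nil I hI
  obtain ⟨R', _, _, hfin', het', ⟨e⟩⟩ :=
    Groth.Agent.Lib.Helper3.exists_finite_etale_lift_of_pair R I R₀'
  letI : Algebra R R₀' := ((algebraMap (R ⧸ I) R₀').comp (Ideal.Quotient.mk I)).toAlgebra
  haveI : IsScalarTower R (R ⧸ I) R₀' := IsScalarTower.of_algebraMap_eq (fun _ => rfl)
  let ψ : R' →ₐ[R] R₀' :=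
    (e.toAlgHom.restrictScalars R).comp (Algebra.TensorProduct.includeRight)
  have hψ : ∀ x, ψ x = e ((1 : R ⧸ I) ⊗ₜ[R] x) := fun _ => rfl
  have hsurj : Function.Surjective ψ := by
    intro y
    obtain ⟨x, hx⟩ := DiagNil.exists_one_tmul_eq I (e.symm y)
    exact ⟨x, by rw [hψ, hx, e.apply_symm_apply]⟩
  have hnil : ∀ x ∈ RingHom.ker ψ, IsNilpotent x := by
    intro x hx
    have h1 : (1 : R ⧸ I) ⊗ₜ[R] x = 0 := e.injective (by rw [map_zero]; exact hx)
    rw [GLLift.one_tmul_eq_zero_iff] at h1
    exact GLLift.nil_map R R' hI x h1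
  have hd' : IsDiag R₀' (R₀' ⊗[R] A) := isDiag_of_equiv (cancelBC R (R ⧸ I) R₀' A) hd
  have hdiag := IsoTriv6.isDiag_lift A R' R₀' ψ hsurj hnil h hd'
  haveI : Module.FaithfullyFlat (R ⧸ I) R₀' := hff
  haveI : Algebra.Etale R R' := het'
  have hff' : Module.FaithfullyFlat R R' :=
    IsoTriv6.faithfullyFlat_of_lift (Ideal.Quotient.mk I) R' R₀' Ideal.Quotient.mk_surjective
      (by rw [Ideal.mk_ker]; exact hI) ψ.toRingHom (fun x => ψ.commutes x)
  exact ⟨R', inferInstance, inferInstance, het', hfin', hff', hdiag⟩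

open TensorProduct Groth.Agent.Lib.Helper77 Groth.Agent.Lib.Helper77.MultBC in
/-- the local step for quasi-isotriviality: lift an étale chart over `(R/I)_f` to `R_f`. -/
theorem quasiIsotrivialConst_lift (R : Type u) [CommRing R] (A : Type u) [CommRing A]
    [HopfAlgebra R A] (I : Ideal R) (hI : ∀ x ∈ I, IsNilpotent x) (h : IsMultType R A) (f : R)
    (h0 : IsQuasiIsotrivialConst (Localization.Away (Ideal.Quotient.mk I f))
      (Localization.Away (Ideal.Quotient.mk I f) ⊗[R ⧸ I] ((R ⧸ I) ⊗[R] A))) :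
    IsQuasiIsotrivialConst (Localization.Away f) (Localization.Away f ⊗[R] A) := by
  obtain ⟨R₀', _, _, het, hff, hd⟩ := h0
  -- the reduction map on localizations
  let π : Localization.Away f →+* Localization.Away (Ideal.Quotient.mk I f) :=
    Localization.awayMap (Ideal.Quotient.mk I) f
  have hπ : Function.Surjective π := by
    rw [Localization.awayMap_surjective_iff]
    intro a
    obtain ⟨b, rfl⟩ := Ideal.Quotient.mk_surjective a
    exact ⟨b, 0, by rw [pow_zero, one_mul]⟩
  have hπalg : ∀ r : R, π (algebraMap R (Localization.Away f) r) =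
      algebraMap (R ⧸ I) (Localization.Away (Ideal.Quotient.mk I f)) (Ideal.Quotient.mk I r) := by
    intro r
    change Localization.awayMap (Ideal.Quotient.mk I) f (algebraMap R (Localization.Away f) r) = _
    rw [Localization.awayMap, IsLocalization.Away.map, IsLocalization.map_eq]
  have hJnil : ∀ x ∈ RingHom.ker π, IsNilpotent x := by
    have hk : RingHom.ker π =
        (RingHom.ker (Ideal.Quotient.mk I)).map (algebraMap R (Localization.Away f)) :=
      IsLocalization.ker_map (Localization.Away (Ideal.Quotient.mk I f)) (Ideal.Quotient.mk I)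
        (Submonoid.map_powers (Ideal.Quotient.mk I) f)
    rw [hk, Ideal.mk_ker]
    exact GLLift.nil_map R (Localization.Away f) hI
  -- `R₀'` as an étale algebra over `K / J`
  let ι : (Localization.Away f ⧸ RingHom.ker π) ≃+* Localization.Away (Ideal.Quotient.mk I f) :=
    RingHom.quotientKerEquivOfSurjective hπ
  letI : Algebra (Localization.Away f ⧸ RingHom.ker π) (Localization.Away (Ideal.Quotient.mk I f)) :=
    ι.toRingHom.toAlgebra
  letI : Algebra (Localization.Away f ⧸ RingHom.ker π) R₀' :=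
    ((algebraMap (Localization.Away (Ideal.Quotient.mk I f)) R₀').comp ι.toRingHom).toAlgebra
  haveI : IsScalarTower (Localization.Away f ⧸ RingHom.ker π)
      (Localization.Away (Ideal.Quotient.mk I f)) R₀' := IsScalarTower.of_algebraMap_eq (fun _ => rfl)
  haveI : Algebra.Etale (Localization.Away f ⧸ RingHom.ker π)
      (Localization.Away (Ideal.Quotient.mk I f)) :=
    Algebra.Etale.of_equiv (AlgEquiv.ofRingEquiv (f := ι) (fun _ => rfl))
  haveI : Algebra.Etale (Localization.Away (Ideal.Quotient.mk I f)) R₀' := het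
  haveI : Algebra.Etale (Localization.Away f ⧸ RingHom.ker π) R₀' :=
    Algebra.Etale.comp _ (Localization.Away (Ideal.Quotient.mk I f)) _
  obtain ⟨R', _, _, het', ψ, hψsurj, hψker, hψalg⟩ :=
    Groth.Agent.Lib.Helper3.exists_etale_lift_of_quotient (RingHom.ker π) R₀'
  have hψalg' : ∀ x, ψ (algebraMap (Localization.Away f) R' x) =
      algebraMap (Localization.Away (Ideal.Quotient.mk I f)) R₀' (π x) := by
    intro x
    rw [hψalg]
    change algebraMap (Localization.Away (Ideal.Quotient.mk I f)) R₀'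
      (ι (Ideal.Quotient.mk _ x)) = _
    rw [RingHom.quotientKerEquivOfSurjective_apply_mk]
  -- algebra structures over `R`
  letI : Algebra R R' :=
    ((algebraMap (Localization.Away f) R').comp (algebraMap R (Localization.Away f))).toAlgebra
  haveI : IsScalarTower R (Localization.Away f) R' := IsScalarTower.of_algebraMap_eq (fun _ => rfl)
  letI : Algebra (R ⧸ I) R₀' :=
    ((algebraMap (Localization.Away (Ideal.Quotient.mk I f)) R₀').comp
      (algebraMap (R ⧸ I) (Localization.Away (Ideal.Quotient.mk I f)))).toAlgebra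
  haveI : IsScalarTower (R ⧸ I) (Localization.Away (Ideal.Quotient.mk I f)) R₀' :=
    IsScalarTower.of_algebraMap_eq (fun _ => rfl)
  letI : Algebra R R₀' := ((algebraMap (R ⧸ I) R₀').comp (Ideal.Quotient.mk I)).toAlgebra
  haveI : IsScalarTower R (R ⧸ I) R₀' := IsScalarTower.of_algebraMap_eq (fun _ => rfl)
  let ψa : R' →ₐ[R] R₀' :=
    { ψ with
      commutes' := by
        intro r
        change ψ (algebraMap (Localization.Away f) R' (algebraMap R (Localization.Away f) r)) = _
        rw [hψalg', hπalg]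
        rfl }
  have hψa : ∀ x, ψa x = ψ x := fun _ => rfl
  have hnil : ∀ x ∈ RingHom.ker ψa, IsNilpotent x := by
    intro x hx
    have hx' : x ∈ RingHom.ker ψ := hx
    rw [hψker] at hx'
    exact GLLift.nil_map (Localization.Away f) R' hJnil x hx'
  have hd1 : IsDiag R₀' (R₀' ⊗[R ⧸ I] ((R ⧸ I) ⊗[R] A)) :=
    isDiag_of_equiv (cancelBC (R ⧸ I) (Localization.Away (Ideal.Quotient.mk I f)) R₀' _) hd
  have hd2 : IsDiag R₀' (R₀' ⊗[R] A) := isDiag_of_equiv (cancelBC R (R ⧸ I) R₀' A) hd1
  have hdiag : IsDiag R' (R' ⊗[R] A) :=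
    IsoTriv6.isDiag_lift A R' R₀' ψa (fun y => hψsurj y) hnil h hd2
  have hdiag' : IsDiag R' (R' ⊗[Localization.Away f] (Localization.Away f ⊗[R] A)) :=
    isDiag_of_equiv (cancelBC R (Localization.Away f) R' A).symm hdiag
  haveI : Module.FaithfullyFlat (Localization.Away (Ideal.Quotient.mk I f)) R₀' := hff
  haveI : Algebra.Etale (Localization.Away f) R' := het'
  have hff' : Module.FaithfullyFlat (Localization.Away f) R' :=
    IsoTriv6.faithfullyFlat_of_lift π R' R₀' hπ hJnil ψ hψalg'
  exact ⟨R', inferInstance, inferInstance, het', hff', hdiag'⟩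

open TensorProduct in
/-- quasi-isotriviality lifts along a nil ideal. -/
theorem quasiIsotrivial_lift (R : Type u) [CommRing R] (A : Type u) [CommRing A] [HopfAlgebra R A]
    (I : Ideal R) (hI : ∀ x ∈ I, IsNilpotent x) (h : IsMultType R A)
    (h0 : IsQuasiIsotrivial (R ⧸ I) ((R ⧸ I) ⊗[R] A)) : IsQuasiIsotrivial R A := by
  obtain ⟨s₀, hs₀, hloc₀⟩ := h0
  refine ⟨{f : R | Ideal.Quotient.mk I f ∈ s₀}, ?_, ?_⟩
  · have h1 : Ideal.map (Ideal.Quotient.mk I) (Ideal.span {f : R | Ideal.Quotient.mk I f ∈ s₀}) = ⊤ := by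
      rw [Ideal.map_span, ← hs₀]
      congr 1
      ext y
      constructor
      · rintro ⟨f, hf, rfl⟩
        exact hf
      · intro hy
        obtain ⟨f, rfl⟩ := Ideal.Quotient.mk_surjective y
        exact ⟨f, hy, rfl⟩
    have h2 : (1 : R ⧸ I) ∈ Ideal.map (Ideal.Quotient.mk I)
        (Ideal.span {f : R | Ideal.Quotient.mk I f ∈ s₀}) := by rw [h1]; trivial
    rw [Ideal.mem_map_iff_of_surjective _ Ideal.Quotient.mk_surjective] at h2
    obtain ⟨j, hj, hj1⟩ := h2
    have h3 : IsNilpotent (1 - j) := by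
      apply hI
      rw [← Ideal.Quotient.eq_zero_iff_mem, map_sub, map_one, hj1, sub_self]
    have h4 : IsUnit j := by
      have := h3.isUnit_one_sub
      rwa [sub_sub_cancel] at this
    exact Ideal.eq_top_of_isUnit_mem _ hj h4
  · intro f hf
    exact quasiIsotrivialConst_lift R A I hI h f (hloc₀ _ hf)

/-- Let R be a ring, I an ideal consisting of nilpotent elements and H = Spec A an R-group of
multiplicative type. If the base change of H to R/I is isotrivial (resp. quasi-isotrivial), so is H.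
(Affine group schemes over an affine base are taken in Hopf-algebra form; base change is the tensor
product.) -/
theorem result (R : Type u) [CommRing R] (A : Type u) [CommRing A] [HopfAlgebra R A] (I : Ideal R) (hI : ∀ x ∈ I, IsNilpotent x) (h : IsMultType R A) :
    (IsIsotrivial (R ⧸ I) ((R ⧸ I) ⊗[R] A) → IsIsotrivial R A) ∧
    (IsQuasiIsotrivial (R ⧸ I) ((R ⧸ I) ⊗[R] A) → IsQuasiIsotrivial R A) := by
  exact ⟨isotrivial_lift R A I hI h, quasiIsotrivial_lift R A I hI h⟩

end Groth.Agent.S2971
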