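import Groth.Statements.S2978
-- import your own Groth.Agent.* helpers here

set_option autoImplicit false
universe u
open SGA3b

namespace Groth.Agent.S2978

/-- Let A be a Noetherian ring, M a set and a : M × M → A a family vanishing off the diagonal which is a
finite sum of decomposable families: a(m, m') = Σ_i b_i(m) c_i(m') for finitely many b_i, c_i : M →
A. Then a has finite support. -/
theorem result (A : Type u) [CommRing A] [IsNoetherianRing A] (M : Type u)
    (a : M × M → A) (hdiag : ∀ m m', m ≠ m' → a (m, m') = 0)
    (ι : Type u) [Fintype ι] (b c : ι → M → A) (hdec : ∀ m m', a (m, m') = ∑ i, b i m * c i m') :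
    Set.Finite {p : M × M | a p ≠ 0} := by
  classical
  -- the vectors c(m) ∈ A^ι
  let cv : M → (ι → A) := fun m i => c i m
  have hfg : (Submodule.span A (Set.range cv)).FG := IsNoetherian.noetherian _
  obtain ⟨s', hs', hspan⟩ := (Submodule.fg_span_iff_fg_span_finset_subset _).mp hfg
  -- choose preimages
  have hch : ∀ v : (ι → A), v ∈ s' → ∃ m, cv m = v := fun v hv => hs' hv
  rcases isEmpty_or_nonempty M with hM | hM
  · exact Set.toFinite _
  choose! pre hpre using hch
  let T : Finset M := s'.image pre
  apply Set.Finite.subset ((T.image fun m => (m, m)).finite_toSet)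
  rintro ⟨m, m'⟩ hp
  simp only [Set.mem_ofPred_eq] at hp
  have hmm : m = m' := by
    by_contra h
    exact hp (hdiag m m' h)
  subst hmm
  by_contra hnot
  have hmT : m ∉ T := by
    intro hmT
    apply hnot
    simp only [Finset.coe_image, Set.mem_image, Finset.mem_coe]
    exact ⟨m, hmT, rfl⟩
  apply hp
  -- the functional φ_m
  let φ : (ι → A) →ₗ[A] A :=
    { toFun := fun v => ∑ i, b i m * v i
      map_add' := by
        intro v w
        simp only [Pi.add_apply, mul_add, Finset.sum_add_distrib]
      map_smul' := by
        intro r v
        simp only [Pi.smul_apply, smul_eq_mul, RingHom.id_apply, Finset.mul_sum]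
        apply Finset.sum_congr rfl
        intro i _
        ring }
  have hφ : ∀ m', φ (cv m') = a (m, m') := fun m' => (hdec m m').symm
  have hmem : cv m ∈ Submodule.span A (s' : Set (ι → A)) := by
    rw [← hspan]
    exact Submodule.subset_span ⟨m, rfl⟩
  have hle : Submodule.span A (s' : Set (ι → A)) ≤ LinearMap.ker φ := by
    rw [Submodule.span_le]
    intro v hv
    simp only [SetLike.mem_coe, LinearMap.mem_ker]
    have h1 : cv (pre v) = v := hpre v hv
    rw [← h1, hφ]
    apply hdiag
    intro h
    apply hmT
    rw [h]
    exact Finset.mem_image_of_mem pre hv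
  have := hle hmem
  rw [LinearMap.mem_ker, hφ] at this
  exact this

end Groth.Agent.S2978
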