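import Groth.Statements.S3031
import Groth.Agent.Lib.Helper70.GrpConnE

set_option autoImplicit false
universe u
open CategoryTheory MonoidalCategory CartesianMonoidalCategory MonObj GrpObj AlgebraicGeometry TensorProduct
open SGA3

namespace Groth.Agent.S3031

/-- With X connected and possessing a rational point over the identity, a case of 'geometrically
connected with e ∈ f(X)': let G be a group scheme over a field k, X a connected, geometrically
reduced k-scheme, x a k-point of X and f : X → G a k-morphism with f(x) the identity. Then the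
smallest closed subgroup scheme of G through which f factors is connected. -/
theorem result (k : Type u) [Field k] (G X : Over (Spec (CommRingCat.of k))) [GrpObj G]
    [GeometricallyReduced X.hom] [ConnectedSpace X.left] (x : 𝟙_ (Over (Spec (CommRingCat.of k))) ⟶ X) (f : X ⟶ G)
    (hx : x ≫ f = η[G])
    (Γ : Over (Spec (CommRingCat.of k))) [GrpObj Γ] (i : Γ ⟶ G) [IsMonHom i] [IsClosedImmersion i.left]
    (hf : ∃ f' : X ⟶ Γ, f' ≫ i = f)
    (hmin : ∀ (Γ' : Over (Spec (CommRingCat.of k))) (_ : GrpObj Γ') (i' : Γ' ⟶ G), IsMonHom i' → IsClosedImmersion i'.left →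
        (∃ f'' : X ⟶ Γ', f'' ≫ i' = f) → ∃ j : Γ ⟶ Γ', j ≫ i' = i) :
    ConnectedSpace Γ.left := by
  classical
  have hmono : Mono i := by
    have : Mono ((Over.forget _).map i) := by
      change Mono i.left
      infer_instance
    exact (Over.forget _).mono_of_mono_map this
  obtain ⟨f', hf'⟩ := hf
  -- `f'` sends the rational point to the unit
  have hxf' : x ≫ f' = η[Γ] := by
    rw [← cancel_mono i, Category.assoc, hf', hx, IsMonHom.one_hom]
  -- the range of `f'` lies in the neutral component
  have hrange : Set.range f'.left ⊆ Groth.Agent.Lib.Helper70.GrpConnA.C0 Γ := by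
    rw [← Groth.Agent.Lib.Helper70.GrpConnC.connectedComponent_ept]
    have hconn : _root_.IsPreconnected (Set.range f'.left) :=
      isPreconnected_range f'.left.continuous
    apply hconn.subset_connectedComponent
    have h2 : (x ≫ f').left = η[Γ].left := by rw [hxf']
    have h3 := congrArg (fun φ : Spec (CommRingCat.of k) ⟶ Γ.left =>
      φ (IsLocalRing.closedPoint k)) h2
    exact ⟨_, h3⟩
  obtain ⟨f₀, hf₀⟩ := Groth.Agent.Lib.Helper70.GrpConnE.exists_lift_i0 Γ f' hrange
  obtain ⟨str, hmon⟩ := Groth.Agent.Lib.Helper70.GrpConnE.exists_grpObj Γ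
  have hci : IsClosedImmersion (Groth.Agent.Lib.Helper70.GrpConnE.i0 Γ ≫ i).left := by
    rw [Over.comp_left]
    have : IsClosedImmersion (Groth.Agent.Lib.Helper70.GrpConnE.i0 Γ).left :=
      inferInstanceAs (IsClosedImmersion (Groth.Agent.Lib.Helper70.GrpConnE.incl Γ))
    infer_instance
  obtain ⟨j, hj⟩ := hmin (Groth.Agent.Lib.Helper70.GrpConnE.G0 Γ) str
    (Groth.Agent.Lib.Helper70.GrpConnE.i0 Γ ≫ i) inferInstance hci
    ⟨f₀, by rw [← Category.assoc, hf₀, hf']⟩
  have hsplit : j ≫ Groth.Agent.Lib.Helper70.GrpConnE.i0 Γ = 𝟙 Γ := by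
    rw [← cancel_mono i, Category.assoc, hj, Category.id_comp]
  have huniv : Groth.Agent.Lib.Helper70.GrpConnA.C0 Γ = Set.univ := by
    rw [Set.eq_univ_iff_forall]
    intro y
    rw [← Groth.Agent.Lib.Helper70.GrpConnE.range_incl]
    refine ⟨j.left y, ?_⟩
    change (Groth.Agent.Lib.Helper70.GrpConnE.i0 Γ).left (j.left y) = y
    rw [← Scheme.Hom.comp_apply, ← Over.comp_left, hsplit]
    rfl
  rw [connectedSpace_iff_connectedComponent]
  exact ⟨Groth.Agent.Lib.Helper70.GrpConnA.ept Γ, by
    rw [Groth.Agent.Lib.Helper70.GrpConnC.connectedComponent_ept, huniv]⟩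

end Groth.Agent.S3031
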