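import Groth.Statements.S3043
-- import your own Groth.Agent.* helpers here

set_option autoImplicit false
universe u
open CategoryTheory MonoidalCategory CartesianMonoidalCategory MonObj GrpObj AlgebraicGeometry TensorProduct
open SGA3

namespace Groth.Agent.S3043

/-- Let π : X → S be a morphism of schemes admitting a section ε (ε followed by π is the identity). If π
is injective on underlying points, then π is an integral morphism. -/
theorem result (X S : Scheme.{u}) (π : X ⟶ S) (ε : S ⟶ X) (hε : ε ≫ π = 𝟙 S)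
    (hinj : Function.Injective π.base) : IsIntegralHom π := by
  have h1 : ∀ s : S, π (ε s) = s := fun s => by
    have := congrArg (fun f : S ⟶ S => f s) hε
    simpa using this
  have h2 : ∀ y : X, ε (π y) = y := fun y => hinj (h1 (π y))
  have haff : IsAffineHom π := by
    apply isAffineHom_of_forall_exists_isAffineOpen
    intro s
    obtain ⟨V, hV, hxV, -⟩ := exists_isAffineOpen_mem_and_subset (x := ε s) (U := ⊤) trivial
    have hsV : s ∈ ε ⁻¹ᵁ V := hxV
    obtain ⟨U₀, hU₀, hsU₀, hU₀V⟩ := exists_isAffineOpen_mem_and_subset hsV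
    have hW₀V : π ⁻¹ᵁ U₀ ≤ V := by
      intro y hy
      have : ε (π y) ∈ V := hU₀V hy
      rwa [h2] at this
    have hxW₀ : ε s ∈ π ⁻¹ᵁ U₀ := by
      show π (ε s) ∈ U₀
      rw [h1]; exact hsU₀
    obtain ⟨b, hbW₀, hxb⟩ := hV.exists_basicOpen_le ⟨ε s, hxW₀⟩ hxV
    have hV' : IsAffineOpen (X.basicOpen b) := hV.basicOpen b
    have hsV' : s ∈ ε ⁻¹ᵁ (X.basicOpen b) := hxb
    obtain ⟨a, haV', hsa⟩ := hU₀.exists_basicOpen_le ⟨s, hsV'⟩ hsU₀
    refine ⟨S.basicOpen a, hsa, hU₀.basicOpen a, ?_⟩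
    have hle : π ⁻¹ᵁ (S.basicOpen a) ≤ X.basicOpen b := by
      intro y hy
      have : ε (π y) ∈ X.basicOpen b := haV' hy
      rwa [h2] at this
    rw [Scheme.preimage_basicOpen] at hle ⊢
    have hres := X.basicOpen_res (π.app U₀ a) (homOfLE hbW₀).op
    rw [inf_eq_right.mpr hle] at hres
    rw [← hres]
    exact hV'.basicOpen _
  refine { toIsAffineHom := haff, isIntegral_app := fun U hU => ?_ }
  have hW : IsAffineOpen (π ⁻¹ᵁ U) := hU.preimage π
  have hUW : ε ⁻¹ᵁ (π ⁻¹ᵁ U) = U := by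
    ext s
    show π (ε s) ∈ U ↔ s ∈ U
    rw [h1]
  -- the composite
  have hcomp : π.app U ≫ ε.app (π ⁻¹ᵁ U) = S.presheaf.map (eqToHom hUW).op := by
    have := Scheme.Hom.congr_app hε U
    rw [Scheme.Hom.comp_app] at this
    rw [this]
    simp only [Scheme.Hom.id_app, Category.id_comp]
    rfl
  intro b
  let a : Γ(S, U) := S.presheaf.map (eqToHom hUW.symm).op (ε.app (π ⁻¹ᵁ U) b)
  have hρ : ε.app (π ⁻¹ᵁ U) (π.app U a) = ε.app (π ⁻¹ᵁ U) b := by
    have h3 : ε.app (π ⁻¹ᵁ U) (π.app U a) = (π.app U ≫ ε.app (π ⁻¹ᵁ U)) a := rfl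
    rw [h3, hcomp]
    show S.presheaf.map (eqToHom hUW).op (S.presheaf.map (eqToHom hUW.symm).op _) = _
    rw [← CommRingCat.comp_apply, ← CategoryTheory.Functor.map_comp, ← op_comp, eqToHom_trans,
      eqToHom_refl, op_id, CategoryTheory.Functor.map_id]
    rfl
  have hk : ε.app (π ⁻¹ᵁ U) (b - π.app U a) = 0 := by
    rw [map_sub, hρ, sub_self]
  have hbot : X.basicOpen (b - π.app U a) = ⊥ := by
    rw [eq_bot_iff]
    intro y hy
    have hy' : ε (π y) ∈ X.basicOpen (b - π.app U a) := by rwa [h2]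
    have : π y ∈ ε ⁻¹ᵁ X.basicOpen (b - π.app U a) := hy'
    rw [Scheme.preimage_basicOpen, hk, Scheme.basicOpen_zero] at this
    exact this
  have hnil : IsNilpotent (b - π.app U a) :=
    (Scheme.isNilpotent_iff_basicOpen_eq_bot_of_isCompact hW.isCompact _).mpr hbot
  have hb : b = (π.app U).hom a + (b - π.app U a) := by
    show b = π.app U a + (b - π.app U a)
    ring
  rw [hb]
  refine RingHom.IsIntegralElem.add _ ((π.app U).hom.isIntegralElem_map) ?_
  obtain ⟨n, hn⟩ := hnil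
  exact ⟨Polynomial.X ^ n, Polynomial.monic_X_pow n, by simp [hn]⟩

end Groth.Agent.S3043
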