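import Groth.Statements.S3045
import Groth.Agent.Lib.Helper15.HopfConv

set_option autoImplicit false
universe u
open TensorProduct
open SGA3

namespace Groth.Agent.S3045

/-- Let A be a commutative Hopf algebra over a commutative ring k (the coordinate ring of an affine
group G = Spec A) and φ, ψ two k[ε]-valued points of G reducing to the unit point modulo ε (tangent
vectors at the identity). Then for every a ∈ A the ε-component of the product point φ · ψ at a — the
product of points being convolution, formed here as the triple convolution of φ, ψ and the unit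
point — is the sum of the ε-components of φ(a) and ψ(a): on tangent vectors at the identity the
group law of G induces addition. -/
theorem result (k : Type u) [CommRing k] (A : Type u) [CommRing A] [HopfAlgebra k A]
    (φ ψ : LieHopf.LiePts k A) (a : A) :
    TrivSqZeroExt.snd (Dyn.conv3 k A φ.1 ψ.1 ((Algebra.ofId k (DualNumber k)).comp (Bialgebra.counitAlgHom k A)) a) =
      LieHopf.LiePts.tangent k A φ a + LieHopf.LiePts.tangent k A ψ a := by
  classical
  rw [Groth.Agent.Lib.Helper15.conv3_counit,
    Groth.Agent.Lib.Helper15.conv2_apply k A _ _ a (Coalgebra.Repr.arbitrary k a)]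
  set r := Coalgebra.Repr.arbitrary k a with hr
  let Lφ : A →ₗ[k] k := (TrivSqZeroExt.sndHom k k).comp φ.1.toLinearMap
  let Lψ : A →ₗ[k] k := (TrivSqZeroExt.sndHom k k).comp ψ.1.toLinearMap
  have h1 : ∑ i ∈ r.index, Coalgebra.counit (R := k) (r.left i) • Lψ (r.right i) = Lψ a := by
    conv_rhs => rw [← Coalgebra.sum_counit_smul r]
    simp only [map_sum, map_smul]
  have h2 : ∑ i ∈ r.index, Coalgebra.counit (R := k) (r.right i) • Lφ (r.left i) = Lφ a := by
    have h := Coalgebra.sum_map_tmul_counit_eq (R := k) Lφ a (repr := r)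
    have h' := congrArg (TensorProduct.lift ((LinearMap.lsmul k k).flip)) h
    simpa only [map_sum, TensorProduct.lift.tmul, LinearMap.flip_apply, LinearMap.lsmul_apply,
      one_smul] using h'
  have hφ : ∀ x, TrivSqZeroExt.fst (φ.1 x) = Coalgebra.counit (R := k) x := fun x => φ.2 x
  have hψ : ∀ x, TrivSqZeroExt.fst (ψ.1 x) = Coalgebra.counit (R := k) x := fun x => ψ.2 x
  change _ = Lφ a + Lψ a
  rw [← h1, ← h2, TrivSqZeroExt.snd_sum, ← Finset.sum_add_distrib]
  apply Finset.sum_congr rfl
  intro i _
  rw [TrivSqZeroExt.snd_mul, hφ, hψ]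
  simp only [smul_eq_mul, MulOpposite.smul_eq_mul_unop, MulOpposite.unop_op]
  change _ = Coalgebra.counit (R := k) (r.right i) * TrivSqZeroExt.snd (φ.1 (r.left i)) +
    Coalgebra.counit (R := k) (r.left i) * TrivSqZeroExt.snd (ψ.1 (r.right i))
  ring

end Groth.Agent.S3045
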