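import Groth.Statements.S3046
import Mathlib.RingTheory.HopfAlgebra.Convolution
import Mathlib.Tactic.NoncommRing

set_option autoImplicit false
universe u
open TensorProduct
open SGA3

namespace Groth.Agent.S3046

open WithConv

section
variable (k : Type u) [CommRing k] (A : Type u) [CommRing A] [HopfAlgebra k A]
variable {C : Type u} [CommRing C] [Algebra k C]

theorem conv3_eq_mul (f g h : A →ₐ[k] C) :
    Dyn.conv3 k A f g h = (toConv f * toConv g * toConv h).ofConv := by
  simp only [Dyn.conv3, AlgHom.convMul_def, WithConv.ofConv_toConv]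
  congr 1
  rw [← AlgHom.comp_assoc, ← Algebra.TensorProduct.map_comp]
  rfl

/-- the linear-map shadow of a point -/
noncomputable def lin (f : A →ₐ[k] C) : WithConv (A →ₗ[k] C) :=
  toConv f.toLinearMap

theorem lin_mul (f g : A →ₐ[k] C) : lin k A (toConv f * toConv g).ofConv = lin k A f * lin k A g := rfl

theorem lin_inv_mul (f : A →ₐ[k] C) :
    lin k A (f.comp (HopfAlgebra.antipodeAlgHom k A)) * lin k A f = 1 := by
  have h := LinearMap.algHom_comp_convMul_distrib (R := k) (C := A) f
    (toConv (HopfAlgebra.antipode k (A := A))) (toConv LinearMap.id)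
  rw [LinearMap.antipode_mul_id] at h
  apply WithConv.ofConv_injective
  rw [← toConv_ofConv (lin k A (f.comp (HopfAlgebra.antipodeAlgHom k A)) * lin k A f)]
  refine Eq.trans ?_ (Eq.trans h.symm ?_)
  · rfl
  · ext a
    simp [LinearMap.convOne_def]

theorem lin_inv_eq (f : A →ₐ[k] C) (z : WithConv (A →ₗ[k] C))
    (hz : lin k A f * z = 1) : lin k A (f.comp (HopfAlgebra.antipodeAlgHom k A)) = z := by
  calc lin k A (f.comp (HopfAlgebra.antipodeAlgHom k A))
      = lin k A (f.comp (HopfAlgebra.antipodeAlgHom k A)) * (lin k A f * z) := by rw [hz, mul_one]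
    _ = z := by rw [← mul_assoc, lin_inv_mul, one_mul]

end

section
variable {k : Type u} [CommRing k] {A : Type u} [CommRing A] [HopfAlgebra k A]
variable (R : Type u) [CommRing R] [Algebra k R]

/-- the tangent vector as an `R`-valued linear map in the convolution algebra -/
noncomputable def dR (D : LieHopf.Lie k A) : WithConv (A →ₗ[k] R) :=
  toConv ((Algebra.linearMap k R) ∘ₗ LieHopf.dlin D)

theorem lin_ptOfLie (D : LieHopf.Lie k A) (t : R) (ht : t * t = 0) :
    lin k A (LieHopf.ptOfLie D R t ht) = 1 + t • dR R D := by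
  apply WithConv.ofConv_injective
  ext a
  simp [lin, dR, LieHopf.ptOfLie, mul_comm]

theorem dR_mul_apply (D E : LieHopf.Lie k A) (a : A) :
    (dR R D * dR R E) a = algebraMap k R (LieHopf.conv (LieHopf.dlin D) (LieHopf.dlin E) a) := by
  have h := LinearMap.algHom_comp_convMul_distrib (R := k) (C := A) (Algebra.ofId k R)
    (toConv (LieHopf.dlin D)) (toConv (LieHopf.dlin E))
  have h2 := congrArg (fun f => f a) h
  exact h2.symm

theorem comm_calc {W : Type*} [Ring W] [Algebra R W] (d e : W) (t t' : R) (ht : t * t = 0)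
    (ht' : t' * t' = 0) :
    (1 + t • d) * (1 + t' • e) * (1 - t • d) * (1 - t' • e) = 1 + (t * t') • (d * e - e * d) := by
  have huu : (t • d) * (t • d) = 0 := by rw [smul_mul_smul_comm, ht, zero_smul]
  have hvv : (t' • e) * (t' • e) = 0 := by rw [smul_mul_smul_comm, ht', zero_smul]
  have huvu : (t • d) * (t' • e) * (t • d) = 0 := by
    rw [smul_mul_smul_comm, smul_mul_smul_comm, mul_right_comm, ht, zero_mul, zero_smul]
  have hvuv : (t' • e) * (t • d) * (t' • e) = 0 := by
    rw [smul_mul_smul_comm, smul_mul_smul_comm, mul_right_comm, ht', zero_mul, zero_smul]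
  have key : ∀ u v : W, (1 + u) * (1 + v) * (1 - u) * (1 - v) =
      1 + (u * v - v * u) + (-(u * u) + (u * u) * v - v * v + v * u * v - u * v * u - u * (v * v)
        + (u * v * u) * v) := by
    intro u v; noncomm_ring
  rw [key, huu, hvv, huvu, hvuv]
  simp only [smul_mul_smul_comm, mul_comm t' t, smul_sub, zero_mul, mul_zero, neg_zero, sub_zero,
    add_zero]

end

/-- Let A be a commutative Hopf algebra over a commutative ring k, D and E two ε-derivations A → k
(tangent vectors at the identity of G = Spec A), R a commutative k-algebra and t, t' ∈ R with t² = 0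
= t'². Let x = e + tD and y = e + t'E be the corresponding R-points of G. Then the commutator x y
x⁻¹ y⁻¹ (product of points; the inverse of a point is its composite with the antipode) is the point
a ↦ ε(a) + [D, E](a) · t t', where [D, E] = D ⋆ E − E ⋆ D is the convolution commutator. -/
theorem result (k : Type u) [CommRing k] (A : Type u) [CommRing A] [HopfAlgebra k A]
    (D E : LieHopf.Lie k A) (R : Type u) [CommRing R] [Algebra k R] (t t' : R) (ht : t * t = 0) (ht' : t' * t' = 0)
    (a : A) :
    Dyn.conv3 k A
        (Dyn.conv3 k A (LieHopf.ptOfLie D R t ht) (LieHopf.ptOfLie E R t' ht')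
          ((LieHopf.ptOfLie D R t ht).comp (HopfAlgebra.antipodeAlgHom k A)))
        ((LieHopf.ptOfLie E R t' ht').comp (HopfAlgebra.antipodeAlgHom k A))
        ((Algebra.ofId k R).comp (Bialgebra.counitAlgHom k A)) a =
      algebraMap k R (Bialgebra.counitAlgHom k A a) + algebraMap k R (LieHopf.bracketLin D E a) * (t * t') := by
  rw [conv3_eq_mul, conv3_eq_mul]
  rw [← AlgHom.convOne_def, mul_one, toConv_ofConv]
  set x := LieHopf.ptOfLie D R t ht
  set y := LieHopf.ptOfLie E R t' ht'
  have hx' : lin k A (x.comp (HopfAlgebra.antipodeAlgHom k A)) = 1 - t • dR R D := by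
    apply lin_inv_eq
    rw [lin_ptOfLie]
    have : (t • dR R D) * (t • dR R D) = 0 := by rw [smul_mul_smul_comm, ht, zero_smul]
    have key : ∀ u : WithConv (A →ₗ[k] R), (1 + u) * (1 - u) = 1 - u * u := by
      intro u; noncomm_ring
    rw [key, this, sub_zero]
  have hy' : lin k A (y.comp (HopfAlgebra.antipodeAlgHom k A)) = 1 - t' • dR R E := by
    apply lin_inv_eq
    rw [lin_ptOfLie]
    have : (t' • dR R E) * (t' • dR R E) = 0 := by rw [smul_mul_smul_comm, ht', zero_smul]
    have key : ∀ u : WithConv (A →ₗ[k] R), (1 + u) * (1 - u) = 1 - u * u := by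
      intro u; noncomm_ring
    rw [key, this, sub_zero]
  have hlin : lin k A (toConv x * toConv y * toConv (x.comp (HopfAlgebra.antipodeAlgHom k A)) *
      toConv (y.comp (HopfAlgebra.antipodeAlgHom k A))).ofConv =
      1 + (t * t') • (dR R D * dR R E - dR R E * dR R D) := by
    rw [lin_mul, lin_mul, lin_mul, hx', hy', lin_ptOfLie, lin_ptOfLie]
    exact comm_calc R _ _ t t' ht ht'
  have h2 := congrArg (fun f : WithConv (A →ₗ[k] R) => f a) hlin
  refine Eq.trans ?_ (Eq.trans h2 ?_)
  · rfl
  · show (1 + (t * t') • (dR R D * dR R E - dR R E * dR R D)).ofConv a = _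
    simp only [WithConv.ofConv_add, WithConv.ofConv_smul, WithConv.ofConv_sub,
      LinearMap.add_apply, LinearMap.smul_apply, LinearMap.sub_apply]
    have h3 := dR_mul_apply R D E a
    have h4 := dR_mul_apply R E D a
    change (dR R D * dR R E).ofConv a = _ at h3
    change (dR R E * dR R D).ofConv a = _ at h4
    rw [h3, h4]
    simp only [LieHopf.bracketLin, LinearMap.sub_apply, map_sub, smul_eq_mul]
    rw [mul_comm]
    rfl

end Groth.Agent.S3046
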