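import Groth.Statements.S3055
import Groth.Prelude.Def_EtCore
import Groth.Agent.Lib.Helper43.MuSheaf

set_option autoImplicit false
open CategoryTheory CategoryTheory.Limits AlgebraicGeometry Opposite
universe u
open EtDesc

namespace Groth.Agent.S3055

open Groth.Agent.Lib.Helper43 Groth.Agent.Lib.Helper43.MuConst

lemma exists_algHom_ker (k A : Type u) [Field k] [IsSepClosed k] [CommRing A] [Algebra k A]
    [Algebra.Etale k A] (p : Ideal A) [p.IsPrime] :
    ∃ ψ : A →ₐ[k] k, RingHom.ker ψ.toRingHom = p := by
  have := Algebra.FormallyUnramified.finite_of_free k A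
  have : IsArtinianRing A := isArtinian_of_tower k inferInstance
  have hp : p.IsMaximal := IsArtinianRing.isMaximal_of_isPrime p
  let _ : Field (A ⧸ p) := Ideal.Quotient.field p
  have hb := IsSepClosed.algebraMap_bijective k (A ⧸ p)
  let e : k ≃ₐ[k] A ⧸ p := AlgEquiv.ofBijective (Algebra.ofId k _) hb
  refine ⟨e.symm.toAlgHom.comp (Ideal.Quotient.mkₐ k p), ?_⟩
  ext x
  rw [RingHom.mem_ker]
  change e.symm (Ideal.Quotient.mk p x) = 0 ↔ _
  rw [map_eq_zero_iff _ e.symm.injective, Ideal.Quotient.eq_zero_iff_mem]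

variable (k : Type u) [Field k] [IsSepClosed k]

/-- every point of an étale scheme over a separably closed field is the image of a section. -/
lemma exists_section (V : (Spec (CommRingCat.of k)).Etale) (x : V.left) :
    ∃ (σ : EtCoh.top (Spec (CommRingCat.of k)) ⟶ V) (t : (EtCoh.top (Spec (CommRingCat.of k))).left),
      σ.left t = x := by
  let 𝒰 := V.left.affineOpenCover
  obtain ⟨x₀, hx₀⟩ := 𝒰.covers x
  let A : CommRingCat.{u} := 𝒰.X (𝒰.idx x)
  let j : Spec A ⟶ V.left := 𝒰.f (𝒰.idx x)
  let q : Spec A ⟶ Spec (CommRingCat.of k) := j ≫ V.hom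
  let φ : CommRingCat.of k ⟶ A := Spec.preimage q
  have hφq : Spec.map φ = q := Spec.map_preimage q
  have hq : Etale q := inferInstance
  have hφ : φ.hom.Etale := by
    have : Etale (Spec.map φ) := by rw [hφq]; exact hq
    exact HasRingHomProperty.Spec_iff.mp this
  let _ : Algebra k A := φ.hom.toAlgebra
  have hA : Algebra.Etale k A := RingHom.etale_algebraMap.mp hφ
  obtain ⟨ψ, hψ⟩ := exists_algHom_ker k A x₀.asIdeal
  let ψ' : A ⟶ CommRingCat.of k := CommRingCat.ofHom ψ.toRingHom
  have hcomp : φ ≫ ψ' = 𝟙 _ := by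
    apply CommRingCat.hom_ext
    apply RingHom.ext
    intro a
    exact ψ.commutes a
  have hover : (Spec.map ψ' ≫ j) ≫ V.hom = 𝟙 _ := by
    rw [Category.assoc]
    change Spec.map ψ' ≫ q = _
    rw [← hφq, ← Spec.map_comp, hcomp, Spec.map_id]
  let σ : EtCoh.top (Spec (CommRingCat.of k)) ⟶ V :=
    MorphismProperty.Over.homMk (Spec.map ψ' ≫ j) hover
  let t : Spec (CommRingCat.of k) := ⟨⊥, Ideal.isPrime_bot⟩
  refine ⟨σ, t, ?_⟩
  change (Spec.map ψ' ≫ j) t = x
  rw [Scheme.Hom.comp_apply, ← hx₀]
  congr 1
  apply PrimeSpectrum.ext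
  change Ideal.comap ψ.toRingHom ⊥ = x₀.asIdeal
  rw [← RingHom.ker_eq_comap_bot, hψ]


/-- notation -/
noncomputable abbrev Xk : Scheme.{u} := Spec (CommRingCat.of k)

lemma comp_from_eq_id {V : (Xk k).Etale} (σ : EtCoh.top (Xk k) ⟶ V) :
    σ ≫ (EtCore.topIsTerminal (Xk k)).from V = 𝟙 _ :=
  (EtCore.topIsTerminal (Xk k)).hom_ext _ _

/-- the counit presheaf map is locally bijective -/
lemma counit_W (F : EtDesc.Sh (Xk k)) :
    (Xk k).smallEtaleTopology.W
      ((constantPresheafAdj (Type (u + 1)) (EtCore.topIsTerminal (Xk k))).counit.app F.obj) := by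
  have hinj : Presheaf.IsLocallyInjective (Xk k).smallEtaleTopology
      ((constantPresheafAdj (Type (u + 1)) (EtCore.topIsTerminal (Xk k))).counit.app F.obj) := by
    constructor
    intro U a b hab
    obtain ⟨U⟩ := U
    by_cases hU : IsEmpty U.left
    · exact mem_of_isEmpty hU _
    · rw [not_isEmpty_iff] at hU
      obtain ⟨x⟩ := hU
      obtain ⟨σ, t, -⟩ := exists_section k U x
      have hab' : F.obj.map ((EtCore.topIsTerminal (Xk k)).from U).op a =
          F.obj.map ((EtCore.topIsTerminal (Xk k)).from U).op b := hab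
      have h2 := congrArg (F.obj.map σ.op) hab'
      have h3 : ∀ c : F.obj.obj (op (EtCoh.top (Xk k))),
          F.obj.map σ.op (F.obj.map ((EtCore.topIsTerminal (Xk k)).from U).op c) = c := by
        intro c
        rw [← FunctorToTypes.map_comp_apply, ← op_comp, comp_from_eq_id, op_id,
          FunctorToTypes.map_id_apply]
      rw [h3, h3] at h2
      have : a = b := h2
      subst this
      rw [Presheaf.equalizerSieve_self_eq_top]
      exact (Xk k).smallEtaleTopology.top_mem _
  have hsurj : Presheaf.IsLocallySurjective (Xk k).smallEtaleTopology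
      ((constantPresheafAdj (Type (u + 1)) (EtCore.topIsTerminal (Xk k))).counit.app F.obj) := by
    constructor
    intro U s
    rw [EtOpenSub.mem_smallEtaleTopology_iff']
    intro x
    obtain ⟨σ, t, ht⟩ := exists_section k U x
    refine ⟨EtCoh.top (Xk k), σ, t, ?_, ht⟩
    refine ⟨F.obj.map σ.op s, ?_⟩
    change F.obj.map ((EtCore.topIsTerminal (Xk k)).from (EtCoh.top (Xk k))).op (F.obj.map σ.op s) = _
    have : (EtCore.topIsTerminal (Xk k)).from (EtCoh.top (Xk k)) = 𝟙 _ :=
      (EtCore.topIsTerminal (Xk k)).hom_ext _ _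
    rw [this, op_id, FunctorToTypes.map_id_apply]
    rfl
  exact (Xk k).smallEtaleTopology.W_of_isLocallyBijective _

/-- the unit: sections over the point of the sheafification of a constant presheaf. -/
lemma unit_bijective (M : Type (u + 1)) :
    Function.Bijective ((toSheafify (Xk k).smallEtaleTopology
      ((Functor.const ((Xk k).Etale)ᵒᵖ).obj M)).app (op (EtCoh.top (Xk k)))) := by
  let P : ((Xk k).Etale)ᵒᵖ ⥤ Type (u + 1) := (Functor.const _).obj M
  let t₀ : (EtCoh.top (Xk k)).left := (⟨⊥, Ideal.isPrime_bot⟩ : Spec (CommRingCat.of k))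
  constructor
  · intro a b hab
    have h1 := Presheaf.equalizerSieve_mem (Xk k).smallEtaleTopology
      (toSheafify (Xk k).smallEtaleTopology P) (X := op (EtCoh.top (Xk k))) a b hab
    rw [EtOpenSub.mem_smallEtaleTopology_iff'] at h1
    obtain ⟨V, f, y, hf, -⟩ := h1 t₀
    exact hf
  · intro s
    have h1 := Presheaf.imageSieve_mem (Xk k).smallEtaleTopology
      (toSheafify (Xk k).smallEtaleTopology P) (U := op (EtCoh.top (Xk k))) s
    rw [EtOpenSub.mem_smallEtaleTopology_iff'] at h1
    obtain ⟨V, f, y, ⟨m, hm⟩, -⟩ := h1 t₀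
    obtain ⟨σ, -, -⟩ := exists_section k V y
    refine ⟨m, ?_⟩
    have hσf : σ ≫ f = 𝟙 _ := (EtCore.topIsTerminal (Xk k)).hom_ext _ _
    have h2 := congrArg ((sheafify (Xk k).smallEtaleTopology P).map σ.op) hm
    have h3 : (sheafify (Xk k).smallEtaleTopology P).map σ.op
        ((sheafify (Xk k).smallEtaleTopology P).map f.op s) = s := by
      rw [← FunctorToTypes.map_comp_apply, ← op_comp, hσf, op_id, FunctorToTypes.map_id_apply]
    rw [h3] at h2
    rw [← h2]
    exact NatTrans.naturality_apply (toSheafify (Xk k).smallEtaleTopology P) σ.op m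


/-- For a separably closed field k and X = Spec k, the global sections functor from sheaves of sets on
X_et (valued one universe up) to sets is an equivalence of categories. -/
theorem result (k : Type u) [Field k] [IsSepClosed k] :
    ((sheafSections (Spec (CommRingCat.of k)).smallEtaleTopology (Type (u + 1))).obj
      (op (EtCoh.top (Spec (CommRingCat.of k))))).IsEquivalence := by
  let adj := constantSheafAdj (Xk k).smallEtaleTopology (Type (u + 1)) (EtCore.topIsTerminal (Xk k))
  have hcounit : ∀ F, IsIso (adj.counit.app F) := by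
    intro F
    have h1 : IsIso ((presheafToSheaf (Xk k).smallEtaleTopology (Type (u + 1))).map
        ((constantPresheafAdj (Type (u + 1)) (EtCore.topIsTerminal (Xk k))).counit.app F.obj)) :=
      ((Xk k).smallEtaleTopology.W_iff _).1 (counit_W k F)
    have h2 : adj.counit.app F = (presheafToSheaf (Xk k).smallEtaleTopology (Type (u + 1))).map
        ((constantPresheafAdj (Type (u + 1)) (EtCore.topIsTerminal (Xk k))).counit.app F.obj) ≫
        (sheafificationAdjunction (Xk k).smallEtaleTopology (Type (u + 1))).counit.app F :=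
      constantSheafAdj_counit_app _ _ _ F
    have h3 : IsIso ((sheafificationAdjunction (Xk k).smallEtaleTopology (Type (u + 1))).counit.app F) :=
      inferInstance
    rw [h2]
    exact @IsIso.comp_isIso _ _ _ _ _ _ _ h1 h3
  have hunit : ∀ M, IsIso (adj.unit.app M) := by
    intro M
    have h2 : adj.unit.app M = (toSheafify (Xk k).smallEtaleTopology
        ((Functor.const ((Xk k).Etale)ᵒᵖ).obj M)).app (op (EtCoh.top (Xk k))) := by
      change ((constantPresheafAdj (Type (u + 1)) (EtCore.topIsTerminal (Xk k))).comp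
        (sheafificationAdjunction (Xk k).smallEtaleTopology (Type (u + 1)))).unit.app M = _
      rw [Adjunction.comp_unit_app, constantPresheafAdj_unit_app]
      rfl
    rw [h2, isIso_iff_bijective]
    exact unit_bijective k M
  exact (adj.toEquivalence).isEquivalence_inverse

end Groth.Agent.S3055
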