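import Groth.Statements.S3058
import Groth.Agent.Lib.Helper28.ToposFin7

set_option autoImplicit false
open CategoryTheory CategoryTheory.Limits Opposite
universe u
open ToposFin

open Groth.Agent.Lib.Helper28

namespace Groth.Agent.S3058

/-- For a topos of sheaves of sets on a small site: the coproduct of a small family of objects is
quasi-compact if and only if every member is quasi-compact and all but finitely many members are
initial (empty) objects. -/
theorem result {C : Type u} [SmallCategory C] {J : GrothendieckTopology C} {ι : Type u}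
    (F : ι → ToposFin.Sh J) :
    ToposFin.IsQC (∐ F) ↔ (∀ i, ToposFin.IsQC (F i)) ∧ {i | IsEmpty (F i ≅ ⊥_ (ToposFin.Sh J))}.Finite := by
  classical
  have hc : IsColimit (Cofan.mk (∐ F) (Sigma.ι F)) := coproductIsCoproduct F
  constructor
  · intro h
    refine ⟨fun i => isQC_of_summand (Cofan.mk (∐ F) (Sigma.ι F)) hc h i, ?_⟩
    obtain ⟨s, hs⟩ := (isQC_iff _).mp h ι F (Sigma.ι F)
      (JointlyEpi.of_isColimit (Cofan.mk (∐ F) (Sigma.ι F)) hc)
    refine Set.Finite.subset s.finite_toSet ?_
    intro i hi
    by_contra his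
    have hne : Nonempty (F i ≅ ⊥_ (ToposFin.Sh J)) := by
      apply nonempty_iso_initial_of_subsingleton_hom
      intro Z a b
      apply hs.pullback_snd (Sigma.ι F i)
      intro j
      apply hom_ext_of_iso_initial
      refine nonempty_iso_initial_of_cofan_ne (Cofan.mk (∐ F) (Sigma.ι F)) hc
        (i := (j : ι)) (j := i) ?_ (pullback.fst (Sigma.ι F j) (Sigma.ι F i))
        (pullback.snd (Sigma.ι F j) (Sigma.ι F i)) pullback.condition
      rintro rfl
      exact his j.2
    exact hi.false hne.some
  · rintro ⟨h1, h2⟩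
    haveI := h2.to_subtype
    refine isQC_of_finite_cover' (κ := {i | IsEmpty (F i ≅ ⊥_ (ToposFin.Sh J))})
      (fun i => Sigma.ι F i) ?_ (fun i => h1 i)
    intro Z a b hab
    apply Sigma.hom_ext
    intro i
    by_cases hi : IsEmpty (F i ≅ ⊥_ (ToposFin.Sh J))
    · exact hab ⟨i, hi⟩
    · exact hom_ext_of_iso_initial (not_isEmpty_iff.mp hi) _ _

end Groth.Agent.S3058
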