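import Groth.Statements.S3075
import Groth.Agent.Lib.Helper28.ToposFin5

set_option autoImplicit false
open CategoryTheory CategoryTheory.Limits Opposite
universe u
open ToposFin

open Groth.Agent.Lib.Helper28

namespace Groth.Agent.S3075

/-- For a topos of sheaves of sets on a small site admitting a generating family of quasi-compact
objects: if (g_i : Y_i -> Y) is a jointly epimorphic family with every Y_i quasi-separated and every
g_i quasi-compact, then Y is quasi-separated. -/
theorem result {C : Type u} [SmallCategory C] {J : GrothendieckTopology C} (hE : ToposFin.HasQCGenerators J) {Y : ToposFin.Sh J}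
    {ι : Type u} (Yi : ι → ToposFin.Sh J) (g : ∀ i, Yi i ⟶ Y) (hg : Epi (Sigma.desc g))
    (hqs : ∀ i, ToposFin.IsQS (Yi i)) (hqc : ∀ i, ToposFin.IsQCHom (g i)) : ToposFin.IsQS Y := by
  have hgen := isGenerating_of_hasQCGenerators hE
  have hg' : JointlyEpi g := (epi_sigmaDesc_iff g).mp hg
  intro A B a b hA hB
  obtain ⟨κ, _, M, μ, idx, α, hM, hμ, hc⟩ := exists_finite_cover_refining hgen hA a g hg'
  refine isQC_of_finite_cover _ (hμ.pullback_snd (pullback.fst a b)) (fun p => ?_)
  refine isQC_of_iso (pullbackRightPullbackFstIso a b (μ p)).symm ?_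
  refine isQC_of_iso (pullback.congrHom (hc p) rfl).symm ?_
  refine isQC_of_iso (pullbackRightPullbackFstIso (g (idx p)) b (α p)) ?_
  exact hqs (idx p) _ _ (α p) (pullback.fst (g (idx p)) b) (hM p) (hqc (idx p) B b hB)

end Groth.Agent.S3075
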