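import Groth.Statements.S3070
import Groth.Agent.Lib.Helper28.ToposFin6

set_option autoImplicit false
open CategoryTheory CategoryTheory.Limits Opposite
universe u
open ToposFin

open Groth.Agent.Lib.Helper28

namespace Groth.Agent.S3070

/-- For a topos of sheaves of sets on a small site admitting a generating family of quasi-compact
objects: let f : X -> Y and let (g_i : X_i -> X) be a jointly epimorphic family with every X_i
quasi-compact and every X_i x_Y X_j quasi-separated. If X is quasi-separated then f is a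
quasi-separated morphism. -/
theorem result {C : Type u} [SmallCategory C] {J : GrothendieckTopology C} (hE : ToposFin.HasQCGenerators J)
    {X Y : ToposFin.Sh J} (f : X ⟶ Y) {ι : Type u} (Xi : ι → ToposFin.Sh J) (g : ∀ i, Xi i ⟶ X)
    (hg : Epi (Sigma.desc g)) (hqc : ∀ i, ToposFin.IsQC (Xi i))
    (hqs : ∀ i j, ToposFin.IsQS (pullback (g i ≫ f) (g j ≫ f))) (hX : ToposFin.IsQS X) :
    ToposFin.IsQSHom f := by
  have hgen := isGenerating_of_hasQCGenerators hE
  have hg' : JointlyEpi g := (epi_sigmaDesc_iff g).mp hg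
  -- core case
  have core : ∀ (W : ToposFin.Sh J), ToposFin.IsQC W → ∀ (i j : ι) (α' : W ⟶ Xi i) (β' : W ⟶ Xi j)
      (a' b' : W ⟶ X), a' = α' ≫ g i → b' = β' ≫ g j → a' ≫ f = b' ≫ f →
      ToposFin.IsQC (equalizer a' b') := by
    intro W hW i j α' β' a' b' ha' hb' hab'
    have hR : ToposFin.IsQC (pullback (g i) (g j)) := hX _ _ (g i) (g j) (hqc i) (hqc j)
    let ρ : pullback (g i) (g j) ⟶ pullback (g i ≫ f) (g j ≫ f) :=
      pullback.map (g i) (g j) (g i ≫ f) (g j ≫ f) (𝟙 _) (𝟙 _) f (by simp) (by simp)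
    have hρ1 : ρ ≫ pullback.fst (g i ≫ f) (g j ≫ f) = pullback.fst (g i) (g j) :=
      (pullback.lift_fst _ _ _).trans (Category.comp_id _)
    have hρ2 : ρ ≫ pullback.snd (g i ≫ f) (g j ≫ f) = pullback.snd (g i) (g j) :=
      (pullback.lift_snd _ _ _).trans (Category.comp_id _)
    have hτc : α' ≫ g i ≫ f = β' ≫ g j ≫ f := by
      rw [← Category.assoc, ← ha', ← Category.assoc, ← hb', hab']
    let τ : W ⟶ pullback (g i ≫ f) (g j ≫ f) := pullback.lift α' β' hτc
    have hτ1 : τ ≫ pullback.fst (g i ≫ f) (g j ≫ f) = α' := pullback.lift_fst _ _ _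
    have hτ2 : τ ≫ pullback.snd (g i ≫ f) (g j ≫ f) = β' := pullback.lift_snd _ _ _
    have hE' : ToposFin.IsQC (pullback τ ρ) := hqs i j _ _ τ ρ hW hR
    have ht : pullback.fst τ ρ ≫ a' = pullback.fst τ ρ ≫ b' := by
      have h1 : pullback.fst τ ρ ≫ α' = pullback.snd τ ρ ≫ pullback.fst (g i) (g j) := by
        rw [← hτ1, ← Category.assoc, pullback.condition, Category.assoc, hρ1]
      have h2 : pullback.fst τ ρ ≫ β' = pullback.snd τ ρ ≫ pullback.snd (g i) (g j) := by
        rw [← hτ2, ← Category.assoc, pullback.condition, Category.assoc, hρ2]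
      rw [ha', hb', ← Category.assoc, h1, ← Category.assoc, h2, Category.assoc, Category.assoc,
        pullback.condition]
    have hrc : (equalizer.ι a' b' ≫ α') ≫ g i = (equalizer.ι a' b' ≫ β') ≫ g j := by
      rw [Category.assoc, Category.assoc, ← ha', ← hb', equalizer.condition]
    let r : equalizer a' b' ⟶ pullback (g i) (g j) :=
      pullback.lift (equalizer.ι a' b' ≫ α') (equalizer.ι a' b' ≫ β') hrc
    have hr1 : r ≫ pullback.fst (g i) (g j) = equalizer.ι a' b' ≫ α' := pullback.lift_fst _ _ _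
    have hr2 : r ≫ pullback.snd (g i) (g j) = equalizer.ι a' b' ≫ β' := pullback.lift_snd _ _ _
    have hsc : equalizer.ι a' b' ≫ τ = r ≫ ρ := by
      apply pullback.hom_ext
      · rw [Category.assoc, Category.assoc, hτ1, hρ1, hr1]
      · rw [Category.assoc, Category.assoc, hτ2, hρ2, hr2]
    exact isQC_equalizer_of_factor a' b' hE' (pullback.fst τ ρ) ht
      (pullback.lift (equalizer.ι a' b') r hsc) (pullback.lift_fst _ _ _)
  apply isQSHom_of_generating hgen
  intro K hK a b hab
  obtain ⟨κ, _, M, μ, idx, α, hM, hμ, hc⟩ := exists_finite_cover_refining hgen hK a g hg'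
  refine isQC_equalizer_of_cover a b μ hμ (fun p => ?_)
  obtain ⟨κ', _, N, ν, idx', β, hN, hν, hc'⟩ :=
    exists_finite_cover_refining hgen (hM p) (μ p ≫ b) g hg'
  refine isQC_equalizer_of_cover _ _ ν hν (fun q => ?_)
  refine core (N q) (hN q) (idx p) (idx' q) (ν q ≫ α p) (β q) _ _ ?_ (hc' q) ?_
  · rw [Category.assoc, hc p]
  · rw [Category.assoc, Category.assoc, Category.assoc, Category.assoc, hab]

end Groth.Agent.S3070
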