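import Groth.Statements.S3071
import Groth.Agent.Lib.Helper28.ToposFin6

set_option autoImplicit false
open CategoryTheory CategoryTheory.Limits Opposite
universe u
open ToposFin

open Groth.Agent.Lib.Helper28

namespace Groth.Agent.S3071

/-- Implication (ii bis) => (i bis), for a topos of sheaves of sets on a small site: suppose given a
generating family of coherent objects G_a such that every product G_a x G_b is quasi-separated. Then
for every morphism f : X -> Y with X quasi-separated, f is quasi-separated. -/
theorem result {C : Type u} [SmallCategory C] {J : GrothendieckTopology C} {α : Type u} (G : α → ToposFin.Sh J)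
    (hG : ∀ a, ToposFin.IsCoherent (G a))
    (hgen : ∀ X : ToposFin.Sh J, ∃ (ι : Type u) (a : ι → α) (π : ∀ i, G (a i) ⟶ X), Epi (Sigma.desc π))
    (hprod : ∀ a b, ToposFin.IsQS (G a ⨯ G b)) {X Y : ToposFin.Sh J} (f : X ⟶ Y) (hX : ToposFin.IsQS X) :
    ToposFin.IsQSHom f := by
  apply isQSHom_of_generating (isGenerating_range G hgen)
  rintro K ⟨c, rfl⟩ a b hab
  have hP : ToposFin.IsQC (pullback a b) := hX _ _ a b (hG c).1 (hG c).1
  let π : pullback a b ⟶ G c ⨯ G c := prod.lift (pullback.fst a b) (pullback.snd a b)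
  let Δ : G c ⟶ G c ⨯ G c := prod.lift (𝟙 _) (𝟙 _)
  have hπ1 : π ≫ prod.fst = pullback.fst a b := prod.lift_fst _ _
  have hπ2 : π ≫ prod.snd = pullback.snd a b := prod.lift_snd _ _
  have hΔ1 : Δ ≫ prod.fst = 𝟙 _ := prod.lift_fst _ _
  have hΔ2 : Δ ≫ prod.snd = 𝟙 _ := prod.lift_snd _ _
  have hE' : ToposFin.IsQC (pullback π Δ) := hprod c c _ _ π Δ hP (hG c).1
  have ht1 : pullback.snd π Δ = pullback.fst π Δ ≫ pullback.fst a b := by
    have := pullback.condition (f := π) (g := Δ) =≫ prod.fst
    rw [Category.assoc, Category.assoc, hπ1, hΔ1, Category.comp_id] at this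
    exact this.symm
  have ht2 : pullback.snd π Δ = pullback.fst π Δ ≫ pullback.snd a b := by
    have := pullback.condition (f := π) (g := Δ) =≫ prod.snd
    rw [Category.assoc, Category.assoc, hπ2, hΔ2, Category.comp_id] at this
    exact this.symm
  have ht : pullback.snd π Δ ≫ a = pullback.snd π Δ ≫ b := by
    conv_lhs => rw [ht1]
    conv_rhs => rw [ht2]
    rw [Category.assoc, Category.assoc, pullback.condition]
  let d : equalizer a b ⟶ pullback a b :=
    pullback.lift (equalizer.ι a b) (equalizer.ι a b) (equalizer.condition a b)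
  have hd1 : d ≫ pullback.fst a b = equalizer.ι a b := pullback.lift_fst _ _ _
  have hd2 : d ≫ pullback.snd a b = equalizer.ι a b := pullback.lift_snd _ _ _
  have hsc : d ≫ π = equalizer.ι a b ≫ Δ := by
    apply Limits.prod.hom_ext
    · rw [Category.assoc, Category.assoc, hπ1, hΔ1, hd1, Category.comp_id]
    · rw [Category.assoc, Category.assoc, hπ2, hΔ2, hd2, Category.comp_id]
  exact isQC_equalizer_of_factor a b hE' (pullback.snd π Δ) ht
    (pullback.lift d (equalizer.ι a b) hsc) (pullback.lift_snd _ _ _)

end Groth.Agent.S3071
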