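import Groth.Statements.S3078
import Groth.Agent.Lib.Helper74.Giraud.EssSurj

set_option autoImplicit false
universe v u
open CategoryTheory
open SGA4

namespace Groth.Agent.S3078

open CategoryTheory.Limits in
/-- Implication ii) ⇒ i): let E be a category whose hom sets are u-small. Assume (a) E has finite
limits, (b) every u-small family of objects has a coproduct which is disjoint and stable under base
change, (c) every equivalence relation in E is effective with a universally effective-epimorphic
quotient map, and (d) E has a u-small family of objects which detects isomorphisms (a generating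
family). Then E is equivalent to the category of sheaves of u-small sets on some u-small site. -/
theorem result {E : Type v} [Category.{u} E] [HasFiniteLimits E]
    (hb : SGA4.HasDisjointUniversalCoproducts.{v, u} E)
    (hc : ∀ (R A : E) (p₁ p₂ : R ⟶ A), SGA4.IsEquivRel p₁ p₂ → SGA4.IsEffectiveUniversalEquivRel p₁ p₂)
    (hd : ∃ P : ObjectProperty E, ObjectProperty.Small.{u} P ∧ P.IsDetecting) :
    SGA4.IsTopos.{v, u} E := by
  obtain ⟨P, hsmall, hdet⟩ := hd
  let ob : Shrink.{u} (Subtype P) → E := fun s => ((equivShrink.{u} (Subtype P)).symm s).1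
  let C := InducedCategory E ob
  let i : C ⥤ E := inducedFunctor ob
  have hdet' : ∀ ⦃X Y : E⦄ (f : X ⟶ Y),
      (∀ (U : C) (h : i.obj U ⟶ Y), ∃! h' : i.obj U ⟶ X, h' ≫ f = h) → IsIso f := by
    intro X Y f hf
    apply hdet f
    intro G hG h
    have key : ∀ (s : Shrink.{u} (Subtype P)) (x : Subtype P),
        (equivShrink.{u} (Subtype P)).symm s = x →
        ∀ h : x.1 ⟶ Y, ∃! h' : x.1 ⟶ X, h' ≫ f = h := by
      rintro s x rfl h
      exact hf s h
    exact key (equivShrink.{u} (Subtype P) ⟨G, hG⟩) ⟨G, hG⟩ (Equiv.symm_apply_apply _ _) h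
  have : i.IsCoverDense (Sheaf.canonicalTopology E) :=
    ⟨Groth.Agent.Lib.Helper74.Giraud.coverByImage_mem hc hb i hdet'⟩
  have := Groth.Agent.Lib.Helper74.Giraud.isEquivalence_Φ i hb hc
  exact ⟨C, inferInstance, Groth.Agent.Lib.Helper74.Giraud.Jind i,
    ⟨(Groth.Agent.Lib.Helper74.Giraud.Φ i).asEquivalence⟩⟩

end Groth.Agent.S3078
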