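import Groth.Statements.S6159
import Groth.Agent.Lib.Helper74.CanonicalTopos

set_option autoImplicit false
universe u
open CategoryTheory
open SGA4

set_option linter.unusedSectionVars false

namespace Groth.Agent.S6159.Aux

open CategoryTheory.Limits Opposite Groth.Agent.Lib.Helper74.CanonicalTopos

variable {C D : Type u} [SmallCategory C] [SmallCategory D]
  {J : GrothendieckTopology C} {K : GrothendieckTopology D}
  (f : Sheaf J (Type u) ⥤ Sheaf K (Type u))

lemma isContinuous_of_preservesColimits [PreservesColimitsOfSize.{u, u} f] :
    f.IsContinuous.{u} (Sheaf.canonicalTopology (Sheaf J (Type u)))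
      (Sheaf.canonicalTopology (Sheaf K (Type u))) := by
  constructor
  intro G
  have hG : Presieve.IsSheaf (Sheaf.canonicalTopology (Sheaf K (Type u))) G.obj :=
    (isSheaf_iff_isSheaf_of_type _ _).mp G.property
  have hc := cont_of_isSheaf hG
  apply isSheaf_of_cont
  intro K' _ D' c hcol s hs
  exact hc K' (D' ⋙ f) (f.mapCocone c) (isColimitOfPreserves f hcol) s hs

lemma preservesColimits_of_isContinuous
    (hf : f.IsContinuous.{u} (Sheaf.canonicalTopology (Sheaf J (Type u)))
      (Sheaf.canonicalTopology (Sheaf K (Type u)))) : PreservesColimitsOfSize.{u, u} f := by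
  refine ⟨fun {K'} _ => ⟨fun {D'} => ⟨fun {c} hcol => ⟨?_⟩⟩⟩⟩
  apply IsColimit.ofExistsUnique
  intro s
  -- the representable sheaf attached to `s.pt`, lifted to `Type (u+1)`
  let GH : Sheaf (Sheaf.canonicalTopology (Sheaf K (Type u))) (Type (u + 1)) :=
    ⟨yoneda.obj s.pt ⋙ uliftFunctor.{u + 1}, by
      rw [isSheaf_iff_isSheaf_of_type, Presieve.isSheaf_comp_uliftFunctor_iff]
      exact Sheaf.isSheaf_yoneda_obj s.pt⟩
  have hsh := hf.op_comp_isSheaf_of_types GH
  have hc := cont_of_isSheaf hsh
  obtain ⟨t, ht, htu⟩ := hc K' D' c hcol (fun k => ULift.up (s.ι.app k)) (by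
    intro k l φ
    apply ULift.ext
    exact s.w φ)
  refine ⟨t.down, fun k => congr_arg ULift.down (ht k), fun t' ht' => ?_⟩
  have := htu (ULift.up t') (fun k => by
    apply ULift.ext
    exact ht' k)
  exact congr_arg ULift.down this

end Groth.Agent.S6159.Aux

namespace Groth.Agent.S6159

open CategoryTheory.Limits in
/-- Sheaf topoi on small sites (C, J), (D, K), each with its canonical topology: a functor f from
sheaves of sets on C to sheaves of sets on D commutes with all u-small colimits if and only if it is
continuous, i.e. composition with f carries every sheaf of sets for the canonical topology of the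
target to a sheaf for the canonical topology of the source. (Continuity is Mathlib's
`Functor.IsContinuous`: on these large sites it tests sheaves with values in the next universe,
`Type (u+1)`, which is the source's choice of a larger universe for the test sheaves; the hom
universe is u. The equivalence of both conditions with f being a left adjoint is a separate result,
not stated here.) -/
theorem result {C D : Type u} [SmallCategory C] [SmallCategory D]
    (J : GrothendieckTopology C) (K : GrothendieckTopology D) (f : Sheaf J (Type u) ⥤ Sheaf K (Type u)) :
    PreservesColimitsOfSize.{u, u} f ↔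
      f.IsContinuous.{u} (Sheaf.canonicalTopology (Sheaf J (Type u))) (Sheaf.canonicalTopology (Sheaf K (Type u))) := by
  exact ⟨fun _ => Aux.isContinuous_of_preservesColimits f, Aux.preservesColimits_of_isContinuous f⟩

end Groth.Agent.S6159
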