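import Groth.Statements.S3080
import Groth.Agent.S6159
import Groth.Agent.Lib.Helper74.CanonicalTopos
import Mathlib

set_option autoImplicit false
universe v u
open CategoryTheory
open SGA4

set_option linter.unusedSectionVars false

namespace Groth.Agent.S3080.Aux

open CategoryTheory.Limits Opposite

open Groth.Agent.Lib.Helper74.CanonicalTopos

variable {C D : Type u} [SmallCategory C] [SmallCategory D]
  {J : GrothendieckTopology C} {K : GrothendieckTopology D}
  (f : Sheaf J (Type u) ⥤ Sheaf K (Type u))

/-- the extension of `f` to presheaves -/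
noncomputable abbrev Lf : (Cᵒᵖ ⥤ Type u) ⥤ Sheaf K (Type u) := presheafToSheaf J (Type u) ⋙ f

/-- the restriction of `f` to representables -/
noncomputable abbrev Af : C ⥤ Sheaf K (Type u) := yoneda ⋙ Lf f

noncomputable def adjL [PreservesColimitsOfSize.{u, u} f] :
    Lf f ⊣ Presheaf.restrictedULiftYoneda.{u, u, u, u, u + 1} (Af f) := by
  have h1 : HasColimitsOfSize.{u, u} (Sheaf K (Type u)) := CategoryTheory.Sheaf.instHasColimitsOfSize
  let e : Af f ≅ uliftYoneda.{u} ⋙ Lf f :=
    Functor.isoWhiskerRight (uliftYonedaIsoYoneda.{u}).symm (Lf f)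
  have h2 : (uliftYoneda.{u} (C := C)).HasPointwiseLeftKanExtension (Af f) := inferInstance
  have h3 : (Lf f).IsLeftKanExtension e.hom := Presheaf.isLeftKanExtension_of_preservesColimits.{u, u, u, u, u + 1} _ e
  exact Presheaf.uliftYonedaAdjunction.{u, u, u, u, u + 1} (Lf f) e.hom


lemma W_functorInclusion {X : C} (S : Sieve X) (hS : S ∈ J X) : J.W (A := Type u) S.functorInclusion := by
  intro Z hZ
  rw [isSheaf_iff_isSheaf_of_type] at hZ
  have h := (Presieve.isSheafFor_iff_yonedaSheafCondition).mp (hZ S hS)
  rw [Function.bijective_iff_existsUnique]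
  intro φ
  exact h φ

lemma isIso_Lf_map_functorInclusion {X : C} (S : Sieve X) (hS : S ∈ J X) :
    IsIso ((Lf f).map S.functorInclusion) := by
  have : IsIso ((presheafToSheaf J (Type u)).map S.functorInclusion) :=
    (J.W_iff _).mp (W_functorInclusion S hS)
  exact Functor.map_isIso f _

/-- the values of the right adjoint are sheaves -/
lemma isSheaf_R0 [PreservesColimitsOfSize.{u, u} f] (H : Sheaf K (Type u)) :
    Presheaf.IsSheaf J ((Presheaf.restrictedULiftYoneda.{u, u, u, u, u + 1} (Af f)).obj H) := by
  rw [isSheaf_iff_isSheaf_of_type]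
  intro X S hS
  rw [Presieve.isSheafFor_iff_yonedaSheafCondition]
  have hiso := isIso_Lf_map_functorInclusion f S hS
  have hbij : Function.Bijective
      (fun g' : (Lf f).obj (yoneda.obj X) ⟶ H => (Lf f).map S.functorInclusion ≫ g') :=
    ⟨fun a b h => (cancel_epi _).mp h, fun b => ⟨inv ((Lf f).map S.functorInclusion) ≫ b, by simp⟩⟩
  have hb2 := ((adjL f).homEquiv S.functor H).bijective.comp
    (hbij.comp ((adjL f).homEquiv (yoneda.obj X) H).symm.bijective)
  intro φ
  have := (Function.bijective_iff_existsUnique _).mp hb2 φ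
  convert this using 2
  rename_i g
  simp only [Function.comp_apply]
  rw [Adjunction.homEquiv_naturality_left, Equiv.apply_symm_apply]

/-- the right adjoint -/
noncomputable def Rf [PreservesColimitsOfSize.{u, u} f] : Sheaf K (Type u) ⥤ Sheaf J (Type u) :=
  ObjectProperty.lift _ (Presheaf.restrictedULiftYoneda.{u, u, u, u, u + 1} (Af f)) (isSheaf_R0 f)

/-- the adjunction -/
noncomputable def adjf [PreservesColimitsOfSize.{u, u} f] : f ⊣ Rf f :=
  (adjL f).restrictFullyFaithful (iC := sheafToPresheaf J (Type u)) (iD := 𝟭 _)
    (fullyFaithfulSheafToPresheaf J (Type u)) (Functor.FullyFaithful.id _)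
    (comm1 := (Functor.associator _ _ _).symm ≪≫
      Functor.isoWhiskerRight (sheafificationNatIso J (Type u)).symm f ≪≫
      Functor.leftUnitor f ≪≫ (Functor.rightUnitor f).symm)
    (comm2 := Functor.leftUnitor _)


/-- a left exact functor preserving small epimorphic families is continuous for the canonical
topologies -/
lemma isContinuous_of_lex_epi [PreservesFiniteLimits f]
    (hf : SGA4.PreservesEpiFamilies.{u + 1, u + 1, u} f) :
    f.IsContinuous.{u} (Sheaf.canonicalTopology (Sheaf J (Type u)))
      (Sheaf.canonicalTopology (Sheaf K (Type u))) := by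
  have hflat : RepresentablyFlat f := flat_of_preservesFiniteLimits f
  apply Functor.isContinuous_of_coverPreserving (compatiblePreservingOfFlat _ f)
  constructor
  intro U S hS
  refine mem_canonical_of_jointly_epi K (S.functorPushforward f)
    (fun p : (Σ T : C, {σ : (gen J).obj T ⟶ U // S.arrows σ}) => f.obj ((gen J).obj p.1))
    (fun p => f.map p.2.1) (fun p => Sieve.image_mem_functorPushforward f S p.2.2) ?_
  apply hf
  intro Z a b hab
  apply (Sheaf.isSheaf_yoneda_obj Z S hS).isSeparatedFor.ext
  intro Y m hm
  change m ≫ a = m ≫ b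
  apply hom_ext_gen
  intro T σ
  rw [← Category.assoc, ← Category.assoc]
  exact hab ⟨T, σ ≫ m, S.downward_closed hm σ⟩

end Groth.Agent.S3080.Aux


namespace Groth.Agent.S3080

open CategoryTheory.Limits in
/-- Let (C, J) and (D, K) be small sites and f a functor from sheaves of sets on (C, J) to sheaves of
sets on (D, K) which preserves finite limits and sends u-small jointly epimorphic families to
jointly epimorphic families. Then f is a left adjoint (so it is the inverse-image functor of a
morphism of topoi) and f preserves all u-small colimits. -/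
theorem result {C D : Type u} [SmallCategory C] [SmallCategory D]
    (J : GrothendieckTopology C) (K : GrothendieckTopology D) (f : Sheaf J (Type u) ⥤ Sheaf K (Type u))
    [PreservesFiniteLimits f] (hf : SGA4.PreservesEpiFamilies.{u + 1, u + 1, u} f) :
    f.IsLeftAdjoint ∧ PreservesColimitsOfSize.{u, u} f := by
  have hcont := Aux.isContinuous_of_lex_epi f hf
  have hpres : PreservesColimitsOfSize.{u, u} f :=
    Groth.Agent.S6159.Aux.preservesColimits_of_isContinuous f hcont
  exact ⟨(Aux.adjf f).isLeftAdjoint, hpres⟩

end Groth.Agent.S3080
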