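import Groth.Statements.S3082
import Mathlib.CategoryTheory.Sites.Sheafification
import Mathlib.CategoryTheory.Sites.SheafOfTypes

set_option autoImplicit false
universe u
open CategoryTheory
open SGA4

namespace Groth.Agent.S3082

open Opposite

section
variable {C : Type u} [SmallCategory C] (J : GrothendieckTopology C)

/-- sections over `Z` as morphisms out of the sheafified representable -/
noncomputable def theta (Z : C) (F : Sheaf J (Type u)) :
    ((presheafToSheaf J (Type u)).obj (yoneda.obj Z) ⟶ F) ≃ F.obj.obj (op Z) :=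
  ((sheafificationAdjunction J (Type u)).homEquiv (yoneda.obj Z) F).trans yonedaEquiv

lemma theta_comp (Z : C) {F F' : Sheaf J (Type u)} (f : F ⟶ F')
    (h : (presheafToSheaf J (Type u)).obj (yoneda.obj Z) ⟶ F) :
    theta J Z F' (h ≫ f) = f.hom.app (op Z) (theta J Z F h) := by
  unfold theta
  simp only [Equiv.trans_apply]
  rw [Adjunction.homEquiv_naturality_right]
  exact yonedaEquiv_comp _ _

lemma nat_apply {F F' : Sheaf J (Type u)} (f : F ⟶ F') {X W : C} (k : W ⟶ X)
    (s : F.obj.obj (op X)) :
    f.hom.app (op W) (F.obj.map k.op s) = F'.obj.map k.op (f.hom.app (op X) s) :=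
  NatTrans.naturality_apply f.hom k.op s

end

/-- Let (C, J) be a small site and G a set of objects of C such that each object of C has a covering
family whose members all lie in G. Then the sheafifications of the presheaves represented by the
members of G form a detecting family in the category Sh(C, J) of set-valued sheaves on (C, J): any
morphism of sheaves that is bijective on sections over each member of G is an isomorphism. -/
theorem result {C : Type u} [SmallCategory C] (J : GrothendieckTopology C) (G : Set C)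
    (hG : ∀ X : C, ∃ (ι : Type u) (Y : ι → C) (f : ∀ i, Y i ⟶ X), Sieve.ofArrows Y f ∈ J X ∧ ∀ i, Y i ∈ G) :
    (ObjectProperty.ofObj fun X : G => (presheafToSheaf J (Type u)).obj (yoneda.obj (X : C))).IsDetecting := by
  intro F F' f hf
  have hF : Presieve.IsSheaf J F.obj := (isSheaf_iff_isSheaf_of_type J F.obj).mp F.property
  have hF' : Presieve.IsSheaf J F'.obj := (isSheaf_iff_isSheaf_of_type J F'.obj).mp F'.property
  -- Step 0
  have hbij : ∀ Z ∈ G, Function.Bijective (f.hom.app (op Z)) := by
    intro Z hZ
    have hfZ := hf _ (ObjectProperty.ofObj.mk (⟨Z, hZ⟩ : G))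
    constructor
    · intro a b hab
      obtain ⟨h₀, -, huniq⟩ := hfZ ((theta J Z F').symm (f.hom.app (op Z) a))
      have ha : (theta J Z F).symm a ≫ f = (theta J Z F').symm (f.hom.app (op Z) a) := by
        apply (theta J Z F').injective
        rw [theta_comp, Equiv.apply_symm_apply, Equiv.apply_symm_apply]
      have hb : (theta J Z F).symm b ≫ f = (theta J Z F').symm (f.hom.app (op Z) a) := by
        apply (theta J Z F').injective
        rw [theta_comp, Equiv.apply_symm_apply, Equiv.apply_symm_apply, hab]
      have := (huniq _ ha).trans (huniq _ hb).symm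
      exact (theta J Z F).symm.injective this
    · intro t
      obtain ⟨h', hh', -⟩ := hfZ ((theta J Z F').symm t)
      refine ⟨theta J Z F h', ?_⟩
      rw [← theta_comp, hh', Equiv.apply_symm_apply]
  -- Step 1
  have hinj : ∀ X : C, Function.Injective (f.hom.app (op X)) := by
    intro X s t hst
    obtain ⟨ι, Y, g, hcov, hYG⟩ := hG X
    apply (hF _ hcov).isSeparatedFor.ext
    intro W k hk
    obtain ⟨i, a, rfl⟩ := (Sieve.mem_ofArrows_iff Y g k).mp hk
    rw [op_comp, F.obj.map_comp]
    show F.obj.map a.op (F.obj.map (g i).op s) = F.obj.map a.op (F.obj.map (g i).op t)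
    congr 1
    apply (hbij (Y i) (hYG i)).1
    rw [nat_apply, nat_apply, hst]
  -- Step 2
  have hsurj : ∀ X : C, Function.Surjective (f.hom.app (op X)) := by
    intro X t
    obtain ⟨ι, Y, g, hcov, hYG⟩ := hG X
    have hex : ∀ ⦃W : C⦄ (k : W ⟶ X), (Sieve.ofArrows Y g).arrows k →
        ∃ y : F.obj.obj (op W), f.hom.app (op W) y = F'.obj.map k.op t := by
      intro W k hk
      obtain ⟨i, a, rfl⟩ := (Sieve.mem_ofArrows_iff Y g k).mp hk
      obtain ⟨si, hsi⟩ := (hbij (Y i) (hYG i)).2 (F'.obj.map (g i).op t)
      refine ⟨F.obj.map a.op si, ?_⟩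
      rw [nat_apply, hsi, op_comp, F'.obj.map_comp]
      rfl
    let x : Presieve.FamilyOfElements F.obj (Sieve.ofArrows Y g).arrows :=
      fun W k hk => (hex k hk).choose
    have hx : ∀ ⦃W : C⦄ (k : W ⟶ X) (hk : (Sieve.ofArrows Y g).arrows k),
        f.hom.app (op W) (x k hk) = F'.obj.map k.op t := fun W k hk => (hex k hk).choose_spec
    have hcompat : x.Compatible := by
      intro Y₁ Y₂ Z g₁ g₂ f₁ f₂ h₁ h₂ hcomm
      apply hinj Z
      rw [nat_apply, nat_apply, hx f₁ h₁, hx f₂ h₂]
      have e1 : F'.obj.map g₁.op (F'.obj.map f₁.op t) = F'.obj.map (g₁ ≫ f₁).op t := by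
        rw [op_comp, F'.obj.map_comp]; rfl
      have e2 : F'.obj.map g₂.op (F'.obj.map f₂.op t) = F'.obj.map (g₂ ≫ f₂).op t := by
        rw [op_comp, F'.obj.map_comp]; rfl
      rw [e1, e2, hcomm]
    refine ⟨(hF _ hcov).amalgamate x hcompat, ?_⟩
    apply (hF' _ hcov).isSeparatedFor.ext
    intro W k hk
    rw [← nat_apply, (hF _ hcov).valid_glue hcompat k hk, hx k hk]
  -- Step 3
  have hiso : IsIso f.hom := by
    have : ∀ X : Cᵒᵖ, IsIso (f.hom.app X) := fun X => by
      rw [isIso_iff_bijective]
      exact ⟨hinj X.unop, hsurj X.unop⟩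
    exact NatIso.isIso_of_isIso_app f.hom
  exact (isIso_iff_of_reflects_iso f (sheafToPresheaf J (Type u))).mp hiso

end Groth.Agent.S3082
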