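import Groth.Statements.S3084
import Groth.Agent.Lib.Helper74.ClosedCompl
-- import your own Groth.Agent.* helpers here

set_option autoImplicit false
universe u
open CategoryTheory
open SGA4

namespace Groth.Agent.S3084

open CategoryTheory.Limits in
/-- For sheaves of sets on a small site: let U be an open, j^* = (X ↦ U × X over U) the restriction to
the open subtopos E/U and i^* any left adjoint of the inclusion of the closed complement of U. A
morphism m of E is an isomorphism if and only if both j^*(m) and i^*(m) are isomorphisms. -/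
theorem result {C : Type u} [SmallCategory C] (J : GrothendieckTopology C)
    (U : Sheaf J (Type u)) (hU : SGA4.IsOpen U)
    (L : Sheaf J (Type u) ⥤ (SGA4.closedCompl U).FullSubcategory) (adj : L ⊣ (SGA4.closedCompl U).ι)
    {X Y : Sheaf J (Type u)} (m : X ⟶ Y) :
    IsIso m ↔ IsIso ((Over.star U).map m) ∧ IsIso (L.map m) := by
  have : Mono (terminal.from U) := hU
  have : PreservesColimitsOfShape WalkingSpan (prod.functor.obj U) :=
    Groth.Agent.Lib.Helper74.ClosedCompl.preservesColimitsOfShape_prod_functor_sheaf J U
  constructor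
  · intro h
    exact ⟨inferInstance, inferInstance⟩
  · rintro ⟨h1, h2⟩
    have h1' : IsIso (prod.map (𝟙 U) m) := by
      have := (Over.forget U).map_isIso ((Over.star U).map m)
      exact this
    let e : L ≅ Groth.Agent.Lib.Helper74.ClosedCompl.poFunctor U :=
      adj.leftAdjointUniq (Groth.Agent.Lib.Helper74.ClosedCompl.poAdj U)
    have h2' : IsIso ((Groth.Agent.Lib.Helper74.ClosedCompl.poFunctor U).map m) :=
      (NatIso.isIso_map_iff e m).mp h2
    have h3 : IsIso (Groth.Agent.Lib.Helper74.ClosedCompl.poMap U m) :=
      ((SGA4.closedCompl U).ι).map_isIso ((Groth.Agent.Lib.Helper74.ClosedCompl.poFunctor U).map m)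
    have hpb := (Groth.Agent.Lib.Helper74.ClosedCompl.isPullback_inr_iff U m
      (Groth.Agent.Lib.Helper74.ClosedCompl.poMap U m)
      (Groth.Agent.Lib.Helper74.ClosedCompl.inl_poMap U m)
      (Groth.Agent.Lib.Helper74.ClosedCompl.inr_poMap U m)).mpr h1'
    exact hpb.isIso_fst_of_isIso

end Groth.Agent.S3084
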