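import Groth.Statements.S3085
import Groth.Agent.Lib.Helper74.ClosedCompl
import Groth.Agent.Lib.Helper74.ClosedTopology
import Groth.Agent.Lib.Helper74.Gluing
import Groth.Agent.S3084
-- import your own Groth.Agent.* helpers here

set_option autoImplicit false
universe u
open CategoryTheory
open SGA4

namespace Groth.Agent.S3085

open CategoryTheory.Limits in
/-- Gluing a topos from an open subtopos and its closed complement, for sheaves of sets on a small site:
let E be the category of sheaves of sets on a small site, U an open of E (a subobject of the final
object) with restriction functor j^* : E → E/U, X ↦ U × X; assume j^* has a right adjoint j_* (true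
in any topos; taken as an instance hypothesis), and let i^* be a left adjoint of the inclusion of
the closed complement F of U. With ρ = i^* ∘ j_* : E/U → F, the category E is equivalent to the
glued category of triples (Y in F, X in E/U, Y → ρX). (Only the existence of an equivalence is
asserted; the published statement gives it explicitly as X ↦ (i^*X, j^*X, i^*(X → j_*j^*X)).) -/
theorem result {C : Type u} [SmallCategory C] (J : GrothendieckTopology C)
    (U : Sheaf J (Type u)) (hU : SGA4.IsOpen U) [(Over.star U).IsLeftAdjoint]
    (L : Sheaf J (Type u) ⥤ (SGA4.closedCompl U).FullSubcategory) (adj : L ⊣ (SGA4.closedCompl U).ι) :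
    Nonempty (Sheaf J (Type u) ≌
      Comma (𝟭 (SGA4.closedCompl U).FullSubcategory) ((Over.star U).rightAdjoint ⋙ L)) := by
  have : Mono (terminal.from U) := hU
  have hpres : PreservesColimitsOfShape WalkingSpan (prod.functor.obj U) :=
    Groth.Agent.Lib.Helper74.ClosedCompl.preservesColimitsOfShape_prod_functor_sheaf J U
  have hlex0 : PreservesFiniteLimits (Groth.Agent.Lib.Helper74.ClosedCompl.poFunctor U) :=
    Groth.Agent.Lib.Helper74.ClosedTopology.preservesFiniteLimits_poFunctor J U
  have hL : PreservesFiniteLimits L :=
    preservesFiniteLimits_of_natIso
      ((Groth.Agent.Lib.Helper74.ClosedCompl.poAdj U).leftAdjointUniq adj)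
  have hLp : PreservesLimitsOfShape WalkingCospan L := inferInstance
  exact Groth.Agent.Lib.Helper74.Gluing.nonempty_equivalence (U := U)
    (ι := (SGA4.closedCompl U).ι) (L := L) adj
    (fun a b => Groth.Agent.Lib.Helper74.ClosedCompl.hom_to_subterminal_eq U a b)
    (fun Z => Z.property)
    (fun m h1 h2 => (Groth.Agent.S3084.result J U hU L adj m).mpr ⟨h1, h2⟩)

end Groth.Agent.S3085
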