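import Groth.Statements.S3089
-- import your own Groth.Agent.* helpers here
import Mathlib.CategoryTheory.Sites.Adjunction
import Mathlib.Algebra.Homology.CommSq
import Mathlib.Algebra.Homology.DerivedCategory.Ext.ExactSequences
import Mathlib.CategoryTheory.Sites.MayerVietorisSquare

set_option autoImplicit false
universe u
open CategoryTheory
open CohSite

namespace Groth.Agent.S3089

open CategoryTheory.Limits CategoryTheory.Abelian Opposite

/-- The free abelian sheaf functor on sheaves of sets. -/
noncomputable abbrev Zf {C : Type u} [SmallCategory C] (J : GrothendieckTopology C) :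
    Sheaf J (Type u) ⥤ Sheaf J AddCommGrpCat.{u} :=
  Sheaf.composeAndSheafify J AddCommGrpCat.free.{u}

/-- The free/forgetful adjunction on sheaves. -/
noncomputable def freeAdj {C : Type u} [SmallCategory C] (J : GrothendieckTopology C) :
    Zf J ⊣ sheafCompose J (forget AddCommGrpCat.{u}) :=
  Sheaf.adjunction J AddCommGrpCat.adj

/-- The free abelian sheaf functor preserves monomorphisms. -/
lemma mono_Zf_map {C : Type u} [SmallCategory C] {J : GrothendieckTopology C}
    {Y X : Sheaf J (Type u)} (ι : Y ⟶ X) [Mono ι] : Mono ((Zf J).map ι) := by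
  have h1 : Mono ι.hom := (Sheaf.Hom.mono_iff_presheaf_mono _ _ ι).1 inferInstance
  have h2 : Mono (Functor.whiskerRight ι.hom AddCommGrpCat.free.{u}) := inferInstance
  change Mono ((presheafToSheaf J AddCommGrpCat.{u}).map
    (Functor.whiskerRight ι.hom AddCommGrpCat.free.{u}))
  infer_instance


open Opposite in
/-- For abelian sheaves on the topos of sheaves of sets on a small site: let F be an abelian sheaf which
is totally acyclic, i.e. H^q(X, F) = 0 for every sheaf of sets X and every q > 0, and let Y -> X be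
a monomorphism of sheaves of sets. Then the restriction map H^0(X, F) -> H^0(Y, F) is surjective. -/
theorem result {C : Type u} [SmallCategory C] {J : GrothendieckTopology C}
    (F : Sheaf J AddCommGrpCat.{u}) (hF : CohCx.IsTotallyAcyclic F) {Y X : Sheaf J (Type u)} (ι : Y ⟶ X) [Mono ι] :
    Function.Surjective ((CohCx.HK0Functor J F).map ι.op) := by
  intro ψ
  -- `ψ : ℤ[Y] ⟶ F`
  have hcolim : PreservesColimitsOfSize.{u, u} (Zf J) := (freeAdj J).leftAdjoint_preservesColimits
  have hpo : IsPushout ι ι (pushout.inl ι ι) (pushout.inr ι ι) := IsPushout.of_hasPushout ι ι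
  have hpo' : IsPushout ((Zf J).map ι) ((Zf J).map ι) ((Zf J).map (pushout.inl ι ι))
      ((Zf J).map (pushout.inr ι ι)) := hpo.map (Zf J)
  have hmono : Mono ((Zf J).map ι) := mono_Zf_map ι
  let S : ShortComplex (Sheaf J AddCommGrpCat.{u}) :=
    ShortComplex.mk (biprod.lift ((Zf J).map ι) (-(Zf J).map ι))
      (biprod.desc ((Zf J).map (pushout.inl ι ι)) ((Zf J).map (pushout.inr ι ι)))
      (by
        rw [biprod.lift_desc, Preadditive.neg_comp, ← sub_eq_add_neg, sub_eq_zero]
        exact hpo'.w)
  have hS : S.ShortExact :=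
    { exact := ShortComplex.exact_of_g_is_cokernel S hpo'.isColimitCokernelCofork
      mono_f := by
        have : Mono (S.f ≫ biprod.fst) := by
          change Mono (biprod.lift ((Zf J).map ι) (-(Zf J).map ι) ≫ biprod.fst)
          rw [biprod.lift_fst]
          exact hmono
        exact mono_of_mono _ biprod.fst
      epi_g := hpo'.epi_shortComplex_g }
  have h0 : Subsingleton (Ext S.X₃ F 1) := hF (pushout ι ι) 0
  obtain ⟨z, hz⟩ := Ext.contravariant_sequence_exact₁ hS F (Ext.mk₀ ψ) (add_zero 1)
    (Subsingleton.elim _ _)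
  obtain ⟨φ, rfl⟩ := (Ext.mk₀_bijective _ _).surjective z
  rw [Ext.mk₀_comp_mk₀] at hz
  have hz' : S.f ≫ φ = ψ := (Ext.mk₀_bijective _ _).injective hz
  have hf : S.f = (Zf J).map ι ≫ biprod.inl - (Zf J).map ι ≫ biprod.inr := by
    change biprod.lift ((Zf J).map ι) (-(Zf J).map ι) = _
    apply biprod.hom_ext <;> simp
  have key : (Zf J).map ι ≫ ((biprod.inl : (Zf J).obj X ⟶ S.X₂) ≫ φ -
      (biprod.inr : (Zf J).obj X ⟶ S.X₂) ≫ φ) = ψ := by
    rw [← hz', hf, Preadditive.sub_comp, Preadditive.comp_sub, Category.assoc, Category.assoc]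
  exact ⟨_, key⟩

end Groth.Agent.S3089
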