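import Groth.Statements.S3092
import Groth.Agent.Lib.Helper33.HyperAcyc

set_option autoImplicit false
universe u
open CategoryTheory
open Hyper

namespace Groth.Agent.S3092

open Opposite CategoryTheory.Limits in
/-- In the topos of sheaves of sets on a small site; coskeleta assumed to exist: let v : K -> L be a
morphism of simplicial sheaves of sets and n ≥ 0 such that v_p is an isomorphism for p < n, v_n is
an epimorphism, and K, L are n-coskeletal (the units K -> cosk_n K, L -> cosk_n L are isomorphisms).
Then every v_p is an epimorphism and v induces a quasi-isomorphism between the chain complexes of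
free abelian sheaves Z[K] -> Z[L]. -/
theorem result {C : Type u} [SmallCategory C] (J : GrothendieckTopology C)
    [∀ (n : ℕ) (F : (SimplexCategory.Truncated n)ᵒᵖ ⥤ Sheaf J (Type u)),
      (SimplexCategory.Truncated.inclusion n).op.HasRightKanExtension F]
    {K L : SimplicialObject (Sheaf J (Type u))} (v : K ⟶ L) (n : ℕ)
    (h1 : ∀ p : ℕ, p < n → IsIso (v.app (op (SimplexCategory.mk p))))
    (h2 : Epi (v.app (op (SimplexCategory.mk n))))
    (h3 : IsIso ((SimplicialObject.coskAdj n).unit.app K) ∧ IsIso ((SimplicialObject.coskAdj n).unit.app L)) :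
    (∀ p : ℕ, Epi (v.app (op (SimplexCategory.mk p)))) ∧
    QuasiIso ((AlgebraicTopology.alternatingFaceMapComplex _).map
      (Functor.whiskerRight v (Sheaf.composeAndSheafify J AddCommGrpCat.free.{u}))) := by
  obtain ⟨hK0⟩ := Groth.Agent.Lib.Helper33.AcycGen.isPointwiseRKE_of_isIso_unit n K h3.1
  obtain ⟨hL0⟩ := Groth.Agent.Lib.Helper33.AcycGen.isPointwiseRKE_of_isIso_unit n L h3.2
  have hK := Groth.Agent.Lib.Helper33.AcycGen.isPointwiseRKEComp n K hK0 (sheafToPresheaf J (Type u))
  have hL := Groth.Agent.Lib.Helper33.AcycGen.isPointwiseRKEComp n L hL0 (sheafToPresheaf J (Type u))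
  have h1' : ∀ i : ℕ, i < n → IsIso ((Functor.whiskerRight v (sheafToPresheaf J (Type u))).app
      (op (SimplexCategory.mk i))) := by
    intro i hi
    have := h1 i hi
    exact inferInstanceAs (IsIso ((sheafToPresheaf J (Type u)).map (v.app (op (SimplexCategory.mk i)))))
  have h2' : Presheaf.IsLocallySurjective J ((Functor.whiskerRight v (sheafToPresheaf J (Type u))).app
      (op (SimplexCategory.mk n))) :=
    (Sheaf.isLocallySurjective_iff_epi (v.app (op (SimplexCategory.mk n)))).2 h2
  refine ⟨fun p => ?_, ?_⟩
  · exact (Sheaf.isLocallySurjective_iff_epi (v.app (op (SimplexCategory.mk p)))).1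
      (Groth.Agent.Lib.Helper33.HyperAcyc.locSurj_all
        (Functor.whiskerRight v (sheafToPresheaf J (Type u))) n J hK hL h1' h2'
        (op (SimplexCategory.mk p)))
  · have e : Functor.whiskerRight v (Sheaf.composeAndSheafify J AddCommGrpCat.free.{u}) =
        Functor.whiskerRight (Functor.whiskerRight v (sheafToPresheaf J (Type u)))
          (Groth.Agent.Lib.Helper33.HyperAcyc.freeSh J) := rfl
    rw [e]
    exact Groth.Agent.Lib.Helper33.HyperAcyc.quasiIso_sheafify
      (Functor.whiskerRight v (sheafToPresheaf J (Type u))) n J hK hL h1' h2'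

end Groth.Agent.S3092
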