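import Groth.Statements.S3103
import Mathlib
import Groth.Agent.Lib.Helper9.KummerLocal.Abstract
import Groth.Agent.Lib.Helper9.KummerLocal.Units
import Groth.Agent.Lib.Helper9.KummerLocal.Coh
import Groth.Agent.S0236
import Groth.Agent.S0233
import Groth.Agent.Lib.Helper98.AuslanderBuchsbaum
import Groth.Agent.Lib.Helper11.GenLocusBasis

set_option autoImplicit false
universe u
open CategoryTheory CategoryTheory.Limits AlgebraicGeometry Opposite
open EtDual

namespace Groth.Agent.S3103


open Groth.Agent.Lib.Helper9.KummerLocal in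
/-- `H¹(Spec R, G_m) = 0` for a factorial domain `R`. -/
theorem subsingleton_H1_Gm_of_ufd (R : Type u) [CommRing R] [IsDomain R]
    [UniqueFactorizationMonoid R] :
    Subsingleton (EtCoh.H (Spec (CommRingCat.of R)) (EtCoh.Gm (Spec (CommRingCat.of R))) 1) := by
  rw [Groth.Agent.S0236.result]
  intro L hL
  have hL' := Groth.Agent.Lib.Helper11.GenLocus.isInvertible_restrict hL ⊤
  obtain ⟨φ⟩ := Groth.Agent.S0233.result R ⊤ _ hL'
  obtain ⟨t, ht⟩ := Groth.Agent.Lib.Helper45.exists_isBasisOn_of_iso φ
  exact Groth.Agent.Lib.Helper20.InvUFD.nonempty_iso_of_isBasisOn_top ht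

/-- Let A be a regular local ring which is strictly henselian, x an element of the maximal ideal not in
its square, n an integer invertible in A, and U = Spec A[1/x]. Then H^1(U, mu_n) is isomorphic to
Z/n. (The source also computes H^0(U, mu_n) = mu_n(A) and gives a canonical isomorphism; only the
existence of an isomorphism is stated here.) -/
theorem result (A : Type u) [CommRing A] [IsRegularLocalRing A]
    (hA : EtCoh.IsStrictlyHenselianLocalRing A) (x : A) (hx : x ∈ IsLocalRing.maximalIdeal A)
    (hx2 : x ∉ (IsLocalRing.maximalIdeal A) ^ 2) (n : ℕ) (hn : IsUnit (n : A)) :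
    Nonempty (EtCoh.H (Spec (CommRingCat.of (Localization.Away x)))
      (EtCoh.mu (Spec (CommRingCat.of (Localization.Away x))) n) 1 ≃+ ZMod n) := by
  classical
  obtain ⟨hH, hsc⟩ := hA
  haveI := hH
  haveI := hsc
  haveI : IsDomain A := Groth.Agent.Lib.Helper85.isDomain_of_isRegularLocalRing A
  haveI : UniqueFactorizationMonoid A := Groth.Agent.Lib.Helper98.ufm_of_isRegularLocalRing A
  have hp : Prime x := Groth.Agent.Lib.Helper9.KummerLocal.prime_of_mem_of_notMem_sq x hx hx2
  haveI : IsDomain (Localization.Away x) := IsLocalization.Away.isDomain _ hp.ne_zero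
  haveI : UniqueFactorizationMonoid (Localization.Away x) :=
    (UniqueFactorizationMonoid.iff_localizationAway_of_prime hp).1 inferInstance
  set X : Scheme.{u} := Spec (CommRingCat.of (Localization.Away x)) with hX
  have hPic : Subsingleton (EtCoh.H X (EtCoh.Gm X) 1) :=
    subsingleton_H1_Gm_of_ufd (Localization.Away x)
  -- `Γ(X, ⊤) ≃+* A[1/x]`
  let eΓ : Γ(X, ⊤) ≃+* Localization.Away x :=
    (Scheme.ΓSpecIso (CommRingCat.of (Localization.Away x))).commRingCatIsoToRingEquiv
  have hnX : IsUnit (n : Γ(X, ⊤)) := by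
    have h1 : IsUnit ((n : ℕ) : Localization.Away x) := by
      have := hn.map (algebraMap A (Localization.Away x))
      rwa [map_natCast] at this
    have h2 := h1.map eΓ.symm
    rwa [map_natCast] at h2
  obtain ⟨δ, hδs, hδk⟩ := Groth.Agent.Lib.Helper9.KummerLocal.exists_boundary X n hnX hPic
  -- `H⁰(X, G_m) ≃+ Additive (A[1/x])ˣ`
  let e : EtCoh.H X (EtCoh.Gm X) 0 ≃+ Additive (Localization.Away x)ˣ :=
    (Groth.Agent.Lib.Helper9.KummerLocal.h0GmEquiv X).trans
      (MulEquiv.toAdditive (Units.mapEquiv eΓ.toMulEquiv))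
  obtain ⟨hgen, hdvd⟩ := Groth.Agent.Lib.Helper9.KummerLocal.units_away_spec x hx hx2 n hn
    (Localization.Away x)
  refine Groth.Agent.Lib.Helper9.KummerLocal.nonempty_addEquiv_zmod n δ hδs hδk
    (e.symm (Additive.ofMul (Groth.Agent.Lib.Helper9.KummerLocal.xUnit x (Localization.Away x))))
    ?_ ?_
  · intro u
    obtain ⟨w, k, hu⟩ := hgen (e u)
    refine ⟨e.symm w, k, ?_⟩
    apply e.injective
    rw [hu, map_add, map_nsmul, map_zsmul, e.apply_symm_apply, e.apply_symm_apply]
  · rintro k ⟨w, hw⟩
    apply hdvd k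
    refine ⟨e w, ?_⟩
    have := congrArg e hw
    rwa [map_zsmul, map_nsmul, e.apply_symm_apply] at this

end Groth.Agent.S3103
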