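import Groth.Statements.S3105
import Groth.Agent.Lib.Helper33.EtConstGeneric

set_option autoImplicit false
universe u
open CategoryTheory CategoryTheory.Limits AlgebraicGeometry Opposite
open EtPBC

namespace Groth.Agent.S3105

/-- Let X be a normal integral scheme with generic point η, g : Spec κ(η) → X the canonical morphism and
M an abelian group. Then the unit map from the constant sheaf M_X on X_ét to g_*g^*M_X is an
isomorphism. (The published statement is more general, allowing X geometrically unibranch and
sheaves of sets. Continuity of the functor of étale sites along g is carried as an instance binder.) -/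
theorem result (X : Scheme.{u}) [IsIntegral X] (hX : Pi1.IsNormalScheme X)
    [EtCoh.BCCont (X.fromSpecResidueField (genericPoint X))] (M : Type) [AddCommGroup M] :
    IsIso ((EtCoh.pullPushAdj (X.fromSpecResidueField (genericPoint X))).unit.app (EtCoh.const X M)) := by
  exact Groth.Agent.Lib.Helper33.EtConstGeneric.isIso_unit_const_of_genericPoint
    (X.fromSpecResidueField (genericPoint X)) (Scheme.range_fromSpecResidueField _)
    (fun x => (hX x).2) (AddCommGrpCat.of (ULift.{u + 1} M))

end Groth.Agent.S3105
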