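import Groth.Statements.S3114
import Mathlib
import Groth.Agent.Lib.Helper43.EtSpecIso
import Groth.Agent.Lib.Helper43.CardSpec

set_option autoImplicit false
universe u
open CategoryTheory CategoryTheory.Limits AlgebraicGeometry Opposite
open EtPBC

namespace Groth.Agent.S3114

open Groth.Agent.Lib.Helper43.EtSpecIso Groth.Agent.Lib.Helper43.CardSpec
  Groth.Agent.Lib.Helper43.EtFLCLocal Groth.Agent.Lib.Helper43.EtSupp


/-- Abelian case on a locally noetherian scheme (locally noetherian schemes are 'locally arcwise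
connected' in the sense of the source): let F be an abelian sheaf on the small etale site of X all
of whose geometric stalks are finite. Then F is finite locally constant if and only if for every two
geometric points ξ, ξ' of X and every morphism of the corresponding points of the etale site from ξ'
to ξ (a specialization arrow), the induced specialization map on stalks F_ξ -> F_ξ' is an
isomorphism. -/
theorem result (X : Scheme.{u}) [IsLocallyNoetherian X] (F : EtCoh.Ab X)
    (hfin : ∀ (Ω : Type u) [Field Ω] [IsSepClosed Ω] (ξ : Spec (CommRingCat.of Ω) ⟶ X),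
      Finite ((EtCoh.stalk ξ).obj F)) :
    EtCoh.IsFiniteLocallyConstant F ↔
      ∀ (Ω Ω' : Type u) [Field Ω] [IsSepClosed Ω] [Field Ω'] [IsSepClosed Ω']
        (ξ : Spec (CommRingCat.of Ω) ⟶ X) (ξ' : Spec (CommRingCat.of Ω') ⟶ X)
        (φ : Scheme.pointSmallEtale ξ' ⟶ Scheme.pointSmallEtale ξ),
        IsIso ((GrothendieckTopology.Point.Hom.sheafFiber (A := AddCommGrpCat.{u + 1}) φ).app F) := by
  constructor
  · rintro ⟨κ, U, hcov, hU⟩ Ω Ω' _ _ _ _ ξ ξ' φ
    obtain ⟨i, y, hy⟩ := hcov (ξ default)
    obtain ⟨M₀, iM, fM, ⟨e⟩⟩ := hU i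
    have : Finite (AddCommGrpCat.of (ULift.{u + 1} M₀)) :=
      inferInstanceAs (Finite (ULift.{u + 1} M₀))
    exact (ConcreteCategory.isIso_iff_bijective _).2
      (sp_bijective_of_triv F φ (U i) (AddCommGrpCat.of (ULift.{u + 1} M₀)) e y hy)
  · intro hsp
    have hF : EtPBC.IsConstructible F :=
      constructible_of_cardMono_locally F hfin (cardMono_of_mono F hfin
        (fun Ω Ω' _ _ _ _ ξ ξ' φ => by
          have := hsp Ω Ω' ξ ξ' φ
          infer_instance))
    apply isFLC_of_local
    intro x
    obtain ⟨Ω, _, _, ξ, hξ⟩ := exists_geomPt x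
    obtain ⟨U, hxU, hflc⟩ := exists_opens_isFLC_of_sp_iso F ξ hF (fun Ω' _ _ ξ' φ => hsp Ω Ω' ξ ξ' φ)
    obtain ⟨u, hu⟩ : x ∈ Set.range U.ι := by
      rw [Scheme.Opens.range_ι, ← hξ]
      exact hxU
    exact ⟨U.toScheme, U.ι, inferInstance, u, hu, hflc⟩

end Groth.Agent.S3114
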