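import Groth.Statements.S3120
import Mathlib

set_option autoImplicit false
universe u
open CategoryTheory CategoryTheory.Limits AlgebraicGeometry Opposite
open EtDual

namespace Groth.Agent.S3120

section Helpers

variable {X Y V : Scheme.{u}} (f : X ⟶ Y) (j : V ⟶ Y) [IsOpenImmersion j]

lemma bc_map_left_fst {X Y : Scheme.{u}} (f : X ⟶ Y) {U V : Y.Etale} (g : V ⟶ U) :
    ((EtCoh.bc f).map g).left ≫ pullback.fst U.hom f = pullback.fst V.hom f ≫ g.left := by
  dsimp [EtCoh.bc]
  exact pullback.lift_fst _ _ _

lemma bc_map_left_snd {X Y : Scheme.{u}} (f : X ⟶ Y) {U V : Y.Etale} (g : V ⟶ U) :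
    ((EtCoh.bc f).map g).left ≫ pullback.snd U.hom f = pullback.snd V.hom f := by
  dsimp [EtCoh.bc]
  exact pullback.lift_snd _ _ _

lemma isPullback_paste (W : V.Etale) :
    IsPullback (pullback.fst W.hom (pullback.snd f j))
      (pullback.snd W.hom (pullback.snd f j) ≫ pullback.fst f j) (W.hom ≫ j) f :=
  ((IsPullback.of_hasPullback W.hom (pullback.snd f j)).flip.paste_horiz
    (IsPullback.of_hasPullback f j)).flip

/-- the scheme-level isomorphism `W ×_V (X ×_Y V) ≅ W ×_Y X` -/
noncomputable def schIso (W : V.Etale) :
    pullback W.hom (pullback.snd f j) ≅ pullback (W.hom ≫ j) f :=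
  (isPullback_paste f j W).isoPullback

lemma schIso_hom_fst (W : V.Etale) :
    (schIso f j W).hom ≫ pullback.fst (W.hom ≫ j) f = pullback.fst W.hom (pullback.snd f j) :=
  (isPullback_paste f j W).isoPullback_hom_fst

lemma schIso_hom_snd (W : V.Etale) :
    (schIso f j W).hom ≫ pullback.snd (W.hom ≫ j) f =
      pullback.snd W.hom (pullback.snd f j) ≫ pullback.fst f j :=
  (isPullback_paste f j W).isoPullback_hom_snd

/-- the natural isomorphism of functors of small étale sites -/
noncomputable def alpha :
    EtCoh.bc (pullback.snd f j) ⋙ EtShriek.compEtale (pullback.fst f j) ≅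
      EtShriek.compEtale j ⋙ EtCoh.bc f :=
  NatIso.ofComponents
    (fun W => MorphismProperty.Over.isoMk (schIso f j W) (schIso_hom_snd f j W))
    (by
      intro W W' g
      apply MorphismProperty.Over.Hom.ext
      apply pullback.hom_ext
      · change (((EtCoh.bc (pullback.snd f j)).map g).left ≫ (schIso f j W').hom) ≫ pullback.fst _ _ =
          ((schIso f j W).hom ≫ ((EtCoh.bc f).map ((EtShriek.compEtale j).map g)).left) ≫ pullback.fst _ _
        rw [Category.assoc, Category.assoc]
        have h1 : ((EtCoh.bc (pullback.snd f j)).map g).left ≫ (schIso f j W').hom ≫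
            pullback.fst (W'.hom ≫ j) f = pullback.fst W.hom (pullback.snd f j) ≫ g.left :=
          (congrArg (fun t => ((EtCoh.bc (pullback.snd f j)).map g).left ≫ t)
            (schIso_hom_fst f j W')).trans (bc_map_left_fst _ g)
        have h2 : (schIso f j W).hom ≫ ((EtCoh.bc f).map ((EtShriek.compEtale j).map g)).left ≫
            pullback.fst ((EtShriek.compEtale j).obj W').hom f =
            pullback.fst W.hom (pullback.snd f j) ≫ g.left :=
          (congrArg (fun t => (schIso f j W).hom ≫ t)
            (bc_map_left_fst f ((EtShriek.compEtale j).map g))).trans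
            ((Category.assoc _ _ _).symm.trans (congrArg (fun t => t ≫ g.left) (schIso_hom_fst f j W)))
        exact h1.trans h2.symm
      · change (((EtCoh.bc (pullback.snd f j)).map g).left ≫ (schIso f j W').hom) ≫ pullback.snd _ _ =
          ((schIso f j W).hom ≫ ((EtCoh.bc f).map ((EtShriek.compEtale j).map g)).left) ≫ pullback.snd _ _
        rw [Category.assoc, Category.assoc]
        have h1 : ((EtCoh.bc (pullback.snd f j)).map g).left ≫ (schIso f j W').hom ≫
            pullback.snd (W'.hom ≫ j) f =
            pullback.snd W.hom (pullback.snd f j) ≫ pullback.fst f j :=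
          (congrArg (fun t => ((EtCoh.bc (pullback.snd f j)).map g).left ≫ t)
            (schIso_hom_snd f j W')).trans
            ((Category.assoc _ _ _).symm.trans
              (congrArg (fun t => t ≫ pullback.fst f j) (bc_map_left_snd _ g)))
        have h2 : (schIso f j W).hom ≫ ((EtCoh.bc f).map ((EtShriek.compEtale j).map g)).left ≫
            pullback.snd ((EtShriek.compEtale j).obj W').hom f =
            pullback.snd W.hom (pullback.snd f j) ≫ pullback.fst f j :=
          (congrArg (fun t => (schIso f j W).hom ≫ t)
            (bc_map_left_snd f ((EtShriek.compEtale j).map g))).trans (schIso_hom_snd f j W)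
        exact h1.trans h2.symm)

end Helpers


/-- Let f : X → Y be a morphism of schemes, j : V → Y an open immersion, and U = X ×_Y V with
projections f' : U → V and j' : U → X (an open immersion). Then for every abelian sheaf G on the
small étale site of V, the sheaves f^*(j_!G) and j'_!(f'^*G) on X are isomorphic. (The published
statement gives a unique isomorphism compatible with the base change map for j_*; only the existence
of an isomorphism is stated here. The prelude's instances for the inverse image functors along f and
f' are carried as binders.) -/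
theorem result {X Y V : Scheme.{u}} (f : X ⟶ Y) (j : V ⟶ Y) [IsOpenImmersion j]
    [EtCoh.BCCont f] [EtCoh.BCCont (pullback.snd f j)] (G : EtCoh.Ab V) :
    Nonempty ((EtCoh.pull f).obj ((EtShriek.extZero j).obj G) ≅
      (EtShriek.extZero (pullback.fst f j)).obj ((EtCoh.pull (pullback.snd f j)).obj G)) := by
  let adj₁ : EtShriek.extZero j ⋙ EtCoh.pull f ⊣ EtCoh.push f ⋙ EtShriek.restrAlong j :=
    (EtShriek.extZeroAdj j).comp (EtCoh.pullPushAdj f)
  let adj₂ : EtCoh.pull (pullback.snd f j) ⋙ EtShriek.extZero (pullback.fst f j) ⊣
      EtShriek.restrAlong (pullback.fst f j) ⋙ EtCoh.push (pullback.snd f j) :=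
    (EtCoh.pullPushAdj (pullback.snd f j)).comp (EtShriek.extZeroAdj (pullback.fst f j))
  have hc : (EtShriek.compEtale j ⋙ EtCoh.bc f).IsContinuous V.smallEtaleTopology X.smallEtaleTopology :=
    Functor.isContinuous_comp _ _ _ Y.smallEtaleTopology _
  let e₂ : EtShriek.restrAlong (pullback.fst f j) ⋙ EtCoh.push (pullback.snd f j) ≅
      (EtShriek.compEtale j ⋙ EtCoh.bc f).sheafPushforwardContinuous AddCommGrpCat.{u + 1}
        V.smallEtaleTopology X.smallEtaleTopology :=
    Functor.sheafPushforwardContinuousComp' (alpha f j) AddCommGrpCat.{u + 1}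
      V.smallEtaleTopology (pullback f j).smallEtaleTopology X.smallEtaleTopology
  let e₁ : EtCoh.push f ⋙ EtShriek.restrAlong j ≅
      (EtShriek.compEtale j ⋙ EtCoh.bc f).sheafPushforwardContinuous AddCommGrpCat.{u + 1}
        V.smallEtaleTopology X.smallEtaleTopology :=
    Iso.refl _
  exact ⟨(adj₁.leftAdjointUniq (adj₂.ofNatIsoRight (e₂ ≪≫ e₁.symm))).app G⟩

end Groth.Agent.S3120
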