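import Groth.Statements.S3129
import Mathlib.Tactic.Ring
import Mathlib.Tactic.LinearCombination

set_option autoImplicit false
open BigOperators
open SGA4h

namespace Groth.Agent.S3129

set_option linter.unusedSectionVars false

section
variable {F : Type} [Field F] [Fintype F] [DecidableEq F] {R : Type} [CommRing R] [IsDomain R]

lemma addChar_sum {ι : Type*} (Ψ : AddChar F R) (s : Finset ι) (y : ι → F) :
    Ψ (∑ i ∈ s, y i) = ∏ i ∈ s, Ψ (y i) := by
  classical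
  induction s using Finset.induction_on with
  | empty => simp
  | insert a s ha ih => rw [Finset.sum_insert ha, Finset.prod_insert ha, AddChar.map_add_eq_mul, ih]

lemma mulChar_prod_apply {ι : Type*} (s : Finset ι) (ψ : ι → MulChar F R) (a : F) (ha : a ≠ 0) :
    (∏ i ∈ s, ψ i) a = ∏ i ∈ s, ψ i a := by
  classical
  induction s using Finset.induction_on with
  | empty => simp [MulChar.one_apply (isUnit_iff_ne_zero.mpr ha)]
  | insert b s hb ih => rw [Finset.prod_insert hb, Finset.prod_insert hb, MulChar.mul_apply, ih]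

/-- product of Gauss-type sums as a sum over tuples -/
lemma prod_gauss (N : ℕ) (ψ : Fin N → MulChar F R) (Ψ : AddChar F R) :
    ∏ i : Fin N, (∑ y : F, Ψ y * ψ i y) =
      ∑ y : Fin N → F, Ψ (∑ i, y i) * ∏ i, ψ i (y i) := by
  rw [Finset.prod_univ_sum, Fintype.piFinset_univ]
  refine Finset.sum_congr rfl (fun y _ => ?_)
  rw [Finset.prod_mul_distrib, addChar_sum]

lemma term_zero (N : ℕ) (ψ₀ : MulChar F R) (ψ : Fin N → MulChar F R) (Ψ : AddChar F R) :
    ∑ y : Fin N → F, (Ψ 0 * ψ₀ 0) * (Ψ (∑ i, y i) * ∏ i, ψ i (y i)) = 0 := by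
  apply Finset.sum_eq_zero
  intro y _
  rw [MulChar.map_zero, mul_zero, zero_mul]

lemma term_ne_zero (N : ℕ) (ψ₀ : MulChar F R) (ψ : Fin N → MulChar F R)
    (hprod : ψ₀ * ∏ i, ψ i = 1) (Ψ : AddChar F R) (a : F) (ha : a ≠ 0) :
    ∑ y : Fin N → F, (Ψ a * ψ₀ a) * (Ψ (∑ i, y i) * ∏ i, ψ i (y i)) =
      ∑ x : Fin N → F, Ψ (a * (1 + ∑ i, x i)) * ∏ i, ψ i (x i) := by
  let e : (Fin N → F) ≃ (Fin N → F) := Equiv.piCongrRight (fun _ => Equiv.mulLeft₀ a ha)
  rw [← Equiv.sum_comp e]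
  refine Finset.sum_congr rfl (fun x _ => ?_)
  have he : ∀ i, e x i = a * x i := fun i => rfl
  simp only [he]
  have h1 : Ψ a * Ψ (∑ i, a * x i) = Ψ (a * (1 + ∑ i, x i)) := by
    rw [← AddChar.map_add_eq_mul, mul_add, mul_one, Finset.mul_sum]
  have h2 : ψ₀ a * ∏ i, ψ i (a * x i) = ∏ i, ψ i (x i) := by
    simp only [map_mul]
    rw [Finset.prod_mul_distrib, ← mul_assoc, ← mulChar_prod_apply _ _ a ha, ← MulChar.mul_apply,
      hprod, MulChar.one_apply (isUnit_iff_ne_zero.mpr ha), one_mul]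
  calc (Ψ a * ψ₀ a) * (Ψ (∑ i, a * x i) * ∏ i, ψ i (a * x i))
      = (Ψ a * Ψ (∑ i, a * x i)) * (ψ₀ a * ∏ i, ψ i (a * x i)) := by ring
    _ = _ := by rw [h1, h2]

lemma core (N : ℕ) (ψ₀ : MulChar F R) (ψ : Fin N → MulChar F R)
    (hprod : ψ₀ * ∏ i, ψ i = 1) (hnt : ∃ i, ψ i ≠ 1) (Ψ : AddChar F R) (hΨ : Ψ ≠ 1) :
    (∑ a : F, Ψ a * ψ₀ a) * ∏ i : Fin N, (∑ y : F, Ψ y * ψ i y) =
      (Fintype.card F : R) *
        ∑ x ∈ (Finset.univ : Finset (Fin N → F)).filter (fun x => ∑ i, x i = -1),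
          ∏ i, ψ i (x i) := by
  rw [prod_gauss, Finset.sum_mul_sum]
  have hstep : ∀ a : F, ∑ y : Fin N → F, (Ψ a * ψ₀ a) * (Ψ (∑ i, y i) * ∏ i, ψ i (y i)) =
      ∑ x : Fin N → F, (∏ i, ψ i (x i)) *
        (Ψ (a * (1 + ∑ i, x i)) - if a = 0 then Ψ (0 * (1 + ∑ i, x i)) else 0) := by
    intro a
    by_cases ha : a = 0
    · subst ha
      rw [term_zero]
      symm
      apply Finset.sum_eq_zero
      intro x _
      rw [if_pos rfl, sub_self, mul_zero]
    · rw [term_ne_zero N ψ₀ ψ hprod Ψ a ha]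
      refine Finset.sum_congr rfl (fun x _ => ?_)
      rw [if_neg ha, sub_zero, mul_comm]
  rw [Finset.sum_congr rfl (fun a _ => hstep a), Finset.sum_comm]
  have hinner : ∀ x : Fin N → F,
      ∑ a : F, (∏ i, ψ i (x i)) *
        (Ψ (a * (1 + ∑ i, x i)) - if a = 0 then Ψ (0 * (1 + ∑ i, x i)) else 0) =
      (∏ i, ψ i (x i)) * ((if ∑ i, x i = -1 then (Fintype.card F : R) else 0) - 1) := by
    intro x
    rw [← Finset.mul_sum, Finset.sum_sub_distrib,
      AddChar.sum_mulShift _ (AddChar.IsPrimitive.of_ne_one hΨ), Finset.sum_ite_eq' Finset.univ 0,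
      if_pos (Finset.mem_univ _), zero_mul, AddChar.map_zero_eq_one]
    congr 2
    have : (1 + ∑ i, x i = 0) ↔ (∑ i, x i = -1) := by
      constructor
      · intro h; linear_combination h
      · intro h; linear_combination h
    simp only [this]
    split_ifs <;> simp
  rw [Finset.sum_congr rfl (fun x _ => hinner x)]
  simp only [mul_sub, mul_one, Finset.sum_sub_distrib]
  have hzero : ∑ x : Fin N → F, ∏ i, ψ i (x i) = 0 := by
    have := Finset.sum_prod_piFinset (Finset.univ : Finset F) (fun i b => ψ i b)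
    rw [Fintype.piFinset_univ] at this
    rw [this]
    obtain ⟨i, hi⟩ := hnt
    exact Finset.prod_eq_zero (Finset.mem_univ i) (MulChar.sum_eq_zero_of_ne_one hi)
  rw [hzero, sub_zero, Finset.mul_sum, Finset.sum_filter]
  refine Finset.sum_congr rfl (fun x _ => ?_)
  split_ifs <;> ring

lemma units_sum (N : ℕ) (ψ : Fin N → MulChar F R) :
    ∑ x ∈ (Finset.univ : Finset (Fin N → Fˣ)).filter (fun x => ∑ i, ((x i : Fˣ) : F) = -1),
        ∏ i : Fin N, ψ i ((x i : Fˣ) : F) =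
      ∑ x ∈ (Finset.univ : Finset (Fin N → F)).filter (fun x => ∑ i, x i = -1),
        ∏ i, ψ i (x i) := by
  refine Finset.sum_bij_ne_zero (fun x _ _ => fun j => ((x j : Fˣ) : F)) ?_ ?_ ?_ ?_
  · intro x hx _
    rw [Finset.mem_filter] at hx ⊢
    exact ⟨Finset.mem_univ _, hx.2⟩
  · intro x₁ _ _ x₂ _ _ h
    funext j
    exact Units.ext (congrFun h j)
  · intro b hb hne
    have hb0 : ∀ j, b j ≠ 0 := by
      intro j hj
      apply hne
      apply Finset.prod_eq_zero (Finset.mem_univ j)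
      rw [hj, MulChar.map_zero]
    refine ⟨fun j => Units.mk0 (b j) (hb0 j), ?_, ?_, ?_⟩
    · rw [Finset.mem_filter] at hb ⊢
      exact ⟨Finset.mem_univ _, by simpa using hb.2⟩
    · simpa using hne
    · funext j
      rfl
  · intro x _ _
    rfl

end

/-- Let F be a finite field with q elements, N ≥ 1, χ₀, …, χ_N multiplicative characters of F with
values in a domain, not all trivial and with product 1, and Ψ a nontrivial additive character of F.
Put τ(χ, Ψ) = −Σ_{x ∈ F} Ψ(x) χ⁻¹(x) and J(χ) = (−1)^{N−1} Σ χ₁⁻¹(x₁) ⋯ χ_N⁻¹(x_N), the sum over x₁,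
…, x_N ∈ F^* with x₁ + ⋯ + x_N = −1. Then q · J(χ) = τ(χ₀, Ψ) ⋯ τ(χ_N, Ψ). -/
theorem result (F : Type) [Field F] [Fintype F] [DecidableEq F] (R : Type) [CommRing R] [IsDomain R]
    (N : ℕ) (hN : 1 ≤ N) (χ : Fin (N + 1) → MulChar F R) (hprod : ∏ i, χ i = 1) (hnt : ∃ i, χ i ≠ 1)
    (Ψ : AddChar F R) (hΨ : Ψ ≠ 1) :
    (Fintype.card F : R) * ((-1) ^ (N - 1) *
        ∑ x ∈ (Finset.univ : Finset (Fin N → Fˣ)).filter (fun x => ∑ i, ((x i : Fˣ) : F) = -1),
          ∏ i : Fin N, (χ i.succ)⁻¹ ((x i : Fˣ) : F)) =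
      ∏ i : Fin (N + 1), (-(∑ y : F, Ψ y * (χ i)⁻¹ y)) := by
  have hprod' : (χ 0)⁻¹ * ∏ i : Fin N, (χ i.succ)⁻¹ = 1 := by
    rw [← Fin.prod_univ_succ (fun i => (χ i)⁻¹), Finset.prod_inv_distrib, hprod, inv_one]
  have hnt' : ∃ i : Fin N, (χ i.succ)⁻¹ ≠ 1 := by
    by_contra hcon
    push Not at hcon
    have h1 : ∀ i : Fin N, χ i.succ = 1 := fun i => inv_eq_one.mp (hcon i)
    have h0 : χ 0 = 1 := by
      have := hprod
      rw [Fin.prod_univ_succ, Finset.prod_eq_one (fun i _ => h1 i), mul_one] at this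
      exact this
    obtain ⟨i, hi⟩ := hnt
    apply hi
    refine Fin.cases h0 h1 i
  have hcore := core N (χ 0)⁻¹ (fun i => (χ i.succ)⁻¹) hprod' hnt' Ψ hΨ
  rw [units_sum N (fun i => (χ i.succ)⁻¹), Finset.prod_neg, Finset.card_univ, Fintype.card_fin,
    Fin.prod_univ_succ, hcore]
  obtain ⟨M, rfl⟩ : ∃ M, N = M + 1 := ⟨N - 1, by omega⟩
  rw [Nat.add_sub_cancel]
  ring

end Groth.Agent.S3129
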