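import Groth.Statements.S3133
import Mathlib.LinearAlgebra.Matrix.SchurComplement
import Mathlib.Tactic.Ring

set_option autoImplicit false
open Polynomial
open SGA4h

namespace Groth.Agent.S3133

section
variable {S : Type*} [CommRing S] {m : Type*} [Fintype m] [DecidableEq m]

/-- the general block "companion" matrix: `1` on the diagonal, `-t` on the block subdiagonal,
`-A'` in the top right corner (which is the diagonal block when `n = 0`). -/
def Mg (n : ℕ) (t : S) (A' : Matrix m m S) : Matrix (Fin (n + 1) × m) (Fin (n + 1) × m) S :=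
  Matrix.of fun p q => (if p = q then (1 : S) else 0) -
    (if p.1.val = q.1.val + 1 ∧ p.2 = q.2 then t else 0) -
    (if p.1.val = 0 ∧ q.1.val = n then A' p.2 q.2 else 0)

/-- splitting off the first block -/
def eSplit (n : ℕ) : Fin (n + 2) × m ≃ m ⊕ (Fin (n + 1) × m) where
  toFun p := Fin.cases (motive := fun _ => m ⊕ (Fin (n + 1) × m)) (Sum.inl p.2)
    (fun k => Sum.inr (k, p.2)) p.1
  invFun := Sum.elim (fun i => (0, i)) (fun q => (q.1.succ, q.2))
  left_inv := by
    rintro ⟨k, i⟩
    refine Fin.cases ?_ (fun k => ?_) k <;> simp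
  right_inv := by
    rintro (i | ⟨k, i⟩) <;> simp

lemma det_Mg_zero (t : S) (A' : Matrix m m S) : (Mg 0 t A').det = (1 - A').det := by
  let e : m ≃ Fin 1 × m := (Equiv.uniqueProd m (Fin 1)).symm
  rw [← Matrix.det_submatrix_equiv_self e (Mg 0 t A')]
  congr 1
  ext i j
  simp [Mg, e, Matrix.one_apply]

lemma det_Mg_succ (n : ℕ) (t : S) (A' : Matrix m m S) :
    (Mg (n + 1) t A').det = (Mg n t (t • A')).det := by
  let e : m ⊕ (Fin (n + 1) × m) ≃ Fin (n + 2) × m := (eSplit n).symm
  have he1 : ∀ i, e (Sum.inl i) = (0, i) := fun i => rfl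
  have he2 : ∀ k i, e (Sum.inr (k, i)) = (k.succ, i) := fun k i => rfl
  let B' : Matrix m (Fin (n + 1) × m) S :=
    Matrix.of fun i q => -(if q.1.val = n then A' i q.2 else 0)
  let C' : Matrix (Fin (n + 1) × m) m S :=
    Matrix.of fun p j => -(if p.1.val = 0 ∧ p.2 = j then t else 0)
  let D' : Matrix (Fin (n + 1) × m) (Fin (n + 1) × m) S :=
    Matrix.of fun p q => (if p = q then (1 : S) else 0) -
      (if p.1.val = q.1.val + 1 ∧ p.2 = q.2 then t else 0)
  have h1 : (Mg (n + 1) t A').submatrix e e = Matrix.fromBlocks 1 B' C' D' := by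
    ext x y
    rcases x with i | ⟨k, i⟩ <;> rcases y with j | ⟨l, j⟩
    · simp [Mg, he1, Matrix.one_apply]
    · simp only [Matrix.submatrix_apply, Mg, Matrix.of_apply, he1, he2,
        Matrix.fromBlocks_apply₁₂, B', Fin.val_succ, Fin.val_zero, Prod.mk.injEq]
      have h1 : ¬ ((0 : Fin (n + 2)) = l.succ) := (Fin.succ_ne_zero l).symm
      have h2 : ¬ (0 = (l : ℕ) + 1 + 1) := by omega
      simp only [h1, h2, false_and, if_false, true_and, Nat.add_right_cancel_iff, sub_zero,
        zero_sub]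
    · simp only [Matrix.submatrix_apply, Mg, Matrix.of_apply, he1, he2,
        Matrix.fromBlocks_apply₂₁, C', Fin.val_succ, Fin.val_zero, Prod.mk.injEq]
      have h1 : ¬ (k.succ = (0 : Fin (n + 2))) := Fin.succ_ne_zero k
      have h2 : ¬ ((k : ℕ) + 1 = 0) := by omega
      simp only [h1, h2, false_and, if_false, Nat.add_right_cancel_iff, sub_zero, zero_sub]
    · simp only [Matrix.submatrix_apply, Mg, Matrix.of_apply, he1, he2,
        Matrix.fromBlocks_apply₂₂, D', Fin.val_succ, Fin.val_zero, Prod.mk.injEq]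
      have h2 : ¬ ((k : ℕ) + 1 = 0) := by omega
      simp only [h2, false_and, if_false, Nat.add_right_cancel_iff, sub_zero, Fin.succ_inj]
  have h2 : D' - C' * B' = Mg n t (t • A') := by
    ext ⟨k, i⟩ ⟨l, j⟩
    simp only [Matrix.sub_apply, Matrix.mul_apply, Mg, D', C', B', Matrix.of_apply,
      Matrix.smul_apply, smul_eq_mul]
    congr 1
    by_cases hk : (k : ℕ) = 0
    · by_cases hl : (l : ℕ) = n
      · simp [hk, hl, ite_mul]
      · simp [hk, hl]
    · simp [hk]
  rw [← Matrix.det_submatrix_equiv_self e, h1, Matrix.det_fromBlocks_one₁₁, h2]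

lemma det_Mg (n : ℕ) (t : S) (A' : Matrix m m S) :
    (Mg n t A').det = (1 - t ^ n • A').det := by
  induction n generalizing A' with
  | zero => rw [det_Mg_zero, pow_zero, one_smul]
  | succ n ih => rw [det_Mg_succ, ih, smul_smul, ← pow_succ]

end

/-- Let A be a square matrix over a commutative ring and n ≥ 1, and let B be the matrix on n blocks of
the endomorphism (x_1, …, x_n) ↦ (A x_n, x_1, …, x_{n-1}). Then det(1 − B·T) = det(1 − A·Tⁿ), i.e.
the reverse characteristic polynomial of B is that of A expanded by n. -/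
theorem result (R : Type) [CommRing R] (m : Type) [Fintype m] [DecidableEq m]
    (A : Matrix m m R) (n : ℕ) (hn : 1 ≤ n) :
    (Matrix.of fun (p q : Fin n × m) =>
        if p.1.val = 0 then (if q.1.val = n - 1 then A p.2 q.2 else 0)
        else (if q.1.val + 1 = p.1.val ∧ p.2 = q.2 then 1 else 0)).charpolyRev =
      Polynomial.expand R n A.charpolyRev := by
  obtain ⟨k, rfl⟩ : ∃ k, n = k + 1 := ⟨n - 1, by omega⟩
  have hL : (1 - (X : R[X]) • (Matrix.of fun (p q : Fin (k + 1) × m) =>
        if p.1.val = 0 then (if q.1.val = k + 1 - 1 then A p.2 q.2 else 0)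
        else (if q.1.val + 1 = p.1.val ∧ p.2 = q.2 then 1 else 0)).map C) =
      Mg k (X : R[X]) ((X : R[X]) • A.map C) := by
    refine Matrix.ext (fun p q => ?_)
    simp only [Matrix.sub_apply, Matrix.one_apply, Matrix.smul_apply, Matrix.map_apply,
      Matrix.of_apply, Mg, smul_eq_mul, Nat.add_sub_cancel]
    by_cases hp : (p.1 : ℕ) = 0
    · have h1 : ¬ ((p.1 : ℕ) = (q.1 : ℕ) + 1 ∧ p.2 = q.2) := by omega
      by_cases hq : (q.1 : ℕ) = k
      · have h2 : (p.1 : ℕ) = 0 ∧ (q.1 : ℕ) = k := ⟨hp, hq⟩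
        simp only [if_neg h1, if_pos hp, if_pos hq, if_pos h2, sub_zero]
      · have h2 : ¬ ((p.1 : ℕ) = 0 ∧ (q.1 : ℕ) = k) := fun h => hq h.2
        simp only [if_neg h1, if_pos hp, if_neg hq, if_neg h2, sub_zero, map_zero, mul_zero]
    · have h2 : ¬ ((p.1 : ℕ) = 0 ∧ (q.1 : ℕ) = k) := fun h => hp h.1
      by_cases hq : ((q.1 : ℕ) + 1 = (p.1 : ℕ) ∧ p.2 = q.2)
      · have h3 : (p.1 : ℕ) = (q.1 : ℕ) + 1 ∧ p.2 = q.2 := ⟨hq.1.symm, hq.2⟩
        simp only [if_neg hp, if_neg h2, if_pos hq, if_pos h3, sub_zero, map_one, mul_one]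
      · have h3 : ¬ ((p.1 : ℕ) = (q.1 : ℕ) + 1 ∧ p.2 = q.2) := fun h => hq ⟨h.1.symm, h.2⟩
        simp only [if_neg hp, if_neg h2, if_neg hq, if_neg h3, sub_zero, map_zero, mul_zero]
  have hR : Polynomial.expand R (k + 1) A.charpolyRev =
      (1 - (X : R[X]) ^ k • ((X : R[X]) • A.map C)).det := by
    rw [Matrix.charpolyRev, AlgHom.map_det]
    congr 1
    refine Matrix.ext (fun i j => ?_)
    simp only [AlgHom.mapMatrix_apply, Matrix.map_apply, Matrix.sub_apply, Matrix.one_apply,
      Matrix.smul_apply, smul_eq_mul, map_sub, map_mul, Polynomial.expand_X, Polynomial.expand_C]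
    by_cases hij : i = j
    · simp only [hij, if_true, map_one]; ring
    · simp only [hij, if_false, map_zero]; ring
  rw [Matrix.charpolyRev, hL, det_Mg, hR]

end Groth.Agent.S3133
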