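import Groth.Statements.S3140
import Mathlib
import Groth.Agent.S2837
import Groth.Agent.S0611

set_option autoImplicit false
universe u
open RingTheory.Sequence
open SGA4h

namespace Groth.Agent.S3140.Aux

set_option autoImplicit false

open Groth.Agent.Lib.Helper18 Groth.Agent.Lib.Helper90.QuasiRegReg

section
variable {A : Type u} [CommRing A] [IsLocalRing A]

local notation "𝔪" => IsLocalRing.maximalIdeal A

theorem exch : ∀ (q l₀ : List A) (J : Ideal A) (x : A),
    x ∈ J ⊔ (𝔪 * Ideal.ofList l₀ ⊔ Ideal.ofList q) →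
    x ∉ J ⊔ 𝔪 * Ideal.ofList (l₀ ++ q) →
    ∃ l₁ a l₂, q = l₁ ++ a :: l₂ ∧ a ∈ J ⊔ Ideal.ofList (l₀ ++ (l₁ ++ x :: l₂)) := by
  intro q
  induction q with
  | nil =>
    intro l₀ J x h1 h2
    exfalso
    apply h2
    simpa using h1
  | cons b q' ih =>
    intro l₀ J x h1 h2
    rw [Ideal.ofList_cons] at h1
    obtain ⟨j, hj, r, hr, rfl⟩ := Submodule.mem_sup.mp h1
    obtain ⟨s, hs, r', hr', rfl⟩ := Submodule.mem_sup.mp hr
    obtain ⟨cb, hcb, t, ht, rfl⟩ := Submodule.mem_sup.mp hr'
    obtain ⟨c, rfl⟩ := Ideal.mem_span_singleton'.mp hcb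
    by_cases hc : c ∈ 𝔪
    · have hb : b ∈ Ideal.ofList (l₀ ++ [b]) := Ideal.subset_span (by simp)
      have h1' : j + (s + (c * b + t)) ∈ J ⊔ (𝔪 * Ideal.ofList (l₀ ++ [b]) ⊔ Ideal.ofList q') := by
        have e : j + (s + (c * b + t)) = j + ((s + c * b) + t) := by ring
        rw [e]
        refine Submodule.add_mem_sup hj (Submodule.add_mem_sup ?_ ht)
        refine Ideal.add_mem _ ?_ (Ideal.mul_mem_mul hc hb)
        refine Ideal.mul_mono_right ?_ hs
        rw [Ideal.ofList_append]
        exact le_sup_left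
      have h2' : j + (s + (c * b + t)) ∉ J ⊔ 𝔪 * Ideal.ofList ((l₀ ++ [b]) ++ q') := by
        rwa [List.append_assoc, List.singleton_append]
      obtain ⟨l₁, a, l₂, hq, ha⟩ := ih (l₀ ++ [b]) J _ h1' h2'
      refine ⟨b :: l₁, a, l₂, by rw [hq]; rfl, ?_⟩
      have e : l₀ ++ (b :: l₁ ++ (j + (s + (c * b + t))) :: l₂)
          = (l₀ ++ [b]) ++ (l₁ ++ (j + (s + (c * b + t))) :: l₂) := by simp
      rw [e]
      exact ha
    · have hu : IsUnit c := IsLocalRing.notMem_maximalIdeal.mp hc
      obtain ⟨c', hc'⟩ := hu.exists_left_inv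
      refine ⟨[], b, q', rfl, ?_⟩
      generalize hx : j + (s + (c * b + t)) = x
      have hbe : b = c' * x + (-(c' * j)) + (-(c' * s) + -(c' * t)) := by
        have : b = c' * c * b := by rw [hc', one_mul]
        rw [← hx]
        linear_combination this
      rw [hbe]
      have hxm : x ∈ Ideal.ofList (l₀ ++ ([] ++ x :: q')) := by
        apply Ideal.subset_span
        show x ∈ l₀ ++ ([] ++ x :: q')
        simp
      have hsm : s ∈ Ideal.ofList (l₀ ++ ([] ++ x :: q')) := by
        rw [Ideal.ofList_append]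
        have h4 : 𝔪 * Ideal.ofList l₀ ≤ Ideal.ofList l₀ := Ideal.mul_le_right
        exact Ideal.mem_sup_left (h4 hs)
      have htm : t ∈ Ideal.ofList (l₀ ++ ([] ++ x :: q')) := by
        rw [Ideal.ofList_append, List.nil_append, Ideal.ofList_cons]
        exact Ideal.mem_sup_right (Ideal.mem_sup_right ht)
      have h3 : c' * x + (-(c' * j)) + (-(c' * s) + -(c' * t))
          = (-(c' * j)) + (c' * x + (-(c' * s) + -(c' * t))) := by ring
      rw [h3]
      refine Submodule.add_mem_sup (Ideal.neg_mem_iff _ |>.mpr (Ideal.mul_mem_left _ _ hj)) ?_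
      refine Ideal.add_mem _ (Ideal.mul_mem_left _ _ hxm) (Ideal.add_mem _ ?_ ?_)
      · exact (Ideal.neg_mem_iff _).mpr (Ideal.mul_mem_left _ _ hsm)
      · exact (Ideal.neg_mem_iff _).mpr (Ideal.mul_mem_left _ _ htm)

variable [IsNoetherianRing A]

theorem not_mem_of_quasiRegular {n : ℕ} (b : Fin n → A) (hq : CAlgX.IsQuasiRegular b)
    (hI : Ideal.span (Set.range b) ≤ 𝔪) (k₀ : Fin n) :
    b k₀ ∉ Ideal.span (b '' {i | i ≠ k₀}) ⊔ 𝔪 * Ideal.span (Set.range b) := by
  classical
  intro h
  obtain ⟨s, hs, t, ht, hst⟩ := Submodule.mem_sup.mp h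
  obtain ⟨l, hl, hls⟩ := (Finsupp.mem_span_image_iff_linearCombination A).mp hs
  have hl0 : l k₀ = 0 := by
    rw [Finsupp.mem_supported'] at hl
    exact hl k₀ (by simp)
  set c : Fin n → A := fun i => (if i = k₀ then 1 else 0) - l i with hc
  have hsum : ∑ i, c i * b i = t := by
    have h1 : ∑ i, c i * b i = b k₀ - s := by
      rw [← hls, Finsupp.linearCombination_apply, Finsupp.sum_fintype _ _ (by simp)]
      simp only [hc, sub_mul, Finset.sum_sub_distrib, ite_mul, one_mul, zero_mul,
        Finset.sum_ite_eq', Finset.mem_univ, if_true, smul_eq_mul]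
    rw [h1, ← hst]; ring
  have h2 := Groth.Agent.S2837.Aux.coeff_mem_of_sum_mem b hq 𝔪 hI c (by rw [hsum]; exact ht) k₀
  have h3 : c k₀ = 1 := by simp [hc, hl0]
  rw [h3] at h2
  exact (Ideal.ne_top_iff_one 𝔪).mp (IsLocalRing.maximalIdeal.isMaximal A).ne_top h2

theorem not_mem_list (p q : List A) (x : A)
    (hv : RingTheory.Sequence.IsRegular A (p ++ x :: q)) :
    x ∉ Ideal.ofList p ⊔ 𝔪 * Ideal.ofList (p ++ x :: q) := by
  set v := p ++ x :: q with hvdef
  have hne : Ideal.ofList v ≠ ⊤ := by
    intro h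
    have h1 := hv.top_ne_smul
    rw [h] at h1
    exact h1 (by simp)
  have hle : Ideal.ofList v ≤ 𝔪 := IsLocalRing.le_maximalIdeal hne
  have hof : List.ofFn v.get = v := List.ofFn_get v
  have hq : CAlgX.IsQuasiRegular v.get :=
    isQuasiRegular_of_isWeaklyRegular _ v.get (by rw [hof]; exact hv.toIsWeaklyRegular)
  have hspan : Ideal.span (Set.range v.get) = Ideal.ofList v := by
    rw [← ofList_ofFn, hof]
  have hk : p.length < v.length := by simp [hvdef]
  have hx : v.get ⟨p.length, hk⟩ = x := by simp [hvdef]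
  have h := not_mem_of_quasiRegular v.get hq (by rw [hspan]; exact hle) ⟨p.length, hk⟩
  rw [hx, hspan] at h
  intro h'
  apply h
  have hle2 : Ideal.ofList p ≤ Ideal.span (v.get '' {i | i ≠ ⟨p.length, hk⟩}) := ?_
  · exact (sup_le_sup_right hle2 _) h'
  apply Ideal.span_le.mpr
  intro y hy
  obtain ⟨i, hi, rfl⟩ := List.getElem_of_mem hy
  apply Ideal.subset_span
  refine ⟨⟨i, by omega⟩, ?_, ?_⟩
  · simp only [Set.mem_setOf_eq, ne_eq, Fin.mk.injEq]
    omega
  · simp [hvdef, List.getElem_append_left hi]

open Groth.Agent.S2837.Aux in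
theorem length_eq_finrank (w : List A) (hw : RingTheory.Sequence.IsRegular A w) :
    w.length = Module.finrank (A ⧸ 𝔪) (VV (Ideal.ofList w)) := by
  set I := Ideal.ofList w with hI
  have hne : I ≠ ⊤ := by
    intro h
    have h1 := hw.top_ne_smul
    rw [← hI, h] at h1
    exact h1 (by simp)
  have hle : I ≤ 𝔪 := IsLocalRing.le_maximalIdeal hne
  have hof : List.ofFn w.get = w := List.ofFn_get w
  have hq : CAlgX.IsQuasiRegular w.get :=
    isQuasiRegular_of_isWeaklyRegular _ w.get (by rw [hof]; exact hw.toIsWeaklyRegular)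
  have hspan : Ideal.span (Set.range w.get) = I := by
    rw [← ofList_ofFn, hof]
  let y : Fin w.length → ↥I := fun i => ⟨w.get i, by rw [← hspan]; exact Ideal.subset_span ⟨i, rfl⟩⟩
  have hLI : LinearIndependent (A ⧸ 𝔪) (cls I ∘ y) := by
    apply linearIndependent_cls I y
    intro c hc
    refine coeff_mem_of_sum_mem w.get hq 𝔪 (by rw [hspan]; exact hle) c ?_
    rw [hspan]
    exact hc
  have hyspan : Submodule.span A (Set.range y) = ⊤ := by
    apply Submodule.map_injective_of_injective I.subtype_injective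
    rw [Submodule.map_span, Submodule.map_subtype_top, ← Set.range_comp]
    exact hspan
  have hsp : Submodule.span (A ⧸ 𝔪) (Set.range (cls I ∘ y)) = ⊤ := by
    rw [Set.range_comp]
    apply (Submodule.restrictScalars_eq_top_iff A (A ⧸ 𝔪) (VV I)).mp
    rw [Submodule.restrictScalars_span A (A ⧸ 𝔪) Ideal.Quotient.mk_surjective]
    have : cls I '' Set.range y = (Submodule.mkQ (𝔪 • ⊤ : Submodule A ↥I)) '' Set.range y := rfl
    rw [this, ← Submodule.map_span, hyspan, Submodule.map_top, Submodule.range_mkQ]
  let B : Module.Basis (Fin w.length) (A ⧸ 𝔪) (VV I) := Module.Basis.mk hLI hsp.ge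
  rw [Module.finrank_eq_card_basis B, Fintype.card_fin]

theorem isRegular_of_length_eq (u w : List A) (hu : RingTheory.Sequence.IsRegular A u)
    (hlen : w.length = u.length) (hspan : Ideal.ofList w = Ideal.ofList u) :
    RingTheory.Sequence.IsRegular A w := by
  have h1 : List.ofFn u.get = u := List.ofFn_get u
  have h2 : List.ofFn (fun i : Fin u.length => w.get (Fin.cast hlen.symm i)) = w := by
    rw [← List.ofFn_congr hlen w.get, List.ofFn_get]
  have := Groth.Agent.S0611.Aux.main u.get (fun i : Fin u.length => w.get (Fin.cast hlen.symm i))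
    (by rw [h1]; exact hu) (by rw [← ofList_ofFn, ← ofList_ofFn, h1, h2, hspan])
  rwa [h2] at this

end

section chain
variable {A : Type u} [CommRing A]

abbrev StepRel (w w' : List A) : Prop :=
  w.Perm w' ∨ (w.length = w'.length ∧ w.dropLast = w'.dropLast)

abbrev Good (n : ℕ) (I : Ideal A) (w : List A) : Prop := w.length = n ∧ Ideal.ofList w = I

abbrev Step (n : ℕ) (I : Ideal A) (w w' : List A) : Prop := StepRel w w' ∧ Good n I w'

theorem good_perm {n : ℕ} {I : Ideal A} {w w' : List A} (h : Good n I w) (hp : w.Perm w') :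
    Good n I w' := by
  refine ⟨hp.length_eq ▸ h.1, ?_⟩
  rw [← h.2]
  unfold Ideal.ofList
  congr 1
  ext y
  simp [hp.mem_iff]

theorem swap_any {n : ℕ} {I : Ideal A} (l₁ l₂ : List A) (a b : A)
    (ha : Good n I (l₁ ++ a :: l₂)) (hb : Good n I (l₁ ++ b :: l₂)) :
    Relation.ReflTransGen (Step n I) (l₁ ++ a :: l₂) (l₁ ++ b :: l₂) := by
  have p1 : (l₁ ++ a :: l₂).Perm ((l₁ ++ l₂) ++ [a]) :=
    List.perm_middle.trans (List.perm_append_singleton a (l₁ ++ l₂)).symm
  have p2 : ((l₁ ++ l₂) ++ [b]).Perm (l₁ ++ b :: l₂) :=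
    (List.perm_middle.trans (List.perm_append_singleton b (l₁ ++ l₂)).symm).symm
  have g1 : Good n I ((l₁ ++ l₂) ++ [a]) := good_perm ha p1
  have g2 : Good n I ((l₁ ++ l₂) ++ [b]) := good_perm hb p2.symm
  refine Relation.ReflTransGen.head ⟨Or.inl p1, g1⟩
    (Relation.ReflTransGen.head ⟨Or.inr ⟨by simp, by simp⟩, g2⟩
      (Relation.ReflTransGen.single ⟨Or.inl p2, hb⟩))

theorem all_good {n : ℕ} {I : Ideal A} : ∀ (l : List (List A)) (a : List A),
    List.IsChain (Step n I) (a :: l) → ∀ w ∈ l, Good n I w := by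
  intro l
  induction l with
  | nil => intro a _ w hw; simp at hw
  | cons b l ih =>
    intro a h w hw
    rw [List.isChain_cons_cons] at h
    rcases List.mem_cons.mp hw with rfl | hw'
    · exact h.1.2
    · exact ih b h.2 w hw'

variable [IsLocalRing A] [IsNoetherianRing A]

local notation "𝔪" => IsLocalRing.maximalIdeal A

theorem main_chain (v : List A) (hv : RingTheory.Sequence.IsRegular A v) :
    ∀ (q' p q : List A), p ++ q' = v → q.length = q'.length →
      Ideal.ofList (p ++ q) = Ideal.ofList v →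
      Relation.ReflTransGen (Step v.length (Ideal.ofList v)) (p ++ q) v := by
  intro q'
  induction q' with
  | nil =>
    intro p q hpq hlen _
    have hq : q = [] := List.length_eq_zero_iff.mp hlen
    subst hq
    rw [hpq]
  | cons x q'' ih =>
    intro p q hpq hlen hspan
    have hxv : x ∈ v := by rw [← hpq]; simp
    have hxI : x ∈ Ideal.ofList (p ++ q) := by rw [hspan]; exact Ideal.subset_span hxv
    have h1 : x ∈ Ideal.ofList p ⊔ (𝔪 * Ideal.ofList ([] : List A) ⊔ Ideal.ofList q) := by
      rw [Ideal.ofList_append] at hxI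
      have hle : Ideal.ofList p ⊔ Ideal.ofList q
          ≤ Ideal.ofList p ⊔ (𝔪 * Ideal.ofList ([] : List A) ⊔ Ideal.ofList q) :=
        sup_le_sup_left le_sup_right _
      exact hle hxI
    have h2 : x ∉ Ideal.ofList p ⊔ 𝔪 * Ideal.ofList ([] ++ q) := by
      have h3 := not_mem_list p q'' x (by rw [hpq]; exact hv)
      intro h4
      apply h3
      have hle : Ideal.ofList ([] ++ q) ≤ Ideal.ofList (p ++ x :: q'') := by
        rw [hpq, ← hspan, List.nil_append, Ideal.ofList_append]
        exact le_sup_right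
      have hle2 : Ideal.ofList p ⊔ 𝔪 * Ideal.ofList ([] ++ q)
          ≤ Ideal.ofList p ⊔ 𝔪 * Ideal.ofList (p ++ x :: q'') :=
        sup_le_sup_left (Ideal.mul_mono_right hle) _
      exact hle2 h4
    obtain ⟨l₁, a, l₂, hq, ha⟩ := exch q [] (Ideal.ofList p) x h1 h2
    subst hq
    rw [List.nil_append, ← Ideal.ofList_append] at ha
    have hlen' : (p ++ (l₁ ++ a :: l₂)).length = v.length := by
      rw [← hpq]
      simp only [List.length_append, List.length_cons] at hlen ⊢
      omega
    have gold : Good v.length (Ideal.ofList v) (p ++ (l₁ ++ a :: l₂)) := ⟨hlen', hspan⟩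
    have gnew : Good v.length (Ideal.ofList v) (p ++ (l₁ ++ x :: l₂)) := by
      refine ⟨?_, ?_⟩
      · rw [← hlen']; simp
      · apply le_antisymm
        · apply Ideal.span_le.mpr
          intro y hy
          have hy' : y ∈ p ++ (l₁ ++ x :: l₂) := hy
          simp only [List.mem_append, List.mem_cons] at hy'
          rcases hy' with hy' | hy' | rfl | hy'
          · rw [← hspan]; exact Ideal.subset_span (by simp [hy'])
          · rw [← hspan]; exact Ideal.subset_span (by simp [hy'])
          · exact Ideal.subset_span hxv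
          · rw [← hspan]; exact Ideal.subset_span (by simp [hy'])
        · rw [← hspan]
          apply Ideal.span_le.mpr
          intro y hy
          have hy' : y ∈ p ++ (l₁ ++ a :: l₂) := hy
          simp only [List.mem_append, List.mem_cons] at hy'
          rcases hy' with hy' | hy' | rfl | hy'
          · exact Ideal.subset_span (by simp [hy'])
          · exact Ideal.subset_span (by simp [hy'])
          · exact ha
          · exact Ideal.subset_span (by simp [hy'])
    have R1 : Relation.ReflTransGen (Step v.length (Ideal.ofList v))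
        (p ++ (l₁ ++ a :: l₂)) (p ++ (l₁ ++ x :: l₂)) := by
      rw [← List.append_assoc, ← List.append_assoc] at *
      exact swap_any (p ++ l₁) l₂ a x gold gnew
    have hperm : (p ++ (l₁ ++ x :: l₂)).Perm ((p ++ [x]) ++ (l₁ ++ l₂)) := by
      have : (p ++ [x]) ++ (l₁ ++ l₂) = p ++ (x :: (l₁ ++ l₂)) := by simp
      rw [this]
      exact List.Perm.append_left p List.perm_middle
    have g2 := good_perm gnew hperm
    have R3 := ih (p ++ [x]) (l₁ ++ l₂) (by rw [← hpq]; simp)
      (by simp only [List.length_append, List.length_cons] at hlen ⊢; omega) g2.2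
    exact R1.trans (Relation.ReflTransGen.head ⟨Or.inl hperm, g2⟩ R3)

theorem final (u v : List A) (hu : RingTheory.Sequence.IsRegular A u)
    (hv : RingTheory.Sequence.IsRegular A v)
    (huv : Ideal.span {x | x ∈ u} = Ideal.span {x | x ∈ v}) :
    ∃ ws : List (List A), ws.head? = some u ∧ ws.getLast? = some v ∧
      (∀ w ∈ ws, RingTheory.Sequence.IsRegular A w ∧
        Ideal.span {x | x ∈ w} = Ideal.span {x | x ∈ u}) ∧
      List.IsChain (fun w w' : List A =>
        w.Perm w' ∨ (w.length = w'.length ∧ w.dropLast = w'.dropLast)) ws := by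
  have huv' : Ideal.ofList u = Ideal.ofList v := huv
  have hfr : ∀ I J : Ideal A, I = J →
      Module.finrank (A ⧸ 𝔪) (Groth.Agent.S2837.Aux.VV I)
        = Module.finrank (A ⧸ 𝔪) (Groth.Agent.S2837.Aux.VV J) := by
    rintro I J rfl; rfl
  have hlen : u.length = v.length := by
    rw [length_eq_finrank u hu, length_eq_finrank v hv]
    exact hfr _ _ huv'
  have hR := main_chain v hv v [] u (by simp) hlen (by simpa using huv')
  rw [List.nil_append] at hR
  obtain ⟨l, hl, hlast⟩ := List.exists_isChain_cons_of_relationReflTransGen hR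
  refine ⟨u :: l, rfl, ?_, ?_, hl.imp (fun _ _ h => h.1)⟩
  · rw [List.getLast?_eq_some_getLast (List.cons_ne_nil _ _), hlast]
  · intro w hw
    have hg : Good v.length (Ideal.ofList v) w := by
      rcases List.mem_cons.mp hw with rfl | hw'
      · exact ⟨hlen, huv'⟩
      · exact all_good l u hl w hw'
    refine ⟨isRegular_of_length_eq v w hv hg.1 hg.2, ?_⟩
    exact hg.2.trans huv'.symm

end chain

end Groth.Agent.S3140.Aux

namespace Groth.Agent.S3140

/-- Let A be a Noetherian local ring and u, v two regular sequences of elements of A generating the same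
ideal. Then there is a finite chain of regular sequences generating that same ideal, starting at u
and ending at v, in which each sequence is obtained from the previous one either by a permutation or
by changing only its last element. -/
theorem result (A : Type u) [CommRing A] [IsLocalRing A] [IsNoetherianRing A]
    (u v : List A) (hu : IsRegular A u) (hv : IsRegular A v) (huv : Ideal.span {x | x ∈ u} = Ideal.span {x | x ∈ v}) :
    ∃ ws : List (List A), ws.head? = some u ∧ ws.getLast? = some v ∧
      (∀ w ∈ ws, IsRegular A w ∧ Ideal.span {x | x ∈ w} = Ideal.span {x | x ∈ u}) ∧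
      List.IsChain (fun w w' : List A => w.Perm w' ∨ (w.length = w'.length ∧ w.dropLast = w'.dropLast)) ws := by
  exact Aux.final u v hu hv huv

end Groth.Agent.S3140
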