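import Groth.Statements.S3194
import Groth.Agent.Lib.Helper16.KZeroPID

set_option autoImplicit false
universe u
open CategoryTheory
open SGA6

namespace Groth.Agent.S3194

/-- Let A be a principal ideal domain and K_•(Spec A) = K₀ of the category of finitely generated
A-modules (free abelian group on finitely generated modules modulo short exact sequences). The
homomorphism ℤ ⟶ K_•(Spec A) sending k to k·[A] is bijective. -/
theorem result (A : Type u) [CommRing A] [IsDomain A] [IsPrincipalIdealRing A] :
    Function.Bijective (fun k : ℤ => k • KZero.clSub (fun M : ModuleCat.{u} A => Module.Finite A M) (ModuleCat.of A A)) := by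
  open Groth.Agent.Lib.Helper16.KZeroPID in
  constructor
  · intro k k' h
    have h' : k • cl A A = k' • cl A A := h
    have := congrArg rankHom h'
    simpa [map_zsmul, rankHom_cl] using this
  · intro x
    change x ∈ Set.range (fun k : ℤ => k • cl A A)
    suffices h : x ∈ AddSubgroup.zmultiples (cl A A) by
      obtain ⟨k, hk⟩ := AddSubgroup.mem_zmultiples_iff.mp h
      exact ⟨k, hk⟩
    induction x using QuotientAddGroup.induction_on with
    | H y =>
      induction y using FreeAbelianGroup.induction_on with
      | zero => exact zero_mem _
      | of M =>
        obtain ⟨M, hM⟩ := M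
        have hM' : Module.Finite A M := hM
        have := cl_mem_zmultiples (A := A) M
        have e : cl A M = QuotientAddGroup.mk (FreeAbelianGroup.of ⟨M, hM⟩) :=
          clSub_eq M hM'
        rwa [e] at this
      | neg M h => exact neg_mem h
      | add a b ha hb => exact add_mem ha hb

end Groth.Agent.S3194
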