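import Groth.Statements.S3195
import Groth.Agent.Lib.Helper16.KosTor.Excess
import Groth.Agent.Lib.Helper16.KosTor.ExtPowQuot

set_option autoImplicit false
universe u
open CategoryTheory
open SGA6

namespace Groth.Agent.S3195

/-- Let A be a commutative ring and f, g, h finite sequences of elements of A such that the
concatenations f ++ g, f ++ h and f ++ g ++ h are Koszul-regular (their Koszul complexes are
resolutions of the quotients); put I = (f, g) and J = (f, h). Then for every i ≥ 1 the A-module
Tor_i^A(A/I, A/J) (Mathlib's Tor, left-derived in the second variable) is isomorphic to the i-th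
exterior power over A of Tor_1^A(A/I, A/J). (The source takes exterior powers over O_T = A/(I+J),
which for i ≥ 1 gives the same module since Tor_1 is killed by I + J; over A the case i = 0 would
give A instead of Tor_0 = A/(I+J), so it is left out. The source states this for closed subschemes
of a scheme locally of this form and identifies Tor_1 with the excess conormal bundle.) -/
theorem result (A : Type u) [CommRing A] (f g h : List A)
    (hfg : LCI.IsKoszulRegularSeq A (f ++ g)) (hfh : LCI.IsKoszulRegularSeq A (f ++ h)) (hfgh : LCI.IsKoszulRegularSeq A (f ++ g ++ h)) (i : ℕ) (hi : 1 ≤ i) :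
    Nonempty (((CategoryTheory.Tor (ModuleCat.{u} A) i).obj (ModuleCat.of A (A ⧸ Ideal.span {x | x ∈ f ++ g}))).obj (ModuleCat.of A (A ⧸ Ideal.span {x | x ∈ f ++ h})) ≅
      ModuleCat.of A (⋀[A]^i (((CategoryTheory.Tor (ModuleCat.{u} A) 1).obj (ModuleCat.of A (A ⧸ Ideal.span {x | x ∈ f ++ g}))).obj (ModuleCat.of A (A ⧸ Ideal.span {x | x ∈ f ++ h}))))) := by
  obtain ⟨ei⟩ := Groth.Agent.Lib.Helper16.KosTor.nonempty_tor_equiv f g h hfg hfh hfgh i
  obtain ⟨e1⟩ := Groth.Agent.Lib.Helper16.KosTor.nonempty_tor_equiv f g h hfg hfh hfgh 1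
  obtain ⟨ew⟩ := Groth.Agent.Lib.Helper16.KosTor.nonempty_exteriorPower_equiv
    (Ideal.ofList (f ++ h) ⊔ Ideal.ofList g) f.length i hi
  have e1' := e1 ≪≫ₗ LinearEquiv.funCongrLeft A
    (A ⧸ (Ideal.ofList (f ++ h) ⊔ Ideal.ofList g)) (finCongr (Nat.choose_one_right f.length).symm)
  have eW := Groth.Agent.Lib.Helper16.KosTor.extPowCongr i e1'
  exact ⟨(ei ≪≫ₗ ew.symm ≪≫ₗ eW.symm).toModuleIso⟩

end Groth.Agent.S3195
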