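import Groth.Statements.S3200
import Groth.Agent.Lib.Helper16.ResK0.Union
import Groth.Agent.Lib.Helper16.ResK0.Resolution

set_option autoImplicit false
universe v u
open CategoryTheory CategoryTheory.Limits
open SGA6

namespace Groth.Agent.S3200

/-- Let C be an abelian category and P₀ ≤ P₁ two isomorphism-closed classes of objects, both stable
under extensions, such that: (i) for every short exact sequence 0 → A' → A → A'' → 0 with A, A'' in
P₀ (resp. P₁), A' is in P₀ (resp. P₁); (ii) for u : A ⟶ B an epimorphism and v : D ⟶ B with A, B, D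
in P₁ there are L in P₀, an epimorphism u' : L ⟶ D and v' : L ⟶ A with u' ≫ v = v' ≫ u; (iii) for
every A in P₁ there is d such that for every resolution L of A by objects of P₀ (a chain complex of
objects of P₀, exact in positive degrees, with H₀(L) ≅ A) the object of cycles Z_{d+1}(L) =
ker(L_{d+1} → L_d) is in P₀. Then the homomorphism K₀(P₀) ⟶ K₀(P₁) induced by the inclusion is
bijective. (Two deviations from the published statement. Stability of P₀ and P₁ under extensions is
assumed here in addition to (i)–(iii); without it the conclusion can fail. In (iii) the published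
statement asks that Z_d(L) be in P₀; asking it of Z_{d+1}(L) is equivalent given (i), and avoids
degree 0, where the cycles of the complex L in Mathlib's sense are L₀ itself rather than the kernel
of the augmentation L₀ → A.) -/
theorem result {C : Type u} [Category.{v} C] [Abelian C]
    (P₀ P₁ : ObjectProperty C) [P₀.IsClosedUnderIsomorphisms] [P₁.IsClosedUnderIsomorphisms] (hle : ∀ X, P₀ X → P₁ X)
    (hext₀ : ∀ S : ShortComplex C, S.ShortExact → P₀ S.X₁ → P₀ S.X₃ → P₀ S.X₂)
    (hext₁ : ∀ S : ShortComplex C, S.ShortExact → P₁ S.X₁ → P₁ S.X₃ → P₁ S.X₂)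
    (h1₀ : ∀ S : ShortComplex C, S.ShortExact → P₀ S.X₂ → P₀ S.X₃ → P₀ S.X₁)
    (h1₁ : ∀ S : ShortComplex C, S.ShortExact → P₁ S.X₂ → P₁ S.X₃ → P₁ S.X₁)
    (h2 : ∀ (A B D : C) (u : A ⟶ B) (v : D ⟶ B), Epi u → P₁ A → P₁ B → P₁ D →
      ∃ (L : C) (u' : L ⟶ D) (v' : L ⟶ A), P₀ L ∧ Epi u' ∧ u' ≫ v = v' ≫ u)
    (h3 : ∀ A : C, P₁ A → ∃ d : ℕ, ∀ L : ChainComplex C ℕ, (∀ i, P₀ (L.X i)) → (∀ i, 1 ≤ i → L.ExactAt i) →
      Nonempty (L.homology 0 ≅ A) → P₀ (L.cycles (d + 1))) :
    Function.Bijective (SGA6.mapSub (𝟭 C) P₀ P₁ hle) := by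
  have H : Groth.Agent.Lib.Helper16.ResK0.Hyp P₀ P₁ :=
    { le := hle
      ext₀ := fun ⟨i, p, w, hS⟩ h' h'' => hext₀ (ShortComplex.mk i p w) hS h' h''
      ext₁ := fun ⟨i, p, w, hS⟩ h' h'' => hext₁ (ShortComplex.mk i p w) hS h' h''
      ker₀ := fun ⟨i, p, w, hS⟩ h' h'' => h1₀ (ShortComplex.mk i p w) hS h' h''
      ker₁ := fun ⟨i, p, w, hS⟩ h' h'' => h1₁ (ShortComplex.mk i p w) hS h' h''
      cover := fun A hA => by
        obtain ⟨L, u', v', hL, hu', _⟩ := h2 A A A (𝟙 A) (𝟙 A) inferInstance hA hA hA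
        exact ⟨kernel u', L, Groth.Agent.Lib.Helper16.ResK0.ses_kernel u', hL⟩ }
  have steps : ∀ n, Groth.Agent.Lib.Helper16.ResK0.Step
      (Groth.Agent.Lib.Helper16.ResK0.U P₀ P₁ n) (Groth.Agent.Lib.Helper16.ResK0.U P₀ P₁ (n + 1)) :=
    fun n =>
      { le := fun X h => Groth.Agent.Lib.Helper16.ResK0.U_succ H n h
        ext := (Groth.Agent.Lib.Helper16.ResK0.good H n).1
        cover := fun A hA => by
          obtain ⟨K, L, hs, hL⟩ := H.cover A hA.1
          exact ⟨K, L, hs, Groth.Agent.Lib.Helper16.ResK0.U_zero_of H hL n⟩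
        ker := fun hs hL hA =>
          Groth.Agent.Lib.Helper16.ResK0.U_ker_succ H (Groth.Agent.Lib.Helper16.ResK0.good H n)
            hs hL hA }
  exact Groth.Agent.Lib.Helper16.ResK0.Union.bijective (Groth.Agent.Lib.Helper16.ResK0.U P₀ P₁) P₁
    (fun n X h => Groth.Agent.Lib.Helper16.ResK0.U_succ H n h)
    (fun n => (steps n).bijective)
    (fun n X h => Groth.Agent.Lib.Helper16.ResK0.U_sub H n h)
    (Groth.Agent.Lib.Helper16.ResK0.exists_level H h3)

end Groth.Agent.S3200
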