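import Groth.Statements.S8663
import Groth.Agent.Lib.Helper35.KoszImm
import Groth.Agent.S7172

set_option autoImplicit false
universe u
open CategoryTheory CategoryTheory.Limits AlgebraicGeometry
open Synt

namespace Groth.Agent.S8663

/-- Let f : X ⟶ Y be a local complete intersection morphism in the factorisation sense (around each
point of X, f is locally of finite type and factors as a Koszul-regular immersion followed by a
smooth morphism). Then f is a perfect morphism: for all affine opens U ⊆ f⁻¹(V), the ring map O_Y(V)
→ O_X(U) is pseudo-coherent and of finite tor-dimension. -/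
theorem result {X Y : Scheme.{u}} (f : X ⟶ Y) (hf : ∀ x : X, Synt.IsKoszulAt f x) :
    MoreMor.IsPerfectMor f := by
  rw [Groth.Agent.Lib.Helper35.FTD.isPerfectMor_iff]
  choose U P i π hxU hft hi hsm hfac using hf
  have hsup : (⨆ x : X, U x) = ⊤ := by
    rw [eq_top_iff]
    intro x _
    exact TopologicalSpace.Opens.mem_iSup.2 ⟨x, hxU x⟩
  refine AlgebraicGeometry.IsZariskiLocalAtSource.of_iSup_eq_top
    (P := Groth.Agent.Lib.Helper35.FTD.perfMor) (fun x => U x) hsup ?_
  intro x
  rw [← hfac x, ← Groth.Agent.Lib.Helper35.FTD.isPerfectMor_iff]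
  have : AlgebraicGeometry.Smooth (π x) := hsm x
  exact Groth.Agent.Lib.Helper35.FTD.perfMor_comp (i x) (π x)
    (Groth.Agent.Lib.Helper35.KoszImm.perfMor_of_koszulRegularImmersion (i x) (hi x))
    (Groth.Agent.S7172.result (π x))

end Groth.Agent.S8663
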