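import Groth.Statements.S3202
import Groth.Agent.Lib.Helper82.BlowUpLci
import Groth.Agent.S8663


set_option autoImplicit false
universe u
open CategoryTheory AlgebraicGeometry
open SGA6

namespace Groth.Agent.S3202

/-- Let i : Y ⟶ X be a regular closed immersion (locally cut out by a regular sequence) and f : X' ⟶ X
the blow-up of X along Y. Then f is a perfect morphism: affine-locally the ring maps O_X(V) →
O_{X'}(U) are pseudo-coherent and of finite tor-dimension. (The source's regular immersions are the
Koszul-regular ones, a weaker hypothesis in the non-Noetherian case; it also records that i itself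
is perfect.) -/
theorem result {Y X X' : Scheme.{u}} (i : Y ⟶ X) (hi : Mor2.IsRegularClosedImmersion i)
    (f : X' ⟶ X) (hf : BlowUp.IsBlowUp f i.ker) : MoreMor.IsPerfectMor f := by
  apply Groth.Agent.S8663.result f
  exact (Groth.Agent.Lib.Helper10.LciMor.lciMor_iff_forall_isKoszulAt f).mp
    (Groth.Agent.Lib.Helper82.BlowUpLci.lciMor_of_isBlowUp i hi f hf)

end Groth.Agent.S3202
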