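import Mathlib
import Groth.Statements.S3206
import Groth.Agent.Lib.Helper63.Morse
-- import your own Groth.Agent.* helpers here

set_option autoImplicit false
open SGA7

namespace Groth.Agent.S3206

/-- Let k be a field and f a formal power series in n variables over k without constant term whose
partial derivatives ∂f/∂x_1, …, ∂f/∂x_n generate the maximal ideal of k[[x_1, …, x_n]]. Then there
are power series ε_1, …, ε_n with no terms of degree < 2 and a quadratic form q such that f = q(x_1
+ ε_1, …, x_n + ε_n). -/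
theorem result (k : Type) [Field k] (n : ℕ) (f : MvPowerSeries (Fin n) k)
    (hf0 : MvPowerSeries.constantCoeff f = 0)
    (hJ : Ideal.span (Set.range fun i : Fin n => MvPowerSeries.pderiv k i f) = IsLocalRing.maximalIdeal (MvPowerSeries (Fin n) k)) :
    ∃ (ε : Fin n → MvPowerSeries (Fin n) k) (_ : ∀ i (m : Fin n →₀ ℕ), m.degree < 2 → MvPowerSeries.coeff m (ε i) = 0)
      (q : MvPolynomial (Fin n) k) (_ : q.IsHomogeneous 2)
      (_ : MvPowerSeries.HasSubst (fun i : Fin n => MvPowerSeries.X i + ε i)),
      f = MvPowerSeries.subst (fun i : Fin n => MvPowerSeries.X i + ε i) (q : MvPowerSeries (Fin n) k) := by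
  classical
  obtain ⟨ε, Q, hε, hQ, hfQ⟩ := Groth.Agent.Lib.Helper63.Morse.morse f hf0 hJ
  have hε0 : ∀ i, MvPowerSeries.constantCoeff (ε i) = 0 := fun i =>
    MvPowerSeries.one_le_order_iff_constCoeff_eq_zero.mp
      (le_trans (by exact_mod_cast (by omega : 1 ≤ 2)) (hε i))
  have hcoe : ((MvPowerSeries.truncTotal 3 Q : MvPolynomial (Fin n) k) : MvPowerSeries (Fin n) k) = Q := by
    ext d
    rw [MvPolynomial.coeff_coe, MvPowerSeries.coeff_truncTotal_eq_ite]
    split_ifs with h
    · rfl
    · exact (hQ d (by omega)).symm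
  refine ⟨ε, ?_, MvPowerSeries.truncTotal 3 Q, ?_, ?_, ?_⟩
  · intro i m hm
    exact MvPowerSeries.coeff_of_lt_order (lt_of_lt_of_le (by exact_mod_cast hm) (hε i))
  · intro d hd
    rw [MvPowerSeries.coeff_truncTotal_eq_ite] at hd
    have hd' : MvPowerSeries.coeff d Q ≠ 0 := by
      split_ifs at hd with h
      · exact hd
      · exact absurd rfl hd
    have h2 : Finsupp.degree d = 2 := by
      by_contra h
      exact hd' (hQ d h)
    rw [← h2, Finsupp.degree_eq_weight_one]
    rfl
  · exact MvPowerSeries.hasSubst_of_constantCoeff_zero fun i => by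
      rw [map_add, MvPowerSeries.constantCoeff_X, hε0 i, add_zero]
  · rw [hcoe]
    exact hfQ

end Groth.Agent.S3206
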