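import Groth.Statements.S3208
import Mathlib.LinearAlgebra.FreeModule.PID
import Mathlib.Algebra.CharP.Lemmas
import Mathlib.Data.Nat.Factors
import Mathlib.Tactic

set_option autoImplicit false
open SGA7

namespace Groth.Agent.S3208

/-- In a finitely generated torsion-free abelian group, an element divisible by all powers of
an integer `p ≥ 2` is zero. -/
theorem eq_zero_of_forall_pow_dvd {E : Type} [CommRing E] [NoZeroSMulDivisors ℤ E] [Module.Finite ℤ E]
    (p : ℕ) (hp : 2 ≤ p) (y : E) (h : ∀ j : ℕ, ∃ z : E, y = (p : E) ^ j * z) : y = 0 := by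
  classical
  let b := Module.Free.chooseBasis ℤ E
  apply b.repr.injective
  rw [map_zero]
  ext i
  simp only [Finsupp.coe_zero, Pi.zero_apply]
  obtain ⟨c, hcdef⟩ : ∃ c, b.repr y i = c := ⟨_, rfl⟩
  rw [hcdef]
  by_contra hc
  obtain ⟨z, hz⟩ := h c.natAbs
  have hdvd : ((p : ℤ) ^ c.natAbs) ∣ c := by
    refine ⟨b.repr z i, ?_⟩
    have : y = ((p : ℤ) ^ c.natAbs) • z := by
      rw [hz, zsmul_eq_mul]
      push_cast
      ring
    have h2 : b.repr y i = (p : ℤ) ^ c.natAbs * b.repr z i := by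
      rw [this, map_smul, Finsupp.smul_apply, smul_eq_mul]
    rw [hcdef] at h2
    exact h2
  have hle : (p : ℤ) ^ c.natAbs ≤ |c| := by
    have := Int.le_of_dvd (abs_pos.mpr hc) ((dvd_abs _ _).mpr hdvd)
    exact this
  have hlt : (c.natAbs : ℤ) < (p : ℤ) ^ c.natAbs := by
    have h2 : c.natAbs < p ^ c.natAbs := Nat.lt_pow_self (by omega)
    exact_mod_cast h2
  rw [Int.abs_eq_natAbs] at hle
  omega

theorem descent_same {E : Type} [CommRing E] [NoZeroSMulDivisors ℤ E] [Module.Finite ℤ E]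
    (p : ℕ) (hp : 2 ≤ p) (v w : E) (h : v = (p : E) * w * v ^ 2) : v = 0 := by
  apply eq_zero_of_forall_pow_dvd p hp
  intro j
  induction j with
  | zero => exact ⟨v, by simp⟩
  | succ j ih =>
    obtain ⟨z, hz⟩ := ih
    refine ⟨w * (p : E) ^ j * z ^ 2, ?_⟩
    calc v = (p : E) * w * v ^ 2 := h
      _ = (p : E) * w * ((p : E) ^ j * z) ^ 2 := by rw [← hz]
      _ = (p : E) ^ (j + 1) * (w * (p : E) ^ j * z ^ 2) := by ring

theorem descent_coprime {E : Type} [CommRing E] [NoZeroSMulDivisors ℤ E] [Module.Finite ℤ E]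
    (p ℓ : ℕ) (hp : 2 ≤ p) (hcop : Nat.Coprime ℓ p) (v w : E)
    (h : (ℓ : E) * v = (p : E) * w * v ^ 2) : v = 0 := by
  apply eq_zero_of_forall_pow_dvd p hp
  intro j
  induction j with
  | zero => exact ⟨v, by simp⟩
  | succ j ih =>
    obtain ⟨z, hz⟩ := ih
    have hc : IsCoprime (ℓ : ℤ) ((p : ℤ) ^ (j + 1)) := by
      apply IsCoprime.pow_right
      exact Nat.isCoprime_iff_coprime.mpr hcop
    obtain ⟨a, b, hab⟩ := hc
    have hab' : (a : E) * (ℓ : E) + (b : E) * (p : E) ^ (j + 1) = 1 := by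
      have := congrArg (Int.cast : ℤ → E) hab
      push_cast at this
      exact this
    refine ⟨(a : E) * (w * (p : E) ^ j * z ^ 2) + (b : E) * v, ?_⟩
    have h1 : (ℓ : E) * v = (p : E) ^ (j + 1) * (w * (p : E) ^ j * z ^ 2) := by
      calc (ℓ : E) * v = (p : E) * w * v ^ 2 := h
        _ = (p : E) * w * ((p : E) ^ j * z) ^ 2 := by rw [← hz]
        _ = (p : E) ^ (j + 1) * (w * (p : E) ^ j * z ^ 2) := by ring
    calc v = ((a : E) * (ℓ : E) + (b : E) * (p : E) ^ (j + 1)) * v := by rw [hab', one_mul]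
      _ = (a : E) * ((ℓ : E) * v) + (b : E) * (p : E) ^ (j + 1) * v := by ring
      _ = (a : E) * ((p : E) ^ (j + 1) * (w * (p : E) ^ j * z ^ 2)) + (b : E) * (p : E) ^ (j + 1) * v := by
          rw [h1]
      _ = (p : E) ^ (j + 1) * ((a : E) * (w * (p : E) ^ j * z ^ 2) + (b : E) * v) := by ring

/-- The main equation obtained from `(1 + n v)^ℓ = 1`. -/
theorem main_eq {E : Type} [CommRing E] [NoZeroSMulDivisors ℤ E] [Module.Finite ℤ E]
    (ℓ : ℕ) (hℓ : ℓ.Prime) (n : ℕ) (hn : 3 ≤ n) (v : E) (hv : (1 + (n : E) * v) ^ ℓ = 1) :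
    ∃ r' : E, (ℓ : E) * v = -(n : E) * v ^ 2 * (((n : E) * v) ^ (ℓ - 2) + (ℓ : E) * r') := by
  classical
  have hℓ2 : 2 ≤ ℓ := hℓ.two_le
  obtain ⟨x, hx⟩ : ∃ x : E, x = (n : E) * v := ⟨_, rfl⟩
  rw [← hx] at hv ⊢
  have hexp := add_pow_prime_eq hℓ x (1 : E)
  obtain ⟨r, hr⟩ : ∃ r : E, r = ∑ k ∈ Finset.Ioo 0 ℓ, x ^ (k - 1) * 1 ^ (ℓ - k - 1) * ((ℓ.choose k / ℓ : ℕ) : E) :=
    ⟨_, rfl⟩
  rw [← hr] at hexp
  have hr1 : ∃ r' : E, r = 1 + x * r' := by
    refine ⟨∑ k ∈ Finset.Ioo 1 ℓ, x ^ (k - 2) * ((ℓ.choose k / ℓ : ℕ) : E), ?_⟩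
    have hIoo : Finset.Ioo 0 ℓ = insert 1 (Finset.Ioo 1 ℓ) := by
      ext k
      simp only [Finset.mem_Ioo, Finset.mem_insert]
      omega
    rw [hr, hIoo, Finset.sum_insert (by simp), Finset.mul_sum]
    congr 1
    · simp [Nat.choose_one_right, Nat.div_self hℓ.pos]
    · apply Finset.sum_congr rfl
      intro k hk
      have : 2 ≤ k := by
        have := Finset.mem_Ioo.mp hk
        omega
      have hk' : k - 1 = (k - 2) + 1 := by omega
      rw [hk', pow_succ, one_pow]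
      ring
  obtain ⟨r', hr'⟩ := hr1
  refine ⟨r', ?_⟩
  have h0 : x ^ ℓ + (ℓ : E) * x * r = 0 := by
    have h1 : (x + 1) ^ ℓ = 1 := by rw [add_comm]; exact hv
    rw [hexp, one_pow, mul_one] at h1
    linear_combination h1
  have hpow : x ^ ℓ = x * x * x ^ (ℓ - 2) := by
    have : ℓ = (ℓ - 2) + 2 := by omega
    conv_lhs => rw [this]
    ring
  rw [hpow, hr'] at h0
  have h2 : (n : ℤ) • (v * (x * x ^ (ℓ - 2) + (ℓ : E) + (ℓ : E) * x * r')) = 0 := by
    rw [zsmul_eq_mul]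
    push_cast
    rw [← h0, hx]
    ring
  have hn0 : (n : ℤ) ≠ 0 := by omega
  have h3 := (smul_eq_zero.mp h2).resolve_left hn0
  rw [hx] at h3 ⊢
  linear_combination h3

/-- The key lemma: a unit of prime order `ℓ` congruent to `1` modulo `n ≥ 3` is `1`. -/
theorem eq_zero_of_prime_order {E : Type} [CommRing E] [NoZeroSMulDivisors ℤ E] [Module.Finite ℤ E]
    (ℓ : ℕ) (hℓ : ℓ.Prime) (n : ℕ) (hn : 3 ≤ n) (v : E) (hv : (1 + (n : E) * v) ^ ℓ = 1) : v = 0 := by
  obtain ⟨r', hmain⟩ := main_eq ℓ hℓ n hn v hv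
  by_cases hA : ∃ p : ℕ, p.Prime ∧ p ∣ n ∧ p ≠ ℓ
  · obtain ⟨p, hp, ⟨n₁, rfl⟩, hne⟩ := hA
    apply descent_coprime p ℓ hp.two_le ((Nat.coprime_primes hℓ hp).mpr (Ne.symm hne)) v
      (-(n₁ : E) * ((((p * n₁ : ℕ) : E) * v) ^ (ℓ - 2) + (ℓ : E) * r'))
    rw [hmain]
    push_cast
    ring
  · push Not at hA
    have hℓn : ℓ ∣ n := by
      obtain ⟨p, hp, hpn⟩ := Nat.exists_prime_and_dvd (show n ≠ 1 by omega)
      rw [← hA p hp hpn]
      exact hpn
    obtain ⟨n₁, rfl⟩ := hℓn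
    have hℓ0 : (ℓ : ℤ) ≠ 0 := by
      have := hℓ.pos
      omega
    have h1 : v = -(n₁ : E) * v ^ 2 * ((((ℓ * n₁ : ℕ) : E) * v) ^ (ℓ - 2) + (ℓ : E) * r') := by
      have h2 : (ℓ : ℤ) • (v - (-(n₁ : E) * v ^ 2 * ((((ℓ * n₁ : ℕ) : E) * v) ^ (ℓ - 2) + (ℓ : E) * r'))) = 0 := by
        rw [zsmul_eq_mul]
        push_cast at hmain ⊢
        linear_combination hmain
      have h3 := (smul_eq_zero.mp h2).resolve_left hℓ0
      linear_combination h3
    by_cases hB : ℓ ∣ n₁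
    · obtain ⟨n₂, rfl⟩ := hB
      apply descent_same ℓ hℓ.two_le v
        (-(n₂ : E) * ((((ℓ * (ℓ * n₂) : ℕ) : E) * v) ^ (ℓ - 2) + (ℓ : E) * r'))
      conv_lhs => rw [h1]
      push_cast
      ring
    · have hn1 : n₁ = 1 := by
        by_contra hne
        obtain ⟨p, hp, hpn⟩ := Nat.exists_prime_and_dvd hne
        have := hA p hp (Dvd.dvd.mul_left hpn ℓ)
        rw [this] at hpn
        exact hB hpn
      subst hn1
      have hℓ3 : 3 ≤ ℓ := by omega
      have ht' : (((ℓ * 1 : ℕ) : E) * v) ^ (ℓ - 2) + (ℓ : E) * r' =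
          (ℓ : E) * (v * ((ℓ : E) * v) ^ (ℓ - 3) + r') := by
        have : ℓ - 2 = (ℓ - 3) + 1 := by omega
        rw [this, pow_succ]
        push_cast
        ring
      apply descent_same ℓ hℓ.two_le v (-(v * ((ℓ : E) * v) ^ (ℓ - 3) + r'))
      conv_lhs => rw [h1, ht']
      push_cast
      ring

/-- Strong induction: an element of finite order congruent to `1` modulo `n ≥ 3` is `1`. -/
theorem eq_one_of_pow_eq_one {E : Type} [CommRing E] [NoZeroSMulDivisors ℤ E] [Module.Finite ℤ E]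
    (n : ℕ) (hn : 3 ≤ n) : ∀ (m : ℕ), 0 < m → ∀ (u v : E), u ^ m = 1 → 1 - u = (n : E) * v → u = 1 := by
  intro m
  induction m using Nat.strong_induction_on with
  | _ m ih =>
    intro hm u v hu huv
    by_cases hm1 : m = 1
    · subst hm1
      simpa using hu
    · obtain ⟨ℓ, hℓ, m', rfl⟩ := Nat.exists_prime_and_dvd hm1
      have hm' : 0 < m' := Nat.pos_of_ne_zero (by rintro rfl; simp at hm)
      have hlt : m' < ℓ * m' := by
        have := hℓ.two_le
        nlinarith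
      -- u^ℓ ≡ 1 mod n
      have hgeom : 1 - u ^ ℓ = (n : E) * (v * ∑ i ∈ Finset.range ℓ, u ^ i) := by
        rw [← mul_neg_geom_sum u ℓ, huv]
        ring
      have huℓ : u ^ ℓ = 1 := ih m' hlt hm' (u ^ ℓ) _ (by rw [← pow_mul]; exact hu) hgeom
      have hv0 : -v = 0 := by
        apply eq_zero_of_prime_order ℓ hℓ n hn (-v)
        have : 1 + (n : E) * -v = u := by linear_combination huv
        rw [this, huℓ]
      have : v = 0 := by simpa using hv0
      rw [this, mul_zero] at huv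
      linear_combination -huv

/-- Let E be a commutative ring which is finitely generated and torsion-free as an additive group, u an
element of E of finite multiplicative order (u^m = 1 for some m > 0), and n ≥ 2 an integer with u ≡
1 modulo nE (i.e. 1 - u = n·v for some v ∈ E). Then u² = 1, and if n ≥ 3 then u = 1. -/
theorem result (E : Type) [CommRing E] [NoZeroSMulDivisors ℤ E] [Module.Finite ℤ E] (u : E) (m : ℕ) (hm : 0 < m)
    (hu : u ^ m = 1) (n : ℕ) (hn : 2 ≤ n) (hcong : ∃ v : E, 1 - u = (n : E) * v) :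
    u ^ 2 = 1 ∧ (3 ≤ n → u = 1) := by
  obtain ⟨v, hv⟩ := hcong
  have h3 : 3 ≤ n → u = 1 := fun h => eq_one_of_pow_eq_one n h m hm u v hu hv
  refine ⟨?_, h3⟩
  by_cases hn3 : 3 ≤ n
  · rw [h3 hn3, one_pow]
  · have hn2 : n = 2 := by omega
    subst hn2
    apply eq_one_of_pow_eq_one 4 (by norm_num) m hm (u ^ 2) (v - v ^ 2)
    · rw [← pow_mul, mul_comm, pow_mul, hu, one_pow]
    · push_cast at hv ⊢
      linear_combination (1 + u - 2 * v) * hv

end Groth.Agent.S3208
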