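import Groth.Statements.S3209
import Mathlib.LinearAlgebra.TensorProduct.RightExactness

set_option autoImplicit false
universe u
open TensorProduct
open SGA7

namespace Groth.Agent.S3209

/-- Let f : B' → B be a surjective map of R-algebras with kernel J, g : C → B a map of R-algebras, P =
B' ×_B C their fibre product (the equalizer of f ∘ pr₁ and g ∘ pr₂ in B' × C) and S an R-algebra
such that S ⊗_R J → S ⊗_R B' is injective (this holds when Tor_1^R(B, S) = 0, the published
hypothesis, and in particular when S is flat). Then the canonical map S ⊗_R P → (S ⊗_R B') ×_{S ⊗_R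
B} (S ⊗_R C) is bijective: it is injective, and every pair with the same image in S ⊗_R B comes from
S ⊗_R P. -/
theorem result (R B' B C S : Type u) [CommRing R] [CommRing B'] [CommRing B] [CommRing C]
    [CommRing S] [Algebra R B'] [Algebra R B] [Algebra R C] [Algebra R S]
    (f : B' →ₐ[R] B) (hf : Function.Surjective f) (g : C →ₐ[R] B)
    (hJ : Function.Injective (LinearMap.lTensor S (LinearMap.ker f.toLinearMap).subtype)) :
    letI P := AlgHom.equalizer (f.comp (AlgHom.fst R B' C)) (g.comp (AlgHom.snd R B' C))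
    letI φ₁ := Algebra.TensorProduct.map (AlgHom.id R S) ((AlgHom.fst R B' C).comp P.val)
    letI φ₂ := Algebra.TensorProduct.map (AlgHom.id R S) ((AlgHom.snd R B' C).comp P.val)
    Function.Injective (fun z : S ⊗[R] ↥P => (φ₁ z, φ₂ z)) ∧
    ∀ (x : S ⊗[R] B') (y : S ⊗[R] C),
      Algebra.TensorProduct.map (AlgHom.id R S) f x = Algebra.TensorProduct.map (AlgHom.id R S) g y →
        ∃ z : S ⊗[R] ↥P, φ₁ z = x ∧ φ₂ z = y := by
  let P := AlgHom.equalizer (f.comp (AlgHom.fst R B' C)) (g.comp (AlgHom.snd R B' C))
  let φ₁ := Algebra.TensorProduct.map (AlgHom.id R S) ((AlgHom.fst R B' C).comp P.val)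
  let φ₂ := Algebra.TensorProduct.map (AlgHom.id R S) ((AlgHom.snd R B' C).comp P.val)
  change Function.Injective (fun z : S ⊗[R] ↥P => (φ₁ z, φ₂ z)) ∧
    ∀ (x : S ⊗[R] B') (y : S ⊗[R] C),
      Algebra.TensorProduct.map (AlgHom.id R S) f x = Algebra.TensorProduct.map (AlgHom.id R S) g y →
        ∃ z : S ⊗[R] ↥P, φ₁ z = x ∧ φ₂ z = y
  -- linear maps
  let J := LinearMap.ker f.toLinearMap
  let ι : J →ₗ[R] B' := J.subtype
  -- inclusion J → P
  let ιP : J →ₗ[R] P :=
    { toFun := fun j => ⟨((j : B'), (0 : C)), by
        change f (j : B') = g 0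
        rw [map_zero]
        exact j.2⟩
      map_add' := fun a b => by
        apply Subtype.ext
        simp
      map_smul' := fun r a => by
        apply Subtype.ext
        simp }
  let p₁ : P →ₗ[R] B' := ((AlgHom.fst R B' C).comp P.val).toLinearMap
  let p₂ : P →ₗ[R] C := ((AlgHom.snd R B' C).comp P.val).toLinearMap
  have hp₂surj : Function.Surjective p₂ := by
    intro c
    obtain ⟨b', hb'⟩ := hf (g c)
    exact ⟨⟨(b', c), hb'⟩, rfl⟩
  have hexP : Function.Exact ιP p₂ := by
    intro z
    constructor
    · intro hz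
      have hz1 : f z.1.1 = g z.1.2 := z.2
      have hz2 : z.1.2 = 0 := hz
      refine ⟨⟨z.1.1, ?_⟩, ?_⟩
      · change f z.1.1 = 0
        rw [hz1, hz2, map_zero]
      · apply Subtype.ext
        apply Prod.ext
        · rfl
        · exact hz2.symm
    · rintro ⟨j, rfl⟩
      rfl
  have hexB : Function.Exact ι f.toLinearMap := by
    intro b'
    constructor
    · intro hb'
      exact ⟨⟨b', hb'⟩, rfl⟩
    · rintro ⟨j, rfl⟩
      exact j.2
  have hfsurj : Function.Surjective f.toLinearMap := hf
  have hexSP := lTensor_exact S hexP hp₂surj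
  have hexSB := lTensor_exact S hexB hfsurj
  have hSp₂surj : Function.Surjective (LinearMap.lTensor S p₂) := LinearMap.lTensor_surjective S hp₂surj
  -- identify the algebra maps with lTensor
  have hφ₁ : ∀ z, φ₁ z = LinearMap.lTensor S p₁ z := by
    intro z
    induction z using TensorProduct.induction_on with
    | zero => simp
    | tmul s x => rfl
    | add x y hx hy => rw [map_add, map_add, hx, hy]
  have hφ₂ : ∀ z, φ₂ z = LinearMap.lTensor S p₂ z := by
    intro z
    induction z using TensorProduct.induction_on with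
    | zero => simp
    | tmul s x => rfl
    | add x y hx hy => rw [map_add, map_add, hx, hy]
  have hF : ∀ x, Algebra.TensorProduct.map (AlgHom.id R S) f x = LinearMap.lTensor S f.toLinearMap x := by
    intro z
    induction z using TensorProduct.induction_on with
    | zero => simp
    | tmul s x => rfl
    | add x y hx hy => rw [map_add, map_add, hx, hy]
  have hG : ∀ x, Algebra.TensorProduct.map (AlgHom.id R S) g x = LinearMap.lTensor S g.toLinearMap x := by
    intro z
    induction z using TensorProduct.induction_on with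
    | zero => simp
    | tmul s x => rfl
    | add x y hx hy => rw [map_add, map_add, hx, hy]
  -- compatibilities
  have hcomp1 : ∀ w, LinearMap.lTensor S p₁ (LinearMap.lTensor S ιP w) = LinearMap.lTensor S ι w := by
    intro w
    rw [← LinearMap.comp_apply, ← LinearMap.lTensor_comp]
    rfl
  have hcomp2 : ∀ z, LinearMap.lTensor S f.toLinearMap (LinearMap.lTensor S p₁ z) =
      LinearMap.lTensor S g.toLinearMap (LinearMap.lTensor S p₂ z) := by
    intro z
    rw [← LinearMap.comp_apply, ← LinearMap.lTensor_comp, ← LinearMap.comp_apply,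
      ← LinearMap.lTensor_comp]
    congr 2
    ext x
    exact x.2
  constructor
  · -- injectivity
    intro z z' hzz'
    have h1 : φ₁ (z - z') = 0 := by
      rw [map_sub, sub_eq_zero]
      exact congrArg Prod.fst hzz'
    have h2 : φ₂ (z - z') = 0 := by
      rw [map_sub, sub_eq_zero]
      exact congrArg Prod.snd hzz'
    rw [hφ₂] at h2
    obtain ⟨w, hw⟩ := (hexSP _).mp h2
    rw [hφ₁, ← hw, hcomp1] at h1
    have hw0 : w = 0 := by
      apply hJ
      rw [h1, map_zero]
    rw [hw0, map_zero] at hw
    exact sub_eq_zero.mp hw.symm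
  · intro x y hxy
    obtain ⟨z₀, hz₀⟩ := hSp₂surj y
    have h1 : LinearMap.lTensor S f.toLinearMap (x - LinearMap.lTensor S p₁ z₀) = 0 := by
      rw [map_sub, hcomp2, hz₀, ← hF, ← hG, hxy, sub_self]
    obtain ⟨w, hw⟩ := (hexSB _).mp h1
    refine ⟨z₀ + LinearMap.lTensor S ιP w, ?_, ?_⟩
    · rw [hφ₁, map_add, hcomp1, hw]
      abel
    · rw [hφ₂, map_add, hz₀]
      have : LinearMap.lTensor S p₂ (LinearMap.lTensor S ιP w) = 0 := (hexSP _).mpr ⟨w, rfl⟩
      rw [this, add_zero]

end Groth.Agent.S3209
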