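import Groth.Statements.S3212
import Groth.Agent.Lib.Helper16.QLinear

set_option autoImplicit false
universe u v
open SGA7II

namespace Groth.Agent.S3212

/-- Let k be a separably closed field of characteristic p > 0, q = p^r (r >= 1), V a finite-dimensional
k-vector space and phi : V -> V an additive map with phi(c v) = c^q phi(v) (a q-linear
endomorphism). If phi is semisimple, i.e. its image spans V over k, then V has a k-basis consisting
of fixed vectors of phi, and the coordinates of every fixed vector in such a basis satisfy c^q = c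
(so V is obtained from the F_q-space of fixed vectors by extension of scalars). -/
theorem result (k : Type u) [Field k] [IsSepClosed k] (p : ℕ)
    [Fact p.Prime] [CharP k p] (r : ℕ) (hr : 0 < r) (V : Type v) [AddCommGroup V] [Module k V]
    [FiniteDimensional k V] (φ : V →+ V) (hφ : ∀ (c : k) (v : V), φ (c • v) = c ^ (p ^ r) • φ v)
    (hss : Submodule.span k (Set.range φ) = ⊤) :
    ∃ b : Module.Basis (Fin (Module.finrank k V)) k V, (∀ i, φ (b i) = b i) ∧
      ∀ v : V, φ v = v → ∀ i, (b.repr v i) ^ (p ^ r) = b.repr v i := by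
  let T : V →ₛₗ[Groth.Agent.Lib.Helper16.qFrob k p r] V :=
    { toFun := φ
      map_add' := map_add φ
      map_smul' := fun c v => by
        simpa [Groth.Agent.Lib.Helper16.qFrob_apply] using hφ c v }
  obtain ⟨b, hb⟩ := Groth.Agent.Lib.Helper96.SigmaLin.exists_basis_fixed T hss
    (Groth.Agent.Lib.Helper16.hyp2_qFrob k p hr) (Groth.Agent.Lib.Helper16.hyp3_qFrob k p hr)
  refine ⟨b, hb, ?_⟩
  intro v hv i
  have h1 : T v = ∑ j, (b.repr v j) ^ (p ^ r) • b j := by
    conv_lhs => rw [← b.sum_repr v]
    rw [map_sum]
    refine Finset.sum_congr rfl fun j _ => ?_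
    rw [LinearMap.map_smulₛₗ, hb j]
    rfl
  have h2 : b.repr (T v) i = (b.repr v i) ^ (p ^ r) := by
    rw [h1]
    exact congrFun (b.repr_sum_self _) i
  have h3 : T v = v := hv
  rw [← h2, h3]

end Groth.Agent.S3212
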