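import Groth.Statements.S3213
import Groth.Agent.Lib.Helper16.QLinear

set_option autoImplicit false
universe u v
open SGA7II

namespace Groth.Agent.S3213

/-- Let k be a separably closed field of characteristic p > 0, q = p^r (r >= 1), V a finite-dimensional
k-vector space and phi : V -> V additive with phi(c v) = c^q phi(v). Then the additive map v |-> v -
phi(v) is surjective. -/
theorem result (k : Type u) [Field k] [IsSepClosed k] (p : ℕ) [Fact p.Prime] [CharP k p]
    (r : ℕ) (hr : 0 < r) (V : Type v) [AddCommGroup V] [Module k V] [FiniteDimensional k V] (φ : V →+ V)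
    (hφ : ∀ (c : k) (v : V), φ (c • v) = c ^ (p ^ r) • φ v) :
    Function.Surjective (fun v : V => v - φ v) := by
  let T : V →ₛₗ[Groth.Agent.Lib.Helper16.qFrob k p r] V :=
    { toFun := φ
      map_add' := map_add φ
      map_smul' := fun c v => by
        simpa [Groth.Agent.Lib.Helper16.qFrob_apply] using hφ c v }
  have hT : ∀ v, φ v = T v := fun _ => rfl
  obtain ⟨N, hN⟩ := Groth.Agent.Lib.Helper96.SigmaLin.exists_Winf_eq T
  intro u
  have huN : (⇑T)^[N] u ∈ Groth.Agent.Lib.Helper96.SigmaLin.Winf T := by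
    rw [← hN N le_rfl]
    exact Submodule.subset_span ⟨u, rfl⟩
  obtain ⟨b', hb'⟩ := Groth.Agent.Lib.Helper96.SigmaLin.sub_map_surjective
    (Groth.Agent.Lib.Helper96.SigmaLin.restrictWinf T)
    (Groth.Agent.Lib.Helper96.SigmaLin.span_range_restrictWinf T)
    (Groth.Agent.Lib.Helper16.hyp2_qFrob k p hr) (Groth.Agent.Lib.Helper16.hyp3_qFrob k p hr)
    ⟨(⇑T)^[N] u, huN⟩
  have hb'' : (b' : V) - T (b' : V) = (⇑T)^[N] u := by
    have := congrArg Subtype.val hb'
    simpa [Groth.Agent.Lib.Helper96.SigmaLin.restrictWinf_apply] using this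
  have ha' : (∑ i ∈ Finset.range N, (⇑T)^[i] u) - T (∑ i ∈ Finset.range N, (⇑T)^[i] u) =
      u - (⇑T)^[N] u := by
    rw [map_sum, ← Finset.sum_sub_distrib]
    have : ∀ i ∈ Finset.range N, (⇑T)^[i] u - T ((⇑T)^[i] u) = (⇑T)^[i] u - (⇑T)^[i + 1] u := by
      intro i _
      rw [Function.iterate_succ_apply']
    rw [Finset.sum_congr rfl this, Finset.sum_range_sub']
    simp
  refine ⟨(∑ i ∈ Finset.range N, (⇑T)^[i] u) + (b' : V), ?_⟩
  simp only
  rw [hT, map_add]
  set A := ∑ i ∈ Finset.range N, (⇑T)^[i] u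
  have : A + (b' : V) - (T A + T (b' : V)) = (A - T A) + ((b' : V) - T (b' : V)) := by abel
  rw [this, ha', hb'']
  abel

end Groth.Agent.S3213
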