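import Groth.Statements.S3214
import Mathlib.RingTheory.Polynomial.Vieta

set_option autoImplicit false
open Polynomial
universe u
open SGA7II

namespace Groth.Agent.S3214

/-- In the recursive form established in its proof: let A = Z[X_1, ..., X_a] (a >= 1), P = prod_i (T -
X_i) in A[T] and S_i the i-th elementary symmetric function. Writing a_j for the coefficient of
T^{a-1} in the remainder of T^{a-1+j} modulo P, one has a_0 = 1 and sum_{i=0}^{a} (-1)^i S_i a_{j-i}
= 0 for every j > 0 (with a_m = 0 for m < 0); equivalently sum_j (-1)^j a_j is the inverse of sum_i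
S_i. (The source works in formal power series; the identity involves only polynomials.) -/
theorem result (a : ℕ) (ha : 0 < a) :
    let P : (MvPolynomial (Fin a) ℤ)[X] := ∏ i : Fin a, (X - C (MvPolynomial.X i))
    let coef : ℤ → MvPolynomial (Fin a) ℤ := fun j =>
      if j < 0 then 0 else ((X : (MvPolynomial (Fin a) ℤ)[X]) ^ (a - 1 + j.toNat) %ₘ P).coeff (a - 1)
    coef 0 = 1 ∧ ∀ j : ℕ, 0 < j →
      (∑ i ∈ Finset.range (a + 1), (-1 : MvPolynomial (Fin a) ℤ) ^ i * MvPolynomial.esymm (Fin a) ℤ i *
        coef ((j : ℤ) - i)) = 0 := by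
  classical
  intro P coef
  -- P as a sum of elementary symmetric polynomials
  have hPsum : P = ∑ i ∈ Finset.range (a + 1),
      (-1 : (MvPolynomial (Fin a) ℤ)[X]) ^ i * (C (MvPolynomial.esymm (Fin a) ℤ i) * X ^ (a - i)) := by
    let s : Multiset (MvPolynomial (Fin a) ℤ) :=
      Finset.univ.val.map fun i : Fin a => (MvPolynomial.X i : MvPolynomial (Fin a) ℤ)
    have hcard : Multiset.card s = a := by
      rw [Multiset.card_map]
      simp
    have h := Multiset.prod_X_sub_X_eq_sum_esymm s
    rw [hcard] at h
    have hP : P = (s.map fun t => X - C t).prod := by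
      simp only [P, s, Multiset.map_map, Function.comp_def]
      rfl
    rw [hP, h]
    apply Finset.sum_congr rfl
    intro i _
    rw [MvPolynomial.esymm_eq_multiset_esymm (Fin a) ℤ]
  have hmonic : P.Monic := by
    apply Polynomial.monic_prod_of_monic
    intro i _
    exact Polynomial.monic_X_sub_C _
  have hdeg : P.natDegree = a := by
    have : P.natDegree = ∑ i : Fin a, (X - C (MvPolynomial.X i) : (MvPolynomial (Fin a) ℤ)[X]).natDegree := by
      apply Polynomial.natDegree_prod_of_monic
      intro i _
      exact Polynomial.monic_X_sub_C _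
    rw [this]
    simp
  have hnontriv : Nontrivial (MvPolynomial (Fin a) ℤ) := inferInstance
  -- remainder of small powers
  have hsmall : ∀ m : ℕ, m < a → (X : (MvPolynomial (Fin a) ℤ)[X]) ^ m %ₘ P = X ^ m := by
    intro m hm
    apply (Polynomial.modByMonic_eq_self_iff hmonic).mpr
    rw [Polynomial.degree_eq_natDegree hmonic.ne_zero, hdeg, Polynomial.degree_X_pow]
    exact_mod_cast hm
  constructor
  · -- coef 0 = 1
    simp only [coef]
    rw [if_neg (by omega)]
    simp only [Int.toNat_zero, add_zero]
    rw [hsmall (a - 1) (by omega), Polynomial.coeff_X_pow, if_pos rfl]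
  · intro j hj
    -- (X^(j-1) * P) %ₘ P = 0
    have hzero : (X ^ (j - 1) * P) %ₘ P = 0 := by
      rw [Polynomial.modByMonic_eq_zero_iff_dvd hmonic]
      exact Dvd.intro_left _ rfl
    have hexp : X ^ (j - 1) * P = ∑ i ∈ Finset.range (a + 1),
        C ((-1 : MvPolynomial (Fin a) ℤ) ^ i * MvPolynomial.esymm (Fin a) ℤ i) * X ^ (a - 1 + j - i) := by
      rw [hPsum, Finset.mul_sum]
      apply Finset.sum_congr rfl
      intro i hi
      have hi' : i ≤ a := by
        have := Finset.mem_range.mp hi
        omega
      have he : a - 1 + j - i = (j - 1) + (a - i) := by omega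
      rw [he, pow_add, map_mul, map_pow, map_neg, map_one]
      ring
    have hlin : (X ^ (j - 1) * P) %ₘ P = ∑ i ∈ Finset.range (a + 1),
        C ((-1 : MvPolynomial (Fin a) ℤ) ^ i * MvPolynomial.esymm (Fin a) ℤ i) *
          (X ^ (a - 1 + j - i) %ₘ P) := by
      rw [hexp]
      rw [← Polynomial.modByMonicHom_apply, map_sum]
      apply Finset.sum_congr rfl
      intro i _
      rw [← Polynomial.smul_eq_C_mul, map_smul, Polynomial.smul_eq_C_mul, Polynomial.modByMonicHom_apply]
    rw [hzero] at hlin
    have hc := congrArg (fun p => Polynomial.coeff p (a - 1)) hlin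
    simp only [Polynomial.coeff_zero, Polynomial.finsetSum_coeff, Polynomial.coeff_C_mul] at hc
    rw [hc]
    apply Finset.sum_congr rfl
    intro i hi
    have hi' : i ≤ a := by
      have := Finset.mem_range.mp hi
      omega
    congr 1
    simp only [coef]
    by_cases hlt : (j : ℤ) - (i : ℤ) < 0
    · rw [if_pos hlt]
      have hm : a - 1 + j - i < a - 1 := by omega
      rw [hsmall _ (by omega), Polynomial.coeff_X_pow, if_neg (by omega)]
    · rw [if_neg hlt]
      have : a - 1 + ((j : ℤ) - (i : ℤ)).toNat = a - 1 + j - i := by omega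
      rw [this]

end Groth.Agent.S3214
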