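import Groth.Statements.S3246
import Groth.Agent.Lib.Helper43.Kummer
import Groth.Agent.Lib.Helper39.EtTorsion
import Groth.Prelude.Def_SixF3
-- import your own Groth.Agent.* helpers here

set_option autoImplicit false
universe u
open CategoryTheory AlgebraicGeometry
open Dix

namespace Groth.Agent.S3246

open CategoryTheory.Limits Opposite Abelian in
/-- a sheaf killed by a power of `ℓ` is `ℓ`-primary torsion -/
theorem isPrimaryTorsion_of_nsmul_id {X : Scheme.{u}} (ℓ k : ℕ) (G : EtCoh.Ab X)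
    (h : (ℓ ^ k) • 𝟙 G = 0) : Dix.IsPrimaryTorsion ℓ G := by
  intro U s x
  refine ⟨U, 𝟙 U, ⟨x, rfl⟩, k, ?_⟩
  have h1 : G.obj.map (𝟙 U).op s = s := by
    change G.obj.map (𝟙 (op U)) s = s
    rw [G.obj.map_id]
    rfl
  rw [h1, ← Groth.Agent.Lib.Helper39.EtTorsion.nsmul_id_app, h]
  rfl

/-- a natural number which is nonzero in all residue fields is a unit in the global sections -/
theorem isUnit_natCast_of_invertibleOn (X : Scheme.{u}) (N : ℕ)
    (h : ∀ x : X, (N : X.residueField x) ≠ 0) : IsUnit ((N : ℕ) : Γ(X, ⊤)) := by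
  apply X.toLocallyRingedSpace.toRingedSpace.isUnit_of_isUnit_germ ⊤
  intro x hx
  have h1 : X.presheaf.germ ⊤ x hx ((N : ℕ) : Γ(X, ⊤)) = ((N : ℕ) : X.presheaf.stalk x) :=
    map_natCast (X.presheaf.germ ⊤ x hx).hom N
  change IsUnit (X.presheaf.germ ⊤ x hx ((N : ℕ) : Γ(X, ⊤)))
  rw [h1]
  by_contra hnu
  have h2 : ((N : ℕ) : X.presheaf.stalk x) ∈ IsLocalRing.maximalIdeal (X.presheaf.stalk x) :=
    (IsLocalRing.mem_maximalIdeal _).mpr hnu
  have h3 : IsLocalRing.residue (X.presheaf.stalk x) ((N : ℕ) : X.presheaf.stalk x) = 0 :=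
    (IsLocalRing.residue_eq_zero_iff _).mpr h2
  rw [map_natCast] at h3
  exact h x h3


/-- Let X be a scheme, ℓ a prime and n an integer with cd_ℓ(X) ≤ n (étale cohomology of ℓ-primary
torsion sheaves vanishes above degree n). Then the ℓ-primary torsion of H^i(X_ét, G_m) is zero for i
> n + 1; if moreover ℓ is invertible on X, it is zero for i > n. -/
theorem result (X : Scheme.{u}) (ℓ : ℕ) (hℓ : ℓ.Prime) (n : ℕ) (hcd : Dix.CohDimLEAt X ℓ n) : (∀ i : ℕ, n + 1 < i → ∀ ξ : EtCoh.H X (EtCoh.Gm X) i, (∃ k : ℕ, ℓ ^ k • ξ = 0) → ξ = 0) ∧ (Dix.InvertibleOn X ℓ → ∀ i : ℕ, n < i → ∀ ξ : EtCoh.H X (EtCoh.Gm X) i, (∃ k : ℕ, ℓ ^ k • ξ = 0) → ξ = 0) := by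
  open CategoryTheory.Limits Opposite Abelian Groth.Agent.Lib.Helper39.ExtTorsion in
  refine ⟨?_, ?_⟩
  · intro i hi ξ hξ
    obtain ⟨k, hk⟩ := hξ
    refine eq_zero_of_nsmul_eq_zero (C := EtCoh.Ab X) _ (EtCoh.Gm X) (ℓ ^ k) n i hi ?_ ξ hk
    intro G hG r hr y
    have := hcd G (isPrimaryTorsion_of_nsmul_id ℓ k G hG) r hr
    exact Subsingleton.elim _ _
  · intro hinv i hi ξ hξ
    obtain ⟨k, hk⟩ := hξ
    have hunit : IsUnit (((ℓ ^ k : ℕ) : ℕ) : Γ(X, ⊤)) := by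
      apply isUnit_natCast_of_invertibleOn
      intro x
      rw [Nat.cast_pow]
      exact pow_ne_zero _ (hinv x)
    have hepi : Epi (EtCoh.powMap X (ℓ ^ k)) := Groth.Agent.Lib.Helper43.MuConst.epi_powMap (S := X) (ℓ ^ k) hunit
    have hS := EtSix.kummerShortExact hepi
    have h0' : ξ.comp (Ext.mk₀ ((ℓ ^ k) • 𝟙 (EtCoh.Gm X))) (add_zero i) = 0 := by
      rw [comp_mk₀_nsmul, hk]
    have h0 : ξ.comp (Ext.mk₀ (EtSix.kummerSC X (ℓ ^ k)).g) (add_zero i) = 0 := h0'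
    obtain ⟨z, hz⟩ := Ext.covariant_sequence_exact₂ _ hS ξ h0
    have hμ : Dix.IsPrimaryTorsion ℓ (EtSix.kummerSC X (ℓ ^ k)).X₁ :=
      isPrimaryTorsion_of_nsmul_id ℓ k _ (nsmul_id_kernel (F := EtCoh.Gm X) (ℓ ^ k))
    have := hcd _ hμ i hi
    rw [← hz, Subsingleton.elim z 0, Ext.zero_comp]
    rfl

end Groth.Agent.S3246
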