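import Groth.Statements.S3248
-- import your own Groth.Agent.* helpers here
import Groth.Agent.Lib.Helper85.FibreAlgHom
import Groth.Agent.Lib.Helper85.CSAField
import Mathlib.LinearAlgebra.FreeModule.Finite.Matrix
import Mathlib.LinearAlgebra.Matrix.ToLin

set_option autoImplicit false
universe u
open TensorProduct
open Dix

namespace Groth.Agent.S3248

/-- Stated for a commutative subalgebra: let A be a central simple algebra of dimension r² over a field
k and L a commutative k-algebra embedded in A by an injective k-algebra homomorphism ι, such that A
is free of rank r for the right L-module structure a · l = a ι(l) (given here as a module structure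
together with that compatibility). Then L ⊗_k A is isomorphic as an L-algebra to the matrix algebra
M_r(L). (Only the existence of an isomorphism is stated; the text names the map a ⊗ l ↦ (y ↦ a y
l).) -/
theorem result (k : Type u) [Field k] (A : Type u) [Ring A] [Algebra k A] [Algebra.IsCentral k A] [IsSimpleRing A] [FiniteDimensional k A] (L : Type u) [CommRing L] [Algebra k L] (ι : L →ₐ[k] A) (hι : Function.Injective ι) [Module L A] (hmod : ∀ (l : L) (a : A), l • a = a * ι l) [Module.Free L A] (r : ℕ) (hr : 0 < r) (hA : Module.finrank k A = r ^ 2) (hrank : Module.finrank L A = r) : Nonempty ((L ⊗[k] A) ≃ₐ[L] Matrix (Fin r) (Fin r) L) := by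
  classical
  -- compatibility of the two module structures on `A`
  have hcomm : SMulCommClass L k A := ⟨fun l c a => by
    rw [hmod, hmod, Algebra.smul_mul_assoc]⟩
  have htower : IsScalarTower k L A := ⟨fun c l a => by
    rw [hmod, hmod, map_smul, Algebra.mul_smul_comm]⟩
  have hLnt : Nontrivial L := RingHom.domain_nontrivial ι.toRingHom
  have hfin : Module.Finite L A := Module.finite_of_finrank_pos (by rw [hrank]; exact hr)
  -- left multiplication as a `k`-algebra map into `End_L A`
  let g : A →ₐ[k] Module.End L A :=
    { toFun := fun a =>
        { toFun := fun y => a * y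
          map_add' := fun y z => mul_add a y z
          map_smul' := fun l y => by
            simp only [RingHom.id_apply]
            rw [hmod, hmod, mul_assoc] }
      map_one' := by ext y; simp
      map_mul' := fun a b => by ext y; simp [mul_assoc]
      map_zero' := by ext y; simp
      map_add' := fun a b => by ext y; simp [add_mul]
      commutes' := fun c => by
        ext y
        simp [Algebra.smul_def] }
  have hg : ∀ a y, g a y = a * y := fun _ _ => rfl
  have htowerEnd : IsScalarTower k L (Module.End L A) := ⟨fun c l f => by
    ext y
    simp only [LinearMap.smul_apply]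
    exact smul_assoc c l (f y)⟩
  let Ψ : L ⊗[k] A →ₐ[L] Module.End L A :=
    Algebra.TensorProduct.lift (Algebra.ofId L (Module.End L A)) g (fun l a => by
      refine LinearMap.ext fun y => ?_
      change (Algebra.ofId L (Module.End L A) l) (g a y) = g a ((Algebra.ofId L (Module.End L A) l) y)
      simp only [Algebra.ofId_apply, Module.algebraMap_end_apply, hg]
      rw [hmod, hmod, mul_assoc])
  have hAzk : IsAzumaya k A := Groth.Agent.Lib.Helper85.isAzumaya_of_isCentral_of_isSimpleRing k A
  have hAzL : IsAzumaya L (L ⊗[k] A) := Groth.Agent.Lib.Helper85.isAzumaya_baseChange k L A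
  have hrL : Module.finrank L (L ⊗[k] A) = r ^ 2 := by
    rw [Module.finrank_baseChange, hA]
  have hrE : Module.finrank L (Module.End L A) = r ^ 2 := by
    rw [Module.finrank_linearMap, hrank, pow_two]
  have hΨ : Function.Bijective Ψ := by
    refine Groth.Agent.Lib.Helper85.algHom_bijective_of_fibres L Ψ fun q => ?_
    have hAzq : IsAzumaya q.asIdeal.ResidueField (q.asIdeal.ResidueField ⊗[L] (L ⊗[k] A)) :=
      Groth.Agent.Lib.Helper85.isAzumaya_baseChange L q.asIdeal.ResidueField (L ⊗[k] A)
    have h1 : Module.finrank q.asIdeal.ResidueField (q.asIdeal.ResidueField ⊗[L] (L ⊗[k] A))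
        = r ^ 2 := by
      rw [Module.finrank_baseChange, hrL]
    have h2 : Module.finrank q.asIdeal.ResidueField (q.asIdeal.ResidueField ⊗[L] Module.End L A)
        = r ^ 2 := by
      rw [Module.finrank_baseChange, hrE]
    refine ⟨Groth.Agent.Lib.Helper85.isSimpleRing_of_isAzumaya q.asIdeal.ResidueField _, ?_, ?_⟩
    · apply Module.nontrivial_of_finrank_pos (R := q.asIdeal.ResidueField)
      rw [h2]
      exact pow_pos hr 2
    · rw [h1, h2]
  let b : Module.Basis (Fin r) L A := Module.finBasisOfFinrankEq L A hrank
  exact ⟨(AlgEquiv.ofBijective Ψ hΨ).trans (LinearMap.toMatrixAlgEquiv b)⟩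

end Groth.Agent.S3248
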