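import Groth.Statements.S3350
-- import your own Groth.Agent.* helpers here

set_option autoImplicit false
open Finset
open Models Models.NumericalType

namespace Groth.Agent.S3350

/-- Classification of proper subgraphs with two vertices: Let T be a numerical type on n > 2 indices and
i ≠ j two (-2)-indices (g = 0 and a_ii = -2 w_i, a_jj = -2 w_j) with a_ij > 0. Then, after possibly
exchanging i and j, one of the following holds with w = w_i: (A2) w_j = w, a_ij = w, 2 m_i ≥ m_j and
2 m_j ≥ m_i; (B2) w_j = 2w, a_ij = 2w, m_i ≥ m_j and 2 m_j ≥ m_i; (G2) w_j = 3w, a_ij = 3w, 2 m_i ≥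
3 m_j and 2 m_j ≥ m_i. -/
theorem result {n : ℕ} (T : Models.NumericalType n) (hn : 2 < n) (i j : Fin n)
    (hij : i ≠ j) (hi : T.IsMinusTwo i) (hj : T.IsMinusTwo j) (hpos : 0 < T.a i j) :
    ∃ i' j' : Fin n, ((i' = i ∧ j' = j) ∨ (i' = j ∧ j' = i)) ∧
      ((T.w j' = T.w i' ∧ T.a i' j' = T.w i' ∧ T.m j' ≤ 2 * T.m i' ∧ T.m i' ≤ 2 * T.m j') ∨
        (T.w j' = 2 * T.w i' ∧ T.a i' j' = 2 * T.w i' ∧ T.m j' ≤ T.m i' ∧ T.m i' ≤ 2 * T.m j') ∨
        (T.w j' = 3 * T.w i' ∧ T.a i' j' = 3 * T.w i' ∧ 3 * T.m j' ≤ 2 * T.m i' ∧ T.m i' ≤ 2 * T.m j')) := by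
  classical
  -- basic data
  have hmi := T.m_pos i
  have hmj := T.m_pos j
  have hwi := T.w_pos i
  have hwj := T.w_pos j
  have hsym : T.a j i = T.a i j := by
    have := T.symm
    exact congrFun (congrFun this i) j
  -- the rest sums
  set I : Finset (Fin n) := (Finset.univ.erase i).erase j with hI
  have hjmem : j ∈ Finset.univ.erase i := Finset.mem_erase.mpr ⟨hij.symm, Finset.mem_univ _⟩
  have hrow : ∀ x : Fin n, T.a x i * T.m i + (T.a x j * T.m j + ∑ k ∈ I, T.a x k * T.m k) = 0 := by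
    intro x
    have h := congrFun T.mulVec_m x
    simp only [Matrix.mulVec, dotProduct, Pi.zero_apply] at h
    rw [← h, hI, Finset.add_sum_erase (Finset.univ.erase i) (fun k => T.a x k * T.m k) hjmem,
      Finset.add_sum_erase Finset.univ (fun k => T.a x k * T.m k) (Finset.mem_univ i)]
  have hImem : ∀ k, k ∈ I ↔ k ≠ j ∧ k ≠ i := by
    intro k
    simp [hI]
  have hri : 0 ≤ ∑ k ∈ I, T.a i k * T.m k := by
    apply Finset.sum_nonneg
    intro k hk
    have hk' := (hImem k).mp hk
    exact mul_nonneg (T.offDiag_nonneg i k (Ne.symm hk'.2)) (T.m_pos k).le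
  have hrj : 0 ≤ ∑ k ∈ I, T.a j k * T.m k := by
    apply Finset.sum_nonneg
    intro k hk
    have hk' := (hImem k).mp hk
    exact mul_nonneg (T.offDiag_nonneg j k (Ne.symm hk'.1)) (T.m_pos k).le
  -- connectedness: not both rests vanish
  have hnot : ¬ ((∑ k ∈ I, T.a i k * T.m k) = 0 ∧ (∑ k ∈ I, T.a j k * T.m k) = 0) := by
    rintro ⟨h1, h2⟩
    have hz1 : ∀ k ∈ I, T.a i k * T.m k = 0 := by
      apply (Finset.sum_eq_zero_iff_of_nonneg _).mp h1
      intro k hk
      have hk' := (hImem k).mp hk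
      exact mul_nonneg (T.offDiag_nonneg i k (Ne.symm hk'.2)) (T.m_pos k).le
    have hz2 : ∀ k ∈ I, T.a j k * T.m k = 0 := by
      apply (Finset.sum_eq_zero_iff_of_nonneg _).mp h2
      intro k hk
      have hk' := (hImem k).mp hk
      exact mul_nonneg (T.offDiag_nonneg j k (Ne.symm hk'.1)) (T.m_pos k).le
    have hne : ({i, j} : Finset (Fin n)) ≠ Finset.univ := by
      intro h
      have hc := congrArg Finset.card h
      rw [Finset.card_univ, Fintype.card_fin, Finset.card_pair hij] at hc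
      omega
    obtain ⟨x, hx, y, hy, hxy⟩ := T.connected {i, j} ⟨i, by simp⟩ hne
    have hyI : y ∈ I := by
      rw [hImem]
      simp only [Finset.mem_insert, Finset.mem_singleton, not_or] at hy
      exact ⟨hy.2, hy.1⟩
    have hmy := T.m_pos y
    simp only [Finset.mem_insert, Finset.mem_singleton] at hx
    rcases hx with rfl | rfl
    · rcases mul_eq_zero.mp (hz1 y hyI) with h | h
      · exact hxy h
      · omega
    · rcases mul_eq_zero.mp (hz2 y hyI) with h | h
      · exact hxy h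
      · omega
  have hrow_i := hrow i
  have hrow_j := hrow j
  rw [hi.2] at hrow_i
  rw [hj.2, hsym] at hrow_j
  obtain ⟨p, hp⟩ := T.w_dvd i j
  obtain ⟨q, hq⟩ := T.w_dvd j i
  rw [hsym] at hq
  set ri := ∑ k ∈ I, T.a i k * T.m k with hri_def
  set rj := ∑ k ∈ I, T.a j k * T.m k with hrj_def
  set a := T.a i j with ha
  set wi := T.w i
  set wj := T.w j
  set mi := T.m i
  set mj := T.m j
  have hppos : 0 < p := by
    by_contra h
    have : p ≤ 0 := by omega
    nlinarith
  have hqpos : 0 < q := by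
    by_contra h
    have : q ≤ 0 := by omega
    nlinarith
  -- inequalities
  have e1 : wi * (p * mj) + ri = wi * (2 * mi) := by
    have : a * mj = wi * (p * mj) := by rw [hp]; ring
    linarith
  have e2 : wj * (q * mi) + rj = wj * (2 * mj) := by
    have : a * mi = wj * (q * mi) := by rw [hq]; ring
    linarith
  have i1 : p * mj ≤ 2 * mi := by
    have : wi * (p * mj) ≤ wi * (2 * mi) := by linarith
    exact le_of_mul_le_mul_left this hwi
  have i2 : q * mi ≤ 2 * mj := by
    have : wj * (q * mi) ≤ wj * (2 * mj) := by linarith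
    exact le_of_mul_le_mul_left this hwj
  have hpq : p * q ≤ 4 := by
    have h1 : (p * mj) * (q * mi) ≤ (2 * mi) * (2 * mj) :=
      mul_le_mul i1 i2 (by positivity) (by positivity)
    have h2 : (p * q) * (mi * mj) ≤ 4 * (mi * mj) := by nlinarith
    exact le_of_mul_le_mul_right h2 (mul_pos hmi hmj)
  have hp4 : p ≤ 4 := by nlinarith
  have hq4 : q ≤ 4 := by nlinarith
  have hcases : (p = 1 ∧ q = 1) ∨ (p = 2 ∧ q = 1) ∨ (p = 1 ∧ q = 2) ∨ (p = 3 ∧ q = 1) ∨ (p = 1 ∧ q = 3) := by
    have hp1 : 1 ≤ p := hppos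
    have hq1 : 1 ≤ q := hqpos
    have key : p * q ≠ 4 := by
      intro h4
      apply hnot
      have h1 : (p * mj) * (q * mi) = (2 * mi) * (2 * mj) := by
        have : (p * mj) * (q * mi) = (p * q) * (mi * mj) := by ring
        rw [this, h4]; ring
      have hA : p * mj = 2 * mi := by
        by_contra hne
        have hlt : p * mj < 2 * mi := lt_of_le_of_ne i1 hne
        have : (p * mj) * (q * mi) < (2 * mi) * (2 * mj) :=
          mul_lt_mul hlt i2 (by positivity) (by positivity)
        omega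
      have hB : q * mi = 2 * mj := by
        have h2 : (2 * mi) * (q * mi) = (2 * mi) * (2 * mj) := by rw [hA] at h1; exact h1
        exact mul_left_cancel₀ (by positivity) h2
      rw [hA] at e1
      rw [hB] at e2
      exact ⟨by linarith, by linarith⟩
    interval_cases p <;> interval_cases q <;> first | omega | (exfalso; exact key (by norm_num))
  rcases hcases with ⟨rfl, rfl⟩ | ⟨rfl, rfl⟩ | ⟨rfl, rfl⟩ | ⟨rfl, rfl⟩ | ⟨rfl, rfl⟩
  · refine ⟨i, j, Or.inl ⟨rfl, rfl⟩, Or.inl ⟨?_, ?_, ?_, ?_⟩⟩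
    · change wj = wi
      linarith
    · change a = wi
      linarith
    · change mj ≤ 2 * mi
      linarith
    · change mi ≤ 2 * mj
      linarith
  · refine ⟨i, j, Or.inl ⟨rfl, rfl⟩, Or.inr (Or.inl ⟨?_, ?_, ?_, ?_⟩)⟩
    · change wj = 2 * wi
      linarith
    · change a = 2 * wi
      linarith
    · change mj ≤ mi
      linarith
    · change mi ≤ 2 * mj
      linarith
  · refine ⟨j, i, Or.inr ⟨rfl, rfl⟩, Or.inr (Or.inl ⟨?_, ?_, ?_, ?_⟩)⟩
    · change wi = 2 * wj
      linarith
    · rw [hsym]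
      change a = 2 * wj
      linarith
    · change mi ≤ mj
      linarith
    · change mj ≤ 2 * mi
      linarith
  · refine ⟨i, j, Or.inl ⟨rfl, rfl⟩, Or.inr (Or.inr ⟨?_, ?_, ?_, ?_⟩)⟩
    · change wj = 3 * wi
      linarith
    · change a = 3 * wi
      linarith
    · change 3 * mj ≤ 2 * mi
      linarith
    · change mi ≤ 2 * mj
      linarith
  · refine ⟨j, i, Or.inr ⟨rfl, rfl⟩, Or.inr (Or.inr ⟨?_, ?_, ?_, ?_⟩)⟩
    · change wi = 3 * wj
      linarith
    · rw [hsym]
      change a = 3 * wj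
      linarith
    · change 3 * mi ≤ 2 * mj
      linarith
    · change mj ≤ 2 * mi
      linarith

end Groth.Agent.S3350
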