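import Groth.Statements.S3351
import Mathlib

set_option autoImplicit false
open Models

namespace Groth.Agent.S3351

open LinearMap in
/-- Gram determinant lemma: every functional `B x ·` on `A` is, up to a nonzero integer multiple,
represented by an element of `A`. -/
theorem exists_repr_of_posDef {L : Type} [AddCommGroup L] [Module.Finite ℤ L] [Module.Free ℤ L]
    (B : LinearMap.BilinForm ℤ L) (hsymm : B.IsSymm) (hpos : ∀ x, x ≠ 0 → 0 < B x x)
    (A : Submodule ℤ L) (x : L) :
    ∃ d : ℤ, d ≠ 0 ∧ ∃ a₀ ∈ A, ∀ a' ∈ A, B a₀ a' = d * B x a' := by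
  classical
  let b := Module.finBasis ℤ A
  let BA : LinearMap.BilinForm ℤ A := B.restrict A
  have hBA : ∀ u v : A, BA u v = B u v := fun _ _ => rfl
  have hnd : BA.Nondegenerate := by
    constructor
    · intro u hu
      by_contra hne
      have h1 : (u : L) ≠ 0 := fun h => hne (Subtype.ext h)
      have := hpos _ h1
      rw [← hBA, hu u] at this
      exact lt_irrefl _ this
    · intro u hu
      by_contra hne
      have h1 : (u : L) ≠ 0 := fun h => hne (Subtype.ext h)
      have := hpos _ h1
      rw [← hBA, hu u] at this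
      exact lt_irrefl _ this
  let G := LinearMap.BilinForm.toMatrix b BA
  have hdet : G.det ≠ 0 := (LinearMap.BilinForm.nondegenerate_iff_det_ne_zero b).mp hnd
  have hG : ∀ i j, G i j = B (b i) (b j) := fun i j =>
    LinearMap.BilinForm.toMatrix_apply b BA i j
  have hGsymm : G.transpose = G := by
    ext i j
    rw [Matrix.transpose_apply, hG, hG, hsymm.eq]
  let w : Fin (Module.finrank ℤ A) → ℤ := fun j => B x (b j)
  let c := G.adjugate.mulVec w
  have hc : Matrix.vecMul c G = G.det • w := by
    rw [← Matrix.mulVec_transpose, hGsymm, Matrix.mulVec_mulVec, Matrix.mul_adjugate,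
      Matrix.smul_mulVec, Matrix.one_mulVec]
  refine ⟨G.det, hdet, ∑ i, c i • (b i : L), ?_, ?_⟩
  · exact Submodule.sum_mem _ fun i _ => Submodule.smul_mem _ _ (b i).2
  · intro a' ha'
    have key : (B (∑ i, c i • (b i : L))).comp A.subtype = (G.det • B x).comp A.subtype := by
      apply b.ext
      intro j
      simp only [LinearMap.comp_apply, Submodule.subtype_apply, map_sum, map_smul,
        LinearMap.sum_apply, LinearMap.smul_apply, smul_eq_mul]
      have := congrFun hc j
      simp only [Matrix.vecMul, dotProduct, Pi.smul_apply, smul_eq_mul] at this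
      rw [← this]
      refine Finset.sum_congr rfl fun i _ => ?_
      rw [hG]
    have := LinearMap.congr_fun key ⟨a', ha'⟩
    simpa using this

/-- The double orthogonal of a saturated sublattice. -/
theorem mem_of_orthogonal_orthogonal {L : Type} [AddCommGroup L] [Module.Finite ℤ L]
    [Module.Free ℤ L] (B : LinearMap.BilinForm ℤ L) (hsymm : B.IsSymm)
    (hpos : ∀ x, x ≠ 0 → 0 < B x x) (A : Submodule ℤ L)
    (htf : ∀ (c : ℤ) (x : L), c ≠ 0 → c • x ∈ A → x ∈ A) (z : L)
    (hz : ∀ b' ∈ B.orthogonal A, B z b' = 0) : z ∈ A := by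
  obtain ⟨d, hd, a₀, ha₀, h⟩ := exists_repr_of_posDef B hsymm hpos A z
  have hy : d • z - a₀ ∈ B.orthogonal A := by
    rw [LinearMap.BilinForm.mem_orthogonal_iff]
    intro a' ha'
    change B a' (d • z - a₀) = 0
    rw [map_sub, map_smul, hsymm.eq a' z, hsymm.eq a' a₀, h a' ha', smul_eq_mul, sub_self]
  have hyy : B (d • z - a₀) (d • z - a₀) = 0 := by
    have h1 : B z (d • z - a₀) = 0 := hz _ hy
    have h2 : B a₀ (d • z - a₀) = 0 := (LinearMap.BilinForm.mem_orthogonal_iff.mp hy) a₀ ha₀
    rw [LinearMap.map_sub₂, LinearMap.map_smul₂, h1, h2, smul_zero, sub_zero]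
  have hy0 : d • z - a₀ = 0 := by
    by_contra hne
    have := hpos _ hne
    rw [hyy] at this
    exact lt_irrefl _ this
  apply htf d z hd
  rw [sub_eq_zero.mp hy0]
  exact ha₀

/-- Functionals on a saturated sublattice extend. -/
theorem exists_extension_of_saturated {L : Type} [AddCommGroup L] [Module.Finite ℤ L]
    [Module.Free ℤ L] (N : Submodule ℤ L)
    (htf : ∀ (c : ℤ) (x : L), c ≠ 0 → c • x ∈ N → x ∈ N) (ψ : Module.Dual ℤ N) :
    ∃ φ : Module.Dual ℤ L, φ ∘ₗ N.subtype = ψ := by
  have : Module.IsTorsionFree ℤ (L ⧸ N) := by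
    apply Module.IsTorsionFree.of_smul_eq_zero
    intro r m hm
    induction m using Submodule.Quotient.induction_on with
    | H x =>
      by_cases hr : r = 0
      · exact Or.inl hr
      · right
        rw [← Submodule.Quotient.mk_smul, Submodule.Quotient.mk_eq_zero] at hm
        rw [Submodule.Quotient.mk_eq_zero]
        exact htf r x hr hm
  have : Module.Free ℤ (L ⧸ N) := Module.free_of_finite_type_torsion_free'
  obtain ⟨s, hs⟩ := Module.projective_lifting_property N.mkQ LinearMap.id
    (Submodule.mkQ_surjective N)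
  let r : L →ₗ[ℤ] N := LinearMap.codRestrict N (LinearMap.id - s ∘ₗ N.mkQ) (by
    intro l
    rw [← Submodule.Quotient.mk_eq_zero N]
    have := LinearMap.congr_fun hs (N.mkQ l)
    simp only [LinearMap.comp_apply, LinearMap.id_apply] at this
    simp only [LinearMap.sub_apply, LinearMap.id_apply, LinearMap.comp_apply,
      Submodule.Quotient.mk_sub]
    rw [← Submodule.mkQ_apply, ← Submodule.mkQ_apply, this, sub_self])
  refine ⟨ψ ∘ₗ r, ?_⟩
  apply LinearMap.ext
  intro n
  simp only [LinearMap.comp_apply, Submodule.subtype_apply]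
  congr 1
  apply Subtype.ext
  simp only [r, LinearMap.codRestrict_apply, LinearMap.sub_apply, LinearMap.id_apply,
    LinearMap.comp_apply]
  rw [Submodule.mkQ_apply, (Submodule.Quotient.mk_eq_zero N).mpr n.2, map_zero, sub_zero]

/-- Let L be a finite free Z-module with a positive definite symmetric integral bilinear form, A ⊆ L a
submodule with L/A torsion free and B the orthogonal complement of A. Write M^# for the dual lattice
of a sublattice M, identified here with the Z-dual Hom(M, Z) through the form. Then the natural maps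
L/(A ⊕ B) → B^#/B and L/(A ⊕ B) → A^#/A are injective: an element x of L whose functional ⟨x, -⟩ on
B (resp. on A) is represented by an element of B (resp. of A) lies in A ⊕ B. Moreover the
restriction maps L^# → B^# and L^# → A^# are surjective, so that the cokernels of the two injections
are quotients of L^#/L. -/
theorem result {L : Type} [AddCommGroup L] [Module.Finite ℤ L] [Module.Free ℤ L]
    (B : LinearMap.BilinForm ℤ L) (hsymm : B.IsSymm) (hpos : ∀ x, x ≠ 0 → 0 < B x x)
    (A : Submodule ℤ L) (htf : ∀ (c : ℤ) (x : L), c ≠ 0 → c • x ∈ A → x ∈ A) :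
    (∀ x : L, (∃ b ∈ B.orthogonal A, ∀ b' ∈ B.orthogonal A, B x b' = B b b') → x ∈ A ⊔ B.orthogonal A) ∧
      (∀ x : L, (∃ a ∈ A, ∀ a' ∈ A, B x a' = B a a') → x ∈ A ⊔ B.orthogonal A) ∧
      (∀ ψ : Module.Dual ℤ ↥(B.orthogonal A), ∃ φ : Module.Dual ℤ L, φ ∘ₗ (B.orthogonal A).subtype = ψ) ∧
      (∀ ψ : Module.Dual ℤ ↥A, ∃ φ : Module.Dual ℤ L, φ ∘ₗ A.subtype = ψ) := by
  have hsat : ∀ (c : ℤ) (x : L), c ≠ 0 → c • x ∈ B.orthogonal A → x ∈ B.orthogonal A := by
    intro c x hc hx
    rw [LinearMap.BilinForm.mem_orthogonal_iff] at hx ⊢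
    intro n hn
    have := hx n hn
    change B n (c • x) = 0 at this
    rw [map_smul, smul_eq_mul, mul_eq_zero] at this
    rcases this with h | h
    · exact absurd h hc
    · exact h
  refine ⟨?_, ?_, ?_, ?_⟩
  · rintro x ⟨b, hb, h⟩
    have hz : x - b ∈ A := by
      apply mem_of_orthogonal_orthogonal B hsymm hpos A htf
      intro b' hb'
      rw [map_sub, LinearMap.sub_apply, h b' hb', sub_self]
    have : x = (x - b) + b := by abel
    rw [this]
    exact Submodule.add_mem_sup hz hb
  · rintro x ⟨a, ha, h⟩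
    have hz : x - a ∈ B.orthogonal A := by
      rw [LinearMap.BilinForm.mem_orthogonal_iff]
      intro a' ha'
      change B a' (x - a) = 0
      rw [map_sub, hsymm.eq a' x, hsymm.eq a' a, h a' ha', sub_self]
    have : x = a + (x - a) := by abel
    rw [this]
    exact Submodule.add_mem_sup ha hz
  · exact fun ψ => exists_extension_of_saturated _ hsat ψ
  · exact fun ψ => exists_extension_of_saturated _ htf ψ

end Groth.Agent.S3351
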