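import Groth.Statements.S3352
import Mathlib

set_option autoImplicit false
open Models

namespace Groth.Agent.S3352

/-- Gram determinant lemma: every functional on a sublattice `A` of a positive definite lattice
is, up to a nonzero integer multiple, represented by an element of `A`. -/
theorem exists_repr_functional {L : Type} [AddCommGroup L] [Module.Finite ℤ L] [Module.Free ℤ L]
    (B : LinearMap.BilinForm ℤ L) (hsymm : B.IsSymm) (hpos : ∀ x, x ≠ 0 → 0 < B x x)
    (A : Submodule ℤ L) (φ : A →ₗ[ℤ] ℤ) :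
    ∃ d : ℤ, d ≠ 0 ∧ ∃ a₀ ∈ A, ∀ a' : A, B a₀ a' = d * φ a' := by
  classical
  let b := Module.finBasis ℤ A
  let BA : LinearMap.BilinForm ℤ A := B.restrict A
  have hBA : ∀ u v : A, BA u v = B u v := fun _ _ => rfl
  have hnd : BA.Nondegenerate := by
    constructor
    · intro u hu
      by_contra hne
      have h1 : (u : L) ≠ 0 := fun h => hne (Subtype.ext h)
      have := hpos _ h1
      rw [← hBA, hu u] at this
      exact lt_irrefl _ this
    · intro u hu
      by_contra hne
      have h1 : (u : L) ≠ 0 := fun h => hne (Subtype.ext h)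
      have := hpos _ h1
      rw [← hBA, hu u] at this
      exact lt_irrefl _ this
  let G := LinearMap.BilinForm.toMatrix b BA
  have hdet : G.det ≠ 0 := (LinearMap.BilinForm.nondegenerate_iff_det_ne_zero b).mp hnd
  have hG : ∀ i j, G i j = B (b i) (b j) := fun i j =>
    LinearMap.BilinForm.toMatrix_apply b BA i j
  have hGsymm : G.transpose = G := by
    ext i j
    rw [Matrix.transpose_apply, hG, hG, hsymm.eq]
  let w : Fin (Module.finrank ℤ A) → ℤ := fun j => φ (b j)
  let c := G.adjugate.mulVec w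
  have hc : Matrix.vecMul c G = G.det • w := by
    rw [← Matrix.mulVec_transpose, hGsymm, Matrix.mulVec_mulVec, Matrix.mul_adjugate,
      Matrix.smul_mulVec, Matrix.one_mulVec]
  refine ⟨G.det, hdet, ∑ i, c i • (b i : L), ?_, ?_⟩
  · exact Submodule.sum_mem _ fun i _ => Submodule.smul_mem _ _ (b i).2
  · intro a'
    have key : (B (∑ i, c i • (b i : L))).comp A.subtype = G.det • φ := by
      apply b.ext
      intro j
      simp only [LinearMap.comp_apply, Submodule.subtype_apply, map_sum, map_smul,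
        LinearMap.sum_apply, LinearMap.smul_apply, smul_eq_mul]
      have := congrFun hc j
      simp only [Matrix.vecMul, dotProduct, Pi.smul_apply, smul_eq_mul] at this
      rw [← this]
      refine Finset.sum_congr rfl fun i _ => ?_
      rw [hG]
    have := LinearMap.congr_fun key a'
    simpa using this

/-- Let L₀, L₁ be finite free ℤ-modules with positive definite symmetric integral bilinear forms, the
form on L₀ unimodular (x ↦ ⟨x, −⟩ is a bijection L₀ → Hom(L₀, ℤ)), and let d : L₀ → L₁ and d* : L₁ →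
L₀ be adjoint. Identify Im(d)^# (the dual lattice of Im(d)) with Hom(Im(d), ℤ) through the form on
L₁. Then there is an isomorphism Φ from the torsion subgroup of Coker(d* d) onto Im(d)^#/Im(d),
determined by: for x ∈ L₀ whose class is torsion, Φ[x] is the class of the functional d(y') ↦ ⟨x,
y'⟩ (equivalently the class of (1/a)·d(y) when a·x = d* d(y)). -/
theorem result {L₀ L₁ : Type} [AddCommGroup L₀] [AddCommGroup L₁]
    [Module.Finite ℤ L₀] [Module.Free ℤ L₀] [Module.Finite ℤ L₁] [Module.Free ℤ L₁]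
    (B₀ : LinearMap.BilinForm ℤ L₀) (B₁ : LinearMap.BilinForm ℤ L₁) (h₀s : B₀.IsSymm) (h₁s : B₁.IsSymm)
    (h₀p : ∀ x, x ≠ 0 → 0 < B₀ x x) (h₁p : ∀ x, x ≠ 0 → 0 < B₁ x x) (huni : Function.Bijective B₀)
    (d : L₀ →ₗ[ℤ] L₁) (ds : L₁ →ₗ[ℤ] L₀) (hadj : ∀ x y, B₁ (d x) y = B₀ x (ds y)) :
    ∃ Φ : ↥(Submodule.torsion ℤ (L₀ ⧸ LinearMap.range (ds ∘ₗ d))) ≃ₗ[ℤ]
        (Module.Dual ℤ ↥(LinearMap.range d) ⧸
          LinearMap.range ((B₁.compl₂ (LinearMap.range d).subtype) ∘ₗ (LinearMap.range d).subtype)),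
      ∀ (x : L₀) (hx : Submodule.Quotient.mk x ∈ Submodule.torsion ℤ (L₀ ⧸ LinearMap.range (ds ∘ₗ d)))
        (ψ : Module.Dual ℤ ↥(LinearMap.range d)),
        (∀ y' : L₀, ψ ⟨d y', LinearMap.mem_range_self d y'⟩ = B₀ x y') →
          Φ ⟨Submodule.Quotient.mk x, hx⟩ = Submodule.Quotient.mk ψ := by
  classical
  -- notation
  set R : Submodule ℤ L₁ := LinearMap.range d with hR
  set N : Submodule ℤ L₀ := LinearMap.range (ds ∘ₗ d) with hN
  set ι : ↥R →ₗ[ℤ] Module.Dual ℤ ↥R := (B₁.compl₂ R.subtype) ∘ₗ R.subtype with hι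
  have hι_apply : ∀ r r' : R, ι r r' = B₁ r r' := fun _ _ => rfl
  -- adjointness, other side
  have hadj' : ∀ (r : L₁) (y' : L₀), B₀ (ds r) y' = B₁ r (d y') := by
    intro r y'
    rw [h₀s.eq, ← hadj, h₁s.eq]
  have hB₀inj : Function.Injective B₀ := huni.1
  -- a section of d onto its range
  let d' : L₀ →ₗ[ℤ] R := d.rangeRestrict
  have hd'surj : Function.Surjective d' := LinearMap.surjective_rangeRestrict d
  obtain ⟨σ, hσ⟩ := Module.projective_lifting_property d' LinearMap.id hd'surj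
  have hσ' : ∀ r : R, d (σ r) = r := by
    intro r
    have := LinearMap.congr_fun hσ r
    simp only [LinearMap.comp_apply, LinearMap.id_apply] at this
    exact congrArg Subtype.val this
  -- the preimage of the torsion submodule
  let P : Submodule ℤ L₀ := Submodule.comap N.mkQ (Submodule.torsion ℤ (L₀ ⧸ N))
  have hP : ∀ x : L₀, x ∈ P ↔ ∃ a : ℤ, a ≠ 0 ∧ a • x ∈ N := by
    intro x
    change N.mkQ x ∈ Submodule.torsion ℤ (L₀ ⧸ N) ↔ _
    rw [Submodule.mkQ_apply]
    rw [Submodule.mem_torsion_iff]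
    constructor
    · rintro ⟨a, ha⟩
      refine ⟨a.1, nonZeroDivisors.ne_zero a.2, ?_⟩
      rw [← Submodule.Quotient.mk_eq_zero N, Submodule.Quotient.mk_smul]
      exact ha
    · rintro ⟨a, ha0, ha⟩
      refine ⟨⟨a, mem_nonZeroDivisors_of_ne_zero ha0⟩, ?_⟩
      change a • (Submodule.Quotient.mk x : L₀ ⧸ N) = 0
      rw [← Submodule.Quotient.mk_smul, Submodule.Quotient.mk_eq_zero N]
      exact ha
  -- (a) elements of P kill ker d
  have hvanish : ∀ x ∈ P, ∀ k : L₀, d k = 0 → B₀ x k = 0 := by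
    intro x hx k hk
    obtain ⟨a, ha0, y, hy⟩ := (hP x).mp hx
    have h1 : a * B₀ x k = 0 := by
      have : B₀ (a • x) k = 0 := by
        rw [← hy, LinearMap.comp_apply, hadj', hk, map_zero]
      rwa [map_smul, LinearMap.smul_apply, smul_eq_mul] at this
    rcases mul_eq_zero.mp h1 with h | h
    · exact absurd h ha0
    · exact h
  -- Ψ
  let Ψ : L₀ →ₗ[ℤ] Module.Dual ℤ ↥R := B₀.compl₂ σ
  have hΨ : ∀ x ∈ P, ∀ y' : L₀, Ψ x (d' y') = B₀ x y' := by
    intro x hx y'
    change B₀ x (σ (d' y')) = B₀ x y'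
    have hk : d (σ (d' y') - y') = 0 := by
      rw [map_sub, hσ', sub_eq_zero]
      rfl
    have := hvanish x hx _ hk
    rw [map_sub, sub_eq_zero] at this
    exact this
  let F : P →ₗ[ℤ] (Module.Dual ℤ ↥R ⧸ LinearMap.range ι) :=
    (LinearMap.range ι).mkQ ∘ₗ Ψ ∘ₗ P.subtype
  -- (b) kernel of F
  have hkerF : ∀ x : P, F x = 0 ↔ (x : L₀) ∈ N := by
    intro x
    change Submodule.Quotient.mk (Ψ x) = 0 ↔ _
    rw [Submodule.Quotient.mk_eq_zero]
    constructor
    · rintro ⟨r, hr⟩
      obtain ⟨y, hy⟩ := hd'surj r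
      refine ⟨y, ?_⟩
      apply hB₀inj
      apply LinearMap.ext
      intro y'
      change B₀ (ds (d y)) y' = B₀ x y'
      rw [hadj', ← hΨ x.1 x.2 y', ← hr, hι_apply, ← hy]
      rfl
    · rintro ⟨y, hy⟩
      refine ⟨d' y, ?_⟩
      apply LinearMap.ext
      intro r
      obtain ⟨y', rfl⟩ := hd'surj r
      rw [hΨ x.1 x.2 y', ← hy]
      change B₁ (d y) (d y') = B₀ (ds (d y)) y'
      rw [hadj']
  -- (c) F surjective
  have hFsurj : Function.Surjective F := by
    intro q
    induction q using Submodule.Quotient.induction_on with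
    | H ψ =>
      obtain ⟨x, hx⟩ := huni.2 (ψ ∘ₗ d')
      obtain ⟨a, ha0, r₀, hr₀, hr⟩ := exists_repr_functional B₁ h₁s h₁p R ψ
      obtain ⟨y, rfl⟩ := hr₀
      have hxP : x ∈ P := by
        rw [hP]
        refine ⟨a, ha0, y, ?_⟩
        apply hB₀inj
        apply LinearMap.ext
        intro y'
        rw [LinearMap.comp_apply, hadj', map_smul, LinearMap.smul_apply, hx, smul_eq_mul]
        exact hr (d' y')
      refine ⟨⟨x, hxP⟩, ?_⟩
      change Submodule.Quotient.mk (Ψ x) = Submodule.Quotient.mk ψ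
      congr 1
      apply LinearMap.ext
      intro r
      obtain ⟨y', rfl⟩ := hd'surj r
      rw [hΨ x hxP y', hx]
      rfl
  -- (d) the map P → torsion
  let g : P →ₗ[ℤ] ↥(Submodule.torsion ℤ (L₀ ⧸ N)) :=
    LinearMap.codRestrict _ (N.mkQ ∘ₗ P.subtype) (fun x => x.2)
  have hgsurj : Function.Surjective g := by
    rintro ⟨q, hq⟩
    induction q using Submodule.Quotient.induction_on with
    | H x => exact ⟨⟨x, hq⟩, rfl⟩
  have hkerg : ∀ x : P, g x = 0 ↔ (x : L₀) ∈ N := by
    intro x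
    rw [← Submodule.Quotient.mk_eq_zero N]
    constructor
    · intro h
      exact congrArg Subtype.val h
    · intro h
      exact Subtype.ext h
  have hker : LinearMap.ker g = LinearMap.ker F := by
    ext x
    rw [LinearMap.mem_ker, LinearMap.mem_ker, hkerg, hkerF]
  let e₁ := g.quotKerEquivOfSurjective hgsurj
  let e₂ := F.quotKerEquivOfSurjective hFsurj
  let Φ := e₁.symm ≪≫ₗ (Submodule.quotEquivOfEq _ _ hker) ≪≫ₗ e₂
  refine ⟨Φ, ?_⟩
  intro x hx ψ hψ
  have hxP : x ∈ P := hx
  have h1 : e₁.symm ⟨Submodule.Quotient.mk x, hx⟩ = Submodule.Quotient.mk ⟨x, hxP⟩ := by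
    rw [LinearEquiv.symm_apply_eq]
    rfl
  change e₂ (Submodule.quotEquivOfEq _ _ hker (e₁.symm ⟨Submodule.Quotient.mk x, hx⟩)) = _
  rw [h1]
  change Submodule.Quotient.mk (Ψ x) = Submodule.Quotient.mk ψ
  congr 1
  apply LinearMap.ext
  intro r
  obtain ⟨y', rfl⟩ := hd'surj r
  rw [hΨ x hxP y']
  exact (hψ y').symm

end Groth.Agent.S3352
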