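import Groth.Statements.S3387
import Groth.Agent.Lib.Helper13.Chevalley
import Groth.Agent.Lib.Helper55.GroupLocalDim
import Groth.Agent.H52.LqfLocus

set_option autoImplicit false
open CategoryTheory AlgebraicGeometry
universe u
open EGA43

namespace Groth.Agent.S3387

/-- Let f : X ⟶ Y be locally of finite type and closed (as a map of underlying spaces). Then for every
natural number n the set of points y of Y whose fibre has dimension at least n is closed; that is,
the dimension of the fibre is upper semicontinuous on Y. -/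
theorem result {X Y : Scheme.{u}} (f : X ⟶ Y) [LocallyOfFiniteType f]
    (hf : IsClosedMap f.base) (n : ℕ) :
    IsClosed {y : Y | (n : WithBot ℕ∞) ≤ topologicalKrullDim ↥(f.fiber y)} := by
  classical
  have hset : {y : Y | (n : WithBot ℕ∞) ≤ topologicalKrullDim ↥(f.fiber y)} =
      f '' {x : X | (n : WithBot ℕ∞) ≤ FlatMor.fibreDimAt f x} := by
    ext y
    constructor
    · intro hy
      rw [Set.mem_setOf_eq, Groth.Agent.Lib.Helper55.topologicalKrullDim_eq_iSup_localDim] at hy
      by_contra hcon
      have hall : ∀ z : ↥(f.fiber y), ¬ ((n : WithBot ℕ∞) ≤ FlatMor.localDim ↥(f.fiber y) z) := by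
        intro z hz
        apply hcon
        refine ⟨f.fiberι y z, ?_, ?_⟩
        · show (n : WithBot ℕ∞) ≤ FlatMor.fibreDimAt f (f.fiberι y z)
          rw [← Groth.Agent.Lib.Helper55.localDim_fiber_eq_fibreDimAt]
          exact hz
        · have : f.fiberι y z ∈ Set.range (f.fiberι y) := ⟨z, rfl⟩
          rw [f.range_fiberι] at this
          exact this
      cases n with
      | zero =>
        have hempty : IsEmpty ↥(f.fiber y) := ⟨fun z => hall z (by
          rw [Groth.Agent.Lib.Helper55.localDim_fiber_eq_fibreDimAt]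
          exact_mod_cast Groth.Agent.H52.fibreDimAt_nonneg f _)⟩
        rw [iSup_of_empty] at hy
        simp at hy
      | succ m =>
        have hle : (⨆ z : ↥(f.fiber y), FlatMor.localDim ↥(f.fiber y) z) ≤ (m : WithBot ℕ∞) :=
          iSup_le fun z => not_lt.mp fun h =>
            hall z (Groth.Agent.Lib.Helper13.Chevalley.natCast_add_one_le_of_lt h)
        have h3 : ((m + 1 : ℕ) : WithBot ℕ∞) ≤ (m : WithBot ℕ∞) := hy.trans hle
        have h4 : m + 1 ≤ m := by exact_mod_cast h3
        omega
    · rintro ⟨x, hx, rfl⟩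
      exact (show (n : WithBot ℕ∞) ≤ FlatMor.fibreDimAt f x from hx).trans
        (Groth.Agent.Lib.Helper29.localDim_le_topologicalKrullDim _)
  rw [hset]
  apply hf
  cases n with
  | zero =>
    have : {x : X | ((0 : ℕ) : WithBot ℕ∞) ≤ FlatMor.fibreDimAt f x} = Set.univ := by
      ext x
      simp only [Set.mem_setOf_eq, Set.mem_univ, iff_true]
      exact_mod_cast Groth.Agent.H52.fibreDimAt_nonneg f x
    rw [this]
    exact isClosed_univ
  | succ m =>
    have : {x : X | ((m + 1 : ℕ) : WithBot ℕ∞) ≤ FlatMor.fibreDimAt f x} =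
        {x : X | FlatMor.fibreDimAt f x ≤ m}ᶜ := by
      ext x
      simp only [Set.mem_setOf_eq, Set.mem_compl_iff]
      constructor
      · intro h1 h2
        have h3 : ((m + 1 : ℕ) : WithBot ℕ∞) ≤ (m : WithBot ℕ∞) := h1.trans h2
        have h4 : m + 1 ≤ m := by exact_mod_cast h3
        omega
      · intro h
        exact Groth.Agent.Lib.Helper13.Chevalley.natCast_add_one_le_of_lt (not_le.mp h)
    rw [this]
    exact (Groth.Agent.Lib.Helper13.Chevalley.isOpen_fibreDimAt_le f m).isClosed_compl

end Groth.Agent.S3387
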