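import Groth.Statements.S3390
-- import your own Groth.Agent.* helpers here
import Groth.Agent.Lib.Helper55.ChevalleyBound
import Groth.Agent.Lib.Helper55.FibreDimFormula

set_option autoImplicit false
open CategoryTheory AlgebraicGeometry
universe u
open EGA43

namespace Groth.Agent.S3390

/-- Let Y be an irreducible locally Noetherian scheme with generic point η and X an irreducible scheme,
and let f : X ⟶ Y be dominant and locally of finite type. Take a point x of X and write y = f x.
Suppose dim O_{X,x} = dim O_{Y,y} + dim O_{X_y,x}. Then the local dimension of the fibre X_y at x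
(FlatMor.fibreDimAt f x) equals the dimension of the generic fibre X_η (i.e. f is equidimensional at
x). -/
theorem result {X Y : Scheme.{u}} [IrreducibleSpace X] [IrreducibleSpace Y]
    [IsLocallyNoetherian Y] (f : X ⟶ Y) [LocallyOfFiniteType f] [IsDominant f] (x : X)
    (h : ringKrullDim (X.presheaf.stalk x) =
        ringKrullDim (Y.presheaf.stalk (f.base x)) + ringKrullDim ((f.fiber (f.base x)).presheaf.stalk (f.asFiber x))) :
    FlatMor.fibreDimAt f x = topologicalKrullDim ↥(f.fiber (genericPoint Y)) := by
  open Groth.Agent.Lib.Helper55 in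
  obtain ⟨m, hm1, hm2⟩ := exists_dim_genericFiber_eq_trdeg f f.denseRange
  rw [hm1]
  apply le_antisymm
  · -- upper bound from the dimension inequality
    obtain ⟨n, hn, hfd⟩ := fibreDimAt_eq_stalk_fiber_add_trdeg f x
    have hle := ringKrullDim_stalk_add_trdeg_le_of_irreducible f x n m hn hm2
    obtain ⟨d, hd⟩ := exists_nat_ringKrullDim_stalk (X := Y) (f.base x)
    rw [h, hd] at hle
    rw [hfd]
    -- `d + a + n ≤ d + m` with `d` finite
    have hle' : (d : WithBot ℕ∞) +
        (ringKrullDim ((f.fiber (f.base x)).presheaf.stalk (f.asFiber x)) + (n : WithBot ℕ∞)) ≤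
        (d : WithBot ℕ∞) + (m : WithBot ℕ∞) := by
      rw [← add_assoc]
      exact hle
    exact withBot_enat_le_of_add_le_add_left d hle'
  · exact trdeg_le_fibreDimAt_of_specializes f (genericPoint ↥X) x
      ((genericPoint_spec ↥X).specializes (Set.mem_univ x)) m hm2

end Groth.Agent.S3390
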