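import Groth.Statements.S3391
-- import your own Groth.Agent.* helpers here
import Groth.Agent.Lib.Helper55.DimFormulaIrredLocal
import Groth.Agent.Lib.Helper55.GroupLocalDim

set_option autoImplicit false
open CategoryTheory AlgebraicGeometry
universe u
open EGA43

namespace Groth.Agent.S3391

/-- With X, Y, f, x, y as in the first assertion, suppose O_{Y,y} is universally catenary and the local
dimension at x of the fibre through x equals the dimension of the generic fibre. Then dim O_{X,x} =
dim O_{Y,y} + dim O_{X_y,x}. -/
theorem result {X Y : Scheme.{u}} [IrreducibleSpace X] [IrreducibleSpace Y]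
    [IsLocallyNoetherian Y] (f : X ⟶ Y) [LocallyOfFiniteType f] [IsDominant f] (x : X)
    (hcat : CAlg.IsUniversallyCatenary (Y.presheaf.stalk (f.base x)))
    (h : FlatMor.fibreDimAt f x = topologicalKrullDim ↥(f.fiber (genericPoint Y))) :
    ringKrullDim (X.presheaf.stalk x) =
        ringKrullDim (Y.presheaf.stalk (f.base x)) + ringKrullDim ((f.fiber (f.base x)).presheaf.stalk (f.asFiber x)) := by
  have hf : DenseRange f := f.denseRange
  obtain ⟨m, hm1, hm2⟩ := Groth.Agent.Lib.Helper55.exists_dim_genericFiber_eq_trdeg f hf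
  obtain ⟨n, hn, hfd⟩ := Groth.Agent.Lib.Helper55.fibreDimAt_eq_stalk_fiber_add_trdeg f x
  have key := Groth.Agent.Lib.Helper55.ringKrullDim_stalk_add_trdeg_eq_of_irreducible_local f hf x
    hcat n m hn hm2
  rw [hm1, hfd] at h
  rw [← h, ← add_assoc] at key
  refine Groth.Agent.Lib.Helper55.withBot_enat_add_left_cancel n ?_
  rw [add_comm, key, add_comm]

end Groth.Agent.S3391
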