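import Groth.Statements.S3396
-- import your own Groth.Agent.* helpers here
import Groth.Agent.Lib.Helper55.EquidimAt

set_option autoImplicit false
open CategoryTheory AlgebraicGeometry
universe u
open EGA43

namespace Groth.Agent.S3396

/-- Let Y be locally Noetherian, f : X ⟶ Y locally of finite type and equidimensional at the point x,
and suppose the local ring O_{Y,f x} is universally catenary. If O_{Y,f x} is equidimensional, then
so is O_{X,x}. -/
theorem result {X Y : Scheme.{u}} [IsLocallyNoetherian Y] (f : X ⟶ Y)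
    [LocallyOfFiniteType f] (x : X) (h : EGA43.IsEquidimAt f x)
    (hcat : CAlg.IsUniversallyCatenary (Y.presheaf.stalk (f.base x)))
    (hY : EGA4.IsEquidim (Y.presheaf.stalk (f.base x))) :
    EGA4.IsEquidim (X.presheaf.stalk x) := by
  open Groth.Agent.Lib.Helper55 in
  obtain ⟨e, U, hxU, h1, h2⟩ := h
  have hNX : IsLocallyNoetherian X := LocallyOfFiniteType.isLocallyNoetherian f
  obtain ⟨t, ht⟩ := exists_trdeg_residueField_eq_natCast f x
  have hall : ∀ 𝔭 ∈ minimalPrimes (X.presheaf.stalk x),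
      ringKrullDim (X.presheaf.stalk x ⧸ 𝔭) + (t : WithBot ℕ∞) =
        ringKrullDim (Y.presheaf.stalk (f.base x)) + (e : WithBot ℕ∞) := by
    intro 𝔭 h𝔭
    have hp𝔭 : 𝔭.IsPrime := h𝔭.1.1
    have key := ringKrullDim_stalk_quotient_add_trdeg_eq_of_isEquidimAt f x hxU h2 hcat
      ⟨𝔭, hp𝔭⟩ h𝔭 t ht
    have hmin := comap_mem_minimalPrimes_of_isEquidimAt f x hxU h1 ⟨𝔭, hp𝔭⟩ h𝔭
    rw [hY _ hmin] at key
    exact key
  obtain ⟨p₀, hp₀, hp₀dim⟩ := exists_mem_minimalPrimes_ringKrullDim_quotient_eq X x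
  intro 𝔭 h𝔭
  apply withBot_enat_add_right_cancel t
  rw [hall 𝔭 h𝔭, ← hp₀dim, hall p₀.asIdeal hp₀]

end Groth.Agent.S3396
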