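import Groth.Statements.S3397
-- import your own Groth.Agent.* helpers here
import Groth.Agent.Lib.Helper55.EquidimCriterion
import Groth.Agent.Lib.Helper55.StalkPoints
import Groth.Agent.S4985

set_option autoImplicit false
open CategoryTheory AlgebraicGeometry
universe u
open EGA43

namespace Groth.Agent.S3397

open Groth.Agent.Lib.Helper55 in
/-- The local ring of an irreducible closed subscheme is, dimensionwise, the quotient of the
ambient local ring by the corresponding prime. -/
theorem ringKrullDim_stalk_closedImmersion_eq_quotient {X₁ X : Scheme.{u}} (iX : X₁ ⟶ X)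
    [IsClosedImmersion iX] [IrreducibleSpace X₁] [IsLocallyNoetherian X₁] (w : X₁)
    (p : PrimeSpectrum (X.presheaf.stalk (iX w)))
    (hp : stalkPoint (iX w) p = iX (genericPoint ↥X₁)) :
    ringKrullDim (X₁.presheaf.stalk w) = ringKrullDim (X.presheaf.stalk (iX w) ⧸ p.asIdeal) := by
  rw [ringKrullDim_stalk_eq_dim_between w,
    topologicalKrullDim_between_eq_of_isClosedEmbedding iX iX.isClosedEmbedding,
    ringKrullDim_stalk_quotient_eq (iX w) p, hp]

/-- Let Y be locally Noetherian, f : X ⟶ Y locally of finite type, x a point of X with y = f x, and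
suppose O_{Y,y} is equidimensional. If O_{X,x} is equidimensional and dim O_{X,x} = dim O_{Y,y} +
dim O_{X_y,x}, then f is equidimensional at x. -/
theorem result {X Y : Scheme.{u}} [IsLocallyNoetherian Y] (f : X ⟶ Y)
    [LocallyOfFiniteType f] (x : X) (hY : EGA4.IsEquidim (Y.presheaf.stalk (f.base x)))
    (hX : EGA4.IsEquidim (X.presheaf.stalk x))
    (h : ringKrullDim (X.presheaf.stalk x) =
        ringKrullDim (Y.presheaf.stalk (f.base x)) + ringKrullDim ((f.fiber (f.base x)).presheaf.stalk (f.asFiber x))) :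
    EGA43.IsEquidimAt f x := by
  have hXloc : IsLocallyNoetherian X := LocallyOfFiniteType.isLocallyNoetherian f
  obtain ⟨e0, he0, hfd0⟩ := Lib.Helper55.fibreDimAt_eq_stalk_fiber_add_trdeg f x
  obtain ⟨k0, hk0⟩ := Lib.Helper55.exists_nat_ringKrullDim_stalk_fiber f x
  rw [hk0] at hfd0
  refine Lib.Helper55.isEquidimAt_of_components f x (k0 + e0) ?_
  intro Xj hXj hx
  have hcl : IsClosed Xj := isClosed_of_mem_irreducibleComponents Xj hXj
  obtain ⟨ζ, hζ⟩ := QuasiSober.sober hXj.1 hcl
  have hζmax : ∀ w : X, w ⤳ ζ → ζ ⤳ w :=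
    Lib.Helper55.specializes_of_closure_mem_irreducibleComponents ζ (by rw [hζ.def]; exact hXj)
  have hζx : ζ ⤳ x := by
    rw [specializes_iff_mem_closure, hζ.def]
    exact hx
  have himg := Lib.Helper55.closure_image_eq_of_isGenericPoint f Xj ζ hζ
  -- the subschemes
  set X' : TopologicalSpace.Closeds X := ⟨Xj, hcl⟩ with hX'
  obtain ⟨hiX, hiY, hrX, hξη, hηη⟩ := Groth.Agent.S4985.setup f X' hXj.1 (f ζ) himg.symm
  have hxr : x ∈ Set.range (Scheme.IdealSheafData.vanishingIdeal X').subschemeι := by
    rw [hrX]; exact hx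
  obtain ⟨w, rfl⟩ := hxr
  have hrY : Set.range (Scheme.IdealSheafData.vanishingIdeal
      (⟨closure (f.base '' (X' : Set X)), isClosed_closure⟩ :
        TopologicalSpace.Closeds Y)).subschemeι = closure (f.base '' (X' : Set X)) := by
    rw [Scheme.IdealSheafData.range_subschemeι, Scheme.IdealSheafData.coe_support_vanishingIdeal]
    rfl
  have hvr : f ((Scheme.IdealSheafData.vanishingIdeal X').subschemeι w) ∈
      Set.range (Scheme.IdealSheafData.vanishingIdeal
      (⟨closure (f.base '' (X' : Set X)), isClosed_closure⟩ :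
        TopologicalSpace.Closeds Y)).subschemeι := by
    rw [hrY]
    exact subset_closure ⟨_, hx, rfl⟩
  obtain ⟨v, hv⟩ := hvr
  obtain ⟨a, a', b', k, k', t, m, ha, ha', hb', hk, hk', hfg, hff, hm, h1, h2, h3, h4⟩ :=
    Lib.Helper55.closed_subscheme_dim_chain f (Scheme.IdealSheafData.vanishingIdeal X').subschemeι
      (Scheme.IdealSheafData.vanishingIdeal
        (⟨closure (f.base '' (X' : Set X)), isClosed_closure⟩ :
          TopologicalSpace.Closeds Y)).subschemeι (hηη.trans hξη.symm) w v hv
  -- the generic point of the subscheme maps to `ζ`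
  have hgen : (Scheme.IdealSheafData.vanishingIdeal X').subschemeι
      (genericPoint ↥(Scheme.IdealSheafData.vanishingIdeal X').subscheme) = ζ := by
    have h1 : closure ({(Scheme.IdealSheafData.vanishingIdeal X').subschemeι
        (genericPoint ↥(Scheme.IdealSheafData.vanishingIdeal X').subscheme)} : Set X) =
        (X' : Set X) := by
      have := (Scheme.IdealSheafData.vanishingIdeal X').subschemeι.isClosedEmbedding.closure_image_eq
        ({genericPoint ↥(Scheme.IdealSheafData.vanishingIdeal X').subscheme} : Set _)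
      rw [Set.image_singleton, (genericPoint_spec _).def, Set.image_univ, hrX] at this
      exact this
    have hg1 : IsGenericPoint ((Scheme.IdealSheafData.vanishingIdeal X').subschemeι
        (genericPoint ↥(Scheme.IdealSheafData.vanishingIdeal X').subscheme)) (X' : Set X) := h1
    exact hg1.eq hζ
  -- `b' = dim O_{X,x}`
  have hX₁ : IsLocallyNoetherian (Scheme.IdealSheafData.vanishingIdeal X').subscheme :=
    LocallyOfFiniteType.isLocallyNoetherian (Scheme.IdealSheafData.vanishingIdeal X').subschemeι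
  obtain ⟨p, hp⟩ := Lib.Helper55.exists_stalkPoint_eq
    ((Scheme.IdealSheafData.vanishingIdeal X').subschemeι w) ζ hζx
  have hpmin : p.asIdeal ∈ minimalPrimes
      (X.presheaf.stalk ((Scheme.IdealSheafData.vanishingIdeal X').subschemeι w)) :=
    Lib.Helper55.mem_minimalPrimes_of_stalkPoint_maximal _ p (by rw [hp]; exact hζmax)
  have hb'eq := ringKrullDim_stalk_closedImmersion_eq_quotient
    (Scheme.IdealSheafData.vanishingIdeal X').subschemeι w p (hp.trans hgen.symm)
  rw [hX p.asIdeal hpmin, h, hb', ha, hk] at hb'eq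
  have hb'n : b' = a + k := by exact_mod_cast hb'eq
  -- numerics
  rw [hk] at hk0
  have hkk : k = k0 := by exact_mod_cast hk0
  rw [hfd0] at hff
  have hte : k0 + e0 = k + t := by exact_mod_cast hff
  have ha'a : a' = a := by omega
  have hme : m = k0 + e0 := by omega
  have hk'e : k' + t = k0 + e0 := by omega
  rw [hrX, hgen] at hm
  refine ⟨?_, ?_, ?_⟩
  · -- the closure of the image is an irreducible component
    rw [himg]
    apply Lib.Helper55.closure_mem_irreducibleComponents_of_maximal
    intro η₀ hη₀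
    -- charts
    obtain ⟨V, hV, hwV, -⟩ := exists_isAffineOpen_mem_and_subset
      (x := f ((Scheme.IdealSheafData.vanishingIdeal X').subschemeι w)) (U := ⊤) trivial
    have hζV : f ζ ∈ V := ((hζx.map f.continuous)).mem_open V.2 hwV
    have hvV : (Scheme.IdealSheafData.vanishingIdeal
        (⟨closure (f.base '' (X' : Set X)), isClosed_closure⟩ :
          TopologicalSpace.Closeds Y)).subschemeι v ∈ V := by rw [hv]; exact hwV
    have hηV : (Scheme.IdealSheafData.vanishingIdeal
        (⟨closure (f.base '' (X' : Set X)), isClosed_closure⟩ :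
          TopologicalSpace.Closeds Y)).subschemeι (genericPoint _) ∈ V := by rw [hηη]; exact hζV
    have hA' := Lib.Helper55.ringKrullDim_stalk_closedImmersion
      (Scheme.IdealSheafData.vanishingIdeal
        (⟨closure (f.base '' (X' : Set X)), isClosed_closure⟩ :
          TopologicalSpace.Closeds Y)).subschemeι v hV hvV hηV
    rw [Lib.Helper55.height_map_quotient_congr hV _
      (f ((Scheme.IdealSheafData.vanishingIdeal X').subschemeι w)) _ (f ζ) hvV hwV hηV hζV
      hv hηη, ha'] at hA'
    have hle : (hV.primeIdealOf ⟨f ζ, hζV⟩).asIdeal ≤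
        (hV.primeIdealOf ⟨f ((Scheme.IdealSheafData.vanishingIdeal X').subschemeι w), hwV⟩).asIdeal :=
      (Lib.Helper55.primeIdealOf_le_iff_specializes hV _ _ hζV hwV).mpr (hζx.map f.continuous)
    have hpz : (hV.primeIdealOf
        ⟨f ((Scheme.IdealSheafData.vanishingIdeal X').subschemeι w), hwV⟩).asIdeal.IsPrime :=
      (hV.primeIdealOf _).2
    have hpζ : (hV.primeIdealOf ⟨f ζ, hζV⟩).asIdeal.IsPrime := (hV.primeIdealOf _).2
    have hPp : ((hV.primeIdealOf
        ⟨f ((Scheme.IdealSheafData.vanishingIdeal X').subschemeι w), hwV⟩).asIdeal.map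
        (Ideal.Quotient.mk (hV.primeIdealOf ⟨f ζ, hζV⟩).asIdeal)).IsPrime :=
      Lib.Helper55.map_mk_isPrime_of_le _ _ hle
    have hadd := Groth.Agent.H8.DimFormula.height_map_mk_add_height_le Γ(Y, V)
      (hV.primeIdealOf ⟨f ζ, hζV⟩).asIdeal
      (hV.primeIdealOf ⟨f ((Scheme.IdealSheafData.vanishingIdeal X').subschemeι w), hwV⟩).asIdeal hle
    have hah : ((hV.primeIdealOf
        ⟨f ((Scheme.IdealSheafData.vanishingIdeal X').subschemeι w), hwV⟩).asIdeal.height :
        WithBot ℕ∞) = a := by
      rw [← ha, Groth.Agent.S4442.ringKrullDim_stalk_eq_height Y hV _ hwV]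
    have hah' : (hV.primeIdealOf
        ⟨f ((Scheme.IdealSheafData.vanishingIdeal X').subschemeι w), hwV⟩).asIdeal.height =
        (a : ℕ∞) := by exact_mod_cast hah
    have hA'' : ((hV.primeIdealOf
        ⟨f ((Scheme.IdealSheafData.vanishingIdeal X').subschemeι w), hwV⟩).asIdeal.map
        (Ideal.Quotient.mk (hV.primeIdealOf ⟨f ζ, hζV⟩).asIdeal)).height = (a' : ℕ∞) := by
      exact_mod_cast hA'.symm
    rw [hah', hA''] at hadd
    obtain ⟨s, hs⟩ := Lib.Helper55.exists_nat_ringKrullDim_stalk (f ζ)
    have hsh : ((hV.primeIdealOf ⟨f ζ, hζV⟩).asIdeal.height : WithBot ℕ∞) = s := by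
      rw [← hs, Groth.Agent.S4442.ringKrullDim_stalk_eq_height Y hV (f ζ) hζV]
    have hsh' : (hV.primeIdealOf ⟨f ζ, hζV⟩).asIdeal.height = (s : ℕ∞) := by exact_mod_cast hsh
    rw [hsh'] at hadd
    have hadd' : a' + s ≤ a := by exact_mod_cast hadd
    have hs0 : s = 0 := by omega
    have h0 : ringKrullDim (Y.presheaf.stalk (f ζ)) = 0 := by rw [hs, hs0]; rfl
    rw [Lib.Helper55.eq_of_specializes_of_ringKrullDim_stalk_eq_zero (f ζ) η₀ h0 hη₀]
  · intro η hη
    have hg1 : IsGenericPoint η (closure ({f ζ} : Set Y)) := by rw [← himg]; exact hη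
    have hg2 : IsGenericPoint (f ζ) (closure ({f ζ} : Set Y)) := rfl
    have hηeq : f ζ = η := hg2.eq hg1
    rw [← hηeq]
    have hm' : topologicalKrullDim ↑(Xj ∩ f.base ⁻¹' {f.base ζ}) = (m : WithBot ℕ∞) := hm
    rw [hm', hme]
  · have hL := Lib.Helper55.fibreDimAt_preimmersion_comp_eq f
      (Scheme.IdealSheafData.vanishingIdeal X').subschemeι w
    have hset : Set.range (Scheme.IdealSheafData.vanishingIdeal X').subschemeι ∩
        f ⁻¹' {f ((Scheme.IdealSheafData.vanishingIdeal X').subschemeι w)} =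
        Xj ∩ f.base ⁻¹' {f.base ((Scheme.IdealSheafData.vanishingIdeal X').subschemeι w)} := by
      rw [hrX]
      rfl
    rw [Lib.Helper55.localDim_congr_set hset _ _ ⟨hx, rfl⟩, hfg] at hL
    rw [← hL, hk'e]

end Groth.Agent.S3397
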