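import Groth.Statements.S3402
import Groth.Agent.Lib.Helper16.ProConsScheme

set_option autoImplicit false
open CategoryTheory AlgebraicGeometry
universe u
open EGA41

namespace Groth.Agent.S3402

/-- A subset E of a scheme X is locally constructible if and only if it is both ind-constructible and
pro-constructible. -/
theorem result (X : Scheme.{u}) (E : Set X) :
    Topology.IsLocallyConstructible E ↔ ProCons.IsIndConstructible E ∧ ProCons.IsProConstructible E := by
  constructor
  · intro hE
    exact ⟨Groth.Agent.Lib.Helper16.isIndConstructible_of_isLocallyConstructible hE,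
      Groth.Agent.Lib.Helper16.isProConstructible_of_isLocallyConstructible hE⟩
  · rintro ⟨hi, hp⟩ x
    obtain ⟨U, hU, hxU⟩ := Groth.Agent.Lib.Helper16.exists_affine_nhd x
    obtain ⟨_, _, _, _, _⟩ := Groth.Agent.Lib.Helper16.spectral_of_isAffineOpen hU
    exact ⟨U, U.2.mem_nhds hxU, U.2,
      Groth.Agent.Lib.Helper16.isConstructible_preimage_of_ind_of_pro hi hp U.2⟩

end Groth.Agent.S3402
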