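import Groth.Statements.S3406
-- import your own Groth.Agent.* helpers here
import Groth.Agent.Lib.Helper85.HS.DimDelta

set_option autoImplicit false
universe u
open EGA41

namespace Groth.Agent.S3406

/-- The equality s(M) = dim(M): let A be a Noetherian ring with finitely many maximal ideals, r its
Jacobson radical and M a nonzero finitely generated A-module. Then the dimension of M (the Krull
dimension of its support) is the least n for which there are elements x_1, …, x_n of r such that
M/(x_1 M + ⋯ + x_n M) has finite length. -/
theorem result (A : Type u) [CommRing A] [IsNoetherianRing A]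
    [Finite (MaximalSpectrum A)] (M : Type u) [AddCommGroup M] [Module A M] [Module.Finite A M] [Nontrivial M] :
    Module.supportDim A M =
      sInf {k : WithBot ℕ∞ | ∃ (n : ℕ) (x : Fin n → A), k = n ∧ (∀ i, x i ∈ Ring.jacobson A) ∧
        IsFiniteLength A (M ⧸ (Ideal.span (Set.range x) • (⊤ : Submodule A M)))} := by
  classical
  apply le_antisymm
  · apply le_sInf
    rintro k ⟨n, x, rfl, hx, hfl⟩
    have h1 := Groth.Agent.Lib.Helper85.HS.supportDim_le_supportDim_quotient_add n M x hx
    have h2 := Groth.Agent.Lib.Helper85.HS.supportDim_le_zero_of_isFiniteLength hfl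
    calc Module.supportDim A M
        ≤ Module.supportDim A (M ⧸ (Ideal.span (Set.range x) • (⊤ : Submodule A M))) + n := h1
      _ ≤ 0 + n := by gcongr
      _ = n := zero_add _
  · have hbot : Module.supportDim A M ≠ ⊥ := Module.supportDim_ne_bot_of_nontrivial A M
    obtain ⟨e, he⟩ := WithBot.ne_bot_iff_exists.mp hbot
    rcases em (e = ⊤) with htop | htop
    · rw [← he, htop]
      exact le_top
    · obtain ⟨k, hk⟩ := ENat.ne_top_iff_exists.mp htop
      have hdim : Module.supportDim A M = (k : WithBot ℕ∞) := by
        rw [← he, ← hk]; rfl
      obtain ⟨x, hx, hfl⟩ :=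
        Groth.Agent.Lib.Helper85.HS.exists_fin_isFiniteLength_quotient k M hdim.le
      apply sInf_le
      exact ⟨k, x, hdim, hx, hfl⟩

end Groth.Agent.S3406
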