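import Groth.Statements.S3417
import Mathlib
import Groth.Agent.Lib.Helper70.DVRFlatB
import Groth.Agent.Lib.Helper70.DVRFlatC

set_option autoImplicit false
open CategoryTheory AlgebraicGeometry
universe u
open EGA43

namespace Groth.Agent.S3417

/-- Let A be a discrete valuation ring, Y = Spec A with closed point a and generic point b, and f : X ⟶
Y a morphism locally of finite type which is open (as a map of spaces). If X is connected and the
fibre over a is a reduced scheme, then the fibre over b is connected. (Stated with 'preconnected',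
which also covers the empty case; a is the closed point and b the point specialising to every
point.) -/
theorem result (A : Type u) [CommRing A] [IsDomain A]
    [IsDiscreteValuationRing A] {X : Scheme.{u}} (f : X ⟶ Spec (CommRingCat.of A)) [LocallyOfFiniteType f]
    (hopen : IsOpenMap f.base) [PreconnectedSpace X]
    (a b : ↥(Spec (CommRingCat.of A))) (ha : IsClosed ({a} : Set ↥(Spec (CommRingCat.of A))))
    (hb : ∀ z : ↥(Spec (CommRingCat.of A)), b ⤳ z)
    (hred : AlgebraicGeometry.IsReduced (f.fiber a)) :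
    PreconnectedSpace ↥(f.fiber b) := by
  classical
  obtain ⟨ϖ, hϖ⟩ := IsDiscreteValuationRing.exists_irreducible A
  -- identify `a` and `b`
  have ha' : a = IsLocalRing.closedPoint A := by
    have hmax : a.asIdeal.IsMaximal := (PrimeSpectrum.isClosed_singleton_iff_isMaximal a).mp ha
    apply PrimeSpectrum.ext
    exact IsLocalRing.eq_maximalIdeal hmax
  have hb' : b = (⟨⊥, Ideal.isPrime_bot⟩ : PrimeSpectrum A) := by
    have h1 := hb (⟨⊥, Ideal.isPrime_bot⟩ : PrimeSpectrum A)
    have h1' : (b : PrimeSpectrum A).asIdeal ≤ (⊥ : Ideal A) :=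
      (PrimeSpectrum.le_iff_specializes (R := A) b ⟨⊥, Ideal.isPrime_bot⟩).mpr h1
    apply PrimeSpectrum.ext
    exact le_bot_iff.mp h1'
  subst ha'
  -- `X` is locally Noetherian
  have hXN : IsLocallyNoetherian X := LocallyOfFiniteType.isLocallyNoetherian f
  -- the generic fibre is dense
  have hW : f.base ⁻¹' {b} =
      (X.basicOpen (Groth.Agent.Lib.Helper70.DVRConnC.pb f ⊤ ϖ) : Set X) := by
    rw [hb']
    exact Groth.Agent.Lib.Helper70.DVRFlatC.preimage_bot_eq_basicOpen f hϖ
  have hdense : Dense (X.basicOpen (Groth.Agent.Lib.Helper70.DVRConnC.pb f ⊤ ϖ) : Set X) := by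
    rw [← hW, dense_iff_inter_open]
    intro O hO hne
    obtain ⟨x, hx⟩ := hne
    have h1 : f.base x ∈ f.base '' O := ⟨x, hx, rfl⟩
    have h2 : b ∈ f.base '' O := (hb (f.base x)).mem_open (hopen O hO) h1
    obtain ⟨x', hx', hfx'⟩ := h2
    exact ⟨x', hx', hfx'⟩
  have hflat : Flat f := Groth.Agent.Lib.Helper70.DVRFlatB.flat_of_dense f hred hϖ hdense
  let t : Γ(X, ⊤) := Groth.Agent.Lib.Helper70.DVRConnC.pb f ⊤ ϖ
  have hgood : ∀ V : X.Opens, IsAffineOpen V →
      Groth.Agent.Lib.Helper70.DVRConnA.Good (Groth.Agent.Lib.Helper70.DVRConnD.res t V) := by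
    intro V hV
    have : Groth.Agent.Lib.Helper70.DVRConnD.res t V =
        Groth.Agent.Lib.Helper70.DVRConnC.pb f V ϖ :=
      Groth.Agent.Lib.Helper70.DVRConnC.pb_res f le_top ϖ
    rw [this]
    exact Groth.Agent.Lib.Helper70.DVRConnC.good_pb f hred hV hϖ
  have hpre : _root_.IsPreconnected (f.base ⁻¹' {b}) := by
    rw [hW]
    exact Groth.Agent.Lib.Helper70.DVRConnD.isPreconnected_basicOpen t hgood
  have hps : PreconnectedSpace ↥(f.base ⁻¹' {b}) := isPreconnected_iff_preconnectedSpace.mp hpre
  refine ⟨?_⟩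
  have h3 := (isPreconnected_univ (α := ↥(f.base ⁻¹' {b}))).image (f.fiberHomeo b).symm
    (f.fiberHomeo b).symm.continuous.continuousOn
  rw [Set.image_univ, (f.fiberHomeo b).symm.surjective.range_eq] at h3
  exact h3

end Groth.Agent.S3417
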