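import Groth.Statements.S3419
-- import your own Groth.Agent.* helpers here
import Groth.Agent.Lib.Helper55.SectionComponents

set_option autoImplicit false
open CategoryTheory AlgebraicGeometry
universe u
open EGA43

namespace Groth.Agent.S3419

/-- Let Y be locally Noetherian, f : X ⟶ Y locally of finite type and g a section of f; for y in Y let
X⁰_y be the connected component of the fibre f⁻¹(y) containing g(y). Suppose every X⁰_y is
irreducible. Then y ↦ dim X⁰_y is upper semicontinuous on Y; and if this function is constant on a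
neighbourhood of a point y, then X⁰_y is contained in the closure of X⁰_{y'} for every generization
y' of y. -/
theorem result {X Y : Scheme.{u}} [IsLocallyNoetherian Y] (f : X ⟶ Y)
    [LocallyOfFiniteType f] (g : Y ⟶ X) (hg : g ≫ f = 𝟙 Y)
    (hirr : ∀ y : Y, IsIrreducible (connectedComponentIn (f.base ⁻¹' {y}) (g.base y))) :
    UpperSemicontinuous (fun y : Y => topologicalKrullDim ↥(connectedComponentIn (f.base ⁻¹' {y}) (g.base y))) ∧
      ∀ y : Y, (∃ V ∈ nhds y, ∀ z ∈ V, topologicalKrullDim ↥(connectedComponentIn (f.base ⁻¹' {z}) (g.base z)) = topologicalKrullDim ↥(connectedComponentIn (f.base ⁻¹' {y}) (g.base y))) →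
        ∀ y' : Y, y' ⤳ y → connectedComponentIn (f.base ⁻¹' {y}) (g.base y) ⊆ closure (connectedComponentIn (f.base ⁻¹' {y'}) (g.base y')) := by
  refine ⟨Groth.Agent.Lib.Helper55.upperSemicontinuous_dim_connectedComponentIn f g hg hirr, ?_⟩
  rintro y ⟨V, hV, hVz⟩ y' hy'
  obtain ⟨V', hV'V, hV'o, hyV'⟩ := mem_nhds_iff.mp hV
  have hy'V : y' ∈ V := hV'V (hy'.mem_open hV'o hyV')
  have hdim := hVz y' hy'V
  have hfgy' : f.base (g.base y') = y' := Groth.Agent.Lib.Helper55.section_apply f g hg y'
  have hgyC : g.base y' ∈ connectedComponentIn (f.base ⁻¹' {y'}) (g.base y') :=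
    mem_connectedComponentIn hfgy'
  exact Groth.Agent.Lib.Helper55.connectedComponentIn_subset_closure_fibre_component f g hg
    y y' hy' _ (connectedComponentIn_subset _ _) (hirr y')
    (fun Z' hZ' hZ'y hsub =>
      Groth.Agent.Lib.Helper55.connectedComponentIn_maximal_of_isIrreducible f y' (g.base y') hgyC
        Z' hZ' hZ'y hsub)
    hgyC (hirr y) hdim.symm

end Groth.Agent.S3419
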