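import Groth.Statements.S3429
import Groth.Agent.S1391
import Groth.Agent.S4357
import Groth.Agent.S2493
import Groth.Agent.Lib.Helper80.PullbackFiniteType

set_option autoImplicit false
open CategoryTheory AlgebraicGeometry
universe u
open EGA42

namespace Groth.Agent.S3429

/-- Quasi-flatness is stable under base change. -/
theorem isQuasiFlat_of_isPullback {X S X' S' : Scheme.{u}} (f : X ⟶ S) (f' : X' ⟶ S')
    (g' : X' ⟶ X) (g : S' ⟶ S) (hc : IsPullback g' f' f g) (hf : FDesc.IsQuasiFlat f) :
    FDesc.IsQuasiFlat f' := by
  obtain ⟨M, hM, hflat, hnt⟩ := hf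
  haveI : Coh.IsQCoh M := hM.1
  refine ⟨(Scheme.Modules.pullback g').obj M,
    Groth.Agent.Lib.Helper80.isCoh_pullback g' M hM,
    fun x' => Groth.Agent.S1391.result f f' g' g hc M hM.1 x' (hflat (g' x')), fun x' => ?_⟩
  have hs := Groth.Agent.S4357.result g' M hM.2
  have hmem : x' ∈ CohB1.support ((Scheme.Modules.pullback g').obj M) := by
    rw [hs]
    show ¬ Subsingleton (M.presheaf.stalk (g' x'))
    exact not_subsingleton_iff_nontrivial.mpr (hnt _)
  exact not_subsingleton_iff_nontrivial.mp hmem

/-- A morphism of schemes which is quasi-flat (some quasi-coherent module of finite type on the source,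
flat over the base, has support the whole source) and locally of finite presentation is universally
open. -/
theorem result {X Y : Scheme.{u}} (f : X ⟶ Y)
    (hf : FDesc.IsQuasiFlat f) [LocallyOfFinitePresentation f] : UniversallyOpen f := by
  refine ⟨MorphismProperty.universally_mk' _ _ fun {T} g _ => ?_⟩
  have hq := isQuasiFlat_of_isPullback f (Limits.pullback.fst g f) (Limits.pullback.snd g f) g
    (IsPullback.of_hasPullback g f).flip hf
  haveI : LocallyOfFinitePresentation (Limits.pullback.fst g f) :=
    MorphismProperty.pullback_fst (P := @LocallyOfFinitePresentation) _ _ inferInstance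
  exact isOpenMap_of_generalizingMap _ (Groth.Agent.S2493.result _ hq)

end Groth.Agent.S3429
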