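import Groth.Statements.S3431
import Groth.Agent.Lib.Helper16.Jacobson

set_option autoImplicit false
universe u
open EGA43

namespace Groth.Agent.S3431

/-- Let A be a Noetherian ring. Then A is a Jacobson ring if and only if there is no prime ideal p of A
such that A/p is semi-local (finitely many maximal ideals) of Krull dimension 1. -/
theorem result (A : Type u) [CommRing A] [IsNoetherianRing A] :
    IsJacobsonRing A ↔
      ∀ (p : Ideal A) [p.IsPrime], ¬ (Finite (MaximalSpectrum (A ⧸ p)) ∧ ringKrullDim (A ⧸ p) = 1) := by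
  constructor
  · intro hJ p hp ⟨hfin, hdim⟩
    have hbot : (⊥ : Ideal (A ⧸ p)).jacobson = ⊥ :=
      (isJacobsonRing_iff_prime_eq.mp (inferInstance : IsJacobsonRing (A ⧸ p))) ⊥ Ideal.isPrime_bot
    let _ := Fintype.ofFinite (MaximalSpectrum (A ⧸ p))
    have hle : (Finset.univ : Finset (MaximalSpectrum (A ⧸ p))).inf (fun m => m.asIdeal) ≤
        (⊥ : Ideal (A ⧸ p)) := by
      rw [← hbot]
      refine le_sInf ?_
      rintro J ⟨-, hJm⟩
      exact Finset.inf_le (f := fun m : MaximalSpectrum (A ⧸ p) => m.asIdeal)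
        (Finset.mem_univ (⟨J, hJm⟩ : MaximalSpectrum (A ⧸ p)))
    obtain ⟨m, -, hm⟩ := (Ideal.IsPrime.inf_le' (Ideal.isPrime_bot (α := A ⧸ p))).mp hle
    have hm' : (⊥ : Ideal (A ⧸ p)).IsMaximal := by
      have : m.asIdeal = ⊥ := le_bot_iff.mp hm
      exact this ▸ m.isMaximal
    have hfield : IsField (A ⧸ p) := Ring.isField_iff_maximal_bot.mpr hm'
    rw [ringKrullDim_eq_zero_of_isField hfield] at hdim
    exact zero_ne_one hdim
  · intro H
    by_contra hJ
    rw [isJacobsonRing_iff_prime_eq] at hJ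
    push Not at hJ
    obtain ⟨P₀, hP₀, hP₀J⟩ := hJ
    obtain ⟨P, ⟨hP, hPJ⟩, hmax⟩ := set_has_maximal_iff_noetherian.mpr
      (inferInstance : IsNoetherian A A) {P : Ideal A | P.IsPrime ∧ P.jacobson ≠ P}
      ⟨P₀, hP₀, hP₀J⟩
    have hbotJ : (⊥ : Ideal (A ⧸ P)).jacobson ≠ ⊥ := fun e =>
      hPJ (Ideal.jacobson_eq_iff_jacobson_quotient_eq_bot.mpr e)
    obtain ⟨f, hfJ, hf0⟩ := Submodule.exists_mem_ne_zero_of_ne_bot hbotJ
    have hsurj : Function.Surjective (Ideal.Quotient.mk P) := Ideal.Quotient.mk_surjective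
    have hkey : ∀ q : Ideal (A ⧸ P), q.IsPrime → q ≠ ⊥ → f ∈ q := by
      intro q hq hq0
      have hQ : (q.comap (Ideal.Quotient.mk P)).IsPrime := Ideal.comap_isPrime _ _
      have hPQ : P < q.comap (Ideal.Quotient.mk P) := by
        refine lt_of_le_of_ne ?_ ?_
        · intro x hx
          rw [Ideal.mem_comap, Ideal.Quotient.eq_zero_iff_mem.mpr hx]
          exact q.zero_mem
        · intro e
          apply hq0
          apply Ideal.comap_injective_of_surjective _ hsurj
          rw [← e, ← RingHom.ker_eq_comap_bot, Ideal.mk_ker]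
      have hQJ : (q.comap (Ideal.Quotient.mk P)).jacobson = q.comap (Ideal.Quotient.mk P) := by
        by_contra hne
        exact hmax _ ⟨hQ, hne⟩ hPQ
      have hqJ : q.jacobson = q := by
        apply Ideal.comap_injective_of_surjective _ hsurj
        rw [Ideal.comap_jacobson_of_surjective hsurj, hQJ]
      rw [← hqJ]
      exact Ideal.jacobson_mono bot_le hfJ
    have hnf : ¬ IsField (A ⧸ P) := by
      intro hF
      have : (⊥ : Ideal (A ⧸ P)).IsMaximal := Ring.isField_iff_maximal_bot.mp hF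
      exact hbotJ (Ideal.jacobson_eq_self_of_isMaximal)
    refine H P ⟨?_, ?_⟩
    · have hfin := Groth.Agent.Lib.Helper16.finite_setOf_isPrime_ne_bot f hf0 hkey
      have : Finite {q : Ideal (A ⧸ P) | q.IsPrime ∧ q ≠ ⊥} := hfin
      refine Finite.of_injective
        (fun m : MaximalSpectrum (A ⧸ P) =>
          (⟨m.asIdeal, m.isMaximal.isPrime, fun e => hnf (Ring.isField_iff_maximal_bot.mpr
            (e ▸ m.isMaximal))⟩ : {q : Ideal (A ⧸ P) | q.IsPrime ∧ q ≠ ⊥})) ?_
      intro m m' e
      ext1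
      exact congrArg Subtype.val e
    · exact Groth.Agent.Lib.Helper16.ringKrullDim_eq_one_of_forall_isMaximal hnf
        (fun I hI0 hI => Groth.Agent.Lib.Helper16.isMaximal_of_forall_mem f hf0 hkey I hI hI0)

end Groth.Agent.S3431
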