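import Groth.Statements.S3432
import Groth.Agent.Lib.Helper16.JacobsonTop

set_option autoImplicit false
open CategoryTheory AlgebraicGeometry
universe u
open EGA43

namespace Groth.Agent.S3432

/-- Let X be a locally Noetherian scheme and Y a closed subset of X such that every nonempty closed
subset of X meets Y. Then the open subscheme X ∖ Y (equivalently, the subspace X ∖ Y) is a Jacobson
space. -/
theorem result (X : Scheme.{u}) [IsLocallyNoetherian X] (Y : Set X)
    (hY : IsClosed Y) (hmeet : ∀ Z : Set X, IsClosed Z → Z.Nonempty → (Z ∩ Y).Nonempty) :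
    JacobsonSpace ↥(Yᶜ) := by
  have hX : Groth.Agent.Lib.Helper16.GoodSpace X := by
    apply Groth.Agent.Lib.Helper16.GoodSpace.of_isOpenEmbedding_cover.{u}
    intro y
    obtain ⟨V, hV, hyV, -⟩ := exists_isAffineOpen_mem_and_subset (X := X) (x := y) (U := ⊤) trivial
    have : IsNoetherianRing Γ(X, V) := IsLocallyNoetherian.component_noetherian ⟨V, hV⟩
    refine ⟨PrimeSpectrum Γ(X, V), inferInstance, fun t => hV.fromSpec t,
      hV.fromSpec.isOpenEmbedding, ?_, Groth.Agent.Lib.Helper16.goodSpace_primeSpectrum _⟩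
    have := hV.range_fromSpec
    rw [Set.ext_iff] at this
    exact (this y).mpr hyV
  refine hX.jacobsonSpace_of_isOpen _ hY.isOpen_compl ?_
  intro x hx hcl
  obtain ⟨z, hz, hzY⟩ := hmeet {x} hcl (Set.singleton_nonempty x)
  rw [Set.mem_singleton_iff] at hz
  subst hz
  exact hx hzY

end Groth.Agent.S3432
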