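import Groth.Statements.S3435
-- import your own Groth.Agent.* helpers here

set_option autoImplicit false
universe u
open EGA41

namespace Groth.Agent.S3435

open TensorProduct in
/-- Let Λ → A → B → C be ring homomorphisms. The homomorphism Ω_{B/Λ} ⊗_B C → Ω_{B/A} ⊗_B C maps the
imperfection module Υ_{C/B/Λ} (the kernel of Ω_{B/Λ} ⊗_B C → Ω_{C/Λ}) onto the imperfection module
Υ_{C/B/A} (the kernel of Ω_{B/A} ⊗_B C → Ω_{C/A}): every element of Υ_{C/B/A} is the image of some
element of Υ_{C/B/Λ}. -/
theorem result (Λ A B C : Type u) [CommRing Λ] [CommRing A] [CommRing B] [CommRing C]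
    [Algebra Λ A] [Algebra Λ B] [Algebra Λ C] [Algebra A B] [Algebra A C] [Algebra B C]
    [IsScalarTower Λ A B] [IsScalarTower Λ A C] [IsScalarTower Λ B C] [IsScalarTower A B C] :
    ∀ ω ∈ EGA41.imperfection A B C, ∃ η ∈ EGA41.imperfection Λ B C,
      (KaehlerDifferential.map Λ A B B).baseChange C η = ω := by
  intro ω hω
  have hω' : KaehlerDifferential.mapBaseChange A B C ω = 0 := hω
  -- Step 1: surjectivity of the base-changed map
  have hsurj : Function.Surjective ((KaehlerDifferential.map Λ A B B).baseChange C) := by
    rw [LinearMap.baseChange_eq_ltensor]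
    exact LinearMap.lTensor_surjective C (KaehlerDifferential.map_surjective Λ A B)
  obtain ⟨η₀, hη₀⟩ := hsurj ω
  -- Step 2: commutative square
  have hsq : ∀ ζ : TensorProduct B C (Ω[B⁄Λ]),
      KaehlerDifferential.mapBaseChange A B C ((KaehlerDifferential.map Λ A B B).baseChange C ζ) =
        KaehlerDifferential.map Λ A C C (KaehlerDifferential.mapBaseChange Λ B C ζ) := by
    intro ζ
    induction ζ using TensorProduct.induction_on with
    | zero => simp
    | tmul c w =>
      rw [LinearMap.baseChange_tmul, KaehlerDifferential.mapBaseChange_tmul,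
        KaehlerDifferential.mapBaseChange_tmul, map_smul]
      congr 1
      -- both sides are B-linear in w; check on generators
      have hspan := KaehlerDifferential.span_range_derivation Λ B
      have hw : w ∈ Submodule.span B (Set.range (KaehlerDifferential.D Λ B)) := by
        rw [hspan]; trivial
      induction hw using Submodule.span_induction with
      | mem x hx =>
        obtain ⟨b, rfl⟩ := hx
        simp
      | zero => simp
      | add x y _ _ hx hy => simp only [map_add, hx, hy]
      | smul b x _ hx =>
        rw [map_smul, map_smul, map_smul, hx]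
        rw [← algebraMap_smul C b, ← algebraMap_smul C b, map_smul]
    | add x y hx hy => simp only [map_add, hx, hy]
  have h3 : KaehlerDifferential.map Λ A C C (KaehlerDifferential.mapBaseChange Λ B C η₀) = 0 := by
    rw [← hsq, hη₀, hω']
  obtain ⟨ξ, hξ⟩ := (KaehlerDifferential.exact_mapBaseChange_map Λ A C _).mp h3
  -- Step 4: lift ξ
  have hlift : ∀ ξ : TensorProduct A C (Ω[A⁄Λ]), ∃ ζ : TensorProduct B C (Ω[B⁄Λ]),
      (KaehlerDifferential.map Λ A B B).baseChange C ζ = 0 ∧
        KaehlerDifferential.mapBaseChange Λ B C ζ = KaehlerDifferential.mapBaseChange Λ A C ξ := by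
    intro ξ
    induction ξ using TensorProduct.induction_on with
    | zero => exact ⟨0, by simp, by simp⟩
    | tmul c w =>
      refine ⟨c ⊗ₜ[B] (KaehlerDifferential.map Λ Λ A B w), ?_, ?_⟩
      · rw [LinearMap.baseChange_tmul]
        have : KaehlerDifferential.map Λ A B B (KaehlerDifferential.map Λ Λ A B w) = 0 := by
          have h := (KaehlerDifferential.exact_mapBaseChange_map Λ A B
            (KaehlerDifferential.mapBaseChange Λ A B ((1 : B) ⊗ₜ[A] w))).mpr ⟨_, rfl⟩
          rwa [KaehlerDifferential.mapBaseChange_tmul, one_smul] at h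
        rw [this, TensorProduct.tmul_zero]
      · rw [KaehlerDifferential.mapBaseChange_tmul, KaehlerDifferential.mapBaseChange_tmul]
        congr 1
        have hspan := KaehlerDifferential.span_range_derivation Λ A
        have hw : w ∈ Submodule.span A (Set.range (KaehlerDifferential.D Λ A)) := by
          rw [hspan]; trivial
        induction hw using Submodule.span_induction with
        | mem x hx =>
          obtain ⟨a, rfl⟩ := hx
          simp [← IsScalarTower.algebraMap_apply]
        | zero => simp
        | add x y _ _ hx hy => simp only [map_add, hx, hy]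
        | smul a x _ hx =>
          rw [LinearMap.map_smul (KaehlerDifferential.map Λ Λ A B),
            LinearMap.map_smul (KaehlerDifferential.map Λ Λ A C), ← hx,
            ← algebraMap_smul B a ((KaehlerDifferential.map Λ Λ A B) x),
            LinearMap.map_smul (KaehlerDifferential.map Λ Λ B C), algebraMap_smul]
    | add x y hx hy =>
      obtain ⟨ζ₁, h₁, h₁'⟩ := hx
      obtain ⟨ζ₂, h₂, h₂'⟩ := hy
      exact ⟨ζ₁ + ζ₂, by rw [map_add, h₁, h₂, add_zero], by rw [map_add, map_add, h₁', h₂']⟩
  obtain ⟨ζ, hζ₁, hζ₂⟩ := hlift ξ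
  refine ⟨η₀ - ζ, ?_, ?_⟩
  · change KaehlerDifferential.mapBaseChange Λ B C (η₀ - ζ) = 0
    rw [map_sub, hζ₂, hξ, sub_self]
  · rw [map_sub, hζ₁, hη₀, sub_zero]

end Groth.Agent.S3435
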