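import Groth.Statements.S3436
import Mathlib
import Groth.Prelude.Def_EGA41

set_option autoImplicit false
open CategoryTheory AlgebraicGeometry
universe u
open EGA42

namespace Groth.Agent.S3436.Aux

open TensorProduct IsLocalRing KaehlerDifferential

/-- a local essentially-of-finite-type algebra over a Noetherian ring is a quotient of a
localization of a polynomial ring -/
theorem exists_presentation (A B : Type u) [CommRing A] [CommRing B] [IsLocalRing B]
    [IsNoetherianRing A] [Algebra A B] [Algebra.EssFiniteType A B] :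
    ∃ (P : Type u) (_ : CommRing P) (_ : Algebra A P) (_ : Algebra P B) (_ : IsScalarTower A P B)
      (_ : IsLocalRing P), IsNoetherianRing P ∧ Algebra.FormallySmooth A P ∧
        Module.Free P Ω[P⁄A] ∧ Module.Finite P Ω[P⁄A] ∧ Function.Surjective (algebraMap P B) := by
  obtain ⟨σ, hσ⟩ := (Algebra.essFiniteType_iff A B).mp inferInstance
  let θ : MvPolynomial σ A →ₐ[A] B := MvPolynomial.aeval (fun i : σ => (i : B))
  have hrange : ∀ y ∈ Algebra.adjoin A (σ : Set B), ∃ p, θ p = y := by
    intro y hy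
    have h1 : Algebra.adjoin A (σ : Set B) = θ.range := by
      rw [← Algebra.adjoin_range_eq_range_aeval]
      congr 1
      ext z
      simp
    rw [h1] at hy
    exact hy
  let Q : Ideal (MvPolynomial σ A) := (maximalIdeal B).comap θ.toRingHom
  haveI : Q.IsPrime := Ideal.comap_isPrime _ _
  have hunits : ∀ y : Q.primeCompl, IsUnit (θ.toRingHom y) := by
    intro y
    have h1 : θ.toRingHom y ∉ maximalIdeal B := y.2
    simpa using h1
  let P := Localization.AtPrime Q
  let ψ : P →+* B := IsLocalization.lift (M := Q.primeCompl) (g := θ.toRingHom) hunits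
  letI : Algebra P B := ψ.toAlgebra
  have hψ : ∀ p, ψ (algebraMap (MvPolynomial σ A) P p) = θ p := fun p => IsLocalization.lift_eq _ _
  haveI : IsScalarTower A P B := IsScalarTower.of_algebraMap_eq (fun a => by
    change _ = ψ (algebraMap A P a)
    rw [IsScalarTower.algebraMap_apply A (MvPolynomial σ A) P, hψ]
    simp [θ])
  haveI : Algebra.FormallySmooth (MvPolynomial σ A) P :=
    Algebra.FormallySmooth.of_isLocalization Q.primeCompl
  haveI : Algebra.FormallySmooth A P := Algebra.FormallySmooth.comp A (MvPolynomial σ A) P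
  haveI : Algebra.FormallyEtale (MvPolynomial σ A) P :=
    Algebra.FormallyEtale.of_isLocalization Q.primeCompl
  let e := KaehlerDifferential.tensorKaehlerEquivOfFormallyEtale A (MvPolynomial σ A) P
  refine ⟨P, inferInstance, inferInstance, inferInstance, inferInstance, inferInstance,
    inferInstance, inferInstance, Module.Free.of_equiv e, Module.Finite.equiv e, ?_⟩
  intro b
  obtain ⟨t, ht, htu, hbt⟩ := hσ b
  obtain ⟨pt, rfl⟩ := hrange t ht
  obtain ⟨p0, hp0⟩ := hrange _ hbt
  have hpt : pt ∈ Q.primeCompl := by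
    intro h
    have h1 : θ pt ∈ maximalIdeal B := h
    exact h1 htu
  refine ⟨IsLocalization.mk' P p0 ⟨pt, hpt⟩, ?_⟩
  change ψ _ = b
  rw [IsLocalization.lift_mk'_spec]
  change θ p0 = θ pt * b
  rw [hp0, mul_comm]
section key
variable {A P B : Type u} [CommRing A] [CommRing P] [CommRing B] [Algebra A P] [Algebra P B]
  [Algebra A B] [IsScalarTower A P B] [IsLocalRing A] [IsLocalRing P] [IsLocalRing B]
  [IsLocalHom (algebraMap A B)]

theorem ker_le_maximalIdeal : RingHom.ker (algebraMap P B) ≤ maximalIdeal P := by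
  intro x hx
  rw [mem_maximalIdeal, mem_nonunits_iff]
  intro hu
  have h1 := hu.map (algebraMap P B)
  rw [RingHom.mem_ker] at hx
  rw [hx] at h1
  exact not_isUnit_zero h1

theorem comap_maximalIdeal (hsurj : Function.Surjective (algebraMap P B)) :
    (maximalIdeal B).comap (algebraMap P B) = maximalIdeal P := by
  apply le_antisymm
  · intro x hx
    rw [mem_maximalIdeal, mem_nonunits_iff]
    intro hu
    exact hx (hu.map (algebraMap P B))
  · intro x hx
    rw [Ideal.mem_comap, mem_maximalIdeal, mem_nonunits_iff]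
    intro hu
    obtain ⟨b, hb⟩ := hu.exists_right_inv
    obtain ⟨y, rfl⟩ := hsurj b
    have h1 : x * y - 1 ∈ RingHom.ker (algebraMap P B) := by
      rw [RingHom.mem_ker, map_sub, map_mul, hb, map_one, sub_self]
    have h2 := ker_le_maximalIdeal (P := P) (B := B) h1
    have h3 : x * y ∈ maximalIdeal P := Ideal.mul_mem_right _ _ hx
    have h4 : (1 : P) ∈ maximalIdeal P := by
      have := Ideal.sub_mem _ h3 h2
      simp at this
    exact (Ideal.ne_top_iff_one _).mp (Ideal.IsPrime.ne_top inferInstance) h4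

theorem map_maximalIdeal_pow (hsurj : Function.Surjective (algebraMap P B)) (N : ℕ) :
    (maximalIdeal P ^ N).map (algebraMap P B) = maximalIdeal B ^ N := by
  rw [Ideal.map_pow, ← comap_maximalIdeal hsurj, Ideal.map_comap_of_surjective _ hsurj]

variable (B) in
include B in
theorem algebraMap_mem_maximalIdeal (a : A) (ha : a ∈ maximalIdeal A) :
    algebraMap A P a ∈ maximalIdeal P := by
  rw [mem_maximalIdeal, mem_nonunits_iff]
  intro hu
  have h1 := hu.map (algebraMap P B)
  rw [← IsScalarTower.algebraMap_apply] at h1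
  exact ha (IsLocalHom.map_nonunit a h1)


/-- **Key step**: the lifting argument. -/
theorem mem_of_D_mem (hsurj : Function.Surjective (algebraMap P B))
    (hfs : EGA41.IsFormallySmoothAdic A (maximalIdeal A) B (maximalIdeal B))
    (N : ℕ) (hN : 1 ≤ N) (f : P) (hf : f ∈ RingHom.ker (algebraMap P B))
    (hD : D A P f ∈ maximalIdeal P • (⊤ : Submodule P Ω[P⁄A])) :
    f ∈ maximalIdeal P * RingHom.ker (algebraMap P B) ⊔ maximalIdeal P ^ N := by
  set m := maximalIdeal P with hm
  set I := RingHom.ker (algebraMap P B) with hI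
  have hIm : I ≤ m := ker_le_maximalIdeal
  have hmN : m ^ N ≤ m := Ideal.pow_le_self (by omega)
  set 𝔞 : Ideal P := m * I ⊔ m ^ N with h𝔞
  let C' := P ⧸ 𝔞
  let J' : Ideal C' := (I ⊔ m ^ N).map (Ideal.Quotient.mk 𝔞)
  -- `J'` has square zero
  have hsq : (I ⊔ m ^ N) ^ 2 ≤ 𝔞 := by
    rw [pow_two, Ideal.sup_mul, Ideal.mul_sup, Ideal.mul_sup]
    refine sup_le (sup_le ?_ ?_) (sup_le ?_ ?_)
    · exact le_sup_of_le_left (Ideal.mul_mono_left hIm)
    · exact le_sup_of_le_left (by rw [mul_comm]; exact Ideal.mul_mono_left hmN)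
    · exact le_sup_of_le_left (Ideal.mul_mono_left hmN)
    · exact le_sup_of_le_right Ideal.mul_le_left
  have hJ2 : J' ^ 2 = ⊥ := by
    rw [← Ideal.map_pow, eq_bot_iff]
    exact (Ideal.map_mono hsq).trans (by rw [Ideal.map_quotient_self])
  -- `m • J' = 0`
  have hmJ : ∀ a ∈ m, ∀ j ∈ J', Ideal.Quotient.mk 𝔞 a * j = 0 := by
    intro a ha j hj
    obtain ⟨y, hy, rfl⟩ := (Ideal.mem_map_iff_of_surjective _ Ideal.Quotient.mk_surjective).mp hj
    rw [← map_mul, Ideal.Quotient.eq_zero_iff_mem]
    obtain ⟨y1, hy1, y2, hy2, rfl⟩ := Submodule.mem_sup.mp hy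
    rw [mul_add]
    refine Ideal.add_mem _ (Ideal.mem_sup_left (Ideal.mul_mem_mul ha hy1)) (Ideal.mem_sup_right ?_)
    exact Ideal.mul_mem_left _ _ hy2
  -- the test map
  let g : P →ₐ[A] B := IsScalarTower.toAlgHom A P B
  have hg : Function.Surjective g := hsurj
  let e : (P ⧸ RingHom.ker g) ≃ₐ[A] B := Ideal.quotientKerAlgEquivOfSurjective hg
  let u₀ : P →ₐ[A] C' ⧸ J' := (Ideal.Quotient.mkₐ A J').comp (Ideal.Quotient.mkₐ A 𝔞)
  have hu₀ : ∀ x ∈ RingHom.ker g, u₀ x = 0 := by
    intro x hx
    change Ideal.Quotient.mk J' (Ideal.Quotient.mk 𝔞 x) = 0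
    rw [Ideal.Quotient.eq_zero_iff_mem]
    exact Ideal.mem_map_of_mem _ (Ideal.mem_sup_left hx)
  let u : B →ₐ[A] C' ⧸ J' := (Ideal.Quotient.liftₐ (RingHom.ker g) u₀ hu₀).comp e.symm.toAlgHom
  have hu : ∀ x : P, u (g x) = Ideal.Quotient.mk J' (Ideal.Quotient.mk 𝔞 x) := by
    intro x
    have h1 : e.symm (g x) = Ideal.Quotient.mk (RingHom.ker g) x := by
      rw [AlgEquiv.symm_apply_eq]
      rfl
    change (Ideal.Quotient.liftₐ (RingHom.ker g) u₀ hu₀) (e.symm (g x)) = _
    rw [h1]
    rfl
  have hukill : ∀ y ∈ maximalIdeal B ^ N, u y = 0 := by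
    intro y hy
    rw [← map_maximalIdeal_pow hsurj] at hy
    obtain ⟨x, hx, rfl⟩ := (Ideal.mem_map_iff_of_surjective _ hsurj).mp hy
    change u (g x) = 0
    rw [hu]
    have : Ideal.Quotient.mk 𝔞 x = 0 := by
      rw [Ideal.Quotient.eq_zero_iff_mem]
      exact Ideal.mem_sup_right hx
    rw [this, map_zero]
  have hAkill : ((maximalIdeal A) ^ N).map (algebraMap A C') = ⊥ := by
    rw [eq_bot_iff, Ideal.map_le_iff_le_comap]
    intro a ha
    rw [Ideal.mem_comap, Ideal.mem_bot, IsScalarTower.algebraMap_apply A P C',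
      Ideal.Quotient.algebraMap_eq, Ideal.Quotient.eq_zero_iff_mem]
    apply Ideal.mem_sup_right
    have h1 : (maximalIdeal A ^ N).map (algebraMap A P) ≤ m ^ N := by
      rw [Ideal.map_pow]
      apply Ideal.pow_right_mono
      rw [Ideal.map_le_iff_le_comap]
      intro b hb
      exact algebraMap_mem_maximalIdeal B b hb
    exact h1 (Ideal.mem_map_of_mem _ ha)
  obtain ⟨v, hv⟩ := hfs C' J' ⟨2, hJ2⟩ ⟨N, hAkill⟩ u ⟨N, hukill⟩
  -- the derivation
  let g₂ : P →ₐ[A] C' := v.comp g
  have he : (Ideal.Quotient.mkₐ A J').comp g₂ = IsScalarTower.toAlgHom A P (C' ⧸ J') := by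
    ext x
    have h1 := DFunLike.congr_fun hv (g x)
    simp only [AlgHom.coe_comp, Function.comp_apply] at h1
    change (Ideal.Quotient.mkₐ A J') (v (g x)) = _
    rw [h1, hu]
    rfl
  let D' : Derivation A P J' := derivationToSquareZeroOfLift J' hJ2 g₂ he
  let φ : Ω[P⁄A] →ₗ[P] J' := D'.liftKaehlerDifferential
  have hφ : φ (D A P f) = D' f := Derivation.liftKaehlerDifferential_comp_D D' f
  have hzero : ∀ ω ∈ m • (⊤ : Submodule P Ω[P⁄A]), φ ω = 0 := by
    intro ω hω
    refine Submodule.smul_induction_on hω (fun a ha n _ => ?_) (fun x y hx hy => ?_)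
    · rw [map_smul]
      apply Subtype.ext
      have h1 : ((a • φ n : J') : C') = Ideal.Quotient.mk 𝔞 a * (φ n : C') := rfl
      rw [h1, hmJ a ha _ (φ n).2]
      rfl
    · rw [map_add, hx, hy, add_zero]
  have h0 : (D' f : C') = 0 := by
    rw [← hφ, hzero _ hD]
    rfl
  have h1 : (D' f : C') = g₂ f - algebraMap P C' f := rfl
  have h2 : g₂ f = 0 := by
    change v (g f) = 0
    have : g f = 0 := hf
    rw [this, map_zero]
  rw [h1, h2, zero_sub, neg_eq_zero, Ideal.Quotient.algebraMap_eq,
    Ideal.Quotient.eq_zero_iff_mem] at h0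
  exact h0

end key

section tensor
variable {P K : Type u} [CommRing P] [IsLocalRing P] [Field K] [Algebra P K]

/-- `K ⊗ M = M / mM` for `K` the residue field -/
theorem mem_smul_top_of_tmul_eq_zero (hK : Function.Surjective (algebraMap P K))
    (hker : RingHom.ker (algebraMap P K) = maximalIdeal P)
    {M : Type u} [AddCommGroup M] [Module P M] (x : M) (hx : (1 : K) ⊗ₜ[P] x = 0) :
    x ∈ maximalIdeal P • (⊤ : Submodule P M) := by
  let f : P →ₐ[P] K := Algebra.ofId P K
  have hf : Function.Surjective f := hK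
  let e1 : (P ⧸ RingHom.ker f) ≃ₐ[P] K := Ideal.quotientKerAlgEquivOfSurjective hf
  have hkf : RingHom.ker f = maximalIdeal P := hker
  let e2 : (P ⧸ maximalIdeal P) ≃ₐ[P] (P ⧸ RingHom.ker f) := Ideal.quotientEquivAlgOfEq P hkf.symm
  let e : (P ⧸ maximalIdeal P) ≃ₗ[P] K := (e2.trans e1).toLinearEquiv
  have he1 : e 1 = 1 := map_one (e2.trans e1)
  let E := TensorProduct.congr e (LinearEquiv.refl P M)
  have h1 : E ((1 : P ⧸ maximalIdeal P) ⊗ₜ[P] x) = (1 : K) ⊗ₜ[P] x := by
    simp [E, he1]
  have h2 : (1 : P ⧸ maximalIdeal P) ⊗ₜ[P] x = 0 := by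
    apply E.injective
    rw [h1, hx, map_zero]
  have h3 := congrArg (TensorProduct.quotTensorEquivQuotSMul M (maximalIdeal P)) h2
  have h4 : (1 : P ⧸ maximalIdeal P) = Ideal.Quotient.mk _ 1 := rfl
  rw [h4, TensorProduct.quotTensorEquivQuotSMul_mk_tmul, map_zero, one_smul,
    Submodule.Quotient.mk_eq_zero] at h3
  exact h3

theorem exists_tmul_eq (hK : Function.Surjective (algebraMap P K))
    {M : Type u} [AddCommGroup M] [Module P M] (z : K ⊗[P] M) : ∃ x : M, z = (1 : K) ⊗ₜ[P] x := by
  induction z using TensorProduct.induction_on with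
  | zero => exact ⟨0, by simp⟩
  | tmul k x =>
    obtain ⟨p, rfl⟩ := hK k
    refine ⟨p • x, ?_⟩
    rw [TensorProduct.tmul_smul, TensorProduct.smul_tmul', Algebra.algebraMap_eq_smul_one]
  | add a b ha hb =>
    obtain ⟨x, rfl⟩ := ha
    obtain ⟨y, rfl⟩ := hb
    exact ⟨x + y, by rw [TensorProduct.tmul_add]⟩

theorem tmul_eq_zero_of_mem (hker : RingHom.ker (algebraMap P K) = maximalIdeal P)
    {M : Type u} [AddCommGroup M] [Module P M] (x : M)
    (hx : x ∈ maximalIdeal P • (⊤ : Submodule P M)) : (1 : K) ⊗ₜ[P] x = 0 := by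
  refine Submodule.smul_induction_on hx (fun a ha n _ => ?_) (fun x y hx hy => ?_)
  · rw [TensorProduct.tmul_smul, TensorProduct.smul_tmul', Algebra.smul_def, mul_one]
    have : algebraMap P K a = 0 := by
      rw [← RingHom.mem_ker, hker]; exact ha
    rw [this, TensorProduct.zero_tmul]
  · rw [TensorProduct.tmul_add, hx, hy, add_zero]

end tensor

section main
variable (A B : Type u) [CommRing A] [CommRing B] [IsLocalRing A] [IsLocalRing B]
  [IsNoetherianRing A] [Algebra A B] [IsLocalHom (algebraMap A B)] [Algebra.EssFiniteType A B]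

theorem krull_step {P : Type u} [CommRing P] [IsLocalRing P] [IsNoetherianRing P] (I : Ideal P)
    (f : P) (h : ∀ N : ℕ, 1 ≤ N → f ∈ maximalIdeal P * I ⊔ maximalIdeal P ^ N) :
    f ∈ maximalIdeal P * I := by
  set m := maximalIdeal P
  have hne : m * I ≠ ⊤ := fun h1 =>
    (Ideal.IsPrime.ne_top (inferInstance : m.IsPrime)) (top_le_iff.mp (h1 ▸ Ideal.mul_le_left))
  haveI : Nontrivial (P ⧸ m * I) := Ideal.Quotient.nontrivial_iff.mpr hne
  haveI : IsLocalRing (P ⧸ m * I) :=
    IsLocalRing.of_surjective' (Ideal.Quotient.mk _) Ideal.Quotient.mk_surjective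
  let M' : Ideal (P ⧸ m * I) := m.map (Ideal.Quotient.mk _)
  have hM' : M' ≠ ⊤ := by
    intro h1
    have h2 : (1 : P ⧸ m * I) ∈ M' := h1 ▸ Submodule.mem_top
    obtain ⟨y, hy, hy1⟩ := (Ideal.mem_map_iff_of_surjective _ Ideal.Quotient.mk_surjective).mp h2
    have h3 : y - 1 ∈ m * I := by
      rw [← Ideal.Quotient.eq_zero_iff_mem, map_sub, hy1, map_one, sub_self]
    have h4 : y - 1 ∈ m := Ideal.mul_le_left h3
    have h5 : (1 : P) ∈ m := by
      have := Ideal.sub_mem _ hy h4
      simpa using this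
    exact (Ideal.ne_top_iff_one _).mp (Ideal.IsPrime.ne_top inferInstance) h5
  have hx : Ideal.Quotient.mk (m * I) f ∈ ⨅ N : ℕ, M' ^ N := by
    rw [Ideal.mem_iInf]
    intro N
    rcases Nat.eq_zero_or_pos N with rfl | hN
    · simp
    · obtain ⟨y, hy, z, hz, hyz⟩ := Submodule.mem_sup.mp (h N hN)
      rw [← hyz, map_add, Ideal.Quotient.eq_zero_iff_mem.mpr hy, zero_add, ← Ideal.map_pow]
      exact Ideal.mem_map_of_mem _ hz
  rw [Ideal.iInf_pow_eq_bot_of_isLocalRing M' hM', Ideal.mem_bot,
    Ideal.Quotient.eq_zero_iff_mem] at hx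
  exact hx

theorem formallySmooth_of_adic
    (hfs : EGA41.IsFormallySmoothAdic A (maximalIdeal A) B (maximalIdeal B)) :
    Algebra.FormallySmooth A B := by
  obtain ⟨P, _, _, _, _, _, hN, hS, hfree, hfin, hsurj⟩ := exists_presentation A B
  have h₂ : (RingHom.ker (algebraMap P B)).FG := (isNoetherianRing_iff_ideal_fg P).mp hN _
  rw [Algebra.FormallySmooth.iff_injective_cotangentComplexBaseChange_residueField P hsurj h₂,
    injective_iff_map_eq_zero]
  have hK : Function.Surjective (algebraMap P (ResidueField B)) := by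
    rw [IsScalarTower.algebraMap_eq P B (ResidueField B)]
    exact (IsLocalRing.residue_surjective).comp hsurj
  have hker : RingHom.ker (algebraMap P (ResidueField B)) = maximalIdeal P := by
    rw [IsScalarTower.algebraMap_eq P B (ResidueField B), ← RingHom.comap_ker]
    have : RingHom.ker (algebraMap B (ResidueField B)) = maximalIdeal B :=
      IsLocalRing.ker_residue
    rw [this, comap_maximalIdeal hsurj]
  intro z hz
  obtain ⟨f, rfl⟩ := exists_tmul_eq hK z
  rw [cotangentComplexBaseChange_tmul, one_smul, kerToTensor_apply] at hz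
  have hD := mem_smul_top_of_tmul_eq_zero hK hker _ hz
  have hmem := fun N hN => mem_of_D_mem hsurj hfs N hN f.1 f.2 hD
  have hf := krull_step _ _ hmem
  apply tmul_eq_zero_of_mem hker
  rw [Submodule.mem_smul_top_iff]
  exact hf

theorem main_alg :
    EGA41.IsFormallySmoothAdic A (maximalIdeal A) B (maximalIdeal B) ↔
      Algebra.FormallySmooth A B := by
  constructor
  · exact formallySmooth_of_adic A B
  · intro h C _ _ J hJ _ u _
    exact Algebra.FormallySmooth.exists_lift J hJ u

end main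

open AlgebraicGeometry in
theorem main {X Y : Scheme.{u}} [IsLocallyNoetherian X] [IsLocallyNoetherian Y]
    (f : X ⟶ Y) [LocallyOfFiniteType f] (x : X) :
    letI : Algebra (Y.presheaf.stalk (f.base x)) (X.presheaf.stalk x) := (f.stalkMap x).hom.toAlgebra
    EGA41.IsFormallySmoothAdic (Y.presheaf.stalk (f.base x)) (IsLocalRing.maximalIdeal (Y.presheaf.stalk (f.base x)))
        (X.presheaf.stalk x) (IsLocalRing.maximalIdeal (X.presheaf.stalk x)) ↔
      Algebra.FormallySmooth (Y.presheaf.stalk (f.base x)) (X.presheaf.stalk x) := by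
  letI : Algebra (Y.presheaf.stalk (f.base x)) (X.presheaf.stalk x) := (f.stalkMap x).hom.toAlgebra
  haveI : IsLocalHom (algebraMap (Y.presheaf.stalk (f.base x)) (X.presheaf.stalk x)) :=
    inferInstanceAs (IsLocalHom (f.stalkMap x).hom)
  haveI : Algebra.EssFiniteType (Y.presheaf.stalk (f.base x)) (X.presheaf.stalk x) :=
    LocallyOfFiniteType.stalkMap (f := f) x
  exact main_alg _ _

end Groth.Agent.S3436.Aux

namespace Groth.Agent.S3436

/-- Let X and Y be locally Noetherian schemes, f : X ⟶ Y locally of finite type, x a point of X and y =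
f x; give O_{X,x} the O_{Y,y}-algebra structure coming from f. Then O_{X,x} is formally smooth over
O_{Y,y} for the adic topologies of the two local rings (topologies defined by the maximal ideals) if
and only if it is formally smooth for the discrete topologies. -/
theorem result {X Y : Scheme.{u}} [IsLocallyNoetherian X] [IsLocallyNoetherian Y]
    (f : X ⟶ Y) [LocallyOfFiniteType f] (x : X) :
    letI : Algebra (Y.presheaf.stalk (f.base x)) (X.presheaf.stalk x) := (f.stalkMap x).hom.toAlgebra
    EGA41.IsFormallySmoothAdic (Y.presheaf.stalk (f.base x)) (IsLocalRing.maximalIdeal (Y.presheaf.stalk (f.base x)))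
        (X.presheaf.stalk x) (IsLocalRing.maximalIdeal (X.presheaf.stalk x)) ↔
      Algebra.FormallySmooth (Y.presheaf.stalk (f.base x)) (X.presheaf.stalk x) := by
  exact Aux.main f x

end Groth.Agent.S3436
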