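import Groth.Statements.S3437
import Groth.Agent.Lib.Helper13.CMCons

set_option autoImplicit false
open CategoryTheory AlgebraicGeometry
universe u
open EGA43

namespace Groth.Agent.S3437

/-- Let f : X ⟶ S be of finite presentation (locally of finite presentation, quasi-compact and
quasi-separated). Then the set of points s of S such that every local ring of the fibre X_s is
Cohen–Macaulay is locally constructible in S. -/
theorem result {X S : Scheme.{u}} (f : X ⟶ S)
    [LocallyOfFinitePresentation f] [QuasiCompact f] [QuasiSeparated f] :
    Topology.IsLocallyConstructible {s : S |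
      ∀ z : ↥(f.fiber s), LocCoh.IsCohenMacaulayLocalRing ((f.fiber s).presheaf.stalk z)} := by
  have hE := Groth.Agent.Lib.Helper13.CMCons.isLocallyConstructible_cmFib f
  have hcompl : ∀ {T : Type u} [TopologicalSpace T] {s : Set T},
      Topology.IsLocallyConstructible s → Topology.IsLocallyConstructible sᶜ := by
    intro T _ s hs x
    obtain ⟨U, hU, hUo, hc⟩ := hs x
    exact ⟨U, hU, hUo, by rw [Set.preimage_compl]; exact hc.compl⟩
  have himg := hcompl (f.isLocallyConstructible_image (hcompl hE))
  have hset : {s : S | ∀ z : ↥(f.fiber s),
      LocCoh.IsCohenMacaulayLocalRing ((f.fiber s).presheaf.stalk z)} =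
      (f '' {x : X | Groth.Agent.Lib.Helper13.CMCons.CMFib f x}ᶜ)ᶜ := by
    ext s
    simp only [Set.mem_setOf_eq, Set.mem_compl_iff, Set.mem_image, not_exists, not_and]
    constructor
    · rintro h x hx rfl
      exact hx (h (f.asFiber x))
    · intro h z
      have hx : f (f.fiberι s z) = s := by
        have : f.fiberι s z ∈ Set.range (f.fiberι s) := ⟨z, rfl⟩
        rw [Scheme.Hom.range_fiberι] at this
        exact this
      have h1 : Groth.Agent.Lib.Helper13.CMCons.CMFib f (f.fiberι s z) := by
        by_contra hc
        exact h (f.fiberι s z) hc hx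
      exact (Groth.Agent.Lib.Helper24.fibre_stalk_prop_congr f
        (fun R => LocCoh.IsCohenMacaulayLocalRing R) s (f.fiberι s z) hx z rfl).mpr h1
  rw [hset]
  exact himg

end Groth.Agent.S3437
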