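import Groth.Statements.S3438
-- import your own Groth.Agent.* helpers here
import Groth.Agent.Lib.Helper55.EquidimAt

set_option autoImplicit false
open CategoryTheory AlgebraicGeometry
universe u
open EGA43

namespace Groth.Agent.S3438

/-- Let Y be locally Noetherian, f : X ⟶ Y locally of finite type, x a point of X with y = f x, and
suppose O_{Y,y} is equidimensional and universally catenary. If f is equidimensional at x, then dim
O_{X,x} = dim O_{Y,y} + dim O_{X_y,x}. (That O_{X,x} is then also equidimensional is a separate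
result, not asserted here.) -/
theorem result {X Y : Scheme.{u}} [IsLocallyNoetherian Y] (f : X ⟶ Y)
    [LocallyOfFiniteType f] (x : X) (hY : EGA4.IsEquidim (Y.presheaf.stalk (f.base x)))
    (hcat : CAlg.IsUniversallyCatenary (Y.presheaf.stalk (f.base x))) (h : EGA43.IsEquidimAt f x) :
    ringKrullDim (X.presheaf.stalk x) =
        ringKrullDim (Y.presheaf.stalk (f.base x)) + ringKrullDim ((f.fiber (f.base x)).presheaf.stalk (f.asFiber x)) := by
  open Groth.Agent.Lib.Helper55 in
  obtain ⟨e, U, hxU, h1, h2⟩ := h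
  have hNX : IsLocallyNoetherian X := LocallyOfFiniteType.isLocallyNoetherian f
  obtain ⟨t, ht⟩ := exists_trdeg_residueField_eq_natCast f x
  have hall : ∀ 𝔭 ∈ minimalPrimes (X.presheaf.stalk x),
      ringKrullDim (X.presheaf.stalk x ⧸ 𝔭) + (t : WithBot ℕ∞) =
        ringKrullDim (Y.presheaf.stalk (f.base x)) + (e : WithBot ℕ∞) := by
    intro 𝔭 h𝔭
    have hp𝔭 : 𝔭.IsPrime := h𝔭.1.1
    have key := ringKrullDim_stalk_quotient_add_trdeg_eq_of_isEquidimAt f x hxU h2 hcat
      ⟨𝔭, hp𝔭⟩ h𝔭 t ht
    have hmin := comap_mem_minimalPrimes_of_isEquidimAt f x hxU h1 ⟨𝔭, hp𝔭⟩ h𝔭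
    rw [hY _ hmin] at key
    exact key
  obtain ⟨p₀, hp₀, hp₀dim⟩ := exists_mem_minimalPrimes_ringKrullDim_quotient_eq X x
  have hX : ringKrullDim (X.presheaf.stalk x) + (t : WithBot ℕ∞) =
      ringKrullDim (Y.presheaf.stalk (f.base x)) + (e : WithBot ℕ∞) := by
    rw [← hp₀dim]
    exact hall _ hp₀
  obtain ⟨n, hn, hfd⟩ := fibreDimAt_eq_stalk_fiber_add_trdeg f x
  have hnt : n = t := by
    have := hn.symm.trans ht
    exact_mod_cast this
  rw [fibreDimAt_eq_of_isEquidimAt f x h2 hxU] at hfd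
  apply withBot_enat_add_right_cancel t
  rw [hX, hfd, hnt, add_assoc]

end Groth.Agent.S3438
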