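import Groth.Statements.S3439
import Groth.Agent.Lib.Helper16.ProConsScheme

set_option autoImplicit false
open CategoryTheory AlgebraicGeometry
universe u
open EGA41

namespace Groth.Agent.S3439

/-- Let X be a quasi-compact scheme, E an ind-constructible subset of X and (F_i) a family of
pro-constructible subsets of X whose intersection is contained in E. Then there is a finite set J of
indices such that the intersection of the F_i for i in J is already contained in E. (Taking E = ∅: a
family of pro-constructible subsets with empty intersection has a finite subfamily with empty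
intersection.) -/
theorem result (X : Scheme.{u}) [CompactSpace X] (E : Set X)
    (hE : ProCons.IsIndConstructible E) {ι : Type u} (F : ι → Set X) (hF : ∀ i, ProCons.IsProConstructible (F i))
    (h : ⋂ i, F i ⊆ E) :
    ∃ J : Finset ι, ⋂ i ∈ J, F i ⊆ E := by
  classical
  obtain ⟨s, hs, hcov⟩ := (isCompact_and_isOpen_iff_finite_and_eq_biUnion_affineOpens
    (X := X) (U := Set.univ)).mp ⟨isCompact_univ, isOpen_univ⟩
  have hloc : ∀ W : X.affineOpens, ∃ J : Finset ι, (⋂ i ∈ J, F i) ∩ (W.1 : Set X) ⊆ E := by
    intro W
    obtain ⟨_, _, _, _, _⟩ := Groth.Agent.Lib.Helper16.spectral_of_isAffineOpen W.2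
    exact Groth.Agent.Lib.Helper16.exists_finset_iInter_subset_of_spectral hE F hF h W.1.2
  choose Jf hJf using hloc
  refine ⟨hs.toFinset.biUnion Jf, ?_⟩
  intro x hx
  have hxu : x ∈ (Set.univ : Set X) := Set.mem_univ x
  rw [hcov] at hxu
  simp only [Set.mem_iUnion] at hxu
  obtain ⟨W, hWs, hxW⟩ := hxu
  apply hJf W
  refine ⟨?_, hxW⟩
  simp only [Set.mem_iInter] at hx ⊢
  intro i hi
  exact hx i (Finset.mem_biUnion.mpr ⟨W, hs.mem_toFinset.mpr hWs, hi⟩)

end Groth.Agent.S3439
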