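import Groth.Statements.S3441
import Mathlib.Algebra.TrivSqZeroExt.Basic
import Mathlib.Tactic.LinearCombination
import Mathlib.Tactic.Ring

set_option autoImplicit false
universe u
open EGA41

namespace Groth.Agent.S3441

open TensorProduct
set_option linter.unusedSectionVars false

theorem exists_lift_of_leftInverse {A B C C' : Type u} [CommRing A] [CommRing B]
    [CommRing C] [CommRing C'] [Algebra A B] [Algebra B C] [Algebra A C] [IsScalarTower A B C]
    [Algebra A C'] (u : C →ₐ[A] C') (ι : B →+* C')
    (hιA : ∀ a, ι (algebraMap A B a) = algebraMap A C' a) (J : Ideal C') (hJ : J ^ 2 = ⊥)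
    (hu : ∀ b, u (algebraMap B C b) - ι b ∈ J)
    (l : Ω[C⁄A] →ₗ[C] C ⊗[B] Ω[B⁄A])
    (hl : l ∘ₗ KaehlerDifferential.mapBaseChange A B C = LinearMap.id) :
    ∃ v : C →ₐ[A] C', (∀ c, v c - u c ∈ J) ∧ ∀ b, v (algebraMap B C b) = ι b := by
  have hJ0 : ∀ x ∈ J, ∀ y ∈ J, x * y = 0 := by
    intro x hx y hy
    have : x * y ∈ J ^ 2 := by
      rw [pow_two]
      exact Ideal.mul_mem_mul hx hy
    rw [hJ] at this
    exact this
  let _ : Algebra C C' := u.toRingHom.toAlgebra
  let _ : Algebra B C' := (u.toRingHom.comp (algebraMap B C)).toAlgebra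
  have : IsScalarTower B C C' := IsScalarTower.of_algebraMap_eq fun _ => rfl
  have : IsScalarTower A C C' := IsScalarTower.of_algebraMap_eq fun a => (u.commutes a).symm
  have : IsScalarTower A B C' := IsScalarTower.of_algebraMap_eq fun a => by
    change algebraMap A C' a = u (algebraMap B C (algebraMap A B a))
    rw [← IsScalarTower.algebraMap_apply A B C, u.commutes]
  -- the derivation δ
  let δ₀ : B →ₗ[A] C' :=
    { toFun := fun b => u (algebraMap B C b) - ι b
      map_add' := fun x y => by simp only [map_add]; ring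
      map_smul' := fun a x => by
        simp only [Algebra.smul_def, map_mul, RingHom.id_apply, hιA]
        rw [← IsScalarTower.algebraMap_apply A B C, u.commutes]
        ring }
  have hδ₀ : ∀ b, δ₀ b = u (algebraMap B C b) - ι b := fun _ => rfl
  have hsmulB : ∀ (b : B) (x : C'), b • x = u (algebraMap B C b) * x := fun b x => rfl
  have hsmulC : ∀ (c : C) (x : C'), c • x = u c * x := fun c x => rfl
  let δ : Derivation A B C' := Derivation.mk' δ₀ (by
    intro b b'
    rw [hsmulB, hsmulB, hδ₀, hδ₀, hδ₀]
    have h0 := hJ0 _ (hu b) _ (hu b')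
    simp only [map_mul]
    linear_combination (-1 : C') * h0)
  have hδ : ∀ b, δ b = u (algebraMap B C b) - ι b := fun _ => rfl
  let ψ₀ : Ω[B⁄A] →ₗ[B] C' := δ.liftKaehlerDifferential
  let ψ : C ⊗[B] Ω[B⁄A] →ₗ[C] C' := LinearMap.liftBaseChange C ψ₀
  have hψ₀J : ∀ ω, ψ₀ ω ∈ J := by
    intro ω
    have : ω ∈ Submodule.span B (Set.range <| KaehlerDifferential.D A B) := by
      rw [KaehlerDifferential.span_range_derivation]; trivial
    refine Submodule.span_induction ?_ ?_ ?_ ?_ this
    · rintro _ ⟨b, rfl⟩
      rw [Derivation.liftKaehlerDifferential_comp_D, hδ]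
      exact hu b
    · rw [map_zero]; exact zero_mem _
    · intro x y _ _ hx hy
      rw [map_add]; exact add_mem hx hy
    · intro b x _ hx
      rw [map_smul, hsmulB]
      exact Ideal.mul_mem_left _ _ hx
  have hψJ : ∀ t, ψ t ∈ J := by
    intro t
    induction t using TensorProduct.induction_on with
    | zero => rw [map_zero]; exact zero_mem _
    | tmul c ω =>
      rw [LinearMap.liftBaseChange_tmul, hsmulC]
      exact Ideal.mul_mem_left _ _ (hψ₀J ω)
    | add x y hx hy => rw [map_add]; exact add_mem hx hy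
  let Dd : Derivation A C C' := (ψ ∘ₗ l).compDer (KaehlerDifferential.D A C)
  have hDd : ∀ c, Dd c = ψ (l (KaehlerDifferential.D A C c)) := fun _ => rfl
  have hDdJ : ∀ c, Dd c ∈ J := fun c => hψJ _
  have hDdB : ∀ b, Dd (algebraMap B C b) = u (algebraMap B C b) - ι b := by
    intro b
    have h1 : KaehlerDifferential.D A C (algebraMap B C b) =
        KaehlerDifferential.mapBaseChange A B C (1 ⊗ₜ KaehlerDifferential.D A B b) := by
      rw [KaehlerDifferential.mapBaseChange_tmul, one_smul, KaehlerDifferential.map_D]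
    rw [hDd, h1]
    have h2 := LinearMap.congr_fun hl ((1 : C) ⊗ₜ[B] KaehlerDifferential.D A B b)
    simp only [LinearMap.comp_apply, LinearMap.id_apply] at h2
    rw [h2, LinearMap.liftBaseChange_tmul, one_smul, Derivation.liftKaehlerDifferential_comp_D, hδ]
  refine ⟨{ toFun := fun c => u c - Dd c
            map_one' := by rw [map_one, Derivation.map_one_eq_zero, sub_zero]
            map_mul' := fun x y => by
              rw [map_mul, Derivation.leibniz, hsmulC, hsmulC]
              have h0 := hJ0 _ (hDdJ x) _ (hDdJ y)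
              linear_combination (-1 : C') * h0
            map_zero' := by rw [map_zero, map_zero, sub_zero]
            map_add' := fun x y => by rw [map_add, map_add]; ring
            commutes' := fun a => by
              rw [Derivation.map_algebraMap, sub_zero, u.commutes] }, ?_, ?_⟩
  · intro c
    change u c - Dd c - u c ∈ J
    rw [sub_sub_cancel_left]
    exact neg_mem (hDdJ c)
  · intro b
    change u (algebraMap B C b) - Dd (algebraMap B C b) = ι b
    rw [hDdB]
    ring


section Twisted

variable (A B C : Type u) [CommRing A] [CommRing B] [CommRing C] [Algebra A B] [Algebra B C]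
  [Algebra A C] [IsScalarTower A B C]

/-- The trivial square-zero extension of `C` by `C ⊗_B Ω_{B/A}`, with a twisted `B`-algebra
structure. -/
def Tw : Type u := TrivSqZeroExt C (C ⊗[B] Ω[B⁄A])

noncomputable instance : CommRing (Tw A B C) :=
  inferInstanceAs (CommRing (TrivSqZeroExt C (C ⊗[B] Ω[B⁄A])))

noncomputable instance : Algebra A (Tw A B C) :=
  inferInstanceAs (Algebra A (TrivSqZeroExt C (C ⊗[B] Ω[B⁄A])))

namespace Tw
variable {A B C}

def fst (x : Tw A B C) : C := TrivSqZeroExt.fst (R := C) (M := C ⊗[B] Ω[B⁄A]) x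
def snd (x : Tw A B C) : C ⊗[B] Ω[B⁄A] := TrivSqZeroExt.snd (R := C) (M := C ⊗[B] Ω[B⁄A]) x
def mk (c : C) (m : C ⊗[B] Ω[B⁄A]) : Tw A B C := ((c, m) : C × (C ⊗[B] Ω[B⁄A]))

@[simp] lemma fst_mk (c : C) (m : C ⊗[B] Ω[B⁄A]) : fst (mk (A := A) c m) = c := rfl
@[simp] lemma snd_mk (c : C) (m : C ⊗[B] Ω[B⁄A]) : snd (mk (A := A) c m) = m := rfl
lemma ext {x y : Tw A B C} (h1 : fst x = fst y) (h2 : snd x = snd y) : x = y :=
  TrivSqZeroExt.ext h1 h2
@[simp] lemma fst_mul (x y : Tw A B C) : fst (x * y) = fst x * fst y := rfl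
lemma snd_mul (x y : Tw A B C) : snd (x * y) = fst x • snd y + fst y • snd x := by
  change fst x • snd y + MulOpposite.op (fst y) • snd x = _
  rw [op_smul_eq_smul]
@[simp] lemma fst_add (x y : Tw A B C) : fst (x + y) = fst x + fst y := rfl
@[simp] lemma snd_add (x y : Tw A B C) : snd (x + y) = snd x + snd y := rfl
@[simp] lemma fst_sub (x y : Tw A B C) : fst (x - y) = fst x - fst y := rfl
@[simp] lemma snd_sub (x y : Tw A B C) : snd (x - y) = snd x - snd y := rfl
@[simp] lemma fst_one : fst (1 : Tw A B C) = 1 := rfl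
@[simp] lemma snd_one : snd (1 : Tw A B C) = 0 := rfl
@[simp] lemma fst_zero : fst (0 : Tw A B C) = 0 := rfl
@[simp] lemma snd_zero : snd (0 : Tw A B C) = 0 := rfl
@[simp] lemma fst_smul (a : A) (x : Tw A B C) : fst (a • x) = a • fst x := rfl
@[simp] lemma snd_smul (a : A) (x : Tw A B C) : snd (a • x) = a • snd x := rfl
lemma algebraMap_A (a : A) : algebraMap A (Tw A B C) a = mk (algebraMap A C a) 0 := rfl

end Tw

/-- the twisted structure map -/
noncomputable def twι : B →+* Tw A B C where
  toFun b := Tw.mk (algebraMap B C b) ((1 : C) ⊗ₜ[B] KaehlerDifferential.D A B b)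
  map_one' := by
    apply Tw.ext
    · simp
    · simp
  map_mul' b b' := by
    apply Tw.ext
    · simp
    · rw [Tw.snd_mul]
      simp only [Tw.snd_mk, Tw.fst_mk, Derivation.leibniz, TensorProduct.tmul_add,
        TensorProduct.tmul_smul, TensorProduct.smul_tmul', smul_eq_mul, mul_one,
        Algebra.smul_def]
  map_zero' := by
    apply Tw.ext
    · simp
    · simp
  map_add' b b' := by
    apply Tw.ext
    · simp
    · simp [TensorProduct.tmul_add]

noncomputable instance : Algebra B (Tw A B C) := (twι A B C).toAlgebra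

lemma Tw.algebraMap_B (b : B) : algebraMap B (Tw A B C) b =
    Tw.mk (algebraMap B C b) ((1 : C) ⊗ₜ[B] KaehlerDifferential.D A B b) := rfl

instance : IsScalarTower A B (Tw A B C) := IsScalarTower.of_algebraMap_eq fun a => by
  rw [Tw.algebraMap_B, Tw.algebraMap_A, Derivation.map_algebraMap, TensorProduct.tmul_zero,
    ← IsScalarTower.algebraMap_apply]

namespace Tw
variable {A B C}

/-- first projection as a ring hom -/
def fstHom : Tw A B C →+* C where
  toFun := fst
  map_one' := rfl
  map_mul' _ _ := rfl
  map_zero' := rfl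
  map_add' _ _ := rfl

lemma mem_ker_fstHom {x : Tw A B C} : x ∈ RingHom.ker (fstHom (A := A) (B := B) (C := C)) ↔
    fst x = 0 := RingHom.mem_ker

lemma ker_sq : (RingHom.ker (fstHom (A := A) (B := B) (C := C))) ^ 2 = ⊥ := by
  rw [pow_two, eq_bot_iff, Ideal.mul_le]
  intro x hx y hy
  rw [mem_ker_fstHom] at hx hy
  rw [Ideal.mem_bot]
  apply Tw.ext
  · rw [fst_mul, hx, zero_mul, fst_zero]
  · rw [snd_mul, hx, hy, zero_smul, zero_smul, add_zero, snd_zero]

/-- the untwisted section -/
noncomputable def inlHom : C →ₐ[A] Tw A B C where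
  toFun c := mk c 0
  map_one' := rfl
  map_mul' x y := by
    apply Tw.ext
    · simp
    · rw [snd_mul]; simp
  map_zero' := rfl
  map_add' x y := by
    apply Tw.ext
    · simp
    · simp
  commutes' a := rfl

end Tw

theorem exists_leftInverse_of_isFormallySmoothRel (h : EGA41.IsFormallySmoothRel A B C) :
    ∃ l : Ω[C⁄A] →ₗ[C] C ⊗[B] Ω[B⁄A],
      l ∘ₗ KaehlerDifferential.mapBaseChange A B C = LinearMap.id := by
  let J : Ideal (Tw A B C) := RingHom.ker (Tw.fstHom (A := A) (B := B) (C := C))
  have hJ : J ^ 2 = ⊥ := Tw.ker_sq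
  let u : C →ₐ[A] Tw A B C := Tw.inlHom
  let u₀ : C →ₐ[B] Tw A B C ⧸ J :=
    { (Ideal.Quotient.mk J).comp u.toRingHom with
      commutes' := fun b => by
        change Ideal.Quotient.mk J (Tw.mk (algebraMap B C b) 0) =
          Ideal.Quotient.mk J (algebraMap B (Tw A B C) b)
        rw [Ideal.Quotient.eq, Tw.mem_ker_fstHom, Tw.algebraMap_B]
        simp }
  have hlift : (Ideal.Quotient.mkₐ A J).comp u = u₀.restrictScalars A := AlgHom.ext fun c => rfl
  obtain ⟨v, hv⟩ := h (Tw A B C) J hJ u₀ ⟨u, hlift⟩
  have hfst : ∀ c, Tw.fst (v c) = c := by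
    intro c
    have h1 : Ideal.Quotient.mk J (v c) = Ideal.Quotient.mk J (Tw.mk c 0) := AlgHom.congr_fun hv c
    rw [Ideal.Quotient.eq, Tw.mem_ker_fstHom, Tw.fst_sub, Tw.fst_mk, sub_eq_zero] at h1
    exact h1
  let D₀ : C →ₗ[A] C ⊗[B] Ω[B⁄A] :=
    { toFun := fun c => Tw.snd (v c)
      map_add' := fun x y => by rw [map_add, Tw.snd_add]
      map_smul' := fun a x => by
        have : v (a • x) = a • v x := map_smul (v.restrictScalars A) a x
        rw [this, Tw.snd_smul, RingHom.id_apply] }
  let D' : Derivation A C (C ⊗[B] Ω[B⁄A]) := Derivation.mk' D₀ (by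
    intro x y
    change Tw.snd (v (x * y)) = x • Tw.snd (v y) + y • Tw.snd (v x)
    rw [map_mul, Tw.snd_mul, hfst, hfst])
  have hD' : ∀ c, D' c = Tw.snd (v c) := fun _ => rfl
  have hD'B : ∀ b, D' (algebraMap B C b) = (1 : C) ⊗ₜ[B] KaehlerDifferential.D A B b := by
    intro b
    rw [hD', v.commutes, Tw.algebraMap_B, Tw.snd_mk]
  refine ⟨D'.liftKaehlerDifferential, ?_⟩
  have key : ∀ ω : Ω[B⁄A], D'.liftKaehlerDifferential (KaehlerDifferential.map A A B C ω) =
      (1 : C) ⊗ₜ[B] ω := by
    intro ω
    have : ω ∈ Submodule.span B (Set.range <| KaehlerDifferential.D A B) := by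
      rw [KaehlerDifferential.span_range_derivation]; trivial
    refine Submodule.span_induction ?_ ?_ ?_ ?_ this
    · rintro _ ⟨b, rfl⟩
      rw [KaehlerDifferential.map_D, Derivation.liftKaehlerDifferential_comp_D, hD'B]
    · rw [map_zero, map_zero, TensorProduct.tmul_zero]
    · intro x y _ _ hx hy
      rw [map_add, map_add, hx, hy, TensorProduct.tmul_add]
    · intro b x _ hx
      rw [map_smul, LinearMap.map_smul_of_tower, hx, TensorProduct.tmul_smul]
  apply LinearMap.ext
  intro t
  induction t using TensorProduct.induction_on with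
  | zero => simp
  | tmul c ω =>
    rw [LinearMap.comp_apply, KaehlerDifferential.mapBaseChange_tmul, map_smul, key,
      LinearMap.id_apply, TensorProduct.smul_tmul', smul_eq_mul, mul_one]
  | add x y hx hy => rw [map_add, hx, hy, map_add]

end Twisted

open TensorProduct in
/-- Let A → B → C be ring homomorphisms. The canonical C-linear map Ω_{B/A} ⊗_B C → Ω_{C/A} is left
invertible (has a C-linear left inverse) if and only if C is a formally smooth B-algebra relative to
A for the discrete topologies: every B-algebra homomorphism from C to a quotient C'/J of a B-algebra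
C' by an ideal J of square zero that lifts to C' as an A-algebra homomorphism also lifts to C' as a
B-algebra homomorphism. (The published definition of relative formal smoothness tests every
nilpotent ideal J; its reduction to ideals of square zero does not carry over to the relative
setting, and the square-zero form, which is what the published proof of this statement uses, is the
one taken here.) -/
theorem result (A B C : Type u) [CommRing A] [CommRing B]
    [CommRing C] [Algebra A B] [Algebra B C] [Algebra A C] [IsScalarTower A B C] :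
    (∃ l : Ω[C⁄A] →ₗ[C] C ⊗[B] Ω[B⁄A], l ∘ₗ KaehlerDifferential.mapBaseChange A B C = LinearMap.id) ↔
      EGA41.IsFormallySmoothRel A B C := by
  constructor
  · rintro ⟨l, hl⟩
    intro C' _ _ _ _ J hJ u₀ ⟨u, hu⟩
    have hu' : ∀ b, u (algebraMap B C b) - algebraMap B C' b ∈ J := by
      intro b
      rw [← Ideal.Quotient.eq]
      have := AlgHom.congr_fun hu (algebraMap B C b)
      change Ideal.Quotient.mk J (u (algebraMap B C b)) = u₀ (algebraMap B C b) at this
      rw [this, u₀.commutes]
      rfl
    obtain ⟨v, hv1, hv2⟩ := exists_lift_of_leftInverse u (algebraMap B C')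
      (fun a => (IsScalarTower.algebraMap_apply A B C' a).symm) J hJ hu' l hl
    refine ⟨{ v.toRingHom with commutes' := hv2 }, ?_⟩
    apply AlgHom.ext
    intro c
    change Ideal.Quotient.mk J (v c) = u₀ c
    have h1 : Ideal.Quotient.mk J (v c) = Ideal.Quotient.mk J (u c) :=
      Ideal.Quotient.eq.mpr (hv1 c)
    rw [h1]
    exact AlgHom.congr_fun hu c
  · exact exists_leftInverse_of_isFormallySmoothRel A B C

end Groth.Agent.S3441
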