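import Groth.Statements.S3449
-- import your own Groth.Agent.* helpers here
import Groth.Agent.Lib.Helper55.JacobsonDim

set_option autoImplicit false
open CategoryTheory AlgebraicGeometry
universe u
open EGA43

namespace Groth.Agent.S3449

/-- Let S be a locally Noetherian scheme which is Jacobson, whose local rings are universally catenary,
and whose irreducible components S' are equidimensional in the sense that for every closed point s
of S' the dimension of S' equals the dimension of S' at s (the Krull dimension of the set of
generizations of s inside S'). Let X and Y be S-schemes, each locally of finite type over the base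
S, and let f : X ⟶ Y be a morphism over S, with X irreducible and f dominant; let η be the generic
point of Y and e the dimension of the fibre over η. Then dim X = dim Y + e. -/
theorem result {X Y S : Scheme.{u}} [IsLocallyNoetherian S]
    [JacobsonSpace S] (h2 : ∀ s : S, CAlg.IsUniversallyCatenary (S.presheaf.stalk s))
    (h3 : ∀ S' ∈ irreducibleComponents (S : Type u), ∀ s ∈ S', IsClosed ({s} : Set S) →
      topologicalKrullDim (↥S' : Type u) = topologicalKrullDim ↥{t : S | t ∈ S' ∧ t ⤳ s})
    (p : X ⟶ S) (q : Y ⟶ S) [LocallyOfFiniteType p] [LocallyOfFiniteType q] (f : X ⟶ Y) (hf : f ≫ q = p)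
    [IrreducibleSpace X] [IrreducibleSpace Y] [IsDominant f] :
    topologicalKrullDim (X : Type u) =
      topologicalKrullDim (Y : Type u) + topologicalKrullDim ↥(f.fiber (genericPoint Y)) := by
  open Groth.Agent.Lib.Helper55 in
  subst hf
  have hfd : DenseRange f := f.denseRange
  have hNY : IsLocallyNoetherian Y := LocallyOfFiniteType.isLocallyNoetherian q
  have hlf : LocallyOfFiniteType f := locallyOfFiniteType_of_comp f q
  have hη : f (genericPoint ↥X) = genericPoint ↥Y := map_genericPoint_eq_of_denseRange f hfd
  -- a maximal point of `S` above the image of the generic points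
  obtain ⟨σ, -, hστ, hσmax⟩ := exists_maximal_point_specializes (Set.univ : Set S) isClosed_univ
    (q (genericPoint ↥Y)) trivial
  have hσ : closure ({σ} : Set S) ∈ irreducibleComponents (S : Type u) :=
    closure_mem_irreducibleComponents_of_maximal σ (fun y hy => hσmax y trivial hy)
  -- transcendence degrees
  obtain ⟨mY, hmY⟩ := exists_trdeg_residueField_eq_natCast q (f (genericPoint ↥X))
  obtain ⟨e, he1, he2⟩ := exists_dim_genericFiber_eq_trdeg f hfd
  have hcomp := trdeg_residueField_comp f q (genericPoint ↥X)
  rw [hmY, he2] at hcomp
  have hmX : @Algebra.trdeg (S.residueField ((f ≫ q) (genericPoint ↥X)))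
      (X.residueField (genericPoint ↥X)) _ _
      ((f ≫ q).residueFieldMap (genericPoint ↥X)).hom.toAlgebra = ((mY + e : ℕ) : Cardinal) := by
    rw [Nat.cast_add]
    exact hcomp.symm
  have hmY' : @Algebra.trdeg (S.residueField (q (genericPoint ↥Y)))
      (Y.residueField (genericPoint ↥Y)) _ _
      (q.residueFieldMap (genericPoint ↥Y)).hom.toAlgebra = (mY : Cardinal) := hη ▸ hmY
  have hpt : (f ≫ q) (genericPoint ↥X) = q (genericPoint ↥Y) := by
    rw [← hη]
    rfl
  have hX := topologicalKrullDim_add_between_eq (f ≫ q) h2 h3 σ hσ (hpt ▸ hστ) (mY + e) hmX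
  have hY := topologicalKrullDim_add_between_eq q h2 h3 σ hσ hστ mY hmY'
  rw [hpt] at hX
  obtain ⟨d, hd⟩ := exists_nat_topologicalKrullDim_between σ (q (genericPoint ↥Y)) hστ
  rw [hd] at hX hY
  rw [he1]
  apply withBot_enat_add_right_cancel d
  rw [hX, Nat.cast_add, ← add_assoc, ← hY]
  abel

end Groth.Agent.S3449
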