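import Groth.Statements.S3460
-- import your own Groth.Agent.* helpers here

set_option autoImplicit false
open CategoryTheory AlgebraicGeometry
universe u
open EGA43

namespace Groth.Agent.S3460

theorem isProper_morphismRestrict_iSup {X Y : Scheme.{u}} (f : X ⟶ Y) {ι : Type*}
    (U : ι → Y.Opens) (h : ∀ i, IsProper (f ∣_ U i)) : IsProper (f ∣_ ⨆ i, U i) := by
  refine (IsZariskiLocalAtTarget.iff_of_iSup_eq_top (P := @IsProper)
    (fun i => (⨆ i, U i).ι ⁻¹ᵁ U i) ?_).mpr fun i => ?_
  · apply TopologicalSpace.Opens.ext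
    ext ⟨y, hy⟩
    simp only [TopologicalSpace.Opens.coe_iSup, Set.mem_iUnion, TopologicalSpace.Opens.coe_top,
      Set.mem_univ, iff_true]
    obtain ⟨i, hi⟩ := TopologicalSpace.Opens.mem_iSup.mp hy
    exact ⟨i, hi⟩
  · refine (MorphismProperty.arrow_mk_iso_iff @IsProper
      (morphismRestrictRestrict f (⨆ i, U i) _ ≪≫ morphismRestrictEq f ?_)).mpr (h i)
    rw [Scheme.Hom.image_preimage_eq_opensRange_inf, Scheme.Opens.opensRange_ι]
    exact inf_eq_right.mpr (le_iSup U i)

theorem isProper_morphismRestrict_iff_of_fac {X Y : Scheme.{u}} (f : X ⟶ Y) (U : Y.Opens)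
    (k : X ⟶ U.toScheme) (hk : k ≫ U.ι = f) : IsProper (f ∣_ U) ↔ IsProper k := by
  have htop : f ⁻¹ᵁ U = ⊤ := by
    rw [← top_le_iff]
    intro x _
    change f x ∈ U
    rw [← hk, Scheme.Hom.comp_apply]
    exact (k x).2
  have hiso : IsIso (f ⁻¹ᵁ U).ι := by
    rw [htop]
    exact X.topIso.isIso_hom
  have hfac : f ∣_ U = (f ⁻¹ᵁ U).ι ≫ k := by
    rw [← cancel_mono U.ι, morphismRestrict_ι, Category.assoc, hk]
  rw [hfac]
  exact MorphismProperty.cancel_left_of_respectsIso @IsProper _ _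

end Groth.Agent.S3460

namespace Groth.Agent.S3460

/-- Let Y be locally Noetherian and f : X ⟶ Y of finite type. Then there exist a scheme Z, a proper
morphism g : X ⟶ Z and an immersion h : Z ⟶ Y with f = g ≫ h if and only if f is proper at every
point of f(X), i.e. every point of f(X) has an open neighbourhood U in Y over which the restriction
of f is proper. -/
theorem result {X Y : Scheme.{u}} [IsLocallyNoetherian Y]
    (f : X ⟶ Y) [LocallyOfFiniteType f] [QuasiCompact f] :
    (∃ (Z : Scheme.{u}) (g : X ⟶ Z) (h : Z ⟶ Y), IsProper g ∧ IsImmersion h ∧ g ≫ h = f) ↔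
      ∀ x : X, ∃ U : Y.Opens, f.base x ∈ U ∧ IsProper (f ∣_ U) := by
  constructor
  · rintro ⟨Z, g, h, hg, hh, rfl⟩ x
    refine ⟨h.coborderRange, ?_, ?_⟩
    · have h1 : (g ≫ h) x = h.coborderRange.ι (h.liftCoborder (g x)) := by
        rw [← Scheme.Hom.comp_apply, ← Scheme.Hom.comp_apply, h.liftCoborder_ι]
      change (g ≫ h) x ∈ h.coborderRange
      rw [h1]
      exact (h.liftCoborder (g x)).2
    · rw [isProper_morphismRestrict_iff_of_fac (g ≫ h) h.coborderRange (g ≫ h.liftCoborder)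
        (by rw [Category.assoc, h.liftCoborder_ι])]
      infer_instance
  · intro H
    choose U hxU hU using H
    have hP : IsProper (f ∣_ ⨆ x, U x) := isProper_morphismRestrict_iSup f U hU
    have hrange : Set.range f ⊆ Set.range (⨆ x, U x).ι := by
      rintro _ ⟨x, rfl⟩
      rw [Scheme.Opens.range_ι]
      exact TopologicalSpace.Opens.mem_iSup.mpr ⟨x, hxU x⟩
    refine ⟨(⨆ x, U x).toScheme, IsOpenImmersion.lift (⨆ x, U x).ι f hrange, (⨆ x, U x).ι, ?_,
      inferInstance, IsOpenImmersion.lift_fac _ _ _⟩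
    exact (isProper_morphismRestrict_iff_of_fac f _ _ (IsOpenImmersion.lift_fac _ _ _)).mp hP

end Groth.Agent.S3460
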