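import Groth.Statements.S3888
import Mathlib
import Groth.Agent.Lib.Helper36.EtClosedEssImage
import Groth.Agent.Lib.Helper36.EtOpenPull

set_option autoImplicit false
open CategoryTheory CategoryTheory.Limits AlgebraicGeometry Opposite
universe u
open EtDesc

namespace Groth.Agent.S3888

lemma full_faithful_congr {X Y : Scheme.{u}} {g f : X ⟶ Y} (h : g = f)
    (hg : (EtDesc.pushSh g).Full ∧ (EtDesc.pushSh g).Faithful) :
    (EtDesc.pushSh f).Full ∧ (EtDesc.pushSh f).Faithful := by
  subst h; exact hg


/-- Let f : X -> Y be an immersion of schemes. Then for every sheaf of sets F on the small etale site of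
X the counit f^* f_* F -> F of the adjunction between inverse and direct image is an isomorphism. -/
theorem result {X Y : Scheme.{u}} (f : X ⟶ Y) [IsImmersion f] (F : EtDesc.Sh X) :
    IsIso ((EtDesc.adjSh f).counit.app F) := by
  open Groth.Agent.Lib.Helper36 in
  have hc := EtClosedDense.full_faithful_push f.liftCoborder (Type (u + 1))
  open Groth.Agent.Lib.Helper36 in
  have ho := EtOpenPull.full_faithful_pushSh f.coborderRange.ι
  have e : EtDesc.pushSh f.liftCoborder ⋙ EtDesc.pushSh f.coborderRange.ι ≅
      EtDesc.pushSh (f.liftCoborder ≫ f.coborderRange.ι) :=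
    EtDesc.pushCompSh f.coborderRange.ι f.liftCoborder
  have h1 : (EtDesc.pushSh f.liftCoborder).Full := hc.1
  have h2 : (EtDesc.pushSh f.liftCoborder).Faithful := hc.2
  have h3 : (EtDesc.pushSh f.coborderRange.ι).Full := ho.1
  have h4 : (EtDesc.pushSh f.coborderRange.ι).Faithful := ho.2
  have h5 : (EtDesc.pushSh (f.liftCoborder ≫ f.coborderRange.ι)).Full := Functor.Full.of_iso e
  have h6 : (EtDesc.pushSh (f.liftCoborder ≫ f.coborderRange.ι)).Faithful :=
    Functor.Faithful.of_iso e
  obtain ⟨h7, h8⟩ := full_faithful_congr f.liftCoborder_ι ⟨h5, h6⟩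
  infer_instance

end Groth.Agent.S3888
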