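import Groth.Statements.S3513
-- import your own Groth.Agent.* helpers here
import Groth.Agent.Lib.Helper55.HmapComp
import Groth.Agent.Lib.Helper43.PullStalk
import Groth.Agent.S8525
import Groth.Agent.S3888
import Groth.Agent.S3047
import Groth.Agent.S0642

set_option autoImplicit false
universe u
open CategoryTheory CategoryTheory.Limits AlgebraicGeometry Opposite
open EtAcyc

namespace Groth.Agent.S3513

open CategoryTheory CategoryTheory.Limits AlgebraicGeometry Abelian Opposite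
open Groth.Agent.Lib.Helper55.ExtFunctoriality Groth.Agent.Lib.Helper55.HmapComp

/-! ### Abelian part -/

/-- the inverse image of an `L`-torsion sheaf is `L`-torsion -/
theorem isLTorsion_pull {X Y : Scheme.{u}} (f : X ⟶ Y) (L : Set ℕ) (F : EtCoh.Ab Y)
    (hF : EtAcyc.IsLTorsion L F) : EtAcyc.IsLTorsion L ((EtCoh.pull f).obj F) := by
  rw [Groth.Agent.S8525.result] at hF ⊢
  intro Ω _ _ ξ t
  have hiso := Groth.Agent.Lib.Helper43.PullStalk.isIso_pullStalkMap f F ξ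
  obtain ⟨t', rfl⟩ := (ConcreteCategory.bijective_of_isIso
    (Groth.Agent.Lib.Helper43.PullStalk.pullStalkMap f F ξ)).2 t
  obtain ⟨m, hm, hmt⟩ := hF Ω (ξ ≫ f) t'
  refine ⟨m, hm, ?_⟩
  have h1 := map_nsmul (ConcreteCategory.hom
    (Groth.Agent.Lib.Helper43.PullStalk.pullStalkMap f F ξ)) m t'
  have h2 := congrArg (ConcreteCategory.hom
    (Groth.Agent.Lib.Helper43.PullStalk.pullStalkMap f F ξ)) hmt
  exact h1.symm.trans (h2.trans (map_zero _))

section CompN

variable {A B C : Scheme.{u}} (a : A ⟶ B) (b : B ⟶ C) (L : Set ℕ) (n : ℕ)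

theorem Hpull_comp_eq [PreservesFiniteLimits (EtCoh.pull a)] [PreservesFiniteLimits (EtCoh.pull b)]
    [PreservesFiniteLimits (EtCoh.pull (a ≫ b))] (F : EtCoh.Ab C) (q : ℕ) :
    ⇑(EtCore.Hpull (a ≫ b) F q) =
      ((fun e : EtCoh.H A ((EtCoh.pull a).obj ((EtCoh.pull b).obj F)) q =>
          e.comp (Ext.mk₀ (((EtCore.pullComp a b).symm.app F).hom)) (add_zero q)) ∘
        ⇑(EtCore.Hpull a ((EtCoh.pull b).obj F) q)) ∘ ⇑(EtCore.Hpull b F q) :=
  funext (fun x => Hpull_comp a b F q x)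

theorem compN_comp (ha : EtAcyc.CompN a L n) (hb : EtAcyc.CompN b L n) :
    EtAcyc.CompN (a ≫ b) L n := by
  intro F hF inst
  obtain ⟨hb1, hb2⟩ := hb F hF
  obtain ⟨ha1, ha2⟩ := ha ((EtCoh.pull b).obj F) (isLTorsion_pull b L F hF)
  refine ⟨fun q hq => ?_, ?_⟩
  · rw [Hpull_comp_eq]
    exact ((postcomp_iso_bijective _ q).comp (ha1 q hq)).comp (hb1 q hq)
  · rw [Hpull_comp_eq]
    exact ((postcomp_iso_bijective _ _).1.comp ha2).comp hb2

theorem compN_of_comp (hab : EtAcyc.CompN (a ≫ b) L n) (ha : EtAcyc.CompN a L n) :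
    EtAcyc.CompN b L n := by
  intro F hF inst
  obtain ⟨hab1, hab2⟩ := hab F hF
  obtain ⟨ha1, ha2⟩ := ha ((EtCoh.pull b).obj F) (isLTorsion_pull b L F hF)
  refine ⟨fun q hq => ?_, ?_⟩
  · have h := hab1 q hq
    rw [Hpull_comp_eq] at h
    exact (Function.Bijective.of_comp_iff' ((postcomp_iso_bijective _ q).comp (ha1 q hq)) _).1 h
  · have h := hab2
    rw [Hpull_comp_eq] at h
    exact Function.Injective.of_comp h

theorem compN_of_isIso (e : A ⟶ B) [IsIso e] : EtAcyc.CompN e L n := fun F _ _ =>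
  ⟨fun q _ => Groth.Agent.S0642.result e F q, (Groth.Agent.S0642.result e F (n + 1)).1⟩

end CompN

/-- the base change of an étale `Z`-scheme along `h` -/
noncomputable abbrev bcObj {Y Z : Scheme.{u}} (h : Y ⟶ Z) (V : Z.Etale) : Y.Etale :=
  (EtCoh.bc h).obj V

theorem prj_comp_eq {X Y Z : Scheme.{u}} (g : X ⟶ Y) (h : Y ⟶ Z) (V : Z.Etale) :
    EtAcyc.prj (g ≫ h) V =
      (pullbackLeftPullbackSndIso V.hom h g).inv ≫
        (EtAcyc.prj g (bcObj h V) ≫ EtAcyc.prj h V) := by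
  exact (pullbackLeftPullbackSndIso_inv_fst V.hom h g).symm

theorem acyclicN_part {X Y Z : Scheme.{u}} (g : X ⟶ Y) (h : Y ⟶ Z) (L : Set ℕ) (n : ℕ)
    (hg : EtAcyc.IsAcyclicN g L n) :
    EtAcyc.IsAcyclicN h L n ↔ EtAcyc.IsAcyclicN (g ≫ h) L n := by
  constructor
  · intro hh V
    rw [prj_comp_eq]
    exact compN_comp _ _ L n (compN_of_isIso L n _)
      (compN_comp _ _ L n (hg (bcObj h V)) (hh V))
  · intro hgh V
    have h1 := hgh V
    rw [prj_comp_eq, ← Category.assoc] at h1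
    exact compN_of_comp _ _ L n h1
      (compN_comp _ _ L n (compN_of_isIso L n _) (hg (bcObj h V)))

/-! ### Sets part -/

section Adj

variable {C D E : Type*} [Category C] [Category D] [Category E]
  {L1 : C ⥤ D} {R1 : D ⥤ C} (adj1 : L1 ⊣ R1) {L2 : D ⥤ E} {R2 : E ⥤ D} (adj2 : L2 ⊣ R2)
  {L3 : C ⥤ E} {R3 : E ⥤ C} (adj3 : L3 ⊣ R3)

theorem isIso_unit_iff (e : R3 ≅ R2 ⋙ R1) (F : C) :
    IsIso (adj3.unit.app F) ↔
      IsIso (adj1.unit.app F ≫ R1.map (adj2.unit.app (L1.obj F))) := by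
  have h1 : (adj3.ofNatIsoRight e).unit.app F ≫
      (R2 ⋙ R1).map (((adj3.ofNatIsoRight e).leftAdjointUniq (adj1.comp adj2)).hom.app F) =
      (adj1.comp adj2).unit.app F :=
    Adjunction.unit_leftAdjointUniq_hom_app _ _ F
  have h2 : (adj3.ofNatIsoRight e).unit.app F = adj3.unit.app F ≫ e.hom.app (L3.obj F) := by
    simp [Adjunction.ofNatIsoRight]
  have h3 : (adj1.comp adj2).unit.app F =
      adj1.unit.app F ≫ R1.map (adj2.unit.app (L1.obj F)) := by simp
  rw [← h3, ← h1, h2, Category.assoc]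
  constructor
  · intro h
    infer_instance
  · intro h
    exact IsIso.of_isIso_comp_right _ (e.hom.app (L3.obj F) ≫ (R2 ⋙ R1).map
      (((adj3.ofNatIsoRight e).leftAdjointUniq (adj1.comp adj2)).hom.app F))

end Adj

theorem isIso_unit_of_isIso {A B : Scheme.{u}} (e : A ⟶ B) [IsIso e] (F : EtDesc.Sh B) :
    IsIso ((EtDesc.adjSh e).unit.app F) := by
  have hc : IsIso ((EtDesc.adjSh e).counit.app ((EtDesc.pullSh e).obj F)) :=
    Groth.Agent.S3888.result e _
  have hr : (EtDesc.pullSh e).ReflectsIsomorphisms := (Groth.Agent.S3047.result e).2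
  have tri := (EtDesc.adjSh e).left_triangle_components F
  have h1 : IsIso ((EtDesc.pullSh e).map ((EtDesc.adjSh e).unit.app F) ≫
      (EtDesc.adjSh e).counit.app ((EtDesc.pullSh e).obj F)) := by
    rw [tri]; exact IsIso.id _
  have h2 : IsIso ((EtDesc.pullSh e).map ((EtDesc.adjSh e).unit.app F)) :=
    IsIso.of_isIso_comp_right _ ((EtDesc.adjSh e).counit.app ((EtDesc.pullSh e).obj F))
  exact isIso_of_reflects_iso _ (EtDesc.pullSh e)

theorem isIso_unit_congr {A B : Scheme.{u}} {k k' : A ⟶ B} (hk : k = k') (F : EtDesc.Sh B) :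
    IsIso ((EtDesc.adjSh k).unit.app F) ↔ IsIso ((EtDesc.adjSh k').unit.app F) := by
  subst hk; rfl

theorem isIso_unit_comp_iff {A B C : Scheme.{u}} (p : A ⟶ B) (q : B ⟶ C) (F : EtDesc.Sh C) :
    IsIso ((EtDesc.adjSh (p ≫ q)).unit.app F) ↔
      IsIso ((EtDesc.adjSh q).unit.app F ≫
        (EtDesc.pushSh q).map ((EtDesc.adjSh p).unit.app ((EtDesc.pullSh q).obj F))) :=
  isIso_unit_iff (EtDesc.adjSh q) (EtDesc.adjSh p) (EtDesc.adjSh (p ≫ q))
    (EtDesc.pushCompSh q p).symm F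

theorem isIso_unit_comp_iff_of_left {A B C : Scheme.{u}} (p : A ⟶ B) (q : B ⟶ C)
    (F : EtDesc.Sh C) (hp : ∀ G : EtDesc.Sh B, IsIso ((EtDesc.adjSh p).unit.app G)) :
    IsIso ((EtDesc.adjSh (p ≫ q)).unit.app F) ↔ IsIso ((EtDesc.adjSh q).unit.app F) := by
  rw [isIso_unit_comp_iff]
  haveI := hp ((EtDesc.pullSh q).obj F)
  constructor
  · intro h
    exact IsIso.of_isIso_comp_right _
      ((EtDesc.pushSh q).map ((EtDesc.adjSh p).unit.app ((EtDesc.pullSh q).obj F)))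
  · intro h
    infer_instance

theorem zeroAcyclic_part {X Y Z : Scheme.{u}} (g : X ⟶ Y) (h : Y ⟶ Z)
    (hg : EtAcyc.IsZeroAcyclic g) :
    EtAcyc.IsZeroAcyclic h ↔ EtAcyc.IsZeroAcyclic (g ≫ h) := by
  have key : ∀ (V : Z.Etale) (F : EtDesc.Sh V.left),
      IsIso ((EtDesc.adjSh (EtAcyc.prj (g ≫ h) V)).unit.app F) ↔
        IsIso ((EtDesc.adjSh (EtAcyc.prj h V)).unit.app F) := by
    intro V F
    exact (isIso_unit_congr (prj_comp_eq g h V) F).trans
      ((isIso_unit_comp_iff_of_left _ _ F (fun G => isIso_unit_of_isIso _ G)).trans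
        (isIso_unit_comp_iff_of_left (EtAcyc.prj g (bcObj h V)) (EtAcyc.prj h V) F
          (fun G => hg (bcObj h V) G)))
  exact ⟨fun hh V F => (key V F).2 (hh V F), fun hh V F => (key V F).1 (hh V F)⟩

end Groth.Agent.S3513

namespace Groth.Agent.S3513

/-- Last assertion, abelian and sets cases: let g : X → Y and h : Y → Z be morphisms of schemes, L a set
of primes and n a natural number. If g is n-acyclic for L, then h is n-acyclic for L if and only if
g ≫ h is; if g is 0-acyclic, then h is 0-acyclic if and only if g ≫ h is. -/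
theorem result {X Y Z : Scheme.{u}} (g : X ⟶ Y) (h : Y ⟶ Z) (L : Set ℕ) (n : ℕ) :
    (EtAcyc.IsAcyclicN g L n → (EtAcyc.IsAcyclicN h L n ↔ EtAcyc.IsAcyclicN (g ≫ h) L n)) ∧
      (EtAcyc.IsZeroAcyclic g → (EtAcyc.IsZeroAcyclic h ↔ EtAcyc.IsZeroAcyclic (g ≫ h))) := by
  exact ⟨fun hg => acyclicN_part g h L n hg, fun hg => zeroAcyclic_part g h hg⟩

end Groth.Agent.S3513
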