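import Groth.Statements.S3514
-- import your own Groth.Agent.* helpers here
import Groth.Agent.S3513
import Groth.Agent.S0537

set_option autoImplicit false
universe u
open CategoryTheory CategoryTheory.Limits AlgebraicGeometry Opposite
open EtAcyc

set_option linter.style.haveILetI false

namespace Groth.Agent.S3514

open IsLocalRing Polynomial

/-- Field-theoretic factorization: a map from a separable algebraic extension into a field factors through the
image of any separably closed field containing the base. -/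
theorem exists_factor {k K₁ K₂ K₃ : Type*} [Field k] [Field K₁] [Field K₂] [Field K₃]
    [Algebra k K₁] [Algebra.IsSeparable k K₁] [IsSepClosed K₂]
    (i : k →+* K₂) (σ : K₂ →+* K₃) (ρ : K₁ →+* K₃)
    (h : σ.comp i = ρ.comp (algebraMap k K₁)) :
    ∃ τ : K₁ →+* K₂, σ.comp τ = ρ ∧ τ.comp (algebraMap k K₁) = i := by
  have hmem : ∀ a : K₁, ∃ b : K₂, σ b = ρ a := by
    intro a
    have hsep : (minpoly k a).Separable := Algebra.IsSeparable.isSeparable k a
    have hsplit : ((minpoly k a).map i).Splits := IsSepClosed.splits_codomain _ hsep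
    have hne : (minpoly k a).map i ≠ 0 :=
      (Polynomial.map_ne_zero_iff i.injective).mpr (minpoly.ne_zero (Algebra.IsSeparable.isIntegral k a))
    have hroot : (((minpoly k a).map i).map σ).IsRoot (ρ a) := by
      rw [Polynomial.map_map, h, ← Polynomial.map_map, Polynomial.IsRoot.def, Polynomial.eval_map,
        Polynomial.eval₂_hom, Polynomial.eval_map_algebraMap, minpoly.aeval, map_zero]
    obtain ⟨b, hb⟩ := hsplit.mem_range_of_isRoot hne hroot
    exact ⟨b, hb⟩
  choose t ht using hmem
  have hinj : Function.Injective σ := σ.injective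
  let τ : K₁ →+* K₂ :=
    { toFun := t
      map_one' := hinj (by rw [ht, map_one, map_one])
      map_mul' := fun a b => hinj (by rw [ht, map_mul, map_mul, ht, ht])
      map_zero' := hinj (by rw [ht, map_zero, map_zero])
      map_add' := fun a b => hinj (by rw [ht, map_add, map_add, ht, ht]) }
  refine ⟨τ, RingHom.ext fun a => ht a, RingHom.ext fun c => hinj ?_⟩
  show σ (t (algebraMap k K₁ c)) = σ (i c)
  rw [ht]
  exact (DFunLike.congr_fun h c).symm

/-- A ring map between local rings compatible with a map on residue fields is local. -/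
theorem isLocalHom_of_residue {S T : Type*} [CommRing S] [IsLocalRing S] [CommRing T] [IsLocalRing T]
    (g : S →+* T) (τ : ResidueField S →+* ResidueField T)
    (h : ∀ x : S, residue T (g x) = τ (residue S x)) : IsLocalHom g := by
  refine ⟨fun x hx => ?_⟩
  by_contra hcon
  have h1 : residue S x = 0 := (residue_eq_zero_iff x).mpr ((mem_maximalIdeal _).mpr hcon)
  have h2 : residue T (g x) = 0 := by rw [h, h1, map_zero]
  exact ((mem_maximalIdeal _).mp ((residue_eq_zero_iff (g x)).mp h2)) hx

theorem residueMap_ext {S : Type*} {T : Type*} [CommRing S] [IsLocalRing S] [Semiring T]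
    (f g : ResidueField S →+* T) (h : ∀ x : S, f (residue S x) = g (residue S x)) : f = g := by
  apply Ideal.Quotient.ringHom_ext
  ext x
  exact h x

section Ring

variable {A B : Type u} [CommRing A] [IsLocalRing A] [CommRing B] [IsLocalRing B]
  (f : A →+* B) [IsLocalHom f]
  (A' B' : Type u) [CommRing A'] [IsLocalRing A'] [Algebra A A'] [IsLocalHom (algebraMap A A')]
  [hA' : Hensel.IsStrictHenselization A A']
  [CommRing B'] [IsLocalRing B'] [Algebra B B'] [IsLocalHom (algebraMap B B')]
  [hB' : Hensel.IsStrictHenselization B B']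

include hA' hB' in
/-- A local homomorphism induces a local homomorphism of strict henselizations. -/
theorem exists_map :
    ∃ g : A' →+* B', g.comp (algebraMap A A') = (algebraMap B B').comp f ∧ IsLocalHom g := by
  haveI hhB' : HenselianLocalRing B' := hB'.henselian
  obtain ⟨f', hf'⟩ : ∃ f' : A →+* B', f' = (algebraMap B B').comp f := ⟨_, rfl⟩
  haveI hfloc : IsLocalHom f' := by
    rw [hf']
    exact RingHom.isLocalHom_comp _ _
  letI algres : Algebra (ResidueField A) (ResidueField B') := (ResidueField.map f').toAlgebra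
  haveI : IsSepClosed (ResidueField B') := hB'.isSepClosure.sep_closed
  haveI : Algebra.IsSeparable (ResidueField A) (ResidueField A') := hA'.isSepClosure.separable
  obtain ⟨τ₀⟩ : Nonempty (ResidueField A' →ₐ[ResidueField A] ResidueField B') :=
    ⟨IsSepClosed.lift⟩
  have hτ : τ₀.toRingHom.comp (ResidueField.map (algebraMap A A')) = ResidueField.map f' := by
    ext x
    exact τ₀.commutes x
  obtain ⟨g, ⟨hg1, hg2⟩, -⟩ := hA'.universal B' f' τ₀.toRingHom hτ
  exact ⟨g, by rw [hg1, hf'], isLocalHom_of_residue g _ hg2⟩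

end Ring

section Factor

variable {A B C : Type u} [CommRing A] [IsLocalRing A] [CommRing B] [IsLocalRing B]
  [CommRing C] [IsLocalRing C]
  (a : A →+* B) [IsLocalHom a] (b : B →+* C) [IsLocalHom b]
  (A' B' C' : Type u) [CommRing A'] [IsLocalRing A'] [Algebra A A'] [IsLocalHom (algebraMap A A')]
  [hA' : Hensel.IsStrictHenselization A A']
  [CommRing B'] [IsLocalRing B'] [Algebra B B'] [IsLocalHom (algebraMap B B')]
  [hB' : Hensel.IsStrictHenselization B B']
  [CommRing C'] [IsLocalRing C'] [Algebra C C'] [IsLocalHom (algebraMap C C')]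
  [hC' : Hensel.IsStrictHenselization C C']

include hA' hB' hC' in
/-- A local map between strict henselizations of `A` and `C` over `A → B → C` factors through any strict
henselization of `B`. -/
theorem exists_factorization (φ : A' →+* C') [IsLocalHom φ]
    (hφ : φ.comp (algebraMap A A') = (algebraMap C C').comp (b.comp a)) :
    ∃ (χ : A' →+* B') (ψ : B' →+* C'), IsLocalHom χ ∧ IsLocalHom ψ ∧
      χ.comp (algebraMap A A') = (algebraMap B B').comp a ∧
      ψ.comp (algebraMap B B') = (algebraMap C C').comp b ∧ ψ.comp χ = φ := by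
  haveI : HenselianLocalRing B' := hB'.henselian
  haveI : HenselianLocalRing C' := hC'.henselian
  obtain ⟨ψ, hψ, hψloc⟩ := exists_map b B' C'
  haveI := hψloc
  haveI : IsSepClosed (ResidueField B') := hB'.isSepClosure.sep_closed
  haveI : Algebra.IsSeparable (ResidueField A) (ResidueField A') := hA'.isSepClosure.separable
  obtain ⟨f₁, hf₁⟩ : ∃ f₁ : A →+* B', f₁ = (algebraMap B B').comp a := ⟨_, rfl⟩
  haveI : IsLocalHom f₁ := by
    rw [hf₁]
    exact RingHom.isLocalHom_comp _ _
  obtain ⟨f₂, hf₂⟩ : ∃ f₂ : A →+* C', f₂ = (algebraMap C C').comp (b.comp a) := ⟨_, rfl⟩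
  haveI : IsLocalHom f₂ := by
    rw [hf₂]
    haveI : IsLocalHom (b.comp a) := RingHom.isLocalHom_comp _ _
    exact RingHom.isLocalHom_comp _ _
  have hφx : ∀ x : A, φ (algebraMap A A' x) = algebraMap C C' (b (a x)) := fun x =>
    DFunLike.congr_fun hφ x
  have hψx : ∀ y : B, ψ (algebraMap B B' y) = algebraMap C C' (b y) := fun y =>
    DFunLike.congr_fun hψ y
  have key : (ResidueField.map ψ).comp (ResidueField.map f₁) =
      (ResidueField.map φ).comp (algebraMap (ResidueField A) (ResidueField A')) := by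
    apply residueMap_ext
    intro x
    rw [RingHom.comp_apply, RingHom.comp_apply, ResidueField.map_residue, ResidueField.map_residue,
      ResidueField.algebraMap_residue, ResidueField.map_residue, hφx, hf₁, RingHom.comp_apply, hψx]
  obtain ⟨τ, hτ1, hτ2⟩ := exists_factor (ResidueField.map f₁) (ResidueField.map ψ)
    (ResidueField.map φ) key
  obtain ⟨χ, ⟨hχ1, hχ2⟩, -⟩ := hA'.universal B' f₁ τ hτ2
  have hχloc : IsLocalHom χ := isLocalHom_of_residue χ τ hχ2
  refine ⟨χ, ψ, hχloc, hψloc, by rw [hχ1, hf₁], hψ, ?_⟩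
  have hτφ : (ResidueField.map φ).comp (ResidueField.map (algebraMap A A')) =
      ResidueField.map f₂ := by
    apply residueMap_ext
    intro x
    rw [RingHom.comp_apply, ResidueField.map_residue, ResidueField.map_residue,
      ResidueField.map_residue, hφx, hf₂]
    rfl
  obtain ⟨g, -, hguniq⟩ := hA'.universal C' f₂ (ResidueField.map φ) hτφ
  have h1 : ψ.comp χ = g := by
    refine hguniq _ ⟨?_, fun x => ?_⟩
    · rw [RingHom.comp_assoc, hχ1, hf₁, ← RingHom.comp_assoc, hψ, hf₂, RingHom.comp_assoc]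
    · rw [RingHom.comp_apply, ← ResidueField.map_residue ψ, hχ2, ← hτ1, RingHom.comp_apply]
  have h2 : φ = g := hguniq _ ⟨by rw [hφ, hf₂], fun x => (ResidueField.map_residue φ x).symm⟩
  rw [h1, h2]

end Factor

section Sch

variable (P : ∀ ⦃X' Y' : Scheme.{u}⦄, (X' ⟶ Y') → Prop)

theorem onStrict_comp_iff
    (hP : ∀ ⦃X' Y' Z' : Scheme.{u}⦄ (a : X' ⟶ Y') (b : Y' ⟶ Z'), P a → (P b ↔ P (a ≫ b)))
    {X Y Z : Scheme.{u}} (g : X ⟶ Y) (h : Y ⟶ Z) (hg : Function.Surjective g.base)
    (hgP : EtAcyc.OnStrictLocalizations g P) :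
    EtAcyc.OnStrictLocalizations h P ↔ EtAcyc.OnStrictLocalizations (g ≫ h) P := by
  constructor
  · intro hh x RZ RX _ _ _ _ iAZ iLZ iSZ iAX iLX iSX iAZX iLZX hcompat
    obtain ⟨RY, _, _, iAY, iLY, iSY⟩ := Groth.Agent.S0537.result (Y.presheaf.stalk (g.base x))
    let a : ↑(Z.presheaf.stalk ((g ≫ h).base x)) →+* ↑(Y.presheaf.stalk (g.base x)) :=
      (h.stalkMap (g.base x)).hom
    let b : ↑(Y.presheaf.stalk (g.base x)) →+* ↑(X.presheaf.stalk x) := (g.stalkMap x).hom
    haveI : IsLocalHom a := inferInstanceAs (IsLocalHom (h.stalkMap (g.base x)).hom)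
    haveI : IsLocalHom b := inferInstanceAs (IsLocalHom (g.stalkMap x).hom)
    have hba : ((g ≫ h).stalkMap x).hom = b.comp a := by
      rw [Scheme.Hom.stalkMap_comp]
      rfl
    obtain ⟨χ, ψ, hχloc, hψloc, hχ, hψ, hψχ⟩ := exists_factorization a b RZ RY RX (algebraMap RZ RX)
      (by rw [hcompat, hba])
    have hPψ : P (Spec.map (CommRingCat.ofHom ψ)) :=
      @hgP x RY RX _ _ _ _ iAY iLY iSY iAX iLX iSX ψ.toAlgebra hψloc hψ
    have hPχ : P (Spec.map (CommRingCat.ofHom χ)) :=
      @hh (g.base x) RZ RY _ _ _ _ iAZ iLZ iSZ iAY iLY iSY χ.toAlgebra hχloc hχ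
    have := (hP _ _ hPψ).mp hPχ
    rw [← Spec.map_comp, ← CommRingCat.ofHom_comp, hψχ] at this
    exact this
  · intro hgh y RZ RY _ _ _ _ iAZ iLZ iSZ iAY iLY iSY iAZY iLZY hcompat
    obtain ⟨x, rfl⟩ := hg y
    obtain ⟨RX, _, _, iAX, iLX, iSX⟩ := Groth.Agent.S0537.result (X.presheaf.stalk x)
    let b : ↑(Y.presheaf.stalk (g.base x)) →+* ↑(X.presheaf.stalk x) := (g.stalkMap x).hom
    haveI : IsLocalHom b := inferInstanceAs (IsLocalHom (g.stalkMap x).hom)
    obtain ⟨ψ, hψ, hψloc⟩ := exists_map b RY RX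
    have hPψ : P (Spec.map (CommRingCat.ofHom ψ)) :=
      @hgP x RY RX _ _ _ _ iAY iLY iSY iAX iLX iSX ψ.toAlgebra hψloc hψ
    haveI : IsLocalHom (ψ.comp (algebraMap RZ RY)) := RingHom.isLocalHom_comp _ _
    have hPφ : P (Spec.map (CommRingCat.ofHom (ψ.comp (algebraMap RZ RY)))) := by
      refine @hgh x RZ RX _ _ _ _ iAZ iLZ iSZ iAX iLX iSX (ψ.comp (algebraMap RZ RY)).toAlgebra
        inferInstance ?_
      have e1 : (ψ.comp (algebraMap RZ RY)).comp
          (algebraMap ↑(Z.presheaf.stalk (h.base (g.base x))) RZ) =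
          (algebraMap _ RX).comp (b.comp (h.stalkMap (g.base x)).hom) := by
        rw [RingHom.comp_assoc, hcompat, ← RingHom.comp_assoc, hψ, RingHom.comp_assoc]
      rw [Scheme.Hom.stalkMap_comp]
      exact e1
    rw [CommRingCat.ofHom_comp, Spec.map_comp] at hPφ
    exact (hP _ _ hPψ).mpr hPφ

end Sch

end Groth.Agent.S3514

namespace Groth.Agent.S3514

/-- Let g : X → Y and h : Y → Z be morphisms of schemes with g surjective, L a set of primes and n a
natural number. If g is locally n-acyclic for L, then h is locally n-acyclic for L if and only if g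
≫ h is; if g is locally 0-acyclic, then h is locally 0-acyclic if and only if g ≫ h is. -/
theorem result {X Y Z : Scheme.{u}} (g : X ⟶ Y) (h : Y ⟶ Z)
    (hg : Function.Surjective g.base) (L : Set ℕ) (n : ℕ) :
    (EtAcyc.IsLocAcyclicN g L n → (EtAcyc.IsLocAcyclicN h L n ↔ EtAcyc.IsLocAcyclicN (g ≫ h) L n)) ∧
      (EtAcyc.IsLocZeroAcyclic g → (EtAcyc.IsLocZeroAcyclic h ↔ EtAcyc.IsLocZeroAcyclic (g ≫ h))) := by
  refine ⟨fun hgL => ?_, fun hg0 => ?_⟩
  · exact onStrict_comp_iff (fun _ _ k => EtAcyc.IsAcyclicN k L n)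
      (fun _ _ _ a b ha => (Groth.Agent.S3513.result a b L n).1 ha) g h hg hgL
  · exact onStrict_comp_iff (fun _ _ k => EtAcyc.IsZeroAcyclic k)
      (fun _ _ _ a b ha => (Groth.Agent.S3513.result a b L n).2 ha) g h hg hg0

end Groth.Agent.S3514
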