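import Groth.Statements.S3517
-- import your own Groth.Agent.* helpers here
import Groth.Agent.Lib.Helper55.SecPullBC
import Groth.Agent.S3047

set_option autoImplicit false
universe u
open CategoryTheory CategoryTheory.Limits AlgebraicGeometry Opposite
open EtBC

namespace Groth.Agent.S3517

open CategoryTheory CategoryTheory.Limits AlgebraicGeometry Opposite
open Groth.Agent.S8542 Groth.Agent.Lib.Helper55.SecPullBC

theorem map_bijective_of_iso {A : Scheme.{u}} (H : EtDesc.Sh A) {U V : A.Etale} (e : U ≅ V) :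
    Function.Bijective (H.obj.map e.inv.op) := by
  refine ⟨fun x y hxy => ?_, fun y => ⟨H.obj.map e.hom.op y, ?_⟩⟩
  · have := congrArg (H.obj.map e.hom.op) hxy
    rw [map_map_apply, map_map_apply, Iso.hom_inv_id] at this
    simpa using this
  · rw [map_map_apply, Iso.inv_hom_id]
    simp

theorem app_injective_of_isIso {A : Scheme.{u}} {F G : EtDesc.Sh A} (φ : F ⟶ G) [IsIso φ]
    (U : A.Etaleᵒᵖ) : Function.Injective (φ.hom.app U) := by
  intro x y hxy
  have hx := congrArg (fun ψ : F ⟶ F => ψ.hom.app U x) (IsIso.hom_inv_id φ)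
  have hy := congrArg (fun ψ : F ⟶ F => ψ.hom.app U y) (IsIso.hom_inv_id φ)
  have := congrArg ((inv φ).hom.app U) hxy
  exact hx.symm.trans (this.trans hy)

/-- a surjective morphism induces an injection on global sections -/
theorem secPull_injective_of_surjective {A B : Scheme.{u}} (p : A ⟶ B) [Surjective p]
    (F : EtDesc.Sh B) : Function.Injective (EtDesc.secPull p F) := by
  have hm := Groth.Agent.S3047.mono_unit p F
  intro s t hst
  unfold EtDesc.secPull at hst
  exact injective_of_mono ((EtDesc.adjSh p).unit.app F) _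
    ((map_bijective_of_iso ((EtDesc.pullSh p).obj F) (EtCore.bcTopIso p)).1 hst)

theorem secPull_congr {A B : Scheme.{u}} {k k' : A ⟶ B} (hk : k = k') (F : EtDesc.Sh B)
    (s t : EtDesc.sect F (EtCoh.top B)) :
    EtDesc.secPull k F s = EtDesc.secPull k F t ↔ EtDesc.secPull k' F s = EtDesc.secPull k' F t := by
  subst hk; rfl

/-- `S8542` without quasi-compactness hypotheses (same proof) -/
theorem mem_range_of_mono {X Y : Scheme.{u}} (h : Y ⟶ X)
    (hinj : ∀ F : EtDesc.Sh X, Function.Injective (EtDesc.secPull h F))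
    {F G : EtDesc.Sh X} (u : F ⟶ G) [Mono u] (ξ : EtDesc.sect ((EtDesc.pullSh h).obj F) (EtCoh.top Y))
    (hξ : ((EtDesc.pullSh h).map u).hom.app (op (EtCoh.top Y)) ξ ∈ Set.range (EtDesc.secPull h G)) :
    ξ ∈ Set.range (EtDesc.secPull h F) := by
  obtain ⟨η₀, hη₀⟩ := hξ
  let Ω : EtDesc.Sh X := Sheaf.Ω X.smallEtaleTopology
  let a : G ⟶ Ω := Sheaf.χ u
  let b : G ⟶ Ω := (Sheaf.isTerminalTerminal _ _).from G ≫ Sheaf.truth _
  have hab : u ≫ a = u ≫ b := by
    have h1 := (Sheaf.isPullback_χ_truth u).w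
    rw [← Category.assoc]
    refine h1.trans ?_
    congr 1
  have e1 : EtDesc.secPull h Ω (a.hom.app _ η₀) = EtDesc.secPull h Ω (b.hom.app _ η₀) := by
    rw [secPull_nat, secPull_nat, hη₀]
    have := congrArg (fun ψ => ((EtDesc.pullSh h).map ψ).hom.app (op (EtCoh.top Y)) ξ) hab
    simp only [Functor.map_comp] at this
    exact this
  have e2 : a.hom.app _ η₀ = b.hom.app _ η₀ := hinj Ω e1
  have e3 : ∃ ξ₀, u.hom.app (op (EtCoh.top X)) ξ₀ = η₀ := by
    have h1 := congrArg (fun S : Ω.obj.obj (op (EtCoh.top X)) => S.1.arrows (𝟙 (EtCoh.top X))) e2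
    have h2 : (b.hom.app (op (EtCoh.top X)) η₀).1.arrows (𝟙 (EtCoh.top X)) := trivial
    have h3 : (a.hom.app (op (EtCoh.top X)) η₀).1.arrows (𝟙 (EtCoh.top X)) := by
      have : (a.hom.app (op (EtCoh.top X)) η₀).1.arrows (𝟙 (EtCoh.top X)) =
        (b.hom.app (op (EtCoh.top X)) η₀).1.arrows (𝟙 (EtCoh.top X)) := h1
      rw [this]
      exact h2
    obtain ⟨ξ₀, hξ₀⟩ := h3
    refine ⟨ξ₀, ?_⟩
    rw [← hξ₀]
    simp
  obtain ⟨ξ₀, hξ₀⟩ := e3
  refine ⟨ξ₀, ?_⟩
  have := preservesFiniteLimits_pullSh h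
  have : Mono ((EtDesc.pullSh h).map u) := inferInstance
  apply injective_of_mono ((EtDesc.pullSh h).map u)
  rw [← secPull_nat, hξ₀, hη₀]

section

variable {X Y Xb Yb : Scheme.{u}} (h : Y ⟶ X) (p : Xb ⟶ X) (hb : Yb ⟶ Xb) (pY : Yb ⟶ Y)
  (w : hb ≫ p = pY ≫ h) [Surjective p]

include w in
theorem inj_part (hinj : ∀ Fb : EtDesc.Sh Xb, Function.Injective (EtDesc.secPull hb Fb))
    (F : EtDesc.Sh X) : Function.Injective (EtDesc.secPull h F) := by
  intro s t hst
  -- pull back further to `Yb`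
  have h1 : EtDesc.secPull (pY ≫ h) F s = EtDesc.secPull (pY ≫ h) F t := by
    apply app_injective_of_isIso ((EtDesc.pullCompSh pY h).hom.app F) (op (EtCoh.top Yb))
    rw [secPull_comp, secPull_comp, hst]
  have h2 : EtDesc.secPull (hb ≫ p) F s = EtDesc.secPull (hb ≫ p) F t :=
    (secPull_congr w F s t).2 h1
  have h3 := congrArg (((EtDesc.pullCompSh hb p).hom.app F).hom.app (op (EtCoh.top Yb))) h2
  rw [secPull_comp, secPull_comp] at h3
  exact secPull_injective_of_surjective p F (hinj _ h3)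

theorem surj_part (hbij : ∀ Fb : EtDesc.Sh Xb, Function.Bijective (EtDesc.secPull hb Fb))
    (hmono : ∀ Fb : EtDesc.Sh Xb, Mono (EtBC.baseChange0Sh p h pY hb w Fb))
    (F : EtDesc.Sh X) : Function.Surjective (EtDesc.secPull h F) := by
  intro ξ
  have hu : Mono ((EtDesc.adjSh p).unit.app F) := Groth.Agent.S3047.mono_unit p F
  have hm := hmono ((EtDesc.pullSh p).obj F)
  refine mem_range_of_mono h (inj_part h p hb pY w (fun Fb => (hbij Fb).1))
    ((EtDesc.adjSh p).unit.app F) ξ ?_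
  -- the element to be lifted
  set z := ((EtDesc.pullSh h).map ((EtDesc.adjSh p).unit.app F)).hom.app (op (EtCoh.top Y)) ξ
    with hz
  set x := (EtBC.baseChange0Sh p h pY hb w ((EtDesc.pullSh p).obj F)).hom.app
    (op (EtCoh.top Y)) z with hx
  obtain ⟨σ, hσ⟩ := (hbij ((EtDesc.pullSh p).obj F)).2
    (((EtDesc.pullSh hb).obj ((EtDesc.pullSh p).obj F)).obj.map
      ((EtCore.bcTopIsTerminal pY).from (EtCoh.top Yb)).op x)
  obtain ⟨η, rfl⟩ := (map_bijective_of_iso ((EtDesc.pullSh p).obj F) (EtCore.bcTopIso p)).2 σ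
  refine ⟨η, ?_⟩
  apply injective_of_mono (EtBC.baseChange0Sh p h pY hb w ((EtDesc.pullSh p).obj F))
    (op (EtCoh.top Y))
  refine (bc0_secPull h p hb pY w ((EtDesc.pullSh p).obj F) η).trans ?_
  rw [hσ, map_map_apply,
    (EtCore.bcTopIsTerminal pY).hom_ext ((EtCore.topIsTerminal Yb).from _ ≫
      (EtCore.bcTopIsTerminal pY).from (EtCoh.top Yb)) (𝟙 _)]
  simp [hx]

end

end Groth.Agent.S3517

namespace Groth.Agent.S3517

/-- Let h : Y → X and p : X̄ → X be morphisms of schemes with p surjective, Ȳ = Y ×_X X̄ with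
projections h̄ : Ȳ → X̄ and p_Y : Ȳ → Y. If for every sheaf of sets F̄ on X̄ the pullback map on
global sections Γ(X̄, F̄) → Γ(Ȳ, h̄^* F̄) is injective, then for every sheaf of sets F on X the map
Γ(X, F) → Γ(Y, h^* F) is injective. If those maps for h̄ are bijective and moreover the base change
morphism h^* p_* F̄ → p_{Y*} h̄^* F̄ is a monomorphism for every sheaf of sets F̄ on X̄, then the
maps Γ(X, F) → Γ(Y, h^* F) are bijective. -/
theorem result {X Y Xb Yb : Scheme.{u}} (h : Y ⟶ X) (p : Xb ⟶ X)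
    (hb : Yb ⟶ Xb) (pY : Yb ⟶ Y) (sq : IsPullback hb pY p h) (hp : Function.Surjective p.base) :
    ((∀ Fb : EtDesc.Sh Xb, Function.Injective (EtDesc.secPull hb Fb)) →
      ∀ F : EtDesc.Sh X, Function.Injective (EtDesc.secPull h F)) ∧
    ((∀ Fb : EtDesc.Sh Xb, Function.Bijective (EtDesc.secPull hb Fb)) →
      (∀ Fb : EtDesc.Sh Xb, Mono (EtBC.baseChange0Sh p h pY hb sq.w Fb)) →
      ∀ F : EtDesc.Sh X, Function.Bijective (EtDesc.secPull h F)) := by
  haveI : Surjective p := ⟨hp⟩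
  refine ⟨fun hinj F => inj_part h p hb pY sq.w hinj F, fun hbij hmono F => ⟨?_, ?_⟩⟩
  · exact inj_part h p hb pY sq.w (fun Fb => (hbij Fb).1) F
  · exact surj_part h p hb pY sq.w hbij hmono F

end Groth.Agent.S3517
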