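import Groth.Statements.S3524
import Mathlib
import Groth.Agent.Lib.Helper79.KunStep
-- import your own Groth.Agent.* helpers here

set_option autoImplicit false
universe u
attribute [local instance] HasDerivedCategory.standard
open HTor

namespace Groth.Agent.S3524

open CategoryTheory CategoryTheory.Limits in
/-- Consequence of the biregular Künneth/hypertor spectral sequence; cochain indexing. Let L and M be
complexes of A-modules vanishing in large degrees, every term of L flat (so that L ⊗ M computes the
hypertor of L and M). If Tor_p^A(H^i(L), H^j(M)) = 0 for all p ≥ 0 and all i, j with i + j - p = n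
(vanishing stated as Subsingleton), then H^n(L ⊗ M) = 0. (Tor is Mathlib's, left derived in the
second variable.) -/
theorem result (A : Type u) [CommRing A] (L M : DRing.Cx A)
    (hL : DRing.TermwiseFlat L) (bL : ∃ b : ℤ, DRing.VanishesAbove L b)
    (bM : ∃ b : ℤ, DRing.VanishesAbove M b) (n : ℤ)
    (h : ∀ (p : ℕ) (i j : ℤ), i + j - p = n → Subsingleton (DRing.Tor A p (L.homology i) (M.homology j))) :
    IsZero ((HTor.tensorCx L M).homology n) := by
  obtain ⟨bl, hbl⟩ := bL
  obtain ⟨bm, hbm⟩ := bM
  obtain ⟨N, F, h0, hmono, htop, hgr⟩ :=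
    Groth.Agent.Lib.Helper79.Kun.claim L hL bl hbl M bm hbm n
  rw [ModuleCat.isZero_iff_subsingleton]
  -- all Tor sums vanish
  have hT : ∀ p : ℕ, Subsingleton (HTor.TorSum L M n p) := by
    intro p
    refine ⟨fun x y => ?_⟩
    apply DFinsupp.ext
    intro ij
    have := h p ij.1.1 ij.1.2 ij.2
    exact Subsingleton.elim _ _
  -- the Künneth sum vanishes
  have hK : Subsingleton (HTor.KunnethSum L M n) := by
    refine ⟨fun x y => ?_⟩
    apply DFinsupp.ext
    intro ij
    have h0' : Subsingleton (DRing.Tor A 0 (L.homology ij.1.1) (M.homology ij.1.2)) :=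
      h 0 ij.1.1 ij.1.2 (by have := ij.2; push_cast; omega)
    have : Subsingleton (TensorProduct A (L.homology ij.1.1) (M.homology ij.1.2)) := by
      have e := ((CategoryTheory.MonoidalCategory.tensoringLeft (ModuleCat.{u} A)).obj
        (L.homology ij.1.1)).leftDerivedZeroIsoSelf.app (M.homology ij.1.2)
      have hb : Function.Bijective e.hom.hom := ConcreteCategory.bijective_of_isIso e.hom
      have h0'' : Subsingleton ↑((((CategoryTheory.MonoidalCategory.tensoringLeft
          (ModuleCat.{u} A)).obj (L.homology ij.1.1)).leftDerived 0).obj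
            (M.homology ij.1.2)) := h0'
      exact hb.2.subsingleton
    exact Subsingleton.elim _ _
  have hF0 : F 0 = ⊥ := by
    rw [h0, LinearMap.range_eq_bot]
    exact Subsingleton.elim _ _
  have hFp : ∀ p, F p = ⊥ := by
    intro p
    induction p with
    | zero => exact hF0
    | succ p ih =>
      obtain ⟨Y, _, _, i, g, hi, hg⟩ := hgr p
      have hY : Subsingleton Y := hi.subsingleton
      have hgrs : Subsingleton (HTor.grSucc F p) := hg.subsingleton
      rw [eq_bot_iff]
      intro x hx
      have : (Submodule.Quotient.mk (⟨x, hx⟩ : F (p + 1)) : HTor.grSucc F p) = 0 :=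
        Subsingleton.elim _ _
      rw [Submodule.Quotient.mk_eq_zero, Submodule.mem_comap, ih] at this
      exact this
  have htop' : (⊤ : Submodule A ((HTor.tensorCx L M).homology n : ModuleCat.{u} A)) = ⊥ := by
    rw [← htop, hFp]
  exact subsingleton_of_forall_eq 0 (fun x => by
    have : x ∈ (⊤ : Submodule A ((HTor.tensorCx L M).homology n : ModuleCat.{u} A)) := trivial
    rw [htop'] at this
    exact this)

end Groth.Agent.S3524
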