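import Groth.Statements.S3532
-- import your own Groth.Agent.* helpers here

set_option autoImplicit false
universe u
open HomAlg3

namespace Groth.Agent.S3532

section aux
open CategoryTheory Opposite

variable (F : ℕᵒᵖ ⥤ AddCommGrpCat.{u})

/-- The transition map `A_k → A_p`. -/
abbrev tr {p k : ℕ} (h : p ≤ k) : F.obj (op k) →+ F.obj (op p) := (F.map (homOfLE h).op).hom

theorem tr_tr {p q k : ℕ} (h₁ : p ≤ q) (h₂ : q ≤ k) (x : F.obj (op k)) :
    tr F h₁ (tr F h₂ x) = tr F (h₁.trans h₂) x := by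
  have : (homOfLE (h₁.trans h₂)).op = (homOfLE h₂).op ≫ (homOfLE h₁).op := rfl
  simp only [tr]
  rw [this, CategoryTheory.Functor.map_comp]
  rfl

theorem range_tr_le {p k k' : ℕ} (h : p ≤ k) (h' : k ≤ k') :
    (tr F (h.trans h')).range ≤ (tr F h).range := by
  rintro _ ⟨x, rfl⟩
  exact ⟨tr F h' x, tr_tr F h h' x⟩

/-- A stabilization statement can be moved to any later index. -/
theorem stab_mono {p k₀ : ℕ} (h₀ : p ≤ k₀)
    (hs : ∀ k (hk : k₀ ≤ k), (tr F (h₀.trans hk)).range = (tr F h₀).range)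
    {m k : ℕ} (hm : k₀ ≤ m) (hk : m ≤ k) :
    (tr F ((h₀.trans hm).trans hk)).range = (tr F (h₀.trans hm)).range := by
  rw [hs m hm]
  exact hs k (hm.trans hk)

theorem stab (h0 : ∃ k₀ : ℕ, ∀ (k : ℕ) (_ : k₀ ≤ k),
      (tr F (Nat.zero_le k)).range = (tr F (Nat.zero_le k₀)).range)
    (hK : ∀ p : ℕ, ∃ k₀ : ℕ, ∃ h₀ : p + 1 ≤ k₀, ∀ (k : ℕ) (hk : k₀ ≤ k),
      (tr F (h₀.trans hk)).range ⊓ (tr F (Nat.le_succ p)).ker =
        (tr F h₀).range ⊓ (tr F (Nat.le_succ p)).ker) :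
    ∀ p : ℕ, ∃ k₀ : ℕ, ∃ h₀ : p ≤ k₀, ∀ (k : ℕ) (hk : k₀ ≤ k),
      (tr F (h₀.trans hk)).range = (tr F h₀).range := by
  intro p
  induction p with
  | zero =>
    obtain ⟨k₀, hk₀⟩ := h0
    exact ⟨k₀, Nat.zero_le k₀, fun k hk => hk₀ k hk⟩
  | succ p ih =>
    obtain ⟨k₁, h₁, hs₁⟩ := ih
    obtain ⟨k₂, h₂, hs₂⟩ := hK p
    have hm₁ : k₁ ≤ max k₁ k₂ := le_max_left _ _
    have hm₂ : k₂ ≤ max k₁ k₂ := le_max_right _ _
    refine ⟨max k₁ k₂, h₂.trans hm₂, fun k hk => ?_⟩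
    apply le_antisymm (range_tr_le F _ hk)
    rintro _ ⟨a, rfl⟩
    set x := tr F (h₂.trans hm₂) a with hx
    -- the image of `x` in `A_p` lies in the stable range
    have hxbar : tr F (Nat.le_succ p) x ∈ (tr F ((h₁.trans hm₁).trans hk)).range := by
      rw [stab_mono F h₁ hs₁ hm₁ hk]
      exact ⟨a, (tr_tr F (Nat.le_succ p) (h₂.trans hm₂) a).symm⟩
    obtain ⟨b, hb⟩ := hxbar
    set y := tr F ((h₂.trans hm₂).trans hk) b with hy
    have hyk : y ∈ (tr F ((h₂.trans hm₂).trans hk)).range := ⟨b, rfl⟩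
    have hym : y ∈ (tr F (h₂.trans hm₂)).range := range_tr_le F _ hk hyk
    have hker : x - y ∈ (tr F (Nat.le_succ p)).ker := by
      rw [AddMonoidHom.mem_ker, map_sub, hy, tr_tr F (Nat.le_succ p) _ b, hb, sub_self]
    have hxa : x ∈ (tr F (h₂.trans hm₂)).range := ⟨a, rfl⟩
    have hxm : x - y ∈ (tr F (h₂.trans hm₂)).range ⊓ (tr F (Nat.le_succ p)).ker :=
      AddSubgroup.mem_inf.mpr ⟨sub_mem hxa hym, hker⟩
    rw [hs₂ _ hm₂, ← hs₂ _ (hm₂.trans hk)] at hxm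
    have := add_mem (AddSubgroup.mem_inf.mp hxm).1 hyk
    rwa [sub_add_cancel] at this

end aux

open CategoryTheory in
/-- Category of abelian groups, system indexed by the natural numbers: Let (A_k)_{k ≥ 0} be an inverse
system of abelian groups. For p ≤ k write Im_k(A_p) for the image of A_k → A_p, and K_p for the
kernel of A_p → A_{p-1} (K_0 = A_0). Then (A_k) satisfies the Mittag-Leffler condition (for each p
the subgroups Im_k(A_p) are eventually constant in k) if and only if for each p the subgroups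
Im_k(A_p) ∩ K_p are eventually constant in k. -/
theorem result (F : ℕᵒᵖ ⥤ AddCommGrpCat.{u}) :
    (F ⋙ forget AddCommGrpCat).IsMittagLeffler ↔
      ((∃ k₀ : ℕ, ∀ (k : ℕ) (hk : k₀ ≤ k),
          (F.map (homOfLE (Nat.zero_le k)).op).hom.range = (F.map (homOfLE (Nat.zero_le k₀)).op).hom.range) ∧
        ∀ p : ℕ, ∃ k₀ : ℕ, ∃ h₀ : p + 1 ≤ k₀, ∀ (k : ℕ) (hk : k₀ ≤ k),
          (F.map (homOfLE (h₀.trans hk)).op).hom.range ⊓ (F.map (homOfLE (Nat.le_succ p)).op).hom.ker =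
            (F.map (homOfLE h₀).op).hom.range ⊓ (F.map (homOfLE (Nat.le_succ p)).op).hom.ker) := by
  have hFmap : ∀ {i j : ℕ} (hij : i ≤ j) (x : F.obj (Opposite.op j)),
      (F ⋙ forget AddCommGrpCat).map (homOfLE hij).op x = tr F hij x := fun _ _ => rfl
  constructor
  · intro h
    -- stabilization of ranges from Mittag-Leffler
    have hst : ∀ p : ℕ, ∃ k₀ : ℕ, ∃ h₀ : p ≤ k₀, ∀ (k : ℕ) (hk : k₀ ≤ k),
        (tr F (h₀.trans hk)).range = (tr F h₀).range := by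
      intro p
      obtain ⟨i, f, hf⟩ := h (Opposite.op p)
      have h₀ : p ≤ i.unop := leOfHom f.unop
      have hfe : f = (homOfLE h₀).op := Subsingleton.elim _ _
      refine ⟨i.unop, h₀, fun k hk => le_antisymm (range_tr_le F h₀ hk) ?_⟩
      rintro _ ⟨a, rfl⟩
      have hmem : (F ⋙ forget AddCommGrpCat).map f a ∈
          Set.range ((F ⋙ forget AddCommGrpCat).map (homOfLE (h₀.trans hk)).op) :=
        hf _ ⟨a, rfl⟩
      obtain ⟨b, hb⟩ := hmem
      refine ⟨b, ?_⟩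
      rw [hfe] at hb
      exact hb
    refine ⟨?_, ?_⟩
    · obtain ⟨k₀, h₀, hs⟩ := hst 0
      exact ⟨k₀, fun k hk => hs k hk⟩
    · intro p
      obtain ⟨k₀, h₀, hs⟩ := hst (p + 1)
      exact ⟨k₀, h₀, fun k hk => by rw [hs k hk]⟩
  · rintro ⟨h0, hK⟩
    have hst := stab F h0 hK
    intro j
    obtain ⟨k₀, h₀, hs⟩ := hst j.unop
    refine ⟨Opposite.op k₀, (homOfLE h₀).op, fun k g => ?_⟩
    have hg : j.unop ≤ k.unop := leOfHom g.unop
    have hge : g = (homOfLE hg).op := Subsingleton.elim _ _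
    rw [hge]
    rintro _ ⟨a, rfl⟩
    -- compare with a common later index
    have hm₁ : k₀ ≤ max k₀ k.unop := le_max_left _ _
    have hm₂ : k.unop ≤ max k₀ k.unop := le_max_right _ _
    have ha : tr F h₀ a ∈ (tr F (h₀.trans hm₁)).range := by
      rw [hs _ hm₁]; exact ⟨a, rfl⟩
    obtain ⟨b, hb⟩ := ha
    refine ⟨tr F hm₂ b, ?_⟩
    change tr F hg (tr F hm₂ b) = tr F h₀ a
    rw [tr_tr, ← hb]

end Groth.Agent.S3532
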