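import Groth.Statements.S3540
import Groth.Agent.Lib.Helper15.CechZig
import Groth.Agent.Lib.Helper32.RightRes
import Groth.Agent.Lib.Helper79.KunSum

set_option autoImplicit false
universe u
open CechTot

namespace Groth.Agent.S3540

/-- packaging: a step of a filtration given as the range of `z`, whose classes are detected by a map
`hmap` to `T` up to the next step, has graded piece a subquotient of `T` -/
lemma isSubquotient_of {H T Y : Type u} [AddCommGroup H] [AddCommGroup T] [AddCommGroup Y]
    (Gp Gp1 : AddSubgroup H) (z : Y →+ H) (hz : z.range = Gp) (hmap : Y →+ T)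
    (hk : ∀ y, hmap y = 0 → z y ∈ Gp1) :
    HTor.IsSubquotient ℤ
      (↥(AddSubgroup.toIntSubmodule Gp) ⧸
        Submodule.comap (AddSubgroup.toIntSubmodule Gp).subtype (AddSubgroup.toIntSubmodule Gp1)) T := by
  let N := (↥(AddSubgroup.toIntSubmodule Gp) ⧸
        Submodule.comap (AddSubgroup.toIntSubmodule Gp).subtype (AddSubgroup.toIntSubmodule Gp1))
  let z' : Y →+ ↥(AddSubgroup.toIntSubmodule Gp) :=
    { toFun := fun y => ⟨z y, by rw [← hz]; exact ⟨y, rfl⟩⟩
      map_zero' := Subtype.ext z.map_zero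
      map_add' := fun y y' => Subtype.ext (z.map_add y y') }
  let g : Y →ₗ[ℤ] N := ((Submodule.mkQ _).toAddMonoidHom.comp z').toIntLinearMap
  have hg : Function.Surjective g := by
    intro x
    obtain ⟨⟨x, hx⟩, rfl⟩ := Submodule.Quotient.mk_surjective _ x
    have hx' : x ∈ z.range := by rw [hz]; exact hx
    obtain ⟨y, rfl⟩ := hx'
    exact ⟨y, rfl⟩
  let hL : Y →ₗ[ℤ] T := hmap.toIntLinearMap
  have hkg : LinearMap.ker hL ≤ LinearMap.ker g := by
    intro y hy
    rw [LinearMap.mem_ker] at hy ⊢
    change Submodule.Quotient.mk (z' y) = 0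
    rw [Submodule.Quotient.mk_eq_zero, Submodule.mem_comap]
    exact hk y hy
  let S' : Submodule ℤ T := LinearMap.range hL
  let S : Submodule ℤ T := (LinearMap.ker g).map hL
  have hSS' : S ≤ S' := by
    rintro _ ⟨y, _, rfl⟩
    exact ⟨y, rfl⟩
  refine ⟨S, S', hSS', ⟨?_⟩⟩
  let θ : Y →ₗ[ℤ] (↥S' ⧸ Submodule.comap S'.subtype S) :=
    (Submodule.mkQ _).comp hL.rangeRestrict
  have hθ : Function.Surjective θ := by
    intro x
    obtain ⟨⟨_, y, rfl⟩, rfl⟩ := Submodule.Quotient.mk_surjective _ x
    exact ⟨y, rfl⟩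
  have hker : LinearMap.ker θ = LinearMap.ker g := by
    ext y
    rw [LinearMap.mem_ker, LinearMap.mem_ker]
    change Submodule.Quotient.mk (hL.rangeRestrict y) = 0 ↔ _
    rw [Submodule.Quotient.mk_eq_zero, Submodule.mem_comap]
    constructor
    · rintro ⟨y', hy', hyy'⟩
      have h1 : y - y' ∈ LinearMap.ker hL := by
        rw [LinearMap.mem_ker, map_sub, sub_eq_zero]
        exact hyy'.symm
      have h2 := hkg h1
      rw [LinearMap.mem_ker, map_sub, sub_eq_zero] at h2
      rw [h2]
      exact hy'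
    · intro hy
      exact ⟨y, hy, rfl⟩
  exact (g.quotKerEquivOfSurjective hg).symm.trans
    ((Submodule.quotEquivOfEq _ _ hker.symm).trans (θ.quotKerEquivOfSurjective hθ))

open Groth.Agent.Lib.Helper15.CechZig Groth.Agent.Lib.Helper15.HDUcl ZeroObject in

open CategoryTheory CategoryTheory.Limits TopologicalSpace in
/-- For abelian sheaves and a complex bounded below (the biregular case), stated through the finite
filtration the spectral sequence induces on its abutment and its edge (the source's graded pieces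
are the E∞ terms, which is stronger). Let U = (U_i) be an open cover of X and K a complex of abelian
sheaves with K^i = 0 for i < a. For q ∈ ℤ let h^q(K) be the presheaf V ↦ H^q(V, K) of
hypercohomology groups and Ȟ^p(U, h^q(K)) its Čech cohomology for the cover. Then for every n the
group H^n(X, K) carries a decreasing sequence of subgroups G_0 ≥ G_1 ≥ … with G_0 everything, G_1
the kernel of the restriction map H^n(X, K) → ∏_i H^n(U_i, K), and G_N = 0 for some N, such that
every quotient G_p/G_{p+1} is isomorphic to a subquotient of Ȟ^p(U, h^{n-p}(K)). -/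
theorem result {X : TopCat.{u}}
    [HasDerivedCategory.{u} (CohTop.Ab X)] {ι : Type u} (U : ι → Opens X) (hcov : iSup U = ⊤)
    (K : CochainComplex (CohTop.Ab X) ℤ) (a : ℤ) (ha : ∀ i : ℤ, i < a → IsZero (K.X i)) (n : ℤ) :
    ∃ (N : ℕ) (G : ℕ → Submodule ℤ (CohCx.HDU (DerivedCategory.Q.obj K) n (⊤ : Opens X))),
      Antitone G ∧ G 0 = ⊤ ∧ G N = ⊥ ∧
      G 1 = ⨅ i, AddSubgroup.toIntSubmodule
        (CohCx.HDUres (DerivedCategory.Q.obj K) n (homOfLE le_top : U i ⟶ (⊤ : Opens X))).ker ∧
      ∀ p : ℕ, HTor.IsSubquotient ℤ (HTor.grDesc G p)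
        (CohB1.cechHTop U (CohCx.HDUPresheaf (DerivedCategory.Q.obj K) (n - p)) p) := by
  classical
  haveI : K.IsStrictlyGE a := (K.isStrictlyGE_iff a).2 (fun i hi => ha i hi)
  obtain ⟨L, α, hL, hI, -, hq⟩ := Groth.Agent.Lib.Helper32.RightRes.exists_of_isStrictlyGE
    (I := fun X : CohTop.Ab X => Injective X)
    (fun X => ⟨Injective.under X, Injective.ι X, inferInstance, inferInstance⟩)
    ⟨(0 : CohTop.Ab X), isZero_zero _, inferInstance⟩ K a
  haveI := hL
  haveI : ∀ n, Injective (L.X n) := hI
  haveI := hq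
  haveI : L.IsKInjective := CochainComplex.isKInjective_of_injective L a
  let M : ℕ := (n - a).toNat
  have hz : IsZero (L.X (q n M)) := by
    have h1 : n - a ≤ ((n - a).toNat : ℤ) := Int.self_le_toNat _
    have h2 : q n M < a := by
      simp only [q, M]
      omega
    exact L.isZero_of_isStrictlyGE a (q n M) h2
  refine ⟨M + 1, fun p => AddSubgroup.toIntSubmodule (Gs U α n p), ?_, ?_, ?_, ?_, ?_⟩
  · intro p p' h
    exact (AddSubgroup.toIntSubmodule.monotone (Gs_antitone U α n h))
  · change AddSubgroup.toIntSubmodule (Gs U α n 0) = ⊤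
    rw [Gs_zero]
    exact map_top _
  · change AddSubgroup.toIntSubmodule (Gs U α n (M + 1)) = ⊥
    rw [Gs_eq_bot U α hcov hI n M hz]
    exact map_bot _
  · change AddSubgroup.toIntSubmodule (Gs U α n 1) = _
    ext x
    rw [Submodule.mem_iInf]
    exact mem_Gs_one_iff U α n x
  · intro p
    change HTor.IsSubquotient ℤ
      (↥(AddSubgroup.toIntSubmodule (Gs U α n p)) ⧸
        Submodule.comap (AddSubgroup.toIntSubmodule (Gs U α n p)).subtype
          (AddSubgroup.toIntSubmodule (Gs U α n (p + 1)))) _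
    cases p with
    | zero =>
      have e : n - ((0 : ℕ) : ℤ) = n := by simp
      rw [e]
      exact isSubquotient_of (Gs U α n 0) (Gs U α n (0 + 1)) (zcl U α n 0) rfl
        ((clClass U α n 0).comp (φ₀ U L n)) (fun y hy => gr_zero U α n y hy)
    | succ k =>
      have e : n - ((k + 1 : ℕ) : ℤ) = q n k := by
        simp only [q, Nat.cast_add, Nat.cast_one]
        ring
      rw [e]
      exact isSubquotient_of (Gs U α n (k + 1)) (Gs U α n (k + 1 + 1)) (zcl U α n (k + 1)) rfl
        ((clClass U α (q n k) (k + 1)).comp (φs U L n k)) (fun y hy => gr_succ U α n k y hy)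

end Groth.Agent.S3540
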