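import Groth.Statements.S3544
import Mathlib.Algebra.Homology.ShortComplex.ModuleCat

set_option autoImplicit false
universe u
open HomAlg3

namespace Groth.Agent.S3544

section Helpers

open CategoryTheory CategoryTheory.Limits

/-- four-term exact sequence of modules: additivity of length. -/
lemma length_four {A : Type u} [Ring A] {Z₁ X Z₂ H : Type u}
    [AddCommGroup Z₁] [Module A Z₁] [AddCommGroup X] [Module A X]
    [AddCommGroup Z₂] [Module A Z₂] [AddCommGroup H] [Module A H]
    (i : Z₁ →ₗ[A] X) (f : X →ₗ[A] Z₂) (p : Z₂ →ₗ[A] H)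
    (hi : Function.Injective i) (hp : Function.Surjective p)
    (h₁ : Function.Exact i f) (h₂ : Function.Exact f p) :
    Module.length A X + Module.length A H = Module.length A Z₁ + Module.length A Z₂ := by
  have e₁ : Module.length A X = Module.length A Z₁ + Module.length A (LinearMap.range f) := by
    refine Module.length_eq_add_of_exact i f.rangeRestrict hi f.surjective_rangeRestrict ?_
    intro x
    rw [← h₁ x]
    constructor
    · intro h
      have := congrArg Subtype.val h
      simpa using this
    · intro h
      apply Subtype.ext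
      simpa using h
  have e₂ : Module.length A Z₂ = Module.length A (LinearMap.range f) + Module.length A H := by
    refine Module.length_eq_add_of_exact (LinearMap.range f).subtype p
      (Submodule.subtype_injective _) hp ?_
    intro y
    rw [h₂ y]
    constructor
    · rintro ⟨x, rfl⟩
      exact ⟨⟨f x, x, rfl⟩, rfl⟩
    · rintro ⟨⟨y', x, rfl⟩, rfl⟩
      exact ⟨x, rfl⟩
  rw [e₁, e₂]
  abel

variable {A : Type u} [Ring A]

lemma length_complex {a : ℤ × ℤ}
    (K : HomologicalComplex (ModuleCat.{u} A) (ComplexShape.up' a)) (i j : ℤ × ℤ) (hij : i + a = j) :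
    Module.length A (K.X i) + Module.length A (K.homology j) =
      Module.length A (K.cycles i) + Module.length A (K.cycles j) := by
  have hrel : (ComplexShape.up' a).Rel i j := hij
  have hnext : (ComplexShape.up' a).next i = j := (ComplexShape.up' a).next_eq' hrel
  have hprev : (ComplexShape.up' a).prev j = i := (ComplexShape.up' a).prev_eq' hrel
  have hinj : Function.Injective (K.iCycles i).hom :=
    (ModuleCat.mono_iff_injective _).1 inferInstance
  have hinj' : Function.Injective (K.iCycles j).hom :=
    (ModuleCat.mono_iff_injective _).1 inferInstance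
  have hsurj : Function.Surjective (K.homologyπ j).hom :=
    (ModuleCat.epi_iff_surjective _).1 inferInstance
  have h₁' : (ShortComplex.mk (K.iCycles i) (K.d i j) (K.iCycles_d i j)).Exact :=
    ShortComplex.exact_of_f_is_kernel _ (K.cyclesIsKernel i j hnext)
  have h₂' : (ShortComplex.mk (K.toCycles i j) (K.homologyπ j)
      (K.toCycles_comp_homologyπ i j)).Exact :=
    ShortComplex.exact_of_g_is_cokernel _ (K.homologyIsCokernel i j hprev)
  have h₁ : Function.Exact (K.iCycles i).hom (K.d i j).hom :=
    (ShortComplex.ShortExact.moduleCat_exact_iff_function_exact _).1 h₁'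
  have h₂ : Function.Exact (K.toCycles i j).hom (K.homologyπ j).hom :=
    (ShortComplex.ShortExact.moduleCat_exact_iff_function_exact _).1 h₂'
  refine length_four (K.iCycles i).hom (K.toCycles i j).hom (K.homologyπ j).hom hinj hsurj ?_ h₂
  intro x
  rw [← h₁ x]
  have hd : (K.d i j).hom x = (K.iCycles j).hom ((K.toCycles i j).hom x) := by
    have := K.toCycles_i i j
    rw [← this]
    rfl
  rw [hd]
  constructor
  · intro h
    rw [h, map_zero]
  · intro h
    apply hinj'
    rw [h, map_zero]

/-- integer valued length -/
noncomputable def len (M : Type u) [AddCommGroup M] [Module A M] : ℤ :=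
  ((Module.length A M).toNat : ℤ)

/-- the sign -/
def sg (pq : ℤ × ℤ) : ℤ := (((pq.1 + pq.2).negOnePow : ℤˣ) : ℤ)

lemma sg_add {a : ℤ × ℤ} (ha : a.1 + a.2 = 1) (i : ℤ × ℤ) : sg (i + a) = - sg i := by
  unfold sg
  have : (i + a).1 + (i + a).2 = (i.1 + i.2) + 1 := by
    simp only [Prod.fst_add, Prod.snd_add]; omega
  rw [this, Int.negOnePow_succ]
  simp

lemma sum_shift {ι : Type*} [DecidableEq ι] (s T : Finset ι) (e : ι ≃ ι) (g : ι → ℤ)
    (hg : ∀ i, i ∉ s → g i = 0) (hT' : s ⊆ T.map e.toEmbedding) :
    (T.sum fun i => g (e i)) = s.sum g := by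
  have h1 : (T.sum fun i => g (e i)) = (T.map e.toEmbedding).sum g := by
    rw [Finset.sum_map]; rfl
  rw [h1]
  exact (Finset.sum_subset hT' (fun j _ hj => hg j hj)).symm

lemma len_key {a : ℤ × ℤ}
    (K : HomologicalComplex (ModuleCat.{u} A) (ComplexShape.up' a))
    (hfl : ∀ pq : ℤ × ℤ, IsFiniteLength A (K.X pq)) (i : ℤ × ℤ) :
    len (A := A) (K.X i) + len (A := A) (K.homology (i + a)) =
      len (A := A) (K.cycles i) + len (A := A) (K.cycles (i + a)) := by
  have hZ : ∀ j, IsFiniteLength A (K.cycles j) := fun j =>
    (hfl j).of_injective (f := (K.iCycles j).hom) ((ModuleCat.mono_iff_injective _).1 inferInstance)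
  have hH : ∀ j, IsFiniteLength A (K.homology j) := fun j =>
    (hZ j).of_surjective (f := (K.homologyπ j).hom)
      ((ModuleCat.epi_iff_surjective _).1 inferInstance)
  have h := length_complex K i (i + a) rfl
  have h1 := Module.length_ne_top_iff.2 (hfl i)
  have h2 := Module.length_ne_top_iff.2 (hH (i + a))
  have h3 := Module.length_ne_top_iff.2 (hZ i)
  have h4 := Module.length_ne_top_iff.2 (hZ (i + a))
  have := congrArg ENat.toNat h
  rw [ENat.toNat_add h1 h2, ENat.toNat_add h3 h4] at this
  unfold len
  exact_mod_cast this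

lemma len_zero (M : Type u) [AddCommGroup M] [Module A M] [Subsingleton M] :
    len (A := A) M = 0 := by
  unfold len
  rw [Module.length_eq_zero]
  rfl

lemma euler {a : ℤ × ℤ} (ha : a.1 + a.2 = 1)
    (K : HomologicalComplex (ModuleCat.{u} A) (ComplexShape.up' a)) (s : Finset (ℤ × ℤ))
    (hs : ∀ pq : ℤ × ℤ, pq ∉ s → IsZero (K.X pq))
    (hfl : ∀ pq : ℤ × ℤ, IsFiniteLength A (K.X pq)) :
    (s.sum fun pq => sg pq * len (A := A) (K.X pq)) =
      s.sum fun pq => sg pq * len (A := A) (K.homology pq) := by
  classical
  have hX0 : ∀ pq, pq ∉ s → Subsingleton (K.X pq) := fun pq h =>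
    ModuleCat.subsingleton_of_isZero (hs pq h)
  have hZ0 : ∀ pq, pq ∉ s → Subsingleton (K.cycles pq) := fun pq h => by
    have := hX0 pq h
    exact Function.Injective.subsingleton
      ((ModuleCat.mono_iff_injective (K.iCycles pq)).1 inferInstance)
  have hH0 : ∀ pq, pq ∉ s → Subsingleton (K.homology pq) := fun pq h => by
    have := hZ0 pq h
    exact Function.Surjective.subsingleton
      ((ModuleCat.epi_iff_surjective (K.homologyπ pq)).1 inferInstance)
  have x0 : ∀ pq, pq ∉ s → sg pq * len (A := A) (K.X pq) = 0 := fun pq h => by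
    have := hX0 pq h
    rw [len_zero, mul_zero]
  have z0 : ∀ pq, pq ∉ s → sg pq * len (A := A) (K.cycles pq) = 0 := fun pq h => by
    have := hZ0 pq h
    rw [len_zero, mul_zero]
  have h0 : ∀ pq, pq ∉ s → sg pq * len (A := A) (K.homology pq) = 0 := fun pq h => by
    have := hH0 pq h
    rw [len_zero, mul_zero]
  let e : ℤ × ℤ ≃ ℤ × ℤ := Equiv.addRight a
  let T : Finset (ℤ × ℤ) := s ∪ s.map e.symm.toEmbedding
  have hT : s ⊆ T := Finset.subset_union_left
  have hT' : s ⊆ T.map e.toEmbedding := by
    intro j hj
    rw [Finset.mem_map]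
    refine ⟨e.symm j, Finset.mem_union_right _ (Finset.mem_map_of_mem _ hj), ?_⟩
    simp
  have key : ∀ i, sg i * len (A := A) (K.X i) =
      sg i * len (A := A) (K.cycles i) - sg (e i) * len (A := A) (K.cycles (e i))
        + sg (e i) * len (A := A) (K.homology (e i)) := by
    intro i
    have h := len_key K hfl i
    have hs : sg (e i) = - sg i := sg_add ha i
    have he : e i = i + a := rfl
    rw [hs, he]
    have : len (A := A) (K.X i) = len (A := A) (K.cycles i) + len (A := A) (K.cycles (i + a))
        - len (A := A) (K.homology (i + a)) := by linarith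
    rw [this]
    ring
  calc (s.sum fun pq => sg pq * len (A := A) (K.X pq))
      = T.sum fun pq => sg pq * len (A := A) (K.X pq) :=
        Finset.sum_subset hT (fun j _ hj => x0 j hj)
    _ = (T.sum fun i => sg i * len (A := A) (K.cycles i))
          - (T.sum fun i => sg (e i) * len (A := A) (K.cycles (e i)))
          + (T.sum fun i => sg (e i) * len (A := A) (K.homology (e i))) := by
        rw [← Finset.sum_sub_distrib, ← Finset.sum_add_distrib]
        exact Finset.sum_congr rfl (fun i _ => key i)
    _ = (s.sum fun i => sg i * len (A := A) (K.cycles i))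
          - (s.sum fun i => sg i * len (A := A) (K.cycles i))
          + (s.sum fun i => sg i * len (A := A) (K.homology i)) := by
        rw [sum_shift s T e (fun i => sg i * len (A := A) (K.cycles i)) z0 hT',
          sum_shift s T e (fun i => sg i * len (A := A) (K.homology i)) h0 hT',
          (Finset.sum_subset hT (fun j _ hj => z0 j hj)).symm]
    _ = s.sum fun pq => sg pq * len (A := A) (K.homology pq) := by ring

end Helpers

open CategoryTheory CategoryTheory.Limits in
/-- Let E be a cohomological spectral sequence of modules over a ring A, starting at page 2, such that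
the E₂ terms have finite length and only finitely many of them (all inside the finite set s of
bidegrees) are nonzero. Then for every r ≥ 2 the Euler–Poincaré characteristic of page r, the
alternating sum over s of (-1)^{p+q} times the length of E_r^{pq}, equals that of page 2. -/
theorem result {A : Type u} [Ring A]
    (E : E₂CohomologicalSpectralSequence (ModuleCat.{u} A)) (s : Finset (ℤ × ℤ))
    (hs : ∀ pq : ℤ × ℤ, pq ∉ s → IsZero ((E.page 2).X pq))
    (hfl : ∀ pq : ℤ × ℤ, IsFiniteLength A ((E.page 2).X pq)) (r : ℤ) (hr : 2 ≤ r) :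
    (s.sum fun pq => (((pq.1 + pq.2).negOnePow : ℤˣ) : ℤ) * ((Module.length A ((E.page r hr).X pq)).toNat : ℤ)) =
      s.sum fun pq => (((pq.1 + pq.2).negOnePow : ℤˣ) : ℤ) * ((Module.length A ((E.page 2).X pq)).toNat : ℤ) := by
  suffices H : ∀ (r : ℤ) (hr : 2 ≤ r),
      (∀ pq : ℤ × ℤ, pq ∉ s → IsZero ((E.page r hr).X pq)) ∧
      (∀ pq : ℤ × ℤ, IsFiniteLength A ((E.page r hr).X pq)) ∧
      ((s.sum fun pq => sg pq * len (A := A) ((E.page r hr).X pq)) =
        s.sum fun pq => sg pq * len (A := A) ((E.page 2).X pq)) from (H r hr).2.2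
  intro r hr
  induction r, hr using Int.leInduction with
  | base => exact ⟨hs, hfl, rfl⟩
  | succ r hr ih =>
    obtain ⟨h1, h2, h3⟩ := ih
    have hiso : ∀ pq, (E.page r hr).homology pq ≅ (E.page (r + 1) (by omega)).X pq :=
      fun pq => E.iso r (r + 1) pq rfl hr
    have hle : ∀ pq, len (A := A) ((E.page (r + 1) (by omega)).X pq) =
        len (A := A) ((E.page r hr).homology pq) := fun pq => by
      unfold len
      rw [((hiso pq).toLinearEquiv).length_eq]
    refine ⟨fun pq hpq => ?_, fun pq => ?_, ?_⟩
    · refine IsZero.of_iso ?_ (hiso pq).symm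
      have := ModuleCat.subsingleton_of_isZero (h1 pq hpq)
      have hZ : Subsingleton ((E.page r hr).cycles pq) := Function.Injective.subsingleton
        ((ModuleCat.mono_iff_injective ((E.page r hr).iCycles pq)).1 inferInstance)
      have : Subsingleton ((E.page r hr).homology pq) := Function.Surjective.subsingleton
        ((ModuleCat.epi_iff_surjective ((E.page r hr).homologyπ pq)).1 inferInstance)
      exact ModuleCat.isZero_of_subsingleton _
    · have hZ : IsFiniteLength A ((E.page r hr).cycles pq) :=
        (h2 pq).of_injective (f := ((E.page r hr).iCycles pq).hom)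
          ((ModuleCat.mono_iff_injective _).1 inferInstance)
      have hH : IsFiniteLength A ((E.page r hr).homology pq) :=
        hZ.of_surjective (f := ((E.page r hr).homologyπ pq).hom)
          ((ModuleCat.epi_iff_surjective _).1 inferInstance)
      exact hH.of_surjective (f := (hiso pq).toLinearEquiv.toLinearMap)
        (hiso pq).toLinearEquiv.surjective
    · rw [← h3, euler (by simp) (E.page r hr) s h1 h2]
      exact Finset.sum_congr rfl (fun pq _ => by rw [hle pq])

end Groth.Agent.S3544
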