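import Groth.Statements.S3547
import Groth.Agent.S3562

set_option autoImplicit false
universe u
open CategoryTheory CategoryTheory.Limits AlgebraicGeometry
open EGA2

namespace Groth.Agent.S3547

section aux
open TopologicalSpace Opposite

variable {R A : Type u} [CommRing R] [CommRing A] [Algebra R A] (𝒜 : ℕ → Submodule R A)
  [GradedAlgebra 𝒜]
  {M : Type u} [AddCommGroup M] [Module R M] [Module A M] [IsScalarTower R A M]
  (ℳ : ℕ → Submodule R M) [DirectSum.Decomposition ℳ] [SetLike.GradedSMul 𝒜 ℳ]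

/-- Every element of `tildeAt n p` is a single fraction. -/
theorem exists_frac (n : ℤ) (p : ProjectiveSpectrum 𝒜) (t : GrTilde.LocMod 𝒜 (M := M) p)
    (ht : t ∈ GrTilde.tildeAt 𝒜 ℳ n p) :
    ∃ (i j : ℕ) (m : ℳ i) (s : 𝒜 j) (hs : s.1 ∉ p.asHomogeneousIdeal),
      ((i : ℤ) = j + n ∨ m.1 = 0) ∧ t = LocalizedModule.mk m.1 ⟨s.1, hs⟩ := by
  induction ht using Submodule.span_induction with
  | mem x hx =>
    obtain ⟨i, j, m, s, hs, hd, rfl⟩ := hx
    exact ⟨i, j, m, s, hs, Or.inl hd, rfl⟩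
  | zero =>
    refine ⟨0, 0, 0, ⟨1, SetLike.GradedOne.one_mem⟩,
      fun h => p.isPrime.ne_top ((Ideal.eq_top_iff_one _).mpr h), Or.inr rfl, ?_⟩
    exact (LocalizedModule.zero_mk _).symm
  | add x y _ _ hx hy =>
    obtain ⟨i, j, ⟨a, a_mem⟩, ⟨s, s_mem⟩, hs, ca, rfl⟩ := hx
    obtain ⟨i', j', ⟨b, b_mem⟩, ⟨t, t_mem⟩, ht, cb, rfl⟩ := hy
    replace ca : (i : ℤ) = j + n ∨ a = 0 := ca
    replace cb : (i' : ℤ) = j' + n ∨ b = 0 := cb
    have nin : s * t ∉ p.asHomogeneousIdeal := fun h =>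
      (p.isPrime.mem_or_mem h).elim hs ht
    have key : LocalizedModule.mk a ⟨s, hs⟩ + LocalizedModule.mk b ⟨t, ht⟩ =
        (LocalizedModule.mk (t • a + s • b) ⟨s * t, nin⟩ : GrTilde.LocMod 𝒜 (M := M) p) := by
      rw [LocalizedModule.mk_add_mk]
      rfl
    have hsb : s • b ∈ ℳ (j + i') := SetLike.GradedSMul.smul_mem s_mem b_mem
    rcases ca with ha | ha
    · rcases cb with hb | hb
      · refine ⟨j + i', j + j', ⟨t • a + s • b, add_mem ?_ hsb⟩,
          ⟨s * t, SetLike.mul_mem_graded s_mem t_mem⟩, nin, Or.inl (by push_cast; omega), key⟩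
        have e : j' + i = j + i' := by omega
        exact e ▸ SetLike.GradedSMul.smul_mem t_mem a_mem
      · refine ⟨j' + i, j + j', ⟨t • a + s • b, ?_⟩,
          ⟨s * t, SetLike.mul_mem_graded s_mem t_mem⟩, nin, Or.inl (by push_cast; omega), key⟩
        rw [hb, smul_zero, add_zero]
        exact SetLike.GradedSMul.smul_mem t_mem a_mem
    · refine ⟨j + i', j + j', ⟨t • a + s • b, ?_⟩,
        ⟨s * t, SetLike.mul_mem_graded s_mem t_mem⟩, nin, ?_, key⟩
      · rw [ha, smul_zero, zero_add]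
        exact hsb
      · rcases cb with hb | hb
        · exact Or.inl (by push_cast; omega)
        · exact Or.inr (show t • a + s • b = 0 by rw [ha, hb, smul_zero, smul_zero, add_zero])
  | smul c x _ hx =>
    obtain ⟨i, j, ⟨a, a_mem⟩, ⟨s, s_mem⟩, hs, ca, rfl⟩ := hx
    replace ca : (i : ℤ) = j + n ∨ a = 0 := ca
    obtain ⟨⟨k, ⟨r, r_mem⟩, ⟨t, t_mem⟩, ht⟩, rfl⟩ := HomogeneousLocalization.mk_surjective c
    have nin : t * s ∉ p.asHomogeneousIdeal := fun h =>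
      (p.isPrime.mem_or_mem h).elim ht hs
    refine ⟨k + i, k + j, ⟨r • a, SetLike.GradedSMul.smul_mem r_mem a_mem⟩,
      ⟨t * s, SetLike.mul_mem_graded t_mem s_mem⟩, nin, ?_, ?_⟩
    · rcases ca with ha | ha
      · exact Or.inl (by push_cast; omega)
      · exact Or.inr (show r • a = 0 by rw [ha, smul_zero])
    · rw [GrTilde.a0_smul_def, HomogeneousLocalization.val_mk, LocalizedModule.mk_smul_mk]
      rfl

end aux

/-- Let S be a graded ring, M a graded S-module, X = Proj S and p a point of X. The stalk of M(n)~ at p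
is the module of fractions m/f in M_p with m, f homogeneous, f not in p and deg m = deg f + n:
precisely, evaluation at p is a bijection from the stalk at p of the sheaf of local sections of
M(n)~ onto that module of fractions. -/
theorem result {R A : Type u} [CommRing R] [CommRing A] [Algebra R A] (𝒜 : ℕ → Submodule R A) [GradedAlgebra 𝒜]
    {M : Type u} [AddCommGroup M] [Module R M] [Module A M] [IsScalarTower R A M] (ℳ : ℕ → Submodule R M) [DirectSum.Decomposition ℳ] [SetLike.GradedSMul 𝒜 ℳ] (n : ℤ)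
    (p : ProjectiveSpectrum 𝒜) :
    Function.Bijective (TopCat.stalkToFiber (GrTilde.isLocFrac 𝒜 ℳ n) p) := by
  classical
  constructor
  · -- injectivity
    apply TopCat.stalkToFiber_injective
    intro U V fU hU fV hV heq
    obtain ⟨Va, ma, ia, i, j, ⟨a, a_mem⟩, ⟨s, s_mem⟩, nina, ca, wa⟩ := hU ⟨p, U.2⟩
    obtain ⟨Vb, mb, ib, i', j', ⟨b, b_mem⟩, ⟨t, t_mem⟩, ninb, cb, wb⟩ := hV ⟨p, V.2⟩
    replace ca : (i : ℤ) = j + n ∨ a = 0 := ca
    replace cb : (i' : ℤ) = j' + n ∨ b = 0 := cb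
    have e1 := wa ⟨p, ma⟩
    have e2 := wb ⟨p, mb⟩
    dsimp only at e1 e2
    have e3 : (LocalizedModule.mk a ⟨s, nina ⟨p, ma⟩⟩ : GrTilde.LocMod 𝒜 (M := M) p) =
        LocalizedModule.mk b ⟨t, ninb ⟨p, mb⟩⟩ := by
      rw [← e1, ← e2]
      exact congrArg Subtype.val heq
    obtain ⟨⟨u, hu⟩, hue⟩ := LocalizedModule.mk_eq.mp e3
    replace hue : u • t • a = u • s • b := hue
    -- a common degree for `t • a` and `s • b`
    have hta : t • a ∈ ℳ (j' + i) := SetLike.GradedSMul.smul_mem t_mem a_mem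
    have hsb : s • b ∈ ℳ (j + i') := SetLike.GradedSMul.smul_mem s_mem b_mem
    obtain ⟨d, hd1, hd2⟩ : ∃ d, t • a ∈ ℳ d ∧ s • b ∈ ℳ d := by
      rcases ca with ha | ha
      · rcases cb with hb | hb
        · have e : j' + i = j + i' := by omega
          exact ⟨j + i', e ▸ hta, hsb⟩
        · exact ⟨j' + i, hta, by rw [hb, smul_zero]; exact zero_mem _⟩
      · exact ⟨j + i', by rw [ha, smul_zero]; exact zero_mem _, hsb⟩
    -- a homogeneous component of `u` outside `p`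
    obtain ⟨k, hk⟩ : ∃ k, ((DirectSum.decompose 𝒜 u k : 𝒜 k) : A) ∉ p.asHomogeneousIdeal := by
      by_contra hcon
      push Not at hcon
      apply hu
      rw [← DirectSum.sum_support_decompose 𝒜 u]
      exact Ideal.sum_mem _ fun c _ => hcon c
    set uk : A := ((DirectSum.decompose 𝒜 u k : 𝒜 k) : A) with huk
    have hcomp : uk • t • a = uk • s • b := by
      rw [huk, ← Groth.Agent.S3562.decompose_smul_of_mem 𝒜 ℳ u hd1 k,
        ← Groth.Agent.S3562.decompose_smul_of_mem 𝒜 ℳ u hd2 k, hue]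
    -- the neighbourhood
    let W0 : TopologicalSpace.Opens (ProjectiveSpectrum.top 𝒜) := Va ⊓ Vb ⊓ ProjectiveSpectrum.basicOpen 𝒜 uk
    have hpW : p ∈ W0 := ⟨⟨ma, mb⟩, (ProjectiveSpectrum.mem_basicOpen 𝒜 uk p).mpr hk⟩
    let W : TopologicalSpace.OpenNhds p := ⟨W0, hpW⟩
    have hWU : W0 ≤ U.1 := fun y hy => (ia ⟨y, hy.1.1⟩).2
    have hWV : W0 ≤ V.1 := fun y hy => (ib ⟨y, hy.1.2⟩).2
    refine ⟨W, homOfLE hWU, homOfLE hWV, fun w => ?_⟩
    apply Subtype.ext
    have e4 := wa ⟨w.1, w.2.1.1⟩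
    have e5 := wb ⟨w.1, w.2.1.2⟩
    dsimp only at e4 e5
    have e6 : (fU ((homOfLE hWU) w : U.1)).1 =
        LocalizedModule.mk a ⟨s, nina ⟨w.1, w.2.1.1⟩⟩ := e4
    have e7 : (fV ((homOfLE hWV) w : V.1)).1 =
        LocalizedModule.mk b ⟨t, ninb ⟨w.1, w.2.1.2⟩⟩ := e5
    have e8 : (LocalizedModule.mk a ⟨s, nina ⟨w.1, w.2.1.1⟩⟩ : GrTilde.LocMod 𝒜 (M := M) w.1) =
        LocalizedModule.mk b ⟨t, ninb ⟨w.1, w.2.1.2⟩⟩ :=
      LocalizedModule.mk_eq.mpr
        ⟨⟨uk, (ProjectiveSpectrum.mem_basicOpen 𝒜 uk w.1).mp w.2.2⟩, hcomp⟩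
    exact e6.trans (e8.trans e7.symm)
  · -- surjectivity
    apply TopCat.stalkToFiber_surjective
    intro t
    obtain ⟨i, j, m, s, hs, hd, ht⟩ := exists_frac 𝒜 ℳ n p t.1 t.2
    let U0 : TopologicalSpace.Opens (ProjectiveSpectrum.top 𝒜) := ProjectiveSpectrum.basicOpen 𝒜 s.1
    have hpU : p ∈ U0 := (ProjectiveSpectrum.mem_basicOpen 𝒜 s.1 p).mpr hs
    have hnin : ∀ y : U0, s.1 ∉ y.1.asHomogeneousIdeal := fun y =>
      (ProjectiveSpectrum.mem_basicOpen 𝒜 s.1 y.1).mp y.2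
    have hmem : ∀ y : U0, (LocalizedModule.mk m.1 ⟨s.1, hnin y⟩ : GrTilde.LocMod 𝒜 (M := M) y.1) ∈
        GrTilde.tildeAt 𝒜 ℳ n y.1 := by
      intro y
      rcases hd with hd | hd
      · exact Submodule.subset_span ⟨i, j, m, s, hnin y, hd, rfl⟩
      · rw [hd, LocalizedModule.zero_mk]; exact zero_mem _
    refine ⟨⟨U0, hpU⟩, fun y => ⟨_, hmem y⟩, ?_, ?_⟩
    · intro x
      exact ⟨U0, x.2, 𝟙 _, i, j, m, s, hnin, hd, fun y => rfl⟩
    · exact Subtype.ext ht.symm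

end Groth.Agent.S3547
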