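import Groth.Statements.S3551
import Groth.Agent.Lib.Helper17.SerreFinite

set_option autoImplicit false
universe u
open CategoryTheory CategoryTheory.Limits AlgebraicGeometry
open EGA2

namespace Groth.Agent.S3551

/-- Let S be a graded ring whose irrelevant ideal S_+ is generated by finitely many elements of degree
one, and X = Proj S. Then every quasi-coherent O_X-module of finite type is isomorphic to N~ for
some finitely generated graded S-module N (graded in nonnegative degrees). -/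
theorem result {R A : Type u} [CommRing R] [CommRing A] [Algebra R A] (𝒜 : ℕ → Submodule R A) [GradedAlgebra 𝒜]
    (s : Finset A) (hs1 : ∀ f ∈ s, f ∈ 𝒜 1)
    (hs : (HomogeneousIdeal.irrelevant 𝒜).toIdeal = Ideal.span (s : Set A))
    (F : (Proj 𝒜).Modules) (hF : Coh.IsQCoh F) (hFT : CohB1.IsFT F) :
    ∃ (N : Type u) (_ : AddCommGroup N) (_ : Module R N) (_ : Module A N) (_ : IsScalarTower R A N)
      (𝒩 : ℕ → Submodule R N) (_ : DirectSum.Decomposition 𝒩) (_ : SetLike.GradedSMul 𝒜 𝒩),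
      Module.Finite A N ∧ Nonempty (GrTilde.tilde 𝒜 𝒩 0 ≅ F) := by
  classical
  have : F.IsQuasicoherent := hF
  have : SheafOfModules.IsFiniteType (R := (Proj 𝒜).ringCatSheaf) F := hFT
  have hcovs : (⨆ f : s, Proj.basicOpen 𝒜 (f : A)) = ⊤ := by
    apply Proj.iSup_basicOpen_eq_top 𝒜 (fun f : s => (f : A))
    rw [hs, Subtype.range_coe_subtype]
    rfl
  let f : (↥s) → 𝒜 1 := fun i => ⟨i.1, hs1 _ i.2⟩
  have hcov : ∀ y : Proj 𝒜, ∃ i, ((f i : 𝒜 1) : A) ∉
      (y : ProjectiveSpectrum 𝒜).asHomogeneousIdeal := by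
    intro y
    have hy : y ∈ (⨆ f : s, Proj.basicOpen 𝒜 (f : A)) := by rw [hcovs]; trivial
    obtain ⟨i, hi⟩ := TopologicalSpace.Opens.mem_iSup.mp hy
    exact ⟨i, (Proj.mem_basicOpen 𝒜 _ _).mp hi⟩
  obtain ⟨N, dN, hfin, hiso⟩ := Groth.Agent.Lib.Helper17.SerreFinite.exists_finite_iso 𝒜 F f hcov
  exact ⟨N, inferInstance, inferInstance, inferInstance, inferInstance,
    Groth.Agent.Lib.Helper17.HomogSub.subGrading
      (Groth.Agent.Lib.Helper17.GammaStar.grading 𝒜 F f) N, dN, inferInstance, hfin, hiso⟩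

end Groth.Agent.S3551
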