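import Groth.Statements.S3555
-- import your own Groth.Agent.* helpers here

set_option autoImplicit false
universe u
open CategoryTheory CategoryTheory.Limits AlgebraicGeometry
open EGA2

namespace Groth.Agent.S3555

/-- Let S be a graded ring whose irrelevant ideal S_+ is generated by the degree-one elements, X = Proj
S, and f homogeneous of degree d > 0. Then D_+(f) is the set of points p of X at which the global
section f/1 of O_X(d) does not vanish, i.e. at which its value generates the module of degree-d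
fractions at p. -/
theorem result {R A : Type u} [CommRing R] [CommRing A] [Algebra R A] (𝒜 : ℕ → Submodule R A) [GradedAlgebra 𝒜]
    (hgen : (HomogeneousIdeal.irrelevant 𝒜).toIdeal = Ideal.span (𝒜 1 : Set A))
    {d : ℕ} (hd : 0 < d) (f : 𝒜 d) (p : ProjectiveSpectrum 𝒜) :
    p ∈ ProjectiveSpectrum.basicOpen 𝒜 (f : A) ↔
      Submodule.span (Twist.A0 𝒜 p) {(Twist.globalOf 𝒜 f).1 ⟨p, trivial⟩} = ⊤ := by
  have hone : (1 : A) ∉ p.asHomogeneousIdeal :=
    fun h => p.isPrime.ne_top ((Ideal.eq_top_iff_one _).mpr h)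
  set g₀ : Twist.twistAt 𝒜 (d : ℤ) p := (Twist.globalOf 𝒜 f).1 ⟨p, trivial⟩ with hg₀
  have hg₀val : (g₀ : Twist.Loc 𝒜 p) = Localization.mk f.1 ⟨1, hone⟩ := rfl
  rw [ProjectiveSpectrum.mem_basicOpen]
  constructor
  · intro hfp
    rw [eq_top_iff]
    rintro ⟨y, hy⟩ -
    -- every generator is a multiple of f/1
    have hle : Twist.twistAt 𝒜 (d : ℤ) p ≤
        Submodule.span (Twist.A0 𝒜 p) {(g₀ : Twist.Loc 𝒜 p)} := by
      unfold Twist.twistAt
      rw [Submodule.span_le]
      rintro q ⟨i, j, a, s, hs, hij, rfl⟩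
      rw [SetLike.mem_coe, Submodule.mem_span_singleton]
      have hsf : s.1 * f.1 ∉ p.asHomogeneousIdeal := fun h =>
        (p.isPrime.mem_or_mem h).elim hs hfp
      have hdeg : i = j + d := by exact_mod_cast hij
      refine ⟨HomogeneousLocalization.mk ⟨i, a, ⟨s.1 * f.1, hdeg ▸ SetLike.mul_mem_graded s.2 f.2⟩,
        hsf⟩, ?_⟩
      rw [Algebra.smul_def, HomogeneousLocalization.algebraMap_apply,
        HomogeneousLocalization.val_mk, hg₀val, Localization.mk_mul, Localization.mk_eq_mk_iff,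
        Localization.r_iff_exists]
      exact ⟨1, by simp; ring⟩
    obtain ⟨c, hc⟩ := Submodule.mem_span_singleton.mp (hle hy)
    rw [Submodule.mem_span_singleton]
    refine ⟨c, Subtype.ext ?_⟩
    rw [Twist.coe_smul_val]
    rw [Algebra.smul_def, HomogeneousLocalization.algebraMap_apply] at hc
    exact hc
  · intro htop hfp
    -- find g of degree one not in p
    have hg : ∃ g ∈ 𝒜 1, g ∉ p.asHomogeneousIdeal := by
      by_contra hcon
      push Not at hcon
      apply p.not_irrelevant_le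
      change (HomogeneousIdeal.irrelevant 𝒜).toIdeal ≤ p.asHomogeneousIdeal.toIdeal
      rw [hgen, Ideal.span_le]
      exact fun g hg => hcon g hg
    obtain ⟨g, hg1, hgp⟩ := hg
    have hgd : g ^ d ∈ 𝒜 d := by
      have := SetLike.pow_mem_graded d hg1
      simpa using this
    let y : Twist.twistAt 𝒜 (d : ℤ) p := ⟨Localization.mk (g ^ d) ⟨1, hone⟩,
      Submodule.subset_span ⟨d, 0, ⟨g ^ d, hgd⟩, ⟨1, SetLike.GradedOne.one_mem⟩, hone, by simp, rfl⟩⟩
    have hy : y ∈ Submodule.span (Twist.A0 𝒜 p) {g₀} := by rw [htop]; trivial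
    obtain ⟨c, hc⟩ := Submodule.mem_span_singleton.mp hy
    have hc' := congrArg (fun t : Twist.twistAt 𝒜 (d : ℤ) p => (t : Twist.Loc 𝒜 p)) hc
    simp only [Twist.coe_smul_val] at hc'
    obtain ⟨⟨deg, ⟨a, ha⟩, ⟨s, hs⟩, hsp⟩, rfl⟩ := HomogeneousLocalization.mk_surjective c
    rw [HomogeneousLocalization.val_mk, hg₀val] at hc'
    change Localization.mk a ⟨s, hsp⟩ * Localization.mk f.1 ⟨1, hone⟩ =
      Localization.mk (g ^ d) ⟨1, hone⟩ at hc'
    rw [Localization.mk_mul, Localization.mk_eq_mk_iff, Localization.r_iff_exists] at hc'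
    obtain ⟨⟨t, ht⟩, hteq⟩ := hc'
    simp only [one_mul, Submonoid.coe_mul, mul_one] at hteq
    have hmem : t * (a * f.1) ∈ p.asHomogeneousIdeal.toIdeal :=
      Ideal.mul_mem_left _ _ (Ideal.mul_mem_left _ _ hfp)
    rw [hteq] at hmem
    rcases p.isPrime.mem_or_mem hmem with h | h
    · exact ht h
    · rcases p.isPrime.mem_or_mem h with h | h
      · exact hsp h
      · exact hgp (p.isPrime.mem_of_pow_mem d h)

end Groth.Agent.S3555
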