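import Groth.Statements.S3578
-- import your own Groth.Agent.* helpers here

set_option autoImplicit false
universe u
open EGA2

namespace Groth.Agent.S3578

/-- Via the correspondence between closed subsets of Proj S and radical graded ideals of S_+: let S be a
graded ring and Z a closed subset of Proj S, with J = S_+ ∩ (vanishing ideal of Z). Then Z is
irreducible if and only if J is a prime ideal of the ring-without-unit S_+: J ≠ S_+ and a product of
two elements of S_+ lies in J only if one factor does. -/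
theorem result {R A : Type u} [CommRing R] [CommRing A] [Algebra R A] (𝒜 : ℕ → Submodule R A) [GradedAlgebra 𝒜]
    (Z : Set (ProjectiveSpectrum 𝒜)) (hZ : IsClosed Z) :
    IsIrreducible Z ↔
      (¬ (HomogeneousIdeal.irrelevant 𝒜).toIdeal ≤ (ProjectiveSpectrum.vanishingIdeal Z).toIdeal ∧
        ∀ f ∈ (HomogeneousIdeal.irrelevant 𝒜).toIdeal, ∀ g ∈ (HomogeneousIdeal.irrelevant 𝒜).toIdeal,
          f * g ∈ (ProjectiveSpectrum.vanishingIdeal Z).toIdeal →
            f ∈ (ProjectiveSpectrum.vanishingIdeal Z).toIdeal ∨ g ∈ (ProjectiveSpectrum.vanishingIdeal Z).toIdeal) := by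
  have hmem : ∀ f : A, f ∈ (ProjectiveSpectrum.vanishingIdeal Z).toIdeal ↔
      ∀ x : ProjectiveSpectrum 𝒜, x ∈ Z → f ∈ x.asHomogeneousIdeal :=
    fun f => ProjectiveSpectrum.mem_vanishingIdeal Z f
  constructor
  · rintro ⟨⟨x, hx⟩, hpre⟩
    refine ⟨fun hle => x.not_irrelevant_le fun a ha => (hmem a).mp (hle ha) x hx, ?_⟩
    intro f _ g _ hfg
    by_contra hcon
    push_neg at hcon
    obtain ⟨hf, hg⟩ := hcon
    rw [hmem] at hf hg
    push_neg at hf hg
    obtain ⟨x₁, hx₁, hfx₁⟩ := hf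
    obtain ⟨x₂, hx₂, hgx₂⟩ := hg
    obtain ⟨z, hz, hzf, hzg⟩ := hpre (ProjectiveSpectrum.basicOpen 𝒜 f).1
      (ProjectiveSpectrum.basicOpen 𝒜 g).1 (ProjectiveSpectrum.basicOpen 𝒜 f).2
      (ProjectiveSpectrum.basicOpen 𝒜 g).2 ⟨x₁, hx₁, hfx₁⟩ ⟨x₂, hx₂, hgx₂⟩
    rcases z.isPrime.mem_or_mem ((hmem _).mp hfg z hz) with h | h
    · exact hzf h
    · exact hzg h
  · rintro ⟨hne, hprime⟩
    constructor
    · by_contra hcon
      rw [Set.not_nonempty_iff_eq_empty] at hcon
      apply hne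
      intro a _
      rw [hmem]
      intro x hx
      rw [hcon] at hx
      exact hx.elim
    · rintro u v hu hv ⟨x₁, hx₁, hx₁u⟩ ⟨x₂, hx₂, hx₂v⟩
      obtain ⟨_, ⟨f₁, rfl⟩, hf₁, hf₁u⟩ :=
        (ProjectiveSpectrum.isTopologicalBasis_basic_opens 𝒜).exists_subset_of_mem_open hx₁u hu
      obtain ⟨_, ⟨f₂, rfl⟩, hf₂, hf₂v⟩ :=
        (ProjectiveSpectrum.isTopologicalBasis_basic_opens 𝒜).exists_subset_of_mem_open hx₂v hv
      obtain ⟨s₁, hs₁, hs₁x⟩ := SetLike.not_le_iff_exists.mp x₁.not_irrelevant_le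
      obtain ⟨s₂, hs₂, hs₂x⟩ := SetLike.not_le_iff_exists.mp x₂.not_irrelevant_le
      have h1 : f₁ * s₁ ∉ (ProjectiveSpectrum.vanishingIdeal Z).toIdeal := by
        rw [hmem]
        intro h
        rcases x₁.isPrime.mem_or_mem (h x₁ hx₁) with h | h
        · exact hf₁ h
        · exact hs₁x h
      have h2 : f₂ * s₂ ∉ (ProjectiveSpectrum.vanishingIdeal Z).toIdeal := by
        rw [hmem]
        intro h
        rcases x₂.isPrime.mem_or_mem (h x₂ hx₂) with h | h
        · exact hf₂ h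
        · exact hs₂x h
      have h3 : (f₁ * s₁) * (f₂ * s₂) ∉ (ProjectiveSpectrum.vanishingIdeal Z).toIdeal := by
        intro h
        rcases hprime _ (Ideal.mul_mem_left _ _ hs₁) _ (Ideal.mul_mem_left _ _ hs₂) h with h | h
        · exact h1 h
        · exact h2 h
      rw [hmem] at h3
      push_neg at h3
      obtain ⟨z, hz, hzn⟩ := h3
      refine ⟨z, hz, hf₁u ?_, hf₂v ?_⟩
      · intro h
        exact hzn (Ideal.mul_mem_right _ _ (Ideal.mul_mem_right _ _ h))
      · intro h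
        exact hzn (Ideal.mul_mem_left _ _ (Ideal.mul_mem_right _ _ h))

end Groth.Agent.S3578
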