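import Groth.Statements.S3557
import Groth.Agent.Lib.Helper17.ProjMap
import Groth.Agent.S3578
-- import your own Groth.Agent.* helpers here

set_option autoImplicit false
universe u
open CategoryTheory CategoryTheory.Limits AlgebraicGeometry
open EGA2

namespace Groth.Agent.S3557

/-- Let S be a graded ring which is essentially reduced (S_+ contains no nonzero nilpotent). Then Proj S
is an integral scheme if and only if S is essentially integral, i.e. S_+ is nonzero and the product
of two nonzero elements of S_+ is nonzero. -/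
theorem result {R A : Type u} [CommRing R] [CommRing A] [Algebra R A] (𝒜 : ℕ → Submodule R A) [GradedAlgebra 𝒜]
    (hred : ∀ f ∈ (HomogeneousIdeal.irrelevant 𝒜).toIdeal, IsNilpotent f → f = 0) :
    AlgebraicGeometry.IsIntegral (Proj 𝒜) ↔
      ((∃ f ∈ (HomogeneousIdeal.irrelevant 𝒜).toIdeal, f ≠ 0) ∧
        ∀ f ∈ (HomogeneousIdeal.irrelevant 𝒜).toIdeal, ∀ g ∈ (HomogeneousIdeal.irrelevant 𝒜).toIdeal,
          f * g = 0 → f = 0 ∨ g = 0) := by
  have hredP : AlgebraicGeometry.IsReduced (Proj 𝒜) :=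
    Groth.Agent.Lib.Helper17.proj_isReduced 𝒜 hred
  have hmem : ∀ f : A, f ∈ (ProjectiveSpectrum.vanishingIdeal (Set.univ : Set (ProjectiveSpectrum 𝒜))).toIdeal ↔
      ∀ x : ProjectiveSpectrum 𝒜, f ∈ x.asHomogeneousIdeal := by
    intro f
    rw [show f ∈ (ProjectiveSpectrum.vanishingIdeal (Set.univ : Set (ProjectiveSpectrum 𝒜))).toIdeal ↔
      f ∈ ProjectiveSpectrum.vanishingIdeal (Set.univ : Set (ProjectiveSpectrum 𝒜)) from Iff.rfl,
      ProjectiveSpectrum.mem_vanishingIdeal]
    simp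
  have hzero : ∀ f ∈ (HomogeneousIdeal.irrelevant 𝒜).toIdeal,
      (f ∈ (ProjectiveSpectrum.vanishingIdeal (Set.univ : Set (ProjectiveSpectrum 𝒜))).toIdeal ↔ f = 0) := by
    intro f hf
    constructor
    · intro h
      rw [hmem] at h
      have hnil := Groth.Agent.Lib.Helper17.isNilpotent_mul_of_forall_mem 𝒜 f h f hf
      obtain ⟨N, hN⟩ := hnil
      apply hred f hf
      exact ⟨2 * N, by rw [pow_mul, pow_two, hN]⟩
    · rintro rfl
      exact Ideal.zero_mem _
  have key := Groth.Agent.S3578.result 𝒜 (Set.univ : Set (ProjectiveSpectrum 𝒜)) isClosed_univ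
  have hirr : IrreducibleSpace (Proj 𝒜) ↔ IsIrreducible (Set.univ : Set (ProjectiveSpectrum 𝒜)) :=
    irreducibleSpace_def _
  rw [isIntegral_iff_irreducibleSpace_and_isReduced, hirr, key]
  constructor
  · rintro ⟨⟨h1, h2⟩, -⟩
    constructor
    · obtain ⟨f, hf, hfn⟩ := SetLike.not_le_iff_exists.mp h1
      exact ⟨f, hf, fun h0 => hfn ((hzero f hf).mpr h0)⟩
    · intro f hf g hg hfg
      have := h2 f hf g hg (hfg ▸ Ideal.zero_mem _)
      rwa [hzero f hf, hzero g hg] at this
  · rintro ⟨⟨f, hf, hfn⟩, h2⟩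
    refine ⟨⟨?_, ?_⟩, hredP⟩
    · intro hle
      exact hfn ((hzero f hf).mp (hle hf))
    · intro f hf g hg hfg
      rw [hzero f hf, hzero g hg]
      exact h2 f hf g hg ((hzero _ (Ideal.mul_mem_left _ _ hg)).mp hfg)

end Groth.Agent.S3557
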