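import Groth.Statements.S3561
import Groth.Agent.Lib.Helper17.GrFinite

set_option autoImplicit false
universe u
open CategoryTheory CategoryTheory.Limits AlgebraicGeometry
open EGA2

namespace Groth.Agent.S3561

/-- Let S be a graded ring whose irrelevant ideal S_+ is finitely generated, and M a graded S-module
satisfying (TF): for some n the submodule generated by the homogeneous elements of degree at least n
is a finitely generated S-module. Then the O_X-module M~ on X = Proj S is of finite type. -/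
theorem result {R A : Type u} [CommRing R] [CommRing A] [Algebra R A] (𝒜 : ℕ → Submodule R A) [GradedAlgebra 𝒜]
    (hfg : (HomogeneousIdeal.irrelevant 𝒜).toIdeal.FG)
    {M : Type u} [AddCommGroup M] [Module R M] [Module A M] [IsScalarTower R A M] (ℳ : ℕ → Submodule R M) [DirectSum.Decomposition ℳ] [SetLike.GradedSMul 𝒜 ℳ]
    (hTF : ∃ n : ℕ, (Submodule.span A (⋃ k ∈ Set.Ici n, (ℳ k : Set M))).FG) :
    CohB1.IsFT (GrTilde.tilde 𝒜 ℳ 0) := by
  classical
  obtain ⟨T, hT, hspan⟩ := Groth.Agent.Lib.Helper17.GrFinite.exists_generators 𝒜 hfg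
  choose! dg hdg hg using hT
  obtain ⟨n₀, hN⟩ := hTF
  obtain ⟨T', hT'sub, hT'span⟩ := (Submodule.fg_span_iff_fg_span_finset_subset _).mp hN
  have hdeg : ∀ m ∈ T', ∃ e : ℕ, m ∈ ℳ e := by
    intro m hm
    have := hT'sub hm
    simp only [Set.mem_iUnion, Set.mem_Ici, SetLike.mem_coe, exists_prop] at this
    obtain ⟨e, -, he⟩ := this
    exact ⟨e, he⟩
  choose! ee hee using hdeg
  have : (GrTilde.tilde 𝒜 ℳ 0).IsQuasicoherent :=
    Groth.Agent.Lib.Helper17.GrQCoh.isQuasicoherent_tilde 𝒜 ℳ 0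
  refine Groth.Agent.Lib.Helper49.isFiniteType_of_finite_sections_cover (GrTilde.tilde 𝒜 ℳ 0)
    (ι := Σ d : ℕ, {f : A // 0 < d ∧ f ∈ 𝒜 d})
    (fun i => Proj.basicOpen 𝒜 i.2.1)
    (fun i => Proj.isAffineOpen_basicOpen 𝒜 i.2.1 i.2.2.2 i.2.2.1) ?_ ?_
  · intro y
    obtain ⟨s, d, hd, hs, hy⟩ := Groth.Agent.Lib.Helper17.exists_homogeneous_pos_mem_basicOpen 𝒜 y
    exact ⟨⟨d, s, hd, hs⟩, hy⟩
  · rintro ⟨d, f, hd, hf⟩
    refine Groth.Agent.Lib.Helper17.GrFinite.finite_sections (𝒜 := 𝒜) (ℳ := ℳ)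
      (g := fun j : T => (j : A)) (dg := fun j : T => dg j)
      (x := fun i : T' => (i : M)) (ee := fun i : T' => ee i) hf hd
      (fun j => hg j j.2) (fun j => hdg j j.2) ?_ (fun i => hee i i.2) n₀ ?_
    · rw [hspan]; congr 1; ext a; simp
    · intro k hk m hm
      have : m ∈ Submodule.span A (⋃ k ∈ Set.Ici n₀, (ℳ k : Set M)) := by
        apply Submodule.subset_span
        simp only [Set.mem_iUnion, Set.mem_Ici, SetLike.mem_coe, exists_prop]
        exact ⟨k, hk, hm⟩
      rw [hT'span] at this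
      convert this using 2
      ext a; simp

end Groth.Agent.S3561
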