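import Groth.Statements.S3564
import Groth.Agent.Lib.Helper17.ProjClosed

set_option autoImplicit false
universe u
open CategoryTheory CategoryTheory.Limits AlgebraicGeometry
open EGA2
open Groth.Agent.Lib.Helper17

namespace Groth.Agent.S3564

/-- Let S be a graded ring whose irrelevant ideal S_+ is generated by finitely many elements of degree
one, X = Proj S, and Z → X a closed immersion. Then Z is X-isomorphic to Proj S' for a graded
quotient S' of S (a surjective homomorphism of graded rings S → S'), the isomorphism being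
compatible with the morphism Proj S' → X induced by the quotient map. (The source moreover
identifies the kernel: the largest graded ideal with this property, the inverse image of Γ_*(J)
under α; that description is not stated here.) -/
theorem result {R A : Type u} [CommRing R] [CommRing A] [Algebra R A] (𝒜 : ℕ → Submodule R A) [GradedAlgebra 𝒜]
    (s : Finset A) (hs1 : ∀ f ∈ s, f ∈ 𝒜 1)
    (hs : (HomogeneousIdeal.irrelevant 𝒜).toIdeal = Ideal.span (s : Set A))
    {Z : Scheme.{u}} (i : Z ⟶ Proj 𝒜) [IsClosedImmersion i] :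
    ∃ (B : Type u) (_ : CommRing B) (_ : Algebra R B) (ℬ : ℕ → Submodule R B) (_ : GradedAlgebra ℬ)
      (φ : 𝒜 →+*ᵍ ℬ) (_ : Function.Surjective φ)
      (hφ : HomogeneousIdeal.irrelevant ℬ ≤ (HomogeneousIdeal.irrelevant 𝒜).map φ)
      (e : Z ≅ Proj ℬ), e.hom ≫ Proj.map φ hφ = i := by
  classical
  have hf : ∀ x : (↥s), (x : A) ∈ 𝒜 1 := fun x => hs1 x.1 x.2
  have hspan : (HomogeneousIdeal.irrelevant 𝒜).toIdeal ≤
      Ideal.span (Set.range (Subtype.val : (↥s) → A)) := by
    rw [hs]
    apply le_of_eq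
    congr 1
    exact Subtype.range_coe.symm
  let I : Ideal A := PC.idealOf 𝒜 i.ker (Subtype.val : (↥s) → A) hf
  have hI : I.IsHomogeneous 𝒜 := PC.idealOf_isHomogeneous 𝒜 i.ker _ hf
  let inst : GradedAlgebra (GQ.grading 𝒜 I) := GQ.gradedAlgebra 𝒜 I hI
  have hsurj : Function.Surjective (GQ.quotHom 𝒜 I) := GQ.quotHom_surjective 𝒜 I
  have hφ : HomogeneousIdeal.irrelevant (GQ.grading 𝒜 I) ≤
      (HomogeneousIdeal.irrelevant 𝒜).map (GQ.quotHom 𝒜 I) :=
    PC.irrelevant_le_map_of_surjective 𝒜 _ hsurj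
  have hcl : IsClosedImmersion (Proj.map (GQ.quotHom 𝒜 I) hφ) :=
    PC.isClosedImmersion_map_of_surjective 𝒜 _ hsurj hφ
  have hker : (Proj.map (GQ.quotHom 𝒜 I) hφ).ker = i.ker :=
    PC.ker_map_quotHom 𝒜 i.ker _ hf hspan hφ
  have hiso : IsIso (IsClosedImmersion.lift (Proj.map (GQ.quotHom 𝒜 I) hφ) i hker.le) :=
    IsClosedImmersion.isIso_lift _ _ hker
  exact ⟨A ⧸ I, inferInstance, inferInstance, GQ.grading 𝒜 I, inst, GQ.quotHom 𝒜 I, hsurj, hφ,
    asIso (IsClosedImmersion.lift (Proj.map (GQ.quotHom 𝒜 I) hφ) i hker.le),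
    IsClosedImmersion.lift_fac _ _ _⟩

end Groth.Agent.S3564
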