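import Groth.Statements.S3565
import Groth.Agent.Lib.Helper62.AmpleNormB
import Groth.Agent.Lib.Helper11.PullbackAmple2
-- import your own Groth.Agent.* helpers here

set_option autoImplicit false
set_option linter.style.haveILetI false
universe u
open CategoryTheory CategoryTheory.Limits AlgebraicGeometry
open EGA2

namespace Groth.Agent.S3565

/-- Let f : X → Y be a quasi-compact morphism, g : X' → X a finite surjective morphism such that the
direct image of the structure sheaf of X' is a finite locally free O_X-module, and L an invertible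
O_X-module. Then L is ample relative to f if and only if its inverse image on X' is ample relative
to f ∘ g. -/
theorem result {X X' Y : Scheme.{u}} (f : X ⟶ Y) [QuasiCompact f]
    (g : X' ⟶ X) [IsFinite g] [Surjective g]
    (hfree : FlatMod.IsFinLocFree ((Coh.push g).obj (Coh.structureModule X')))
    (L : X.Modules) (hL : PicF.IsInvertible L) :
    RelAmple.IsRelAmple f L ↔ RelAmple.IsRelAmple (g ≫ f) ((Scheme.Modules.pullback g).obj L) := by
  constructor
  · intro h
    exact Groth.Agent.Lib.Helper11.PullbackAmple.relAmple_pullback_of_isQuasiAffine f g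
      (Groth.Agent.Lib.Helper11.PullbackAmple2.isQuasiAffine_of_isAffineHom g) L h
  · intro h
    haveI : Flat g := Groth.Agent.Lib.Helper62.AmpleNormB.flat_of_isFinLocFree_push g hfree
    haveI : LocallyOfFinitePresentation g :=
      Groth.Agent.Lib.Helper62.AmpleNormB.lfp_of_isFinLocFree_push g hfree
    refine ⟨inferInstance, fun V => ?_⟩
    have hA := h.2 V
    let U : X.Opens := f ⁻¹ᵁ V.1
    have h1 : CohB1.IsAmple ((Scheme.Modules.pullback (g ∣_ U)).obj (L.restrict U.ι)) :=
      Groth.Agent.Lib.Helper11.GenLocus.isAmple_of_iso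
        ((Groth.Agent.Lib.Helper11.PullbackBasis.pullbackRestrictNatIso g U).app L).symm hA
    haveI : CompactSpace (U : Scheme.{u}) :=
      isCompact_iff_compactSpace.mp (QuasiCompact.isCompact_preimage (f := f) _ V.1.2 V.2.isCompact)
    haveI : IsFinite (g ∣_ U) := IsZariskiLocalAtTarget.restrict ‹_› U
    haveI : Flat (g ∣_ U) := IsZariskiLocalAtTarget.restrict ‹_› U
    haveI : LocallyOfFinitePresentation (g ∣_ U) := IsZariskiLocalAtTarget.restrict ‹_› U
    haveI : Surjective (g ∣_ U) := IsZariskiLocalAtTarget.restrict ‹_› U
    exact Groth.Agent.Lib.Helper62.AmpleNormB.isAmple_of_isAmple_pullback (g ∣_ U) (L.restrict U.ι)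
      (Groth.Agent.Lib.Helper11.GenLocus.isInvertible_restrict hL U) h1

end Groth.Agent.S3565
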