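import Groth.Statements.S3567
import Groth.Agent.Lib.Helper69.Descent

set_option autoImplicit false
universe u
open CategoryTheory CategoryTheory.Limits AlgebraicGeometry
open EGA2
open Groth.Agent.Lib.Helper69

namespace Groth.Agent.S3567

/-- Let h : U → V be a surjective morphism of schemes such that the map of sheaves of rings O_V → h_*O_U
is an isomorphism and the underlying space of V carries the quotient topology of that of U. Then for
every scheme W, composition with h is a bijection from the morphisms V → W onto the morphisms U → W
whose underlying map is constant on each fibre of h. -/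
theorem result {U V : Scheme.{u}} (h : U ⟶ V) [Surjective h]
    [IsIso h.c] (hq : Topology.IsQuotientMap h.base) (W : Scheme.{u}) :
    (∀ v₁ v₂ : V ⟶ W, h ≫ v₁ = h ≫ v₂ → v₁ = v₂) ∧
      ∀ u : U ⟶ W, (∀ x y : U, h.base x = h.base y → u.base x = u.base y) → ∃ v : V ⟶ W, h ≫ v = u := by
  have hiso : ∀ O : V.Opens, IsIso (h.app O) := fun O => NatIso.isIso_app_of_isIso h.c _
  have hbij : ∀ O : V.Opens, Function.Bijective (h.app O).hom := fun O =>
    (ConcreteCategory.isIso_iff_bijective (h.app O)).mp (hiso O)
  refine ⟨fun v₁ v₂ e => hom_ext_of_surjective_of_injective h hq.surjective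
    (fun O => (hbij O).1) v₁ v₂ e, fun u hu => ?_⟩
  exact ⟨desc h u hq hu (fun O => (hbij O).1) (fun O s => (hbij _).2 _),
    comp_desc h u hq hu _ _⟩

end Groth.Agent.S3567
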