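import Groth.Statements.S3572
import Groth.Agent.Lib.Helper17.UPExist

set_option autoImplicit false
universe u
open CategoryTheory CategoryTheory.Limits AlgebraicGeometry
open EGA2

namespace Groth.Agent.S3572

/-- Existence part of the universal property of projective n-space over an affine base Spec R (the
published statement is for P(E) with E an arbitrary quasi-coherent module; here E is the free module
of rank n+1, so that P(E) is projective n-space over R): let X be a scheme over R, L an invertible
O_X-module and s_0, …, s_n global sections of L generating L. Then there is an R-morphism r from X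
to projective n-space over R and an isomorphism r^*O(1) ≅ L carrying the inverse image of the
coordinate T_i to s_i for every i. -/
theorem result {R : Type u} [CommRing R] (n : ℕ) {X : Scheme.{u}}
    (q : X ⟶ Spec (CommRingCat.of R)) (L : X.Modules) (hL : PicF.IsInvertible L)
    (s : Fin (n + 1) → ProjUP.Γm L) (hs : ProjUP.GeneratedBy L s) :
    ∃ (r : X ⟶ CohB1.ProjSpace n R) (_ : r ≫ CohB1.ProjSpace.toSpec n R = q)
      (τ : (Scheme.Modules.pullback r).obj (Twist.twistProjSpace n R 1) ≅ L),
      ∀ i, τ.hom.app ⊤ (ProjUP.pullSec r (Twist.twistProjSpace n R 1) (ProjUP.coord n R i)) = s i := by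
  classical
  have hsym : IsSymmetricAlgebra (Module.Basis.constr (Pi.basisFun R (Fin (n + 1))) R
      (MvPolynomial.X : Fin (n + 1) → MvPolynomial (Fin (n + 1)) R)) :=
    SymmetricAlgebra.IsSymmetricAlgebra.mvPolynomial (Fin (n + 1)) (Pi.basisFun R (Fin (n + 1)))
  have hX : ∀ i, (Module.Basis.constr (Pi.basisFun R (Fin (n + 1))) R
      (MvPolynomial.X : Fin (n + 1) → MvPolynomial (Fin (n + 1)) R))
      ((Pi.basisFun R (Fin (n + 1))) i) = MvPolynomial.X i := fun i =>
    Module.Basis.constr_basis _ _ _ i
  have hι : ∀ m, (Module.Basis.constr (Pi.basisFun R (Fin (n + 1))) R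
      (MvPolynomial.X : Fin (n + 1) → MvPolynomial (Fin (n + 1)) R)) m ∈
      CohB1.polyGrading n R 1 := by
    intro m
    rw [Module.Basis.constr_apply_fintype]
    refine Submodule.sum_mem _ fun i _ => Submodule.smul_mem _ _ ?_
    exact MvPolynomial.isHomogeneous_X R i
  -- the linear map `v`
  let v : (Fin (n + 1) → R) →+ ProjUP.Γm L :=
    AddMonoidHom.mk' (fun c => ∑ i, ProjUP.toGlobal q (c i) • s i) (by
      intro a b
      simp only [Pi.add_apply, map_add, add_smul, Finset.sum_add_distrib])
  have hvdef : ∀ c, v c = ∑ i, ProjUP.toGlobal q (c i) • s i := fun _ => rfl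
  have hv : ∀ (a : R) (c : Fin (n + 1) → R), v (a • c) = ProjUP.toGlobal q a • v c := by
    intro a c
    rw [hvdef, hvdef, Finset.smul_sum]
    refine Finset.sum_congr rfl fun i _ => ?_
    rw [Pi.smul_apply, smul_eq_mul, map_mul, mul_smul]
  have hvb : ∀ i, v ((Pi.basisFun R (Fin (n + 1))) i) = s i := by
    intro i
    rw [hvdef, Finset.sum_eq_single i]
    · rw [Pi.basisFun_apply, Pi.single_eq_same, map_one, one_smul]
    · intro j _ hji
      rw [Pi.basisFun_apply, Pi.single_eq_of_ne hji, map_zero, zero_smul]
    · intro h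
      exact absurd (Finset.mem_univ i) h
  have hgen : ProjUP.GeneratedBy L v := by
    intro x
    apply top_unique
    rw [← hs x]
    apply Submodule.span_mono
    rintro _ ⟨i, rfl⟩
    exact ⟨(Pi.basisFun R (Fin (n + 1))) i,
      congrArg (fun t => (L.presheaf.germ ⊤ x trivial).hom t) (hvb i)⟩
  obtain ⟨r, hr, τ, hτ⟩ := Groth.Agent.Lib.Helper17.UPExist.exist (CohB1.polyGrading n R) _ hι hsym
    q L v hv hL hgen
  refine ⟨r, hr, τ, fun i => ?_⟩
  have key : (Twist.globalOf (CohB1.polyGrading n R)
      ⟨(Module.Basis.constr (Pi.basisFun R (Fin (n + 1))) R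
        (MvPolynomial.X : Fin (n + 1) → MvPolynomial (Fin (n + 1)) R))
        ((Pi.basisFun R (Fin (n + 1))) i), hι _⟩ : ProjUP.Γm (Twist.twist (CohB1.polyGrading n R) 1)) =
      ProjUP.coord n R i := by
    unfold ProjUP.coord
    congr 1
    exact Subtype.ext (hX i)
  have h1 := hτ ((Pi.basisFun R (Fin (n + 1))) i)
  rw [key, hvb i] at h1
  exact h1

end Groth.Agent.S3572
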