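import Groth.Statements.S3573
import Groth.Agent.Lib.Helper17.UPUniq

set_option autoImplicit false
universe u
open CategoryTheory CategoryTheory.Limits AlgebraicGeometry
open EGA2

namespace Groth.Agent.S3573

/-- Let R be a commutative ring, X a scheme, and r, r' : X → P^n_R two morphisms over Spec R. If there
is an isomorphism τ : r^*O(1) ≅ r'^*O(1) carrying, for each i = 0, …, n, the pullback under r of the
coordinate section T_i of O(1) to its pullback under r', then r = r'. (Stated here for projective
n-space over an affine base Spec R, that is, for a free module of rank n + 1; the published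
statement is for the projective bundle of a more general module over a general base.) -/
theorem result {R : Type u} [CommRing R] (n : ℕ) {X : Scheme.{u}}
    (r r' : X ⟶ CohB1.ProjSpace n R) (hrr' : r ≫ CohB1.ProjSpace.toSpec n R = r' ≫ CohB1.ProjSpace.toSpec n R)
    (τ : (Scheme.Modules.pullback r).obj (Twist.twistProjSpace n R 1) ≅
      (Scheme.Modules.pullback r').obj (Twist.twistProjSpace n R 1))
    (hτ : ∀ i, τ.hom.app ⊤ (ProjUP.pullSec r (Twist.twistProjSpace n R 1) (ProjUP.coord n R i)) =
      ProjUP.pullSec r' (Twist.twistProjSpace n R 1) (ProjUP.coord n R i)) :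
    r = r' := by
  have hsym : IsSymmetricAlgebra (Module.Basis.constr (Pi.basisFun R (Fin (n + 1))) R
      (MvPolynomial.X : Fin (n + 1) → MvPolynomial (Fin (n + 1)) R)) :=
    SymmetricAlgebra.IsSymmetricAlgebra.mvPolynomial (Fin (n + 1)) (Pi.basisFun R (Fin (n + 1)))
  have hX : ∀ i, (Module.Basis.constr (Pi.basisFun R (Fin (n + 1))) R
      (MvPolynomial.X : Fin (n + 1) → MvPolynomial (Fin (n + 1)) R))
      ((Pi.basisFun R (Fin (n + 1))) i) = MvPolynomial.X i := fun i =>
    Module.Basis.constr_basis _ _ _ i
  have hι : ∀ m, (Module.Basis.constr (Pi.basisFun R (Fin (n + 1))) R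
      (MvPolynomial.X : Fin (n + 1) → MvPolynomial (Fin (n + 1)) R)) m ∈
      CohB1.polyGrading n R 1 := by
    intro m
    rw [Module.Basis.constr_apply_fintype]
    refine Submodule.sum_mem _ fun i _ => Submodule.smul_mem _ _ ?_
    exact MvPolynomial.isHomogeneous_X R i
  refine Groth.Agent.Lib.Helper17.UPUniq.uniq (CohB1.polyGrading n R) _ hι hsym
    (fun i => (Pi.basisFun R (Fin (n + 1))) i) (Pi.basisFun R (Fin (n + 1))).span_eq r r' hrr' τ ?_
  intro i
  have key : (Twist.globalOf (CohB1.polyGrading n R)
      ⟨(Module.Basis.constr (Pi.basisFun R (Fin (n + 1))) R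
        (MvPolynomial.X : Fin (n + 1) → MvPolynomial (Fin (n + 1)) R))
        ((Pi.basisFun R (Fin (n + 1))) i), hι _⟩ : ProjUP.Γm (Twist.twist (CohB1.polyGrading n R) 1)) =
      ProjUP.coord n R i := by
    unfold ProjUP.coord
    congr 1
    exact Subtype.ext (hX i)
  rw [key]
  exact hτ i

end Groth.Agent.S3573
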