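import Groth.Statements.S3575
import Groth.Agent.Lib.Helper17.Cone

set_option autoImplicit false
universe u
open CategoryTheory CategoryTheory.Limits AlgebraicGeometry
open EGA2

namespace Groth.Agent.S3575
open Groth.Agent.Lib.Helper17

/-- Let S be a commutative ℕ-graded R-algebra, E the pointed affine cone (the open complement of the
vertex V(S_+) in Spec S) and X = Proj S, and let π : E → X be the canonical retraction,
characterised (hypothesis hπ) by its agreement on each chart Spec S_f → E, f homogeneous of positive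
degree, with Spec of S_(f) → S_f followed by the standard open immersion Spec S_(f) → X. Then π is
an affine and surjective morphism; the inverse image under π of D_+(f) is the open D(f) ∩ E = D(f)
of E for every homogeneous f of positive degree; and π sends a point of E, a prime p of S not
containing S_+, to the homogeneous prime whose homogeneous elements are those of p. -/
theorem result {R A : Type u} [CommRing R] [CommRing A] [Algebra R A] (𝒜 : ℕ → Submodule R A) [GradedAlgebra 𝒜]
    (π : (Cone.pointed 𝒜 : Scheme.{u}) ⟶ Proj 𝒜)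
    (hπ : ∀ (d : ℕ) (f : A) (hd : 0 < d) (hf : f ∈ 𝒜 d),
        Cone.chart hf hd ≫ π =
          Spec.map (CommRingCat.ofHom (algebraMap (HomogeneousLocalization.Away 𝒜 f) (Localization.Away f))) ≫
            Proj.awayι 𝒜 f hf hd) :
    IsAffineHom π ∧ Surjective π ∧
      (∀ (d : ℕ) (f : A), 0 < d → f ∈ 𝒜 d →
        π ⁻¹ᵁ Proj.basicOpen 𝒜 f = (Cone.pointed 𝒜).ι ⁻¹ᵁ Cone.coneOpen f) ∧
      ∀ p : (Cone.pointed 𝒜 : Scheme.{u}),
        (π.base p).asHomogeneousIdeal = (((Cone.pointed 𝒜).ι.base p).asIdeal).homogeneousCore 𝒜 := by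
  classical
  -- (c) the preimage of `D₊(f)`
  have key : ∀ (d : ℕ) (f : A), 0 < d → f ∈ 𝒜 d →
      π ⁻¹ᵁ Proj.basicOpen 𝒜 f = (Cone.pointed 𝒜).ι ⁻¹ᵁ Cone.coneOpen f := by
    intro d f hd hf
    ext x
    obtain ⟨e, he, g, hg, y, rfl⟩ := ConeLib.exists_chart_eq x
    have h1 : (Cone.chart hg he y ∈ π ⁻¹ᵁ Proj.basicOpen 𝒜 f) ↔
        y ∈ (Cone.chart hg he ≫ π) ⁻¹ᵁ Proj.basicOpen 𝒜 f := by
      rw [Scheme.Hom.comp_preimage]; rfl
    have h2 : (Cone.chart hg he y ∈ (Cone.pointed 𝒜).ι ⁻¹ᵁ Cone.coneOpen f) ↔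
        y ∈ (Cone.chart hg he ≫ (Cone.pointed 𝒜).ι) ⁻¹ᵁ Cone.coneOpen f := by
      rw [Scheme.Hom.comp_preimage]; rfl
    have e2 := Proj.awayι_preimage_basicOpen 𝒜 hg he hf hd
    rw [SetLike.mem_coe, SetLike.mem_coe, h1, h2, hπ e g he hg, ConeLib.chart_ι,
      Scheme.Hom.comp_preimage]
    have h3 : (y ∈ Spec.map (CommRingCat.ofHom (algebraMap (HomogeneousLocalization.Away 𝒜 g)
          (Localization.Away g))) ⁻¹ᵁ (Proj.awayι 𝒜 g hg he ⁻¹ᵁ Proj.basicOpen 𝒜 f)) ↔
        (Spec.map (CommRingCat.ofHom (algebraMap (HomogeneousLocalization.Away 𝒜 g)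
          (Localization.Away g))) y) ∈ (Proj.awayι 𝒜 g hg he ⁻¹ᵁ Proj.basicOpen 𝒜 f) := Iff.rfl
    have hL : ((Spec.map (CommRingCat.ofHom (algebraMap (HomogeneousLocalization.Away 𝒜 g)
          (Localization.Away g))) y) ∈ (Proj.awayι 𝒜 g hg he ⁻¹ᵁ Proj.basicOpen 𝒜 f)) ↔
        HomogeneousLocalization.Away.isLocalizationElem hg hf ∉
          (Spec.map (CommRingCat.ofHom (algebraMap (HomogeneousLocalization.Away 𝒜 g)
          (Localization.Away g))) y).asIdeal := by
      rw [e2]; rfl
    rw [h3, hL]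
    change ¬ (algebraMap (HomogeneousLocalization.Away 𝒜 g) (Localization.Away g)
        (HomogeneousLocalization.Away.isLocalizationElem hg hf) ∈
        (show PrimeSpectrum (Localization.Away g) from y).asIdeal) ↔
      ¬ (algebraMap A (Localization.Away g) f ∈
        (show PrimeSpectrum (Localization.Away g) from y).asIdeal)
    set 𝔮 := (show PrimeSpectrum (Localization.Away g) from y).asIdeal with h𝔮
    have h𝔮p : 𝔮.IsPrime := (show PrimeSpectrum (Localization.Away g) from y).isPrime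
    rw [HomogeneousLocalization.algebraMap_apply]
    unfold HomogeneousLocalization.Away.isLocalizationElem
    rw [HomogeneousLocalization.Away.val_mk, Localization.mk_eq_mk', not_iff_not]
    constructor
    · intro h
      have h5 := 𝔮.mul_mem_right (algebraMap A (Localization.Away g)
        ((⟨g ^ d, by use d⟩ : Submonoid.powers g) : A)) h
      rw [IsLocalization.mk'_spec] at h5
      rw [map_pow] at h5
      exact h𝔮p.mem_of_pow_mem _ h5
    · intro h
      rw [IsLocalization.mk'_eq_mul_mk'_one]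
      apply 𝔮.mul_mem_right
      rw [map_pow]
      exact 𝔮.pow_mem_of_mem h e he
  -- membership of homogeneous elements of positive degree
  have hpos : ∀ (p : (Cone.pointed 𝒜 : Scheme.{u})) (d : ℕ) (f : A), 0 < d → f ∈ 𝒜 d →
      (f ∈ (π.base p).asHomogeneousIdeal ↔
        f ∈ (show PrimeSpectrum A from (Cone.pointed 𝒜).ι.base p).asIdeal) := by
    intro p d f hd hf
    have h1 : p ∈ π ⁻¹ᵁ Proj.basicOpen 𝒜 f ↔ p ∈ (Cone.pointed 𝒜).ι ⁻¹ᵁ Cone.coneOpen f := by
      rw [key d f hd hf]
    have h2 : p ∈ π ⁻¹ᵁ Proj.basicOpen 𝒜 f ↔ f ∉ (π.base p).asHomogeneousIdeal :=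
      Proj.mem_basicOpen 𝒜 f (π.base p)
    have h3 : p ∈ (Cone.pointed 𝒜).ι ⁻¹ᵁ Cone.coneOpen f ↔
        f ∉ (show PrimeSpectrum A from (Cone.pointed 𝒜).ι.base p).asIdeal := Iff.rfl
    rw [h2, h3] at h1
    exact not_iff_not.mp h1
  -- (d) the point formula
  have hpt : ∀ p : (Cone.pointed 𝒜 : Scheme.{u}),
      (π.base p).asHomogeneousIdeal =
        (((Cone.pointed 𝒜).ι.base p).asIdeal).homogeneousCore 𝒜 := by
    intro p
    apply HomogeneousIdeal.ext'
    intro i a ha
    have hcore : a ∈ (((Cone.pointed 𝒜).ι.base p).asIdeal).homogeneousCore 𝒜 ↔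
        a ∈ (show PrimeSpectrum A from (Cone.pointed 𝒜).ι.base p).asIdeal :=
      ⟨fun h => Ideal.toIdeal_homogeneousCore_le 𝒜 _ h,
        fun h => Ideal.mem_homogeneousCore_of_homogeneous_of_mem ⟨i, ha⟩ h⟩
    rw [hcore]
    by_cases hi : 0 < i
    · exact hpos p i a hi ha
    · have hi0 : i = 0 := by omega
      subst hi0
      obtain ⟨d, hd, f, hf, y, hy⟩ := ConeLib.exists_chart_eq p
      -- `f ∉ p`
      have hfp : f ∉ (show PrimeSpectrum A from (Cone.pointed 𝒜).ι.base p).asIdeal := by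
        have : (Cone.pointed 𝒜).ι.base p ∈ Set.range (ConeLib.locι f).base := by
          refine ⟨y, ?_⟩
          rw [← hy, ← Scheme.Hom.comp_apply, ConeLib.chart_ι]
        rw [ConeLib.range_locι] at this
        exact this
      have hfx : f ∉ (π.base p).asHomogeneousIdeal := fun h => hfp ((hpos p d f hd hf).mp h)
      have haf : a * f ∈ 𝒜 (0 + d) := SetLike.mul_mem_graded ha hf
      have hd' : 0 < 0 + d := by omega
      have h4 := hpos p (0 + d) (a * f) hd' haf
      constructor
      · intro h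
        have h5 : a * f ∈ (π.base p).asHomogeneousIdeal :=
          (π.base p).asHomogeneousIdeal.toIdeal.mul_mem_right f h
        exact ((show PrimeSpectrum A from (Cone.pointed 𝒜).ι.base p).isPrime.mem_or_mem
          (h4.mp h5)).resolve_right hfp
      · intro h
        have h5 : a * f ∈ (show PrimeSpectrum A from (Cone.pointed 𝒜).ι.base p).asIdeal :=
          Ideal.mul_mem_right f _ h
        exact ((π.base p).isPrime.mem_or_mem (h4.mpr h5)).resolve_right hfx
  refine ⟨?_, ?_, key, hpt⟩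
  · -- affine
    apply isAffineHom_of_forall_exists_isAffineOpen
    intro x
    obtain ⟨f, d, hd, hf, hxf⟩ := exists_homogeneous_pos_mem_basicOpen 𝒜 x
    refine ⟨Proj.basicOpen 𝒜 f, hxf, Proj.isAffineOpen_basicOpen 𝒜 f hf hd, ?_⟩
    rw [key d f hd hf]
    apply IsAffineOpen.preimage_of_isOpenImmersion
      (IsAffineOpen.Spec_basicOpen (R := CommRingCat.of A) f)
    rw [Scheme.Opens.opensRange_ι]
    intro q hq hmem
    have hfmem : f ∈ (HomogeneousIdeal.irrelevant 𝒜).toIdeal :=
      HomogeneousIdeal.mem_irrelevant_of_mem _ hd hf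
    exact hq ((PrimeSpectrum.mem_zeroLocus _ _).mp hmem hfmem)
  · -- surjective
    constructor
    intro x
    let p0 : PrimeSpectrum A := ⟨x.asHomogeneousIdeal.toIdeal, x.isPrime⟩
    have hp0 : p0 ∈ Cone.pointed 𝒜 := by
      intro hmem
      exact x.not_irrelevant_le ((PrimeSpectrum.mem_zeroLocus _ _).mp hmem)
    let p : (Cone.pointed 𝒜 : Scheme.{u}) := ⟨p0, hp0⟩
    refine ⟨p, ?_⟩
    apply ProjectiveSpectrum.ext
    rw [hpt p]
    exact HomogeneousIdeal.toIdeal_homogeneousCore_eq_self x.asHomogeneousIdeal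

end Groth.Agent.S3575
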