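import Groth.Statements.S3580
import Groth.Agent.Lib.Helper20.Veronese

set_option autoImplicit false
universe u
open CategoryTheory CategoryTheory.Limits AlgebraicGeometry
open EGA2

namespace Groth.Agent.S3580

open HomogeneousLocalization Groth.Agent.Lib.Helper20

section Theta

variable {R A : Type u} [CommRing R] [CommRing A] [Algebra R A] {𝒜 : ℕ → Submodule R A}
    [GradedAlgebra 𝒜]
    {B : Type u} [CommRing B] [Algebra R B] {ℬ : ℕ → Submodule R B} [GradedAlgebra ℬ]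
    {d : ℕ} {φ : B →ₐ[R] A}
    (hdeg : ∀ n : ℕ, Submodule.map φ.toLinearMap (ℬ n) = 𝒜 (n * d))

/-- `B_(g) → B_g → A_{φ g}`. -/
noncomputable def θAux (ℬ : ℕ → Submodule R B) [GradedAlgebra ℬ] (φ : B →ₐ[R] A) (g : B) :
    Away ℬ g →+* Localization.Away (φ g) :=
  (Localization.awayMap φ.toRingHom g).comp (algebraMap (Away ℬ g) (Localization.Away g))

theorem awayMap_mk (g : B) (b : B) (k : ℕ) :
    Localization.awayMap φ.toRingHom g (Localization.mk b (⟨g ^ k, k, rfl⟩ : Submonoid.powers g)) =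
      Localization.mk (φ b) (⟨φ g ^ k, k, rfl⟩ : Submonoid.powers (φ g)) := by
  rw [Localization.mk_eq_mk', Localization.mk_eq_mk']
  unfold Localization.awayMap IsLocalization.Away.map
  rw [IsLocalization.map_mk']
  congr 1
  ext
  simp

include hdeg in
theorem range_θAux_subset (g : B) :
    Set.range (θAux ℬ φ g) ⊆ Set.range (val (𝒜 := 𝒜) (x := Submonoid.powers (φ g))) := by
  rintro _ ⟨z, rfl⟩
  obtain ⟨⟨n, ⟨a, ha⟩, ⟨b, hb'⟩, j, rfl : _ = b⟩, rfl⟩ := mk_surjective z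
  refine ⟨mk ⟨n * d, ⟨φ a, veronese_map_mem hdeg ha⟩, ⟨φ g ^ j, ?_⟩, j, rfl⟩, ?_⟩
  · rw [← map_pow]; exact veronese_map_mem hdeg hb'
  · simp only [θAux, RingHom.coe_comp, Function.comp_apply, HomogeneousLocalization.algebraMap_apply, val_mk]
    exact (awayMap_mk g a j).symm

/-- The ring map `B_(g) → A_(φ g)`. -/
noncomputable def θ (g : B) : Away ℬ g →+* Away 𝒜 (φ g) := by
  let e := RingEquiv.ofLeftInverse (f := algebraMap (Away 𝒜 (φ g)) (Localization.Away (φ g)))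
    (h := (val_injective _).hasLeftInverse.choose_spec)
  refine RingHom.comp (e.symm.toRingHom.comp (Subring.inclusion ?_)) (θAux ℬ φ g).rangeRestrict
  exact range_θAux_subset hdeg g

theorem val_θ (g : B) (x : Away ℬ g) :
    (θ hdeg g x).val = Localization.awayMap φ.toRingHom g x.val := by
  let e := RingEquiv.ofLeftInverse (f := algebraMap (Away 𝒜 (φ g)) (Localization.Away (φ g)))
    (h := (val_injective _).hasLeftInverse.choose_spec)
  dsimp [θ]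
  convert_to! (e (e.symm ⟨θAux ℬ φ g x, range_θAux_subset hdeg g ⟨_, rfl⟩⟩)).1 = _
  rw [e.apply_symm_apply]
  rfl

theorem θ_mk (g : B) {n : ℕ} (hg : g ∈ ℬ n) (k : ℕ) (b : B) (hb : b ∈ ℬ (k • n)) :
    θ hdeg g (Away.mk ℬ hg k b hb) =
      Away.mk 𝒜 (veronese_map_mem hdeg hg) k (φ b)
        (by have := veronese_map_mem hdeg hb; simpa [mul_assoc] using this) := by
  apply val_injective
  rw [val_θ, Away.val_mk, Away.val_mk]
  exact awayMap_mk g b k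

theorem θ_unique (g : B) (θ' : Away ℬ g →+* Away 𝒜 (φ g))
    (h : (algebraMap (Away 𝒜 (φ g)) (Localization.Away (φ g))).comp θ' =
      (Localization.awayMap φ.toRingHom g).comp (algebraMap (Away ℬ g) (Localization.Away g))) :
    θ' = θ hdeg g := by
  ext x : 1
  apply val_injective
  rw [val_θ]
  exact congr($h x)

theorem θ_bijective (hφ : Function.Injective φ) (g : B) {n : ℕ} (hg : g ∈ ℬ n) :
    Function.Bijective (θ (𝒜 := 𝒜) hdeg g) := by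
  constructor
  · intro x y hxy
    apply val_injective
    have h1 : Function.Injective (Localization.awayMap φ.toRingHom g) := by
      rw [Localization.awayMap_injective_iff]
      intro a ha
      have : a = 0 := hφ (by simpa using ha)
      exact ⟨0, by simp [this]⟩
    apply h1
    rw [← val_θ hdeg, ← val_θ hdeg, hxy]
  · intro y
    obtain ⟨k, a, ha, rfl⟩ := y.mk_surjective _ (veronese_map_mem hdeg hg)
    have ha' : a ∈ 𝒜 ((k • n) * d) := by simpa [mul_assoc] using ha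
    obtain ⟨b, hb, rfl⟩ := veronese_exists_of_mem hdeg ha'
    exact ⟨Away.mk ℬ hg k b hb, θ_mk hdeg g hg k b hb⟩

/-- The ring isomorphism `B_(g) ≃ A_(φ g)`. -/
noncomputable def θEquiv (hφ : Function.Injective φ) (g : B) {n : ℕ} (hg : g ∈ ℬ n) :
    Away ℬ g ≃+* Away 𝒜 (φ g) :=
  RingEquiv.ofBijective (θ hdeg g) (θ_bijective hdeg hφ g hg)

theorem θ_square (g g' x : B) (hx : x = g * g') {n' : ℕ} (hg' : g' ∈ ℬ n')
    (hx' : φ x = φ g * φ g') :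
    (θ (𝒜 := 𝒜) hdeg x).comp (awayMap ℬ hg' hx) =
      (awayMap 𝒜 (veronese_map_mem hdeg hg') hx').comp (θ hdeg g) := by
  ext z : 1
  apply val_injective
  simp only [RingHom.comp_apply]
  rw [val_θ, val_awayMap, val_awayMap, val_θ]
  generalize z.val = w
  have key : ((Localization.awayMap φ.toRingHom x).comp
      (Localization.awayLift (algebraMap B (Localization (Submonoid.powers x))) g
        (isUnit_of_dvd_unit (map_dvd _ ⟨_, hx⟩) (IsLocalization.Away.algebraMap_isUnit x)))) =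
      (Localization.awayLift (algebraMap A (Localization (Submonoid.powers (φ x)))) (φ g)
        (isUnit_of_dvd_unit (map_dvd _ ⟨_, hx'⟩)
          (IsLocalization.Away.algebraMap_isUnit (φ x)))).comp
        (Localization.awayMap φ.toRingHom g) := by
    apply IsLocalization.ringHom_ext (Submonoid.powers g)
    ext b
    simp [Localization.awayMap, IsLocalization.Away.map, Localization.awayLift]
  exact congr($key w)

theorem θ_square_symm (hφ : Function.Injective φ) (g g' x : B) (hx : x = g * g') {n n' : ℕ}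
    (hg : g ∈ ℬ n) (hg' : g' ∈ ℬ n') (hxm : x ∈ ℬ (n + n'))
    (hx' : φ x = φ g * φ g') :
    (awayMap ℬ hg' hx).comp (θEquiv (𝒜 := 𝒜) hdeg hφ g hg).symm.toRingHom =
      (θEquiv (𝒜 := 𝒜) hdeg hφ x hxm).symm.toRingHom.comp
        (awayMap 𝒜 (veronese_map_mem hdeg hg') hx') := by
  refine RingHom.ext fun y => ?_
  obtain ⟨z, rfl⟩ := (θEquiv (𝒜 := 𝒜) hdeg hφ g hg).surjective y
  simp only [RingHom.comp_apply, RingEquiv.toRingHom_eq_coe, RingHom.coe_coe,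
    RingEquiv.symm_apply_apply]
  rw [RingEquiv.eq_symm_apply]
  exact congr($(θ_square (𝒜 := 𝒜) hdeg g g' x hx hg' hx') z)

end Theta

section Geom

variable {R A : Type u} [CommRing R] [CommRing A] [Algebra R A] (𝒜 : ℕ → Submodule R A)
    [GradedAlgebra 𝒜]
    {B : Type u} [CommRing B] [Algebra R B] (ℬ : ℕ → Submodule R B) [GradedAlgebra ℬ]
    {d : ℕ} (hd : 0 < d) {φ : B →ₐ[R] A} (hφ : Function.Injective φ)
    (hdeg : ∀ n : ℕ, Submodule.map φ.toLinearMap (ℬ n) = 𝒜 (n * d))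

include hd hdeg in
theorem exists_mem_basicOpen (x : Proj 𝒜) :
    ∃ (n : ℕ) (g : B), 0 < n ∧ g ∈ ℬ n ∧ x ∈ Proj.basicOpen 𝒜 (φ g) := by
  have hx0 := (Proj.affineOpenCover 𝒜).covers x
  generalize (Proj.affineOpenCover 𝒜).idx x = i at hx0
  rw [Proj.affineOpenCover_f] at hx0
  have hx : x ∈ (Proj.awayι 𝒜 (i.2 : A) i.2.2 i.1.2).opensRange := hx0
  rw [Proj.opensRange_awayι] at hx
  have h1 : (i.2 : A) ^ d ∈ 𝒜 ((i.1 : ℕ) * d) := by
    have := SetLike.pow_mem_graded d i.2.2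
    simpa [mul_comm] using this
  obtain ⟨b, hb, hb'⟩ := veronese_exists_of_mem hdeg h1
  refine ⟨i.1, b, i.1.2, hb, ?_⟩
  rw [hb', Proj.basicOpen_pow _ _ _ hd]
  exact hx

/-- The open cover of `Proj 𝒜` by the `D₊(φ g)`. -/
noncomputable def cover : (Proj 𝒜).OpenCover :=
  Scheme.Cover.mkOfCovers (Σ n : ℕ+, ℬ n) (fun i => Spec (.of (Away 𝒜 (φ i.2))))
    (fun i => Proj.awayι 𝒜 (φ i.2) (veronese_map_mem hdeg i.2.2) (Nat.mul_pos i.1.2 hd))
    (fun x => by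
      obtain ⟨n, g, hn, hg, hx⟩ := exists_mem_basicOpen 𝒜 ℬ hd hdeg x
      rw [← Proj.opensRange_awayι 𝒜 (φ g) (veronese_map_mem hdeg hg) (Nat.mul_pos hn hd)] at hx
      obtain ⟨y, hy⟩ := hx
      exact ⟨⟨⟨n, hn⟩, ⟨g, hg⟩⟩, y, hy⟩)
    (fun i => inferInstance)

variable {ℬ} in
theorem key1 {n n' : ℕ} (hn : 0 < n) {g g' x : B} (hg : g ∈ ℬ n) (hg' : g' ∈ ℬ n')
    (hx : x = g * g') (hx' : φ x = φ g * φ g') :
    Spec.map (CommRingCat.ofHom (awayMap 𝒜 (veronese_map_mem hdeg hg') hx')) ≫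
      Spec.map (CommRingCat.ofHom (θ hdeg g)) ≫ Proj.awayι ℬ g hg hn =
    Spec.map (CommRingCat.ofHom (θ hdeg x)) ≫
      Proj.awayι ℬ x (hx ▸ SetLike.mul_mem_graded hg hg') (hn.trans_le (n.le_add_right n')) := by
  rw [← Proj.SpecMap_awayMap_awayι ℬ hg hn hg' hx, ← Spec.map_comp_assoc, ← Spec.map_comp_assoc,
    ← CommRingCat.ofHom_comp, ← CommRingCat.ofHom_comp, θ_square hdeg g g' x hx hg' hx']

/-- The local pieces of the morphism `Proj 𝒜 ⟶ Proj ℬ`. -/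
noncomputable def homLoc (i : Σ n : ℕ+, ℬ n) : Spec (.of (Away 𝒜 (φ i.2))) ⟶ Proj ℬ :=
  Spec.map (CommRingCat.ofHom (θ (𝒜 := 𝒜) (ℬ := ℬ) (φ := φ) hdeg (i.2 : B))) ≫
    Proj.awayι ℬ (i.2 : B) i.2.2 i.1.2

theorem homLoc_compat (i j : Σ n : ℕ+, ℬ n) :
    pullback.fst ((cover 𝒜 ℬ hd hdeg).f i) ((cover 𝒜 ℬ hd hdeg).f j) ≫ homLoc 𝒜 ℬ hdeg i =
      pullback.snd _ _ ≫ homLoc 𝒜 ℬ hdeg j := by
  have hx' : φ ((i.2 : B) * j.2) = φ i.2 * φ j.2 := map_mul φ _ _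
  let P := Proj.pullbackAwayιIso 𝒜 (veronese_map_mem hdeg i.2.2) (Nat.mul_pos i.1.2 hd)
    (veronese_map_mem hdeg j.2.2) (Nat.mul_pos j.1.2 hd) hx'
  change pullback.fst (Proj.awayι 𝒜 _ _ _) (Proj.awayι 𝒜 _ _ _) ≫ _ = pullback.snd _ _ ≫ _
  rw [← cancel_epi P.inv]
  unfold homLoc
  rw [Proj.pullbackAwayιIso_inv_fst_assoc, Proj.pullbackAwayιIso_inv_snd_assoc]
  refine (key1 𝒜 hdeg i.1.2 i.2.2 j.2.2 rfl hx').trans ?_
  exact (key1 𝒜 hdeg j.1.2 j.2.2 i.2.2 (mul_comm _ _) (hx'.trans (mul_comm _ _))).symm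

/-- The morphism `Proj 𝒜 ⟶ Proj ℬ`. -/
noncomputable def hom : Proj 𝒜 ⟶ Proj ℬ :=
  (cover 𝒜 ℬ hd hdeg).glueMorphisms (homLoc 𝒜 ℬ hdeg) (homLoc_compat 𝒜 ℬ hd hdeg)

theorem awayι_hom {n : ℕ} (hn : 0 < n) {g : B} (hg : g ∈ ℬ n) :
    Proj.awayι 𝒜 (φ g) (veronese_map_mem hdeg hg) (Nat.mul_pos hn hd) ≫ hom 𝒜 ℬ hd hdeg =
      Spec.map (CommRingCat.ofHom (θ hdeg g)) ≫ Proj.awayι ℬ g hg hn :=
  (cover 𝒜 ℬ hd hdeg).ι_glueMorphisms (homLoc 𝒜 ℬ hdeg) (homLoc_compat 𝒜 ℬ hd hdeg)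
    ⟨⟨n, hn⟩, ⟨g, hg⟩⟩

variable {ℬ} in
theorem key2 {n n' : ℕ} (hn : 0 < n) {g g' x : B} (hg : g ∈ ℬ n) (hg' : g' ∈ ℬ n')
    (hx : x = g * g') (hxm : x ∈ ℬ (n + n')) (hx' : φ x = φ g * φ g') :
    Spec.map (CommRingCat.ofHom (awayMap ℬ hg' hx)) ≫
      Spec.map (CommRingCat.ofHom (θEquiv (𝒜 := 𝒜) hdeg hφ g hg).symm.toRingHom) ≫
        Proj.awayι 𝒜 (φ g) (veronese_map_mem hdeg hg) (Nat.mul_pos hn hd) =
    Spec.map (CommRingCat.ofHom (θEquiv (𝒜 := 𝒜) hdeg hφ x hxm).symm.toRingHom) ≫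
      Proj.awayι 𝒜 (φ x) (veronese_map_mem hdeg hxm)
        (Nat.mul_pos (hn.trans_le (n.le_add_right n')) hd) := by
  have := Proj.SpecMap_awayMap_awayι 𝒜 (veronese_map_mem hdeg hg) (Nat.mul_pos hn hd)
    (veronese_map_mem hdeg hg') hx'
  refine Eq.trans ?_ (congrArg (fun t => Spec.map (CommRingCat.ofHom
    (θEquiv (𝒜 := 𝒜) hdeg hφ x hxm).symm.toRingHom) ≫ t) this)
  rw [← Spec.map_comp_assoc, ← Spec.map_comp_assoc,
    ← CommRingCat.ofHom_comp, ← CommRingCat.ofHom_comp,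
    θ_square_symm hdeg hφ g g' x hx hg hg' hxm hx']

/-- The local pieces of the morphism `Proj ℬ ⟶ Proj 𝒜`. -/
noncomputable def invLoc (i : Σ n : ℕ+, ℬ n) : Spec (.of (Away ℬ (i.2 : B))) ⟶ Proj 𝒜 :=
  Spec.map (CommRingCat.ofHom
      (θEquiv (𝒜 := 𝒜) (ℬ := ℬ) (φ := φ) hdeg hφ (i.2 : B) i.2.2).symm.toRingHom) ≫
    Proj.awayι 𝒜 (φ i.2) (veronese_map_mem hdeg i.2.2) (Nat.mul_pos i.1.2 hd)

theorem invLoc_compat (i j : Σ n : ℕ+, ℬ n) :
    pullback.fst ((Proj.affineOpenCover ℬ).openCover.f i) ((Proj.affineOpenCover ℬ).openCover.f j) ≫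
        invLoc 𝒜 ℬ hd hφ hdeg i =
      pullback.snd _ _ ≫ invLoc 𝒜 ℬ hd hφ hdeg j := by
  have hx' : φ ((i.2 : B) * j.2) = φ i.2 * φ j.2 := map_mul φ _ _
  let P := Proj.pullbackAwayιIso ℬ i.2.2 i.1.2 j.2.2 j.1.2 (rfl : (i.2 : B) * j.2 = i.2 * j.2)
  change pullback.fst (Proj.awayι ℬ _ _ _) (Proj.awayι ℬ _ _ _) ≫ _ = pullback.snd _ _ ≫ _
  rw [← cancel_epi P.inv]
  unfold invLoc
  rw [Proj.pullbackAwayιIso_inv_fst_assoc, Proj.pullbackAwayιIso_inv_snd_assoc]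
  refine (key2 𝒜 hd hφ hdeg i.1.2 i.2.2 j.2.2 rfl (SetLike.mul_mem_graded i.2.2 j.2.2) hx').trans ?_
  exact (key2 𝒜 hd hφ hdeg j.1.2 j.2.2 i.2.2 (mul_comm _ _)
    (by rw [add_comm]; exact SetLike.mul_mem_graded i.2.2 j.2.2)
    (hx'.trans (mul_comm _ _))).symm

/-- The morphism `Proj ℬ ⟶ Proj 𝒜`. -/
noncomputable def inv : Proj ℬ ⟶ Proj 𝒜 :=
  (Proj.affineOpenCover ℬ).openCover.glueMorphisms (invLoc 𝒜 ℬ hd hφ hdeg)
    (invLoc_compat 𝒜 ℬ hd hφ hdeg)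

theorem awayι_inv {n : ℕ} (hn : 0 < n) {g : B} (hg : g ∈ ℬ n) :
    Proj.awayι ℬ g hg hn ≫ inv 𝒜 ℬ hd hφ hdeg =
      Spec.map (CommRingCat.ofHom (θEquiv (𝒜 := 𝒜) hdeg hφ g hg).symm.toRingHom) ≫
        Proj.awayι 𝒜 (φ g) (veronese_map_mem hdeg hg) (Nat.mul_pos hn hd) :=
  (Proj.affineOpenCover ℬ).openCover.ι_glueMorphisms (invLoc 𝒜 ℬ hd hφ hdeg)
    (invLoc_compat 𝒜 ℬ hd hφ hdeg) ⟨⟨n, hn⟩, ⟨g, hg⟩⟩

theorem θ_comp_symm {n : ℕ} {g : B} (hg : g ∈ ℬ n) :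
    CommRingCat.ofHom (θEquiv (𝒜 := 𝒜) hdeg hφ g hg).symm.toRingHom ≫
      CommRingCat.ofHom (θ (𝒜 := 𝒜) hdeg g) = 𝟙 _ := by
  apply CommRingCat.hom_ext
  refine RingHom.ext fun y => ?_
  exact (θEquiv (𝒜 := 𝒜) hdeg hφ g hg).apply_symm_apply y

theorem θ_symm_comp {n : ℕ} {g : B} (hg : g ∈ ℬ n) :
    CommRingCat.ofHom (θ (𝒜 := 𝒜) hdeg g) ≫
      CommRingCat.ofHom (θEquiv (𝒜 := 𝒜) hdeg hφ g hg).symm.toRingHom = 𝟙 _ := by
  apply CommRingCat.hom_ext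
  refine RingHom.ext fun y => ?_
  exact (θEquiv (𝒜 := 𝒜) hdeg hφ g hg).symm_apply_apply y

/-- The isomorphism `Proj 𝒜 ≅ Proj ℬ`. -/
noncomputable def iso : Proj 𝒜 ≅ Proj ℬ where
  hom := hom 𝒜 ℬ hd hdeg
  inv := inv 𝒜 ℬ hd hφ hdeg
  hom_inv_id := by
    refine (cover 𝒜 ℬ hd hdeg).hom_ext _ _ ?_
    rintro ⟨⟨n, hn⟩, ⟨g, hg⟩⟩
    replace hg : g ∈ ℬ n := hg
    change Proj.awayι 𝒜 (φ g) (veronese_map_mem hdeg hg) (Nat.mul_pos hn hd) ≫ _ =
      Proj.awayι 𝒜 (φ g) (veronese_map_mem hdeg hg) (Nat.mul_pos hn hd) ≫ _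
    rw [← Category.assoc, awayι_hom 𝒜 ℬ hd hdeg hn hg, Category.assoc,
      awayι_inv 𝒜 ℬ hd hφ hdeg hn hg, ← Category.assoc, ← Spec.map_comp,
      θ_comp_symm 𝒜 ℬ hφ hdeg hg, Spec.map_id, Category.id_comp, Category.comp_id]
  inv_hom_id := by
    refine (Proj.affineOpenCover ℬ).openCover.hom_ext _ _ ?_
    rintro ⟨⟨n, hn⟩, ⟨g, hg⟩⟩
    replace hg : g ∈ ℬ n := hg
    change Proj.awayι ℬ g hg hn ≫ _ = Proj.awayι ℬ g hg hn ≫ _
    rw [← Category.assoc, awayι_inv 𝒜 ℬ hd hφ hdeg hn hg, Category.assoc,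
      awayι_hom 𝒜 ℬ hd hdeg hn hg, ← Category.assoc, ← Spec.map_comp,
      θ_symm_comp 𝒜 ℬ hφ hdeg hg, Spec.map_id, Category.id_comp, Category.comp_id]

theorem hom_mem_basicOpen {k : ℕ} (hk : 0 < k) {b : B} (hb : b ∈ ℬ k) (p : Proj 𝒜)
    (hp : p ∈ Proj.basicOpen 𝒜 (φ b)) : (hom 𝒜 ℬ hd hdeg) p ∈ Proj.basicOpen ℬ b := by
  rw [← Proj.opensRange_awayι 𝒜 (φ b) (veronese_map_mem hdeg hb) (Nat.mul_pos hk hd)] at hp
  obtain ⟨y, rfl⟩ := hp
  rw [← Proj.opensRange_awayι ℬ b hb hk]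
  rw [← Scheme.Hom.comp_apply, awayι_hom 𝒜 ℬ hd hdeg hk hb, Scheme.Hom.comp_apply]
  exact ⟨_, rfl⟩

theorem inv_mem_basicOpen {k : ℕ} (hk : 0 < k) {b : B} (hb : b ∈ ℬ k) (q : Proj ℬ)
    (hq : q ∈ Proj.basicOpen ℬ b) : (inv 𝒜 ℬ hd hφ hdeg) q ∈ Proj.basicOpen 𝒜 (φ b) := by
  rw [← Proj.opensRange_awayι ℬ b hb hk] at hq
  obtain ⟨y, rfl⟩ := hq
  rw [← Proj.opensRange_awayι 𝒜 (φ b) (veronese_map_mem hdeg hb) (Nat.mul_pos hk hd)]
  rw [← Scheme.Hom.comp_apply, awayι_inv 𝒜 ℬ hd hφ hdeg hk hb, Scheme.Hom.comp_apply]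
  exact ⟨_, rfl⟩

include hφ in
theorem mem_hom_iff_pos {k : ℕ} (hk : 0 < k) {b : B} (hb : b ∈ ℬ k) (p : Proj 𝒜) :
    b ∈ ((hom 𝒜 ℬ hd hdeg) p).asHomogeneousIdeal ↔ φ b ∈ p.asHomogeneousIdeal := by
  rw [← not_iff_not, ← Proj.mem_basicOpen, ← Proj.mem_basicOpen]
  constructor
  · intro h
    have := inv_mem_basicOpen 𝒜 ℬ hd hφ hdeg hk hb _ h
    rw [← Scheme.Hom.comp_apply] at this
    have h2 : hom 𝒜 ℬ hd hdeg ≫ inv 𝒜 ℬ hd hφ hdeg = 𝟙 _ := (iso 𝒜 ℬ hd hφ hdeg).hom_inv_id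
    rw [h2] at this
    exact this
  · exact hom_mem_basicOpen 𝒜 ℬ hd hdeg hk hb p

include hφ in
theorem mem_hom_iff {k : ℕ} {b : B} (hb : b ∈ ℬ k) (p : Proj 𝒜) :
    b ∈ ((hom 𝒜 ℬ hd hdeg) p).asHomogeneousIdeal.toIdeal ↔
      φ b ∈ p.asHomogeneousIdeal.toIdeal := by
  rcases Nat.eq_zero_or_pos k with rfl | hk
  · obtain ⟨n, g, hn, hg, hx⟩ := exists_mem_basicOpen 𝒜 ℬ hd hdeg p
    have hgp : φ g ∉ p.asHomogeneousIdeal.toIdeal := (Proj.mem_basicOpen _ _ _).mp hx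
    have hgq : g ∉ ((hom 𝒜 ℬ hd hdeg) p).asHomogeneousIdeal.toIdeal := by
      intro h
      exact hgp ((mem_hom_iff_pos 𝒜 ℬ hd hφ hdeg hn hg p).mp h)
    have hbg : b * g ∈ ℬ (0 + n) := SetLike.mul_mem_graded hb hg
    have key := mem_hom_iff_pos 𝒜 ℬ hd hφ hdeg (by omega : 0 < 0 + n) hbg p
    rw [map_mul] at key
    have hq : (((hom 𝒜 ℬ hd hdeg) p).asHomogeneousIdeal.toIdeal).IsPrime :=
      ((hom 𝒜 ℬ hd hdeg) p).isPrime
    have hp' : p.asHomogeneousIdeal.toIdeal.IsPrime := p.isPrime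
    constructor
    · intro h
      have h1 : φ b * φ g ∈ p.asHomogeneousIdeal.toIdeal := key.mp (Ideal.mul_mem_right _ _ h)
      exact (hp'.mem_or_mem h1).resolve_right hgp
    · intro h
      have h1 : b * g ∈ ((hom 𝒜 ℬ hd hdeg) p).asHomogeneousIdeal.toIdeal :=
        key.mpr (Ideal.mul_mem_right _ _ h)
      exact (hq.mem_or_mem h1).resolve_right hgq
  · exact mem_hom_iff_pos 𝒜 ℬ hd hφ hdeg hk hb p

include hd hdeg in
theorem decompose_map (x : B) (i : ℕ) :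
    (DirectSum.decompose 𝒜 (φ x) (i * d) : A) = φ (DirectSum.decompose ℬ x i : B) := by
  induction x using DirectSum.Decomposition.inductionOn ℬ with
  | zero => simp
  | @homogeneous j m =>
    have hm : φ (m : B) ∈ 𝒜 (j * d) := veronese_map_mem hdeg m.2
    by_cases hji : j = i
    · subst hji
      rw [DirectSum.decompose_of_mem_same 𝒜 hm, DirectSum.decompose_of_mem_same ℬ m.2]
    · have hne : j * d ≠ i * d := fun h => hji (Nat.eq_of_mul_eq_mul_right hd h)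
      rw [DirectSum.decompose_of_mem_ne 𝒜 hm hne, DirectSum.decompose_of_mem_ne ℬ m.2 hji,
        map_zero]
  | add m m' h h' =>
    rw [map_add, DirectSum.decompose_add, DirectSum.decompose_add, DirectSum.add_apply,
      DirectSum.add_apply, Submodule.coe_add, Submodule.coe_add, map_add, h, h']

include hφ in
theorem hom_asIdeal (p : Proj 𝒜) :
    ((hom 𝒜 ℬ hd hdeg) p).asHomogeneousIdeal.toIdeal =
      Ideal.comap φ p.asHomogeneousIdeal.toIdeal := by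
  classical
  ext x
  rw [Ideal.mem_comap]
  constructor
  · intro hx
    rw [← DirectSum.sum_support_decompose ℬ x, map_sum]
    refine Ideal.sum_mem _ fun i _ => ?_
    refine (mem_hom_iff 𝒜 ℬ hd hφ hdeg (SetLike.coe_mem _) p).mp ?_
    exact ((hom 𝒜 ℬ hd hdeg) p).asHomogeneousIdeal.isHomogeneous i hx
  · intro hx
    rw [← DirectSum.sum_support_decompose ℬ x]
    refine Ideal.sum_mem _ fun i _ => ?_
    refine (mem_hom_iff 𝒜 ℬ hd hφ hdeg (SetLike.coe_mem _) p).mpr ?_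
    rw [← decompose_map 𝒜 ℬ hd hdeg x i]
    exact p.asHomogeneousIdeal.isHomogeneous (i * d) hx

end Geom

/-- Let S be a graded ring, d > 0, and S^{(d)} the graded ring with S^{(d)}_n = S_{nd} (here: any graded
ring S' with an injective algebra homomorphism φ : S' → S carrying S'_n onto S_{nd} for every n).
Then there is an isomorphism of schemes Proj S ≅ Proj S^{(d)} sending a homogeneous prime p to
φ⁻¹(p), and which over each standard open D_+(g), g ∈ S'_n with n > 0, is induced by the ring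
isomorphism S'_(g) ≅ S_(φ g), b/g^k ↦ φ(b)/φ(g)^k; precisely: for every ring map θ : S'_(g) → S_(φ
g) compatible with b/g^k ↦ φ(b)/φ(g)^k inside the localizations, the composite of Spec S_(φ g) →
Proj S with the isomorphism equals Spec θ followed by Spec S'_(g) → Proj S'. -/
theorem result {R A : Type u} [CommRing R] [CommRing A] [Algebra R A] (𝒜 : ℕ → Submodule R A) [GradedAlgebra 𝒜]
    {B : Type u} [CommRing B] [Algebra R B] (ℬ : ℕ → Submodule R B) [GradedAlgebra ℬ]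
    (d : ℕ) (hd : 0 < d) (φ : B →ₐ[R] A) (hφ : Function.Injective φ)
    (hdeg : ∀ n : ℕ, Submodule.map φ.toLinearMap (ℬ n) = 𝒜 (n * d)) :
    ∃ e : Proj 𝒜 ≅ Proj ℬ,
      (∀ p : Proj 𝒜, (e.hom.base p).asHomogeneousIdeal.toIdeal = Ideal.comap φ p.asHomogeneousIdeal.toIdeal) ∧
      ∀ (n : ℕ) (g : B) (hn : 0 < n) (hg : g ∈ ℬ n)
        (θ : CommRingCat.of (HomogeneousLocalization.Away ℬ g) ⟶ CommRingCat.of (HomogeneousLocalization.Away 𝒜 (φ g))),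
        (algebraMap (HomogeneousLocalization.Away 𝒜 (φ g)) (Localization.Away (φ g))).comp θ.hom =
          (Localization.awayMap φ.toRingHom g).comp
            (algebraMap (HomogeneousLocalization.Away ℬ g) (Localization.Away g)) →
        Proj.awayι 𝒜 (φ g) ((hdeg n).le (Submodule.mem_map_of_mem hg)) (Nat.mul_pos hn hd) ≫ e.hom =
          Spec.map θ ≫ Proj.awayι ℬ g hg hn := by
  refine ⟨iso 𝒜 ℬ hd hφ hdeg, fun p => hom_asIdeal 𝒜 ℬ hd hφ hdeg p, ?_⟩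
  intro n g hn hg θ' hθ'
  have h1 : θ' = CommRingCat.ofHom (θ hdeg g) := by
    apply CommRingCat.hom_ext
    exact θ_unique hdeg g θ'.hom hθ'
  rw [h1]
  exact awayι_hom 𝒜 ℬ hd hdeg hn hg


end Groth.Agent.S3580
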