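import Groth.Statements.S3583
import Groth.Agent.S3570
import Mathlib.AlgebraicGeometry.Morphisms.ClosedImmersion
-- import your own Groth.Agent.* helpers here

set_option autoImplicit false
universe u
open CategoryTheory AlgebraicGeometry Opposite
open EGA2

namespace Groth.Agent.S3583

/-- In the form stated after its proof: let f : X → S and f' : X' → S be affine morphisms and h : X' → X
an S-morphism such that the O_S-algebra homomorphism A(h) : f_*O_X → f'_*O_{X'} is surjective (as a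
map of quasi-coherent O_S-modules, i.e. on sections over every affine open of S). Then h is a closed
immersion. -/
theorem result {X X' S : Scheme.{u}} (f : X ⟶ S) [IsAffineHom f]
    (f' : X' ⟶ S) [IsAffineHom f'] (h : X' ⟶ X) (w : h ≫ f = f')
    (hsurj : ∀ U : S.affineOpens, Function.Surjective ((AffAlg.algHom f f' h w).app (op U.1)).hom) :
    IsClosedImmersion h := by
  have hcover : (⨆ V : S.affineOpens, f ⁻¹ᵁ V.1) = ⊤ := by
    rw [← Scheme.Hom.preimage_iSup, iSup_affineOpens_eq_top, Scheme.Hom.preimage_top]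
  rw [IsZariskiLocalAtTarget.iff_of_iSup_eq_top (P := @IsClosedImmersion) _ hcover]
  intro V
  have hU : IsAffineOpen (f ⁻¹ᵁ V.1) := V.2.preimage f
  have hU' : IsAffineOpen (h ⁻¹ᵁ f ⁻¹ᵁ V.1) := by
    have : IsAffineOpen (f' ⁻¹ᵁ V.1) := V.2.preimage f'
    subst w
    exact this
  have : IsAffine (f ⁻¹ᵁ V.1) := hU
  have : IsAffine (h ⁻¹ᵁ f ⁻¹ᵁ V.1) := hU'
  apply IsClosedImmersion.of_surjective_of_isAffine
  have h1 := hsurj V
  rw [Groth.Agent.S3570.algHom_app] at h1
  have h2 : Function.Surjective (h.app (f ⁻¹ᵁ V.1)).hom := by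
    have hbij := ConcreteCategory.bijective_of_isIso
      (X'.presheaf.map (eqToHom (show f' ⁻¹ᵁ V.1 = h ⁻¹ᵁ f ⁻¹ᵁ V.1 by subst w; rfl)).op)
    intro y
    obtain ⟨x, hx⟩ := h1 (X'.presheaf.map (eqToHom (show f' ⁻¹ᵁ V.1 = h ⁻¹ᵁ f ⁻¹ᵁ V.1 by
      subst w; rfl)).op y)
    exact ⟨x, hbij.1 hx⟩
  rw [morphismRestrict_appTop]
  have e : (f ⁻¹ᵁ V.1).ι ''ᵁ ⊤ = f ⁻¹ᵁ V.1 := Scheme.Opens.ι_image_top _
  rw [Scheme.Hom.app_eq h e]
  have hcomp : ∀ {A B C : CommRingCat.{u}} (a : A ⟶ B) (b : B ⟶ C),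
      Function.Surjective (ConcreteCategory.hom a) → Function.Surjective (ConcreteCategory.hom b) →
      Function.Surjective (ConcreteCategory.hom (a ≫ b)) := by
    intro A B C a b ha hb
    exact hb.comp ha
  have hiso : ∀ {A B : CommRingCat.{u}} (a : A ⟶ B) (_ : IsIso a),
      Function.Surjective (ConcreteCategory.hom a) :=
    fun a _ => (ConcreteCategory.bijective_of_isIso a).2
  refine hcomp _ _ (hcomp _ _ (hiso _ ?_) (hcomp _ _ h2 (hiso _ ?_))) (hiso _ ?_)
  · exact (inferInstance : IsIso (X.presheaf.map (eqToHom _).op))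
  · exact (inferInstance : IsIso (X'.presheaf.map (eqToHom _).op))
  · exact (inferInstance : IsIso (X'.presheaf.map (eqToHom _).op))

end Groth.Agent.S3583
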