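import Groth.Statements.S3585
import Groth.Agent.Lib.Helper17.ProjEmbed
import Groth.Agent.Lib.Helper17.ProjClosed
import Groth.Agent.Lib.Helper17.ProjSpaceProper
import Groth.Agent.Lib.Helper42.ProjMap

set_option autoImplicit false
universe u
open CategoryTheory CategoryTheory.Limits AlgebraicGeometry
open EGA2

namespace Groth.Agent.S3585

/-- Let A be a ring and f : X → Spec A a proper morphism, and suppose X carries an invertible O_X-module
which is ample relative to f (so f is quasi-projective). Then f is projective: X is isomorphic over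
Spec A to Proj S for some graded A-algebra S whose degree-zero part is the image of A and whose
irrelevant ideal is generated by finitely many elements of degree one. -/
theorem result {A : Type u} [CommRing A] {X : Scheme.{u}}
    (f : X ⟶ Spec (CommRingCat.of A)) [IsProper f]
    (L : X.Modules) (hL : PicF.IsInvertible L) (hamp : RelAmple.IsRelAmple f L) :
    ∃ (S : Type u) (_ : CommRing S) (_ : Algebra A S) (𝒮 : ℕ → Submodule A S) (_ : GradedAlgebra 𝒮) (s : Finset S),
      Function.Surjective (algebraMap A (𝒮 0)) ∧ (∀ g ∈ s, g ∈ 𝒮 1) ∧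
      (HomogeneousIdeal.irrelevant 𝒮).toIdeal = Ideal.span (s : Set S) ∧
      ∃ e : X ≅ Proj 𝒮, e.hom ≫ Proj.toSpecZero 𝒮 ≫ Spec.map (CommRingCat.ofHom (algebraMap A (𝒮 0))) = f := by
  classical
  open Groth.Agent.Lib.Helper17 in
  have hLa : CohB1.IsAmple L := (Groth.Agent.S4381.result f L).mp hamp
  obtain ⟨M, n, r₀, hcl₀, hr₀, -⟩ := ProjEmbed.exists_closedImmersion_projSpace f L hLa
  obtain ⟨r, hcl, hr⟩ : ∃ r : X ⟶ Proj (CohB1.polyGrading n A), IsClosedImmersion r ∧
      r ≫ Proj.toSpecZero (CohB1.polyGrading n A) ≫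
        Spec.map (CommRingCat.ofHom (algebraMap A (CohB1.polyGrading n A 0))) = f :=
    ⟨r₀, hcl₀, hr₀⟩
  haveI : IsClosedImmersion r := hcl
  let 𝒜 := CohB1.polyGrading n A
  have hf : ∀ c : Fin (n + 1), PnSections.T n A c ∈ 𝒜 1 := PnSections.T_mem n A
  have hirr : (HomogeneousIdeal.irrelevant 𝒜).toIdeal =
      Ideal.span (Set.range (PnSections.T n A)) := by
    apply le_antisymm
    · intro p hp
      rw [HomogeneousIdeal.mem_iff, HomogeneousIdeal.mem_irrelevant_iff] at hp
      have : Set.range (PnSections.T n A) =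
          (MvPolynomial.X : Fin (n + 1) → MvPolynomial (Fin (n + 1)) A) '' Set.univ := by
        rw [Set.image_univ]
      rw [this, MvPolynomial.mem_ideal_span_X_image]
      intro m hm
      by_contra h
      push Not at h
      have hm0 : m = 0 := by
        ext i
        simpa using h i (Set.mem_univ i)
      subst hm0
      have h1 : GradedRing.proj (CohB1.polyGrading n A) 0 p =
          MvPolynomial.homogeneousComponent 0 p :=
        MvPolynomial.decomposition.decompose'_apply p 0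
      rw [h1, MvPolynomial.homogeneousComponent_zero] at hp
      rw [MvPolynomial.mem_support_iff] at hm
      apply hm
      simpa using congrArg (MvPolynomial.coeff 0) hp
    · rw [Ideal.span_le]
      rintro _ ⟨i, rfl⟩
      exact HomogeneousIdeal.mem_irrelevant_of_mem _ one_pos (hf i)
  let I : Ideal (MvPolynomial (Fin (n + 1)) A) := PC.idealOf 𝒜 r.ker (PnSections.T n A) hf
  have hI : I.IsHomogeneous 𝒜 := PC.idealOf_isHomogeneous 𝒜 r.ker _ hf
  let inst : GradedAlgebra (GQ.grading 𝒜 I) := GQ.gradedAlgebra 𝒜 I hI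
  have hsurj : Function.Surjective (GQ.quotHom 𝒜 I) := GQ.quotHom_surjective 𝒜 I
  have hφ : HomogeneousIdeal.irrelevant (GQ.grading 𝒜 I) ≤
      (HomogeneousIdeal.irrelevant 𝒜).map (GQ.quotHom 𝒜 I) :=
    PC.irrelevant_le_map_of_surjective 𝒜 _ hsurj
  have hclm : IsClosedImmersion (Proj.map (GQ.quotHom 𝒜 I) hφ) :=
    PC.isClosedImmersion_map_of_surjective 𝒜 _ hsurj hφ
  have hker : (Proj.map (GQ.quotHom 𝒜 I) hφ).ker = r.ker :=
    PC.ker_map_quotHom 𝒜 r.ker _ hf hirr.le hφ
  have hiso : IsIso (IsClosedImmersion.lift (Proj.map (GQ.quotHom 𝒜 I) hφ) r hker.le) :=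
    IsClosedImmersion.isIso_lift _ _ hker
  refine ⟨MvPolynomial (Fin (n + 1)) A ⧸ I, inferInstance, inferInstance, GQ.grading 𝒜 I, inst,
    Finset.univ.image (fun c => GQ.quotHom 𝒜 I (PnSections.T n A c)), ?_, ?_, ?_,
    asIso (IsClosedImmersion.lift (Proj.map (GQ.quotHom 𝒜 I) hφ) r hker.le), ?_⟩
  · -- degree zero part
    rintro ⟨b, hb⟩
    obtain ⟨p, hp, rfl⟩ := GQ.exists_of_mem_grading 𝒜 I hb
    obtain ⟨a, ha⟩ := ProjSpaceProper.algebraMap_polyGrading_zero_surjective n A ⟨p, hp⟩
    refine ⟨a, Subtype.ext ?_⟩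
    have h2 : (algebraMap A (MvPolynomial (Fin (n + 1)) A)) a = p := congrArg Subtype.val ha
    change algebraMap A (MvPolynomial (Fin (n + 1)) A ⧸ I) a = Ideal.Quotient.mk I p
    rw [← h2]
    rfl
  · intro g hg
    obtain ⟨c, -, rfl⟩ := Finset.mem_image.mp hg
    exact GQ.mk_mem_grading 𝒜 I (hf c)
  · apply le_antisymm
    · have h1 : (HomogeneousIdeal.irrelevant (GQ.grading 𝒜 I)).toIdeal ≤
          ((HomogeneousIdeal.irrelevant 𝒜).map (GQ.quotHom 𝒜 I)).toIdeal := hφ
      rw [HomogeneousIdeal.toIdeal_map, hirr, Ideal.map_span] at h1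
      refine h1.trans (Ideal.span_mono ?_)
      rintro _ ⟨_, ⟨c, rfl⟩, rfl⟩
      exact Finset.mem_coe.mpr (Finset.mem_image.mpr ⟨c, Finset.mem_univ c, rfl⟩)
    · rw [Ideal.span_le]
      intro g hg
      obtain ⟨c, -, rfl⟩ := Finset.mem_image.mp (Finset.mem_coe.mp hg)
      exact HomogeneousIdeal.mem_irrelevant_of_mem _ one_pos (GQ.mk_mem_grading 𝒜 I (hf c))
  · change IsClosedImmersion.lift (Proj.map (GQ.quotHom 𝒜 I) hφ) r hker.le ≫ _ = f
    have h1 : IsClosedImmersion.lift (Proj.map (GQ.quotHom 𝒜 I) hφ) r hker.le ≫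
        Proj.map (GQ.quotHom 𝒜 I) hφ = r := IsClosedImmersion.lift_fac _ _ _
    have h2 := Groth.Agent.Lib.Helper42.map_toSpecZero (GQ.quotHom 𝒜 I) hφ
    rw [← hr]
    conv_rhs => rw [← h1]
    rw [Category.assoc, reassoc_of% h2, ← Spec.map_comp, ← CommRingCat.ofHom_comp]
    rfl

end Groth.Agent.S3585
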