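import Groth.Statements.S3590
import Groth.Agent.Lib.Helper17.UPSecKernel
import Groth.Agent.Lib.Helper17.UPInvSpec
import Groth.Agent.Lib.Helper17.UPTildeInv
import Groth.Agent.Lib.Helper17.UPExist2

set_option autoImplicit false
universe u
open CategoryTheory CategoryTheory.Limits AlgebraicGeometry
open EGA2

namespace Groth.Agent.S3590
open Groth.Agent.Lib.Helper17 Groth.Agent.Lib.Helper17.UPSecKernel Groth.Agent.Lib.Helper17.UPSpec
  Groth.Agent.Lib.Helper17.UPCoef Groth.Agent.Lib.Helper17.UPTildeInv

/-- For E = O_Y^{n+1} over an affine base Y = Spec R (image of the correspondence): a submodule F of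
R^{n+1} is the module of relations among the pulled-back coordinates of some section of projective
n-space over R if and only if the quotient R^{n+1}/F is an invertible R-module (projective, of rank
one at every prime). -/
theorem result {R : Type u} [CommRing R] (n : ℕ)
    (F : Submodule R (Fin (n + 1) → R)) :
    (∃ s : Spec (CommRingCat.of R) ⟶ CohB1.ProjSpace n R,
        s ≫ CohB1.ProjSpace.toSpec n R = 𝟙 _ ∧ ProjUP.secKernel n R s = F) ↔
      (Module.Projective R ((Fin (n + 1) → R) ⧸ F) ∧
        ∀ p : PrimeSpectrum R, Module.finrank (Localization.AtPrime p.asIdeal)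
          (LocalizedModule p.asIdeal.primeCompl ((Fin (n + 1) → R) ⧸ F)) = 1) := by
  constructor
  · rintro ⟨s, -, rfl⟩
    let e : ((Fin (n + 1) → R) ⧸ ProjUP.secKernel n R s) ≃ₗ[R] Γ(Ls n s, ⊤) :=
      Submodule.quotEquivOfEq _ _ (ker_piMap n s).symm ≪≫ₗ
        (piMap n s).quotKerEquivOfSurjective (piMap_surjective n s)
    have hP : Module.Projective R Γ(Ls n s, ⊤) :=
      UPInvSpec.projective_top (R := CommRingCat.of R) (Ls n s) (isInvertible_Ls n s)
    refine ⟨Module.Projective.of_equiv e.symm, fun p => ?_⟩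
    have h1 : Module.rankAtStalk (R := R) Γ(Ls n s, ⊤) p = 1 :=
      UPInvSpec.rankAtStalk_top (R := CommRingCat.of R) (Ls n s) (isInvertible_Ls n s) p
    have h2 := congrFun (Module.rankAtStalk_eq_of_equiv e) p
    exact h2.trans h1
  · rintro ⟨hproj, hrk⟩
    let Q : ModuleCat.{u} (CommRingCat.of R) := ModuleCat.of R ((Fin (n + 1) → R) ⧸ F)
    have : Module.Projective (CommRingCat.of R) Q := hproj
    have : Module.Finite (CommRingCat.of R) Q :=
      (inferInstance : Module.Finite R ((Fin (n + 1) → R) ⧸ F))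
    have hL : PicF.IsInvertible (tilde Q) := isInvertible_tilde Q hrk
    let π : (Fin (n + 1) → R) →ₗ[R] Γ(tilde Q, (⊤ : (Spec (CommRingCat.of R)).Opens)) :=
      (toOpenLin Q ⊤) ∘ₗ F.mkQ
    have hπsurj : Function.Surjective π :=
      (toOpenLin_top_bijective Q).2.comp (Submodule.mkQ_surjective F)
    have hπker : ∀ c, π c = 0 ↔ c ∈ F := by
      intro c
      constructor
      · intro h
        have h0 : toOpenLin Q ⊤ (F.mkQ c) = toOpenLin Q ⊤ 0 := by rw [map_zero]; exact h
        have h1 := (toOpenLin_top_bijective Q).1 h0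
        exact (Submodule.Quotient.mk_eq_zero F).mp h1
      · intro h
        have h1 : F.mkQ c = 0 := (Submodule.Quotient.mk_eq_zero F).mpr h
        change toOpenLin Q ⊤ (F.mkQ c) = 0
        rw [h1, map_zero]
    let s : Fin (n + 1) → ProjUP.Γm (tilde Q) := fun i => π (fun j => if i = j then 1 else 0)
    have hπs : ∀ c, π c = ∑ i, c i • s i := fun c => LinearMap.pi_apply_eq_sum_univ π c
    have hspan : Submodule.span R (Set.range s) = ⊤ := by
      rw [eq_top_iff]
      intro y _
      obtain ⟨c, rfl⟩ := hπsurj y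
      rw [hπs]
      exact Submodule.sum_mem _ fun i _ => Submodule.smul_mem _ _ (Submodule.subset_span ⟨i, rfl⟩)
    have hcov := UPInvSpec.cover_of_span (R := CommRingCat.of R) (tilde Q) hL s hspan
    obtain ⟨r, hr, τ, hτ⟩ := UPExist.exists_to_projSpace_of_cover n (𝟙 _) (tilde Q) s hcov
    refine ⟨r, hr, ?_⟩
    have hτlin : ∀ (c : R) (t : Γ(Ls n r, ⊤)), τ.hom.app ⊤ (c • t) = c • τ.hom.app ⊤ t := by
      intro c t
      exact Scheme.Modules.Hom.app_smul τ.hom _ t
    have key : ∀ c : Fin (n + 1) → R, τ.hom.app ⊤ (∑ i, c i • tsec n r i) = π c := by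
      intro c
      rw [hπs, map_sum]
      refine Finset.sum_congr rfl fun i _ => ?_
      rw [hτlin, hτ i]
    ext c
    rw [mem_secKernel_iff, ← hπker, ← key]
    constructor
    · intro h
      rw [h, map_zero]
    · intro h
      have hinj : Function.Injective (τ.hom.app ⊤) := by
        intro a b hab
        have h1 : ∀ a : Γ(Ls n r, ⊤), τ.inv.app ⊤ (τ.hom.app ⊤ a) = a := by
          intro a
          change (τ.hom ≫ τ.inv).app ⊤ a = a
          rw [τ.hom_inv_id]
          rfl
        rw [← h1 a, ← h1 b, hab]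
      apply hinj
      rw [h, map_zero]

end Groth.Agent.S3590
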