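import Groth.Statements.S3593
import Mathlib
-- import your own Groth.Agent.* helpers here

set_option autoImplicit false
universe u
open CategoryTheory CategoryTheory.Limits AlgebraicGeometry
open EGA2

namespace Groth.Agent.S3593

/-- Let S be a graded R-algebra, Ŝ a graded R-algebra with a graded homomorphism φ : S → Ŝ making Ŝ an
S-algebra, and z an element of Ŝ of degree one such that the S-algebra map S[X] → Ŝ, X ↦ z, is
bijective (so Ŝ = S[z] with z in degree one, the graded ring of the projective cone of S). Then
there is a ring isomorphism S ≅ Ŝ_(z) onto the degree-zero localization at z, sending a homogeneous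
a of degree n to φ(a)/z^n. (This is the isomorphism that identifies the affine cone Spec S with the
open D_+(z) of the projective cone Proj Ŝ; that identification itself is not asserted here.) -/
theorem result {R A : Type u} [CommRing R] [CommRing A] [Algebra R A] (𝒜 : ℕ → Submodule R A) [GradedAlgebra 𝒜]
    {B : Type u} [CommRing B] [Algebra R B] (ℬ : ℕ → Submodule R B) [GradedAlgebra ℬ]
    [Algebra A B] [IsScalarTower R A B] (φ : 𝒜 →+*ᵍ ℬ) (hφ : ∀ a : A, φ a = algebraMap A B a)
    (z : B) (hz : z ∈ ℬ 1) (hhat : Function.Bijective (Polynomial.aeval (R := A) z)) :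
    ∃ θ : A ≃+* HomogeneousLocalization.Away ℬ z,
      ∀ (n : ℕ) (a : A), a ∈ 𝒜 n → (θ a).val = Localization.mk (φ a) ⟨z ^ n, pow_mem (Submonoid.mem_powers z) n⟩ := by
  classical
  have hφmem : ∀ {m : ℕ} {a : A}, a ∈ 𝒜 m → algebraMap A B a ∈ ℬ m := by
    intro m a ha
    rw [← hφ]
    exact φ.map_mem ha
  let E : Polynomial A ≃ₐ[A] B := AlgEquiv.ofBijective (Polynomial.aeval z) hhat
  have hE : ∀ P, E P = Polynomial.aeval z P := fun P => rfl
  let ψ : B →ₐ[A] A := (Polynomial.aeval (1 : A)).comp E.symm.toAlgHom
  have hψE : ∀ P, ψ (E P) = Polynomial.aeval (1 : A) P := by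
    intro P
    simp [ψ]
  have hψz : ψ z = 1 := by
    have : z = E Polynomial.X := by rw [hE, Polynomial.aeval_X]
    rw [this, hψE, Polynomial.aeval_X]
  have hψalg : ∀ a, ψ (algebraMap A B a) = a := fun a => ψ.commutes a
  have hunit : IsUnit (ψ.toRingHom z) := by
    show IsUnit (ψ z)
    rw [hψz]
    exact isUnit_one
  let L : Localization.Away z →+* A := IsLocalization.Away.lift z hunit
  let θ' : HomogeneousLocalization.Away ℬ z →+* A :=
    L.comp (algebraMap (HomogeneousLocalization.Away ℬ z) (Localization.Away z))
  have hθ'mk : ∀ (n : ℕ) (b : B) (hb : b ∈ ℬ (n • 1)),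
      θ' (HomogeneousLocalization.Away.mk ℬ hz n b hb) = ψ b := by
    intro n b hb
    show L ((HomogeneousLocalization.Away.mk ℬ hz n b hb).val) = _
    rw [HomogeneousLocalization.Away.val_mk, Localization.mk_eq_mk']
    show IsLocalization.lift _ _ = _
    rw [IsLocalization.lift_mk'_spec]
    show ψ b = ψ (z ^ n) * ψ b
    rw [map_pow, hψz, one_pow, one_mul]
  
  have hsurj : Function.Surjective θ' := by
    intro a
    refine DirectSum.Decomposition.inductionOn 𝒜 ⟨0, map_zero _⟩ ?_ ?_ a
    · intro m a
      refine ⟨HomogeneousLocalization.Away.mk ℬ hz m (algebraMap A B a) ?_, ?_⟩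
      · rw [smul_eq_mul, mul_one]
        exact hφmem a.2
      · rw [hθ'mk, hψalg]
    · rintro a a' ⟨w, rfl⟩ ⟨w', rfl⟩
      exact ⟨w + w', map_add _ _ _⟩
  -- projections
  let α : ℕ → A →+ A := fun m => GradedRing.proj 𝒜 m
  have hα_mem : ∀ (m : ℕ) (a : A), α m a ∈ 𝒜 m := by
    intro m a
    show GradedRing.proj 𝒜 m a ∈ 𝒜 m
    rw [GradedRing.proj_apply]
    exact (DirectSum.decompose 𝒜 a m).2
  have hα_same : ∀ {m : ℕ} {a : A}, a ∈ 𝒜 m → α m a = a := by
    intro m a ha
    show GradedRing.proj 𝒜 m a = a
    rw [GradedRing.proj_apply]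
    exact DirectSum.decompose_of_mem_same 𝒜 ha
  have hα_ne : ∀ {m m' : ℕ} {a : A}, a ∈ 𝒜 m → m ≠ m' → α m' a = 0 := by
    intro m m' a ha hne
    show GradedRing.proj 𝒜 m' a = 0
    rw [GradedRing.proj_apply]
    exact DirectSum.decompose_of_mem_ne 𝒜 ha hne
  let Q : ℕ → Polynomial A → Polynomial A := fun n P =>
    ∑ j ∈ Finset.range (n + 1), Polynomial.monomial j (α (n - j) (P.coeff j))
  have hQadd : ∀ n P P', Q n (P + P') = Q n P + Q n P' := by
    intro n P P'
    simp only [Q, Polynomial.coeff_add, map_add, Finset.sum_add_distrib]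
  have key : ∀ n P, GradedRing.proj ℬ n (E P) = E (Q n P) := by
    intro n P
    induction P using Polynomial.induction_on' with
    | add P P' h h' => rw [map_add, map_add, hQadd, map_add, h, h']
    | monomial j a =>
      refine DirectSum.Decomposition.inductionOn 𝒜 ?_ ?_ ?_ a
      · simp [Q]
      · intro m a
        have hmem : E (Polynomial.monomial j (a : A)) ∈ ℬ (m + j) := by
          rw [hE, Polynomial.aeval_monomial]
          have := SetLike.mul_mem_graded (hφmem a.2) (SetLike.pow_mem_graded j hz)
          simpa using this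
        have hQ : Q n (Polynomial.monomial j (a : A)) =
            if m + j = n then Polynomial.monomial j (a : A) else 0 := by
          simp only [Q, Polynomial.coeff_monomial]
          by_cases hmj : m + j = n
          · rw [if_pos hmj, Finset.sum_eq_single j]
            · rw [if_pos rfl, hα_same]
              have : n - j = m := by omega
              rw [this]
              exact a.2
            · intro j' _ hne
              rw [if_neg (Ne.symm hne), map_zero, map_zero]
            · intro hj
              exfalso
              apply hj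
              rw [Finset.mem_range]
              omega
          · rw [if_neg hmj]
            apply Finset.sum_eq_zero
            intro j' hj'
            by_cases hjj : j = j'
            · subst hjj
              rw [if_pos rfl, hα_ne a.2 (by rw [Finset.mem_range] at hj'; omega), map_zero]
            · rw [if_neg hjj, map_zero, map_zero]
        by_cases hmj : m + j = n
        · rw [hQ, if_pos hmj, GradedRing.proj_apply]
          subst hmj
          exact DirectSum.decompose_of_mem_same ℬ hmem
        · rw [hQ, if_neg hmj, map_zero, GradedRing.proj_apply]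
          exact DirectSum.decompose_of_mem_ne ℬ hmem hmj
      · intro a a' h h'
        simp only [map_add, hQadd, h, h']
  have hinj : Function.Injective θ' := by
    rw [injective_iff_map_eq_zero]
    intro w hw
    obtain ⟨n, b, hb, rfl⟩ := HomogeneousLocalization.Away.mk_surjective ℬ hz w
    rw [hθ'mk] at hw
    have hb' : b ∈ ℬ n := by simpa using hb
    have hEP : E (E.symm b) = b := E.apply_symm_apply b
    generalize E.symm b = P at hEP
    have hPQ : P = Q n P := by
      apply E.injective
      rw [← key, hEP, GradedRing.proj_apply]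
      exact (DirectSum.decompose_of_mem_same ℬ hb').symm
    have hsum : ∑ j ∈ Finset.range (n + 1), α (n - j) (P.coeff j) = 0 := by
      rw [← hw, ← hEP, hψE]
      conv_rhs => rw [hPQ]
      simp [Q, Polynomial.aeval_monomial]
    have hzero : ∀ j ∈ Finset.range (n + 1), α (n - j) (P.coeff j) = 0 := by
      intro j hj
      have := congrArg (α (n - j)) hsum
      rw [map_sum, map_zero, Finset.sum_eq_single j] at this
      · rwa [hα_same (hα_mem _ _)] at this
      · intro j' hj' hne
        rw [Finset.mem_range] at hj hj'
        exact hα_ne (hα_mem _ _) (by omega)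
      · intro h
        exact absurd hj h
    have hP0 : P = 0 := by
      rw [hPQ]
      exact Finset.sum_eq_zero (fun j hj => by rw [hzero j hj, map_zero])
    have hb0 : b = 0 := by rw [← hEP, hP0, map_zero]
    subst hb0
    apply HomogeneousLocalization.val_injective
    rw [HomogeneousLocalization.Away.val_mk, HomogeneousLocalization.val_zero, Localization.mk_zero]
  refine ⟨(RingEquiv.ofBijective θ' ⟨hinj, hsurj⟩).symm, ?_⟩
  intro n a ha
  have hmem : φ a ∈ ℬ (n • 1) := by
    rw [smul_eq_mul, mul_one]
    exact φ.map_mem ha
  have : (RingEquiv.ofBijective θ' ⟨hinj, hsurj⟩).symm a =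
      HomogeneousLocalization.Away.mk ℬ hz n (φ a) hmem := by
    rw [RingEquiv.symm_apply_eq]
    show a = θ' _
    rw [hθ'mk, hφ, hψalg]
  rw [this, HomogeneousLocalization.Away.val_mk]

end Groth.Agent.S3593
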