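import Groth.Statements.S3594
-- import your own Groth.Agent.* helpers here

set_option autoImplicit false
universe u
open CategoryTheory CategoryTheory.Limits AlgebraicGeometry
open EGA2

namespace Groth.Agent.S3594

/-- In `Ŝ = S[z]`, every element differs from `φ (ψ b)` by a multiple of `z`. -/
theorem sub_mem_span {R A : Type u} [CommRing R] [CommRing A] [Algebra R A] (𝒜 : ℕ → Submodule R A)
    [GradedAlgebra 𝒜]
    {B : Type u} [CommRing B] [Algebra R B] (ℬ : ℕ → Submodule R B) [GradedAlgebra ℬ]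
    [Algebra A B] (φ : 𝒜 →+*ᵍ ℬ) (hφ : ∀ a : A, φ a = algebraMap A B a)
    (z : B) (hhat : Function.Bijective (Polynomial.aeval (R := A) z))
    (ψ : ℬ →+*ᵍ 𝒜) (hψφ : ∀ a : A, ψ (φ a) = a) (hψz : ψ z = 0) (b : B) :
    b - φ (ψ b) ∈ Ideal.span {z} := by
  obtain ⟨P, rfl⟩ := hhat.2 b
  have hP : Polynomial.aeval z P = algebraMap A B (P.coeff 0) + z * Polynomial.aeval z P.divX := by
    conv_lhs => rw [← Polynomial.divX_mul_X_add P]
    simp only [map_add, map_mul, Polynomial.aeval_X, Polynomial.aeval_C]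
    ring
  have h1 : ψ (Polynomial.aeval z P) = P.coeff 0 := by
    rw [hP, map_add, map_mul, hψz, zero_mul, add_zero, ← hφ, hψφ]
  rw [h1, hφ]
  nth_rewrite 1 [hP]
  rw [add_sub_cancel_left]
  exact Ideal.mul_mem_right _ _ (Ideal.mem_span_singleton_self z)

/-- The closed immersion at infinity of a projective cone: let S be a graded R-algebra and Ŝ a graded
R-algebra over S such that the structure map φ : S → Ŝ is a graded homomorphism and Ŝ = S[z] is the
polynomial algebra on an element z of degree one (evaluation at z is a bijection S[T] → Ŝ); let ψ :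
Ŝ → S be a graded homomorphism retracting φ and killing z, with S₊ contained in the ideal generated
by ψ(Ŝ₊) so that j = Proj(ψ) : X = Proj S → Ĉ = Proj Ŝ is defined (it is the canonical closed
immersion). Then the image of j is exactly the complement of the open subset D₊(z) of Proj Ŝ (which
is the affine cone C = Spec S). -/
theorem result {R A : Type u} [CommRing R] [CommRing A] [Algebra R A] (𝒜 : ℕ → Submodule R A) [GradedAlgebra 𝒜]
    {B : Type u} [CommRing B] [Algebra R B] (ℬ : ℕ → Submodule R B) [GradedAlgebra ℬ]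
    [Algebra A B] [IsScalarTower R A B] (φ : 𝒜 →+*ᵍ ℬ) (hφ : ∀ a : A, φ a = algebraMap A B a)
    (z : B) (hz : z ∈ ℬ 1) (hhat : Function.Bijective (Polynomial.aeval (R := A) z))
    (ψ : ℬ →+*ᵍ 𝒜) (hψφ : ∀ a : A, ψ (φ a) = a) (hψz : ψ z = 0)
    (hψ : HomogeneousIdeal.irrelevant 𝒜 ≤ (HomogeneousIdeal.irrelevant ℬ).map ψ) :
    Set.range (Proj.map ψ hψ).base = ((Proj.basicOpen ℬ z : Set (Proj ℬ)))ᶜ := by
  have hsub := sub_mem_span 𝒜 ℬ φ hφ z hhat ψ hψφ hψz
  apply Set.Subset.antisymm
  · rintro _ ⟨x, rfl⟩ hx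
    have h1 : x ∈ (Proj.map ψ hψ) ⁻¹ᵁ Proj.basicOpen ℬ z := hx
    rw [Proj.map_preimage_basicOpen, hψz] at h1
    rw [Proj.mem_basicOpen] at h1
    exact h1 (zero_mem _)
  · intro q hq
    have hzq : z ∈ q.asHomogeneousIdeal := by
      by_contra h
      exact hq ((Proj.mem_basicOpen ℬ z q).mpr h)
    have hmem : ∀ b : B, φ (ψ b) ∈ q.asHomogeneousIdeal.toIdeal ↔
        b ∈ q.asHomogeneousIdeal.toIdeal := by
      intro b
      have h2 : b - φ (ψ b) ∈ q.asHomogeneousIdeal.toIdeal :=
        ((Ideal.span_singleton_le_iff_mem (I := q.asHomogeneousIdeal.toIdeal)).mpr hzq) (hsub b)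
      constructor
      · intro h
        have := add_mem h2 h
        rwa [sub_add_cancel] at this
      · intro h
        have := sub_mem h h2
        rwa [sub_sub_cancel] at this
    have hirr : ¬ HomogeneousIdeal.irrelevant 𝒜 ≤ q.asHomogeneousIdeal.comap φ := by
      intro hle
      apply q.not_irrelevant_le
      rw [HomogeneousIdeal.irrelevant_le]
      intro i hi b hb
      have hb' : b ∈ ℬ i := hb
      have h3 : ψ b ∈ HomogeneousIdeal.irrelevant 𝒜 :=
        HomogeneousIdeal.mem_irrelevant_of_mem _ hi (ψ.2 hb')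
      have h4 : φ (ψ b) ∈ q.asHomogeneousIdeal.toIdeal := hle h3
      exact (hmem b).mp h4
    let x : ProjectiveSpectrum 𝒜 := ⟨q.asHomogeneousIdeal.comap φ, q.isPrime.comap φ, hirr⟩
    refine ⟨x, ?_⟩
    apply ProjectiveSpectrum.ext
    ext b
    exact hmem b

end Groth.Agent.S3594
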