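import Groth.Statements.S3596
import Groth.Agent.Lib.Helper17.Proj

set_option autoImplicit false
universe u
open CategoryTheory CategoryTheory.Limits AlgebraicGeometry
open EGA2

namespace Groth.Agent.S3596

/-- For a homomorphism of graded rings φ : S' → S, the induced morphism p : G(φ) → Proj S'
(characterised on the charts as in the previous result) is affine. -/
theorem result {R A : Type u} [CommRing R] [CommRing A] [Algebra R A] (𝒜 : ℕ → Submodule R A) [GradedAlgebra 𝒜]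
    {B : Type u} [CommRing B] [Algebra R B] (ℬ : ℕ → Submodule R B) [GradedAlgebra ℬ] (φ : 𝒜 →+*ᵍ ℬ)
    (p : (PCone.dom φ : Scheme.{u}) ⟶ Proj 𝒜) (hp : ∀ (d : ℕ) (f : A) (hd : 0 < d) (hf : f ∈ 𝒜 d),
        PCone.chart φ hf hd ≫ p =
          Spec.map (CommRingCat.ofHom (HomogeneousLocalization.Away.map φ f)) ≫ Proj.awayι 𝒜 f hf hd) :
    IsAffineHom p := by
  classical
  -- key: preimage of D₊(f) under p is ι⁻¹ D₊(φ f)
  have key : ∀ (d : ℕ) (f : A) (hd : 0 < d) (hf : f ∈ 𝒜 d),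
      p ⁻¹ᵁ Proj.basicOpen 𝒜 f = (PCone.dom φ).ι ⁻¹ᵁ Proj.basicOpen ℬ (φ f) := by
    intro d f hd hf
    ext x
    -- x lies in some chart
    have hx : ((PCone.dom φ).ι x) ∈ PCone.dom φ := x.2
    obtain ⟨⟨g, e, he, hg⟩, hxg⟩ := TopologicalSpace.Opens.mem_iSup.mp hx
    rw [← Proj.opensRange_awayι ℬ (φ g) (φ.2 hg) he] at hxg
    obtain ⟨y, hy⟩ := hxg
    have hfac : PCone.chart φ hg he ≫ (PCone.dom φ).ι = Proj.awayι ℬ (φ g) (φ.2 hg) he :=
      IsOpenImmersion.lift_fac _ _ _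
    have hxy : PCone.chart φ hg he y = x := by
      apply (PCone.dom φ).ι.isOpenEmbedding.injective
      rw [← Scheme.Hom.comp_apply, hfac]; exact hy
    subst hxy
    have h1 : (PCone.chart φ hg he y ∈ p ⁻¹ᵁ Proj.basicOpen 𝒜 f) ↔
        y ∈ (PCone.chart φ hg he ≫ p) ⁻¹ᵁ Proj.basicOpen 𝒜 f := by
      rw [Scheme.Hom.comp_preimage]; rfl
    have h2 : (PCone.chart φ hg he y ∈ (PCone.dom φ).ι ⁻¹ᵁ Proj.basicOpen ℬ (φ f)) ↔
        y ∈ (PCone.chart φ hg he ≫ (PCone.dom φ).ι) ⁻¹ᵁ Proj.basicOpen ℬ (φ f) := by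
      rw [Scheme.Hom.comp_preimage]; rfl
    have e2 := Proj.awayι_preimage_basicOpen 𝒜 hg he hf hd
    have e3 := Proj.awayι_preimage_basicOpen ℬ (φ.2 hg) he (φ.2 hf) hd
    rw [SetLike.mem_coe, SetLike.mem_coe, h1, h2, hp e g he hg, hfac, Scheme.Hom.comp_preimage]
    have h3 : (y ∈ Spec.map (CommRingCat.ofHom (HomogeneousLocalization.Away.map φ g)) ⁻¹ᵁ
        (Proj.awayι 𝒜 g hg he ⁻¹ᵁ Proj.basicOpen 𝒜 f)) ↔
        (Spec.map (CommRingCat.ofHom (HomogeneousLocalization.Away.map φ g)) y) ∈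
          (Proj.awayι 𝒜 g hg he ⁻¹ᵁ Proj.basicOpen 𝒜 f) := Iff.rfl
    have hL : ((Spec.map (CommRingCat.ofHom (HomogeneousLocalization.Away.map φ g)) y) ∈
          (Proj.awayι 𝒜 g hg he ⁻¹ᵁ Proj.basicOpen 𝒜 f)) ↔
        HomogeneousLocalization.Away.isLocalizationElem hg hf ∉
          (Spec.map (CommRingCat.ofHom (HomogeneousLocalization.Away.map φ g)) y).asIdeal := by
      rw [e2]; rfl
    have hR : (y ∈ Proj.awayι ℬ (φ g) (φ.2 hg) he ⁻¹ᵁ Proj.basicOpen ℬ (φ f)) ↔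
        HomogeneousLocalization.Away.isLocalizationElem (φ.2 hg) (φ.2 hf) ∉
          (show PrimeSpectrum (HomogeneousLocalization.Away ℬ (φ g)) from y).asIdeal := by
      have := SetLike.ext_iff.mp e3 y
      exact this
    rw [h3, hL, hR]
    have h4 : HomogeneousLocalization.Away.map φ g
        (HomogeneousLocalization.Away.isLocalizationElem hg hf) =
        HomogeneousLocalization.Away.isLocalizationElem (φ.2 hg) (φ.2 hf) := by
      unfold HomogeneousLocalization.Away.isLocalizationElem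
      rw [HomogeneousLocalization.Away.map_mk]
      simp only [map_pow]
      rfl
    rw [← h4]
    rfl
  apply isAffineHom_of_forall_exists_isAffineOpen
  intro x
  obtain ⟨f, d, hd, hf, hxf⟩ := Groth.Agent.Lib.Helper17.exists_homogeneous_pos_mem_basicOpen 𝒜 x
  refine ⟨Proj.basicOpen 𝒜 f, hxf, Proj.isAffineOpen_basicOpen 𝒜 f hf hd, ?_⟩
  rw [key d f hd hf]
  apply IsAffineOpen.preimage_of_isOpenImmersion
    (Proj.isAffineOpen_basicOpen ℬ (φ f) (φ.2 hf) hd)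
  rw [Scheme.Opens.opensRange_ι]
  exact le_iSup (fun f : {f : A // ∃ d : ℕ, 0 < d ∧ f ∈ 𝒜 d} => Proj.basicOpen ℬ (φ f.1))
    ⟨f, d, hd, hf⟩

end Groth.Agent.S3596
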