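import Groth.Statements.S3597
import Groth.Agent.Lib.Helper17.Proj

set_option autoImplicit false
universe u
open CategoryTheory CategoryTheory.Limits AlgebraicGeometry
open EGA2

namespace Groth.Agent.S3597

/-- `Proj.map` of a graded endomorphism which is pointwise the identity is the identity. -/
theorem proj_map_eq_id {A σ : Type u} [CommRing A] [SetLike σ A] [AddSubgroupClass σ A]
    (𝒜 : ℕ → σ) [GradedRing 𝒜] (θ : 𝒜 →+*ᵍ 𝒜) (hθ : ∀ a : A, θ a = a)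
    (h : HomogeneousIdeal.irrelevant 𝒜 ≤ (HomogeneousIdeal.irrelevant 𝒜).map θ) :
    Proj.map θ h = 𝟙 (Proj 𝒜) := by
  have : θ = GradedRingHom.id 𝒜 := by
    ext a; exact hθ a
  subst this
  exact Proj.map_id

/-- Let S be a graded algebra over a ring and Ŝ = S[z] the graded S-algebra obtained by adjoining a
variable z in degree 1 (an S-algebra with an element z of degree 1 such that S[T] → Ŝ, T ↦ z, is
bijective), with φ : S → Ŝ the graded structure map and ψ : Ŝ → S the graded retraction with ψ ∘ φ =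
id and ψ(z) = 0 (the irrelevant-ideal containment needed to define Proj(ψ) on all of X = Proj S
carried as a hypothesis). Let Ê ⊆ Ĉ = Proj Ŝ be the pointed projective cone, the open union of the
D_+(φ f) for f ∈ S homogeneous of positive degree, and p : Ê → X a morphism which on each chart
D_+(φ f) = Spec Ŝ_{(φ f)} is induced by S_{(f)} → Ŝ_{(φ f)} (the canonical retraction). Then p is
surjective, and the closed immersion j = Proj(ψ) : X → Ĉ factors through Ê with p ∘ j = id_X. -/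
theorem result {R A : Type u} [CommRing R] [CommRing A] [Algebra R A] (𝒜 : ℕ → Submodule R A) [GradedAlgebra 𝒜]
    {B : Type u} [CommRing B] [Algebra R B] (ℬ : ℕ → Submodule R B) [GradedAlgebra ℬ]
    [Algebra A B] [IsScalarTower R A B] (φ : 𝒜 →+*ᵍ ℬ) (hφ : ∀ a : A, φ a = algebraMap A B a)
    (z : B) (hz : z ∈ ℬ 1) (hhat : Function.Bijective (Polynomial.aeval (R := A) z))
    (ψ : ℬ →+*ᵍ 𝒜) (hψφ : ∀ a : A, ψ (φ a) = a) (hψz : ψ z = 0)
    (hψ : HomogeneousIdeal.irrelevant 𝒜 ≤ (HomogeneousIdeal.irrelevant ℬ).map ψ)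
    (p : (PCone.dom φ : Scheme.{u}) ⟶ Proj 𝒜) (hp : ∀ (d : ℕ) (f : A) (hd : 0 < d) (hf : f ∈ 𝒜 d),
        PCone.chart φ hf hd ≫ p =
          Spec.map (CommRingCat.ofHom (HomogeneousLocalization.Away.map φ f)) ≫ Proj.awayι 𝒜 f hf hd) :
    Surjective p ∧ ∃ j : Proj 𝒜 ⟶ (PCone.dom φ : Scheme.{u}), j ≫ (PCone.dom φ).ι = Proj.map ψ hψ ∧ j ≫ p = 𝟙 (Proj 𝒜) := by
  classical
  -- the image of `Proj ψ` lies in `G(φ)`
  have hrange : Set.range (Proj.map ψ hψ).base ⊆ Set.range (PCone.dom φ).ι.base := by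
    rw [Scheme.Opens.range_ι]
    rintro _ ⟨x, rfl⟩
    obtain ⟨f, d, hd, hf, hxf⟩ :=
      Groth.Agent.Lib.Helper17.exists_homogeneous_pos_mem_basicOpen 𝒜 x
    have h1 : x ∈ (Proj.map ψ hψ) ⁻¹ᵁ Proj.basicOpen ℬ (φ f) := by
      rw [Proj.map_preimage_basicOpen, hψφ]; exact hxf
    exact TopologicalSpace.Opens.mem_iSup.mpr ⟨⟨f, d, hd, hf⟩, h1⟩
  let j : Proj 𝒜 ⟶ (PCone.dom φ : Scheme.{u}) :=
    IsOpenImmersion.lift (PCone.dom φ).ι (Proj.map ψ hψ) hrange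
  have hj : j ≫ (PCone.dom φ).ι = Proj.map ψ hψ := IsOpenImmersion.lift_fac _ _ _
  have hθ : HomogeneousIdeal.irrelevant 𝒜 ≤ (HomogeneousIdeal.irrelevant 𝒜).map (ψ.comp φ) := by
    intro a ha
    have : (ψ.comp φ) a = a := hψφ a
    rw [← this]
    exact Ideal.mem_map_of_mem _ ha
  have hjp : j ≫ p = 𝟙 (Proj 𝒜) := by
    rw [← proj_map_eq_id 𝒜 (ψ.comp φ) hψφ hθ]
    refine (Proj.mapAffineOpenCover (ψ.comp φ) hθ).openCover.hom_ext _ _
      (fun (s : Σ i : ℕ+, 𝒜 i) ↦ ?_)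
    obtain ⟨d, hd, f, hf, rfl⟩ : ∃ (d : ℕ) (hd : 0 < d) (f : A) (hf : f ∈ 𝒜 d),
        s = ⟨⟨d, hd⟩, ⟨f, hf⟩⟩ := ⟨s.1.1, s.1.2, s.2.1, s.2.2, rfl⟩
    change Proj.awayι 𝒜 ((ψ.comp φ) f) ((ψ.comp φ).2 hf) hd ≫ j ≫ p =
      Proj.awayι 𝒜 ((ψ.comp φ) f) ((ψ.comp φ).2 hf) hd ≫ Proj.map (ψ.comp φ) hθ
    rw [Proj.awayι_comp_map (ψ.comp φ) hθ hd f hf, HomogeneousLocalization.Away.map_comp]
    change Proj.awayι 𝒜 (ψ (φ f)) (ψ.2 (φ.2 hf)) hd ≫ j ≫ p =
      Spec.map (CommRingCat.ofHom ((HomogeneousLocalization.Away.map ψ (φ f)).comp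
        (HomogeneousLocalization.Away.map φ f))) ≫ Proj.awayι 𝒜 f hf hd
    have h1 : Proj.awayι 𝒜 (ψ (φ f)) (ψ.2 (φ.2 hf)) hd ≫ j =
        Spec.map (CommRingCat.ofHom (HomogeneousLocalization.Away.map ψ (φ f))) ≫
          PCone.chart φ hf hd := by
      rw [← cancel_mono (PCone.dom φ).ι, Category.assoc, Category.assoc, hj]
      have hfac : PCone.chart φ hf hd ≫ (PCone.dom φ).ι = Proj.awayι ℬ (φ f) (φ.2 hf) hd :=
        IsOpenImmersion.lift_fac _ _ _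
      rw [hfac]
      exact Proj.awayι_comp_map ψ hψ hd (φ f) (φ.2 hf)
    rw [CommRingCat.ofHom_comp, Spec.map_comp, Category.assoc, ← hp _ _ hd hf, ← Category.assoc,
      h1, Category.assoc]
  refine ⟨?_, j, hj, hjp⟩
  constructor
  intro x
  refine ⟨j x, ?_⟩
  rw [← Scheme.Hom.comp_apply, hjp]
  rfl

end Groth.Agent.S3597
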