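import Groth.Statements.S3629
import Groth.Agent.Lib.Helper60.LpullDual3
import Groth.Agent.Lib.Helper10.LciMor
import Groth.Agent.Lib.Helper73.GorenLCI4

set_option autoImplicit false
universe u
open CategoryTheory CategoryTheory.Limits AlgebraicGeometry
attribute [local instance] HasDerivedCategory.standard
open Dual3

namespace Groth.Agent.S3629

/-- Let f : X → Y be a surjective flat local complete intersection morphism between locally Noetherian
schemes, with derived pullback Lf^* (assumed to exist; exactness instances as in the definition of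
dualizing complexes). Then, for K in D_QCoh(O_Y), K is dualizing on Y precisely when the pulled-back
complex Lf^*K is dualizing on X. -/
theorem result (X Y : Scheme.{u}) [IsLocallyNoetherian X] [IsLocallyNoetherian Y] [∀ (U V : Scheme.{u}) (j : U ⟶ V) [IsOpenImmersion j], PreservesFiniteLimits (Scheme.Modules.restrictFunctor j)] [∀ (R : CommRingCat.{u}), PreservesFiniteLimits (tilde.functor R)] (f : X ⟶ Y) [Surjective f] [Flat f] (hf : Dual3.IsLCIMor f) [DCoh.HasLpull f] (K : DCoh.DQCoh Y) : Dual2.IsDualizingSch Y K.obj ↔ Dual2.IsDualizingSch X ((DCoh.Lpull f).obj K.obj) := by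
  have hl : Groth.Agent.Lib.Helper10.LciMor.lciMor f :=
    (Groth.Agent.Lib.Helper10.LciMor.lciMor_iff_isLCIMor f).mpr hf
  have hlft : LocallyOfFiniteType f :=
    Groth.Agent.Lib.Helper10.LciMor.locallyOfFiniteType_of_lciMor f hl
  constructor
  · intro hK
    refine Groth.Agent.Lib.Helper60.LpullDual.isDualizingSch_Lpull f ?_ K.obj hK
    intro U V hU hV e
    let _ := (f.appLE V U e).hom.toAlgebra
    have hlUV : LCI.IsLCI Γ(Y, V) Γ(X, U) :=
      (Groth.Agent.Lib.Helper10.LciMor.lciMor_iff_forall f).mp hl U V hU hV e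
    have : Module.Flat Γ(Y, V) Γ(X, U) :=
      HasRingHomProperty.appLE @Flat f inferInstance ⟨V, hV⟩ ⟨U, hU⟩ e
    intro p hp
    exact Groth.Agent.Lib.Helper24.isGorensteinRing_of_ringEquiv
      (Algebra.TensorProduct.comm Γ(Y, V) Γ(X, U) p.ResidueField).toRingEquiv
      (Groth.Agent.Lib.Helper73.GorenLCI.isGorensteinRing_fiber_of_flat_isLCI
        Γ(Y, V) Γ(X, U) hlUV p)
  · intro hL
    exact Groth.Agent.Lib.Helper60.LpullDual.isDualizingSch_of_Lpull f K.obj K.property hL

end Groth.Agent.S3629
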