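import Groth.Statements.S3665
import Mathlib
import Groth.Agent.Lib.Helper45.Dev.IdealMulSections
import Groth.Agent.Lib.Helper11.AffineCrit
import Groth.Agent.Lib.Helper49.FiniteTypeAffine

set_option autoImplicit false
universe u
open CategoryTheory CategoryTheory.Limits AlgebraicGeometry
open Dual3

namespace Groth.Agent.S3665
set_option linter.style.haveILetI false


/-- Let X be proper over a field k, I a quasi-coherent ideal with vanishing locus Z and F a coherent
O_X-module, so that H^0_c(X ∖ Z, F) = lim_n H^0(X, I^n F) = ⋂_n Γ(X, I^n F) inside Γ(X, F). Then a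
global section s of F lies in the image of Γ(X, I^n F) for every n if and only if s restricts to
zero on some open neighbourhood of Z. -/
theorem result (k : Type u) [Field k] (X : Scheme.{u}) (f : X ⟶ Spec (CommRingCat.of k)) [IsProper f] (I : X.IdealSheafData) (F : X.Modules) (hF : Coh.IsCoh F) (s : F.val.obj (Opposite.op ⊤)) : (∀ n : ℕ, ∃ t : ((Dual3.idealMul (I ^ n)).obj F).val.obj (Opposite.op ⊤), (Dual3.idealMulι (I ^ n) F).val.app (Opposite.op ⊤) t = s) ↔ ∃ V : X.Opens, I.supportSet ⊆ (V : Set X) ∧ F.val.map (homOfLE le_top : V ⟶ ⊤).op s = 0 := by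
  haveI : IsLocallyNoetherian X := LocallyOfFiniteType.isLocallyNoetherian f
  haveI hFq : F.IsQuasicoherent := hF.1
  have hFt : SheafOfModules.IsFiniteType (R := X.ringCatSheaf) F := hF.2
  constructor
  · intro h
    -- on each affine open, Krull gives `r ∈ I(U)` with `(1 - r) s = 0`
    have key : ∀ U : X.affineOpens, ∃ r : Γ(X, U.1), r ∈ I.ideal U ∧
        (1 - r) • (show Γ(F, U.1) from F.val.map (homOfLE (le_top : U.1 ≤ ⊤)).op s) = 0 := by
      intro U
      haveI : IsNoetherianRing Γ(X, U.1) := IsLocallyNoetherian.component_noetherian U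
      haveI : Module.Finite Γ(X, U.1) Γ(F, U.1) :=
        Groth.Agent.Lib.Helper49.finite_sections_of_isFiniteType F hFt U.2
      set sU : Γ(F, U.1) := F.val.map (homOfLE (le_top : U.1 ≤ ⊤)).op s with hsU
      have hmem : sU ∈ (⨅ n : ℕ, (I.ideal U) ^ n • (⊤ : Submodule Γ(X, U.1) Γ(F, U.1))) := by
        rw [Submodule.mem_iInf]
        intro n
        obtain ⟨t, ht⟩ := h n
        have h1 := Groth.Agent.Lib.Helper45.IdealMulSections.range_idealMulι_app (I ^ n) F U.2
        have h2 : (I ^ n).ideal ⟨U.1, U.2⟩ = I.ideal U ^ n := by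
          rw [Scheme.IdealSheafData.ideal_pow]; rfl
        rw [h2] at h1
        rw [← h1]
        refine ⟨((Dual3.idealMul (I ^ n)).obj F).val.map (homOfLE (le_top : U.1 ≤ ⊤)).op t, ?_⟩
        have h3 := PresheafOfModules.naturality_apply (Dual3.idealMulι (I ^ n) F).val
          (homOfLE (le_top : U.1 ≤ ⊤)).op t
        rw [hsU, ← ht]
        exact h3
      obtain ⟨r, hr⟩ := (Ideal.mem_iInf_smul_pow_eq_bot_iff (I.ideal U) sU).mp hmem
      refine ⟨r.1, r.2, ?_⟩
      rw [sub_smul, one_smul, hr, sub_self]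
    choose r hrI hr0 using key
    refine ⟨⨆ U : X.affineOpens, X.basicOpen (1 - r U), ?_, ?_⟩
    · intro x hx
      obtain ⟨_, ⟨U, hU, rfl⟩, hxU, -⟩ := X.isBasis_affineOpens.exists_subset_of_mem_open
        (Set.mem_univ x) isOpen_univ
      have hxz : x ∈ X.zeroLocus (U := U) (I.ideal ⟨U, hU⟩) :=
        (Scheme.IdealSheafData.mem_supportSet_iff_of_mem (U := ⟨U, hU⟩) hxU).mp hx
      have hnr : x ∉ X.basicOpen (r ⟨U, hU⟩) :=
        (X.mem_zeroLocus_iff _ x).mp hxz _ (hrI ⟨U, hU⟩)
      have h1 : x ∈ X.basicOpen ((r ⟨U, hU⟩) + (1 - r ⟨U, hU⟩)) := by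
        rw [add_sub_cancel, Scheme.basicOpen_of_isUnit X isUnit_one]
        exact hxU
      have h2 := X.basicOpen_add_le _ _ h1
      have h3 : x ∈ X.basicOpen (1 - r ⟨U, hU⟩) := by
        rcases h2 with h | h
        · exact absurd h hnr
        · exact h
      exact TopologicalSpace.Opens.mem_iSup.mpr ⟨⟨U, hU⟩, h3⟩
    · change Groth.Agent.Lib.Helper49.mres F
        (le_top : (⨆ U : X.affineOpens, X.basicOpen (1 - r U : Γ(X, U.1))) ≤ ⊤) s = 0
      refine TopCat.Sheaf.eq_of_locally_eq' ⟨F.presheaf, F.isSheaf⟩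
        (fun U : X.affineOpens => X.basicOpen (1 - r U : Γ(X, U.1)))
        (⨆ U : X.affineOpens, X.basicOpen (1 - r U : Γ(X, U.1)))
        (fun U => homOfLE (le_iSup (fun U : X.affineOpens => X.basicOpen (1 - r U : Γ(X, U.1))) U))
        le_rfl _ _ ?_
      intro U
      rw [map_zero]
      change Groth.Agent.Lib.Helper49.mres F _ (Groth.Agent.Lib.Helper49.mres F _ s) = 0
      rw [Groth.Agent.Lib.Helper49.mres_mres]
      have h2 := congrArg (Groth.Agent.Lib.Helper49.mres F (X.basicOpen_le (1 - r U))) (hr0 U)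
      change Groth.Agent.Lib.Helper49.mres F (X.basicOpen_le (1 - r U))
        ((1 - r U) • Groth.Agent.Lib.Helper49.mres F le_top s) = _ at h2
      rw [Groth.Agent.Lib.Helper49.mres_smul, map_zero, Groth.Agent.Lib.Helper49.mres_mres] at h2
      have hu : IsUnit (Groth.Agent.Lib.Helper49.fres (X.basicOpen_le (1 - r U)) (1 - r U)) :=
        X.toRingedSpace.isUnit_res_basicOpen _
      exact (hu.smul_eq_zero).mp h2
  · rintro ⟨V, hV, hsV⟩ n
    let J := Option {U : X.affineOpens // Disjoint (I.supportSet) (U.1 : Set X)}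
    let A : J → X.Opens := fun j => match j with
      | none => V
      | some U => U.1.1
    have hcov : (⊤ : X.Opens) ≤ iSup A := by
      intro x _
      by_cases hx : x ∈ V
      · exact TopologicalSpace.Opens.mem_iSup.mpr ⟨none, hx⟩
      · have hxs : x ∉ I.supportSet := fun h => hx (hV h)
        have hop : IsOpen (I.supportSetᶜ) := I.isClosed_supportSet.isOpen_compl
        obtain ⟨_, ⟨U, hU, rfl⟩, hxU, hUs⟩ := X.isBasis_affineOpens.exists_subset_of_mem_open
          (show x ∈ I.supportSetᶜ from hxs) hop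
        refine TopologicalSpace.Opens.mem_iSup.mpr ⟨some ⟨⟨U, hU⟩, ?_⟩, hxU⟩
        exact Set.disjoint_left.mpr (fun y hy hyU => hUs hyU hy)
    have hloc : ∀ j : J, ∃ k : Γ((Dual3.idealMul (I ^ n)).obj F, A j),
        (Dual3.idealMulι (I ^ n) F).app (A j) k =
          Groth.Agent.Lib.Helper49.mres F (le_top : A j ≤ ⊤) s := by
      intro j
      match j with
      | none =>
        refine ⟨0, ?_⟩
        rw [map_zero]
        exact hsV.symm
      | some U =>
        obtain ⟨⟨U, hU⟩, hd⟩ := U
        have hIU : I.ideal ⟨U, hU⟩ = ⊤ := by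
          have h1 : hU.fromSpec '' PrimeSpectrum.zeroLocus (I.ideal ⟨U, hU⟩ : Set Γ(X, U)) = ∅ := by
            rw [hU.fromSpec_image_zeroLocus, ← Scheme.IdealSheafData.coe_support_inter I ⟨U, hU⟩]
            exact hd.inter_eq
          exact PrimeSpectrum.zeroLocus_empty_iff_eq_top.mp (Set.image_eq_empty.mp h1)
        have h1 := Groth.Agent.Lib.Helper45.IdealMulSections.range_idealMulι_app (I ^ n) F hU
        have h2 : (I ^ n).ideal ⟨U, hU⟩ = ⊤ := by
          rw [Scheme.IdealSheafData.ideal_pow, Pi.pow_apply, hIU, Ideal.top_pow]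
        rw [h2, Submodule.top_smul] at h1
        have h3 : Groth.Agent.Lib.Helper49.mres F (le_top : U ≤ ⊤) s ∈
            LinearMap.range (Groth.Agent.Lib.Helper45.appₗ (Dual3.idealMulι (I ^ n) F) U) := by
          rw [h1]; exact Submodule.mem_top
        obtain ⟨k, hk⟩ := h3
        exact ⟨k, hk⟩
    exact Groth.Agent.Lib.Helper11.AffineCrit.exists_section_of_locally
      (Dual3.idealMulι (I ^ n) F) ⊤ s A (fun _ => le_top) hcov hloc

end Groth.Agent.S3665
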