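import Groth.Statements.S3675
import Groth.Agent.Lib.Helper29.FlatAscent2
import Groth.Agent.Lib.Helper60.SchDual2
import Groth.Agent.Lib.Helper60.SchDual3

set_option autoImplicit false
universe u
open CategoryTheory CategoryTheory.Limits AlgebraicGeometry
attribute [local instance] HasDerivedCategory.standard
open Dual3

namespace Groth.Agent.S3675

/-- Let X be a locally Noetherian scheme (exactness instances as in the definition of dualizing
complexes) and ω a coherent O_X-module such that ω[0] is a dualizing complex on X. Then X is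
Cohen–Macaulay: every local ring O_{X,x} is a Cohen–Macaulay local ring. -/
theorem result (X : Scheme.{u}) [IsLocallyNoetherian X] [∀ (U V : Scheme.{u}) (j : U ⟶ V) [IsOpenImmersion j], PreservesFiniteLimits (Scheme.Modules.restrictFunctor j)] [∀ (R : CommRingCat.{u}), PreservesFiniteLimits (tilde.functor R)] (ω : X.Modules) (hω : Coh.IsCoh ω) (hD : Dual2.IsDualizingSch X (DCoh.inD X ω)) (x : X) : LocCoh.IsCohenMacaulayLocalRing (X.presheaf.stalk x) := by
  obtain ⟨U, hU, hxU, -⟩ := exists_isAffineOpen_mem_and_subset (x := x) (U := ⊤) trivial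
  obtain ⟨ωA, hωA, ⟨e⟩⟩ := hD Γ(X, U) hU.fromSpec
  have := hωA.isNoetherianRing
  have key : ∀ p : PrimeSpectrum Γ(X, U),
      LocCoh.IsCohenMacaulayLocalRing (X.presheaf.stalk (hU.fromSpec p)) := by
    intro p
    refine Groth.Agent.Lib.Helper29.isCohenMacaulayLocalRing_of_ringEquiv
      (Groth.Agent.Lib.Helper60.SchDual.stalkEquiv _ hU.fromSpec p).symm ?_
    rw [Groth.Agent.Lib.Helper60.SchDual.isCohenMacaulayLocalRing_localization_iff ωA hωA p]
    have hz : ∀ i : ℤ, Nontrivial (LocalizedModule p.asIdeal.primeCompl (Dual.HD Γ(X, U) ωA i)) →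
        i = 0 := by
      intro i hi
      by_contra hne
      have h1 := (Groth.Agent.Lib.Helper60.SchDual.nontrivial_stalk_HD_iff' Γ(X, U) hU.fromSpec
        (DCoh.inD X ω) ωA e p i).2 hi
      have h2 := Groth.Agent.Lib.Helper60.SchDual.subsingleton_stalk_of_isZero _
        (Groth.Agent.Lib.Helper60.SchDual.isZero_HD_inD ω i hne) (hU.fromSpec p)
      exact not_subsingleton _ h2
    obtain ⟨i0, hi0⟩ := Groth.Agent.Lib.Helper60.SchDual.exists_nontrivial_loc_HD ωA hωA p
    have h0 := hz i0 hi0
    subst h0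
    exact ⟨0, hi0, fun i hi => hz i hi⟩
  have := key (hU.primeIdealOf ⟨x, hxU⟩)
  rw [hU.fromSpec_primeIdealOf ⟨x, hxU⟩] at this
  exact this

end Groth.Agent.S3675
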