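import Groth.Statements.S3707
import Mathlib.AlgebraicGeometry.Morphisms.IsIso
-- import your own Groth.Agent.* helpers here

set_option autoImplicit false
universe u
open SGA1

namespace Groth.Agent.S3707

open AlgebraicGeometry CategoryTheory CategoryTheory.Limits in
/-- Let g : S' -> S be a surjective morphism of schemes, X and Y schemes over S with Y unramified over S
(formally unramified and locally of finite type), and X', Y' their base changes to S'. Then the map
sending an S-morphism X -> Y to the induced S'-morphism X' -> Y' is injective. -/
theorem result {S S' X Y : Scheme.{u}} (g : S' ⟶ S) [Surjective g]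
    (p : X ⟶ S) (q : Y ⟶ S) [FormallyUnramified q] [LocallyOfFiniteType q]
    (u v : X ⟶ Y) (hu : p ≫ 𝟙 S = u ≫ q) (hv : p ≫ 𝟙 S = v ≫ q)
    (h : pullback.map p g q g u (𝟙 S') (𝟙 S) hu ((Category.comp_id _).trans (Category.id_comp _).symm) =
      pullback.map p g q g v (𝟙 S') (𝟙 S) hv ((Category.comp_id _).trans (Category.id_comp _).symm)) :
    u = v := by
  have hπ : pullback.fst p g ≫ u = pullback.fst p g ≫ v := by
    have h1 := congrArg (fun k => k ≫ pullback.fst q g) h
    simp only [pullback.map] at h1
    simpa only [pullback.lift_fst] using h1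
  have hu' : u ≫ q = v ≫ q := by rw [← hu, ← hv]
  let Δ := pullback.diagonal q
  let w : X ⟶ pullback q q := pullback.lift u v hu'
  have hΔ : IsOpenImmersion Δ := inferInstance
  have hopen : IsOpenImmersion (pullback.fst w Δ) := inferInstance
  have hfac : pullback.fst p g ≫ w = (pullback.fst p g ≫ u) ≫ Δ := by
    apply pullback.hom_ext
    · simp only [w, Δ, Category.assoc, pullback.lift_fst, pullback.diagonal_fst, Category.comp_id]
    · simp only [w, Δ, Category.assoc, pullback.lift_snd, pullback.diagonal_snd, Category.comp_id, hπ]
  have hsurjπ : Surjective (pullback.fst p g) := inferInstance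
  have hcomp : pullback.lift (pullback.fst p g) (pullback.fst p g ≫ u) hfac ≫ pullback.fst w Δ
      = pullback.fst p g := pullback.lift_fst _ _ _
  have hsurj : Surjective (pullback.fst w Δ) := by
    have : Surjective (pullback.lift (pullback.fst p g) (pullback.fst p g ≫ u) hfac ≫
      pullback.fst w Δ) := by rw [hcomp]; exact hsurjπ
    exact Surjective.of_comp (pullback.lift (pullback.fst p g) (pullback.fst p g ≫ u) hfac) _
  have hiso : IsIso (pullback.fst w Δ) :=
    (isIso_iff_isOpenImmersion_and_surjective _).mpr ⟨hopen, hsurj⟩
  rw [← cancel_epi (pullback.fst w Δ)]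
  have e1 : pullback.fst w Δ ≫ u = pullback.snd w Δ := by
    have := congrArg (fun k => k ≫ pullback.fst q q) (pullback.condition (f := w) (g := Δ))
    simpa only [w, Δ, Category.assoc, pullback.lift_fst, pullback.diagonal_fst, Category.comp_id] using this
  have e2 : pullback.fst w Δ ≫ v = pullback.snd w Δ := by
    have := congrArg (fun k => k ≫ pullback.snd q q) (pullback.condition (f := w) (g := Δ))
    simpa only [w, Δ, Category.assoc, pullback.lift_snd, pullback.diagonal_snd, Category.comp_id] using this
  rw [e1, e2]

end Groth.Agent.S3707
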