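import Groth.Statements.S3713
import Groth.Agent.Lib.Helper7.AffineChart

set_option autoImplicit false
universe u
open SGA1

namespace Groth.Agent.S3713

open AlgebraicGeometry CategoryTheory CategoryTheory.Limits in
/-- Let Y be locally Noetherian, f : X -> Y locally of finite type, i a section of f and y a point of Y.
Then X is smooth over Y at i(y) (i(y) lies in the smooth locus of f) if and only if there are an
open neighbourhood U of y, an open V of X with i(U) ⊆ V ⊆ f^{-1}(U), and finitely many sections of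
O_X over V, all vanishing along i(U), which define an etale U-morphism from V to an affine space
over U (so that this etale chart carries the section to the zero section). -/
theorem result {X Y : Scheme.{u}} [IsLocallyNoetherian Y] (f : X ⟶ Y)
    [LocallyOfFiniteType f] [LocallyOfFinitePresentation f] (i : Y ⟶ X) (hi : i ≫ f = 𝟙 Y) (y : Y) :
    i.base y ∈ f.smoothLocus ↔
      ∃ (U : Y.Opens) (V : X.Opens) (_ : y ∈ U) (hUV : U ≤ i ⁻¹ᵁ V) (hVU : V ≤ f ⁻¹ᵁ U) (m : ℕ)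
        (v : ULift.{u} (Fin m) → Γ(V, ⊤)),
        Etale (AffineSpace.homOfVector (f.resLE U V hVU) v) ∧ ∀ j, (i.resLE V U hUV).appTop (v j) = 0 := by
  constructor
  · intro hx
    have hfi : ∀ u : Y, f (i u) = u := fun u => by
      rw [← Scheme.Hom.comp_apply, hi]; rfl
    obtain ⟨_, ⟨U₀, hU₀, rfl⟩, hyU₀, -⟩ :=
      Y.isBasis_affineOpens.exists_subset_of_mem_open (Set.mem_univ y) isOpen_univ
    obtain ⟨_, ⟨V₀, hV₀, rfl⟩, hxV₀, hV₀sub⟩ :=
      X.isBasis_affineOpens.exists_subset_of_mem_open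
        (show i y ∈ ((f ⁻¹ᵁ U₀ ⊓ f.smoothLocus : X.Opens) : Set X) from
          ⟨by show f (i y) ∈ U₀; rw [hfi]; exact hyU₀, hx⟩) (f ⁻¹ᵁ U₀ ⊓ f.smoothLocus).2
    have hV₀U₀ : V₀ ≤ f ⁻¹ᵁ U₀ := fun z hz => (hV₀sub hz).1
    have hV₀s : V₀ ≤ f.smoothLocus := fun z hz => (hV₀sub hz).2
    obtain ⟨a, haW, hya⟩ := hU₀.exists_basicOpen_le (V := i ⁻¹ᵁ V₀) ⟨y, hxV₀⟩ hyU₀
    have hU₁ : IsAffineOpen (Y.basicOpen a) := hU₀.basicOpen a
    have hV₁ : IsAffineOpen (X.basicOpen (f.appLE U₀ V₀ hV₀U₀ a)) := hV₀.basicOpen _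
    have hV₁eq : X.basicOpen (f.appLE U₀ V₀ hV₀U₀ a) = V₀ ⊓ f ⁻¹ᵁ (Y.basicOpen a) :=
      Scheme.basicOpen_appLE f V₀ U₀ hV₀U₀ a
    replace hya : y ∈ Y.basicOpen a := hya
    generalize X.basicOpen (f.appLE U₀ V₀ hV₀U₀ a) = V₁ at hV₁ hV₁eq
    generalize Y.basicOpen a = U₁ at hU₁ hV₁eq haW hya
    have hV₁U₁ : V₁ ≤ f ⁻¹ᵁ U₁ := hV₁eq ▸ inf_le_right
    have hV₁V₀ : V₁ ≤ V₀ := hV₁eq ▸ inf_le_left
    have hU₁V₁ : U₁ ≤ i ⁻¹ᵁ V₁ := by
      intro u hu
      rw [hV₁eq]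
      exact ⟨haW hu, by show f (i u) ∈ U₁; rw [hfi]; exact hu⟩
    have hsm := Groth.Agent.Lib.Helper7.AffineChart.smooth_appLE_of_le_smoothLocus f hU₁ hV₁
      hV₁U₁ (hV₁V₀.trans hV₀s)
    algebraize [(f.appLE U₁ V₁ hV₁U₁).hom]
    have hid : ∀ (k : Y ⟶ Y) (_ : k = 𝟙 Y) (e : U₁ ≤ k ⁻¹ᵁ U₁), k.appLE U₁ U₁ e = 𝟙 _ := by
      rintro _ rfl e
      simp only [Scheme.Hom.appLE, Scheme.Hom.id_app]
      exact (Category.id_comp _).trans (Y.presheaf.map_id _)
    have hρ : ∀ b : Γ(Y, U₁),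
        (i.appLE V₁ U₁ hU₁V₁).hom (algebraMap Γ(Y, U₁) Γ(X, V₁) b) = b := by
      intro b
      rw [RingHom.algebraMap_toAlgebra]
      show (f.appLE U₁ V₁ hV₁U₁ ≫ i.appLE V₁ U₁ hU₁V₁) b = b
      rw [Scheme.Hom.appLE_comp_appLE, hid _ hi]
      rfl
    have hiy : i y ∈ V₁ := hU₁V₁ hya
    obtain ⟨d, yv, g, hy0, hg, hE⟩ :=
      Groth.Agent.Lib.Helper7.AffineChart.exists_chart_retraction Γ(Y, U₁) Γ(X, V₁)
        (i.appLE V₁ U₁ hU₁V₁).hom hρ (hV₁.primeIdealOf ⟨i y, hiy⟩).asIdeal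
    have hVg : IsAffineOpen (X.basicOpen g) := hV₁.basicOpen g
    have hVgV₁ : X.basicOpen g ≤ V₁ := X.basicOpen_le g
    have hVgU₁ : X.basicOpen g ≤ f ⁻¹ᵁ U₁ := hVgV₁.trans hV₁U₁
    have hiyg : i y ∈ X.basicOpen g := by
      have h1 : hV₁.primeIdealOf ⟨i y, hiy⟩ ∈ hV₁.fromSpec ⁻¹ᵁ X.basicOpen g := by
        rw [hV₁.fromSpec_preimage_basicOpen]
        exact hg
      have h2 : hV₁.fromSpec (hV₁.primeIdealOf ⟨i y, hiy⟩) ∈ X.basicOpen g := h1
      rwa [hV₁.fromSpec_primeIdealOf] at h2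
    have hloc := hV₁.isLocalization_basicOpen g
    let _ : Algebra Γ(Y, U₁) Γ(X, X.basicOpen g) :=
      (f.appLE U₁ (X.basicOpen g) hVgU₁).hom.toAlgebra
    have htower : IsScalarTower Γ(Y, U₁) Γ(X, V₁) Γ(X, X.basicOpen g) :=
      IsScalarTower.of_algebraMap_eq' (by
        rw [RingHom.algebraMap_toAlgebra, RingHom.algebraMap_toAlgebra,
          RingHom.algebraMap_toAlgebra, ← CommRingCat.hom_comp, Scheme.Hom.appLE_map])
    have hE' := hE Γ(X, X.basicOpen g)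
    let v₁ : ULift.{u} (Fin d) → Γ(X.basicOpen g, ⊤) := fun j =>
      (X.basicOpen g).topIso.inv (algebraMap Γ(X, V₁) Γ(X, X.basicOpen g) (yv j.down))
    have : IsAffine (X.basicOpen g).toScheme := hVg
    have : IsAffine U₁.toScheme := hU₁
    have hEt : Etale (AffineSpace.homOfVector (f.resLE U₁ (X.basicOpen g) hVgU₁) v₁) := by
      apply Groth.Agent.Lib.Helper7.AffineChart.etale_homOfVector_of_isAffine
      have heq : MvPolynomial.eval₂Hom (f.resLE U₁ (X.basicOpen g) hVgU₁).appTop.hom v₁ =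
          ((X.basicOpen g).topIso.inv.hom.comp
            (MvPolynomial.eval₂Hom (algebraMap Γ(Y, U₁) Γ(X, X.basicOpen g))
              (fun j : ULift.{u} (Fin d) =>
                algebraMap Γ(X, V₁) Γ(X, X.basicOpen g) (yv j.down)))).comp
            (MvPolynomial.map U₁.topIso.hom.hom) := by
        apply MvPolynomial.ringHom_ext
        · intro b
          simp only [MvPolynomial.coe_eval₂Hom, MvPolynomial.eval₂_C, RingHom.comp_apply,
            MvPolynomial.map_C]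
          rw [Scheme.Hom.appTop, Scheme.Hom.resLE_app_top]
          rfl
        · intro j
          simp only [MvPolynomial.coe_eval₂Hom, MvPolynomial.eval₂_X, RingHom.comp_apply,
            MvPolynomial.map_X]
          rfl
      rw [heq]
      have hb1 : Function.Bijective U₁.topIso.hom.hom :=
        ConcreteCategory.bijective_of_isIso U₁.topIso.hom
      have hb2 : Function.Bijective (X.basicOpen g).topIso.inv.hom :=
        ConcreteCategory.bijective_of_isIso (X.basicOpen g).topIso.inv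
      exact RingHom.Etale.stableUnderComposition _ _
        (RingHom.Etale.of_bijective ⟨MvPolynomial.map_injective _ hb1.1,
          MvPolynomial.map_surjective _ hb1.2⟩)
        (RingHom.Etale.stableUnderComposition _ _ hE' (RingHom.Etale.of_bijective hb2))
    have hUV : U₁ ⊓ i ⁻¹ᵁ X.basicOpen g ≤
        i ⁻¹ᵁ (X.basicOpen g ⊓ f ⁻¹ᵁ (U₁ ⊓ i ⁻¹ᵁ X.basicOpen g)) := by
      intro u hu
      have hfu : f (i u) ∈ U₁ ⊓ i ⁻¹ᵁ X.basicOpen g := by rw [hfi]; exact hu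
      exact ⟨hu.2, hfu⟩
    refine ⟨U₁ ⊓ i ⁻¹ᵁ X.basicOpen g, X.basicOpen g ⊓ f ⁻¹ᵁ (U₁ ⊓ i ⁻¹ᵁ X.basicOpen g),
      ⟨hya, hiyg⟩, hUV, inf_le_right, d, (X.homOfLE inf_le_left).appTop ∘ v₁,
      Groth.Agent.Lib.Helper7.AffineChart.etale_homOfVector_restrict f hVgU₁ inf_le_right
        inf_le_left inf_le_left v₁ hEt, ?_⟩
    intro j
    show (i.resLE _ _ hUV).appTop ((X.homOfLE inf_le_left).appTop (v₁ j)) = 0
    rw [← CommRingCat.comp_apply, ← Scheme.Hom.comp_appTop, Scheme.Hom.resLE_map,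
      Scheme.Hom.appTop, Scheme.Hom.resLE_app_top]
    simp only [CommRingCat.comp_apply, v₁]
    rw [Iso.inv_hom_id_apply]
    have h0 : i.appLE (X.basicOpen g) (U₁ ⊓ i ⁻¹ᵁ X.basicOpen g)
        (hUV.trans (i.preimage_mono inf_le_left))
        (algebraMap Γ(X, V₁) Γ(X, X.basicOpen g) (yv j.down)) = 0 := by
      rw [RingHom.algebraMap_toAlgebra, ← CommRingCat.comp_apply, Scheme.Hom.map_appLE,
        ← Scheme.Hom.appLE_map i hU₁V₁ (homOfLE (inf_le_left :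
          U₁ ⊓ i ⁻¹ᵁ X.basicOpen g ≤ U₁)).op, CommRingCat.comp_apply]
      erw [hy0 j.down]
      rw [map_zero]
    rw [h0, map_zero]
  · rintro ⟨U, V, hyU, hUV, hVU, m, v, hEt, -⟩
    have hsmA : Smooth (𝔸(ULift.{u} (Fin m); U) ↘ U) :=
      Groth.Agent.Lib.Helper7.AffineChart.smooth_affineSpace_over _ _
    have h1 : Smooth (f.resLE U V hVU) := by
      rw [← AffineSpace.homOfVector_over (f.resLE U V hVU) v]
      infer_instance
    have h2 : Smooth (V.ι ≫ f) := by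
      rw [← Scheme.Hom.resLE_comp_ι f hVU]
      infer_instance
    have h3 : V.ι ⁻¹ᵁ f.smoothLocus = ⊤ := by
      rw [Scheme.Hom.preimage_smoothLocus_eq, Scheme.Hom.smoothLocus_eq_top]
    have hiyV : i y ∈ V := hUV hyU
    have h4 : (⟨i y, hiyV⟩ : V) ∈ V.ι ⁻¹ᵁ f.smoothLocus := h3 ▸ trivial
    exact h4

end Groth.Agent.S3713
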