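import Groth.Statements.S3718
import Mathlib
import Groth.Agent.Lib.Helper9.AbVarGal.Points
import Groth.Agent.Lib.Helper9.AbVarGal.Trans
import Groth.Agent.Lib.Helper2.SectionsCount

set_option autoImplicit false
universe u
open CategoryTheory MonoidalCategory CartesianMonoidalCategory MonObj GrpObj AlgebraicGeometry
open Pi1

namespace Groth.Agent.S3718


open Groth.Agent.Lib.Helper9 Groth.Agent.Lib.Helper9.AbVarGal CategoryTheory.Limits

section Helpers

variable {k : Type u} [Field k] (A : Over (Spec (CommRingCat.of k))) [GrpObj A]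

/-- Translation by a point, as an automorphism of the underlying scheme. -/
noncomputable def transIso (a : 𝟙_ (Over (Spec (CommRingCat.of k))) ⟶ A) : A.left ≅ A.left where
  hom := (AbVarGal.trans A a).left
  inv := (AbVarGal.trans A a⁻¹).left
  hom_inv_id := by
    rw [← Over.comp_left, trans_comp, mul_inv_cancel, trans_one]
    rfl
  inv_hom_id := by
    rw [← Over.comp_left, trans_comp, inv_mul_cancel, trans_one]
    rfl

/-- Translation by a torsion point, as an automorphism of the multiplication cover. -/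
noncomputable def transAut [IsCommMonObj A] (m : ℤ) (hF : IsFinite ((𝟙 A) ^ m).left)
    (hE : Etale ((𝟙 A) ^ m).left) (a : 𝟙_ (Over (Spec (CommRingCat.of k))) ⟶ A) (ha : a ^ m = 1) :
    Aut (MorphismProperty.Over.mk ⊤ ((𝟙 A) ^ m).left ⟨hF, hE⟩ : FEt.Cat A.left) :=
  MorphismProperty.Over.isoMk (transIso A a)
    (by
      show (AbVarGal.trans A a).left ≫ ((𝟙 A) ^ m).left = ((𝟙 A) ^ m).left
      rw [← Over.comp_left, trans_comp_zpow a m ha])

theorem transAut_hom_left [IsCommMonObj A] (m : ℤ) (hF : IsFinite ((𝟙 A) ^ m).left)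
    (hE : Etale ((𝟙 A) ^ m).left) (a : 𝟙_ (Over (Spec (CommRingCat.of k))) ⟶ A) (ha : a ^ m = 1) :
    (transAut A m hF hE a ha).hom.left = (AbVarGal.trans A a).left := rfl

end Helpers


theorem main (k : Type u) [Field k] [IsAlgClosed k]
    (A : Over (Spec (CommRingCat.of k))) [GrpObj A] [IsProper A.hom] [GeometricallyIntegral A.hom]
    (m : ℤ) (hF : IsFinite ((𝟙 A) ^ m).left) (hE : Etale ((𝟙 A) ^ m).left) :
      PiSp.IsGaloisCover (MorphismProperty.Over.mk ⊤ ((𝟙 A) ^ m).left ⟨hF, hE⟩ : FEt.Cat A.left) ∧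
      (∀ θ : Aut (MorphismProperty.Over.mk ⊤ ((𝟙 A) ^ m).left ⟨hF, hE⟩ : FEt.Cat A.left),
        ∃! a : 𝟙_ (Over (Spec (CommRingCat.of k))) ⟶ A, a ^ m = 1 ∧
          θ.hom.left = ((𝟙 A) * (toUnit A ≫ a)).left) ∧
      (∀ a : 𝟙_ (Over (Spec (CommRingCat.of k))) ⟶ A, a ^ m = 1 →
        ∃ θ : Aut (MorphismProperty.Over.mk ⊤ ((𝟙 A) ^ m).left ⟨hF, hE⟩ : FEt.Cat A.left),
          θ.hom.left = ((𝟙 A) * (toUnit A ≫ a)).left) := by
  haveI hcomm : IsCommMonObj A := isCommMonObj_of_isProper_of_geometricallyIntegral A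
  haveI : IsIntegral A.left := GeometricallyIntegral.isIntegral_of_subsingleton A.hom
  haveI : LocallyOfFiniteType A.hom := inferInstance
  have hnw : ((𝟙 A) ^ m).left ≫ A.hom = A.hom := Over.w _
  have hη : ∀ p : Spec (CommRingCat.of k), IsClosed ({η[A].left p} : Set A.left) := by
    intro p
    have := (η[A].left).isClosedEmbedding.isClosedMap _ (isClosed_discrete {p})
    simpa using this
  refine ⟨⟨(inferInstance : ConnectedSpace A.left), ?_⟩, ?_, ?_⟩
  · -- transitivity on geometric fibres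
    intro Ω _ _ ξ s t
    obtain ⟨s0, hs0def⟩ : ∃ s0 : Spec (CommRingCat.of Ω) ⟶ A.left, s0 = s.1 := ⟨_, rfl⟩
    obtain ⟨t0, ht0def⟩ : ∃ t0 : Spec (CommRingCat.of Ω) ⟶ A.left, t0 = t.1 := ⟨_, rfl⟩
    have hs0' : s0 ≫ ((𝟙 A) ^ m).left = ξ := by rw [hs0def]; exact s.2
    have ht0' : t0 ≫ ((𝟙 A) ^ m).left = ξ := by rw [ht0def]; exact t.2
    have htA : t0 ≫ A.hom = s0 ≫ A.hom := by
      rw [← hnw, ← Category.assoc, ← Category.assoc, hs0', ht0']
    let W : Over (Spec (CommRingCat.of k)) := Over.mk (s0 ≫ A.hom)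
    let s' : W ⟶ A := Over.homMk s0 rfl
    let t' : W ⟶ A := Over.homMk t0 htA
    have hst : s' ≫ (𝟙 A) ^ m = t' ≫ (𝟙 A) ^ m := by
      ext1
      show s0 ≫ ((𝟙 A) ^ m).left = t0 ≫ ((𝟙 A) ^ m).left
      rw [hs0', ht0']
    have hd := exists_zpow_eq_one_of_comp_zpow_eq s' t' m hst
    obtain ⟨d, hddef⟩ : ∃ d : W ⟶ A, d = s'⁻¹ * t' := ⟨_, rfl⟩
    rw [← hddef] at hd
    have hdm : d.left ≫ ((𝟙 A) ^ m).left = (toUnit W).left ≫ η[A].left := by
      rw [← Over.comp_left, ← Over.comp_left, GrpObj.comp_zpow, Category.comp_id, hd]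
      rfl
    have hz : IsClosed ({d.left (IsLocalRing.closedPoint Ω)} : Set A.left) := by
      apply isClosed_singleton_of_map_isClosed ((𝟙 A) ^ m).left
      have h1 : ((𝟙 A) ^ m).left (d.left (IsLocalRing.closedPoint Ω)) =
          η[A].left ((toUnit W).left (IsLocalRing.closedPoint Ω)) := by
        rw [← Scheme.Hom.comp_apply, ← Scheme.Hom.comp_apply, hdm]
      rw [h1]
      exact hη _
    obtain ⟨a0, ha0def⟩ : ∃ a0 : Spec (CommRingCat.of k) ⟶ A.left,
        a0 = pointOfClosedPoint A.hom _ hz := ⟨_, rfl⟩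
    have ha0 : a0 ≫ A.hom = 𝟙 _ := by rw [ha0def]; exact pointOfClosedPoint_comp _ _ _
    let a : 𝟙_ (Over (Spec (CommRingCat.of k))) ⟶ A := Over.homMk a0 ha0
    have hda : d = toUnit W ≫ a := by
      ext1
      show d.left = (toUnit W).left ≫ a0
      have h1 := eq_comp_pointOfClosedPoint A.hom d.left hz
      have h2 : d.left ≫ A.hom = (toUnit W).left := Over.w d
      rw [h2, ← ha0def] at h1
      exact h1
    have ha : a ^ m = 1 := by
      have e1 : a ^ m = a ≫ (𝟙 A) ^ m := by rw [GrpObj.comp_zpow, Category.comp_id]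
      ext1
      apply ext_of_apply_closedPoint_eq A.hom (Over.w (a ^ m)) (Over.w (1 : _ ⟶ A))
      rw [e1]
      show (a0 ≫ ((𝟙 A) ^ m).left) (IsLocalRing.closedPoint k) =
        ((toUnit (𝟙_ (Over (Spec (CommRingCat.of k))))).left ≫ η[A].left) (IsLocalRing.closedPoint k)
      rw [Scheme.Hom.comp_apply, Scheme.Hom.comp_apply, ha0def, pointOfClosedPoint_apply,
        ← Scheme.Hom.comp_apply, hdm, Scheme.Hom.comp_apply]
      congr 1
      exact Subsingleton.elim (α := ↥(Spec (CommRingCat.of k))) _ _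
    refine ⟨transAut A m hF hE a ha, ?_⟩
    apply Subtype.ext
    show s.1 ≫ (AbVarGal.trans A a).left = t.1
    rw [← hs0def, ← ht0def]
    have h3 := comp_trans_eq_of_eq s' t' a (hddef.symm.trans hda)
    exact congrArg (fun f => f.left) h3
  · -- automorphisms are translations
    intro θ
    obtain ⟨θ0, hθ0def⟩ : ∃ θ0 : A.left ⟶ A.left, θ0 = θ.hom.left := ⟨_, rfl⟩
    rw [← hθ0def]
    have hθ : θ0 ≫ ((𝟙 A) ^ m).left = ((𝟙 A) ^ m).left := by
      rw [hθ0def]; exact Over.w θ.hom.hom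
    have hθA : θ0 ≫ A.hom = A.hom := by
      calc θ0 ≫ A.hom = θ0 ≫ ((𝟙 A) ^ m).left ≫ A.hom := by rw [hnw]
        _ = (θ0 ≫ ((𝟙 A) ^ m).left) ≫ A.hom := (Category.assoc _ _ _).symm
        _ = A.hom := by rw [hθ, hnw]
    let Θ : A ⟶ A := Over.homMk θ0 hθA
    have hΘ : Θ ≫ (𝟙 A) ^ m = (𝟙 A) ^ m := by
      ext1
      exact hθ
    obtain ⟨a, hadef⟩ : ∃ a : 𝟙_ (Over (Spec (CommRingCat.of k))) ⟶ A, a = η[A] ≫ Θ := ⟨_, rfl⟩
    have ha : a ^ m = 1 := by
      have e1 : a ^ m = a ≫ (𝟙 A) ^ m := by rw [GrpObj.comp_zpow, Category.comp_id]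
      rw [e1, hadef, Category.assoc, hΘ, GrpObj.comp_zpow, Category.comp_id, MonObj.one_eq_one,
        one_zpow]
    have key : θ0 = (AbVarGal.trans A a).left := by
      refine Groth.Agent.Lib.Helper2.SplitCover.eq_of_geometric_point_eq ((𝟙 A) ^ m).left
        ((𝟙 A) ^ m).left η[A].left θ0 (AbVarGal.trans A a).left hθ ?_ ?_
      · rw [← Over.comp_left, trans_comp_zpow a m ha]
      · have e2 : η[A].left ≫ (AbVarGal.trans A a).left = a.left := by
          rw [← Over.comp_left, unit_comp_trans]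
        rw [e2, hadef]
        rfl
    refine ⟨a, ⟨ha, key⟩, ?_⟩
    rintro a' ⟨-, ha'⟩
    ext1
    have h1 : a'.left = η[A].left ≫ (AbVarGal.trans A a').left := by
      rw [← Over.comp_left, unit_comp_trans]
    have h2 : a.left = η[A].left ≫ (AbVarGal.trans A a).left := by
      rw [← Over.comp_left, unit_comp_trans]
    rw [h1, h2, ← key]
    exact congrArg (fun f => η[A].left ≫ f) ha'.symm
  · intro a ha
    exact ⟨transAut A m hF hE a ha, rfl⟩


/-- The covers that compute the prime-to-p part of the fundamental group of an abelian variety: let k be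
algebraically closed, A an abelian variety over k (a proper, geometrically integral group scheme
over k) and n ≥ 1 an integer invertible in k. Granted that multiplication by n (the n-th power of
the identity in the group Hom(A, A)) is a finite etale cover of A, it is a Galois cover, and its
automorphisms over A are exactly the translations x -> x + a by the k-points a of A with n a = 0,
each such a giving exactly one automorphism. (With the domination row this identifies the maximal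
prime-to-p quotient of the fundamental group with the inverse limit of the prime-to-p torsion
points.) -/
theorem result (k : Type u) [Field k] [IsAlgClosed k]
    (A : Over (Spec (CommRingCat.of k))) [GrpObj A] [IsProper A.hom] [GeometricallyIntegral A.hom]
    (n : ℕ) (hn1 : 1 ≤ n) (hn : IsUnit ((n : ℕ) : k)) :
    ∀ [hF : IsFinite ((𝟙 A) ^ (n : ℤ)).left] [hE : Etale ((𝟙 A) ^ (n : ℤ)).left],
      PiSp.IsGaloisCover (MorphismProperty.Over.mk ⊤ ((𝟙 A) ^ (n : ℤ)).left ⟨hF, hE⟩ : FEt.Cat A.left) ∧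
      (∀ θ : Aut (MorphismProperty.Over.mk ⊤ ((𝟙 A) ^ (n : ℤ)).left ⟨hF, hE⟩ : FEt.Cat A.left),
        ∃! a : 𝟙_ (Over (Spec (CommRingCat.of k))) ⟶ A, a ^ (n : ℤ) = 1 ∧
          θ.hom.left = ((𝟙 A) * (toUnit A ≫ a)).left) ∧
      (∀ a : 𝟙_ (Over (Spec (CommRingCat.of k))) ⟶ A, a ^ (n : ℤ) = 1 →
        ∃ θ : Aut (MorphismProperty.Over.mk ⊤ ((𝟙 A) ^ (n : ℤ)).left ⟨hF, hE⟩ : FEt.Cat A.left),
          θ.hom.left = ((𝟙 A) * (toUnit A ≫ a)).left) := by
  intro hF hE
  exact main k A (n : ℤ) hF hE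

end Groth.Agent.S3718
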