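import Groth.Statements.S3721
import Mathlib
import Groth.Agent.Lib.Helper9.Torsor.Scheme
import Groth.Agent.Lib.Helper9.Torsor.ArtinSchreier

set_option autoImplicit false
open CategoryTheory CategoryTheory.Limits AlgebraicGeometry
universe u
open SGA1t

namespace Groth.Agent.S3721

/-- Let p be a prime and A a commutative ring of characteristic p. Then every principal ℤ/p-cover P of
Spec A (a finite étale cover with an action of ℤ/p making it a torsor) is isomorphic over Spec A to
an Artin–Schreier cover Spec A[T]/(T^p − T − a) for some a ∈ A, compatibly with the actions: under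
the isomorphism the given action of j ∈ ℤ/p on P corresponds to the automorphism of the
Artin–Schreier cover induced by T ↦ T + j. The published statement is for any base S of
characteristic p on which Frobenius fixes no nonzero element of H¹(S, O_S); it is stated here for S
= Spec A affine. -/
theorem result (A : Type u) [CommRing A] (p : ℕ) [Fact p.Prime] [CharP A p]
    (P : FEt.Cat (Spec (CommRingCat.of A))) (ρ : Multiplicative (ZMod p) →* Aut P)
    (hP : SGA1t.IsPrincipal (Multiplicative (ZMod p)) P ρ) :
    ∃ (a : A) (e : P.left ≅ Spec (CommRingCat.of (SGA1t.artinSchreier A p a))),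
      e.hom ≫ Spec.map (CommRingCat.ofHom (algebraMap A (SGA1t.artinSchreier A p a))) = P.hom ∧
      ∀ j : ZMod p, (ρ (Multiplicative.ofAdd j)).hom.left ≫ e.hom =
        e.hom ≫ Spec.map (CommRingCat.ofHom (SGA1t.artinSchreierShift A p a j)) := by
  haveI hfin : IsFinite P.hom := P.prop.1
  haveI haff : IsAffine P.left := Groth.Agent.Lib.Helper9.AbhSch.isAffine_of_isFinite P.hom
  letI algC : Algebra A Γ(P.left, ⊤) := Groth.Agent.Lib.Helper9.Torsor.algC P
  have hT := Groth.Agent.Lib.Helper9.Torsor.isTorsorAlg ρ hP
  obtain ⟨a, θ, hθ, hcompat⟩ := Groth.Agent.Lib.Helper9.Torsor.artinSchreier_core p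
    (Groth.Agent.Lib.Helper9.Torsor.sig ρ) hT
  obtain ⟨e, he1, he2⟩ := Groth.Agent.Lib.Helper9.Torsor.exists_iso_of_bijective ρ θ hθ
    (fun g => SGA1t.artinSchreierShift A p a (Multiplicative.toAdd g))
    (fun g q => hcompat (Multiplicative.toAdd g) q)
  exact ⟨a, e, he1, fun j => he2 (Multiplicative.ofAdd j)⟩

end Groth.Agent.S3721
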