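import Groth.Statements.S3731
import Groth.Agent.Lib.Helper31.DCohZero

set_option autoImplicit false
universe u v
open CategoryTheory CategoryTheory.Limits
attribute [local instance] HasDerivedCategory.standard
open EtDl

namespace Groth.Agent.S3731

/-- Let A be an abelian category, k ≥ 0, and K_0 -> K_1 -> ... -> K_{2k} a chain of 2k morphisms in the
derived category of A such that every K_i has H^p(K_i) = 0 for p outside [0, k] and every morphism
K_i -> K_{i+1} induces the zero map on H^p for all p < k. Let π : K_0 -> H^k(K_0)[-k] be the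
morphism to the top cohomology object placed in degree k that induces the identity on H^k. Then the
composite K_0 -> K_{2k} factors through π. -/
theorem result {A : Type u} [Category.{v} A] [Abelian A] (k : ℕ)
    (K : ComposableArrows (DerivedCategory A) (2 * k))
    (hK : ∀ (i : ℕ) (hi : i ≤ 2 * k) (p : ℤ), p < 0 ∨ (k : ℤ) < p →
      IsZero ((DerivedCategory.homologyFunctor A p).obj (K.obj' i)))
    (hf : ∀ (i : ℕ) (hi : i < 2 * k) (p : ℤ), p < (k : ℤ) →
      (DerivedCategory.homologyFunctor A p).map (K.map' i (i + 1)) = 0)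
    (π : K.obj' 0 ⟶ (DerivedCategory.singleFunctor A (k : ℤ)).obj
      ((DerivedCategory.homologyFunctor A (k : ℤ)).obj (K.obj' 0)))
    (hπ : (DerivedCategory.homologyFunctor A (k : ℤ)).map π ≫
      (DerivedCategory.singleFunctorCompHomologyFunctorIso A (k : ℤ)).hom.app
        ((DerivedCategory.homologyFunctor A (k : ℤ)).obj (K.obj' 0)) = 𝟙 _) :
    ∃ φ : (DerivedCategory.singleFunctor A (k : ℤ)).obj
        ((DerivedCategory.homologyFunctor A (k : ℤ)).obj (K.obj' 0)) ⟶ K.obj' (2 * k),
      K.map' 0 (2 * k) = π ≫ φ := by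
  classical
  -- the objects are in `[0, k]`
  have hGE : ∀ (i : ℕ) (hi : i ≤ 2 * k), (K.obj' i).IsGE 0 := by
    intro i hi
    rw [DerivedCategory.isGE_iff]
    intro p hp
    exact hK i hi p (Or.inl hp)
  have hLE : ∀ (i : ℕ) (hi : i ≤ 2 * k), (K.obj' i).IsLE (k : ℤ) := by
    intro i hi
    rw [DerivedCategory.isLE_iff]
    intro p hp
    exact hK i hi p (Or.inr hp)
  -- `H^k(π)` is an isomorphism
  have hπiso : IsIso ((DerivedCategory.homologyFunctor A (k : ℤ)).map π) := by
    have h1 : IsIso ((DerivedCategory.homologyFunctor A (k : ℤ)).map π ≫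
      (DerivedCategory.singleFunctorCompHomologyFunctorIso A (k : ℤ)).hom.app
        ((DerivedCategory.homologyFunctor A (k : ℤ)).obj (K.obj' 0))) := by
      rw [hπ]; infer_instance
    exact @IsIso.of_isIso_comp_right _ _ _ _ _ ((DerivedCategory.homologyFunctor A (k : ℤ)).map π) _
      inferInstance h1
  -- complete `π` to a distinguished triangle
  obtain ⟨Z, ι, δ, hT⟩ := Pretriangulated.distinguished_cocone_triangle₁ π
  haveI := hGE 0 (by lia)
  haveI := hLE 0 (by lia)
  -- `Z` is `≤ k - 1`
  have hZ : Z.IsLE ((k : ℤ) - 1) :=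
    Groth.Agent.Lib.Helper31.DCohZero.isLE_of_triangle (k : ℤ) ι π δ hT hπiso
  -- induction
  have key : ∀ (j : ℕ) (hj : j ≤ k), ∃ (T : DerivedCategory A) (_ : T.IsLE ((k : ℤ) - 1 - j))
      (a : Z ⟶ T) (c : T ⟶ K.obj' j), ι ≫ K.map' 0 j = a ≫ c := by
    intro j
    induction j with
    | zero =>
      intro _
      refine ⟨Z, by simpa using hZ, 𝟙 Z, ι, ?_⟩
      rw [K.map'_self 0]
      simp
    | succ j ih =>
      intro hj
      obtain ⟨T, hTle, a, c, hac⟩ := ih (by lia)
      have hz : (DerivedCategory.homologyFunctor A ((k : ℤ) - 1 - j)).map (c ≫ K.map' j (j + 1)) = 0 := by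
        rw [Functor.map_comp, hf j (by lia) _ (by lia), comp_zero]
      obtain ⟨a', ha'⟩ := Groth.Agent.Lib.Helper31.DCohZero.exists_factor_truncLT
        ((k : ℤ) - 1 - j) (c ≫ K.map' j (j + 1)) hz
      refine ⟨(DerivedCategory.TStructure.t.truncLT ((k : ℤ) - 1 - j)).obj (K.obj' (j + 1)), ?_,
        a ≫ a', (DerivedCategory.TStructure.t.truncLTι ((k : ℤ) - 1 - j)).app (K.obj' (j + 1)), ?_⟩
      · have : ((k : ℤ) - 1 - ((j + 1 : ℕ) : ℤ)) = ((k : ℤ) - 1 - j) - 1 := by push_cast; ring
        rw [this]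
        infer_instance
      · rw [K.map'_comp 0 j (j + 1), ← Category.assoc, hac, Category.assoc, ha', Category.assoc]
  obtain ⟨T, hTle, a, c, hac⟩ := key k le_rfl
  have hc : c = 0 := by
    haveI := hGE k (by lia)
    haveI : T.IsLE (-1) := by simpa using hTle
    exact DerivedCategory.TStructure.t.zero c (-1) 0 (by lia)
  have h0 : ι ≫ K.map' 0 (2 * k) = 0 := by
    rw [K.map'_comp 0 k (2 * k), ← Category.assoc, hac, hc]
    simp
  exact Pretriangulated.Triangle.yoneda_exact₂ _ hT (K.map' 0 (2 * k)) h0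

end Groth.Agent.S3731
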