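import Groth.Statements.S3791
import Groth.Agent.Lib.Helper16.LambdaGamma
import Groth.Agent.Lib.Helper16.LambdaSplit
import Mathlib.Tactic

set_option autoImplicit false
universe v u
open CategoryTheory CategoryTheory.Limits AlgebraicGeometry
attribute [local instance] HasDerivedCategory.standard
open KRR

namespace Groth.Agent.S3791

open PowerSeries in
theorem lamSeries_natCast {K : Type v} [CommRing K] [LambdaRing.LambdaOps K]
    (P : LambdaRing.PosStructure K) (m : ℕ) :
    LambdaRing.lamSeries ((m : ℕ) : K) = (1 + X) ^ m := by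
  induction m with
  | zero => rw [Nat.cast_zero, Groth.Agent.Lib.Helper16.lamSeries_zero, pow_zero]
  | succ n ih =>
    rw [Nat.cast_succ, Groth.Agent.Lib.Helper16.lamSeries_add, ih,
      Groth.Agent.Lib.Helper16.lamSeries_line P (Groth.Agent.Lib.Helper16.isLine_one P), pow_succ,
      map_one, one_mul]

/-- The key nilpotence computation. -/
theorem sub_one_pow_eq_zero {K : Type v} [CommRing K] [LambdaRing.LambdaOps K]
    (P : LambdaRing.PosStructure K) {v e : K} (hv : P.IsLine v) (he : e ∈ P.pos) (m : ℕ)
    (h : e + v = (m : K)) : (v - 1) ^ m = 0 := by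
  -- v is a unit
  have hvu : IsUnit v := by
    have := P.isUnit_lam v hv.1
    rw [hv.2] at this
    simpa [LambdaRing.LambdaOps.lam_one] using this
  obtain ⟨v', hv'⟩ := hvu.exists_right_inv
  set N := (P.aug e).toNat with hN
  have hvan : ∀ i, N < i → LambdaRing.LambdaOps.lam i e = 0 := by
    intro i hi
    apply P.lam_eq_zero e he
    have := P.aug_pos e he
    omega
  have hser : LambdaRing.lamSeries e * LambdaRing.lamSeries v = (1 + PowerSeries.X) ^ m := by
    rw [← Groth.Agent.Lib.Helper16.lamSeries_add, h, lamSeries_natCast P]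
  have hpoly : Groth.Agent.Lib.Helper16.lamPoly e N * (1 + Polynomial.C v * Polynomial.X) =
      (1 + Polynomial.X) ^ m := by
    apply Polynomial.coe_injective
    rw [Polynomial.coe_mul, Groth.Agent.Lib.Helper16.lamPoly_coe e N hvan, Polynomial.coe_pow,
      Polynomial.coe_add, Polynomial.coe_add, Polynomial.coe_mul, Polynomial.coe_one,
      Polynomial.coe_X, Polynomial.coe_C, ← hser,
      Groth.Agent.Lib.Helper16.lamSeries_line P hv]
  have heval := congrArg (Polynomial.eval (-v')) hpoly
  simp only [Polynomial.eval_mul, Polynomial.eval_add, Polynomial.eval_one, Polynomial.eval_C,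
    Polynomial.eval_X, Polynomial.eval_pow] at heval
  have h0 : (1 : K) + v * -v' = 0 := by rw [mul_neg, hv']; ring
  rw [h0, mul_zero] at heval
  have : v - 1 = v * (1 + -v') := by rw [mul_add, mul_neg, hv']; ring
  rw [this, mul_pow, ← heval, mul_zero]

/-- Let K be a λ-ring with positive structure P and u an ample line element (for every x, u^n x is a
positive element minus a natural number for all large n). Then for every line element v, the element
v - 1 is nilpotent. -/
theorem result (K : Type v) [CommRing K] [LambdaRing.LambdaOps K] (P : LambdaRing.PosStructure K)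
    (u : K) (hu : KRR.IsAmpleElt P u) (w : K) (hw : P.IsLine w) : IsNilpotent (w - 1) := by
  obtain ⟨hul, hamp⟩ := hu
  -- for every line element w', u^n w' - 1 is nilpotent for n large
  have key : ∀ w' : K, P.IsLine w' → ∃ n₀ : ℕ, ∀ n : ℕ, n₀ ≤ n → u ^ n * w' - 1 ∈ nilradical K := by
    intro w' hw'
    obtain ⟨n₀, hn₀⟩ := hamp (-w')
    refine ⟨n₀, fun n hn => ?_⟩
    obtain ⟨e, m, he, hem⟩ := hn₀ n hn
    have hline : P.IsLine (u ^ n * w') :=
      Groth.Agent.Lib.Helper16.isLine_mul P (Groth.Agent.Lib.Helper16.isLine_pow P hul n) hw'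
    have h : e + u ^ n * w' = (m : K) := by
      have : e = u ^ n * -w' + m := by rw [hem]; ring
      rw [this]; ring
    rw [mem_nilradical]
    exact ⟨m, sub_one_pow_eq_zero P hline he m h⟩
  obtain ⟨n₀, h₀⟩ := key 1 (Groth.Agent.Lib.Helper16.isLine_one P)
  obtain ⟨n₁, h₁⟩ := key w hw
  have ha := h₀ (max n₀ n₁) (le_max_left _ _)
  have hb := h₁ (max n₀ n₁) (le_max_right _ _)
  rw [mul_one] at ha
  rw [← mem_nilradical]
  have : w - 1 = (u ^ max n₀ n₁ * w - 1) - (u ^ max n₀ n₁ - 1) * w := by ring
  rw [this]
  exact Ideal.sub_mem _ hb (Ideal.mul_mem_right _ _ ha)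

end Groth.Agent.S3791
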