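import Groth.Statements.S3795
import Groth.Agent.Lib.Helper41.AdamsGamma

set_option autoImplicit false
universe v u
open CategoryTheory CategoryTheory.Limits AlgebraicGeometry
attribute [local instance] HasDerivedCategory.standard
open KRR

namespace Groth.Agent.S3795

/-- Let K be a λ-ring with positive structure having the splitting property, j ≥ 2, n ≥ 0 and x ∈ K. If
ψ^j(x) - j^n x lies in ℚF^{n+1} (some positive multiple lies in F^{n+1}, γ-filtration), then x lies
in ℚF^n (some positive multiple of x lies in F^n). -/
theorem result (K : Type v) [CommRing K] [LambdaRing.LambdaOps K] (P : LambdaRing.PosStructure K) (hK : LambdaRing.HasSplitting K P) (j : ℕ) (hj : 2 ≤ j) (n : ℕ) (x : K)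
    (hx : ∃ N : ℕ, 1 ≤ N ∧ (N : K) * (LambdaRing.adams P j x - (j : K) ^ n * x) ∈ LambdaRing.gammaFiltration P (n + 1)) :
    ∃ N : ℕ, 1 ≤ N ∧ (N : K) * x ∈ LambdaRing.gammaFiltration P n := by
  open Groth.Agent.Lib.Helper41.AdamsGamma Groth.Agent.Lib.Helper16 in
  obtain ⟨N, hN1, hN⟩ := hx
  have key : ∀ k : ℕ, k ≤ n → ∃ M : ℕ, 1 ≤ M ∧ (M : K) * x ∈ LambdaRing.gammaFiltration P k := by
    intro k
    induction k with
    | zero =>
      intro _
      exact ⟨1, le_rfl, one_mem_gammaFiltration_zero P _⟩
    | succ k ih =>
      intro hk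
      obtain ⟨M, hM1, hM⟩ := ih (by omega)
      have h1 := adams_sub_pow_mul_mem P hK j k _ hM
      have hadams : LambdaRing.adams P j ((M : K) * x) = (M : K) * LambdaRing.adams P j x := by
        have := map_mul (adamsRingHom P hK j) (M : K) x
        rw [map_natCast] at this
        exact this
      rw [hadams] at h1
      have h2 : (N : K) * (LambdaRing.adams P j x - (j : K) ^ n * x) ∈
          LambdaRing.gammaFiltration P (k + 1) :=
        gammaFiltration_antitone P (by omega) hN
      have hle : j ^ k ≤ j ^ n := Nat.pow_le_pow_right (by omega) (by omega)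
      have hlt : j ^ k < j ^ n := Nat.pow_lt_pow_right (by omega) (by omega)
      refine ⟨N * M * (j ^ n - j ^ k), ?_, ?_⟩
      · have : 1 ≤ j ^ n - j ^ k := by omega
        exact Nat.one_le_iff_ne_zero.mpr (by positivity)
      · have e : ((N * M * (j ^ n - j ^ k) : ℕ) : K) * x =
            (N : K) * ((M : K) * LambdaRing.adams P j x - (j : K) ^ k * ((M : K) * x)) -
              (M : K) * ((N : K) * (LambdaRing.adams P j x - (j : K) ^ n * x)) := by
          rw [Nat.cast_mul, Nat.cast_mul, Nat.cast_sub hle, Nat.cast_pow, Nat.cast_pow]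
          ring
        rw [e]
        exact (LambdaRing.gammaFiltration P (k + 1)).sub_mem (mul_mem_left P _ h1) (mul_mem_left P _ h2)
  exact key n le_rfl

end Groth.Agent.S3795
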