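import Groth.Statements.S3804
import Groth.Agent.Lib.Helper16.ARR.Main

set_option autoImplicit false
universe v u
open CategoryTheory CategoryTheory.Limits AlgebraicGeometry
attribute [local instance] HasDerivedCategory.standard
open scoped TensorProduct
open KRR

namespace Groth.Agent.S3804

/-- For the model elementary projection: let K be a λ-ring with positive structure having the splitting
property, e positive with ε(e) = r + 1, K_e = K[T]/(p_e) with generator ℓ (a unit, inverse linv),
carrying a λ-structure extending that of K with λ^i(ℓ) = 0 for i ≥ 2 and a positive structure making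
K ⟶ K_e an extension with ℓ a line element and e - ℓ positive (when r ≥ 1), having the splitting
property, and with F^N K_e = 0 for some N (the published statement assumes instead that 1 - u is
nilpotent for all line elements u of the rings in play). Let f : K_e ⟶ K be the associated K-linear
functional (f(ℓ^i) = σ^i(e), i ≤ r) and j ≥ 1. The published statement's hypothesis 'j invertible in
K' is read here after tensoring with R = ℤ[1/j] (no λ-ring with an augmentation onto ℤ has j
invertible for j ≥ 2). Then 1 ⊗ θ^j(e ℓ⁻¹) is invertible in R ⊗ K_e, and for every inverse w of it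
and every x ∈ K_e: 1 ⊗ ψ^j(f(x)) = (R ⊗ f)(j · w · (1 ⊗ ψ^j(x))) in R ⊗ K. -/
theorem result (K : Type v) [CommRing K] [LambdaRing.LambdaOps K] (P : LambdaRing.PosStructure K) (hK : LambdaRing.HasSplitting K P) (e : K) (he : e ∈ P.pos) (r : ℕ) (hr : P.aug e = r + 1)
    (inst : LambdaRing.LambdaOps (AdjoinRoot (KRR.extPoly P e))) (Pe : @LambdaRing.PosStructure _ _ inst)
    (hext : @LambdaRing.IsExtension K _ _ _ _ inst P Pe (AdjoinRoot.of (KRR.extPoly P e)))
    (hroot : ∀ i : ℕ, 2 ≤ i → @LambdaRing.LambdaOps.lam _ _ inst i (AdjoinRoot.root (KRR.extPoly P e)) = 0)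
    (hline : @LambdaRing.PosStructure.IsLine _ _ inst Pe (AdjoinRoot.root (KRR.extPoly P e)))
    (hpos : 1 ≤ r → AdjoinRoot.of (KRR.extPoly P e) e - AdjoinRoot.root (KRR.extPoly P e) ∈ (@LambdaRing.PosStructure.pos _ _ inst Pe))
    (hsplit : @LambdaRing.HasSplitting _ _ inst Pe) (N : ℕ) (hN : @LambdaRing.gammaFiltration _ _ inst Pe N = ⊥)
    (f : AdjoinRoot (KRR.extPoly P e) →ₗ[K] K)
    (hf : ∀ i : ℕ, i ≤ r → f (AdjoinRoot.root (KRR.extPoly P e) ^ i) = KRR.sigma i e)
    (linv : AdjoinRoot (KRR.extPoly P e)) (hlinv : linv * AdjoinRoot.root (KRR.extPoly P e) = 1)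
    (j : ℕ) (hj : 1 ≤ j) :
    (∃ w : TensorProduct ℤ (Localization.Away (j : ℤ)) (AdjoinRoot (KRR.extPoly P e)), w * ((1 : Localization.Away (j : ℤ)) ⊗ₜ[ℤ] @KRR.bott _ _ inst Pe j (AdjoinRoot.of (KRR.extPoly P e) e * linv)) = 1) ∧
    ∀ w : TensorProduct ℤ (Localization.Away (j : ℤ)) (AdjoinRoot (KRR.extPoly P e)), w * ((1 : Localization.Away (j : ℤ)) ⊗ₜ[ℤ] @KRR.bott _ _ inst Pe j (AdjoinRoot.of (KRR.extPoly P e) e * linv)) = 1 →
      ∀ x : AdjoinRoot (KRR.extPoly P e),
        (1 : Localization.Away (j : ℤ)) ⊗ₜ[ℤ] LambdaRing.adams P j (f x) =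
          LinearMap.lTensor (Localization.Away (j : ℤ)) f.toAddMonoidHom.toIntLinearMap
            ((j : TensorProduct ℤ (Localization.Away (j : ℤ)) (AdjoinRoot (KRR.extPoly P e))) * w * ((1 : Localization.Away (j : ℤ)) ⊗ₜ[ℤ] @LambdaRing.adams _ _ inst Pe j x)) := by
  classical
  letI : LambdaRing.LambdaOps (AdjoinRoot (KRR.extPoly P e)) := inst
  rcases subsingleton_or_nontrivial K with hKs | hKnt
  · -- degenerate case: all rings are trivial
    have hKe : Subsingleton (AdjoinRoot (KRR.extPoly P e)) := by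
      apply subsingleton_of_zero_eq_one
      rw [← map_zero (AdjoinRoot.of (KRR.extPoly P e)), ← map_one (AdjoinRoot.of (KRR.extPoly P e)),
        Subsingleton.elim (0 : K) 1]
    have h1 : Subsingleton (TensorProduct ℤ (Localization.Away (j : ℤ)) (AdjoinRoot (KRR.extPoly P e))) := by
      apply subsingleton_of_zero_eq_one
      rw [Algebra.TensorProduct.one_def, Subsingleton.elim (1 : AdjoinRoot (KRR.extPoly P e)) 0,
        TensorProduct.tmul_zero]
    have h2 : Subsingleton (TensorProduct ℤ (Localization.Away (j : ℤ)) K) := by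
      apply subsingleton_of_zero_eq_one
      rw [Algebra.TensorProduct.one_def, Subsingleton.elim (1 : K) 0, TensorProduct.tmul_zero]
    exact ⟨⟨0, Subsingleton.elim _ _⟩, fun _ _ _ => Subsingleton.elim _ _⟩
  have hmonic : (KRR.extPoly P e).Monic := Groth.Agent.Lib.Helper41.ElemExtDual.extPoly_monic P e
  have hm : (P.aug e).toNat = r + 1 := by rw [hr]; omega
  have hdeg : (KRR.extPoly P e).natDegree = r + 1 :=
    Groth.Agent.Lib.Helper41.ElemExtDual.extPoly_natDegree P e (r + 1) hm
  -- the power basis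
  let pb := AdjoinRoot.powerBasis' hmonic
  let bK : Module.Basis (Fin (r + 1)) K (AdjoinRoot (KRR.extPoly P e)) :=
    pb.basis.reindex (finCongr hdeg)
  have hbK : ∀ i, bK i = AdjoinRoot.root (KRR.extPoly P e) ^ (i : ℕ) := by
    intro i
    show (pb.basis.reindex (finCongr hdeg)) i = _
    rw [Module.Basis.reindex_apply, pb.basis_eq_pow]
    rfl
  -- the functional
  have hfall := Groth.Agent.Lib.Helper41.ElemExt.functional_forward P e he r hr f hf
  have hf1 : f 1 = 1 := by
    have := hf 0 (Nat.zero_le r)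
    rwa [pow_zero, Groth.Agent.Lib.Helper41.ElemExt.sigma_zero] at this
  have hfinv : ∀ n : ℕ, 1 ≤ n → n ≤ r → f (linv ^ n) = 0 :=
    fun n h1 h2 => Groth.Agent.Lib.Helper41.ElemExt.functional_backward P e he r hr f hfall linv hlinv n h1 h2
  have hjR : IsUnit ((j : ℕ) : Localization.Away (j : ℤ)) := by
    have := IsLocalization.Away.algebraMap_isUnit (S := Localization.Away (j : ℤ)) (j : ℤ)
    rwa [map_natCast] at this
  exact Groth.Agent.Lib.Helper16.ARR.arr_generic P Pe hK hext hsplit N hN e he r hr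
    (AdjoinRoot.root (KRR.extPoly P e)) linv hline hlinv (AdjoinRoot.eval₂_root _) bK hbK f hf1 hfinv
    (Localization.Away (j : ℤ)) j hj hjR

end Groth.Agent.S3804
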