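import Mathlib
import Groth.Statements.S3807
-- import your own Groth.Agent.* helpers here

set_option autoImplicit false
universe u
open scoped TensorProduct
attribute [local instance] PP16.mapAlgebra PP16.isScalarTower_mapAlgebra
open PP16

namespace Groth.Agent.S3807

set_option linter.unusedSectionVars false

namespace W4

section
variable (n : ℕ) (A B : Type u) [CommRing A] [CommRing B] [Algebra A B]

/-- the class of `b ⊗ c` -/
noncomputable abbrev pmk (x : B ⊗[A] B) : P n A B := Ideal.Quotient.mk _ x

theorem algebraMap_eq (b : B) : algebraMap B (P n A B) b = pmk n A B (b ⊗ₜ 1) := rfl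

theorem dn_eq (b : B) : dn n A B b = pmk n A B (1 ⊗ₜ b) := rfl

theorem augIdeal_pow : (augIdeal n A B) ^ (n + 1) = ⊥ := by
  unfold augIdeal
  rw [← Ideal.map_pow, Ideal.map_quotient_self]

theorem dn_sub_algebraMap_mem (b : B) : dn n A B b - algebraMap B (P n A B) b ∈ augIdeal n A B := by
  rw [dn_eq, algebraMap_eq, ← map_sub]
  apply Ideal.mem_map_of_mem
  exact KaehlerDifferential.one_smul_sub_smul_one_mem_ideal A b

end


section main
variable (n : ℕ) (A B B' : Type u) [CommRing A] [CommRing B] [Algebra A B]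
    [CommRing B'] [Algebra B B'] [Algebra A B'] [IsScalarTower A B B'] (S : Submonoid B)
    [IsLocalization S B']

/-- the submonoid -/
noncomputable abbrev Msub : Submonoid (P n A B) := S.map (algebraMap B (P n A B))


variable (L : Type u) [CommRing L] [Algebra (P n A B) L] [IsLocalization (Msub n A B S) L]
  [Algebra A L] [IsScalarTower A (P n A B) L]

/-- left map -/
noncomputable def l₀ : B →+* L :=
  (algebraMap (P n A B) L).comp (algebraMap B (P n A B))

/-- right map -/
noncomputable def r₀ : B →+* L :=
  (algebraMap (P n A B) L).comp (dn n A B).toRingHom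

include S in
theorem isUnit_l₀ (s : S) : IsUnit (l₀ n A B L s) :=
  IsLocalization.map_units L
    (⟨algebraMap B (P n A B) s, Submonoid.mem_map_of_mem _ s.2⟩ : Msub n A B S)

/-- the nilpotent ideal of the localization -/
noncomputable abbrev N₀ : Ideal L :=
  (augIdeal n A B).map (algebraMap (P n A B) L)

theorem N₀_pow : (N₀ n A B L) ^ (n + 1) = ⊥ := by
  have := Ideal.map_pow (algebraMap (P n A B) L) (augIdeal n A B) (n + 1)
  rw [augIdeal_pow, Ideal.map_bot] at this
  exact this.symm

theorem r₀_sub_l₀_mem (b : B) : r₀ n A B L b - l₀ n A B L b ∈ N₀ n A B L := by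
  unfold r₀ l₀
  simp only [RingHom.comp_apply]
  rw [← map_sub]
  exact Ideal.mem_map_of_mem _ (dn_sub_algebraMap_mem n A B b)

include S in
theorem isUnit_r₀ (s : S) : IsUnit (r₀ n A B L s) := by
  have hnil : IsNilpotent (r₀ n A B L s - l₀ n A B L s) := by
    refine ⟨n + 1, ?_⟩
    have := Ideal.pow_mem_pow (r₀_sub_l₀_mem n A B L s) (n + 1)
    rw [N₀_pow] at this
    exact this
  have := hnil.isUnit_add_left_of_commute (isUnit_l₀ n A B S L s) (Commute.all _ _)
  rwa [add_sub_cancel] at this

/-- left map from `B'` -/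
noncomputable def lB : B' →+* L :=
  IsLocalization.lift (M := S) (g := l₀ n A B L) (isUnit_l₀ n A B S L)

/-- right map from `B'` -/
noncomputable def rB : B' →+* L :=
  IsLocalization.lift (M := S) (g := r₀ n A B L) (isUnit_r₀ n A B S L)

theorem lB_algebraMap (b : B) : lB n A B B' S L (algebraMap B B' b) = l₀ n A B L b :=
  IsLocalization.lift_eq _ b

theorem rB_algebraMap (b : B) : rB n A B B' S L (algebraMap B B' b) = r₀ n A B L b :=
  IsLocalization.lift_eq _ b

theorem l₀_algebraMap (a : A) :
    l₀ n A B L (algebraMap A B a) = algebraMap A L a := by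
  unfold l₀
  rw [RingHom.comp_apply, ← IsScalarTower.algebraMap_apply A B (P n A B),
    ← IsScalarTower.algebraMap_apply A (P n A B) L]

theorem r₀_algebraMap (a : A) :
    r₀ n A B L (algebraMap A B a) = algebraMap A L a := by
  unfold r₀
  rw [RingHom.comp_apply]
  have : (dn n A B).toRingHom (algebraMap A B a) = algebraMap A (P n A B) a :=
    (dn n A B).commutes a
  rw [this, ← IsScalarTower.algebraMap_apply A (P n A B) L]

/-- left algebra map -/
noncomputable def lAlg : B' →ₐ[A] L :=
  { lB n A B B' S L with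
    commutes' := fun a => by
      change lB n A B B' S L (algebraMap A B' a) = _
      rw [IsScalarTower.algebraMap_apply A B B', lB_algebraMap, l₀_algebraMap] }

/-- right algebra map -/
noncomputable def rAlg : B' →ₐ[A] L :=
  { rB n A B B' S L with
    commutes' := fun a => by
      change rB n A B B' S L (algebraMap A B' a) = _
      rw [IsScalarTower.algebraMap_apply A B B', rB_algebraMap, r₀_algebraMap] }

/-- the map from the tensor product -/
noncomputable def Phi₀ : B' ⊗[A] B' →ₐ[A] L :=
  Algebra.TensorProduct.lift (lAlg n A B B' S L) (rAlg n A B B' S L) (fun _ _ => Commute.all _ _)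

theorem Phi₀_tmul (x y : B') :
    Phi₀ n A B B' S L (x ⊗ₜ y) = lB n A B B' S L x * rB n A B B' S L y := by
  unfold Phi₀
  rw [Algebra.TensorProduct.lift_tmul]
  rfl


theorem rB_sub_lB_mem (b' : B') : rB n A B B' S L b' - lB n A B B' S L b' ∈ N₀ n A B L := by
  obtain ⟨b, s, rfl⟩ := IsLocalization.exists_mk'_eq S b'
  have h1 : rB n A B B' S L (IsLocalization.mk' B' b s) * r₀ n A B L s = r₀ n A B L b := by
    rw [← rB_algebraMap n A B B' S L, ← rB_algebraMap n A B B' S L, ← map_mul,
      IsLocalization.mk'_spec]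
  have h2 : lB n A B B' S L (IsLocalization.mk' B' b s) * l₀ n A B L s = l₀ n A B L b := by
    rw [← lB_algebraMap n A B B' S L, ← lB_algebraMap n A B B' S L, ← map_mul,
      IsLocalization.mk'_spec]
  set x := rB n A B B' S L (IsLocalization.mk' B' b s) with hx
  set y := lB n A B B' S L (IsLocalization.mk' B' b s) with hy
  have key : (x - y) * (r₀ n A B L s * l₀ n A B L s) =
      (r₀ n A B L b - l₀ n A B L b) * l₀ n A B L s -
        l₀ n A B L b * (r₀ n A B L s - l₀ n A B L s) := by
    rw [← h1, ← h2]
    ring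
  have hmem : (x - y) * (r₀ n A B L s * l₀ n A B L s) ∈ N₀ n A B L := by
    rw [key]
    exact Ideal.sub_mem _ (Ideal.mul_mem_right _ _ (r₀_sub_l₀_mem n A B L b))
      (Ideal.mul_mem_left _ _ (r₀_sub_l₀_mem n A B L s))
  have hu : IsUnit (r₀ n A B L s * l₀ n A B L s) :=
    (isUnit_r₀ n A B S L s).mul (isUnit_l₀ n A B S L s)
  exact (Ideal.mul_unit_mem_iff_mem _ hu).mp hmem

theorem map_ideal_le :
    (KaehlerDifferential.ideal A B').map (Phi₀ n A B B' S L) ≤ N₀ n A B L := by
  rw [← KaehlerDifferential.span_range_eq_ideal, Ideal.map_span, Ideal.span_le]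
  rintro _ ⟨_, ⟨b', rfl⟩, rfl⟩
  rw [map_sub, Phi₀_tmul, Phi₀_tmul, map_one, map_one, one_mul, mul_one]
  exact rB_sub_lB_mem n A B B' S L b'

theorem Phi₀_eq_zero (x : B' ⊗[A] B') (hx : x ∈ (KaehlerDifferential.ideal A B') ^ (n + 1)) :
    Phi₀ n A B B' S L x = 0 := by
  have h1 : Phi₀ n A B B' S L x ∈ ((KaehlerDifferential.ideal A B') ^ (n + 1)).map
      (Phi₀ n A B B' S L) := Ideal.mem_map_of_mem _ hx
  rw [Ideal.map_pow] at h1
  have h2 := Ideal.pow_right_mono (map_ideal_le n A B B' S L) (n + 1) h1
  rw [N₀_pow] at h2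
  exact h2

/-- the map from `P'` to the localization -/
noncomputable def Phi : P n A B' →+* L :=
  Ideal.Quotient.lift _ (Phi₀ n A B B' S L).toRingHom (Phi₀_eq_zero n A B B' S L)

theorem Phi_mk (x : B' ⊗[A] B') : Phi n A B B' S L (Ideal.Quotient.mk _ x) = Phi₀ n A B B' S L x :=
  rfl


/-- the functoriality map as a ring hom -/
noncomputable abbrev gmap : P n A B →+* P n A B' := (PP16.map n A B A B').toRingHom

include S in
theorem isUnit_gmap (y : Msub n A B S) : IsUnit (gmap n A B B' y) := by
  obtain ⟨_, ⟨s, hs, rfl⟩⟩ := y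
  change IsUnit (PP16.map n A B A B' (algebraMap B (P n A B) s))
  rw [PP16.map_algebraMap]
  exact (IsLocalization.map_units B' (⟨s, hs⟩ : S)).map _

/-- the map from the localization to `P'` -/
noncomputable def Psi : L →+* P n A B' :=
  IsLocalization.lift (M := Msub n A B S) (g := gmap n A B B') (isUnit_gmap n A B B' S)

theorem Psi_algebraMap (p : P n A B) :
    Psi n A B B' S L (algebraMap (P n A B) L p) = gmap n A B B' p :=
  IsLocalization.lift_eq _ p

theorem Phi_gmap (p : P n A B) :
    Phi n A B B' S L (gmap n A B B' p) = algebraMap (P n A B) L p := by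
  obtain ⟨x, rfl⟩ := Ideal.Quotient.mk_surjective p
  change Phi n A B B' S L (PP16.map n A B A B' (Ideal.Quotient.mk _ x)) = _
  rw [PP16.map_mk, Phi_mk]
  induction x using TensorProduct.induction_on with
  | zero => simp
  | tmul b c =>
    rw [PP16.tensorMap_tmul, Phi₀_tmul, lB_algebraMap, rB_algebraMap]
    unfold l₀ r₀
    simp only [RingHom.comp_apply]
    rw [← map_mul]
    congr 1
    change Ideal.Quotient.mk _ (b ⊗ₜ[A] (1 : B)) * Ideal.Quotient.mk _ ((1 : B) ⊗ₜ[A] c) = _
    rw [← map_mul, Algebra.TensorProduct.tmul_mul_tmul, mul_one, one_mul]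
  | add x y hx hy =>
    simp only [map_add] at hx hy ⊢
    rw [hx, hy]

theorem Phi_Psi (z : L) : Phi n A B B' S L (Psi n A B B' S L z) = z := by
  have : (Phi n A B B' S L).comp (Psi n A B B' S L) = RingHom.id L := by
    apply IsLocalization.ringHom_ext (Msub n A B S)
    refine RingHom.ext (fun p => ?_)
    simp only [RingHom.comp_apply, RingHom.id_apply]
    rw [Psi_algebraMap, Phi_gmap]
  exact RingHom.congr_fun this z

theorem Psi_lB (b' : B') :
    Psi n A B B' S L (lB n A B B' S L b') = algebraMap B' (P n A B') b' := by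
  have : (Psi n A B B' S L).comp (lB n A B B' S L) = algebraMap B' (P n A B') := by
    apply IsLocalization.ringHom_ext S
    refine RingHom.ext (fun b => ?_)
    simp only [RingHom.comp_apply]
    rw [lB_algebraMap]
    unfold l₀
    rw [RingHom.comp_apply, Psi_algebraMap]
    exact PP16.map_algebraMap n A B A B' b
  exact RingHom.congr_fun this b'

theorem Psi_rB (b' : B') :
    Psi n A B B' S L (rB n A B B' S L b') = dn n A B' b' := by
  have : (Psi n A B B' S L).comp (rB n A B B' S L) = (dn n A B').toRingHom := by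
    apply IsLocalization.ringHom_ext S
    refine RingHom.ext (fun b => ?_)
    simp only [RingHom.comp_apply]
    rw [rB_algebraMap]
    unfold r₀
    rw [RingHom.comp_apply, Psi_algebraMap]
    exact PP16.map_dn n A B A B' b
  exact RingHom.congr_fun this b'

theorem Psi_Phi (z : P n A B') : Psi n A B B' S L (Phi n A B B' S L z) = z := by
  obtain ⟨x, rfl⟩ := Ideal.Quotient.mk_surjective z
  rw [Phi_mk]
  induction x using TensorProduct.induction_on with
  | zero => simp
  | tmul b c =>
    rw [Phi₀_tmul, map_mul, Psi_lB, Psi_rB]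
    change Ideal.Quotient.mk _ (b ⊗ₜ[A] (1 : B')) * Ideal.Quotient.mk _ ((1 : B') ⊗ₜ[A] c) = _
    rw [← map_mul, Algebra.TensorProduct.tmul_mul_tmul, mul_one, one_mul]
  | add x y hx hy =>
    simp only [map_add] at hx hy ⊢
    rw [hx, hy]

end main

end W4


/-- Let B be an A-algebra, S a multiplicative subset of B and B' = S⁻¹B. Then the canonical map
S⁻¹P^n_{B/A} → P^n_{B'/A} induced by functoriality is an isomorphism: P^n_{B'/A} is the localization
of P^n_{B/A} at the image of S. -/
theorem result (n : ℕ) (A B B' : Type u) [CommRing A] [CommRing B] [Algebra A B]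
    [CommRing B'] [Algebra B B'] [Algebra A B'] [IsScalarTower A B B'] (S : Submonoid B) [IsLocalization S B'] :
    IsLocalization (S.map (algebraMap B (PP16.P n A B))) (PP16.P n A B') := by
  let L := Localization (W4.Msub n A B S)
  let e : L ≃ₐ[P n A B] P n A B' :=
    { toFun := W4.Psi n A B B' S L
      invFun := W4.Phi n A B B' S L
      left_inv := W4.Phi_Psi n A B B' S L
      right_inv := W4.Psi_Phi n A B B' S L
      map_mul' := map_mul _
      map_add' := map_add _
      commutes' := fun p => W4.Psi_algebraMap n A B B' S L p }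
  exact IsLocalization.isLocalization_of_algEquiv (S := L) (W4.Msub n A B S) e

end Groth.Agent.S3807
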