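import Groth.Statements.S3808
import Groth.Agent.Lib.Helper18.PPLoc

set_option autoImplicit false
universe u
open scoped TensorProduct
open PP16

namespace Groth.Agent.S3808

/-- Let A → B be a ring map, R a multiplicative subset of A, S one of B containing the image of R, and
A' = R⁻¹A, B' = S⁻¹B with the induced map A' → B'. Then the canonical map P^n_{B'/A} → P^n_{B'/A'}
is bijective. -/
theorem result (n : ℕ) (A B A' B' : Type u) [CommRing A] [CommRing B] [Algebra A B]
    [CommRing A'] [CommRing B'] [Algebra A A'] [Algebra B B'] [Algebra A' B'] [Algebra A B']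
    [IsScalarTower A A' B'] [IsScalarTower A B B'] (R : Submonoid A) (S : Submonoid B) [IsLocalization R A']
    [IsLocalization S B'] (hRS : ∀ r ∈ R, algebraMap A B r ∈ S) :
    Function.Bijective (PP16.map n A B' A' B') := by
  have hb := Groth.Agent.Lib.Helper18.tensorMap_loc_bijective A A' B' R
  have h := Groth.Agent.H18.quotPow_surj_ker (tensorMap A B' A' B').toRingHom hb.2
    (KaehlerDifferential.ideal A B') (KaehlerDifferential.ideal A' B')
    (Groth.Agent.Lib.Helper18.ideal_map_tensorMap_of_surjective A B' A' B' (fun x => ⟨x, rfl⟩)) (n + 1)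
    (PP16.map n A B' A' B').toRingHom (fun x => map_mk n A B' A' B' x)
  refine ⟨?_, h.1⟩
  have h2 := h.2
  have hk : RingHom.ker (tensorMap A B' A' B').toRingHom = ⊥ :=
    (RingHom.injective_iff_ker_eq_bot _).mp hb.1
  rw [hk, Ideal.map_bot] at h2
  exact (RingHom.injective_iff_ker_eq_bot _).mpr h2

end Groth.Agent.S3808
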