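import Groth.Statements.S3809
import Groth.Agent.H18.PPTower

set_option autoImplicit false
universe u
open scoped TensorProduct
open PP16

namespace Groth.Agent.S3809

/-- Let A → B → C be ring maps. Then the canonical map P^n_{C/A} → P^n_{C/B} is surjective, and its
kernel is the ideal generated by the image, under the canonical map P^n_{B/A} → P^n_{C/A}, of the
augmentation ideal of P^n_{B/A}. -/
theorem result (n : ℕ) (A B C : Type u) [CommRing A] [CommRing B] [CommRing C]
    [Algebra A B] [Algebra B C] [Algebra A C] [IsScalarTower A B C] :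
    Function.Surjective (PP16.map n A C B C) ∧
      RingHom.ker (PP16.map n A C B C) = (PP16.augIdeal n A B).map (PP16.map n A B A C) := by
  have h := Groth.Agent.H18.quotPow_surj_ker (tensorMap A C B C).toRingHom
    (Groth.Agent.H18.tensorMap_tower_surjective A B C)
    (KaehlerDifferential.ideal A C) (KaehlerDifferential.ideal B C)
    (Groth.Agent.H18.ideal_map_tensorMap_tower A B C) (n + 1) (PP16.map n A C B C).toRingHom
    (fun x => map_mk n A C B C x)
  refine ⟨h.1, ?_⟩
  have h2 := h.2
  have hk : RingHom.ker (tensorMap A C B C).toRingHom = RingHom.ker (tensorMap A C B C) := rfl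
  have e1 : Ideal.map (tensorMap A B A C) (KaehlerDifferential.ideal A B) =
      Ideal.map ((tensorMap A B A C : B ⊗[A] B →ₐ[A] C ⊗[A] C) : B ⊗[A] B →+* C ⊗[A] C)
        (KaehlerDifferential.ideal A B) := rfl
  have e3 : Ideal.map (PP16.map n A B A C) (PP16.augIdeal n A B) =
      Ideal.map ((PP16.map n A B A C : P n A B →ₐ[A] P n A C) : P n A B →+* P n A C)
        (PP16.augIdeal n A B) := rfl
  rw [hk, Groth.Agent.H18.ker_tensorMap_tower, e1, Ideal.map_map] at h2
  rw [e3, PP16.augIdeal, Ideal.map_map]
  rw [show RingHom.ker (PP16.map n A C B C) = RingHom.ker (PP16.map n A C B C).toRingHom from rfl, h2]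
  congr 1

end Groth.Agent.S3809
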