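import Groth.Statements.S3810
import Groth.Agent.H18.PPBasic

set_option autoImplicit false
universe u
open scoped TensorProduct
open PP16

namespace Groth.Agent.S3810

/-- Let B be an A-algebra, K an ideal of B and C = B/K. Then the canonical map P^n_{B/A} → P^n_{C/A} is
surjective and its kernel is the ideal generated by the image of K under the structure map B →
P^n_{B/A} together with the image of K under the principal-part map d^n (the latter is an additive
subgroup, not a B-submodule, in general). -/
theorem result (n : ℕ) (A B : Type u) [CommRing A] [CommRing B] [Algebra A B]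
    (K : Ideal B) :
    Function.Surjective (PP16.map n A B A (B ⧸ K)) ∧
      RingHom.ker (PP16.map n A B A (B ⧸ K)) =
        K.map (algebraMap B (PP16.P n A B)) ⊔ K.map (PP16.dn n A B) := by
  have h := Groth.Agent.H18.quotPow_surj_ker (tensorMap A B A (B ⧸ K)).toRingHom
    (Groth.Agent.H18.tensorMap_quot_surjective A B K)
    (KaehlerDifferential.ideal A B) (KaehlerDifferential.ideal A (B ⧸ K))
    (Groth.Agent.H18.ideal_map_tensorMap_quot A B K) (n + 1) (PP16.map n A B A (B ⧸ K)).toRingHom
    (fun x => map_mk n A B A (B ⧸ K) x)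
  refine ⟨h.1, ?_⟩
  have h2 := h.2
  have hk : RingHom.ker (tensorMap A B A (B ⧸ K)).toRingHom =
      RingHom.ker (tensorMap A B A (B ⧸ K)) := rfl
  have e1 : Ideal.map (Algebra.TensorProduct.includeLeft : B →ₐ[A] B ⊗[A] B) K =
      Ideal.map ((Algebra.TensorProduct.includeLeft : B →ₐ[A] B ⊗[A] B) : B →+* B ⊗[A] B) K := rfl
  have e2 : Ideal.map (Algebra.TensorProduct.includeRight : B →ₐ[A] B ⊗[A] B) K =
      Ideal.map ((Algebra.TensorProduct.includeRight : B →ₐ[A] B ⊗[A] B) : B →+* B ⊗[A] B) K := rfl
  rw [hk, Groth.Agent.H18.ker_tensorMap_quot, Ideal.map_sup, e1, e2, Ideal.map_map,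
    Ideal.map_map] at h2
  exact h2

end Groth.Agent.S3810
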