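import Groth.Statements.S3812
import Mathlib.RingTheory.TensorProduct.MvPolynomial
import Mathlib.RingTheory.Kaehler.Basic
import Mathlib.RingTheory.Ideal.Quotient.Operations

set_option autoImplicit false
universe u
open scoped TensorProduct
open PP16

namespace Groth.Agent.S3812

section helpers

variable (n : ℕ) (A : Type u) [CommRing A] (σ : Type u)

local notation "BB" => MvPolynomial σ A

/-- the shift automorphism `X_i ↦ X_i + C (X_i)` of `B[σ]`, `B = A[σ]`. -/
noncomputable def shiftEquiv : MvPolynomial σ (MvPolynomial σ A) ≃ₐ[MvPolynomial σ A] MvPolynomial σ (MvPolynomial σ A) :=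
  AlgEquiv.ofAlgHom
    (MvPolynomial.aeval (fun i => MvPolynomial.X i + MvPolynomial.C (MvPolynomial.X i)))
    (MvPolynomial.aeval (fun i => MvPolynomial.X i - MvPolynomial.C (MvPolynomial.X i)))
    (by ext i; simp)
    (by ext i; simp)

/-- `B ⊗ B ≃ B[σ]`, with `1 ⊗ X_i ↦ X_i + C X_i`. -/
noncomputable def e1 : (MvPolynomial σ A) ⊗[A] (MvPolynomial σ A) ≃ₐ[MvPolynomial σ A] MvPolynomial σ (MvPolynomial σ A) :=
  (MvPolynomial.algebraTensorAlgEquiv A (MvPolynomial σ A)).trans (shiftEquiv A σ)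

theorem e1_tmul (b p : MvPolynomial σ A) :
    e1 A σ (b ⊗ₜ p) = b • shiftEquiv A σ (MvPolynomial.map (algebraMap A (MvPolynomial σ A)) p) := by
  simp [e1]

theorem e1_one_tmul_X (i : σ) :
    e1 A σ ((1 : MvPolynomial σ A) ⊗ₜ MvPolynomial.X i) =
      MvPolynomial.X i + MvPolynomial.C (MvPolynomial.X i) := by
  rw [e1_tmul]; simp [shiftEquiv]

theorem e1_tmul_one (b : MvPolynomial σ A) :
    e1 A σ (b ⊗ₜ (1 : MvPolynomial σ A)) = MvPolynomial.C b := by
  rw [e1_tmul]; simp [MvPolynomial.algebraMap_eq, Algebra.smul_def]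

theorem ideal_map_e1 :
    (KaehlerDifferential.ideal A (MvPolynomial σ A)).map (e1 A σ) =
      Ideal.span (Set.range (MvPolynomial.X : σ → MvPolynomial σ (MvPolynomial σ A))) := by
  set J := Ideal.span (Set.range (MvPolynomial.X : σ → MvPolynomial σ (MvPolynomial σ A)))
  apply le_antisymm
  · rw [← KaehlerDifferential.span_range_eq_ideal, Ideal.map_span, Ideal.span_le]
    rintro _ ⟨_, ⟨s, rfl⟩, rfl⟩
    show e1 A σ ((1 : MvPolynomial σ A) ⊗ₜ s - s ⊗ₜ (1 : MvPolynomial σ A)) ∈ J
    -- two `A`-algebra maps agreeing mod `J`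
    let ψ₁ : MvPolynomial σ A →ₐ[A] (MvPolynomial σ (MvPolynomial σ A) ⧸ J) :=
      (Ideal.Quotient.mkₐ A J).comp (((e1 A σ).toAlgHom.restrictScalars A).comp
        Algebra.TensorProduct.includeRight)
    let ψ₂ : MvPolynomial σ A →ₐ[A] (MvPolynomial σ (MvPolynomial σ A) ⧸ J) :=
      (Ideal.Quotient.mkₐ A J).comp (((e1 A σ).toAlgHom.restrictScalars A).comp
        Algebra.TensorProduct.includeLeft)
    have h : ψ₁ = ψ₂ := by
      apply MvPolynomial.algHom_ext
      intro i
      simp only [ψ₁, ψ₂, AlgHom.comp_apply, Algebra.TensorProduct.includeRight_apply,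
        Algebra.TensorProduct.includeLeft_apply, AlgHom.restrictScalars_apply]
      show Ideal.Quotient.mk J (e1 A σ ((1 : MvPolynomial σ A) ⊗ₜ MvPolynomial.X i)) =
        Ideal.Quotient.mk J (e1 A σ ((MvPolynomial.X i : MvPolynomial σ A) ⊗ₜ (1 : MvPolynomial σ A)))
      rw [e1_one_tmul_X, e1_tmul_one, Ideal.Quotient.eq, add_sub_cancel_right]
      exact Ideal.subset_span ⟨i, rfl⟩
    have h' := DFunLike.congr_fun h s
    simp only [ψ₁, ψ₂, AlgHom.comp_apply, Algebra.TensorProduct.includeRight_apply,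
        Algebra.TensorProduct.includeLeft_apply, AlgHom.restrictScalars_apply] at h'
    rw [map_sub]
    exact (Ideal.Quotient.eq).mp h'
  · rw [Ideal.span_le]
    rintro _ ⟨i, rfl⟩
    have : (MvPolynomial.X i : MvPolynomial σ (MvPolynomial σ A)) =
        e1 A σ ((1 : MvPolynomial σ A) ⊗ₜ MvPolynomial.X i - (MvPolynomial.X i : MvPolynomial σ A) ⊗ₜ (1 : MvPolynomial σ A)) := by
      rw [map_sub, e1_one_tmul_X, e1_tmul_one, add_sub_cancel_right]
    rw [this]
    exact Ideal.mem_map_of_mem _ (KaehlerDifferential.one_smul_sub_smul_one_mem_ideal A _)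


end helpers

/-- Let B = A[T_i] be a polynomial algebra. There is an isomorphism of B-algebras from P^n_{B/A} onto
B[U_i]/(U)^(n+1), where (U) is the ideal generated by the new indeterminates, sending the principal
part d^n T_i to the class of T_i + U_i for every i (so d^n F(T) goes to the class of F(T + U)). -/
theorem result (n : ℕ) (A : Type u) [CommRing A] (σ : Type u) :
    ∃ e : PP16.P n A (MvPolynomial σ A) ≃ₐ[MvPolynomial σ A]
        (MvPolynomial σ (MvPolynomial σ A) ⧸
          Ideal.span (Set.range (MvPolynomial.X : σ → MvPolynomial σ (MvPolynomial σ A))) ^ (n + 1)),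
      ∀ i : σ, e (PP16.dn n A (MvPolynomial σ A) (MvPolynomial.X i)) =
        Ideal.Quotient.mk _ (MvPolynomial.C (MvPolynomial.X i : MvPolynomial σ A) +
          (MvPolynomial.X i : MvPolynomial σ (MvPolynomial σ A))) := by
  have hI : Ideal.span (Set.range (MvPolynomial.X : σ → MvPolynomial σ (MvPolynomial σ A))) ^ (n + 1) =
      Ideal.map ((e1 A σ : _ ≃ₐ[MvPolynomial σ A] _) : _ →+* _)
        (KaehlerDifferential.ideal A (MvPolynomial σ A) ^ (n + 1)) := by
    rw [Ideal.map_pow]
    exact congrArg (· ^ (n + 1)) (ideal_map_e1 A σ).symm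
  refine ⟨Ideal.quotientEquivAlg _ _ (e1 A σ) hI, ?_⟩
  intro i
  change Ideal.quotientEquivAlg _ _ (e1 A σ) hI (Ideal.Quotient.mk _ ((1 : MvPolynomial σ A) ⊗ₜ[A] MvPolynomial.X i)) = _
  rw [Ideal.quotientEquivAlg_mk]
  congr 1
  rw [add_comm]
  exact e1_one_tmul_X A σ i

end Groth.Agent.S3812
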