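import Groth.Statements.S3813
import Mathlib.LinearAlgebra.SymmetricAlgebra.Basic
import Mathlib.LinearAlgebra.TensorProduct.RightExactness
import Mathlib.RingTheory.Kaehler.Basic
import Mathlib.RingTheory.Ideal.Quotient.Operations

set_option autoImplicit false
universe u
open scoped TensorProduct
open PP16

namespace Groth.Agent.S3813

section helpers

variable (n : ℕ) (A : Type u) [CommRing A] (E : Type u) [AddCommGroup E] [Module A E]

local notation "SS" => SymmetricAlgebra A E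

/-- augmentation `Sym E → A`. -/
noncomputable abbrev aug : SymmetricAlgebra A E →ₐ[A] A := SymmetricAlgebra.lift (0 : E →ₗ[A] A)

/-- comultiplication `t ↦ t ⊗ 1 + 1 ⊗ t`. -/
noncomputable def comul : SymmetricAlgebra A E →ₐ[A] SymmetricAlgebra A E ⊗[A] SymmetricAlgebra A E :=
  SymmetricAlgebra.lift
    ((Algebra.TensorProduct.includeLeft : SS →ₐ[A] SS ⊗[A] SS).toLinearMap ∘ₗ SymmetricAlgebra.ι A E +
      (Algebra.TensorProduct.includeRight : SS →ₐ[A] SS ⊗[A] SS).toLinearMap ∘ₗ SymmetricAlgebra.ι A E)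

/-- `t ↦ 1 ⊗ t - t ⊗ 1`. -/
noncomputable def comul' : SymmetricAlgebra A E →ₐ[A] SymmetricAlgebra A E ⊗[A] SymmetricAlgebra A E :=
  SymmetricAlgebra.lift
    ((Algebra.TensorProduct.includeRight : SS →ₐ[A] SS ⊗[A] SS).toLinearMap ∘ₗ SymmetricAlgebra.ι A E -
      (Algebra.TensorProduct.includeLeft : SS →ₐ[A] SS ⊗[A] SS).toLinearMap ∘ₗ SymmetricAlgebra.ι A E)

theorem comul_ι (t : E) : comul A E (SymmetricAlgebra.ι A E t) =
    SymmetricAlgebra.ι A E t ⊗ₜ 1 + 1 ⊗ₜ SymmetricAlgebra.ι A E t := by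
  simp [comul]

theorem comul'_ι (t : E) : comul' A E (SymmetricAlgebra.ι A E t) =
    1 ⊗ₜ SymmetricAlgebra.ι A E t - SymmetricAlgebra.ι A E t ⊗ₜ 1 := by
  simp [comul']

/-- `b ⊗ c ↦ (b ⊗ 1) * comul c`. -/
noncomputable def Phi : SS ⊗[A] SS →ₐ[SS] SS ⊗[A] SS :=
  Algebra.TensorProduct.lift (Algebra.ofId SS (SS ⊗[A] SS)) (comul A E) (fun _ _ => Commute.all _ _)

noncomputable def Phi' : SS ⊗[A] SS →ₐ[SS] SS ⊗[A] SS :=
  Algebra.TensorProduct.lift (Algebra.ofId SS (SS ⊗[A] SS)) (comul' A E) (fun _ _ => Commute.all _ _)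

theorem Phi_one_tmul (c : SS) : Phi A E (1 ⊗ₜ c) = comul A E c := by
  simp [Phi, ← Algebra.TensorProduct.one_def]

theorem Phi'_one_tmul (c : SS) : Phi' A E (1 ⊗ₜ c) = comul' A E c := by
  simp [Phi', ← Algebra.TensorProduct.one_def]

theorem Phi_tmul_one (b : SS) : Phi A E (b ⊗ₜ 1) = b ⊗ₜ 1 := by
  simp [Phi, Algebra.ofId_apply]

theorem Phi'_tmul_one (b : SS) : Phi' A E (b ⊗ₜ 1) = b ⊗ₜ 1 := by
  simp [Phi', Algebra.ofId_apply]

theorem Phi_comp_Phi' : (Phi A E).comp (Phi' A E) = AlgHom.id SS _ := by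
  apply Algebra.TensorProduct.ext
  · ext
  · apply SymmetricAlgebra.algHom_ext
    ext t
    show Phi A E (Phi' A E (1 ⊗ₜ SymmetricAlgebra.ι A E t)) = 1 ⊗ₜ SymmetricAlgebra.ι A E t
    rw [Phi'_one_tmul, comul'_ι, map_sub, Phi_one_tmul, comul_ι, Phi_tmul_one]
    abel

theorem Phi'_comp_Phi : (Phi' A E).comp (Phi A E) = AlgHom.id SS _ := by
  apply Algebra.TensorProduct.ext
  · ext
  · apply SymmetricAlgebra.algHom_ext
    ext t
    show Phi' A E (Phi A E (1 ⊗ₜ SymmetricAlgebra.ι A E t)) = 1 ⊗ₜ SymmetricAlgebra.ι A E t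
    rw [Phi_one_tmul, comul_ι, map_add, Phi'_one_tmul, comul'_ι, Phi'_tmul_one]
    abel

noncomputable def PhiEquiv : SS ⊗[A] SS ≃ₐ[SS] SS ⊗[A] SS :=
  AlgEquiv.ofAlgHom (Phi A E) (Phi' A E) (Phi_comp_Phi' A E) (Phi'_comp_Phi A E)

theorem ι_mem_ker_aug (t : E) : SymmetricAlgebra.ι A E t ∈ RingHom.ker (aug A E) := by
  rw [RingHom.mem_ker]; simp [aug]

theorem ideal_map_Phi_le :
    (KaehlerDifferential.ideal A SS).map (Phi A E) ≤
      (RingHom.ker (aug A E)).map (Algebra.TensorProduct.includeRight : SS →ₐ[A] SS ⊗[A] SS) := by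
  set J := (RingHom.ker (aug A E)).map (Algebra.TensorProduct.includeRight : SS →ₐ[A] SS ⊗[A] SS)
  rw [← KaehlerDifferential.span_range_eq_ideal, Ideal.map_span, Ideal.span_le]
  rintro _ ⟨_, ⟨s, rfl⟩, rfl⟩
  show Phi A E ((1 : SS) ⊗ₜ s - s ⊗ₜ (1 : SS)) ∈ J
  rw [map_sub, Phi_one_tmul, Phi_tmul_one]
  induction s using SymmetricAlgebra.induction with
  | algebraMap r =>
    have : comul A E (algebraMap A SS r) - (algebraMap A SS r) ⊗ₜ[A] (1 : SS) = 0 := by
      rw [AlgHom.commutes, Algebra.TensorProduct.algebraMap_apply, sub_self]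
    rw [this]; exact Ideal.zero_mem _
  | ι t =>
    rw [comul_ι, add_sub_cancel_left]
    exact Ideal.mem_map_of_mem _ (ι_mem_ker_aug A E t)
  | mul a b ha hb =>
    have : comul A E (a * b) - (a * b) ⊗ₜ[A] (1 : SS) =
        comul A E a * (comul A E b - b ⊗ₜ[A] (1 : SS)) +
          (comul A E a - a ⊗ₜ[A] (1 : SS)) * (b ⊗ₜ[A] (1 : SS)) := by
      rw [map_mul, mul_sub, sub_mul, Algebra.TensorProduct.tmul_mul_tmul, mul_one]
      abel
    rw [this]
    exact Ideal.add_mem _ (Ideal.mul_mem_left _ _ hb) (Ideal.mul_mem_right _ _ ha)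
  | add a b ha hb =>
    have : comul A E (a + b) - (a + b) ⊗ₜ[A] (1 : SS) =
        (comul A E a - a ⊗ₜ[A] (1 : SS)) + (comul A E b - b ⊗ₜ[A] (1 : SS)) := by
      rw [map_add, TensorProduct.add_tmul]; abel
    rw [this]
    exact Ideal.add_mem _ ha hb

theorem ideal_map_Phi'_le :
    ((RingHom.ker (aug A E)).map (Algebra.TensorProduct.includeRight : SS →ₐ[A] SS ⊗[A] SS)).map (Phi' A E) ≤
      KaehlerDifferential.ideal A SS := by
  rw [Ideal.map_le_iff_le_comap, Ideal.map_le_iff_le_comap]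
  intro k hk
  show Phi' A E ((1 : SS) ⊗ₜ k) ∈ KaehlerDifferential.ideal A SS
  rw [Phi'_one_tmul, KaehlerDifferential.ideal, RingHom.mem_ker]
  have h : (Algebra.TensorProduct.lmul' A (S := SS)).comp (comul' A E) =
      (Algebra.ofId A SS).comp (aug A E) := by
    apply SymmetricAlgebra.algHom_ext
    ext t
    show Algebra.TensorProduct.lmul' A (comul' A E (SymmetricAlgebra.ι A E t)) =
      algebraMap A SS (aug A E (SymmetricAlgebra.ι A E t))
    rw [comul'_ι]; simp [aug]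
  have h' := DFunLike.congr_fun h k
  simp only [AlgHom.comp_apply] at h'
  rw [h', (RingHom.mem_ker).mp hk, map_zero]

theorem ideal_map_PhiEquiv :
    (KaehlerDifferential.ideal A SS).map (PhiEquiv A E) =
      (RingHom.ker (aug A E)).map (Algebra.TensorProduct.includeRight : SS →ₐ[A] SS ⊗[A] SS) := by
  apply le_antisymm (ideal_map_Phi_le A E)
  intro x hx
  have h1 : Phi' A E x ∈ KaehlerDifferential.ideal A SS :=
    ideal_map_Phi'_le A E (Ideal.mem_map_of_mem _ hx)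
  have h2 : x = PhiEquiv A E (Phi' A E x) := by
    have := DFunLike.congr_fun (Phi_comp_Phi' A E) x
    simpa [PhiEquiv] using this.symm
  rw [h2]
  exact Ideal.mem_map_of_mem _ h1

/-- the surjection `SS ⊗ SS → SS ⊗ (SS / K^(n+1))`. -/
noncomputable def qMap : SS ⊗[A] SS →ₐ[SS] SS ⊗[A] (SS ⧸ (RingHom.ker (aug A E)) ^ (n + 1)) :=
  Algebra.TensorProduct.map (AlgHom.id SS SS) (Ideal.Quotient.mkₐ A ((RingHom.ker (aug A E)) ^ (n + 1)))

theorem qMap_tmul (b c : SS) : qMap n A E (b ⊗ₜ c) = b ⊗ₜ Ideal.Quotient.mk _ c := rfl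

theorem qMap_surjective : Function.Surjective (qMap n A E) := by
  have := Algebra.TensorProduct.map_surjective (AlgHom.id SS SS)
    (Ideal.Quotient.mkₐ A ((RingHom.ker (aug A E)) ^ (n + 1))) (fun x => ⟨x, rfl⟩)
    (Ideal.Quotient.mkₐ_surjective A _)
  exact this

theorem ker_qMap : RingHom.ker (qMap n A E) =
    ((RingHom.ker (aug A E)) ^ (n + 1)).map (Algebra.TensorProduct.includeRight : SS →ₐ[A] SS ⊗[A] SS) := by
  have h := Algebra.TensorProduct.lTensor_ker (A := SS) (R := A)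
    (Ideal.Quotient.mkₐ A ((RingHom.ker (aug A E)) ^ (n + 1))) (Ideal.Quotient.mkₐ_surjective A _)
  have hk : RingHom.ker (Ideal.Quotient.mkₐ A ((RingHom.ker (aug A E)) ^ (n + 1))) =
      (RingHom.ker (aug A E)) ^ (n + 1) := Ideal.Quotient.mkₐ_ker A _
  rw [hk] at h
  rw [← h]
  ext x
  rw [RingHom.mem_ker, RingHom.mem_ker]
  rfl

/-- the composite `SS ⊗ SS → SS ⊗ SS → SS ⊗ (SS / K^(n+1))`. -/
noncomputable def FMap : SS ⊗[A] SS →ₐ[SS] SS ⊗[A] (SS ⧸ (RingHom.ker (aug A E)) ^ (n + 1)) :=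
  (qMap n A E).comp (Phi A E)

theorem FMap_surjective : Function.Surjective (FMap n A E) := by
  have h1 : Function.Surjective (Phi A E) := (PhiEquiv A E).surjective
  exact (qMap_surjective n A E).comp h1

theorem ker_FMap : RingHom.ker (FMap n A E) = (KaehlerDifferential.ideal A SS) ^ (n + 1) := by
  have h1 : RingHom.ker (FMap n A E) = (RingHom.ker (qMap n A E)).comap (PhiEquiv A E) := by
    ext x
    rw [RingHom.mem_ker, Ideal.mem_comap, RingHom.mem_ker]
    rfl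
  rw [h1, ker_qMap]
  have h2 : ((RingHom.ker (aug A E)) ^ (n + 1)).map
      (Algebra.TensorProduct.includeRight : SS →ₐ[A] SS ⊗[A] SS) =
      ((KaehlerDifferential.ideal A SS) ^ (n + 1)).map (PhiEquiv A E) := by
    rw [Ideal.map_pow, Ideal.map_pow, ideal_map_PhiEquiv]
  rw [h2]
  exact Ideal.comap_map_of_bijective _ (PhiEquiv A E).bijective


end helpers

/-- Let E be an A-module, B = Sym_A(E) its symmetric algebra and K the augmentation ideal of B (the
kernel of the A-algebra map B → A killing E). For every n there is an isomorphism of B-algebras from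
P^n_{B/A} onto B ⊗_A (B/K^(n+1)) sending the principal part d^n t of an element t of E to t ⊗ 1 + 1
⊗ (class of t). -/
theorem result (n : ℕ) (A : Type u) [CommRing A] (E : Type u) [AddCommGroup E]
    [Module A E] :
    ∃ e : PP16.P n A (SymmetricAlgebra A E) ≃ₐ[SymmetricAlgebra A E]
        (SymmetricAlgebra A E ⊗[A] (SymmetricAlgebra A E ⧸
          RingHom.ker (SymmetricAlgebra.lift (0 : E →ₗ[A] A)) ^ (n + 1))),
      ∀ t : E, e (PP16.dn n A (SymmetricAlgebra A E) (SymmetricAlgebra.ι A E t)) =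
        SymmetricAlgebra.ι A E t ⊗ₜ 1 + 1 ⊗ₜ Ideal.Quotient.mk _ (SymmetricAlgebra.ι A E t) := by
  refine ⟨(Ideal.quotientEquivAlgOfEq (SymmetricAlgebra A E) (ker_FMap n A E).symm).trans
    (Ideal.quotientKerAlgEquivOfSurjective (FMap_surjective n A E)), ?_⟩
  intro t
  change (Ideal.quotientKerAlgEquivOfSurjective (FMap_surjective n A E))
    (Ideal.quotientEquivAlgOfEq (SymmetricAlgebra A E) (ker_FMap n A E).symm
      (Ideal.Quotient.mk _ ((1 : (SymmetricAlgebra A E)) ⊗ₜ[A] SymmetricAlgebra.ι A E t))) = _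
  rw [Ideal.quotientEquivAlgOfEq_mk, Ideal.quotientKerAlgEquivOfSurjective_mk]
  show qMap n A E (Phi A E ((1 : (SymmetricAlgebra A E)) ⊗ₜ[A] SymmetricAlgebra.ι A E t)) = _
  rw [Phi_one_tmul, comul_ι, map_add, qMap_tmul, qMap_tmul, map_one]

end Groth.Agent.S3813
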