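import Groth.Statements.S3814
import Mathlib.RingTheory.FinitePresentation
import Mathlib.RingTheory.FiniteStability
import Mathlib.RingTheory.Kaehler.Basic
import Mathlib.RingTheory.Finiteness.ModuleFinitePresentation
import Mathlib.RingTheory.IntegralClosure.IsIntegralClosure.Basic

set_option autoImplicit false
universe u
open scoped TensorProduct
open PP16

namespace Groth.Agent.S3814

/-- If B is an A-algebra of finite presentation, then for every n the B-module P^n_{B/A} of principal
parts of order n is of finite presentation. -/
theorem result (n : ℕ) (A B : Type u) [CommRing A] [CommRing B]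
    [Algebra A B] [Algebra.FinitePresentation A B] :
    Module.FinitePresentation B (PP16.P n A B) := by
  have h1 : Algebra.FinitePresentation B (B ⊗[A] B) := inferInstance
  have hfg : ((KaehlerDifferential.ideal A B) ^ (n + 1)).FG :=
    (KaehlerDifferential.ideal_fg A B).pow
  have h2 : Algebra.FinitePresentation B (PP16.P n A B) :=
    Algebra.FinitePresentation.quotient hfg
  have h3 : Algebra.IsIntegral B (PP16.P n A B) := by
    refine ⟨fun x => ?_⟩
    obtain ⟨y, rfl⟩ := Ideal.Quotient.mk_surjective x
    have hy : y - (Algebra.TensorProduct.lmul' A y) ⊗ₜ[A] (1 : B) ∈ KaehlerDifferential.ideal A B := by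
      rw [KaehlerDifferential.ideal, RingHom.mem_ker, map_sub]
      simp
    have e : Ideal.Quotient.mk (KaehlerDifferential.ideal A B ^ (n + 1)) y =
        algebraMap B (PP16.P n A B) (Algebra.TensorProduct.lmul' A y) +
          Ideal.Quotient.mk _ (y - (Algebra.TensorProduct.lmul' A y) ⊗ₜ[A] (1 : B)) := by
      change _ = Ideal.Quotient.mk _ ((Algebra.TensorProduct.lmul' A y) ⊗ₜ[A] (1 : B)) + _
      rw [← map_add]
      congr 1
      abel
    rw [e]
    refine IsIntegral.add isIntegral_algebraMap (IsIntegral.of_pow (n := n + 1) (Nat.succ_pos n) ?_)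
    have : (Ideal.Quotient.mk (KaehlerDifferential.ideal A B ^ (n + 1))
        (y - (Algebra.TensorProduct.lmul' A y) ⊗ₜ[A] (1 : B))) ^ (n + 1) = 0 := by
      rw [← map_pow, Ideal.Quotient.eq_zero_iff_mem]
      exact Ideal.pow_mem_pow hy _
    rw [this]
    exact isIntegral_zero
  have h4 : Module.Finite B (PP16.P n A B) := Algebra.IsIntegral.finite
  exact Module.FinitePresentation.of_finite_of_finitePresentation B _

end Groth.Agent.S3814
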