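import Groth.Statements.S3826
import Groth.Agent.Lib.Helper62.QReg11
import Groth.Agent.Lib.Helper62.QReg7

set_option autoImplicit false
universe u
open scoped TensorProduct
open QReg16

namespace Groth.Agent.S3826

/-- Affine form, X = Spec R: an ideal J of a ring R is quasi-regular (locally on Spec R generated by a
quasi-regular sequence) if and only if (i) J is finitely generated, (ii) J/J² is a locally free
R/J-module of finite type, here: finitely generated projective, and (iii) the canonical surjections
Sym^n(J/J²) → J^n/J^(n+1) are bijective for every n. -/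
theorem result (R : Type u) [CommRing R] (J : Ideal R) :
    PP16.IsLocallyQuasiRegular R J ↔
      J.FG ∧ Module.Projective (R ⧸ J) J.Cotangent ∧ PP16.SymGrBijective R J := by
  open Groth.Agent.Lib.Helper62.QReg Groth.Agent.Lib.Helper62.SymGr in
  constructor
  · intro h
    refine ⟨fg_of_isLocallyQuasiRegular J h, projective_cotangent_of_isLocallyQuasiRegular J h, ?_⟩
    intro ι _ _
    exact ⟨canMap J ι, canMap_tprod J ι, canMap_injective_of_isLocallyQuasiRegular J h,
      surjective_of_tprod J ι _ (canMap_tprod J ι)⟩
  · rintro ⟨hFG, hP, hS⟩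
    have hinj : ∀ (ι : Type u) [Fintype ι] [Nonempty ι], Function.Injective (canMap J ι) := by
      intro ι _ _
      obtain ⟨φ, hφ, hbij⟩ := hS ι
      rw [← eq_canMap J ι φ hφ]
      exact hbij.1
    apply isLocallyQuasiRegular_of_data
    intro 𝔭 _ h𝔭
    obtain ⟨g, hg, r, a, hpre⟩ := exists_preData J hFG hP 𝔭 h𝔭
    obtain ⟨h₀, hh₀, hspan⟩ := exists_span_of_preData J hFG hpre 𝔭 h𝔭 hg
    refine ⟨g * h₀, ?_, r, a, data_of_preData J hpre hspan hinj⟩
    intro hmem
    rcases Ideal.IsPrime.mem_or_mem inferInstance hmem with h | h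
    exacts [hg h, hh₀ h]

end Groth.Agent.S3826
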