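import Groth.Statements.S3825
import Groth.Agent.Lib.Helper18.QuasiReg
import Mathlib.RingTheory.Ideal.Cotangent
import Mathlib.RingTheory.Nakayama
import Mathlib.LinearAlgebra.InvariantBasisNumber
import Mathlib.LinearAlgebra.Dimension.StrongRankCondition

set_option autoImplicit false
universe u
open QReg16

namespace Groth.Agent.S3825

section helpers
open MvPolynomial

variable {A : Type u} [CommRing A]

/-- quasi-regular generators of `I` give linearly independent classes in `I/I²`. -/
theorem linearIndependent_of_isQuasiRegular (I : Ideal A) {m : ℕ} (f : Fin m → I)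
    (hq : CAlgX.IsQuasiRegular (fun i => (f i : A)))
    (hI : Ideal.span (Set.range fun i => (f i : A)) = I) :
    LinearIndependent (A ⧸ I) (fun i => I.toCotangent (f i)) := by
  rw [Fintype.linearIndependent_iff]
  intro c hc i
  have hsurj : ∀ j, ∃ a : A, Ideal.Quotient.mk I a = c j := fun j => Ideal.Quotient.mk_surjective (c j)
  choose a ha using hsurj
  have h1 : ∑ j, a j • I.toCotangent (f j) = 0 := by
    rw [← hc]
    apply Finset.sum_congr rfl
    intro j _
    rw [← ha j]
    rfl
  rw [← Finset.sum_congr rfl (fun j _ => (map_smul I.toCotangent (a j) (f j))), ← map_sum,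
    Ideal.toCotangent_eq_zero] at h1
  -- the linear form
  let L : MvPolynomial (Fin m) A := ∑ j, C (a j) * X j
  have hL : L.IsHomogeneous 1 := IsHomogeneous.sum _ _ _ (fun j _ => isHomogeneous_C_mul_X _ _)
  have hLe : eval (fun i => (f i : A)) L = ((∑ j, a j • f j : I) : A) := by
    simp [L]
  have hc' := hq 1 L hL (by rw [hLe, hI]; exact h1) (Finsupp.single i 1)
  have hcoef : coeff (Finsupp.single i 1) L = a i := by
    classical
    simp only [L, coeff_sum, coeff_C_mul, coeff_X]
    rw [Finset.sum_eq_single i]
    · simp
    · intro j _ hj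
      have : Finsupp.single j 1 ≠ Finsupp.single i 1 := by
        intro h
        exact hj ((Finsupp.single_left_inj one_ne_zero).mp h)
      simp [this]
    · simp
  rw [hcoef, hI] at hc'
  rw [← ha i]
  exact (Ideal.Quotient.eq_zero_iff_mem).mpr hc'

/-- generators of `I` give spanning classes in `I/I²`. -/
theorem span_toCotangent_eq_top (I : Ideal A) {m : ℕ} (f : Fin m → I)
    (hI : Ideal.span (Set.range fun i => (f i : A)) = I) :
    Submodule.span (A ⧸ I) (Set.range fun i => I.toCotangent (f i)) = ⊤ := by
  rw [eq_top_iff]
  rintro x -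
  obtain ⟨y, rfl⟩ := I.toCotangent_surjective x
  have hy : (y : A) ∈ Ideal.span (Set.range fun i => (f i : A)) := by rw [hI]; exact y.2
  obtain ⟨c, hc⟩ := (Ideal.mem_span_range_iff_exists_fun).mp hy
  have : y = ∑ j, c j • f j := by
    ext
    rw [← hc]
    simp
  rw [this, map_sum]
  apply Submodule.sum_mem
  intro j _
  rw [map_smul]
  have : c j • I.toCotangent (f j) = (Ideal.Quotient.mk I (c j)) • I.toCotangent (f j) := rfl
  rw [this]
  exact Submodule.smul_mem _ _ (Submodule.subset_span ⟨j, rfl⟩)


end helpers

/-- a) iff c) (affine local form): let A be a local ring and I a proper ideal generated by some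
quasi-regular sequence. For a finite family (f_i) of elements of I, the following are equivalent:
(a) (f_i) is a quasi-regular sequence generating I; (c) the classes of the f_i form a basis of the
A/I-module I/I² (equivalently, b): (f_i) is a minimal system of generators of I). -/
theorem result {A : Type u} [CommRing A] [IsLocalRing A]
    (I : Ideal A) (hI : I ≤ IsLocalRing.maximalIdeal A)
    (hq : ∃ (r : ℕ) (g : Fin r → A), CAlgX.IsQuasiRegular g ∧ Ideal.span (Set.range g) = I)
    {m : ℕ} (f : Fin m → I) :
    (CAlgX.IsQuasiRegular (fun i => (f i : A)) ∧ Ideal.span (Set.range fun i => (f i : A)) = I) ↔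
      (LinearIndependent (A ⧸ I) (fun i => I.toCotangent (f i)) ∧
        Submodule.span (A ⧸ I) (Set.range fun i => I.toCotangent (f i)) = ⊤) := by
  constructor
  · rintro ⟨h1, h2⟩
    exact ⟨linearIndependent_of_isQuasiRegular I f h1 h2, span_toCotangent_eq_top I f h2⟩
  · rintro ⟨hli, hsp⟩
    obtain ⟨r, g, hg, hgI⟩ := hq
    -- `g` as a family in `I`
    have hgmem : ∀ j, g j ∈ I := fun j => hgI ▸ Ideal.subset_span ⟨j, rfl⟩
    let g' : Fin r → I := fun j => ⟨g j, hgmem j⟩
    have hg' : CAlgX.IsQuasiRegular (fun j => (g' j : A)) := hg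
    have hg'I : Ideal.span (Set.range fun j => (g' j : A)) = I := hgI
    have hne : I ≠ ⊤ := fun h => (IsLocalRing.maximalIdeal.isMaximal A).ne_top (top_le_iff.mp (h ▸ hI))
    have : Nontrivial (A ⧸ I) := Ideal.Quotient.nontrivial_iff.mpr hne
    -- the two bases
    let bg := Module.Basis.mk (linearIndependent_of_isQuasiRegular I g' hg' hg'I)
      (span_toCotangent_eq_top I g' hg'I).ge
    let bf := Module.Basis.mk hli hsp.ge
    have hcard : m = r := by
      have := Fintype.card_congr (bf.indexEquiv bg)
      simpa using this
    subst hcard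
    -- Nakayama
    have hfg : I.FG := by
      rw [← hgI]
      exact Submodule.fg_span (Set.finite_range g)
    have hspan : Ideal.span (Set.range fun i => (f i : A)) = I := by
      apply le_antisymm
      · rw [Ideal.span_le]; rintro _ ⟨i, rfl⟩; exact (f i).2
      · apply Submodule.le_of_le_smul_of_le_jacobson_bot hfg
          (hI.trans (IsLocalRing.maximalIdeal_le_jacobson ⊥))
        intro x hx
        have hx' : I.toCotangent ⟨x, hx⟩ ∈ Submodule.span (A ⧸ I) (Set.range fun i => I.toCotangent (f i)) := by
          rw [hsp]; trivial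
        obtain ⟨c, hc⟩ := (Submodule.mem_span_range_iff_exists_fun _).mp hx'
        have hsurj : ∀ j, ∃ a : A, Ideal.Quotient.mk I a = c j := fun j => Ideal.Quotient.mk_surjective (c j)
        choose a ha using hsurj
        have h1 : I.toCotangent ⟨x, hx⟩ = I.toCotangent (∑ j, a j • f j) := by
          rw [← hc, map_sum]
          apply Finset.sum_congr rfl
          intro j _
          rw [map_smul, ← ha j]
          rfl
        rw [Ideal.toCotangent_eq] at h1
        have h2 : x = ((∑ j, a j • f j : I) : A) + (x - ((∑ j, a j • f j : I) : A)) := by ring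
        rw [h2]
        refine Submodule.add_mem_sup ?_ ?_
        · have : ((∑ j, a j • f j : I) : A) = ∑ j, a j * (f j : A) := by simp
          rw [this]
          exact Submodule.sum_mem _ (fun j _ => Ideal.mul_mem_left _ _ (Ideal.subset_span ⟨j, rfl⟩))
        · rw [smul_eq_mul, ← pow_two]
          exact h1
    refine ⟨?_, hspan⟩
    exact Groth.Agent.Lib.Helper18.isQuasiRegular_of_span_eq g (fun i => (f i : A)) hg (hspan.trans hgI.symm)

end Groth.Agent.S3825
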