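import Groth.Statements.S3827
import Groth.Agent.Lib.Helper18.RegQuasiReg

set_option autoImplicit false
universe u
open QReg16

namespace Groth.Agent.S3827

section helpers

open MvPolynomial Groth.Agent.Lib.Helper18

variable {A : Type u} [CommRing A]

theorem isQuasiRegular_mk (J : Ideal A) {r : ℕ} (f : Fin r → A)
    (hf : RingTheory.Sequence.IsWeaklyRegular (A ⧸ J) (List.ofFn f)) :
    CAlgX.IsQuasiRegular (fun i => Ideal.Quotient.mk J (f i)) := by
  apply isQuasiRegular_of_isWeaklyRegular
  have := (RingTheory.Sequence.isWeaklyRegular_map_algebraMap_iff (A ⧸ J) (A ⧸ J)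
    (List.ofFn f)).mpr hf
  rw [List.map_ofFn] at this
  exact this

theorem inf_pow_le_step (J : Ideal A) {r : ℕ} (f : Fin r → A)
    (hf : RingTheory.Sequence.IsWeaklyRegular (A ⧸ J) (List.ofFn f)) (N : ℕ) :
    J ⊓ Ideal.span (Set.range f) ^ N ≤
      J * Ideal.span (Set.range f) ^ N ⊔ J ⊓ Ideal.span (Set.range f) ^ (N + 1) := by
  have hq := isQuasiRegular_mk J f hf
  intro x hx
  obtain ⟨hxJ, hxR⟩ := Submodule.mem_inf.mp hx
  obtain ⟨F, hF, hFe⟩ := exists_homogeneous_eval_eq_of_mem_pow f N hxR
  have hFbar : (map (Ideal.Quotient.mk J) F).IsHomogeneous N := hF.map _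
  have hFbe : eval (fun i => Ideal.Quotient.mk J (f i)) (map (Ideal.Quotient.mk J) F) = 0 := by
    rw [eval_map]
    have e : eval₂ (Ideal.Quotient.mk J) (fun i => Ideal.Quotient.mk J (f i)) F =
        Ideal.Quotient.mk J (eval f F) := by
      rw [eval, coe_eval₂Hom, eval₂_comp_left (Ideal.Quotient.mk J)]
      rfl
    rw [e, hFe]
    exact Ideal.Quotient.eq_zero_iff_mem.mpr hxJ
  -- all coefficients of `F` lie in `J ⊔ R`
  have hc : ∀ d, coeff d F ∈ J ⊔ Ideal.span (Set.range f) := by
    intro d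
    have h1 := hq N _ hFbar (by rw [hFbe]; exact Ideal.zero_mem _) d
    rw [coeff_map] at h1
    have e2 : Ideal.span (Set.range fun i => Ideal.Quotient.mk J (f i)) =
        (Ideal.span (Set.range f)).map (Ideal.Quotient.mk J) := by
      rw [Ideal.map_span, ← Set.range_comp]
      rfl
    rw [e2, Ideal.mem_quotient_iff_mem_sup, sup_comm] at h1
    exact h1
  have h2 := eval_mem_mul_pow f _ hF hc
  rw [hFe, Ideal.sup_mul, ← pow_succ'] at h2
  obtain ⟨u, hu, v, hv, huv⟩ := Submodule.mem_sup.mp h2
  refine Submodule.mem_sup.mpr ⟨u, hu, v, Submodule.mem_inf.mpr ⟨?_, hv⟩, huv⟩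
  have : v = x - u := by rw [← huv]; ring
  rw [this]
  have hu' : u ∈ J := (Ideal.mul_le_left : J * Ideal.span (Set.range f) ^ N ≤ J) hu
  exact J.sub_mem hxJ hu'

end helpers

/-- Let A be a ring, J an ideal, A' = A/J and f_1, …, f_r elements of A forming an A'-regular sequence
(each f_i a non-zero-divisor on A' modulo the previous ones); let R be the ideal generated by the
f_i. Then for all integers 0 < n ≤ N one has J ∩ Rⁿ = J·Rⁿ + (J ∩ R^N). -/
theorem result {A : Type u} [CommRing A] (J : Ideal A) {r : ℕ} (f : Fin r → A)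
    (hf : RingTheory.Sequence.IsWeaklyRegular (A ⧸ J) (List.ofFn f)) (n N : ℕ) (hn : 0 < n) (hnN : n ≤ N) :
    J ⊓ Ideal.span (Set.range f) ^ n =
      J * Ideal.span (Set.range f) ^ n ⊔ J ⊓ Ideal.span (Set.range f) ^ N := by
  apply le_antisymm
  · induction N, hnN using Nat.le_induction with
    | base => exact le_sup_right
    | succ N hN ih =>
      refine ih.trans ?_
      refine sup_le le_sup_left ((inf_pow_le_step J f hf N).trans ?_)
      exact sup_le ((Ideal.mul_mono_right (Ideal.pow_le_pow_right hN)).trans le_sup_left)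
        le_sup_right
  · exact sup_le (le_inf Ideal.mul_le_left Ideal.mul_le_right)
      (inf_le_inf_left _ (Ideal.pow_le_pow_right hnN))

end Groth.Agent.S3827
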