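import Groth.Statements.S3828
import Groth.Agent.S3827
import Mathlib.RingTheory.Filtration

set_option autoImplicit false
universe u
open QReg16

namespace Groth.Agent.S3828

section helpers

variable {A : Type u} [CommRing A]

/-- ideals are closed for the `R`-adic topology when `R` is in the Jacobson radical (Noetherian). -/
theorem mem_of_forall_mem_sup_pow [IsNoetherianRing A] (K R : Ideal A)
    (hR : R ≤ (⊥ : Ideal A).jacobson) (x : A) (hx : ∀ N : ℕ, x ∈ K ⊔ R ^ N) : x ∈ K := by
  have h0 := Ideal.iInf_pow_smul_eq_bot_of_le_jacobson (M := A ⧸ K) R hR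
  have h1 : (Ideal.Quotient.mk K x : A ⧸ K) ∈ (⨅ i : ℕ, R ^ i • ⊤ : Submodule A (A ⧸ K)) := by
    rw [Submodule.mem_iInf]
    intro N
    obtain ⟨k, hk, r, hr, hkr⟩ := Submodule.mem_sup.mp (hx N)
    have e : (Ideal.Quotient.mk K x : A ⧸ K) = r • (Ideal.Quotient.mk K 1 : A ⧸ K) := by
      rw [← hkr, map_add, Ideal.Quotient.eq_zero_iff_mem.mpr hk, zero_add, Algebra.smul_def,
        map_one, mul_one]
      rfl
    rw [e]
    exact Submodule.smul_mem_smul hr Submodule.mem_top
  rw [h0, Submodule.mem_bot] at h1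
  exact Ideal.Quotient.eq_zero_iff_mem.mp h1

end helpers

/-- Let A be a Noetherian ring, J an ideal of A, and f_1, …, f_r elements of A forming a weakly regular
sequence on A/J (each f_i a nonzerodivisor on A/(J + (f_1, …, f_{i−1}))) and generating an ideal R
contained in the Jacobson radical of A; put Q = J + R. Then J ∩ Rⁿ = J·Rⁿ for every n > 0, and J ∩
Q² = J·Q (equivalently, the canonical map J/JQ → Q/Q² is injective). -/
theorem result {A : Type u} [CommRing A] [IsNoetherianRing A] (J : Ideal A)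
    {r : ℕ} (f : Fin r → A) (hf : RingTheory.Sequence.IsWeaklyRegular (A ⧸ J) (List.ofFn f))
    (hrad : Ideal.span (Set.range f) ≤ (⊥ : Ideal A).jacobson) :
    (∀ n : ℕ, 0 < n → J ⊓ Ideal.span (Set.range f) ^ n = J * Ideal.span (Set.range f) ^ n) ∧
      J ⊓ (J ⊔ Ideal.span (Set.range f)) ^ 2 = J * (J ⊔ Ideal.span (Set.range f)) := by
  have h1 : ∀ n : ℕ, 0 < n →
      J ⊓ Ideal.span (Set.range f) ^ n = J * Ideal.span (Set.range f) ^ n := by
    intro n hn
    apply le_antisymm
    · intro x hx
      apply mem_of_forall_mem_sup_pow _ _ hrad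
      intro N
      rcases le_or_gt n N with hnN | hNn
      · rw [Groth.Agent.S3827.result J f hf n N hn hnN] at hx
        have hle : J * Ideal.span (Set.range f) ^ n ⊔ J ⊓ Ideal.span (Set.range f) ^ N ≤
            J * Ideal.span (Set.range f) ^ n ⊔ Ideal.span (Set.range f) ^ N :=
          sup_le le_sup_left (inf_le_right.trans le_sup_right)
        exact hle hx
      · exact (le_sup_right : _ ≤ J * Ideal.span (Set.range f) ^ n ⊔ _)
          (Ideal.pow_le_pow_right hNn.le (Submodule.mem_inf.mp hx).2)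
    · exact le_inf Ideal.mul_le_left Ideal.mul_le_right
  refine ⟨h1, ?_⟩
  apply le_antisymm
  · intro x hx
    obtain ⟨hxJ, hxQ⟩ := Submodule.mem_inf.mp hx
    have hQ2 : (J ⊔ Ideal.span (Set.range f)) ^ 2 ≤
        J * (J ⊔ Ideal.span (Set.range f)) ⊔ Ideal.span (Set.range f) ^ 2 := by
      rw [pow_two, Ideal.sup_mul]
      refine sup_le le_sup_left ?_
      rw [Ideal.mul_sup]
      refine sup_le ?_ ?_
      · rw [mul_comm]
        exact (Ideal.mul_mono_right le_sup_right).trans le_sup_left
      · rw [← pow_two]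
        exact le_sup_right
    obtain ⟨u, hu, v, hv, huv⟩ := Submodule.mem_sup.mp (hQ2 hxQ)
    have hu' : u ∈ J := (Ideal.mul_le_left : J * (J ⊔ Ideal.span (Set.range f)) ≤ J) hu
    have hvJ : v ∈ J := by
      have : v = x - u := by rw [← huv]; ring
      rw [this]
      exact J.sub_mem hxJ hu'
    have hv2 : v ∈ J * Ideal.span (Set.range f) ^ 2 := by
      rw [← h1 2 (by norm_num)]
      exact Submodule.mem_inf.mpr ⟨hvJ, hv⟩
    have hv3 : v ∈ J * (J ⊔ Ideal.span (Set.range f)) := by
      refine Ideal.mul_mono_right ?_ hv2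
      rw [pow_two]
      exact Ideal.mul_le_left.trans le_sup_right
    rw [← huv]
    exact Ideal.add_mem _ hu hv3
  · refine le_inf Ideal.mul_le_left ?_
    rw [pow_two]
    exact Ideal.mul_mono_left le_sup_left

end Groth.Agent.S3828
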