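import Groth.Statements.S3833
-- import your own Groth.Agent.* helpers here

set_option autoImplicit false
universe u
open CategoryTheory CategoryTheory.Limits AlgebraicGeometry TopologicalSpace
open Rat20

namespace Groth.Agent.S3833

/-- Stated for a global section, the case of a section over an open subset U being the same statement
for the open subscheme U: let X be a scheme and s a global section of O_X which is regular in the
sense that its germ at every point x is a non-zero-divisor of the local ring O_{X,x} (on an affine
scheme this is the same as being a non-zero-divisor of Γ(X, O_X), but not in general). Then the open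
subset X_s where s is invertible is schematically dense in X. -/
theorem result (X : Scheme.{u}) (s : Γ(X, ⊤))
    (hs : ∀ x : ↥X, (X.presheaf.germ ⊤ x trivial s) ∈ nonZeroDivisors ↑(X.presheaf.stalk x)) :
    CInt.IsSchematicallyDense (X.basicOpen s) := by
  intro V
  rw [injective_iff_map_eq_zero]
  intro a ha
  -- it suffices to show that all germs of `a` vanish
  refine TopCat.Presheaf.section_ext X.sheaf V a 0 (fun x hx => ?_)
  rw [map_zero]
  -- an affine open neighbourhood `W` of `x` inside `V`
  obtain ⟨W, hW, hxW, hWV⟩ := TopologicalSpace.Opens.isBasis_iff_nbhd.mp X.isBasis_affineOpens hx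
  set a' := X.presheaf.map (homOfLE hWV).op a with ha'
  set s' := X.presheaf.map (homOfLE (le_top : W ≤ ⊤)).op s with hs'
  have hbo : X.basicOpen s' = W ⊓ X.basicOpen s := Scheme.basicOpen_res _ _ _
  -- `a'` vanishes on `D(s')`
  have hle : X.basicOpen s' ≤ V ⊓ X.basicOpen s := by
    rw [hbo]; exact inf_le_inf_right _ hWV
  have hres : X.presheaf.map (homOfLE (X.basicOpen_le s')).op a' = 0 := by
    have h1 : X.presheaf.map (homOfLE (X.basicOpen_le s')).op a' =
        X.presheaf.map (homOfLE hle).op
          (X.presheaf.map (homOfLE (inf_le_left : V ⊓ X.basicOpen s ≤ V)).op a) := by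
      rw [ha', ← CommRingCat.comp_apply, ← CommRingCat.comp_apply, ← Functor.map_comp,
        ← Functor.map_comp]
      rfl
    rw [h1, ha, map_zero]
  obtain ⟨n, hn⟩ := exists_pow_mul_eq_zero_of_res_basicOpen_eq_zero_of_isAffineOpen X hW a' s' hres
  -- pass to germs at `x`
  have hg := congrArg (X.presheaf.germ W x hxW) hn
  rw [map_mul, map_pow, map_zero] at hg
  have hgs : X.presheaf.germ W x hxW s' = X.presheaf.germ ⊤ x trivial s :=
    TopCat.Presheaf.germ_res_apply X.presheaf (homOfLE (le_top : W ≤ ⊤)) x hxW s
  have hga : X.presheaf.germ W x hxW a' = X.presheaf.germ V x hx a :=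
    TopCat.Presheaf.germ_res_apply X.presheaf (homOfLE hWV) x hxW a
  rw [hgs, hga] at hg
  have hnz : (X.presheaf.germ ⊤ x trivial s) ^ n ∈ nonZeroDivisors (X.presheaf.stalk x) :=
    pow_mem (hs x) n
  exact (mul_left_mem_nonZeroDivisors_eq_zero_iff hnz).mp hg

end Groth.Agent.S3833
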