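import Groth.Statements.S3834
import Groth.Agent.Lib.Helper18.SchemDenseAffine

set_option autoImplicit false
universe u
open CategoryTheory CategoryTheory.Limits AlgebraicGeometry TopologicalSpace
open Rat20

namespace Groth.Agent.S3834

/-- Let X = Spec A be an affine scheme, with A Noetherian, or A reduced with finitely many minimal
primes. Then an open subset U of X is schematically dense if and only if it contains an open subset
of the form X_t with t a regular element of A = Γ(X, O_X). -/
theorem result (X : Scheme.{u}) [IsAffine X]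
    (hX : IsNoetherian X ∨ (IsReduced X ∧ (irreducibleComponents ↥X).Finite)) (U : X.Opens) :
    CInt.IsSchematicallyDense U ↔ ∃ t : Γ(X, ⊤), t ∈ nonZeroDivisors Γ(X, ⊤) ∧ X.basicOpen t ≤ U := by
  constructor
  · intro hU
    by_contra hcon
    push Not at hcon
    have hdisj : Disjoint (Groth.Agent.Lib.Helper18.basicOpenIdeal X U : Set Γ(X, ⊤))
        (nonZeroDivisors Γ(X, ⊤)) :=
      Set.disjoint_left.mpr (fun t htI htreg => hcon t htreg htI)
    have hex : ∃ a : Γ(X, ⊤), a ≠ 0 ∧
        ∀ x ∈ Groth.Agent.Lib.Helper18.basicOpenIdeal X U, a * x = 0 := by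
      rcases hX with hN | ⟨hR, hfin⟩
      · have : IsNoetherianRing Γ(X, ⊤) :=
          IsLocallyNoetherian.component_noetherian ⟨⊤, isAffineOpen_top X⟩
        exact Groth.Agent.Lib.Helper18.exists_ne_zero_forall_mul_eq_zero_of_isNoetherianRing _ hdisj
      · have hfin' := Groth.Agent.Lib.Helper18.finite_minimalPrimes_of_isAffine X hfin
        exact Groth.Agent.Lib.Helper18.exists_ne_zero_forall_mul_eq_zero_of_isReduced hfin' _ hdisj
    obtain ⟨a, ha0, ha⟩ := hex
    exact ha0 (Groth.Agent.Lib.Helper18.eq_zero_of_forall_mul_eq_zero hU a ha)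
  · rintro ⟨t, ht, htU⟩
    exact Groth.Agent.Lib.Helper18.isSchematicallyDense_of_basicOpen_le t ht htU

end Groth.Agent.S3834
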