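import Groth.Statements.S3843
import Groth.Agent.Lib.Helper20.SchDenseFlat

set_option autoImplicit false
universe u
open CategoryTheory CategoryTheory.Limits AlgebraicGeometry TopologicalSpace
open Rat20

namespace Groth.Agent.S3843

open Groth.Agent.Lib.Helper20.SchDenseFlat

-- `DenseOn` for the ring of an affine open, with `S` the functions whose basic open lies in `V`.
theorem denseOn_of_isSchematicallyDense {X : Scheme.{u}} (V : X.Opens)
    (hV : CInt.IsSchematicallyDense V) (U' : X.Opens) (hU' : IsAffineOpen U') :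
    DenseOn {t : Γ(X, U') | X.basicOpen t ≤ V} Γ(X, U') := by
  intro g n hn
  -- the restriction of `n` to `D(g)` vanishes on `D(g) ⊓ V`
  have hres : X.presheaf.map (homOfLE (X.basicOpen_le g)).op n = 0 := by
    apply hV (X.basicOpen g)
    rw [map_zero]
    refine TopCat.Presheaf.section_ext X.sheaf (X.basicOpen g ⊓ V) _ 0 (fun y hy => ?_)
    change X.presheaf.germ (X.basicOpen g ⊓ V) y hy
      (X.presheaf.map (homOfLE (inf_le_left : X.basicOpen g ⊓ V ≤ X.basicOpen g)).op
        (X.presheaf.map (homOfLE (X.basicOpen_le g)).op n)) =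
      X.presheaf.germ (X.basicOpen g ⊓ V) y hy 0
    rw [map_zero]
    have hyU : y ∈ U' := X.basicOpen_le g hy.1
    obtain ⟨t, ht1, ht2⟩ := hU'.exists_basicOpen_le (V := V) ⟨y, hy.2⟩ hyU
    obtain ⟨k, hk⟩ := hn t ht1
    have hg := congrArg (X.presheaf.germ U' y hyU) hk
    rw [smul_eq_mul, map_mul, map_pow, map_mul, map_zero] at hg
    have hunit : IsUnit (X.presheaf.germ U' y hyU g * X.presheaf.germ U' y hyU t) :=
      ((X.mem_basicOpen g y hyU).mp hy.1).mul ((X.mem_basicOpen t y hyU).mp ht2)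
    have h1 : X.presheaf.germ U' y hyU n = 0 := (hunit.pow k).mul_right_eq_zero.mp hg
    rw [TopCat.Presheaf.germ_res_apply, TopCat.Presheaf.germ_res_apply]
    exact h1
  obtain ⟨m, hm⟩ := exists_pow_mul_eq_zero_of_res_basicOpen_eq_zero_of_isAffineOpen X hU' n g hres
  exact ⟨m, hm⟩

theorem local_claim {X X' : Scheme.{u}} (f : X' ⟶ X) [Flat f] [LocallyOfFinitePresentation f]
    (V : X.Opens) (hV : CInt.IsSchematicallyDense V) (U' : X.Opens) (hU' : IsAffineOpen U')
    (W' : X'.Opens) (hW' : IsAffineOpen W') (e : W' ≤ f ⁻¹ᵁ U') (b : Γ(X', W'))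
    (hb : X'.presheaf.map (homOfLE (inf_le_left : W' ⊓ f ⁻¹ᵁ V ≤ W')).op b = 0) : b = 0 := by
  have hflat : (f.appLE U' W' e).hom.Flat :=
    HasRingHomProperty.appLE @Flat f inferInstance ⟨U', hU'⟩ ⟨W', hW'⟩ e
  have hfp : (f.appLE U' W' e).hom.FinitePresentation :=
    HasRingHomProperty.appLE @LocallyOfFinitePresentation f inferInstance ⟨U', hU'⟩ ⟨W', hW'⟩ e
  algebraize [(f.appLE U' W' e).hom]
  refine eq_zero_of_flat_finitePresentation (A := Γ(X, U')) (B := Γ(X', W'))
    {t : Γ(X, U') | X.basicOpen t ≤ V} (denseOn_of_isSchematicallyDense V hV U' hU') b ?_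
  intro t ht
  have hbo : X'.basicOpen (f.appLE U' W' e t) = W' ⊓ f ⁻¹ᵁ (X.basicOpen t) :=
    Scheme.basicOpen_appLE f W' U' e t
  have hle : X'.basicOpen (f.appLE U' W' e t) ≤ W' ⊓ f ⁻¹ᵁ V := by
    rw [hbo]; exact inf_le_inf_left _ (f.preimage_mono ht)
  have hres : X'.presheaf.map (homOfLE (X'.basicOpen_le (f.appLE U' W' e t))).op b = 0 := by
    have h1 : X'.presheaf.map (homOfLE (X'.basicOpen_le (f.appLE U' W' e t))).op b =
        X'.presheaf.map (homOfLE hle).op
          (X'.presheaf.map (homOfLE (inf_le_left : W' ⊓ f ⁻¹ᵁ V ≤ W')).op b) := by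
      rw [← CommRingCat.comp_apply, ← Functor.map_comp]
      rfl
    rw [h1, hb, map_zero]
  obtain ⟨n, hn⟩ := exists_pow_mul_eq_zero_of_res_basicOpen_eq_zero_of_isAffineOpen X' hW' b
    (f.appLE U' W' e t) hres
  exact ⟨n, hn⟩

/-- For the open subset U = X; the general case is the same statement over the open subscheme U: let f :
X' → X be flat and locally of finite presentation. Then for every schematically dense open subset V
of X, the preimage f⁻¹(V) is schematically dense in X'. -/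
theorem result {X X' : Scheme.{u}} (f : X' ⟶ X) [Flat f]
    [LocallyOfFinitePresentation f] (V : X.Opens) (hV : CInt.IsSchematicallyDense V) :
    CInt.IsSchematicallyDense (f ⁻¹ᵁ V) := by
  intro W
  rw [injective_iff_map_eq_zero]
  intro a ha
  refine TopCat.Presheaf.section_ext X'.sheaf W a 0 (fun x hx => ?_)
  change X'.presheaf.germ W x hx a = X'.presheaf.germ W x hx 0
  rw [map_zero]
  obtain ⟨U', hU', hxU', -⟩ := TopologicalSpace.Opens.isBasis_iff_nbhd.mp X.isBasis_affineOpens
    (show f x ∈ (⊤ : X.Opens) from trivial)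
  obtain ⟨W', hW', hxW', hW'le⟩ := TopologicalSpace.Opens.isBasis_iff_nbhd.mp
    X'.isBasis_affineOpens (show x ∈ W ⊓ f ⁻¹ᵁ U' from ⟨hx, hxU'⟩)
  have hW'W : W' ≤ W := hW'le.trans inf_le_left
  have e : W' ≤ f ⁻¹ᵁ U' := hW'le.trans inf_le_right
  suffices hb : X'.presheaf.map (CategoryTheory.homOfLE hW'W).op a = 0 by
    rw [← TopCat.Presheaf.germ_res_apply X'.presheaf (CategoryTheory.homOfLE hW'W) x hxW' a, hb,
      map_zero]
  refine local_claim f V hV U' hU' W' hW' e _ ?_
  have hle : W' ⊓ f ⁻¹ᵁ V ≤ W ⊓ f ⁻¹ᵁ V := inf_le_inf_right _ hW'W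
  have h1 : X'.presheaf.map (CategoryTheory.homOfLE (inf_le_left : W' ⊓ f ⁻¹ᵁ V ≤ W')).op
      (X'.presheaf.map (CategoryTheory.homOfLE hW'W).op a) =
      X'.presheaf.map (CategoryTheory.homOfLE hle).op
        (X'.presheaf.map (CategoryTheory.homOfLE (inf_le_left : W ⊓ f ⁻¹ᵁ V ≤ W)).op a) := by
    rw [← CommRingCat.comp_apply, ← CommRingCat.comp_apply, ← CategoryTheory.Functor.map_comp,
      ← CategoryTheory.Functor.map_comp]
    rfl
  rw [h1, ha, map_zero]


end Groth.Agent.S3843
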