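import Groth.Statements.S3835
import Groth.Agent.S3843
import Groth.Agent.S13106
import Mathlib.AlgebraicGeometry.Sites.Fpqc

set_option autoImplicit false
universe u
open CategoryTheory CategoryTheory.Limits AlgebraicGeometry TopologicalSpace
open Rat20

namespace Groth.Agent.S3835

-- two morphisms to a separated scheme agreeing on a schematically dense open are equal
lemma eq_of_comp_ι_eq {Y Z T : Scheme.{u}} (U : Y.Opens) (hU : CInt.IsSchematicallyDense U)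
    (z : Z ⟶ T) [IsSeparated z] (v₁ v₂ : Y ⟶ Z) (hz : v₁ ≫ z = v₂ ≫ z)
    (hUι : U.ι ≫ v₁ = U.ι ≫ v₂) : v₁ = v₂ := by
  let X' : Over T := Over.mk (v₁ ≫ z)
  let Y' : Over T := Over.mk z
  let U' : Over T := Over.mk (U.ι ≫ v₁ ≫ z)
  let f' : X' ⟶ Y' := Over.homMk v₁
  let g' : X' ⟶ Y' := Over.homMk v₂ hz.symm
  let ι' : U' ⟶ X' := Over.homMk U.ι
  have hsep : IsSeparated Y'.hom := ‹_›
  have hι' : ι' ≫ f' = ι' ≫ g' := by
    ext1
    exact hUι
  have hfac : (equalizer.lift ι' hι').left ≫ (equalizer.ι f' g').left = U.ι := by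
    rw [← Over.comp_left, equalizer.lift_ι]
    rfl
  have hker : (equalizer.ι f' g').left.ker = ⊥ := by
    rw [eq_bot_iff, ← Groth.Agent.S13106.ker_ι_eq_bot U hU, ← hfac]
    exact Scheme.Hom.le_ker_comp _ _
  have hiso : IsIso (equalizer.ι f' g').left := IsClosedImmersion.isIso_iff_ker_eq_bot.mpr hker
  rw [← cancel_epi (equalizer.ι f' g').left]
  exact congr($(equalizer.condition f' g').left)

-- the corestriction of a flat lfp morphism to its (open) image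
section Lift

variable {A X : Scheme.{u}} (g : A ⟶ X) (T : X.Opens) (hT : Set.range g = (T : Set X))

noncomputable def corestr : A ⟶ (T : Scheme.{u}) :=
  IsOpenImmersion.lift T.ι g (by rw [Scheme.Opens.range_ι, hT])

@[reassoc]
lemma corestr_ι : corestr g T hT ≫ T.ι = g := IsOpenImmersion.lift_fac _ _ _

lemma corestr_flat [Flat g] : Flat (corestr g T hT) :=
  MorphismProperty.of_postcomp (W := @Flat) (W' := @IsOpenImmersion) (corestr g T hT) T.ι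
    inferInstance (by rw [corestr_ι]; infer_instance)

lemma corestr_lfp [LocallyOfFinitePresentation g] :
    LocallyOfFinitePresentation (corestr g T hT) :=
  MorphismProperty.of_postcomp (W := @LocallyOfFinitePresentation) (W' := @IsOpenImmersion)
    (corestr g T hT) T.ι inferInstance (by rw [corestr_ι]; infer_instance)

lemma corestr_surjective : Surjective (corestr g T hT) := by
  refine ⟨fun y => ?_⟩
  have hy : (y.1 : X) ∈ Set.range g := by rw [hT]; exact y.2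
  obtain ⟨a, ha⟩ := hy
  refine ⟨a, ?_⟩
  apply T.ι.isOpenEmbedding.injective
  have := congr($(corestr_ι g T hT) a)
  rw [Scheme.Hom.comp_apply] at this
  rw [this, ha]
  rfl

lemma corestr_effectiveEpi [Flat g] [LocallyOfFinitePresentation g] :
    EffectiveEpi (corestr g T hT) := by
  haveI := corestr_flat g T hT
  haveI := corestr_lfp g T hT
  haveI := corestr_surjective g T hT
  infer_instance

end Lift

/-- Let Y be separated over S, X an S-scheme with a schematically dense open subscheme U, h : U → Y an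
S-morphism (a representative of a pseudo-morphism from X to Y over S), and f : X' → X a flat
morphism locally of finite presentation, X' being regarded as an S-scheme through f. Let x' be a
point of X' with image x = f(x'). If there is an S-morphism from an open neighbourhood V' of x' to Y
agreeing with h ∘ f on f⁻¹(U) ∩ V' (the pulled-back pseudo-morphism is defined at x'), then there is
an S-morphism from an open neighbourhood V of x to Y agreeing with h on U ∩ V (the pseudo-morphism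
is defined at x). -/
theorem result {X X' Y S : Scheme.{u}} (pX : X ⟶ S) (pY : Y ⟶ S)
    [IsSeparated pY] (U : X.Opens) (hU : CInt.IsSchematicallyDense U) (h : (U : Scheme.{u}) ⟶ Y)
    (hh : h ≫ pY = U.ι ≫ pX) (f : X' ⟶ X) [Flat f] [LocallyOfFinitePresentation f] (x' : ↥X')
    (V' : X'.Opens) (hx' : x' ∈ V') (v' : (V' : Scheme.{u}) ⟶ Y) (hv'S : v' ≫ pY = V'.ι ≫ f ≫ pX)
    (hv' : X'.homOfLE (inf_le_right : f ⁻¹ᵁ U ⊓ V' ≤ V') ≫ v' =
      X'.homOfLE (inf_le_left : f ⁻¹ᵁ U ⊓ V' ≤ f ⁻¹ᵁ U) ≫ (f ∣_ U) ≫ h) :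
    ∃ (V : X.Opens) (v : (V : Scheme.{u}) ⟶ Y), f x' ∈ V ∧ v ≫ pY = V.ι ≫ pX ∧
      X.homOfLE (inf_le_right : U ⊓ V ≤ V) ≫ v = X.homOfLE (inf_le_left : U ⊓ V ≤ U) ≫ h := by
  classical
  -- the flat lfp morphism `φ : V' → X` and its open image `V`
  obtain ⟨φ, hφ⟩ : ∃ φ : (V' : Scheme.{u}) ⟶ X, φ = V'.ι ≫ f := ⟨_, rfl⟩
  haveI : Flat φ := by rw [hφ]; infer_instance
  haveI : LocallyOfFinitePresentation φ := by rw [hφ]; infer_instance
  let V : X.Opens := ⟨Set.range φ, φ.isOpenMap.isOpen_range⟩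
  have hV : Set.range φ = (V : Set X) := rfl
  obtain ⟨π, hπdef⟩ : ∃ π : (V' : Scheme.{u}) ⟶ (V : Scheme.{u}), π = corestr φ V hV := ⟨_, rfl⟩
  have hπ : π ≫ V.ι = φ := by rw [hπdef]; exact corestr_ι φ V hV
  haveI : Flat π := by rw [hπdef]; exact corestr_flat φ V hV
  haveI : LocallyOfFinitePresentation π := by rw [hπdef]; exact corestr_lfp φ V hV
  haveI : EffectiveEpi π := by rw [hπdef]; exact corestr_effectiveEpi φ V hV
  -- key: the two pullbacks of `v'` to `V' ×_V V'` agree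
  have hkey : pullback.fst π π ≫ v' = pullback.snd π π ≫ v' := by
    have e1 : pullback.fst π π ≫ φ = pullback.snd π π ≫ φ := by
      rw [← hπ, ← Category.assoc, ← Category.assoc, pullback.condition]
    obtain ⟨q, hq⟩ : ∃ q : pullback π π ⟶ X, q = pullback.fst π π ≫ φ := ⟨_, rfl⟩
    have hq2 : q = pullback.snd π π ≫ φ := hq.trans e1
    haveI : Flat q := by rw [hq]; infer_instance
    haveI : LocallyOfFinitePresentation q := by rw [hq]; infer_instance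
    have hŨ : CInt.IsSchematicallyDense (q ⁻¹ᵁ U) := Groth.Agent.S3843.result q U hU
    refine eq_of_comp_ι_eq (q ⁻¹ᵁ U) hŨ pY _ _ ?_ ?_
    · rw [Category.assoc, Category.assoc, hv'S, ← Category.assoc V'.ι, ← hφ,
        ← Category.assoc, ← Category.assoc, e1]
    · -- lifts into `W = f⁻¹U ∩ V'`
      have hr₁ : Set.range ((q ⁻¹ᵁ U).ι ≫ pullback.fst π π ≫ V'.ι) ⊆
          Set.range (f ⁻¹ᵁ U ⊓ V').ι := by
        rw [Scheme.Opens.range_ι]
        rintro _ ⟨p, rfl⟩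
        refine ⟨?_, ?_⟩
        · have hp : (pullback.fst π π ≫ V'.ι ≫ f) p.1 ∈ U := by
            rw [← hφ, ← hq]; exact p.2
          exact hp
        · exact (pullback.fst π π p.1).2
      have hr₂ : Set.range ((q ⁻¹ᵁ U).ι ≫ pullback.snd π π ≫ V'.ι) ⊆
          Set.range (f ⁻¹ᵁ U ⊓ V').ι := by
        rw [Scheme.Opens.range_ι]
        rintro _ ⟨p, rfl⟩
        refine ⟨?_, ?_⟩
        · have hp : (pullback.snd π π ≫ V'.ι ≫ f) p.1 ∈ U := by
            rw [← hφ, ← hq2]; exact p.2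
          exact hp
        · exact (pullback.snd π π p.1).2
      obtain ⟨a₁, ha₁⟩ : ∃ a₁ : ((q ⁻¹ᵁ U : (pullback π π).Opens) : Scheme.{u}) ⟶
          ((f ⁻¹ᵁ U ⊓ V' : X'.Opens) : Scheme.{u}),
          a₁ ≫ (f ⁻¹ᵁ U ⊓ V').ι = (q ⁻¹ᵁ U).ι ≫ pullback.fst π π ≫ V'.ι :=
        ⟨IsOpenImmersion.lift _ _ hr₁, IsOpenImmersion.lift_fac _ _ _⟩
      obtain ⟨a₂, ha₂⟩ : ∃ a₂ : ((q ⁻¹ᵁ U : (pullback π π).Opens) : Scheme.{u}) ⟶
          ((f ⁻¹ᵁ U ⊓ V' : X'.Opens) : Scheme.{u}),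
          a₂ ≫ (f ⁻¹ᵁ U ⊓ V').ι = (q ⁻¹ᵁ U).ι ≫ pullback.snd π π ≫ V'.ι :=
        ⟨IsOpenImmersion.lift _ _ hr₂, IsOpenImmersion.lift_fac _ _ _⟩
      have hb₁ : a₁ ≫ X'.homOfLE (inf_le_right : f ⁻¹ᵁ U ⊓ V' ≤ V') =
          (q ⁻¹ᵁ U).ι ≫ pullback.fst π π := by
        rw [← cancel_mono V'.ι, Category.assoc, Scheme.homOfLE_ι, Category.assoc]
        exact ha₁
      have hb₂ : a₂ ≫ X'.homOfLE (inf_le_right : f ⁻¹ᵁ U ⊓ V' ≤ V') =
          (q ⁻¹ᵁ U).ι ≫ pullback.snd π π := by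
        rw [← cancel_mono V'.ι, Category.assoc, Scheme.homOfLE_ι, Category.assoc]
        exact ha₂
      have hc : a₁ ≫ X'.homOfLE (inf_le_left : f ⁻¹ᵁ U ⊓ V' ≤ f ⁻¹ᵁ U) ≫ (f ∣_ U) =
          a₂ ≫ X'.homOfLE (inf_le_left : f ⁻¹ᵁ U ⊓ V' ≤ f ⁻¹ᵁ U) ≫ (f ∣_ U) := by
        rw [← cancel_mono U.ι]
        simp only [Category.assoc, morphismRestrict_ι, Scheme.homOfLE_ι_assoc]
        rw [reassoc_of% ha₁, reassoc_of% ha₂, ← hφ, e1]
      calc (q ⁻¹ᵁ U).ι ≫ pullback.fst π π ≫ v'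
          = (a₁ ≫ X'.homOfLE (inf_le_right : f ⁻¹ᵁ U ⊓ V' ≤ V')) ≫ v' := by
            rw [hb₁, Category.assoc]
        _ = (a₂ ≫ X'.homOfLE (inf_le_right : f ⁻¹ᵁ U ⊓ V' ≤ V')) ≫ v' := by
            rw [Category.assoc, Category.assoc, hv', reassoc_of% hc]
        _ = (q ⁻¹ᵁ U).ι ≫ pullback.snd π π ≫ v' := by
            rw [hb₂, Category.assoc]
  -- descend `v'` to `v : V → Y`
  have hdesc : ∀ {Z : Scheme.{u}} (g₁ g₂ : Z ⟶ (V' : Scheme.{u})), g₁ ≫ π = g₂ ≫ π →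
      g₁ ≫ v' = g₂ ≫ v' := by
    intro Z g₁ g₂ hg
    have h1 : pullback.lift g₁ g₂ hg ≫ pullback.fst π π = g₁ := pullback.lift_fst _ _ _
    have h2 : pullback.lift g₁ g₂ hg ≫ pullback.snd π π = g₂ := pullback.lift_snd _ _ _
    calc g₁ ≫ v' = (pullback.lift g₁ g₂ hg ≫ pullback.fst π π) ≫ v' := by rw [h1]
      _ = (pullback.lift g₁ g₂ hg ≫ pullback.snd π π) ≫ v' := by
          rw [Category.assoc, hkey, Category.assoc]
      _ = g₂ ≫ v' := by rw [h2]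
  obtain ⟨v, hv⟩ : ∃ v : (V : Scheme.{u}) ⟶ Y, π ≫ v = v' :=
    ⟨EffectiveEpi.desc π v' hdesc, EffectiveEpi.fac π v' hdesc⟩
  refine ⟨V, v, ?_, ?_, ?_⟩
  · exact ⟨⟨x', hx'⟩, by rw [hφ]; rfl⟩
  · rw [← cancel_epi π, reassoc_of% hv, hv'S, reassoc_of% hπ, hφ, Category.assoc]
  · -- the surjection `W → U ⊓ V`
    have hW : Set.range ((f ⁻¹ᵁ U ⊓ V').ι ≫ f) = ((U ⊓ V : X.Opens) : Set X) := by
      ext y
      constructor
      · rintro ⟨w, rfl⟩
        exact ⟨w.2.1, ⟨⟨w.1, w.2.2⟩, by rw [hφ]; rfl⟩⟩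
      · rintro ⟨hyU, ⟨a, rfl⟩⟩
        have ha : (V'.ι ≫ f) a ∈ U := by rw [← hφ]; exact hyU
        exact ⟨⟨a.1, ⟨ha, a.2⟩⟩, by rw [hφ]; rfl⟩
    obtain ⟨ρ, hρdef⟩ : ∃ ρ : ((f ⁻¹ᵁ U ⊓ V' : X'.Opens) : Scheme.{u}) ⟶
        ((U ⊓ V : X.Opens) : Scheme.{u}), ρ = corestr ((f ⁻¹ᵁ U ⊓ V').ι ≫ f) (U ⊓ V) hW :=
      ⟨_, rfl⟩
    have hρ : ρ ≫ (U ⊓ V).ι = (f ⁻¹ᵁ U ⊓ V').ι ≫ f := by rw [hρdef]; exact corestr_ι _ _ hW
    haveI : EffectiveEpi ρ := by
      rw [hρdef]; exact corestr_effectiveEpi ((f ⁻¹ᵁ U ⊓ V').ι ≫ f) (U ⊓ V) hW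
    have hρ₁ : ρ ≫ X.homOfLE (inf_le_right : U ⊓ V ≤ V) =
        X'.homOfLE (inf_le_right : f ⁻¹ᵁ U ⊓ V' ≤ V') ≫ π := by
      rw [← cancel_mono V.ι, Category.assoc, Scheme.homOfLE_ι, Category.assoc, hπ, hρ, hφ,
        Scheme.homOfLE_ι_assoc]
    have hρ₂ : ρ ≫ X.homOfLE (inf_le_left : U ⊓ V ≤ U) =
        X'.homOfLE (inf_le_left : f ⁻¹ᵁ U ⊓ V' ≤ f ⁻¹ᵁ U) ≫ (f ∣_ U) := by
      rw [← cancel_mono U.ι, Category.assoc, Scheme.homOfLE_ι, Category.assoc, hρ,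
        morphismRestrict_ι, Scheme.homOfLE_ι_assoc]
    rw [← cancel_epi ρ, reassoc_of% hρ₁, hv, hv', reassoc_of% hρ₂]


end Groth.Agent.S3835
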