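import Groth.Statements.S3846
import Groth.Agent.S3845

set_option autoImplicit false
universe u
open CategoryTheory CategoryTheory.Limits AlgebraicGeometry TopologicalSpace
open Unram17

namespace Groth.Agent.S3846

/-- a) iff b''): let f : X → Y be locally of finite presentation and x a point of X. Then f is
unramified on some open neighbourhood of x if and only if, for every base change g : Y' → Y and
every section s' of X ×_Y Y' → Y', s' is a local isomorphism at every point y' of Y' such that
s'(y') lies over x. -/
theorem result {X Y : Scheme.{u}} (f : X ⟶ Y) [LocallyOfFinitePresentation f]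
    (x : ↥X) :
    (∃ U : X.Opens, x ∈ U ∧ FormallyUnramified (U.ι ≫ f)) ↔
      ∀ (Y' : Scheme.{u}) (g : Y' ⟶ Y) (s' : Y' ⟶ pullback f g), s' ≫ pullback.snd f g = 𝟙 Y' →
        ∀ y' : ↥Y', pullback.fst f g (s' y') = x → SchLoc.IsLocalIsoAt s' y' := by
  rw [Groth.Agent.S3845.result f x]
  constructor
  · rintro ⟨U, hxU, hU⟩ Y' g s' hs' y' hy'
    obtain ⟨h, hh⟩ : ∃ h : Y' ⟶ X, h = s' ≫ pullback.fst f g := ⟨_, rfl⟩
    have hhf : h ≫ f = g := by
      rw [hh, Category.assoc, pullback.condition, ← Category.assoc, hs', Category.id_comp]
    -- the graph of `h`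
    have hpb := pullback_lift_diagonal_isPullback h f
    have hres := isPullback_morphismRestrict h U
    have hpaste := hres.paste_vert hpb
    have hoi : IsOpenImmersion
        ((h ⁻¹ᵁ U).ι ≫ pullback.lift (f := h ≫ f) (g := f) (𝟙 Y') h (by simp)) :=
      MorphismProperty.of_isPullback (P := @IsOpenImmersion) hpaste hU
    -- compare with `s'`
    let ι : pullback (h ≫ f) f ⟶ pullback f g :=
      (pullback.congrHom hhf rfl).hom ≫ (pullbackSymmetry g f).hom
    have hs'' : s' = pullback.lift (f := h ≫ f) (g := f) (𝟙 Y') h (by simp) ≫ ι := by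
      apply pullback.hom_ext
      · rw [Category.assoc, Category.assoc, pullbackSymmetry_hom_comp_fst,
          pullback.congrHom_hom, pullback.lift_snd, pullback.lift_snd_assoc, Category.comp_id, hh]
      · rw [Category.assoc, Category.assoc, pullbackSymmetry_hom_comp_snd,
          pullback.congrHom_hom, pullback.lift_fst, pullback.lift_fst_assoc, Category.comp_id, hs']
    refine ⟨h ⁻¹ᵁ U, ?_, ?_⟩
    · show h y' ∈ U
      rw [hh, Scheme.Hom.comp_apply, hy']
      exact hxU
    · rw [hs'', ← Category.assoc]
      infer_instance
  · intro H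
    have := H X f (pullback.diagonal f) (by simp) x (by
      rw [← Scheme.Hom.comp_apply]
      simp)
    exact this

end Groth.Agent.S3846
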