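import Groth.Statements.S3852
import Mathlib.AlgebraicGeometry.Morphisms.QuasiCompact
import Mathlib.RingTheory.Finiteness.Ideal

set_option autoImplicit false
universe u
open FCompl

namespace Groth.Agent.S3852

open AlgebraicGeometry in
/-- Second assertion; stated for quasi-coherent ideal sheaves, with the condition on supports as an
inclusion, which is what the proof uses: Let X be a Noetherian scheme and I, J ideal sheaves such
that the zero locus of J is contained in the zero locus of I. Then I^n ≤ J for some n ≥ 1. -/
theorem result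
    (X : Scheme.{u}) [IsNoetherian X] (I J : X.IdealSheafData)
    (h : (J.support : Set X) ⊆ I.support) :
    ∃ n : ℕ, I ^ (n + 1) ≤ J := by
  -- `I ≤ √J`
  have hrad : I ≤ J.radical := by
    rw [← Scheme.IdealSheafData.vanishingIdeal_support,
      ← Scheme.IdealSheafData.le_support_iff_le_vanishingIdeal]
    exact h
  -- finite affine cover
  obtain ⟨s, hs, hcover⟩ := (isCompact_iff_finite_and_eq_biUnion_affineOpens (X := X)
    (U := ⊤)).mp (by simpa using (isCompact_univ (X := X)))
  -- exponent on each affine open
  have hex : ∀ U : X.affineOpens, ∃ n : ℕ, (I.ideal U) ^ n ≤ J.ideal U := by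
    intro U
    have : IsNoetherianRing Γ(X, U) := IsLocallyNoetherian.component_noetherian U
    exact Ideal.exists_pow_le_of_le_radical_of_fg (hrad U) (IsNoetherian.noetherian _)
  choose e he using hex
  have hfin : s.Finite := hs
  obtain ⟨N, hN⟩ : ∃ N : ℕ, ∀ U ∈ s, e U ≤ N := by
    obtain ⟨N, hN⟩ := (hfin.image e).bddAbove
    exact ⟨N, fun U hU => hN (Set.mem_image_of_mem e hU)⟩
  refine ⟨N, ?_⟩
  refine Scheme.IdealSheafData.le_of_iSup_eq_top (ι := s) (fun U => U.1) ?_ (fun U => ?_)
  · rw [iSup_subtype', ← hcover] at *
  · rw [Scheme.IdealSheafData.ideal_pow, Pi.pow_apply]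
    exact (Ideal.pow_le_pow_right (le_trans (hN U.1 U.2) (Nat.le_succ N))).trans (he U.1)

end Groth.Agent.S3852
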