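import Groth.Statements.S3853
import Groth.Agent.Lib.Helper18.ClosedImmComap
import Groth.Agent.Lib.Helper18.NilpThickNoeth

set_option autoImplicit false
universe u
open FCompl

namespace Groth.Agent.S3853

section helpers
open AlgebraicGeometry CategoryTheory Groth.Agent.Lib.Helper18

/-- `ker (X 0 ⟶ X n)` is the inverse image of `ker (X 0 ⟶ X (n+1))`. -/
theorem ker_toX_eq_comap (𝔛 : FSch.Sys.{u}) (hF : 𝔛.IsFormal) (n : ℕ) :
    (𝔛.toX n).ker = (𝔛.toX (n + 1)).ker.comap (𝔛.ι n) := by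
  haveI := (hF n).1
  exact ker_eq_comap_ker_comp (𝔛.toX n) (𝔛.ι n)

/-- `ker (X 0 ⟶ X n) ^ (n+1) = 0`. -/
theorem ker_toX_pow (𝔛 : FSch.Sys.{u}) (hF : 𝔛.IsFormal) (hA : 𝔛.IsAdic) (n : ℕ) :
    (𝔛.toX n).ker ^ (n + 1) = ⊥ := by
  haveI := (hF n).1
  rw [ker_toX_eq_comap 𝔛 hF n, ← comap_pow, ← hA n, comap_ker_self]

theorem ker_toX_one (𝔛 : FSch.Sys.{u}) : (𝔛.toX 1).ker = (𝔛.ι 0).ker := by
  have : 𝔛.toX 1 = 𝔛.ι 0 := by
    show 𝔛.toX 0 ≫ 𝔛.ι 0 = 𝔛.ι 0
    show 𝟙 _ ≫ 𝔛.ι 0 = 𝔛.ι 0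
    simp
  rw [this]

theorem step (𝔛 : FSch.Sys.{u}) (hF : 𝔛.IsFormal) (hA : 𝔛.IsAdic)
    (hft : FSch.IdealFT (𝔛.ι 0).ker) (N : ℕ) (hN : IsLocallyNoetherian (𝔛.X N)) :
    IsLocallyNoetherian (𝔛.X (N + 1)) := by
  haveI := (hF N).1
  refine ⟨fun U' => ?_⟩
  have hU : IsAffineOpen ((𝔛.ι N) ⁻¹ᵁ U'.1) := U'.2.preimage (𝔛.ι N)
  haveI : IsNoetherianRing Γ(𝔛.X N, (𝔛.ι N) ⁻¹ᵁ U'.1) :=
    hN.component_noetherian ⟨_, hU⟩
  have hsurj : Function.Surjective ((𝔛.ι N).app U'.1).hom := (𝔛.ι N).app_surjective U'.1 U'.2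
  have hker : RingHom.ker ((𝔛.ι N).app U'.1).hom = ((𝔛.toX (N + 1)).ker.ideal U') ^ (N + 1) := by
    rw [← Scheme.Hom.ker_apply, hA N]
    rfl
  have hnil : ((𝔛.toX (N + 1)).ker.ideal U') ^ (N + 1 + 1) = ⊥ := by
    have := congrArg (fun I => I.ideal U') (ker_toX_pow 𝔛 hF hA (N + 1))
    exact this
  refine (isNoetherianRing_of_surjective_of_ker_eq_pow ((𝔛.ι N).app U'.1).hom hsurj
    ((𝔛.toX (N + 1)).ker.ideal U') (N + 1) (by omega) hker hnil ?_).1
  intro h1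
  have hN0 : N = 0 := by omega
  subst hN0
  rw [ker_toX_one]
  exact hft U'

end helpers

open AlgebraicGeometry in
/-- Levelwise part (formal schemes presented as systems of thickenings X_0 -> X_1 -> ...; the assertion
about the limit ring is in the affine recognition row). Let (X_n) be a system of schemes in which
every transition map is a surjective closed immersion and the kernel ideal of X_n -> X_(n+1) is the
(n+1)-st power of the kernel ideal of X_0 -> X_(n+1). If X_0 is locally Noetherian and the kernel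
ideal of X_0 -> X_1 is of finite type, then every X_n is locally Noetherian. -/
theorem result
    (𝔛 : FSch.Sys.{u}) (hF : 𝔛.IsFormal) (hA : 𝔛.IsAdic) [IsLocallyNoetherian (𝔛.X 0)]
    (hft : FSch.IdealFT (𝔛.ι 0).ker) (n : ℕ) : IsLocallyNoetherian (𝔛.X n) := by
  induction n with
  | zero => infer_instance
  | succ N ih => exact step 𝔛 hF hA hft N ih

end Groth.Agent.S3853
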