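import Groth.Statements.S3854
import Groth.Agent.Lib.Helper18.SubschemeIncl

set_option autoImplicit false
universe u
open FCompl

namespace Groth.Agent.S3854

section helpers
open AlgebraicGeometry CategoryTheory

variable (X : Scheme.{u}) (𝓘 : X.IdealSheafData)

theorem pow_succ_le_pow_one (n : ℕ) : 𝓘 ^ (n + 1) ≤ 𝓘 ^ (0 + 1) :=
  pow_le_pow_of_le_one bot_le le_top (by omega)

theorem completionAlong_toX (n : ℕ) :
    (FSch.completionAlong X 𝓘).toX n =
      Scheme.IdealSheafData.inclusion (pow_succ_le_pow_one X 𝓘 n) := by
  induction n with
  | zero =>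
    change 𝟙 _ = _
    exact (Scheme.IdealSheafData.inclusion_id _).symm
  | succ n ih =>
    change (FSch.completionAlong X 𝓘).toX n ≫
      Scheme.IdealSheafData.inclusion (FSch.pow_succ_le X 𝓘 n) = _
    rw [ih]
    exact Scheme.IdealSheafData.inclusion_comp _ _

end helpers

open AlgebraicGeometry in
/-- The completion along a closed subset, presented as the system of closed subschemes cut out by the
powers of an ideal sheaf: Let X be a locally Noetherian scheme and I an ideal sheaf on X. The closed
subschemes defined by I, I^2, I^3, ... with their inclusions form a locally Noetherian adic formal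
system: each inclusion is a surjective closed immersion, the kernel ideal of the n-th inclusion is
the (n+1)-st power of the kernel ideal of the composite inclusion from level 0, and every level is
locally Noetherian. -/
theorem result (X : Scheme.{u}) [IsLocallyNoetherian X]
    (𝓘 : X.IdealSheafData) : (FSch.completionAlong X 𝓘).IsLocNoethFormal := by
  refine ⟨fun n => ⟨?_, ?_⟩, fun n => ?_, fun n => ?_⟩
  · exact Groth.Agent.Lib.Helper18.isClosedImmersion_inclusion _
  · exact Groth.Agent.Lib.Helper18.inclusion_surjective _ rfl
  · rw [completionAlong_toX]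
    change (Scheme.IdealSheafData.inclusion (FSch.pow_succ_le X 𝓘 n)).ker =
      (Scheme.IdealSheafData.inclusion (pow_succ_le_pow_one X 𝓘 (n + 1))).ker ^ (n + 1)
    rw [Groth.Agent.Lib.Helper18.ker_inclusion, Groth.Agent.Lib.Helper18.ker_inclusion,
      ← Groth.Agent.Lib.Helper18.comap_pow, zero_add, pow_one]
  · change IsLocallyNoetherian (𝓘 ^ (n + 1)).subscheme
    exact LocallyOfFiniteType.isLocallyNoetherian (𝓘 ^ (n + 1)).subschemeι

end Groth.Agent.S3854
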