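import Groth.Statements.S3855
import Groth.Agent.Lib.Helper18.SpecKer

set_option autoImplicit false
universe u
open FCompl

namespace Groth.Agent.S3855

section helpers
open AlgebraicGeometry CategoryTheory

theorem ker_eq_map_of_comp {A Q Q' : Type*} [CommRing A] [CommRing Q] [CommRing Q'] (π : A →+* Q)
    (hπ : Function.Surjective π) (ψ : Q →+* Q') :
    RingHom.ker ψ = (RingHom.ker (ψ.comp π)).map π := by
  rw [← RingHom.comap_ker, Ideal.map_comap_of_surjective π hπ]

variable {A : Type u} [CommRing A] (J : Ideal A)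

theorem ker_factor_pow (n : ℕ) :
    RingHom.ker (Ideal.Quotient.factor (Ideal.pow_le_pow_right (I := J) (Nat.le_succ (n + 1)))) =
      (J ^ (n + 1)).map (Ideal.Quotient.mk (J ^ (n + 2))) := by
  rw [ker_eq_map_of_comp (Ideal.Quotient.mk (J ^ (n + 2))) Ideal.Quotient.mk_surjective,
    Ideal.Quotient.factor_comp_mk, Ideal.mk_ker]

/-- The composite `X 0 ⟶ X n` of the system `spf A J` is `Spec` of a ring map compatible with
the quotient maps. -/
theorem spf_toX (n : ℕ) : ∃ ψ : A ⧸ J ^ (n + 1) →+* A ⧸ J ^ (0 + 1),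
    ψ.comp (Ideal.Quotient.mk (J ^ (n + 1))) = Ideal.Quotient.mk (J ^ (0 + 1)) ∧
    (FSch.spf A J).toX n = Spec.map (CommRingCat.ofHom ψ) := by
  induction n with
  | zero =>
    refine ⟨RingHom.id _, rfl, ?_⟩
    change 𝟙 _ = _
    exact (Spec.map_id _).symm
  | succ n ih =>
    obtain ⟨ψ, hψ, h⟩ := ih
    refine ⟨ψ.comp (Ideal.Quotient.factor (Ideal.pow_le_pow_right (Nat.le_succ (n + 1)))), ?_, ?_⟩
    · rw [RingHom.comp_assoc, Ideal.Quotient.factor_comp_mk, hψ]
    · have key : Spec.map (CommRingCat.ofHom ψ) ≫ Spec.map (CommRingCat.ofHom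
          (Ideal.Quotient.factor (Ideal.pow_le_pow_right (I := J) (Nat.le_succ (n + 1))))) =
          Spec.map (CommRingCat.ofHom (ψ.comp (Ideal.Quotient.factor
            (Ideal.pow_le_pow_right (I := J) (Nat.le_succ (n + 1)))))) := by
        rw [← Spec.map_comp, ← CommRingCat.ofHom_comp]
      change (FSch.spf A J).toX n ≫ CohB1.specQuotTrans J n = _
      rw [h]
      exact key

end helpers

open AlgebraicGeometry in
/-- Sufficiency (the formal spectrum presented as the system Spec(A/J) -> Spec(A/J^2) -> ...). For a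
Noetherian ring A and an ideal J this system is a locally Noetherian adic formal system: the
transition maps are surjective closed immersions, the kernel ideal of Spec(A/J^(n+1)) ->
Spec(A/J^(n+2)) is the (n+1)-st power of that of Spec(A/J) -> Spec(A/J^(n+2)), and every level is
locally Noetherian. -/
theorem result (A : Type u) [CommRing A] [IsNoetherianRing A] (J : Ideal A) :
    (FSch.spf A J).IsLocNoethFormal := by
  refine ⟨fun n => ⟨?_, ?_⟩, fun n => ?_, fun n => ?_⟩
  · exact AlgebraicGeometry.IsClosedImmersion.spec_of_surjective _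
      (Ideal.Quotient.factor_surjective (Ideal.pow_le_pow_right (I := J) (Nat.le_succ (n + 1))))
  · refine Groth.Agent.Lib.Helper18.Spec_map_surjective_of_ker_le_nilradical _
      (Ideal.Quotient.factor_surjective (Ideal.pow_le_pow_right (I := J) (Nat.le_succ (n + 1)))) ?_
    intro x hx
    have hx' : x ∈ (J ^ (n + 1)).map (Ideal.Quotient.mk (J ^ (n + 2))) := by
      rw [← ker_factor_pow]; exact hx
    refine ⟨2, ?_⟩
    have h2 : x ^ 2 ∈ ((J ^ (n + 1)).map (Ideal.Quotient.mk (J ^ (n + 2)))) ^ 2 :=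
      Ideal.pow_mem_pow hx' 2
    rw [← Ideal.map_pow, ← pow_mul] at h2
    have hle : J ^ ((n + 1) * 2) ≤ J ^ (n + 2) := Ideal.pow_le_pow_right (by omega)
    have h3 := Ideal.map_mono (f := Ideal.Quotient.mk (J ^ (n + 2))) hle h2
    rwa [Ideal.map_quotient_self, Ideal.mem_bot] at h3
  · obtain ⟨ψ, hψ, h⟩ := spf_toX J (n + 1)
    rw [h]
    refine Groth.Agent.Lib.Helper18.ker_Spec_map_eq_pow _ _ _ ?_
    change RingHom.ker (Ideal.Quotient.factor (Ideal.pow_le_pow_right (I := J)
      (Nat.le_succ (n + 1)))) = RingHom.ker ψ ^ (n + 1)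
    rw [ker_factor_pow, ker_eq_map_of_comp (Ideal.Quotient.mk (J ^ (n + 1 + 1)))
      Ideal.Quotient.mk_surjective ψ, hψ, Ideal.mk_ker, ← Ideal.map_pow, zero_add, pow_one]
  · change IsLocallyNoetherian (Spec (CommRingCat.of (A ⧸ J ^ (n + 1))))
    infer_instance

end Groth.Agent.S3855
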