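import Groth.Statements.S3856
import Groth.Agent.Lib.Helper18.NilpThickNoeth
import Groth.Agent.Lib.Helper25.CompleteNoetherian

set_option autoImplicit false
universe u
open AdicRing

namespace Groth.Agent.S3856

section helpers
open Groth.Agent.Lib.Helper18

/-- If `A` is `J`-adically complete and `J ≤ span (range h) ⊔ J ^ 2` with all `h i ∈ J`, then
`J = span (range h)`. -/
theorem le_span_of_le_sup_sq {A : Type u} [CommRing A] (J : Ideal A) [IsAdicComplete J A]
    {k : ℕ} (h : Fin k → A) (hJ : ∀ i, h i ∈ J) (hle : J ≤ Ideal.span (Set.range h) ⊔ J ^ 2) :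
    J ≤ Ideal.span (Set.range h) := by
  refine Groth.Agent.Lib.Helper25.CompleteNoetherian.le_span_of_approx J J h hJ 1 ?_
  intro n g hg hgn
  rcases Nat.eq_zero_or_pos n with h0 | hpos
  · subst h0
    refine ⟨fun _ => 0, fun i => by simp, ?_⟩
    simpa using hg
  · obtain ⟨m, rfl⟩ : ∃ m, n = m + 1 := ⟨n - 1, by omega⟩
    have h1 : J ^ (m + 1) ≤ J ^ m • Ideal.span (Set.range h) ⊔ J ^ (m + 1 + 1) := by
      calc J ^ (m + 1) = J ^ m * J := pow_succ J m
        _ ≤ J ^ m * (Ideal.span (Set.range h) ⊔ J ^ 2) := Ideal.mul_mono_right hle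
        _ = J ^ m * Ideal.span (Set.range h) ⊔ J ^ m * J ^ 2 := Ideal.mul_sup _ _ _
        _ = J ^ m • Ideal.span (Set.range h) ⊔ J ^ (m + 1 + 1) := by
          rw [← pow_add, smul_eq_mul]
    obtain ⟨y, hy, z, hz, hyz⟩ := Submodule.mem_sup.mp (h1 hgn)
    obtain ⟨a, ha, hay⟩ := (Submodule.mem_ideal_smul_span_iff_exists_sum (J ^ m) h y).mp hy
    refine ⟨fun i => a i, fun i => by simpa using ha i, ?_⟩
    have : ∑ i, a i * h i = y := by
      rw [← hay, Finsupp.sum_fintype _ _ (fun i => by simp)]
      simp [smul_eq_mul]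
    rw [this, ← hyz]
    simpa using hz

end helpers

/-- Let A be a ring that is complete and separated for the J-adic topology of an ideal J. If A/J² is
Noetherian (equivalently, A/J is Noetherian and J/J² is a finitely generated A/J-module), then A is
Noetherian. The published statement is phrased for a formal spectrum Spf(A) all of whose levels
Spec(A/J^(n+1)) are Noetherian; it is stated here with the weaker hypothesis that A/J² is
Noetherian. -/
theorem result (A : Type u) [CommRing A]
    (J : Ideal A) [IsAdicComplete J A] [IsNoetherianRing (A ⧸ J ^ 2)] : IsNoetherianRing A := by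
  have hsurj : Function.Surjective (Ideal.Quotient.mk (J ^ 2)) := Ideal.Quotient.mk_surjective
  obtain ⟨L, hLfg, hLJ, hJL⟩ := Groth.Agent.Lib.Helper18.exists_fg_le_sup_ker
    (Ideal.Quotient.mk (J ^ 2)) hsurj J (IsNoetherian.noetherian _)
  rw [Ideal.mk_ker] at hJL
  obtain ⟨k, h, hh⟩ := Submodule.fg_iff_exists_fin_generating_family.mp hLfg
  have hL : L = Ideal.span (Set.range h) := hh.symm
  have hJfg : J.FG := by
    have hle : J ≤ Ideal.span (Set.range h) :=
      le_span_of_le_sup_sq J h (fun i => hLJ (hL ▸ Ideal.subset_span ⟨i, rfl⟩)) (hL ▸ hJL)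
    have : J = L := le_antisymm (hL ▸ hle) hLJ
    rw [this]
    exact hLfg
  have : IsNoetherianRing (A ⧸ J) :=
    isNoetherianRing_of_surjective (A ⧸ J ^ 2) (A ⧸ J)
      (Ideal.Quotient.factor (Ideal.pow_le_self (by norm_num)))
      (Ideal.Quotient.factor_surjective _)
  exact Groth.Agent.Lib.Helper25.CompleteNoetherian.isNoetherianRing_of_isAdicComplete J hJfg

end Groth.Agent.S3856
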