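import Groth.Statements.S3859
-- import your own Groth.Agent.* helpers here

set_option autoImplicit false
universe u
open FCompl

namespace Groth.Agent.S3859

open AlgebraicGeometry in
open CategoryTheory in
/-- In the presentation by systems of thickenings: For morphisms of systems X -> S and Y -> S, the
levelwise fibre product with its two projections is a fibre product in the category of systems; it
presents the fibre product of formal schemes when one factor is adic over the base, and otherwise
only up to cofinality of the levels. -/
theorem result {𝔛 𝔜 𝔖 : FSch.Sys.{u}} (f : 𝔛 ⟶ 𝔖) (g : 𝔜 ⟶ 𝔖) :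
    IsPullback (FSch.pullbackFst f g) (FSch.pullbackSnd f g) f g := by
  have w : FSch.pullbackFst f g ≫ f = FSch.pullbackSnd f g ≫ g := by
    apply FSch.Hom.ext
    funext n
    exact Limits.pullback.condition
  refine IsPullback.of_isLimit (c := Limits.PullbackCone.mk _ _ w) ?_
  refine Limits.PullbackCone.IsLimit.mk w
    (fun s => (⟨fun n => Limits.pullback.lift ((s.fst : FSch.Hom _ _).app n) ((s.snd : FSch.Hom _ _).app n)
        (by
          have := congrArg (fun h : FSch.Hom _ _ => h.app n) s.condition
          exact this),
      fun n => by
        change Limits.pullback.lift ((s.fst : FSch.Hom _ _).app n) ((s.snd : FSch.Hom _ _).app n) _ ≫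
          Limits.pullback.map _ _ _ _ (𝔛.ι n) (𝔜.ι n) (𝔖.ι n)
            ((f : FSch.Hom 𝔛 𝔖).comm n) ((g : FSch.Hom 𝔜 𝔖).comm n) =
          s.pt.ι n ≫ Limits.pullback.lift ((s.fst : FSch.Hom _ _).app (n + 1))
            ((s.snd : FSch.Hom _ _).app (n + 1)) _
        apply Limits.pullback.hom_ext
        · simp only [Category.assoc, Limits.pullback.lift_fst, Limits.pullback.lift_fst_assoc,
            Limits.pullback.map]
          exact (s.fst : FSch.Hom _ _).comm n
        · simp only [Category.assoc, Limits.pullback.lift_snd, Limits.pullback.lift_snd_assoc,
            Limits.pullback.map]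
          exact (s.snd : FSch.Hom _ _).comm n⟩ : FSch.Hom _ _))
    (fun s => by
      apply FSch.Hom.ext
      funext n
      exact Limits.pullback.lift_fst _ _ _)
    (fun s => by
      apply FSch.Hom.ext
      funext n
      exact Limits.pullback.lift_snd _ _ _)
    (fun s m h1 h2 => by
      apply FSch.Hom.ext
      funext n
      apply Limits.pullback.hom_ext
      · rw [Limits.pullback.lift_fst]
        exact congrArg (fun h : FSch.Hom _ _ => h.app n) h1
      · rw [Limits.pullback.lift_snd]
        exact congrArg (fun h : FSch.Hom _ _ => h.app n) h2)

end Groth.Agent.S3859
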