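import Groth.Statements.S3860
import Mathlib.RingTheory.AdicCompletion.RingHom

set_option autoImplicit false
universe u
open FCompl

namespace Groth.Agent.S3860

section helpers
open AlgebraicGeometry CategoryTheory

variable {A B : Type u} [CommRing A] [CommRing B] (I : Ideal A) (K : Ideal B)

/-- A compatible family of ring maps `B ⧸ K^(n+1) → A ⧸ I^(n+1)`, elementwise. -/
def Compat (ψ : ∀ n : ℕ, B ⧸ K ^ (n + 1) →+* A ⧸ I ^ (n + 1)) : Prop :=
  ∀ (n : ℕ) (b : B),
    Ideal.Quotient.factorPow I (Nat.le_succ (n + 1)) (ψ (n + 1) (Ideal.Quotient.mk _ b)) =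
      ψ n (Ideal.Quotient.mk _ b)

variable {I K}

theorem Compat.le {ψ : ∀ n : ℕ, B ⧸ K ^ (n + 1) →+* A ⧸ I ^ (n + 1)} (hψ : Compat I K ψ)
    {m n : ℕ} (hmn : m ≤ n) (b : B) :
    Ideal.Quotient.factorPow I (Nat.succ_le_succ hmn) (ψ n (Ideal.Quotient.mk _ b)) =
      ψ m (Ideal.Quotient.mk _ b) := by
  induction n, hmn using Nat.le_induction with
  | base =>
    obtain ⟨a, ha⟩ := Ideal.Quotient.mk_surjective (ψ m (Ideal.Quotient.mk _ b))
    rw [← ha]; rfl
  | succ n hmn ih =>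
    rw [← ih, ← hψ n b]
    obtain ⟨a, ha⟩ := Ideal.Quotient.mk_surjective (ψ (n + 1) (Ideal.Quotient.mk _ b))
    rw [← ha]; rfl

/-- The maps `B → A ⧸ I^n` attached to a compatible family. -/
def famMap (ψ : ∀ n : ℕ, B ⧸ K ^ (n + 1) →+* A ⧸ I ^ (n + 1)) (n : ℕ) : B →+* A ⧸ I ^ n :=
  (Ideal.Quotient.factorPow I (Nat.le_succ n)).comp ((ψ n).comp (Ideal.Quotient.mk _))

theorem famMap_compat {ψ : ∀ n : ℕ, B ⧸ K ^ (n + 1) →+* A ⧸ I ^ (n + 1)} (hψ : Compat I K ψ)
    {m n : ℕ} (hle : m ≤ n) :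
    (Ideal.Quotient.factorPow I hle).comp (famMap ψ n) = famMap ψ m := by
  ext b
  simp only [famMap, RingHom.comp_apply]
  rw [← hψ.le hle b]
  obtain ⟨a, ha⟩ := Ideal.Quotient.mk_surjective (ψ n (Ideal.Quotient.mk _ b))
  rw [← ha]; rfl

variable [IsAdicComplete I A]

/-- The limit map `B → A` of a compatible family. -/
noncomputable def limMap {ψ : ∀ n : ℕ, B ⧸ K ^ (n + 1) →+* A ⧸ I ^ (n + 1)}
    (hψ : Compat I K ψ) : B →+* A :=
  IsAdicComplete.liftRingHom I (famMap ψ) (fun hle => famMap_compat hψ hle)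

theorem mk_limMap {ψ : ∀ n : ℕ, B ⧸ K ^ (n + 1) →+* A ⧸ I ^ (n + 1)}
    (hψ : Compat I K ψ) (n : ℕ) (b : B) :
    Ideal.Quotient.mk (I ^ (n + 1)) (limMap hψ b) = ψ n (Ideal.Quotient.mk _ b) := by
  rw [limMap, IsAdicComplete.mk_liftRingHom]
  simp only [famMap, RingHom.comp_apply]
  exact hψ n b

theorem limMap_le {ψ : ∀ n : ℕ, B ⧸ K ^ (n + 1) →+* A ⧸ I ^ (n + 1)}
    (hψ : Compat I K ψ) : K ≤ I.comap (limMap hψ) := by
  intro b hb
  rw [Ideal.mem_comap]
  have h0 := mk_limMap hψ 0 b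
  have hb0 : Ideal.Quotient.mk (K ^ (0 + 1)) b = 0 := by
    rw [Ideal.Quotient.eq_zero_iff_mem, zero_add, pow_one]; exact hb
  rw [hb0, map_zero, Ideal.Quotient.eq_zero_iff_mem, zero_add, pow_one] at h0
  exact h0

theorem quotPowMap_limMap {ψ : ∀ n : ℕ, B ⧸ K ^ (n + 1) →+* A ⧸ I ^ (n + 1)}
    (hψ : Compat I K ψ) (n : ℕ) :
    FSch.quotPowMap I K (limMap hψ) (limMap_le hψ) n = ψ n := by
  apply Ideal.Quotient.ringHom_ext
  ext b
  exact mk_limMap hψ n b

theorem spfMap_injective (I : Ideal A) (K : Ideal B) [IsAdicComplete I A] :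
    Function.Injective (fun φ : {φ : B →+* A // K ≤ I.comap φ} ↦ FSch.spfMap I K φ.1 φ.2) := by
  rintro ⟨φ, hφ⟩ ⟨φ', hφ'⟩ heq
  have heq' : ∀ n, FSch.quotPowMap I K φ hφ n = FSch.quotPowMap I K φ' hφ' n := by
    intro n
    have h1 := congrArg (fun g : FSch.Hom (FSch.spf A I) (FSch.spf B K) => g.app n) heq
    have h2 : Spec.map (CommRingCat.ofHom (FSch.quotPowMap I K φ hφ n)) =
        Spec.map (CommRingCat.ofHom (FSch.quotPowMap I K φ' hφ' n)) := h1
    have h3 := Spec.map_injective h2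
    exact congrArg CommRingCat.Hom.hom h3
  apply Subtype.ext
  apply DFunLike.coe_injective
  refine IsHausdorff.StrictMono.funext' I (a := fun n => n + 1)
    (fun a b hab => Nat.succ_lt_succ hab) (fun n b => ?_)
  have := congrArg (fun g => g (Ideal.Quotient.mk (K ^ (n + 1)) b)) (heq' n)
  exact this

theorem spfMap_surjective (I : Ideal A) (K : Ideal B) [IsAdicComplete I A] :
    Function.Surjective (fun φ : {φ : B →+* A // K ≤ I.comap φ} ↦ FSch.spfMap I K φ.1 φ.2) := by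
  intro g
  let g' : FSch.Hom (FSch.spf A I) (FSch.spf B K) := g
  let ψc : ∀ n : ℕ, CommRingCat.of (B ⧸ K ^ (n + 1)) ⟶ CommRingCat.of (A ⧸ I ^ (n + 1)) :=
    fun n => Spec.preimage (g'.app n)
  have hψc : ∀ n, Spec.map (ψc n) = g'.app n := fun n => Spec.map_preimage _
  let ψ : ∀ n : ℕ, B ⧸ K ^ (n + 1) →+* A ⧸ I ^ (n + 1) := fun n => (ψc n).hom
  have hcompat : Compat I K ψ := by
    intro n b
    have hc := g'.comm n
    have hc' : Spec.map (ψc n) ≫ Spec.map (CommRingCat.ofHom (Ideal.Quotient.factor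
          (Ideal.pow_le_pow_right (I := K) (Nat.le_succ (n + 1))))) =
        Spec.map (CommRingCat.ofHom (Ideal.Quotient.factor
          (Ideal.pow_le_pow_right (I := I) (Nat.le_succ (n + 1))))) ≫ Spec.map (ψc (n + 1)) := by
      rw [hψc, hψc]; exact hc
    rw [← Spec.map_comp, ← Spec.map_comp] at hc'
    have hc2 := Spec.map_injective hc'
    have hc3 := congr($(hc2).hom (Ideal.Quotient.mk _ b))
    simp only [CommRingCat.hom_comp, CommRingCat.hom_ofHom, RingHom.comp_apply] at hc3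
    exact hc3.symm
  refine ⟨⟨limMap hcompat, limMap_le hcompat⟩, ?_⟩
  apply FSch.Hom.ext
  funext n
  change Spec.map (CommRingCat.ofHom (FSch.quotPowMap I K (limMap hcompat) (limMap_le hcompat) n))
    = g'.app n
  rw [quotPowMap_limMap, ← hψc]
  rfl

end helpers

open AlgebraicGeometry in
/-- (Affine adic case; the formal spectra presented as the systems Spec(A/I^(n+1)) and Spec(B/K^(n+1)).)
Let I be an ideal of a ring A which is complete and separated for the I-adic topology, and K an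
ideal of a ring B. Then φ ↦ (Spec of the induced maps B/K^(n+1) -> A/I^(n+1)) is a bijection from
the ring homomorphisms φ : B -> A with φ(K) ⊆ I onto the morphisms of systems from Spf(A) to Spf(B),
i.e. the compatible families of morphisms Spec(A/I^(n+1)) -> Spec(B/K^(n+1)). -/
theorem result (A B : Type u) [CommRing A] [CommRing B] (I : Ideal A) (K : Ideal B)
    [IsAdicComplete I A] :
    Function.Bijective (fun φ : {φ : B →+* A // K ≤ I.comap φ} ↦ FSch.spfMap I K φ.1 φ.2) := by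
  exact ⟨spfMap_injective I K, spfMap_surjective I K⟩

end Groth.Agent.S3860
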