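import Groth.Statements.S3862
import Groth.Agent.Lib.Helper18.SubschemeIncl

set_option autoImplicit false
universe u
open FCompl

namespace Groth.Agent.S3862

section helpers
open AlgebraicGeometry CategoryTheory CategoryTheory.Limits

/-- The closed subscheme of an inverse image ideal is the fibre product. -/
theorem isPullback_subschemeMap {X Y : Scheme.{u}} (f : X ⟶ Y) (I : Y.IdealSheafData)
    (L : X.IdealSheafData) (hL : L = I.comap f) (H : I ≤ L.map f) :
    IsPullback L.subschemeι (Scheme.IdealSheafData.subschemeMap L I f H) f I.subschemeι := by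
  subst hL
  refine IsPullback.of_iso_pullback ⟨by simp⟩ (I.comapIso f) ?_ ?_
  · exact Scheme.IdealSheafData.comapIso_hom_fst I f
  · exact Scheme.IdealSheafData.comapIso_hom_snd I f

end helpers

open AlgebraicGeometry in
open CategoryTheory in
/-- Completions are presented by the closed subschemes cut out by the powers of an ideal sheaf 𝓚 on Y
and by the powers of its inverse image ideal on X. For a morphism of schemes f : X → Y, the
completion X̂ of X along the inverse image ideal is X ×_Y Ŷ: at every level n the square formed by
the inclusion X'_n → X, the completed morphism X'_n → Y'_n, f and the inclusion Y'_n → Y is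
cartesian, and the completed morphism X̂ → Ŷ is adic (each square X'_n → X'_(n+1), Y'_n → Y'_(n+1)
is cartesian). The compatibility of f with the powers of the two ideals (the inverse image of
𝓚^(n+1) is contained in the (n+1)-st power of the inverse image ideal of 𝓚), needed to define the
completed morphism, holds for inverse image ideals and is carried as the hypothesis h. -/
theorem result {X Y : Scheme.{u}} (f : X ⟶ Y) (𝓚 : Y.IdealSheafData)
    (h : FSch.PowCompat f (𝓚.comap f) 𝓚) :
    (∀ n : ℕ, IsPullback (FSch.completionToX X (𝓚.comap f) n)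
        ((FSch.completionMap f (𝓚.comap f) 𝓚 h : FSch.Hom _ _).app n) f (FSch.completionToX Y 𝓚 n)) ∧
      FSch.IsAdicHom (FSch.completionMap f (𝓚.comap f) 𝓚 h) := by
  have key : ∀ n : ℕ, IsPullback (FSch.completionToX X (𝓚.comap f) n)
        ((FSch.completionMap f (𝓚.comap f) 𝓚 h : FSch.Hom _ _).app n) f
        (FSch.completionToX Y 𝓚 n) := by
    intro n
    exact isPullback_subschemeMap f (𝓚 ^ (n + 1)) ((𝓚.comap f) ^ (n + 1))
      (Groth.Agent.Lib.Helper18.comap_pow f 𝓚 (n + 1)).symm
      (Scheme.IdealSheafData.le_map_iff_comap_le.mpr (h n))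
  refine ⟨key, fun n => ?_⟩
  have h1 : (FSch.completionAlong X (𝓚.comap f)).ι n ≫ FSch.completionToX X (𝓚.comap f) (n + 1) =
      FSch.completionToX X (𝓚.comap f) n :=
    Scheme.IdealSheafData.inclusion_subschemeι _
  have h2 : (FSch.completionAlong Y 𝓚).ι n ≫ FSch.completionToX Y 𝓚 (n + 1) =
      FSch.completionToX Y 𝓚 n :=
    Scheme.IdealSheafData.inclusion_subschemeι _
  have big := key n
  rw [← h1, ← h2] at big
  exact IsPullback.of_right big
    ((FSch.completionMap f (𝓚.comap f) 𝓚 h : FSch.Hom _ _).comm n).symm (key (n + 1))

end Groth.Agent.S3862
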