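import Groth.Statements.S3867
import Groth.Agent.Lib.Helper18.SpecPushout
import Groth.Agent.S3855
import Mathlib.RingTheory.Nakayama

set_option autoImplicit false
universe u
open FCompl

namespace Groth.Agent.S3867

section helpers
open AlgebraicGeometry CategoryTheory

variable {A B : Type u} [CommRing A] [CommRing B] (I : Ideal A) (K : Ideal B) (φ : B →+* A)
  (h : K ≤ I.comap φ)

/-- The square of `spfMap` at level `n` is cartesian iff `I^(n+1)` and `(KA)^(n+1)` have the
same image in `A ⧸ I^(n+2)`. -/
theorem isPullback_level_iff (n : ℕ) :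
    IsPullback ((FSch.spf A I).ι n) ((FSch.spfMap I K φ h : FSch.Hom _ _).app n)
      ((FSch.spfMap I K φ h : FSch.Hom _ _).app (n + 1)) ((FSch.spf B K).ι n) ↔
    (I ^ (n + 1)).map (Ideal.Quotient.mk (I ^ (n + 2))) =
      ((K.map φ) ^ (n + 1)).map (Ideal.Quotient.mk (I ^ (n + 2))) := by
  change IsPullback (Spec.map (CommRingCat.ofHom (Ideal.Quotient.factor
      (Ideal.pow_le_pow_right (I := I) (Nat.le_succ (n + 1))))))
    (Spec.map (CommRingCat.ofHom (FSch.quotPowMap I K φ h n)))
    (Spec.map (CommRingCat.ofHom (FSch.quotPowMap I K φ h (n + 1))))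
    (Spec.map (CommRingCat.ofHom (Ideal.Quotient.factor
      (Ideal.pow_le_pow_right (I := K) (Nat.le_succ (n + 1)))))) ↔ _
  rw [Groth.Agent.Lib.Helper18.isPullback_SpecMap_iff,
    Groth.Agent.Lib.Helper18.isPushout_iff_ker_of_surjective _ _ _ _
      (Ideal.Quotient.factor_surjective (Ideal.pow_le_pow_right (I := K) (Nat.le_succ (n + 1))))
      (Ideal.Quotient.factor_surjective (Ideal.pow_le_pow_right (I := I) (Nat.le_succ (n + 1))))]
  · simp only [CommRingCat.hom_ofHom]
    rw [Groth.Agent.S3855.ker_factor_pow, Groth.Agent.S3855.ker_factor_pow, Ideal.map_map]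
    have hcomp : (FSch.quotPowMap I K φ h (n + 1)).comp (Ideal.Quotient.mk (K ^ (n + 2))) =
        (Ideal.Quotient.mk (I ^ (n + 2))).comp φ := by
      ext b; rfl
    rw [hcomp, ← Ideal.map_map, Ideal.map_pow φ K (n + 1)]
  · rw [← CommRingCat.ofHom_comp, ← CommRingCat.ofHom_comp]
    congr 1
    apply Ideal.Quotient.ringHom_ext
    ext b
    rfl

end helpers

open AlgebraicGeometry in
/-- Formal spectra are presented as the systems Spec(A/I^(n+1)) and Spec(B/K^(n+1)), a morphism of
systems being adic when all its squares are cartesian. Let A be a Noetherian ring, complete and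
separated for the I-adic topology of an ideal I, K an ideal of a ring B and φ : B → A a ring
homomorphism with φ(K) ⊆ I. Then the induced morphism Spf(A) → Spf(B) is adic if and only if the
ideal of A generated by φ(K) is I. -/
theorem result (A B : Type u) [CommRing A] [CommRing B] [IsNoetherianRing A]
    (I : Ideal A) (K : Ideal B) [IsAdicComplete I A] (φ : B →+* A) (h : K ≤ I.comap φ) :
    FSch.IsAdicHom (FSch.spfMap I K φ h) ↔ K.map φ = I := by
  have hKI : K.map φ ≤ I := Ideal.map_le_iff_le_comap.mpr h
  constructor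
  · intro hadic
    have h0 := (isPullback_level_iff I K φ h 0).mp (hadic 0)
    refine le_antisymm hKI ?_
    have h1 := congrArg (Ideal.comap (Ideal.Quotient.mk (I ^ (0 + 2)))) h0
    rw [Ideal.comap_map_of_surjective _ Ideal.Quotient.mk_surjective,
      Ideal.comap_map_of_surjective _ Ideal.Quotient.mk_surjective,
      ← RingHom.ker_eq_comap_bot, Ideal.mk_ker, zero_add, pow_one, pow_one] at h1
    have h2 : I ≤ K.map φ ⊔ I • I := by
      calc I ≤ I ⊔ I ^ 2 := le_sup_left
        _ = K.map φ ⊔ I ^ 2 := h1
        _ = K.map φ ⊔ I • I := by rw [pow_two, smul_eq_mul]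
    exact Submodule.le_of_le_smul_of_le_jacobson_bot (IsNoetherian.noetherian I)
      (IsAdicComplete.le_jacobson_bot I) h2
  · intro hEq n
    rw [isPullback_level_iff, hEq]

end Groth.Agent.S3867
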