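import Groth.Statements.S3868
import Groth.Agent.Lib.Helper18.SpfOfAffine
import Groth.Agent.Lib.Helper18.NilpAffine
import Groth.Agent.Lib.Helper18.AdicThickNoeth

set_option autoImplicit false
universe u
open FCompl

namespace Groth.Agent.S3868

open AlgebraicGeometry in
open CategoryTheory in
/-- (Systems of thickenings.) Let (X_n) be a system of schemes whose transition maps are surjective
closed immersions, with the kernel ideal of X_n -> X_(n+1) the (n+1)-st power of that of X_0 ->
X_(n+1), X_0 affine and locally Noetherian, and the kernel ideal of X_0 -> X_1 of finite type. Then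
the system is isomorphic to the formal spectrum Spec(A/J) -> Spec(A/J^2) -> ... of some Noetherian
ring A complete and separated for the J-adic topology, J an ideal of A. -/
theorem result (𝔛 : FSch.Sys.{u}) (hF : 𝔛.IsFormal) (hA : 𝔛.IsAdic)
    [IsAffine (𝔛.X 0)] [IsLocallyNoetherian (𝔛.X 0)] (hft : FSch.IdealFT (𝔛.ι 0).ker) :
    ∃ (A : Type u) (_ : CommRing A) (J : Ideal A),
      IsNoetherianRing A ∧ IsAdicComplete J A ∧ Nonempty (𝔛 ≅ FSch.spf A J) := by
  have haff : ∀ n, IsAffine (𝔛.X n) := fun n => by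
    have := Groth.Agent.Lib.Helper18.toX_isClosedImmersion 𝔛 hF n
    exact Groth.Agent.Lib.Helper18.isAffine_of_isClosedImmersion_of_ker_pow_eq_bot (𝔛.toX n) (n + 1)
      (Groth.Agent.S3853.ker_toX_pow 𝔛 hF hA n)
  have hN : IsNoetherianRing Γ(𝔛.X 0, ⊤) :=
    IsLocallyNoetherian.component_noetherian ⟨⊤, isAffineOpen_top _⟩
  exact Groth.Agent.Lib.Helper18.SpfOfAffine.exists_iso_spf_of_affine 𝔛 (fun n => (hF n).1) hA
    (hft ⟨⊤, isAffineOpen_top _⟩)

end Groth.Agent.S3868
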