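import Groth.Statements.S3869
import Groth.Agent.Lib.Helper18.ComplMap
import Mathlib.RingTheory.Henselian

set_option autoImplicit false
universe u
open FCompl

namespace Groth.Agent.S3869

section helpers
open AdicCompletion Groth.Agent.Lib.Helper18

variable (A : Type u) [CommRing A] (J : Ideal A) (𝔭 : Ideal A) [𝔭.IsPrime]

theorem map_le_maximalIdeal (hJ : J ≤ 𝔭) :
    J.map (algebraMap A (Localization.AtPrime 𝔭)) ≤
      IsLocalRing.maximalIdeal (Localization.AtPrime 𝔭) := by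
  rw [Ideal.map_le_iff_le_comap]
  intro x hx
  rw [Ideal.mem_comap, IsLocalization.AtPrime.to_map_mem_maximal_iff _ 𝔭]
  exact hJ hx

theorem nontrivial_quot (hJ : J ≤ 𝔭) :
    Nontrivial (Localization.AtPrime 𝔭 ⧸ J.map (algebraMap A (Localization.AtPrime 𝔭))) := by
  rw [Ideal.Quotient.nontrivial_iff]
  intro h
  have := map_le_maximalIdeal A J 𝔭 hJ
  rw [h, top_le_iff] at this
  exact (IsLocalRing.maximalIdeal.isMaximal _).ne_top this

/-- `A{S⁻¹}` is a local ring when `J ⊆ 𝔭`. -/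
theorem isLocalRing_cAtPrime (hJ : J ≤ 𝔭) : IsLocalRing (FSch.cAtPrime A J 𝔭) := by
  have := nontrivial_quot A J 𝔭 hJ
  have : IsLocalRing (Localization.AtPrime 𝔭 ⧸ J.map (algebraMap A (Localization.AtPrime 𝔭))) :=
    IsLocalRing.of_surjective' (Ideal.Quotient.mk _) Ideal.Quotient.mk_surjective
  have := isLocalHom_evalOneₐ (J.map (algebraMap A (Localization.AtPrime 𝔭)))
  exact RingHom.domain_isLocalRing
    (evalOneₐ (J.map (algebraMap A (Localization.AtPrime 𝔭)))).toRingHom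

/-- The localization map `A_f → A_h` for `f ∣ h`. -/
noncomputable def awayOfDvd (f h : A) (hd : f ∣ h) : Localization.Away f →+* Localization.Away h :=
  IsLocalization.Away.lift f (g := algebraMap A (Localization.Away h))
    (isUnit_of_dvd_unit (map_dvd _ hd) (IsLocalization.Away.algebraMap_isUnit h))

theorem awayOfDvd_algebraMap (f h : A) (hd : f ∣ h) (a : A) :
    awayOfDvd A f h hd (algebraMap A _ a) = algebraMap A _ a := by
  simp [awayOfDvd]

theorem map_awayOfDvd_le (f h : A) (hd : f ∣ h) :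
    (J.map (algebraMap A (Localization.Away f))).map (awayOfDvd A f h hd) ≤
      J.map (algebraMap A (Localization.Away h)) := by
  rw [Ideal.map_map]
  apply le_of_eq
  congr 1
  ext a
  simp [awayOfDvd]

theorem awayToAtPrime_comp_awayOfDvd (f h : A) (hd : f ∣ h) (hh : h ∉ 𝔭) (hf : f ∉ 𝔭) :
    (FSch.awayToAtPrime A 𝔭 h hh).comp (awayOfDvd A f h hd) = FSch.awayToAtPrime A 𝔭 f hf := by
  apply IsLocalization.ringHom_ext (Submonoid.powers f)
  ext a
  simp [awayOfDvd, FSch.awayToAtPrime]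

theorem complMap_congr {S T : Type u} [CommRing S] [CommRing T] (I : Ideal S) (K : Ideal T)
    {g₁ g₂ : S →+* T} (hg : g₁ = g₂) (h₁ : I.map g₁ ≤ K) (h₂ : I.map g₂ ≤ K) :
    FSch.complMap I K g₁ h₁ = FSch.complMap I K g₂ h₂ := by
  subst hg; rfl

/-- The canonical map `A_{f} → A_{h}` for `f ∣ h`. -/
noncomputable def cAwayOfDvd (f h : A) (hd : f ∣ h) : FSch.cAway A J f →+* FSch.cAway A J h :=
  FSch.complMap _ _ (awayOfDvd A f h hd) (map_awayOfDvd_le A J f h hd)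

theorem cAwayToAtPrime_comp_cAwayOfDvd (f h : A) (hd : f ∣ h) (hh : h ∉ 𝔭) (hf : f ∉ 𝔭) :
    (FSch.cAwayToAtPrime A J 𝔭 h hh).comp (cAwayOfDvd A J f h hd) =
      FSch.cAwayToAtPrime A J 𝔭 f hf := by
  unfold FSch.cAwayToAtPrime cAwayOfDvd
  rw [complMap_comp _ _ _ _ _ _ _ (by
    rw [awayToAtPrime_comp_awayOfDvd A 𝔭 f h hd hh hf]; exact FSch.map_awayToAtPrime_le A J 𝔭 f hf)]
  exact complMap_congr _ _ (awayToAtPrime_comp_awayOfDvd A 𝔭 f h hd hh hf) _ _

theorem range_le_of_dvd (f h : A) (hd : f ∣ h) (hh : h ∉ 𝔭) (hf : f ∉ 𝔭) :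
    (FSch.cAwayToAtPrime A J 𝔭 f hf).range ≤ (FSch.cAwayToAtPrime A J 𝔭 h hh).range := by
  rw [← cAwayToAtPrime_comp_cAwayOfDvd A J 𝔭 f h hd hh hf]
  rintro _ ⟨y, rfl⟩
  exact ⟨cAwayOfDvd A J f h hd y, rfl⟩

theorem directed_range :
    Directed (· ≤ ·) (fun f : {f : A // f ∉ 𝔭} => (FSch.cAwayToAtPrime A J 𝔭 f.1 f.2).range) := by
  rintro ⟨f, hf⟩ ⟨g, hg⟩
  have hfg : f * g ∉ 𝔭 := fun h => (Ideal.IsPrime.mem_or_mem ‹_› h).elim hf hg
  exact ⟨⟨f * g, hfg⟩, range_le_of_dvd A J 𝔭 f (f * g) (dvd_mul_right f g) hfg hf,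
    range_le_of_dvd A J 𝔭 g (f * g) (dvd_mul_left g f) hfg hg⟩

theorem mem_stalkSubring_iff (x : FSch.cAtPrime A J 𝔭) :
    x ∈ FSch.stalkSubring A J 𝔭 ↔
      ∃ (f : A) (hf : f ∉ 𝔭), x ∈ (FSch.cAwayToAtPrime A J 𝔭 f hf).range := by
  have : Nonempty {f : A // f ∉ 𝔭} := ⟨⟨1, fun h => (Ideal.IsPrime.ne_top ‹_›)
    ((Ideal.eq_top_iff_one _).mpr h)⟩⟩
  unfold FSch.stalkSubring
  rw [Subring.mem_iSup_of_directed (directed_range A J 𝔭)]
  constructor
  · rintro ⟨⟨f, hf⟩, h⟩; exact ⟨f, hf, h⟩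
  · rintro ⟨f, hf, h⟩; exact ⟨⟨f, hf⟩, h⟩

theorem awayToAtPrime_algebraMap (f : A) (hf : f ∉ 𝔭) (a : A) :
    FSch.awayToAtPrime A 𝔭 f hf (algebraMap A _ a) = algebraMap A _ a := by
  simp [FSch.awayToAtPrime]

/-- Key step: an element of `A_{f}` whose image in `A{S⁻¹}` is a unit becomes a unit in some
`A_{h}`, `f ∣ h`, `h ∉ 𝔭`. -/
theorem exists_isUnit_cAwayOfDvd (hJ : J ≤ 𝔭) (f : A) (hf : f ∉ 𝔭) (y : FSch.cAway A J f)
    (hu : IsUnit (FSch.cAwayToAtPrime A J 𝔭 f hf y)) :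
    ∃ (h : A) (_ : h ∉ 𝔭) (hd : f ∣ h), IsUnit (cAwayOfDvd A J f h hd y) := by
  obtain ⟨r, hr⟩ := Ideal.Quotient.mk_surjective
    (evalOneₐ (J.map (algebraMap A (Localization.Away f))) y)
  obtain ⟨n, a, hna⟩ := IsLocalization.Away.surj f r
  -- the image of `r` in `A_𝔭` is a unit
  have h1 : IsUnit (Ideal.Quotient.mk (J.map (algebraMap A (Localization.AtPrime 𝔭)))
      (FSch.awayToAtPrime A 𝔭 f hf r)) := by
    have := hu.map (evalOneₐ (J.map (algebraMap A (Localization.AtPrime 𝔭))))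
    unfold FSch.cAwayToAtPrime at this
    rw [evalOneₐ_complMap, ← hr] at this
    exact this
  have hloc := isLocalHom_of_le_jacobson_bot (J.map (algebraMap A (Localization.AtPrime 𝔭)))
    ((map_le_maximalIdeal A J 𝔭 hJ).trans (IsLocalRing.maximalIdeal_le_jacobson ⊥))
  have h2 : IsUnit (FSch.awayToAtPrime A 𝔭 f hf r) := isUnit_of_map_unit _ _ h1
  have hfu : IsUnit (algebraMap A (Localization.AtPrime 𝔭) f) :=
    (IsLocalization.AtPrime.isUnit_to_map_iff _ 𝔭 f).mpr hf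
  have h3 : IsUnit (algebraMap A (Localization.AtPrime 𝔭) a) := by
    have := congrArg (FSch.awayToAtPrime A 𝔭 f hf) hna
    rw [map_mul, map_pow, awayToAtPrime_algebraMap, awayToAtPrime_algebraMap] at this
    rw [← this]
    exact h2.mul (hfu.pow n)
  have ha : a ∉ 𝔭 := (IsLocalization.AtPrime.isUnit_to_map_iff _ 𝔭 a).mp h3
  have hfa : f * a ∉ 𝔭 := fun h => (Ideal.IsPrime.mem_or_mem ‹_› h).elim hf ha
  refine ⟨f * a, hfa, dvd_mul_right f a, ?_⟩
  apply isUnit_of_isUnit_evalOneₐ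
  unfold cAwayOfDvd
  rw [evalOneₐ_complMap, ← hr]
  refine IsUnit.map (Ideal.Quotient.mk _) ?_
  have hfu' : IsUnit (algebraMap A (Localization.Away (f * a)) f) :=
    isUnit_of_dvd_unit (map_dvd _ (dvd_mul_right f a)) (IsLocalization.Away.algebraMap_isUnit _)
  have hau' : IsUnit (algebraMap A (Localization.Away (f * a)) a) :=
    isUnit_of_dvd_unit (map_dvd _ (dvd_mul_left a f)) (IsLocalization.Away.algebraMap_isUnit _)
  have := congrArg (awayOfDvd A f (f * a) (dvd_mul_right f a)) hna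
  rw [map_mul, map_pow, awayOfDvd_algebraMap, awayOfDvd_algebraMap] at this
  have h4 : IsUnit (awayOfDvd A f (f * a) (dvd_mul_right f a) r *
      algebraMap A (Localization.Away (f * a)) f ^ n) := by rw [this]; exact hau'
  exact isUnit_of_mul_isUnit_left h4

theorem isLocalHom_subtype (hJ : J ≤ 𝔭) : IsLocalHom (FSch.stalkSubring A J 𝔭).subtype := by
  constructor
  rintro ⟨x, hx⟩ hu
  obtain ⟨f, hf, y, rfl⟩ := (mem_stalkSubring_iff A J 𝔭 x).mp hx
  have hu' : IsUnit (FSch.cAwayToAtPrime A J 𝔭 f hf y) := hu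
  obtain ⟨h, hh, hd, hunit⟩ := exists_isUnit_cAwayOfDvd A J 𝔭 hJ f hf y hu'
  obtain ⟨w, hw⟩ := hunit.exists_right_inv
  have hfac : FSch.cAwayToAtPrime A J 𝔭 f hf y =
      FSch.cAwayToAtPrime A J 𝔭 h hh (cAwayOfDvd A J f h hd y) := by
    rw [← cAwayToAtPrime_comp_cAwayOfDvd A J 𝔭 f h hd hh hf]; rfl
  have hmem : FSch.cAwayToAtPrime A J 𝔭 h hh w ∈ FSch.stalkSubring A J 𝔭 :=
    (mem_stalkSubring_iff A J 𝔭 _).mpr ⟨h, hh, w, rfl⟩
  refine IsUnit.of_mul_eq_one ⟨FSch.cAwayToAtPrime A J 𝔭 h hh w, hmem⟩ (Subtype.ext ?_)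
  change FSch.cAwayToAtPrime A J 𝔭 f hf y * FSch.cAwayToAtPrime A J 𝔭 h hh w = 1
  rw [hfac, ← map_mul, hw, map_one]

end helpers

/-- For a ring A, an ideal J and a prime ideal 𝔭, let A{S⁻¹}, S = A ∖ 𝔭, be the completion of A_𝔭 for
the topology defined by the extension of J, and for f ∉ 𝔭 let A_{f} be the completion of A_f for the
topology defined by the extension of J. Consider the subring A_{S} of A{S⁻¹} generated by the images
of all the A_{f}, f ∉ 𝔭 (when A is adic Noetherian and 𝔭 is open, this is the inductive limit of the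
A_{f}, i.e. the stalk at 𝔭 of the structure sheaf of Spf(A) as a plain ring). If J ⊆ 𝔭, then A_{S}
is a local ring and its inclusion into A{S⁻¹} is a local homomorphism. -/
theorem result (A : Type u) [CommRing A] (J : Ideal A) (𝔭 : Ideal A) [𝔭.IsPrime]
    (hJ : J ≤ 𝔭) :
    IsLocalRing (FSch.stalkSubring A J 𝔭) ∧ IsLocalHom (FSch.stalkSubring A J 𝔭).subtype := by
  have hloc : IsLocalHom (FSch.stalkSubring A J 𝔭).subtype := isLocalHom_subtype A J 𝔭 hJ
  have := isLocalRing_cAtPrime A J 𝔭 hJ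
  exact ⟨RingHom.domain_isLocalRing (FSch.stalkSubring A J 𝔭).subtype, hloc⟩

end Groth.Agent.S3869
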