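import Groth.Statements.S3872
import Groth.Agent.S3869

set_option autoImplicit false
universe u
open FCompl

namespace Groth.Agent.S3872

section helpers
open AdicCompletion Groth.Agent.Lib.Helper18

variable (A : Type u) [CommRing A] (J : Ideal A) (𝔭 : Ideal A) [𝔭.IsPrime]

/-- The image of `A_𝔭` in `A{S⁻¹}` lies in the stalk subring `A_{S}`. -/
theorem of_mem_stalkSubring (r : Localization.AtPrime 𝔭) :
    of (J.map (algebraMap A (Localization.AtPrime 𝔭))) (Localization.AtPrime 𝔭) r ∈
      FSch.stalkSubring A J 𝔭 := by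
  obtain ⟨⟨a, ⟨s, hs⟩⟩, hr⟩ := IsLocalization.surj 𝔭.primeCompl r
  simp only at hr
  have hs' : s ∉ 𝔭 := hs
  let t : Localization.Away s := IsLocalization.Away.invSelf s * algebraMap A _ a
  have ht : FSch.awayToAtPrime A 𝔭 s hs' t = r := by
    have hsu : IsUnit (algebraMap A (Localization.AtPrime 𝔭) s) :=
      (IsLocalization.AtPrime.isUnit_to_map_iff _ 𝔭 s).mpr hs'
    apply hsu.mul_left_injective
    simp only
    rw [hr, ← Groth.Agent.S3869.awayToAtPrime_algebraMap A 𝔭 s hs' s, ← map_mul]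
    have : t * algebraMap A (Localization.Away s) s = algebraMap A _ a := by
      simp only [t]
      rw [mul_comm, ← mul_assoc, IsLocalization.Away.mul_invSelf, one_mul]
    rw [this, Groth.Agent.S3869.awayToAtPrime_algebraMap]
  have hmem : of (J.map (algebraMap A (Localization.AtPrime 𝔭))) (Localization.AtPrime 𝔭) r ∈
      (FSch.cAwayToAtPrime A J 𝔭 s hs').range := by
    refine ⟨of _ _ t, ?_⟩
    unfold FSch.cAwayToAtPrime
    rw [complMap_of, ht]
  exact (Groth.Agent.S3869.mem_stalkSubring_iff A J 𝔭 _).mpr ⟨s, hs', hmem⟩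

/-- Every element of `A{S⁻¹}` differs from the image of an element of `A_𝔭` by a non-unit. -/
theorem exists_sub_of_not_isUnit (hJ : J ≤ 𝔭) (x : FSch.cAtPrime A J 𝔭) :
    ∃ r : Localization.AtPrime 𝔭,
      ¬ IsUnit (x - of (J.map (algebraMap A (Localization.AtPrime 𝔭))) (Localization.AtPrime 𝔭) r) := by
  have := Groth.Agent.S3869.nontrivial_quot A J 𝔭 hJ
  obtain ⟨r, hr⟩ := Ideal.Quotient.mk_surjective
    (evalOneₐ (J.map (algebraMap A (Localization.AtPrime 𝔭))) x)
  refine ⟨r, not_isUnit_of_evalOneₐ_eq_zero _ _ ?_⟩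
  rw [map_sub, evalOneₐ_of, hr, sub_self]

end helpers

/-- For a ring A, an ideal J and a prime ideal 𝔭 with J ⊆ 𝔭, let A{S⁻¹}, S = A ∖ 𝔭, be the completion of
A_𝔭 for the topology defined by the extension of J, and A_{S} the subring of A{S⁻¹} generated by the
images of the completed localizations A_{f}, f ∉ 𝔭 (the stalk ring of Spf(A) at 𝔭). Given that A_{S}
and A{S⁻¹} are local rings and that the inclusion A_{S} → A{S⁻¹} and the canonical map A_𝔭 → A{S⁻¹}
are local homomorphisms (all four are carried here as instance hypotheses; the two about A_{S} are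
stated separately), both maps induce bijections on residue fields; so the residue field of A_{S} is
the residue field κ(𝔭) of A_𝔭. -/
theorem result (A : Type u) [CommRing A] (J : Ideal A) (𝔭 : Ideal A)
    [𝔭.IsPrime] (hJ : J ≤ 𝔭) [IsLocalRing (FSch.stalkSubring A J 𝔭)] [IsLocalRing (FSch.cAtPrime A J 𝔭)]
    [IsLocalHom (FSch.stalkSubring A J 𝔭).subtype]
    [IsLocalHom (algebraMap (Localization.AtPrime 𝔭) (FSch.cAtPrime A J 𝔭))] :
    Function.Bijective (IsLocalRing.ResidueField.map (FSch.stalkSubring A J 𝔭).subtype) ∧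
      Function.Bijective
        (IsLocalRing.ResidueField.map (algebraMap (Localization.AtPrime 𝔭) (FSch.cAtPrime A J 𝔭))) := by
  refine ⟨⟨RingHom.injective _, ?_⟩, ⟨RingHom.injective _, ?_⟩⟩
  · intro z
    obtain ⟨x, rfl⟩ := IsLocalRing.residue_surjective z
    obtain ⟨r, hr⟩ := exists_sub_of_not_isUnit A J 𝔭 hJ x
    refine ⟨IsLocalRing.residue _ ⟨_, of_mem_stalkSubring A J 𝔭 r⟩, ?_⟩
    rw [IsLocalRing.ResidueField.map_residue]
    symm
    rw [← sub_eq_zero, ← map_sub, IsLocalRing.residue_eq_zero_iff]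
    exact hr
  · intro z
    obtain ⟨x, rfl⟩ := IsLocalRing.residue_surjective z
    obtain ⟨r, hr⟩ := exists_sub_of_not_isUnit A J 𝔭 hJ x
    refine ⟨IsLocalRing.residue _ r, ?_⟩
    rw [IsLocalRing.ResidueField.map_residue]
    symm
    rw [← sub_eq_zero, ← map_sub, IsLocalRing.residue_eq_zero_iff]
    exact hr

end Groth.Agent.S3872
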