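import Groth.Statements.S3873
import Groth.Agent.Lib.Helper18.IdealComap

set_option autoImplicit false
universe u
open FCompl

namespace Groth.Agent.S3873

section helpers
open AlgebraicGeometry CategoryTheory

/-- Global sections of the ideal sheaf of `J` on `Spec A`. -/
theorem idealSpec_ideal_top (A : Type u) [CommRing A] (J : Ideal A) :
    (FSch.idealSpec A J).ideal ⟨⊤, isAffineOpen_top _⟩ =
      J.map (Scheme.ΓSpecIso (CommRingCat.of A)).inv.hom := by
  unfold FSch.idealSpec
  rw [Scheme.Hom.ker_apply]
  have hnat := Scheme.ΓSpecIso_naturality (CommRingCat.ofHom (Ideal.Quotient.mk J))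
  have h1 : ((Spec.map (CommRingCat.ofHom (Ideal.Quotient.mk J))).app ⊤) =
      (Scheme.ΓSpecIso (CommRingCat.of A)).hom ≫ CommRingCat.ofHom (Ideal.Quotient.mk J) ≫
        (Scheme.ΓSpecIso (CommRingCat.of (A ⧸ J))).inv := by
    rw [← Category.assoc, ← hnat, Category.assoc, Iso.hom_inv_id, Category.comp_id]
  rw [h1]
  set e := (Scheme.ΓSpecIso (CommRingCat.of A)).commRingCatIsoToRingEquiv with he
  set e' := (Scheme.ΓSpecIso (CommRingCat.of (A ⧸ J))).commRingCatIsoToRingEquiv with he'
  have hmap : J.map (Scheme.ΓSpecIso (CommRingCat.of A)).inv.hom = J.comap (e : _ →+* _) := by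
    have := Ideal.map_symm (I := J) e
    exact this
  rw [hmap]
  ext x
  simp only [RingHom.mem_ker, Ideal.mem_comap]
  have hinj : Function.Injective e'.symm := e'.symm.injective
  constructor
  · intro h
    have h2 : e'.symm ((Ideal.Quotient.mk J) (e x)) = 0 := h
    rw [map_eq_zero_iff _ hinj] at h2
    exact Ideal.Quotient.eq_zero_iff_mem.mp h2
  · intro h
    have h2 : (Ideal.Quotient.mk J) (e x) = 0 := Ideal.Quotient.eq_zero_iff_mem.mpr h
    change e'.symm ((Ideal.Quotient.mk J) (e x)) = 0
    rw [h2, map_zero]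

end helpers

open AlgebraicGeometry in
/-- Its content on the affine schemes underlying the formal spectra: the inverse image ideal of b^Δ is
(bA)^Δ, read on Spec: For a ring homomorphism φ : B -> A and an ideal b of B, the inverse image
along Spec(φ) of the ideal sheaf of b on Spec B is the ideal sheaf on Spec A of the ideal generated
by φ(b). -/
theorem result (A B : Type u) [CommRing A] [CommRing B] (φ : B →+* A) (𝔟 : Ideal B) :
    (FSch.idealSpec B 𝔟).comap (Spec.map (CommRingCat.ofHom φ)) = FSch.idealSpec A (𝔟.map φ) := by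
  apply AlgebraicGeometry.Scheme.IdealSheafData.ext_of_isAffine
  rw [Groth.Agent.Lib.Helper18.ideal_comap_top_of_isAffine, idealSpec_ideal_top, idealSpec_ideal_top,
    Ideal.map_map, Ideal.map_map]
  congr 1
  rw [← CommRingCat.hom_comp, ← AlgebraicGeometry.Scheme.ΓSpecIso_inv_naturality]
  rfl

end Groth.Agent.S3873
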