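import Groth.Statements.S3874
import Groth.Agent.Lib.Helper18.AdicQuot
import Mathlib.RingTheory.Localization.Ideal

set_option autoImplicit false
universe u
open FCompl

namespace Groth.Agent.S3874

/-- Let A be a Noetherian ring, J an ideal, f ∈ A and n ≥ 0, and let A_{f} be the completion of the
localization A_f for the topology defined by the extension of J. There is a ring isomorphism from
the localization of A/J^(n+1) away from the class of f onto A_{f} modulo the (n+1)-st power of the
extension of J to A_{f}, compatible with the canonical maps from A (and hence unique). In terms of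
formal spectra: the open D(f) of Spf(A) is Spf(A_{f}), and at level n its ring is the ring
(A/J^(n+1))_f of the open D(f) of Spec(A/J^(n+1)). -/
theorem result (A : Type u) [CommRing A] [IsNoetherianRing A] (J : Ideal A)
    (f : A) (n : ℕ) :
    ∃ e : Localization.Away (Ideal.Quotient.mk (J ^ (n + 1)) f) ≃+*
        FSch.cAway A J f ⧸ (J.map (algebraMap A (FSch.cAway A J f))) ^ (n + 1),
      ∀ a : A, e (algebraMap (A ⧸ J ^ (n + 1)) _ (Ideal.Quotient.mk (J ^ (n + 1)) a)) =
        Ideal.Quotient.mk _ (algebraMap A (FSch.cAway A J f) a) := by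
  have hJfg : J.FG := IsNoetherian.noetherian J
  have fg : (J.map (algebraMap A (Localization.Away f))).FG := hJfg.map _
  -- step 1: localization of the quotient
  have hloc : IsLocalization (Submonoid.powers (Ideal.Quotient.mk (J ^ (n + 1)) f))
      (Localization.Away f ⧸ (J ^ (n + 1)).map (algebraMap A (Localization.Away f))) := by
    have h0 : Algebra.algebraMapSubmonoid (A ⧸ J ^ (n + 1)) (Submonoid.powers f) =
        Submonoid.powers (Ideal.Quotient.mk (J ^ (n + 1)) f) := by
      unfold Algebra.algebraMapSubmonoid
      rw [Submonoid.map_powers]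
      rfl
    rw [← h0]
    infer_instance
  let e1 := IsLocalization.algEquiv (Submonoid.powers (Ideal.Quotient.mk (J ^ (n + 1)) f))
    (Localization.Away (Ideal.Quotient.mk (J ^ (n + 1)) f))
    (Localization.Away f ⧸ (J ^ (n + 1)).map (algebraMap A (Localization.Away f)))
  let e2 : (Localization.Away f ⧸ (J ^ (n + 1)).map (algebraMap A (Localization.Away f))) ≃+*
      (Localization.Away f ⧸ (J.map (algebraMap A (Localization.Away f))) ^ (n + 1)) :=
    Ideal.quotEquivOfEq (Ideal.map_pow _ _ _)
  let e3 := (Groth.Agent.Lib.Helper18.quotPowEquiv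
    (J.map (algebraMap A (Localization.Away f))) fg (n + 1)).symm
  have h4 : ((J.map (algebraMap A (Localization.Away f))).map
      (algebraMap (Localization.Away f) (FSch.cAway A J f))) ^ (n + 1) =
      (J.map (algebraMap A (FSch.cAway A J f))) ^ (n + 1) := by
    rw [Ideal.map_map]; rfl
  let e4 := Ideal.quotEquivOfEq h4
  refine ⟨(e1.toRingEquiv.trans e2).trans (e3.trans e4), fun a => ?_⟩
  have s1 : e1 (algebraMap (A ⧸ J ^ (n + 1)) _ (Ideal.Quotient.mk (J ^ (n + 1)) a)) =
      Ideal.Quotient.mk _ (algebraMap A (Localization.Away f) a) := by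
    rw [AlgEquiv.commutes]; rfl
  simp only [RingEquiv.trans_apply, AlgEquiv.coe_ringEquiv]
  rw [s1]
  simp only [e2, e3, e4, Ideal.quotEquivOfEq_mk,
    Groth.Agent.Lib.Helper18.quotPowEquiv_symm_mk]
  rfl

end Groth.Agent.S3874
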