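import Groth.Statements.S3875
import Groth.Agent.Lib.Helper18.ClosedImmComap

set_option autoImplicit false
universe u
open FCompl

namespace Groth.Agent.S3875

section helpers
open AlgebraicGeometry CategoryTheory CategoryTheory.Limits Groth.Agent.Lib.Helper18

/-- A levelwise cartesian square of systems is cartesian. -/
theorem isPullback_of_levelwise {𝔚 𝔛 𝔜 𝔖 : FSch.Sys.{u}} (a : 𝔚 ⟶ 𝔛) (b : 𝔚 ⟶ 𝔜) (f : 𝔛 ⟶ 𝔖)
    (g : 𝔜 ⟶ 𝔖)
    (H : ∀ n, IsPullback ((a : FSch.Hom 𝔚 𝔛).app n) ((b : FSch.Hom 𝔚 𝔜).app n)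
      ((f : FSch.Hom 𝔛 𝔖).app n) ((g : FSch.Hom 𝔜 𝔖).app n)) : IsPullback a b f g := by
  have w : a ≫ f = b ≫ g := FSch.Hom.ext (funext fun n => (H n).w)
  have hcond : ∀ (s : PullbackCone f g) (n : ℕ),
      (s.fst : FSch.Hom _ _).app n ≫ (f : FSch.Hom 𝔛 𝔖).app n =
        (s.snd : FSch.Hom _ _).app n ≫ (g : FSch.Hom 𝔜 𝔖).app n := fun s n =>
    congrArg (fun φ : FSch.Hom s.pt 𝔖 => φ.app n) s.condition
  let lift : ∀ s : PullbackCone f g, s.pt ⟶ 𝔚 := fun s =>
    (⟨fun n => (H n).lift ((s.fst : FSch.Hom _ _).app n) ((s.snd : FSch.Hom _ _).app n)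
      (hcond s n), fun n => by
        apply (H (n + 1)).hom_ext
        · rw [Category.assoc, Category.assoc, (H (n + 1)).lift_fst,
            ← (a : FSch.Hom 𝔚 𝔛).comm n, ← Category.assoc, (H n).lift_fst,
            (s.fst : FSch.Hom _ _).comm n]
        · rw [Category.assoc, Category.assoc, (H (n + 1)).lift_snd,
            ← (b : FSch.Hom 𝔚 𝔜).comm n, ← Category.assoc, (H n).lift_snd,
            (s.snd : FSch.Hom _ _).comm n]⟩ : FSch.Hom s.pt 𝔚)
  refine ⟨⟨w⟩, ⟨PullbackCone.IsLimit.mk w lift ?_ ?_ ?_⟩⟩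
  · intro s
    exact FSch.Hom.ext (funext fun n => (H n).lift_fst _ _ _)
  · intro s
    exact FSch.Hom.ext (funext fun n => (H n).lift_snd _ _ _)
  · intro s m h1 h2
    refine FSch.Hom.ext (funext fun n => ?_)
    apply (H n).hom_ext
    · rw [show (lift s : FSch.Hom _ _).app n ≫ (a : FSch.Hom 𝔚 𝔛).app n = _ from
        (H n).lift_fst _ _ _]
      exact congrArg (fun φ : FSch.Hom s.pt 𝔛 => φ.app n) h1
    · rw [show (lift s : FSch.Hom _ _).app n ≫ (b : FSch.Hom 𝔚 𝔜).app n = _ from
        (H n).lift_snd _ _ _]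
      exact congrArg (fun φ : FSch.Hom s.pt 𝔜 => φ.app n) h2

/-- Fibre products of closed subschemes: if the ideal `𝓩` on `X ×_S Y` is the inverse image of `𝓐`
on `X` (and the other ideals are compatible), then `V(𝓩) = V(𝓐) ×_{V(𝓒)} V(𝓑)`. -/
theorem isPullback_subschemeMap {X Y S : Scheme.{u}} (g : X ⟶ S) (h : Y ⟶ S)
    (𝓐 : X.IdealSheafData) (𝓑 : Y.IdealSheafData) (𝓒 : S.IdealSheafData)
    (𝓩 : (pullback g h).IdealSheafData)
    (hA : 𝓒 ≤ 𝓐.map g) (hB : 𝓒 ≤ 𝓑.map h) (hZA : 𝓐 ≤ 𝓩.map (pullback.fst g h))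
    (hZB : 𝓑 ≤ 𝓩.map (pullback.snd g h)) (hZ : 𝓩 ≤ 𝓐.comap (pullback.fst g h)) :
    IsPullback (Scheme.IdealSheafData.subschemeMap 𝓩 𝓐 (pullback.fst g h) hZA)
      (Scheme.IdealSheafData.subschemeMap 𝓩 𝓑 (pullback.snd g h) hZB)
      (Scheme.IdealSheafData.subschemeMap 𝓐 𝓒 g hA)
      (Scheme.IdealSheafData.subschemeMap 𝓑 𝓒 h hB) := by
  have w : Scheme.IdealSheafData.subschemeMap 𝓩 𝓐 (pullback.fst g h) hZA ≫
      Scheme.IdealSheafData.subschemeMap 𝓐 𝓒 g hA =
      Scheme.IdealSheafData.subschemeMap 𝓩 𝓑 (pullback.snd g h) hZB ≫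
      Scheme.IdealSheafData.subschemeMap 𝓑 𝓒 h hB := by
    rw [← cancel_mono 𝓒.subschemeι]
    simp only [Category.assoc, Scheme.IdealSheafData.subschemeMap_subschemeι,
      Scheme.IdealSheafData.subschemeMap_subschemeι_assoc, pullback.condition]
  -- the lift
  have hc : ∀ s : PullbackCone (Scheme.IdealSheafData.subschemeMap 𝓐 𝓒 g hA)
      (Scheme.IdealSheafData.subschemeMap 𝓑 𝓒 h hB),
      (s.fst ≫ 𝓐.subschemeι) ≫ g = (s.snd ≫ 𝓑.subschemeι) ≫ h := by
    intro s
    rw [Category.assoc, Category.assoc, ← Scheme.IdealSheafData.subschemeMap_subschemeι 𝓐 𝓒 g hA,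
      ← Scheme.IdealSheafData.subschemeMap_subschemeι 𝓑 𝓒 h hB, ← Category.assoc,
      ← Category.assoc, s.condition]
  have hker : ∀ s : PullbackCone (Scheme.IdealSheafData.subschemeMap 𝓐 𝓒 g hA)
      (Scheme.IdealSheafData.subschemeMap 𝓑 𝓒 h hB),
      𝓩.subschemeι.ker ≤ (pullback.lift _ _ (hc s)).ker := by
    intro s
    rw [Scheme.IdealSheafData.ker_subschemeι, ← Scheme.IdealSheafData.map_bot,
      Scheme.IdealSheafData.le_map_iff_comap_le]
    refine (Scheme.IdealSheafData.comap_mono _ hZ).trans ?_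
    beta_reduce
    rw [← Scheme.IdealSheafData.comap_comp, pullback.lift_fst, Scheme.IdealSheafData.comap_comp]
    have : 𝓐.comap 𝓐.subschemeι = ⊥ := by
      have h0 := comap_ker_self 𝓐.subschemeι
      rwa [𝓐.ker_subschemeι] at h0
    rw [this, Scheme.IdealSheafData.comap_bot]
  let lift : ∀ s : PullbackCone (Scheme.IdealSheafData.subschemeMap 𝓐 𝓒 g hA)
      (Scheme.IdealSheafData.subschemeMap 𝓑 𝓒 h hB), s.pt ⟶ 𝓩.subscheme := fun s =>
    IsClosedImmersion.lift 𝓩.subschemeι (pullback.lift _ _ (hc s)) (hker s)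
  have hlift : ∀ s, lift s ≫ 𝓩.subschemeι = pullback.lift _ _ (hc s) := fun s =>
    IsClosedImmersion.lift_fac _ _ _
  refine ⟨⟨w⟩, ⟨PullbackCone.IsLimit.mk w lift ?_ ?_ ?_⟩⟩
  · intro s
    rw [← cancel_mono 𝓐.subschemeι, Category.assoc,
      Scheme.IdealSheafData.subschemeMap_subschemeι, ← Category.assoc, hlift, pullback.lift_fst]
  · intro s
    rw [← cancel_mono 𝓑.subschemeι, Category.assoc,
      Scheme.IdealSheafData.subschemeMap_subschemeι, ← Category.assoc, hlift, pullback.lift_snd]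
  · intro s m h1 h2
    rw [← cancel_mono 𝓩.subschemeι, hlift]
    apply pullback.hom_ext
    · rw [pullback.lift_fst, Category.assoc,
        ← Scheme.IdealSheafData.subschemeMap_subschemeι 𝓩 𝓐 (pullback.fst g h) hZA,
        ← Category.assoc, h1]
    · rw [pullback.lift_snd, Category.assoc,
        ← Scheme.IdealSheafData.subschemeMap_subschemeι 𝓩 𝓑 (pullback.snd g h) hZB,
        ← Category.assoc, h2]

end helpers

open AlgebraicGeometry in
open CategoryTheory in
open CategoryTheory.Limits in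
/-- Let g : X → S and h : Y → S be morphisms of schemes, R an ideal sheaf on X and J an ideal sheaf on
S, and consider the completions of S along J, of X along R, of Y along the inverse image of J under
h, and of X x_S Y along the inverse image of R under the first projection (completions presented by
the subschemes of the powers of these ideal sheaves); this is the case where the closed subset of Y
is the full preimage of that of S. The four compatibility hypotheses between the powers of the ideal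
sheaves (for g, for h, and for the two projections of X x_S Y): for each n, the inverse image of the
(n+1)-st power of the target ideal sheaf is contained in the (n+1)-st power of the source ideal
sheaf. These are hypotheses, carried as data for the completed morphisms; the published statement
assumes the schemes locally Noetherian, which this identity does not need. Then the square of
completed morphisms from the completion of X x_S Y along the preimage of the closed subset of X, to
the completions of X and of Y, over the completion of S, is cartesian in the category of systems. -/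
theorem result {X Y S : Scheme.{u}} (g : X ⟶ S) (h : Y ⟶ S)
    (𝓡 : X.IdealSheafData) (𝓙 : S.IdealSheafData)
    (hg : FSch.PowCompat g 𝓡 𝓙) (hh : FSch.PowCompat h (𝓙.comap h) 𝓙)
    (hp : FSch.PowCompat (pullback.fst g h) (𝓡.comap (pullback.fst g h)) 𝓡)
    (hq : FSch.PowCompat (pullback.snd g h) (𝓡.comap (pullback.fst g h)) (𝓙.comap h)) :
    IsPullback (FSch.completionMap (pullback.fst g h) (𝓡.comap (pullback.fst g h)) 𝓡 hp)
      (FSch.completionMap (pullback.snd g h) (𝓡.comap (pullback.fst g h)) (𝓙.comap h) hq)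
      (FSch.completionMap g 𝓡 𝓙 hg) (FSch.completionMap h (𝓙.comap h) 𝓙 hh) := by
  refine isPullback_of_levelwise _ _ _ _ (fun n => ?_)
  exact isPullback_subschemeMap g h (𝓡 ^ (n + 1)) ((𝓙.comap h) ^ (n + 1)) (𝓙 ^ (n + 1))
    ((𝓡.comap (pullback.fst g h)) ^ (n + 1))
    (Scheme.IdealSheafData.le_map_iff_comap_le.mpr (hg n))
    (Scheme.IdealSheafData.le_map_iff_comap_le.mpr (hh n))
    (Scheme.IdealSheafData.le_map_iff_comap_le.mpr (hp n))
    (Scheme.IdealSheafData.le_map_iff_comap_le.mpr (hq n))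
    (Groth.Agent.Lib.Helper18.comap_pow _ _ _).ge

end Groth.Agent.S3875
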