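import Groth.Statements.S3877
import Groth.Agent.Lib.Helper74.CohColim.HKColim

set_option autoImplicit false
open CategoryTheory CategoryTheory.Limits Opposite
universe u
open ToposFin

namespace Groth.Agent.S3877.Aux

open Groth.Agent.Lib.Helper5.CechNerve

variable {C : Type u} [SmallCategory C] (J : GrothendieckTopology C)

/-- the terminal sheaf of sets -/
noncomputable abbrev termSheaf : Sheaf J (Type u) :=
  Sheaf.terminal J Types.isTerminalPUnit.{u}

/-- the constant sheaf `ℤ` is the free abelian sheaf on the terminal sheaf of sets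
(as in `Groth.Agent.Lib.Helper5.LocGlobExt`) -/
noncomputable def constIsoFreeTerm :
    (constantSheaf J AddCommGrpCat.{u}).obj (AddCommGrpCat.of (ULift.{u} ℤ)) ≅
      (Zf J).obj (termSheaf J) :=
  (presheafToSheaf J AddCommGrpCat.{u}).mapIso
    ((Functor.const Cᵒᵖ).mapIso
      ((AddEquiv.ulift.trans (FreeAbelianGroup.uniqueEquiv PUnit.{u + 1}).symm).toAddCommGrpIso) ≪≫
      (Functor.constComp Cᵒᵖ PUnit.{u + 1} AddCommGrpCat.free.{u}).symm)

/-- the constant sheaf `ℤ` is the free abelian sheaf on the terminal object -/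
noncomputable def constIsoFreeTop :
    (constantSheaf J AddCommGrpCat.{u}).obj (AddCommGrpCat.of (ULift.{u} ℤ)) ≅
      (Zf J).obj (⊤_ (ToposFin.Sh J)) :=
  constIsoFreeTerm J ≪≫ (Zf J).mapIso
    ((Sheaf.isTerminalTerminal J Types.isTerminalPUnit.{u}).uniqueUpToIso terminalIsTerminal)

/-- `H^q(E, -)` as an `Ext` functor -/
noncomputable def functorHIso (q : ℕ) :
    (Abelian.extFunctor.{u} q).obj (op ((Zf J).obj (⊤_ (ToposFin.Sh J)))) ≅
      (Sheaf.functorH J q : Sheaf J AddCommGrpCat.{u} ⥤ AddCommGrpCat.{u}) :=
  (Abelian.extFunctor.{u} q).mapIso (constIsoFreeTop J).op ≪≫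
    NatIso.ofComponents (fun F => Iso.refl _) (by
      intro F G f
      exact (Category.comp_id _).trans (Category.id_comp _).symm)

end Groth.Agent.S3877.Aux

namespace Groth.Agent.S3877

/-- Let E be the topos of sheaves on a small site and assume E is coherent, i.e. an algebraic topos
whose final object is coherent. Then for every q the functor F ↦ H^q(E, F) on abelian sheaves (Ext
groups out of the constant sheaf Z) preserves colimits indexed by any small filtered category. -/
theorem result {C : Type u} [SmallCategory C]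
    {J : GrothendieckTopology C} (hE : ToposFin.IsAlgebraic J) (hT : ToposFin.IsCoherent (⊤_ (ToposFin.Sh J)))
    (Λ : Type u) [SmallCategory Λ] [IsFiltered Λ] (q : ℕ) :
    PreservesColimitsOfShape Λ (Sheaf.functorH J q : Sheaf J AddCommGrpCat.{u} ⥤ AddCommGrpCat.{u}) := by
  have := Groth.Agent.Lib.Helper74.CohColim.preservesColimitsOfShape_HK (Λ := Λ) hE hT q
  exact preservesColimitsOfShape_of_natIso (Aux.functorHIso J q)

end Groth.Agent.S3877
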