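import Groth.Statements.S3878
import Groth.Agent.Lib.Helper74.CohColim.SiteGlue
import Groth.Agent.Lib.Helper74.CohColim.RDerColim
import Groth.Agent.S0487

set_option autoImplicit false
open CategoryTheory CategoryTheory.Limits Opposite
universe u
open ToposFin

open Groth.Agent.Lib.Helper5.CechNerve Groth.Agent.Lib.Helper4 Groth.Agent.Lib.Helper28
open Groth.Agent.Lib.Helper74.CohColim Groth.Agent.Lib.Helper74.CohColim.SiteGlue

namespace Groth.Agent.S3878.Aux

variable {C : Type u} [SmallCategory C] {J : GrothendieckTopology C}
  (hE : ToposFin.IsAlgebraic J) {Λ : Type u} [SmallCategory Λ] [IsFiltered Λ]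

/-- sections over `X` -/
noncomputable abbrev Γ (J : GrothendieckTopology C) (X : C) :
    Sheaf J AddCommGrpCat.{u} ⥤ AddCommGrpCat.{u} :=
  sheafToPresheaf J AddCommGrpCat.{u} ⋙ (evaluation Cᵒᵖ AddCommGrpCat.{u}).obj (op X)

include hE in
lemma isColimit_sections_type {X : C} (hX : ToposFin.IsCoherent (ToposFin.eps J X))
    (D : Λ ⥤ Sheaf J AddCommGrpCat.{u}) :
    Nonempty (IsColimit ((Γ J X ⋙ forget AddCommGrpCat.{u}).mapCocone (colimit.cocone D))) := by
  refine ⟨Types.FilteredColimit.isColimitOf' _ _ ?_ ?_⟩
  · intro x
    obtain ⟨x', hx'⟩ : ∃ x' : (colimit D).obj.obj (op X), x' = x := ⟨x, rfl⟩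
    obtain ⟨i, t, ht⟩ := H0s_of_isCoherent hE hX D ((zfEquiv J X (colimit D)).symm x')
    refine ⟨i, zfEquiv J X (D.obj i) t, ?_⟩
    have h1 := zfEquiv_comp J X t (colimit.ι D i)
    rw [ht, Equiv.apply_symm_apply] at h1
    rw [← hx']
    exact h1
  · intro i x y h
    obtain ⟨x', hx'⟩ : ∃ x' : (D.obj i).obj.obj (op X), x' = x := ⟨x, rfl⟩
    obtain ⟨y', hy'⟩ : ∃ y' : (D.obj i).obj.obj (op X), y' = y := ⟨y, rfl⟩
    have h' : (colimit.ι D i).hom.app (op X) x' = (colimit.ι D i).hom.app (op X) y' := by
      rw [hx', hy']; exact h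
    obtain ⟨j, g, hg⟩ := H0i_of_isQC hX.1 D i ((zfEquiv J X (D.obj i)).symm x')
      ((zfEquiv J X (D.obj i)).symm y') (by
        apply (zfEquiv J X (colimit D)).injective
        rw [zfEquiv_comp, zfEquiv_comp, Equiv.apply_symm_apply, Equiv.apply_symm_apply]
        exact h')
    refine ⟨j, g, ?_⟩
    have h2 := congrArg (zfEquiv J X (D.obj j)) hg
    rw [zfEquiv_comp, zfEquiv_comp, Equiv.apply_symm_apply, Equiv.apply_symm_apply] at h2
    rw [← hx', ← hy']
    exact h2

include hE in
lemma preservesColimit_sections {X : C} (hX : ToposFin.IsCoherent (ToposFin.eps J X))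
    (D : Λ ⥤ Sheaf J AddCommGrpCat.{u}) : PreservesColimit D (Γ J X) := by
  have h1 : PreservesColimit D (Γ J X ⋙ forget AddCommGrpCat.{u}) :=
    preservesColimit_of_preserves_colimit_cocone (colimit.isColimit D)
      (isColimit_sections_type hE hX D).some
  have h2 : ReflectsColimit (D ⋙ Γ J X) (forget AddCommGrpCat.{u}) :=
    reflectsColimit_of_reflectsIsomorphisms _ _
  exact preservesColimit_of_reflects_of_preserves (Γ J X) (forget AddCommGrpCat.{u})

variable {D' : Type u} [SmallCategory D'] (K : GrothendieckTopology D') (u : D' ⥤ C)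
  [u.IsContinuous K J]

include hE in
lemma preservesColimit_push (hu : ∀ V : D', ToposFin.IsCoherent (ToposFin.eps J (u.obj V)))
    (D : Λ ⥤ Sheaf J AddCommGrpCat.{u}) : PreservesColimit D (CohSite.push J K u) := by
  apply preservesColimit_of_preserves_colimit_cocone (colimit.isColimit D)
  apply isColimitOfReflects (sheafToPresheaf K AddCommGrpCat.{u})
  apply evaluationJointlyReflectsColimits
  intro V
  have := preservesColimit_sections hE (hu V.unop) D
  exact isColimitOfPreserves (Γ J (u.obj V.unop)) (colimit.isColimit D)

include hE in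
theorem main (hu : ∀ V : D', ToposFin.IsCoherent (ToposFin.eps J (u.obj V))) (q : ℕ) :
    PreservesColimitsOfShape Λ (CohSite.Rpush J K u q) := by
  have hΛ : ∀ D : Λ ⥤ Sheaf J AddCommGrpCat.{u}, PreservesColimit D (CohSite.Rpush J K u q) := by
    refine RDerColim.preservesColimit_rightDerived (CohSite.push J K u) ?_ ?_ q
    · have : PreservesColimitsOfShape Λ (CohSite.push J K u) :=
        ⟨fun {D} => preservesColimit_push hE K u hu D⟩
      exact preservesColimitsOfShape_of_natIso (CohSite.push J K u).rightDerivedZeroIsoSelf.symm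
    · intro I hI q
      obtain ⟨e⟩ := Groth.Agent.S0487.result J K u (colimit I) (q + 1)
      refine IsZero.of_iso ?_ e
      have hz : IsZero (u.op ⋙ (colimit I).cohomologyPresheaf (q + 1)) := by
        apply Functor.isZero
        intro V
        exact isZero_cohomologyPresheaf_colimit hE (hu V.unop) I hI q
      exact (presheafToSheaf K AddCommGrpCat.{u}).map_isZero hz
  exact ⟨fun {D} => hΛ D⟩

end Groth.Agent.S3878.Aux

namespace Groth.Agent.S3878

/-- Let (C, J) and (D, K) be small sites and u : D ⥤ C a continuous functor, giving a morphism of topoi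
whose direct image on sheaves is F ↦ F ∘ u, with right derived functors R^q on abelian sheaves.
Assume that the topos of sheaves on (C, J) is algebraic and that for every object V of D the sheaf
on C attached to u(V), which is the inverse image of the sheaf attached to V, is coherent. Then for
every q the higher direct image functor R^q on abelian sheaves preserves colimits indexed by any
small filtered category. The published hypotheses (a coherent morphism from an algebraic topos to a
locally coherent topos) give this situation with D the site of coherent algebraic objects of the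
target. -/
theorem result {C D : Type u} [SmallCategory C]
    [SmallCategory D] (J : GrothendieckTopology C) (K : GrothendieckTopology D) (hE : ToposFin.IsAlgebraic J)
    (u : D ⥤ C) [u.IsContinuous K J] (hu : ∀ V : D, ToposFin.IsCoherent (ToposFin.eps J (u.obj V)))
    (Λ : Type u) [SmallCategory Λ] [IsFiltered Λ] (q : ℕ) :
    PreservesColimitsOfShape Λ (CohSite.Rpush J K u q) := by
  exact Aux.main hE K u hu q

end Groth.Agent.S3878
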