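import Groth.Statements.S3883
import Mathlib
import Groth.Agent.Lib.Helper36.EtClosedEssImage
import Groth.Agent.Lib.Helper36.EtOpenPull

set_option autoImplicit false
open CategoryTheory CategoryTheory.Limits AlgebraicGeometry Opposite
universe u
open EtDesc

namespace Groth.Agent.S3883

/-- Let i : Y -> X be a closed immersion and j : U -> X an open immersion whose image is the complement
of the image of i. Then the direct image functor i_* on etale sheaves of sets is fully faithful, and
a sheaf of sets F on X is isomorphic to some i_* G if and only if j^* F is a final object. -/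
theorem result {Y X U : Scheme.{u}} (i : Y ⟶ X)
    [IsClosedImmersion i] (j : U ⟶ X) [IsOpenImmersion j]
    (hU : Set.range j.base = (Set.range i.base)ᶜ) :
    (EtDesc.pushSh i).Full ∧ (EtDesc.pushSh i).Faithful ∧
    ∀ F : EtDesc.Sh X, (EtDesc.pushSh i).essImage F ↔ IsIso (terminal.from ((EtDesc.pullSh j).obj F)) := by
  open Groth.Agent.Lib.Helper36 in
  have hff := EtClosedDense.full_faithful_push i (Type (u + 1))
  refine ⟨hff.1, hff.2, fun F => ?_⟩
  have h1 := EtClosedDense.essImage_push_iff i (Type (u + 1)) F
  have h2 : Presheaf.IsSheaf (EtClosedDense.J₀ i) F.obj ↔ EtClosedDense.TrivOffZ i F.obj := by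
    rw [isSheaf_iff_isSheaf_of_type]
    constructor
    · exact EtClosedDense.trivOffZ_of_isSheaf_J₀ i F.obj
    · exact EtClosedDense.isSheaf_J₀_of_trivOffZ i F.obj
        ((isSheaf_iff_isSheaf_of_type _ _).1 F.property)
  have h3 := EtOpenPull.trivOffZ_iff j i hU F.obj
  have h4 := EtOpenPull.isIso_terminal_from_pull_iff j F
  exact h1.trans (h2.trans (h3.trans h4.symm))

end Groth.Agent.S3883
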