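import Groth.Statements.S3894
-- import your own Groth.Agent.* helpers here

set_option autoImplicit false
universe u
open CategoryTheory CategoryTheory.Limits Opposite
open Tors

namespace Groth.Agent.S3894

section helpers

variable {C : Type u} [SmallCategory C] {J : GrothendieckTopology C}
  {G : Sheaf J AddCommGrpCat.{u}}

/-- the constant sheaf `PUnit` -/
noncomputable abbrev S1 (J : GrothendieckTopology C) : Sheaf J (Type u) :=
  Sheaf.terminal J Types.isTerminalPUnit

/-- the zero section of `G` as a morphism of sheaves of sets from the constant sheaf `PUnit`. -/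
noncomputable def zeroSec (G : Sheaf J AddCommGrpCat.{u}) :
    S1 J ⟶ (sheafCompose J (forget AddCommGrpCat.{u})).obj G :=
  ⟨{ app := fun U => TypeCat.ofHom (fun _ => (0 : G.obj.obj U))
     naturality := fun U V f => by
       refine ConcreteCategory.hom_ext _ _ (fun x => ?_)
       exact (map_zero (G.obj.map f).hom).symm }⟩

/-- translation of a compatible family of sections -/
noncomputable def transl (T : Tors.Torsor G) (p : ∀ U : Cᵒᵖ, T.P.obj.obj U)
    (hp : ∀ {U V : Cᵒᵖ} (f : U ⟶ V), T.P.obj.map f (p U) = p V) :
    G.obj ⋙ forget AddCommGrpCat.{u} ⟶ T.P.obj where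
  app U := TypeCat.ofHom (fun g => T.vadd g (p U))
  naturality U V f := by
    refine ConcreteCategory.hom_ext _ _ (fun g => ?_)
    change T.vadd (G.obj.map f g) (p V) = T.P.obj.map f (T.vadd g (p U))
    rw [T.map_vadd, hp]

theorem transl_app (T : Tors.Torsor G) (p : ∀ U : Cᵒᵖ, T.P.obj.obj U)
    (hp : ∀ {U V : Cᵒᵖ} (f : U ⟶ V), T.P.obj.map f (p U) = p V) (U : Cᵒᵖ) (g : G.obj.obj U) :
    (transl T p hp).app U g = T.vadd g (p U) := rfl

end helpers

/-- A torsor P under an abelian sheaf G is trivial, i.e. equivariantly isomorphic to G acting on itself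
by translations, if and only if P has a global section (a morphism from the final sheaf of sets). -/
theorem result {C : Type u} [SmallCategory C] {J : GrothendieckTopology C}
    {G : Sheaf J AddCommGrpCat.{u}} (T : Tors.Torsor G) : T.IsTrivial ↔ T.HasSection := by
  constructor
  · rintro ⟨e, -⟩
    exact ⟨terminal.from _ ≫ (terminalIsTerminal.uniqueUpToIso
      (Sheaf.isTerminalTerminal J Types.isTerminalPUnit)).hom ≫ zeroSec G ≫ e.hom⟩
  · rintro ⟨s⟩
    let s' : S1 J ⟶ T.P := terminal.from _ ≫ s
    let p : ∀ U : Cᵒᵖ, T.P.obj.obj U := fun U => s'.hom.app U PUnit.unit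
    have hp : ∀ {U V : Cᵒᵖ} (f : U ⟶ V), T.P.obj.map f (p U) = p V := by
      intro U V f
      exact (ConcreteCategory.congr_hom (s'.hom.naturality f) PUnit.unit).symm
    have hbij : ∀ U : Cᵒᵖ, Function.Bijective ((transl T p hp).app U) := by
      intro U
      constructor
      · intro g h hgh
        obtain ⟨g0, -, hu⟩ := T.free_transitive (p U) (T.vadd g (p U))
        have e1 : g = g0 := hu g rfl
        have e2 : h = g0 := hu h hgh.symm
        rw [e1, e2]
      · intro q
        obtain ⟨g0, hg0, -⟩ := T.free_transitive (p U) q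
        exact ⟨g0, hg0⟩
    let ni : G.obj ⋙ forget AddCommGrpCat.{u} ≅ T.P.obj :=
      NatIso.ofComponents (fun U => (Equiv.ofBijective _ (hbij U)).toIso)
        (fun f => (transl T p hp).naturality f)
    let e : (sheafCompose J (forget AddCommGrpCat.{u})).obj G ≅ T.P :=
      (fullyFaithfulSheafToPresheaf J (Type u)).preimageIso ni
    refine ⟨e, ?_⟩
    intro U g h
    have e1 : e.hom.hom = ni.hom := rfl
    rw [e1]
    exact T.add_vadd g h (p U)

end Groth.Agent.S3894
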