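import Groth.Statements.S3896
import Groth.Agent.Lib.Helper43.EtOpenSub

set_option autoImplicit false
open CategoryTheory CategoryTheory.Limits AlgebraicGeometry Opposite
universe u
open EtDesc

namespace Groth.Agent.S3896

open Groth.Agent.Lib.Helper43.EtOpenSub

/-- The sheaf of an open. -/
noncomputable def shU {X : Scheme.{u}} (U : X.Opens) : EtDesc.Sh X :=
  ⟨openPsh.{u, u + 1} U, (isSheaf_iff_isSheaf_of_type _ _).2 (isSheaf_openPsh U)⟩

noncomputable def repIso {X : Scheme.{u}} (U : X.Opens) :
    shU U ≅ EtDesc.repSh (EtDesc.ofOpen U) :=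
  sheafificationIso (shU U)

lemma mono_of_subsingleton {X : Scheme.{u}} (F : EtDesc.Sh X)
    (hF : ∀ V : X.Etale, Subsingleton (F.obj.obj (op V))) : Mono (terminal.from F) := by
  constructor
  intro Z g h _
  ext V x
  exact (hF V.unop).elim _ _

lemma injective_of_mono {X : Scheme.{u}} {A B : EtDesc.Sh X} (φ : A ⟶ B) [Mono φ] (U : X.Etaleᵒᵖ) :
    Function.Injective (φ.hom.app U) := by
  have h1 : Mono ((sheafToPresheaf _ _).map φ) := inferInstance
  have h2 : Mono (φ.hom.app U) := by
    have : Mono φ.hom := h1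
    infer_instance
  exact (mono_iff_injective _).1 h2

lemma subsingleton_of_mono {X : Scheme.{u}} (F : EtDesc.Sh X) (hF : Mono (terminal.from F))
    (V : X.Etale) : Subsingleton (F.obj.obj (op V)) := by
  let T : EtDesc.Sh X := Sheaf.terminal X.smallEtaleTopology Types.isTerminalPUnit
  have hT : IsTerminal T := Sheaf.isTerminalTerminal _ _
  let e : ⊤_ (EtDesc.Sh X) ≅ T := terminalIsTerminal.uniqueUpToIso hT
  have : Mono (terminal.from F ≫ e.hom) := mono_comp _ _
  constructor
  intro a b
  apply injective_of_mono (terminal.from F ≫ e.hom) (op V)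
  exact Subsingleton.elim (α := PUnit) _ _

lemma subsingleton_of_iso {X : Scheme.{u}} {F G : EtDesc.Sh X} (e : F ≅ G)
    (hF : ∀ V : X.Etale, Subsingleton (F.obj.obj (op V))) (V : X.Etale) :
    Subsingleton (G.obj.obj (op V)) := by
  constructor
  intro a b
  have h1 : Function.Injective (e.inv.hom.app (op V)) := by
    intro x y hxy
    have := congrArg (e.hom.hom.app (op V)) hxy
    have h2 : ∀ z, e.hom.hom.app (op V) (e.inv.hom.app (op V) z) = z := by
      intro z
      have := congrArg (fun ψ => ψ.hom.app (op V) z) e.inv_hom_id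
      exact this
    rwa [h2, h2] at this
  exact h1 ((hF V).elim _ _)


/-- Let X be a scheme. Sending a Zariski open U of X to the etale sheaf of sets attached to the open
immersion U -> X gives an isomorphism of ordered sets from the opens of X onto the subobjects of the
final object of the etale topos of X: (a) each such sheaf is a subobject of the final sheaf; (b) U ≤
V if and only if there is a morphism between the attached sheaves; (c) every subobject of the final
sheaf is isomorphic to the sheaf attached to some open. -/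
theorem result (X : Scheme.{u}) :
    (∀ U : X.Opens, Mono (terminal.from (EtDesc.repSh (EtDesc.ofOpen U)))) ∧
    (∀ U V : X.Opens, U ≤ V ↔ Nonempty (EtDesc.repSh (EtDesc.ofOpen U) ⟶ EtDesc.repSh (EtDesc.ofOpen V))) ∧
    (∀ F : EtDesc.Sh X, Mono (terminal.from F) → ∃ U : X.Opens, Nonempty (F ≅ EtDesc.repSh (EtDesc.ofOpen U))) := by
  refine ⟨?_, ?_, ?_⟩
  · intro U
    apply mono_of_subsingleton
    exact subsingleton_of_iso (repIso U) (fun V => subsingleton_openPsh U V)
  · intro U V
    have h1 : Nonempty (EtDesc.repSh (EtDesc.ofOpen U) ⟶ EtDesc.repSh (EtDesc.ofOpen V)) ↔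
        Nonempty (shU U ⟶ shU V) :=
      ⟨fun ⟨φ⟩ => ⟨(repIso U).hom ≫ φ ≫ (repIso V).inv⟩,
       fun ⟨φ⟩ => ⟨(repIso U).inv ≫ φ ≫ (repIso V).hom⟩⟩
    rw [h1]
    constructor
    · intro h
      have h2 : Set.range (EtDesc.ofOpen U).hom ⊆ (V : Set X) := by
        rintro _ ⟨x, rfl⟩
        exact h x.2
      obtain ⟨a⟩ := (nonempty_hom_open_iff V (EtDesc.ofOpen U)).2 h2
      exact ⟨⟨Functor.whiskerRight (yoneda.map a) uliftFunctor.{u + 1, u}⟩⟩
    · rintro ⟨φ⟩ x hx
      have h2 : Nonempty ((openPsh.{u, u + 1} V).obj (op (EtDesc.ofOpen U))) :=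
        ⟨φ.hom.app (op (EtDesc.ofOpen U)) ⟨𝟙 _⟩⟩
      rw [nonempty_openPsh_iff] at h2
      exact h2 ⟨⟨x, hx⟩, rfl⟩
  · intro F hF
    have hsub := subsingleton_of_mono F hF
    obtain ⟨e⟩ := nonempty_iso_openPsh.{u, u + 1} X F hsub
    refine ⟨supp F.obj, ⟨?_ ≪≫ repIso _⟩⟩
    exact (fullyFaithfulSheafToPresheaf _ _).preimageIso e

end Groth.Agent.S3896
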