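import Groth.Statements.S3897
import Groth.Agent.Lib.Helper43.EtOpenSub
import Groth.Agent.S3896

set_option autoImplicit false
open CategoryTheory CategoryTheory.Limits AlgebraicGeometry Opposite
universe u
open EtDesc

namespace Groth.Agent.S3897

open Groth.Agent.Lib.Helper43.EtOpenSub

section
variable {X : Scheme.{u}} (U : X.Opens)

/-- extension by composition with `j : U → X`. -/
noncomputable def ext : (U : Scheme.{u}).Etale ⥤ X.Etale :=
  MorphismProperty.Over.map ⊤ (inferInstance : Etale U.ι)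

noncomputable def adj : ext U ⊣ EtCoh.bc U.ι :=
  MorphismProperty.Over.mapPullbackAdj EtCoh.etaleMP ⊤ U.ι (inferInstance : Etale U.ι) trivial

lemma ext_obj_hom (V : (U : Scheme.{u}).Etale) : ((ext U).obj V).hom = V.hom ≫ U.ι := rfl

lemma ext_map_left {V V' : (U : Scheme.{u}).Etale} (g : V ⟶ V') : ((ext U).map g).left = g.left := rfl

instance : (ext U).Faithful where
  map_injective := by
    intro V V' g g' h
    apply MorphismProperty.Over.Hom.ext
    exact congrArg (fun t => t.left) h

instance : (ext U).Full where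
  map_surjective := by
    intro V V' h
    have h1 : h.left ≫ V'.hom = V.hom := by
      rw [← cancel_mono U.ι, Category.assoc]
      exact hom_left_eq h
    refine ⟨MorphismProperty.Over.homMk h.left h1, ?_⟩
    apply MorphismProperty.Over.Hom.ext
    rfl

lemma range_subset_of_hom {W : X.Etale} {V : (U : Scheme.{u}).Etale} (t : W ⟶ (ext U).obj V) :
    Set.range W.hom ⊆ (U : Set X) := by
  rintro _ ⟨w, rfl⟩
  have h1 : W.hom w = ((ext U).obj V).hom (t.left w) := (hom_apply t w).symm
  rw [h1, ext_obj_hom]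
  exact (V.hom (t.left w)).2

lemma range_ext_subset (V : (U : Scheme.{u}).Etale) :
    Set.range ((ext U).obj V).hom ⊆ (U : Set X) :=
  range_subset_of_hom U (𝟙 _)

lemma lift_aux (W : X.Etale) (h : Set.range W.hom ⊆ (U : Set X)) :
    Set.range W.hom ⊆ Set.range U.ι := by
  rw [Scheme.Opens.range_ι]; exact h

lemma etale_lift (W : X.Etale) (h : Set.range W.hom ⊆ (U : Set X)) :
    Etale (IsOpenImmersion.lift U.ι W.hom (lift_aux U W h)) := by
  have : Etale (IsOpenImmersion.lift U.ι W.hom (lift_aux U W h) ≫ U.ι) := by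
    rw [IsOpenImmersion.lift_fac]; infer_instance
  exact Etale.of_comp _ U.ι

/-- an étale `X`-scheme landing in `U`, as an étale `U`-scheme. -/
noncomputable def lower (W : X.Etale) (h : Set.range W.hom ⊆ (U : Set X)) :
    (U : Scheme.{u}).Etale :=
  MorphismProperty.Over.mk _ (IsOpenImmersion.lift U.ι W.hom (lift_aux U W h)) (etale_lift U W h)

lemma lower_hom (W : X.Etale) (h : Set.range W.hom ⊆ (U : Set X)) :
    (lower U W h).hom ≫ U.ι = W.hom := IsOpenImmersion.lift_fac _ _ _

noncomputable def lowerIso (W : X.Etale) (h : Set.range W.hom ⊆ (U : Set X)) :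
    (ext U).obj (lower U W h) ≅ W :=
  MorphismProperty.Over.isoMk (Iso.refl W.left) (by
    rw [ext_obj_hom, lower_hom]
    exact Category.id_comp _)

lemma coverPreserving_ext :
    CoverPreserving (U : Scheme.{u}).smallEtaleTopology X.smallEtaleTopology (ext U) := by
  constructor
  intro V S hS
  rw [mem_smallEtaleTopology_iff'] at hS ⊢
  intro x
  obtain ⟨V', g, y, hg, hy⟩ := hS x
  exact ⟨(ext U).obj V', (ext U).map g, y, Sieve.image_mem_functorPushforward _ _ hg, hy⟩

instance isContinuous_ext :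
    (ext U).IsContinuous (U : Scheme.{u}).smallEtaleTopology X.smallEtaleTopology :=
  Functor.isContinuous_of_coverPreserving
    (compatiblePreservingOfDownwardsClosed _ (ext U)
      (fun {c d} t => ⟨lower U d (range_subset_of_hom U t), lowerIso U d (range_subset_of_hom U t)⟩))
    (coverPreserving_ext U)

/-- restriction of sheaves along `ext`. -/
noncomputable abbrev rho : EtDesc.Sh X ⥤ EtDesc.Sh (U : Scheme.{u}) :=
  (ext U).sheafPushforwardContinuous (Type (u + 1)) (U : Scheme.{u}).smallEtaleTopology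
    X.smallEtaleTopology

noncomputable def adjRho : rho U ⊣ EtDesc.pushSh U.ι :=
  (adj U).sheafPushforwardContinuous _ _

noncomputable def pullIso : EtDesc.pullSh U.ι ≅ rho U :=
  Adjunction.leftAdjointUniq (EtDesc.adjSh U.ι) (adjRho U)

/-- naturality of a morphism of restricted sheaves w.r.t. all morphisms between extended objects -/
lemma psi_nat {A B : EtDesc.Sh X} (ψ : (rho U).obj A ⟶ (rho U).obj B)
    {W' W'' : (U : Scheme.{u}).Etale} (m : (ext U).obj W'' ⟶ (ext U).obj W')
    (s : A.obj.obj (op ((ext U).obj W'))) :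
    ψ.hom.app (op W'') (A.obj.map m.op s) = B.obj.map m.op (ψ.hom.app (op W') s) := by
  obtain ⟨k, rfl⟩ := (ext U).map_surjective m
  exact ConcreteCategory.congr_hom (ψ.hom.naturality k.op) s

lemma map_app' {Y : Scheme.{u}} {A B : EtDesc.Sh Y} (φ : A ⟶ B) {V W : Y.Etaleᵒᵖ} (f : V ⟶ W)
    (a : A.obj.obj V) : φ.hom.app W (A.obj.map f a) = B.obj.map f (φ.hom.app V a) :=
  ConcreteCategory.congr_hom (φ.hom.naturality f) a

lemma map_iso_cancel {Y : Scheme.{u}} (A : EtDesc.Sh Y) {Z W : Y.Etale} (i : Z ≅ W)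
    (s : A.obj.obj (op W)) : A.obj.map i.inv.op (A.obj.map i.hom.op s) = s := by
  have h1 : i.hom.op ≫ i.inv.op = 𝟙 (op W) := by
    rw [← op_comp, i.inv_hom_id]; rfl
  have h2 := ConcreteCategory.congr_hom (A.obj.map_comp i.hom.op i.inv.op) s
  rw [h1] at h2
  have h3 := ConcreteCategory.congr_hom (A.obj.map_id (op W)) s
  exact h2.symm.trans h3

variable (T : EtDesc.Sh X)
  (hT2 : ∀ W : X.Etale, Nonempty (T.obj.obj (op W)) → Set.range W.hom ⊆ (U : Set X))

include hT2 in
lemma faithful_psi : (Over.forget T ⋙ rho U).Faithful := by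
  constructor
  intro A B φ φ' h
  apply Over.OverMorphism.ext
  apply Sheaf.hom_ext
  ext W s
  have hW := hT2 W.unop ⟨A.hom.hom.app W s⟩
  let i := lowerIso U W.unop hW
  have h1 : ∀ s' : A.left.obj.obj (op ((ext U).obj (lower U W.unop hW))),
      φ.left.hom.app (op ((ext U).obj (lower U W.unop hW))) s' =
      φ'.left.hom.app (op ((ext U).obj (lower U W.unop hW))) s' := by
    intro s'
    have := congrArg (fun (t : (rho U).obj A.left ⟶ (rho U).obj B.left) =>
      t.hom.app (op (lower U W.unop hW)) s') h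
    exact this
  have h2 := map_iso_cancel A.left i s
  change φ.left.hom.app (op W.unop) s = φ'.left.hom.app (op W.unop) s
  have h3 := map_app' φ.left i.inv.op (A.left.obj.map i.hom.op s)
  have h4 := map_app' φ'.left i.inv.op (A.left.obj.map i.hom.op s)
  rw [h2] at h3 h4
  rw [h3, h4, h1]

lemma map_map' {Y : Scheme.{u}} (A : EtDesc.Sh Y) {W Z V : Y.Etale} (f : W ⟶ Z) (g : Z ⟶ V)
    (s : A.obj.obj (op V)) : A.obj.map f.op (A.obj.map g.op s) = A.obj.map (f ≫ g).op s := by
  have h2 := ConcreteCategory.congr_hom (A.obj.map_comp g.op f.op) s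
  rw [← op_comp] at h2
  exact h2.symm

/-- the candidate extension of `ψ` on sections over `W` landing in `U` -/
noncomputable def fW {A B : EtDesc.Sh X} (ψ : (rho U).obj A ⟶ (rho U).obj B) (W : X.Etale)
    (h : Set.range W.hom ⊆ (U : Set X)) (s : A.obj.obj (op W)) : B.obj.obj (op W) :=
  B.obj.map (lowerIso U W h).inv.op
    (ψ.hom.app (op (lower U W h)) (A.obj.map (lowerIso U W h).hom.op s))

lemma fW_nat {A B : EtDesc.Sh X} (ψ : (rho U).obj A ⟶ (rho U).obj B) {W₁ W₂ : X.Etale}
    (g : W₁ ⟶ W₂) (h₁ : Set.range W₁.hom ⊆ (U : Set X)) (h₂ : Set.range W₂.hom ⊆ (U : Set X))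
    (s : A.obj.obj (op W₂)) :
    fW U ψ W₁ h₁ (A.obj.map g.op s) = B.obj.map g.op (fW U ψ W₂ h₂ s) := by
  let i₁ := lowerIso U W₁ h₁
  let i₂ := lowerIso U W₂ h₂
  let m : (ext U).obj (lower U W₁ h₁) ⟶ (ext U).obj (lower U W₂ h₂) := i₁.hom ≫ g ≫ i₂.inv
  have e1 : m ≫ i₂.hom = i₁.hom ≫ g := by
    simp only [m, Category.assoc, Iso.inv_hom_id, Category.comp_id]
  have e2 : i₁.inv ≫ m = g ≫ i₂.inv := by
    simp only [m, Iso.inv_hom_id_assoc]
  have s1 : A.obj.map i₁.hom.op (A.obj.map g.op s) = A.obj.map m.op (A.obj.map i₂.hom.op s) := by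
    rw [map_map', map_map', e1]
  change B.obj.map i₁.inv.op (ψ.hom.app (op (lower U W₁ h₁)) (A.obj.map i₁.hom.op (A.obj.map g.op s)))
    = B.obj.map g.op (B.obj.map i₂.inv.op (ψ.hom.app (op (lower U W₂ h₂)) (A.obj.map i₂.hom.op s)))
  rw [s1, psi_nat, map_map', map_map', e2]

lemma fW_ext {A B : EtDesc.Sh X} (ψ : (rho U).obj A ⟶ (rho U).obj B)
    (W' : (U : Scheme.{u}).Etale) (h : Set.range ((ext U).obj W').hom ⊆ (U : Set X))
    (s : A.obj.obj (op ((ext U).obj W'))) :
    fW U ψ ((ext U).obj W') h s = ψ.hom.app (op W') s := by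
  let i := lowerIso U ((ext U).obj W') h
  change B.obj.map i.inv.op (ψ.hom.app (op (lower U ((ext U).obj W') h)) (A.obj.map i.hom.op s)) = _
  rw [psi_nat, map_map', i.inv_hom_id]
  exact ConcreteCategory.congr_hom (B.obj.map_id _) _

variable (hT1 : ∀ W : X.Etale, Subsingleton (T.obj.obj (op W)))

include hT1 hT2 in
lemma full_psi : (Over.forget T ⋙ rho U).Full := by
  constructor
  intro A B ψ
  have hA : ∀ (W : X.Etaleᵒᵖ) (s : A.left.obj.obj W), Set.range W.unop.hom ⊆ (U : Set X) :=
    fun W s => hT2 W.unop ⟨A.hom.hom.app W s⟩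
  let φ : A.left ⟶ B.left :=
    ⟨{ app := fun W => TypeCat.ofHom (fun s : A.left.obj.obj W => fW U ψ W.unop (hA W s) s)
       naturality := by
        intro W₂ W₁ g
        ext s
        exact fW_nat U ψ g.unop (hA W₁ (A.left.obj.map g s)) (hA W₂ s) s }⟩
  have hφ : φ ≫ B.hom = A.hom := by
    apply Sheaf.hom_ext
    ext W s
    exact (hT1 W.unop).elim _ _
  refine ⟨Over.homMk φ hφ, ?_⟩
  apply Sheaf.hom_ext
  ext W' s
  exact fW_ext U ψ W'.unop _ s

/-- sections of `j_* G` over étale `X`-schemes landing in `U` -/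
noncomputable def sub (G : EtDesc.Sh (U : Scheme.{u})) :
    Subfunctor ((EtDesc.pushSh U.ι).obj G).obj where
  obj W := {_s | Set.range W.unop.hom ⊆ (U : Set X)}
  map := by
    intro W W' g s hs
    change Set.range W'.unop.hom ⊆ (U : Set X)
    have hs' : Set.range W.unop.hom ⊆ (U : Set X) := hs
    rintro _ ⟨w, rfl⟩
    rw [← hom_apply g.unop w]
    exact hs' ⟨_, rfl⟩

/-- extension by the empty set -/
noncomputable def shriek (G : EtDesc.Sh (U : Scheme.{u})) : EtDesc.Sh X :=
  ⟨(sub U G).toFunctor, (isSheaf_iff_isSheaf_of_type _ _).2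
    ((Subfunctor.isSheaf_iff (sub U G)
      ((isSheaf_iff_isSheaf_of_type _ _).1 ((EtDesc.pushSh U.ι).obj G).property)).2 (by
      intro W s hs
      change Set.range W.unop.hom ⊆ (U : Set X)
      rw [mem_smallEtaleTopology_iff'] at hs
      rintro _ ⟨w, rfl⟩
      obtain ⟨W', g, y, hg, hy⟩ := hs w
      have hg' : Set.range W'.hom ⊆ (U : Set X) := hg
      rw [← hy, hom_apply g y]
      exact hg' ⟨_, rfl⟩))⟩

lemma shriek_range (G : EtDesc.Sh (U : Scheme.{u})) (W : X.Etaleᵒᵖ) (s : (shriek U G).obj.obj W) :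
    Set.range W.unop.hom ⊆ (U : Set X) := s.2

instance isIso_unit (W' : (U : Scheme.{u}).Etale) : IsIso ((adj U).unit.app W') := inferInstance

/-- the restriction of the extension by empty is the original sheaf -/
noncomputable def rhoShriekIso (G : EtDesc.Sh (U : Scheme.{u})) : (rho U).obj (shriek U G) ≅ G :=
  (fullyFaithfulSheafToPresheaf _ _).preimageIso
    (NatIso.ofComponents (fun W' => Equiv.toIso
      { toFun := fun s => G.obj.map ((adj U).unit.app W'.unop).op s.1
        invFun := fun t => ⟨G.obj.map (inv ((adj U).unit.app W'.unop)).op t,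
          range_ext_subset U W'.unop⟩
        left_inv := by
          intro s
          apply Subtype.ext
          change G.obj.map (inv ((adj U).unit.app W'.unop)).op
            (G.obj.map ((adj U).unit.app W'.unop).op s.1) = s.1
          rw [map_map', IsIso.inv_hom_id]
          exact ConcreteCategory.congr_hom (G.obj.map_id _) _
        right_inv := by
          intro t
          change G.obj.map ((adj U).unit.app W'.unop).op
            (G.obj.map (inv ((adj U).unit.app W'.unop)).op t) = t
          rw [map_map', IsIso.hom_inv_id]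
          exact ConcreteCategory.congr_hom (G.obj.map_id _) _ })
      (by
        intro W₂ W₁ k
        ext s
        change G.obj.map ((adj U).unit.app W₁.unop).op
            (G.obj.map ((EtCoh.bc U.ι).map ((ext U).map k.unop)).op s.1) =
          G.obj.map k.unop.op (G.obj.map ((adj U).unit.app W₂.unop).op s.1)
        rw [map_map', map_map']
        have := (adj U).unit.naturality k.unop
        exact congrArg (fun t => G.obj.map (Quiver.Hom.op t) s.1) this.symm))

variable (hT3 : ∀ W : X.Etale, Set.range W.hom ⊆ (U : Set X) → Nonempty (T.obj.obj (op W)))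

include hT1 hT3 in
lemma essSurj_psi : (Over.forget T ⋙ rho U).EssSurj := by
  constructor
  intro G
  let a : shriek U G ⟶ T :=
    ⟨{ app := fun W => TypeCat.ofHom
          (fun s : (shriek U G).obj.obj W => (hT3 W.unop (shriek_range U G W s)).some)
       naturality := by
        intro W W' g
        ext s
        exact (hT1 W'.unop).elim _ _ }⟩
  exact ⟨Over.mk a, ⟨rhoShriekIso U G⟩⟩

end


/-- Let U be a Zariski open of the scheme X, with open immersion j : U -> X and attached subterminal
etale sheaf of sets U~ on X. Then the functor from sheaves of sets on X over U~ to sheaves of sets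
on U, (F -> U~) ↦ j^* F, is an equivalence of categories. -/
theorem result (X : Scheme.{u}) (U : X.Opens) :
    (Over.forget (EtDesc.repSh (EtDesc.ofOpen U)) ⋙ EtDesc.pullSh U.ι).IsEquivalence := by
  have hT1 : ∀ W : X.Etale, Subsingleton ((EtDesc.repSh (EtDesc.ofOpen U)).obj.obj (op W)) :=
    Groth.Agent.S3896.subsingleton_of_iso (Groth.Agent.S3896.repIso U)
      (fun V => subsingleton_openPsh U V)
  have hT2 : ∀ W : X.Etale, Nonempty ((EtDesc.repSh (EtDesc.ofOpen U)).obj.obj (op W)) ↔
      Set.range W.hom ⊆ (U : Set X) := by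
    intro W
    rw [← nonempty_openPsh_iff.{u, u + 1} U W]
    exact ⟨fun ⟨x⟩ => ⟨(Groth.Agent.S3896.repIso U).inv.hom.app (op W) x⟩,
      fun ⟨x⟩ => ⟨(Groth.Agent.S3896.repIso U).hom.hom.app (op W) x⟩⟩
  have h1 := faithful_psi U (EtDesc.repSh (EtDesc.ofOpen U)) (fun W => (hT2 W).1)
  have h2 := full_psi U (EtDesc.repSh (EtDesc.ofOpen U)) (fun W => (hT2 W).1) hT1
  have h3 := essSurj_psi U (EtDesc.repSh (EtDesc.ofOpen U)) hT1 (fun W => (hT2 W).2)
  have h4 : (Over.forget (EtDesc.repSh (EtDesc.ofOpen U)) ⋙ rho U).IsEquivalence :=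
    { faithful := h1, full := h2, essSurj := h3 }
  exact Functor.isEquivalence_of_iso
    (Functor.isoWhiskerLeft (Over.forget (EtDesc.repSh (EtDesc.ofOpen U))) (pullIso U).symm)

end Groth.Agent.S3897
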