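import Groth.Statements.S3898
import Groth.Agent.Lib.Helper74.CohColim.HKColim

set_option autoImplicit false
open CategoryTheory CategoryTheory.Limits Opposite
universe u
open ToposFin

namespace Groth.Agent.S3898.Aux

open Groth.Agent.Lib.Helper74.CohColim Groth.Agent.Lib.Helper5.CechNerve

variable {C : Type u} [SmallCategory C] {J : GrothendieckTopology C}

/-- (as in `Groth.Agent.Lib.Helper83.FlasqueZ`) -/
lemma freeAbelianGroup_map_injective {α β : Type u} (f : α → β) (hf : Function.Injective f) :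
    Function.Injective (FreeAbelianGroup.map f) := by
  rcases isEmpty_or_nonempty α with hα | hα
  · have : Subsingleton (FreeAbelianGroup α) := by
      constructor
      have h0 : ∀ x : FreeAbelianGroup α, x = 0 := by
        intro x
        induction x using FreeAbelianGroup.induction_on with
        | zero => rfl
        | of x => exact (hα.false x).elim
        | neg x hx => rw [hx, neg_zero]
        | add x y hx hy => rw [hx, hy, add_zero]
      intro a b
      rw [h0 a, h0 b]
    exact Function.injective_of_subsingleton _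
  · obtain ⟨g, hg⟩ := hf.hasLeftInverse
    apply Function.LeftInverse.injective (g := FreeAbelianGroup.map g)
    intro x
    rw [← FreeAbelianGroup.map_comp_apply]
    have : g ∘ f = id := funext hg
    rw [this, FreeAbelianGroup.map_id_apply]

lemma mono_whiskerRight_free {P Q : Cᵒᵖ ⥤ Type u} (φ : P ⟶ Q) [Mono φ] :
    Mono (Functor.whiskerRight φ AddCommGrpCat.free.{u}) := by
  have : ∀ X, Mono ((Functor.whiskerRight φ AddCommGrpCat.free.{u}).app X) := by
    intro X
    rw [AddCommGrpCat.mono_iff_injective]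
    exact freeAbelianGroup_map_injective _ ((mono_iff_injective (φ.app X)).1 inferInstance)
  exact NatTrans.mono_of_mono_app _

lemma mono_freeAb_map {K L : Sheaf J (Type u)} (i : K ⟶ L) [Mono i] :
    Mono ((ToposFin.freeAb J).map i) := by
  have h1 : Mono ((sheafToPresheaf J (Type u)).map i) := inferInstance
  have h2 := mono_whiskerRight_free ((sheafToPresheaf J (Type u)).map i)
  exact inferInstanceAs (Mono ((presheafToSheaf J AddCommGrpCat.{u}).map
    (Functor.whiskerRight ((sheafToPresheaf J (Type u)).map i) AddCommGrpCat.free.{u})))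

section

variable (hE : ToposFin.IsAlgebraic J) (hT : ToposFin.IsCoherent (⊤_ (ToposFin.Sh J)))
  (U : ToposFin.Sh J) [Mono (terminal.from U)] (hU : ToposFin.IsCoherent U)
  {Λ : Type u} [SmallCategory Λ] [IsFiltered Λ]

/-- `ℤ_U ⟶ ℤ` -/
noncomputable abbrev mU : (ToposFin.freeAb J).obj U ⟶ (ToposFin.freeAb J).obj (⊤_ (ToposFin.Sh J)) :=
  (ToposFin.freeAb J).map (terminal.from U)

/-- `ℤ ⟶ ℤ/ℤ_U` -/
noncomputable abbrev pU : (ToposFin.freeAb J).obj (⊤_ (ToposFin.Sh J)) ⟶ ToposFin.quotZ U :=
  cokernel.π (mU U)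

/-- the short exact sequence `0 ⟶ ℤ_U ⟶ ℤ ⟶ ℤ/ℤ_U ⟶ 0` -/
noncomputable def sesU : ShortComplex (Sheaf J AddCommGrpCat.{u}) :=
  ShortComplex.mk (mU U) (pU U) (cokernel.condition _)

lemma sesU_shortExact : (sesU U).ShortExact :=
  { exact := ShortComplex.exact_of_g_is_cokernel _ (cokernelIsCokernel _)
    mono_f := mono_freeAb_map (terminal.from U)
    epi_g := inferInstanceAs (Epi (cokernel.π (mU U))) }

include hE hT hU in
lemma H0s (D : Λ ⥤ Sheaf J AddCommGrpCat.{u}) (φ : ToposFin.quotZ U ⟶ colimit D) :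
    ∃ (i : Λ) (t : ToposFin.quotZ U ⟶ D.obj i), t ≫ colimit.ι D i = φ := by
  obtain ⟨i, t, ht⟩ := H0s_of_isCoherent hE hT D (pU U ≫ φ)
  have h0 : (mU U ≫ t) ≫ colimit.ι D i = 0 ≫ colimit.ι D i := by
    rw [Category.assoc, ht, ← Category.assoc, cokernel.condition, zero_comp, zero_comp]
  obtain ⟨j, g, hg⟩ := H0i_of_isQC hU.1 D i (mU U ≫ t) 0 h0
  have h1 : mU U ≫ (t ≫ D.map g) = 0 := by
    rw [← Category.assoc, hg, zero_comp]
  refine ⟨j, cokernel.desc (mU U) (t ≫ D.map g) h1, ?_⟩
  rw [← cancel_epi (pU U), ← Category.assoc, cokernel.π_desc, Category.assoc, colimit.w, ht]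

include hT in
lemma H0i (D : Λ ⥤ Sheaf J AddCommGrpCat.{u}) (i : Λ) (f₁ f₂ : ToposFin.quotZ U ⟶ D.obj i)
    (h : f₁ ≫ colimit.ι D i = f₂ ≫ colimit.ι D i) :
    ∃ (j : Λ) (g : i ⟶ j), f₁ ≫ D.map g = f₂ ≫ D.map g := by
  obtain ⟨j, g, hg⟩ := H0i_of_isQC hT.1 D i (pU U ≫ f₁) (pU U ≫ f₂) (by
    rw [Category.assoc, Category.assoc, h])
  refine ⟨j, g, ?_⟩
  rw [← cancel_epi (pU U), ← Category.assoc, hg, Category.assoc]

open Abelian in
include hE hT hU in
lemma HA (D : Λ ⥤ Sheaf J AddCommGrpCat.{u}) (hD : ∀ i, Injective (D.obj i)) (q : ℕ) :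
    Subsingleton (Ext.{u} (ToposFin.quotZ U) (colimit D) (q + 1)) := by
  have hS := sesU_shortExact U
  have hsubT : Subsingleton (Ext.{u} (sesU U).X₂ (colimit D) (q + 1)) :=
    HA_of_isCoherent hE hT D hD q
  refine subsingleton_of_forall_eq 0 (fun x => ?_)
  obtain ⟨x₁, hx₁⟩ := Ext.contravariant_sequence_exact₃ hS (colimit D)
    (show Ext.{u} (sesU U).X₃ (colimit D) (q + 1) from x) (Subsingleton.elim _ _)
    (n₀ := q) (by omega)
  rw [← hx₁]
  cases q with
  | zero =>
    obtain ⟨ψ, rfl⟩ := (Ext.mk₀_bijective _ _).2 x₁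
    obtain ⟨i, ψi, hψi⟩ : ∃ (i : Λ) (ψi : (ToposFin.freeAb J).obj U ⟶ D.obj i),
        ψi ≫ colimit.ι D i = ψ := H0s_of_isCoherent hE hU D ψ
    have := hD i
    have hmono : Mono (mU U) := mono_freeAb_map (terminal.from U)
    obtain ⟨χ, hfac⟩ : ∃ χ : (ToposFin.freeAb J).obj (⊤_ (ToposFin.Sh J)) ⟶ D.obj i,
        mU U ≫ χ = ψi := ⟨Injective.factorThru ψi (mU U), Injective.comp_factorThru ψi (mU U)⟩
    have h2 : ψ = mU U ≫ (χ ≫ colimit.ι D i) := by
      rw [← Category.assoc, hfac]
      exact hψi.symm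
    have h3 : Ext.mk₀ ψ = (Ext.mk₀ (sesU U).f).comp
        (Ext.mk₀ (show (sesU U).X₂ ⟶ colimit D from χ ≫ colimit.ι D i)) (zero_add 0) := by
      rw [Ext.mk₀_comp_mk₀]
      exact congrArg Ext.mk₀ h2
    rw [h3]
    exact ShortComplex.ShortExact.extClass_comp_assoc hS _
  | succ q =>
    have hsubU : Subsingleton (Ext.{u} (sesU U).X₁ (colimit D) (q + 1)) :=
      HA_of_isCoherent hE hU D hD q
    rw [Subsingleton.elim x₁ 0, Ext.comp_zero]
    rfl

end

end Groth.Agent.S3898.Aux

namespace Groth.Agent.S3898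

/-- For a single coherent open (topos of sheaves on a small site): let E be a coherent topos (algebraic
with coherent final object) and U a coherent subobject of the final object, with closed complement
Z. Then for every q the functor F ↦ H^q_Z(E, F) (Ext groups out of Z/Z_U) preserves colimits indexed
by any small filtered category. The source states this for the family of supports attached to a
decreasing filtered family of such U, which is the filtered colimit of these cases. -/
theorem result {C : Type u} [SmallCategory C]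
    {J : GrothendieckTopology C} (hE : ToposFin.IsAlgebraic J) (hT : ToposFin.IsCoherent (⊤_ (ToposFin.Sh J)))
    (U : ToposFin.Sh J) [Mono (terminal.from U)] (hU : ToposFin.IsCoherent U)
    (Λ : Type u) [SmallCategory Λ] [IsFiltered Λ] (q : ℕ) :
    PreservesColimitsOfShape Λ (ToposFin.HZFunctor U q) := by
  constructor
  intro D
  exact Groth.Agent.Lib.Helper74.CohColim.ExtColim.preservesColimit_extFunctor _ q D
    (Groth.Agent.Lib.Helper74.CohColim.ExtColim.surjE_injE _ (Aux.H0s hE hT U hU)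
      (Aux.H0i hT U) (Aux.HA hE hT U hU) q D)

end Groth.Agent.S3898
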