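import Mathlib
import Groth.Statements.S4024
import Groth.Agent.Lib.Helper96.TangentForms

set_option autoImplicit false
universe u
open CategoryTheory CategoryTheory.Limits AlgebraicGeometry
open LefPen

namespace Groth.Agent.S4024

open Helper96.TangentForms MvPolynomial

section

variable (k : Type u) [Field k] (r : ℕ)

/-- The refined tangency map: value at `v` and the differential at `v` restricted to `W`. -/
noncomputable def Dfun (W : Submodule k (Fin (r + 1) → k)) (v : Fin (r + 1) → k) :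
    MvPolynomial (Fin (r + 1)) k →ₗ[k] k × Module.Dual k W :=
  LinearMap.prod (aeval v).toLinearMap (W.dualRestrict ∘ₗ ddl v)

theorem Dfun_fst (W : Submodule k (Fin (r + 1) → k)) (v : Fin (r + 1) → k)
    (P : MvPolynomial (Fin (r + 1)) k) : (Dfun k r W v P).1 = aeval v P := rfl

theorem Dfun_snd (W : Submodule k (Fin (r + 1) → k)) (v : Fin (r + 1) → k)
    (P : MvPolynomial (Fin (r + 1)) k) (w : W) : (Dfun k r W v P).2 w = ddl v P w.1 := rfl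

theorem ker_tangLin (d : ℕ) (W : Submodule k (Fin (r + 1) → k)) (v : Fin (r + 1) → k) :
    LinearMap.ker (LefPen.tangLin k W v : LefPen.Form r k d →ₗ[k] _) =
      LinearMap.ker (Dfun k r W v ∘ₗ (CohB1.polyGrading r k d).subtype) := by
  ext G
  rw [LinearMap.mem_ker, LinearMap.mem_ker]
  have hfst : (LefPen.tangLin k W v G).1 = aeval v G.1 := rfl
  have hsnd : ∀ w : W, (LefPen.tangLin k W v G).2 w = ∑ i, w.1 i * aeval v (pderiv i G.1) := by
    intro w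
    change (LinearMap.pi fun w : ↥W => ∑ i : Fin (r + 1), (w.1 i) •
      ((aeval v).toLinearMap ∘ₗ (pderiv i).toLinearMap ∘ₗ
        (CohB1.polyGrading r k d).subtype)) G w = _
    rw [LinearMap.pi_apply, LinearMap.sum_apply]
    apply Finset.sum_congr rfl
    intro i _
    rfl
  have hcomp : (Dfun k r W v ∘ₗ (CohB1.polyGrading r k d).subtype) G = Dfun k r W v G.1 := rfl
  rw [hcomp]
  constructor
  · intro h
    refine Prod.ext ?_ ?_
    · change aeval v G.1 = 0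
      rw [← hfst, h]
      rfl
    · apply LinearMap.ext
      intro w
      change ddl v G.1 w.1 = 0
      rw [ddl_apply]
      have h3 := hsnd w
      rw [h] at h3
      change (0 : k) = _ at h3
      rw [h3]
      apply Finset.sum_congr rfl
      intro i _
      ring
  · intro h
    refine Prod.ext ?_ ?_
    · rw [hfst]
      change (Dfun k r W v G.1).1 = 0
      rw [h]
      rfl
    · funext w
      rw [hsnd w]
      have h3 : (Dfun k r W v G.1).2 w = 0 := by rw [h]; rfl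
      rw [Dfun_snd, ddl_apply] at h3
      change _ = (0 : k)
      rw [← h3]
      apply Finset.sum_congr rfl
      intro i _
      ring

variable {k r}

theorem val_G2 (v : Fin (r + 1) → k) (g h g' h' : Module.Dual k (Fin (r + 1) → k)) (e' : ℕ)
    (hg : g v = 1) (hg' : g' v = 0) :
    aeval v ((L g) ^ (e' + 1) * L h + (L g') ^ (e' + 1) * L h') = h v := by
  rw [map_add, aeval_G, aeval_G, hg, hg', one_pow, one_mul, zero_pow (Nat.succ_ne_zero _),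
    zero_mul, add_zero]

theorem ddl_G2 (v w : Fin (r + 1) → k) (g h g' h' : Module.Dual k (Fin (r + 1) → k)) (e' : ℕ)
    (hg : g v = 1) (hg' : g' v = 0) :
    ddl v ((L g) ^ (e' + 1) * L h + (L g') ^ (e' + 1) * L h') w =
      ((e' : k) + 1) * h v * g w + h w + ((e' : k) + 1) * 0 ^ e' * h' v * g' w := by
  rw [map_add, LinearMap.add_apply, ddl_G, ddl_G, hg, hg', one_pow, one_pow,
    zero_pow (Nat.succ_ne_zero _)]
  ring

/-- The construction lemma. -/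
theorem exists_form (e' : ℕ) (W₁ W₂ : Submodule k (Fin (r + 1) → k)) (v₁ v₂ : Fin (r + 1) → k)
    (h₁ : v₁ ∈ W₁) (h₂ : v₂ ∈ W₂)
    (α β lam mu : Module.Dual k (Fin (r + 1) → k))
    (hα₁ : α v₁ = 1) (hα₂ : α v₂ = 0) (hβ₁ : β v₁ = 0) (hβ₂ : β v₂ = 1)
    (c₁ c₂ : k) (ℓ₁ : Module.Dual k W₁) (ℓ₂ : Module.Dual k W₂)
    (hE₁ : ℓ₁ ⟨v₁, h₁⟩ = ((e' : k) + 2) * c₁) (hE₂ : ℓ₂ ⟨v₂, h₂⟩ = ((e' : k) + 2) * c₂)
    (hlam : ∀ w : W₁, lam w = ℓ₁ w - ((e' : k) + 1) * c₁ * α w -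
      ((e' : k) + 1) * 0 ^ e' * mu v₁ * β w)
    (hmu : ∀ w : W₂, mu w = ℓ₂ w - ((e' : k) + 1) * c₂ * β w -
      ((e' : k) + 1) * 0 ^ e' * lam v₂ * α w) :
    ∃ G : LefPen.Form r k (e' + 2),
      Dfun k r W₁ v₁ G.1 = (c₁, ℓ₁) ∧ Dfun k r W₂ v₂ G.1 = (c₂, ℓ₂) := by
  have hl1 : lam v₁ = c₁ := by
    have := hlam ⟨v₁, h₁⟩
    simp only [hE₁, hα₁, hβ₁] at this
    rw [this]; ring
  have hm2 : mu v₂ = c₂ := by
    have := hmu ⟨v₂, h₂⟩
    simp only [hE₂, hα₂, hβ₂] at this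
    rw [this]; ring
  have hhom : ((L α) ^ (e' + 1) * L lam + (L β) ^ (e' + 1) * L mu).IsHomogeneous (e' + 2) :=
    (isHomogeneous_G α lam (e' + 1)).add (isHomogeneous_G β mu (e' + 1))
  have hP' : (L α) ^ (e' + 1) * L lam + (L β) ^ (e' + 1) * L mu =
      (L β) ^ (e' + 1) * L mu + (L α) ^ (e' + 1) * L lam := add_comm _ _
  have a1 : aeval v₁ ((L α) ^ (e' + 1) * L lam + (L β) ^ (e' + 1) * L mu) = c₁ :=
    (val_G2 v₁ α lam β mu e' hα₁ hβ₁).trans hl1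
  have a2 : aeval v₂ ((L α) ^ (e' + 1) * L lam + (L β) ^ (e' + 1) * L mu) = c₂ := by
    rw [hP']
    exact (val_G2 v₂ β mu α lam e' hβ₂ hα₂).trans hm2
  have d1 : ∀ w : W₁, ddl v₁ ((L α) ^ (e' + 1) * L lam + (L β) ^ (e' + 1) * L mu) w.1 = ℓ₁ w := by
    intro w
    rw [ddl_G2 v₁ w.1 α lam β mu e' hα₁ hβ₁, hlam w, hl1]
    ring
  have d2 : ∀ w : W₂, ddl v₂ ((L α) ^ (e' + 1) * L lam + (L β) ^ (e' + 1) * L mu) w.1 = ℓ₂ w := by
    intro w
    rw [hP', ddl_G2 v₂ w.1 β mu α lam e' hβ₂ hα₂, hmu w, hm2]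
    ring
  exact ⟨⟨_, hhom⟩, Prod.ext a1 (LinearMap.ext d1), Prod.ext a2 (LinearMap.ext d2)⟩

end

section Main

variable {k : Type u} [Field k] {r : ℕ}
variable (W₁ W₂ : Submodule k (Fin (r + 1) → k)) (v₁ v₂ : Fin (r + 1) → k)

/-- The combined refined tangency map. -/
noncomputable def Tmap (d : ℕ) :
    LefPen.Form r k d →ₗ[k] (k × Module.Dual k W₁) × (k × Module.Dual k W₂) :=
  (Dfun k r W₁ v₁ ∘ₗ (CohB1.polyGrading r k d).subtype).prod
    (Dfun k r W₂ v₂ ∘ₗ (CohB1.polyGrading r k d).subtype)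

theorem Tmap_apply (d : ℕ) (G : LefPen.Form r k d) :
    Tmap W₁ W₂ v₁ v₂ d G = (Dfun k r W₁ v₁ G.1, Dfun k r W₂ v₂ G.1) := rfl

theorem tangentForms_eq (d : ℕ) :
    LefPen.tangentForms k d W₁ v₁ W₂ v₂ = LinearMap.ker (Tmap W₁ W₂ v₁ v₂ d) := by
  rw [LefPen.tangentForms, ker_tangLin, ker_tangLin, Tmap, LinearMap.ker_prod]

/-- The Euler functional. -/
noncomputable def phi (W : Submodule k (Fin (r + 1) → k)) (v : Fin (r + 1) → k) (hv : v ∈ W)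
    (d : ℕ) : k × Module.Dual k W →ₗ[k] k :=
  (LinearMap.applyₗ (⟨v, hv⟩ : W)) ∘ₗ LinearMap.snd k k (Module.Dual k W) -
    (d : k) • LinearMap.fst k k (Module.Dual k W)

theorem phi_apply (W : Submodule k (Fin (r + 1) → k)) (v : Fin (r + 1) → k) (hv : v ∈ W)
    (d : ℕ) (x : k × Module.Dual k W) : phi W v hv d x = x.2 ⟨v, hv⟩ - (d : k) * x.1 := rfl

theorem phi_Dfun (W : Submodule k (Fin (r + 1) → k)) (v : Fin (r + 1) → k) (hv : v ∈ W)
    (d : ℕ) (P : MvPolynomial (Fin (r + 1)) k) (hP : P.IsHomogeneous d) :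
    phi W v hv d (Dfun k r W v P) = 0 := by
  rw [phi_apply, Dfun_snd, Dfun_fst, ddl_euler v P d hP, sub_self]

/-- The symmetry functional (used for quadrics). -/
noncomputable def chi (hv₂ : v₂ ∈ W₁) (hv₁ : v₁ ∈ W₂) :
    (k × Module.Dual k W₁) × (k × Module.Dual k W₂) →ₗ[k] k :=
  (LinearMap.applyₗ (⟨v₂, hv₂⟩ : W₁)) ∘ₗ LinearMap.snd k k (Module.Dual k W₁) ∘ₗ
      LinearMap.fst k _ _ -
    (LinearMap.applyₗ (⟨v₁, hv₁⟩ : W₂)) ∘ₗ LinearMap.snd k k (Module.Dual k W₂) ∘ₗ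
      LinearMap.snd k _ _

theorem chi_apply (hv₂ : v₂ ∈ W₁) (hv₁ : v₁ ∈ W₂)
    (x : (k × Module.Dual k W₁) × (k × Module.Dual k W₂)) :
    chi W₁ W₂ v₁ v₂ hv₂ hv₁ x = x.1.2 ⟨v₂, hv₂⟩ - x.2.2 ⟨v₁, hv₁⟩ := rfl

theorem range_T_caseA (e' : ℕ) (h₁ : v₁ ∈ W₁) (h₂ : v₂ ∈ W₂)
    (hv : LinearIndependent k ![v₁, v₂]) (hA : 1 ≤ e' ∨ ¬ (v₂ ∈ W₁ ∧ v₁ ∈ W₂)) :
    LinearMap.range (Tmap W₁ W₂ v₁ v₂ (e' + 2)) =
      LinearMap.ker (LinearMap.prodMap (phi W₁ v₁ h₁ (e' + 2)) (phi W₂ v₂ h₂ (e' + 2))) := by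
  apply le_antisymm
  · rintro _ ⟨G, rfl⟩
    rw [LinearMap.mem_ker, Tmap_apply]
    exact Prod.ext (phi_Dfun W₁ v₁ h₁ _ G.1 G.2) (phi_Dfun W₂ v₂ h₂ _ G.1 G.2)
  · rintro ⟨⟨c₁, ℓ₁⟩, ⟨c₂, ℓ₂⟩⟩ hx
    rw [LinearMap.mem_ker] at hx
    have hE₁ : ℓ₁ ⟨v₁, h₁⟩ = ((e' : k) + 2) * c₁ := by
      have := congrArg Prod.fst hx
      simp only [LinearMap.prodMap_apply, phi_apply, Prod.fst_zero] at this
      rw [sub_eq_zero] at this
      rw [this]; push_cast; ring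
    have hE₂ : ℓ₂ ⟨v₂, h₂⟩ = ((e' : k) + 2) * c₂ := by
      have := congrArg Prod.snd hx
      simp only [LinearMap.prodMap_apply, phi_apply, Prod.snd_zero] at this
      rw [sub_eq_zero] at this
      rw [this]; push_cast; ring
    obtain ⟨α, β, hα₁, hα₂, hβ₁, hβ₂⟩ := exists_dual_pair v₁ v₂ hv
    have hex : ∃ lam mu : Module.Dual k (Fin (r + 1) → k),
        (∀ w : W₁, lam w = ℓ₁ w - ((e' : k) + 1) * c₁ * α w -
          ((e' : k) + 1) * 0 ^ e' * mu v₁ * β w) ∧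
        (∀ w : W₂, mu w = ℓ₂ w - ((e' : k) + 1) * c₂ * β w -
          ((e' : k) + 1) * 0 ^ e' * lam v₂ * α w) := by
      rcases Nat.eq_zero_or_pos e' with rfl | hpos
      · have hnot : ¬ (v₂ ∈ W₁ ∧ v₁ ∈ W₂) := by
          rcases hA with h | h
          · omega
          · exact h
        by_cases hv₂ : v₂ ∈ W₁
        · have hv₁ : v₁ ∉ W₂ := fun h => hnot ⟨hv₂, h⟩
          obtain ⟨lam, hl⟩ := exists_extend W₁ (ℓ₁ - c₁ • W₁.dualRestrict α)
          obtain ⟨mu, hm, hm0⟩ := exists_extend_zero W₂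
            (ℓ₂ - c₂ • W₂.dualRestrict β - lam v₂ • W₂.dualRestrict α) v₁ hv₁
          refine ⟨lam, mu, fun w => ?_, fun w => ?_⟩
          · rw [hl w, hm0]
            simp only [LinearMap.sub_apply, LinearMap.smul_apply, Submodule.dualRestrict_apply,
              smul_eq_mul]
            ring
          · rw [hm w]
            simp only [LinearMap.sub_apply, LinearMap.smul_apply, Submodule.dualRestrict_apply,
              smul_eq_mul]
            ring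
        · obtain ⟨mu, hm⟩ := exists_extend W₂ (ℓ₂ - c₂ • W₂.dualRestrict β)
          obtain ⟨lam, hl, hl0⟩ := exists_extend_zero W₁
            (ℓ₁ - c₁ • W₁.dualRestrict α - mu v₁ • W₁.dualRestrict β) v₂ hv₂
          refine ⟨lam, mu, fun w => ?_, fun w => ?_⟩
          · rw [hl w]
            simp only [LinearMap.sub_apply, LinearMap.smul_apply, Submodule.dualRestrict_apply,
              smul_eq_mul]
            ring
          · rw [hm w, hl0]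
            simp only [LinearMap.sub_apply, LinearMap.smul_apply, Submodule.dualRestrict_apply,
              smul_eq_mul]
            ring
      · have h0 : (0 : k) ^ e' = 0 := zero_pow (by omega)
        obtain ⟨lam, hl⟩ := exists_extend W₁ (ℓ₁ - (((e' : k) + 1) * c₁) • W₁.dualRestrict α)
        obtain ⟨mu, hm⟩ := exists_extend W₂ (ℓ₂ - (((e' : k) + 1) * c₂) • W₂.dualRestrict β)
        refine ⟨lam, mu, fun w => ?_, fun w => ?_⟩
        · rw [hl w, h0]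
          simp only [LinearMap.sub_apply, LinearMap.smul_apply, Submodule.dualRestrict_apply,
            smul_eq_mul]
          ring
        · rw [hm w, h0]
          simp only [LinearMap.sub_apply, LinearMap.smul_apply, Submodule.dualRestrict_apply,
            smul_eq_mul]
          ring
    obtain ⟨lam, mu, hlam, hmu⟩ := hex
    obtain ⟨G, hG₁, hG₂⟩ := exists_form e' W₁ W₂ v₁ v₂ h₁ h₂ α β lam mu hα₁ hα₂ hβ₁ hβ₂
      c₁ c₂ ℓ₁ ℓ₂ hE₁ hE₂ hlam hmu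
    exact ⟨G, by rw [Tmap_apply, hG₁, hG₂]⟩

theorem range_T_caseB (h₁ : v₁ ∈ W₁) (h₂ : v₂ ∈ W₂)
    (hv : LinearIndependent k ![v₁, v₂]) (hv₂ : v₂ ∈ W₁) (hv₁ : v₁ ∈ W₂) :
    LinearMap.range (Tmap W₁ W₂ v₁ v₂ 2) =
      LinearMap.ker ((LinearMap.prodMap (phi W₁ v₁ h₁ 2) (phi W₂ v₂ h₂ 2)).prod
        (chi W₁ W₂ v₁ v₂ hv₂ hv₁)) := by
  apply le_antisymm
  · rintro _ ⟨G, rfl⟩
    rw [LinearMap.mem_ker, Tmap_apply]
    refine Prod.ext (Prod.ext (phi_Dfun W₁ v₁ h₁ _ G.1 G.2) (phi_Dfun W₂ v₂ h₂ _ G.1 G.2)) ?_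
    change chi W₁ W₂ v₁ v₂ hv₂ hv₁ _ = 0
    rw [chi_apply, Dfun_snd, Dfun_snd, ddl_symm v₁ v₂ G.1 G.2, sub_self]
  · rintro ⟨⟨c₁, ℓ₁⟩, ⟨c₂, ℓ₂⟩⟩ hx
    rw [LinearMap.mem_ker] at hx
    have hx1 : (LinearMap.prodMap (phi W₁ v₁ h₁ 2) (phi W₂ v₂ h₂ 2)) ((c₁, ℓ₁), (c₂, ℓ₂)) = 0 :=
      congrArg Prod.fst hx
    have hx2 : chi W₁ W₂ v₁ v₂ hv₂ hv₁ ((c₁, ℓ₁), (c₂, ℓ₂)) = 0 := congrArg Prod.snd hx
    have hE₁ : ℓ₁ ⟨v₁, h₁⟩ = (((0 : ℕ) : k) + 2) * c₁ := by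
      have h3 : phi W₁ v₁ h₁ 2 (c₁, ℓ₁) = 0 := congrArg Prod.fst hx1
      rw [phi_apply, sub_eq_zero] at h3
      rw [h3]; push_cast; ring
    have hE₂ : ℓ₂ ⟨v₂, h₂⟩ = (((0 : ℕ) : k) + 2) * c₂ := by
      have h3 : phi W₂ v₂ h₂ 2 (c₂, ℓ₂) = 0 := congrArg Prod.snd hx1
      rw [phi_apply, sub_eq_zero] at h3
      rw [h3]; push_cast; ring
    rw [chi_apply, sub_eq_zero] at hx2
    simp only at hx2
    obtain ⟨α, β, hα₁, hα₂, hβ₁, hβ₂⟩ := exists_dual_pair v₁ v₂ hv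
    obtain ⟨lam, hl⟩ := exists_extend W₁ (ℓ₁ - c₁ • W₁.dualRestrict α)
    obtain ⟨mu, hm⟩ := exists_extend W₂
      (ℓ₂ - c₂ • W₂.dualRestrict β - (ℓ₁ ⟨v₂, hv₂⟩) • W₂.dualRestrict α)
    have hl2 : lam v₂ = ℓ₁ ⟨v₂, hv₂⟩ := by
      have := hl ⟨v₂, hv₂⟩
      simp only [LinearMap.sub_apply, LinearMap.smul_apply, Submodule.dualRestrict_apply,
        smul_eq_mul, hα₂, mul_zero, sub_zero] at this
      exact this
    have hm1 : mu v₁ = 0 := by
      have := hm ⟨v₁, hv₁⟩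
      simp only [LinearMap.sub_apply, LinearMap.smul_apply, Submodule.dualRestrict_apply,
        smul_eq_mul, hα₁, hβ₁, mul_zero, sub_zero, mul_one] at this
      rw [this, hx2, sub_self]
    obtain ⟨G, hG₁, hG₂⟩ := exists_form 0 W₁ W₂ v₁ v₂ h₁ h₂ α β lam mu hα₁ hα₂ hβ₁ hβ₂
      c₁ c₂ ℓ₁ ℓ₂ hE₁ hE₂
      (fun w => by
        rw [hl w, hm1]
        simp only [LinearMap.sub_apply, LinearMap.smul_apply, Submodule.dualRestrict_apply,
          smul_eq_mul]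
        ring)
      (fun w => by
        rw [hm w, hl2]
        simp only [LinearMap.sub_apply, LinearMap.smul_apply, Submodule.dualRestrict_apply,
          smul_eq_mul]
        ring)
    exact ⟨G, by rw [Tmap_apply, hG₁, hG₂]⟩

end Main

section Count

variable {k : Type u} [Field k] {r : ℕ}
variable (W₁ W₂ : Submodule k (Fin (r + 1) → k)) (v₁ v₂ : Fin (r + 1) → k)

theorem finrank_E :
    Module.finrank k ((k × Module.Dual k W₁) × (k × Module.Dual k W₂)) =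
      (1 + Module.finrank k W₁) + (1 + Module.finrank k W₂) := by
  rw [Module.finrank_prod, Module.finrank_prod, Module.finrank_prod, Module.finrank_self,
    Subspace.dual_finrank_eq, Subspace.dual_finrank_eq]

theorem surj_A (h₁ : v₁ ∈ W₁) (h₂ : v₂ ∈ W₂) (hv : LinearIndependent k ![v₁, v₂]) (d : ℕ) :
    Function.Surjective (LinearMap.prodMap (phi W₁ v₁ h₁ d) (phi W₂ v₂ h₂ d)) := by
  obtain ⟨α, β, hα₁, hα₂, hβ₁, hβ₂⟩ := exists_dual_pair v₁ v₂ hv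
  rintro ⟨t₁, t₂⟩
  refine ⟨((0, t₁ • W₁.dualRestrict α), (0, t₂ • W₂.dualRestrict β)), ?_⟩
  refine Prod.ext ?_ ?_
  · change phi W₁ v₁ h₁ d (0, t₁ • W₁.dualRestrict α) = t₁
    rw [phi_apply]
    simp [hα₁]
  · change phi W₂ v₂ h₂ d (0, t₂ • W₂.dualRestrict β) = t₂
    rw [phi_apply]
    simp [hβ₂]

theorem surj_B (h₁ : v₁ ∈ W₁) (h₂ : v₂ ∈ W₂) (hv : LinearIndependent k ![v₁, v₂])
    (hv₂ : v₂ ∈ W₁) (hv₁ : v₁ ∈ W₂) (d : ℕ) :
    Function.Surjective ((LinearMap.prodMap (phi W₁ v₁ h₁ d) (phi W₂ v₂ h₂ d)).prod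
      (chi W₁ W₂ v₁ v₂ hv₂ hv₁)) := by
  obtain ⟨α, β, hα₁, hα₂, hβ₁, hβ₂⟩ := exists_dual_pair v₁ v₂ hv
  rintro ⟨⟨t₁, t₂⟩, t₃⟩
  refine ⟨((0, t₁ • W₁.dualRestrict α + t₃ • W₁.dualRestrict β), (0, t₂ • W₂.dualRestrict β)), ?_⟩
  refine Prod.ext (Prod.ext ?_ ?_) ?_
  · change phi W₁ v₁ h₁ d (0, t₁ • W₁.dualRestrict α + t₃ • W₁.dualRestrict β) = t₁
    rw [phi_apply]
    simp [hα₁, hβ₁]
  · change phi W₂ v₂ h₂ d (0, t₂ • W₂.dualRestrict β) = t₂
    rw [phi_apply]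
    simp [hβ₂]
  · change chi W₁ W₂ v₁ v₂ hv₂ hv₁ _ = t₃
    rw [chi_apply]
    simp [hα₂, hβ₂, hβ₁]

end Count


/-- Let k be a field (the source works over an algebraically closed field; the count is the same over
any field), d ≥ 2, x₁ = [v₁] and x₂ = [v₂] two distinct points of projective r-space and P(W₁) ∋ x₁,
P(W₂) ∋ x₂ linear subspaces. In the space of degree-d forms, those whose hypersurface passes through
x₁ tangentially to P(W₁) and through x₂ tangentially to P(W₂) form a linear subspace of codimension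
dim P(W₁) + dim P(W₂) + 2 = dim W₁ + dim W₂ when d ≥ 3 or when the line x₁x₂ is not contained in
both P(W₁) and P(W₂), and of codimension dim W₁ + dim W₂ - 1 when d = 2 and the line x₁x₂ lies in
P(W₁) ∩ P(W₂). -/
theorem result (k : Type u) [Field k] (r d : ℕ) (hd : 2 ≤ d)
    (W₁ W₂ : Submodule k (Fin (r + 1) → k)) (v₁ v₂ : Fin (r + 1) → k) (h₁ : v₁ ∈ W₁) (h₂ : v₂ ∈ W₂)
    (hv : LinearIndependent k ![v₁, v₂]) :
    ((3 ≤ d ∨ ¬ (v₂ ∈ W₁ ∧ v₁ ∈ W₂)) →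
      Module.finrank k (LefPen.Form r k d) =
        Module.finrank k ↥(LefPen.tangentForms k d W₁ v₁ W₂ v₂) + (Module.finrank k ↥W₁ + Module.finrank k ↥W₂)) ∧
    ((d = 2 ∧ v₂ ∈ W₁ ∧ v₁ ∈ W₂) →
      Module.finrank k (LefPen.Form r k d) + 1 =
        Module.finrank k ↥(LefPen.tangentForms k d W₁ v₁ W₂ v₂) + (Module.finrank k ↥W₁ + Module.finrank k ↥W₂)) := by
  classical
  obtain ⟨e', rfl⟩ : ∃ e', d = e' + 2 := ⟨d - 2, by omega⟩
  have : Module.Finite k (LefPen.Form r k (e' + 2)) :=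
    Module.Finite.iff_fg.2 (MvPolynomial.homogeneousSubmodule_fg (Fin (r + 1)) k (e' + 2))
  have hrn := LinearMap.finrank_range_add_finrank_ker (Tmap W₁ W₂ v₁ v₂ (e' + 2))
  rw [← tangentForms_eq] at hrn
  constructor
  · intro hA
    have hA' : 1 ≤ e' ∨ ¬ (v₂ ∈ W₁ ∧ v₁ ∈ W₂) := by
      rcases hA with h | h
      · left; omega
      · right; exact h
    rw [range_T_caseA W₁ W₂ v₁ v₂ e' h₁ h₂ hv hA'] at hrn
    have h1 := LinearMap.finrank_range_add_finrank_ker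
      (LinearMap.prodMap (phi W₁ v₁ h₁ (e' + 2)) (phi W₂ v₂ h₂ (e' + 2)))
    rw [LinearMap.range_eq_top.2 (surj_A W₁ W₂ v₁ v₂ h₁ h₂ hv _), finrank_top, finrank_E,
      Module.finrank_prod, Module.finrank_self] at h1
    omega
  · rintro ⟨hd, hv₂, hv₁⟩
    have he : e' = 0 := by omega
    subst he
    rw [range_T_caseB W₁ W₂ v₁ v₂ h₁ h₂ hv hv₂ hv₁] at hrn
    have h1 := LinearMap.finrank_range_add_finrank_ker
      ((LinearMap.prodMap (phi W₁ v₁ h₁ 2) (phi W₂ v₂ h₂ 2)).prod (chi W₁ W₂ v₁ v₂ hv₂ hv₁))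
    rw [LinearMap.range_eq_top.2 (surj_B W₁ W₂ v₁ v₂ h₁ h₂ hv hv₂ hv₁ _), finrank_top, finrank_E,
      Module.finrank_prod, Module.finrank_prod, Module.finrank_self] at h1
    omega

end Groth.Agent.S4024
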