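import Groth.Statements.S4027
import Mathlib
import Groth.Agent.Lib.Helper41.HomogIrred

set_option autoImplicit false
universe u
open LefPen

namespace Groth.Agent.S4027

/-- Let k be an algebraically closed field, r ≥ 2, and F ∈ k[X_1, …, X_r] an irreducible polynomial with
F(0) ≠ 0 (in the source the origin is the base point of the lines considered and lies off the
hypersurface F = 0; without this the claim fails, e.g. for X_1 - X_2^2). Then the polynomial G(T) =
F(X_1 T, …, X_r T), with coefficients in the field of rational functions k(X_1, …, X_r), is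
irreducible. -/
theorem result (k : Type u) [Field k] [IsAlgClosed k] (r : ℕ) (hr : 2 ≤ r)
    (F : MvPolynomial (Fin r) k) (hF : Irreducible F) (hF0 : MvPolynomial.eval (fun _ => (0 : k)) F ≠ 0) :
    Irreducible ((MvPolynomial.eval₂ (Polynomial.C.comp MvPolynomial.C)
        (fun j => Polynomial.C (MvPolynomial.X j) * Polynomial.X) F).map
      (algebraMap (MvPolynomial (Fin r) k) (FractionRing (MvPolynomial (Fin r) k)))) := by
  classical
  have hG : MvPolynomial.eval₂ (Polynomial.C.comp MvPolynomial.C)
      (fun j => Polynomial.C (MvPolynomial.X j) * Polynomial.X) F =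
      Groth.Agent.Lib.Helper41.HomogFactor.scale F := rfl
  rw [hG]
  have hcoeff := Groth.Agent.Lib.Helper41.HomogFactor.coeff_scale F
  have hF0' : MvPolynomial.coeff 0 F ≠ 0 := by
    intro h
    apply hF0
    have : (fun _ : Fin r => (0 : k)) = 0 := rfl
    rw [this, MvPolynomial.eval_zero, MvPolynomial.constantCoeff_eq, h]
  have hirr := Groth.Agent.Lib.Helper41.HomogFactor.irreducible_of_coeff_eq_homogeneousComponent
    _ F hcoeff hF hF0'
  have hdeg : (Groth.Agent.Lib.Helper41.HomogFactor.scale F).natDegree ≠ 0 := by
    intro h0
    apply hF.not_isUnit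
    have hC := Polynomial.eq_C_of_natDegree_eq_zero h0
    rw [hcoeff, MvPolynomial.homogeneousComponent_zero] at hC
    have h1 : F = MvPolynomial.C (MvPolynomial.coeff 0 F) := by
      conv_lhs => rw [← MvPolynomial.sum_homogeneousComponent F]
      rw [Finset.sum_eq_single 0, MvPolynomial.homogeneousComponent_zero]
      · intro d _ hd
        rw [← hcoeff, hC, Polynomial.coeff_C, if_neg hd]
      · intro h
        exact absurd (Finset.mem_range.mpr (Nat.succ_pos _)) h
    rw [h1]
    exact (isUnit_iff_ne_zero.mpr hF0').map MvPolynomial.C
  exact ((hirr.isPrimitive hdeg).irreducible_iff_irreducible_map_fraction_map).mp hirr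

end Groth.Agent.S4027
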