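import Groth.Statements.S4064
import Groth.Agent.Lib.Helper6.Blend

set_option autoImplicit false
universe w v v'
open CategoryTheory CategoryTheory.Abelian
open SGA7

namespace Groth.Agent.S4064

/-- Let P -> F -> R and R -> E -> Q be short exact sequences in an abelian category (F an extension of R
by P, E an extension of Q by R). A blended extension of E by F is an object X with a monomorphism i
: F -> X and an epimorphism p : X -> E such that P -> X -> E (via i) and F -> X -> Q (via p) are
short exact and F -> X -> E is the composite F -> R -> E. Such an X exists if and only if the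
composite of the two extension classes, an element of Ext^2(Q, P), is zero. -/
theorem result {C : Type w} [Category.{v} C] [Abelian C]
    [HasExt.{v'} C] {P F R E Q : C} (a : P ⟶ F) (b : F ⟶ R) (wF : a ≫ b = 0)
    (hF : (ShortComplex.mk a b wF).ShortExact) (c : R ⟶ E) (d : E ⟶ Q) (wE : c ≫ d = 0)
    (hE : (ShortComplex.mk c d wE).ShortExact) :
    (∃ (X : C) (i : F ⟶ X) (p : X ⟶ E), i ≫ p = b ≫ c ∧
        (∃ w : (a ≫ i) ≫ p = 0, (ShortComplex.mk (a ≫ i) p w).ShortExact) ∧
        (∃ w : i ≫ (p ≫ d) = 0, (ShortComplex.mk i (p ≫ d) w).ShortExact)) ↔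
      hE.extClass.comp hF.extClass (rfl : 1 + 1 = 2) = 0 := by
  constructor
  · rintro ⟨X, i, p, h₁, ⟨w₁, hS₁⟩, ⟨w₂, hS₂⟩⟩
    -- morphism of short exact sequences (F → X → Q) ⟶ (R → E → Q)
    let φ : ShortComplex.mk i (p ≫ d) w₂ ⟶ ShortComplex.mk c d wE :=
      { τ₁ := b
        τ₂ := p
        τ₃ := 𝟙 Q
        comm₁₂ := h₁.symm
        comm₂₃ := (Category.comp_id _).symm }
    have hn := ShortComplex.ShortExact.extClass_naturality hS₂ hE φ
    have h1 : hE.extClass = hS₂.extClass.comp (Abelian.Ext.mk₀ b) (add_zero 1) := by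
      rw [hn]
      dsimp [φ]
      simp
    rw [h1, Abelian.Ext.comp_assoc_of_second_deg_zero]
    have h2 : (Abelian.Ext.mk₀ b).comp hF.extClass (zero_add 1) = 0 := hF.comp_extClass
    rw [h2, Abelian.Ext.comp_zero]
  · intro h
    obtain ⟨x₂, hx₂⟩ := Abelian.Ext.covariant_sequence_exact₃ Q hF hE.extClass rfl h
    obtain ⟨X, i, q, wX, hX, hx⟩ := Lib.Helper6.Blend.exists_shortExact_extClass_eq x₂
    rw [← hx] at hx₂
    obtain ⟨p, hp₁, hp₂⟩ := Lib.Helper6.Blend.exists_map_of_extClass_comp_eq hX hE b hx₂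
    refine ⟨X, i, p, hp₁, Lib.Helper6.Blend.shortExact_of_map hF hE hX p hp₁ hp₂, ?_⟩
    subst hp₂
    exact ⟨wX, hX⟩

end Groth.Agent.S4064
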