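import Groth.Statements.S4071
import Groth.Agent.Lib.Helper26.NeronCompTorsion

set_option autoImplicit false
universe u
open CategoryTheory CategoryTheory.Limits AlgebraicGeometry MonObj
open MonoidalCategory
open SGA7

namespace Groth.Agent.S4071

/-- Let R be a strictly henselian discrete valuation ring with fraction field K, N a group scheme over
Spec R which is a Néron model of its generic fibre, an abelian variety A over K, and n an integer
invertible in the residue field of R. If x is a section of N (a K-point of A) whose n-th power meets
the connected component of the unit section in the special fibre, then there is a section y with y^n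
= 1 such that x · y⁻¹ meets the connected component of the unit section: the n-torsion of the
component group is the image of the n-torsion of A(K). -/
theorem result (R K : Type u) [CommRing R] [IsDomain R] [IsDiscreteValuationRing R] [HenselianLocalRing R]
    [IsSepClosed (IsLocalRing.ResidueField R)] [Field K] [Algebra R K] [IsFractionRing R K]
    (N : Over (Spec (CommRingCat.of R))) [GrpObj N] (hN : SGA7.IsNeron R K N)
    [IsProper ((SGA7.genFib R K).obj N).hom] [GeometricallyIntegral ((SGA7.genFib R K).obj N).hom]
    (n : ℕ) (hn : (n : IsLocalRing.ResidueField R) ≠ 0)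
    (x : 𝟙_ (Over (Spec (CommRingCat.of R))) ⟶ N) (hx : x ^ n ∈ SGA7.secUnitComp R N) :
    ∃ y : 𝟙_ (Over (Spec (CommRingCat.of R))) ⟶ N, y ^ n = 1 ∧ x * y⁻¹ ∈ SGA7.secUnitComp R N := by
  obtain ⟨hsm, -, -, hnmp⟩ := hN
  haveI := hsm
  have hsmNN : Smooth (N ⊗ N).hom := by
    rw [← Over.w (CartesianMonoidalCategory.fst N N)]
    haveI : Smooth (CartesianMonoidalCategory.fst N N).left :=
      inferInstanceAs (Smooth (pullback.fst N.hom N.hom))
    infer_instance
  haveI : IsCommMonObj N := by
    open scoped Obj in
    haveI : IsCommMonObj ((SGA7.genFib R K).obj N) :=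
      AlgebraicGeometry.isCommMonObj_of_isProper_of_geometricallyIntegral _
    exact Groth.Agent.Lib.Helper26.NeronCompTorsion.isCommMonObj_of_map_injective
      (Spec.map (CommRingCat.ofHom (algebraMap R K))) N (hnmp (N ⊗ N) hsmNN).1
  exact Groth.Agent.Lib.Helper26.NeronCompTorsion.exists_torsion_section R N n hn x hx

end Groth.Agent.S4071
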