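import Groth.Statements.S4086
import Groth.Agent.S1881
import Groth.Agent.Lib.Helper37.GrpdGlue

set_option autoImplicit false
set_option linter.style.haveILetI false
universe u
open CategoryTheory MonoidalCategory CartesianMonoidalCategory MonObj GrpObj AlgebraicGeometry CategoryTheory.Limits
open GrpQ

namespace Groth.Agent.S4086

/-- Let (U, R, s, t, c) be a groupoid scheme over S with s finite locally free and every set t(s⁻¹(x))
contained in an affine open of U, and assume that j = (t, s) : R → U ×_S U is a monomorphism. Then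
for every coequalizer p : U → Y of (t, s) in schemes, the square formed by t, s, p, p is cartesian
(R ≅ U ×_Y U) and p is finite locally free. (The source adds that Y is then the quotient sheaf for
the fppf topology and that its formation commutes with base change on Y.) -/
theorem result (S : Scheme.{u}) (G : Grpd.GroupoidScheme S)
    (ha : Mor2.IsFinLocFree G.s)
    (hb : ∀ x : G.U, ∃ V : G.U.Opens, IsAffineOpen V ∧ G.t.base '' (G.s.base ⁻¹' {x}) ⊆ (V : Set G.U))
    [Mono G.j] (Y : Scheme.{u}) (p : G.U ⟶ Y) (w : G.t ≫ p = G.s ≫ p) (hc : IsColimit (Cofork.ofπ p w)) :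
    IsPullback G.t G.s p p ∧ Mor2.IsFinLocFree p := by
  open Groth.Agent.Lib.Helper37 in
  obtain ⟨hfin, hflat, hlfp⟩ := ha
  haveI := hfin
  haveI := hflat
  haveI := hlfp
  haveI : IsFinite G.t := isFinite_t G
  haveI : Flat G.t := flat_t G
  haveI : LocallyOfFinitePresentation G.t := lfp_t G
  have hcov : ∀ u : G.U, ∃ W : G.U.Opens, IsAffineOpen W ∧ u ∈ W ∧ G.s ⁻¹ᵁ W = G.t ⁻¹ᵁ W := by
    intro u
    obtain ⟨V, hV, hVu⟩ := hb u
    exact Groth.Agent.S1881.result S G u V hV (fun r hr => hVu ⟨r, hr, rfl⟩)
  obtain ⟨Y', q, hqfin, hqflat, hqlfp, hqsurj, hpb⟩ := exists_global_quotient G hcov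
  have hc' := isColimitCoforkOfKernelPair q hpb
  let e : Y ≅ Y' := hc.coconePointUniqueUpToIso hc'
  have he : p ≫ e.hom = q :=
    hc.comp_coconePointUniqueUpToIso_hom hc' WalkingParallelPair.one
  have hp : p = q ≫ e.inv := by rw [← he, Category.assoc, e.hom_inv_id, Category.comp_id]
  constructor
  · refine hpb.of_iso (Iso.refl _) (Iso.refl _) (Iso.refl _) e.symm ?_ ?_ ?_ ?_
    · simp
    · simp
    · simp [hp]
    · simp [hp]
  · rw [hp]
    exact ⟨inferInstance, inferInstance, inferInstance⟩

end Groth.Agent.S4086
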