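import Groth.Statements.S4087
import Groth.Agent.Lib.Helper37.GrpdQuasiSection

set_option linter.style.haveILetI false

set_option autoImplicit false
universe u
open CategoryTheory MonoidalCategory CartesianMonoidalCategory MonObj GrpObj AlgebraicGeometry CategoryTheory.Limits
open GrpQ
open Groth.Agent.Lib.Helper37 Groth.Agent.Lib.Helper37.Pull Groth.Agent.Lib.Helper37.QS

namespace Groth.Agent.S4087

/-- Let (U, R, s, t, c) be a groupoid scheme over S and u : U' → U an immersion which is a
quasi-section: writing V = R ×_{t, U} U' for the arrows with target in U', the morphism V → U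
induced by s is finite locally free and surjective, and every subset of U' whose points are pairwise
equivalent (any two are the target and the source of one arrow) lies in an affine open of U'. Then
(t, s) has a coequalizer p : U → Y in schemes; p is surjective, open if t is open, universally
closed if t is; R → U ×_Y U is surjective; and if j = (t, s) is a monomorphism, R ≅ U ×_Y U, and p
is flat when t is flat. -/
theorem result (S : Scheme.{u}) (G : Grpd.GroupoidScheme S)
    (U' : Scheme.{u}) (u : U' ⟶ G.U) [IsImmersion u]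
    (h1 : Mor2.IsFinLocFree (pullback.fst G.t u ≫ G.s) ∧ Surjective (pullback.fst G.t u ≫ G.s))
    (h2 : ∀ E : Set U', (∀ x ∈ E, ∀ y ∈ E, ∃ r : G.R, G.t.base r = u.base x ∧ G.s.base r = u.base y) →
      ∃ W : U'.Opens, IsAffineOpen W ∧ E ⊆ (W : Set U')) :
    ∃ (Y : Scheme.{u}) (p : G.U ⟶ Y) (w : G.t ≫ p = G.s ≫ p),
      Nonempty (IsColimit (Cofork.ofπ p w)) ∧ Surjective p ∧
      (IsOpenMap G.t.base → IsOpenMap p.base) ∧ (UniversallyClosed G.t → UniversallyClosed p) ∧
      Function.Surjective (pullback.lift G.t G.s w).base ∧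
      (Mono G.j → IsPullback G.t G.s p p ∧ (Flat G.t → Flat p)) := by
  obtain ⟨⟨hfin, hflat, hlfp⟩, hsurj⟩ := h1
  haveI : IsFinite (π G u) := hfin
  haveI : Flat (π G u) := hflat
  haveI : LocallyOfFinitePresentation (π G u) := hlfp
  haveI : Surjective (π G u) := hsurj
  obtain ⟨Y, p', hq, ⟨hcolim⟩, hint, hsurj', hopen, hliftsurj, hmono⟩ :=
    exists_quotient_pull (G := G) (u := u) h2
  refine ⟨Y, desc p' hq, desc_cond p' hq, ⟨isColimitDesc p' hq hcolim⟩,
    ⟨desc_surjective p' hq hsurj'.surj⟩, fun ht => desc_isOpenMap p' hq hopen ht,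
    fun ht => ?_, lift_surjective p' hq hliftsurj, fun hm => ?_⟩
  · haveI := ht
    haveI : IsIntegralHom p' := hint
    exact desc_universallyClosed p' hq
  · haveI := hm
    obtain ⟨hflat', hpb'⟩ := hmono hm
    refine ⟨isPullback_desc p' hq hpb', fun hft => ?_⟩
    haveI := hft
    haveI : Flat p' := hflat'
    exact desc_flat p' hq

end Groth.Agent.S4087
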