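import Groth.Statements.S4135
import Groth.Agent.Lib.Helper84.CMM.Generate
import Groth.Agent.Lib.Helper84.CMM.Inj
-- import your own Groth.Agent.* helpers here

set_option autoImplicit false
universe u
open TensorProduct
attribute [local instance] LieRing.ofAssociativeRing
open SGA3y

namespace Groth.Agent.S4135

/-- Let k be a field of characteristic zero and H a cocommutative bialgebra over k which is connected
(every nonzero subcoalgebra contains 1). Then the canonical algebra homomorphism from the universal
enveloping algebra of the Lie algebra of primitive elements of H to H is bijective. -/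
theorem result (k : Type u) [Field k] [CharZero k] (H : Type u) [Ring H]
    [Bialgebra k H] [Coalgebra.IsCocomm k H] (hconn : SGA3y.IsConnectedCoalg k H) :
    Function.Bijective (UniversalEnvelopingAlgebra.lift k (SGA3y.primLie k H).incl) := by
  constructor
  · -- injectivity
    apply Groth.Agent.Lib.Helper84.CMM.lift_injective_of_prim
    · intro a b hab
      exact Subtype.ext hab
    · intro z
      exact z.2
  · -- surjectivity
    intro x
    have h := Groth.Agent.Lib.Helper84.CMM.mem_of_prim_le hconn
      (UniversalEnvelopingAlgebra.lift k (SGA3y.primLie k H).incl).range ?_ x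
    · exact h
    · intro y hy
      have hy' : y ∈ SGA3y.primLie k H := hy
      refine ⟨UniversalEnvelopingAlgebra.ι k (⟨y, hy'⟩ : SGA3y.primLie k H), ?_⟩
      exact UniversalEnvelopingAlgebra.lift_ι_apply k (SGA3y.primLie k H).incl ⟨y, hy'⟩

end Groth.Agent.S4135
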