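import Groth.Statements.S4211
-- import your own Groth.Agent.* helpers here

set_option autoImplicit false
universe u
open An

namespace Groth.Agent.S4211

open CategoryTheory TopologicalSpace Topology Opposite in
theorem aux (T : Type u) [TopologicalSpace T] :
    An.OpCont T := by
  apply Functor.isContinuous_of_coverPreserving
  · -- compatible preserving
    constructor
    intro ℱ Z P x hx Y₁ Y₂ X f₁ f₂ g₁ g₂ hg₁ hg₂ hcomm
    -- the map `X → Y₁ ⊓ Y₂`
    have hmem : ∀ a : X.E, ((An.opensToCl T).obj Y₁).p (f₁.toFun a) =
        ((An.opensToCl T).obj Y₂).p (f₂.toFun a) := fun a => (f₁.over a).trans (f₂.over a).symm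
    let k : X ⟶ (An.opensToCl T).obj (Y₁ ⊓ Y₂) :=
      ⟨fun a => (⟨((An.opensToCl T).obj Y₁).p (f₁.toFun a),
          ⟨(show ↥Y₁ from f₁.toFun a).2, by rw [hmem a]; exact (show ↥Y₂ from f₂.toFun a).2⟩⟩ :
            ↥(Y₁ ⊓ Y₂)),
        Continuous.subtype_mk (((An.opensToCl T).obj Y₁).lh.continuous.comp f₁.continuous) _,
        fun a => f₁.over a⟩
    have hk₁ : f₁ = k ≫ (An.opensToCl T).map (homOfLE inf_le_left) := by
      apply An.Cl.hom_ext
      funext a
      rfl
    have hk₂ : f₂ = k ≫ (An.opensToCl T).map (homOfLE inf_le_right) := by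
      apply An.Cl.hom_ext
      funext a
      apply Subtype.ext
      exact (hmem a).symm
    rw [hk₁, hk₂, op_comp, op_comp, Functor.map_comp, Functor.map_comp]
    simp only [types_comp_apply]
    congr 1
    exact hx (homOfLE inf_le_left) (homOfLE inf_le_right) hg₁ hg₂ (Subsingleton.elim _ _)
  · -- cover preserving
    constructor
    intro U S hS
    intro a
    obtain ⟨V, i, hi, haV⟩ := hS a.1 a.2
    refine ⟨(An.opensToCl T).obj V, (An.opensToCl T).map i,
      Sieve.image_mem_functorPushforward _ _ hi, ?_, ⟨⟨a.1, haV⟩, rfl⟩⟩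
    exact TopologicalSpace.Opens.isOpenEmbedding_of_le i.le

/-- For a topological space T, the inclusion of the opens of T into the site of local homeomorphisms
over T is continuous. This is the hypothesis An.OpCont carried by statements that restrict classical
sheaves to opens. -/
theorem result (T : Type u) [TopologicalSpace T] :
    An.OpCont T := by
  exact aux T

end Groth.Agent.S4211
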