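import Groth.Statements.S4212
-- import your own Groth.Agent.* helpers here

set_option autoImplicit false
universe u
open An

namespace Groth.Agent.S4212

open CategoryTheory TopologicalSpace Topology Opposite in
instance full_opensToCl (T : Type u) [TopologicalSpace T] : (An.opensToCl T).Full where
  map_surjective := by
    intro U V g
    have hle : U ≤ V := by
      intro x hx
      have h1 := g.over ⟨x, hx⟩
      have h2 : ((An.opensToCl T).obj V).p (g.toFun ⟨x, hx⟩) ∈ V := (show ↥V from g.toFun ⟨x, hx⟩).2
      rw [h1] at h2
      exact h2
    refine ⟨homOfLE hle, ?_⟩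
    apply An.Cl.hom_ext
    funext a
    apply Subtype.ext
    exact (g.over a).symm

open CategoryTheory TopologicalSpace Topology Opposite in
instance faithful_opensToCl (T : Type u) [TopologicalSpace T] : (An.opensToCl T).Faithful where
  map_injective := fun _ => Subsingleton.elim _ _

open CategoryTheory TopologicalSpace Topology Opposite in
theorem isCoverDense_opensToCl (T : Type u) [TopologicalSpace T] :
    (An.opensToCl T).IsCoverDense (An.Cl.topology T) where
  is_cover := by
    intro E a
    obtain ⟨e, hae, hpe⟩ := E.lh a
    let V : Opens T := ⟨e.target, e.open_target⟩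
    let g : (An.opensToCl T).obj V ⟶ E :=
      ⟨fun v => ((e.toHomeomorphSourceTarget.symm v : e.source) : E.E),
        continuous_subtype_val.comp e.toHomeomorphSourceTarget.symm.continuous,
        fun v => by
          have h1 : E.p ((e.toHomeomorphSourceTarget.symm v : e.source) : E.E) =
              e ((e.toHomeomorphSourceTarget.symm v : e.source) : E.E) := by rw [hpe]
          rw [h1]
          exact congrArg Subtype.val (e.toHomeomorphSourceTarget.apply_symm_apply v)⟩
    refine ⟨(An.opensToCl T).obj V, g, Presieve.in_coverByImage _ g, ?_, ?_⟩
    · exact (e.open_source.isOpenEmbedding_subtypeVal).comp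
        e.toHomeomorphSourceTarget.symm.isOpenEmbedding
    · refine ⟨e.toHomeomorphSourceTarget ⟨a, hae⟩, ?_⟩
      change ((e.toHomeomorphSourceTarget.symm (e.toHomeomorphSourceTarget ⟨a, hae⟩) : e.source) : E.E) = a
      rw [Homeomorph.symm_apply_apply]

open CategoryTheory TopologicalSpace Topology Opposite in
theorem isDenseSubsite_opensToCl (T : Type u) [TopologicalSpace T] :
    (An.opensToCl T).IsDenseSubsite (Opens.grothendieckTopology T) (An.Cl.topology T) where
  isCoverDense' := isCoverDense_opensToCl T
  functorPushforward_mem_iff := by
    intro U S
    constructor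
    · intro hS x hx
      obtain ⟨B, g, ⟨V, f, h, hSf, rfl⟩, -, b, hb⟩ := hS ⟨x, hx⟩
      refine ⟨V, f, hSf, ?_⟩
      have h1 : ((An.opensToCl T).obj V).p (h.toFun b) ∈ V := (show ↥V from h.toFun b).2
      have h2 : ((An.opensToCl T).obj V).p (h.toFun b) = x := by
        have := congrArg Subtype.val hb
        exact this
      rw [h2] at h1
      exact h1
    · intro hS a
      obtain ⟨V, i, hi, haV⟩ := hS a.1 a.2
      refine ⟨(An.opensToCl T).obj V, (An.opensToCl T).map i,
        Sieve.image_mem_functorPushforward _ _ hi, ?_, ⟨⟨a.1, haV⟩, rfl⟩⟩
      exact TopologicalSpace.Opens.isOpenEmbedding_of_le i.le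

open CategoryTheory TopologicalSpace Topology Opposite in
theorem aux (T : Type u) [TopologicalSpace T] [An.OpCont T] :
    (An.resOpens T).IsEquivalence := by
  haveI := isDenseSubsite_opensToCl T
  infer_instance

/-- For a topological space T, the topos of the site of local homeomorphisms over T is equivalent to
that of T: restriction of abelian sheaves along the inclusion of the opens of T is an equivalence of
categories. -/
theorem result (T : Type u) [TopologicalSpace T] [An.OpCont T] :
    (An.resOpens T).IsEquivalence := by
  exact aux T

end Groth.Agent.S4212
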