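import Groth.Statements.S4256
-- import your own Groth.Agent.* helpers here

set_option autoImplicit false
open scoped BigOperators
open SGA4h

namespace Groth.Agent.S4256

/-- Let k be a finite field, ψ a nontrivial additive character of k with values in a domain R, and n ≥
1. Then the generalised Kloosterman sum with parameter 0, Σ ψ(x_1 + ⋯ + x_n) over all (x_1, …, x_n)
∈ k^n with x_1 ⋯ x_n = 0, equals (-1)^{n-1}. -/
theorem result (k : Type) [Field k] [Fintype k] [DecidableEq k] (R : Type) [CommRing R] [IsDomain R]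
    (ψ : AddChar k R) (hψ : ψ ≠ 1) (n : ℕ) (hn : 1 ≤ n) :
    ∑ x ∈ (Finset.univ : Finset (Fin n → k)).filter (fun x => ∏ i, x i = 0), ψ (∑ i, x i) = (-1) ^ (n - 1) := by
  have hprod : ∀ (s : Finset (Fin n)) (x : Fin n → k), ψ (∑ i ∈ s, x i) = ∏ i ∈ s, ψ (x i) := by
    intro s x
    induction s using Finset.induction_on with
    | empty => simp
    | insert a s ha ih =>
      rw [Finset.sum_insert ha, Finset.prod_insert ha, AddChar.map_add_eq_mul, ih]
  have hsum : ∑ t : k, ψ t = 0 := AddChar.sum_eq_zero_of_ne_one hψ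
  have hsum' : ∑ t ∈ (Finset.univ : Finset k).erase 0, ψ t = -1 := by
    have := Finset.add_sum_erase Finset.univ ψ (Finset.mem_univ (0 : k))
    rw [hsum, AddChar.map_zero_eq_one] at this
    linear_combination this
  have hall : ∑ x : Fin n → k, ψ (∑ i, x i) = 0 := by
    simp_rw [hprod]
    have := Finset.prod_univ_sum (fun _ : Fin n => (Finset.univ : Finset k)) (fun _ t => ψ t)
    rw [Fintype.piFinset_univ] at this
    rw [← this, Finset.prod_const, hsum, Finset.card_univ, Fintype.card_fin]
    exact zero_pow (by omega)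
  have hfilter : (Finset.univ : Finset (Fin n → k)).filter (fun x => ¬ ∏ i, x i = 0) =
      Fintype.piFinset (fun _ : Fin n => (Finset.univ : Finset k).erase 0) := by
    ext x
    simp [Finset.prod_eq_zero_iff, Fintype.mem_piFinset]
  have hnz : ∑ x ∈ (Finset.univ : Finset (Fin n → k)).filter (fun x => ¬ ∏ i, x i = 0),
      ψ (∑ i, x i) = (-1) ^ n := by
    rw [hfilter]
    simp_rw [hprod]
    rw [← Finset.prod_univ_sum (fun _ : Fin n => (Finset.univ : Finset k).erase 0) (fun _ t => ψ t),
      Finset.prod_const, hsum', Finset.card_univ, Fintype.card_fin]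
  have htot := Finset.sum_filter_add_sum_filter_not (Finset.univ : Finset (Fin n → k))
    (fun x => ∏ i, x i = 0) (fun x => ψ (∑ i, x i))
  rw [hall, hnz] at htot
  obtain ⟨m, rfl⟩ : ∃ m, n = m + 1 := ⟨n - 1, by omega⟩
  rw [Nat.add_sub_cancel]
  rw [pow_succ] at htot
  linear_combination htot

end Groth.Agent.S4256
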