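import Groth.Statements.S4269
import Mathlib
import Groth.Agent.Lib.Helper11.NegPowers

set_option autoImplicit false
universe u
open CategoryTheory CategoryTheory.Limits AlgebraicGeometry
attribute [local instance] HasDerivedCategory.standard
open KSix

namespace Groth.Agent.S4269

section helpers

open CategoryTheory CategoryTheory.Limits AlgebraicGeometry TopologicalSpace Opposite MonoidalCategory
open Groth.Agent.Lib.Helper45 Groth.Agent.Lib.Helper49 Groth.Agent.Lib.Helper11.GenLocus
open Groth.Agent.Lib.Helper11.NegPowers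

section Main0

attribute [local instance] Abelian.hasFiniteBiproducts

theorem main_S4269 (X : Scheme.{u}) {ι : Type u} (L : ι → X.Modules)
    (hL : KSix.IsAmpleFamily L) (F : X.Modules) (hF : Coh.IsQCoh F) (hF' : CohB1.IsFT F) :
    ∃ (M : X.Modules) (π : M ⟶ F), KSix.InAddL L M ∧ Epi π := by
  obtain ⟨hc, hqs, hinv, hpt⟩ := hL
  have hloc : ∀ x : X, ∃ (G : X.Opens) (M : X.Modules) (r : ℕ) (φ : Fin r → (M ⟶ F)), x ∈ G ∧
      KSix.IsNegPower L M ∧
        ∀ (V : X.Opens) (_ : V ≤ G) (y : Γ(F, V)) (z : X), z ∈ V →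
          ∃ (W : X.Opens) (hWV : W ≤ V), z ∈ W ∧ ∃ m : Fin r → Γ(M, W),
            mres F hWV y = ∑ j, (φ j).app W (m j) := by
    intro x
    obtain ⟨i, n, s, hxs, ha⟩ := hpt x
    obtain ⟨k, M, r, φ, hk, hiso, hM, hsurj⟩ := exists_local_quotient F hF' (L i) (hinv i) n s ha
    exact ⟨CohB1.genLocus _ s, M, r, φ, hxs, ⟨i, k, hk, hiso⟩, hsurj⟩
  obtain ⟨k, N, π, hN, hπ⟩ := exists_global_quotient F (KSix.IsNegPower L) hloc
  exact ⟨⨁ N, π, ⟨k, N, hN, ⟨Iso.refl _⟩⟩, hπ⟩

end Main0

end helpers

/-- Let X be a quasi-compact quasi-separated scheme and (L_i) an ample family of invertible O_X-modules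
(the affine opens X_s, for s a global section of some L_i^{⊗ n}, n ≥ 1, cover X). Then every
quasi-coherent O_X-module of finite type F receives an epimorphism from a finite direct sum of
modules of the form L_i^{⊗ -n} with n > 0. (The printed statement uses a single exponent n_i for
each member L_i; the form here, allowing several powers of the same member, is slightly weaker.) -/
theorem result (X : Scheme.{u}) {ι : Type u} (L : ι → X.Modules)
    (hL : KSix.IsAmpleFamily L) (F : X.Modules) (hF : Coh.IsQCoh F) (hF' : CohB1.IsFT F) :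
    ∃ (M : X.Modules) (π : M ⟶ F), KSix.InAddL L M ∧ Epi π := by
  exact main_S4269 X L hL F hF hF'

end Groth.Agent.S4269
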