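import Groth.Statements.S4329
import Groth.Agent.Lib.Helper32.KInjRes
import Groth.Agent.Lib.Helper32.RDerCrit
import Groth.Agent.Lib.Helper32.FunCatInj
import Groth.Agent.Lib.Helper6.EtPullExact

set_option autoImplicit false
universe u
open CategoryTheory CategoryTheory.Limits AlgebraicGeometry Opposite
attribute [local instance] HasDerivedCategory.standard
open EtSix

namespace Groth.Agent.S4329

open Groth.Agent.Lib.Helper32 Groth.Agent.Lib.Helper32.KInjDerived
  Groth.Agent.Lib.Helper32.RDerCrit in
lemma hasKInjRes (X : Scheme.{u}) : HasKInjRes (EtCoh.Ab X) := fun M => by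
  obtain ⟨I, f, hI, hf, -, -⟩ := Groth.Agent.Lib.Helper32.KInjRes.exists_kInjective_resolution M
  exact ⟨I, f, hI, hf⟩

lemma isKInjective_push {X Y : Scheme.{u}} (f : X ⟶ Y) (I : CochainComplex (EtCoh.Ab X) ℤ)
    (hI : I.IsKInjective) :
    CochainComplex.IsKInjective (((EtCoh.push f).mapHomologicalComplex (ComplexShape.up ℤ)).obj I) := by
  haveI : PreservesFiniteLimits (EtCoh.pull f) :=
    Groth.Agent.Lib.Helper6.EtPullExact.preservesFiniteLimits_pull f
  exact Groth.Agent.Lib.Helper32.FunCatInj.isKInjective_map_of_adj (EtCoh.push f) (EtCoh.pull f)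
    (EtCoh.pullPushAdj f) I hI

lemma isIso_mapHomotopyCategory_app {V W : Type*} [Category V] [Preadditive V] [Category W]
    [Preadditive W] {F G : V ⥤ W} [F.Additive] [G.Additive] (e : F ≅ G) {ι : Type*}
    (c : ComplexShape ι) (K : HomotopyCategory V c) :
    IsIso ((NatTrans.mapHomotopyCategory e.inv c).app K) := by
  refine ⟨(NatTrans.mapHomotopyCategory e.hom c).app K, ?_, ?_⟩
  · rw [← NatTrans.comp_app, ← NatTrans.mapHomotopyCategory_comp, e.inv_hom_id,
      NatTrans.mapHomotopyCategory_id]
    rfl
  · rw [← NatTrans.comp_app, ← NatTrans.mapHomotopyCategory_comp, e.hom_inv_id,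
      NatTrans.mapHomotopyCategory_id]
    rfl

/-- Composition of derived direct images: for the small etale sites of schemes and abelian sheaves: let
f : X -> Y and g : Y -> Z be morphisms of schemes and assume the unbounded derived direct images
Rf_*, Rg_* and R(g ∘ f)_* exist (they do; the existence is recorded as instance hypotheses). Then
the canonical morphism R(g ∘ f)_* -> Rg_* ∘ Rf_* of functors D(X_et) -> D(Z_et), induced by (g ∘
f)_* ≅ g_* ∘ f_* through the universal property of R(g ∘ f)_* as a right derived functor, is an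
isomorphism. -/
theorem result {X Y Z : Scheme.{u}} (f : X ⟶ Y) (g : Y ⟶ Z)
    [DCoh.HasRpushEt X f] [DCoh.HasRpushEt Y g] [DCoh.HasRpushEt X (f ≫ g)] :
    IsIso (EtSix.compMap f g) := by
  have hX := hasKInjRes X
  have hY := hasKInjRes Y
  have key : (DCoh.RpushEt X f ⋙ DCoh.RpushEt Y g).IsRightDerivedFunctor (compUnit f g)
      (HomotopyCategory.quasiIso (EtCoh.Ab X) (ComplexShape.up ℤ)) := by
    apply Groth.Agent.Lib.Helper32.RDerCrit.isRightDerivedFunctor_of_isIso hX
    intro I hI
    haveI := hI
    haveI : CochainComplex.IsKInjective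
        (((EtCoh.push f).mapHomologicalComplex (ComplexShape.up ℤ)).obj I) := isKInjective_push f I hI
    have h1 : IsIso (((DCoh.pushEtKh X f).totalRightDerivedUnit DerivedCategory.Qh
        (HomotopyCategory.quasiIso (EtCoh.Ab X) (ComplexShape.up ℤ))).app
        ((HomotopyCategory.quotient (EtCoh.Ab X) (ComplexShape.up ℤ)).obj I)) :=
      Groth.Agent.Lib.Helper32.RDerCrit.isIso_app_kInjective hX _ _ I
    have h2 : IsIso (((DCoh.pushEtKh Y g).totalRightDerivedUnit DerivedCategory.Qh
        (HomotopyCategory.quasiIso (EtCoh.Ab Y) (ComplexShape.up ℤ))).app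
        ((HomotopyCategory.quotient (EtCoh.Ab Y) (ComplexShape.up ℤ)).obj
          (((EtCoh.push f).mapHomologicalComplex (ComplexShape.up ℤ)).obj I))) :=
      Groth.Agent.Lib.Helper32.RDerCrit.isIso_app_kInjective hY _ _ _
    have h3 := isIso_mapHomotopyCategory_app (EtCoh.pushComp g f) (ComplexShape.up ℤ)
      ((HomotopyCategory.quotient (EtCoh.Ab X) (ComplexShape.up ℤ)).obj I)
    dsimp only [compUnit, NatTrans.comp_app, Functor.whiskerRight_app, Functor.whiskerLeft_app,
      Functor.associator_hom_app, Functor.associator_inv_app, Functor.comp_obj, Functor.comp_map]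
    simp only [Category.id_comp, Category.comp_id]
    have h2' : IsIso (((DCoh.pushEtKh Y g).totalRightDerivedUnit DerivedCategory.Qh
        (HomotopyCategory.quasiIso (EtCoh.Ab Y) (ComplexShape.up ℤ))).app
        (((EtCoh.push f).mapHomotopyCategory (ComplexShape.up ℤ)).obj
          ((HomotopyCategory.quotient (EtCoh.Ab X) (ComplexShape.up ℤ)).obj I))) := h2
    infer_instance
  exact (Functor.isRightDerivedFunctor_iff_isIso_rightDerivedDesc (DCoh.RpushEt X (f ≫ g))
    ((DCoh.pushEtKh X (f ≫ g)).totalRightDerivedUnit DerivedCategory.Qh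
      (HomotopyCategory.quasiIso (EtCoh.Ab X) (ComplexShape.up ℤ)))
    (HomotopyCategory.quasiIso (EtCoh.Ab X) (ComplexShape.up ℤ))
    (DCoh.RpushEt X f ⋙ DCoh.RpushEt Y g) (compUnit f g)).1 key

end Groth.Agent.S4329
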