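import Groth.Statements.S4337
import Groth.Agent.Lib.Helper19.LinTopUnits

set_option autoImplicit false
universe u
open LinTop

namespace Groth.Agent.S4337

/-- Let A be an admissible ring, J an ideal of definition, and u : M -> N a homomorphism of A-modules
with N of finite type. Then u is surjective if and only if u tensored with A/J is surjective. -/
theorem result
    (A : Type u) [CommRing A] [UniformSpace A] [IsUniformAddGroup A] [IsTopologicalRing A]
    (hA : LinTop.IsAdmissible A) (J : Ideal A) (hJ : LinTop.IsIdealOfDefinition A J)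
    (M N : Type u) [AddCommGroup M] [Module A M] [AddCommGroup N] [Module A N] [Module.Finite A N]
    (u : M →ₗ[A] N) :
    Function.Surjective u ↔ Function.Surjective (u.rTensor (A ⧸ J)) := by
  constructor
  · intro h
    exact LinearMap.rTensor_surjective (A ⧸ J) h
  · intro h
    have hjac := Groth.Agent.Helper19.le_jacobson_bot A hA J hJ
    rw [← LinearMap.range_eq_top]
    apply top_le_iff.mp
    apply Submodule.le_of_le_smul_of_le_jacobson_bot (Module.Finite.fg_top) hjac
    intro n _
    obtain ⟨t, ht⟩ := h (n ⊗ₜ[A] (1 : A ⧸ J))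
    have key : ∀ t : TensorProduct A M (A ⧸ J), ∃ m : M,
        TensorProduct.tensorQuotEquivQuotSMul N J (u.rTensor (A ⧸ J) t) =
          Submodule.Quotient.mk (u m) := by
      intro t
      induction t using TensorProduct.induction_on with
      | zero => exact ⟨0, by simp⟩
      | tmul m r =>
        obtain ⟨r, rfl⟩ := Ideal.Quotient.mk_surjective r
        refine ⟨r • m, ?_⟩
        rw [LinearMap.rTensor_tmul, TensorProduct.tensorQuotEquivQuotSMul_tmul_mk, map_smul]
      | add x y hx hy =>
        obtain ⟨m₁, h₁⟩ := hx
        obtain ⟨m₂, h₂⟩ := hy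
        refine ⟨m₁ + m₂, ?_⟩
        rw [map_add, map_add, h₁, h₂, map_add, Submodule.Quotient.mk_add]
    obtain ⟨m, hm⟩ := key t
    rw [ht] at hm
    have h1 : (1 : A ⧸ J) = Ideal.Quotient.mk J 1 := rfl
    rw [h1, TensorProduct.tensorQuotEquivQuotSMul_tmul_mk, one_smul, Submodule.Quotient.eq] at hm
    have h2 : n = u m + (n - u m) := by abel
    rw [h2]
    exact Submodule.add_mem_sup (LinearMap.mem_range_self u m) hm

end Groth.Agent.S4337
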