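import Groth.Statements.S4338
import Groth.Agent.Lib.Helper19.LinTopUnits

set_option autoImplicit false
universe u
open LinTop

namespace Groth.Agent.S4338

open Filter Topology in
/-- decomposition of elements of `span G * N`. -/
theorem mem_span_mul_decomp {A : Type u} [CommRing A] (G : Finset A) (N : Ideal A) (x : A)
    (hx : x ∈ Ideal.span (G : Set A) * N) :
    ∃ a : A → A, (∀ g, a g ∈ N) ∧ x = ∑ g ∈ G, g * a g := by
  classical
  refine Submodule.mul_induction_on hx ?_ ?_
  · intro m hm n hn
    obtain ⟨r, hr⟩ := (Submodule.mem_span_finset).mp hm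
    refine ⟨fun g => r g * n, fun g => N.mul_mem_left _ hn, ?_⟩
    rw [← hr.2, Finset.sum_mul]
    refine Finset.sum_congr rfl (fun g _ => ?_)
    simp only [smul_eq_mul]
    ring
  · rintro x y ⟨a, ha, rfl⟩ ⟨b, hb, rfl⟩
    refine ⟨fun g => a g + b g, fun g => N.add_mem (ha g) (hb g), ?_⟩
    rw [← Finset.sum_add_distrib]
    refine Finset.sum_congr rfl (fun g _ => ?_)
    ring

open Filter Topology in
theorem aux
    (A : Type u) [CommRing A] [UniformSpace A] [IsUniformAddGroup A] [IsTopologicalRing A]
    (hA : LinTop.IsAdmissible A) (J : Ideal A) (hJ : LinTop.IsIdealOfDefinition A J)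
    (I : Ideal A) (hI : I.FG) (hIJ : I ≤ J) :
    IsAdicComplete I A := by
  classical
  obtain ⟨⟨hlin, _⟩, hT2, hC⟩ := hA
  haveI := hlin
  haveI := hT2
  haveI := hC
  haveI : NonarchimedeanRing A := Groth.Agent.Helper19.nonarchimedeanRing_of_isLinearTopology A
  have htend : ∀ x : ℕ → A, (∀ k, x k ∈ J ^ k) → Tendsto x atTop (𝓝 0) := by
    intro x hx
    rw [tendsto_def]
    intro U hU
    obtain ⟨n, _, hn⟩ := hJ.2 U hU
    rw [mem_atTop_sets]
    exact ⟨n, fun m hm => hn (Ideal.pow_le_pow_right hm (hx m))⟩
  have hsumm : ∀ x : ℕ → A, (∀ k, x k ∈ J ^ k) → Summable x := by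
    intro x hx
    apply NonarchimedeanAddGroup.summable_of_tendsto_cofinite_zero
    rw [Nat.cofinite_eq_atTop]
    exact htend x hx
  have hIJ' : ∀ k, I ^ k ≤ J ^ k := fun k => Ideal.pow_right_mono hIJ k
  have hsmul : ∀ n : ℕ, (I ^ n • ⊤ : Submodule A A) = I ^ n := fun n => by
    rw [smul_eq_mul, Ideal.mul_top]
  -- key lemma
  have key : ∀ (n : ℕ) (y : ℕ → A), (∀ k, y k ∈ I ^ n * I ^ k) → ∀ S, HasSum y S → S ∈ I ^ n := by
    intro n y hy S hS
    obtain ⟨G, hG⟩ := Ideal.FG.pow (n := n) hI
    have hdec : ∀ k, ∃ a : A → A, (∀ g, a g ∈ I ^ k) ∧ y k = ∑ g ∈ G, g * a g := by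
      intro k
      apply mem_span_mul_decomp G (I ^ k) (y k)
      rw [hG]
      exact hy k
    choose a ha hya using hdec
    have hs : ∀ g, Summable (fun k => a k g) := fun g =>
      hsumm _ (fun k => hIJ' k (ha k g))
    have h1 : HasSum (fun k => ∑ g ∈ G, g * a k g) (∑ g ∈ G, g * ∑' k, a k g) :=
      hasSum_sum (fun g _ => (hs g).hasSum.mul_left g)
    have h2 : y = fun k => ∑ g ∈ G, g * a k g := funext hya
    rw [h2] at hS
    rw [hS.unique h1, ← hG]
    refine Ideal.sum_mem _ (fun g hg => ?_)
    exact Ideal.mul_mem_right _ _ (Ideal.subset_span hg)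
  haveI : IsHausdorff I A := by
    constructor
    intro x hx
    by_contra hne
    have hU : ({x}ᶜ : Set A) ∈ 𝓝 (0 : A) :=
      isOpen_compl_singleton.mem_nhds (by simpa using Ne.symm hne)
    obtain ⟨n, _, hn⟩ := hJ.2 _ hU
    have h1 : x ∈ I ^ n := by
      have := hx n
      rw [SModEq.zero, hsmul] at this
      exact this
    exact hn (hIJ' n h1) rfl
  haveI : IsPrecomplete I A := by
    constructor
    intro f hf
    have hdiff : ∀ k, f (k + 1) - f k ∈ I ^ k := by
      intro k
      have := (hf (Nat.le_succ k)).symm
      rw [SModEq.sub_mem, hsmul] at this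
      exact this
    have hs0 : Summable (fun k => f (k + 1) - f k) := hsumm _ (fun k => hIJ' k (hdiff k))
    let L : A := f 0 + ∑' k, (f (k + 1) - f k)
    have hL : Tendsto f atTop (𝓝 L) := by
      have h1 := hs0.hasSum.tendsto_sum_nat
      have h2 : (fun n => ∑ i ∈ Finset.range n, (f (i + 1) - f i)) = fun n => f n - f 0 := by
        funext n
        exact Finset.sum_range_sub f n
      rw [h2] at h1
      have h3 := h1.const_add (f 0)
      simpa using h3
    refine ⟨L, fun n => ?_⟩
    rw [SModEq.sub_mem, hsmul]
    have hmem : L - f n ∈ I ^ n := by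
      apply key n (fun k => f (n + k + 1) - f (n + k))
      · intro k
        rw [← pow_add]
        exact hdiff (n + k)
      · have hs1 : Summable (fun k => f (n + k + 1) - f (n + k)) :=
          hsumm _ (fun k => hIJ' k (Ideal.pow_le_pow_right (Nat.le_add_left k n) (hdiff (n + k))))
        rw [hs1.hasSum_iff_tendsto_nat]
        have h2 : (fun m => ∑ i ∈ Finset.range m, (f (n + i + 1) - f (n + i))) =
            fun m => f (n + m) - f n := by
          funext m
          have := Finset.sum_range_sub (fun i => f (n + i)) m
          simpa [add_assoc] using this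
        rw [h2]
        have h3 : Tendsto (fun m => f (n + m)) atTop (𝓝 L) := by
          have := (tendsto_add_atTop_iff_nat n).mpr hL
          simpa [add_comm] using this
        exact h3.sub_const (f n)
    have : f n - L = -(L - f n) := by ring
    rw [this]
    exact (I ^ n).neg_mem hmem
  exact {}

/-- For a finitely generated ideal. Let A be an admissible ring and I a finitely generated ideal
contained in an ideal of definition of A. Then A is separated and complete for the I-adic topology.
(The published statement has no finiteness hypothesis on I and is then not correct: the completion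
of a polynomial ring in countably many variables over a field along the ideal generated by the
variables, with its inverse-limit topology, is admissible, the kernel of its projection onto the
field is an ideal of definition, and the ring is not adically complete for that kernel.) -/
theorem result
    (A : Type u) [CommRing A] [UniformSpace A] [IsUniformAddGroup A] [IsTopologicalRing A]
    (hA : LinTop.IsAdmissible A) (J : Ideal A) (hJ : LinTop.IsIdealOfDefinition A J)
    (I : Ideal A) (hI : I.FG) (hIJ : I ≤ J) :
    IsAdicComplete I A := by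
  exact aux A hA J hJ I hI hIJ

end Groth.Agent.S4338
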