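import Groth.Statements.S4340
import Groth.Agent.Lib.Helper45.QCohStalk

set_option autoImplicit false
universe u
open QCohSup

namespace Groth.Agent.S4340

open AlgebraicGeometry CategoryTheory Opposite TopologicalSpace in
theorem aux (X : Scheme.{u}) [CompactSpace X] (f : Γ(X, ⊤)) (F : X.Modules) [F.IsQuasicoherent]
    (s : Γ(F, ⊤))
    (hs : F.presheaf.map (homOfLE (le_top : X.basicOpen f ≤ ⊤)).op s = 0) :
    ∃ n : ℕ, 0 < n ∧ f ^ n • s = 0 := by
  classical
  -- finite affine cover
  obtain ⟨t, ht⟩ := isCompact_univ.elim_finite_subcover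
    (fun U : X.affineOpens => ((U : X.Opens) : Set X)) (fun U => U.1.isOpen)
    (by
      intro x _
      obtain ⟨U, hU, hxU, -⟩ := Opens.isBasis_iff_nbhd.mp X.isBasis_affineOpens
        (U := ⊤) (x := x) trivial
      exact Set.mem_iUnion.mpr ⟨⟨U, hU⟩, hxU⟩)
  -- local annihilation
  have hloc : ∀ U : X.affineOpens, ∃ n : ℕ,
      (X.presheaf.map (homOfLE (le_top : (U : X.Opens) ≤ ⊤)).op f) ^ n •
        F.presheaf.map (homOfLE (le_top : (U : X.Opens) ≤ ⊤)).op s = 0 := by
    intro U
    apply Groth.Agent.Lib.Helper45.exists_pow_smul_eq_zero_of_restrict_eq_zero U.2 F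
    rw [← ConcreteCategory.comp_apply, ← Functor.map_comp]
    have hle : X.basicOpen (X.presheaf.map (homOfLE (le_top : (U : X.Opens) ≤ ⊤)).op f) ≤
        X.basicOpen f := by
      rw [Scheme.basicOpen_res]; exact inf_le_right
    have : (homOfLE (le_top : (U : X.Opens) ≤ ⊤)).op ≫
        (homOfLE (X.basicOpen_le (X.presheaf.map (homOfLE (le_top : (U : X.Opens) ≤ ⊤)).op f))).op =
        (homOfLE (le_top : X.basicOpen f ≤ ⊤)).op ≫ (homOfLE hle).op := rfl
    rw [this, Functor.map_comp, ConcreteCategory.comp_apply, hs, map_zero]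
  choose n hn using hloc
  refine ⟨t.sup n + 1, Nat.succ_pos _, ?_⟩
  let Fsh : TopCat.Sheaf Ab X.carrier := ⟨F.presheaf, F.isSheaf⟩
  apply Fsh.eq_of_locally_eq' (fun U : t => ((U : X.affineOpens) : X.Opens)) ⊤
    (fun U => homOfLE le_top)
  · intro x _
    have := ht (Set.mem_univ x)
    simp only [Set.mem_iUnion] at this
    obtain ⟨U, hUt, hxU⟩ := this
    exact Opens.mem_iSup.mpr ⟨⟨U, hUt⟩, hxU⟩
  · intro U
    change F.presheaf.map (homOfLE le_top).op (f ^ (t.sup n + 1) • s) =
      F.presheaf.map (homOfLE le_top).op 0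
    rw [map_zero, Scheme.Modules.map_smul, map_pow]
    have hle : n U ≤ t.sup n + 1 := (Finset.le_sup U.2).trans (Nat.le_succ _)
    obtain ⟨k, hk⟩ := Nat.exists_eq_add_of_le hle
    rw [hk, add_comm, pow_add, mul_smul, hn, smul_zero]

open AlgebraicGeometry in
open CategoryTheory in
open Opposite in
/-- Case of the trivial invertible sheaf. Let X be a quasi-compact scheme, f a global section of O_X, F
a quasi-coherent O_X-module and s a global section of F that restricts to zero on X_f. Then f^n s =
0 for some n > 0. (The published statement assumes X with Noetherian underlying space, or separated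
and quasi-compact; for this part only quasi-compactness is used.) -/
theorem result
    (X : Scheme.{u}) [CompactSpace X] (f : Γ(X, ⊤)) (F : X.Modules) [Coh.IsQCoh F]
    (s : F.val.obj (op ⊤))
    (hs : (F.val.map (homOfLE (le_top : X.basicOpen f ≤ ⊤)).op).hom s = 0) :
    ∃ n : ℕ, 0 < n ∧ (show X.ringCatSheaf.obj.obj (op ⊤) from f) ^ n • s = 0 := by
  exact aux X f F s hs

end Groth.Agent.S4340
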