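import Groth.Statements.S4364
import Mathlib.AlgebraicGeometry.SpreadingOut

set_option autoImplicit false
universe u
open FinCond

namespace Groth.Agent.S4364

open AlgebraicGeometry in
open CategoryTheory in
/-- Let X and Y be S-schemes with Y locally of finite type over S, and let f, g : X -> Y be S-morphisms.
If f x = g x for some point x and the two induced homomorphisms of local rings O_{Y, f x} -> O_{X,
x} coincide, then f and g coincide on an open neighbourhood of x. No condition is imposed on X. (The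
published statement assumes Y of finite type over S; this row assumes Y only locally of finite type
over S, which is all the published proof uses.) -/
theorem result
    {X Y S : Scheme.{u}} (sX : X ⟶ S) (sY : Y ⟶ S) [LocallyOfFiniteType sY]
    (f g : X ⟶ Y) (hf : f ≫ sY = sX) (hg : g ≫ sY = sX) {x : X} (e : f x = g x)
    (H : f.stalkMap x =
      Y.presheaf.stalkSpecializes (Inseparable.of_eq e.symm).specializes ≫ g.stalkMap x) :
    ∃ U : X.Opens, x ∈ U ∧ U.ι ≫ f = U.ι ≫ g := by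
  classical
  obtain ⟨_, ⟨W : S.Opens, hW, rfl⟩, hxW, -⟩ :=
    S.isBasis_affineOpens.exists_subset_of_mem_open (Set.mem_univ (sX x)) isOpen_univ
  have hfxW : f x ∈ sY ⁻¹ᵁ W := by
    change sY (f x) ∈ W
    rw [← Scheme.Hom.comp_apply, hf]; exact hxW
  obtain ⟨_, ⟨V : Y.Opens, hV, rfl⟩, hxV, hVW⟩ :=
    Y.isBasis_affineOpens.exists_subset_of_mem_open hfxW (sY ⁻¹ᵁ W).2
  have hxV' : g x ∈ V := e ▸ hxV
  have hft : (sY.appLE W V hVW).hom.FiniteType :=
    HasRingHomProperty.appLE (P := @LocallyOfFiniteType) sY inferInstance ⟨W, hW⟩ ⟨V, hV⟩ hVW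
  algebraize [(sY.appLE W V hVW).hom]
  obtain ⟨t, ht⟩ := hft
  have hxU₀ : x ∈ f ⁻¹ᵁ V ⊓ g ⁻¹ᵁ V := ⟨hxV, hxV'⟩
  have h3 : f.appLE V (f ⁻¹ᵁ V ⊓ g ⁻¹ᵁ V) inf_le_left ≫ X.presheaf.germ _ x hxU₀ =
      g.appLE V (f ⁻¹ᵁ V ⊓ g ⁻¹ᵁ V) inf_le_right ≫ X.presheaf.germ _ x hxU₀ := by
    simp only [Scheme.Hom.appLE, Category.assoc, X.presheaf.germ_res', ← Scheme.Hom.germ_stalkMap, H]
    simp only [TopCat.Presheaf.germ_stalkSpecializes_assoc, Scheme.Hom.germ_stalkMap]
  have key : ∀ t : Finset Γ(Y, V), ∃ U₁ : X.Opens, x ∈ U₁ ∧ ∃ h : U₁ ≤ f ⁻¹ᵁ V ⊓ g ⁻¹ᵁ V, ∀ b ∈ t,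
      (f.appLE V U₁ (h.trans inf_le_left)).hom b = (g.appLE V U₁ (h.trans inf_le_right)).hom b := by
    intro t
    induction t using Finset.induction_on with
    | empty => exact ⟨_, hxU₀, le_rfl, by simp⟩
    | insert b t hb ih =>
      obtain ⟨U₁, hxU₁, h₁, H₁⟩ := ih
      have hgerm : X.presheaf.germ _ x hxU₀ ((f.appLE V (f ⁻¹ᵁ V ⊓ g ⁻¹ᵁ V) inf_le_left).hom b) =
          X.presheaf.germ _ x hxU₀ ((g.appLE V (f ⁻¹ᵁ V ⊓ g ⁻¹ᵁ V) inf_le_right).hom b) :=
        congr($h3 b)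
      obtain ⟨U₂, hxU₂, i₁, i₂, H₂⟩ := X.presheaf.germ_eq x hxU₀ hxU₀ _ _ hgerm
      refine ⟨U₁ ⊓ U₂, ⟨hxU₁, hxU₂⟩, inf_le_left.trans h₁, ?_⟩
      intro b' hb'
      rw [Finset.mem_insert] at hb'
      rcases hb' with rfl | hb'
      · have := congr((X.presheaf.map (homOfLE (inf_le_right : U₁ ⊓ U₂ ≤ U₂)).op).hom $H₂)
        simpa only [← CommRingCat.comp_apply, Scheme.Hom.appLE_map] using this
      · have := congr((X.presheaf.map (homOfLE (inf_le_left : U₁ ⊓ U₂ ≤ U₁)).op).hom $(H₁ b' hb'))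
        simpa only [← CommRingCat.comp_apply, Scheme.Hom.appLE_map] using this
  obtain ⟨U₁, hxU₁, h₁, H₁⟩ := key t
  refine ⟨U₁, hxU₁, ?_⟩
  have happ : f.appLE V U₁ (h₁.trans inf_le_left) = g.appLE V U₁ (h₁.trans inf_le_right) := by
    ext b
    have hb : b ∈ Algebra.adjoin Γ(S, W) (t : Set Γ(Y, V)) := ht ▸ Algebra.mem_top
    induction hb using Algebra.adjoin_induction with
    | mem b hb => exact H₁ b hb
    | algebraMap r =>
      change (f.appLE V U₁ _).hom ((sY.appLE W V hVW).hom r) =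
        (g.appLE V U₁ _).hom ((sY.appLE W V hVW).hom r)
      rw [← CommRingCat.comp_apply, ← CommRingCat.comp_apply, Scheme.Hom.appLE_comp_appLE,
        Scheme.Hom.appLE_comp_appLE]
      simp only [hf, hg]
    | add a b _ _ ha hb => rw [map_add, map_add, ha, hb]
    | mul a b _ _ ha hb => rw [map_mul, map_mul, ha, hb]
  rw [← Scheme.Hom.resLE_comp_ι _ (h₁.trans inf_le_left),
    ← Scheme.Hom.resLE_comp_ι _ (h₁.trans inf_le_right)]
  congr 1
  have : IsAffine V := hV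
  suffices ∀ (U₀ V₀) (eU : U₁ = U₀) (eV : V = V₀),
      f.appLE V₀ U₀ (eU ▸ eV ▸ h₁.trans inf_le_left) =
        g.appLE V₀ U₀ (eU ▸ eV ▸ h₁.trans inf_le_right) by
    rw [← cancel_mono V.toScheme.isoSpec.hom]
    simp only [Scheme.isoSpec, asIso_hom, Scheme.toSpecΓ_naturality,
      Scheme.Hom.app_eq_appLE, Scheme.Hom.resLE_appLE]
    congr 2
    apply this <;> simp
  rintro U V rfl rfl
  exact happ

end Groth.Agent.S4364
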