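import Groth.Statements.S4344
-- import your own Groth.Agent.* helpers here

set_option autoImplicit false
universe u
open RatMapD

namespace Groth.Agent.S4344

set_option backward.isDefEq.respectTransparency false in
open AlgebraicGeometry CategoryTheory Limits in
theorem aux
    (S X Y : Scheme.{u}) [X.Over S] [Y.Over S] [IsReduced X] [IsSeparated (Y ↘ S)]
    (f : X ⤏ Y) [f.IsOver S] :
    ∃ g : X.PartialMap Y, g.IsOver S ∧ g.toRationalMap = f ∧
      ∀ h : X.PartialMap Y, h.IsOver S → h.toRationalMap = f →
        ∃ hle : h.domain ≤ g.domain, h = g.restrict h.domain h.dense_domain hle := by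
  let I := {h : X.PartialMap Y // h.IsOver S ∧ h.toRationalMap = f}
  obtain ⟨h₀, hh₀, hh₀'⟩ := Scheme.RationalMap.exists_partialMap_over S f
  let D : X.Opens := ⨆ i : I, i.1.domain
  have hle : ∀ i : I, i.1.domain ≤ D := fun i => le_iSup (fun i : I => i.1.domain) i
  have hD : Dense (D : Set X) := h₀.dense_domain.mono (hle ⟨h₀, hh₀, hh₀'⟩)
  let 𝒰 : D.toScheme.OpenCover :=
  { I₀ := I
    X := fun i => i.1.domain.toScheme
    f := fun i => X.homOfLE (hle i)
    mem₀ := by
      rw [Scheme.presieve₀_mem_precoverage_iff]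
      refine ⟨fun x ↦ ?_, inferInstance⟩
      obtain ⟨i, hi⟩ := TopologicalSpace.Opens.mem_iSup.mp x.2
      exact ⟨i, ⟨x.1, hi⟩, Subtype.ext (by simp)⟩ }
  obtain ⟨φ, hφ⟩ : ∃ φ : D.toScheme ⟶ Y, ∀ i : I, X.homOfLE (hle i) ≫ φ = i.1.hom := by
    refine ⟨𝒰.glueMorphisms (fun i => i.1.hom) ?_, fun i => 𝒰.ι_glueMorphisms _ _ i⟩
    intro i j
    have := i.2.1
    have := j.2.1
    refine (cancel_epi (isPullback_opens_inf_le (hle i) (hle j)).isoPullback.hom).mp ?_
    simp only [𝒰, IsPullback.isoPullback_hom_fst_assoc, IsPullback.isoPullback_hom_snd_assoc]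
    exact (Scheme.PartialMap.equiv_iff_of_isSeparated (S := S) (f := i.1) (g := j.1)).mp
      (by rw [← Scheme.PartialMap.toRationalMap_eq_iff, i.2.2, j.2.2])
  let g : X.PartialMap Y := ⟨D, hD, φ⟩
  have hg_restrict : ∀ i : I, X.homOfLE (hle i) ≫ g.hom = i.1.hom := hφ
  have hgS : g.IsOver S := by
    constructor
    apply 𝒰.hom_ext
    intro i
    have := i.2.1
    change X.homOfLE (hle i) ≫ g.hom ≫ (Y ↘ S) = X.homOfLE (hle i) ≫ D.ι ≫ (X ↘ S)
    rw [← Category.assoc, hg_restrict, comp_over i.1.hom S]
    simp
  refine ⟨g, hgS, ?_, ?_⟩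
  · rw [← hh₀', ← g.restrict_toRationalMap h₀.domain h₀.dense_domain (hle ⟨h₀, hh₀, hh₀'⟩)]
    congr 1
    exact Scheme.PartialMap.ext _ _ rfl (by simpa using hg_restrict ⟨h₀, hh₀, hh₀'⟩)
  · intro h hh hh'
    refine ⟨hle ⟨h, hh, hh'⟩, ?_⟩
    exact Scheme.PartialMap.ext _ _ rfl (by simpa using (hg_restrict ⟨h, hh, hh'⟩).symm)

open AlgebraicGeometry in
open CategoryTheory in
/-- Let X be a reduced S-scheme, Y an S-scheme separated over S and f an S-rational map from X to Y.
There is a representative g of f which is an S-morphism and of which every S-morphism representing f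
is a restriction; in particular g is the unique S-morphism of the class of f defined on the largest
open where some S-representative is defined. (The published statement speaks of the domain of
definition among all representatives; over a base that is not separated that domain can be larger
than the one on which an S-representative exists, and this row takes the latter.) -/
theorem result
    (S X Y : Scheme.{u}) [X.Over S] [Y.Over S] [IsReduced X] [IsSeparated (Y ↘ S)]
    (f : X ⤏ Y) [f.IsOver S] :
    ∃ g : X.PartialMap Y, g.IsOver S ∧ g.toRationalMap = f ∧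
      ∀ h : X.PartialMap Y, h.IsOver S → h.toRationalMap = f →
        ∃ hle : h.domain ≤ g.domain, h = g.restrict h.domain h.dense_domain hle := by
  exact aux S X Y f

end Groth.Agent.S4344
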