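import Groth.Statements.S4345
import Groth.Agent.Lib.Helper85.LocalSubringOfPrime

set_option autoImplicit false
universe u
open SchLoc

namespace Groth.Agent.S4345

/-- Let A and B be subrings of a field R, C the subring generated by A and B, and for a subring E let
L(E) be the set of local subrings E_p of R, p a prime ideal of E. The following are equivalent: (i)
for every local subring Q of R containing A and B, the localizations of A and of B at the traces of
the maximal ideal of Q coincide; (ii) for every prime ideal r of C the localizations of A and B at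
the traces of r coincide; (iii) two members of L(A) and L(B) dominated by a common local subring of
R are equal; (iv) the intersection of L(A) and L(B) is L(C). -/
theorem result
    (R : Type u) [Field R] (A B : Subring R) :
    [ ∀ (Q : LocalSubring R) (hA : A ≤ Q.toSubring) (hB : B ≤ Q.toSubring),
        LocalSubring.ofPrime A ((IsLocalRing.maximalIdeal Q.toSubring).comap (Subring.inclusion hA)) =
          LocalSubring.ofPrime B ((IsLocalRing.maximalIdeal Q.toSubring).comap (Subring.inclusion hB)),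
      ∀ r : PrimeSpectrum ↥(A ⊔ B),
        LocalSubring.ofPrime A (r.asIdeal.comap (Subring.inclusion (le_sup_left : A ≤ A ⊔ B))) =
          LocalSubring.ofPrime B (r.asIdeal.comap (Subring.inclusion (le_sup_right : B ≤ A ⊔ B))),
      ∀ (p : PrimeSpectrum A) (q : PrimeSpectrum B),
        (∃ Q : LocalSubring R, LocalSubring.ofPrime A p.asIdeal ≤ Q ∧ LocalSubring.ofPrime B q.asIdeal ≤ Q) →
          LocalSubring.ofPrime A p.asIdeal = LocalSubring.ofPrime B q.asIdeal,
      Set.range (fun p : PrimeSpectrum A ↦ LocalSubring.ofPrime A p.asIdeal) ∩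
          Set.range (fun q : PrimeSpectrum B ↦ LocalSubring.ofPrime B q.asIdeal) =
        Set.range (fun r : PrimeSpectrum ↥(A ⊔ B) ↦ LocalSubring.ofPrime (A ⊔ B) r.asIdeal) ].TFAE := by
  have hAC : A ≤ A ⊔ B := le_sup_left
  have hBC : B ≤ A ⊔ B := le_sup_right
  -- traces of the maximal ideal of `C_r`
  have htrA : ∀ (r : PrimeSpectrum ↥(A ⊔ B)) (hA : A ≤ (LocalSubring.ofPrime (A ⊔ B) r.asIdeal).toSubring),
      (IsLocalRing.maximalIdeal (LocalSubring.ofPrime (A ⊔ B) r.asIdeal).toSubring).comap
        (Subring.inclusion hA) = r.asIdeal.comap (Subring.inclusion hAC) := by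
    intro r hA
    rw [← Groth.Agent.Lib.Helper85.LocalSubringAux.comap_comap_inclusion hAC (LocalSubring.le_ofPrime _ _) hA,
      Groth.Agent.Lib.Helper85.LocalSubringAux.comap_maximalIdeal_ofPrime]
  have htrB : ∀ (r : PrimeSpectrum ↥(A ⊔ B)) (hB : B ≤ (LocalSubring.ofPrime (A ⊔ B) r.asIdeal).toSubring),
      (IsLocalRing.maximalIdeal (LocalSubring.ofPrime (A ⊔ B) r.asIdeal).toSubring).comap
        (Subring.inclusion hB) = r.asIdeal.comap (Subring.inclusion hBC) := by
    intro r hB
    rw [← Groth.Agent.Lib.Helper85.LocalSubringAux.comap_comap_inclusion hBC (LocalSubring.le_ofPrime _ _) hB,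
      Groth.Agent.Lib.Helper85.LocalSubringAux.comap_maximalIdeal_ofPrime]
  tfae_have 1 → 3 := by
    intro h1 p q ⟨Q, hpQ, hqQ⟩
    have hA : A ≤ Q.toSubring := (LocalSubring.le_ofPrime A p.asIdeal).trans hpQ.1
    have hB : B ≤ Q.toSubring := (LocalSubring.le_ofPrime B q.asIdeal).trans hqQ.1
    have := h1 Q hA hB
    rwa [Groth.Agent.Lib.Helper85.LocalSubringAux.ofPrime_congr A
        (Groth.Agent.Lib.Helper85.LocalSubringAux.comap_maximalIdeal_eq_of_ofPrime_le A p.asIdeal Q hpQ hA),
      Groth.Agent.Lib.Helper85.LocalSubringAux.ofPrime_congr B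
        (Groth.Agent.Lib.Helper85.LocalSubringAux.comap_maximalIdeal_eq_of_ofPrime_le B q.asIdeal Q hqQ hB)] at this
  tfae_have 3 → 1 := by
    intro h3 Q hA hB
    exact h3 ⟨(IsLocalRing.maximalIdeal Q.toSubring).comap (Subring.inclusion hA), inferInstance⟩
      ⟨(IsLocalRing.maximalIdeal Q.toSubring).comap (Subring.inclusion hB), inferInstance⟩
      ⟨Q, Groth.Agent.Lib.Helper85.LocalSubringAux.ofPrime_comap_maximalIdeal_le Q A hA,
        Groth.Agent.Lib.Helper85.LocalSubringAux.ofPrime_comap_maximalIdeal_le Q B hB⟩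
  tfae_have 1 → 2 := by
    intro h1 r
    have hA : A ≤ (LocalSubring.ofPrime (A ⊔ B) r.asIdeal).toSubring :=
      hAC.trans (LocalSubring.le_ofPrime _ _)
    have hB : B ≤ (LocalSubring.ofPrime (A ⊔ B) r.asIdeal).toSubring :=
      hBC.trans (LocalSubring.le_ofPrime _ _)
    have := h1 (LocalSubring.ofPrime (A ⊔ B) r.asIdeal) hA hB
    rwa [Groth.Agent.Lib.Helper85.LocalSubringAux.ofPrime_congr A (htrA r hA),
      Groth.Agent.Lib.Helper85.LocalSubringAux.ofPrime_congr B (htrB r hB)] at this
  tfae_have 2 → 1 := by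
    intro h2 Q hA hB
    have hC : A ⊔ B ≤ Q.toSubring := sup_le hA hB
    have := h2 ⟨(IsLocalRing.maximalIdeal Q.toSubring).comap (Subring.inclusion hC), inferInstance⟩
    rwa [Groth.Agent.Lib.Helper85.LocalSubringAux.ofPrime_congr A
        (Groth.Agent.Lib.Helper85.LocalSubringAux.comap_comap_inclusion hAC hC hA _),
      Groth.Agent.Lib.Helper85.LocalSubringAux.ofPrime_congr B
        (Groth.Agent.Lib.Helper85.LocalSubringAux.comap_comap_inclusion hBC hC hB _)] at this
  tfae_have 2 → 4 := by
    intro h2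
    -- under (ii), `C_r = A_{r ∩ A}`
    have key : ∀ (r : Ideal ↥(A ⊔ B)) [r.IsPrime], LocalSubring.ofPrime (A ⊔ B) r =
        LocalSubring.ofPrime A (r.comap (Subring.inclusion hAC)) := by
      intro r _
      apply Groth.Agent.Lib.Helper85.LocalSubringAux.ofPrime_eq_ofPrime_comap hAC
      refine sup_le (LocalSubring.le_ofPrime _ _) ?_
      rw [h2 ⟨r, inferInstance⟩]
      exact LocalSubring.le_ofPrime _ _
    apply Set.Subset.antisymm
    · rintro D ⟨⟨p, rfl⟩, ⟨q, hq⟩⟩
      simp only at hq
      have hC : A ⊔ B ≤ (LocalSubring.ofPrime A p.asIdeal).toSubring := by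
        refine sup_le (LocalSubring.le_ofPrime _ _) ?_
        rw [← hq]
        exact LocalSubring.le_ofPrime _ _
      refine ⟨⟨(IsLocalRing.maximalIdeal (LocalSubring.ofPrime A p.asIdeal).toSubring).comap
        (Subring.inclusion hC), inferInstance⟩, ?_⟩
      simp only
      rw [key]
      apply Groth.Agent.Lib.Helper85.LocalSubringAux.ofPrime_congr
      rw [Groth.Agent.Lib.Helper85.LocalSubringAux.comap_comap_inclusion hAC hC (LocalSubring.le_ofPrime _ _),
        Groth.Agent.Lib.Helper85.LocalSubringAux.comap_maximalIdeal_ofPrime]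
    · rintro D ⟨r, rfl⟩
      simp only
      refine ⟨⟨⟨r.asIdeal.comap (Subring.inclusion hAC), inferInstance⟩, (key r.asIdeal).symm⟩,
        ⟨⟨r.asIdeal.comap (Subring.inclusion hBC), inferInstance⟩, ?_⟩⟩
      simp only
      rw [← h2 r, key r.asIdeal]
  tfae_have 4 → 2 := by
    intro h4 r
    have hr : LocalSubring.ofPrime (A ⊔ B) r.asIdeal ∈
        Set.range (fun r : PrimeSpectrum ↥(A ⊔ B) ↦ LocalSubring.ofPrime (A ⊔ B) r.asIdeal) :=
      ⟨r, rfl⟩
    rw [← h4] at hr
    obtain ⟨⟨p, hp⟩, ⟨q, hq⟩⟩ := hr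
    simp only at hp hq
    have hA : A ≤ (LocalSubring.ofPrime (A ⊔ B) r.asIdeal).toSubring :=
      hAC.trans (LocalSubring.le_ofPrime _ _)
    have hB : B ≤ (LocalSubring.ofPrime (A ⊔ B) r.asIdeal).toSubring :=
      hBC.trans (LocalSubring.le_ofPrime _ _)
    have hpA : r.asIdeal.comap (Subring.inclusion hAC) = p.asIdeal := by
      rw [← htrA r hA]
      exact Groth.Agent.Lib.Helper85.LocalSubringAux.comap_maximalIdeal_eq_of_ofPrime_le A p.asIdeal _ (le_of_eq hp) hA
    have hqB : r.asIdeal.comap (Subring.inclusion hBC) = q.asIdeal := by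
      rw [← htrB r hB]
      exact Groth.Agent.Lib.Helper85.LocalSubringAux.comap_maximalIdeal_eq_of_ofPrime_le B q.asIdeal _ (le_of_eq hq) hB
    rw [Groth.Agent.Lib.Helper85.LocalSubringAux.ofPrime_congr A hpA, Groth.Agent.Lib.Helper85.LocalSubringAux.ofPrime_congr B hqB, hp, hq]
  tfae_finish

end Groth.Agent.S4345
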