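import Groth.Statements.S4346
import Mathlib.AlgebraicGeometry.Stalk
import Mathlib.AlgebraicGeometry.Morphisms.Separated

set_option autoImplicit false
universe u
open SchLoc

namespace Groth.Agent.S4346

open AlgebraicGeometry CategoryTheory in
theorem aux (X : Scheme.{u}) [IsIntegral X] [X.IsSeparated] :
    Function.Injective (fun x : X ↦ (algebraMap (X.presheaf.stalk x) X.functionField).range) := by
  intro x y hxy
  simp only at hxy
  have hinj : ∀ z : X, Function.Injective (algebraMap (X.presheaf.stalk z) X.functionField) := by
    intro z
    exact FaithfulSMul.algebraMap_injective _ _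
  -- the identifications of the stalks with their images
  let ex : X.presheaf.stalk x ≃+* (algebraMap (X.presheaf.stalk x) X.functionField).range :=
    RingEquiv.ofBijective (algebraMap (X.presheaf.stalk x) X.functionField).rangeRestrict
      ⟨fun a b hab => hinj x congr(($hab).1), RingHom.rangeRestrict_surjective _⟩
  let ey : X.presheaf.stalk y ≃+* (algebraMap (X.presheaf.stalk y) X.functionField).range :=
    RingEquiv.ofBijective (algebraMap (X.presheaf.stalk y) X.functionField).rangeRestrict
      ⟨fun a b hab => hinj y congr(($hab).1), RingHom.rangeRestrict_surjective _⟩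
  let ψ : X.presheaf.stalk y ≃+* X.presheaf.stalk x :=
    (ey.trans (RingEquiv.subringCongr hxy.symm)).trans ex.symm
  have hψ : ∀ a, algebraMap (X.presheaf.stalk x) X.functionField (ψ a) =
      algebraMap (X.presheaf.stalk y) X.functionField a := by
    intro a
    have h1 : ∀ s : (algebraMap (X.presheaf.stalk x) X.functionField).range,
        algebraMap (X.presheaf.stalk x) X.functionField (ex.symm s) = s.1 := by
      intro s
      obtain ⟨b, rfl⟩ := ex.surjective s
      rw [RingEquiv.symm_apply_apply]
      rfl
    exact h1 _
  let sx : X.presheaf.stalk x ⟶ X.functionField :=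
    X.presheaf.stalkSpecializes ((genericPoint_spec X).specializes (y := x) trivial)
  let sy : X.presheaf.stalk y ⟶ X.functionField :=
    X.presheaf.stalkSpecializes ((genericPoint_spec X).specializes (y := y) trivial)
  have hcomp : CommRingCat.ofHom ψ.toRingHom ≫ sx = sy := by
    ext a
    exact hψ a
  have hdom : IsDominant (Spec.map sx) := by
    rw [isDominant_iff]
    change DenseRange (PrimeSpectrum.comap _)
    rw [PrimeSpectrum.denseRange_comap_iff_ker_le_nilRadical]
    have : RingHom.ker sx.hom = ⊥ :=
      (RingHom.injective_iff_ker_eq_bot _).mp (hinj x)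
    rw [this]
    exact bot_le
  have key : X.fromSpecStalk x = Spec.map (CommRingCat.ofHom ψ.toRingHom) ≫ X.fromSpecStalk y := by
    refine ext_of_isDominant (Spec.map sx) ?_
    rw [Scheme.SpecMap_stalkSpecializes_fromSpecStalk, ← Spec.map_comp_assoc, hcomp,
      Scheme.SpecMap_stalkSpecializes_fromSpecStalk]
  have := congr($key (IsLocalRing.closedPoint _))
  rw [Scheme.fromSpecStalk_closedPoint, Scheme.Hom.comp_apply] at this
  rw [this]
  have h2 : Spec.map (CommRingCat.ofHom ψ.toRingHom) (IsLocalRing.closedPoint (X.presheaf.stalk x)) =
      IsLocalRing.closedPoint (X.presheaf.stalk y) :=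
    IsLocalRing.comap_closedPoint (ψ : X.presheaf.stalk y →+* X.presheaf.stalk x)
  rw [h2, Scheme.fromSpecStalk_closedPoint]

open AlgebraicGeometry in
/-- On an integral separated scheme distinct points have distinct local rings inside the function field. -/
theorem result (X : Scheme.{u}) [IsIntegral X] [X.IsSeparated] :
    Function.Injective (fun x : X ↦ (algebraMap (X.presheaf.stalk x) X.functionField).range) := by
  exact aux X

end Groth.Agent.S4346
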