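import Groth.Statements.S4347
import Mathlib
import Groth.Agent.Lib.Helper71.FlatCompletion

set_option autoImplicit false
universe u
open AdicRing

namespace Groth.Agent.S4347

-- HELPERS BEGIN
/-- `FSch.complMap` is compatible with the maps to the completions. -/
theorem complMap_comp_algebraMap {S T : Type u} [CommRing S] [CommRing T] (I : Ideal S)
    (K : Ideal T) (g : S →+* T) (h : I.map g ≤ K) :
    (FSch.complMap I K g h).comp (algebraMap S (AdicCompletion I S)) =
      (algebraMap T (AdicCompletion K T)).comp g := by
  refine RingHom.ext fun s => ?_
  apply AdicCompletion.ext_evalₐ
  intro n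
  simp only [RingHom.coe_comp, Function.comp_apply, FSch.complMap]
  rw [AdicCompletion.evalₐ_liftRingHom]
  · simp only [RingHom.coe_comp, Function.comp_apply, AlgHom.toRingHom_eq_coe, RingHom.coe_coe,
      AlgHom.commutes, Ideal.Quotient.algebraMap_eq, Ideal.quotientMap_mk]
  · intro m n hle
    apply RingHom.ext
    intro x
    obtain ⟨y, rfl⟩ := AdicCompletion.mk_surjective I S x
    simp only [RingHom.coe_comp, Function.comp_apply, AlgHom.toRingHom_eq_coe, AlgHom.coe_toRingHom,
      AdicCompletion.evalₐ_mk, Ideal.quotientMap_mk, Ideal.Quotient.factorPow, Ideal.Quotient.factor_mk]
    rw [Ideal.Quotient.eq]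
    have hy := y.2 hle
    rw [SModEq.sub_mem] at hy
    simp only [smul_eq_mul, Ideal.mul_top] at hy
    rw [← map_sub]
    have hy' : (y : ℕ → S) n - (y : ℕ → S) m ∈ I ^ m := by
      rw [← neg_sub]; exact (I ^ m).neg_mem hy
    exact FSch.pow_le_comap_pow_of_map_le I K g h m hy'
-- HELPERS END


/-- The completed ring of fractions of A with denominators in a multiplicative subset being the J-adic
completion of the localization of A at that subset: Let A be a Noetherian ring with the J-adic
topology and S' a multiplicative subset contained in the multiplicative subset S. Then the canonical
map from the completed ring of fractions of A with denominators in S' to the one with denominators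
in S is flat. (The published statement assumes A adic, i.e. also separated and complete; that is not
needed for this assertion.) -/
theorem result
    (A : Type u) [CommRing A] [IsNoetherianRing A] (J : Ideal A) (S' S : Submonoid A) (hS : S' ≤ S)
    (g : Localization S' →+* Localization S)
    (hg : g.comp (algebraMap A (Localization S')) = algebraMap A (Localization S))
    (hJ : (J.map (algebraMap A (Localization S'))).map g ≤ J.map (algebraMap A (Localization S))) :
    (FSch.complMap (J.map (algebraMap A (Localization S'))) (J.map (algebraMap A (Localization S)))
      g hJ).Flat := by
  have hN1 : IsNoetherianRing (Localization S') := IsLocalization.isNoetherianRing S' _ inferInstance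
  have hN2 : IsNoetherianRing (Localization S) := IsLocalization.isNoetherianRing S _ inferInstance
  have hgflat : g.Flat := by
    let _ : Algebra (Localization S') (Localization S) := g.toAlgebra
    have hst : IsScalarTower A (Localization S') (Localization S) :=
      IsScalarTower.of_algebraMap_eq' hg.symm
    have hloc : IsLocalization (Algebra.algebraMapSubmonoid (Localization S') S)
        (Localization S) :=
      IsLocalization.isLocalization_of_submonoid_le _ _ S' S hS
    exact IsLocalization.flat (Localization S) (Algebra.algebraMapSubmonoid (Localization S') S)
  exact Groth.Agent.Lib.Helper71.FlatCompletion.flat_of_completion_map _ _ g hgflat hJ _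
    (complMap_comp_algebraMap _ _ g hJ)

end Groth.Agent.S4347
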