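import Groth.Statements.S4348
import Mathlib
import Groth.Agent.Lib.Helper49.QcqsModules
import Groth.Agent.Lib.Helper49.QCohLocal

set_option autoImplicit false
universe u
open QCohSup

namespace Groth.Agent.S4348

section helpers

open AlgebraicGeometry CategoryTheory Limits TopologicalSpace

open Groth.Agent.Lib.Helper49

theorem isQuasicoherent_pullback_obj {X Y : Scheme.{u}} (f : Y ⟶ X) [IsOpenImmersion f]
    (F : X.Modules) [F.IsQuasicoherent] :
    ((Scheme.Modules.pullback f).obj F).IsQuasicoherent :=
  isQuasicoherent_of_iso ((Scheme.Modules.restrictFunctorIsoPullback f).app F)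
    (Scheme.Modules.isQuasicoherent_restrictFunctor _ _)

theorem main_S4348 {X : Scheme.{u}} (U : X.Opens) [QuasiCompact U.ι] (F : X.Modules)
    [F.IsQuasicoherent] (G : (U : Scheme.{u}).Modules) [G.IsQuasicoherent]
    (i : G ⟶ (Scheme.Modules.pullback U.ι).obj F) :
    (pullback ((Scheme.Modules.pushforward U.ι).map i)
      ((Scheme.Modules.pullbackPushforwardAdjunction U.ι).unit.app F)).IsQuasicoherent := by
  have h1 : ((Scheme.Modules.pullback U.ι).obj F).IsQuasicoherent :=
    isQuasicoherent_pullback_obj U.ι F
  have h2 : ((Scheme.Modules.pushforward U.ι).obj G).IsQuasicoherent :=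
    isQuasicoherent_pushforward G U.ι
  have h3 : ((Scheme.Modules.pushforward U.ι).obj
      ((Scheme.Modules.pullback U.ι).obj F)).IsQuasicoherent :=
    isQuasicoherent_pushforward _ U.ι
  refine isQuasicoherent_finite_limit (cospan ((Scheme.Modules.pushforward U.ι).map i)
      ((Scheme.Modules.pullbackPushforwardAdjunction U.ι).unit.app F)) ?_
  rintro (_ | _ | _)
  · exact h3
  · exact h2
  · assumption

end helpers

open AlgebraicGeometry in
open CategoryTheory in
open CategoryTheory.Limits in
/-- Let X be a scheme and U an open subscheme such that the inclusion j : U -> X is quasi-compact. For a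
quasi-coherent O_X-module F and a quasi-coherent submodule G of F|U, the canonical extension of G to
X (the preimage of j_*(G) under F -> j_*(F|U), here the fibre product in the category of
O_X-modules) is quasi-coherent. -/
theorem result
    {X : Scheme.{u}} (U : X.Opens) [QuasiCompact U.ι] (F : X.Modules) [Coh.IsQCoh F]
    (G : (U : Scheme.{u}).Modules) [Coh.IsQCoh G]
    (i : G ⟶ (Scheme.Modules.pullback U.ι).obj F) [Mono i] :
    Coh.IsQCoh (pullback ((Scheme.Modules.pushforward U.ι).map i)
      ((Scheme.Modules.pullbackPushforwardAdjunction U.ι).unit.app F)) := by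
  exact main_S4348 U F G i

end Groth.Agent.S4348
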