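import Groth.Statements.S4349
-- import your own Groth.Agent.* helpers here

set_option autoImplicit false
universe u
open RatFun

namespace Groth.Agent.S4349

open AlgebraicGeometry CategoryTheory Limits TopologicalSpace in
instance isFiltered_denseOpens (X : Scheme.{u}) :
    IsFiltered ((RatFun.IsDenseOpen X).FullSubcategory)ᵒᵖ := by
  haveI : IsCofiltered ((RatFun.IsDenseOpen X).FullSubcategory) :=
    { cone_objs := fun U U' =>
        ⟨⟨U.obj ⊓ U'.obj, by
            change Dense (((U.obj ⊓ U'.obj : X.Opens)) : Set X)
            rw [TopologicalSpace.Opens.coe_inf]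
            exact Dense.inter_of_isOpen_left U.property U'.property U.obj.isOpen⟩,
          ObjectProperty.homMk (homOfLE inf_le_left), ObjectProperty.homMk (homOfLE inf_le_right),
          trivial⟩
      cone_maps := fun U U' f g => ⟨U, 𝟙 U, by
        apply ObjectProperty.hom_ext
        exact Subsingleton.elim _ _⟩
      nonempty := ⟨⟨⊤, by
        change Dense (((⊤ : X.Opens)) : Set X)
        simp⟩⟩ }
  infer_instance

open AlgebraicGeometry CategoryTheory Limits TopologicalSpace in
theorem aux (X : Scheme.{u}) [IsReduced X]
    (V : X.Opens) (hV : Dense (V : Set X)) :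
    Function.Injective (RatFun.toRing X V hV) := by
  rw [injective_iff_map_eq_zero (RatFun.toRing X V hV).hom]
  intro s hs
  have h0 : (colimit.ι (RatFun.sectionsOnDense X) (Opposite.op ⟨V, hV⟩)) s =
      (colimit.ι (RatFun.sectionsOnDense X) (Opposite.op ⟨V, hV⟩)) 0 := by
    rw [map_zero]
    exact hs
  obtain ⟨k, f, g, hfg⟩ := (Concrete.colimit_rep_eq_iff_exists (RatFun.sectionsOnDense X)
    (i := Opposite.op ⟨V, hV⟩) (j := Opposite.op ⟨V, hV⟩) s 0).mp h0
  rw [map_zero] at hfg
  -- `k = op W`, `W ≤ V` dense
  induction k using Opposite.rec with
  | op k =>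
  obtain ⟨W, hW⟩ := k
  have hres : W ⊓ X.basicOpen s = ⊥ := by
    have h1 : X.basicOpen ((RatFun.sectionsOnDense X).map f s) = ⊥ := by
      rw [hfg]; exact X.basicOpen_zero W
    rw [← h1]
    exact (X.basicOpen_res s ((RatFun.IsDenseOpen X).ι.op.map f)).symm
  have hbot : X.basicOpen s = ⊥ := by
    by_contra hne
    have hne' : ((X.basicOpen s : X.Opens) : Set X).Nonempty := by
      rw [Set.nonempty_iff_ne_empty]
      intro h
      exact hne (TopologicalSpace.Opens.ext (by simpa using h))
    obtain ⟨x, hx1, hx2⟩ := hW.inter_open_nonempty _ (X.basicOpen s).isOpen hne'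
    have : x ∈ (W ⊓ X.basicOpen s : X.Opens) := ⟨hx2, hx1⟩
    rw [hres] at this
    exact this
  exact (AlgebraicGeometry.basicOpen_eq_bot_iff s).mp hbot

open AlgebraicGeometry in
/-- Second assertion (in the form: sections over a dense open inject into the ring of rational
functions). Let X be a reduced scheme and V a dense open subset of X. The canonical map from the
sections of O_X over V to the ring R(X) of rational functions on X is injective. (The published
statement also assumes X locally integral or locally Noetherian; that hypothesis serves the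
quasi-coherence of the sheaf of rational functions and is not needed here.) -/
theorem result (X : Scheme.{u}) [IsReduced X]
    (V : X.Opens) (hV : Dense (V : Set X)) :
    Function.Injective (RatFun.toRing X V hV) := by
  exact aux X V hV

end Groth.Agent.S4349
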