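import Groth.Statements.S4350
import Groth.Agent.Lib.Helper20.RatFun
import Groth.Agent.Lib.Helper18.ModHomMk
import Groth.Agent.Lib.Helper45.QCohStalk

set_option autoImplicit false
universe u
open TorSh

namespace Groth.Agent.S4350

open CategoryTheory AlgebraicGeometry TopologicalSpace
open Groth.Agent.Lib.Helper49 Groth.Agent.Lib.Helper20.RatFun Groth.Agent.Lib.Helper11.GenLocus

section
variable {X : Scheme.{u}} [IsIntegral X]

theorem kv_add (U : X.Opens) (hU : genericPoint X ∈ U) (σ τ : Γ(Kmod X, U)) :
    kv U hU (σ + τ) = kv U hU σ + kv U hU τ := by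
  apply (θ_bijective hU).1
  rw [map_add, θ_kv, θ_kv, θ_kv]
  rfl

/-- Inverse of `kv` as an additive map. -/
noncomputable def kvInv (U : X.Opens) (hU : genericPoint X ∈ U) :
    X.presheaf.stalk (genericPoint X) →+ Γ(Kmod X, U) where
  toFun κ := (kv_surjective U hU κ).choose
  map_zero' := by
    apply kv_injective U hU
    rw [(kv_surjective U hU 0).choose_spec, kv_zero]
  map_add' a b := by
    apply kv_injective U hU
    rw [kv_add, (kv_surjective U hU _).choose_spec, (kv_surjective U hU _).choose_spec,
      (kv_surjective U hU _).choose_spec]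

theorem kv_kvInv (U : X.Opens) (hU : genericPoint X ∈ U) (κ : X.presheaf.stalk (genericPoint X)) :
    kv U hU (kvInv U hU κ) = κ := (kv_surjective U hU κ).choose_spec

/-- A section of a quasi-coherent torsion-free module vanishing on a nonempty open is zero. -/
theorem eq_zero_of_mres_eq_zero (F : X.Modules) [Coh.IsQCoh F] (hF : TorSh.IsTorsionFree F)
    {U W : X.Opens} (hWU : W ≤ U) (hW : genericPoint X ∈ W) (s : Γ(F, U))
    (h0 : mres F hWU s = 0) : s = 0 := by
  apply TopCat.Presheaf.section_ext (toSheafAb F) U
  intro x hx
  rw [map_zero]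
  -- affine neighbourhood
  obtain ⟨V', hV, hxV, hVU'⟩ := Opens.isBasis_iff_nbhd.mp X.isBasis_affineOpens hx
  have hηV : genericPoint X ∈ V' := genericPoint_mem (U := V') hxV
  obtain ⟨g, hgle, hηg⟩ := (show IsAffineOpen V' from hV).exists_basicOpen_le
    (V := W ⊓ V') ⟨genericPoint X, ⟨hW, hηV⟩⟩ hηV
  have hF' : F.IsQuasicoherent := ‹Coh.IsQCoh F›
  have hz : mres F (X.basicOpen_le g) (mres F hVU' s) = 0 := by
    rw [mres_mres]
    have hle : X.basicOpen g ≤ W := hgle.trans inf_le_left
    rw [← mres_mres F hle hWU, h0, map_zero]
  obtain ⟨n, hn⟩ := Lib.Helper45.exists_pow_smul_eq_zero_of_restrict_eq_zero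
    (show IsAffineOpen V' from hV) F g (mres F hVU' s) hz
  have h1 := congrArg (F.presheaf.germ V' x hxV) hn
  rw [Lib.Helper45.germ_smul, map_zero, map_pow] at h1
  have hg0 : X.presheaf.germ V' x hxV g ≠ 0 := by
    intro h
    have : g = 0 := by
      apply germ_injective_of_isIntegral X x hxV
      rw [h, map_zero]
    rw [this] at hηg
    simp at hηg
  have hreg : IsRegular (X.presheaf.germ V' x hxV g ^ n) :=
    IsRegular.of_ne_zero (pow_ne_zero n hg0)
  have h2 := (hF x).isSMulRegular hreg
  have h3 : F.presheaf.germ V' x hxV (mres F hVU' s) = 0 := by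
    apply h2
    simp only [smul_zero]
    exact h1
  rw [← h3]
  exact (TopCat.Presheaf.germ_res_apply F.presheaf (homOfLE hVU') x hxV s).symm

end

open AlgebraicGeometry in
open CategoryTheory in
/-- Direct assertion (the sheaf of rational functions of the integral scheme X being the direct image of
the structure sheaf of Spec of the function field under its canonical morphism to X). On an integral
scheme, a quasi-coherent torsion-free O_X-module of rank 1, i.e. whose stalk at the generic point is
one-dimensional over the function field (for instance an invertible module), is isomorphic to a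
sub-O_X-module of the sheaf of rational functions. (The published statement adds a converse, which
for the zero submodule does not hold as stated; it is not included here.) -/
theorem result
    (X : Scheme.{u}) [IsIntegral X] (F : X.Modules) [Coh.IsQCoh F] (hF : TorSh.IsTorsionFree F)
    (h1 : Module.finrank (X.presheaf.stalk (genericPoint X)) (F.presheaf.stalk (genericPoint X)) = 1) :
    ∃ i : F ⟶ (Scheme.Modules.pushforward (X.fromSpecStalk (genericPoint X))).obj
        (Coh.structureModule (Spec (X.presheaf.stalk (genericPoint X)))), Mono i := by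
  classical
  have hfin : Module.Finite (X.presheaf.stalk (genericPoint X))
      (F.presheaf.stalk (genericPoint X)) :=
    Module.finite_of_finrank_pos (by rw [h1]; exact one_pos)
  have e2 : Module.finrank (X.presheaf.stalk (genericPoint X))
      (X.presheaf.stalk (genericPoint X)) = 1 := Module.finrank_self _
  let φ : F.presheaf.stalk (genericPoint X) ≃ₗ[X.presheaf.stalk (genericPoint X)]
      X.presheaf.stalk (genericPoint X) := LinearEquiv.ofFinrankEq _ _ (h1.trans e2.symm)
  let a : ∀ U : X.Opens, Γ(F, U) →+ Γ(Kmod X, U) := fun U =>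
    if hU : genericPoint X ∈ U then
      (kvInv U hU).comp (φ.toLinearMap.toAddMonoidHom.comp
        (F.presheaf.germ U (genericPoint X) hU).hom)
    else 0
  have ha : ∀ (U : X.Opens) (hU : genericPoint X ∈ U) (s : Γ(F, U)),
      kv U hU (a U s) = φ (F.presheaf.germ U (genericPoint X) hU s) := by
    intro U hU s
    simp only [a, dif_pos hU]
    exact kv_kvInv U hU _
  have hempty : ∀ (G : X.Modules) (U : X.Opens), genericPoint X ∉ U → ∀ s t : Γ(G, U), s = t := by
    intro G U hU s t
    apply TopCat.Presheaf.section_ext (toSheafAb G) U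
    intro x hx
    exact absurd (genericPoint_mem hx) hU
  have hres : ∀ {U V : X.Opens} (h : V ≤ U) (s : Γ(F, U)),
      mres (Kmod X) h (a U s) = a V (mres F h s) := by
    intro U V h s
    by_cases hV : genericPoint X ∈ V
    · apply kv_injective V hV
      rw [kv_res h hV, ha, ha]
      congr 1
      exact (TopCat.Presheaf.germ_res_apply F.presheaf (homOfLE h) (genericPoint X) hV s).symm
    · exact hempty _ V hV _ _
  have hsmul : ∀ (U : X.Opens) (r : Γ(X, U)) (s : Γ(F, U)), a U (r • s) = r • a U s := by
    intro U r s
    by_cases hU : genericPoint X ∈ U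
    · apply kv_injective U hU
      rw [kv_smul, ha, ha, Lib.Helper45.germ_smul, map_smul, smul_eq_mul]
    · exact hempty _ U hU _ _
  refine ⟨Lib.Helper18.ModHomMk.mkHom F (Kmod X) a hres hsmul, ?_⟩
  apply mono_of_app_injective
  intro U
  rw [injective_iff_map_eq_zero]
  intro s hs
  rw [Lib.Helper18.ModHomMk.mkHom_app] at hs
  by_cases hU : genericPoint X ∈ U
  · have h2 := ha U hU s
    rw [hs, kv_zero] at h2
    have h3 : F.presheaf.germ U (genericPoint X) hU s = 0 := by
      apply φ.injective
      rw [← h2, map_zero]
    obtain ⟨V, hVU, hηV, h0⟩ := exists_mres_eq_zero F hU s h3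
    exact eq_zero_of_mres_eq_zero F hF hVU hηV s h0
  · exact hempty _ U hU _ _

end Groth.Agent.S4350
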