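import Groth.Statements.S4356
import Groth.Agent.Lib.Helper20.RatFun

set_option autoImplicit false
universe u
open TorSh

namespace Groth.Agent.S4356

open Groth.Agent.Lib.Helper49 Groth.Agent.Lib.Helper20.RatFun

open AlgebraicGeometry in

open AlgebraicGeometry in
open CategoryTheory in
/-- Converse assertion (the sheaf of rational functions of the integral scheme X being modelled as the
direct image of the structure sheaf of Spec of the function field under its canonical morphism to
X). On an integral scheme, a nonzero quasi-coherent sub-O_X-module of the sheaf of rational
functions is torsion-free of rank 1: every stalk is a torsion-free module over the local ring, and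
the stalk at the generic point is one-dimensional over the function field. (The published statement
does not exclude the zero submodule, whose generic stalk has dimension 0; it is excluded here.) -/
theorem result
    (X : Scheme.{u}) [IsIntegral X] (G : X.Modules) [Coh.IsQCoh G]
    (i : G ⟶ (Scheme.Modules.pushforward (X.fromSpecStalk (genericPoint X))).obj
        (Coh.structureModule (Spec (X.presheaf.stalk (genericPoint X))))) [Mono i]
    (hG : ¬ Limits.IsZero G) :
    TorSh.IsTorsionFree G ∧
      Module.finrank (X.presheaf.stalk (genericPoint X)) (G.presheaf.stalk (genericPoint X)) = 1 := by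
  constructor
  · intro x
    have := isTorsionFree_stalk (X := X) x
    exact Function.Injective.moduleIsTorsionFree (stalkMapLinear i x)
      (stalkMap_injective_of_mono i x) (fun r m => (stalkMapLinear i x).map_smul r m)
  · letI : Field (X.presheaf.stalk (genericPoint X)) :=
      inferInstanceAs (Field X.functionField)
    obtain ⟨v, hv⟩ := exists_ne_zero_of_mono i hG
    obtain ⟨e, he⟩ := exists_forall_smul_eq (X := X)
    rw [finrank_eq_one_iff_of_nonzero' v hv]
    intro w
    -- images in the generic stalk of `Kmod X`
    let φ := stalkMapLinear i (genericPoint X)
    have hφ : Function.Injective φ := stalkMap_injective_of_mono i (genericPoint X)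
    obtain ⟨a, ha⟩ := he (φ v)
    obtain ⟨b, hb⟩ := he (φ w)
    have ha0 : a ≠ 0 := by
      rintro rfl
      rw [zero_smul] at ha
      exact hv (hφ (by rw [← ha, map_zero]))
    refine ⟨b * a⁻¹, hφ ?_⟩
    rw [map_smul, ← ha, ← hb, smul_smul, mul_assoc, inv_mul_cancel₀ ha0, mul_one]


end Groth.Agent.S4356
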