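import Groth.Statements.S4360
import Mathlib.AlgebraicGeometry.Noetherian

set_option autoImplicit false
universe u
open FinCond

namespace Groth.Agent.S4360

open AlgebraicGeometry in
open CategoryTheory in
/-- Let f : X -> Y be an immersion and suppose that the underlying space of Y is locally Noetherian,
i.e. every point of Y has an open neighbourhood which is a Noetherian topological space. Then f is
quasi-compact (and hence of finite type, an immersion being locally of finite type). -/
theorem result
    {X Y : Scheme.{u}} (f : X ⟶ Y) [IsImmersion f]
    (hY : ∀ y : Y, ∃ U : Y.Opens, y ∈ U ∧ TopologicalSpace.NoetherianSpace U) :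
    QuasiCompact f := by
  choose U hyU hU using hY
  have hcov : (⨆ y, U y) = ⊤ := by
    rw [eq_top_iff]; intro y _; exact TopologicalSpace.Opens.mem_iSup.mpr ⟨y, hyU y⟩
  rw [IsZariskiLocalAtTarget.iff_of_iSup_eq_top (P := @QuasiCompact) (f := f) U hcov]
  intro y
  have h1 : IsImmersion (f ∣_ U y) := inferInstance
  have h2 : TopologicalSpace.NoetherianSpace ((U y : Y.Opens) : Scheme.{u}) := hU y
  have : TopologicalSpace.NoetherianSpace ((f ⁻¹ᵁ U y : X.Opens) : Scheme.{u}) :=
    (f ∣_ U y).isEmbedding.isInducing.noetherianSpace
  exact quasiCompact_of_noetherianSpace_source _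

end Groth.Agent.S4360
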