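import Groth.Statements.S4363
-- import your own Groth.Agent.* helpers here

set_option autoImplicit false
universe u v
open RedSep
open AlgebraicGeometry CategoryTheory CategoryTheory.Limits Opposite TopologicalSpace

namespace Groth.Agent.S4363

section
/-- In a pushout square of commutative rings, the two images generate. -/
lemma closure_range_union_eq_top_of_isPushout {C A B P : CommRingCat.{u}} {f : C ⟶ A} {g : C ⟶ B}
    {inl : A ⟶ P} {inr : B ⟶ P} (h : IsPushout f g inl inr) :
    Subring.closure (Set.range inl.hom ∪ Set.range inr.hom) = ⊤ := by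
  set S : Subring P := Subring.closure (Set.range inl.hom ∪ Set.range inr.hom) with hS
  let inl' : A ⟶ CommRingCat.of S := CommRingCat.ofHom
    (inl.hom.codRestrict S (fun a => Subring.subset_closure (Or.inl ⟨a, rfl⟩)))
  let inr' : B ⟶ CommRingCat.of S := CommRingCat.ofHom
    (inr.hom.codRestrict S (fun a => Subring.subset_closure (Or.inr ⟨a, rfl⟩)))
  let incl : CommRingCat.of S ⟶ P := CommRingCat.ofHom S.subtype
  have hl : inl' ≫ incl = inl := by ext; rfl
  have hr : inr' ≫ incl = inr := by ext; rfl
  have hcomm : f ≫ inl' = g ≫ inr' := by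
    have : Mono incl := ConcreteCategory.mono_of_injective incl Subtype.val_injective
    rw [← cancel_mono incl, Category.assoc, Category.assoc, hl, hr, h.w]
  let d := h.desc inl' inr' hcomm
  have hd : d ≫ incl = 𝟙 P := by
    apply h.hom_ext
    · rw [← Category.assoc, h.inl_desc, hl, Category.comp_id]
    · rw [← Category.assoc, h.inr_desc, hr, Category.comp_id]
  rw [eq_top_iff]
  intro x _
  have := congrArg (fun φ => φ.hom x) hd
  simp only [CommRingCat.hom_comp, RingHom.coe_comp, Function.comp_apply, CommRingCat.hom_id,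
    RingHom.id_apply] at this
  rw [← this]
  exact (d.hom x).2
end

section
variable {X Y : Scheme.{u}}

lemma homOfLE_appTop' {U V : X.Opens} (e : U ≤ V) :
    (X.homOfLE e).appTop = V.topIso.hom ≫ X.presheaf.map (homOfLE e).op ≫ U.topIso.inv := by
  rw [Scheme.homOfLE_appTop]
  simp only [Scheme.Opens.topIso_hom, Scheme.Opens.topIso_inv]
  erw [← Functor.map_comp, ← Functor.map_comp]
  rfl


/-- Generic: if `R` is generated by `T`, a ring hom `φ : R → S` is surjective iff `φ '' T` generates `S`. -/
lemma surjective_iff_closure_image {R S : Type*} [CommRing R] [CommRing S] (φ : R →+* S) (T : Set R)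
    (hT : Subring.closure T = ⊤) :
    Function.Surjective φ ↔ Subring.closure (φ '' T) = ⊤ := by
  rw [← RingHom.range_eq_top, RingHom.range_eq_map, ← hT, RingHom.map_closure]

lemma closure_image_equiv_eq_top_iff {R S : Type*} [CommRing R] [CommRing S] (φ : R →+* S)
    (hφ : Function.Bijective φ) (T : Set R) :
    Subring.closure (φ '' T) = ⊤ ↔ Subring.closure T = ⊤ := by
  rw [← RingHom.map_closure]
  constructor
  · intro h
    rw [eq_top_iff]
    intro x _
    have : φ x ∈ (Subring.closure T).map φ := by rw [h]; trivial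
    obtain ⟨y, hy, hxy⟩ := this
    rwa [← hφ.1 hxy]
  · intro h
    rw [h, ← RingHom.range_eq_map, RingHom.range_eq_top]
    exact hφ.2

set_option backward.isDefEq.respectTransparency false in
lemma key [IsAffine Y] (f : X ⟶ Y) (A B : X.Opens) (hA : IsAffineOpen A) (hB : IsAffineOpen B) :
    (IsAffine (pullback A.ι B.ι) ∧ Function.Surjective (pullback.mapDesc A.ι B.ι f).appTop) ↔
    (IsAffineOpen (A ⊓ B) ∧
      Subring.closure (Set.range (X.presheaf.map (homOfLE (inf_le_left : A ⊓ B ≤ A)).op).hom ∪
        Set.range (X.presheaf.map (homOfLE (inf_le_right : A ⊓ B ≤ B)).op).hom) = ⊤) := by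
  have hpb := IsOpenImmersion.isPullback (X.homOfLE (inf_le_left : A ⊓ B ≤ A))
    (X.homOfLE (inf_le_right : A ⊓ B ≤ B)) A.ι B.ι (by simp) (by ext; simp)
  let e := hpb.isoPullback
  have he1 : e.hom ≫ pullback.fst A.ι B.ι = X.homOfLE inf_le_left := hpb.isoPullback_hom_fst
  have he2 : e.hom ≫ pullback.snd A.ι B.ι = X.homOfLE inf_le_right := hpb.isoPullback_hom_snd
  have haff : IsAffine (pullback A.ι B.ι) ↔ IsAffineOpen (A ⊓ B) :=
    ⟨fun h => IsAffine.of_isIso e.hom, fun h => by
      haveI : IsAffine (A ⊓ B).toScheme := h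
      exact IsAffine.of_isIso e.inv⟩
  rw [haff]
  refine and_congr_right fun hW => ?_
  haveI : IsAffine A.toScheme := hA
  haveI : IsAffine B.toScheme := hB
  have hP := isPushout_appTop_of_isPullback (IsPullback.of_hasPullback (A.ι ≫ f) (B.ι ≫ f))
  have hgen := closure_range_union_eq_top_of_isPushout hP
  set k := e.hom ≫ pullback.mapDesc A.ι B.ι f with hk
  have hk1 : k ≫ pullback.fst _ _ = X.homOfLE inf_le_left := by
    rw [hk, Category.assoc, pullback.lift_fst, Category.comp_id, he1]
  have hk2 : k ≫ pullback.snd _ _ = X.homOfLE inf_le_right := by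
    rw [hk, Category.assoc, pullback.lift_snd, Category.comp_id, he2]
  have hbij : Function.Bijective e.hom.appTop.hom :=
    (ConcreteCategory.isIso_iff_bijective e.hom.appTop).mp inferInstance
  have hsurj : Function.Surjective (pullback.mapDesc A.ι B.ι f).appTop ↔
      Function.Surjective k.appTop.hom := by
    rw [hk, Scheme.Hom.comp_appTop, CommRingCat.hom_comp, RingHom.coe_comp]
    exact (Function.Surjective.of_comp_iff' hbij _).symm
  rw [hsurj, surjective_iff_closure_image _ _ hgen, Set.image_union, ← Set.range_comp,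
    ← Set.range_comp, ← RingHom.coe_comp, ← RingHom.coe_comp, ← CommRingCat.hom_comp,
    ← CommRingCat.hom_comp, ← Scheme.Hom.comp_appTop, ← Scheme.Hom.comp_appTop, hk1, hk2,
    homOfLE_appTop', homOfLE_appTop']
  have hbW : Function.Bijective (A ⊓ B).topIso.inv.hom :=
    (ConcreteCategory.isIso_iff_bijective (A ⊓ B).topIso.inv).mp inferInstance
  have hsA : Function.Surjective A.topIso.hom.hom :=
    ((ConcreteCategory.isIso_iff_bijective A.topIso.hom).mp inferInstance).2
  have hsB : Function.Surjective B.topIso.hom.hom :=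
    ((ConcreteCategory.isIso_iff_bijective B.topIso.hom).mp inferInstance).2
  rw [← closure_image_equiv_eq_top_iff _ hbW, Set.image_union, ← Set.range_comp, ← Set.range_comp]
  have r1 : Set.range (A.topIso.hom ≫ X.presheaf.map (homOfLE (inf_le_left : A ⊓ B ≤ A)).op ≫
      (A ⊓ B).topIso.inv).hom = Set.range ((A ⊓ B).topIso.inv.hom ∘
        (X.presheaf.map (homOfLE (inf_le_left : A ⊓ B ≤ A)).op).hom) := by
    rw [CommRingCat.hom_comp, CommRingCat.hom_comp, RingHom.coe_comp, Set.range_comp,
      hsA.range_eq, Set.image_univ, RingHom.coe_comp]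
  have r2 : Set.range (B.topIso.hom ≫ X.presheaf.map (homOfLE (inf_le_right : A ⊓ B ≤ B)).op ≫
      (A ⊓ B).topIso.inv).hom = Set.range ((A ⊓ B).topIso.inv.hom ∘
        (X.presheaf.map (homOfLE (inf_le_right : A ⊓ B ≤ B)).op).hom) := by
    rw [CommRingCat.hom_comp, CommRingCat.hom_comp, RingHom.coe_comp, Set.range_comp,
      hsB.range_eq, Set.image_univ, RingHom.coe_comp]
  rw [r1, r2]

end


open AlgebraicGeometry in
open CategoryTheory in
/-- Let Y be an affine scheme, f : X -> Y a morphism and (U i) a cover of X by affine open subschemes.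
Then f is separated if and only if, for every pair of indices i, j, the intersection of U i and U j
is an affine open and its ring of sections is generated, as a ring, by the images of the rings of
sections of U i and of U j under the restriction maps. -/
theorem result
    {X Y : Scheme.{u}} [IsAffine Y] (f : X ⟶ Y) {ι : Type v} (U : ι → X.Opens)
    (hU : ∀ i, IsAffineOpen (U i)) (hcov : ⨆ i, U i = ⊤) :
    IsSeparated f ↔ ∀ i j, IsAffineOpen (U i ⊓ U j) ∧
      Subring.closure (Set.range (X.presheaf.map (homOfLE (inf_le_left : U i ⊓ U j ≤ U i)).op).hom ∪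
        Set.range (X.presheaf.map (homOfLE (inf_le_right : U i ⊓ U j ≤ U j)).op).hom) = ⊤ := by
  have hloc : AffineTargetMorphismProperty.IsLocal (fun (X : Scheme.{u}) (Y : Scheme.{u}) (f : X ⟶ Y) (_ : IsAffine Y) ↦ IsAffine X ∧ Function.Surjective (f.appTop)) :=
    HasAffineProperty.isLocal_affineProperty @IsClosedImmersion
  rw [IsSeparated.isSeparated_eq_diagonal_isClosedImmersion, ← HasAffineProperty.diagonal_iff @IsClosedImmersion]
  constructor
  · intro H i j
    haveI : IsAffine (U i).toScheme := hU i
    haveI : IsAffine (U j).toScheme := hU j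
    exact (key f (U i) (U j) (hU i) (hU j)).mp (H (U i).ι (U j).ι)
  · intro H
    haveI : ∀ i, IsAffine ((X.openCoverOfIsOpenCover U hcov).X i) := fun i => hU i
    refine AffineTargetMorphismProperty.diagonal_of_openCover_source f
      (X.openCoverOfIsOpenCover U hcov) ?_
    intro i j
    exact (key f (U i) (U j) (hU i) (hU j)).mpr (H i j)

end Groth.Agent.S4363
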