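import Groth.Statements.S4365
import Groth.Agent.Lib.Helper97.VarTrdeg
import Mathlib

set_option autoImplicit false
universe u
open FinCond

namespace Groth.Agent.S4365

open AlgebraicGeometry CategoryTheory in
theorem fromSpecResidueField_comp (K : Type u) [Field K] (Y : Scheme.{u})
    [Y.Over (Spec (CommRingCat.of K))] (y : Y) :
    Y.fromSpecResidueField y ≫ (Y ↘ Spec (CommRingCat.of K)) =
      Spec.map (CommRingCat.ofHom (Curv2.resMap K Y y)) := by
  set p := Y ↘ Spec (CommRingCat.of K) with hp
  have h1 : p = Y.toSpecΓ ≫ Spec.map ((Scheme.ΓSpecIso (CommRingCat.of K)).inv ≫ p.appTop) := by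
    have := Scheme.toSpecΓ_naturality p
    rw [← SpecMap_ΓSpecIso_hom] at this
    rw [Spec.map_comp, ← reassoc_of% this, ← Spec.map_comp]
    simp
  have h2 : Curv2.resMap K Y y =
      ((Scheme.ΓSpecIso (CommRingCat.of K)).inv ≫ p.appTop ≫ Y.presheaf.germ ⊤ y trivial ≫
        Y.residue y).hom := by
    rfl
  rw [h2]
  conv_lhs => rw [h1]
  unfold Scheme.fromSpecResidueField
  rw [Category.assoc, Scheme.fromSpecStalk_toSpecΓ_assoc, ← Spec.map_comp, ← Spec.map_comp]
  simp

open scoped Cardinal in
theorem exists_algHom_of_trdeg_finite (K Ω κ : Type u) [Field K] [Field Ω] [IsAlgClosed Ω]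
    [Algebra K Ω] [Field κ] [Algebra K κ]
    (t : ℕ → Ω) (ht : AlgebraicIndependent K t) (s : ℕ) (hs : Algebra.trdeg K κ = s) :
    Nonempty (κ →ₐ[K] Ω) := by
  obtain ⟨B, hB⟩ := exists_isTranscendenceBasis K κ
  have hcard : #B = s := by rw [hB.cardinalMk_eq_trdeg, hs]
  have hfin : Finite B := by
    rw [← Cardinal.lt_aleph0_iff_finite, hcard]
    exact Cardinal.natCast_lt_aleph0
  have : Countable B := Finite.to_countable
  obtain ⟨e, he⟩ := exists_injective_nat B
  have hte : AlgebraicIndependent K (t ∘ e) := ht.comp e he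
  let R₀ := Algebra.adjoin K (Set.range ((↑) : B → κ))
  let ψ : R₀ →ₐ[K] Ω := (MvPolynomial.aeval (t ∘ e)).comp hB.1.aevalEquiv.symm.toAlgHom
  have hψ : Function.Injective ψ := by
    have h1 : Function.Injective (MvPolynomial.aeval (R := K) (t ∘ e)) := hte
    exact h1.comp hB.1.aevalEquiv.symm.injective
  let _ : Algebra R₀ Ω := ψ.toRingHom.toAlgebra
  have : IsScalarTower K R₀ Ω := IsScalarTower.of_algebraMap_eq (fun r => (ψ.commutes r).symm)
  have : Module.IsTorsionFree R₀ Ω := Module.isTorsionFree_iff_algebraMap_injective.mpr hψ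
  have : Algebra.IsAlgebraic R₀ κ := hB.isAlgebraic
  let φ : κ →ₐ[R₀] Ω := IsAlgClosed.lift
  exact ⟨φ.restrictScalars K⟩

open AlgebraicGeometry in
open CategoryTheory in
/-- Let K be a field, X and Y schemes locally of finite type over K, f : X -> Y a K-morphism and Ω an
algebraically closed extension field of K of infinite transcendence degree over K (there is an
algebraically independent sequence in Ω). Then f is surjective if and only if the map it induces
from the K-points of X with values in Ω to those of Y is surjective, i.e. every K-morphism Spec Ω ->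
Y factors through f. (The published proposition assumes X and Y of finite type over K, and a later
remark of the same text extends it to X and Y locally of finite type over K, the form stated here.) -/
theorem result
    (K Ω : Type u) [Field K] [Field Ω] [IsAlgClosed Ω] [Algebra K Ω]
    (t : ℕ → Ω) (ht : AlgebraicIndependent K t)
    {X Y : Scheme.{u}} (pX : X ⟶ Spec (CommRingCat.of K)) (pY : Y ⟶ Spec (CommRingCat.of K))
    [LocallyOfFiniteType pX] [LocallyOfFiniteType pY] (f : X ⟶ Y) (hf : f ≫ pY = pX) :
    Surjective f ↔ ∀ y : Spec (CommRingCat.of Ω) ⟶ Y,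
      y ≫ pY = Spec.map (CommRingCat.ofHom (algebraMap K Ω)) →
        ∃ x : Spec (CommRingCat.of Ω) ⟶ X, x ≫ f = y := by
  constructor
  · intro hsurj y hy
    have hlf : LocallyOfFiniteType f := by
      have : LocallyOfFiniteType (f ≫ pY) := by rw [hf]; infer_instance
      exact locallyOfFiniteType_of_comp f pY
    have hq : LocallyOfFiniteType (Limits.pullback.snd f y) := inferInstance
    have hqs : Surjective (Limits.pullback.snd f y) := inferInstance
    obtain ⟨p₀, -⟩ := (Limits.pullback.snd f y).surjective (IsLocalRing.closedPoint Ω)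
    have hJ : JacobsonSpace ↥(Limits.pullback f y) :=
      LocallyOfFiniteType.jacobsonSpace (Limits.pullback.snd f y)
    obtain ⟨p, -, hp⟩ := nonempty_inter_closedPoints (X := ↥(Limits.pullback f y))
      (Z := Set.univ) ⟨p₀, trivial⟩ isOpen_univ.isLocallyClosed
    refine ⟨pointOfClosedPoint (Limits.pullback.snd f y) p hp ≫ Limits.pullback.fst f y, ?_⟩
    have hp' : IsClosed ({p} : Set ↥(Limits.pullback f y)) := hp
    have hc := pointOfClosedPoint_comp (Limits.pullback.snd f y) p hp'
    rw [Category.assoc, Limits.pullback.condition, ← Category.assoc]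
    exact (congrArg (· ≫ y) hc).trans (Category.id_comp y)
  · intro h
    refine ⟨fun y₀ => ?_⟩
    let _ : Y.Over (Spec (CommRingCat.of K)) := ⟨pY⟩
    have hl : LocallyOfFiniteType (Y ↘ Spec (CommRingCat.of K)) :=
      inferInstanceAs (LocallyOfFiniteType pY)
    let _ := Curv2.resAlgebra K Y y₀
    obtain ⟨s, -, hs⟩ := Groth.Agent.Lib.Helper97.VarTrdeg.exists_dim_closure_eq_trdeg K Y y₀
    obtain ⟨φ⟩ := exists_algHom_of_trdeg_finite K Ω (Y.residueField y₀) t ht s hs
    have hy : (Spec.map (CommRingCat.ofHom φ.toRingHom) ≫ Y.fromSpecResidueField y₀) ≫ pY =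
        Spec.map (CommRingCat.ofHom (algebraMap K Ω)) := by
      have h1 := fromSpecResidueField_comp K Y y₀
      have h2 : Y ↘ Spec (CommRingCat.of K) = pY := rfl
      rw [h2] at h1
      rw [Category.assoc, h1, ← Spec.map_comp]
      congr 1
      ext r
      exact φ.commutes r
    obtain ⟨x, hx⟩ := h _ hy
    let pt : ↥(Spec (CommRingCat.of Ω)) := IsLocalRing.closedPoint Ω
    refine ⟨x pt, ?_⟩
    have h3 : (x ≫ f) pt = f (x pt) := Scheme.Hom.comp_apply x f pt
    rw [← h3, hx, Scheme.Hom.comp_apply]
    exact Scheme.fromSpecResidueField_apply y₀ _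

end Groth.Agent.S4365
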