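import Groth.Statements.S4369
-- import your own Groth.Agent.* helpers here

set_option autoImplicit false
universe u
open AffSch

namespace Groth.Agent.S4369

/-- Let φ : A' -> A be a ring homomorphism such that every f in A can be written f = h φ(f') with h
invertible in A (this holds in particular when φ is surjective). Then the associated continuous map
Spec A -> Spec A' is a homeomorphism onto its image. -/
theorem result
    {A' A : Type u} [CommRing A'] [CommRing A] (φ : A' →+* A)
    (h : ∀ f : A, ∃ (u : Aˣ) (f' : A'), f = (u : A) * φ f') :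
    Topology.IsEmbedding (PrimeSpectrum.comap φ) := by
  refine ⟨⟨TopologicalSpace.ext_isClosed fun Z ↦ ?_⟩, ?_⟩
  · simp_rw [isClosed_induced_iff, PrimeSpectrum.isClosed_iff_zeroLocus,
      @eq_comm _ _ (PrimeSpectrum.zeroLocus _), exists_exists_eq_and,
      PrimeSpectrum.preimage_comap_zeroLocus]
    constructor
    · rintro ⟨s, rfl⟩
      refine ⟨{f' | ∃ f ∈ s, ∃ u : Aˣ, f = u * φ f'}, ?_⟩
      ext p
      simp only [PrimeSpectrum.mem_zeroLocus, Set.subset_def]
      constructor
      · intro hp f hf
        obtain ⟨u, f', rfl⟩ := h f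
        exact p.asIdeal.mul_mem_left _ (hp _ ⟨f', ⟨_, hf, u, rfl⟩, rfl⟩)
      · rintro hp _ ⟨f', ⟨f, hf, u, rfl⟩, rfl⟩
        have := hp _ hf
        exact (Ideal.unit_mul_mem_iff_mem p.asIdeal u.isUnit).mp this
    · rintro ⟨s, rfl⟩
      exact ⟨_, rfl⟩
  · intro p q hpq
    ext f
    obtain ⟨u, f', rfl⟩ := h f
    rw [Ideal.unit_mul_mem_iff_mem _ u.isUnit, Ideal.unit_mul_mem_iff_mem _ u.isUnit]
    have := congrArg (fun x => f' ∈ x.asIdeal) hpq
    simpa using this

end Groth.Agent.S4369
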