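import Groth.Statements.S4370
import Groth.Agent.S4368
import Mathlib.AlgebraicGeometry.Morphisms.ClosedImmersion

set_option autoImplicit false
universe u
open RedSep

namespace Groth.Agent.S4370

open AlgebraicGeometry in
open CategoryTheory in
/-- Let f : X -> Y be an open immersion and let g : X_red -> Y_red be the morphism of reduced schemes
induced by f, i.e. the morphism between the closed subschemes defined by the nilradicals whose
composite with the inclusion of Y_red in Y is the inclusion of X_red in X followed by f. Then g is
an open immersion. -/
theorem result
    {X Y : Scheme.{u}} (f : X ⟶ Y) [IsOpenImmersion f]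
    (g : X.nilradical.subscheme ⟶ Y.nilradical.subscheme)
    (hg : g ≫ Y.nilradical.subschemeι = X.nilradical.subschemeι ≫ f) :
    IsOpenImmersion g := by
  have hYred : IsReduced Y.nilradical.subscheme :=
    (Groth.Agent.S4368.result Y Y.nilradical Y.support_nilradical).mpr rfl
  let h : X.nilradical.subscheme ⟶ Limits.pullback f Y.nilradical.subschemeι :=
    Limits.pullback.lift X.nilradical.subschemeι g hg.symm
  have h1 : h ≫ Limits.pullback.fst _ _ = X.nilradical.subschemeι := Limits.pullback.lift_fst _ _ _
  have h2 : h ≫ Limits.pullback.snd _ _ = g := Limits.pullback.lift_snd _ _ _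
  have : IsReduced (Limits.pullback f Y.nilradical.subschemeι) :=
    isReduced_of_isOpenImmersion (Limits.pullback.snd _ _)
  have hc : IsClosedImmersion (h ≫ Limits.pullback.fst f Y.nilradical.subschemeι) := by
    rw [h1]; infer_instance
  have : IsClosedImmersion h :=
    IsClosedImmersion.of_comp_isClosedImmersion h (Limits.pullback.fst f Y.nilradical.subschemeι)
  have : Surjective h := by
    constructor
    intro p
    have hs : Function.Surjective X.nilradical.subschemeι := by
      rw [← Set.range_eq_univ, Scheme.IdealSheafData.range_subschemeι, X.support_nilradical]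
      rfl
    obtain ⟨x, hx⟩ := hs (Limits.pullback.fst f Y.nilradical.subschemeι p)
    refine ⟨x, (Limits.pullback.fst f Y.nilradical.subschemeι).isEmbedding.injective ?_⟩
    rw [← hx, ← h1]
    rfl
  have : IsIso h := isIso_of_isClosedImmersion_of_surjective h
  rw [← h2]
  infer_instance

end Groth.Agent.S4370
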