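import Groth.Statements.S4371
import Mathlib.Algebra.MvPolynomial.Division
-- import your own Groth.Agent.* helpers here

set_option autoImplicit false
universe u
open RedSep
open AlgebraicGeometry CategoryTheory Opposite TopologicalSpace

namespace Groth.Agent.S4371

section
variable {R : Type u} [CommRing R]

/-- local algebra structure on sections of `Spec R`. -/
noncomputable abbrev secAlg (U : (Spec (.of R)).Opens) : Algebra R Γ(Spec (.of R), U) :=
  StructureSheaf.openAlgebra (R := R) (op U)

attribute [local instance] secAlg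

lemma res_algebraMap {U V : (Spec (.of R)).Opens} (h : U ≤ V) (r : R) :
    ((Spec (.of R)).presheaf.map (homOfLE h).op).hom (algebraMap R Γ(Spec (.of R), V) r) =
      algebraMap R Γ(Spec (.of R), U) r := rfl

instance (r : R) : IsLocalization.Away r Γ(Spec (.of R), PrimeSpectrum.basicOpen r) :=
  StructureSheaf.IsLocalization.to_basicOpen (R := R) r

lemma injective_algebraMap_of_basicOpen_le [IsDomain R] {U : (Spec (.of R)).Opens} (r : R) (hr : r ≠ 0)
    (h : PrimeSpectrum.basicOpen r ≤ U) : Function.Injective (algebraMap R Γ(Spec (.of R), U)) := by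
  have h1 : Function.Injective (algebraMap R Γ(Spec (.of R), PrimeSpectrum.basicOpen r)) :=
    IsLocalization.injective _ (powers_le_nonZeroDivisors_of_noZeroDivisors hr)
  intro a b hab
  apply h1
  rw [← res_algebraMap h, ← res_algebraMap h, hab]

end

section
variable {R : Type u} [CommRing R]
attribute [local instance] secAlg

lemma surjective_algebraMap_sup [IsDomain R] (s t : R) (hs : Prime s) (ht : t ≠ 0) (hst : ¬ s ∣ t) :
    Function.Surjective (algebraMap R
      Γ(Spec (.of R), (PrimeSpectrum.basicOpen s ⊔ PrimeSpectrum.basicOpen t : Opens (PrimeSpectrum R)))) := by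
  set Ds : (Spec (.of R)).Opens := PrimeSpectrum.basicOpen s with hDs
  set Dt : (Spec (.of R)).Opens := PrimeSpectrum.basicOpen t with hDt
  set U : (Spec (.of R)).Opens := Ds ⊔ Dt with hU
  set W : (Spec (.of R)).Opens := PrimeSpectrum.basicOpen (s * t) with hW
  have hsU : Ds ≤ U := le_sup_left
  have htU : Dt ≤ U := le_sup_right
  have hWs : W ≤ Ds := by rw [hW, PrimeSpectrum.basicOpen_mul]; exact inf_le_left
  have hWt : W ≤ Dt := by rw [hW, PrimeSpectrum.basicOpen_mul]; exact inf_le_right
  have hst0 : s * t ≠ 0 := mul_ne_zero hs.ne_zero ht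
  have hinjW : Function.Injective (algebraMap R Γ(Spec (.of R), W)) :=
    injective_algebraMap_of_basicOpen_le (s * t) hst0 le_rfl
  intro c
  set a := ((Spec (.of R)).presheaf.map (homOfLE hsU).op).hom c with ha
  set b := ((Spec (.of R)).presheaf.map (homOfLE htU).op).hom c with hb
  obtain ⟨⟨f, ⟨_, n, rfl⟩⟩, hf⟩ := IsLocalization.surj (Submonoid.powers s) a
  obtain ⟨⟨g, ⟨_, m, rfl⟩⟩, hg⟩ := IsLocalization.surj (Submonoid.powers t) b
  simp only at hf hg
  -- restrict to W
  have hab : ((Spec (.of R)).presheaf.map (homOfLE hWs).op).hom a =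
      ((Spec (.of R)).presheaf.map (homOfLE hWt).op).hom b := by
    rw [ha, hb, ← CommRingCat.comp_apply, ← CommRingCat.comp_apply, ← Functor.map_comp,
      ← Functor.map_comp]
    rfl
  have hf' := congrArg ((Spec (.of R)).presheaf.map (homOfLE hWs).op).hom hf
  have hg' := congrArg ((Spec (.of R)).presheaf.map (homOfLE hWt).op).hom hg
  rw [map_mul, res_algebraMap, res_algebraMap] at hf' hg'
  have key : f * t ^ m = g * s ^ n := by
    apply hinjW
    rw [map_mul, map_mul, ← hf', ← hg', hab]
    ring
  have hdvd : s ^ n ∣ f := by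
    have h1 : s ^ n ∣ f * t ^ m := ⟨g, by rw [key]; ring⟩
    exact Prime.pow_dvd_of_dvd_mul_right hs n (fun h => hst (hs.dvd_of_dvd_pow h)) h1
  obtain ⟨h, rfl⟩ := hdvd
  have hg2 : g = h * t ^ m := by
    have : s ^ n * (h * t ^ m) = s ^ n * g := by rw [mul_comm (s ^ n) g, ← key]; ring
    exact (mul_left_cancel₀ (pow_ne_zero n hs.ne_zero) this).symm
  refine ⟨h, ?_⟩
  have hunit_s : IsUnit (algebraMap R Γ(Spec (.of R), Ds) (s ^ n)) :=
    IsLocalization.map_units _ (⟨s ^ n, n, rfl⟩ : Submonoid.powers s)
  have hunit_t : IsUnit (algebraMap R Γ(Spec (.of R), Dt) (t ^ m)) :=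
    IsLocalization.map_units _ (⟨t ^ m, m, rfl⟩ : Submonoid.powers t)
  have e1 : a = algebraMap R Γ(Spec (.of R), Ds) h := by
    apply hunit_s.mul_right_cancel
    rw [hf, map_mul]; ring
  have e2 : b = algebraMap R Γ(Spec (.of R), Dt) h := by
    apply hunit_t.mul_right_cancel
    rw [hg, hg2, map_mul]
  symm
  apply TopCat.Sheaf.eq_of_locally_eq₂ (Spec (.of R)).sheaf (homOfLE hsU) (homOfLE htU) le_rfl
  · change a = _
    rw [e1]; rfl
  · change b = _
    rw [e2]; rfl

end

section
variable {R : Type u} [CommRing R]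
attribute [local instance] secAlg

lemma eq_top_of_isAffineOpen_of_bijective (U : (Spec (.of R)).Opens) (hU : IsAffineOpen U)
    (hbij : Function.Bijective (algebraMap R Γ(Spec (.of R), U))) : U = ⊤ := by
  have htop : Function.Bijective (algebraMap R Γ(Spec (.of R), ⊤)) :=
    StructureSheaf.algebraMap_obj_top_bijective (R := R)
  have hres : Function.Bijective ((Spec (.of R)).presheaf.map (homOfLE (le_top : U ≤ ⊤)).op).hom := by
    have hcomp : algebraMap R Γ(Spec (.of R), U) =
        ((Spec (.of R)).presheaf.map (homOfLE (le_top : U ≤ ⊤)).op).hom ∘ algebraMap R Γ(Spec (.of R), ⊤) := by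
      funext r; rfl
    have := hcomp ▸ hbij
    exact (Function.Bijective.of_comp_iff _ htop).mp this
  have hiso : IsIso ((Spec (.of R)).presheaf.map (homOfLE (le_top : U ≤ ⊤)).op) :=
    (ConcreteCategory.isIso_iff_bijective _).mpr hres
  have hfs := (isAffineOpen_top (Spec (.of R))).map_fromSpec hU (homOfLE (le_top : U ≤ ⊤)).op
  have h2 : IsIso (isAffineOpen_top (Spec (.of R))).fromSpec := by
    rw [IsAffineOpen.fromSpec_top]; infer_instance
  have h3 : IsIso hU.fromSpec := by
    rw [← hfs]; infer_instance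
  have h4 : Function.Surjective hU.fromSpec := by
    have : IsHomeomorph hU.fromSpec := (hU.fromSpec.homeomorph).isHomeomorph
    exact this.surjective
  ext x
  simp only [Opens.coe_top, Set.mem_univ, iff_true]
  rw [← hU.range_fromSpec]
  exact h4 x
end


open AlgebraicGeometry in
open CategoryTheory in
/-- Let K be a field and Y = Spec K[s, t] the affine plane over K. The open subset D(s) ∪ D(t) of Y, the
complement of the closed point s = t = 0, is not affine. -/
theorem result
    (K : Type u) [Field K] :
    ¬ IsAffineOpen (X := Spec (CommRingCat.of (MvPolynomial (Fin 2) K)))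
      (PrimeSpectrum.basicOpen (MvPolynomial.X 0 : MvPolynomial (Fin 2) K) ⊔
        PrimeSpectrum.basicOpen (MvPolynomial.X 1 : MvPolynomial (Fin 2) K)) := by
  intro hU
  have hbij : Function.Bijective (@algebraMap (MvPolynomial (Fin 2) K)
      Γ(Spec (.of (MvPolynomial (Fin 2) K)), (PrimeSpectrum.basicOpen (MvPolynomial.X 0 : MvPolynomial (Fin 2) K) ⊔
        PrimeSpectrum.basicOpen (MvPolynomial.X 1 : MvPolynomial (Fin 2) K) : Opens (PrimeSpectrum _))) _ _
        (secAlg _)) := by
    refine ⟨?_, ?_⟩
    · exact injective_algebraMap_of_basicOpen_le (MvPolynomial.X 0) (MvPolynomial.X_ne_zero 0) le_sup_left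
    · exact surjective_algebraMap_sup (MvPolynomial.X 0) (MvPolynomial.X 1) MvPolynomial.X_prime
        (MvPolynomial.X_ne_zero 1) (by rw [MvPolynomial.X_dvd_X]; decide)
  have htop := eq_top_of_isAffineOpen_of_bijective _ hU hbij
  -- the origin
  let p : PrimeSpectrum (MvPolynomial (Fin 2) K) :=
    ⟨RingHom.ker (MvPolynomial.constantCoeff (R := K) (σ := Fin 2)), RingHom.ker_isPrime _⟩
  have hp : p ∈ (⊤ : (Spec (.of (MvPolynomial (Fin 2) K))).Opens) := trivial
  rw [← htop] at hp
  rcases hp with hp | hp
  · exact hp (by simp [p, RingHom.mem_ker])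
  · exact hp (by simp [p, RingHom.mem_ker])

end Groth.Agent.S4371
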