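import Groth.Statements.S4372
import Groth.Agent.Lib.Helper19.Subscheme

set_option autoImplicit false
universe u
open RedSep

namespace Groth.Agent.S4372

open AlgebraicGeometry in
open CategoryTheory in
/-- Let h : Z -> X be an immersion with Z reduced (a reduced subscheme of X), and let W be the reduced
closed subscheme of X whose underlying space is the closure of h(Z). Then Z is an open subscheme of
W: h factors as an open immersion Z -> W followed by the closed immersion W -> X. Stated as the
existence of such a factorization through a reduced scheme W closed-immersed onto the closure of the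
image. -/
theorem result
    {Z X : Scheme.{u}} (h : Z ⟶ X) [IsImmersion h] [IsReduced Z] :
    ∃ (W : Scheme.{u}) (j : Z ⟶ W) (i : W ⟶ X), IsOpenImmersion j ∧ IsClosedImmersion i ∧
      IsReduced W ∧ Set.range i = closure (Set.range h) ∧ j ≫ i = h := by
  let C : TopologicalSpace.Closeds X := ⟨closure (Set.range h), isClosed_closure⟩
  let I := Scheme.IdealSheafData.vanishingIdeal C
  have hri : Set.range I.subschemeι = closure (Set.range h) := by
    rw [Scheme.IdealSheafData.range_subschemeι, Scheme.IdealSheafData.coe_support_vanishingIdeal]
    rfl
  have hW : IsReduced I.subscheme := Groth.Agent.Lib.Helper19.isReduced_subscheme_vanishingIdeal C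
  obtain ⟨j, hj⟩ := Groth.Agent.Lib.Helper19.exists_lift_of_isReduced_of_range_subset h
    I.subschemeι (by rw [hri]; exact subset_closure)
  have himm : IsImmersion (j ≫ I.subschemeι) := by rw [hj]; infer_instance
  have : IsImmersion j := IsImmersion.of_comp j I.subschemeι
  have hd : DenseRange j := by
    rw [DenseRange, dense_iff_closure_eq]
    apply I.subschemeι.isClosedEmbedding.injective.image_injective
    rw [← I.subschemeι.isClosedEmbedding.closure_image_eq, ← Set.range_comp, Set.image_univ, hri]
    congr 1
    rw [← hj]
    rfl
  have : IsOpenImmersion j :=
    Groth.Agent.Lib.Helper19.isOpenImmersion_of_isImmersion_of_denseRange j hd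
  exact ⟨I.subscheme, j, I.subschemeι, this, inferInstance, hW, hri, hj⟩

end Groth.Agent.S4372
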