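import Groth.Statements.S4375
import Groth.Agent.Lib.Helper18.SerreSurj

set_option autoImplicit false
universe u
open CategoryTheory CategoryTheory.Limits AlgebraicGeometry
open EGA2
open Groth.Agent.Lib.Helper1

namespace Groth.Agent.S4375

/-- (c') ⇒ (a): let X be a quasi-compact separated scheme. Suppose that for every n, every
quasi-coherent O_X-module F admitting a monomorphism into the free module O_X^n, and every
epimorphism p : F → F'' onto a quasi-coherent O_X-module, the map induced by p on global sections is
surjective. Then X is affine. (The published statement also allows X to be a scheme whose underlying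
space is Noetherian; this row assumes it quasi-compact and separated.) -/
theorem result (X : Scheme.{u}) [CompactSpace X] [X.IsSeparated]
    (h : ∀ (n : ℕ) (F F'' : X.Modules) (i : F ⟶ FlatMod.freeMod X n) (p : F ⟶ F''),
      Mono i → Epi p → Coh.IsQCoh F → Coh.IsQCoh F'' →
        Function.Surjective (p.val.app (Opposite.op ⊤)).hom) :
    IsAffine X := by
  apply Groth.Agent.Lib.Helper18.SerreSurj.isAffine_of_surjective X
  · intro I
    have h1 := h 1 (Coh.structureModule X) (ClSub.quotMod I)
      (Sigma.ι (fun _ : Fin 1 => Coh.structureModule X) 0) (ClSub.toSubscheme I)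
      inferInstance inferInstance (isQuasicoherent_structureModule X)
      (isQuasicoherent_quotMod I)
    exact h1
  · intro l hl
    have h2 := h l.length (Opow X l.length) (Coh.structureModule X)
      (Groth.Agent.Lib.Helper18.SerreSurj.opowToSigma X l.length) (lin l)
      (Groth.Agent.Lib.Helper18.SerreSurj.mono_opowToSigma X _) hl (isQuasicoherent_Opow X _)
      (isQuasicoherent_structureModule X)
    obtain ⟨t, ht⟩ := h2 (1 : Γ(X, ⊤))
    exact ⟨t, ht⟩

end Groth.Agent.S4375
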