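import Groth.Statements.S4377
import Mathlib
import Groth.Agent.Lib.Helper11.AffineCrit2

set_option autoImplicit false
universe u
open CategoryTheory CategoryTheory.Limits AlgebraicGeometry
open EGA2

namespace Groth.Agent.S4377

section helpers

open CategoryTheory CategoryTheory.Limits AlgebraicGeometry TopologicalSpace Opposite
open Groth.Agent.Lib.Helper45 Groth.Agent.Lib.Helper49 Groth.Agent.Lib.Helper11.GenLocus
  Groth.Agent.Lib.Helper11.AffineCrit Groth.Agent.Lib.Helper11.AffineCrit2

theorem main_S4377 {X Y : Scheme.{u}} (f : X ⟶ Y) [IsSeparated f] [QuasiCompact f]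
    (h : ∀ (J : X.Modules) (i : J ⟶ Coh.structureModule X), Mono i → Coh.IsQCoh J →
      Limits.IsZero ((Coh.RpushAb f 1).obj (Coh.toAb J))) :
    IsAffineHom f := by
  refine ⟨fun V hV => ?_⟩
  apply isAffineOpen_of_sum_surjective (f ⁻¹ᵁ V)
    (QuasiCompact.isCompact_preimage (f := f) _ V.2 hV.isCompact)
  intro P Q a b ha hb hP hQ
  let ψ : P ⊞ Q ⟶ Coh.structureModule X := biprod.desc a b
  have hPQ : (P ⊞ Q).IsQuasicoherent := by
    have h1 := isQuasicoherent_finite_limit (pair P Q)
      (fun j => by rcases j with ⟨_ | _⟩ <;> [exact hP; exact hQ])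
    exact isQuasicoherent_of_iso (biprod.isoProd _ _).symm h1
  have hK : (Abelian.image ψ).IsQuasicoherent :=
    Groth.Agent.Lib.Helper80.SubQCoh.isQuasicoherent_of_epi_mono (Abelian.factorThruImage ψ)
      (Abelian.image.ι ψ) hPQ (isQuasicoherent_structureModule X)
  have hJ : (kernel ψ).IsQuasicoherent :=
    isQuasicoherent_kernel ψ hPQ (isQuasicoherent_structureModule X)
  have hz := h (kernel ψ) (kernel.ι ψ ≫ biprod.fst ≫ a) (mono_kernel_desc a b) hJ
  -- the short exact sequence and its image in abelian sheaves
  let E : X.Modules ⥤ Sheaf (Opens.grothendieckTopology X) AddCommGrpCat.{u} :=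
    SheafOfModules.toSheaf X.ringCatSheaf
  have hEa : E.Additive := inferInstanceAs (SheafOfModules.toSheaf X.ringCatSheaf).Additive
  have hEl : PreservesFiniteLimits E :=
    inferInstanceAs (PreservesFiniteLimits (SheafOfModules.toSheaf X.ringCatSheaf))
  have hEc : PreservesFiniteColimits E := toSheaf_preservesFiniteColimits X.ringCatSheaf
  have hS := (kerImageComplex_shortExact ψ).map_of_exact E
  have hl' : PreservesFiniteLimits (Coh.pushAb f) := by
    have h : PreservesLimitsOfSize.{0, 0} (Coh.pushAb f) :=
      (TopCat.Sheaf.pullbackPushforwardAdjunction AddCommGrpCat.{u} f.base).rightAdjoint_preservesLimits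
    exact PreservesLimitsOfSize.preservesFiniteLimits _
  have hepi1 : Epi ((Coh.pushAb f).map (E.map (Abelian.factorThruImage ψ))) :=
    epi_map_of_isZero_rightDerived_one (Coh.pushAb f) _ hS hz
  have hepi2 : Epi ((SheafOfModules.toSheaf Y.ringCatSheaf).map
      ((Scheme.Modules.pushforward f).map (Abelian.factorThruImage ψ))) := hepi1
  have hepi : Epi ((Scheme.Modules.pushforward f).map (Abelian.factorThruImage ψ)) :=
    (SheafOfModules.toSheaf Y.ringCatSheaf).epi_of_epi_map hepi2
  have h1 : ((Scheme.Modules.pushforward f).obj (P ⊞ Q)).IsQuasicoherent :=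
    isQuasicoherent_pushforward _ f
  have h2 : ((Scheme.Modules.pushforward f).obj (Abelian.image ψ)).IsQuasicoherent :=
    isQuasicoherent_pushforward _ f
  exact Groth.Agent.Lib.Helper42.app_surjective_of_epi
    ((Scheme.Modules.pushforward f).map (Abelian.factorThruImage ψ)) hV


end helpers

/-- (c') ⇒ (a): let f : X → Y be a separated quasi-compact morphism such that R¹f_*(J) = 0 (first higher
direct image of the underlying abelian sheaf) for every quasi-coherent submodule J of O_X. Then f is
an affine morphism. -/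
theorem result {X Y : Scheme.{u}} (f : X ⟶ Y) [IsSeparated f] [QuasiCompact f]
    (h : ∀ (J : X.Modules) (i : J ⟶ Coh.structureModule X), Mono i → Coh.IsQCoh J →
      Limits.IsZero ((Coh.RpushAb f 1).obj (Coh.toAb J))) :
    IsAffineHom f := by
  exact main_S4377 f h

end Groth.Agent.S4377
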