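import Groth.Statements.S4378
-- import your own Groth.Agent.* helpers here

set_option autoImplicit false
universe u
open CategoryTheory CategoryTheory.Limits AlgebraicGeometry
open EGA2

namespace Groth.Agent.S4378

set_option backward.isDefEq.respectTransparency false in
lemma comm_aux {X Y S Y' : Scheme.{u}} (q : Y ⟶ S) (f : X ⟶ Y) (i₂ : Y' ⟶ Y) :
    pullback.map f i₂ (f ≫ q) (i₂ ≫ q) (𝟙 _) (𝟙 _) q
      (Category.id_comp _).symm (Category.id_comp _).symm ≫
      pullback.map (f ≫ q) (i₂ ≫ q) q (i₂ ≫ q) f (𝟙 Y') (𝟙 S) (Category.comp_id (f ≫ q))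
      ((Category.comp_id _).trans (Category.id_comp _).symm) =
    pullback.snd f i₂ ≫ pullback.lift i₂ (𝟙 Y') (by simp) := by
  apply pullback.hom_ext
  · simp [pullback.condition]
  · simp

/-- Let q : Y → S be separated and of finite type, and f : X → Y a morphism such that X is also
separated and of finite type over S through f ≫ q. Then f is proper if and only if for every scheme
S' over S the morphism X ×_S S' → Y ×_S S' induced by f is closed (as a map of topological spaces). -/
theorem result {X Y S : Scheme.{u}} (q : Y ⟶ S) (f : X ⟶ Y)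
    [IsSeparated q] [LocallyOfFiniteType q] [QuasiCompact q]
    [IsSeparated (f ≫ q)] [LocallyOfFiniteType (f ≫ q)] [QuasiCompact (f ≫ q)] :
    IsProper f ↔ ∀ (S' : Scheme.{u}) (g : S' ⟶ S),
      IsClosedMap (pullback.map (f ≫ q) g q g f (𝟙 S') (𝟙 S) (Category.comp_id (f ≫ q))
        ((Category.comp_id g).trans (Category.id_comp g).symm)).base := by
  constructor
  · intro hf S' g
    have : IsProper (pullback.map (f ≫ q) g q g f (𝟙 S') (𝟙 S) (Category.comp_id (f ≫ q))
        ((Category.comp_id g).trans (Category.id_comp g).symm)) :=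
      MorphismProperty.pullbackMap (P := @IsProper) (f := f ≫ q) (g := g) (f' := q) (g' := g)
        (i₁ := f) (i₂ := 𝟙 S') hf inferInstance rfl (Category.id_comp g).symm
    exact Scheme.Hom.isClosedMap _
  · intro H
    have h1 : IsSeparated f := IsSeparated.of_comp f q
    have h2 : LocallyOfFiniteType f := locallyOfFiniteType_of_comp f q
    have h3 : QuasiCompact f := QuasiCompact.of_comp f q
    have h4 : UniversallyClosed f := by
      rw [universallyClosed_eq]
      intro X' Y' i₁ i₂ f' hpb
      -- the comparison `X ×_Y Y' ⟶ X ×_S Y'` is a closed immersion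
      have hj := pullback_map_diagonal_isPullback f i₂ q
      have hjc : IsClosedImmersion (pullback.map f i₂ (f ≫ q) (i₂ ≫ q) (𝟙 _) (𝟙 _) q
          (Category.id_comp _).symm (Category.id_comp _).symm) :=
        MorphismProperty.of_isPullback (P := @IsClosedImmersion) hj inferInstance
      have hF := H Y' (i₂ ≫ q)
      let e := hpb.flip.isoPullback
      have he : e.hom ≫ pullback.snd f i₂ = f' := hpb.flip.isoPullback_hom_snd
      let Γ : Y' ⟶ pullback q (i₂ ≫ q) := pullback.lift i₂ (𝟙 Y') (by simp)
      have hΓ : Γ ≫ pullback.snd q (i₂ ≫ q) = 𝟙 Y' := pullback.lift_snd _ _ _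
      have hcomm : pullback.map f i₂ (f ≫ q) (i₂ ≫ q) (𝟙 _) (𝟙 _) q
          (Category.id_comp _).symm (Category.id_comp _).symm ≫
          pullback.map (f ≫ q) (i₂ ≫ q) q (i₂ ≫ q) f (𝟙 Y') (𝟙 S) (Category.comp_id (f ≫ q))
          ((Category.comp_id _).trans (Category.id_comp _).symm) = pullback.snd f i₂ ≫ Γ := by
        exact comm_aux q f i₂
      have hΓinj : Function.Injective Γ := by
        intro a b hab
        have := congrArg (pullback.snd q (i₂ ≫ q)) hab
        rwa [← Scheme.Hom.comp_apply, ← Scheme.Hom.comp_apply, hΓ] at this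
      have hsnd : IsClosedMap (pullback.snd f i₂) := by
        intro Z hZ
        have h1 : IsClosed ((pullback.map f i₂ (f ≫ q) (i₂ ≫ q) (𝟙 _) (𝟙 _) q
          (Category.id_comp _).symm (Category.id_comp _).symm) '' Z) :=
          (Scheme.Hom.isClosedMap _) Z hZ
        have h2 := hF _ h1
        have h3 : (pullback.snd f i₂) '' Z = Γ ⁻¹' ((pullback.map (f ≫ q) (i₂ ≫ q) q (i₂ ≫ q) f (𝟙 Y') (𝟙 S) (Category.comp_id (f ≫ q))
          ((Category.comp_id _).trans (Category.id_comp _).symm)) '' ((pullback.map f i₂ (f ≫ q) (i₂ ≫ q) (𝟙 _) (𝟙 _) q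
          (Category.id_comp _).symm (Category.id_comp _).symm) '' Z)) := by
          rw [← Set.image_comp]
          have : (⇑(pullback.map (f ≫ q) (i₂ ≫ q) q (i₂ ≫ q) f (𝟙 Y') (𝟙 S) (Category.comp_id (f ≫ q))
            ((Category.comp_id _).trans (Category.id_comp _).symm)) ∘ ⇑(pullback.map f i₂ (f ≫ q) (i₂ ≫ q) (𝟙 _) (𝟙 _) q
            (Category.id_comp _).symm (Category.id_comp _).symm)) = ⇑Γ ∘ ⇑(pullback.snd f i₂) := by
            funext z
            simp only [Function.comp_apply, ← Scheme.Hom.comp_apply, hcomm]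
          rw [this, Set.image_comp, Set.preimage_image_eq _ hΓinj]
        rw [h3]
        exact h2.preimage Γ.continuous
      have : f' = e.hom ≫ pullback.snd f i₂ := he.symm
      rw [this]
      exact hsnd.comp e.hom.homeomorph.isClosedMap
    exact ⟨⟩

end Groth.Agent.S4378
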