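import Groth.Statements.S4384
import Mathlib
import Groth.Agent.Lib.Helper11.RestrictTensor
import Groth.Agent.S2328

set_option autoImplicit false
universe u
open CategoryTheory CategoryTheory.Limits AlgebraicGeometry
open EGA2

namespace Groth.Agent.S4384

section helpers

open AlgebraicGeometry CategoryTheory Limits TopologicalSpace
open Groth.Agent.Lib.Helper11.GenLocus

theorem main_S4384 {X Y : Scheme.{u}} (f : X ⟶ Y) (L L' : X.Modules)
    (hL : RelAmple.IsRelAmple f L) (hL' : RelAmple.IsRelAmple f L') :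
    RelAmple.IsRelAmple f (CohB1.tensorMod L L') := by
  refine ⟨hL.1, fun V => ?_⟩
  have h1 := hL.2 V
  have h2 := hL'.2 V
  have hc : CompactSpace ((f ⁻¹ᵁ V.1 : X.Opens) : Scheme.{u}) := h1.2.1
  have h3 := Groth.Agent.S2328.main_S2328 (↑(f ⁻¹ᵁ V.1)) _ _ h1 h2.1 (fun x => by
    obtain ⟨n, s, hx, -⟩ := h2.2.2 x
    exact ⟨n, s, hx⟩)
  exact isAmple_of_iso (restrictTensorIso (f ⁻¹ᵁ V.1).ι L L') h3

end helpers

/-- Let f : X → Y be a quasi-compact morphism and L, L' two O_X-modules ample relative to f. Then L ⊗ L'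
is ample relative to f. -/
theorem result {X Y : Scheme.{u}} (f : X ⟶ Y) [QuasiCompact f] (L L' : X.Modules)
    (hL : RelAmple.IsRelAmple f L) (hL' : RelAmple.IsRelAmple f L') :
    RelAmple.IsRelAmple f (CohB1.tensorMod L L') := by
  exact main_S4384 f L L' hL hL'

end Groth.Agent.S4384
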