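import Groth.Statements.S4385
import Mathlib
import Groth.Agent.Lib.Helper11.AmpleLocal

set_option autoImplicit false
universe u
open CategoryTheory CategoryTheory.Limits AlgebraicGeometry
open EGA2

namespace Groth.Agent.S4385

section helpers

open AlgebraicGeometry CategoryTheory Limits TopologicalSpace
open Groth.Agent.Lib.Helper11.GenLocus

theorem main_S4385 {X X' Y : Scheme.{u}} (f : X ⟶ Y) (f' : X' ⟶ Y) [QuasiCompact f]
    [QuasiCompact f'] (L'' : (X ⨿ X').Modules) :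
    RelAmple.IsRelAmple (coprod.desc f f') L'' ↔
      RelAmple.IsRelAmple f ((Scheme.Modules.pullback (coprod.inl : X ⟶ X ⨿ X')).obj L'') ∧
        RelAmple.IsRelAmple f' ((Scheme.Modules.pullback (coprod.inr : X' ⟶ X ⨿ X')).obj L'') := by
  have hA : ∀ V : Y.Opens, (coprod.inl : X ⟶ X ⨿ X') ''ᵁ (f ⁻¹ᵁ V) =
      (coprod.inl : X ⟶ X ⨿ X').opensRange ⊓ (coprod.desc f f') ⁻¹ᵁ V := by
    intro V
    rw [← Scheme.Hom.image_preimage_eq_opensRange_inf, ← Scheme.Hom.comp_preimage,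
      coprod.inl_desc]
  have hB : ∀ V : Y.Opens, (coprod.inr : X' ⟶ X ⨿ X') ''ᵁ (f' ⁻¹ᵁ V) =
      (coprod.inr : X' ⟶ X ⨿ X').opensRange ⊓ (coprod.desc f f') ⁻¹ᵁ V := by
    intro V
    rw [← Scheme.Hom.image_preimage_eq_opensRange_inf, ← Scheme.Hom.comp_preimage,
      coprod.inr_desc]
  have hcA : ∀ V : Y.affineOpens,
      IsCompact (((coprod.inl : X ⟶ X ⨿ X') ''ᵁ (f ⁻¹ᵁ V.1) : (X ⨿ X').Opens) : Set ↥(X ⨿ X')) :=
    fun V => (QuasiCompact.isCompact_preimage (f := f) V.1.1 V.1.2 V.2.isCompact).image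
      (coprod.inl : X ⟶ X ⨿ X').continuous
  have hcB : ∀ V : Y.affineOpens,
      IsCompact (((coprod.inr : X' ⟶ X ⨿ X') ''ᵁ (f' ⁻¹ᵁ V.1) : (X ⨿ X').Opens) :
        Set ↥(X ⨿ X')) :=
    fun V => (QuasiCompact.isCompact_preimage (f := f') V.1.1 V.1.2 V.2.isCompact).image
      (coprod.inr : X' ⟶ X ⨿ X').continuous
  have hsup : ∀ V : Y.Opens, (coprod.inl : X ⟶ X ⨿ X') ''ᵁ (f ⁻¹ᵁ V) ⊔
      (coprod.inr : X' ⟶ X ⨿ X') ''ᵁ (f' ⁻¹ᵁ V) = (coprod.desc f f') ⁻¹ᵁ V := by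
    intro V
    rw [hA, hB, ← inf_sup_right, (isCompl_opensRange_inl_inr X X').sup_eq_top, top_inf_eq]
  have hinf : ∀ V : Y.Opens, (coprod.inl : X ⟶ X ⨿ X') ''ᵁ (f ⁻¹ᵁ V) ⊓
      (coprod.inr : X' ⟶ X ⨿ X') ''ᵁ (f' ⁻¹ᵁ V) = ⊥ := by
    intro V
    rw [hA, hB, inf_inf_inf_comm, (isCompl_opensRange_inl_inr X X').inf_eq_bot, bot_inf_eq]
  constructor
  · intro h
    refine ⟨⟨inferInstance, fun V => ?_⟩, ⟨inferInstance, fun V => ?_⟩⟩
    · rw [isAmple_pullback_restrict_iff]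
      exact isAmple_restrict_of_le (hsup V.1 ▸ le_sup_left) (hcA V) L'' (h.2 V)
    · rw [isAmple_pullback_restrict_iff]
      exact isAmple_restrict_of_le (hsup V.1 ▸ le_sup_right) (hcB V) L'' (h.2 V)
  · rintro ⟨h1, h2⟩
    have hc : ∀ V : Y.affineOpens,
        IsCompact ((((coprod.desc f f') ⁻¹ᵁ V.1 : (X ⨿ X').Opens)) : Set ↥(X ⨿ X')) := by
      intro V
      rw [← hsup V.1]
      exact (hcA V).union (hcB V)
    refine ⟨quasiCompact_iff_forall_isAffineOpen.mpr fun V hV => hc ⟨V, hV⟩, fun V => ?_⟩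
    exact isAmple_restrict_of_isCompl L'' _ _ _ (hc V) (hsup V.1) (hinf V.1)
      ((isAmple_pullback_restrict_iff _ L'' _).mp (h1.2 V))
      ((isAmple_pullback_restrict_iff _ L'' _).mp (h2.2 V))


end helpers

/-- Let f : X → Y and f' : X' → Y be quasi-compact morphisms, X'' = X ⨿ X' their disjoint union with f''
: X'' → Y the morphism restricting to f and f', and L'' an O_{X''}-module whose inverse images L on
X and L' on X' (along the two coprojections) are invertible. Then L'' is ample relative to f'' if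
and only if L is ample relative to f and L' is ample relative to f'. -/
theorem result {X X' Y : Scheme.{u}} (f : X ⟶ Y) (f' : X' ⟶ Y) [QuasiCompact f] [QuasiCompact f']
    (L'' : (X ⨿ X').Modules)
    (hL : PicF.IsInvertible ((Scheme.Modules.pullback (coprod.inl : X ⟶ X ⨿ X')).obj L''))
    (hL' : PicF.IsInvertible ((Scheme.Modules.pullback (coprod.inr : X' ⟶ X ⨿ X')).obj L'')) :
    RelAmple.IsRelAmple (coprod.desc f f') L'' ↔
      RelAmple.IsRelAmple f ((Scheme.Modules.pullback (coprod.inl : X ⟶ X ⨿ X')).obj L'') ∧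
        RelAmple.IsRelAmple f' ((Scheme.Modules.pullback (coprod.inr : X' ⟶ X ⨿ X')).obj L'') := by
  exact main_S4385 f f' L''

end Groth.Agent.S4385
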