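import Groth.Statements.S4387
import Mathlib
import Groth.Agent.Lib.Helper11.RestrictTensor
import Groth.Agent.S2327

set_option autoImplicit false
universe u
open CategoryTheory CategoryTheory.Limits AlgebraicGeometry
open EGA2

namespace Groth.Agent.S4387

section helpers

open AlgebraicGeometry CategoryTheory Limits TopologicalSpace
open Groth.Agent.Lib.Helper11.GenLocus

theorem main_S4387 {X Y : Scheme.{u}} (f : X ⟶ Y) (L : X.Modules)
    (hL : PicF.IsInvertible L) (n : ℕ) (hn : 0 < n) :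
    RelAmple.IsRelAmple f L ↔ RelAmple.IsRelAmple f (CohB1.tensorPow L n) := by
  constructor
  · intro h
    refine ⟨h.1, fun V => ?_⟩
    have h1 := h.2 V
    have hc : CompactSpace ((f ⁻¹ᵁ V.1 : X.Opens) : Scheme.{u}) := h1.2.1
    have h3 := (Groth.Agent.S2327.main_S2327 (↑(f ⁻¹ᵁ V.1)) _
      (isInvertible_restrict' (f ⁻¹ᵁ V.1).ι hL) n hn).mp h1
    exact isAmple_of_iso (restrictTensorPowIso (f ⁻¹ᵁ V.1).ι L n) h3
  · intro h
    refine ⟨h.1, fun V => ?_⟩
    have h1 := h.2 V
    have hc : CompactSpace ((f ⁻¹ᵁ V.1 : X.Opens) : Scheme.{u}) := h1.2.1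
    have h3 := isAmple_of_iso (restrictTensorPowIso (f ⁻¹ᵁ V.1).ι L n).symm h1
    exact (Groth.Agent.S2327.main_S2327 (↑(f ⁻¹ᵁ V.1)) _
      (isInvertible_restrict' (f ⁻¹ᵁ V.1).ι hL) n hn).mpr h3

end helpers

/-- Let f : X → Y be a quasi-compact morphism, L an invertible O_X-module and n > 0 an integer. Then L
is ample relative to f if and only if L^{⊗n} is ample relative to f. -/
theorem result {X Y : Scheme.{u}} (f : X ⟶ Y) [QuasiCompact f] (L : X.Modules)
    (hL : PicF.IsInvertible L) (n : ℕ) (hn : 0 < n) :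
    RelAmple.IsRelAmple f L ↔ RelAmple.IsRelAmple f (CohB1.tensorPow L n) := by
  exact main_S4387 f L hL n hn

end Groth.Agent.S4387
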