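import Groth.Statements.S4388
import Mathlib
import Groth.Agent.Lib.Helper11.CounitEpi
import Groth.Agent.Lib.Helper11.AmpleTensorGG

set_option autoImplicit false
universe u
open CategoryTheory CategoryTheory.Limits AlgebraicGeometry
open EGA2

namespace Groth.Agent.S4388

/-- Let f : X → Y be a quasi-compact morphism, L an O_X-module ample relative to f and L' an invertible
O_X-module such that, for some n > 0, the canonical morphism f^*(f_*(L'^{⊗n})) → L'^{⊗n} (counit of
the adjunction between f^* and f_*) is an epimorphism. Then L ⊗ L' is ample relative to f. -/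
theorem result {X Y : Scheme.{u}} (f : X ⟶ Y) [QuasiCompact f] (L L' : X.Modules)
    (hL : RelAmple.IsRelAmple f L) (hL' : PicF.IsInvertible L') (n : ℕ) (hn : 0 < n)
    (hepi : Epi ((Scheme.Modules.pullbackPushforwardAdjunction f).counit.app (CohB1.tensorPow L' n))) :
    RelAmple.IsRelAmple f (CohB1.tensorMod L L') := by
  have hsep : IsSeparated f := Groth.Agent.Lib.Helper11.AmpleSeparated.isSeparated_of_isRelAmple f L hL
  have hq : (CohB1.tensorPow L' n).IsQuasicoherent :=
    Groth.Agent.Lib.Helper45.isQuasicoherent_of_isInvertible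
      (Groth.Agent.Lib.Helper11.GenLocus.isInvertible_tensorPow hL' n)
  refine ⟨hL.1, fun V => ?_⟩
  have hA := hL.2 V
  have hc : CompactSpace ((f ⁻¹ᵁ V.1 : X.Opens) : Scheme.{u}) := hA.2.1
  have h1 := Groth.Agent.Lib.Helper11.CounitEpi.isGloballyGenerated_restrict_of_epi_counit f
    (CohB1.tensorPow L' n) hepi V.1 V.2
  have h2 := Groth.Agent.Lib.Helper11.CounitEpi.IsGloballyGenerated.of_iso
    (Groth.Agent.Lib.Helper11.GenLocus.restrictTensorPowIso (f ⁻¹ᵁ V.1).ι L' n).symm h1
  have h3 := Groth.Agent.Lib.Helper11.AmpleTensorGG.isAmple_tensorMod_of_pow_isGloballyGenerated hA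
    (Groth.Agent.Lib.Helper11.GenLocus.isInvertible_restrict' (f ⁻¹ᵁ V.1).ι hL') n hn h2
  exact Groth.Agent.Lib.Helper11.GenLocus.isAmple_of_iso
    (Groth.Agent.Lib.Helper11.GenLocus.restrictTensorIso (f ⁻¹ᵁ V.1).ι L L') h3

end Groth.Agent.S4388
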