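import Groth.Statements.S4389
-- import your own Groth.Agent.* helpers here

set_option autoImplicit false
universe u
open EGA2

namespace Groth.Agent.S4389

/-- Let S be a ring graded in nonnegative degrees, S_0 its degree-zero subring, S_+ its irrelevant
ideal, and E a set of homogeneous elements of positive degree. Then E generates S_+ as an ideal of S
if and only if E generates S as an S_0-algebra. -/
theorem result {R A : Type u} [CommRing R] [CommRing A] [Algebra R A] (𝒜 : ℕ → Submodule R A) [GradedAlgebra 𝒜]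
    (E : Set A) (hE : ∀ e ∈ E, ∃ d : ℕ, 0 < d ∧ e ∈ 𝒜 d) :
    (HomogeneousIdeal.irrelevant 𝒜).toIdeal = Ideal.span E ↔ Algebra.adjoin (𝒜 0) E = ⊤ := by
  classical
  have hEirr : Ideal.span E ≤ (HomogeneousIdeal.irrelevant 𝒜).toIdeal := by
    rw [Ideal.span_le]
    intro e he
    obtain ⟨d, hd, hed⟩ := hE e he
    exact HomogeneousIdeal.mem_irrelevant_of_mem 𝒜 hd hed
  constructor
  · intro h
    have key : ∀ n : ℕ, ∀ x ∈ 𝒜 n, x ∈ Algebra.adjoin (𝒜 0) E := by
      intro n
      induction n using Nat.strong_induction_on with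
      | _ n ih =>
        intro x hx
        rcases Nat.eq_zero_or_pos n with rfl | hn
        · exact Subalgebra.algebraMap_mem _ (⟨x, hx⟩ : 𝒜 0)
        · have hx' : x ∈ Ideal.span E := h ▸ HomogeneousIdeal.mem_irrelevant_of_mem 𝒜 hn hx
          obtain ⟨c, hc, rfl⟩ := Submodule.mem_span_set.mp hx'
          have : (c.sum fun e r => r • e) = GradedRing.proj 𝒜 n (c.sum fun e r => r • e) := by
            rw [GradedRing.proj_apply, DirectSum.decompose_of_mem_same 𝒜 hx]
          rw [this, Finsupp.sum, map_sum]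
          refine Subalgebra.sum_mem _ fun e he => ?_
          obtain ⟨d, hd, hed⟩ := hE e (hc he)
          rw [smul_eq_mul, GradedRing.proj_apply, DirectSum.coe_decompose_mul_of_right_mem 𝒜 n hed]
          split_ifs with hdn
          · exact Subalgebra.mul_mem _ (ih (n - d) (by omega) _ (SetLike.coe_mem _))
              (Algebra.subset_adjoin (hc he))
          · exact Subalgebra.zero_mem _
    rw [eq_top_iff]
    intro x _
    rw [← DirectSum.sum_support_decompose 𝒜 x]
    exact Subalgebra.sum_mem _ fun n _ => key n _ (SetLike.coe_mem _)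
  · intro h
    refine le_antisymm ?_ hEirr
    have claim : ∀ y ∈ Algebra.adjoin (𝒜 0) E, ∃ a ∈ 𝒜 0, ∃ z ∈ Ideal.span E, y = a + z := by
      intro y hy
      induction hy using Algebra.adjoin_induction with
      | mem e he => exact ⟨0, zero_mem _, e, Ideal.subset_span he, by simp⟩
      | algebraMap r => exact ⟨r.1, r.2, 0, zero_mem _, by simp⟩
      | add y₁ y₂ _ _ h₁ h₂ =>
        obtain ⟨a₁, ha₁, z₁, hz₁, rfl⟩ := h₁
        obtain ⟨a₂, ha₂, z₂, hz₂, rfl⟩ := h₂
        exact ⟨a₁ + a₂, add_mem ha₁ ha₂, z₁ + z₂, add_mem hz₁ hz₂, by ring⟩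
      | mul y₁ y₂ _ _ h₁ h₂ =>
        obtain ⟨a₁, ha₁, z₁, hz₁, rfl⟩ := h₁
        obtain ⟨a₂, ha₂, z₂, hz₂, rfl⟩ := h₂
        refine ⟨a₁ * a₂, ?_, a₁ * z₂ + z₁ * a₂ + z₁ * z₂, ?_, by ring⟩
        · have := SetLike.mul_mem_graded ha₁ ha₂
          simpa using this
        · exact add_mem (add_mem (Ideal.mul_mem_left _ _ hz₂) (Ideal.mul_mem_right _ _ hz₁))
            (Ideal.mul_mem_left _ _ hz₂)
    rw [HomogeneousIdeal.irrelevant_eq_span, Ideal.span_le]
    intro x hx
    simp only [Set.mem_iUnion] at hx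
    obtain ⟨i, hi, hxi⟩ := hx
    obtain ⟨a, ha, z, hz, rfl⟩ := claim x (h ▸ Algebra.mem_top)
    have h0 : GradedRing.proj 𝒜 0 (a + z) = 0 := by
      rw [GradedRing.proj_apply, DirectSum.decompose_of_mem_ne 𝒜 hxi hi.ne']
    have hz0 : GradedRing.proj 𝒜 0 z = 0 :=
      (HomogeneousIdeal.mem_irrelevant_iff 𝒜 z).mp (hEirr hz)
    have ha0 : GradedRing.proj 𝒜 0 a = a := by
      rw [GradedRing.proj_apply, DirectSum.decompose_of_mem_same 𝒜 ha]
    rw [map_add, hz0, add_zero, ha0] at h0
    rw [h0, zero_add]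
    exact hz

end Groth.Agent.S4389
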