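import Groth.Statements.S4390
import Groth.Agent.S4389
import Mathlib.RingTheory.GradedAlgebra.FiniteType

set_option autoImplicit false
universe u
open EGA2

namespace Groth.Agent.S4390

/-- Let S be a ring graded in nonnegative degrees. Then the irrelevant ideal S_+ is a finitely generated
ideal if and only if S is an S_0-algebra of finite type. -/
theorem result {R A : Type u} [CommRing R] [CommRing A] [Algebra R A] (𝒜 : ℕ → Submodule R A) [GradedAlgebra 𝒜] :
    (HomogeneousIdeal.irrelevant 𝒜).toIdeal.FG ↔ Algebra.FiniteType (𝒜 0) A := by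
  classical
  constructor
  · rintro ⟨F, hF⟩
    let F' : Finset A := F.biUnion (fun f => (DirectSum.decompose 𝒜 f).support.image
      (fun n => (DirectSum.decompose 𝒜 f n : A)))
    have hmem : ∀ e, e ∈ (F' : Set A) ↔ ∃ f ∈ F, ∃ n ∈ (DirectSum.decompose 𝒜 f).support,
        (DirectSum.decompose 𝒜 f n : A) = e := by
      intro e
      simp only [F', Finset.coe_biUnion, Finset.coe_image, Set.mem_iUnion, Set.mem_image,
        Finset.mem_coe, exists_prop]
    have hF'E : ∀ e ∈ (F' : Set A), ∃ d : ℕ, 0 < d ∧ e ∈ 𝒜 d := by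
      intro e he
      obtain ⟨f, hf, n, hn, rfl⟩ := (hmem e).mp he
      refine ⟨n, ?_, SetLike.coe_mem _⟩
      rw [Nat.pos_iff_ne_zero]
      rintro rfl
      have hfirr : f ∈ (HomogeneousIdeal.irrelevant 𝒜).toIdeal := hF ▸ Ideal.subset_span hf
      have : (DirectSum.decompose 𝒜 f 0 : A) = 0 :=
        (HomogeneousIdeal.mem_irrelevant_iff 𝒜 f).mp hfirr
      exact (DFinsupp.mem_support_iff.mp hn) (Subtype.ext this)
    have hspan : (HomogeneousIdeal.irrelevant 𝒜).toIdeal = Ideal.span (F' : Set A) := by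
      apply le_antisymm
      · rw [← hF, Ideal.span_le]
        intro f hf
        rw [← DirectSum.sum_support_decompose 𝒜 f]
        exact Ideal.sum_mem _ fun n hn => Ideal.subset_span ((hmem _).mpr ⟨f, hf, n, hn, rfl⟩)
      · rw [Ideal.span_le]
        intro e he
        obtain ⟨d, hd, hed⟩ := hF'E e he
        exact HomogeneousIdeal.mem_irrelevant_of_mem 𝒜 hd hed
    have := (Groth.Agent.S4389.result 𝒜 (F' : Set A) hF'E).mp hspan
    exact ⟨⟨F', this⟩⟩
  · intro h
    obtain ⟨s, hs, hs'⟩ := GradedAlgebra.exists_finset_adjoin_eq_top_and_homogeneous_ne_zero 𝒜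
    have hE : ∀ e ∈ (s : Set A), ∃ d : ℕ, 0 < d ∧ e ∈ 𝒜 d := fun e he => by
      obtain ⟨n, hn, hen⟩ := hs' e he
      exact ⟨n, Nat.pos_of_ne_zero hn, hen⟩
    exact ⟨s, ((Groth.Agent.S4389.result 𝒜 (s : Set A) hE).mpr hs).symm⟩

end Groth.Agent.S4390
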