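import Groth.Statements.S4391
import Mathlib.RingTheory.GradedAlgebra.Noetherian
import Mathlib.RingTheory.GradedAlgebra.FiniteType
import Mathlib.RingTheory.GradedAlgebra.Homogeneous.Ideal
import Mathlib.RingTheory.FiniteType
import Mathlib.RingTheory.Polynomial.Basic

set_option autoImplicit false
universe u
open EGA2

namespace Groth.Agent.S4391

open DirectSum in
theorem finiteType_of_isNoetherianRing {R A : Type u} [CommRing R] [CommRing A] [Algebra R A]
    (𝒜 : ℕ → Submodule R A) [GradedAlgebra 𝒜] [IsNoetherianRing A] :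
    Algebra.FiniteType (𝒜 0) A := by
  classical
  obtain ⟨F, hF⟩ := (isNoetherianRing_iff_ideal_fg A).mp ‹_› (HomogeneousIdeal.irrelevant 𝒜).toIdeal
  let ι₀ := Σ (x : F), (DirectSum.decompose 𝒜 x.1).support
  let x (i : ι₀) : A := ((DirectSum.decompose 𝒜) i.1 i.2).1
  let d (i : ι₀) : ℕ := i.2
  have hxd : ∀ i, x i ∈ 𝒜 (d i) := fun i => (DirectSum.decompose 𝒜 i.1 i.2).2
  have hxI : ∀ i, x i ∈ (HomogeneousIdeal.irrelevant 𝒜).toIdeal := fun i =>
    (HomogeneousIdeal.irrelevant 𝒜).isHomogeneous _ (hF ▸ Ideal.subset_span i.1.2)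
  have hspan : (HomogeneousIdeal.irrelevant 𝒜).toIdeal ≤ Ideal.span (Set.range x) := by
    rw [← hF, Ideal.span_le]
    intro f hf
    rw [← DirectSum.sum_support_decompose 𝒜 f]
    exact sum_mem fun n hn => Ideal.subset_span ⟨⟨⟨f, hf⟩, n, hn⟩, rfl⟩
  have hx0 : ∀ i, d i = 0 → x i = 0 := by
    intro i hi
    have h1 : x i ∈ HomogeneousIdeal.irrelevant 𝒜 := hxI i
    rw [HomogeneousIdeal.mem_irrelevant_iff, GradedRing.proj_apply] at h1
    have h2 := hxd i
    rw [hi] at h2
    rw [← DirectSum.decompose_of_mem_same 𝒜 h2, h1]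
  refine ⟨⟨Finset.univ.image x, ?_⟩⟩
  set B := Algebra.adjoin (𝒜 0) ((Finset.univ.image x : Finset A) : Set A) with hB
  have hxB : ∀ i, x i ∈ B := fun i => Algebra.subset_adjoin (by simp)
  have key : ∀ n : ℕ, ∀ a ∈ 𝒜 n, a ∈ B := by
    intro n
    induction n using Nat.strong_induction_on with
    | _ n ih =>
      intro a ha
      rcases Nat.eq_zero_or_pos n with rfl | hn
      · exact Subalgebra.algebraMap_mem B (⟨a, ha⟩ : 𝒜 0)
      · have haI : a ∈ Ideal.span (Set.range x) :=
          hspan (show a ∈ HomogeneousIdeal.irrelevant 𝒜 from HomogeneousIdeal.mem_irrelevant_of_mem 𝒜 hn ha)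
        rw [Ideal.span, Submodule.mem_span_range_iff_exists_fun] at haI
        obtain ⟨c, hc⟩ := haI
        have : a = ∑ i, (DirectSum.decompose 𝒜 (c i * x i) n : A) := by
          conv_lhs => rw [← DirectSum.decompose_of_mem_same 𝒜 ha, ← hc]
          simp [DirectSum.decompose_sum]
        rw [this]
        refine sum_mem fun i _ => ?_
        by_cases hdi : d i ≤ n
        · rw [DirectSum.coe_decompose_mul_of_right_mem_of_le 𝒜 (hxd i) hdi]
          rcases Nat.eq_zero_or_pos (d i) with h0 | hpos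
          · rw [hx0 i h0, mul_zero]; exact zero_mem _
          · exact mul_mem (ih (n - d i) (by omega) _ (SetLike.coe_mem _)) (hxB i)
        · rw [DirectSum.coe_decompose_mul_of_right_mem_of_not_le 𝒜 (hxd i) hdi]
          exact zero_mem _
  rw [eq_top_iff]
  intro a _
  rw [← DirectSum.sum_support_decompose 𝒜 a]
  exact sum_mem fun n _ => key n _ (SetLike.coe_mem _)

/-- For a ring S graded in nonnegative degrees, being Noetherian is equivalent to S_0 being Noetherian
with S of finite type as an S_0-algebra. -/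
theorem result {R A : Type u} [CommRing R] [CommRing A] [Algebra R A] (𝒜 : ℕ → Submodule R A) [GradedAlgebra 𝒜] :
    IsNoetherianRing A ↔ IsNoetherianRing (𝒜 0) ∧ Algebra.FiniteType (𝒜 0) A := by
  constructor
  · intro h
    exact ⟨inferInstance, finiteType_of_isNoetherianRing 𝒜⟩
  · rintro ⟨h1, h2⟩
    exact Algebra.FiniteType.isNoetherianRing (𝒜 0) A


end Groth.Agent.S4391
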