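import Groth.Statements.S4392
import Groth.Agent.Lib.Helper71.GradedGen

set_option autoImplicit false
universe u
open EGA2

namespace Groth.Agent.S4392

open DirectSum in
/-- the projection onto the degree `D` component, as an additive map `M → M` -/
noncomputable def projM {R M : Type*} [CommRing R] [AddCommGroup M] [Module R M]
    (ℳ : ℕ → Submodule R M) [DirectSum.Decomposition ℳ] (D : ℕ) : M →+ M :=
  AddMonoidHom.mk' (fun y => (decompose ℳ y D : M)) (by
    intro a b
    rw [decompose_add, DirectSum.add_apply, Submodule.coe_add])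


/-- Let S be a ring graded in nonnegative degrees which is an S_0-algebra of finite type, and M a
finitely generated graded S-module, graded in nonnegative degrees. Then there exist an integer n₁
and an integer h > 0 such that M_{n+h} = S_h M_n for every n ≥ n₁. (The published statement allows M
graded in all integer degrees; this row takes M graded in nonnegative degrees.) -/
theorem result {R A : Type u} [CommRing R] [CommRing A] [Algebra R A] (𝒜 : ℕ → Submodule R A) [GradedAlgebra 𝒜] [Algebra.FiniteType (𝒜 0) A]
    {M : Type u} [AddCommGroup M] [Module R M] [Module A M] [IsScalarTower R A M] (ℳ : ℕ → Submodule R M) [DirectSum.Decomposition ℳ] [SetLike.GradedSMul 𝒜 ℳ] [Module.Finite A M] :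
    ∃ (n₁ h : ℕ), 0 < h ∧ ∀ n : ℕ, n₁ ≤ n → ℳ (n + h) = (𝒜 h : Submodule R A) • (ℳ n : Submodule R M) := by
  classical
  obtain ⟨q, N, hq, hcore⟩ := Groth.Agent.Lib.Helper71.exists_eventually_mul 𝒜
  obtain ⟨G, hG⟩ := (Module.Finite.fg_top : (⊤ : Submodule A M).FG)
  refine ⟨N + G.sup (fun g => (DirectSum.decompose ℳ g).support.sup id), q, hq,
    fun n hn => le_antisymm ?_ ?_⟩
  · -- the key claim on homogeneous pieces
    have claim : ∀ i j : ℕ, j ≤ G.sup (fun g => (DirectSum.decompose ℳ g).support.sup id) →
        ∀ a ∈ 𝒜 i, ∀ g ∈ ℳ j, projM ℳ (n + q) (a • g) ∈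
          (𝒜 q : Submodule R A) • (ℳ n : Submodule R M) := by
      intro i j hj a ha g hg
      have hag : a • g ∈ ℳ (i + j) := SetLike.GradedSMul.smul_mem ha hg
      by_cases hij : i + j = n + q
      · have h1 : projM ℳ (n + q) (a • g) = a • g := by
          show ((DirectSum.decompose ℳ (a • g) (n + q) : ℳ (n + q)) : M) = a • g
          rw [DirectSum.decompose_of_mem_same ℳ (hij ▸ hag)]
        rw [h1]
        have hi : i = (i - q) + q := by omega
        have hNi : N ≤ i - q := by omega
        have ha' : a ∈ 𝒜 q * 𝒜 (i - q) := hcore _ hNi (hi ▸ ha)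
        have hn' : i - q + j = n := by omega
        refine Submodule.mul_induction_on ha' (fun b hb c' hc' => ?_) (fun x y hx hy => ?_)
        · rw [mul_smul]
          refine Submodule.smul_mem_smul hb ?_
          have : c' • g ∈ ℳ (i - q + j) := SetLike.GradedSMul.smul_mem hc' hg
          rwa [hn'] at this
        · rw [add_smul]
          exact Submodule.add_mem _ hx hy
      · have h1 : projM ℳ (n + q) (a • g) = 0 := by
          show ((DirectSum.decompose ℳ (a • g) (n + q) : ℳ (n + q)) : M) = 0
          rw [DirectSum.decompose_of_mem_ne ℳ hag hij]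
        rw [h1]
        exact Submodule.zero_mem _
    intro y hy
    have hy' : y ∈ Submodule.span A (G : Set M) := by rw [hG]; trivial
    obtain ⟨c, -, hc⟩ := Submodule.mem_span_finset.1 hy'
    have hPy : projM ℳ (n + q) y = y := by
      show ((DirectSum.decompose ℳ y (n + q) : ℳ (n + q)) : M) = y
      rw [DirectSum.decompose_of_mem_same ℳ hy]
    rw [← hPy, ← hc, map_sum]
    refine Submodule.sum_mem _ (fun g hg => ?_)
    have hexp : c g • g = ∑ i ∈ (DirectSum.decompose 𝒜 (c g)).support,
        ∑ j ∈ (DirectSum.decompose ℳ g).support,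
          ((DirectSum.decompose 𝒜 (c g) i : A)) • ((DirectSum.decompose ℳ g j : M)) := by
      have e1 := DirectSum.sum_support_decompose 𝒜 (c g)
      have e2 := DirectSum.sum_support_decompose ℳ g
      calc c g • g = (∑ i ∈ (DirectSum.decompose 𝒜 (c g)).support,
            ((DirectSum.decompose 𝒜 (c g) i : A))) •
            (∑ j ∈ (DirectSum.decompose ℳ g).support, ((DirectSum.decompose ℳ g j : M))) := by
            rw [e1, e2]
        _ = _ := by
            rw [Finset.sum_smul]
            refine Finset.sum_congr rfl (fun i _ => ?_)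
            rw [Finset.smul_sum]
    rw [hexp, map_sum]
    refine Submodule.sum_mem _ (fun i _ => ?_)
    rw [map_sum]
    refine Submodule.sum_mem _ (fun j hj => ?_)
    refine claim i j ?_ _ (DirectSum.decompose 𝒜 (c g) i).2 _ (DirectSum.decompose ℳ g j).2
    have h1 : j ≤ (DirectSum.decompose ℳ g).support.sup id := Finset.le_sup (f := id) hj
    exact h1.trans (Finset.le_sup (f := fun g => (DirectSum.decompose ℳ g).support.sup id) hg)
  · rw [Submodule.smul_le]
    intro a ha m hm
    have : a • m ∈ ℳ (q + n) := SetLike.GradedSMul.smul_mem ha hm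
    rwa [add_comm] at this

end Groth.Agent.S4392
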