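import Groth.Statements.S4393
import Groth.Agent.Lib.Helper71.GradedGen

set_option autoImplicit false
universe u
open EGA2

namespace Groth.Agent.S4393

/-- Let S be a ring graded in nonnegative degrees which is an S_0-algebra of finite type. Then there is
an integer h > 0 such that S_{mh} = (S_h)^m (the S_0-submodule spanned by m-fold products of
elements of S_h) for every m > 0. -/
theorem result {R A : Type u} [CommRing R] [CommRing A] [Algebra R A] (𝒜 : ℕ → Submodule R A) [GradedAlgebra 𝒜] [Algebra.FiniteType (𝒜 0) A] :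
    ∃ h : ℕ, 0 < h ∧ ∀ m : ℕ, 0 < m → 𝒜 (m * h) = (𝒜 h : Submodule R A) ^ m := by
  obtain ⟨q, N, hq, hcore⟩ := Groth.Agent.Lib.Helper71.exists_eventually_mul 𝒜
  have hiter := Groth.Agent.Lib.Helper71.eventually_mul_iter 𝒜 hcore
  have hhpos : 0 < (N + 1) * q := Nat.mul_pos (Nat.succ_pos N) hq
  refine ⟨(N + 1) * q, hhpos, fun m hm => ?_⟩
  refine le_antisymm ?_ (Groth.Agent.Lib.Helper71.graded_pow_le 𝒜 _ m)
  induction m with
  | zero => exact absurd hm (lt_irrefl 0)
  | succ n ih =>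
    rcases Nat.eq_zero_or_pos n with rfl | hpos
    · simp
    · have hN : N ≤ n * ((N + 1) * q) := by
        have h1 : 1 * ((N + 1) * q) ≤ n * ((N + 1) * q) := Nat.mul_le_mul_right _ hpos
        have h2 : (N + 1) * 1 ≤ (N + 1) * q := Nat.mul_le_mul_left _ hq
        omega
      have h1 := hiter (N + 1) (n * ((N + 1) * q)) hN
      have h2 : (n + 1) * ((N + 1) * q) = n * ((N + 1) * q) + (N + 1) * q := by ring
      rw [h2]
      calc 𝒜 (n * ((N + 1) * q) + (N + 1) * q) ≤ 𝒜 q ^ (N + 1) * 𝒜 (n * ((N + 1) * q)) := h1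
        _ ≤ 𝒜 ((N + 1) * q) * 𝒜 ((N + 1) * q) ^ n :=
          mul_le_mul' (Groth.Agent.Lib.Helper71.graded_pow_le 𝒜 q (N + 1)) (ih hpos)
        _ = 𝒜 ((N + 1) * q) ^ (n + 1) := (pow_succ' _ _).symm

end Groth.Agent.S4393
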