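import Groth.Statements.S4394
import Mathlib.RingTheory.GradedAlgebra.FiniteType
import Mathlib.RingTheory.GradedAlgebra.Homogeneous.Ideal

set_option autoImplicit false
universe u
open EGA2

namespace Groth.Agent.S4394

section

variable {R A : Type u} [CommRing R] [CommRing A] [Algebra R A] (𝒜 : ℕ → Submodule R A) [GradedAlgebra 𝒜]

/-- If `A = 𝒜₀[s]` with `s ⊆ A₊`, then `A₊ ≤ span s`. -/
theorem irrelevant_le_span (s : Set A) (hs : Algebra.adjoin (𝒜 0) s = ⊤)
    (hs' : s ⊆ (HomogeneousIdeal.irrelevant 𝒜).toIdeal) :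
    (HomogeneousIdeal.irrelevant 𝒜).toIdeal ≤ Ideal.span s := by
  have key : ∀ a ∈ Algebra.adjoin (𝒜 0) s, ∃ c ∈ 𝒜 0, a - c ∈ Ideal.span s := by
    intro a ha
    induction ha using Algebra.adjoin_induction with
    | mem x hx => exact ⟨0, zero_mem _, by simpa using Ideal.subset_span hx⟩
    | algebraMap r => exact ⟨r, r.2, by simp [show algebraMap (𝒜 0) A r = r from rfl]⟩
    | add x y _ _ hx hy =>
      obtain ⟨c, hc, hxc⟩ := hx
      obtain ⟨c', hc', hyc⟩ := hy
      refine ⟨c + c', add_mem hc hc', ?_⟩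
      have : x + y - (c + c') = (x - c) + (y - c') := by ring
      rw [this]
      exact add_mem hxc hyc
    | mul x y _ _ hx hy =>
      obtain ⟨c, hc, hxc⟩ := hx
      obtain ⟨c', hc', hyc⟩ := hy
      refine ⟨c * c', ?_, ?_⟩
      · have := SetLike.mul_mem_graded hc hc'
        simpa using this
      · have : x * y - c * c' = (x - c) * y + c * (y - c') := by ring
        rw [this]
        exact add_mem (Ideal.mul_mem_right _ _ hxc) (Ideal.mul_mem_left _ _ hyc)
  intro a ha
  obtain ⟨c, hc, hac⟩ := key a (by rw [hs]; trivial)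
  have hspan : Ideal.span s ≤ (HomogeneousIdeal.irrelevant 𝒜).toIdeal := Ideal.span_le.mpr hs'
  have hcI : c ∈ HomogeneousIdeal.irrelevant 𝒜 := by
    have : c = a - (a - c) := by ring
    rw [this]
    exact (HomogeneousIdeal.irrelevant 𝒜).toIdeal.sub_mem ha (hspan hac)
  rw [HomogeneousIdeal.mem_irrelevant_iff, GradedRing.proj_apply,
    DirectSum.decompose_of_mem_same 𝒜 hc] at hcI
  rw [hcI, sub_zero] at hac
  exact hac

/-- decomposition of a homogeneous element of positive degree along homogeneous generators. -/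
theorem exists_decomposition {ι : Type*} [Fintype ι] (x : ι → A) (dg : ι → ℕ)
    (hx : ∀ i, x i ∈ 𝒜 (dg i))
    (hspan : (HomogeneousIdeal.irrelevant 𝒜).toIdeal ≤ Ideal.span (Set.range x))
    {m : ℕ} (hm : 0 < m) {a : A} (ha : a ∈ 𝒜 m) :
    ∃ c : ι → A, (∀ i, c i ∈ 𝒜 (m - dg i)) ∧ (∀ i, m < dg i → c i = 0) ∧ a = ∑ i, c i * x i := by
  classical
  have haI : a ∈ Ideal.span (Set.range x) :=
    hspan (show a ∈ HomogeneousIdeal.irrelevant 𝒜 from HomogeneousIdeal.mem_irrelevant_of_mem 𝒜 hm ha)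
  rw [Ideal.span, Submodule.mem_span_range_iff_exists_fun] at haI
  obtain ⟨c, hc⟩ := haI
  refine ⟨fun i => if dg i ≤ m then (DirectSum.decompose 𝒜 (c i) (m - dg i) : A) else 0, ?_, ?_, ?_⟩
  · intro i
    dsimp only
    split_ifs
    · exact SetLike.coe_mem _
    · exact zero_mem _
  · intro i hi
    dsimp only
    rw [if_neg (not_le.mpr hi)]
  · have : a = ∑ i, (DirectSum.decompose 𝒜 (c i * x i) m : A) := by
      conv_lhs => rw [← DirectSum.decompose_of_mem_same 𝒜 ha, ← hc]
      simp [DirectSum.decompose_sum]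
    rw [this]
    refine Finset.sum_congr rfl fun i _ => ?_
    dsimp only
    split_ifs with hdi
    · rw [DirectSum.coe_decompose_mul_of_right_mem_of_le 𝒜 (hx i) hdi]
    · rw [DirectSum.coe_decompose_mul_of_right_mem_of_not_le 𝒜 (hx i) hdi, zero_mul]

end

/-- Let S be a ring graded in nonnegative degrees which is an S_0-algebra of finite type. Then for every
integer n > 0 there is m₀ such that S_m ⊆ (S_+)^n for all m ≥ m₀. -/
theorem result {R A : Type u} [CommRing R] [CommRing A] [Algebra R A] (𝒜 : ℕ → Submodule R A) [GradedAlgebra 𝒜] [Algebra.FiniteType (𝒜 0) A]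
    (n : ℕ) (hn : 0 < n) :
    ∃ m₀ : ℕ, ∀ m : ℕ, m₀ ≤ m → (𝒜 m : Set A) ⊆ ((HomogeneousIdeal.irrelevant 𝒜).toIdeal ^ n : Ideal A) := by
  classical
  obtain ⟨s, hs, hs'⟩ := GradedAlgebra.exists_finset_adjoin_eq_top_and_homogeneous_ne_zero 𝒜
  choose! dg hdg0 hdg using hs'
  have hsI : (s : Set A) ⊆ (HomogeneousIdeal.irrelevant 𝒜).toIdeal := fun y hy =>
    HomogeneousIdeal.mem_irrelevant_of_mem 𝒜 (Nat.pos_of_ne_zero (hdg0 y hy)) (hdg y hy)
  have hspan := irrelevant_le_span 𝒜 (s : Set A) hs hsI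
  -- indexed family
  let x : s → A := fun i => i.1
  have hrange : Set.range x = (s : Set A) := by simp [x]
  rw [← hrange] at hspan
  let D := (s.sup dg) + 1
  have hD : ∀ i : s, dg i.1 < D := fun i => Nat.lt_succ_of_le (Finset.le_sup i.2)
  have key : ∀ k : ℕ, ∀ m : ℕ, k * D ≤ m →
      (𝒜 m : Set A) ⊆ ((HomogeneousIdeal.irrelevant 𝒜).toIdeal ^ k : Ideal A) := by
    intro k
    induction k with
    | zero => intro m _ a _; simp
    | succ k ih =>
      intro m hm a ha
      have hmpos : 0 < m := by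
        have : 0 < (k + 1) * D := Nat.mul_pos (Nat.succ_pos k) (Nat.succ_pos _)
        omega
      obtain ⟨c, hc, hc0, hac⟩ := exists_decomposition 𝒜 x (fun i => dg i.1)
        (fun i => hdg i.1 i.2) hspan hmpos ha
      rw [hac]
      refine Ideal.sum_mem _ fun i _ => ?_
      rw [pow_succ]
      refine Ideal.mul_mem_mul ?_ (hsI i.2)
      by_cases hi : m < dg i.1
      · rw [hc0 i hi]; exact zero_mem _
      · refine ih (m - dg i.1) ?_ (hc i)
        have := hD i
        have h2 : (k + 1) * D = k * D + D := by ring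
        omega
  exact ⟨n * D, fun m hm => key n m hm⟩


end Groth.Agent.S4394
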