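import Groth.Statements.S4395
import Mathlib.RingTheory.GradedAlgebra.Radical
import Mathlib.RingTheory.GradedAlgebra.Homogeneous.Ideal

set_option autoImplicit false
universe u
open EGA2

namespace Groth.Agent.S4395

open DirectSum

section

variable {R A : Type u} [CommRing R] [CommRing A] [Algebra R A] (𝒜 : ℕ → Submodule R A) [GradedAlgebra 𝒜]

/-- a homogeneous prime not containing the irrelevant ideal misses a homogeneous element of large degree. -/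
theorem exists_homogeneous_not_mem (𝔮 : HomogeneousIdeal 𝒜) (h𝔮 : 𝔮.toIdeal.IsPrime)
    (hirr : ¬ HomogeneousIdeal.irrelevant 𝒜 ≤ 𝔮) (n₀ : ℕ) (hn₀ : 0 < n₀) :
    ∃ e : ℕ, n₀ ≤ e ∧ ∃ h ∈ 𝒜 e, h ∉ 𝔮.toIdeal := by
  classical
  obtain ⟨g, hg, hgq⟩ := SetLike.not_le_iff_exists.mp hirr
  have hex : ∃ i, (decompose 𝒜 g i : A) ∉ 𝔮.toIdeal := by
    by_contra hall
    push Not at hall
    apply hgq
    rw [← DirectSum.sum_support_decompose 𝒜 g]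
    exact Ideal.sum_mem _ fun i _ => hall i
  obtain ⟨i, hi⟩ := hex
  have hi0 : i ≠ 0 := by
    rintro rfl
    apply hi
    rw [HomogeneousIdeal.mem_irrelevant_iff, GradedRing.proj_apply] at hg
    rw [hg]
    exact zero_mem _
  refine ⟨n₀ • i, ?_, (decompose 𝒜 g i : A) ^ n₀, SetLike.pow_mem_graded n₀ (SetLike.coe_mem _), ?_⟩
  · rw [smul_eq_mul]
    exact Nat.le_mul_of_pos_right n₀ (Nat.pos_of_ne_zero hi0)
  · intro hmem
    exact hi (h𝔮.mem_of_pow_mem n₀ hmem)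

section Construction

variable {𝒜}
variable {n₀ : ℕ} {p : ℕ → AddSubgroup A}
  (h1 : ∀ m n : ℕ, n₀ ≤ n → ∀ a ∈ 𝒜 m, ∀ b ∈ p n, a * b ∈ p (m + n))
  {n₁ : ℕ} (hn₁ : n₀ ≤ n₁) (f : A)

include h1 hn₁ in
theorem smul_mem_aux (c a : A) (ha : ∀ m, f * (decompose 𝒜 a m : A) ∈ p (n₁ + m)) (m : ℕ) :
    f * (decompose 𝒜 (c * a) m : A) ∈ p (n₁ + m) := by
  classical
  induction c using DirectSum.Decomposition.inductionOn 𝒜 with
  | zero => simp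
  | @homogeneous i c =>
    by_cases him : i ≤ m
    · rw [DirectSum.coe_decompose_mul_of_left_mem_of_le 𝒜 c.2 him]
      have h2 := h1 i (n₁ + (m - i)) (by omega) c c.2 _ (ha (m - i))
      have h3 : i + (n₁ + (m - i)) = n₁ + m := by omega
      rw [h3] at h2
      have h4 : f * ((c : A) * (decompose 𝒜 a (m - i) : A)) =
          (c : A) * (f * (decompose 𝒜 a (m - i) : A)) := by ring
      rw [h4]
      exact h2
    · rw [DirectSum.coe_decompose_mul_of_left_mem_of_not_le 𝒜 c.2 him, mul_zero]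
      exact zero_mem _
  | add c c' hc hc' =>
    rw [add_mul, decompose_add, add_apply, AddMemClass.coe_add, mul_add]
    exact add_mem hc hc'

/-- the homogeneous ideal with `m`-th graded piece `{x ∈ 𝒜 m | f x ∈ p (n₁ + m)}`. -/
def theIdeal : Ideal A where
  carrier := {a | ∀ m, f * (decompose 𝒜 a m : A) ∈ p (n₁ + m)}
  add_mem' := by
    intro a b ha hb m
    rw [decompose_add, add_apply, AddMemClass.coe_add, mul_add]
    exact add_mem (ha m) (hb m)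
  zero_mem' := by
    intro m
    simp
  smul_mem' := by
    intro c a ha m
    exact smul_mem_aux h1 hn₁ f c a ha m

theorem mem_theIdeal (a : A) :
    a ∈ theIdeal h1 hn₁ f ↔ ∀ m, f * (decompose 𝒜 a m : A) ∈ p (n₁ + m) := Iff.rfl

theorem mem_theIdeal_of_mem {m : ℕ} {x : A} (hx : x ∈ 𝒜 m) :
    x ∈ theIdeal h1 hn₁ f ↔ f * x ∈ p (n₁ + m) := by
  classical
  rw [mem_theIdeal]
  constructor
  · intro h
    have := h m
    rwa [DirectSum.decompose_of_mem_same 𝒜 hx] at this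
  · intro h k
    by_cases hk : k = m
    · subst hk
      rwa [DirectSum.decompose_of_mem_same 𝒜 hx]
    · rw [DirectSum.decompose_of_mem_ne 𝒜 hx (Ne.symm hk), mul_zero]
      exact zero_mem _

theorem theIdeal_isHomogeneous : (theIdeal h1 hn₁ f).IsHomogeneous 𝒜 := by
  classical
  intro i a ha
  rw [mem_theIdeal_of_mem h1 hn₁ f (SetLike.coe_mem _)]
  exact ha i

end Construction

end

/-- Let S be a ring graded in nonnegative degrees, n₀ > 0 an integer and, for every n ≥ n₀, p_n an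
additive subgroup of S_n. Then there is a graded prime ideal p of S not containing S_+ with p ∩ S_n
= p_n for all n ≥ n₀ if and only if: (1) S_m p_n ⊆ p_{m+n} for all m ≥ 0 and n ≥ n₀; (2) for m ≥ n₀,
n ≥ n₀, f ∈ S_m, g ∈ S_n, fg ∈ p_{m+n} implies f ∈ p_m or g ∈ p_n; (3) p_n ≠ S_n for at least one n
≥ n₀. Moreover such a graded prime ideal is unique. -/
theorem result {R A : Type u} [CommRing R] [CommRing A] [Algebra R A] (𝒜 : ℕ → Submodule R A) [GradedAlgebra 𝒜]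
    (n₀ : ℕ) (hn₀ : 0 < n₀) (p : ℕ → AddSubgroup A) (hp : ∀ n : ℕ, n₀ ≤ n → (p n : Set A) ⊆ 𝒜 n) :
    ((∃ 𝔭 : HomogeneousIdeal 𝒜, 𝔭.toIdeal.IsPrime ∧ ¬ HomogeneousIdeal.irrelevant 𝒜 ≤ 𝔭 ∧
        ∀ n : ℕ, n₀ ≤ n → (𝔭.toIdeal : Set A) ∩ 𝒜 n = p n) ↔
      ((∀ m n : ℕ, n₀ ≤ n → ∀ a ∈ 𝒜 m, ∀ b ∈ p n, a * b ∈ p (m + n)) ∧
        (∀ m n : ℕ, n₀ ≤ m → n₀ ≤ n → ∀ f ∈ 𝒜 m, ∀ g ∈ 𝒜 n, f * g ∈ p (m + n) → f ∈ p m ∨ g ∈ p n) ∧
        ∃ n : ℕ, n₀ ≤ n ∧ (p n : Set A) ≠ 𝒜 n)) ∧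
    ∀ 𝔭 𝔮 : HomogeneousIdeal 𝒜, 𝔭.toIdeal.IsPrime → 𝔮.toIdeal.IsPrime →
      ¬ HomogeneousIdeal.irrelevant 𝒜 ≤ 𝔭 → ¬ HomogeneousIdeal.irrelevant 𝒜 ≤ 𝔮 →
      (∀ n : ℕ, n₀ ≤ n → (𝔭.toIdeal : Set A) ∩ 𝒜 n = p n) → (∀ n : ℕ, n₀ ≤ n → (𝔮.toIdeal : Set A) ∩ 𝒜 n = p n) →
      𝔭 = 𝔮 := by
  classical
  refine ⟨⟨?_, ?_⟩, ?_⟩
  · -- (⇒)
    rintro ⟨𝔭, hprime, hirr, htail⟩
    have hmem : ∀ n, n₀ ≤ n → ∀ x, x ∈ p n ↔ x ∈ 𝔭.toIdeal ∧ x ∈ 𝒜 n := by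
      intro n hn x
      have := Set.ext_iff.mp (htail n hn) x
      exact this.symm
    refine ⟨?_, ?_, ?_⟩
    · intro m n hn a ha b hb
      rw [hmem (m + n) (by omega)]
      rw [hmem n hn] at hb
      exact ⟨Ideal.mul_mem_left _ _ hb.1, SetLike.mul_mem_graded ha hb.2⟩
    · intro m n hm hn f hf g hg hfg
      rw [hmem (m + n) (by omega)] at hfg
      rcases hprime.mem_or_mem hfg.1 with h | h
      · exact Or.inl ((hmem m hm f).mpr ⟨h, hf⟩)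
      · exact Or.inr ((hmem n hn g).mpr ⟨h, hg⟩)
    · obtain ⟨e, he, h, hh, hh𝔭⟩ := exists_homogeneous_not_mem 𝒜 𝔭 hprime hirr n₀ hn₀
      refine ⟨e, he, ?_⟩
      intro heq
      have : h ∈ (p e : Set A) := by rw [heq]; exact hh
      exact hh𝔭 ((hmem e he h).mp this).1
  · -- (⇐)
    rintro ⟨h1, h2, n₁, hn₁, hne⟩
    have hex : ∃ f ∈ 𝒜 n₁, f ∉ p n₁ := by
      by_contra hall
      push Not at hall
      exact hne (Set.Subset.antisymm (hp n₁ hn₁) hall)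
    obtain ⟨f, hf, hfp⟩ := hex
    have hI := theIdeal_isHomogeneous h1 hn₁ f
    -- description of the tail
    have htail : ∀ n, n₀ ≤ n → ∀ x ∈ 𝒜 n, (x ∈ theIdeal h1 hn₁ f ↔ x ∈ p n) := by
      intro n hn x hx
      rw [mem_theIdeal_of_mem h1 hn₁ f hx]
      constructor
      · intro h
        rcases h2 n₁ n hn₁ hn f hf x hx h with h' | h'
        · exact absurd h' hfp
        · exact h'
      · intro h
        exact h1 n₁ n hn f hf x h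
    have hfI : f ∉ theIdeal h1 hn₁ f := fun h => hfp ((htail n₁ hn₁ f hf).mp h)
    have hprime : (theIdeal h1 hn₁ f).IsPrime := by
      refine hI.isPrime_of_homogeneous_mem_or_mem (fun h => hfI (h ▸ Submodule.mem_top)) ?_
      rintro x y ⟨m, hx⟩ ⟨k, hy⟩ hxy
      rw [mem_theIdeal_of_mem h1 hn₁ f (SetLike.mul_mem_graded hx hy)] at hxy
      have hfx : f * x ∈ 𝒜 (n₁ + m) := SetLike.mul_mem_graded hf hx
      have hfy : f * y ∈ 𝒜 (n₁ + k) := SetLike.mul_mem_graded hf hy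
      have h3 := h1 n₁ (n₁ + (m + k)) (by omega) f hf _ hxy
      have h4 : f * (f * (x * y)) = (f * x) * (f * y) := by ring
      have h5 : n₁ + (n₁ + (m + k)) = (n₁ + m) + (n₁ + k) := by omega
      rw [h4, h5] at h3
      rcases h2 (n₁ + m) (n₁ + k) (by omega) (by omega) _ hfx _ hfy h3 with h | h
      · exact Or.inl ((mem_theIdeal_of_mem h1 hn₁ f hx).mpr h)
      · exact Or.inr ((mem_theIdeal_of_mem h1 hn₁ f hy).mpr h)
    refine ⟨⟨theIdeal h1 hn₁ f, hI⟩, hprime, ?_, ?_⟩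
    · intro hle
      apply hfI
      exact hle (HomogeneousIdeal.mem_irrelevant_of_mem 𝒜 (by omega) hf)
    · intro n hn
      ext x
      constructor
      · rintro ⟨hx1, hx2⟩
        exact (htail n hn x hx2).mp hx1
      · intro hx
        have hx2 : x ∈ 𝒜 n := hp n hn hx
        exact ⟨(htail n hn x hx2).mpr hx, hx2⟩
  · -- uniqueness
    have key : ∀ 𝔭 𝔮 : HomogeneousIdeal 𝒜, 𝔭.toIdeal.IsPrime → 𝔮.toIdeal.IsPrime →
        ¬ HomogeneousIdeal.irrelevant 𝒜 ≤ 𝔮 →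
        (∀ n : ℕ, n₀ ≤ n → (𝔭.toIdeal : Set A) ∩ 𝒜 n = p n) →
        (∀ n : ℕ, n₀ ≤ n → (𝔮.toIdeal : Set A) ∩ 𝒜 n = p n) → 𝔭.toIdeal ≤ 𝔮.toIdeal := by
      intro 𝔭 𝔮 h𝔭 h𝔮 hirr ht𝔭 ht𝔮 x hx
      rw [𝔮.isHomogeneous.mem_iff]
      intro m
      have hxm : (decompose 𝒜 x m : A) ∈ 𝔭.toIdeal := 𝔭.isHomogeneous m hx
      obtain ⟨e, he, h, hh, hh𝔮⟩ := exists_homogeneous_not_mem 𝒜 𝔮 h𝔮 hirr n₀ hn₀
      have h1 : (decompose 𝒜 x m : A) * h ∈ (𝔭.toIdeal : Set A) ∩ 𝒜 (m + e) :=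
        ⟨Ideal.mul_mem_right _ _ hxm, SetLike.mul_mem_graded (SetLike.coe_mem _) hh⟩
      rw [ht𝔭 (m + e) (by omega), ← ht𝔮 (m + e) (by omega)] at h1
      rcases h𝔮.mem_or_mem h1.1 with h' | h'
      · exact h'
      · exact absurd h' hh𝔮
    intro 𝔭 𝔮 h𝔭 h𝔮 hirr𝔭 hirr𝔮 ht𝔭 ht𝔮
    apply HomogeneousIdeal.toIdeal_injective
    exact le_antisymm (key 𝔭 𝔮 h𝔭 h𝔮 hirr𝔮 ht𝔭 ht𝔮) (key 𝔮 𝔭 h𝔮 h𝔭 hirr𝔭 ht𝔮 ht𝔭)


end Groth.Agent.S4395
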