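import Groth.Statements.S4396
import Mathlib.RingTheory.GradedAlgebra.HomogeneousLocalization
import Mathlib.Algebra.DirectSum.Ring
import Mathlib.RingTheory.Ideal.Quotient.Operations

set_option autoImplicit false
universe u
open AlgebraicGeometry
open EGA2

namespace Groth.Agent.S4396

open HomogeneousLocalization

section

variable {R A : Type u} [CommRing R] [CommRing A] [Algebra R A] (𝒜 : ℕ → Submodule R A) [GradedAlgebra 𝒜]
    {B : Type u} [CommRing B] [Algebra R B] (ℬ : ℕ → Submodule R B) [GradedAlgebra ℬ]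
    (d : ℕ) (φ : B →ₐ[R] A)
    (hdeg : ∀ n : ℕ, Submodule.map φ.toLinearMap (ℬ n) = 𝒜 (n * d)) (f' : B) (hf' : f' ∈ ℬ 1)

include hdeg in
omit [GradedAlgebra 𝒜] [GradedAlgebra ℬ] in
theorem map_mem {n : ℕ} {b : B} (hb : b ∈ ℬ n) : φ b ∈ 𝒜 (n • d) := by
  rw [smul_eq_mul, ← hdeg n]
  exact Submodule.mem_map_of_mem hb

include hdeg hf' in
omit [GradedAlgebra 𝒜] [GradedAlgebra ℬ] in
theorem hf : φ f' ∈ 𝒜 d := by
  have := map_mem 𝒜 ℬ d φ hdeg hf'
  rwa [one_smul] at this

/-- the additive maps `ℬ n → A_(f)`, `x ↦ φ x / f ^ n`. -/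
noncomputable def g (n : ℕ) : ℬ n →+ Away 𝒜 (φ f') where
  toFun x := Away.mk 𝒜 (hf 𝒜 ℬ d φ hdeg f' hf') n (φ x) (map_mem 𝒜 ℬ d φ hdeg x.2)
  map_zero' := by
    apply HomogeneousLocalization.val_injective
    simp [Localization.mk_zero]
  map_add' x y := by
    apply HomogeneousLocalization.val_injective
    simp [Localization.add_mk_self]

theorem g_val (n : ℕ) (x : ℬ n) :
    (g 𝒜 ℬ d φ hdeg f' hf' n x).val =
      Localization.mk (φ (x : B))
        (⟨φ f' ^ n, pow_mem (Submonoid.mem_powers (φ f')) n⟩ : Submonoid.powers (φ f')) := rfl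

/-- the ring hom `B → A_(f)`. -/
noncomputable def θ : B →+* Away 𝒜 (φ f') :=
  (DirectSum.toSemiring (g 𝒜 ℬ d φ hdeg f' hf')
    (by
      apply HomogeneousLocalization.val_injective
      rw [g_val]
      change Localization.mk (φ (1 : B)) _ = _
      simp [Localization.mk_one])
    (by
      intro i j ai aj
      apply HomogeneousLocalization.val_injective
      rw [HomogeneousLocalization.val_mul, g_val, g_val, g_val, Localization.mk_mul]
      change Localization.mk (φ ((ai : B) * (aj : B))) _ = _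
      rw [map_mul]
      congr 1
      ext
      simp [pow_add])).comp (DirectSum.decomposeRingEquiv ℬ).toRingHom

theorem θ_of_mem {n : ℕ} {x : B} (hx : x ∈ ℬ n) :
    (θ 𝒜 ℬ d φ hdeg f' hf' x).val = Localization.mk (φ x)
        (⟨φ f' ^ n, pow_mem (Submonoid.mem_powers (φ f')) n⟩ : Submonoid.powers (φ f')) := by
  unfold θ
  simp only [RingHom.comp_apply, RingEquiv.toRingHom_eq_coe, RingHom.coe_coe]
  change HomogeneousLocalization.val (DirectSum.toSemiring _ _ _ (DirectSum.decompose ℬ x)) = _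
  rw [DirectSum.decompose_of_mem ℬ hx]
  erw [DirectSum.toSemiring_of]
  rfl

theorem θ_f' : θ 𝒜 ℬ d φ hdeg f' hf' f' = 1 := by
  apply HomogeneousLocalization.val_injective
  rw [θ_of_mem 𝒜 ℬ d φ hdeg f' hf' hf', HomogeneousLocalization.val_one]
  have : (⟨φ f' ^ 1, pow_mem (Submonoid.mem_powers (φ f')) 1⟩ : Submonoid.powers (φ f')) =
      ⟨φ f', Submonoid.mem_powers (φ f')⟩ := Subtype.ext (pow_one _)
  rw [this]
  exact Localization.mk_self (⟨φ f', Submonoid.mem_powers (φ f')⟩ : Submonoid.powers (φ f'))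

theorem mk_f' : Ideal.Quotient.mk (Ideal.span {f' - 1}) f' = 1 := by
  rw [← sub_eq_zero, ← map_one (Ideal.Quotient.mk (Ideal.span {f' - 1})), ← map_sub,
    Ideal.Quotient.eq_zero_iff_mem]
  exact Ideal.subset_span rfl

/-- homogenization -/
theorem exists_homogenization (b : B) : ∃ (N : ℕ) (c : B), c ∈ ℬ N ∧
    Ideal.Quotient.mk (Ideal.span {f' - 1}) c = Ideal.Quotient.mk (Ideal.span {f' - 1}) b ∧
    (θ 𝒜 ℬ d φ hdeg f' hf' b).val = Localization.mk (φ c)
        (⟨φ f' ^ N, pow_mem (Submonoid.mem_powers (φ f')) N⟩ : Submonoid.powers (φ f')) := by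
  induction b using DirectSum.Decomposition.inductionOn ℬ with
  | zero =>
    refine ⟨0, 0, zero_mem _, rfl, ?_⟩
    rw [map_zero, map_zero, HomogeneousLocalization.val_zero, Localization.mk_zero]
  | @homogeneous i m =>
    exact ⟨i, m, m.2, rfl, θ_of_mem 𝒜 ℬ d φ hdeg f' hf' m.2⟩
  | add b b' h h' =>
    obtain ⟨N, c, hc, hq, hv⟩ := h
    obtain ⟨N', c', hc', hq', hv'⟩ := h'
    refine ⟨N + N', c * f' ^ N' + c' * f' ^ N, ?_, ?_, ?_⟩
    · refine add_mem ?_ ?_
      · have := SetLike.mul_mem_graded hc (SetLike.pow_mem_graded N' hf')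
        simpa using this
      · have := SetLike.mul_mem_graded hc' (SetLike.pow_mem_graded N hf')
        simpa [add_comm] using this
    · simp only [map_add, map_mul, map_pow, mk_f', one_pow, mul_one, hq, hq']
    · rw [map_add, HomogeneousLocalization.val_add, hv, hv', Localization.add_mk]
      rw [Localization.mk_eq_mk_iff, Localization.r_iff_exists]
      refine ⟨1, ?_⟩
      simp only [OneMemClass.coe_one, one_mul, Submonoid.coe_mul, map_add, map_mul, map_pow]
      ring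

theorem θ_mem_ker (b : B) (hb : b ∈ Ideal.span {f' - 1}) : θ 𝒜 ℬ d φ hdeg f' hf' b = 0 := by
  rw [Ideal.mem_span_singleton] at hb
  obtain ⟨c, rfl⟩ := hb
  rw [map_mul, map_sub, θ_f', map_one, sub_self, zero_mul]

/-- the induced map on the quotient -/
noncomputable def θbar : B ⧸ Ideal.span {f' - 1} →+* Away 𝒜 (φ f') :=
  Ideal.Quotient.lift (Ideal.span {f' - 1}) (θ 𝒜 ℬ d φ hdeg f' hf') (θ_mem_ker 𝒜 ℬ d φ hdeg f' hf')

theorem θbar_mk (b : B) : θbar 𝒜 ℬ d φ hdeg f' hf' (Ideal.Quotient.mk _ b) = θ 𝒜 ℬ d φ hdeg f' hf' b :=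
  rfl

theorem θbar_surjective : Function.Surjective (θbar 𝒜 ℬ d φ hdeg f' hf') := by
  intro z
  obtain ⟨n, a, ha, rfl⟩ := Away.mk_surjective 𝒜 (hf 𝒜 ℬ d φ hdeg f' hf') z
  have ha' : a ∈ 𝒜 (n * d) := by simpa using ha
  rw [← hdeg n] at ha'
  obtain ⟨x, hx, rfl⟩ := ha'
  refine ⟨Ideal.Quotient.mk _ x, ?_⟩
  rw [θbar_mk]
  apply HomogeneousLocalization.val_injective
  rw [θ_of_mem 𝒜 ℬ d φ hdeg f' hf' hx]
  rfl

theorem θbar_injective (hφ : Function.Injective φ) :
    Function.Injective (θbar 𝒜 ℬ d φ hdeg f' hf') := by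
  rw [injective_iff_map_eq_zero]
  intro q hq
  obtain ⟨b, rfl⟩ := Ideal.Quotient.mk_surjective q
  rw [θbar_mk] at hq
  obtain ⟨N, c, hc, hqc, hv⟩ := exists_homogenization 𝒜 ℬ d φ hdeg f' hf' b
  rw [hq, HomogeneousLocalization.val_zero, eq_comm, Localization.mk_eq_mk', 
    IsLocalization.mk'_eq_zero_iff] at hv
  obtain ⟨⟨_, k, rfl⟩, hk⟩ := hv
  have h0 : f' ^ k * c = 0 := by
    apply hφ
    rw [map_mul, map_pow, map_zero]
    exact hk
  rw [← hqc]
  have := congrArg (Ideal.Quotient.mk (Ideal.span {f' - 1})) h0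
  rwa [map_mul, map_pow, mk_f', one_pow, one_mul, map_zero] at this

end

/-- Let S be a ring graded in nonnegative degrees, d > 0, and S^{(d)} the graded ring whose degree-n
part is S_{nd} (given here as any graded ring S' with an injective algebra homomorphism φ : S' → S
carrying S'_n onto S_{nd} for every n); let f' ∈ S'_1, with image f = φ(f') ∈ S_d. Then there is a
ring isomorphism between the degree-zero homogeneous localization S_(f) and the quotient S'/(f' -
1)S', whose inverse sends the class of an element x of S'_n to the fraction φ(x)/f^n. (The module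
part of the published statement is not stated here.) -/
theorem result {R A : Type u} [CommRing R] [CommRing A] [Algebra R A] (𝒜 : ℕ → Submodule R A) [GradedAlgebra 𝒜]
    {B : Type u} [CommRing B] [Algebra R B] (ℬ : ℕ → Submodule R B) [GradedAlgebra ℬ]
    (d : ℕ) (hd : 0 < d) (φ : B →ₐ[R] A) (hφ : Function.Injective φ)
    (hdeg : ∀ n : ℕ, Submodule.map φ.toLinearMap (ℬ n) = 𝒜 (n * d)) (f' : B) (hf' : f' ∈ ℬ 1) :
    ∃ e : HomogeneousLocalization.Away 𝒜 (φ f') ≃+* B ⧸ Ideal.span {f' - 1},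
      ∀ (n : ℕ) (x : B), x ∈ ℬ n →
        (e.symm (Ideal.Quotient.mk (Ideal.span {f' - 1}) x)).val =
          Localization.mk (φ x) ⟨φ f' ^ n, pow_mem (Submonoid.mem_powers (φ f')) n⟩ := by
  refine ⟨(RingEquiv.ofBijective (θbar 𝒜 ℬ d φ hdeg f' hf')
    ⟨θbar_injective 𝒜 ℬ d φ hdeg f' hf' hφ, θbar_surjective 𝒜 ℬ d φ hdeg f' hf'⟩).symm, ?_⟩
  intro n x hx
  rw [RingEquiv.symm_symm, RingEquiv.ofBijective_apply, θbar_mk]
  exact θ_of_mem 𝒜 ℬ d φ hdeg f' hf' hx


end Groth.Agent.S4396
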