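import Groth.Statements.S4398
import Mathlib.AlgebraicGeometry.ProjectiveSpectrum.Functor
import Mathlib.AlgebraicGeometry.Morphisms.IsIso

set_option autoImplicit false
universe u
open AlgebraicGeometry
open EGA2

namespace Groth.Agent.S4398

open AlgebraicGeometry HomogeneousLocalization CategoryTheory

section

variable {R A : Type u} [CommRing R] [CommRing A] [Algebra R A] {𝒜 : ℕ → Submodule R A} [GradedAlgebra 𝒜]
    {B : Type u} [CommRing B] [Algebra R B] {ℬ : ℕ → Submodule R B} [GradedAlgebra ℬ]
    (φ : ℬ →+*ᵍ 𝒜) (hbij : ∀ n : ℕ, 0 < n → Set.BijOn φ (ℬ n) (𝒜 n))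

include hbij in
theorem awayMap_bijective {i : ℕ} (hi : 0 < i) (s : B) (hs : s ∈ ℬ i) :
    Function.Bijective (Away.map φ s) := by
  constructor
  · rw [injective_iff_map_eq_zero]
    intro x hx
    obtain ⟨n, b, hb, rfl⟩ := Away.mk_surjective ℬ hs x
    rw [Away.map_mk φ s hs] at hx
    have hx' := congrArg HomogeneousLocalization.val hx
    rw [Away.val_mk, HomogeneousLocalization.val_zero, Localization.mk_eq_mk',
      IsLocalization.mk'_eq_zero_iff] at hx'
    obtain ⟨⟨_, k, rfl⟩, hk⟩ := hx'
    -- s^(k+1) * b has positive degree and maps to zero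
    have hdeg : s ^ (k + 1) * b ∈ ℬ ((k + 1) • i + n • i) :=
      SetLike.mul_mem_graded (SetLike.pow_mem_graded _ hs) hb
    have hpos : 0 < (k + 1) • i + n • i := by
      simp only [smul_eq_mul]; positivity
    have hzero : φ (s ^ (k + 1) * b) = 0 := by
      rw [map_mul, map_pow, pow_succ', mul_assoc]
      simp only at hk
      rw [hk, mul_zero]
    have h0 : s ^ (k + 1) * b = 0 :=
      (hbij _ hpos).injOn hdeg (zero_mem _) (by rw [hzero, map_zero])
    apply HomogeneousLocalization.val_injective
    rw [Away.val_mk, HomogeneousLocalization.val_zero, Localization.mk_eq_mk',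
      IsLocalization.mk'_eq_zero_iff]
    exact ⟨⟨s ^ (k + 1), k + 1, rfl⟩, h0⟩
  · intro y
    obtain ⟨n, a, ha, rfl⟩ := Away.mk_surjective 𝒜 (Graded.map_mem φ hs) y
    -- write `a / φ(s)^n = a φ(s) / φ(s)^(n+1)`
    have ha' : a * φ s ∈ 𝒜 ((n + 1) • i) := by
      have := SetLike.mul_mem_graded ha (Graded.map_mem φ hs)
      rwa [show n • i + i = (n + 1) • i by simp [add_mul]] at this
    have hpos : 0 < (n + 1) • i := by simp only [smul_eq_mul]; positivity
    obtain ⟨b, hb, hba⟩ := (hbij _ hpos).surjOn ha'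
    refine ⟨Away.mk ℬ hs (n + 1) b hb, ?_⟩
    rw [Away.map_mk φ s hs]
    apply HomogeneousLocalization.val_injective
    rw [Away.val_mk, Away.val_mk, Localization.mk_eq_mk_iff, Localization.r_iff_exists]
    refine ⟨1, ?_⟩
    simp only [OneMemClass.coe_one, one_mul]
    rw [hba, pow_succ]
    ring

end

/-- Let φ : S' → S be a homomorphism of rings graded in nonnegative degrees which maps S'_n bijectively
onto S_n for every n > 0, so that S_+ lies in the ideal generated by φ(S'_+) (stated as a hypothesis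
because the induced morphism is built from it). Then the induced morphism Proj S → Proj S' is an
isomorphism of schemes. (The published statement treats the cases S'_0 = ℤ and S'_0 = A with S'_n =
S_n for n > 0; this row allows any graded φ that is bijective in positive degrees.) -/
theorem result {R A : Type u} [CommRing R] [CommRing A] [Algebra R A] (𝒜 : ℕ → Submodule R A) [GradedAlgebra 𝒜]
    {B : Type u} [CommRing B] [Algebra R B] (ℬ : ℕ → Submodule R B) [GradedAlgebra ℬ]
    (φ : ℬ →+*ᵍ 𝒜) (hbij : ∀ n : ℕ, 0 < n → Set.BijOn φ (ℬ n) (𝒜 n))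
    (hφ : HomogeneousIdeal.irrelevant 𝒜 ≤ (HomogeneousIdeal.irrelevant ℬ).map φ) :
    CategoryTheory.IsIso (Proj.map φ hφ) := by
  rw [← MorphismProperty.isomorphisms.iff]
  refine IsZariskiLocalAtTarget.of_openCover (P := MorphismProperty.isomorphisms Scheme)
    (Proj.affineOpenCover ℬ).openCover (fun i => ?_)
  rw [MorphismProperty.isomorphisms.iff]
  -- the data of the index
  obtain ⟨⟨d, hd⟩, s, hs⟩ := i
  have hbijs := awayMap_bijective φ hbij hd s hs
  have hiso : IsIso (Spec.map (CommRingCat.ofHom (Away.map φ s))) := by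
    rw [isIso_SpecMap_iff]
    exact hbijs
  have hpb : IsPullback (Spec.map (CommRingCat.ofHom (Away.map φ s)))
      (Proj.awayι 𝒜 (φ s) (Graded.map_mem φ hs) hd) (Proj.awayι ℬ s hs hd) (Proj.map φ hφ) := by
    refine IsOpenImmersion.isPullback _ _ _ _ (Proj.awayι_comp_map φ hφ hd s hs) ?_
    rw [Proj.opensRange_awayι, Proj.opensRange_awayι]
    rfl
  have h1 : IsIso (Limits.pullback.snd (Proj.map φ hφ) (Proj.awayι ℬ s hs hd)) := by
    rw [← hpb.flip.isoPullback_inv_snd]
    infer_instance
  exact h1


end Groth.Agent.S4398
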