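import Groth.Statements.S4399
import Groth.Agent.Lib.Helper17.TwistTriv

set_option autoImplicit false
universe u
open CategoryTheory CategoryTheory.Limits AlgebraicGeometry
open EGA2

namespace Groth.Agent.S4399

/-- Let S be a ring graded in nonnegative degrees, X = Proj S, d > 0, and U the union of the opens
D_+(f) for f running through S_d. Then for every integer n the restriction of the twisting sheaf
O_X(nd) to U is an invertible O_U-module. -/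
theorem result {R A : Type u} [CommRing R] [CommRing A] [Algebra R A] (𝒜 : ℕ → Submodule R A) [GradedAlgebra 𝒜]
    (d : ℕ) (hd : 0 < d) (n : ℤ) :
    PicF.IsInvertible ((Twist.twist 𝒜 (n * d)).restrict (⨆ f : 𝒜 d, Proj.basicOpen 𝒜 (f : A)).ι) := by
  set U₀ : (Proj 𝒜).Opens := ⨆ f : 𝒜 d, Proj.basicOpen 𝒜 (f : A) with hU₀
  intro y
  have hy : (y.1 : Proj 𝒜) ∈ ⨆ f : 𝒜 d, Proj.basicOpen 𝒜 (f : A) := y.2
  obtain ⟨f, hf⟩ := TopologicalSpace.Opens.mem_iSup.mp hy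
  refine ⟨U₀.ι ⁻¹ᵁ Proj.basicOpen 𝒜 (f : A), hf, ?_⟩
  set U : (↑U₀ : Scheme).Opens := U₀.ι ⁻¹ᵁ Proj.basicOpen 𝒜 (f : A) with hU
  have hab : ((n.toNat : ℕ) : ℤ) - ((-n).toNat : ℕ) = n := Int.toNat_sub_toNat_neg n
  have hnot : ∀ (k : ℕ) (z : ↑U),
      (f : A) ^ k ∉ ((U.ι ≫ U₀.ι).base z).asHomogeneousIdeal := by
    intro k z hmem
    have hz : (U₀.ι.base z.1 : Proj 𝒜) ∈ Proj.basicOpen 𝒜 (f : A) := z.2
    have hz' : (f : A) ∉ ((U₀.ι.base z.1 : Proj 𝒜) : ProjectiveSpectrum 𝒜).asHomogeneousIdeal :=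
      (Proj.mem_basicOpen 𝒜 (f : A) _).mp hz
    exact hz' (((U₀.ι.base z.1 : Proj 𝒜) : ProjectiveSpectrum 𝒜).isPrime.mem_of_pow_mem k hmem)
  obtain ⟨e⟩ := Groth.Agent.Lib.Helper17.TwistTriv.nonempty_restrict_iso 𝒜 (n * d)
    (SetLike.pow_mem_graded n.toNat f.2) (SetLike.pow_mem_graded (-n).toNat f.2)
    (by simp only [smul_eq_mul]; push_cast; linear_combination (d : ℤ) * hab)
    (U.ι ≫ U₀.ι) (hnot _) (hnot _)
  exact ⟨((Scheme.Modules.restrictFunctorComp U.ι U₀.ι).app (Twist.twist 𝒜 (n * d))).symm ≪≫ e⟩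

end Groth.Agent.S4399
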