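import Groth.Statements.S4404
import Mathlib.RingTheory.Nilpotent.Lemmas
import Mathlib.RingTheory.GradedAlgebra.Radical

set_option autoImplicit false
universe u
open EGA2

namespace Groth.Agent.S4404

/-- (a) ⇔ (b): let S be a ring graded in nonnegative degrees and E a subset of the irrelevant ideal S_+.
Then V_+(E) is the whole of Proj S if and only if every element of E is nilpotent. -/
theorem result {R A : Type u} [CommRing R] [CommRing A] [Algebra R A] (𝒜 : ℕ → Submodule R A) [GradedAlgebra 𝒜]
    (E : Set A) (hE : E ⊆ (HomogeneousIdeal.irrelevant 𝒜).toIdeal) :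
    ProjectiveSpectrum.zeroLocus 𝒜 E = Set.univ ↔ ∀ e ∈ E, IsNilpotent e := by
  constructor
  · intro h e he
    rw [nilpotent_iff_mem_prime]
    intro p hp'
    have hcore := hp'.homogeneousCore (𝒜 := 𝒜)
    by_cases hirr : (HomogeneousIdeal.irrelevant 𝒜).toIdeal ≤ (p.homogeneousCore 𝒜).toIdeal
    · exact Ideal.toIdeal_homogeneousCore_le 𝒜 p (hirr (hE he))
    · let q : ProjectiveSpectrum 𝒜 := ⟨p.homogeneousCore 𝒜, hcore, hirr⟩
      have hq : q ∈ ProjectiveSpectrum.zeroLocus 𝒜 E := by rw [h]; trivial
      rw [ProjectiveSpectrum.mem_zeroLocus] at hq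
      exact Ideal.toIdeal_homogeneousCore_le 𝒜 p (hq he)
  · intro h
    rw [Set.eq_univ_iff_forall]
    intro q
    rw [ProjectiveSpectrum.mem_zeroLocus]
    intro e he
    have := q.isPrime
    exact nilradical_le_prime q.asHomogeneousIdeal.toIdeal (mem_nilradical.mpr (h e he))

end Groth.Agent.S4404
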