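import Groth.Statements.S4405
import Mathlib.RingTheory.GradedAlgebra.Radical
import Mathlib.AlgebraicGeometry.ProjectiveSpectrum.Topology

set_option autoImplicit false
universe u
open EGA2

namespace Groth.Agent.S4405

/-- Let S be a ring graded in nonnegative degrees and E any subset of the irrelevant ideal S_+. Then the
intersection of S_+ with the vanishing ideal of the closed subset V_+(E) of Proj S equals the
intersection of S_+ with the radical of the graded ideal generated by E (the smallest homogeneous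
ideal containing E). -/
theorem result {R A : Type u} [CommRing R] [CommRing A] [Algebra R A] (𝒜 : ℕ → Submodule R A) [GradedAlgebra 𝒜]
    (E : Set A) (hE : E ⊆ (HomogeneousIdeal.irrelevant 𝒜).toIdeal) :
    (HomogeneousIdeal.irrelevant 𝒜).toIdeal ⊓
        (ProjectiveSpectrum.vanishingIdeal (ProjectiveSpectrum.zeroLocus 𝒜 E)).toIdeal =
      (HomogeneousIdeal.irrelevant 𝒜).toIdeal ⊓ (Ideal.homogeneousHull 𝒜 (Ideal.span E)).toIdeal.radical := by
  -- membership of the zero locus in terms of the hull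
  have hzl : ∀ p : ProjectiveSpectrum 𝒜, p ∈ ProjectiveSpectrum.zeroLocus 𝒜 E ↔
      Ideal.homogeneousHull 𝒜 (Ideal.span E) ≤ p.asHomogeneousIdeal := by
    intro p
    rw [Ideal.homogeneousHull.gc (𝒜 := 𝒜) _ _, ProjectiveSpectrum.mem_zeroLocus, Ideal.span_le]
    rfl
  apply le_antisymm
  · rintro a ⟨ha1, ha2⟩
    refine ⟨ha1, ?_⟩
    change a ∈ (Ideal.homogeneousHull 𝒜 (Ideal.span E)).toIdeal.radical
    rw [Ideal.radical_eq_sInf, Ideal.mem_sInf]
    rintro q ⟨hq1, hq2⟩
    have hcore := hq2.homogeneousCore (𝒜 := 𝒜)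
    have hle : Ideal.homogeneousHull 𝒜 (Ideal.span E) ≤ q.homogeneousCore 𝒜 :=
      (Ideal.homogeneousCore.gc (𝒜 := 𝒜) _ _).mp hq1
    by_cases hirr : (HomogeneousIdeal.irrelevant 𝒜).toIdeal ≤ (q.homogeneousCore 𝒜).toIdeal
    · exact Ideal.toIdeal_homogeneousCore_le 𝒜 q (hirr ha1)
    · let p : ProjectiveSpectrum 𝒜 := ⟨q.homogeneousCore 𝒜, hcore, hirr⟩
      have hp : p ∈ ProjectiveSpectrum.zeroLocus 𝒜 E := (hzl p).mpr hle
      have ha2' : a ∈ ProjectiveSpectrum.vanishingIdeal (ProjectiveSpectrum.zeroLocus 𝒜 E) := ha2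
      rw [ProjectiveSpectrum.mem_vanishingIdeal] at ha2'
      exact Ideal.toIdeal_homogeneousCore_le 𝒜 q (ha2' p hp)
  · rintro a ⟨ha1, ha2⟩
    refine ⟨ha1, ?_⟩
    change a ∈ ProjectiveSpectrum.vanishingIdeal (ProjectiveSpectrum.zeroLocus 𝒜 E)
    rw [ProjectiveSpectrum.mem_vanishingIdeal]
    intro p hp
    have := p.isPrime
    obtain ⟨n, hn⟩ := ha2
    exact this.mem_of_pow_mem n ((hzl p).mp hp hn)


end Groth.Agent.S4405
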