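import Groth.Statements.S4410
import Mathlib
import Groth.Agent.Lib.Helper22.QAffImm
import Groth.Agent.S9380
import Groth.Agent.S0590
-- import your own Groth.Agent.* helpers here

set_option autoImplicit false
universe u
open CategoryTheory CategoryTheory.Limits AlgebraicGeometry
open EGA2

namespace Groth.Agent.S4410

/-- Let Y be a quasi-compact separated scheme and f : X → Y a quasi-affine morphism of finite type. Then
there are a scheme X'', an affine morphism of finite type g : X'' → Y and an immersion j : X → X''
with j ≫ g = f. (The published statement also allows Y to be a scheme whose underlying space is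
Noetherian; this row assumes it quasi-compact and separated. The published statement realises X'' as
the relative spectrum of a quasi-coherent sub-algebra of finite type of f_*O_X, and says every
larger such sub-algebra also works; only the resulting factorisation is stated here.) -/
theorem result {X Y : Scheme.{u}} [CompactSpace Y] [Y.IsSeparated]
    (f : X ⟶ Y) (hf : Mor2.IsQuasiAffine f) [LocallyOfFiniteType f] :
    ∃ (X'' : Scheme.{u}) (g : X'' ⟶ Y) (j : X ⟶ X''), IsAffineHom g ∧ LocallyOfFiniteType g ∧ IsImmersion j ∧ j ≫ g = f := by
  obtain ⟨hqc, hqa⟩ := hf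
  haveI : QuasiCompact f := hqc
  haveI : QuasiSeparated f := by
    apply HasAffineProperty.of_iSup_eq_top (P := @QuasiSeparated) (fun U : Y.affineOpens => U)
      (iSup_affineOpens_eq_top Y)
    intro U
    show QuasiSeparatedSpace ((f ⁻¹ᵁ U.1 : X.Opens) : Scheme.{u})
    haveI := hqa U.1 U.2
    infer_instance
  obtain ⟨c, e, -, hcqc, hcoi⟩ := (Groth.Agent.S9380.result f).mp ⟨hqc, hqa⟩
  haveI : CompactSpace X := (quasiCompact_iff_compactSpace f).mp hqc
  haveI : LocallyOfFiniteType (c ≫ (RelSpec.QCAlg.directImage f).π) := by rw [e]; infer_instance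
  obtain ⟨Z', g, j, h1, h2, h3, h4⟩ :=
    Groth.Agent.Lib.Helper22.QAffImm.exists_immersion_affine_fp
      (fun S _ _ => Groth.Agent.S0590.result S) (RelSpec.QCAlg.directImage f).π c
  exact ⟨Z', g, j, h1, inferInstance, h3, h4.trans e⟩

end Groth.Agent.S4410
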