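import Groth.Statements.S4415
import Mathlib
import Groth.Agent.Lib.Helper48.ChowRel
import Groth.Agent.S7410
import Groth.Agent.S9717
import Groth.Agent.Lib.Helper17.HQuasiProj

set_option autoImplicit false
universe u
open CategoryTheory CategoryTheory.Limits AlgebraicGeometry
open EGA2

namespace Groth.Agent.S4415

open Limits TopologicalSpace in
/-- Restricting an isomorphism-over-`U₀` to a smaller open. -/
theorem isIso_morphismRestrict_of_le {X X' : Scheme.{u}} (π : X' ⟶ X) {U₁ U₀ : X.Opens}
    (hle : U₁ ≤ U₀) [IsIso (π ∣_ U₀)] : IsIso (π ∣_ U₁) := by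
  have h1 : IsIso ((π ∣_ U₀) ∣_ (U₀.ι ⁻¹ᵁ U₁)) := inferInstance
  have h2 : IsIso (π ∣_ U₀.ι ''ᵁ (U₀.ι ⁻¹ᵁ U₁)) :=
    (MorphismProperty.arrow_mk_iso_iff (MorphismProperty.isomorphisms Scheme.{u})
      (morphismRestrictRestrict π U₀ (U₀.ι ⁻¹ᵁ U₁))).mp h1
  have e : U₀.ι ''ᵁ (U₀.ι ⁻¹ᵁ U₁) = U₁ := by
    rw [Scheme.Hom.image_preimage_eq_opensRange_inf, Scheme.Opens.opensRange_ι]
    exact inf_eq_right.mpr hle
  rwa [e] at h2

/-- Let r : X → S be a separated morphism of finite type and assume either (a) S is Noetherian, or (b) S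
is quasi-compact and separated and X has finitely many irreducible components. Then there exist a
scheme X' and a morphism f : X' → X such that: (i) X' is quasi-projective over S through f ≫ r, and
f is projective and surjective; (ii) for some open U of X the open f⁻¹(U) is dense in X' and f
restricted over U is an isomorphism; (iii) X' is reduced (resp. irreducible, resp. integral) if X
is. -/
theorem result {X S : Scheme.{u}} (r : X ⟶ S) [IsSeparated r] [LocallyOfFiniteType r] [QuasiCompact r]
    (h : IsNoetherian S ∨ (CompactSpace S ∧ S.IsSeparated ∧ (irreducibleComponents X).Finite)) :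
    ∃ (X' : Scheme.{u}) (f : X' ⟶ X),
      RelProj.IsQuasiProjective (f ≫ r) ∧ RelProj.IsProjective f ∧ Surjective f ∧
      (∃ U : X.Opens, Dense ((f ⁻¹ᵁ U : X'.Opens) : Set X') ∧ IsIso (f ∣_ U)) ∧
      (IsReduced X → IsReduced X') ∧ (IrreducibleSpace X → IrreducibleSpace X') ∧
      (IsIntegral X → IsIntegral X') := by
  have hdata : CompactSpace S ∧ QuasiSeparatedSpace S ∧ (irreducibleComponents X).Finite := by
    rcases h with hN | ⟨hc, hs, hfin⟩
    · haveI := hN
      haveI : IsLocallyNoetherian X := LocallyOfFiniteType.isLocallyNoetherian r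
      haveI : CompactSpace X := QuasiCompact.compactSpace_of_compactSpace r
      haveI : IsNoetherian X := {}
      exact ⟨inferInstance, inferInstance,
        TopologicalSpace.NoetherianSpace.finite_irreducibleComponents⟩
    · haveI := hs
      exact ⟨hc, inferInstance, hfin⟩
  obtain ⟨hc, hqs, hfin⟩ := hdata
  haveI := hc
  haveI := hqs
  haveI : CompactSpace X := QuasiCompact.compactSpace_of_compactSpace r
  haveI : QuasiSeparatedSpace X := quasiSeparatedSpace_of_quasiSeparated r
  obtain ⟨n, X', π, j, hj, hcomp, hπ, hsurj, U₀, hU₀, hiso₀⟩ := Groth.Agent.S7410.result r hfin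
  obtain ⟨U₁, hle, hU₁, hU₁c⟩ :=
    Groth.Agent.Lib.Helper48.ChowRel.exists_compact_dense_le hfin U₀ hU₀
  haveI : QuasiCompact U₁.ι :=
    Groth.Agent.Lib.Helper48.ChowRel.quasiCompact_ι_of_isCompact U₁ hU₁c
  haveI : IsIso (π ∣_ U₁) := isIso_morphismRestrict_of_le π hle
  obtain ⟨X'', π'', j'', hj'', hcomp'', hπ'', hsurj'', hdense, hiso, hred, hirr⟩ :=
    Groth.Agent.Lib.Helper48.ChowRel.exists_trimmed_chow r n π j hcomp U₁ hU₁
  refine ⟨X'', π'', ?_, ?_, hsurj'', ⟨U₁, hdense, hiso⟩, hred, hirr, ?_⟩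
  · exact Groth.Agent.Lib.Helper17.HQuasiProj.isQuasiProjective_of_isHQuasiProjective _
      (Groth.Agent.Lib.Helper48.ChowRel.isHQuasiProjective_of_chow r n π'' j'' hcomp'')
  · exact Groth.Agent.S9717.result _
      (Groth.Agent.Lib.Helper48.ChowRel.isHProjective_of_chow r n π'' j'' hcomp'')
  · intro hint
    rw [isIntegral_iff_irreducibleSpace_and_isReduced] at hint ⊢
    exact ⟨hirr hint.1, hred hint.2⟩

end Groth.Agent.S4415
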