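import Groth.Statements.S4418
import Mathlib
import Groth.Agent.Lib.Helper63.RelTwistAmple
import Groth.Agent.Lib.Helper63.ProjUnivClosed
import Groth.Agent.Lib.Helper11.PullbackAmple
import Groth.Agent.S8261
-- import your own Groth.Agent.* helpers here

set_option autoImplicit false
universe u
open CategoryTheory CategoryTheory.Limits AlgebraicGeometry
open EGA2

namespace Groth.Agent.S4418

/-- Every projective morphism f : X → Y is quasi-projective (of finite type with an f-ample module) and
proper. -/
theorem result {X Y : Scheme.{u}} (f : X ⟶ Y) (hf : RelProj.IsProjective f) :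
    RelProj.IsQuasiProjective f ∧ IsProper f := by
  obtain ⟨𝒮, P, p, chart, e, hgen, hft, hP, he⟩ := hf
  obtain ⟨hlft, hqc⟩ := Groth.Agent.S8261.result 𝒮 hgen hft p chart hP
  have hprop : IsProper p :=
    Groth.Agent.Lib.Helper63.ProjUnivClosed.isProper_of_isRelProj 𝒮 hgen hft p chart hP
  obtain ⟨L₁, lam₁, hL₁⟩ := Groth.Agent.Lib.Helper42.RelTwistExists.exists_isRelTwist 𝒮 p chart hP 1
  have hamp : RelAmple.IsRelAmple p L₁ :=
    Groth.Agent.Lib.Helper63.RelTwistAmple.isRelAmple_twistOne hgen hL₁
  subst he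
  refine ⟨⟨inferInstance, inferInstance, ⟨(Scheme.Modules.pullback e.hom).obj L₁, ?_⟩⟩, inferInstance⟩
  exact Groth.Agent.Lib.Helper11.PullbackAmple.relAmple_pullback_of_isEmbedding p e.hom
    e.hom.isOpenEmbedding.isEmbedding L₁ hamp


end Groth.Agent.S4418
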