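import Groth.Statements.S4417
import Mathlib
import Groth.Agent.S4385

set_option autoImplicit false
universe u
open CategoryTheory CategoryTheory.Limits AlgebraicGeometry
open EGA2

namespace Groth.Agent.S4417

section helpers

open Groth.Agent.Lib.Helper11.GenLocus

theorem relAmple_of_iso {X Y : Scheme.{u}} (f : X ⟶ Y) {L L' : X.Modules} (e : L ≅ L')
    (h : RelAmple.IsRelAmple f L) : RelAmple.IsRelAmple f L' :=
  ⟨h.1, fun V => isAmple_of_iso ((Scheme.Modules.restrictFunctor _).mapIso e) (h.2 V)⟩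

theorem sections_bot_eq {X : Scheme.{u}} (M : X.Modules) (U : X.Opens) (hU : U = ⊥)
    (s t : M.presheaf.obj (Opposite.op U)) : s = t := by
  subst hU
  apply TopCat.Presheaf.section_ext ⟨M.presheaf, M.isSheaf⟩ ⊥
  intro x hx
  exact absurd hx (by simp)

theorem isZero_restrict_pushforward {U U' X : Scheme.{u}} (j : U ⟶ X) (j' : U' ⟶ X)
    [IsOpenImmersion j] [IsOpenImmersion j'] (h : Disjoint j.opensRange j'.opensRange)
    (M : U'.Modules) :
    IsZero ((Scheme.Modules.restrictFunctor j).obj ((Scheme.Modules.pushforward j').obj M)) := by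
  rw [IsZero.iff_id_eq_zero]
  ext W x
  apply sections_bot_eq M
  change j' ⁻¹ᵁ (j ''ᵁ W) = ⊥
  rw [eq_bot_iff]
  intro y hy
  have h1 : j' y ∈ j.opensRange := (j.image_le_opensRange W) hy
  have h2 : j' y ∈ j'.opensRange := ⟨y, rfl⟩
  exact (h.le_bot ⟨h1, h2⟩).elim

attribute [local instance] preservesBinaryBiproducts_of_preservesBinaryCoproducts in
theorem exists_modules_coprod {X X' : Scheme.{u}} (L : X.Modules) (L' : X'.Modules) :
    ∃ L'' : (X ⨿ X').Modules,
      Nonempty ((Scheme.Modules.pullback (coprod.inl : X ⟶ X ⨿ X')).obj L'' ≅ L) ∧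
      Nonempty ((Scheme.Modules.pullback (coprod.inr : X' ⟶ X ⨿ X')).obj L'' ≅ L') := by
  have hd : Disjoint (coprod.inl : X ⟶ X ⨿ X').opensRange (coprod.inr : X' ⟶ X ⨿ X').opensRange :=
    (isCompl_opensRange_inl_inr X X').disjoint
  let A := (Scheme.Modules.pushforward (coprod.inl : X ⟶ X ⨿ X')).obj L
  let B := (Scheme.Modules.pushforward (coprod.inr : X' ⟶ X ⨿ X')).obj L'
  refine ⟨A ⊞ B, ⟨?_⟩, ⟨?_⟩⟩
  · refine (Scheme.Modules.pullback (coprod.inl : X ⟶ X ⨿ X')).mapBiprod A B ≪≫ ?_
    refine biprod.mapIso ((Scheme.Modules.restrictFunctorIsoPullback _).symm.app A)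
      ((Scheme.Modules.restrictFunctorIsoPullback _).symm.app B) ≪≫ ?_
    have hz := isZero_restrict_pushforward _ _ hd L'
    exact (isoBiprodZero hz).symm ≪≫ (Scheme.Modules.restrictFunctorAdjCounitIso _).app L
  · refine (Scheme.Modules.pullback (coprod.inr : X' ⟶ X ⨿ X')).mapBiprod A B ≪≫ ?_
    refine biprod.mapIso ((Scheme.Modules.restrictFunctorIsoPullback _).symm.app A)
      ((Scheme.Modules.restrictFunctorIsoPullback _).symm.app B) ≪≫ ?_
    have hz := isZero_restrict_pushforward _ _ hd.symm L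
    exact (isoZeroBiprod hz).symm ≪≫ (Scheme.Modules.restrictFunctorAdjCounitIso _).app L'

theorem main_S4417 {X X' Y : Scheme.{u}} (f : X ⟶ Y) (f' : X' ⟶ Y)
    (hf : RelProj.IsQuasiProjective f) (hf' : RelProj.IsQuasiProjective f') :
    RelProj.IsQuasiProjective (coprod.desc f f') := by
  obtain ⟨h1, h2, L, hL⟩ := hf
  obtain ⟨h1', h2', L', hL'⟩ := hf'
  obtain ⟨L'', ⟨e⟩, ⟨e'⟩⟩ := exists_modules_coprod L L'
  have key : RelAmple.IsRelAmple (coprod.desc f f') L'' :=
    (Groth.Agent.S4385.main_S4385 f f' L'').mpr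
      ⟨relAmple_of_iso f e.symm hL, relAmple_of_iso f' e'.symm hL'⟩
  refine ⟨?_, key.1, L'', key⟩
  refine IsZariskiLocalAtSource.of_openCover (P := @LocallyOfFiniteType)
    (coprodOpenCover.{_, 0} X X') ?_
  rintro (i | i)
  · change LocallyOfFiniteType (coprod.inl ≫ coprod.desc f f')
    rw [coprod.inl_desc]; exact h1
  · change LocallyOfFiniteType (coprod.inr ≫ coprod.desc f f')
    rw [coprod.inr_desc]; exact h1'


end helpers

/-- Let f : X → Y and f' : X' → Y be quasi-projective morphisms (of finite type, each admitting a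
relatively ample module). Then the morphism X ⨿ X' → Y restricting to f and f' on the two summands
is quasi-projective. -/
theorem result {X X' Y : Scheme.{u}} (f : X ⟶ Y) (f' : X' ⟶ Y)
    (hf : RelProj.IsQuasiProjective f) (hf' : RelProj.IsQuasiProjective f') :
    RelProj.IsQuasiProjective (coprod.desc f f') := by
  exact main_S4417 f f' hf hf'

end Groth.Agent.S4417
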