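import Groth.Statements.S4420
import Groth.Agent.S4418
import Groth.Agent.S4414
import Groth.Agent.S9717

set_option autoImplicit false
universe u
open CategoryTheory CategoryTheory.Limits AlgebraicGeometry
open EGA2

namespace Groth.Agent.S4420

/-- Let Y be a quasi-compact separated scheme possessing an ample invertible O_Y-module and f : X → Y a
morphism. Then f is projective if and only if there are r ≥ 0 and a closed immersion of X into
projective r-space over Y compatible with the projections (f is H-projective). -/
theorem result {X Y : Scheme.{u}} [CompactSpace Y] [Y.IsSeparated]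
    (hY : ∃ M : Y.Modules, CohB1.IsAmple M) (f : X ⟶ Y) :
    RelProj.IsProjective f ↔ RelProj.IsHProjective f := by
  constructor
  · intro hf
    obtain ⟨hq, hprop⟩ := Groth.Agent.S4418.result f hf
    obtain ⟨-, -, r, i, hi, hif⟩ := (Groth.Agent.S4414.result hY f).mp hq
    -- the projection `P^r_Y → Y` is H-projective, hence projective, hence proper
    have hbase : RelProj.IsHProjective (CohB1.ProjSpaceOver.toBase r Y) :=
      ⟨r, 𝟙 _, inferInstance, Category.id_comp _⟩
    have hbp : IsProper (CohB1.ProjSpaceOver.toBase r Y) :=
      (Groth.Agent.S4418.result _ (Groth.Agent.S9717.result _ hbase)).2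
    have hsep : IsSeparated (CohB1.ProjSpaceOver.toBase r Y) := inferInstance
    have hprop' : IsProper (i ≫ CohB1.ProjSpaceOver.toBase r Y) := hif ▸ hprop
    have hip : IsProper i := IsProper.of_comp i (CohB1.ProjSpaceOver.toBase r Y)
    have hcl : IsClosedImmersion i :=
      IsClosedImmersion.of_isPreimmersion i i.isClosedMap.isClosed_range
    exact ⟨r, i, hcl, hif⟩
  · exact Groth.Agent.S9717.result f

end Groth.Agent.S4420
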