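import Groth.Statements.S4421
import Groth.Agent.Lib.Helper18.BCGen
import Groth.Agent.Lib.Helper42.RelProjGlue
import Groth.Agent.S12141

set_option autoImplicit false
universe u
open CategoryTheory CategoryTheory.Limits AlgebraicGeometry
open EGA2

namespace Groth.Agent.S4421

/-- Let f : X → Y be a projective morphism and g : Y' → Y any morphism. Then the base change X ×_Y Y' →
Y' of f is projective. -/
theorem result {X Y Y' : Scheme.{u}} (f : X ⟶ Y) (hf : RelProj.IsProjective f) (g : Y' ⟶ Y) :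
    RelProj.IsProjective (pullback.snd f g) := by
  obtain ⟨𝒮, P, p, chart, e, hgen, hft, hrel, he⟩ := hf
  let 𝒮' := Groth.Agent.Lib.Helper18.BCGr.bcGr g 𝒮
  let u := Groth.Agent.Lib.Helper18.BCGr.bcGrHom g 𝒮
  have hu := Groth.Agent.Lib.Helper18.BCGr.isQBaseChange_bcGrHom g 𝒮
  let p' := (Groth.Agent.Lib.Helper42.RelProjGlue.gluingData 𝒮').toBase
  let chart' := Groth.Agent.Lib.Helper42.RelProjGlue.chart 𝒮'
  have hP' : RelProj.IsRelProj 𝒮' p' chart' := Groth.Agent.Lib.Helper42.RelProjGlue.isRelProj 𝒮'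
  obtain ⟨⟨h, hh⟩, hpb⟩ := Groth.Agent.S12141.result g 𝒮 𝒮' u hu p chart hrel p' chart' hP'
  have H1 : IsPullback h p' p g := hpb h hh
  have H2 : IsPullback (pullback.fst f g ≫ e.hom) (pullback.snd f g) p g := by
    refine (IsPullback.of_hasPullback f g).of_iso (Iso.refl _) e (Iso.refl _) (Iso.refl _)
      ?_ ?_ ?_ ?_
    · simp
    · simp
    · simpa using he.symm
    · simp
  refine ⟨𝒮', _, p', chart', H2.isoIsPullback _ _ H1,
    Groth.Agent.Lib.Helper18.BCGr.isGenDegOne_bcGr g 𝒮 hgen,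
    Groth.Agent.Lib.Helper18.BCGr.isFTDeg_bcGr g 𝒮 1 hft, hP', ?_⟩
  exact IsPullback.isoIsPullback_hom_snd _ _ H2 H1

end Groth.Agent.S4421
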