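import Groth.Statements.S4423
import Groth.Agent.Lib.Helper18.CSubChart
import Groth.Agent.S4421

set_option autoImplicit false
universe u
open CategoryTheory CategoryTheory.Limits AlgebraicGeometry
open EGA2

namespace Groth.Agent.S4423

/-- Let f : X → Y and g : Y → Z be morphisms with f ≫ g projective and g separated. Then f is
projective. -/
theorem result {X Y Z : Scheme.{u}} (f : X ⟶ Y) (g : Y ⟶ Z) [IsSeparated g]
    (h : RelProj.IsProjective (f ≫ g)) : RelProj.IsProjective f := by
  have hsnd : RelProj.IsProjective (pullback.snd (f ≫ g) g) := Groth.Agent.S4421.result (f ≫ g) h g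
  have hw : 𝟙 X ≫ f ≫ g = f ≫ g := Category.id_comp _
  have hgraph : IsClosedImmersion (pullback.lift (𝟙 X) f hw : X ⟶ pullback (f ≫ g) g) :=
    MorphismProperty.of_isPullback (P := @IsClosedImmersion)
      (pullback_lift_diagonal_isPullback f g) inferInstance
  have h1 := Groth.Agent.Lib.Helper18.isProjective_closedImmersion_comp
    (pullback.lift (𝟙 X) f hw : X ⟶ pullback (f ≫ g) g) (pullback.snd (f ≫ g) g) hsnd
  rwa [pullback.lift_snd] at h1

end Groth.Agent.S4423
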