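import Groth.Statements.S4426
import Mathlib.AlgebraicGeometry.ProjectiveSpectrum.Proper

set_option autoImplicit false
universe u
open CategoryTheory CategoryTheory.Limits AlgebraicGeometry
open EGA2

namespace Groth.Agent.S4426

/-- the relative homogeneous spectrum is separated over the base -/
theorem isSeparated_of_isRelProj {Y P : Scheme.{u}} (𝒮 : RelProj.QCGrAlg Y) (p : P ⟶ Y)
    (chart : ∀ (U : Y.Opens) (hU : IsAffineOpen U), ((p ⁻¹ᵁ U : P.Opens) : Scheme.{u}) ≅ Proj (𝒮.deg U hU))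
    (hp : RelProj.IsRelProj 𝒮 p chart) : IsSeparated p := by
  rw [IsZariskiLocalAtTarget.iff_of_iSup_eq_top (P := @IsSeparated) (fun U : Y.affineOpens => U.1)
    (iSup_affineOpens_eq_top Y)]
  intro U
  have h1 : IsSeparated ((p ⁻¹ᵁ U.1).ι ≫ p) := by
    rw [← hp.chart_over U.1 U.2]
    infer_instance
  have h2 : (p ⁻¹ᵁ U.1).ι ≫ p = (p ∣_ U.1) ≫ U.1.ι := (morphismRestrict_ι p U.1).symm
  rw [h2] at h1
  exact IsSeparated.of_comp (p ∣_ U.1) U.1.ι

/-- Let g : X → Y be a proper morphism, 𝒮 a quasi-coherent graded O_Y-algebra and p : P → Y its relative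
homogeneous spectrum (given with its charts over affine opens). Then every morphism u : X → P with u
≫ p = g is proper (in particular closed). -/
theorem result {X Y P : Scheme.{u}} (g : X ⟶ Y) [IsProper g] (𝒮 : RelProj.QCGrAlg Y) (p : P ⟶ Y)
    (chart : ∀ (U : Y.Opens) (hU : IsAffineOpen U), ((p ⁻¹ᵁ U : P.Opens) : Scheme.{u}) ≅ Proj (𝒮.deg U hU))
    (hp : RelProj.IsRelProj 𝒮 p chart) (u : X ⟶ P) (hu : u ≫ p = g) : IsProper u := by
  have hsep := isSeparated_of_isRelProj 𝒮 p chart hp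
  have : IsProper (u ≫ p) := by rw [hu]; infer_instance
  exact IsProper.of_comp u p


end Groth.Agent.S4426
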