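import Groth.Statements.S4429
import Mathlib.LinearAlgebra.Charpoly.BaseChange
import Mathlib.LinearAlgebra.Eigenspace.Charpoly
import Mathlib.LinearAlgebra.Eigenspace.Minpoly
import Mathlib.LinearAlgebra.Matrix.Charpoly.LinearMap
import Mathlib.FieldTheory.IsAlgClosed.AlgebraicClosure
import Mathlib.RingTheory.Polynomial.GaussLemma

set_option autoImplicit false
universe u
open EGA2

namespace Groth.Agent.S4429

open Polynomial TensorProduct

theorem aeval_baseChange (R A M : Type*) [CommRing R] [CommRing A] [Algebra R A] [AddCommGroup M]
    [Module R M] (f : Module.End R M) (p : R[X]) :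
    aeval (f.baseChange A) (p.map (algebraMap R A)) = (aeval f p).baseChange A := by
  rw [aeval_map_algebraMap]
  exact aeval_algHom_apply (Module.End.baseChangeHom R A M) f p

/-- roots of the characteristic polynomial of an endomorphism killed by a monic polynomial with
coefficients in `A` are integral over `A`. -/
theorem isIntegral_of_isRoot_charpoly {A K V : Type*} [CommRing A] [Field K] [Algebra A K]
    [AddCommGroup V] [Module K V] [Module.Finite K V] (f : Module.End K V) (p : A[X]) (hp : p.Monic)
    (h0 : aeval f (p.map (algebraMap A K)) = 0) (a : K) (ha : f.charpoly.IsRoot a) :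
    IsIntegral A a := by
  rw [← Module.End.hasEigenvalue_iff_isRoot_charpoly] at ha
  obtain ⟨v, hv⟩ := ha.exists_hasEigenvector
  have h1 := Module.End.aeval_apply_of_hasEigenvector hv (p := p.map (algebraMap A K))
  rw [h0, LinearMap.zero_apply] at h1
  have h2 : (p.map (algebraMap A K)).eval a = 0 := by
    by_contra hne
    exact hv.2 ((smul_eq_zero.mp h1.symm).resolve_left hne)
  refine ⟨p, hp, ?_⟩
  rwa [eval_map] at h2

/-- For an integral domain A with fraction field K, a finitely generated A-module E and an endomorphism
u of E, the coefficients of the characteristic polynomial of u ⊗ 1 acting on the K-vector space K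
⊗_A E (the elementary symmetric functions of u, among them its trace and determinant) are integral
over A. -/
theorem result (A : Type u) [CommRing A] [IsDomain A] (K : Type u) [Field K]
    [Algebra A K] [IsFractionRing A K] (E : Type u) [AddCommGroup E] [Module A E] [Module.Finite A E]
    (u : E →ₗ[A] E) (i : ℕ) :
    IsIntegral A (((u.baseChange K).charpoly).coeff i) := by
  obtain ⟨p, hp, hpu⟩ := LinearMap.exists_monic_and_aeval_eq_zero A u
  have h0 : aeval (u.baseChange K) (p.map (algebraMap A K)) = 0 := by
    rw [aeval_baseChange, hpu, LinearMap.baseChange_zero]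
  set uK := u.baseChange K with huK
  set g := uK.charpoly with hg
  let L := AlgebraicClosure K
  have h0L : aeval (uK.baseChange L) (p.map (algebraMap A L)) = 0 := by
    rw [IsScalarTower.algebraMap_eq A K L, ← Polynomial.map_map, aeval_baseChange, h0,
      LinearMap.baseChange_zero]
  have hgL : g.map (algebraMap K L) = (uK.baseChange L).charpoly :=
    (LinearMap.charpoly_baseChange (A := L) uK).symm
  have hroots : ∀ a ∈ (g.map (algebraMap K L)).roots, IsIntegral A a := by
    intro a ha
    rw [hgL] at ha
    exact isIntegral_of_isRoot_charpoly (uK.baseChange L) p hp h0L a (isRoot_of_mem_roots ha)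
  have hsplit : (g.map (algebraMap K L)).Splits := IsAlgClosed.splits _
  have hlift := hsplit.mem_lift_of_roots_mem_range ((LinearMap.charpoly_monic uK).map _)
    (algebraMap (integralClosure A L) L) (fun a ha => ⟨⟨a, hroots a ha⟩, rfl⟩)
  rw [lifts_iff_coeff_lifts] at hlift
  obtain ⟨c, hc⟩ := hlift i
  have : IsIntegral A (algebraMap K L (g.coeff i)) := by
    rw [← coeff_map, ← hc]
    exact c.2
  exact (isIntegral_algebraMap_iff (algebraMap K L).injective).mp this


end Groth.Agent.S4429
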