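import Groth.Statements.S4430
import Groth.Agent.S4429
import Mathlib.Algebra.Polynomial.Reverse
import Mathlib.Algebra.Polynomial.Inductions

set_option autoImplicit false
universe u
open EGA2

namespace Groth.Agent.S4430

open Polynomial TensorProduct

/-- if `a b = 1` in `K` and `b` is integral over `A`, then `a` is a unit of `A`. -/
theorem isUnit_of_isIntegral_inv {A K : Type*} [CommRing A] [CommRing K] [Algebra A K]
    (hinj : Function.Injective (algebraMap A K)) (a : A) (b : K)
    (hab : b * algebraMap A K a = 1) (hb : IsIntegral A b) : IsUnit a := by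
  obtain ⟨q, hq, hqb⟩ := hb
  let _ : Invertible b := ⟨algebraMap A K a, by rw [mul_comm]; exact hab, hab⟩
  have h1 : eval₂ (algebraMap A K) (⅟b) (reverse q) = 0 :=
    (eval₂_reverse_eq_zero_iff (algebraMap A K) b q).mpr hqb
  have h2 : ⅟b = algebraMap A K a := rfl
  rw [h2, eval₂_at_apply] at h1
  have h3 : eval a (reverse q) = 0 := hinj (by rw [h1, map_zero])
  have h4 := congrArg (eval a) (divX_mul_X_add (reverse q))
  rw [eval_add, eval_mul, eval_X, eval_C, coeff_zero_reverse, hq.leadingCoeff, h3] at h4
  refine IsUnit.of_mul_eq_one (-(eval a (divX (reverse q)))) ?_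
  linear_combination -h4

/-- Let A be an integral domain with fraction field K, E a finitely generated A-module and u an
endomorphism of E whose characteristic-polynomial coefficients (those of u ⊗ 1 on K ⊗_A E) all lie
in A. If u is an automorphism of E, then its determinant, as an element of A, is invertible in A. -/
theorem result (A : Type u) [CommRing A] [IsDomain A] (K : Type u) [Field K]
    [Algebra A K] [IsFractionRing A K] (E : Type u) [AddCommGroup E] [Module A E] [Module.Finite A E]
    (u : E →ₗ[A] E) (hcoeff : ∀ i : ℕ, ((u.baseChange K).charpoly).coeff i ∈ (algebraMap A K).range)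
    (a : A) (ha : algebraMap A K a = LinearMap.det (u.baseChange K)) (hu : Function.Bijective u) :
    IsUnit a := by
  let e := LinearEquiv.ofBijective u hu
  let w : E →ₗ[A] E := e.symm.toLinearMap
  have hwu : w ∘ₗ u = LinearMap.id := by
    ext x
    exact e.symm_apply_apply x
  have hdet : LinearMap.det (w.baseChange K) * LinearMap.det (u.baseChange K) = 1 := by
    rw [← LinearMap.det_comp, ← LinearMap.baseChange_comp, hwu, LinearMap.baseChange_id,
      LinearMap.det_id]
  have hint : IsIntegral A (LinearMap.det (w.baseChange K)) := by
    rw [LinearMap.det_eq_sign_charpoly_coeff]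
    exact IsIntegral.mul (IsIntegral.pow (isIntegral_one.neg) _) (Groth.Agent.S4429.result A K E w 0)
  rw [← ha] at hdet
  exact isUnit_of_isIntegral_inv (IsFractionRing.injective A K) a _ hdet hint


end Groth.Agent.S4430
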