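import Groth.Statements.S4431
import Groth.Agent.S4429
import Mathlib.Algebra.Polynomial.Lifts
import Mathlib.Algebra.Polynomial.Inductions
import Mathlib.RingTheory.Localization.BaseChange
import Mathlib.Algebra.Module.LocalizedModule.Basic

set_option autoImplicit false
universe u
open EGA2

namespace Groth.Agent.S4431

open Polynomial TensorProduct

theorem mk_injective_of_isTorsionFree (A : Type u) [CommRing A] [IsDomain A] (K : Type u) [Field K]
    [Algebra A K] [IsFractionRing A K] (E : Type u) [AddCommGroup E] [Module A E]
    [Module.IsTorsionFree A E] : Function.Injective (TensorProduct.mk A K E 1) := by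
  rw [injective_iff_map_eq_zero]
  intro x hx
  rw [IsLocalizedModule.eq_zero_iff (nonZeroDivisors A)] at hx
  obtain ⟨s, hs⟩ := hx
  have hreg : IsRegular (s : A) := isRegular_iff_mem_nonZeroDivisors.mpr s.2
  exact (Module.IsTorsionFree.isSMulRegular hreg) (by
    change (s : A) • x = (s : A) • (0 : E)
    rw [smul_zero]; exact hs)

/-- Let A be an integral domain with fraction field K, E a finitely generated torsion-free A-module and
u an endomorphism of E whose characteristic-polynomial coefficients (those of u ⊗ 1 on K ⊗_A E) all
lie in A. If the determinant of u is the image of a unit of A, then u is an automorphism of E. -/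
theorem result (A : Type u) [CommRing A] [IsDomain A] (K : Type u) [Field K]
    [Algebra A K] [IsFractionRing A K] (E : Type u) [AddCommGroup E] [Module A E] [Module.Finite A E]
    [Module.IsTorsionFree A E]
    (u : E →ₗ[A] E) (hcoeff : ∀ i : ℕ, ((u.baseChange K).charpoly).coeff i ∈ (algebraMap A K).range)
    (a : A) (ha : algebraMap A K a = LinearMap.det (u.baseChange K)) (hunit : IsUnit a) :
    Function.Bijective u := by
  have hinjK : Function.Injective (algebraMap A K) := IsFractionRing.injective A K
  have hlift : (u.baseChange K).charpoly ∈ lifts (algebraMap A K) :=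
    (lifts_iff_coeff_lifts _).mpr hcoeff
  obtain ⟨q, hq, -, -⟩ := lifts_and_degree_eq_and_monic hlift (LinearMap.charpoly_monic _)
  -- Cayley–Hamilton descends to `E`
  have hCH : aeval u q = 0 := by
    have h1 : (aeval u q).baseChange K = 0 := by
      rw [← Groth.Agent.S4429.aeval_baseChange, hq]
      exact LinearMap.aeval_self_charpoly _
    ext x
    apply mk_injective_of_isTorsionFree A K E
    have := congrArg (fun f => f ((1 : K) ⊗ₜ[A] x)) h1
    simpa using this
  -- the constant coefficient is a unit
  have hc0 : IsUnit (q.coeff 0) := by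
    have h2 : algebraMap A K (q.coeff 0) = (u.baseChange K).charpoly.coeff 0 := by
      rw [← hq, coeff_map]
    have h3 := LinearMap.det_eq_sign_charpoly_coeff (u.baseChange K)
    rw [← ha, ← h2] at h3
    have h4 : a = (-1) ^ Module.finrank K (K ⊗[A] E) * q.coeff 0 := by
      apply hinjK
      rw [h3, map_mul, map_pow, map_neg, map_one]
    rw [h4] at hunit
    exact isUnit_of_mul_isUnit_right hunit
  obtain ⟨c, hc⟩ := hc0
  -- u * w' + c = 0
  set w' : Module.End A E := aeval u (divX q) with hw'
  have h5 : w' * u + algebraMap A (Module.End A E) (q.coeff 0) = 0 := by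
    have := congrArg (aeval u) (divX_mul_X_add q)
    rw [map_add, map_mul, aeval_X, aeval_C, hCH] at this
    exact this
  have hcomm : u * w' = w' * u := by
    calc u * w' = aeval u X * aeval u (divX q) := by rw [aeval_X]
      _ = aeval u (X * divX q) := (map_mul _ _ _).symm
      _ = aeval u (divX q * X) := by rw [mul_comm]
      _ = w' * u := by rw [map_mul, aeval_X]
  have h6 : w' * u = -algebraMap A (Module.End A E) (c : A) := by
    rw [hc]; exact eq_neg_of_add_eq_zero_left h5
  let v : Module.End A E := -((c⁻¹ : Aˣ) : A) • w'
  have hvu : v * u = 1 := by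
    change (-((c⁻¹ : Aˣ) : A) • w') * u = 1
    rw [smul_mul_assoc, h6, Algebra.algebraMap_eq_smul_one, smul_neg, neg_smul, neg_neg, smul_smul,
      Units.inv_mul, one_smul]
  have huv : u * v = 1 := by
    change u * (-((c⁻¹ : Aˣ) : A) • w') = 1
    rw [mul_smul_comm, hcomm, h6, Algebra.algebraMap_eq_smul_one, smul_neg, neg_smul, neg_neg,
      smul_smul, Units.inv_mul, one_smul]
  refine ⟨?_, ?_⟩
  · intro x y hxy
    have := congrArg v hxy
    rwa [← Module.End.mul_apply, ← Module.End.mul_apply, hvu] at this
  · intro y
    refine ⟨v y, ?_⟩
    rw [← Module.End.mul_apply, huv]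
    rfl


end Groth.Agent.S4431
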