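import Groth.Statements.S4432
import Mathlib
import Groth.Agent.Lib.Helper68.CharpolyLattice

set_option autoImplicit false
universe u
open EGA2

namespace Groth.Agent.S4432

/-- Let A be a reduced Noetherian ring, K its total ring of fractions, and E a finitely generated
A-module with K ⊗_A E free over K. The A-subalgebra of K generated by the coefficients of the
characteristic polynomials of v ⊗ 1 (v running through all endomorphisms of E), i.e. by all
elementary symmetric functions of all endomorphisms of E, is a finitely generated A-module. -/
theorem result (A : Type u) [CommRing A] [IsNoetherianRing A] [IsReduced A]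
    (E : Type u) [AddCommGroup E] [Module A E] [Module.Finite A E]
    [Module.Free (FractionRing A) (TensorProduct A (FractionRing A) E)] :
    (Algebra.adjoin A {c : FractionRing A | ∃ (v : E →ₗ[A] E) (j : ℕ),
        c = ((v.baseChange (FractionRing A)).charpoly).coeff j}).toSubmodule.FG := by
  obtain ⟨n, e, he⟩ := Module.Finite.exists_fin (R := A) (M := E)
  let w : Fin n → TensorProduct A (FractionRing A) E := fun i => TensorProduct.tmul A (1 : FractionRing A) (e i)
  have hmem : ∀ x : E, TensorProduct.tmul A (1 : FractionRing A) x ∈ Submodule.span A (Set.range w) := by
    intro x
    have hx : x ∈ Submodule.span A (Set.range e) := he ▸ Submodule.mem_top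
    have := Submodule.apply_mem_span_image_of_mem_span
      (TensorProduct.mk A (FractionRing A) E 1) hx
    rw [← Set.range_comp] at this
    exact this
  have hw : Submodule.span (FractionRing A) (Set.range w) = ⊤ := by
    rw [eq_top_iff]
    intro z hz
    clear hz
    induction z using TensorProduct.induction_on with
    | zero => exact Submodule.zero_mem _
    | tmul c x =>
      have : TensorProduct.tmul A c x = c • (TensorProduct.tmul A (1 : FractionRing A) x) := by
        rw [TensorProduct.smul_tmul', smul_eq_mul, mul_one]
      rw [this]
      refine Submodule.smul_mem _ _ ?_
      exact Submodule.span_le_restrictScalars A (FractionRing A) _ (hmem x)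
    | add x y hx hy => exact Submodule.add_mem _ hx hy
  exact Groth.Agent.Lib.Helper68.CharpolyLattice.fg_adjoin_charpoly_coeff (nonZeroDivisors A) w hw
    (fun v : E →ₗ[A] E => v.baseChange (FractionRing A))
    (fun v i => by
      simp only [w, LinearMap.baseChange_tmul]
      exact hmem _)

end Groth.Agent.S4432
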