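import Groth.Statements.S4434
import Groth.Agent.Lib.Helper78.DVRDominate

set_option autoImplicit false
universe u
open EGA2

namespace Groth.Agent.S4434

open Polynomial Algebra IsLocalRing

section aux

variable {A : Type u} [CommRing A] [IsDomain A] [IsNoetherianRing A]
  {L : Type u} [Field L] [Algebra A L]

omit [IsDomain A] [IsNoetherianRing A] in
/-- forward direction: integral elements lie in every valuation subring containing `A` -/
lemma mem_of_isIntegral {x : L} (hx : IsIntegral A x) (R : ValuationSubring L)
    (hR : ∀ a : A, algebraMap A L a ∈ R) : x ∈ R := by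
  obtain ⟨p, hp, hpx⟩ := hx
  let φ : A →+* R := (algebraMap A L).codRestrict R.toSubring hR
  have h1 : IsIntegral R x := by
    refine ⟨p.map φ, hp.map φ, ?_⟩
    rw [Polynomial.eval₂_map]
    exact hpx
  have : IsIntegrallyClosedIn R L := inferInstance
  obtain ⟨y, hy⟩ := (IsIntegrallyClosedIn.isIntegral_iff (R := R) (A := L)).mp h1
  rw [← hy]
  exact y.2

omit [IsDomain A] [IsNoetherianRing A] in
/-- a Noetherian local domain `C` (not a field) between `A` and `L` is dominated by a DVR of `L` -/
lemma exists_dvr_of_local (K : Type u) [Field K] [Algebra A K] [IsFractionRing A K]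
    [Algebra K L] [IsScalarTower A K L] (hfg : (⊤ : IntermediateField K L).FG)
    (C : Type u) [CommRing C] [IsDomain C] [IsLocalRing C] [IsNoetherianRing C] (hC : ¬ IsField C)
    [Algebra A C] [Algebra C L] [IsScalarTower A C L]
    (hinj : Function.Injective (algebraMap C L)) :
    ∃ R : ValuationSubring L, IsDiscreteValuationRing R ∧ (∀ c : C, algebraMap C L c ∈ R) ∧
      ∀ c ∈ maximalIdeal C, R.valuation (algebraMap C L c) < 1 := by
  classical
  letI algKL : Algebra (FractionRing C) L :=
    (IsFractionRing.lift (A := C) (K := FractionRing C) (g := algebraMap C L) hinj).toAlgebra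
  have halgKL : ∀ z : C, algebraMap (FractionRing C) L (algebraMap C (FractionRing C) z)
      = algebraMap C L z := fun z => IsFractionRing.lift_algebraMap hinj z
  haveI : IsScalarTower C (FractionRing C) L :=
    IsScalarTower.of_algebraMap_eq (fun z => (halgKL z).symm)
  have hfgB : (⊤ : IntermediateField (FractionRing C) L).FG := by
    obtain ⟨S, hS⟩ := hfg
    refine ⟨S, ?_⟩
    rw [_root_.eq_top_iff]
    intro z hz'
    clear hz'
    have hz : z ∈ IntermediateField.adjoin K (S : Set L) := by rw [hS]; trivial
    induction hz using IntermediateField.adjoin_induction with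
    | mem w hw => exact IntermediateField.subset_adjoin (FractionRing C) _ hw
    | algebraMap k =>
      obtain ⟨a, a', ha', rfl⟩ := IsFractionRing.div_surjective (A := A) k
      rw [map_div₀, ← IsScalarTower.algebraMap_apply A K L, ← IsScalarTower.algebraMap_apply A K L,
        IsScalarTower.algebraMap_apply A C L a, IsScalarTower.algebraMap_apply A C L a',
        ← halgKL, ← halgKL]
      exact div_mem (IntermediateField.algebraMap_mem _ _) (IntermediateField.algebraMap_mem _ _)
    | add w w' _ _ hw hw' => exact add_mem hw hw'
    | inv w _ hw => exact inv_mem hw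
    | mul w w' _ _ hw hw' => exact mul_mem hw hw'
  exact Groth.Agent.Lib.Helper78.exists_dvr_dominating C hC (FractionRing C) L hfgB

/-- reverse direction: a non-integral element is missed by a DVR containing `A` -/
lemma exists_dvr_not_mem (K : Type u) [Field K] [Algebra A K] [IsFractionRing A K]
    [Algebra K L] [IsScalarTower A K L] (hfg : (⊤ : IntermediateField K L).FG) {x : L}
    (hx : ¬ IsIntegral A x) :
    ∃ R : ValuationSubring L, IsDiscreteValuationRing R ∧ (∀ a : A, algebraMap A L a ∈ R) ∧
      x ∉ R := by
  classical
  have hx0 : x ≠ 0 := fun h => hx (h ▸ isIntegral_zero)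
  let y : L := x⁻¹
  have hy0 : y ≠ 0 := inv_ne_zero hx0
  letI : Invertible y := invertibleOfNonzero hy0
  have hinvy : ⅟y = x := by rw [invOf_eq_inv]; exact inv_inv x
  let B : Subalgebra A L := Algebra.adjoin A {y}
  let yB : B := ⟨y, Algebra.subset_adjoin rfl⟩
  have hyB0 : yB ≠ 0 := fun h => hy0 (congrArg Subtype.val h)
  -- `y` is not a unit of `B`
  have hspan : Ideal.span {yB} ≠ ⊤ := by
    intro htop
    obtain ⟨p, hp, hpx⟩ := Algebra.exists_aeval_invOf_eq_zero_of_idealMap_adjoin_sup_span_eq_top
      (R := A) y (⊥ : Ideal A) bot_ne_top (by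
        rw [Ideal.map_bot, bot_sup_eq]
        exact htop)
    apply hx
    refine ⟨p, ?_, ?_⟩
    · rw [Ideal.mem_bot, sub_eq_zero] at hp
      exact hp
    · rw [hinvy] at hpx
      exact hpx
  obtain ⟨n, hnmax, hn⟩ := Ideal.exists_le_maximal _ hspan
  have hyn : yB ∈ n := hn (Ideal.subset_span rfl)
  have hn0 : n ≠ ⊥ := fun h => hyB0 (by rw [h, Ideal.mem_bot] at hyn; exact hyn)
  -- `B` is Noetherian
  have hBfg : B.FG := by
    have h := Subalgebra.fg_adjoin_finset (R := A) ({y} : Finset L)
    rw [Finset.coe_singleton] at h
    exact h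
  have hBft : Algebra.FiniteType A B := B.fg_iff_finiteType.mp hBfg
  have hBnoeth : IsNoetherianRing B := Algebra.FiniteType.isNoetherianRing A B
  have hnprime : n.IsPrime := hnmax.isPrime
  -- the localization
  have hBnfield : ¬ IsField (Localization.AtPrime n) :=
    IsLocalization.AtPrime.not_isField B hn0 (Localization.AtPrime n)
  -- the map `(Localization.AtPrime n) → L`
  have hunits : ∀ s : n.primeCompl, IsUnit (algebraMap B L s) := by
    intro s
    apply IsUnit.mk0
    intro h
    have h0 : (s : B) = 0 := Subtype.ext h
    exact s.2 (h0 ▸ n.zero_mem)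
  let ψ : (Localization.AtPrime n) →+* L :=
    IsLocalization.lift (M := n.primeCompl) (g := algebraMap B L) hunits
  have hψ : ∀ b : B, ψ (algebraMap B (Localization.AtPrime n) b) = (b : L) :=
    fun b => IsLocalization.lift_eq hunits b
  have hψinj : Function.Injective ψ := by
    rw [injective_iff_map_eq_zero]
    intro z hz
    obtain ⟨b, s, rfl⟩ := IsLocalization.exists_mk'_eq n.primeCompl z
    rw [IsLocalization.lift_mk'_spec, mul_zero] at hz
    have hb : (b : L) = 0 := hz
    have hb0 : b = 0 := Subtype.ext hb
    rw [hb0, IsLocalization.mk'_zero]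
  letI algBnL : Algebra (Localization.AtPrime n) L := ψ.toAlgebra
  have halgBnL : ∀ z : (Localization.AtPrime n), algebraMap (Localization.AtPrime n) L z = ψ z :=
    fun _ => rfl
  -- `A → L` through `(Localization.AtPrime n)`
  have hAL : ∀ a : A, algebraMap A L a = algebraMap (Localization.AtPrime n) L
      (algebraMap B (Localization.AtPrime n) (algebraMap A B a)) := by
    intro a
    rw [halgBnL, hψ]
    rfl
  haveI : IsScalarTower A (Localization.AtPrime n) L := by
    refine IsScalarTower.of_algebraMap_eq (fun a => ?_)
    rw [hAL a, IsScalarTower.algebraMap_apply A B (Localization.AtPrime n)]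
  obtain ⟨R, hRdvr, hRmem, hRlt⟩ :=
    exists_dvr_of_local (A := A) K hfg (Localization.AtPrime n) hBnfield hψinj
  refine ⟨R, hRdvr, fun a => ?_, ?_⟩
  · rw [hAL a]
    exact hRmem _
  · have h1 : algebraMap B (Localization.AtPrime n) yB ∈ maximalIdeal (Localization.AtPrime n) :=
      (IsLocalization.AtPrime.to_map_mem_maximal_iff (Localization.AtPrime n) n yB).mpr hyn
    have h2 := hRlt _ h1
    rw [halgBnL, hψ] at h2
    change R.valuation y < 1 at h2
    intro hxR
    have h3 : R.valuation x ≤ 1 := (R.valuation_le_one_iff x).mpr hxR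
    have h4 : R.valuation (x * y) < 1 := by
      rw [map_mul]
      exact mul_lt_one_of_nonneg_of_lt_one_right h3 zero_le h2
    rw [mul_inv_cancel₀ hx0, map_one] at h4
    exact lt_irrefl _ h4

end aux

/-- Let A be a Noetherian domain with field of fractions K and L a finitely generated field extension of
K. The integral closure of A in L is the intersection of the discrete valuation subrings of L (with
fraction field L) containing the image of A: an element of L is integral over A exactly when it
belongs to all of them. -/
theorem result (A : Type u) [CommRing A] [IsDomain A] [IsNoetherianRing A]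
    (K : Type u) [Field K] [Algebra A K] [IsFractionRing A K]
    (L : Type u) [Field L] [Algebra K L] [Algebra A L] [IsScalarTower A K L] (hfg : (⊤ : IntermediateField K L).FG) (x : L) :
    IsIntegral A x ↔ ∀ R : ValuationSubring L, IsDiscreteValuationRing R → (∀ a : A, algebraMap A L a ∈ R) → x ∈ R := by
  constructor
  · intro hx R _ hR
    exact mem_of_isIntegral hx R hR
  · intro h
    by_contra hx
    obtain ⟨R, hdvr, hA, hxR⟩ := exists_dvr_not_mem K hfg hx
    exact hxR (h R hdvr hA)


end Groth.Agent.S4434
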