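import Groth.Statements.S4435
import Mathlib.RingTheory.Localization.Integral
import Mathlib.RingTheory.Localization.Finiteness
import Mathlib.RingTheory.Algebraic.Integral

set_option autoImplicit false
universe u
open CategoryTheory CategoryTheory.Limits AlgebraicGeometry
open EGA2

namespace Groth.Agent.S4435

open nonZeroDivisors

/-- the stalk of an integral scheme at (a point equal to) the generic point is the fraction field
of the sections over any affine open containing it -/
lemma isFractionRing_stalk {S : Scheme.{u}} [IsIntegral S] (U : S.Opens) (hU : IsAffineOpen U)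
    (y : S) (hy : y = genericPoint S) (hyU : y ∈ U) :
    letI := (S.presheaf.germ U y hyU).hom.toAlgebra
    IsFractionRing Γ(S, U) (S.presheaf.stalk y) := by
  subst hy
  have : Nonempty U := ⟨⟨_, hyU⟩⟩
  exact functionField_isFractionRing_of_isAffineOpen S U hU

lemma isField_stalk {S : Scheme.{u}} [IsIntegral S] (y : S) (hy : y = genericPoint S) :
    IsField (S.presheaf.stalk y) := by
  subst hy
  exact Field.toIsField S.functionField

/-- Let X, S be integral schemes and f : X ⟶ S a dominant morphism. If f is integral, the field of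
rational functions of X is algebraic over that of S; if f is finite, it is a finite extension. Here
the extension is given by the stalk map of f at the generic point of X, whose source is the local
ring of S at the generic point of S (f being dominant), i.e. the function field of S. -/
theorem result {X S : Scheme.{u}} [IsIntegral X] [IsIntegral S]
    (f : X ⟶ S) [IsDominant f] :
    (IsIntegralHom f → (f.stalkMap (genericPoint X)).hom.IsIntegral) ∧
      (IsFinite f → (f.stalkMap (genericPoint X)).hom.Finite) := by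
  set ξ := genericPoint X with hξ
  -- `f ξ` is the generic point of `S`
  have hy : f.base ξ = genericPoint S := by
    have h1 : IsGenericPoint (f.base ξ) (closure (f.base '' Set.univ)) :=
      (genericPoint_spec X).image f.base.hom.continuous
    have h2 : closure (f.base '' Set.univ) = Set.univ := by
      rw [Set.image_univ]
      exact f.denseRange.closure_range
    rw [h2] at h1
    exact h1.eq (genericPoint_spec S)
  -- an affine open neighbourhood
  obtain ⟨_, ⟨U, hU, rfl⟩, hyU, -⟩ :=
    S.isBasis_affineOpens.exists_subset_of_mem_open (Set.mem_univ (f.base ξ)) isOpen_univ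
  have key : IsIntegralHom f →
      ((f.stalkMap ξ).hom.IsIntegral ∧
        ((f.app U).hom.Finite → (f.stalkMap ξ).hom.Finite)) := by
    intro hint
    have hV : IsAffineOpen (f ⁻¹ᵁ U) := hU.preimage f
    have hξV : ξ ∈ f ⁻¹ᵁ U := hyU
    have : Nonempty (f ⁻¹ᵁ U) := ⟨⟨ξ, hξV⟩⟩
    have : Nonempty U := ⟨⟨_, hyU⟩⟩
    let : Field (S.presheaf.stalk (f.base ξ)) := (isField_stalk _ hy).toField
    let algAB : Algebra Γ(S, U) Γ(X, f ⁻¹ᵁ U) := (f.app U).hom.toAlgebra
    let algAK : Algebra Γ(S, U) (S.presheaf.stalk (f.base ξ)) :=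
      (S.presheaf.germ U (f.base ξ) hyU).hom.toAlgebra
    let algKL : Algebra (S.presheaf.stalk (f.base ξ)) (X.presheaf.stalk ξ) :=
      (f.stalkMap ξ).hom.toAlgebra
    let algBL : Algebra Γ(X, f ⁻¹ᵁ U) (X.presheaf.stalk ξ) :=
      (X.presheaf.germ (f ⁻¹ᵁ U) ξ hξV).hom.toAlgebra
    let algAL : Algebra Γ(S, U) (X.presheaf.stalk ξ) :=
      ((X.presheaf.germ (f ⁻¹ᵁ U) ξ hξV).hom.comp (f.app U).hom).toAlgebra
    have tower1 : IsScalarTower Γ(S, U) Γ(X, f ⁻¹ᵁ U) (X.presheaf.stalk ξ) :=
      IsScalarTower.of_algebraMap_eq' rfl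
    have tower2 : IsScalarTower Γ(S, U) (S.presheaf.stalk (f.base ξ)) (X.presheaf.stalk ξ) := by
      apply IsScalarTower.of_algebraMap_eq'
      have := Scheme.Hom.germ_stalkMap f U ξ hyU
      exact congrArg (fun g => g.hom) this.symm
    have fracA : IsFractionRing Γ(S, U) (S.presheaf.stalk (f.base ξ)) :=
      isFractionRing_stalk U hU _ hy hyU
    have fracB : IsFractionRing Γ(X, f ⁻¹ᵁ U) (X.presheaf.stalk ξ) :=
      functionField_isFractionRing_of_isAffineOpen X (f ⁻¹ᵁ U) hV
    have hAB : Algebra.IsIntegral Γ(S, U) Γ(X, f ⁻¹ᵁ U) := ⟨hint.isIntegral_app U hU⟩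
    have halg : Algebra.IsAlgebraic (S.presheaf.stalk (f.base ξ)) (X.presheaf.stalk ξ) :=
      isAlgebraic_of_isFractionRing Γ(S, U) Γ(X, f ⁻¹ᵁ U) _ _
    have hint' : Algebra.IsIntegral (S.presheaf.stalk (f.base ξ)) (X.presheaf.stalk ξ) :=
      Algebra.IsAlgebraic.isIntegral
    refine ⟨fun x => Algebra.IsIntegral.isIntegral x, fun hfin => ?_⟩
    have hfin' : Module.Finite Γ(S, U) Γ(X, f ⁻¹ᵁ U) := hfin
    -- injectivity of `A → B`
    have hinj : Function.Injective (algebraMap Γ(S, U) Γ(X, f ⁻¹ᵁ U)) := by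
      have h1 : Function.Injective (algebraMap Γ(S, U) (X.presheaf.stalk ξ)) := by
        rw [IsScalarTower.algebraMap_eq Γ(S, U) (S.presheaf.stalk (f.base ξ)) (X.presheaf.stalk ξ)]
        exact (algebraMap (S.presheaf.stalk (f.base ξ)) (X.presheaf.stalk ξ)).injective.comp
          (IsFractionRing.injective Γ(S, U) (S.presheaf.stalk (f.base ξ)))
      rw [IsScalarTower.algebraMap_eq Γ(S, U) Γ(X, f ⁻¹ᵁ U) (X.presheaf.stalk ξ)] at h1
      exact Function.Injective.of_comp h1
    have hfaith : FaithfulSMul Γ(S, U) Γ(X, f ⁻¹ᵁ U) :=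
      (faithfulSMul_iff_algebraMap_injective _ _).mpr hinj
    have halgAB : Algebra.IsAlgebraic Γ(S, U) Γ(X, f ⁻¹ᵁ U) := Algebra.IsIntegral.isAlgebraic
    have hloc : IsLocalization (Algebra.algebraMapSubmonoid Γ(X, f ⁻¹ᵁ U) Γ(S, U)⁰)
        (X.presheaf.stalk ξ) := inferInstance
    exact Module.Finite.of_isLocalization Γ(S, U) Γ(X, f ⁻¹ᵁ U) Γ(S, U)⁰
  constructor
  · intro hf
    exact (key hf).1
  · intro hf
    have hint : IsIntegralHom f := inferInstance
    have h1 : (f.app U).hom.Finite := hf.finite_app U hU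
    exact (key hint).2 h1


end Groth.Agent.S4435
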