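import Groth.Statements.S4437
import Mathlib
import Groth.Agent.S2343

set_option autoImplicit false
universe u
open CategoryTheory CategoryTheory.Limits AlgebraicGeometry
open EGA2

namespace Groth.Agent.S4437

theorem isFinite_of_isCompl {X₁ X₂ W S : Scheme.{u}} (i₁ : X₁ ⟶ W) (i₂ : X₂ ⟶ W)
    [IsOpenImmersion i₁] [IsOpenImmersion i₂] (hc : IsCompl i₁.opensRange i₂.opensRange)
    (g : W ⟶ S) [IsFinite (i₁ ≫ g)] [IsFinite (i₂ ≫ g)] : IsFinite g := by
  obtain ⟨H⟩ := nonempty_isColimit_binaryCofanMk_of_isCompl i₁ i₂ hc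
  let e : X₁ ⨿ X₂ ≅ W := (colimit.isColimit (pair X₁ X₂)).coconePointUniqueUpToIso H
  have he : e.hom = coprod.desc i₁ i₂ := by
    apply coprod.hom_ext
    · rw [coprod.inl_desc]
      exact (colimit.isColimit (pair X₁ X₂)).comp_coconePointUniqueUpToIso_hom H ⟨WalkingPair.left⟩
    · rw [coprod.inr_desc]
      exact (colimit.isColimit (pair X₁ X₂)).comp_coconePointUniqueUpToIso_hom H ⟨WalkingPair.right⟩
  have h1 : e.hom ≫ g = coprod.desc (i₁ ≫ g) (i₂ ≫ g) := by
    rw [he]; apply coprod.hom_ext <;> simp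
  have h2 : IsFinite (e.hom ≫ g) := by rw [h1]; infer_instance
  have h3 : g = e.inv ≫ e.hom ≫ g := by simp
  rw [h3]
  infer_instance

/-- A morphism which is finite on two disjoint opens is finite on their union. -/
theorem isFinite_sup {X S : Scheme.{u}} (f : X ⟶ S) (U₁ U₂ : X.Opens) (hd : Disjoint U₁ U₂)
    (h₁ : IsFinite (U₁.ι ≫ f)) (h₂ : IsFinite (U₂.ι ≫ f)) : IsFinite ((U₁ ⊔ U₂).ι ≫ f) := by
  let i₁ : U₁.toScheme ⟶ (U₁ ⊔ U₂).toScheme := X.homOfLE le_sup_left
  let i₂ : U₂.toScheme ⟶ (U₁ ⊔ U₂).toScheme := X.homOfLE le_sup_right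
  have hi₁ : i₁ ≫ (U₁ ⊔ U₂).ι = U₁.ι := X.homOfLE_ι _
  have hi₂ : i₂ ≫ (U₁ ⊔ U₂).ι = U₂.ι := X.homOfLE_ι _
  have : IsFinite (i₁ ≫ (U₁ ⊔ U₂).ι ≫ f) := by rw [reassoc_of% hi₁]; exact h₁
  have : IsFinite (i₂ ≫ (U₁ ⊔ U₂).ι ≫ f) := by rw [reassoc_of% hi₂]; exact h₂
  refine isFinite_of_isCompl i₁ i₂ ?_ _
  have hr₁ : i₁.opensRange = (U₁ ⊔ U₂).ι ⁻¹ᵁ U₁ := X.opensRange_homOfLE _
  have hr₂ : i₂.opensRange = (U₁ ⊔ U₂).ι ⁻¹ᵁ U₂ := X.opensRange_homOfLE _
  rw [hr₁, hr₂]
  constructor
  · rw [disjoint_iff, ← Scheme.Hom.preimage_inf, disjoint_iff.mp hd]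
    rfl
  · rw [codisjoint_iff, ← Scheme.Hom.preimage_sup]
    simp

/-- The local piece: a point of the closed fibre has a clopen neighbourhood finite over the base,
consisting of generizations of the point. -/
theorem exists_clopen_of_mem_fiber (A : Type u) [CommRing A] [IsLocalRing A]
    [IsNoetherianRing A] [IsAdicComplete (IsLocalRing.maximalIdeal A) A] (X : Scheme.{u})
    (f : X ⟶ Spec (CommRingCat.of A)) [LocallyOfFiniteType f] [IsSeparated f]
    [LocallyQuasiFinite f] (x : X) (hx : f.base x = IsLocalRing.closedPoint A) :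
    ∃ U : X.Opens, IsClosed (U : Set X) ∧ IsFinite (U.ι ≫ f) ∧ x ∈ U ∧ ∀ z ∈ U, z ⤳ x := by
  have hdisc : _root_.IsDiscrete (f.base ⁻¹' {IsLocalRing.closedPoint A}) :=
    f.isDiscrete_preimage_singleton _
  have hisol : IsOpen ((Subtype.val : (f.base ⁻¹' {IsLocalRing.closedPoint A}) → X) ⁻¹' {x}) := by
    have := hdisc.to_subtype
    exact isOpen_discrete _
  obtain ⟨hfin, hopen, hclosed⟩ := Groth.Agent.S2343.result A X f x hx hisol
  let g := X.fromSpecStalk x
  have hgf : g ≫ f = Spec.map ((Scheme.ΓSpecIso (CommRingCat.of A)).inv ≫ f.appTop ≫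
      X.presheaf.germ ⊤ x trivial) := by
    have h1 : (Spec (CommRingCat.of A)).presheaf.germ ⊤ (f.base x) trivial ≫ f.stalkMap x =
        f.appTop ≫ X.presheaf.germ ⊤ x trivial := Scheme.Hom.germ_stalkMap f ⊤ x trivial
    rw [← Scheme.SpecMap_stalkMap_fromSpecStalk, Spec.fromSpecStalk_eq, ← Spec.map_comp,
      Category.assoc, h1]
  have hgf_fin : IsFinite (g ≫ f) := by
    rw [hgf, IsFinite.SpecMap_iff]
    exact hfin
  refine ⟨g.opensRange, g.isClosedEmbedding.isClosed_range, ?_, ?_, ?_⟩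
  · have h2 : g.opensRange.ι ≫ f = g.isoOpensRange.inv ≫ g ≫ f := by
      rw [← Category.assoc, Scheme.Hom.isoOpensRange_inv_comp]
    rw [h2]
    infer_instance
  · change x ∈ Set.range g
    rw [Scheme.range_fromSpecStalk]
    exact specializes_rfl
  · intro z hz
    change z ∈ Set.range g at hz
    rwa [Scheme.range_fromSpecStalk] at hz

/-- Let A be a complete Noetherian local ring and f : X ⟶ Spec A a separated quasi-finite morphism (of
finite type with discrete fibres). Then X splits as a disjoint sum of two open subschemes, one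
finite over Spec A and containing the fibre over the closed point, the other not meeting that fibre:
there is an open and closed U ⊆ X, finite over Spec A, containing every point lying over the closed
point. -/
theorem result (A : Type u) [CommRing A] [IsLocalRing A]
    [IsNoetherianRing A] [IsAdicComplete (IsLocalRing.maximalIdeal A) A] (X : Scheme.{u})
    (f : X ⟶ Spec (CommRingCat.of A)) [LocallyOfFiniteType f] [QuasiCompact f] [IsSeparated f] [LocallyQuasiFinite f] :
    ∃ U : X.Opens, IsClosed (U : Set X) ∧ IsFinite (U.ι ≫ f) ∧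
      ∀ x : X, f.base x = IsLocalRing.closedPoint A → x ∈ U := by
  classical
  set s := IsLocalRing.closedPoint A with hs
  have hfin : (f.base ⁻¹' {s}).Finite := Scheme.Hom.finite_preimage_singleton f s
  have hdisc : _root_.IsDiscrete (f.base ⁻¹' {s}) := f.isDiscrete_preimage_singleton _
  -- specializations inside the closed fibre are trivial
  have hspec : ∀ x y : X, f.base x = s → f.base y = s → x ⤳ y → x = y := by
    intro x y hx hy hxy
    have := hdisc.to_subtype
    have h1 : (⟨x, hx⟩ : f.base ⁻¹' {s}) ⤳ ⟨y, hy⟩ :=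
      Topology.IsInducing.subtypeVal.specializes_iff.mp hxy
    exact congrArg Subtype.val h1.eq
  have ind : ∀ T : Finset X, (∀ x ∈ T, f.base x = s) →
      ∃ U : X.Opens, IsClosed (U : Set X) ∧ IsFinite (U.ι ≫ f) ∧ (∀ x ∈ T, x ∈ U) ∧
        ∀ z ∈ U, ∃ x ∈ T, z ⤳ x := by
    intro T
    induction T using Finset.induction_on with
    | empty =>
      intro _
      refine ⟨⊥, by simp, ?_, by simp, ?_⟩
      · have : IsEmpty ((⊥ : X.Opens) : Scheme.{u}) := by
          change IsEmpty ((⊥ : X.Opens) : Set X)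
          simp
        infer_instance
      · intro z hz
        exact absurd hz (by simp)
    | insert a T' ha ih =>
      intro hT
      obtain ⟨U', hU'c, hU'f, hU'm, hU's⟩ := ih (fun x hx => hT x (Finset.mem_insert_of_mem hx))
      obtain ⟨Ua, hUac, hUaf, hUam, hUas⟩ :=
        exists_clopen_of_mem_fiber A X f a (hT a (Finset.mem_insert_self a T'))
      have hdisj : Disjoint Ua U' := by
        rw [disjoint_iff]
        ext z
        simp only [TopologicalSpace.Opens.coe_inf, Set.mem_inter_iff, SetLike.mem_coe,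
          TopologicalSpace.Opens.coe_bot, Set.mem_empty_iff_false, iff_false, not_and]
        intro hza hzU'
        obtain ⟨x, hxT', hzx⟩ := hU's z hzU'
        have hxa : x ∈ Ua := by
          have h1 : x ∈ closure ({z} : Set X) := hzx.mem_closure
          have h2 : closure ({z} : Set X) ⊆ (Ua : Set X) :=
            hUac.closure_subset_iff.mpr (Set.singleton_subset_iff.mpr hza)
          exact h2 h1
        have h3 : x = a := hspec x a (hT x (Finset.mem_insert_of_mem hxT'))
          (hT a (Finset.mem_insert_self a T')) (hUas x hxa)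
        exact ha (h3 ▸ hxT')
      refine ⟨Ua ⊔ U', ?_, isFinite_sup f Ua U' hdisj hUaf hU'f, ?_, ?_⟩
      · rw [TopologicalSpace.Opens.coe_sup]
        exact hUac.union hU'c
      · intro x hx
        rcases Finset.mem_insert.mp hx with rfl | hx
        · exact Or.inl hUam
        · exact Or.inr (hU'm x hx)
      · intro z hz
        rcases hz with hz | hz
        · exact ⟨a, Finset.mem_insert_self a T', hUas z hz⟩
        · obtain ⟨x, hx, hzx⟩ := hU's z hz
          exact ⟨x, Finset.mem_insert_of_mem hx, hzx⟩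
  obtain ⟨U, hUc, hUf, hUm, -⟩ := ind hfin.toFinset
    (fun x hx => Set.mem_singleton_iff.mp ((Set.Finite.mem_toFinset hfin).mp hx))
  exact ⟨U, hUc, hUf, fun x hx => hUm x ((Set.Finite.mem_toFinset hfin).mpr
    (Set.mem_singleton_iff.mpr hx))⟩

end Groth.Agent.S4437
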