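import Groth.Statements.S4440
import Groth.Agent.Lib.Helper20.ExtendVal
import Groth.Agent.Lib.Helper85.RegularLocal

set_option autoImplicit false
universe u
open CategoryTheory CategoryTheory.Limits AlgebraicGeometry
open EGA2

namespace Groth.Agent.S4440

open Groth.Agent.Lib.Helper20 IsLocalRing

/-- a regular local ring of dimension at most one is a valuation ring -/
theorem valuationRing_of_regular (R : Type u) [CommRing R] [hreg : IsRegularLocalRing R]
    (h : ringKrullDim R ≤ 1) : ∃ hdom : IsDomain R, @ValuationRing R _ hdom := by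
  have hD : IsDomain R := Groth.Agent.Lib.Helper85.isDomain_of_isRegularLocalRing R
  refine ⟨hD, ?_⟩
  have h1 := (IsRegularLocalRing.iff_finrank_cotangentSpace R).mp hreg
  rw [← h1] at h
  have h2 : Module.finrank (ResidueField R) (CotangentSpace R) ≤ 1 := by exact_mod_cast h
  exact ((tfae_of_isNoetherianRing_of_isLocalRing_of_isDomain R).out 5 1).mp h2

/-- two `S`-morphisms from a reduced open to a separated `S`-scheme which agree on a dense open
are equal -/
theorem eq_of_dense {S X Y : Scheme.{u}} (p : X ⟶ S) [IsSeparated p] (q : Y ⟶ S) [IsReduced Y]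
    (V : Y.Opens) (hV : Dense (V : Set Y)) (A : Y.Opens) (hVA : V ≤ A)
    (a b : (A : Scheme.{u}) ⟶ X) (ha : a ≫ p = A.ι ≫ q) (hb : b ≫ p = A.ι ≫ q)
    (hab : Y.homOfLE hVA ≫ a = Y.homOfLE hVA ≫ b) : a = b := by
  have : IsDominant (Y.homOfLE hVA) := by
    refine ⟨fun w => ?_⟩
    rw [mem_closure_iff]
    intro O hO hwO
    have hO' : IsOpen (A.ι '' O) := A.ι.isOpenEmbedding.isOpenMap O hO
    obtain ⟨v, hvV, w', hw'O, rfl⟩ := hV.exists_mem_open hO' ⟨_, w, hwO, rfl⟩
    refine ⟨w', hw'O, ⟨⟨A.ι w', hvV⟩, ?_⟩⟩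
    apply A.ι.isOpenEmbedding.injective
    rw [← Scheme.Hom.comp_apply, Scheme.homOfLE_ι]
    rfl
  exact ext_of_isDominant_of_isSeparated p (ha.trans hb.symm) (Y.homOfLE hVA) hab

/-- Let S be a locally Noetherian scheme, X proper over S, and Y a reduced S-scheme whose non-regular
locus has codimension at least two (the local ring at every point with local ring of dimension at
most one is regular). Then the locus where an S-rational map from Y to X is not defined has
codimension at least two: an S-morphism given on a dense open V of Y extends to an S-morphism on an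
open containing V and every point whose local ring has dimension at most one. (The published
statement does not ask Y to be locally Noetherian; this row does, which is the setting in which
regularity of local rings is defined.) -/
theorem result {S X Y : Scheme.{u}} [IsLocallyNoetherian S]
    (p : X ⟶ S) [IsProper p] (q : Y ⟶ S) [IsLocallyNoetherian Y] [IsReduced Y]
    (hreg : ∀ y : Y, ringKrullDim (Y.presheaf.stalk y) ≤ 1 → IsRegularLocalRing (Y.presheaf.stalk y))
    (V : Y.Opens) (hV : Dense (V : Set Y)) (g : (V : Scheme.{u}) ⟶ X) (hg : g ≫ p = V.ι ≫ q) :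
    ∃ (U : Y.Opens) (hVU : V ≤ U) (g' : (U : Scheme.{u}) ⟶ X), g' ≫ p = U.ι ≫ q ∧ Y.homOfLE hVU ≫ g' = g ∧
      ∀ y : Y, ringKrullDim (Y.presheaf.stalk y) ≤ 1 → y ∈ U := by
  -- local extensions
  have hloc : ∀ y : Y, ringKrullDim (Y.presheaf.stalk y) ≤ 1 →
      ∃ (U' : Y.Opens) (hUU' : V ≤ U'), y ∈ U' ∧
        ∃ f' : (U' : Scheme.{u}) ⟶ X, f' ≫ p = U'.ι ≫ q ∧ Y.homOfLE hUU' ≫ f' = g := by
    intro y hy
    have := hreg y hy
    obtain ⟨hdom, hval⟩ := valuationRing_of_regular (Y.presheaf.stalk y) hy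
    obtain ⟨W, hyW, hW⟩ := ExtendVal.exists_integral_nhd_of_isGermInjectiveAt y
    exact ExtendVal.exists_extension_of_integral_nhd q p y W hyW hdom hval V g hg
      (hV.closure_eq ▸ Set.mem_univ y)
  choose Uy hVUy hyUy fy hfy1 hfy2 using hloc
  -- the family
  let J := Option {y : Y // ringKrullDim (Y.presheaf.stalk y) ≤ 1}
  let T : J → Y.Opens := fun j =>
    match j with
    | none => V
    | some y => Uy y.1 y.2
  have hVT : ∀ j, V ≤ T j := fun j =>
    match j with
    | none => le_rfl
    | some y => hVUy y.1 y.2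
  let F : ∀ j, ((T j : Y.Opens) : Scheme.{u}) ⟶ X := fun j =>
    match j with
    | none => g
    | some y => fy y.1 y.2
  have hF1 : ∀ j, F j ≫ p = (T j).ι ≫ q := fun j =>
    match j with
    | none => hg
    | some y => hfy1 y.1 y.2
  have hF2 : ∀ j, Y.homOfLE (hVT j) ≫ F j = g := fun j =>
    match j with
    | none => by simp [F, T]
    | some y => hfy2 y.1 y.2
  obtain ⟨k, hk⟩ := GlueOpens.exists_glue T F (by
    intro i j
    refine eq_of_dense p q V hV (T i ⊓ T j) (le_inf (hVT i) (hVT j)) _ _ ?_ ?_ ?_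
    · rw [Category.assoc, hF1, Scheme.homOfLE_ι_assoc]
    · rw [Category.assoc, hF1, Scheme.homOfLE_ι_assoc]
    · rw [Scheme.homOfLE_homOfLE_assoc, Scheme.homOfLE_homOfLE_assoc, hF2, hF2])
  refine ⟨⨆ j, T j, le_iSup T none, k, ?_, hk none, ?_⟩
  · apply GlueOpens.hom_ext_iSup T
    intro j
    rw [reassoc_of% hk j, hF1, Scheme.homOfLE_ι_assoc]
  · intro y hy
    exact TopologicalSpace.Opens.mem_iSup.mpr ⟨some ⟨y, hy⟩, hyUy y hy⟩


end Groth.Agent.S4440
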