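import Groth.Statements.S4441
import Mathlib.AlgebraicGeometry.ValuativeCriterion
import Mathlib.AlgebraicGeometry.Stalk

set_option autoImplicit false
universe u
open CategoryTheory CategoryTheory.Limits AlgebraicGeometry
open EGA2

namespace Groth.Agent.S4441

open IsLocalRing

/-- Let X and Y be integral separated schemes and f : X ⟶ Y a dominant, quasi-compact, universally
closed morphism, ξ the generic point of X. Every valuation subring R of the function field K(X) of X
which dominates the local ring of Y at a point y (via O_{Y,y} → O_{Y,f(ξ)} → K(X): image inside R,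
maximal ideal into the maximal ideal of R) also dominates the local ring of X at some point x (via
O_{X,x} → K(X)). -/
theorem result {X Y : Scheme.{u}} [IsIntegral X] [IsIntegral Y]
    [X.IsSeparated] [Y.IsSeparated] (f : X ⟶ Y) [IsDominant f] [QuasiCompact f] [UniversallyClosed f]
    (R : ValuationSubring X.functionField) (y : Y) (hy : f.base (genericPoint X) ⤳ y)
    (hdom : (∀ a : Y.presheaf.stalk y, (Y.presheaf.stalkSpecializes hy ≫ f.stalkMap (genericPoint X)).hom a ∈ R) ∧
      ∀ a ∈ IsLocalRing.maximalIdeal (Y.presheaf.stalk y),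
        R.valuation ((Y.presheaf.stalkSpecializes hy ≫ f.stalkMap (genericPoint X)).hom a) < 1) :
    ∃ x : X, (∀ a : X.presheaf.stalk x, algebraMap (X.presheaf.stalk x) X.functionField a ∈ R) ∧
      ∀ a ∈ IsLocalRing.maximalIdeal (X.presheaf.stalk x), R.valuation (algebraMap (X.presheaf.stalk x) X.functionField a) < 1 := by
  obtain ⟨h1, h2⟩ := hdom
  let ψ : Y.presheaf.stalk y ⟶ X.functionField :=
    Y.presheaf.stalkSpecializes hy ≫ f.stalkMap (genericPoint X)
  let ψ' : Y.presheaf.stalk y ⟶ CommRingCat.of R :=
    CommRingCat.ofHom (ψ.hom.codRestrict R.toSubring h1)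
  have hψ' : ψ' ≫ CommRingCat.ofHom (algebraMap R X.functionField) = ψ := by
    ext r
    rfl
  let i₂ : Spec (CommRingCat.of R) ⟶ Y := Spec.map ψ' ≫ Y.fromSpecStalk y
  let i₁ : Spec (CommRingCat.of X.functionField) ⟶ X := X.fromSpecStalk (genericPoint X)
  have hsq : CommSq i₁ (Spec.map (CommRingCat.ofHom (algebraMap R X.functionField))) f i₂ := by
    constructor
    show X.fromSpecStalk (genericPoint X) ≫ f =
      Spec.map (CommRingCat.ofHom (algebraMap R X.functionField)) ≫ Spec.map ψ' ≫ Y.fromSpecStalk y
    rw [← Spec.map_comp_assoc, hψ']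
    show _ = Spec.map (Y.presheaf.stalkSpecializes hy ≫ f.stalkMap (genericPoint X)) ≫ _
    rw [Spec.map_comp, Category.assoc, Scheme.SpecMap_stalkSpecializes_fromSpecStalk,
      Scheme.SpecMap_stalkMap_fromSpecStalk]
  let S : ValuativeCommSq f :=
    { R := R, K := X.functionField, i₁ := i₁, i₂ := i₂, commSq := hsq }
  have hex : ValuativeCriterion.Existence f := by
    have : UniversallyClosed f := inferInstance
    rw [UniversallyClosed.eq_valuativeCriterion] at this
    exact this.1
  obtain ⟨⟨l⟩⟩ := hex S
  let lm : Spec (CommRingCat.of R) ⟶ X := l.l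
  have hl1 : Spec.map (CommRingCat.ofHom (algebraMap R X.functionField)) ≫ lm = i₁ := l.fac_left
  let x : X := lm.base (closedPoint R)
  let σ : X.presheaf.stalk x ⟶ CommRingCat.of R := Scheme.stalkClosedPointTo lm
  have hσloc : IsLocalHom σ.hom := Scheme.isLocalHom_stalkClosedPointTo lm
  have hξx : genericPoint X ⤳ x := (genericPoint_spec X).specializes trivial
  have key : σ ≫ CommRingCat.ofHom (algebraMap R X.functionField) =
      X.presheaf.stalkSpecializes hξx := by
    apply Spec.map_injective
    have : Mono (X.fromSpecStalk x) := inferInstance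
    rw [← cancel_mono (X.fromSpecStalk x)]
    rw [Spec.map_comp, Category.assoc, Scheme.Spec_stalkClosedPointTo_fromSpecStalk, hl1,
      Scheme.SpecMap_stalkSpecializes_fromSpecStalk]
  have halg : ∀ a : X.presheaf.stalk x,
      algebraMap (X.presheaf.stalk x) X.functionField a = ((σ.hom a : R) : X.functionField) := by
    intro a
    have := congrArg (fun g => g.hom a) key
    exact this.symm
  refine ⟨x, fun a => ?_, fun a ha => ?_⟩
  · rw [halg]
    exact (σ.hom a).2
  · rw [halg]
    rw [← ValuationSubring.valuation_lt_one_iff]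
    rw [IsLocalRing.mem_maximalIdeal] at ha ⊢
    intro hu
    exact ha (hσloc.map_nonunit a hu)


end Groth.Agent.S4441
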