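import Groth.Statements.S9799
-- import your own Groth.Agent.* helpers here
import Groth.Agent.Lib.Helper51.IrredComp

set_option autoImplicit false
universe u
open CategoryTheory AlgebraicGeometry TopologicalSpace
open Props

namespace Groth.Agent.S9799

/-- Let X be a normal scheme (all local rings are integrally closed domains) such that every
quasi-compact open subset has finitely many irreducible components. Then the irreducible components
of X are open and pairwise disjoint; hence X is the disjoint union of its irreducible components,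
each an open subscheme which is normal and integral. -/
theorem result (X : Scheme.{u})
    (hfin : ∀ U : X.Opens, IsCompact (U : Set X) → (irreducibleComponents ↥U).Finite)
    (hN : Pi1.IsNormalScheme X) :
    (∀ Z ∈ irreducibleComponents X, IsOpen Z) ∧
      ∀ Z ∈ irreducibleComponents X, ∀ Z' ∈ irreducibleComponents X, Z ≠ Z' → Disjoint Z Z' := by
  have hdisj : ∀ Z ∈ irreducibleComponents X, ∀ Z' ∈ irreducibleComponents X,
      (Z ∩ Z').Nonempty → Z = Z' := by
    rintro Z hZ Z' hZ' ⟨x, hx, hx'⟩
    have := (hN x).1
    exact Groth.Agent.Lib.Helper51.irreducibleComponent_eq_of_isDomain_stalk X x hZ hZ' hx hx'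
  refine ⟨fun Z hZ ↦ ?_, fun Z hZ Z' hZ' hne ↦ ?_⟩
  · refine Groth.Agent.Lib.Helper51.isOpen_of_mem_irreducibleComponents_of_disjoint hdisj
      (fun x ↦ ?_) hZ
    obtain ⟨_, ⟨U, hU, rfl⟩, hxU, -⟩ :=
      X.isBasis_affineOpens.exists_subset_of_mem_open (Set.mem_univ x) isOpen_univ
    exact ⟨U, hxU, hfin U hU.isCompact⟩
  · rw [Set.disjoint_iff_inter_eq_empty]
    by_contra h
    exact hne (hdisj Z hZ Z' hZ' (Set.nonempty_iff_ne_empty.mpr h))

end Groth.Agent.S9799
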