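import Groth.Statements.S4444
import Mathlib
import Groth.Agent.S9799
import Groth.Agent.Lib.Helper78.CompletionCurve

set_option autoImplicit false
universe u
open CategoryTheory CategoryTheory.Limits AlgebraicGeometry
open EGA2

namespace Groth.Agent.S4444

open Groth.Agent.Lib.Helper78.Completion TopologicalSpace in
/-- Every normal curve, separated and of finite type over a field, has a normal proper
completion. -/
theorem hasCompletion_normal_curve (k : Type u) [Field k] (X : Scheme.{u})
    (g : X ⟶ Spec (CommRingCat.of k)) [LocallyOfFiniteType g] [QuasiCompact g] [IsSeparated g]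
    (hcurve : ∀ x : X, IsClosed ({x} : Set X) → ringKrullDim (X.presheaf.stalk x) = 1)
    (hnorm : Pi1.IsNormalScheme X) : HasCompletion g := by
  classical
  haveI : IsLocallyNoetherian X := LocallyOfFiniteType.isLocallyNoetherian g
  haveI : CompactSpace X := QuasiCompact.compactSpace_of_compactSpace g
  haveI : IsNoetherian X := {}
  have hfinC : (irreducibleComponents X).Finite := NoetherianSpace.finite_irreducibleComponents
  obtain ⟨hopen, hdisj⟩ := Groth.Agent.S9799.result X
    (fun U _ => by
      haveI : NoetherianSpace ↥U := inferInstanceAs (NoetherianSpace (U : Set X))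
      exact NoetherianSpace.finite_irreducibleComponents) hnorm
  have hred : IsReduced X := by
    haveI : ∀ x : X, _root_.IsReduced (X.presheaf.stalk x) := fun x => by
      haveI := (hnorm x).1; infer_instance
    exact isReduced_of_isReduced_stalk X
  -- the integral pieces
  have piece : ∀ Uz : X.Opens, (Uz : Set X) ∈ irreducibleComponents X →
      HasCompletion (Uz.ι ≫ g) := by
    intro Uz hZ
    set Z : Set X := (Uz : Set X) with hZdef
    haveI : IrreducibleSpace ↥(Uz : Scheme.{u}) :=
      (Subtype.irreducibleSpace hZ.1 : IrreducibleSpace (Uz : Set X))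
    haveI : IsIntegral (Uz : Scheme.{u}) := isIntegral_of_irreducibleSpace_of_isReduced _
    have hZc : IsClosed Z := isClosed_of_mem_irreducibleComponents Z hZ
    refine hasCompletion_integral k Uz (Uz.ι ≫ g) ?_ ?_
    · intro x hx
      have h1 : IsClosed ({Uz.ι.base x} : Set X) := by
        have h2 : Topology.IsClosedEmbedding Uz.ι.base :=
          ⟨Uz.ι.isOpenEmbedding.isEmbedding, by
            rw [Scheme.Opens.range_ι]; exact hZc⟩
        have h3 := h2.isClosedMap _ hx
        rwa [Set.image_singleton] at h3
      rw [← ringKrullDim_eq_of_ringEquiv (stalkEquiv Uz.ι x)]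
      exact hcurve _ h1
    · intro x
      exact isDomain_isIntegrallyClosed_of_ringEquiv (stalkEquiv Uz.ι x) (hnorm _)
  have ind : ∀ T : Finset (Set X), (∀ Z ∈ T, Z ∈ irreducibleComponents X) →
      ∃ U : X.Opens, (U : Set X) = ⋃₀ (T : Set (Set X)) ∧ HasCompletion (U.ι ≫ g) := by
    intro T
    induction T using Finset.induction_on with
    | empty =>
      intro _
      refine ⟨⊥, by simp, ?_⟩
      have : IsEmpty ((⊥ : X.Opens) : Scheme.{u}) := by
        change IsEmpty ((⊥ : X.Opens) : Set X)
        simp
      exact hasCompletion_of_isEmpty _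
    | insert Z T' hZT' ih =>
      intro hT
      obtain ⟨U', hU', hU'c⟩ := ih (fun Z' hZ' => hT Z' (Finset.mem_insert_of_mem hZ'))
      have hZ : Z ∈ irreducibleComponents X := hT Z (Finset.mem_insert_self Z T')
      have hZo : IsOpen Z := hopen Z hZ
      set Uz : X.Opens := ⟨Z, hZo⟩ with hUz
      have hd : Disjoint Uz U' := by
        rw [disjoint_iff]
        ext z
        simp only [Opens.coe_inf, Set.mem_inter_iff, SetLike.mem_coe, Opens.coe_bot,
          Set.mem_empty_iff_false, iff_false, not_and]
        intro hzZ hzU'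
        have hzU'' : z ∈ (U' : Set X) := hzU'
        rw [hU'] at hzU''
        obtain ⟨Z', hZ'T, hzZ'⟩ := hzU''
        have hne : Z ≠ Z' := by
          rintro rfl
          exact hZT' hZ'T
        have := hdisj Z hZ Z' (hT Z' (Finset.mem_insert_of_mem hZ'T)) hne
        exact Set.disjoint_left.mp this hzZ hzZ'
      refine ⟨Uz ⊔ U', ?_, hasCompletion_sup g Uz U' hd (piece Uz hZ) hU'c⟩
      rw [Opens.coe_sup, hU', Finset.coe_insert, Set.sUnion_insert]
      rfl
  obtain ⟨U, hU, hUc⟩ := ind hfinC.toFinset (fun Z hZ => hfinC.mem_toFinset.mp hZ)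
  have hUtop : U = ⊤ := by
    ext x
    simp only [Opens.coe_top, Set.mem_univ, iff_true]
    change x ∈ (U : Set X)
    rw [hU, Set.Finite.coe_toFinset, sUnion_irreducibleComponents]
    trivial
  subst hUtop
  have h := hasCompletion_of_iso (X.topIso).symm ((⊤ : X.Opens).ι ≫ g) hUc
  have h2 : (X.topIso).symm.hom ≫ (⊤ : X.Opens).ι ≫ g = g := by
    rw [← Category.assoc]
    have : (X.topIso).symm.hom ≫ (⊤ : X.Opens).ι = 𝟙 X := by
      rw [Iso.symm_hom, ← Scheme.topIso_hom, Iso.inv_hom_id]
    rw [this, Category.id_comp]
  rwa [h2] at h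

/-- Every normal algebraic curve X over a field k (separated and of finite type over k, nonempty, local
rings at closed points of dimension one, all local rings integrally closed domains) admits a
k-morphism which is an open immersion with dense image into a normal algebraic curve proper over k.
(The uniqueness of this completion up to unique isomorphism is not part of this row.) -/
theorem result (k : Type u) [Field k] (X : Scheme.{u})
    [X.Over (Spec (CommRingCat.of k))] [LocallyOfFiniteType (X ↘ (Spec (CommRingCat.of k)))]
    [QuasiCompact (X ↘ (Spec (CommRingCat.of k)))] [IsSeparated (X ↘ (Spec (CommRingCat.of k)))] [Nonempty X]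
    (hcurve : ∀ x : X, IsClosed ({x} : Set X) → ringKrullDim (X.presheaf.stalk x) = 1) (hnorm : Pi1.IsNormalScheme X) :
    ∃ (Xc : Scheme.{u}) (sc : Xc ⟶ Spec (CommRingCat.of k)) (j : X ⟶ Xc), IsOpenImmersion j ∧ Dense (Set.range j.base) ∧
      j ≫ sc = X ↘ (Spec (CommRingCat.of k)) ∧ IsProper sc ∧ Pi1.IsNormalScheme Xc ∧
      ∀ x : Xc, IsClosed ({x} : Set Xc) → ringKrullDim (Xc.presheaf.stalk x) = 1 := by
  exact hasCompletion_normal_curve k X (X ↘ Spec (CommRingCat.of k)) hcurve hnorm

end Groth.Agent.S4444
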