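import Groth.Statements.S4446
import Groth.Agent.S9821
import Groth.Agent.Lib.Helper20.ExtendVal

set_option autoImplicit false
universe u
open CategoryTheory CategoryTheory.Limits AlgebraicGeometry
open EGA2

namespace Groth.Agent.S4446

open Groth.Agent.Lib.Helper20 TopologicalSpace

theorem exists_hom_of_appTop {T X' : Scheme.{u}} [IsAffine X'] (φ : Γ(X', ⊤) ⟶ Γ(T, ⊤)) :
    ∃ k : T ⟶ X', k.appTop = φ := by
  refine ⟨T.toSpecΓ ≫ Spec.map φ ≫ X'.isoSpec.inv, ?_⟩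
  have h0 : X'.isoSpec.hom.appTop = (Scheme.ΓSpecIso Γ(X', ⊤)).hom := Scheme.toSpecΓ_appTop X'
  have h1 : X'.isoSpec.inv.appTop ≫ (Scheme.ΓSpecIso Γ(X', ⊤)).hom = 𝟙 _ := by
    rw [← h0, ← Scheme.Hom.comp_appTop, Iso.hom_inv_id]
    simp
  simp only [Scheme.Hom.comp_appTop, Scheme.toSpecΓ_appTop]
  have h2 : (Spec.map φ).appTop = (Scheme.ΓSpecIso _).hom ≫ φ ≫ (Scheme.ΓSpecIso _).inv := by
    rw [← Category.assoc, Iso.eq_comp_inv]
    exact Scheme.ΓSpecIso_naturality φ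
  rw [h2]
  simp only [Category.assoc, Iso.inv_hom_id, Category.comp_id]
  rw [reassoc_of% h1]

/-- On a normal integral scheme, a section over a nonempty open `O` inside an affine open `W` which
is integral over `Γ(Y, W)` extends to `W`. -/
theorem mem_range_res {Y : Scheme.{u}} [IsIntegral Y] (hY : Pi1.IsNormalScheme Y)
    (W O : Y.Opens) (hW : IsAffineOpen W) (hOW : O ≤ W) (hO : (O : Set Y).Nonempty)
    (c : Γ(Y, O)) (hc : (Y.presheaf.map (homOfLE hOW).op).hom.IsIntegralElem c) :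
    ∃ b : Γ(Y, W), (Y.presheaf.map (homOfLE hOW).op).hom b = c := by
  have : Nonempty (O : Scheme.{u}) := ⟨⟨_, hO.some_mem⟩⟩
  have : Nonempty (W : Scheme.{u}) := ⟨⟨_, hOW hO.some_mem⟩⟩
  have hic : IsIntegrallyClosed Γ(Y, W) := (Groth.Agent.S9821.result Y).mp hY W hW
  have hfr : IsFractionRing Γ(Y, W) Y.functionField :=
    functionField_isFractionRing_of_isAffineOpen Y W hW
  obtain ⟨p, hp, hpc⟩ := hc
  have hcomp : ∀ b : Γ(Y, W), (Y.germToFunctionField O).hom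
      ((Y.presheaf.map (homOfLE hOW).op).hom b) = algebraMap Γ(Y, W) Y.functionField b := by
    intro b
    exact TopCat.Presheaf.germ_res_apply Y.presheaf (homOfLE hOW) _ _ b
  have hint : IsIntegral Γ(Y, W) ((Y.germToFunctionField O).hom c) := by
    refine ⟨p, hp, ?_⟩
    have h1 := congrArg (Y.germToFunctionField O).hom hpc
    rw [Polynomial.hom_eval₂, map_zero] at h1
    have h2 : ((Y.germToFunctionField O).hom.comp (Y.presheaf.map (homOfLE hOW).op).hom) =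
        algebraMap Γ(Y, W) Y.functionField := RingHom.ext hcomp
    rw [h2] at h1
    exact h1
  obtain ⟨b, hb⟩ := IsIntegrallyClosed.isIntegral_iff.mp hint
  refine ⟨b, ?_⟩
  apply Y.germToFunctionField_injective O
  rw [← hb]
  exact hcomp b

/-- the affine-local extension -/
theorem core {Y X X' : Scheme.{u}} [IsIntegral Y] (hY : Pi1.IsNormalScheme Y) [IsAffine X]
    [IsAffine X'] (g : X' ⟶ X) (hg : g.appTop.hom.IsIntegral)
    (W O : Y.Opens) (hW : IsAffineOpen W) (hOW : O ≤ W) (hO : (O : Set Y).Nonempty)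
    (f : (O : Scheme.{u}) ⟶ X') (hW' : (W : Scheme.{u}) ⟶ X)
    (hfh : f ≫ g = Y.homOfLE hOW ≫ hW') :
    ∃ fW : (W : Scheme.{u}) ⟶ X', Y.homOfLE hOW ≫ fW = f ∧ fW ≫ g = hW' := by
  have hle : O.ι ''ᵁ ⊤ ≤ W.ι ''ᵁ ⊤ := Y.ι_image_homOfLE_le_ι_image hOW ⊤
  have hR' : (Y.homOfLE hOW).appTop = Y.presheaf.map (homOfLE hle).op :=
    Scheme.homOfLE_appTop hOW
  have hW₁ : IsAffineOpen (W.ι ''ᵁ ⊤) := by rw [W.ι_image_top]; exact hW
  have hO₁ : ((O.ι ''ᵁ ⊤ : Y.Opens) : Set Y).Nonempty := by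
    rw [O.ι_image_top]; exact hO
  have : Nonempty ((O.ι ''ᵁ ⊤ : Y.Opens) : Scheme.{u}) := ⟨⟨_, hO₁.some_mem⟩⟩
  have hinj : Function.Injective (Y.homOfLE hOW).appTop.hom := by
    rw [hR']; exact map_injective_of_isIntegral Y _
  have h2 : f.appTop.hom.comp g.appTop.hom = (Y.homOfLE hOW).appTop.hom.comp hW'.appTop.hom := by
    have := congrArg (fun k => k.appTop) hfh
    simp only [Scheme.Hom.comp_appTop] at this
    exact congrArg CommRingCat.Hom.hom this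
  have hrange : ∀ a' : Γ(X', ⊤), ∃ b, (Y.homOfLE hOW).appTop.hom b = f.appTop.hom a' := by
    intro a'
    rw [hR']
    apply mem_range_res hY (W.ι ''ᵁ ⊤) (O.ι ''ᵁ ⊤) hW₁ hle hO₁
    obtain ⟨p, hp, hpa⟩ := hg a'
    refine ⟨p.map hW'.appTop.hom, hp.map _, ?_⟩
    rw [Polynomial.eval₂_map]
    have h1 := congrArg f.appTop.hom hpa
    rw [Polynomial.hom_eval₂, map_zero, h2, hR'] at h1
    exact h1
  choose ψ hψ using hrange
  let ψ' : Γ(X', ⊤) →+* Γ((W : Scheme.{u}), ⊤) :=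
    { toFun := ψ
      map_one' := hinj (by rw [hψ, map_one, map_one])
      map_mul' := fun a b => hinj (by rw [map_mul, hψ, hψ, hψ, map_mul])
      map_zero' := hinj (by rw [hψ, map_zero, map_zero])
      map_add' := fun a b => hinj (by rw [map_add, hψ, hψ, hψ, map_add]) }
  obtain ⟨fW, hfW⟩ := exists_hom_of_appTop (T := (W : Scheme.{u})) (CommRingCat.ofHom ψ')
  refine ⟨fW, ?_, ?_⟩
  · apply ext_of_isAffine
    rw [Scheme.Hom.comp_appTop, hfW]
    ext a'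
    exact hψ a'
  · apply ext_of_isAffine
    rw [Scheme.Hom.comp_appTop, hfW]
    ext a
    apply hinj
    change (Y.homOfLE hOW).appTop.hom (ψ (g.appTop.hom a)) = _
    rw [hψ]
    exact congrArg (fun k => k a) h2

/-- Let g : X' ⟶ X be an integral morphism and Y an integral normal scheme. A rational map from Y to X'
whose composite with g is everywhere defined is itself everywhere defined: if f is a morphism from a
dense open U of Y to X' and h : Y ⟶ X satisfies g ∘ f = h restricted to U, then f extends to a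
morphism Y ⟶ X' lifting h. (The published statement allows Y normal and locally integral; it is
stated here for Y integral, the case to which it reduces on each component.) -/
theorem result {Y X X' : Scheme.{u}} [IsIntegral Y]
    (hY : Pi1.IsNormalScheme Y) (g : X' ⟶ X) [IsIntegralHom g] (U : Y.Opens) (hU : Dense (U : Set Y))
    (f : (U : Scheme.{u}) ⟶ X') (h : Y ⟶ X) (hfh : f ≫ g = U.ι ≫ h) :
    ∃ f' : Y ⟶ X', U.ι ≫ f' = f ∧ f' ≫ g = h := by
  -- local extensions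
  have hloc : ∀ y : Y, ∃ (W : Y.Opens) (fW : (W : Scheme.{u}) ⟶ X'), y ∈ W ∧ fW ≫ g = W.ι ≫ h ∧
      Y.homOfLE (inf_le_right : U ⊓ W ≤ W) ≫ fW = Y.homOfLE (inf_le_left : U ⊓ W ≤ U) ≫ f := by
    intro y
    obtain ⟨V, hV, hyV⟩ : ∃ V : X.Opens, IsAffineOpen V ∧ h y ∈ V := by
      obtain ⟨_, ⟨V, hV, rfl⟩, hyV, -⟩ :=
        X.isBasis_affineOpens.exists_subset_of_mem_open (Set.mem_univ (h y)) isOpen_univ
      exact ⟨V, hV, hyV⟩
    obtain ⟨W, hW, hyW, hWV⟩ : ∃ W : Y.Opens, IsAffineOpen W ∧ y ∈ W ∧ W ≤ h ⁻¹ᵁ V := by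
      obtain ⟨_, ⟨W, hW, rfl⟩, hyW, hWV⟩ :=
        Y.isBasis_affineOpens.exists_subset_of_mem_open
          (show y ∈ ((h ⁻¹ᵁ V : Y.Opens) : Set Y) from hyV) (h ⁻¹ᵁ V).isOpen
      exact ⟨W, hW, hyW, hWV⟩
    have hO : ((U ⊓ W : Y.Opens) : Set Y).Nonempty :=
      (hU.inter_open_nonempty W W.isOpen ⟨y, hyW⟩).mono (fun z hz => ⟨hz.2, hz.1⟩)
    have : IsAffine (V : Scheme.{u}) := hV
    have : IsAffine ((g ⁻¹ᵁ V : X'.Opens) : Scheme.{u}) := hV.preimage g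
    have hgV : (g ∣_ V).appTop.hom.IsIntegral :=
      IsIntegralHom.isIntegral_app (g ∣_ V) ⊤ (isAffineOpen_top _)
    have hr1 : Set.range (W.ι ≫ h) ⊆ Set.range V.ι := by
      rw [Scheme.Opens.range_ι]; rintro _ ⟨w, rfl⟩
      exact hWV w.2
    let hW' : (W : Scheme.{u}) ⟶ (V : Scheme.{u}) := IsOpenImmersion.lift V.ι (W.ι ≫ h) hr1
    have hhW' : hW' ≫ V.ι = W.ι ≫ h := IsOpenImmersion.lift_fac _ _ _
    have hr2 : Set.range (Y.homOfLE (inf_le_left : U ⊓ W ≤ U) ≫ f) ⊆ Set.range (g ⁻¹ᵁ V).ι := by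
      rw [Scheme.Opens.range_ι]; rintro _ ⟨w, rfl⟩
      change g ((Y.homOfLE (inf_le_left : U ⊓ W ≤ U) ≫ f) w) ∈ V
      rw [← Scheme.Hom.comp_apply, Category.assoc, hfh, Scheme.homOfLE_ι_assoc]
      exact hWV w.2.2
    let fO : ((U ⊓ W : Y.Opens) : Scheme.{u}) ⟶ ((g ⁻¹ᵁ V : X'.Opens) : Scheme.{u}) :=
      IsOpenImmersion.lift (g ⁻¹ᵁ V).ι (Y.homOfLE (inf_le_left : U ⊓ W ≤ U) ≫ f) hr2
    have hfO : fO ≫ (g ⁻¹ᵁ V).ι = Y.homOfLE (inf_le_left : U ⊓ W ≤ U) ≫ f :=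
      IsOpenImmersion.lift_fac _ _ _
    have hcomm : fO ≫ (g ∣_ V) = Y.homOfLE (inf_le_right : U ⊓ W ≤ W) ≫ hW' := by
      rw [← cancel_mono V.ι, Category.assoc, Category.assoc, morphismRestrict_ι, reassoc_of% hfO,
        hfh, hhW', Scheme.homOfLE_ι_assoc, Scheme.homOfLE_ι_assoc]
    obtain ⟨fW, h1, h2⟩ := core hY (g ∣_ V) hgV W (U ⊓ W) hW inf_le_right hO fO hW' hcomm
    refine ⟨W, fW ≫ (g ⁻¹ᵁ V).ι, hyW, ?_, ?_⟩
    · rw [Category.assoc, ← morphismRestrict_ι, reassoc_of% h2, hhW']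
    · rw [reassoc_of% h1, hfO]
  choose W fW hyW hfW1 hfW2 using hloc
  have hirr : ∀ A : Y.Opens, (A : Set Y).Nonempty → Dense (A : Set Y) := fun A hA =>
    A.isOpen.dense hA
  -- glue
  obtain ⟨k, hk⟩ := GlueOpens.exists_glue W fW (by
    intro i j
    have hne : ((U ⊓ (W i ⊓ W j) : Y.Opens) : Set Y).Nonempty := by
      have h1 : ((W i ⊓ W j : Y.Opens) : Set Y).Nonempty :=
        nonempty_preirreducible_inter (W i).isOpen (W j).isOpen ⟨i, hyW i⟩ ⟨j, hyW j⟩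
      exact (hU.inter_open_nonempty _ (W i ⊓ W j).isOpen h1).mono (fun z hz => ⟨hz.2, hz.1⟩)
    refine ExtendVal.eq_of_dense g h (U ⊓ (W i ⊓ W j)) (hirr _ hne) (W i ⊓ W j) inf_le_right
      _ _ ?_ ?_ ?_
    · rw [Category.assoc, hfW1, Scheme.homOfLE_ι_assoc]
    · rw [Category.assoc, hfW1, Scheme.homOfLE_ι_assoc]
    · rw [Scheme.homOfLE_homOfLE_assoc, Scheme.homOfLE_homOfLE_assoc]
      have e1 : Y.homOfLE ((inf_le_right : U ⊓ (W i ⊓ W j) ≤ W i ⊓ W j).trans inf_le_left) =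
          Y.homOfLE (le_inf inf_le_left (inf_le_right.trans inf_le_left) :
            U ⊓ (W i ⊓ W j) ≤ U ⊓ W i) ≫ Y.homOfLE (inf_le_right : U ⊓ W i ≤ W i) := by
        rw [Scheme.homOfLE_homOfLE]
      have e2 : Y.homOfLE ((inf_le_right : U ⊓ (W i ⊓ W j) ≤ W i ⊓ W j).trans inf_le_right) =
          Y.homOfLE (le_inf inf_le_left (inf_le_right.trans inf_le_right) :
            U ⊓ (W i ⊓ W j) ≤ U ⊓ W j) ≫ Y.homOfLE (inf_le_right : U ⊓ W j ≤ W j) := by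
        rw [Scheme.homOfLE_homOfLE]
      rw [e1, e2, Category.assoc, Category.assoc, hfW2, hfW2, Scheme.homOfLE_homOfLE_assoc,
        Scheme.homOfLE_homOfLE_assoc])
  have htop : (⨆ y, W y) = ⊤ := by
    rw [eq_top_iff]
    intro y _
    exact TopologicalSpace.Opens.mem_iSup.mpr ⟨y, hyW y⟩
  have hkg : k ≫ g = (⨆ y, W y).ι ≫ h := by
    apply GlueOpens.hom_ext_iSup W
    intro y
    rw [reassoc_of% hk y, hfW1, Scheme.homOfLE_ι_assoc]
  have e1 : (Y.topIso).inv ≫ (⊤ : Y.Opens).ι = 𝟙 Y := by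
    rw [Iso.inv_comp_eq]; simp
  have e2 : U.ι ≫ (Y.topIso).inv = Y.homOfLE (le_top : U ≤ ⊤) := by
    rw [← cancel_mono (⊤ : Y.Opens).ι, Category.assoc, e1, Category.comp_id, Scheme.homOfLE_ι]
  refine ⟨(Y.topIso).inv ≫ Y.homOfLE htop.ge ≫ k, ?_, ?_⟩
  · rw [← Category.assoc, e2, Scheme.homOfLE_homOfLE_assoc]
    obtain ⟨y₀⟩ : Nonempty Y := inferInstance
    have hne : ((U ⊓ W y₀ : Y.Opens) : Set Y).Nonempty :=
      (hU.inter_open_nonempty _ (W y₀).isOpen ⟨y₀, hyW y₀⟩).mono (fun z hz => ⟨hz.2, hz.1⟩)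
    refine ExtendVal.eq_of_dense g h (U ⊓ W y₀) (hirr _ hne) U inf_le_left _ _ ?_ hfh ?_
    · rw [Category.assoc, hkg, Scheme.homOfLE_ι_assoc]
    · rw [Scheme.homOfLE_homOfLE_assoc, ← hfW2 y₀, ← hk y₀, Scheme.homOfLE_homOfLE_assoc]
  · rw [Category.assoc, Category.assoc, hkg, Scheme.homOfLE_ι_assoc, reassoc_of% e1]


end Groth.Agent.S4446
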