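import Groth.Statements.S4447
import Mathlib.AlgebraicGeometry.ValuativeCriterion
import Mathlib.AlgebraicGeometry.ResidueField
import Mathlib.RingTheory.Valuation.LocalSubring

set_option autoImplicit false
universe u
open CategoryTheory CategoryTheory.Limits AlgebraicGeometry
open EGA2

namespace Groth.Agent.S4447

open IsLocalRing

/-- Let p : X ⟶ Y be a morphism, x a point of X, y = p(x) and y' a specialization of y distinct from y.
Then there are a valuation ring A which is not a field, with field of fractions the residue field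
k(x), and a morphism Spec A ⟶ Y mapping the closed point to y' and restricting on Spec k(x) to the
canonical morphism Spec k(x) ⟶ X ⟶ Y (in particular the generic point of Spec A goes to y). -/
theorem result {X Y : Scheme.{u}} (p : X ⟶ Y) (x : X) (y' : Y)
    (hsp : p.base x ⤳ y') (hne : y' ≠ p.base x) :
    ∃ (A : ValuationSubring (X.residueField x)) (h : Spec (CommRingCat.of A) ⟶ Y), A ≠ ⊤ ∧
      h.base (IsLocalRing.closedPoint A) = y' ∧
      Spec.map (CommRingCat.ofHom A.subtype) ≫ h = X.fromSpecResidueField x ≫ p := by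
  -- the ring map `O_{Y,y'} → κ(x)`
  let ψ : Y.presheaf.stalk y' ⟶ X.residueField x :=
    Y.presheaf.stalkSpecializes hsp ≫ p.stalkMap x ≫ X.residue x
  obtain ⟨A, hA, hloc⟩ := IsLocalRing.exists_factor_valuationRing ψ.hom
  let ψ' : Y.presheaf.stalk y' ⟶ CommRingCat.of A :=
    CommRingCat.ofHom (ψ.hom.codRestrict A.toSubring hA)
  have hψ' : ψ' ≫ CommRingCat.ofHom A.subtype = ψ := by
    ext r
    rfl
  let h : Spec (CommRingCat.of A) ⟶ Y := Spec.map ψ' ≫ Y.fromSpecStalk y'
  have hcl : h.base (IsLocalRing.closedPoint A) = y' := by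
    have : IsLocalHom ψ'.hom := hloc
    show (Spec.map ψ' ≫ Y.fromSpecStalk y') (closedPoint A) = y'
    rw [Scheme.Hom.comp_apply, Spec_closedPoint (f := ψ'), Scheme.fromSpecStalk_closedPoint]
  have hcomp : Spec.map (CommRingCat.ofHom A.subtype) ≫ h = X.fromSpecResidueField x ≫ p := by
    show Spec.map (CommRingCat.ofHom A.subtype) ≫ Spec.map ψ' ≫ Y.fromSpecStalk y' = _
    rw [← Spec.map_comp_assoc, hψ']
    show Spec.map (Y.presheaf.stalkSpecializes hsp ≫ p.stalkMap x ≫ X.residue x) ≫ _ = _
    rw [Spec.map_comp, Spec.map_comp, Category.assoc, Category.assoc,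
      Scheme.SpecMap_stalkSpecializes_fromSpecStalk, Scheme.SpecMap_stalkMap_fromSpecStalk,
      ← Category.assoc]
    rfl
  refine ⟨A, h, ?_, hcl, hcomp⟩
  -- `A ≠ ⊤`
  intro htop
  apply hne
  -- the closed point of `Spec A` is the image of the point of `Spec κ(x)`
  have hbot : IsLocalRing.maximalIdeal A = ⊥ := by
    rw [eq_bot_iff]
    intro a ha
    rw [Submodule.mem_bot]
    by_contra hne0
    have hall : ∀ z : X.residueField x, z ∈ A := fun z => by rw [htop]; trivial
    have hmem : ((a : X.residueField x))⁻¹ ∈ A := hall _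
    have hunit : IsUnit a := by
      refine ⟨⟨a, ⟨_, hmem⟩, ?_, ?_⟩, rfl⟩
      · apply Subtype.ext
        show (a : X.residueField x) * (a : X.residueField x)⁻¹ = 1
        exact mul_inv_cancel₀ (fun h0 => hne0 (Subtype.ext h0))
      · apply Subtype.ext
        show (a : X.residueField x)⁻¹ * (a : X.residueField x) = 1
        exact inv_mul_cancel₀ (fun h0 => hne0 (Subtype.ext h0))
    exact (IsLocalRing.mem_maximalIdeal a).mp ha hunit
  let pt : Spec (X.residueField x) := ⟨⊥, Ideal.isPrime_bot⟩
  have hpt : (Spec.map (CommRingCat.ofHom A.subtype)).base pt = IsLocalRing.closedPoint A := by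
    apply PrimeSpectrum.ext
    show Ideal.comap A.subtype ⊥ = IsLocalRing.maximalIdeal A
    rw [hbot]
    ext a
    simp only [Ideal.mem_comap, Ideal.mem_bot]
    exact ⟨fun h0 => Subtype.ext h0, fun h0 => by rw [h0]; rfl⟩
  have h1 : (Spec.map (CommRingCat.ofHom A.subtype) ≫ h).base pt = y' := by
    rw [Scheme.Hom.comp_base, TopCat.comp_app, hpt, hcl]
  rw [hcomp] at h1
  rw [← h1, Scheme.Hom.comp_base, TopCat.comp_app]
  congr 1
  exact Scheme.fromSpecResidueField_apply x pt


end Groth.Agent.S4447
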