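import Groth.Statements.S4457
import Groth.Agent.Lib.Lead.HomologyCmp
import Groth.Agent.Lib.Helper83.ModCoh
import Groth.Agent.S0028
import Groth.Agent.S0030
import Groth.Agent.S0904
import Groth.Agent.S11319

set_option autoImplicit false
universe u
open Coherent

namespace Groth.Agent.S4457

open AlgebraicGeometry CategoryTheory in
/-- Let f : X → Y be a separated quasi-compact morphism, g : Y → Z an affine morphism and F a
quasi-coherent O_X-module. Then for every p ≥ 0, R^p (g ∘ f)_* F is isomorphic to g_*(R^p f_* F)
(higher direct images and direct image of the underlying abelian sheaves). The source shows that the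
canonical comparison map is an isomorphism; only the existence of an isomorphism is asserted here. -/
theorem result {X Y Z : Scheme.{u}} (f : X ⟶ Y) (g : Y ⟶ Z)
    [IsSeparated f] [QuasiCompact f] [IsAffineHom g] (F : X.Modules) [Coh.IsQCoh F] (p : ℕ) :
    Nonempty ((Coh.RpushAb (f ≫ g) p).obj (Coh.toAb F) ≅
      (Coh.pushAb g).obj ((Coh.RpushAb f p).obj (Coh.toAb F))) := by
  open Groth.Agent.Lib.Lead.HomologyCmp in
  haveI : EnoughInjectives X.Modules :=
    inferInstanceAs (EnoughInjectives (SheafOfModules.{u} X.ringCatSheaf))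
  let T := Coh.pushAb f
  let G := Coh.pushAb g
  let X₀ := Coh.toAb F
  have e : T ⋙ G ≅ Coh.pushAb (f ≫ g) := NatIso.ofComponents (fun _ => Iso.refl _)
  haveI : Limits.PreservesFiniteLimits G := by
    have := (TopCat.Sheaf.pullbackPushforwardAdjunction AddCommGrpCat.{u} g.base).rightAdjoint_preservesLimits
    change Limits.PreservesFiniteLimits (TopCat.Sheaf.pushforward AddCommGrpCat.{u} g.base)
    infer_instance
  let I := injectiveResolution X₀
  let K := (T.mapHomologicalComplex (ComplexShape.up ℕ)).obj I.cocomplex
  have hX : ∀ n k : ℕ, Limits.IsZero ((G.rightDerived (k + 1)).obj (K.X n)) := by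
    intro n k
    haveI : Injective (I.cocomplex.X n) := I.injective n
    haveI : Injective (K.X n) := Groth.Agent.S0904.result f.base (I.cocomplex.X n)
    exact G.isZero_rightDerived_obj_injective_succ k _
  have hH : ∀ n k : ℕ, Limits.IsZero ((G.rightDerived (k + 1)).obj (K.homology n)) := by
    intro n k
    obtain ⟨i1⟩ := Groth.Agent.S11319.result f F n
    haveI : Coh.IsQCoh ((Coh.Rpush f n).obj F) := Groth.Agent.S0030.result f F n
    have h0 := Groth.Agent.S0028.result g ((Coh.Rpush f n).obj F) (k + 1) (Nat.succ_pos k)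
    have i2 : K.homology n ≅ Coh.toAb ((Coh.Rpush f n).obj F) :=
      (I.isoRightDerivedObj T n).symm ≪≫ i1.symm
    exact Limits.IsZero.of_iso h0 ((G.rightDerived (k + 1)).mapIso i2)
  have h1 : IsIso (RDer.homologyComparison G K p) :=
    isIso_homologyComparison K (exactClass_acyclic G) hX hH p
  haveI : IsIso (RDer.edgeOut T G p X₀) := by
    dsimp only [RDer.edgeOut]
    exact @IsIso.comp_isIso _ _ _ _ _ _ _ inferInstance
      (@IsIso.comp_isIso _ _ _ _ _ _ _ h1 inferInstance)
  exact ⟨(RDer.rightDerivedIso e p).symm.app X₀ ≪≫ asIso (RDer.edgeOut T G p X₀)⟩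

end Groth.Agent.S4457
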