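import Groth.Statements.S4458
import Groth.Agent.Lib.Helper45.Dev.DevRoots

set_option autoImplicit false
universe u
open Coherent

namespace Groth.Agent.S4458

attribute [local instance] CategoryTheory.Abelian.hasFiniteBiproducts

open AlgebraicGeometry CategoryTheory CategoryTheory.Limits in
/-- Let X be a Noetherian scheme and K' a class of O_X-modules, closed under isomorphism, containing 0,
such that in every short exact sequence of coherent modules with two terms in K' the third is in K',
and such that every coherent direct summand of a coherent module in K' is in K'. Let X' be a closed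
subset such that for every irreducible closed subset Z ⊆ X' with generic point y there is a coherent
module G in K' supported in Z, annihilated by the ideal sheaf of the reduced closed subscheme Z,
whose stalk at y is nonzero. Then every coherent O_X-module with support contained in X' belongs to
K'. (The published statement asks of G only that it lie in K' and have nonzero stalk at y, remarking
that this amounts to G having support Z; that is not sufficient: on the spectrum of the ring
k[e]/(e^2) of dual numbers over a field the free coherent modules form such a class K', containing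
the structure sheaf and not the residue field. This row asks G to be supported in Z and annihilated
by the ideal sheaf of Z, which is what the published proof uses, through the stalk of G at y being a
vector space over the residue field of y.) -/
theorem result (X : Scheme.{u}) [IsNoetherian X]
    (K' : ObjectProperty X.Modules) [K'.IsClosedUnderIsomorphisms]
    (h0 : ∀ M : X.Modules, IsZero M → K' M)
    (hex : ∀ S : ShortComplex X.Modules, S.ShortExact → Coh.IsCoh S.X₁ → Coh.IsCoh S.X₂ → Coh.IsCoh S.X₃ →
      (K' S.X₁ → K' S.X₂ → K' S.X₃) ∧ (K' S.X₁ → K' S.X₃ → K' S.X₂) ∧ (K' S.X₂ → K' S.X₃ → K' S.X₁))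
    (hsum : ∀ (M N : X.Modules) (i : N ⟶ M) (r : M ⟶ N), i ≫ r = 𝟙 N → Coh.IsCoh M → Coh.IsCoh N →
      K' M → K' N)
    (X' : Set X) (hX' : IsClosed X')
    (hgen : ∀ (Z : Set X) (hZ : IsClosed Z), IsIrreducible Z → Z ⊆ X' → ∀ y : X, closure {y} = Z →
      ∃ G : X.Modules, Coh.IsCoh G ∧ K' G ∧ CohB1.support G ⊆ Z ∧
        ClSub.KilledByIdeal (Scheme.IdealSheafData.vanishingIdeal ⟨Z, hZ⟩) G ∧ y ∈ CohB1.support G)
    (F : X.Modules) (hF : Coh.IsCoh F) (hsupp : CohB1.support F ⊆ X') : K' F := by
  open Groth.Agent.Lib.Helper45.DevRoots in
  refine devissage_roots (fun M => K' M) ?_ h0 X' hX' ?_ ?_ ?_ ?_ F hF hsupp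
  · rintro A B ⟨e⟩ hA
    exact K'.prop_of_iso e hA
  · intro S hS h1 h2 h3 _
    exact (hex S hS h1 h2 h3).2.1
  · intro S hS h1 h2 h3 _
    exact (hex S hS h1 h2 h3).2.2
  · intro F n hn hF _ hP
    have hn0 : 0 < n := hn
    exact hsum (⨁ fun _ : Fin n => F) F (biproduct.ι (fun _ : Fin n => F) ⟨0, hn0⟩)
      (biproduct.π (fun _ : Fin n => F) ⟨0, hn0⟩) (biproduct.ι_π_self _ _)
      (isCoh_biproduct _ (fun _ => hF)) hF hP
  · intro x hx
    have hcl : closure {x} ⊆ X' := hX'.closure_subset_iff.mpr (Set.singleton_subset_iff.mpr hx)
    obtain ⟨G, hG, hKG, hGs, hkill, hxG⟩ := hgen (closure {x}) isClosed_closure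
      isIrreducible_singleton.closure hcl x rfl
    have := hG.1
    exact ⟨G, hG, hGs, hKG, not_subsingleton_iff_nontrivial.mp hxG,
      stalk_killed_of_killedByIdeal G x hkill⟩

end Groth.Agent.S4458
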