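import Groth.Statements.S4469
import Mathlib.RingTheory.ZariskisMainTheorem
import Mathlib.RingTheory.Ideal.MinimalPrime.Noetherian
import Mathlib.RingTheory.IntegralClosure.IntegrallyClosed

set_option autoImplicit false
universe u
open CAlg

namespace Groth.Agent.S4469

/-- a maximal ideal of `B` which is a minimal prime over `m B` is isolated in its fibre. -/
theorem quasiFiniteAt_of_minimal (A B : Type u) [CommRing A] [IsNoetherianRing A] [IsLocalRing A]
    [CommRing B] [Algebra A B] [Algebra.FiniteType A B] (n : Ideal B) [hnmax : n.IsMaximal]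
    (hn : n.comap (algebraMap A B) = IsLocalRing.maximalIdeal A)
    (hmin : ∀ q : Ideal B, q.IsPrime → q.comap (algebraMap A B) = IsLocalRing.maximalIdeal A →
      q ≤ n → q = n) :
    Algebra.QuasiFiniteAt A n := by
  classical
  have hBnoeth : IsNoetherianRing B := Algebra.FiniteType.isNoetherianRing A B
  set m := IsLocalRing.maximalIdeal A with hm
  set I : Ideal B := m.map (algebraMap A B) with hI
  -- primes containing `I` lie over `m`
  have hover : ∀ q : Ideal B, q.IsPrime → I ≤ q → q.comap (algebraMap A B) = m := by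
    intro q hq hIq
    have h1 : m ≤ q.comap (algebraMap A B) := Ideal.map_le_iff_le_comap.mp hIq
    have h2 : q.comap (algebraMap A B) ≠ ⊤ := (Ideal.comap_isPrime _ q).ne_top
    exact ((IsLocalRing.maximalIdeal.isMaximal A).eq_of_le h2 h1).symm
  have hIn : I ≤ n := Ideal.map_le_iff_le_comap.mpr hn.ge
  have hnmin : n ∈ I.minimalPrimes := by
    refine ⟨⟨hnmax.isPrime, hIn⟩, ?_⟩
    rintro q ⟨hq, hIq⟩ hqn
    exact (hmin q hq (hover q hq hIq) hqn).ge
  have hfin : (I.minimalPrimes).Finite := I.finite_minimalPrimes_of_isNoetherianRing B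
  let Z : Set (PrimeSpectrum B) := ⋃ q ∈ (I.minimalPrimes \ {n}), PrimeSpectrum.zeroLocus (q : Set B)
  have hZ : IsClosed Z :=
    (hfin.subset Set.sdiff_subset).isClosed_biUnion fun q _ => PrimeSpectrum.isClosed_zeroLocus _
  let qn : PrimeSpectrum B := ⟨n, hnmax.isPrime⟩
  apply Algebra.QuasiFiniteAt.of_isOpen_singleton_fiber qn
  rw [isOpen_induced_iff]
  refine ⟨Zᶜ, hZ.isOpen_compl, ?_⟩
  ext ⟨p, hp⟩
  simp only [Set.mem_preimage, Set.mem_compl_iff, Set.mem_singleton_iff, Subtype.mk.injEq]
  constructor
  · intro hpZ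
    by_contra hne
    have hpm : p.asIdeal.comap (algebraMap A B) = m := by
      have := congrArg PrimeSpectrum.asIdeal hp
      simpa [qn, hn] using this
    have hIp : I ≤ p.asIdeal := Ideal.map_le_iff_le_comap.mpr hpm.ge
    obtain ⟨q, hq, hqp⟩ := Ideal.exists_minimalPrimes_le hIp
    apply hpZ
    simp only [Z, Set.mem_iUnion, exists_prop]
    refine ⟨q, ⟨hq, ?_⟩, hqp⟩
    intro hqeq
    rw [Set.mem_singleton_iff] at hqeq
    rw [hqeq] at hqp
    apply hne
    have : n = p.asIdeal := hnmax.eq_of_le p.isPrime.ne_top hqp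
    exact PrimeSpectrum.ext this.symm
  · rintro rfl hqZ
    simp only [Z, Set.mem_iUnion, exists_prop] at hqZ
    obtain ⟨q, ⟨hq, hqn⟩, hqle⟩ := hqZ
    apply hqn
    have hqle' : q ≤ n := hqle
    exact le_antisymm hqle' (hnmin.2 hq.1 hqle')

/-- Let A be an integrally closed Noetherian local domain with field of fractions K, B an A-algebra of
finite type which is a domain with the same field of fractions (A → B → K compatible with A → K),
and 𝔫 a maximal ideal of B lying over the maximal ideal 𝔪 of A and minimal among the prime ideals of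
B lying over 𝔪. Then B = A: the structure map A → B is bijective. -/
theorem result (A B K : Type u) [CommRing A]
    [IsDomain A] [IsNoetherianRing A] [IsLocalRing A] [IsIntegrallyClosed A] [CommRing B] [IsDomain B]
    [Field K] [Algebra A B] [Algebra B K] [Algebra A K] [IsScalarTower A B K] [IsFractionRing A K]
    [IsFractionRing B K] [Algebra.FiniteType A B] (n : Ideal B) [n.IsMaximal]
    (hn : n.comap (algebraMap A B) = IsLocalRing.maximalIdeal A)
    (hmin : ∀ q : Ideal B, q.IsPrime → q.comap (algebraMap A B) = IsLocalRing.maximalIdeal A → q ≤ n → q = n) :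
    Function.Bijective (algebraMap A B) := by
  have hBK : Function.Injective (algebraMap B K) := IsFractionRing.injective B K
  have hAK : Function.Injective (algebraMap A K) := IsFractionRing.injective A K
  have hinj : Function.Injective (algebraMap A B) := by
    intro x y hxy
    apply hAK
    rw [IsScalarTower.algebraMap_apply A B K, IsScalarTower.algebraMap_apply A B K, hxy]
  refine ⟨hinj, ?_⟩
  -- integral elements of `B` come from `A`
  have hint : ∀ b : B, IsIntegral A b → ∃ a : A, algebraMap A B a = b := by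
    intro b hb
    have hb' : IsIntegral A (algebraMap B K b) := hb.map (IsScalarTower.toAlgHom A B K)
    obtain ⟨a, ha⟩ := IsIntegrallyClosed.isIntegral_iff.mp hb'
    refine ⟨a, hBK ?_⟩
    rw [← IsScalarTower.algebraMap_apply A B K, ha]
  have hqf : Algebra.QuasiFiniteAt A n := quasiFiniteAt_of_minimal A B n hn hmin
  have hZMP : Algebra.ZariskisMainProperty A n := Algebra.ZariskisMainProperty.of_finiteType n
  obtain ⟨r, hrn, hrint, hr⟩ := Algebra.zariskisMainProperty_iff.mp hZMP
  obtain ⟨a₀, ha₀⟩ := hint r hrint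
  have ha₀u : IsUnit a₀ := by
    by_contra hnu
    have : a₀ ∈ IsLocalRing.maximalIdeal A := (IsLocalRing.mem_maximalIdeal a₀).mpr hnu
    rw [← hn, Ideal.mem_comap, ha₀] at this
    exact hrn this
  intro x
  obtain ⟨k, hk⟩ := hr x
  obtain ⟨a, ha⟩ := hint _ hk
  obtain ⟨u, hu⟩ := ha₀u
  refine ⟨((u⁻¹ : Aˣ) : A) ^ k * a, ?_⟩
  rw [map_mul, map_pow, ha, ← ha₀, ← hu, ← mul_assoc, ← mul_pow, ← map_mul, Units.inv_mul, map_one,
    one_pow, one_mul]


end Groth.Agent.S4469
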