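import Groth.Statements.S4481
import Groth.Agent.Lib.Helper1.CohLoc.Main
import Groth.Agent.Lib.Helper19.QCohExtend

set_option autoImplicit false
universe u
open Coherent

namespace Groth.Agent.S4481

section Aux
open CategoryTheory Limits Opposite TopologicalSpace AlgebraicGeometry
open Groth.Agent.Lib.Helper1.Cech Groth.Agent.Helper19.QCohExt Groth.Agent.Lib.Helper93.CechTransfer
  Groth.Agent.Lib.Helper1.CohLoc

variable {X : Scheme.{u}} (F : X.Modules)

lemma Fmap_Fmap {W' W V : X.Opens} (a : W' ≤ W) (b : W ≤ V) (t : Γ(F, V)) :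
    F.presheaf.map (homOfLE a).op (F.presheaf.map (homOfLE b).op t) =
      F.presheaf.map (homOfLE (a.trans b)).op t := by
  rw [← ConcreteCategory.comp_apply, ← Functor.map_comp]
  rfl

lemma Omap_Omap {W' W V : X.Opens} (a : W' ≤ W) (b : W ≤ V) (t : Γ(X, V)) :
    X.presheaf.map (homOfLE a).op (X.presheaf.map (homOfLE b).op t) =
      X.presheaf.map (homOfLE (a.trans b)).op t := by
  rw [← ConcreteCategory.comp_apply, ← Functor.map_comp]
  rfl

lemma Fmap_self {W : X.Opens} (a : W ≤ W) (t : Γ(F, W)) :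
    F.presheaf.map (homOfLE a).op t = t := by
  have : (homOfLE a).op = 𝟙 (op W) := rfl
  rw [this, CategoryTheory.Functor.map_id]
  rfl

lemma restrict_smul (V : X.Opens) (W : V.toScheme.Opens) (c : Γ(V.toScheme, W))
    (x : Γ(F.restrict V.ι, W)) :
    (c • x : Γ(F.restrict V.ι, W)) =
      ((show Γ(X, V.ι ''ᵁ W) from c) • (show Γ(F, V.ι ''ᵁ W) from x) : Γ(F, V.ι ''ᵁ W)) := by
  have h := Scheme.Modules.smul_restrictAppIso_hom_apply V.ι F W c x
  rw [Scheme.Opens.ι_appIso] at h
  exact h

/-- extension of sections from `V ∩ X_r` to a quasi-compact quasi-separated open `V`, up to a power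
of `r`. -/
theorem exists_extension_open [F.IsQuasicoherent] (V : X.Opens) (hVc : IsCompact (V : Set X))
    (hVqs : IsQuasiSeparated (V : Set X)) (r : Γ(X, V)) (u : Γ(F, X.basicOpen r)) :
    ∃ (n : ℕ) (t : Γ(F, V)),
      res F (X.basicOpen_le r) t = (rres (X.basicOpen_le r) r) ^ n • u := by
  have : CompactSpace V := isCompact_iff_compactSpace.mp hVc
  have : QuasiSeparatedSpace V := (isQuasiSeparated_iff_quasiSeparatedSpace _ V.isOpen).mp hVqs
  let N : V.toScheme.Modules := F.restrict V.ι
  have : N.IsQuasicoherent := Scheme.Modules.isQuasicoherent_restrictFunctor _ _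
  let fY : Γ(V.toScheme, ⊤) := V.topIso.inv r
  have e : V.ι ''ᵁ (V.toScheme.basicOpen fY) = X.basicOpen r := V.ι_image_basicOpen_topIso_inv r
  let tY : Γ(N, V.toScheme.basicOpen fY) := F.presheaf.map (homOfLE e.le).op u
  obtain ⟨n, -, s, hs⟩ := exists_extension N fY tY
  have e' : V.ι ''ᵁ ⊤ = V := V.ι_image_top
  obtain ⟨s', hss'⟩ : ∃ s' : Γ(F, V.ι ''ᵁ ⊤), s' = s := ⟨s, rfl⟩
  refine ⟨n, F.presheaf.map (homOfLE e'.ge).op s', ?_⟩
  have hle : V.ι ''ᵁ (V.toScheme.basicOpen fY) ≤ V.ι ''ᵁ ⊤ := V.ι.image_mono le_top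
  -- rewrite `hs` as an identity of sections of `F`
  have hs' : F.presheaf.map (homOfLE hle).op s' =
      (X.presheaf.map (homOfLE hle).op fY) ^ n • (F.presheaf.map (homOfLE e.le).op u) := by
    rw [hss']
    exact hs.trans (restrict_smul F V _ _ tY)
  have h1 := congrArg (F.presheaf.map (homOfLE e.ge).op) hs'
  rw [Fmap_Fmap] at h1
  rw [res_apply, Fmap_Fmap, h1]
  have h2 := Scheme.Modules.map_smul F (homOfLE e.ge) ((X.presheaf.map (homOfLE hle).op fY) ^ n)
    (F.presheaf.map (homOfLE e.le).op u)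
  refine h2.trans ?_
  rw [Fmap_Fmap, Fmap_self, map_pow]
  congr 2
  change X.presheaf.map (homOfLE e.ge).op (X.presheaf.map (homOfLE hle).op
    (X.presheaf.map (homOfLE e'.le).op r)) = _
  rw [Omap_Omap, Omap_Omap]
  rfl

/-- `F(V) → F(V ⊓ X_f)` is a localization at `f` for `V` quasi-compact and quasi-separated. -/
theorem isLocalizingAt_of_qcqs [F.IsQuasicoherent] {V V' : X.Opens} (hVc : IsCompact (V : Set X))
    (hVqs : IsQuasiSeparated (V : Set X)) (f : Γ(X, ⊤)) (hV' : V' = V ⊓ X.basicOpen f)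
    (h : V' ≤ V) : IsLocalizingAt (X := X.toTopCat) (globalAction F) f h := by
  obtain ⟨r, hr⟩ : ∃ r : Γ(X, V), r = X.presheaf.map (homOfLE (le_top : V ≤ ⊤)).op f := ⟨_, rfl⟩
  have e : X.basicOpen r = V' := by rw [hV', hr, Scheme.basicOpen_res]
  subst e
  have hrf : X.presheaf.map (homOfLE (X.basicOpen_le r)).op r =
      X.presheaf.map (homOfLE (le_top : X.basicOpen r ≤ ⊤)).op f := by
    rw [hr, ← ConcreteCategory.comp_apply, ← Functor.map_comp]
    rfl
  constructor
  · intro u
    obtain ⟨n, t, ht⟩ := exists_extension_open F V hVc hVqs r u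
    refine ⟨n, t, ?_⟩
    rw [globalAction_apply, map_pow, ← hrf]
    exact ht
  · intro t ht
    obtain ⟨n, hn⟩ := exists_pow_smul_eq_zero F V hVc r t ht
    refine ⟨n, ?_⟩
    rw [globalAction_apply, map_pow, ← hr]
    exact hn

/-- **Čech acyclicity for a partition of unity**: on a quasi-separated scheme, if finitely many
global functions `f i` generate the unit ideal and the `X_{f i}` are quasi-compact, the Čech complex
of a quasi-coherent module for the `X_{f i}` is exact in positive degrees. -/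
theorem exactAt_of_span_eq_top [QuasiSeparatedSpace X] [F.IsQuasicoherent] {ι : Type u} [Finite ι]
    (f : ι → Γ(X, ⊤)) (hf : Ideal.span (Set.range f) = ⊤)
    (hqc : ∀ i, IsCompact (X.basicOpen (f i) : Set X)) (p : ℕ) :
    (K (C := Opens X.toTopCat) (fun i => X.basicOpen (f i)) F.presheaf).ExactAt (p + 1) := by
  have hc : ∀ (q : ℕ) (y : Fin (q + 1) → ι),
      IsCompact ((show X.Opens from
        inter (C := Opens X.toTopCat) (fun i => X.basicOpen (f i)) y) : Set X) := by
    intro q y
    rw [inter_eq_iInf (X := X.toTopCat)]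
    have : (((⨅ a, X.basicOpen (f (y a)) : X.Opens)) : Set X) =
        ⋂₀ (Set.range fun a => ((X.basicOpen (f (y a)) : X.Opens) : Set X)) := by
      rw [Set.sInter_range]
      exact Opens.coe_iInf _
    rw [this]
    refine QuasiSeparatedSpace.isCompact_sInter_of_nonempty (Set.finite_range _)
      (Set.range_nonempty _) ?_ ?_
    · rintro _ ⟨a, rfl⟩
      exact Or.inl (X.basicOpen _).isOpen
    · rintro _ ⟨a, rfl⟩
      exact hqc _
  refine exactAt_of_localizing_of_span_eq_top (X := X.toTopCat) (globalAction F) f hf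
    (fun j q y => ?_) p
  refine isLocalizingAt_of_qcqs F (hc q y) (IsQuasiSeparated.of_quasiSeparatedSpace _) (f j) ?_ _
  exact inter_cons_eq (X := X.toTopCat) _ j y

end Aux

open TopologicalSpace in
open Groth.Agent.Lib.Helper1.Cech Groth.Agent.Lib.Helper93.CechTransfer
  Groth.Agent.Lib.Helper1.CohLoc in
open AlgebraicGeometry CategoryTheory Opposite in
/-- Let X be a separated scheme, f_1, …, f_n global functions on X such that every open X_{f_i} is
quasi-compact, U the union of the X_{f_i}, and suppose there are sections g_1, …, g_n of O_X over U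
with Σ g_i · (f_i|_U) = 1. Then for every quasi-coherent O_X-module G and every p > 0 the Čech
cohomology group of G in degree p with respect to the family of opens (X_{f_i}) is zero. (The
published statement also covers a scheme whose underlying space is Noetherian, not necessarily
separated; this row treats separated X.) -/
theorem result (X : Scheme.{u}) [X.IsSeparated] (n : ℕ)
    (f : Fin n → Γ(X, ⊤)) (hqc : ∀ i, IsCompact (X.basicOpen (f i) : Set X))
    (g : Fin n → Γ(X, ⨆ i, X.basicOpen (f i)))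
    (hg : (Finset.univ.sum fun i => g i *
      (X.presheaf.map (homOfLE (le_top : (⨆ i, X.basicOpen (f i)) ≤ ⊤)).op).hom (f i)) = 1)
    (G : X.Modules) [Coh.IsQCoh G] (p : ℕ) (hp : 0 < p) :
    Limits.IsZero (CohB1.cechH (fun i : ULift.{u} (Fin n) => X.basicOpen (f i.down)) G p) := by
  obtain ⟨p', rfl⟩ : ∃ p', p = p' + 1 := ⟨p - 1, by omega⟩
  have hGq : G.IsQuasicoherent := ‹Coh.IsQCoh G›
  let 𝒰 : ULift.{u} (Fin n) → X.Opens := fun i => X.basicOpen (f i.down)
  let D : X.Opens := ⨆ i, X.basicOpen (f i)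
  have h𝒰D : ∀ i, 𝒰 i ≤ D := fun i => le_iSup (fun i => X.basicOpen (f i)) i.down
  let M : D.toScheme.Modules := G.restrict D.ι
  have : M.IsQuasicoherent := Scheme.Modules.isQuasicoherent_restrictFunctor _ _
  let f' : ULift.{u} (Fin n) → Γ(D.toScheme, ⊤) := fun i => D.ι.appTop (f i.down)
  have hbo : (fun i => D.toScheme.basicOpen (f' i)) = VV D 𝒰 := by
    funext i
    exact (Scheme.preimage_basicOpen_top D.ι (f i.down)).symm
  -- the unit ideal
  have hspan : Ideal.span (Set.range f') = ⊤ := by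
    rw [Ideal.eq_top_iff_one]
    let φ : Γ(X, D) →+* Γ(D.toScheme, ⊤) := D.topIso.inv.hom
    have h1 := congrArg φ hg
    rw [map_sum, map_one] at h1
    rw [← h1]
    refine Ideal.sum_mem _ (fun i _ => ?_)
    rw [map_mul]
    refine Ideal.mul_mem_left _ _ ?_
    have h2 : φ ((X.presheaf.map (homOfLE (le_top : D ≤ ⊤)).op).hom (f i)) = f' ⟨i⟩ := by
      change X.presheaf.map _ (X.presheaf.map _ (f i)) = X.presheaf.map _ (f i)
      rw [← ConcreteCategory.comp_apply, ← Functor.map_comp]
      rfl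
    rw [h2]
    exact Ideal.subset_span ⟨⟨i⟩, rfl⟩
  have hqc' : ∀ i, IsCompact (D.toScheme.basicOpen (f' i) : Set D.toScheme) := by
    intro i
    have h1 : D.toScheme.basicOpen (f' i) = D.ι ⁻¹ᵁ (X.basicOpen (f i.down)) :=
      (Scheme.preimage_basicOpen_top D.ι (f i.down)).symm
    rw [h1]
    change IsCompact (D.ι ⁻¹' ((X.basicOpen (f i.down) : X.Opens) : Set X))
    rw [D.ι.isOpenEmbedding.isInducing.isCompact_preimage_iff]
    · exact hqc i.down
    · rw [Scheme.Opens.range_ι]
      exact h𝒰D i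
  have : QuasiSeparatedSpace D.toScheme :=
    QuasiSeparatedSpace.of_isOpenEmbedding D.ι.isOpenEmbedding
  have hex := exactAt_of_span_eq_top M f' hspan hqc' p'
  rw [hbo] at hex
  have himg : imgFam (VV D 𝒰) D.ι.opensFunctor = 𝒰 := by
    rw [imgFam_VV]
    funext i
    exact inf_eq_right.mpr (h𝒰D i)
  have e2 := homologyIso (X := X.toTopCat) (Y := D.toScheme.toTopCat) (VV D 𝒰)
    D.ι.opensFunctor G.presheaf (hΦ' D 𝒰) (p' + 1)
  rw [himg] at e2
  rw [HomologicalComplex.exactAt_iff_isZero_homology] at hex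
  exact Limits.IsZero.of_iso hex e2

end Groth.Agent.S4481
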