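import Groth.Statements.S4482
import Mathlib
import Groth.Agent.S5745
import Groth.Agent.S4400
import Groth.Agent.S3561
import Groth.Agent.Lib.Helper17.ProjSerre
import Groth.Agent.Lib.Helper17.EulerChar
import Groth.Agent.Lib.Helper12.ProjVanish
import Groth.Agent.Lib.Helper38.SerreVanishPn

set_option autoImplicit false
universe u
open Coherent

namespace Groth.Agent.S4482

open AlgebraicGeometry CategoryTheory in
/-- Let A be an Artinian local ring, S a graded A-algebra with S_0 the image of A, generated by r+1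
elements of degree one spanning S_1, M a finitely generated graded S-module (graded in nonnegative
degrees) and X = Proj S. Then there is N such that for every n ≥ N the Euler characteristic of the
module M(n)~, namely the alternating sum over 0 ≤ j ≤ r of the lengths of the A-modules H^j(X,
M(n)~), equals the length of the A-module M_n. -/
theorem result {A S : Type u} [CommRing A] [IsArtinianRing A]
    [IsLocalRing A] [CommRing S] [Algebra A S] (𝒜 : ℕ → Submodule A S) [GradedAlgebra 𝒜]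
    (h0 : ∀ s ∈ 𝒜 0, s ∈ Set.range (algebraMap A S)) (r : ℕ) (g : Fin (r + 1) → S)
    (hg1 : ∀ i, g i ∈ 𝒜 1) (hspan : Submodule.span A (Set.range g) = 𝒜 1)
    (hgen : Algebra.adjoin A (Set.range g) = ⊤) {M : Type u} [AddCommGroup M] [Module A M] [Module S M]
    [IsScalarTower A S M] [Module.Finite S M] (ℳ : ℕ → Submodule A M) [DirectSum.Decomposition ℳ]
    [SetLike.GradedSMul 𝒜 ℳ] :
    ∃ N : ℕ, ∀ n : ℕ, N ≤ n →
      ((Finset.range (r + 1)).sum fun j => (-1 : ℤ) ^ j *
          ((Module.length A (Coh.HH (Proj 𝒜) (GrTilde.tilde 𝒜 ℳ (n : ℤ)) j)).toNat : ℤ)) =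
        ((Module.length A ↥(ℳ n)).toNat : ℤ) := by
  classical
  have hFT : Algebra.FiniteType A S :=
    ⟨⟨Finset.univ.image g, by
      rw [Finset.coe_image, Finset.coe_univ, Set.image_univ]; exact hgen⟩⟩
  have hNoeth : IsNoetherianRing S := Algebra.FiniteType.isNoetherianRing A S
  have hirr : (HomogeneousIdeal.irrelevant 𝒜).toIdeal = Ideal.span (𝒜 1 : Set S) := by
    apply le_antisymm
    · refine (Groth.Agent.Lib.Helper12.ProjVanish.irrelevant_le_span 𝒜 g hg1 hgen).trans ?_
      apply Ideal.span_mono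
      rintro _ ⟨i, rfl⟩
      exact hg1 i
    · rw [Ideal.span_le]
      intro x hx
      exact HomogeneousIdeal.mem_irrelevant_of_mem _ one_pos hx
  have hTF : ∃ k : ℕ, (Submodule.span S (⋃ i ∈ Set.Ici k, (ℳ i : Set M))).FG := by
    refine ⟨0, ?_⟩
    have htop : Submodule.span S (⋃ i ∈ Set.Ici 0, (ℳ i : Set M)) = ⊤ := by
      rw [eq_top_iff]
      intro x _
      rw [← DirectSum.sum_support_decompose ℳ x]
      refine Submodule.sum_mem _ fun i _ => Submodule.subset_span ?_
      simp only [Set.mem_Ici, zero_le, Set.iUnion_true, Set.mem_iUnion, SetLike.mem_coe]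
      exact ⟨i, (DirectSum.decompose ℳ x i).2⟩
    rw [htop]
    exact Module.Finite.fg_top
  obtain ⟨N₁, hN₁⟩ := Groth.Agent.S5745.result 𝒜 ℳ hTF
  have hcoh : Coh.IsCoh (GrTilde.tilde 𝒜 ℳ 0) :=
    ⟨Groth.Agent.Lib.Helper17.GrQCoh.isQuasicoherent_tilde 𝒜 ℳ 0,
      Groth.Agent.S3561.result 𝒜 (IsNoetherian.noetherian _) ℳ hTF⟩
  obtain ⟨d₀, hd₀⟩ := Groth.Agent.Lib.Helper17.ProjSerre.serre_vanishing 𝒜 _ hcoh
  refine ⟨max N₁ d₀.toNat, fun n hn => ?_⟩
  apply Groth.Agent.Lib.Helper17.EulerChar.euler_sum 𝒜 ℳ r n (hN₁ n (le_of_max_le_left hn))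
  intro j hj
  obtain ⟨e⟩ := Groth.Agent.S4400.result 𝒜 hirr ℳ (n : ℤ)
  have hd : d₀ ≤ (n : ℤ) := by
    have := le_of_max_le_right hn
    omega
  exact Groth.Agent.Lib.Helper38.SerreVanishPn.subsingleton_HH_of_iso A e j (hd₀ n hd j hj)

end Groth.Agent.S4482
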