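import Groth.Statements.S4488
import Groth.Agent.Lib.Helper20.TFunBc

set_option autoImplicit false
universe u
open FlatCx

namespace Groth.Agent.S4488

open CategoryTheory CategoryTheory.Limits MonoidalCategory Groth.Agent.Lib.Helper20
  Groth.Agent.Lib.Helper12.FlatCx

section

variable {A : Type u} [CommRing A] {ι : Type} {c : ComplexShape ι}
variable (P : HomologicalComplex (ModuleCat.{u} A) c)

/-- If `P_q = 0` then `T_q = 0`, so it preserves everything. -/
theorem isZero_T_of_isZero {q : ι} (hq : IsZero (P.X q)) (M : ModuleCat.{u} A) :
    IsZero ((CohIII.TFun P q).obj M) := by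
  have h1 : IsZero ((CohIII.tensorObj P M).X q) := (tensorRight M).map_isZero hq
  exact ShortComplex.isZero_homology_of_isZero_X₂ _ h1

theorem exact_of_isZero {q : ι} (hq : IsZero (P.X q)) :
    (CohIII.TFun P q).PreservesMonomorphisms ∧ (CohIII.TFun P q).PreservesEpimorphisms :=
  ⟨⟨fun {M N} f _ => (isZero_T_of_isZero P hq M).mono _⟩,
    ⟨fun {M N} f _ => (isZero_T_of_isZero P hq N).epi _⟩⟩

/-- The inductive step: if `T_n` preserves monomorphisms (`c.Rel q n`), `T_q(A)` is finitely
presented and the ranks agree at the minimal primes, then `T_q` is exact. -/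
theorem exact_step [IsLocalRing A] [IsReduced A] (hP : ∀ i, Module.Flat A (P.X i)) {q n : ι}
    (hqn : c.Rel q n) (hn : (CohIII.TFun P n).PreservesMonomorphisms)
    (hfp : Module.FinitePresentation A (CohIII.T P q (ModuleCat.of A A)))
    (hmin : ∀ x : PrimeSpectrum A, x.asIdeal ∈ minimalPrimes A →
      CohIII.dRank P q x = CohIII.dRank P q (IsLocalRing.closedPoint A)) :
    (CohIII.TFun P q).PreservesMonomorphisms ∧ (CohIII.TFun P q).PreservesEpimorphisms := by
  have he : (CohIII.TFun P q).PreservesEpimorphisms :=
    (preservesEpi_iff_preservesMono_of_rel P hP q n hqn).mpr hn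
  refine ⟨?_, he⟩
  have hflat := flat_opcycles_of_preservesEpi P hP hqn he
  obtain ⟨e⟩ := nonempty_T_self_equiv P hP hqn hflat
  have hHfp : Module.FinitePresentation A (P.homology q) := Module.FinitePresentation.of_equiv e
  have hHfin : Module.Finite A (P.homology q) := inferInstance
  have hfree : Module.Free A (P.homology q) := by
    apply free_of_fd_eq
    intro x hx
    rw [← dRank_eq_fd_homology P hqn (hP n) hflat, ← dRank_eq_fd_homology P hqn (hP n) hflat]
    exact hmin x hx
  have hHflat : Module.Flat A (P.homology q) := inferInstance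
  rw [Functor.PreservesMonomorphisms.iso_iff (tensorIso P hP hqn hflat)]
  exact (tensorLeft_preservesMono_iff_flat _).mpr hHflat

end

open CategoryTheory CategoryTheory.Limits in
/-- For the homological functor T_q(M) = H_q(P ⊗_A M) of a chain complex P of flat modules over a
commutative local ring A with residue field k. Suppose P_i = 0 for i < i₀ and that every T_n(A) is a
finitely presented A-module, and let p be an integer. If T_q takes injections to injections and
surjections to surjections for every q ≤ p, then dim_{k(x)} T_q(k(x)) = dim_k T_q(k) for every point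
x of Spec A and every q ≤ p. Conversely, if A is reduced and this equality holds at the generic
point of every irreducible component of Spec A (every minimal prime) for every q ≤ p, then T_q takes
injections to injections and surjections to surjections for every q ≤ p. No Noetherian hypothesis on
A. -/
theorem result {A : Type u} [CommRing A] [IsLocalRing A]
    (P : ChainComplex (ModuleCat.{u} A) ℤ) (hP : ∀ i, Module.Flat A (P.X i)) (i₀ : ℤ)
    (hb : ∀ i < i₀, IsZero (P.X i))
    (hfp : ∀ n : ℤ, Module.FinitePresentation A (CohIII.T P n (ModuleCat.of A A))) (p : ℤ) :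
    ((∀ q ≤ p, (CohIII.TFun P q).PreservesMonomorphisms ∧ (CohIII.TFun P q).PreservesEpimorphisms) →
        ∀ (x : PrimeSpectrum A), ∀ q ≤ p, CohIII.dRank P q x = CohIII.dRank P q (IsLocalRing.closedPoint A)) ∧
      (IsReduced A →
        (∀ x : PrimeSpectrum A, x.asIdeal ∈ minimalPrimes A →
          ∀ q ≤ p, CohIII.dRank P q x = CohIII.dRank P q (IsLocalRing.closedPoint A)) →
        ∀ q ≤ p, (CohIII.TFun P q).PreservesMonomorphisms ∧ (CohIII.TFun P q).PreservesEpimorphisms) := by
  have hrel : ∀ q : ℤ, (ComplexShape.down ℤ).Rel q (q - 1) := by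
    intro q
    show q - 1 + 1 = q
    ring
  constructor
  · intro h x q hq
    have hlc := dRank_isLocallyConstant_of_exact P hP (hrel q) (h q hq).1 (h q hq).2 (hfp q)
    exact IsLocallyConstant.eq_of_specializes hlc (IsLocalRing.specializes_closedPoint x)
  · intro hred hmin
    have key : ∀ k : ℕ, ∀ q : ℤ, q ≤ i₀ - 1 + k → q ≤ p →
        (CohIII.TFun P q).PreservesMonomorphisms ∧ (CohIII.TFun P q).PreservesEpimorphisms := by
      intro k
      induction k with
      | zero =>
        intro q hq _
        exact exact_of_isZero P (hb q (by simp at hq; omega))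
      | succ k ih =>
        intro q hq hqp
        have hprev := ih (q - 1) (by push_cast at hq; omega) (by omega)
        exact exact_step P hP (hrel q) hprev.1 (hfp q) (fun x hx => hmin x hx q hqp)
    intro q hq
    by_cases hqi : q < i₀
    · exact exact_of_isZero P (hb q hqi)
    · exact key (q - (i₀ - 1)).toNat q (by
        have : ((q - (i₀ - 1)).toNat : ℤ) = q - (i₀ - 1) := Int.toNat_of_nonneg (by omega)
        omega) hq


end Groth.Agent.S4488
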