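import Groth.Statements.S4501
import Groth.Agent.Lib.Helper20.TFunBc

set_option autoImplicit false
universe u
open FlatCx

namespace Groth.Agent.S4501

open CategoryTheory CategoryTheory.Limits MonoidalCategory Groth.Agent.Lib.Helper20
  Groth.Agent.Lib.Helper12.FlatCx TensorProduct

section

variable {A : Type u} [CommRing A] {ι : Type} {c : ComplexShape ι}

/-- The terms of the base-changed complex are flat. -/
theorem flat_bcCx_X {S : Type u} [CommRing S] [Algebra A S]
    (P : HomologicalComplex (ModuleCat.{u} A) c) (hP : ∀ i, Module.Flat A (P.X i)) (i : ι) :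
    Module.Flat S ((CohIII.bcCx (algebraMap A S) P).X i) := by
  have := hP i
  exact Module.Flat.of_linearEquiv (extendScalarsObjEquiv (S := S) (P.X i))

/-- Flatness of the opcycles of the base-changed complex. -/
theorem flat_opcycles_bcCx_iff {S : Type u} [CommRing S] [Algebra A S]
    (P : HomologicalComplex (ModuleCat.{u} A) c) (i : ι) :
    Module.Flat S ((CohIII.bcCx (algebraMap A S) P).opcycles i) ↔
      Module.Flat S (S ⊗[A] P.opcycles i) :=
  Module.Flat.equiv_iff ((opcyclesBcIso (algebraMap A S) P i).toLinearEquiv.trans
    (extendScalarsObjEquiv (S := S) (P.opcycles i)))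

theorem flat_localization_iff_mem_freeLocus (C : Type u) [AddCommGroup C] [Module A C]
    [Module.Finite A C] (y : PrimeSpectrum A) :
    Module.Flat (Localization.AtPrime y.asIdeal) (Localization.AtPrime y.asIdeal ⊗[A] C) ↔
      y ∈ Module.freeLocus A C := by
  rw [Module.mem_freeLocus_iff_tensor y (Localization.AtPrime y.asIdeal)]
  constructor
  · intro h
    exact Module.free_of_flat_of_isLocalRing
  · intro h
    infer_instance

theorem exact_bcCx_iff (P : HomologicalComplex (ModuleCat.{u} A) c)
    (hP : ∀ i, Module.Finite A (P.X i) ∧ Module.Flat A (P.X i)) {p q : ι} (hpq : c.Rel p q)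
    (y : PrimeSpectrum A) :
    ((CohIII.TFun (CohIII.bcCx (algebraMap A (Localization.AtPrime y.asIdeal)) P) p).PreservesMonomorphisms ∧
      (CohIII.TFun (CohIII.bcCx (algebraMap A (Localization.AtPrime y.asIdeal)) P) p).PreservesEpimorphisms) ↔
      (y ∈ Module.freeLocus A (P.opcycles p) ∧ y ∈ Module.freeLocus A (P.opcycles q)) := by
  have hPf : ∀ i, Module.Finite A (P.X i) := fun i => (hP i).1
  have := finite_opcycles P hPf p
  have := finite_opcycles P hPf q
  rw [exact_iff_flat_opcycles _ (flat_bcCx_X P (fun i => (hP i).2)) p q hpq,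
    flat_opcycles_bcCx_iff, flat_opcycles_bcCx_iff, flat_localization_iff_mem_freeLocus,
    flat_localization_iff_mem_freeLocus]

theorem bot_mem_freeLocus [IsDomain A] (C : Type u) [AddCommGroup C] [Module A C] :
    (⟨⊥, Ideal.isPrime_bot⟩ : PrimeSpectrum A) ∈ Module.freeLocus A C := by
  rw [Module.mem_freeLocus]
  have hfield : IsField (Localization.AtPrime (⊥ : Ideal A)) := by
    rw [IsLocalRing.isField_iff_maximalIdeal_eq, ← Localization.AtPrime.map_eq_maximalIdeal,
      Ideal.map_bot]
  letI := hfield.toField
  exact Module.Free.of_divisionRing _ _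

end

open CategoryTheory CategoryTheory.Limits in
/-- The case of finitely generated flat terms. Let A be a Noetherian domain, P a chain complex of
finitely generated flat A-modules, and for a prime y of A let P_y be the base change of P to the
local ring A_y. Then the set U of points y of Spec A such that the functor N ↦ H_p(P_y ⊗_{A_y} N) on
A_y-modules takes injections to injections and surjections to surjections is open and nonempty (it
contains the generic point). -/
theorem result {A : Type u} [CommRing A] [IsNoetherianRing A] [IsDomain A]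
    (P : ChainComplex (ModuleCat.{u} A) ℤ) (hP : ∀ i, Module.Finite A (P.X i) ∧ Module.Flat A (P.X i))
    (p : ℤ) :
    IsOpen {y : PrimeSpectrum A |
        (CohIII.TFun (CohIII.bcCx (algebraMap A (Localization.AtPrime y.asIdeal)) P) p).PreservesMonomorphisms ∧
          (CohIII.TFun (CohIII.bcCx (algebraMap A (Localization.AtPrime y.asIdeal)) P) p).PreservesEpimorphisms} ∧
      {y : PrimeSpectrum A |
        (CohIII.TFun (CohIII.bcCx (algebraMap A (Localization.AtPrime y.asIdeal)) P) p).PreservesMonomorphisms ∧
          (CohIII.TFun (CohIII.bcCx (algebraMap A (Localization.AtPrime y.asIdeal)) P) p).PreservesEpimorphisms}.Nonempty := by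
  have hpq : (ComplexShape.down ℤ).Rel p (p - 1) := by
    show p - 1 + 1 = p
    ring
  have hPf : ∀ i, Module.Finite A (P.X i) := fun i => (hP i).1
  have h1 := finite_opcycles P hPf p
  have h2 := finite_opcycles P hPf (p - 1)
  have : Module.FinitePresentation A (P.opcycles p) := Module.finitePresentation_of_finite A _
  have : Module.FinitePresentation A (P.opcycles (p - 1)) := Module.finitePresentation_of_finite A _
  have hset : {y : PrimeSpectrum A |
        (CohIII.TFun (CohIII.bcCx (algebraMap A (Localization.AtPrime y.asIdeal)) P) p).PreservesMonomorphisms ∧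
          (CohIII.TFun (CohIII.bcCx (algebraMap A (Localization.AtPrime y.asIdeal)) P) p).PreservesEpimorphisms} =
      Module.freeLocus A (P.opcycles p) ∩ Module.freeLocus A (P.opcycles (p - 1)) := by
    ext y
    exact exact_bcCx_iff P hP hpq y
  rw [hset]
  refine ⟨Module.isOpen_freeLocus.inter Module.isOpen_freeLocus, ?_⟩
  exact ⟨⟨⊥, Ideal.isPrime_bot⟩, bot_mem_freeLocus _, bot_mem_freeLocus _⟩


end Groth.Agent.S4501
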