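import Groth.Statements.S4486
import Groth.Agent.Lib.Helper20.TFunBc
import Groth.Agent.Lib.Helper12.FlatCxBaseChange
import Groth.Agent.S4488
import Groth.Agent.S4501
import Mathlib.RingTheory.Spectrum.Prime.FreeLocus

set_option autoImplicit false
universe u
open FlatCx

namespace Groth.Agent.S4486

open CategoryTheory CategoryTheory.Limits MonoidalCategory TensorProduct Groth.Agent.Lib.Helper20
  Groth.Agent.Lib.Helper12.FlatCx

section

variable {A : Type u} [CommRing A] {ι : Type} {c : ComplexShape ι}
variable (P : HomologicalComplex (ModuleCat.{u} A) c)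

/-- `P ⊗ A ≅ P` -/
noncomputable def tensorObjUnitIso : CohIII.tensorObj P (ModuleCat.of A A) ≅ P :=
  (NatIso.mapHomologicalComplex (rightUnitorNatIso (ModuleCat.{u} A)) c).app P ≪≫
    (Functor.mapHomologicalComplexIdIso (ModuleCat.{u} A) c).app P

/-- `T_p(A) ≅ H_p(P)` -/
noncomputable def TSelfIso (p : ι) : CohIII.T P p (ModuleCat.of A A) ≅ P.homology p :=
  (HomologicalComplex.homologyFunctor _ c p).mapIso (tensorObjUnitIso P)

/-- The inductive step: if `T_n` preserves monomorphisms (`c.Rel q n`) and `H_q(P)` is flat then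
`T_q` is exact. -/
theorem exact_step' (hP : ∀ i, Module.Flat A (P.X i)) {q n : ι}
    (hqn : c.Rel q n) (hn : (CohIII.TFun P n).PreservesMonomorphisms)
    (hHflat : Module.Flat A (P.homology q)) :
    (CohIII.TFun P q).PreservesMonomorphisms ∧ (CohIII.TFun P q).PreservesEpimorphisms := by
  have he : (CohIII.TFun P q).PreservesEpimorphisms :=
    (preservesEpi_iff_preservesMono_of_rel P hP q n hqn).mpr hn
  refine ⟨?_, he⟩
  have hflat := flat_opcycles_of_preservesEpi P hP hqn he
  rw [Functor.PreservesMonomorphisms.iso_iff (tensorIso P hP hqn hflat)]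
  exact (tensorLeft_preservesMono_iff_flat _).mpr hHflat

end

open CategoryTheory CategoryTheory.Limits in
/-- For the homological functor T_p(M) = H_p(P ⊗_A M) of a chain complex P of flat modules over a
commutative ring A, which commutes with filtered colimits. Let A be a domain and suppose P_i = 0 for
i < i₀ and that every T_n(A) is a finitely presented A-module. Then for every integer N there is a
nonzero f ∈ A such that, for every p ≤ N, the functor of A_f-modules N ↦ H_p(P_f ⊗_{A_f} N), where
P_f = P ⊗_A A_f, takes injections to injections and surjections to surjections. -/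
theorem result {A : Type u} [CommRing A] [IsDomain A]
    (P : ChainComplex (ModuleCat.{u} A) ℤ) (hP : ∀ i, Module.Flat A (P.X i)) (i₀ : ℤ)
    (hb : ∀ i < i₀, IsZero (P.X i))
    (hfp : ∀ n : ℤ, Module.FinitePresentation A (CohIII.T P n (ModuleCat.of A A))) (N : ℤ) :
    ∃ f : A, f ≠ 0 ∧ ∀ p ≤ N,
      (CohIII.TFun (CohIII.bcCx (algebraMap A (Localization.Away f)) P) p).PreservesMonomorphisms ∧
        (CohIII.TFun (CohIII.bcCx (algebraMap A (Localization.Away f)) P) p).PreservesEpimorphisms := by
  classical
  have hHfp : ∀ n : ℤ, Module.FinitePresentation A (P.homology n) := fun n =>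
    have := hfp n
    Module.FinitePresentation.of_equiv (TSelfIso P n).toLinearEquiv
  -- the common free locus
  let U : Set (PrimeSpectrum A) := ⋂ q ∈ Finset.Icc i₀ N, Module.freeLocus A (P.homology q)
  have hUopen : IsOpen U := by
    apply isOpen_biInter_finset
    intro q _
    exact Module.isOpen_freeLocus
  have hbot : (⟨⊥, Ideal.isPrime_bot⟩ : PrimeSpectrum A) ∈ U := by
    simp only [U, Set.mem_iInter]
    intro q _
    exact Groth.Agent.S4501.bot_mem_freeLocus _
  obtain ⟨_, ⟨f, rfl⟩, hfbot, hfU⟩ :=
    PrimeSpectrum.isTopologicalBasis_basic_opens.exists_subset_of_mem_open hbot hUopen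
  have hf0 : f ≠ 0 := by
    rintro rfl
    exact hfbot (Ideal.zero_mem _)
  refine ⟨f, hf0, ?_⟩
  set B := Localization.Away f with hB
  set P' := CohIII.bcCx (algebraMap A B) P with hP'
  have hP'flat : ∀ i, Module.Flat B (P'.X i) := flat_bcCx_X P hP
  have hb' : ∀ i < i₀, IsZero (P'.X i) := fun i hi =>
    (ModuleCat.extendScalars (algebraMap A B)).map_isZero (hb i hi)
  have hflatB : Module.Flat A B := IsLocalization.flat B (Submonoid.powers f)
  have hφ : (algebraMap A B).Flat := RingHom.flat_algebraMap_iff.mpr hflatB
  -- flatness of the homology of `P'` in degrees `i₀ ≤ q ≤ N`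
  have hHflat : ∀ q, i₀ ≤ q → q ≤ N → Module.Flat B (P'.homology q) := by
    intro q h1 h2
    have := hHfp q
    have hsub : (PrimeSpectrum.basicOpen f : Set (PrimeSpectrum A)) ⊆
        Module.freeLocus A (P.homology q) := by
      refine hfU.trans ?_
      intro x hx
      simp only [U, Set.mem_iInter] at hx
      exact hx q (Finset.mem_Icc.mpr ⟨h1, h2⟩)
    have hproj : Module.Projective B (LocalizedModule.Away f (P.homology q)) :=
      Module.basicOpen_subset_freeLocus_iff.mp hsub
    have hfl : Module.Flat B (LocalizedModule.Away f (P.homology q)) :=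
      Module.Flat.of_projective
    have hbc : IsBaseChange B (LocalizedModule.mkLinearMap (Submonoid.powers f) (P.homology q)) :=
      (isLocalizedModule_iff_isBaseChange (Submonoid.powers f) B _).mp inferInstance
    have e1 : B ⊗[A] (P.homology q) ≃ₗ[B] LocalizedModule.Away f (P.homology q) := hbc.equiv
    have e2 : P'.homology q ≃ₗ[B] B ⊗[A] (P.homology q) :=
      (homologyBcIso (algebraMap A B) hφ P q).toLinearEquiv ≪≫ₗ
        extendScalarsObjEquiv (S := B) (P.homology q)
    exact Module.Flat.of_linearEquiv (e2 ≪≫ₗ e1)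
  have hrel : ∀ q : ℤ, (ComplexShape.down ℤ).Rel q (q - 1) := by
    intro q
    show q - 1 + 1 = q
    ring
  have key : ∀ k : ℕ, ∀ q : ℤ, q ≤ i₀ - 1 + k → q ≤ N →
      (CohIII.TFun P' q).PreservesMonomorphisms ∧ (CohIII.TFun P' q).PreservesEpimorphisms := by
    intro k
    induction k with
    | zero =>
      intro q hq _
      exact Groth.Agent.S4488.exact_of_isZero P' (hb' q (by simp at hq; omega))
    | succ k ih =>
      intro q hq hqN
      by_cases hqi : q < i₀
      · exact Groth.Agent.S4488.exact_of_isZero P' (hb' q hqi)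
      · have hprev := ih (q - 1) (by push_cast at hq; omega) (by omega)
        exact exact_step' P' hP'flat (hrel q) hprev.1 (hHflat q (by omega) hqN)
  intro q hq
  by_cases hqi : q < i₀
  · exact Groth.Agent.S4488.exact_of_isZero P' (hb' q hqi)
  · exact key (q - (i₀ - 1)).toNat q (by
      have : ((q - (i₀ - 1)).toNat : ℤ) = q - (i₀ - 1) := Int.toNat_of_nonneg (by omega)
      omega) hq


end Groth.Agent.S4486
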