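import Groth.Statements.S4487
import Groth.Agent.Lib.Helper20.BcCompare
import Groth.Agent.S4486

set_option autoImplicit false
universe u
open FlatCx

namespace Groth.Agent.S4487

open CategoryTheory CategoryTheory.Limits MonoidalCategory TensorProduct Groth.Agent.Lib.Helper20
  Groth.Agent.Lib.Helper12.FlatCx

/-- The domain case: `dRank` is locally constant on a nonempty basic open. -/
theorem exists_away_dRank_locallyConstant {B : Type u} [CommRing B] [IsDomain B]
    [IsNoetherianRing B] (Q : ChainComplex (ModuleCat.{u} B) ℤ)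
    (hQ : ∀ i, Module.Flat B (Q.X i)) (i₀ : ℤ) (hb : ∀ i < i₀, IsZero (Q.X i))
    (hfin : ∀ n : ℤ, Module.Finite B (Q.homology n)) (N : ℤ) :
    ∃ f : B, f ≠ 0 ∧ ∀ q ≤ N, IsLocallyConstant
      (CohIII.dRank (CohIII.bcCx (algebraMap B (Localization.Away f)) Q) q) := by
  have hfp : ∀ n : ℤ, Module.FinitePresentation B (CohIII.T Q n (ModuleCat.of B B)) := by
    intro n
    have := hfin n
    have h1 : Module.Finite B (CohIII.T Q n (ModuleCat.of B B)) :=
      Module.Finite.equiv (Groth.Agent.S4486.TSelfIso Q n).toLinearEquiv.symm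
    exact Module.finitePresentation_of_finite B _
  obtain ⟨f, hf0, hex⟩ := Groth.Agent.S4486.result Q hQ i₀ hb hfp N
  refine ⟨f, hf0, fun q hq => ?_⟩
  set C := Localization.Away f with hC
  set Q' := CohIII.bcCx (algebraMap B C) Q with hQ'
  have hQ'flat : ∀ i, Module.Flat C (Q'.X i) := flat_bcCx_X Q hQ
  have hnoeth : IsNoetherianRing C := IsLocalization.isNoetherianRing (Submonoid.powers f) C ‹_›
  have hflatC : Module.Flat B C := IsLocalization.flat C (Submonoid.powers f)
  have hφ : (algebraMap B C).Flat := RingHom.flat_algebraMap_iff.mpr hflatC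
  have hrel : (ComplexShape.down ℤ).Rel q (q - 1) := by
    show q - 1 + 1 = q
    ring
  have hfp' : Module.FinitePresentation C (CohIII.T Q' q (ModuleCat.of C C)) := by
    have := hfin q
    have e2 : Q'.homology q ≃ₗ[C] C ⊗[B] (Q.homology q) :=
      (homologyBcIso (algebraMap B C) hφ Q q).toLinearEquiv ≪≫ₗ
        extendScalarsObjEquiv (S := C) (Q.homology q)
    have h1 : Module.Finite C (Q'.homology q) := Module.Finite.equiv e2.symm
    have h2 : Module.Finite C (CohIII.T Q' q (ModuleCat.of C C)) :=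
      Module.Finite.equiv (Groth.Agent.S4486.TSelfIso Q' q).toLinearEquiv.symm
    exact Module.finitePresentation_of_finite C _
  exact dRank_isLocallyConstant_of_exact Q' hQ'flat hrel (hex q hq).1 (hex q hq).2 hfp'

/-- The per-prime statement, phrased over `A`. -/
theorem exists_notMem_dRank_const {A : Type u} [CommRing A] [IsNoetherianRing A]
    (P : ChainComplex (ModuleCat.{u} A) ℤ) (hP : ∀ i, Module.Flat A (P.X i)) (i₀ : ℤ)
    (hb : ∀ i < i₀, IsZero (P.X i))
    (hfg : ∀ n : ℤ, Module.Finite A (CohIII.T P n (ModuleCat.of A A))) (N : ℤ)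
    (p : Ideal A) [hp : p.IsPrime] :
    ∃ a : A, a ∉ p ∧ ∀ q ≤ N, ∀ x : PrimeSpectrum A, p ≤ x.asIdeal → a ∉ x.asIdeal →
      ∃ W : Set (PrimeSpectrum A), IsOpen W ∧ x ∈ W ∧
        ∀ y ∈ W, p ≤ y.asIdeal → a ∉ y.asIdeal → CohIII.dRank P q y = CohIII.dRank P q x := by
  set B := A ⧸ p with hB
  set Q := CohIII.bcCx (algebraMap A B) P with hQdef
  have hQ : ∀ i, Module.Flat B (Q.X i) := flat_bcCx_X P hP
  have hbQ : ∀ i < i₀, IsZero (Q.X i) := fun i hi =>
    (ModuleCat.extendScalars (algebraMap A B)).map_isZero (hb i hi)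
  have hBfin : Module.Finite A (ModuleCat.of A B) :=
    Module.Finite.of_surjective (Ideal.Quotient.mkₐ A p).toLinearMap
      (Ideal.Quotient.mkₐ_surjective A p)
  have hfinQ : ∀ n : ℤ, Module.Finite B (Q.homology n) := fun n =>
    finite_homology_bcCx P n (finite_T P hP i₀ hb hfg n (ModuleCat.of A B) hBfin)
  obtain ⟨f, hf0, hlc⟩ := exists_away_dRank_locallyConstant Q hQ i₀ hbQ hfinQ N
  obtain ⟨a, rfl⟩ := Ideal.Quotient.mk_surjective f
  have hap : a ∉ p := fun h => hf0 (Ideal.Quotient.eq_zero_iff_mem.mpr h)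
  refine ⟨a, hap, fun q hq x hpx hax => ?_⟩
  set C := Localization.Away (Ideal.Quotient.mk p a) with hC
  let g₁ : PrimeSpectrum B → PrimeSpectrum A := PrimeSpectrum.comap (algebraMap A B)
  let g₂ : PrimeSpectrum C → PrimeSpectrum B := PrimeSpectrum.comap (algebraMap B C)
  have hsurj : Function.Surjective (algebraMap A B) := Ideal.Quotient.mk_surjective
  have hemb₁ : Topology.IsEmbedding g₁ :=
    (PrimeSpectrum.isClosedEmbedding_comap_of_surjective B (algebraMap A B) hsurj).isEmbedding
  have hemb₂ : Topology.IsEmbedding g₂ :=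
    PrimeSpectrum.localization_comap_isEmbedding C (Submonoid.powers (Ideal.Quotient.mk p a))
  have hemb : Topology.IsEmbedding (g₁ ∘ g₂) := hemb₁.comp hemb₂
  have hrange₁ : Set.range g₁ = PrimeSpectrum.zeroLocus (p : Set A) := by
    have := range_comap_of_surjective B (algebraMap A B) hsurj
    rw [this]
    congr 1
    have : RingHom.ker (algebraMap A B) = p := Ideal.mk_ker
    rw [this]
  have hrange₂ : Set.range g₂ = PrimeSpectrum.basicOpen (Ideal.Quotient.mk p a) :=
    PrimeSpectrum.localization_away_comap_range C (Ideal.Quotient.mk p a)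
  -- every point of `V(p) ∩ D(a)` is in the range
  have hlift : ∀ y : PrimeSpectrum A, p ≤ y.asIdeal → a ∉ y.asIdeal →
      ∃ z : PrimeSpectrum C, g₁ (g₂ z) = y := by
    intro y hpy hay
    have h1 : y ∈ Set.range g₁ := by
      rw [hrange₁]
      exact hpy
    obtain ⟨y', rfl⟩ := h1
    have h2 : y' ∈ Set.range g₂ := by
      rw [hrange₂]
      exact hay
    obtain ⟨z, rfl⟩ := h2
    exact ⟨z, rfl⟩
  have hd : ∀ z : PrimeSpectrum C,
      CohIII.dRank (CohIII.bcCx (algebraMap B C) Q) q z = CohIII.dRank P q (g₁ (g₂ z)) := by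
    intro z
    rw [dRank_baseChange, dRank_baseChange]
  obtain ⟨z, hz⟩ := hlift x hpx hax
  let h := CohIII.dRank (CohIII.bcCx (algebraMap B C) Q) q
  have hopen : IsOpen (h ⁻¹' {h z}) := (hlc q hq).isOpen_fiber _
  obtain ⟨W, hW, hWeq⟩ := hemb.isInducing.isOpen_iff.mp hopen
  refine ⟨W, hW, ?_, fun y hy hpy hay => ?_⟩
  · have : z ∈ (g₁ ∘ g₂) ⁻¹' W := by rw [hWeq]; rfl
    rw [← hz]
    exact this
  · obtain ⟨z', hz'⟩ := hlift y hpy hay
    have : z' ∈ (g₁ ∘ g₂) ⁻¹' W := by
      show g₁ (g₂ z') ∈ W
      rw [hz']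
      exact hy
    rw [hWeq] at this
    have h3 : h z' = h z := this
    rw [← hz, ← hz', ← hd, ← hd]
    exact h3

open CategoryTheory CategoryTheory.Limits in
/-- The case of the homological functor T_p(M) = H_p(P ⊗_A M) of a chain complex P of flat modules over
a commutative ring A. Let A be Noetherian and suppose P_i = 0 for i < i₀ and that every T_n(A) is a
finitely generated A-module. Then for every integer N there is a dense open subset U of Spec A such
that, for every p ≤ N, the function x ↦ dim_{k(x)} H_p(P ⊗_A k(x)) is locally constant on U. (The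
published statement says constant on U; over the product of two fields, with P the projective module
supported on one factor placed in degree 0, the only dense open set is the whole two-point spectrum
and the ranks there are 1 and 0, so locally constant on U is what holds; the argument produces U as
a disjoint union of opens, one dense in each irreducible component, on each of which the functions
are constant.) -/
theorem result {A : Type u} [CommRing A] [IsNoetherianRing A]
    (P : ChainComplex (ModuleCat.{u} A) ℤ) (hP : ∀ i, Module.Flat A (P.X i)) (i₀ : ℤ)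
    (hb : ∀ i < i₀, IsZero (P.X i))
    (hfg : ∀ n : ℤ, Module.Finite A (CohIII.T P n (ModuleCat.of A A))) (N : ℤ) :
    ∃ U : Set (PrimeSpectrum A), IsOpen U ∧ Dense U ∧
      ∀ p ≤ N, IsLocallyConstant (fun x : U => CohIII.dRank P p x) := by
  classical
  have hfin : (minimalPrimes A).Finite := minimalPrimes.finite_of_isNoetherianRing A
  have hex : ∀ p : Ideal A, ∃ a : A, p ∈ minimalPrimes A → (a ∉ p ∧ ∀ q ≤ N,
      ∀ x : PrimeSpectrum A, p ≤ x.asIdeal → a ∉ x.asIdeal →
      ∃ W : Set (PrimeSpectrum A), IsOpen W ∧ x ∈ W ∧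
        ∀ y ∈ W, p ≤ y.asIdeal → a ∉ y.asIdeal → CohIII.dRank P q y = CohIII.dRank P q x) := by
    intro p
    by_cases hp : p ∈ minimalPrimes A
    · have := Ideal.minimalPrimes_isPrime hp
      obtain ⟨a, ha⟩ := exists_notMem_dRank_const P hP i₀ hb hfg N p
      exact ⟨a, fun _ => ha⟩
    · exact ⟨0, fun h => absurd h hp⟩
  choose a ha using hex
  -- the open set avoiding the other components
  let O : Ideal A → Set (PrimeSpectrum A) := fun p =>
    ⋂ p' ∈ hfin.toFinset, {x : PrimeSpectrum A | p' = p ∨ ¬ p' ≤ x.asIdeal}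
  have hOopen : ∀ p, IsOpen (O p) := by
    intro p
    apply isOpen_biInter_finset
    intro p' _
    by_cases hpp : p' = p
    · have : {x : PrimeSpectrum A | p' = p ∨ ¬ p' ≤ x.asIdeal} = Set.univ := by
        ext x; simp [hpp]
      rw [this]
      exact isOpen_univ
    · have : {x : PrimeSpectrum A | p' = p ∨ ¬ p' ≤ x.asIdeal} =
          (PrimeSpectrum.zeroLocus (p' : Set A))ᶜ := by
        ext x
        simp [hpp, PrimeSpectrum.mem_zeroLocus]
      rw [this]
      exact (PrimeSpectrum.isClosed_zeroLocus _).isOpen_compl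
  -- points of `O p` contain `p`
  have hO : ∀ p (x : PrimeSpectrum A), x ∈ O p → p ≤ x.asIdeal := by
    intro p x hx
    obtain ⟨p'', hp'', hle⟩ := Ideal.exists_minimalPrimes_le (I := ⊥) (J := x.asIdeal) bot_le
    have hp''m : p'' ∈ minimalPrimes A := hp''
    simp only [O, Set.mem_iInter] at hx
    rcases hx p'' (hfin.mem_toFinset.mpr hp''m) with h | h
    · rw [← h]; exact hle
    · exact absurd hle h
  let U : Set (PrimeSpectrum A) :=
    ⋃ p ∈ hfin.toFinset, ((PrimeSpectrum.basicOpen (a p) : Set (PrimeSpectrum A)) ∩ O p)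
  have hUopen : IsOpen U := by
    apply isOpen_biUnion
    intro p _
    exact (PrimeSpectrum.basicOpen (a p)).2.inter (hOopen p)
  refine ⟨U, hUopen, ?_, ?_⟩
  · -- density
    intro x
    obtain ⟨p, hp, hle⟩ := Ideal.exists_minimalPrimes_le (I := ⊥) (J := x.asIdeal) bot_le
    have hpm : p ∈ minimalPrimes A := hp
    have hpprime := Ideal.minimalPrimes_isPrime hpm
    let η : PrimeSpectrum A := ⟨p, hpprime⟩
    have hηU : η ∈ U := by
      simp only [U, Set.mem_iUnion]
      refine ⟨p, hfin.mem_toFinset.mpr hpm, ?_, ?_⟩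
      · exact (ha p hpm).1
      · simp only [O, Set.mem_iInter]
        intro p' hp'
        by_cases hpp : p' = p
        · exact Or.inl hpp
        · right
          intro hle'
          have hp'm : p' ∈ minimalPrimes A := hfin.mem_toFinset.mp hp'
          have := hpm.2 ⟨Ideal.minimalPrimes_isPrime hp'm, bot_le⟩ hle'
          exact hpp (le_antisymm hle' this)
    have hspec : η ⤳ x := (PrimeSpectrum.le_iff_specializes η x).mp hle
    exact closure_mono (Set.singleton_subset_iff.mpr hηU) (specializes_iff_mem_closure.mp hspec)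
  · intro q hq
    rw [IsLocallyConstant.iff_exists_open]
    rintro ⟨x, hx⟩
    simp only [U, Set.mem_iUnion] at hx
    obtain ⟨p, hp, hxa, hxO⟩ := hx
    have hpm : p ∈ minimalPrimes A := hfin.mem_toFinset.mp hp
    obtain ⟨W, hW, hxW, hconst⟩ := (ha p hpm).2 q hq x (hO p x hxO) hxa
    refine ⟨Subtype.val ⁻¹' (W ∩ ((PrimeSpectrum.basicOpen (a p) : Set (PrimeSpectrum A)) ∩ O p)),
      ?_, ⟨hxW, hxa, hxO⟩, ?_⟩
    · exact (hW.inter ((PrimeSpectrum.basicOpen (a p)).2.inter (hOopen p))).preimage
        continuous_subtype_val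
    · rintro ⟨y, hy⟩ ⟨hyW, hya, hyO⟩
      exact hconst y hyW (hO p y hyO) hya


end Groth.Agent.S4487
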