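import Groth.Statements.S4489
import Groth.Agent.Lib.Helper20.TFun

set_option autoImplicit false
universe u
open FlatCx

namespace Groth.Agent.S4489

open CategoryTheory CategoryTheory.Limits MonoidalCategory Groth.Agent.Lib.Helper12.FlatCx
  Groth.Agent.Lib.Helper20

section

variable {A : Type u} [CommRing A] [IsDedekindDomain A] {ι : Type} {c : ComplexShape ι}

theorem flat_opcycles_iff_flat_homology (P : HomologicalComplex (ModuleCat.{u} A) c) (p : ι)
    (hnext : Module.Flat A (P.X (c.next p))) :
    Module.Flat A (P.opcycles p) ↔ Module.Flat A (P.homology p) := by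
  have hinj : Function.Injective (P.homologyι p).hom :=
    (ModuleCat.mono_iff_injective _).mp inferInstance
  have hexact : (ShortComplex.mk (P.homologyι p) (P.fromOpcycles p (c.next p))
      (P.homologyι_comp_fromOpcycles p (c.next p))).Exact :=
    ShortComplex.exact_of_f_is_kernel _ (P.homologyIsKernel p (c.next p) rfl)
  rw [ShortComplex.moduleCat_exact_iff] at hexact
  rw [IsDedekindDomain.flat_iff_torsion_eq_bot, IsDedekindDomain.flat_iff_torsion_eq_bot]
  constructor
  · intro h
    rw [eq_bot_iff] at h ⊢
    intro y hy
    rw [Submodule.mem_torsion_iff] at hy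
    obtain ⟨a, ha⟩ := hy
    rw [Submonoid.smul_def] at ha
    have : (P.homologyι p).hom y ∈ Submodule.torsion A (P.opcycles p) := by
      rw [Submodule.mem_torsion_iff]
      refine ⟨a, ?_⟩
      rw [Submonoid.smul_def, ← map_smul, ha, map_zero]
    have := h this
    rw [Submodule.mem_bot] at this ⊢
    exact hinj (this.trans (map_zero _).symm)
  · intro h
    have hP : Submodule.torsion A (P.X (c.next p)) = ⊥ :=
      IsDedekindDomain.flat_iff_torsion_eq_bot.mp hnext
    rw [eq_bot_iff] at h hP ⊢
    intro x hx
    rw [Submodule.mem_torsion_iff] at hx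
    obtain ⟨a, ha⟩ := hx
    rw [Submonoid.smul_def] at ha
    have h1 : (P.fromOpcycles p (c.next p)).hom x ∈ Submodule.torsion A (P.X (c.next p)) := by
      rw [Submodule.mem_torsion_iff]
      refine ⟨a, ?_⟩
      rw [Submonoid.smul_def, ← map_smul, ha, map_zero]
    have h2 := hP h1
    rw [Submodule.mem_bot] at h2
    obtain ⟨y, hy⟩ := hexact x h2
    have h3 : y ∈ Submodule.torsion A (P.homology p) := by
      rw [Submodule.mem_torsion_iff]
      refine ⟨a, ?_⟩
      apply hinj
      rw [Submonoid.smul_def, map_smul, map_zero]
      exact (congrArg (fun z => (a : A) • z) hy).trans ha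
    have h4 := h h3
    rw [Submodule.mem_bot] at h4 ⊢
    rw [← hy, h4]
    exact map_zero _

theorem preservesMono_iff_flat_homology (P : HomologicalComplex (ModuleCat.{u} A) c)
    (hP : ∀ i, Module.Flat A (P.X i)) (p : ι) :
    (CohIII.TFun P p).PreservesMonomorphisms ↔ Module.Flat A (P.homology p) := by
  rw [preservesMono_iff_flat_opcycles P p hP]
  exact flat_opcycles_iff_flat_homology P p (hP _)

end

open CategoryTheory CategoryTheory.Limits in
/-- For the homological functor T_p(M) = H_p(P ⊗_A M) of a chain complex P of flat modules, stated over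
a Dedekind domain A. (The published statement allows A to be a finite product of Dedekind domains,
that is, a Noetherian regular ring of dimension at most 1; this row takes A a Dedekind domain.) Then
T_p takes injections to injections if and only if H_p(P) is a flat A-module; and, with q + 1 = p,
T_p takes injections to injections and surjections to surjections if and only if H_p(P) and H_q(P)
are both flat. -/
theorem result {A : Type u} [CommRing A] [IsDedekindDomain A]
    (P : ChainComplex (ModuleCat.{u} A) ℤ) (hP : ∀ i, Module.Flat A (P.X i)) (p q : ℤ) (hpq : q + 1 = p) :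
    ((CohIII.TFun P p).PreservesMonomorphisms ↔ Module.Flat A (P.homology p)) ∧
      (((CohIII.TFun P p).PreservesMonomorphisms ∧ (CohIII.TFun P p).PreservesEpimorphisms) ↔
        (Module.Flat A (P.homology p) ∧ Module.Flat A (P.homology q))) := by
  refine ⟨preservesMono_iff_flat_homology P hP p, ?_⟩
  rw [preservesEpi_iff_preservesMono_of_rel P hP p q hpq, preservesMono_iff_flat_homology P hP p,
    preservesMono_iff_flat_homology P hP q]


end Groth.Agent.S4489
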